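import Cfsg.Agent.Helper28.FibB6

/-! # The Fi₂₂ presentation, cosets of the subgroup generated by b, …, i: the coset enumeration, part 7 (helper28; generated) -/

set_option autoImplicit false

noncomputable section

namespace Cfsg.Agent.Helper28.FibA

open Cfsg.Agent.Helper28.CosetTable

theorem L72131 : sm gg N9148 = N6668 := ded_42_1 (flp_h L52692) L52685 L72126
theorem L72133 : sm gd N6668 = N9149 := rfl
theorem L72135 : sm ga N9149 = N6687 := ded_11_1 (flp_d L52840) (flp_a L52694) L72133
theorem L72137 : sm gf N9149 = N9149 := ded_31_2 (flp_d L72133) L52697 L72133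
theorem L72138 : sm gh N9149 = N6671 := ded_33_2 (flp_d L52716) (flp_h L38564) L38550 L52692 L72133
theorem L72140 : sm gi N6668 = N9150 := rfl
theorem L72142 : sm ga N9150 = N6688 := ded_16_1 (flp_i L52847) (flp_a L52694) L72140
theorem L72144 : sm gc N9150 = N9150 := ded_29_1 (flp_i L72140) L52696 L72140
theorem L72145 : sm gf N9150 = N9150 := ded_41_1 (flp_i L72140) L52697 L72140
theorem L72146 : sm gh N6669 = N9151 := rfl
theorem L72150 : sm gc N9151 = N6680 := ded_28_1 (flp_h L52782) (flp_c L52702) L72146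
theorem L72156 : sm gd N6670 = N9152 := rfl
theorem L72160 : sm gg N9152 = N6671 := ded_32_2 (flp_d L52716) (flp_g L52714) L72156
theorem L72179 : sm ge N6671 = N9155 := rfl
theorem L72181 : sm ga N9155 = N6693 := ded_12_1 (flp_e L52885) (flp_a L52718) L72179
theorem L72183 : sm gd N9155 = N6675 := ded_30_1 (flp_e L52747) (flp_d L38582) (flp_e L38570) L52716 L72179
theorem L72185 : sm gi N6671 = N9156 := rfl
theorem L72192 : sm ge N6673 = N9157 := rfl
theorem L72194 : sm ga N9157 = N6695 := ded_12_1 (flp_e L52898) (flp_a L52732) L72192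
theorem L72196 : sm gc N9157 = N9157 := ded_25_1 (flp_e L72192) L52737 L72192
theorem L72197 : sm gg N9157 = N6675 := ded_36_2 (flp_e L52747) (flp_g L52735) L72192
theorem L72199 : sm gi N6673 = N9158 := rfl
theorem L72207 : sm gg N9158 = N6676 := ded_43_1 (flp_i L52752) (flp_g L52735) L72199
theorem L72209 : sm gf N6675 = N9159 := rfl
theorem L72211 : sm ga N9159 = N6697 := ded_13_1 (flp_f L52915) (flp_a L52749) L72209
theorem L72213 : sm gc N9159 = N9159 := ded_26_1 (flp_f L72209) L52751 L72209
theorem L72214 : sm ge N9159 = N6677 := ded_35_1 (flp_f L52761) (flp_e L38597) (flp_f L38586) L52747 L72209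
theorem L72216 : sm gi N6675 = N9160 := rfl
theorem L72218 : sm ga N9160 = N6698 := ded_16_1 (flp_i L52922) (flp_a L52749) L72216
theorem L72220 : sm gc N9160 = N9160 := ded_29_1 (flp_i L72216) L52751 L72216
theorem L72221 : sm ge N9160 = N6676 := ded_38_1 (flp_i L52752) L52747 L72216
theorem L72223 : sm gh N6676 = N9161 := rfl
theorem L72225 : sm ga N9161 = N6699 := ded_15_1 (flp_h L52929) (flp_a L52754) L72223
theorem L72227 : sm gc N9161 = N9161 := ded_28_1 (flp_h L72223) L52756 L72223
theorem L72228 : sm gf N9161 = N6679 := ded_40_1 (flp_h L52776) (flp_f L52759) L72223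
theorem L72230 : sm gg N6677 = N9162 := rfl
theorem L72232 : sm ga N9162 = N6700 := ded_14_1 (flp_g L52936) (flp_a L52763) L72230
theorem L72234 : sm gc N9162 = N9162 := ded_27_1 (flp_g L72230) L52765 L72230
theorem L72235 : sm gd N9162 = N9162 := ded_32_1 (flp_g L72230) L52766 L72230
theorem L72236 : sm gf N9162 = N9162 := ded_39_1 (flp_g L72230) (flp_f L52761) L38602 L52761 L72230
theorem L72237 : sm gi N6677 = N9163 := rfl
theorem L72239 : sm ga N9163 = N6701 := ded_16_1 (flp_i L52943) (flp_a L52763) L72237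
theorem L72241 : sm gc N9163 = N9163 := ded_29_1 (flp_i L72237) L52765 L72237
theorem L72242 : sm gd N9163 = N9163 := ded_34_1 (flp_i L72237) L52766 L72237
theorem L72243 : sm gf N9163 = N6678 := ded_41_1 (flp_i L52767) L52761 L72237
theorem L72245 : sm gh N6678 = N9164 := rfl
theorem L72247 : sm ga N9164 = N6702 := ded_15_1 (flp_h L52951) (flp_a L52769) L72245
theorem L72249 : sm gc N9164 = N9164 := ded_28_1 (flp_h L72245) L52771 L72245
theorem L72250 : sm ge N9164 = N6679 := ded_37_1 (flp_h L52776) (flp_e L52773) L72245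
theorem L72252 : sm gg N9164 = N9164 := ded_42_1 (flp_h L72245) L52775 L72245
theorem L72319 : sm gh N6685 = N9173 := rfl
theorem L72321 : sm gb N9173 = N6806 := ded_22_1 (flp_h L53740) (flp_b L52827) L72319
theorem L72324 : sm gf N9173 = N6686 := ded_40_1 (flp_h L52833) L52825 L72319
theorem L72327 : sm gd N6686 = N9174 := rfl
theorem L72335 : sm gi N6686 = N9175 := rfl
theorem L72337 : sm gb N9175 = N6808 := ded_23_1 (flp_i L53754) (flp_b L52835) L72335
theorem L72340 : sm gg N9175 = N6688 := ded_43_1 (flp_i L52847) (flp_g L52838) L72335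
theorem L72349 : sm ge N6687 = N9177 := rfl
theorem L72351 : sm gb N9177 = N6809 := ded_19_1 (flp_e L53760) (flp_b L52842) L72349
theorem L72353 : sm gh N9177 = N6693 := ded_37_2 (flp_e L52885) (flp_h L52845) L72349
theorem L72355 : sm gi N6687 = N9178 := rfl
theorem L72357 : sm gb N9178 = N6810 := ded_23_1 (flp_i L53765) (flp_b L52842) L72355
theorem L72359 : sm gd N9178 = N6688 := ded_34_1 (flp_i L52847) L52840 L72355
theorem L72386 : sm ge N6690 = N9182 := rfl
theorem L72390 : sm gg N9182 = N6693 := ded_36_2 (flp_e L52885) (flp_g L52867) L72386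
theorem L72392 : sm gd N9182 = N6695 := ded_30_1 (flp_e L52898) (flp_d L38699) (flp_e L38681) L52863 L72386
theorem L72416 : sm gf N6693 = N9186 := rfl
theorem L72418 : sm gb N9186 = N6815 := ded_20_1 (flp_f L53799) (flp_b L52887) L72416
theorem L72420 : sm gd N9186 = N6697 := ded_31_1 (flp_f L52915) (flp_d L52889) L72416
theorem L72422 : sm ge N9186 = N9186 := ded_35_1 (flp_f L72416) (flp_e L52885) L38689 L52885 L72416
theorem L72423 : sm gi N6693 = N9187 := rfl
theorem L72425 : sm gb N9187 = N6816 := ded_23_1 (flp_i L53805) (flp_b L52887) L72423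
theorem L72427 : sm gd N9187 = N6698 := ded_34_1 (flp_i L52922) (flp_d L52889) L72423
theorem L72436 : sm gf N6695 = N9189 := rfl
theorem L72438 : sm gb N9189 = N6818 := ded_20_1 (flp_f L53816) (flp_b L52900) L72436
theorem L72440 : sm gc N9189 = N9189 := ded_26_1 (flp_f L72436) L52902 L72436
theorem L72441 : sm ge N9189 = N9189 := ded_35_1 (flp_f L72436) (flp_e L52898) L38703 L52898 L72436
theorem L72442 : sm gi N6695 = N9190 := rfl
theorem L72444 : sm gb N9190 = N6819 := ded_23_1 (flp_i L53821) (flp_b L52900) L72442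
theorem L72447 : sm ge N9190 = N6696 := ded_38_1 (flp_i L52905) L52898 L72442
theorem L72449 : sm gg N9190 = N6698 := ded_43_1 (flp_i L52922) (flp_g L52903) L72442
theorem L72451 : sm gh N6696 = N9191 := rfl
theorem L72457 : sm gg N9191 = N6699 := ded_42_1 (flp_h L52929) (flp_g L52913) L72451
theorem L72459 : sm gg N6697 = N9192 := rfl
theorem L72461 : sm gb N9192 = N6821 := ded_21_1 (flp_g L53836) (flp_b L52917) L72459
theorem L72463 : sm gc N9192 = N9192 := ded_27_1 (flp_g L72459) L52919 L72459
theorem L72464 : sm ge N9192 = N6700 := ded_36_1 (flp_g L52936) (flp_e L52920) L72459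
theorem L72466 : sm gi N6697 = N9193 := rfl
theorem L72468 : sm gb N9193 = N6822 := ded_23_1 (flp_i L53842) (flp_b L52917) L72466
theorem L72470 : sm gc N9193 = N9193 := ded_29_1 (flp_i L72466) L52919 L72466
theorem L72471 : sm ge N9193 = N6701 := ded_38_1 (flp_i L52943) (flp_e L52920) L72466
theorem L72473 : sm gf N9193 = N6698 := ded_41_1 (flp_i L52922) L52915 L72466
theorem L72475 : sm gh N6698 = N9194 := rfl
theorem L72477 : sm gb N9194 = N6823 := ded_22_1 (flp_h L53850) (flp_b L52924) L72475
theorem L72479 : sm gc N9194 = N9194 := ded_28_1 (flp_h L72475) L52926 L72475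
theorem L72480 : sm ge N9194 = N6699 := ded_37_1 (flp_h L52929) (flp_e L52927) L72475
theorem L72482 : sm gi N6700 = N9195 := rfl
theorem L72484 : sm gb N9195 = N6824 := ded_23_1 (flp_i L53856) (flp_b L52938) L72482
theorem L72486 : sm gc N9195 = N9195 := ded_29_1 (flp_i L72482) L52940 L72482
theorem L72487 : sm gd N9195 = N9195 := ded_34_1 (flp_i L72482) L52941 L72482
theorem L72488 : sm gf N9195 = N9195 := ded_41_1 (flp_i L72482) L52942 L72482
theorem L72489 : sm gg N9195 = N6701 := ded_43_1 (flp_i L52943) L52936 L72482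
theorem L72491 : sm gh N6701 = N9196 := rfl
theorem L72493 : sm gb N9196 = N6825 := ded_22_1 (flp_h L53864) (flp_b L52945) L72491
theorem L72495 : sm gc N9196 = N9196 := ded_28_1 (flp_h L72491) L52947 L72491
theorem L72496 : sm gf N9196 = N6702 := ded_40_1 (flp_h L52951) (flp_f L52949) L72491
theorem L72498 : sm gd N6702 = N9197 := rfl
theorem L72500 : sm gb N9197 = N6826 := ded_18_1 (flp_d L53870) (flp_b L52953) L72498
theorem L72502 : sm gg N9197 = N9197 := ded_32_2 (flp_d L72498) L52958 L72498
theorem L72503 : sm gh N9197 = N9197 := ded_33_2 (flp_d L72498) (flp_h L52951) L38741 L52951 L72498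
theorem L72519 : sm gi N6703 = N9200 := rfl
theorem L72523 : sm gd N9200 = N6704 := ded_34_1 (flp_i L52967) L52959 L72519
theorem L72569 : sm gc N6712 = N9206 := rfl
theorem L72571 : sm gf N9206 = N9206 := ded_26_2 (flp_c L72569) L53034 L72569
theorem L72572 : sm gi N9206 = N6770 := ded_29_2 (flp_c L53468) (flp_i L53035) L72569
theorem L72574 : sm gb N9206 = N6827 := ded_17_1 (flp_c L53874) L39458 (flp_c L38866) (flp_b L53032) L72569
theorem L72576 : sm gd N9206 = N9206 := ded_24_2 (flp_c L72569) (flp_d L53030) L38826 L53030 L72569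
theorem L72577 : sm gg N6712 = N9207 := rfl
theorem L72579 : sm gb N9207 = N6721 := ded_21_1 (flp_g L53095) (flp_b L53032) L72577
theorem L72583 : sm gi N9207 = N6771 := ded_43_2 (flp_g L53474) (flp_i L53035) L72577
theorem L72585 : sm gh N6712 = N9208 := rfl
theorem L72587 : sm gb N9208 = N6722 := ded_22_1 (flp_h L53105) (flp_b L53032) L72585
theorem L72589 : sm gf N9208 = N9208 := ded_40_1 (flp_h L72585) L53034 L72585
theorem L72599 : sm gh N6713 = N9210 := rfl
theorem L72601 : sm gb N9210 = N6724 := ded_22_1 (flp_h L53122) (flp_b L53039) L72599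
theorem L72604 : sm ge N9210 = N6715 := ded_37_1 (flp_h L53054) (flp_e L53042) L72599
theorem L72623 : sm gd N6715 = N9213 := rfl
theorem L72628 : sm gg N9213 = N6716 := ded_32_2 (flp_d L53062) (flp_g L53060) L72623
theorem L72640 : sm gc N6716 = N9215 := rfl
theorem L72642 : sm gf N9215 = N6718 := ded_26_2 (flp_c L53077) (flp_f L53066) L72640
theorem L72644 : sm gb N9215 = N9215 := ded_17_1 (flp_c L72640) L53064 L38902 (flp_b L53064) L72640
theorem L72645 : sm gd N9215 = N9215 := ded_24_2 (flp_c L72640) (flp_d L53062) L38842 L53062 L72640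
theorem L72646 : sm ge N6716 = N9216 := rfl
theorem L72648 : sm gb N9216 = N6729 := ded_19_1 (flp_e L53167) (flp_b L53064) L72646
theorem L72650 : sm gi N6716 = N9217 := rfl
theorem L72652 : sm gb N9217 = N6730 := ded_23_1 (flp_i L53172) (flp_b L53064) L72650
theorem L72654 : sm gd N9217 = N6717 := ded_34_1 (flp_i L53068) L53062 L72650
theorem L72656 : sm gf N9217 = N6720 := ded_41_1 (flp_i L53088) (flp_f L53066) L72650
theorem L72658 : sm ge N6718 = N9218 := rfl
theorem L72660 : sm gb N9218 = N9218 := ded_19_1 (flp_e L72658) L53080 L72658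
theorem L72661 : sm gc N9218 = N6719 := ded_25_1 (flp_e L53082) L53077 L72658
theorem L72663 : sm gg N9218 = N9218 := ded_36_2 (flp_e L72658) L53079 L72658
theorem L72664 : sm gi N6718 = N9219 := rfl
theorem L72666 : sm gb N9219 = N9219 := ded_23_1 (flp_i L72664) L53080 L72664
theorem L72667 : sm gc N9219 = N6720 := ded_29_1 (flp_i L53088) L53077 L72664
theorem L72669 : sm gd N9219 = N9219 := ded_34_1 (flp_i L72664) L53081 L72664
theorem L72670 : sm gg N9219 = N9219 := ded_43_1 (flp_i L72664) L53079 L72664
theorem L72671 : sm gf N6719 = N9220 := rfl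
theorem L72673 : sm gb N9220 = N6731 := ded_20_1 (flp_f L53181) (flp_b L53084) L72671
theorem L72675 : sm gd N9220 = N9220 := ded_31_1 (flp_f L72671) L53087 L72671
theorem L72676 : sm gi N6719 = N9221 := rfl
theorem L72678 : sm gb N9221 = N6732 := ded_23_1 (flp_i L53187) (flp_b L53084) L72676
theorem L72680 : sm gd N9221 = N9221 := ded_34_1 (flp_i L72676) L53087 L72676
theorem L72681 : sm ge N9221 = N6720 := ded_38_1 (flp_i L53088) L53082 L72676
theorem L72683 : sm gg N9221 = N9221 := ded_43_1 (flp_i L72676) L53086 L72676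
theorem L72684 : sm gh N6720 = N9222 := rfl
theorem L72686 : sm gb N9222 = N6733 := ded_22_1 (flp_h L53196) (flp_b L53090) L72684
theorem L72688 : sm gg N9222 = N9222 := ded_42_1 (flp_h L72684) L53094 L72684
theorem L72689 : sm gd N9222 = N6786 := ded_33_1 (flp_h L53576) L39208 (flp_h L38857) (flp_d L53092) L72684
theorem L72702 : sm gh N6721 = N9224 := rfl
theorem L72704 : sm ga N9224 = N6740 := ded_15_1 (flp_h L53261) (flp_a L53097) L72702
theorem L72706 : sm gc N9224 = N6839 := ded_28_1 (flp_h L53974) (flp_c L53099) L72702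
theorem L72708 : sm gg N9224 = N6722 := ded_42_1 (flp_h L53105) L53095 L72702
theorem L72710 : sm gd N6722 = N9225 := rfl
theorem L72715 : sm gh N9225 = N6725 := ded_33_2 (flp_d L53132) (flp_h L38878) L38859 L53105 L72710
theorem L72717 : sm gi N6722 = N9226 := rfl
theorem L72719 : sm ga N9226 = N6742 := ded_16_1 (flp_i L53272) (flp_a L53107) L72717
theorem L72721 : sm gc N9226 = N6841 := ded_29_1 (flp_i L53987) (flp_c L53109) L72717
theorem L72723 : sm gf N9226 = N9226 := ded_41_1 (flp_i L72717) L53111 L72717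
theorem L72724 : sm gh N9226 = N6790 := ded_44_1 (flp_i L53606) (flp_h L39219) (flp_i L38864) L53105 L72717
theorem L72761 : sm ge N6725 = N9231 := rfl
theorem L72763 : sm ga N9231 = N6747 := ded_12_1 (flp_e L53306) (flp_a L53134) L72761
theorem L72765 : sm gd N9231 = N6729 := ded_30_1 (flp_e L53167) (flp_d L38896) (flp_e L38884) L53132 L72761
theorem L72767 : sm gi N6725 = N9232 := rfl
theorem L72771 : sm gd N9232 = N6726 := ded_34_1 (flp_i L53137) L53132 L72767
theorem L72774 : sm ge N6727 = N9233 := rfl
theorem L72776 : sm ga N9233 = N6749 := ded_12_1 (flp_e L53315) (flp_a L53150) L72774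
theorem L72779 : sm gg N9233 = N6729 := ded_36_2 (flp_e L53167) (flp_g L53153) L72774
theorem L72791 : sm gf N6729 = N9235 := rfl
theorem L72793 : sm ga N9235 = N6751 := ded_13_1 (flp_f L53328) (flp_a L53169) L72791
theorem L72795 : sm gc N9235 = N9235 := ded_26_1 (flp_f L72791) L53171 L72791
theorem L72796 : sm ge N9235 = N6731 := ded_35_1 (flp_f L53181) (flp_e L38913) (flp_f L38900) L53167 L72791
theorem L72798 : sm gi N6729 = N9236 := rfl
theorem L72803 : sm ge N9236 = N6730 := ded_38_1 (flp_i L53172) L53167 L72798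
theorem L72805 : sm gh N6730 = N9237 := rfl
theorem L72807 : sm ga N9237 = N6753 := ded_15_1 (flp_h L53338) (flp_a L53174) L72805
theorem L72810 : sm gf N9237 = N6733 := ded_40_1 (flp_h L53196) (flp_f L53179) L72805
theorem L72812 : sm gd N9237 = N6800 := ded_33_1 (flp_h L53690) L39289 (flp_h L38911) (flp_d L53177) L72805
theorem L72814 : sm gg N6731 = N9238 := rfl
theorem L72816 : sm ga N9238 = N6754 := ded_14_1 (flp_g L53345) (flp_a L53183) L72814
theorem L72818 : sm gc N9238 = N9238 := ded_27_1 (flp_g L72814) L53185 L72814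
theorem L72819 : sm gd N9238 = N9238 := ded_32_1 (flp_g L72814) L53186 L72814
theorem L72820 : sm gf N9238 = N9238 := ded_39_1 (flp_g L72814) (flp_f L53181) L38918 L53181 L72814
theorem L72821 : sm gi N6731 = N9239 := rfl
theorem L72823 : sm ga N9239 = N6755 := ded_16_1 (flp_i L53350) (flp_a L53183) L72821
theorem L72825 : sm gc N9239 = N9239 := ded_29_1 (flp_i L72821) L53185 L72821
theorem L72826 : sm gd N9239 = N9239 := ded_34_1 (flp_i L72821) L53186 L72821
theorem L72827 : sm gf N9239 = N6732 := ded_41_1 (flp_i L53187) L53181 L72821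
theorem L72829 : sm gh N6732 = N9240 := rfl
theorem L72831 : sm ga N9240 = N6756 := ded_15_1 (flp_h L53356) (flp_a L53189) L72829
theorem L72833 : sm gc N9240 = N9240 := ded_28_1 (flp_h L72829) L53191 L72829
theorem L72834 : sm ge N9240 = N6733 := ded_37_1 (flp_h L53196) (flp_e L53193) L72829
theorem L72836 : sm gg N9240 = N9240 := ded_42_1 (flp_h L72829) L53195 L72829
theorem L72858 : sm gc N6735 = N9243 := rfl
theorem L72863 : sm gg N9243 = N6737 := ded_27_2 (flp_c L53234) (flp_g L53218) L72858
theorem L72865 : sm gh N9243 = N6850 := ded_28_2 (flp_c L54062) (flp_h L53221) L72858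
theorem L72867 : sm gi N6735 = N9244 := rfl
theorem L72872 : sm gd N9244 = N6736 := ded_34_1 (flp_i L53223) L53213 L72867
theorem L72875 : sm gg N9244 = N6738 := ded_43_1 (flp_i L53242) (flp_g L53218) L72867
theorem L72885 : sm gi N6737 = N9246 := rfl
theorem L72889 : sm gc N9246 = N6738 := ded_29_1 (flp_i L53242) L53234 L72885
theorem L72902 : sm gh N6739 = N9248 := rfl
theorem L72904 : sm gc N9248 = N6853 := ded_28_1 (flp_h L54084) (flp_c L53254) L72902
theorem L72906 : sm gf N9248 = N6740 := ded_40_1 (flp_h L53261) L53252 L72902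
theorem L72915 : sm gi N6740 = N9250 := rfl
theorem L72917 : sm gc N9250 = N6855 := ded_29_1 (flp_i L54097) (flp_c L53263) L72915
theorem L72919 : sm gg N9250 = N6742 := ded_43_1 (flp_i L53272) (flp_g L53265) L72915
theorem L72921 : sm gh N9250 = N6808 := ded_44_1 (flp_i L53754) (flp_h L39344) (flp_i L38984) L53261 L72915
theorem L72934 : sm gi N6741 = N9253 := rfl
theorem L72936 : sm gd N9253 = N6742 := ded_34_1 (flp_i L53272) L53267 L72934
theorem L72989 : sm gf N6747 = N9262 := rfl
theorem L72991 : sm gd N9262 = N6751 := ded_31_1 (flp_f L53328) (flp_d L53308) L72989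
theorem L73016 : sm gh N6750 = N9267 := rfl
theorem L73020 : sm gg N9267 = N6753 := ded_42_1 (flp_h L53338) (flp_g L53326) L73016
theorem L73022 : sm gd N9267 = N6820 := ded_33_1 (flp_h L53829) L39403 (flp_h L39032) (flp_d L53323) L73016
theorem L73024 : sm gg N6751 = N9268 := rfl
theorem L73027 : sm ge N9268 = N6754 := ded_36_1 (flp_g L53345) (flp_e L53331) L73024
theorem L73029 : sm gi N6751 = N9269 := rfl
theorem L73032 : sm ge N9269 = N6755 := ded_38_1 (flp_i L53350) (flp_e L53331) L73029
theorem L73034 : sm gf N9269 = N6752 := ded_41_1 (flp_i L53333) L53328 L73029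
theorem L73041 : sm gi N6754 = N9271 := rfl
theorem L73043 : sm gc N9271 = N9271 := ded_29_1 (flp_i L73041) L53347 L73041
theorem L73044 : sm gd N9271 = N9271 := ded_34_1 (flp_i L73041) L53348 L73041
theorem L73045 : sm gf N9271 = N9271 := ded_41_1 (flp_i L73041) L53349 L73041
theorem L73046 : sm gg N9271 = N6755 := ded_43_1 (flp_i L53350) L53345 L73041
theorem L73048 : sm gh N6755 = N9272 := rfl
theorem L73050 : sm gc N9272 = N9272 := ded_28_1 (flp_h L73048) L53352 L73048
theorem L73051 : sm gf N9272 = N6756 := ded_40_1 (flp_h L53356) (flp_f L53354) L73048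
theorem L73053 : sm gd N6756 = N9273 := rfl
theorem L73055 : sm gg N9273 = N9273 := ded_32_2 (flp_d L73053) L53361 L73053
theorem L73056 : sm ge N9273 = N6826 := ded_30_2 (flp_d L53870) L39443 (flp_d L39059) (flp_e L53359) L73053
theorem L73058 : sm gh N9273 = N9273 := ded_33_2 (flp_d L73053) (flp_h L53356) L39051 L53356 L73053
theorem L73066 : sm ge N6757 = N9275 := rfl
theorem L73071 : sm gh N9275 = N6868 := ded_37_2 (flp_e L54183) (flp_h L53369) L73066
theorem L73075 : sm gi N6757 = N9276 := rfl
theorem L73079 : sm gd N9276 = N6758 := ded_34_1 (flp_i L53371) L53362 L73075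
theorem L73119 : sm gb N6763 = N9281 := rfl
theorem L73124 : sm gh N9281 = N6871 := ded_22_2 (flp_b L54207) (flp_h L53419) L73119
theorem L73126 : sm ge N6763 = N9282 := rfl
theorem L73132 : sm gh N9282 = N6872 := ded_37_2 (flp_e L54214) (flp_h L53419) L73126
theorem L73177 : sm gg N6770 = N9288 := rfl
theorem L73179 : sm gb N9288 = N6874 := ded_21_1 (flp_g L54230) (flp_b L53471) L73177
theorem L73181 : sm gc N9288 = N6771 := ded_27_1 (flp_g L53474) L53468 L73177
theorem L73183 : sm gd N9288 = N9288 := ded_32_1 (flp_g L73177) L53473 L73177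
theorem L73184 : sm gh N6770 = N9289 := rfl
theorem L73186 : sm gb N9289 = N6875 := ded_22_1 (flp_h L54236) (flp_b L53471) L73184
theorem L73188 : sm gc N9289 = N6772 := ded_28_1 (flp_h L53480) L53468 L73184
theorem L73190 : sm gf N9289 = N9289 := ded_40_1 (flp_h L73184) L53470 L73184
theorem L73191 : sm gf N6771 = N9290 := rfl
theorem L73193 : sm gb N9290 = N6787 := ded_20_1 (flp_f L53581) (flp_b L53476) L73191
theorem L73198 : sm gh N6771 = N9291 := rfl
theorem L73200 : sm gb N9291 = N6788 := ded_22_1 (flp_h L53590) (flp_b L53476) L73198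
theorem L73202 : sm gg N9291 = N6772 := ded_42_1 (flp_h L53480) L53474 L73198
theorem L73204 : sm gd N6772 = N9292 := rfl
theorem L73206 : sm gb N9292 = N6789 := ded_18_1 (flp_d L53598) (flp_b L53482) L73204
theorem L73208 : sm gf N9292 = N9292 := ded_31_2 (flp_d L73204) L53484 L73204
theorem L73209 : sm gh N9292 = N6775 := ded_33_2 (flp_d L53501) (flp_h L39163) L39151 L53480 L73204
theorem L73211 : sm gi N6772 = N9293 := rfl
theorem L73213 : sm gb N9293 = N6790 := ded_23_1 (flp_i L53606) (flp_b L53482) L73211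
theorem L73215 : sm gf N9293 = N9293 := ded_41_1 (flp_i L73211) L53484 L73211
theorem L73225 : sm gd N6774 = N9295 := rfl
theorem L73227 : sm gb N9295 = N6792 := ded_18_1 (flp_d L53623) (flp_b L53494) L73225
theorem L73229 : sm gg N9295 = N6775 := ded_32_2 (flp_d L53501) (flp_g L53499) L73225
theorem L73240 : sm gc N6775 = N9297 := rfl
theorem L73242 : sm gf N9297 = N9297 := ded_26_2 (flp_c L73240) L53505 L73240
theorem L73243 : sm gb N9297 = N9297 := ded_17_1 (flp_c L73240) L53503 L39249 (flp_b L53503) L73240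
theorem L73244 : sm gd N9297 = N9297 := ded_24_2 (flp_c L73240) (flp_d L53501) L39167 L53501 L73240
theorem L73245 : sm ge N6775 = N9298 := rfl
theorem L73247 : sm gb N9298 = N6794 := ded_19_1 (flp_e L53640) (flp_b L53503) L73245
theorem L73249 : sm gd N9298 = N6780 := ded_30_1 (flp_e L53536) (flp_d L39179) (flp_e L39168) L53501 L73245
theorem L73251 : sm gi N6775 = N9299 := rfl
theorem L73253 : sm gb N9299 = N6795 := ded_23_1 (flp_i L53647) (flp_b L53503) L73251
theorem L73258 : sm gc N6777 = N9300 := rfl
theorem L73260 : sm gf N9300 = N9300 := ded_26_2 (flp_c L73258) L53518 L73258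
theorem L73261 : sm gg N9300 = N6779 := ded_27_2 (flp_c L53529) (flp_g L53519) L73258
theorem L73263 : sm gb N9300 = N6884 := ded_17_1 (flp_c L54300) L39808 (flp_c L39266) (flp_b L53516) L73258
theorem L73265 : sm gd N9300 = N9300 := ded_24_2 (flp_c L73258) (flp_d L53514) L39175 L53514 L73258
theorem L73266 : sm ge N6777 = N9301 := rfl
theorem L73268 : sm gb N9301 = N6796 := ded_19_1 (flp_e L53655) (flp_b L53516) L73266
theorem L73270 : sm gg N9301 = N6780 := ded_36_2 (flp_e L53536) (flp_g L53519) L73266
theorem L73272 : sm gi N6777 = N9302 := rfl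
theorem L73274 : sm gb N9302 = N6797 := ded_23_1 (flp_i L53663) (flp_b L53516) L73272
theorem L73279 : sm gg N9302 = N6781 := ded_43_1 (flp_i L53540) (flp_g L53519) L73272
theorem L73281 : sm ge N6779 = N9303 := rfl
theorem L73283 : sm gb N9303 = N6887 := ded_19_1 (flp_e L54325) (flp_b L53533) L73281
theorem L73285 : sm gc N9303 = N6780 := ded_25_1 (flp_e L53536) L53529 L73281
theorem L73287 : sm gi N6779 = N9304 := rfl
theorem L73289 : sm gb N9304 = N6888 := ded_23_1 (flp_i L54330) (flp_b L53533) L73287
theorem L73291 : sm gc N9304 = N6781 := ded_29_1 (flp_i L53540) L53529 L73287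
theorem L73293 : sm gd N9304 = N9304 := ded_34_1 (flp_i L73287) L53535 L73287
theorem L73294 : sm gf N9304 = N6783 := ded_41_1 (flp_i L53555) (flp_f L53531) L73287
theorem L73296 : sm gf N6780 = N9305 := rfl
theorem L73298 : sm gb N9305 = N6798 := ded_20_1 (flp_f L53674) (flp_b L53538) L73296
theorem L73300 : sm ge N9305 = N6784 := ded_35_1 (flp_f L53563) (flp_e L39198) (flp_f L39183) L53536 L73296
theorem L73302 : sm gi N6780 = N9306 := rfl
theorem L73304 : sm gb N9306 = N6799 := ded_23_1 (flp_i L53682) (flp_b L53538) L73302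
theorem L73306 : sm ge N9306 = N6781 := ded_38_1 (flp_i L53540) L53536 L73302
theorem L73308 : sm gh N6781 = N9307 := rfl
theorem L73310 : sm gb N9307 = N6800 := ded_22_1 (flp_h L53690) (flp_b L53542) L73308
theorem L73312 : sm gf N9307 = N6786 := ded_40_1 (flp_h L53576) (flp_f L53546) L73308
theorem L73314 : sm gd N6782 = N9308 := rfl
theorem L73316 : sm gb N9308 = N6892 := ded_18_1 (flp_d L54362) (flp_b L53550) L73314
theorem L73318 : sm gg N9308 = N9308 := ded_32_2 (flp_d L73314) L53554 L73314
theorem L73319 : sm gc N9308 = N9308 := ded_24_1 (flp_d L73314) L53552 L39203 (flp_c L53552) L73314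
theorem L73320 : sm ge N9308 = N9308 := ded_30_2 (flp_d L73314) (flp_e L53548) L39197 L53548 L73314
theorem L73321 : sm gf N6782 = N9309 := rfl
theorem L73323 : sm gb N9309 = N6893 := ded_20_1 (flp_f L54369) (flp_b L53550) L73321
theorem L73325 : sm gc N9309 = N6784 := ded_26_1 (flp_f L53563) (flp_c L53552) L73321
theorem L73327 : sm gi N6782 = N9310 := rfl
theorem L73329 : sm gb N9310 = N6894 := ded_23_1 (flp_i L54374) (flp_b L53550) L73327
theorem L73331 : sm gc N9310 = N6785 := ded_29_1 (flp_i L53568) (flp_c L53552) L73327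
theorem L73333 : sm ge N9310 = N6783 := ded_38_1 (flp_i L53555) L53548 L73327
theorem L73335 : sm gg N9310 = N9310 := ded_43_1 (flp_i L73327) L53554 L73327
theorem L73336 : sm gh N6783 = N9311 := rfl
theorem L73338 : sm gb N9311 = N6895 := ded_22_1 (flp_h L54382) (flp_b L53557) L73336
theorem L73340 : sm gc N9311 = N6786 := ded_28_1 (flp_h L53576) (flp_c L53559) L73336
theorem L73342 : sm gg N9311 = N9311 := ded_42_1 (flp_h L73336) L53562 L73336
theorem L73343 : sm gg N6784 = N9312 := rfl
theorem L73345 : sm gb N9312 = N6801 := ded_21_1 (flp_g L53698) (flp_b L53565) L73343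
theorem L73347 : sm gd N9312 = N9312 := ded_32_1 (flp_g L73343) L53567 L73343
theorem L73348 : sm gf N9312 = N9312 := ded_39_1 (flp_g L73343) (flp_f L53563) L39202 L53563 L73343
theorem L73349 : sm gi N6784 = N9313 := rfl
theorem L73351 : sm gb N9313 = N6802 := ded_23_1 (flp_i L53706) (flp_b L53565) L73349
theorem L73353 : sm gd N9313 = N9313 := ded_34_1 (flp_i L73349) L53567 L73349
theorem L73354 : sm gf N9313 = N6785 := ded_41_1 (flp_i L53568) L53563 L73349
theorem L73356 : sm gh N6785 = N9314 := rfl
theorem L73358 : sm gb N9314 = N6803 := ded_22_1 (flp_h L53715) (flp_b L53570) L73356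
theorem L73360 : sm ge N9314 = N6786 := ded_37_1 (flp_h L53576) (flp_e L53573) L73356
theorem L73362 : sm gg N9314 = N9314 := ded_42_1 (flp_h L73356) L53575 L73356
theorem L73363 : sm ge N6787 = N9315 := rfl
theorem L73365 : sm ga N9315 = N6805 := ded_12_1 (flp_e L53734) (flp_a L53583) L73363
theorem L73367 : sm gc N9315 = N6879 := ded_25_1 (flp_e L54265) (flp_c L53585) L73363
theorem L73371 : sm gh N6787 = N9316 := rfl
theorem L73375 : sm gc N9316 = N6880 := ded_28_1 (flp_h L54272) (flp_c L53585) L73371
theorem L73377 : sm gf N9316 = N6788 := ded_40_1 (flp_h L53590) L53581 L73371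
theorem L73380 : sm gd N6788 = N9317 := rfl
theorem L73384 : sm gg N9317 = N6789 := ded_32_2 (flp_d L53598) (flp_g L53596) L73380
theorem L73387 : sm gh N9317 = N6792 := ded_33_2 (flp_d L53623) (flp_h L39234) (flp_d L39217) L53590 L73380
theorem L73389 : sm gi N6788 = N9318 := rfl
theorem L73391 : sm ga N9318 = N6808 := ded_16_1 (flp_i L53754) (flp_a L53592) L73389
theorem L73393 : sm gc N9318 = N6881 := ded_29_1 (flp_i L54280) (flp_c L53594) L73389
theorem L73395 : sm gg N9318 = N6790 := ded_43_1 (flp_i L53606) (flp_g L53596) L73389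
theorem L73397 : sm ge N6789 = N9319 := rfl
theorem L73399 : sm ga N9319 = N6809 := ded_12_1 (flp_e L53760) (flp_a L53600) L73397
theorem L73401 : sm gc N9319 = N9319 := ded_25_1 (flp_e L73397) L53603 L73397
theorem L73402 : sm gh N9319 = N6794 := ded_37_2 (flp_e L53640) (flp_h L53604) L73397
theorem L73404 : sm gi N6789 = N9320 := rfl
theorem L73406 : sm ga N9320 = N6810 := ded_16_1 (flp_i L53765) (flp_a L53600) L73404
theorem L73408 : sm gc N9320 = N9320 := ded_29_1 (flp_i L73404) L53603 L73404
theorem L73409 : sm gd N9320 = N6790 := ded_34_1 (flp_i L53606) L53598 L73404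
theorem L73411 : sm gf N9320 = N9320 := ded_41_1 (flp_i L73404) L53602 L73404
theorem L73412 : sm gd N6791 = N9321 := rfl
theorem L73416 : sm gf N9321 = N6792 := ded_31_2 (flp_d L53623) (flp_f L53620) L73412
theorem L73430 : sm ge N6792 = N9323 := rfl
theorem L73435 : sm gg N9323 = N6794 := ded_36_2 (flp_e L53640) (flp_g L53627) L73430
theorem L73437 : sm gd N9323 = N6796 := ded_30_1 (flp_e L53655) (flp_d L39259) (flp_e L39240) L53623 L73430
theorem L73439 : sm gi N6792 = N9324 := rfl
theorem L73446 : sm gg N9324 = N6795 := ded_43_1 (flp_i L53647) (flp_g L53627) L73439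
theorem L73448 : sm gf N6794 = N9325 := rfl
theorem L73450 : sm ga N9325 = N6815 := ded_13_1 (flp_f L53799) (flp_a L53642) L73448
theorem L73452 : sm gc N9325 = N9325 := ded_26_1 (flp_f L73448) L53644 L73448
theorem L73453 : sm gd N9325 = N6798 := ded_31_1 (flp_f L53674) (flp_d L53645) L73448
theorem L73455 : sm ge N9325 = N9325 := ded_35_1 (flp_f L73448) (flp_e L53640) L39248 L53640 L73448
theorem L73456 : sm gi N6794 = N9326 := rfl
theorem L73461 : sm gd N9326 = N6799 := ded_34_1 (flp_i L53682) (flp_d L53645) L73456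
theorem L73463 : sm ge N9326 = N6795 := ded_38_1 (flp_i L53647) L53640 L73456
theorem L73465 : sm gh N6795 = N9327 := rfl
theorem L73467 : sm ga N9327 = N6817 := ded_15_1 (flp_h L53812) (flp_a L53649) L73465
theorem L73471 : sm gf N6796 = N9328 := rfl
theorem L73473 : sm ga N9328 = N6818 := ded_13_1 (flp_f L53816) (flp_a L53657) L73471
theorem L73475 : sm gc N9328 = N6899 := ded_26_1 (flp_f L54413) (flp_c L53659) L73471
theorem L73477 : sm ge N9328 = N9328 := ded_35_1 (flp_f L73471) (flp_e L53655) L39263 L53655 L73471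
theorem L73478 : sm gi N6796 = N9329 := rfl
theorem L73482 : sm gc N9329 = N6900 := ded_29_1 (flp_i L54419) (flp_c L53659) L73478
theorem L73484 : sm ge N9329 = N6797 := ded_38_1 (flp_i L53663) L53655 L73478
theorem L73486 : sm gg N9329 = N6799 := ded_43_1 (flp_i L53682) (flp_g L53661) L73478
theorem L73488 : sm gh N6797 = N9330 := rfl
theorem L73492 : sm gc N9330 = N6901 := ded_28_1 (flp_h L54428) (flp_c L53667) L73488
theorem L73495 : sm gg N9330 = N6800 := ded_42_1 (flp_h L53690) (flp_g L53672) L73488
theorem L73497 : sm gg N6798 = N9331 := rfl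
theorem L73499 : sm ga N9331 = N6821 := ded_14_1 (flp_g L53836) (flp_a L53676) L73497
theorem L73501 : sm gc N9331 = N6902 := ded_27_1 (flp_g L54436) (flp_c L53678) L73497
theorem L73503 : sm ge N9331 = N6801 := ded_36_1 (flp_g L53698) (flp_e L53680) L73497
theorem L73505 : sm gi N6798 = N9332 := rfl
theorem L73507 : sm ga N9332 = N6822 := ded_16_1 (flp_i L53842) (flp_a L53676) L73505
theorem L73509 : sm gc N9332 = N6903 := ded_29_1 (flp_i L54443) (flp_c L53678) L73505
theorem L73511 : sm ge N9332 = N6802 := ded_38_1 (flp_i L53706) (flp_e L53680) L73505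
theorem L73513 : sm gf N9332 = N6799 := ded_41_1 (flp_i L53682) L53674 L73505
theorem L73515 : sm gh N6799 = N9333 := rfl
theorem L73517 : sm ga N9333 = N6823 := ded_15_1 (flp_h L53850) (flp_a L53684) L73515
theorem L73519 : sm gc N9333 = N6904 := ded_28_1 (flp_h L54452) (flp_c L53686) L73515
theorem L73521 : sm ge N9333 = N6800 := ded_37_1 (flp_h L53690) (flp_e L53688) L73515
theorem L73523 : sm gi N6801 = N9334 := rfl
theorem L73525 : sm ga N9334 = N6824 := ded_16_1 (flp_i L53856) (flp_a L53700) L73523
theorem L73527 : sm gc N9334 = N6905 := ded_29_1 (flp_i L54458) (flp_c L53702) L73523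
theorem L73529 : sm gd N9334 = N9334 := ded_34_1 (flp_i L73523) L53704 L73523
theorem L73530 : sm gf N9334 = N9334 := ded_41_1 (flp_i L73523) L53705 L73523
theorem L73531 : sm gg N9334 = N6802 := ded_43_1 (flp_i L53706) L53698 L73523
theorem L73533 : sm gh N6802 = N9335 := rfl
theorem L73535 : sm ga N9335 = N6825 := ded_15_1 (flp_h L53864) (flp_a L53708) L73533
theorem L73537 : sm gc N9335 = N6906 := ded_28_1 (flp_h L54467) (flp_c L53710) L73533
theorem L73539 : sm gf N9335 = N6803 := ded_40_1 (flp_h L53715) (flp_f L53713) L73533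
theorem L73541 : sm gd N6803 = N9336 := rfl
theorem L73543 : sm ga N9336 = N6826 := ded_11_1 (flp_d L53870) (flp_a L53717) L73541
theorem L73545 : sm gg N9336 = N9336 := ded_32_2 (flp_d L73541) L53723 L73541
theorem L73546 : sm gh N9336 = N9336 := ded_33_2 (flp_d L73541) (flp_h L53715) L39306 L53715 L73541
theorem L73547 : sm gh N6805 = N9337 := rfl
theorem L73549 : sm gc N9337 = N6882 := ded_28_1 (flp_h L54287) (flp_c L53736) L73547
theorem L73562 : sm gi N6806 = N9339 := rfl
theorem L73564 : sm gc N9339 = N6883 := ded_29_1 (flp_i L54293) (flp_c L53742) L73562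
theorem L73566 : sm gf N9339 = N6808 := ded_41_1 (flp_i L53754) (flp_f L53744) L73562
theorem L73569 : sm ge N6807 = N9340 := rfl
theorem L73572 : sm gg N9340 = N6809 := ded_36_2 (flp_e L53760) (flp_g L53749) L73569
theorem L73574 : sm gh N9340 = N6813 := ded_37_2 (flp_e L53785) (flp_h L53752) L73569
theorem L73576 : sm gi N6807 = N9341 := rfl
theorem L73579 : sm gd N9341 = N6808 := ded_34_1 (flp_i L53754) L53747 L73576
theorem L73581 : sm gg N9341 = N6810 := ded_43_1 (flp_i L53765) (flp_g L53749) L73576
theorem L73583 : sm gf N6809 = N9342 := rfl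
theorem L73585 : sm gc N9342 = N9342 := ded_26_1 (flp_f L73583) L53762 L73583
theorem L73586 : sm gh N9342 = N6815 := ded_40_2 (flp_f L53799) (flp_h L53763) L73583
theorem L73588 : sm ge N9342 = N9342 := ded_35_1 (flp_f L73583) (flp_e L53760) L39352 L53760 L73583
theorem L73589 : sm gi N6809 = N9343 := rfl
theorem L73591 : sm gc N9343 = N9343 := ded_29_1 (flp_i L73589) L53762 L73589
theorem L73592 : sm ge N9343 = N6810 := ded_38_1 (flp_i L53765) L53760 L73589
theorem L73594 : sm gh N6810 = N9344 := rfl
theorem L73598 : sm gi N9344 = N6817 := ded_44_2 (flp_h L53812) (flp_i L39387) (flp_h L39354) L53765 L73594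
theorem L73613 : sm gf N6813 = N9347 := rfl
theorem L73616 : sm gd N9347 = N6818 := ded_31_1 (flp_f L53816) (flp_d L53790) L73613
theorem L73632 : sm gg N6815 = N9350 := rfl
theorem L73634 : sm gc N9350 = N9350 := ded_27_1 (flp_g L73632) L53801 L73632
theorem L73635 : sm gd N9350 = N6821 := ded_32_1 (flp_g L53836) (flp_d L53802) L73632
theorem L73637 : sm ge N9350 = N9350 := ded_36_1 (flp_g L73632) L53804 L73632
theorem L73638 : sm gi N6815 = N9351 := rfl
theorem L73641 : sm gd N9351 = N6822 := ded_34_1 (flp_i L53842) (flp_d L53802) L73638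
theorem L73644 : sm gf N9351 = N6816 := ded_41_1 (flp_i L53805) L53799 L73638
theorem L73646 : sm gh N6816 = N9352 := rfl
theorem L73649 : sm ge N9352 = N6817 := ded_37_1 (flp_h L53812) (flp_e L53810) L73646
theorem L73651 : sm gg N6818 = N9353 := rfl
theorem L73653 : sm gc N9353 = N6908 := ded_27_1 (flp_g L54481) (flp_c L53818) L73651
theorem L73655 : sm ge N9353 = N9353 := ded_36_1 (flp_g L73651) L53820 L73651
theorem L73656 : sm gf N9353 = N6821 := ded_39_1 (flp_g L53836) (flp_f L39408) (flp_g L39397) L53816 L73651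
theorem L73658 : sm gi N6818 = N9354 := rfl
theorem L73660 : sm gc N9354 = N6909 := ded_29_1 (flp_i L54488) (flp_c L53818) L73658
theorem L73663 : sm gf N9354 = N6819 := ded_41_1 (flp_i L53821) L53816 L73658
theorem L73665 : sm gh N6819 = N9355 := rfl
theorem L73667 : sm gc N9355 = N6910 := ded_28_1 (flp_h L54495) (flp_c L53823) L73665
theorem L73671 : sm gg N9355 = N6823 := ded_42_1 (flp_h L53850) (flp_g L53827) L73665
theorem L73673 : sm gi N6821 = N9356 := rfl
theorem L73675 : sm gc N9356 = N6911 := ded_29_1 (flp_i L54502) (flp_c L53838) L73673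
theorem L73677 : sm ge N9356 = N6824 := ded_38_1 (flp_i L53856) (flp_e L53840) L73673
theorem L73679 : sm gg N9356 = N6822 := ded_43_1 (flp_i L53842) L53836 L73673
theorem L73681 : sm gh N6822 = N9357 := rfl
theorem L73683 : sm gc N9357 = N6912 := ded_28_1 (flp_h L54510) (flp_c L53844) L73681
theorem L73685 : sm ge N9357 = N6825 := ded_37_1 (flp_h L53864) (flp_e L53846) L73681
theorem L73687 : sm gf N9357 = N6823 := ded_40_1 (flp_h L53850) (flp_f L53848) L73681
theorem L73689 : sm gd N6823 = N9358 := rfl
theorem L73691 : sm gh N6824 = N9359 := rfl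
theorem L73693 : sm gc N9359 = N6914 := ded_28_1 (flp_h L54522) (flp_c L53858) L73691
theorem L73695 : sm gf N9359 = N9359 := ded_40_1 (flp_h L73691) L53861 L73691
theorem L73696 : sm gg N9359 = N6825 := ded_42_1 (flp_h L53864) (flp_g L53862) L73691
theorem L73698 : sm gd N6825 = N9360 := rfl
theorem L73700 : sm gf N9360 = N6826 := ded_31_2 (flp_d L53870) (flp_f L53868) L73698
theorem L73702 : sm gh N9360 = N9360 := ded_33_2 (flp_d L73698) (flp_h L53864) L39436 L53864 L73698
theorem L73703 : sm gc N6826 = N9361 := rfl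
theorem L73705 : sm gg N9361 = N9361 := ded_27_2 (flp_c L73703) L53872 L73703
theorem L73706 : sm gh N9361 = N9361 := ded_28_2 (flp_c L73703) L53873 L73703
theorem L73707 : sm gd N9361 = N6916 := ded_24_2 (flp_c L54535) (flp_d L39993) (flp_c L39441) L53870 L73703
theorem L73709 : sm gg N6827 = N9362 := rfl
theorem L73711 : sm ga N9362 = N9362 := ded_14_1 (flp_g L73709) L53876 L73709
theorem L73712 : sm gc N9362 = N6828 := ded_27_1 (flp_g L53881) L53874 L73709
theorem L73714 : sm gd N9362 = N9362 := ded_32_1 (flp_g L73709) L53880 L73709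
theorem L73715 : sm gi N9362 = N6874 := ded_43_2 (flp_g L54230) (flp_i L53878) L73709
theorem L73717 : sm gh N6827 = N9363 := rfl
theorem L73719 : sm ga N9363 = N9363 := ded_15_1 (flp_h L73717) L53876 L73717
theorem L73720 : sm gc N9363 = N6829 := ded_28_1 (flp_h L53890) L53874 L73717
theorem L73722 : sm gf N9363 = N9363 := ded_40_1 (flp_h L73717) L53877 L73717
theorem L73723 : sm gf N6828 = N9364 := rfl
theorem L73726 : sm gb N9364 = N6838 := ded_20_1 (flp_f L53965) (flp_b L53884) L73723
theorem L73728 : sm gd N9364 = N6830 := ded_31_1 (flp_f L53896) (flp_d L53886) L73723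
theorem L73730 : sm gi N9364 = N6876 := ded_41_2 (flp_f L54242) (flp_i L53888) L73723
theorem L73733 : sm gh N6828 = N9365 := rfl
theorem L73735 : sm ga N9365 = N9365 := ded_15_1 (flp_h L73733) L53883 L73733
theorem L73736 : sm gb N9365 = N6839 := ded_22_1 (flp_h L53974) (flp_b L53884) L73733
theorem L73738 : sm gg N9365 = N6829 := ded_42_1 (flp_h L53890) L53881 L73733
theorem L73740 : sm gd N6829 = N9366 := rfl
theorem L73742 : sm ga N9366 = N9366 := ded_11_1 (flp_d L73740) L53892 L73740
theorem L73743 : sm gb N9366 = N6840 := ded_18_1 (flp_d L53980) (flp_b L53893) L73740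
theorem L73745 : sm gf N9366 = N9366 := ded_31_2 (flp_d L73740) L53895 L73740
theorem L73746 : sm gh N9366 = N6832 := ded_33_2 (flp_d L53918) (flp_h L39473) L39455 L53890 L73740
theorem L73748 : sm gi N6829 = N9367 := rfl
theorem L73750 : sm ga N9367 = N9367 := ded_16_1 (flp_i L73748) L53892 L73748
theorem L73751 : sm gb N9367 = N6841 := ded_23_1 (flp_i L53987) (flp_b L53893) L73748
theorem L73753 : sm gf N9367 = N9367 := ded_41_1 (flp_i L73748) L53895 L73748
theorem L73754 : sm gh N9367 = N6878 := ded_44_1 (flp_i L54258) (flp_h L39749) (flp_i L39461) L53890 L73748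
theorem L73756 : sm gh N6830 = N9368 := rfl
theorem L73762 : sm ge N9368 = N7505 := ded_37_1 (flp_h L59180) (flp_e L53904) L73756
theorem L73764 : sm gf N9368 = N6831 := ded_40_1 (flp_h L53907) L53896 L73756
theorem L73768 : sm gd N6831 = N9369 := rfl
theorem L73771 : sm gb N9369 = N6843 := ded_18_1 (flp_d L54006) (flp_b L53910) L73768
theorem L73773 : sm gg N9369 = N6832 := ded_32_2 (flp_d L53918) (flp_g L53915) L73768
theorem L73776 : sm gc N6832 = N9370 := rfl
theorem L73778 : sm ga N9370 = N9370 := ded_10_1 (flp_c L73776) L53920 L73776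
theorem L73779 : sm gf N9370 = N9370 := ded_26_2 (flp_c L73776) L53923 L73776
theorem L73780 : sm gi N9370 = N9370 := ded_29_2 (flp_c L73776) L53924 L73776
theorem L73781 : sm gd N9370 = N9370 := ded_24_2 (flp_c L73776) (flp_d L53918) L39478 L53918 L73776
theorem L73782 : sm ge N6832 = N9371 := rfl
theorem L73784 : sm ga N9371 = N9371 := ded_12_1 (flp_e L73782) L53920 L73782
theorem L73785 : sm gb N9371 = N6845 := ded_19_1 (flp_e L54021) (flp_b L53921) L73782
theorem L73787 : sm gi N9371 = N9371 := ded_38_2 (flp_e L73782) L53924 L73782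
theorem L73788 : sm gd N9371 = N6835 := ded_30_1 (flp_e L53943) (flp_d L39494) (flp_e L39479) L53918 L73782
theorem L73790 : sm gc N6833 = N9372 := rfl
theorem L73792 : sm ga N9372 = N9372 := ded_10_1 (flp_c L73790) L53927 L73790
theorem L73793 : sm gf N9372 = N7509 := ded_26_2 (flp_c L59212) (flp_f L53930) L73790
theorem L73795 : sm gg N9372 = N6834 := ded_27_2 (flp_c L53935) (flp_g L53932) L73790
theorem L73797 : sm gi N9372 = N9372 := ded_29_2 (flp_c L73790) L53934 L73790
theorem L73798 : sm gb N9372 = N9372 := ded_17_1 (flp_c L73790) L53928 L39569 (flp_b L53928) L73790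
theorem L73799 : sm gd N9372 = N9372 := ded_24_2 (flp_c L73790) (flp_d L53925) L39488 L53925 L73790
theorem L73800 : sm ge N6833 = N9373 := rfl
theorem L73802 : sm ga N9373 = N9373 := ded_12_1 (flp_e L73800) L53927 L73800
theorem L73803 : sm gb N9373 = N6846 := ded_19_1 (flp_e L54028) (flp_b L53928) L73800
theorem L73805 : sm gg N9373 = N6835 := ded_36_2 (flp_e L53943) (flp_g L53932) L73800
theorem L73807 : sm gi N9373 = N9373 := ded_38_2 (flp_e L73800) L53934 L73800
theorem L73808 : sm ge N6834 = N9374 := rfl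
theorem L73810 : sm ga N9374 = N9374 := ded_12_1 (flp_e L73808) L53937 L73808
theorem L73811 : sm gb N9374 = N9374 := ded_19_1 (flp_e L73808) L53941 L73808
theorem L73812 : sm gc N9374 = N6835 := ded_25_1 (flp_e L53943) L53935 L73808
theorem L73814 : sm gi N9374 = N9374 := ded_38_2 (flp_e L73808) L53940 L73808
theorem L73815 : sm gf N6835 = N9375 := rfl
theorem L73817 : sm ga N9375 = N9375 := ded_13_1 (flp_f L73815) L53945 L73815
theorem L73818 : sm gb N9375 = N6847 := ded_20_1 (flp_f L54036) (flp_b L53946) L73815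
theorem L73820 : sm gi N9375 = N9375 := ded_41_2 (flp_f L73815) L53948 L73815
theorem L73821 : sm ge N9375 = N6837 := ded_35_1 (flp_f L53958) (flp_e L39510) (flp_f L39499) L53943 L73815
theorem L73823 : sm gd N6836 = N9376 := rfl
theorem L73825 : sm ga N9376 = N9376 := ded_11_1 (flp_d L73823) L53951 L73823
theorem L73826 : sm gb N9376 = N9376 := ded_18_1 (flp_d L73823) L53952 L73823
theorem L73827 : sm gg N9376 = N7513 := ded_32_2 (flp_d L59243) (flp_g L53955) L73823
theorem L73829 : sm gi N9376 = N9376 := ded_34_2 (flp_d L73823) L53957 L73823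
theorem L73830 : sm gc N9376 = N9376 := ded_24_1 (flp_d L73823) L53953 L39518 (flp_c L53953) L73823
theorem L73831 : sm ge N9376 = N9376 := ded_30_2 (flp_d L73823) (flp_e L53949) L39509 L53949 L73823
theorem L73832 : sm gh N9376 = N9376 := ded_33_2 (flp_d L73823) (flp_h L68581) L68583 L68581 L73823
theorem L73833 : sm gf N6836 = N9377 := rfl
theorem L73835 : sm ga N9377 = N9377 := ded_13_1 (flp_f L73833) L53951 L73833
theorem L73836 : sm gb N9377 = N9377 := ded_20_1 (flp_f L73833) L53952 L73833
theorem L73837 : sm gc N9377 = N6837 := ded_26_1 (flp_f L53958) (flp_c L53953) L73833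
theorem L73839 : sm gi N9377 = N9377 := ded_41_2 (flp_f L73833) L53957 L73833
theorem L73840 : sm gg N6837 = N9378 := rfl
theorem L73847 : sm gf N9378 = N7515 := ded_39_1 (flp_g L59258) (flp_f L43436) (flp_g L39515) L53958 L73840
theorem L73849 : sm ge N6838 = N9379 := rfl
theorem L73851 : sm ga N9379 = N6852 := ded_12_1 (flp_e L54076) (flp_a L53967) L73849
theorem L73854 : sm gi N9379 = N6879 := ded_38_2 (flp_e L54265) (flp_i L53971) L73849
theorem L73856 : sm gd N9379 = N7516 := ded_30_1 (flp_e L59265) L43448 (flp_e L39540) (flp_d L53969) L73849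
theorem L73858 : sm gh N6838 = N9380 := rfl
theorem L73862 : sm gf N9380 = N6839 := ded_40_1 (flp_h L53974) L53965 L73858
theorem L73865 : sm gd N6839 = N9381 := rfl
theorem L73867 : sm ga N9381 = N6854 := ded_11_1 (flp_d L54090) (flp_a L53976) L73865
theorem L73869 : sm gg N9381 = N6840 := ded_32_2 (flp_d L53980) (flp_g L53978) L73865
theorem L73873 : sm gi N6839 = N9382 := rfl
theorem L73875 : sm ga N9382 = N6855 := ded_16_1 (flp_i L54097) (flp_a L53976) L73873
theorem L73877 : sm gg N9382 = N6841 := ded_43_1 (flp_i L53987) (flp_g L53978) L73873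
theorem L73879 : sm gh N9382 = N6881 := ded_44_1 (flp_i L54280) (flp_h L39773) (flp_i L39525) L53974 L73873
theorem L73881 : sm gc N6840 = N9383 := rfl
theorem L73883 : sm ga N9383 = N6856 := ded_10_1 (flp_c L54104) (flp_a L53982) L73881
theorem L73888 : sm ge N6840 = N9384 := rfl
theorem L73890 : sm ga N9384 = N6857 := ded_12_1 (flp_e L54109) (flp_a L53982) L73888
theorem L73892 : sm gh N9384 = N6845 := ded_37_2 (flp_e L54021) (flp_h L53985) L73888
theorem L73894 : sm gi N6840 = N9385 := rfl
theorem L73896 : sm ga N9385 = N6858 := ded_16_1 (flp_i L54114) (flp_a L53982) L73894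
theorem L73898 : sm gd N9385 = N6841 := ded_34_1 (flp_i L53987) L53980 L73894
theorem L73900 : sm gf N9385 = N9385 := ded_41_1 (flp_i L73894) L53984 L73894
theorem L73901 : sm gh N9385 = N9385 := ded_44_1 (flp_i L73894) L53985 L39559 (flp_h L53985) L73894
theorem L73919 : sm ge N6843 = N9388 := rfl
theorem L73921 : sm ga N9388 = N6861 := ded_12_1 (flp_e L54135) (flp_a L54008) L73919
theorem L73923 : sm gg N9388 = N6845 := ded_36_2 (flp_e L54021) (flp_g L54010) L73919
theorem L73926 : sm gd N9388 = N6846 := ded_30_1 (flp_e L54028) (flp_d L39560) (flp_e L39549) L54006 L73919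
theorem L73934 : sm ge N6844 = N9390 := rfl
theorem L73936 : sm ga N9390 = N6863 := ded_12_1 (flp_e L54150) (flp_a L54015) L73934
theorem L73938 : sm gc N9390 = N6845 := ded_25_1 (flp_e L54021) L54013 L73934
theorem L73942 : sm gf N6845 = N9391 := rfl
theorem L73944 : sm ga N9391 = N6864 := ded_13_1 (flp_f L54156) (flp_a L54023) L73942
theorem L73946 : sm gd N9391 = N6847 := ded_31_1 (flp_f L54036) (flp_d L54026) L73942
theorem L73948 : sm gi N9391 = N9391 := ded_41_2 (flp_f L73942) L54025 L73942
theorem L73949 : sm ge N9391 = N9391 := ded_35_1 (flp_f L73942) (flp_e L54021) L39558 L54021 L73942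
theorem L73950 : sm gf N6846 = N9392 := rfl
theorem L73952 : sm ga N9392 = N6865 := ded_13_1 (flp_f L54163) (flp_a L54030) L73950
theorem L73958 : sm gg N6847 = N9393 := rfl
theorem L73960 : sm ga N9393 = N6866 := ded_14_1 (flp_g L54170) (flp_a L54038) L73958
theorem L73966 : sm gc N6849 = N9394 := rfl
theorem L73968 : sm ga N9394 = N6867 := ded_10_1 (flp_c L54177) (flp_a L54055) L73966
theorem L73970 : sm gf N9394 = N6850 := ded_26_2 (flp_c L54062) (flp_f L54058) L73966
theorem L74013 : sm gi N6853 = N9400 := rfl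
theorem L74016 : sm gf N9400 = N6855 := ded_41_1 (flp_i L54097) (flp_f L54087) L74013
theorem L74019 : sm gh N9400 = N6883 := ded_44_1 (flp_i L54293) (flp_h L39792) (flp_i L39615) L54084 L74013
theorem L74027 : sm ge N6854 = N9402 := rfl
theorem L74030 : sm gg N9402 = N6857 := ded_36_2 (flp_e L54109) (flp_g L54093) L74027
theorem L74032 : sm gh N9402 = N6861 := ded_37_2 (flp_e L54135) (flp_h L54095) L74027
theorem L74034 : sm gi N6854 = N9403 := rfl
theorem L74037 : sm gd N9403 = N6855 := ded_34_1 (flp_i L54097) L54090 L74034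
theorem L74039 : sm gg N9403 = N6858 := ded_43_1 (flp_i L54114) (flp_g L54093) L74034
theorem L74048 : sm ge N6856 = N9405 := rfl
theorem L74050 : sm gc N9405 = N6857 := ded_25_1 (flp_e L54109) L54104 L74048
theorem L74054 : sm gi N6856 = N9406 := rfl
theorem L74056 : sm gc N9406 = N6858 := ded_29_1 (flp_i L54114) L54104 L74054
theorem L74060 : sm gf N6857 = N9407 := rfl
theorem L74062 : sm gb N9407 = N9407 := ded_20_1 (flp_f L74060) L54111 L74060
theorem L74063 : sm gh N9407 = N6864 := ded_40_2 (flp_f L54156) (flp_h L54112) L74060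
theorem L74065 : sm ge N9407 = N9407 := ded_35_1 (flp_f L74060) (flp_e L54109) L39626 L54109 L74060
theorem L74066 : sm gi N6857 = N9408 := rfl
theorem L74068 : sm gb N9408 = N9408 := ded_23_1 (flp_i L74066) L54111 L74066
theorem L74069 : sm ge N9408 = N6858 := ded_38_1 (flp_i L54114) L54109 L74066
theorem L74071 : sm gh N9408 = N9408 := ded_44_1 (flp_i L74066) L54112 L39661 (flp_h L54112) L74066
theorem L74072 : sm gc N6859 = N9409 := rfl
theorem L74074 : sm gf N9409 = N6860 := ded_26_2 (flp_c L54128) (flp_f L54124) L74072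
theorem L74078 : sm gd N9409 = N6867 := ded_24_2 (flp_c L54177) (flp_d L39686) (flp_c L39638) L54121 L74072
theorem L74123 : sm gf N6863 = N9416 := rfl
theorem L74125 : sm gc N9416 = N6864 := ded_26_1 (flp_f L54156) (flp_c L54152) L74123
theorem L74130 : sm gg N6864 = N9417 := rfl
theorem L74133 : sm gd N9417 = N6866 := ded_32_1 (flp_g L54170) (flp_d L54159) L74130
theorem L74137 : sm gg N6865 = N9418 := rfl
theorem L74144 : sm gf N9418 = N6866 := ded_39_1 (flp_g L54170) (flp_f L39671) (flp_g L39668) L54163 L74137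
theorem L74184 : sm gd N6872 = N9424 := rfl
theorem L74190 : sm gc N9424 = N7561 := ded_24_1 (flp_d L59608) L43700 (flp_d L39720) (flp_c L54217) L74184
theorem L74193 : sm gf N6874 = N9425 := rfl
theorem L74195 : sm ga N9425 = N9425 := ded_13_1 (flp_f L74193) L54232 L74193
theorem L74196 : sm gc N9425 = N6876 := ded_26_1 (flp_f L54242) (flp_c L54233) L74193
theorem L74198 : sm gd N9425 = N9425 := ded_31_1 (flp_f L74193) L54235 L74193
theorem L74199 : sm gg N9425 = N9425 := ded_39_2 (flp_f L74193) (flp_g L54230) L39740 L54230 L74193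
theorem L74200 : sm gh N6874 = N9426 := rfl
theorem L74202 : sm ga N9426 = N9426 := ded_15_1 (flp_h L74200) L54232 L74200
theorem L74203 : sm gc N9426 = N6877 := ded_28_1 (flp_h L54250) (flp_c L54233) L74200
theorem L74205 : sm gg N9426 = N6875 := ded_42_1 (flp_h L54236) L54230 L74200
theorem L74207 : sm gd N6875 = N9427 := rfl
theorem L74209 : sm ga N9427 = N9427 := ded_11_1 (flp_d L74207) L54238 L74207
theorem L74210 : sm gf N9427 = N9427 := ded_31_2 (flp_d L74207) L54241 L74207
theorem L74211 : sm gc N9427 = N9427 := ded_24_1 (flp_d L74207) L54239 L39755 (flp_c L54239) L74207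
theorem L74212 : sm gh N9427 = N9427 := ded_33_2 (flp_d L74207) (flp_h L54236) L39741 L54236 L74207
theorem L74213 : sm gi N6875 = N9428 := rfl
theorem L74215 : sm ga N9428 = N9428 := ded_16_1 (flp_i L74213) L54238 L74213
theorem L74216 : sm gc N9428 = N6878 := ded_29_1 (flp_i L54258) (flp_c L54239) L74213
theorem L74218 : sm gf N9428 = N9428 := ded_41_1 (flp_i L74213) L54241 L74213
theorem L74219 : sm ge N6876 = N9429 := rfl
theorem L74221 : sm ga N9429 = N9429 := ded_12_1 (flp_e L74219) L54244 L74219
theorem L74222 : sm gb N9429 = N6879 := ded_19_1 (flp_e L54265) (flp_b L54245) L74219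
theorem L74224 : sm gg N9429 = N9429 := ded_36_2 (flp_e L74219) L54249 L74219
theorem L74225 : sm gd N9429 = N7566 := ded_30_1 (flp_e L59645) L43734 (flp_e L39763) (flp_d L54247) L74219
theorem L74227 : sm gh N6876 = N9430 := rfl
theorem L74229 : sm ga N9430 = N9430 := ded_15_1 (flp_h L74227) L54244 L74227
theorem L74230 : sm gb N9430 = N6880 := ded_22_1 (flp_h L54272) (flp_b L54245) L74227
theorem L74232 : sm gf N9430 = N6877 := ded_40_1 (flp_h L54250) L54242 L74227
theorem L74234 : sm gg N9430 = N9430 := ded_42_1 (flp_h L74227) L54249 L74227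
theorem L74235 : sm gd N9430 = N9430 := ded_33_1 (flp_h L74227) L54247 L39762 (flp_d L54247) L74227
theorem L74236 : sm gi N6877 = N9431 := rfl
theorem L74238 : sm ga N9431 = N9431 := ded_16_1 (flp_i L74236) L54252 L74236
theorem L74239 : sm gb N9431 = N6881 := ded_23_1 (flp_i L54280) (flp_b L54253) L74236
theorem L74241 : sm gd N9431 = N9431 := ded_34_1 (flp_i L74236) L54257 L74236
theorem L74242 : sm gg N9431 = N6878 := ded_43_1 (flp_i L54258) (flp_g L54255) L74236
theorem L74244 : sm gh N6879 = N9432 := rfl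
theorem L74246 : sm ga N9432 = N6882 := ded_15_1 (flp_h L54287) (flp_a L54267) L74244
theorem L74248 : sm ge N9432 = N6880 := ded_37_1 (flp_h L54272) L54265 L74244
theorem L74250 : sm gg N9432 = N9432 := ded_42_1 (flp_h L74244) L54269 L74244
theorem L74251 : sm gi N6880 = N9433 := rfl
theorem L74253 : sm ga N9433 = N6883 := ded_16_1 (flp_i L54293) (flp_a L54274) L74251
theorem L74255 : sm gd N9433 = N9433 := ded_34_1 (flp_i L74251) L54279 L74251
theorem L74256 : sm gf N9433 = N6881 := ded_41_1 (flp_i L54280) (flp_f L54276) L74251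
theorem L74258 : sm gg N9433 = N9433 := ded_43_1 (flp_i L74251) L54278 L74251
theorem L74259 : sm gd N6882 = N9434 := rfl
theorem L74262 : sm gg N9434 = N9434 := ded_32_2 (flp_d L74259) L54292 L74259
theorem L74264 : sm gh N9434 = N7571 := ded_33_2 (flp_d L59685) (flp_h L43775) (flp_d L39790) L54287 L74259
theorem L74266 : sm gi N6882 = N9435 := rfl
theorem L74268 : sm gb N9435 = N9435 := ded_23_1 (flp_i L74266) L54289 L74266
theorem L74269 : sm ge N9435 = N6883 := ded_38_1 (flp_i L54293) (flp_e L54290) L74266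
theorem L74271 : sm gg N9435 = N9435 := ded_43_1 (flp_i L74266) L54292 L74266
theorem L74272 : sm ge N6884 = N9436 := rfl
theorem L74274 : sm ga N9436 = N9436 := ded_12_1 (flp_e L74272) L54302 L74272
theorem L74275 : sm gc N9436 = N6885 := ded_25_1 (flp_e L54307) L54300 L74272
theorem L74277 : sm gg N9436 = N6887 := ded_36_2 (flp_e L54325) (flp_g L54304) L74272
theorem L74279 : sm gi N6884 = N9437 := rfl
theorem L74281 : sm ga N9437 = N9437 := ded_16_1 (flp_i L74279) L54302 L74279
theorem L74282 : sm gc N9437 = N6886 := ded_29_1 (flp_i L54315) L54300 L74279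
theorem L74284 : sm gd N9437 = N9437 := ded_34_1 (flp_i L74279) L54306 L74279
theorem L74285 : sm gf N9437 = N9437 := ded_41_1 (flp_i L74279) L54303 L74279
theorem L74286 : sm gg N9437 = N6888 := ded_43_1 (flp_i L54330) (flp_g L54304) L74279
theorem L74288 : sm gf N6885 = N9438 := rfl
theorem L74290 : sm ga N9438 = N9438 := ded_13_1 (flp_f L74288) L54309 L74288
theorem L74291 : sm gb N9438 = N6899 := ded_20_1 (flp_f L54413) (flp_b L54310) L74288
theorem L74293 : sm gd N9438 = N9438 := ded_31_1 (flp_f L74288) L54314 L74288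
theorem L74294 : sm ge N9438 = N9438 := ded_35_1 (flp_f L74288) (flp_e L54307) L39810 L54307 L74288
theorem L74295 : sm gi N6885 = N9439 := rfl
theorem L74297 : sm ga N9439 = N9439 := ded_16_1 (flp_i L74295) L54309 L74295
theorem L74298 : sm gb N9439 = N6900 := ded_23_1 (flp_i L54419) (flp_b L54310) L74295
theorem L74300 : sm gd N9439 = N9439 := ded_34_1 (flp_i L74295) L54314 L74295
theorem L74301 : sm ge N9439 = N6886 := ded_38_1 (flp_i L54315) L54307 L74295
theorem L74303 : sm gg N9439 = N6890 := ded_43_1 (flp_i L54346) (flp_g L54312) L74295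
theorem L74305 : sm gh N6886 = N9440 := rfl
theorem L74307 : sm ga N9440 = N9440 := ded_15_1 (flp_h L74305) L54317 L74305
theorem L74308 : sm gb N9440 = N6901 := ded_22_1 (flp_h L54428) (flp_b L54318) L74305
theorem L74310 : sm gf N9440 = N9440 := ded_40_1 (flp_h L74305) L54322 L74305
theorem L74311 : sm gg N9440 = N6891 := ded_42_1 (flp_h L54354) (flp_g L54323) L74305
theorem L74313 : sm gd N9440 = N9440 := ded_33_1 (flp_h L74305) L54320 L39823 (flp_d L54320) L74305
theorem L74314 : sm gd N6887 = N9441 := rfl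
theorem L74316 : sm ga N9441 = N9441 := ded_11_1 (flp_d L74314) L54327 L74314
theorem L74317 : sm gc N9441 = N9441 := ded_24_1 (flp_d L74314) L54328 L39835 (flp_c L54328) L74314
theorem L74318 : sm ge N9441 = N9441 := ded_30_2 (flp_d L74314) (flp_e L54325) L39829 L54325 L74314
theorem L74319 : sm gf N6887 = N9442 := rfl
theorem L74321 : sm ga N9442 = N9442 := ded_13_1 (flp_f L74319) L54327 L74319
theorem L74322 : sm gc N9442 = N6889 := ded_26_1 (flp_f L54338) (flp_c L54328) L74319
theorem L74324 : sm ge N9442 = N6893 := ded_35_1 (flp_f L54369) (flp_e L39845) (flp_f L39827) L54325 L74319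
theorem L74326 : sm gi N6887 = N9443 := rfl
theorem L74328 : sm ga N9443 = N9443 := ded_16_1 (flp_i L74326) L54327 L74326
theorem L74329 : sm gc N9443 = N6890 := ded_29_1 (flp_i L54346) (flp_c L54328) L74326
theorem L74331 : sm ge N9443 = N6888 := ded_38_1 (flp_i L54330) L54325 L74326
theorem L74333 : sm gh N6888 = N9444 := rfl
theorem L74335 : sm ga N9444 = N9444 := ded_15_1 (flp_h L74333) L54332 L74333
theorem L74336 : sm gc N9444 = N6891 := ded_28_1 (flp_h L54354) (flp_c L54333) L74333
theorem L74338 : sm gf N9444 = N6895 := ded_40_1 (flp_h L54382) (flp_f L54336) L74333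
theorem L74340 : sm gg N6889 = N9445 := rfl
theorem L74342 : sm ga N9445 = N9445 := ded_14_1 (flp_g L74340) L54340 L74340
theorem L74343 : sm gb N9445 = N6902 := ded_21_1 (flp_g L54436) (flp_b L54341) L74340
theorem L74345 : sm gd N9445 = N9445 := ded_32_1 (flp_g L74340) L54343 L74340
theorem L74346 : sm ge N9445 = N6896 := ded_36_1 (flp_g L54388) (flp_e L54344) L74340
theorem L74348 : sm gi N6889 = N9446 := rfl
theorem L74350 : sm ga N9446 = N9446 := ded_16_1 (flp_i L74348) L54340 L74348
theorem L74351 : sm gb N9446 = N6903 := ded_23_1 (flp_i L54443) (flp_b L54341) L74348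
theorem L74353 : sm gd N9446 = N9446 := ded_34_1 (flp_i L74348) L54343 L74348
theorem L74354 : sm ge N9446 = N6897 := ded_38_1 (flp_i L54396) (flp_e L54344) L74348
theorem L74356 : sm gf N9446 = N6890 := ded_41_1 (flp_i L54346) L54338 L74348
theorem L74358 : sm gh N6890 = N9447 := rfl
theorem L74360 : sm ga N9447 = N9447 := ded_15_1 (flp_h L74358) L54348 L74358
theorem L74361 : sm gb N9447 = N6904 := ded_22_1 (flp_h L54452) (flp_b L54349) L74358
theorem L74363 : sm ge N9447 = N6891 := ded_37_1 (flp_h L54354) (flp_e L54352) L74358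
theorem L74365 : sm gf N6892 = N9448 := rfl
theorem L74367 : sm ga N9448 = N9448 := ded_13_1 (flp_f L74365) L54364 L74365
theorem L74368 : sm gc N9448 = N6917 := ded_26_1 (flp_f L54541) (flp_c L54366) L74365
theorem L74370 : sm gd N9448 = N6893 := ded_31_1 (flp_f L54369) L54362 L74365
theorem L74372 : sm gh N6892 = N9449 := rfl
theorem L74374 : sm ga N9449 = N9449 := ded_15_1 (flp_h L74372) L54364 L74372
theorem L74375 : sm gc N9449 = N6918 := ded_28_1 (flp_h L54547) (flp_c L54366) L74372
theorem L74377 : sm ge N9449 = N9449 := ded_37_1 (flp_h L74372) L54368 L74372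
theorem L74378 : sm gg N9449 = N9449 := ded_42_1 (flp_h L74372) L54365 L74372
theorem L74379 : sm gi N6892 = N9450 := rfl
theorem L74381 : sm ga N9450 = N9450 := ded_16_1 (flp_i L74379) L54364 L74379
theorem L74382 : sm gc N9450 = N6919 := ded_29_1 (flp_i L54554) (flp_c L54366) L74379
theorem L74384 : sm gd N9450 = N6894 := ded_34_1 (flp_i L54374) L54362 L74379
theorem L74386 : sm ge N9450 = N9450 := ded_38_1 (flp_i L74379) L54368 L74379
theorem L74387 : sm gg N9450 = N9450 := ded_43_1 (flp_i L74379) L54365 L74379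
theorem L74388 : sm gg N6893 = N9451 := rfl
theorem L74390 : sm ga N9451 = N9451 := ded_14_1 (flp_g L74388) L54371 L74388
theorem L74391 : sm gc N9451 = N6896 := ded_27_1 (flp_g L54388) (flp_c L54372) L74388
theorem L74393 : sm gf N9451 = N9451 := ded_39_1 (flp_g L74388) (flp_f L54369) L39850 L54369 L74388
theorem L74394 : sm gi N6893 = N9452 := rfl
theorem L74396 : sm ga N9452 = N9452 := ded_16_1 (flp_i L74394) L54371 L74394
theorem L74397 : sm gc N9452 = N6897 := ded_29_1 (flp_i L54396) (flp_c L54372) L74394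
theorem L74399 : sm gf N9452 = N6894 := ded_41_1 (flp_i L54374) L54369 L74394
theorem L74401 : sm gh N6894 = N9453 := rfl
theorem L74403 : sm ga N9453 = N9453 := ded_15_1 (flp_h L74401) L54376 L74401
theorem L74404 : sm gc N9453 = N6898 := ded_28_1 (flp_h L54405) (flp_c L54377) L74401
theorem L74406 : sm ge N9453 = N6895 := ded_37_1 (flp_h L54382) (flp_e L54379) L74401
theorem L74408 : sm gg N9453 = N9453 := ded_42_1 (flp_h L74401) L54381 L74401
theorem L74409 : sm gd N6895 = N9454 := rfl
theorem L74411 : sm ga N9454 = N9454 := ded_11_1 (flp_d L74409) L54384 L74409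
theorem L74412 : sm gg N9454 = N9454 := ded_32_2 (flp_d L74409) L54387 L74409
theorem L74413 : sm gc N9454 = N9454 := ded_24_1 (flp_d L74409) L54385 L39881 (flp_c L54385) L74409
theorem L74414 : sm gh N9454 = N9454 := ded_33_2 (flp_d L74409) (flp_h L54382) L39856 L54382 L74409
theorem L74415 : sm gi N6896 = N9455 := rfl
theorem L74417 : sm ga N9455 = N9455 := ded_16_1 (flp_i L74415) L54390 L74415
theorem L74418 : sm gb N9455 = N6905 := ded_23_1 (flp_i L54458) (flp_b L54391) L74415
theorem L74420 : sm gd N9455 = N6924 := ded_34_1 (flp_i L54599) (flp_d L54393) L74415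
theorem L74422 : sm gf N9455 = N9455 := ded_41_1 (flp_i L74415) L54395 L74415
theorem L74423 : sm gg N9455 = N6897 := ded_43_1 (flp_i L54396) L54388 L74415
theorem L74425 : sm gh N6897 = N9456 := rfl
theorem L74427 : sm ga N9456 = N9456 := ded_15_1 (flp_h L74425) L54398 L74425
theorem L74428 : sm gb N9456 = N6906 := ded_22_1 (flp_h L54467) (flp_b L54399) L74425
theorem L74430 : sm gf N9456 = N6898 := ded_40_1 (flp_h L54405) (flp_f L54403) L74425
theorem L74432 : sm gd N6898 = N9457 := rfl
theorem L74434 : sm ga N9457 = N9457 := ded_11_1 (flp_d L74432) L54407 L74432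
theorem L74435 : sm gb N9457 = N6907 := ded_18_1 (flp_d L54473) (flp_b L54408) L74432
theorem L74437 : sm gg N9457 = N9457 := ded_32_2 (flp_d L74432) L54412 L74432
theorem L74438 : sm ge N9457 = N9457 := ded_30_2 (flp_d L74432) L54410 L39881 (flp_e L54410) L74432
theorem L74439 : sm gh N9457 = N6926 := ded_33_2 (flp_d L54617) (flp_h L40048) (flp_d L39870) L54405 L74432
theorem L74441 : sm gg N6899 = N9458 := rfl
theorem L74443 : sm ga N9458 = N6908 := ded_14_1 (flp_g L54481) (flp_a L54415) L74441
theorem L74445 : sm gd N9458 = N9458 := ded_32_1 (flp_g L74441) L54417 L74441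
theorem L74446 : sm ge N9458 = N9458 := ded_36_1 (flp_g L74441) L54418 L74441
theorem L74447 : sm gf N9458 = N6902 := ded_39_1 (flp_g L54436) (flp_f L39898) (flp_g L39886) L54413 L74441
theorem L74449 : sm gi N6899 = N9459 := rfl
theorem L74451 : sm ga N9459 = N6909 := ded_16_1 (flp_i L54488) (flp_a L54415) L74449
theorem L74453 : sm gd N9459 = N9459 := ded_34_1 (flp_i L74449) L54417 L74449
theorem L74454 : sm ge N9459 = N9459 := ded_38_1 (flp_i L74449) L54418 L74449
theorem L74455 : sm gf N9459 = N6900 := ded_41_1 (flp_i L54419) L54413 L74449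
theorem L74457 : sm gh N6900 = N9460 := rfl
theorem L74459 : sm ga N9460 = N6910 := ded_15_1 (flp_h L54495) (flp_a L54421) L74457
theorem L74461 : sm ge N9460 = N6901 := ded_37_1 (flp_h L54428) (flp_e L54424) L74457
theorem L74463 : sm gg N9460 = N6904 := ded_42_1 (flp_h L54452) (flp_g L54426) L74457
theorem L74465 : sm gi N6902 = N9461 := rfl
theorem L74467 : sm ga N9461 = N6911 := ded_16_1 (flp_i L54502) (flp_a L54438) L74465
theorem L74469 : sm gd N9461 = N9461 := ded_34_1 (flp_i L74465) L54440 L74465
theorem L74470 : sm ge N9461 = N6905 := ded_38_1 (flp_i L54458) (flp_e L54441) L74465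
theorem L74472 : sm gg N9461 = N6903 := ded_43_1 (flp_i L54443) L54436 L74465
theorem L74474 : sm gh N6903 = N9462 := rfl
theorem L74476 : sm ga N9462 = N6912 := ded_15_1 (flp_h L54510) (flp_a L54445) L74474
theorem L74478 : sm ge N9462 = N6906 := ded_37_1 (flp_h L54467) (flp_e L54448) L74474
theorem L74480 : sm gf N9462 = N6904 := ded_40_1 (flp_h L54452) (flp_f L54450) L74474
theorem L74482 : sm gd N6904 = N9463 := rfl
theorem L74484 : sm ga N9463 = N6913 := ded_11_1 (flp_d L54517) (flp_a L54454) L74482
theorem L74486 : sm ge N9463 = N9463 := ded_30_2 (flp_d L74482) L54456 L39918 (flp_e L54456) L74482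
theorem L74487 : sm gh N9463 = N9463 := ded_33_2 (flp_d L74482) (flp_h L54452) L39909 L54452 L74482
theorem L74488 : sm gh N6905 = N9464 := rfl
theorem L74490 : sm ga N9464 = N6914 := ded_15_1 (flp_h L54522) (flp_a L54460) L74488
theorem L74492 : sm gf N9464 = N9464 := ded_40_1 (flp_h L74488) L54464 L74488
theorem L74493 : sm gg N9464 = N6906 := ded_42_1 (flp_h L54467) (flp_g L54465) L74488
theorem L74495 : sm gd N6906 = N9465 := rfl
theorem L74497 : sm ga N9465 = N6915 := ded_11_1 (flp_d L54528) (flp_a L54469) L74495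
theorem L74499 : sm gf N9465 = N6907 := ded_31_2 (flp_d L54473) (flp_f L54471) L74495
theorem L74501 : sm gh N9465 = N6928 := ded_33_2 (flp_d L54635) (flp_h L40066) (flp_d L39930) L54467 L74495
theorem L74503 : sm gc N6907 = N9466 := rfl
theorem L74505 : sm ga N9466 = N6916 := ded_10_1 (flp_c L54535) (flp_a L54475) L74503
theorem L74507 : sm ge N9466 = N9466 := ded_25_2 (flp_c L74503) L54478 L74503
theorem L74508 : sm gg N9466 = N9466 := ded_27_2 (flp_c L74503) L54477 L74503
theorem L74509 : sm gh N9466 = N6929 := ded_28_2 (flp_c L54642) (flp_h L54479) L74503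
theorem L74511 : sm gi N6908 = N9467 := rfl
theorem L74513 : sm gb N9467 = N9467 := ded_23_1 (flp_i L74511) L54483 L74511
theorem L74514 : sm gd N9467 = N9467 := ded_34_1 (flp_i L74511) L54484 L74511
theorem L74515 : sm ge N9467 = N9467 := ded_38_1 (flp_i L74511) L54485 L74511
theorem L74516 : sm gf N9467 = N6911 := ded_41_1 (flp_i L54502) (flp_f L54486) L74511
theorem L74518 : sm gg N9467 = N6909 := ded_43_1 (flp_i L54488) L54481 L74511
theorem L74520 : sm gh N6909 = N9468 := rfl
theorem L74522 : sm gb N9468 = N9468 := ded_22_1 (flp_h L74520) L54490 L74520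
theorem L74523 : sm ge N9468 = N9468 := ded_37_1 (flp_h L74520) L54492 L74520
theorem L74524 : sm gf N9468 = N6910 := ded_40_1 (flp_h L54495) (flp_f L54493) L74520
theorem L74526 : sm gd N6910 = N9469 := rfl
theorem L74528 : sm gb N9469 = N9469 := ded_18_1 (flp_d L74526) L54497 L74526
theorem L74529 : sm gg N9469 = N6913 := ded_32_2 (flp_d L54517) (flp_g L54500) L74526
theorem L74531 : sm ge N9469 = N9469 := ded_30_2 (flp_d L74526) L54498 L39960 (flp_e L54498) L74526
theorem L74532 : sm gh N9469 = N9469 := ded_33_2 (flp_d L74526) (flp_h L54495) L39949 L54495 L74526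
theorem L74533 : sm gh N6911 = N9470 := rfl
theorem L74535 : sm gb N9470 = N9470 := ded_22_1 (flp_h L74533) L54504 L74533
theorem L74536 : sm ge N9470 = N6914 := ded_37_1 (flp_h L54522) (flp_e L54506) L74533
theorem L74538 : sm gg N9470 = N6912 := ded_42_1 (flp_h L54510) (flp_g L54508) L74533
theorem L74540 : sm gd N6912 = N9471 := rfl
theorem L74542 : sm gb N9471 = N9471 := ded_18_1 (flp_d L74540) L54512 L74540
theorem L74543 : sm gf N9471 = N6913 := ded_31_2 (flp_d L54517) (flp_f L54515) L74540
theorem L74545 : sm gh N9471 = N9471 := ded_33_2 (flp_d L74540) (flp_h L54510) L39970 L54510 L74540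
theorem L74546 : sm gc N6913 = N9472 := rfl
theorem L74548 : sm ge N9472 = N9472 := ded_25_2 (flp_c L74546) L54520 L74546
theorem L74549 : sm gh N9472 = N9472 := ded_28_2 (flp_c L74546) L54521 L74546
theorem L74550 : sm gd N6914 = N9473 := rfl
theorem L74554 : sm gg N9473 = N6915 := ded_32_2 (flp_d L54528) (flp_g L54526) L74550
theorem L74556 : sm gh N9473 = N6930 := ded_33_2 (flp_d L54650) (flp_h L40082) (flp_d L39983) L54522 L74550
theorem L74558 : sm gc N6915 = N9474 := rfl
theorem L74560 : sm gf N9474 = N6916 := ded_26_2 (flp_c L54535) (flp_f L54531) L74558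
theorem L74562 : sm gh N9474 = N6931 := ded_28_2 (flp_c L54657) (flp_h L54533) L74558
theorem L74564 : sm ge N6915 = N9475 := rfl
theorem L74567 : sm gh N9475 = N6932 := ded_37_2 (flp_e L54663) (flp_h L54533) L74564
theorem L74570 : sm gb N6916 = N9476 := rfl
theorem L74574 : sm gh N9476 = N6933 := ded_22_2 (flp_b L54669) (flp_h L54539) L74570
theorem L74577 : sm ge N6917 = N9477 := rfl
theorem L74579 : sm ga N9477 = N9477 := ded_12_1 (flp_e L74577) L54543 L74577
theorem L74580 : sm gb N9477 = N9477 := ded_19_1 (flp_e L74577) L54544 L74577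
theorem L74581 : sm gd N9477 = N9477 := ded_30_1 (flp_e L74577) L54545 L40013 (flp_d L54545) L74577
theorem L74582 : sm gf N9477 = N9477 := ded_35_2 (flp_e L74577) (flp_f L54541) L40005 L54541 L74577
theorem L74583 : sm gg N6917 = N9478 := rfl
theorem L74585 : sm ga N9478 = N9478 := ded_14_1 (flp_g L74583) L54543 L74583
theorem L74586 : sm gb N9478 = N9478 := ded_21_1 (flp_g L74583) L54544 L74583
theorem L74587 : sm gd N9478 = N6920 := ded_32_1 (flp_g L54562) (flp_d L54545) L74583
theorem L74589 : sm gf N9478 = N9478 := ded_39_1 (flp_g L74583) (flp_f L54541) L40004 L54541 L74583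
theorem L74590 : sm gh N6917 = N9479 := rfl
theorem L74592 : sm ga N9479 = N9479 := ded_15_1 (flp_h L74590) L54543 L74590
theorem L74593 : sm gb N9479 = N9479 := ded_22_1 (flp_h L74590) L54544 L74590
theorem L74594 : sm gf N9479 = N6918 := ded_40_1 (flp_h L54547) L54541 L74590
theorem L74596 : sm gd N9479 = N9479 := ded_33_1 (flp_h L74590) L54545 L40012 (flp_d L54545) L74590
theorem L74597 : sm gi N6917 = N9480 := rfl
theorem L74599 : sm ga N9480 = N9480 := ded_16_1 (flp_i L74597) L54543 L74597
theorem L74600 : sm gb N9480 = N9480 := ded_23_1 (flp_i L74597) L54544 L74597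
theorem L74601 : sm gd N9480 = N6921 := ded_34_1 (flp_i L54571) (flp_d L54545) L74597
theorem L74603 : sm gf N9480 = N6919 := ded_41_1 (flp_i L54554) L54541 L74597
theorem L74605 : sm gi N6918 = N9481 := rfl
theorem L74607 : sm ga N9481 = N9481 := ded_16_1 (flp_i L74605) L54549 L74605
theorem L74608 : sm gb N9481 = N9481 := ded_23_1 (flp_i L74605) L54550 L74605
theorem L74609 : sm gd N9481 = N9481 := ded_34_1 (flp_i L74605) L54553 L74605
theorem L74610 : sm ge N9481 = N9481 := ded_38_1 (flp_i L74605) L54551 L74605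
theorem L74611 : sm gg N9481 = N9481 := ded_43_1 (flp_i L74605) L54552 L74605
theorem L74612 : sm gh N6919 = N9482 := rfl
theorem L74614 : sm ga N9482 = N9482 := ded_15_1 (flp_h L74612) L54556 L74612
theorem L74615 : sm gb N9482 = N9482 := ded_22_1 (flp_h L74612) L54557 L74612
theorem L74616 : sm ge N9482 = N9482 := ded_37_1 (flp_h L74612) L54560 L74612
theorem L74617 : sm gg N9482 = N9482 := ded_42_1 (flp_h L74612) L54561 L74612
theorem L74618 : sm gi N6920 = N9483 := rfl
theorem L74620 : sm ga N9483 = N9483 := ded_16_1 (flp_i L74618) L54564 L74618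
theorem L74621 : sm gb N9483 = N9483 := ded_23_1 (flp_i L74618) L54565 L74618
theorem L74622 : sm gc N9483 = N6924 := ded_29_1 (flp_i L54599) (flp_c L54566) L74618
theorem L74624 : sm ge N9483 = N9483 := ded_38_1 (flp_i L74618) L54568 L74618
theorem L74625 : sm gf N9483 = N9483 := ded_41_1 (flp_i L74618) L54570 L74618
theorem L74626 : sm gg N9483 = N6921 := ded_43_1 (flp_i L54571) L54562 L74618
theorem L74628 : sm gh N6921 = N9484 := rfl
theorem L74630 : sm ga N9484 = N9484 := ded_15_1 (flp_h L74628) L54573 L74628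
theorem L74631 : sm gb N9484 = N9484 := ded_22_1 (flp_h L74628) L54574 L74628
theorem L74632 : sm gc N9484 = N6925 := ded_28_1 (flp_h L54608) (flp_c L54575) L74628
theorem L74634 : sm ge N9484 = N9484 := ded_37_1 (flp_h L74628) L54577 L74628
theorem L74635 : sm gf N9484 = N6922 := ded_40_1 (flp_h L54580) (flp_f L54578) L74628
theorem L74637 : sm gi N9484 = N9484 := ded_44_2 (flp_h L74628) (flp_i L54571) L40012 L54571 L74628
theorem L74638 : sm gd N6922 = N9485 := rfl
theorem L74640 : sm ga N9485 = N9485 := ded_11_1 (flp_d L74638) L54582 L74638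
theorem L74641 : sm gb N9485 = N9485 := ded_18_1 (flp_d L74638) L54583 L74638
theorem L74642 : sm gg N9485 = N9485 := ded_32_2 (flp_d L74638) L54588 L74638
theorem L74643 : sm gi N9485 = N9485 := ded_34_2 (flp_d L74638) L54589 L74638
theorem L74644 : sm ge N6923 = N9486 := rfl
theorem L74646 : sm ga N9486 = N9486 := ded_12_1 (flp_e L74644) L54592 L74644
theorem L74647 : sm gb N9486 = N9486 := ded_19_1 (flp_e L74644) L54593 L74644
theorem L74648 : sm gc N9486 = N9486 := ded_25_1 (flp_e L74644) L54597 L74644
theorem L74649 : sm gg N9486 = N9486 := ded_36_2 (flp_e L74644) L54595 L74644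
theorem L74650 : sm gh N9486 = N9486 := ded_37_2 (flp_e L74644) L54598 L74644
theorem L74651 : sm gi N9486 = N9486 := ded_38_2 (flp_e L74644) L54596 L74644
theorem L74652 : sm gh N6924 = N9487 := rfl
theorem L74654 : sm ga N9487 = N9487 := ded_15_1 (flp_h L74652) L54601 L74652
theorem L74655 : sm gb N9487 = N6927 := ded_22_1 (flp_h L54625) (flp_b L54602) L74652
theorem L74657 : sm ge N9487 = N9487 := ded_37_1 (flp_h L74652) L54604 L74652
theorem L74658 : sm gf N9487 = N9487 := ded_40_1 (flp_h L74652) L54605 L74652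
theorem L74659 : sm gg N9487 = N6925 := ded_42_1 (flp_h L54608) (flp_g L54606) L74652
theorem L74661 : sm gi N9487 = N9487 := ded_44_2 (flp_h L74652) (flp_i L54599) L40038 L54599 L74652
theorem L74662 : sm gd N6925 = N9488 := rfl
theorem L74664 : sm ga N9488 = N9488 := ded_11_1 (flp_d L74662) L54610 L74662
theorem L74665 : sm gb N9488 = N6928 := ded_18_1 (flp_d L54635) (flp_b L54611) L74662
theorem L74667 : sm gf N9488 = N6926 := ded_31_2 (flp_d L54617) (flp_f L54614) L74662
theorem L74669 : sm gi N9488 = N9488 := ded_34_2 (flp_d L74662) L54616 L74662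
theorem L74670 : sm gc N6926 = N9489 := rfl
theorem L74672 : sm ga N9489 = N9489 := ded_10_1 (flp_c L74670) L54619 L74670
theorem L74673 : sm ge N9489 = N9489 := ded_25_2 (flp_c L74670) L54624 L74670
theorem L74674 : sm gg N9489 = N9489 := ded_27_2 (flp_c L74670) L54622 L74670
theorem L74675 : sm gi N9489 = N9489 := ded_29_2 (flp_c L74670) L54623 L74670
theorem L74676 : sm gd N6927 = N9490 := rfl
theorem L74678 : sm ga N9490 = N6930 := ded_11_1 (flp_d L54650) (flp_a L54627) L74676
theorem L74681 : sm gg N9490 = N6928 := ded_32_2 (flp_d L54635) (flp_g L54632) L74676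
theorem L74684 : sm gc N6928 = N9491 := rfl
theorem L74686 : sm ga N9491 = N6931 := ded_10_1 (flp_c L54657) (flp_a L54637) L74684
theorem L74688 : sm gf N9491 = N6929 := ded_26_2 (flp_c L54642) (flp_f L54639) L74684
theorem L74692 : sm ge N6928 = N9492 := rfl
theorem L74694 : sm ga N9492 = N6932 := ded_12_1 (flp_e L54663) (flp_a L54637) L74692
theorem L74699 : sm gb N6929 = N9493 := rfl
theorem L74701 : sm gd N9493 = N9493 := ded_18_2 (flp_b L74699) L54649 L74699
theorem L74702 : sm ge N9493 = N9493 := ded_19_2 (flp_b L74699) L54646 L74699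
theorem L74703 : sm gg N9493 = N9493 := ded_21_2 (flp_b L74699) L54647 L74699
theorem L74704 : sm gi N9493 = N9493 := ded_23_2 (flp_b L74699) L54648 L74699
theorem L74748 : sm gh N6934 = N9500 := rfl
theorem L74752 : sm gc N9500 = N6936 := ded_28_1 (flp_h L54691) L54676 L74748
theorem L74755 : sm gf N6935 = N9501 := rfl
theorem L74760 : sm gd N9501 = N6937 := ded_31_1 (flp_f L54697) (flp_d L54688) L74755
theorem L74777 : sm gi N6936 = N9504 := rfl
theorem L74780 : sm gb N9504 = N6951 := ded_23_1 (flp_i L54807) (flp_b L54694) L74777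
theorem L74889 : sm gh N6946 = N9518 := rfl
theorem L74895 : sm ge N9518 = N6947 := ded_37_1 (flp_h L54779) (flp_e L54777) L74889
theorem L74897 : sm gd N9518 = N9518 := ded_33_1 (flp_h L74889) (flp_d L57543) L57547 L57543 L74889
theorem L74920 : sm gi N6949 = N9522 := rfl
theorem L74922 : sm ga N9522 = N6976 := ded_16_1 (flp_i L55005) (flp_a L54795) L74920
theorem L74926 : sm gg N9522 = N6951 := ded_43_1 (flp_i L54807) (flp_g L54799) L74920
theorem L74954 : sm gi N6952 = N9527 := rfl
theorem L74956 : sm ga N9527 = N6981 := ded_16_1 (flp_i L55033) (flp_a L54815) L74954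
theorem L75020 : sm gh N6957 = N9536 := rfl
theorem L75022 : sm ga N9536 = N6990 := ded_15_1 (flp_h L55089) (flp_a L54851) L75020
theorem L75103 : sm ge N6966 = N9546 := rfl
theorem L75110 : sm gf N9546 = N7047 := ded_35_2 (flp_e L55548) L40715 (flp_e L40283) (flp_f L54931) L75103
theorem L75141 : sm gh N6969 = N9550 := rfl
theorem L75149 : sm gg N9550 = N6972 := ded_42_1 (flp_h L54978) (flp_g L54961) L75141
theorem L75249 : sm gh N6979 = N9565 := rfl
theorem L75252 : sm gi N9565 = N6990 := ded_44_2 (flp_h L55089) (flp_i L40366) (flp_h L40329) L55023 L75249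
theorem L75298 : sm gi N6983 = N9573 := rfl
theorem L75301 : sm gd N9573 = N6992 := ded_34_1 (flp_i L55098) (flp_d L55051) L75298
theorem L75303 : sm ge N9573 = N6984 := ded_38_1 (flp_i L55053) L55046 L75298
theorem L75305 : sm gg N9573 = N6989 := ded_43_1 (flp_i L55082) (flp_g L55049) L75298
theorem L75349 : sm gg N6988 = N9581 := rfl
theorem L75352 : sm gd N9581 = N6994 := ded_32_1 (flp_g L55115) (flp_d L55080) L75349
theorem L75354 : sm gi N6988 = N9582 := rfl
theorem L75359 : sm gf N9582 = N6989 := ded_41_1 (flp_i L55082) L55077 L75354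
theorem L75374 : sm gi N6991 = N9585 := rfl
theorem L75379 : sm gf N9585 = N6992 := ded_41_1 (flp_i L55098) L55092 L75374
theorem L75381 : sm gh N6992 = N9586 := rfl
theorem L75384 : sm gc N9586 = N7087 := ded_28_1 (flp_h L55848) (flp_c L55101) L75381
theorem L75388 : sm gg N9586 = N6996 := ded_42_1 (flp_h L55132) (flp_g L55105) L75381
theorem L75391 : sm gi N6994 = N9587 := rfl
theorem L75396 : sm ge N9587 = N6997 := ded_38_1 (flp_i L55140) (flp_e L55120) L75391
theorem L75400 : sm gh N6995 = N9588 := rfl
theorem L75405 : sm ge N9588 = N6998 := ded_37_1 (flp_h L55147) (flp_e L55128) L75400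
theorem L75407 : sm gf N9588 = N6996 := ded_40_1 (flp_h L55132) (flp_f L55130) L75400
theorem L75414 : sm gh N6997 = N9590 := rfl
theorem L75419 : sm gg N9590 = N6998 := ded_42_1 (flp_h L55147) (flp_g L55145) L75414
theorem L75467 : sm gi N7002 = N9597 := rfl
theorem L75471 : sm gc N9597 = N7014 := ded_29_1 (flp_i L55273) (flp_c L55183) L75467
theorem L75475 : sm gg N9597 = N7006 := ded_43_1 (flp_i L55209) (flp_g L55180) L75467
theorem L75583 : sm gd N7015 = N9611 := rfl
theorem L75587 : sm gg N9611 = N7018 := ded_32_2 (flp_d L55309) (flp_g L55290) L75583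
theorem L75606 : sm ge N7018 = N9614 := rfl
theorem L75612 : sm gd N9614 = N7116 := ded_30_1 (flp_e L56077) (flp_d L41109) (flp_e L40555) L55309 L75606
theorem L75644 : sm gc N7021 = N9618 := rfl
theorem L75650 : sm gh N9618 = N7028 := ded_28_2 (flp_c L55395) (flp_h L55340) L75644
theorem L75663 : sm gi N7021 = N9620 := rfl
theorem L75670 : sm gg N9620 = N7025 := ded_43_1 (flp_i L55368) (flp_g L55338) L75663
theorem L75712 : sm gh N7025 = N9626 := rfl
theorem L75719 : sm gi N9626 = N7036 := ded_44_2 (flp_h L55459) (flp_i L40637) (flp_h L40583) L55368 L75712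
theorem L75761 : sm gi N7028 = N9632 := rfl
theorem L75769 : sm gg N9632 = N7033 := ded_43_1 (flp_i L55433) (flp_g L55399) L75761
theorem L75771 : sm gf N7029 = N9633 := rfl
theorem L75773 : sm ga N9633 = N7073 := ded_13_1 (flp_f L55752) (flp_a L55405) L75771
theorem L75776 : sm gd N9633 = N7037 := ded_31_1 (flp_f L55466) (flp_d L55410) L75771
theorem L75825 : sm gi N7032 = N9640 := rfl
theorem L75827 : sm ga N9640 = N7080 := ded_16_1 (flp_i L55802) (flp_a L55429) L75825
theorem L75831 : sm ge N9640 = N7033 := ded_38_1 (flp_i L55433) L55427 L75825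
theorem L75858 : sm gh N7035 = N9644 := rfl
theorem L75860 : sm ga N9644 = N7084 := ded_15_1 (flp_h L55829) (flp_a L55452) L75858
theorem L75863 : sm ge N9644 = N7036 := ded_37_1 (flp_h L55459) (flp_e L55457) L75858
theorem L75865 : sm gg N7037 = N9645 := rfl
theorem L75871 : sm gf N9645 = N7040 := ded_39_1 (flp_g L55490) (flp_f L40662) (flp_g L40650) L55466 L75865
theorem L75890 : sm gi N7040 = N9648 := rfl
theorem L75895 : sm ge N9648 = N7043 := ded_38_1 (flp_i L55515) (flp_e L55495) L75890
theorem L75899 : sm gh N7041 = N9649 := rfl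
theorem L75904 : sm ge N9649 = N7044 := ded_37_1 (flp_h L55523) (flp_e L55503) L75899
theorem L75906 : sm gf N9649 = N7042 := ded_40_1 (flp_h L55507) (flp_f L55505) L75899
theorem L75916 : sm gh N7043 = N9651 := rfl
theorem L75921 : sm gg N9651 = N7044 := ded_42_1 (flp_h L55523) (flp_g L55521) L75916
theorem L75959 : sm gi N7047 = N9656 := rfl
theorem L75965 : sm ge N9656 = N7048 := ded_38_1 (flp_i L55556) L55548 L75959
theorem L75968 : sm gh N7048 = N9657 := rfl
theorem L75970 : sm ga N9657 = N7097 := ded_15_1 (flp_h L55924) (flp_a L55558) L75968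
theorem L75979 : sm ga N7049 = N9658 := rfl
theorem L75983 : sm gg N9658 = N7052 := ded_14_2 (flp_a L55592) (flp_g L55569) L75979
theorem L75986 : sm gb N9658 = N7098 := ded_9_2 (flp_a L55933) (flp_b L40985) (flp_a L40731) L55567 L75979
theorem L76005 : sm gi N7052 = N9661 := rfl
theorem L76011 : sm gc N9661 = N7444 := ded_29_1 (flp_i L58722) (flp_c L55594) L76005
theorem L76035 : sm gi N7055 = N9665 := rfl
theorem L76040 : sm ge N9665 = N7057 := ded_38_1 (flp_i L55633) (flp_e L55620) L76035
theorem L76159 : sm gh N7063 = N9681 := rfl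
theorem L76164 : sm gi N9681 = N7081 := ded_44_2 (flp_h L55808) (flp_i L40871) (flp_h L40804) L55680 L76159
theorem L76190 : sm gb N7067 = N9685 := rfl
theorem L76192 : sm gd N9685 = N7093 := ded_18_2 (flp_b L55896) (flp_d L55714) L76190
theorem L76194 : sm gf N9685 = N7070 := ded_20_2 (flp_b L55730) (flp_f L55711) L76190
theorem L76250 : sm gi N7070 = N9693 := rfl
theorem L76258 : sm gg N9693 = N7078 := ded_43_1 (flp_i L55788) (flp_g L55734) L76250
theorem L76278 : sm gg N7073 = N9697 := rfl
theorem L76284 : sm gf N9697 = N7082 := ded_39_1 (flp_g L55813) (flp_f L40878) (flp_g L40848) L55752 L76278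
theorem L76332 : sm gh N7078 = N9704 := rfl
theorem L76334 : sm gb N9704 = N7081 := ded_22_1 (flp_h L55808) (flp_b L55790) L76332
theorem L76372 : sm gh N7083 = N9710 := rfl
theorem L76374 : sm gb N9710 = N7163 := ded_22_1 (flp_h L56421) (flp_b L55822) L76372
theorem L76377 : sm gf N9710 = N7084 := ded_40_1 (flp_h L55829) (flp_f L55827) L76372
theorem L76446 : sm ga N7093 = N9720 := rfl
theorem L76450 : sm gf N9720 = N7098 := ded_13_2 (flp_a L55933) (flp_f L55898) L76446
theorem L76481 : sm gh N7095 = N9725 := rfl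
theorem L76483 : sm gc N9725 = N7097 := ded_28_1 (flp_h L55924) (flp_c L55912) L76481
theorem L76557 : sm gd N7105 = N9735 := rfl
theorem L76562 : sm ge N9735 = N7189 := ded_30_2 (flp_d L56635) (flp_e L41507) (flp_d L41027) L55985 L76557
theorem L76564 : sm gi N7105 = N9736 := rfl
theorem L76568 : sm ge N9736 = N7106 := ded_38_1 (flp_i L55991) L55985 L76564
theorem L76571 : sm gh N7106 = N9737 := rfl
theorem L76575 : sm gf N9737 = N7112 := ded_40_1 (flp_h L56044) (flp_f L55997) L76571
theorem L76579 : sm gh N7107 = N9738 := rfl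
theorem L76581 : sm ga N9738 = N7465 := ded_15_1 (flp_h L58880) (flp_a L56002) L76579
theorem L76583 : sm ge N9738 = N7192 := ded_37_1 (flp_h L56658) (flp_e L56005) L76579
theorem L76587 : sm gi N7107 = N9739 := rfl
theorem L76591 : sm gd N9739 = N7108 := ded_34_1 (flp_i L56007) L56000 L76587
theorem L76593 : sm ge N9739 = N7193 := ded_38_1 (flp_i L56666) (flp_e L56005) L76587
theorem L76676 : sm gf N7116 = N9749 := rfl
theorem L76678 : sm ga N9749 = N7476 := ded_13_1 (flp_f L58961) (flp_a L56079) L76676
theorem L76732 : sm gf N7120 = N9756 := rfl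
theorem L76735 : sm gh N9756 = N7141 := ded_40_2 (flp_f L56267) (flp_h L56114) L76732
theorem L76739 : sm gi N7120 = N9757 := rfl
theorem L76742 : sm ge N9757 = N7121 := ded_38_1 (flp_i L56116) L56110 L76739
theorem L76745 : sm gh N7121 = N9758 := rfl
theorem L76752 : sm gi N9758 = N7143 := ded_44_2 (flp_h L56278) (flp_i L41222) (flp_h L41133) L56116 L76745
theorem L76893 : sm gg N7132 = N9777 := rfl
theorem L76896 : sm gc N9777 = N7135 := ded_27_1 (flp_g L56223) (flp_c L56203) L76893
theorem L76942 : sm gd N7137 = N9783 := rfl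
theorem L76945 : sm gi N9783 = N7164 := ded_34_2 (flp_d L56427) (flp_i L56242) L76942
theorem L76971 : sm gd N7139 = N9787 := rfl
theorem L76975 : sm ge N9787 = N7177 := ded_30_2 (flp_d L56527) (flp_e L41406) (flp_d L41216) L56251 L76971
theorem L76984 : sm gi N7139 = N9789 := rfl
theorem L76989 : sm ge N9789 = N7140 := ded_38_1 (flp_i L56257) L56251 L76984
theorem L77006 : sm gi N7141 = N9792 := rfl
theorem L77009 : sm ge N9792 = N7151 := ded_38_1 (flp_i L56337) (flp_e L56270) L77006
theorem L77103 : sm gd N7152 = N9805 := rfl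
theorem L77106 : sm gg N9805 = N7164 := ded_32_2 (flp_d L56427) (flp_g L56349) L77103
theorem L77109 : sm gh N9805 = N7167 := ded_33_2 (flp_d L56448) (flp_h L41344) (flp_d L41261) L56344 L77103
theorem L77168 : sm gh N7159 = N9814 := rfl
theorem L77171 : sm gc N9814 = N7163 := ded_28_1 (flp_h L56421) (flp_c L56393) L77168
theorem L77214 : sm gd N7166 = N9821 := rfl
theorem L77217 : sm gf N9821 = N7167 := ded_31_2 (flp_d L56448) (flp_f L56445) L77214
theorem L77315 : sm gh N7176 = N9834 := rfl
theorem L77324 : sm gi N9834 = N7659 := ded_44_2 (flp_h L60375) (flp_i L44257) (flp_h L41402) L56518 L77315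
theorem L77333 : sm gi N7177 = N9836 := rfl
theorem L77336 : sm gd N9836 = N7178 := ded_34_1 (flp_i L56532) L56527 L77333
theorem L77340 : sm gh N7178 = N9837 := rfl
theorem L77349 : sm gi N9837 = N7662 := ded_44_2 (flp_h L60398) (flp_i L44272) (flp_h L41412) L56532 L77340
theorem L77438 : sm gi N7187 = N9848 := rfl
theorem L77442 : sm gb N9848 = N7478 := ded_23_1 (flp_i L58974) (flp_b L56620) L77438
theorem L77444 : sm ge N9848 = N7188 := ded_38_1 (flp_i L56626) L56616 L77438
theorem L77463 : sm gh N7189 = N9851 := rfl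
theorem L77469 : sm gd N9851 = N7676 := ded_33_1 (flp_h L60503) (flp_d L44360) (flp_h L41512) L56635 L77463
theorem L77512 : sm gd N7194 = N9857 := rfl
theorem L77514 : sm ga N9857 = N7487 := ded_11_1 (flp_d L59044) (flp_a L56676) L77512
theorem L77620 : sm gh N7204 = N9870 := rfl
theorem L77624 : sm gc N9870 = N7206 := ded_28_1 (flp_h L56784) L56765 L77620
theorem L77629 : sm gd N7511 = N9870 := ded_46_3 L77624 L56787 L41689 (flp_h L30667) L22540 L16929 (flp_d L12847) L9485 L7022 L5211 L5213 L5215 (flp_e L5209) L3868 L2866 (flp_b L2761) (flp_a L3567) L3571 (flp_f L2669) (flp_e L1986) (flp_d L1462) L1063 L1062 L1060 (flp_h L789) L542 L540 L378 L377 L375 L261 L395 L400 L304 L428 L433 (flp_b L602) (flp_a L839) L844 (flp_f L1073) L1478 (flp_d L1992) (flp_c L2666) (flp_b L3584) (flp_a L4806) (flp_h L6454) L8684 L8693 (flp_d L11776) (flp_c L15944) (flp_b L21664) L21663 L29434 L29441 (flp_e L22692) L30871 L42116 L42121 L42118 L42119 (flp_f L43418) L59228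
theorem L77631 : sm gi N9870 = N9870 := ded_34_2 (flp_d L77629) L59234 L77629
theorem L77634 : N9500 = N6934 := coi_44_4 (flp_i L56771) L77620 L77631 (flp_h L77620) L56771 L74748
theorem L77635 : N9500 = N6934 := eqc rfl L77634 rfl
theorem L77638 : sm gc N6934 = N6936 := trfs L77635 L74752 rfl
theorem L77639 : N6936 = N5072 := eqes L77638 (flp_c L54676)
theorem L77640 : N6936 = N5072 := eqc rfl L77639 rfl
theorem L77658 : sm gi N5072 = N9504 := trfs L77640 L74777 rfl
theorem L77659 : N9504 = N5267 := eqes L77658 (flp_i L41618)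
theorem L77660 : N9504 = N5267 := eqc rfl L77659 rfl
theorem L77662 : sm gb N5267 = N6951 := trfs L77660 L74780 rfl
theorem L77663 : N6951 = N3860 := eqes L77662 L41614
theorem L77664 : N6951 = N3860 := eqc rfl L77663 rfl
theorem L77677 : sm gg N3860 = N9522 := trfs L77664 (flp_g L74926) rfl
theorem L77678 : N9522 = N5275 := eqes L77677 L41677
theorem L77679 : N9522 = N5275 := eqc rfl L77678 rfl
theorem L77680 : sm gh N3860 = N7221 := trfs L77664 (flp_h L56919) rfl
theorem L77681 : N7221 = N5276 := eqes L77680 L41687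
theorem L77682 : N7221 = N5276 := eqc rfl L77681 rfl
theorem L77689 : sm gf N5276 = N5390 := trfs L77682 L56917 rfl
theorem L77690 : N5390 = N3943 := eqes L77689 L41693
theorem L77691 : N5390 = N3943 := eqc rfl L77690 rfl
theorem L77706 : sm gg N3943 = N7376 := trfs L77691 (flp_g L58231) rfl
theorem L77707 : N7376 = N5388 := eqes L77706 (flp_g L42644)
theorem L77708 : N7376 = N5388 := eqc rfl L77707 rfl
theorem L77715 : sm ge N5388 = N5540 := trfs L77708 L58229 rfl
theorem L77716 : N5540 = N4060 := eqes L77715 L42642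
theorem L77717 : N5540 = N4060 := eqc rfl L77716 rfl
theorem L77731 : sm gh N4060 = N7519 := trfs L77717 (flp_h L59296) rfl
theorem L77732 : N7519 = N2978 := eqes L77731 (flp_h L32136)
theorem L77733 : N7519 = N2978 := eqc rfl L77732 rfl
theorem L77742 : sm gi N2978 = N5498 := trfs L77733 (flp_i L59289) rfl
theorem L77743 : N5498 = N4026 := eqes L77742 (flp_i L31887)
theorem L77744 : N5498 = N4026 := eqc rfl L77743 rfl
theorem L77745 : sm ga N4026 = N4038 := trfs L77744 L43455 rfl
theorem L77746 : N4038 = N2962 := eqes L77745 L31882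
theorem L77747 : N4038 = N2962 := eqc rfl L77746 rfl
theorem L77748 : sm gb N4026 = N7502 := trfs L77744 (flp_b L59160) rfl
theorem L77749 : N7502 = N5487 := eqes L77748 (flp_b L43368)
theorem L77750 : N7502 = N5487 := eqc rfl L77749 rfl
theorem L77758 : sm gf N4026 = N7517 := trfs L77744 (flp_f L59278) rfl
theorem L77759 : N7517 = N5497 := eqes L77758 L43443
theorem L77760 : N7517 = N5497 := eqc rfl L77759 rfl
theorem L77761 : sm gg N4026 = N4027 := trfs L77744 L43458 rfl
theorem L77762 : N4027 = N2953 := eqes L77761 (flp_g L31880)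
theorem L77763 : N4027 = N2953 := eqc rfl L77762 rfl
theorem L77764 : sm gh N4026 = N4026 := trfs L77744 (flp_h L43453) rfl
theorem L77765 : sm ga N2953 = N2963 := trfs L77763 L31891 rfl
theorem L77766 : N2963 = N2175 := eqes L77765 L23434
theorem L77767 : N2963 = N2175 := eqc rfl L77766 rfl
theorem L77768 : sm gb N2953 = N5488 := trfs L77763 (flp_b L43377) rfl
theorem L77769 : N5488 = N4019 := eqes L77768 (flp_b L31825)
theorem L77770 : N5488 = N4019 := eqc rfl L77769 rfl
theorem L77775 : sm ge N2953 = N5331 := trfs L77763 (flp_e L42157) rfl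
theorem L77776 : N5331 = N3900 := eqes L77775 (flp_e L30898)
theorem L77777 : N5331 = N3900 := eqc rfl L77776 rfl
theorem L77779 : sm gh N2953 = N2953 := trfs L77763 (flp_h L31889) rfl
theorem L77786 : sm gd N3900 = N7298 := trfs L77777 L57568 rfl
theorem L77787 : N7298 = N2857 := eqes L77786 (flp_d L30889)
theorem L77788 : N7298 = N2857 := eqc rfl L77787 rfl
theorem L77799 : sm gh N2857 = N5334 := trfs L77788 L57574 rfl
theorem L77800 : N5334 = N3902 := eqes L77799 L30910
theorem L77801 : N5334 = N3902 := eqc rfl L77800 rfl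
theorem L77821 : sm gi N3902 = N7305 := trfs L77801 L57629 rfl
theorem L77822 : N7305 = N5335 := eqes L77821 L42187
theorem L77823 : N7305 = N5335 := eqc rfl L77822 rfl
theorem L77828 : sm gf N5335 = N6957 := trfs L77823 L57635 rfl
theorem L77829 : N6957 = N5085 := eqes L77828 L42195
theorem L77830 : N6957 = N5085 := eqc rfl L77829 rfl
theorem L77847 : sm gh N5085 = N9536 := trfs L77830 L75020 rfl
theorem L77848 : N9536 = N5280 := eqes L77847 (flp_h L41731)
theorem L77849 : N9536 = N5280 := eqc rfl L77848 rfl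
theorem L77851 : sm ga N5280 = N6990 := trfs L77849 L75022 rfl
theorem L77852 : N6990 = N3877 := eqes L77851 L41723
theorem L77853 : N6990 = N3877 := eqc rfl L77852 rfl
theorem L77871 : sm gi N3877 = N9565 := trfs L77853 (flp_i L75252) rfl
theorem L77872 : N9565 = N2840 := eqes L77871 (flp_i L30697)
theorem L77873 : N9565 = N2840 := eqc rfl L77872 rfl
theorem L77875 : sm gh N2840 = N6979 := trfs L77873 (flp_h L75249) rfl
theorem L77876 : N6979 = N2080 := eqes L77875 (flp_h L22555)
theorem L77877 : N6979 = N2080 := eqc rfl L77876 rfl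
theorem L77893 : sm gi N2080 = N5100 := trfs L77877 (flp_i L55023) rfl
theorem L77894 : N5100 = N2007 := eqes L77893 L16557
theorem L77895 : N5100 = N2007 := eqc rfl L77894 rfl
theorem L77911 : sm gh N2007 = N3735 := trfs L77895 L40329 rfl
theorem L77912 : N3735 = N2739 := eqes L77911 L21759
theorem L77913 : N3735 = N2739 := eqc rfl L77912 rfl
theorem L77924 : sm gg N2739 = N5103 := trfs L77913 (flp_g L40346) rfl
theorem L77925 : N5103 = N3734 := eqes L77924 (flp_g L29587)
theorem L77926 : N5103 = N3734 := eqc rfl L77925 rfl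
theorem L77943 : sm gi N3734 = N6984 := trfs L77926 L55053 rfl
theorem L77944 : N6984 = N5104 := eqes L77943 L40348
theorem L77945 : N6984 = N5104 := eqc rfl L77944 rfl
theorem L77952 : sm ge N5104 = N9573 := trfs L77945 (flp_e L75303) rfl
theorem L77953 : N9573 = N3738 := eqes L77952 L40353
theorem L77954 : N9573 = N3738 := eqc rfl L77953 rfl
theorem L77964 : sm gd N3738 = N6992 := trfs L77954 L75301 rfl
theorem L77965 : N6992 = N5109 := eqes L77964 (flp_d L40384)
theorem L77966 : N6992 = N5109 := eqc rfl L77965 rfl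
theorem L77967 : sm gg N3738 = N6989 := trfs L77954 L75305 rfl
theorem L77968 : N6989 = N2742 := eqes L77967 L29612
theorem L77969 : N6989 = N2742 := eqc rfl L77968 rfl
theorem L77980 : sm gf N2742 = N9582 := trfs L77969 (flp_f L75359) rfl
theorem L77981 : N9582 = N2011 := eqes L77980 L21786
theorem L77982 : N9582 = N2011 := eqc rfl L77981 rfl
theorem L77989 : sm gi N2011 = N6988 := trfs L77982 (flp_i L75354) rfl
theorem L77990 : N6988 = N1476 := eqes L77989 (flp_i L16010)
theorem L77991 : N6988 = N1476 := eqc rfl L77990 rfl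
theorem L78006 : sm gg N1476 = N9581 := trfs L77991 L75349 rfl
theorem L78007 : N9581 = N1670 := eqes L78006 (flp_g L13297)
theorem L78008 : N9581 = N1670 := eqc rfl L78007 rfl
theorem L78016 : sm gd N1670 = N6994 := trfs L78008 L75352 rfl
theorem L78017 : N6994 = N2274 := eqes L78016 L18048
theorem L78018 : N6994 = N2274 := eqc rfl L78017 rfl
theorem L78034 : sm gi N2274 = N9587 := trfs L78018 L75391 rfl
theorem L78035 : N9587 = N3097 := eqes L78034 L24533
theorem L78036 : N9587 = N3097 := eqc rfl L78035 rfl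
theorem L78041 : sm ge N3097 = N6997 := trfs L78036 L75396 rfl
theorem L78042 : N6997 = N4224 := eqes L78041 (flp_e L33404)
theorem L78043 : N6997 = N4224 := eqc rfl L78042 rfl
theorem L78061 : sm gh N4224 = N9590 := trfs L78043 L75414 rfl
theorem L78062 : N9590 = N5768 := eqes L78061 L45519
theorem L78063 : N9590 = N5768 := eqc rfl L78062 rfl
theorem L78070 : sm gg N5768 = N6998 := trfs L78063 L75419 rfl
theorem L78071 : N6998 = N5115 := eqes L78070 L45526
theorem L78072 : N6998 = N5115 := eqc rfl L78071 rfl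
theorem L78082 : sm ge N5115 = N9588 := trfs L78072 (flp_e L75405) rfl
theorem L78083 : N9588 = N3743 := eqes L78082 L40429
theorem L78084 : N9588 = N3743 := eqc rfl L78083 rfl
theorem L78092 : sm gf N3743 = N6996 := trfs L78084 L75407 rfl
theorem L78093 : N6996 = N5112 := eqes L78092 (flp_f L40408)
theorem L78094 : N6996 = N5112 := eqc rfl L78093 rfl
theorem L78108 : sm gg N5112 = N9586 := trfs L78094 (flp_g L75388) rfl
theorem L78109 : N9586 = N6993 := eqes L78108 (flp_g L55112)
theorem L78110 : N9586 = N6993 := eqc rfl L78109 rfl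
theorem L78114 : sm gc N6993 = N7087 := trfs L78110 L75384 rfl
theorem L78115 : N7087 = N5177 := eqes L78114 L55110
theorem L78116 : N7087 = N5177 := eqc rfl L78115 rfl
theorem L78134 : sm gh N5177 = N5176 := trfs L78116 (flp_h L55848) rfl
theorem L78135 : N5176 = N3785 := eqes L78134 (flp_h L40912)
theorem L78136 : N5176 = N3785 := eqc rfl L78135 rfl
theorem L78155 : sm gi N3785 = N3784 := trfs L78136 (flp_i L40904) rfl
theorem L78156 : N3784 = N2774 := eqes L78155 (flp_i L29977)
theorem L78157 : N3784 = N2774 := eqc rfl L78156 rfl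
theorem L78174 : sm gg N2774 = N2776 := trfs L78157 L29974 rfl
theorem L78175 : N2776 = N2034 := eqes L78174 L22045
theorem L78176 : N2776 = N2034 := eqc rfl L78175 rfl
theorem L78191 : sm gf N2034 = N3786 := trfs L78176 L29985 rfl
theorem L78192 : N3786 = N1494 := eqes L78191 L16198
theorem L78193 : N3786 = N1494 := eqc rfl L78192 rfl
theorem L78211 : sm gi N1494 = N5179 := trfs L78193 L40927 rfl
theorem L78212 : N5179 = N2037 := eqes L78211 L16216
theorem L78213 : N5179 = N2037 := eqc rfl L78212 rfl
theorem L78224 : sm ge N2037 = N3790 := trfs L78213 L40931 rfl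
theorem L78225 : N3790 = N2779 := eqes L78224 (flp_e L22081)
theorem L78226 : N3790 = N2779 := eqc rfl L78225 rfl
theorem L78233 : sm gb N2779 = N2809 := trfs L78226 L30014 rfl
theorem L78234 : N2809 = N2059 := eqes L78233 L22078
theorem L78235 : N2809 = N2059 := eqc rfl L78234 rfl
theorem L78253 : sm gi N2059 = N2058 := trfs L78235 (flp_i L22293) rfl
theorem L78254 : N2058 = N1511 := eqes L78253 (flp_i L16379)
theorem L78255 : N2058 = N1511 := eqc rfl L78254 rfl
theorem L78262 : sm gg N1511 = N2808 := trfs L78255 L22287 rfl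
theorem L78263 : N2808 = N1719 := eqes L78262 (flp_g L13699)
theorem L78264 : N2808 = N1719 := eqc rfl L78263 rfl
theorem L78275 : sm gf N1719 = N3190 := trfs L78264 (flp_f L25286) rfl
theorem L78276 : N3190 = N2343 := eqes L78275 L18613
theorem L78277 : N3190 = N2343 := eqc rfl L78276 rfl
theorem L78291 : sm gi N2343 = N4357 := trfs L78277 L34438 rfl
theorem L78292 : N4357 = N3191 := eqes L78291 L25288
theorem L78293 : N4357 = N3191 := eqc rfl L78292 rfl
theorem L78305 : sm gh N3191 = N5954 := trfs L78293 L46949 rfl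
theorem L78306 : N5954 = N4358 := eqes L78305 L34447
theorem L78307 : N5954 = N4358 := eqc rfl L78306 rfl
theorem L78319 : sm gf N4358 = N5240 := trfs L78307 L46953 rfl
theorem L78320 : N5240 = N3192 := eqes L78319 L34451
theorem L78321 : N5240 = N3192 := eqc rfl L78320 rfl
theorem L78330 : sm ge N3192 = N7168 := trfs L78321 (flp_e L56459) rfl
theorem L78331 : N7168 = N2345 := eqes L78330 L25299
theorem L78332 : N7168 = N2345 := eqc rfl L78331 rfl
theorem L78350 : sm gh N2345 = N5237 := trfs L78332 (flp_h L56455) rfl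
theorem L78351 : N5237 = N1720 := eqes L78350 (flp_h L18628)
theorem L78352 : N5237 = N1720 := eqc rfl L78351 rfl
theorem L78361 : sm gf N1720 = N7165 := trfs L78352 (flp_f L56437) rfl
theorem L78362 : N7165 = N2342 := eqes L78361 (flp_f L18611)
theorem L78363 : N7165 = N2342 := eqc rfl L78362 rfl
theorem L78381 : sm gi N2342 = N5234 := trfs L78363 (flp_i L56433) rfl
theorem L78382 : N5234 = N1717 := eqes L78381 (flp_i L18605)
theorem L78383 : N5234 = N1717 := eqc rfl L78382 rfl
theorem L78396 : sm gg N1717 = N3826 := trfs L78383 (flp_g L41331) rfl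
theorem L78397 : N3826 = N2339 := eqes L78396 (flp_g L18586)
theorem L78398 : N3826 = N2339 := eqc rfl L78397 rfl
theorem L78406 : sm ge N2339 = N4351 := trfs L78398 (flp_e L34396) rfl
theorem L78407 : N4351 = N3185 := eqes L78406 L25242
theorem L78408 : N4351 = N3185 := eqc rfl L78407 rfl
theorem L78423 : sm gi N3185 = N5949 := trfs L78408 L46910 rfl
theorem L78424 : N5949 = N4352 := eqes L78423 L34398
theorem L78425 : N5949 = N4352 := eqc rfl L78424 rfl
theorem L78437 : sm gh N4352 = N8147 := trfs L78425 L64100 rfl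
theorem L78438 : N8147 = N5950 := eqes L78437 L46918
theorem L78439 : N8147 = N5950 := eqc rfl L78438 rfl
theorem L78442 : sm ge N5950 = N7166 := trfs L78439 L64104 rfl
theorem L78443 : N7166 = N4353 := eqes L78442 L46922
theorem L78444 : N7166 = N4353 := eqc rfl L78443 rfl
theorem L78450 : sm gd N4353 = N9821 := trfs L78444 L77214 rfl
theorem L78451 : N9821 = N4353 := eqes L78450 L34414
theorem L78452 : N9821 = N4353 := eqc rfl L78451 rfl
theorem L78458 : sm gf N4353 = N7167 := trfs L78452 L77217 rfl
theorem L78459 : N7167 = N3828 := eqes L78458 L34410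
theorem L78460 : N7167 = N3828 := eqc rfl L78459 rfl
theorem L78473 : sm gh N3828 = N9805 := trfs L78460 (flp_h L77109) rfl
theorem L78474 : N9805 = N2804 := eqes L78473 (flp_h L30284)
theorem L78475 : N9805 = N2804 := eqc rfl L78474 rfl
theorem L78483 : sm gg N2804 = N7164 := trfs L78475 L77106 rfl
theorem L78484 : N7164 = N2057 := eqes L78483 L22264
theorem L78485 : N7164 = N2057 := eqc rfl L78484 rfl
theorem L78503 : sm gi N2057 = N9783 := trfs L78485 (flp_i L76945) rfl
theorem L78504 : N9783 = N1509 := eqes L78503 (flp_i L16365)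
theorem L78505 : N9783 = N1509 := eqc rfl L78504 rfl
theorem L78507 : sm gd N1509 = N7137 := trfs L78505 (flp_d L76942) rfl
theorem L78508 : N7137 = N1107 := eqes L78507 (flp_d L12056)
theorem L78509 : N7137 = N1107 := eqc rfl L78508 rfl
theorem L78529 : sm gh N1107 = N5214 := trfs L78509 (flp_h L56237) rfl
theorem L78530 : N5214 = N815 := eqes L78529 (flp_h L8871)
theorem L78531 : N5214 = N815 := eqc rfl L78530 rfl
theorem L78550 : sm gi N815 = N3813 := trfs L78531 (flp_i L41197) rfl
theorem L78551 : N3813 = N815 := eqes L78550 L6574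
theorem L78552 : N3813 = N815 := eqc rfl L78551 rfl
theorem L78570 : sm gh N815 = N2801 := trfs L78552 L30189 rfl
theorem L78571 : N2801 = N1107 := eqes L78570 L8871
theorem L78572 : N2801 = N1107 := eqc rfl L78571 rfl
theorem L78588 : sm gi N1107 = N3824 := trfs L78572 L30259 rfl
theorem L78589 : N3824 = N1510 := eqes L78588 L12063
theorem L78590 : N3824 = N1510 := eqc rfl L78589 rfl
theorem L78605 : sm gg N1510 = N5223 := trfs L78590 (flp_g L41265) rfl
theorem L78606 : N5223 = N2055 := eqes L78605 (flp_g L16357)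
theorem L78607 : N5223 = N2055 := eqc rfl L78606 rfl
theorem L78618 : sm gf N2055 = N7151 := trfs L78607 (flp_f L56342) rfl
theorem L78619 : N7151 = N2340 := eqes L78618 (flp_f L18595)
theorem L78620 : N7151 = N2340 := eqc rfl L78619 rfl
theorem L78631 : sm ge N2340 = N9792 := trfs L78620 (flp_e L77009) rfl
theorem L78632 : N9792 = N3181 := eqes L78631 (flp_e L25220)
theorem L78633 : N9792 = N3181 := eqc rfl L78632 rfl
theorem L78645 : sm gi N3181 = N7141 := trfs L78633 (flp_i L77006) rfl
theorem L78646 : N7141 = N2336 := eqes L78645 (flp_i L25215)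
theorem L78647 : N7141 = N2336 := eqc rfl L78646 rfl
theorem L78665 : sm gh N2336 = N9756 := trfs L78647 (flp_h L76735) rfl
theorem L78666 : N9756 = N1714 := eqes L78665 (flp_h L18559)
theorem L78667 : N9756 = N1714 := eqc rfl L78666 rfl
theorem L78672 : sm gf N1714 = N7120 := trfs L78667 (flp_f L76732) rfl
theorem L78673 : N7120 = N2335 := eqes L78672 L18550
theorem L78674 : N7120 = N2335 := eqc rfl L78673 rfl
theorem L78690 : sm gi N2335 = N9757 := trfs L78674 L76739 rfl
theorem L78691 : N9757 = N2335 := eqes L78690 L18555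
theorem L78692 : N9757 = N2335 := eqc rfl L78691 rfl
theorem L78694 : sm ge N2335 = N7121 := trfs L78692 L76742 rfl
theorem L78695 : N7121 = N2050 := eqes L78694 L18556
theorem L78696 : N7121 = N2050 := eqc rfl L78695 rfl
theorem L78712 : sm gh N2050 = N9758 := trfs L78696 L76745 rfl
theorem L78713 : N9758 = N2797 := eqes L78712 L22211
theorem L78714 : N9758 = N2797 := eqc rfl L78713 rfl
theorem L78724 : sm gi N2797 = N7143 := trfs L78714 L76752 rfl
theorem L78725 : N7143 = N3816 := eqes L78724 L30204
theorem L78726 : N7143 = N3816 := eqc rfl L78725 rfl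
theorem L78740 : sm gf N3816 = N5224 := trfs L78726 L56281 rfl
theorem L78741 : N5224 = N2799 := eqes L78740 L30209
theorem L78742 : N5224 = N2799 := eqc rfl L78741 rfl
theorem L78755 : sm gg N2799 = N3825 := trfs L78742 L41270 rfl
theorem L78756 : N3825 = N2053 := eqes L78755 L22231
theorem L78757 : N3825 = N2053 := eqc rfl L78756 rfl
theorem L78764 : sm gc N2053 = N5230 := trfs L78757 (flp_c L41309) rfl
theorem L78765 : N5230 = N1516 := eqes L78764 L16339
theorem L78766 : N5230 = N1516 := eqc rfl L78765 rfl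
theorem L78788 : sm gi N1516 = N7134 := trfs L78766 (flp_i L56221) rfl
theorem L78789 : N7134 = N1111 := eqes L78788 (flp_i L12110)
theorem L78790 : N7134 = N1111 := eqc rfl L78789 rfl
theorem L78804 : sm gh N1111 = N5212 := trfs L78790 (flp_h L56215) rfl
theorem L78805 : N5212 = N817 := eqes L78804 (flp_h L8900)
theorem L78806 : N5212 = N817 := eqc rfl L78805 rfl
theorem L78820 : sm gi N817 = N3812 := trfs L78806 (flp_i L41182) rfl
theorem L78821 : N3812 = N817 := eqes L78820 L6586
theorem L78822 : N3812 = N817 := eqc rfl L78821 rfl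
theorem L78836 : sm gh N817 = N2800 := trfs L78822 L30182 rfl
theorem L78837 : N2800 = N1111 := eqes L78836 L8900
theorem L78838 : N2800 = N1111 := eqc rfl L78837 rfl
theorem L78849 : sm gg N1111 = N3817 := trfs L78838 (flp_g L30216) rfl
theorem L78850 : N3817 = N1514 := eqes L78849 (flp_g L12099)
theorem L78851 : N3817 = N1514 := eqc rfl L78850 rfl
theorem L78870 : sm gi N1514 = N5221 := trfs L78851 L41244 rfl
theorem L78871 : N5221 = N2063 := eqes L78870 L16410
theorem L78872 : N5221 = N2063 := eqc rfl L78871 rfl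
theorem L78882 : sm gf N2063 = N7140 := trfs L78872 (flp_f L56264) rfl
theorem L78883 : N7140 = N2812 := eqes L78882 (flp_f L22322)
theorem L78884 : N7140 = N2812 := eqc rfl L78883 rfl
theorem L78895 : sm ge N2812 = N9789 := trfs L78884 (flp_e L76989) rfl
theorem L78896 : N9789 = N3194 := eqes L78895 (flp_e L25318)
theorem L78897 : N9789 = N3194 := eqc rfl L78896 rfl
theorem L78904 : sm gi N3194 = N7139 := trfs L78897 (flp_i L76984) rfl
theorem L78905 : N7139 = N2346 := eqes L78904 (flp_i L25313)
theorem L78906 : N7139 = N2346 := eqc rfl L78905 rfl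
theorem L78912 : sm gd N2346 = N9787 := trfs L78906 L76971 rfl
theorem L78913 : N9787 = N3193 := eqes L78912 L25304
theorem L78914 : N9787 = N3193 := eqc rfl L78913 rfl
theorem L78920 : sm ge N3193 = N7177 := trfs L78914 L76975 rfl
theorem L78921 : N7177 = N4361 := eqes L78920 L34469
theorem L78922 : N7177 = N4361 := eqc rfl L78921 rfl
theorem L78939 : sm gi N4361 = N9836 := trfs L78922 L77333 rfl
theorem L78940 : N9836 = N5960 := eqes L78939 L46999
theorem L78941 : N9836 = N5960 := eqc rfl L78940 rfl
theorem L78943 : sm gd N5960 = N7178 := trfs L78941 L77336 rfl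
theorem L78944 : N7178 = N5246 := eqes L78943 L47004
theorem L78945 : N7178 = N5246 := eqc rfl L78944 rfl
theorem L78956 : sm gh N5246 = N9837 := trfs L78945 L77340 rfl
theorem L78957 : N9837 = N7180 := eqes L78956 L56551
theorem L78958 : N9837 = N7180 := eqc rfl L78957 rfl
theorem L78967 : sm gi N7180 = N7662 := trfs L78958 L77349 rfl
theorem L78968 : N7662 = N5607 := eqes L78967 L56560
theorem L78969 : N7662 = N5607 := eqc rfl L78968 rfl
theorem L78977 : sm gh N5607 = N5605 := trfs L78969 (flp_h L60398) rfl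
theorem L78978 : N5605 = N4107 := eqes L78977 (flp_h L44289)
theorem L78979 : N5605 = N4107 := eqc rfl L78978 rfl
theorem L78993 : sm gi N4107 = N4105 := trfs L78979 (flp_i L44272) rfl
theorem L78994 : N4105 = N3012 := eqes L78993 (flp_i L32495)
theorem L78995 : N4105 = N3012 := eqc rfl L78994 rfl
theorem L79004 : sm ge N3012 = N3011 := trfs L78995 (flp_e L32480) rfl
theorem L79005 : N3011 = N2213 := eqes L79004 (flp_e L23885)
theorem L79006 : N3011 = N2213 := eqc rfl L79005 rfl
theorem L79022 : sm gh N2213 = N3835 := trfs L79006 (flp_h L30340) rfl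
theorem L79023 : N3835 = N2811 := eqes L79022 (flp_h L22315)
theorem L79024 : N3835 = N2811 := eqc rfl L79023 rfl
theorem L79027 : sm gb N2811 = N5243 := trfs L79024 L41397 rfl
theorem L79028 : N5243 = N2066 := eqes L79027 L22310
theorem L79029 : N5243 = N2066 := eqc rfl L79028 rfl
theorem L79053 : sm gi N2066 = N7176 := trfs L79029 L56518 rfl
theorem L79054 : N7176 = N2820 := eqes L79053 L22386
theorem L79055 : N7176 = N2820 := eqc rfl L79054 rfl
theorem L79069 : sm gh N2820 = N9834 := trfs L79055 L77315 rfl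
theorem L79070 : N9834 = N3848 := eqes L79069 L30449
theorem L79071 : N9834 = N3848 := eqc rfl L79070 rfl
theorem L79080 : sm gi N3848 = N7659 := trfs L79071 L77324 rfl
theorem L79081 : N7659 = N3024 := eqes L79080 L30457
theorem L79082 : N7659 = N3024 := eqc rfl L79081 rfl
theorem L79091 : sm gh N3024 = N5603 := trfs L79082 (flp_h L60375) rfl
theorem L79092 : N5603 = N2222 := eqes L79091 (flp_h L23982)
theorem L79093 : N5603 = N2222 := eqc rfl L79092 rfl
theorem L79105 : sm gf N2222 = N4110 := trfs L79093 L44263 rfl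
theorem L79106 : N4110 = N1636 := eqes L79105 L17662
theorem L79107 : N4110 = N1636 := eqc rfl L79106 rfl
theorem L79127 : sm gi N1636 = N3014 := trfs L79107 (flp_i L32522) rfl
theorem L79128 : N3014 = N1205 := eqes L79127 (flp_i L13039)
theorem L79129 : N3014 = N1205 := eqc rfl L79128 rfl
theorem L79142 : sm gg N1205 = N2217 := trfs L79129 L23906 rfl
theorem L79143 : N2217 = N890 := eqes L79142 L9633
theorem L79144 : N2217 = N890 := eqc rfl L79143 rfl
theorem L79160 : sm gh N890 = N2815 := trfs L79144 (flp_h L22348) rfl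
theorem L79161 : N2815 = N1116 := eqes L79160 (flp_h L8947)
theorem L79162 : N2815 = N1116 := eqc rfl L79161 rfl
theorem L79175 : sm gi N1116 = N3842 := trfs L79162 L30398 rfl
theorem L79176 : N3842 = N1522 := eqes L79175 L12161
theorem L79177 : N3842 = N1522 := eqc rfl L79176 rfl
theorem L79193 : sm gh N1522 = N5252 := trfs L79177 L41481 rfl
theorem L79194 : N5252 = N2072 := eqes L79193 L16485
theorem L79195 : N5252 = N2072 := eqc rfl L79194 rfl
theorem L79211 : sm gi N2072 = N4113 := trfs L79195 L41489 rfl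
theorem L79212 : N4113 = N1639 := eqes L79211 L16492
theorem L79213 : N4113 = N1639 := eqc rfl L79212 rfl
theorem L79223 : sm gd N1639 = N5612 := trfs L79213 L44332 rfl
theorem L79224 : N5612 = N1639 := eqes L79223 L13068
theorem L79225 : N5612 = N1639 := eqc rfl L79224 rfl
theorem L79246 : sm gh N1639 = N7635 := trfs L79225 (flp_h L60194) rfl
theorem L79247 : N7635 = N1208 := eqes L79246 (flp_h L13062)
theorem L79248 : N7635 = N1208 := eqc rfl L79247 rfl
theorem L79253 : sm gd N1208 = N5583 := trfs L79248 (flp_d L60189) rfl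
theorem L79254 : N5583 = N891 := eqes L79253 L9657
theorem L79255 : N5583 = N891 := eqc rfl L79254 rfl
theorem L79274 : sm gi N891 = N7597 := trfs L79255 (flp_i L59891) rfl
theorem L79275 : N7597 = N658 := eqes L79274 (flp_i L7140)
theorem L79276 : N7597 = N658 := eqc rfl L79275 rfl
theorem L79282 : sm gh N658 = N5556 := trfs L79276 (flp_h L59885) rfl
theorem L79283 : N5556 = N486 := eqes L79282 (flp_h L5288)
theorem L79284 : N5556 = N486 := eqc rfl L79283 rfl
theorem L79298 : sm gi N486 = N4071 := trfs L79284 (flp_i L43892) rfl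
theorem L79299 : N4071 = N486 := eqes L79298 L3932
theorem L79300 : N4071 = N486 := eqc rfl L79299 rfl
theorem L79311 : sm gg N486 = N5548 := trfs L79300 (flp_g L43832) rfl
theorem L79312 : N5548 = N657 := eqes L79311 L5280
theorem L79313 : N5548 = N657 := eqc rfl L79312 rfl
theorem L79328 : sm gf N657 = N7576 := trfs L79313 (flp_f L59721) rfl
theorem L79329 : N7576 = N888 := eqes L79328 L7117
theorem L79330 : N7576 = N888 := eqc rfl L79329 rfl
theorem L79341 : sm gh N888 = N5564 := trfs L79330 L59724 rfl
theorem L79342 : N5564 = N1204 := eqes L79341 L9620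
theorem L79343 : N5564 = N1204 := eqc rfl L79342 rfl
theorem L79350 : sm ge N1204 = N7608 := trfs L79343 L59972 rfl
theorem L79351 : N7608 = N1204 := eqes L79350 L9625
theorem L79352 : N7608 = N1204 := eqc rfl L79351 rfl
theorem L79356 : sm gb N1204 = N5565 := trfs L79352 L59974 rfl
theorem L79357 : N5565 = N1628 := eqes L79356 (flp_b L12976)
theorem L79358 : N5565 = N1628 := eqc rfl L79357 rfl
theorem L79376 : sm gi N1628 = N7612 := trfs L79358 L60002 rfl
theorem L79377 : N7612 = N2214 := eqes L79376 L17594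
theorem L79378 : N7612 = N2214 := eqc rfl L79377 rfl
theorem L79383 : sm ge N2214 = N5566 := trfs L79378 L60007 rfl
theorem L79384 : N5566 = N2214 := eqes L79383 L17599
theorem L79385 : N5566 = N2214 := eqc rfl L79384 rfl
theorem L79397 : sm gh N2214 = N7613 := trfs L79385 L60010 rfl
theorem L79398 : N7613 = N2214 := eqes L79397 L17603
theorem L79399 : N7613 = N2214 := eqc rfl L79398 rfl
theorem L79405 : sm gf N2214 = N5575 := trfs L79399 L60015 rfl
theorem L79406 : N5575 = N1630 := eqes L79405 L17600
theorem L79407 : N5575 = N1630 := eqc rfl L79406 rfl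
theorem L79422 : sm gi N1630 = N7588 := trfs L79407 (flp_i L59822) rfl
theorem L79423 : N7588 = N1200 := eqes L79422 (flp_i L12990)
theorem L79424 : N7588 = N1200 := eqc rfl L79423 rfl
theorem L79430 : sm gh N1200 = N5550 := trfs L79424 (flp_h L59815) rfl
theorem L79431 : N5550 = N884 := eqes L79430 (flp_h L9585)
theorem L79432 : N5550 = N884 := eqc rfl L79431 rfl
theorem L79442 : sm gf N884 = N7578 := trfs L79432 (flp_f L59740) rfl
theorem L79443 : N7578 = N1199 := eqes L79442 L9577
theorem L79444 : N7578 = N1199 := eqc rfl L79443 rfl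
theorem L79448 : sm gc N1199 = N5547 := trfs L79444 L59738 rfl
theorem L79449 : N5547 = N1617 := eqes L79448 (flp_c L12885)
theorem L79450 : N5547 = N1617 := eqc rfl L79449 rfl
theorem L79467 : sm gi N1617 = N4066 := trfs L79450 (flp_i L43821) rfl
theorem L79468 : N4066 = N1617 := eqes L79467 L12887
theorem L79469 : N4066 = N1617 := eqc rfl L79468 rfl
theorem L79483 : sm gh N1617 = N2991 := trfs L79469 L32186 rfl
theorem L79484 : N2991 = N2199 := eqes L79483 L17473
theorem L79485 : N2991 = N2199 := eqc rfl L79484 rfl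
theorem L79491 : sm gf N2199 = N2200 := trfs L79485 L23725 rfl
theorem L79492 : N2200 = N1618 := eqes L79491 L17480
theorem L79493 : N2200 = N1618 := eqc rfl L79492 rfl
theorem L79509 : sm gi N1618 = N2995 := trfs L79493 L23754 rfl
theorem L79510 : N2995 = N2201 := eqes L79509 L17489
theorem L79511 : N2995 = N2201 := eqc rfl L79510 rfl
theorem L79520 : sm gg N2201 = N2204 := trfs L79511 L23760 rfl
theorem L79521 : N2204 = N1620 := eqes L79520 L17497
theorem L79522 : N2204 = N1620 := eqc rfl L79521 rfl
theorem L79534 : sm gh N1620 = N3001 := trfs L79522 L23797 rfl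
theorem L79535 : N3001 = N1620 := eqes L79534 L12914
theorem L79536 : N3001 = N1620 := eqc rfl L79535 rfl
theorem L79547 : sm gi N1620 = N4076 := trfs L79536 (flp_i L32260) rfl
theorem L79548 : N4076 = N1193 := eqes L79547 (flp_i L12905)
theorem L79549 : N4076 = N1193 := eqc rfl L79548 rfl
theorem L79560 : sm gh N1193 = N2990 := trfs L79549 (flp_h L32254) rfl
theorem L79561 : N2990 = N879 := eqes L79560 (flp_h L9526)
theorem L79562 : N2990 = N879 := eqc rfl L79561 rfl
theorem L79574 : sm gi N879 = N2197 := trfs L79562 (flp_i L23714) rfl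
theorem L79575 : N2197 = N879 := eqes L79574 L7048
theorem L79576 : N2197 = N879 := eqc rfl L79575 rfl
theorem L79583 : sm ge N879 = N2989 := trfs L79576 L23707 rfl
theorem L79584 : N2989 = N651 := eqes L79583 (flp_e L7042)
theorem L79585 : N2989 = N651 := eqc rfl L79584 rfl
theorem L79601 : sm gh N651 = N2203 := trfs L79585 L23711 rfl
theorem L79602 : N2203 = N881 := eqes L79601 L7059
theorem L79603 : N2203 = N881 := eqc rfl L79602 rfl
theorem L79614 : sm gf N881 = N2999 := trfs L79603 L23782 rfl
theorem L79615 : N2999 = N652 := eqes L79614 L7065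
theorem L79616 : N2999 = N652 := eqc rfl L79615 rfl
theorem L79632 : sm gi N652 = N4093 := trfs L79616 L32381 rfl
theorem L79633 : N4093 = N883 := eqes L79632 L7074
theorem L79634 : N4093 = N883 := eqc rfl L79633 rfl
theorem L79648 : sm gh N883 = N5589 := trfs L79634 L44145 rfl
theorem L79649 : N5589 = N883 := eqes L79648 L7082
theorem L79650 : N5589 = N883 := eqc rfl L79649 rfl
theorem L79664 : sm gi N883 = N7605 := trfs L79650 (flp_i L59953) rfl
theorem L79665 : N7605 = N652 := eqes L79664 (flp_i L7074)
theorem L79666 : N7605 = N652 := eqc rfl L79665 rfl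
theorem L79671 : sm gh N652 = N5562 := trfs L79666 (flp_h L59946) rfl
theorem L79672 : N5562 = N482 := eqes L79671 (flp_h L5239)
theorem L79673 : N5562 = N482 := eqc rfl L79672 rfl
theorem L79682 : sm gg N482 = N7604 := trfs L79673 (flp_g L59944) rfl
theorem L79683 : N7604 = N482 := eqes L79682 L3898
theorem L79684 : N7604 = N482 := eqc rfl L79683 rfl
theorem L79690 : sm gi N482 = N5561 := trfs L79684 (flp_i L59938) rfl
theorem L79691 : N5561 = N482 := eqes L79690 L3899
theorem L79692 : N5561 = N482 := eqc rfl L79691 rfl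
theorem L79700 : sm gf N482 = N7589 := trfs L79692 (flp_f L59831) rfl
theorem L79701 : N7589 = N651 := eqes L79700 L5231
theorem L79702 : N7589 = N651 := eqc rfl L79701 rfl
theorem L79711 : sm gh N651 = N5576 := trfs L79702 L59829 rfl
theorem L79712 : N5576 = N881 := eqes L79711 L7059
theorem L79713 : N5576 = N881 := eqc rfl L79712 rfl
theorem L79729 : sm gi N881 = N7626 := trfs L79713 L60117 rfl
theorem L79730 : N7626 = N1196 := eqes L79729 L9552
theorem L79731 : N7626 = N1196 := eqc rfl L79730 rfl
theorem L79738 : sm gg N1196 = N5577 := trfs L79731 L60125 rfl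
theorem L79739 : N5577 = N1622 := eqes L79738 (flp_g L12931)
theorem L79740 : N5577 = N1622 := eqc rfl L79739 rfl
theorem L79743 : sm gc N1622 = N7623 := trfs L79740 (flp_c L60095) rfl
theorem L79744 : N7623 = N1203 := eqes L79743 L12928
theorem L79745 : N7623 = N1203 := eqc rfl L79744 rfl
theorem L80166 : sm gi N1203 = N5573 := trfs L79745 (flp_i L60092) rfl
theorem L80167 : N5573 = N886 := eqes L80166 (flp_i L9610)
theorem L80168 : N5573 = N886 := eqc rfl L80167 rfl
theorem L80180 : sm gh N886 = N7586 := trfs L80168 (flp_h L59804) rfl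
theorem L80181 : N7586 = N654 := eqes L80180 (flp_h L7099)
theorem L80182 : N7586 = N654 := eqc rfl L80181 rfl
theorem L80185 : sm gf N654 = N5549 := trfs L80182 (flp_f L59799) rfl
theorem L80186 : N5549 = N654 := eqes L80185 L5262
theorem L80187 : N5549 = N654 := eqc rfl L80186 rfl
theorem L80191 : sm gd N654 = N7585 := trfs L80187 L59792 rfl
theorem L80192 : N7585 = N485 := eqes L80191 L5259
theorem L80193 : N7585 = N485 := eqc rfl L80192 rfl
theorem L80203 : sm gg N485 = N5557 := trfs L80193 L59795 rfl
theorem L80204 : N5557 = N359 := eqes L80203 (flp_g L3918)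
theorem L80205 : N5557 = N359 := eqc rfl L80204 rfl
theorem L80220 : sm gi N359 = N7599 := trfs L80205 L59900 rfl
theorem L80221 : N7599 = N359 := eqes L80220 L2915
theorem L80222 : N7599 = N359 := eqc rfl L80221 rfl
theorem L80225 : sm gd N359 = N5559 := trfs L80222 L59904 rfl
theorem L80226 : N5559 = N483 := eqes L80225 (flp_d L3907)
theorem L80227 : N5559 = N483 := eqc rfl L80226 rfl
theorem L80241 : sm gh N483 = N7602 := trfs L80227 L59922 rfl
theorem L80242 : N7602 = N655 := eqes L80241 L5263
theorem L80243 : N7602 = N655 := eqc rfl L80242 rfl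
theorem L80248 : sm gi N655 = N5586 := trfs L80243 L59929 rfl
theorem L80249 : N5586 = N887 := eqes L80248 L7108
theorem L80250 : N5586 = N887 := eqc rfl L80249 rfl
theorem L80260 : sm gh N887 = N4090 := trfs L80250 (flp_h L44122) rfl
theorem L80261 : N4090 = N887 := eqes L80260 L7116
theorem L80262 : N4090 = N887 := eqc rfl L80261 rfl
theorem L80264 : sm gb N887 = N5582 := trfs L80262 (flp_b L44094) rfl
theorem L80265 : N5582 = N660 := eqes L80264 L7111
theorem L80266 : N5582 = N660 := eqc rfl L80265 rfl
theorem L80286 : sm gi N660 = N4087 := trfs L80266 (flp_i L44092) rfl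
theorem L80287 : N4087 = N488 := eqes L80286 (flp_i L5305)
theorem L80288 : N4087 = N488 := eqc rfl L80287 rfl
theorem L80299 : sm gg N488 = N5571 := trfs L80288 (flp_g L44010) rfl
theorem L80300 : N5571 = N659 := eqes L80299 (flp_g L5302)
theorem L80301 : N5571 = N659 := eqc rfl L80300 rfl
theorem L80303 : sm ga N659 = N7617 := trfs L80301 (flp_a L60044) rfl
theorem L80304 : N7617 = N492 := eqes L80303 L5298
theorem L80305 : N7617 = N492 := eqc rfl L80304 rfl
theorem L80316 : sm ge N492 = N5570 := trfs L80305 (flp_e L60042) rfl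
theorem L80317 : N5570 = N662 := eqes L80316 (flp_e L5325)
theorem L80318 : N5570 = N662 := eqc rfl L80317 rfl
theorem L80329 : sm gi N662 = N7618 := trfs L80318 L60051 rfl
theorem L80330 : N7618 = N895 := eqes L80329 L7173
theorem L80331 : N7618 = N895 := eqc rfl L80330 rfl
theorem L80336 : sm gg N895 = N5580 := trfs L80331 L60059 rfl
theorem L80337 : N5580 = N664 := eqes L80336 L7179
theorem L80338 : N5580 = N664 := eqc rfl L80337 rfl
theorem L80342 : sm gd N664 = N4112 := trfs L80338 L44082 rfl
theorem L80343 : N4112 = N897 := eqes L80342 (flp_d L7190)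
theorem L80344 : N4112 = N897 := eqc rfl L80343 rfl
theorem L80351 : sm gc N897 = N3028 := trfs L80344 L32544 rfl
theorem L80352 : N3028 = N1214 := eqes L80351 (flp_c L9698)
theorem L80353 : N3028 = N1214 := eqc rfl L80352 rfl
theorem L80374 : sm gi N1214 = N2226 := trfs L80353 (flp_i L24015) rfl
theorem L80375 : N2226 = N896 := eqes L80374 (flp_i L9696)
theorem L80376 : N2226 = N896 := eqc rfl L80375 rfl
theorem L80388 : sm gh N896 = N2824 := trfs L80376 (flp_h L22425) rfl
theorem L80389 : N2824 = N1169 := eqes L80388 (flp_h L9348)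
theorem L80390 : N2824 = N1169 := eqc rfl L80389 rfl
theorem L80404 : sm gi N1169 = N3852 := trfs L80390 L30486 rfl
theorem L80405 : N3852 = N1590 := eqes L80404 L12675
theorem L80406 : N3852 = N1590 := eqc rfl L80405 rfl
theorem L80420 : sm gh N1590 = N5264 := trfs L80406 L41586 rfl
theorem L80421 : N5264 = N2165 := eqes L80420 L17208
theorem L80422 : N5264 = N2165 := eqc rfl L80421 rfl
theorem L80433 : sm gg N2165 = N7197 := trfs L80422 (flp_g L56712) rfl
theorem L80434 : N7197 = N2945 := eqes L80433 (flp_g L23374)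
theorem L80435 : N7197 = N2945 := eqc rfl L80434 rfl
theorem L80454 : sm gi N2945 = N5624 := trfs L80435 L56714 rfl
theorem L80455 : N5624 = N2236 := eqes L80454 L23376
theorem L80456 : N5624 = N2236 := eqc rfl L80455 rfl
theorem L80470 : sm gf N2236 = N7674 := trfs L80456 (flp_f L60494) rfl
theorem L80471 : N7674 = N3036 := eqes L80470 (flp_f L24078)
theorem L80472 : N7674 = N3036 := eqc rfl L80471 rfl
theorem L80480 : sm gh N3036 = N5615 := trfs L80472 (flp_h L60488) rfl
theorem L80481 : N5615 = N2231 := eqes L80480 (flp_h L24074)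
theorem L80482 : N5615 = N2231 := eqc rfl L80481 rfl
theorem L80495 : sm gi N2231 = N4115 := trfs L80482 (flp_i L44350) rfl
theorem L80496 : N4115 = N1640 := eqes L80495 (flp_i L17724)
theorem L80497 : N4115 = N1640 := eqc rfl L80496 rfl
theorem L80513 : sm gh N1640 = N5254 := trfs L80497 (flp_h L41503) rfl
theorem L80514 : N5254 = N2157 := eqes L80513 (flp_h L17153)
theorem L80515 : N5254 = N2157 := eqc rfl L80514 rfl
theorem L80529 : sm gi N2157 = N7188 := trfs L80515 L56626 rfl
theorem L80530 : N7188 = N2940 := eqes L80529 L23330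
theorem L80531 : N7188 = N2940 := eqc rfl L80530 rfl
theorem L80540 : sm ge N2940 = N9848 := trfs L80531 (flp_e L77444) rfl
theorem L80541 : N9848 = N4010 := eqes L80540 (flp_e L31753)
theorem L80542 : N9848 = N4010 := eqc rfl L80541 rfl
theorem L80549 : sm gb N4010 = N7478 := trfs L80542 L77442 rfl
theorem L80550 : N7478 = N5472 := eqes L80549 (flp_b L43248)
theorem L80551 : N7478 = N5472 := eqc rfl L80550 rfl
theorem L80560 : sm gi N5472 = N5469 := trfs L80551 (flp_i L58974) rfl
theorem L80561 : N5469 = N4007 := eqes L80560 (flp_i L43246)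
theorem L80562 : N5469 = N4007 := eqc rfl L80561 rfl
theorem L80572 : sm gh N4007 = N4128 := trfs L80562 L43229 rfl
theorem L80573 : N4128 = N3032 := eqes L80572 L31734
theorem L80574 : N4128 = N3032 := eqc rfl L80573 rfl
theorem L80578 : sm gd N3032 = N5631 := trfs L80574 L44479 rfl
theorem L80579 : N5631 = N4130 := eqes L80578 L32680
theorem L80580 : N5631 = N4130 := eqc rfl L80579 rfl
theorem L80610 : sm gb N4130 = N7672 := trfs L80580 (flp_b L60473) rfl
theorem L80611 : N7672 = N3034 := eqes L80610 L32682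
theorem L80612 : N7672 = N3034 := eqc rfl L80611 rfl
theorem L80631 : sm ga N3034 = N5616 := trfs L80612 L60471 rfl
theorem L80632 : N5616 = N4118 := eqes L80631 (flp_a L32585)
theorem L80633 : N5616 = N4118 := eqc rfl L80632 rfl
theorem L80648 : sm gh N4118 = N7676 := trfs L80633 L60503 rfl
theorem L80649 : N7676 = N5619 := eqes L80648 L44382
theorem L80650 : N7676 = N5619 := eqc rfl L80649 rfl
theorem L80684 : sm gd N5619 = N9851 := trfs L80650 (flp_d L77469) rfl
theorem L80685 : N9851 = N7192 := eqes L80684 (flp_d L56664)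
theorem L80686 : N9851 = N7192 := eqc rfl L80685 rfl
theorem L80693 : sm gh N7192 = N7189 := trfs L80686 (flp_h L77463) rfl
theorem L80694 : N7189 = N5257 := eqes L80693 (flp_h L56658)
theorem L80695 : N7189 = N5257 := eqc rfl L80694 rfl
theorem L80706 : sm ge N5257 = N9735 := trfs L80695 (flp_e L76562) rfl
theorem L80707 : N9735 = N7107 := eqes L80706 (flp_e L56005)
theorem L80708 : N9735 = N7107 := eqc rfl L80707 rfl
theorem L80719 : sm gd N7107 = N7105 := trfs L80708 (flp_d L76557) rfl
theorem L80720 : N7105 = N5194 := eqes L80719 (flp_d L56000)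
theorem L80721 : N7105 = N5194 := eqc rfl L80720 rfl
theorem L80738 : sm gi N5194 = N9736 := trfs L80721 L76564 rfl
theorem L80739 : N9736 = N7108 := eqes L80738 L56007
theorem L80740 : N9736 = N7108 := eqc rfl L80739 rfl
theorem L80742 : sm ge N7108 = N7106 := trfs L80740 L76568 rfl
theorem L80743 : N7106 = N5195 := eqes L80742 L56013
theorem L80744 : N7106 = N5195 := eqc rfl L80743 rfl
theorem L80756 : sm gh N5195 = N9737 := trfs L80744 L76571 rfl
theorem L80757 : N9737 = N7109 := eqes L80756 L56016
theorem L80758 : N9737 = N7109 := eqc rfl L80757 rfl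
theorem L80761 : sm gf N7109 = N7112 := trfs L80758 L76575 rfl
theorem L80762 : N7112 = N5200 := eqes L80761 L56022
theorem L80763 : N7112 = N5200 := eqc rfl L80762 rfl
theorem L80779 : sm gg N5200 = N5202 := trfs L80763 L56048 rfl
theorem L80780 : N5202 = N3807 := eqes L80779 L41091
theorem L80781 : N5202 = N3807 := eqc rfl L80780 rfl
theorem L80798 : sm gh N3807 = N3806 := trfs L80781 (flp_h L41103) rfl
theorem L80799 : N3806 = N2791 := eqes L80798 (flp_h L30138)
theorem L80800 : N3806 = N2791 := eqc rfl L80799 rfl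
theorem L80813 : sm gi N2791 = N2790 := trfs L80800 (flp_i L30131) rfl
theorem L80814 : N2790 = N2046 := eqes L80813 (flp_i L22164)
theorem L80815 : N2790 = N2046 := eqc rfl L80814 rfl
theorem L80826 : sm gg N2046 = N3802 := trfs L80815 (flp_g L30102) rfl
theorem L80827 : N3802 = N2788 := eqes L80826 (flp_g L22145)
theorem L80828 : N3802 = N2788 := eqc rfl L80827 rfl
theorem L80840 : sm ge N2788 = N5126 := trfs L80828 (flp_e L40509) rfl
theorem L80841 : N5126 = N3751 := eqes L80840 (flp_e L29702)
theorem L80842 : N5126 = N3751 := eqc rfl L80841 rfl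
theorem L80859 : sm gi N3751 = N7014 := trfs L80842 L55273 rfl
theorem L80860 : N7014 = N5127 := eqes L80859 L40514
theorem L80861 : N7014 = N5127 := eqc rfl L80860 rfl
theorem L80866 : sm gc N5127 = N9597 := trfs L80861 (flp_c L75471) rfl
theorem L80867 : N9597 = N3752 := eqes L80866 L40518
theorem L80868 : N9597 = N3752 := eqc rfl L80867 rfl
theorem L80885 : sm gg N3752 = N7006 := trfs L80868 L75475 rfl
theorem L80886 : N7006 = N2754 := eqes L80885 L29716
theorem L80887 : N7006 = N2754 := eqc rfl L80886 rfl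
theorem L80906 : sm gi N2754 = N5120 := trfs L80887 (flp_i L55209) rfl
theorem L80907 : N5120 = N2018 := eqes L80906 (flp_i L21868)
theorem L80908 : N5120 = N2018 := eqc rfl L80907 rfl
theorem L80920 : sm gf N2018 = N5367 := trfs L80908 (flp_f L42469) rfl
theorem L80921 : N5367 = N2112 := eqes L80920 (flp_f L16828)
theorem L80922 : N5367 = N2112 := eqc rfl L80921 rfl
theorem L80938 : sm gg N2112 = N7345 := trfs L80922 (flp_g L57967) rfl
theorem L80939 : N7345 = N2880 := eqes L80938 (flp_g L22904)
theorem L80940 : N7345 = N2880 := eqc rfl L80939 rfl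
theorem L80946 : sm gc N2880 = N5373 := trfs L80940 L57970 rfl
theorem L80947 : N5373 = N3932 := eqes L80946 L31180
theorem L80948 : N5373 = N3932 := eqc rfl L80947 rfl
theorem L80962 : sm gi N3932 = N7357 := trfs L80948 L58072 rfl
theorem L80963 : N7357 = N5374 := eqes L80962 L42526
theorem L80964 : N7357 = N5374 := eqc rfl L80963 rfl
theorem L80968 : sm gg N5374 = N5377 := trfs L80964 L58078 rfl
theorem L80969 : N5377 = N3935 := eqes L80968 L42534
theorem L80970 : N5377 = N3935 := eqc rfl L80969 rfl
theorem L80971 : sm ga N3935 = N7359 := trfs L80970 (flp_a L58092) rfl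
theorem L80972 : N7359 = N3893 := eqes L80971 L31207
theorem L80973 : N7359 = N3893 := eqc rfl L80972 rfl
theorem L80995 : sm gi N3893 = N5376 := trfs L80973 (flp_i L58090) rfl
theorem L80996 : N5376 = N2853 := eqes L80995 (flp_i L30824)
theorem L80997 : N5376 = N2853 := eqc rfl L80996 rfl
theorem L81005 : sm gf N2853 = N5129 := trfs L80997 L42550 rfl
theorem L81006 : N5129 = N2138 := eqes L81005 L22663
theorem L81007 : N5129 = N2138 := eqc rfl L81006 rfl
theorem L81011 : sm gb N2138 = N3976 := trfs L81007 L40540 rfl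
theorem L81012 : N3976 = N2914 := eqes L81011 L23147
theorem L81013 : N3976 = N2914 := eqc rfl L81012 rfl
theorem L81033 : sm gi N2914 = N5433 := trfs L81013 L42960 rfl
theorem L81034 : N5433 = N3977 := eqes L81033 L31510
theorem L81035 : N5433 = N3977 := eqc rfl L81034 rfl
theorem L81049 : sm gh N3977 = N7433 := trfs L81035 L58638 rfl
theorem L81050 : N7433 = N5434 := eqes L81049 L42967
theorem L81051 : N7433 = N5434 := eqc rfl L81050 rfl
theorem L81056 : sm ge N5434 = N5466 := trfs L81051 L58642 rfl
theorem L81057 : N5466 = N4004 := eqes L81056 L42971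
theorem L81058 : N5466 = N4004 := eqc rfl L81057 rfl
theorem L81069 : sm gg N4004 = N7470 := trfs L81058 (flp_g L58919) rfl
theorem L81070 : N7470 = N5464 := eqes L81069 (flp_g L43192)
theorem L81071 : N7470 = N5464 := eqc rfl L81070 rfl
theorem L81076 : sm gh N5464 = N5463 := trfs L81071 (flp_h L58915) rfl
theorem L81077 : N5463 = N4001 := eqes L81076 (flp_h L43188)
theorem L81078 : N5463 = N4001 := eqc rfl L81077 rfl
theorem L81095 : sm gi N4001 = N4000 := trfs L81078 (flp_i L43180) rfl
theorem L81096 : N4000 = N2932 := eqes L81095 (flp_i L31685)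
theorem L81097 : N4000 = N2932 := eqc rfl L81096 rfl
theorem L81100 : sm gc N2932 = N5450 := trfs L81097 (flp_c L43087) rfl
theorem L81101 : N5450 = N3989 := eqes L81100 (flp_c L31605)
theorem L81102 : N5450 = N3989 := eqc rfl L81101 rfl
theorem L81169 : sm gg N3989 = N3992 := trfs L81102 L43090 rfl
theorem L81170 : N3992 = N2926 := eqes L81169 L31602
theorem L81171 : N3992 = N2926 := eqc rfl L81170 rfl
theorem L81183 : sm gi N2926 = N5453 := trfs L81171 L43109 rfl
theorem L81184 : N5453 = N3993 := eqes L81183 L31629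
theorem L81185 : N5453 = N3993 := eqc rfl L81184 rfl
theorem L81187 : sm gb N3993 = N7444 := trfs L81185 (flp_b L58726) rfl
theorem L81188 : N7444 = N2927 := eqes L81187 L31631
theorem L81189 : N7444 = N2927 := eqc rfl L81188 rfl
theorem L81199 : sm gc N2927 = N9661 := trfs L81189 (flp_c L76011) rfl
theorem L81200 : N9661 = N2149 := eqes L81199 L23244
theorem L81201 : N9661 = N2149 := eqc rfl L81200 rfl
theorem L81212 : sm gi N2149 = N7052 := trfs L81201 (flp_i L76005) rfl
theorem L81213 : N7052 = N1577 := eqes L81212 (flp_i L17096)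
theorem L81214 : N7052 = N1577 := eqc rfl L81213 rfl
theorem L81229 : sm gg N1577 = N9658 := trfs L81214 (flp_g L75983) rfl
theorem L81230 : N9658 = N2146 := eqes L81229 (flp_g L17078)
theorem L81231 : N9658 = N2146 := eqc rfl L81230 rfl
theorem L81236 : sm gb N2146 = N7098 := trfs L81231 L75986 rfl
theorem L81237 : N7098 = N1581 := eqes L81236 L17076
theorem L81238 : N7098 = N1581 := eqc rfl L81237 rfl
theorem L81249 : sm gf N1581 = N9720 := trfs L81238 (flp_f L76450) rfl
theorem L81250 : N9720 = N2150 := eqes L81249 (flp_f L17105)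
theorem L81251 : N9720 = N2150 := eqc rfl L81250 rfl
theorem L81260 : sm ga N2150 = N7093 := trfs L81251 (flp_a L76446) rfl
theorem L81261 : N7093 = N2786 := eqes L81260 (flp_a L22125)
theorem L81262 : N7093 = N2786 := eqc rfl L81261 rfl
theorem L81266 : sm gb N2786 = N5184 := trfs L81262 (flp_b L55896) rfl
theorem L81267 : N5184 = N3792 := eqes L81266 (flp_b L30028)
theorem L81268 : N5184 = N3792 := eqc rfl L81267 rfl
theorem L81270 : sm gd N2786 = N9685 := trfs L81262 (flp_d L76192) rfl
theorem L81271 : N9685 = N2043 := eqes L81270 (flp_d L22123)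
theorem L81272 : N9685 = N2043 := eqc rfl L81271 rfl
theorem L81282 : sm gf N2043 = N7070 := trfs L81272 L76194 rfl
theorem L81283 : N7070 = N1501 := eqes L81282 L16264
theorem L81284 : N7070 = N1501 := eqc rfl L81283 rfl
theorem L81301 : sm gi N1501 = N9693 := trfs L81284 L76250 rfl
theorem L81302 : N9693 = N2045 := eqes L81301 L16274
theorem L81303 : N9693 = N2045 := eqc rfl L81302 rfl
theorem L81309 : sm gg N2045 = N7078 := trfs L81303 L76258 rfl
theorem L81310 : N7078 = N1503 := eqes L81309 L16282
theorem L81311 : N7078 = N1503 := eqc rfl L81310 rfl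
theorem L81324 : sm gh N1503 = N9704 := trfs L81311 L76332 rfl
theorem L81325 : N9704 = N1503 := eqes L81324 L12015
theorem L81326 : N9704 = N1503 := eqc rfl L81325 rfl
theorem L81328 : sm gb N1503 = N7081 := trfs L81326 L76334 rfl
theorem L81329 : N7081 = N2041 := eqes L81328 (flp_b L16245)
theorem L81330 : N7081 = N2041 := eqc rfl L81329 rfl
theorem L81348 : sm gi N2041 = N9681 := trfs L81330 (flp_i L76164) rfl
theorem L81349 : N9681 = N1497 := eqes L81348 (flp_i L16243)
theorem L81350 : N9681 = N1497 := eqc rfl L81349 rfl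
theorem L81355 : sm gh N1497 = N7063 := trfs L81350 (flp_h L76159) rfl
theorem L81356 : N7063 = N1097 := eqes L81355 (flp_h L11961)
theorem L81357 : N7063 = N1097 := eqc rfl L81356 rfl
theorem L81375 : sm gi N1097 = N5161 := trfs L81357 (flp_i L55680) rfl
theorem L81376 : N5161 = N1097 := eqes L81375 L8799
theorem L81377 : N5161 = N1097 := eqc rfl L81376 rfl
theorem L81395 : sm gh N1097 = N3781 := trfs L81377 L40804 rfl
theorem L81396 : N3781 = N1497 := eqes L81395 L11961
theorem L81397 : N3781 = N1497 := eqc rfl L81396 rfl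
theorem L81408 : sm ge N1497 = N5170 := trfs L81397 L40867 rfl
theorem L81409 : N5170 = N1099 := eqes L81408 L11965
theorem L81410 : N5170 = N1099 := eqc rfl L81409 rfl
theorem L81431 : sm gi N1099 = N7080 := trfs L81410 L55802 rfl
theorem L81432 : N7080 = N1499 := eqes L81431 L11974
theorem L81433 : N7080 = N1499 := eqc rfl L81432 rfl
theorem L81434 : sm ga N1499 = N9640 := trfs L81433 (flp_a L75827) rfl
theorem L81435 : N9640 = N2029 := eqes L81434 (flp_a L16153)
theorem L81436 : N9640 = N2029 := eqc rfl L81435 rfl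
theorem L81457 : sm ge N2029 = N7033 := trfs L81436 L75831 rfl
theorem L81458 : N7033 = N2766 := eqes L81457 (flp_e L21979)
theorem L81459 : N7033 = N2766 := eqc rfl L81458 rfl
theorem L81472 : sm gg N2766 = N9632 := trfs L81459 (flp_g L75769) rfl
theorem L81473 : N9632 = N3771 := eqes L81472 (flp_g L29876)
theorem L81474 : N9632 = N3771 := eqc rfl L81473 rfl
theorem L81484 : sm gi N3771 = N7028 := trfs L81474 (flp_i L75761) rfl
theorem L81485 : N7028 = N2764 := eqes L81484 (flp_i L29868)
theorem L81486 : N7028 = N2764 := eqc rfl L81485 rfl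
theorem L81504 : sm gh N2764 = N9618 := trfs L81486 (flp_h L75650) rfl
theorem L81505 : N9618 = N2026 := eqes L81504 (flp_h L21955)
theorem L81506 : N9618 = N2026 := eqc rfl L81505 rfl
theorem L81508 : sm gc N2026 = N7021 := trfs L81506 (flp_c L75644) rfl
theorem L81509 : N7021 = N2756 := eqes L81508 (flp_c L21890)
theorem L81510 : N7021 = N2756 := eqc rfl L81509 rfl
theorem L81530 : sm gi N2756 = N9620 := trfs L81510 L75663 rfl
theorem L81531 : N9620 = N2756 := eqes L81530 L21894
theorem L81532 : N9620 = N2756 := eqc rfl L81531 rfl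
theorem L81540 : sm gg N2756 = N7025 := trfs L81532 L75670 rfl
theorem L81541 : N7025 = N2021 := eqes L81540 (flp_g L21885)
theorem L81542 : N7025 = N2021 := eqc rfl L81541 rfl
theorem L81553 : sm gh N2021 = N9626 := trfs L81542 L75712 rfl
theorem L81554 : N9626 = N2757 := eqes L81553 L21895
theorem L81555 : N9626 = N2757 := eqc rfl L81554 rfl
theorem L81563 : sm gi N2757 = N7036 := trfs L81555 L75719 rfl
theorem L81564 : N7036 = N3761 := eqes L81563 L29784
theorem L81565 : N7036 = N3761 := eqc rfl L81564 rfl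
theorem L81571 : sm ge N3761 = N9644 := trfs L81565 (flp_e L75863) rfl
theorem L81572 : N9644 = N2760 := eqes L81571 L29791
theorem L81573 : N9644 = N2760 := eqc rfl L81572 rfl
theorem L81584 : sm ga N2760 = N7084 := trfs L81573 L75860 rfl
theorem L81585 : N7084 = N2035 := eqes L81584 L21924
theorem L81586 : N7084 = N2035 := eqc rfl L81585 rfl
theorem L81593 : sm gf N2035 = N9710 := trfs L81586 (flp_f L76377) rfl
theorem L81594 : N9710 = N1495 := eqes L81593 L16207
theorem L81595 : N9710 = N1495 := eqc rfl L81594 rfl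
theorem L81604 : sm gb N1495 = N7163 := trfs L81595 L76374 rfl
theorem L81605 : N7163 = N1109 := eqes L81604 L11947
theorem L81606 : N7163 = N1109 := eqc rfl L81605 rfl
theorem L81610 : sm gc N1109 = N9814 := trfs L81606 (flp_c L77171) rfl
theorem L81611 : N9814 = N820 := eqes L81610 L8886
theorem L81612 : N9814 = N820 := eqc rfl L81611 rfl
theorem L81627 : sm gh N820 = N7159 := trfs L81612 (flp_h L77168) rfl
theorem L81628 : N7159 = N820 := eqes L81627 L6613
theorem L81629 : N7159 = N820 := eqc rfl L81628 rfl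
theorem L81641 : sm gi N820 = N5228 := trfs L81629 (flp_i L56390) rfl
theorem L81642 : N5228 = N602 := eqes L81641 (flp_i L6606)
theorem L81643 : N5228 = N602 := eqc rfl L81642 rfl
theorem L81655 : sm gh N602 = N7132 := trfs L81643 (flp_h L56205) rfl
theorem L81656 : N7132 = N444 := eqes L81655 (flp_h L4863)
theorem L81657 : N7132 = N444 := eqc rfl L81656 rfl
theorem L81668 : sm gg N444 = N9777 := trfs L81657 L76893 rfl
theorem L81669 : N9777 = N508 := eqes L81668 (flp_g L4114)
theorem L81670 : N9777 = N508 := eqc rfl L81669 rfl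
theorem L81679 : sm gc N508 = N7135 := trfs L81670 L76896 rfl
theorem L81680 : N7135 = N687 := eqes L81679 L5531
theorem L81681 : N7135 = N687 := eqc rfl L81680 rfl
theorem L81694 : sm gh N687 = N5231 := trfs L81681 L56228 rfl
theorem L81695 : N5231 = N929 := eqes L81694 L7452
theorem L81696 : N5231 = N929 := eqc rfl L81695 rfl
theorem L81705 : sm gb N929 = N7082 := trfs L81696 (flp_b L55815) rfl
theorem L81706 : N7082 = N1252 := eqes L81705 (flp_b L10004)
theorem L81707 : N7082 = N1252 := eqc rfl L81706 rfl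
theorem L81722 : sm gf N1252 = N9697 := trfs L81707 (flp_f L76284) rfl
theorem L81723 : N9697 = N1701 := eqes L81722 (flp_f L13554)
theorem L81724 : N9697 = N1701 := eqc rfl L81723 rfl
theorem L81736 : sm gg N1701 = N7073 := trfs L81724 (flp_g L76278) rfl
theorem L81737 : N7073 = N2318 := eqes L81736 (flp_g L18422)
theorem L81738 : N7073 = N2318 := eqc rfl L81737 rfl
theorem L81739 : sm ga N2318 = N9633 := trfs L81738 (flp_a L75773) rfl
theorem L81740 : N9633 = N3140 := eqes L81739 (flp_a L24885)
theorem L81741 : N9633 = N3140 := eqc rfl L81740 rfl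
theorem L81779 : sm gd N3140 = N7037 := trfs L81741 L75776 rfl
theorem L81780 : N7037 = N4287 := eqes L81779 L33908
theorem L81781 : N7037 = N4287 := eqc rfl L81780 rfl
theorem L81883 : sm gg N4287 = N9645 := trfs L81781 L75865 rfl
theorem L81884 : N9645 = N3141 := eqes L81883 L33915
theorem L81885 : N9645 = N3141 := eqc rfl L81884 rfl
theorem L81895 : sm gf N3141 = N7040 := trfs L81885 L75871 rfl
theorem L81896 : N7040 = N2309 := eqes L81895 L24899
theorem L81897 : N7040 = N2309 := eqc rfl L81896 rfl
theorem L81908 : sm gi N2309 = N9648 := trfs L81897 L75890 rfl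
theorem L81909 : N9648 = N3144 := eqes L81908 L24921
theorem L81910 : N9648 = N3144 := eqc rfl L81909 rfl
theorem L81913 : sm ge N3144 = N7043 := trfs L81910 L75895 rfl
theorem L81914 : N7043 = N4292 := eqes L81913 (flp_e L33958)
theorem L81915 : N7043 = N4292 := eqc rfl L81914 rfl
theorem L81925 : sm gh N4292 = N9651 := trfs L81915 L75916 rfl
theorem L81926 : N9651 = N5863 := eqes L81925 L46275
theorem L81927 : N9651 = N5863 := eqc rfl L81926 rfl
theorem L81931 : sm gg N5863 = N7044 := trfs L81927 L75921 rfl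
theorem L81932 : N7044 = N5149 := eqes L81931 L46282
theorem L81933 : N7044 = N5149 := eqc rfl L81932 rfl
theorem L81941 : sm ge N5149 = N9649 := trfs L81933 (flp_e L75904) rfl
theorem L81942 : N9649 = N3768 := eqes L81941 L40706
theorem L81943 : N9649 = N3768 := eqc rfl L81942 rfl
theorem L81949 : sm gf N3768 = N7042 := trfs L81943 L75906 rfl
theorem L81950 : N7042 = N5146 := eqes L81949 (flp_f L40682)
theorem L81951 : N7042 = N5146 := eqc rfl L81950 rfl
theorem L81962 : sm gh N5146 = N5145 := trfs L81951 (flp_h L55507) rfl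
theorem L81963 : N5145 = N3765 := eqes L81962 (flp_h L40677)
theorem L81964 : N5145 = N3765 := eqc rfl L81963 rfl
theorem L81968 : sm gc N3765 = N6961 := trfs L81964 (flp_c L54887) rfl
theorem L81969 : N6961 = N5089 := eqes L81968 (flp_c L40239)
theorem L81970 : N6961 = N5089 := eqc rfl L81969 rfl
theorem L81989 : sm gi N5089 = N5088 := trfs L81970 (flp_i L54883) rfl
theorem L81990 : N5088 = N3722 := eqes L81989 (flp_i L40235)
theorem L81991 : N5088 = N3722 := eqc rfl L81990 rfl
theorem L82001 : sm gf N3722 = N6960 := trfs L81991 L54874 rfl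
theorem L82002 : N6960 = N2731 := eqes L82001 L29491
theorem L82003 : N6960 = N2731 := eqc rfl L82002 rfl
theorem L82034 : sm ge N2731 = N5090 := trfs L82003 L54881 rfl
theorem L82035 : N5090 = N3724 := eqes L82034 L29504
theorem L82036 : N5090 = N3724 := eqc rfl L82035 rfl
theorem L82057 : sm gi N3724 = N6964 := trfs L82036 L54907 rfl
theorem L82058 : N6964 = N5091 := eqes L82057 L40252
theorem L82059 : N6964 = N5091 := eqc rfl L82058 rfl
theorem L82065 : sm gd N5091 = N7311 := trfs L82059 (flp_d L57687) rfl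
theorem L82066 : N7311 = N5341 := eqes L82065 (flp_d L42249)
theorem L82067 : N7311 = N5341 := eqc rfl L82066 rfl
theorem L82072 : sm ga N5341 = N5362 := trfs L82067 L57684 rfl
theorem L82073 : N5362 = N3924 := eqes L82072 L42246
theorem L82074 : N5362 = N3924 := eqc rfl L82073 rfl
theorem L82088 : sm gi N3924 = N3923 := trfs L82074 (flp_i L42423) rfl
theorem L82089 : N3923 = N2872 := eqes L82088 (flp_i L31110)
theorem L82090 : N3923 = N2872 := eqc rfl L82089 rfl
theorem L82102 : sm gh N2872 = N2969 := trfs L82090 L31108 rfl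
theorem L82103 : N2969 = N2180 := eqes L82102 L22836
theorem L82104 : N2969 = N2180 := eqc rfl L82103 rfl
theorem L82105 : sm ga N2180 = N4033 := trfs L82104 (flp_a L31937) rfl
theorem L82106 : N4033 = N2958 := eqes L82105 (flp_a L23479)
theorem L82107 : N4033 = N2958 := eqc rfl L82106 rfl
theorem L82114 : sm gf N2180 = N2180 := trfs L82104 (flp_f L23560) rfl
theorem L82115 : sm gg N2180 = N4047 := trfs L82104 L32038 rfl
theorem L82116 : N4047 = N2685 := eqes L82115 (flp_g L21350)
theorem L82117 : N4047 = N2685 := eqc rfl L82116 rfl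
theorem L82128 : sm gf N2685 = N5014 := trfs L82117 (flp_f L39684) rfl
theorem L82129 : N5014 = N3666 := eqes L82128 L29076
theorem L82130 : N5014 = N3666 := eqc rfl L82129 rfl
theorem L82133 : sm ga N3666 = N6848 := trfs L82130 (flp_a L54046) rfl
theorem L82134 : N6848 = N5000 := eqes L82133 (flp_a L39578)
theorem L82135 : N6848 = N5000 := eqc rfl L82134 rfl
theorem L82139 : sm ge N3666 = N6866 := trfs L82130 (flp_e L54174) rfl
theorem L82140 : N6866 = N5013 := eqes L82139 (flp_e L39676)
theorem L82141 : N6866 = N5013 := eqc rfl L82140 rfl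
theorem L82142 : sm gg N3666 = N3666 := trfs L82130 (flp_g L39678) rfl
theorem L82279 : sm ga N5013 = N9393 := trfs L82141 (flp_a L73960) rfl
theorem L82280 : N9393 = N6847 := eqes L82279 (flp_a L54038)
theorem L82281 : N9393 = N6847 := eqc rfl L82280 rfl
theorem L82284 : sm gd N5013 = N9417 := trfs L82141 (flp_d L74133) rfl
theorem L82285 : N9417 = N6864 := eqes L82284 (flp_d L54159)
theorem L82286 : N9417 = N6864 := eqc rfl L82285 rfl
theorem L82287 : sm gf N5013 = N9418 := trfs L82141 (flp_f L74144) rfl
theorem L82288 : N9418 = N3665 := eqes L82287 (flp_f L39671)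
theorem L82289 : N9418 = N3665 := eqc rfl L82288 rfl
theorem L82290 : sm gg N5013 = N5013 := trfs L82141 (flp_g L54170) rfl
theorem L82297 : sm gg N3665 = N6865 := trfs L82289 (flp_g L74137) rfl
theorem L82298 : N6865 = N5012 := eqes L82297 (flp_g L39668)
theorem L82299 : N6865 = N5012 := eqc rfl L82298 rfl
theorem L82301 : sm ga N5012 = N9392 := trfs L82299 (flp_a L73952) rfl
theorem L82302 : N9392 = N6846 := eqes L82301 (flp_a L54030)
theorem L82303 : N9392 = N6846 := eqc rfl L82302 rfl
theorem L82312 : sm gf N5012 = N5012 := trfs L82299 (flp_f L54163) rfl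
theorem L82313 : sm gh N5012 = N8734 := trfs L82299 (flp_h L68971) rfl
theorem L82314 : N8734 = N6361 := eqes L82313 (flp_h L50355)
theorem L82315 : N8734 = N6361 := eqc rfl L82314 rfl
theorem L82319 : sm ge N6361 = N7337 := trfs L82315 L68973 rfl
theorem L82320 : N7337 = N4644 := eqes L82319 (flp_e L50349)
theorem L82321 : N7337 = N4644 := eqc rfl L82320 rfl
theorem L82325 : sm gf N4644 = N5357 := trfs L82321 (flp_f L57898) rfl
theorem L82326 : N5357 = N3919 := eqes L82325 L36858
theorem L82327 : N5357 = N3919 := eqc rfl L82326 rfl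
theorem L82341 : sm gh N3919 = N4045 := trfs L82327 L42389 rfl
theorem L82342 : N4045 = N2967 := eqes L82341 L31076
theorem L82343 : N4045 = N2967 := eqc rfl L82342 rfl
theorem L82344 : sm gi N3919 = N7338 := trfs L82327 L57904 rfl
theorem L82345 : N7338 = N5358 := eqes L82344 L42391
theorem L82346 : N7338 = N5358 := eqc rfl L82345 rfl
theorem L82350 : sm gg N5358 = N5360 := trfs L82346 L57910 rfl
theorem L82351 : N5360 = N3922 := eqes L82350 L42397
theorem L82352 : N5360 = N3922 := eqc rfl L82351 rfl
theorem L82359 : sm gd N3922 = N7335 := trfs L82352 (flp_d L57887) rfl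
theorem L82360 : N7335 = N2871 := eqes L82359 L31097
theorem L82361 : N7335 = N2871 := eqc rfl L82360 rfl
theorem L82368 : sm gi N2871 = N5355 := trfs L82361 (flp_i L57884) rfl
theorem L82369 : N5355 = N2103 := eqes L82368 (flp_i L22823)
theorem L82370 : N5355 = N2103 := eqc rfl L82369 rfl
theorem L82380 : sm gh N2103 = N7324 := trfs L82370 (flp_h L57808) rfl
theorem L82381 : N7324 = N1541 := eqes L82380 (flp_h L16750)
theorem L82382 : N7324 = N1541 := eqc rfl L82381 rfl
theorem L82384 : sm gd N1541 = N5516 := trfs L82382 L57810 rfl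
theorem L82385 : N5516 = N1175 := eqes L82384 L12325
theorem L82386 : N5516 = N1175 := eqc rfl L82385 rfl
theorem L82407 : sm gi N1175 = N7545 := trfs L82386 L59489 rfl
theorem L82408 : N7545 = N875 := eqes L82407 L9395
theorem L82409 : N7545 = N875 := eqc rfl L82408 rfl
theorem L82411 : sm ge N875 = N5517 := trfs L82409 L59492 rfl
theorem L82412 : N5517 = N1187 := eqes L82411 L9482
theorem L82413 : N5517 = N1187 := eqc rfl L82412 rfl
theorem L82426 : sm gg N1187 = N7540 := trfs L82413 (flp_g L59460) rfl
theorem L82427 : N7540 = N1613 := eqes L82426 L12852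
theorem L82428 : N7540 = N1613 := eqc rfl L82427 rfl
theorem L82434 : sm gi N1613 = N5513 := trfs L82428 (flp_i L59455) rfl
theorem L82435 : N5513 = N2176 := eqes L82434 (flp_i L17306)
theorem L82436 : N5513 = N2176 := eqc rfl L82435 rfl
theorem L82448 : sm gh N2176 = N4042 := trfs L82436 L43575 rfl
theorem L82449 : N4042 = N2965 := eqes L82448 L23533
theorem L82450 : N4042 = N2965 := eqc rfl L82449 rfl
theorem L82451 : sm ga N2965 = N5502 := trfs L82450 (flp_a L43487) rfl
theorem L82452 : N5502 = N4029 := eqes L82451 (flp_a L31906)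
theorem L82453 : N5502 = N4029 := eqc rfl L82452 rfl
theorem L82458 : sm gd N2965 = N2965 := trfs L82450 (flp_d L32006) rfl
theorem L82465 : sm gg N2965 = N2966 := trfs L82450 L32009 rfl
theorem L82466 : N2966 = N2177 := eqes L82465 L23540
theorem L82467 : N2966 = N2177 := eqc rfl L82466 rfl
theorem L82469 : sm ga N2177 = N4030 := trfs L82467 (flp_a L31917) rfl
theorem L82470 : N4030 = N2955 := eqes L82469 (flp_a L23452)
theorem L82471 : N4030 = N2955 := eqc rfl L82470 rfl
theorem L82473 : sm gc N2177 = N4043 := trfs L82467 L32012 rfl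
theorem L82474 : N4043 = N1603 := eqes L82473 L17311
theorem L82475 : N4043 = N1603 := eqc rfl L82474 rfl
theorem L82476 : sm gd N2177 = N2177 := trfs L82467 (flp_d L23543) rfl
theorem L82487 : sm gd N1603 = N2972 := trfs L82475 L32016 rfl
theorem L82488 : N2972 = N2183 := eqes L82487 L17355
theorem L82489 : N2972 = N2183 := eqc rfl L82488 rfl
theorem L82490 : sm ge N1603 = N5522 := trfs L82475 L43632 rfl
theorem L82491 : N5522 = N1179 := eqes L82490 L12780
theorem L82492 : N5522 = N1179 := eqc rfl L82491 rfl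
theorem L82527 : sm gf N1179 = N7553 := trfs L82492 L59544 rfl
theorem L82528 : N7553 = N867 := eqes L82527 L9424
theorem L82529 : N7553 = N867 := eqc rfl L82528 rfl
theorem L82539 : sm gc N867 = N5523 := trfs L82529 L59546 rfl
theorem L82540 : N5523 = N1176 := eqes L82539 (flp_c L9400)
theorem L82541 : N5523 = N1176 := eqc rfl L82540 rfl
theorem L82545 : sm ga N1176 = N7528 := trfs L82541 (flp_a L59362) rfl
theorem L82546 : N7528 = N1594 := eqes L82545 (flp_a L12706)
theorem L82547 : N7528 = N1594 := eqc rfl L82546 rfl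
theorem L82565 : sm gf N1594 = N5504 := trfs L82547 (flp_f L59360) rfl
theorem L82566 : N5504 = N2170 := eqes L82565 (flp_f L17255)
theorem L82567 : N5504 = N2170 := eqc rfl L82566 rfl
theorem L82574 : sm gd N2170 = N4032 := trfs L82567 L43505 rfl
theorem L82575 : N4032 = N2957 := eqes L82574 L23469
theorem L82576 : N4032 = N2957 := eqc rfl L82575 rfl
theorem L82578 : sm gg N2170 = N7525 := trfs L82567 (flp_g L59341) rfl
theorem L82579 : N7525 = N2956 := eqes L82578 (flp_g L23466)
theorem L82580 : N7525 = N2956 := eqc rfl L82579 rfl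
theorem L82584 : sm gd N2956 = N5505 := trfs L82580 L59344 rfl
theorem L82585 : N5505 = N4031 := eqes L82584 L31921
theorem L82586 : N5505 = N4031 := eqc rfl L82585 rfl
theorem L82590 : sm gb N4031 = N7510 := trfs L82586 (flp_b L59223) rfl
theorem L82591 : N7510 = N5492 := eqes L82590 (flp_b L43410)
theorem L82592 : N7510 = N5492 := eqc rfl L82591 rfl
theorem L82594 : sm ge N4031 = N4031 := trfs L82586 (flp_e L43507) rfl
theorem L82606 : sm ge N5492 = N5492 := trfs L82592 (flp_e L59220) rfl
theorem L82607 : sm gg N5492 = N5494 := trfs L82592 L59225 rfl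
theorem L82608 : N5494 = N4023 := eqes L82607 L43412
theorem L82609 : N5494 = N4023 := eqc rfl L82608 rfl
theorem L82613 : sm gc N4023 = N7511 := trfs L82609 (flp_c L59232) rfl
theorem L82614 : N7511 = N5493 := eqes L82613 L43415
theorem L82615 : N7511 = N5493 := eqc rfl L82614 rfl
theorem L82617 : sm ge N4023 = N4023 := trfs L82609 (flp_e L43423) rfl
theorem L82618 : sm gf N4023 = N7512 := trfs L82609 L59235 rfl
theorem L82619 : N7512 = N2952 := eqes L82618 L31864
theorem L82620 : N7512 = N2952 := eqc rfl L82619 rfl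
theorem L82646 : sm ge N2952 = N5496 := trfs L82620 L59241 rfl
theorem L82647 : N5496 = N4025 := eqes L82646 L31873
theorem L82648 : N5496 = N4025 := eqc rfl L82647 rfl
theorem L82652 : sm gc N4025 = N7514 := trfs L82648 (flp_c L59255) rfl
theorem L82653 : N7514 = N5495 := eqes L82652 (flp_c L43433)
theorem L82654 : N7514 = N5495 := eqc rfl L82653 rfl
theorem L82656 : sm gf N4025 = N4025 := trfs L82648 (flp_f L43436) rfl
theorem L82657 : sm gg N4025 = N7515 := trfs L82648 L59258 rfl
theorem L82658 : N7515 = N4992 := eqes L82657 (flp_g L39515)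
theorem L82659 : N7515 = N4992 := eqc rfl L82658 rfl
theorem L82671 : sm gf N4992 = N9378 := trfs L82659 (flp_f L73847) rfl
theorem L82672 : N9378 = N6837 := eqes L82671 L53958
theorem L82673 : N9378 = N6837 := eqc rfl L82672 rfl
theorem L82678 : sm gg N6837 = N6837 := trfs L82673 (flp_g L73840) rfl
theorem L82682 : sm gf N5495 = N5495 := trfs L82654 (flp_f L59251) rfl
theorem L82686 : sm gd N5493 = N9870 := trfs L82615 L77629 rfl
theorem L82687 : N9870 = N5493 := eqes L82686 L43422
theorem L82688 : N9870 = N5493 := eqc rfl L82687 rfl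
theorem L82689 : sm ge N5493 = N5493 := trfs L82615 (flp_e L59228) rfl
theorem L82693 : sm gc N5493 = N7206 := trfs L82688 L77624 rfl
theorem L82694 : N7206 = N4023 := eqes L82693 (flp_c L43415)
theorem L82695 : N7206 = N4023 := eqc rfl L82694 rfl
theorem L82700 : sm gh N5493 = N7204 := trfs L82688 (flp_h L77620) rfl
theorem L82701 : N7204 = N7289 := eqes L82700 (flp_h L57489)
theorem L82702 : N7289 = N7204 := (eqc rfl L82701 rfl).symm
theorem L82706 : sm gc N7204 = N5325 := trfs L82702 (flp_c L57484) rfl
theorem L82707 : N5325 = N5267 := eqes L82706 (flp_c L56765)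
theorem L82708 : N5325 = N5267 := eqc rfl L82707 rfl
theorem L82709 : sm gd N7204 = N7213 := trfs L82702 L57492 rfl
theorem L82710 : N7213 = N7280 := eqes L82709 (flp_d L57400)
theorem L82711 : N7280 = N7213 := (eqc rfl L82710 rfl).symm
theorem L82712 : sm gf N7204 = N5327 := trfs L82702 L57487 rfl
theorem L82713 : N5327 = N5379 := eqes L82712 L56769
theorem L82714 : N5379 = N5327 := (eqc rfl L82713 rfl).symm
theorem L82715 : sm gh N7204 = N5493 := trfs L82702 L57489 rfl
theorem L82719 : sm gc N5327 = N3937 := trfs L82714 (flp_c L42573) rfl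
theorem L82720 : N3937 = N3898 := eqes L82719 (flp_c L42116)
theorem L82721 : N3937 = N3898 := eqc rfl L82720 rfl
theorem L82722 : sm gd N5327 = N6934 := trfs L82714 (flp_d L54681) rfl
theorem L82723 : N6934 = N5273 := eqes L82722 L42122
theorem L82724 : N6934 = N5273 := eqc rfl L82723 rfl
theorem L82725 : sm ge N5327 = N4055 := trfs L82714 L42576 rfl
theorem L82726 : N4055 = N7292 := eqes L82725 L57511
theorem L82727 : N7292 = N4055 := (eqc rfl L82726 rfl).symm
theorem L82728 : sm gf N5327 = N7204 := trfs L82714 (flp_f L56769) rfl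
theorem L82730 : sm gg N5327 = N7362 := trfs L82714 L58118 rfl
theorem L82731 : N7362 = N6331 := eqes L82730 (flp_g L50074)
theorem L82732 : N7362 = N6331 := eqc rfl L82731 rfl
theorem L82734 : sm gi N5327 = N7213 := trfs L82714 (flp_i L57397) L82711
theorem L82735 : N7213 = N7293 := eqes L82734 L57520
theorem L82736 : N7293 = N7213 := (eqc rfl L82735 rfl).symm
theorem L82739 : sm gc N7213 = N5329 := trfs L82736 L57524 rfl
theorem L82740 : N5329 = N5271 := eqes L82739 (flp_c L56845)
theorem L82741 : N5329 = N5271 := eqc rfl L82740 rfl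
theorem L82744 : sm gg N7213 = N8690 := trfs L82736 (flp_g L68592) rfl
theorem L82747 : sm gi N7213 = N5327 := trfs L82736 (flp_i L57520) rfl
theorem L82750 : sm gb N5271 = N3907 := trfs L82741 L42136 rfl
theorem L82751 : N3907 = N3864 := eqes L82750 L41649
theorem L82752 : N3907 = N3864 := eqc rfl L82751 rfl
theorem L82753 : sm gd N5271 = N3899 := trfs L82741 L42138 rfl
theorem L82754 : N3899 = N3857 := eqes L82753 (flp_d L41646)
theorem L82755 : N3899 = N3857 := eqc rfl L82754 rfl
theorem L82762 : sm gg N5271 = N6333 := trfs L82741 (flp_g L50099) rfl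
theorem L82763 : N6333 = N7211 := eqes L82762 (flp_g L56833)
theorem L82764 : N7211 = N6333 := (eqc rfl L82763 rfl).symm
theorem L82766 : sm gi N5271 = N3898 := trfs L82741 (flp_i L42133) rfl
theorem L82767 : N3898 = N7215 := eqes L82766 L56859
theorem L82768 : N7215 = N3898 := (eqc rfl L82767 rfl).symm
theorem L82773 : sm gd N3898 = N5272 := trfs L82768 L56864 rfl
theorem L82774 : N5272 = N2856 := eqes L82773 (flp_d L30871)
theorem L82775 : N5272 = N2856 := eqc rfl L82774 rfl
theorem L82776 : sm gf N3898 = N5274 := trfs L82768 L56866 rfl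
theorem L82777 : N5274 = N5325 := eqes L82776 (flp_f L42101)
theorem L82778 : N5274 = N5267 := eqc rfl L82777 L82708
theorem L82779 : sm gi N3898 = N5271 := trfs L82768 (flp_i L56859) rfl
theorem L82782 : sm gb N5267 = N3866 := trfs L82778 L41672 rfl
theorem L82783 : N3866 = N3860 := eqes L82782 L41614
theorem L82784 : N3866 = N3860 := eqc rfl L82783 rfl
theorem L82785 : sm gc N5267 = N7216 := trfs L82778 (flp_c L56872) rfl
theorem L82786 : N7216 = N7204 := eqes L82785 L56765
theorem L82787 : N7216 = N7204 := eqc rfl L82786 rfl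
theorem L82788 : sm gd N5267 = N3859 := trfs L82778 L41674 rfl
theorem L82789 : N3859 = N3855 := eqes L82788 (flp_d L41611)
theorem L82790 : N3859 = N3855 := eqc rfl L82789 rfl
theorem L82792 : sm gg N5267 = N6081 := trfs L82778 (flp_g L48008) rfl
theorem L82793 : N6081 = N7205 := eqes L82792 L56774
theorem L82794 : N7205 = N6081 := (eqc rfl L82793 rfl).symm
theorem L82798 : sm gi N5267 = N3858 := trfs L82778 (flp_i L41669) rfl
theorem L82799 : N3858 = N5072 := eqes L82798 L41618
theorem L82800 : N5072 = N3858 := (eqc rfl L82799 rfl).symm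
theorem L82806 : sm gd N3858 = N3713 := trfs L82800 (flp_d L40103) rfl
theorem L82807 : N3713 = N2828 := eqes L82806 (flp_d L30534)
theorem L82808 : N3713 = N2828 := eqc rfl L82807 rfl
theorem L82810 : sm gf N3858 = N5321 := trfs L82800 (flp_f L42059) rfl
theorem L82811 : N5321 = N5271 := eqes L82810 (flp_f L41651)
theorem L82812 : N5321 = N5271 := eqc rfl L82811 rfl
theorem L82813 : sm gg N3858 = N6935 := trfs L82800 L54683 rfl
theorem L82814 : N6935 = N4447 := eqes L82813 (flp_g L35186)
theorem L82815 : N6935 = N4447 := eqc rfl L82814 rfl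
theorem L82817 : sm gi N3858 = N5267 := trfs L82800 (flp_i L41618) rfl
theorem L82830 : sm gf N4447 = N9501 := trfs L82815 L74755 rfl
theorem L82831 : N9501 = N6078 := eqes L82830 (flp_f L47980)
theorem L82832 : N9501 = N6078 := eqc rfl L82831 rfl
theorem L82840 : sm gd N6078 = N6937 := trfs L82832 L74760 rfl
theorem L82841 : N6937 = N4446 := eqes L82840 (flp_d L47975)
theorem L82842 : N6937 = N4446 := eqc rfl L82841 rfl
theorem L82847 : sm gc N4446 = N5382 := trfs L82842 L54702 rfl
theorem L82848 : N5382 = N4622 := eqes L82847 (flp_c L36641)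
theorem L82849 : N5382 = N4622 := eqc rfl L82848 rfl
theorem L82850 : sm ge N4446 = N7830 := trfs L82842 (flp_e L61669) rfl
theorem L82851 : N7830 = N6076 := eqes L82850 (flp_e L47962)
theorem L82852 : N7830 = N6076 := eqc rfl L82851 rfl
theorem L82854 : sm gg N4446 = N7283 := trfs L82842 (flp_g L57431) rfl
theorem L82855 : N7283 = N6077 := eqes L82854 (flp_g L47973)
theorem L82856 : N7283 = N6077 := eqc rfl L82855 rfl
theorem L82860 : sm gi N4446 = N7207 := trfs L82842 (flp_i L56797) rfl
theorem L82861 : N7207 = N6079 := eqes L82860 L47983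
theorem L82862 : N7207 = N6079 := eqc rfl L82861 rfl
theorem L82864 : sm gb N6079 = N5277 := trfs L82862 L56795 rfl
theorem L82865 : N5277 = N4454 := eqes L82864 L47986
theorem L82866 : N5277 = N4454 := eqc rfl L82865 rfl
theorem L82867 : sm gc N6079 = N6077 := trfs L82862 (flp_c L57427) L82856
theorem L82868 : N6077 = N6330 := eqes L82867 (flp_c L50065)
theorem L82869 : N6330 = N6077 := (eqc rfl L82868 rfl).symm
theorem L82870 : sm ge N6079 = N8321 := trfs L82862 (flp_e L65537) rfl
theorem L82871 : N8321 = N8324 := eqes L82870 (flp_e L65562)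
theorem L82872 : N8324 = N8321 := (eqc rfl L82871 rfl).symm
theorem L82876 : sm gg N6079 = N4622 := trfs L82862 L56799 L82849
theorem L82877 : N4622 = N8326 := eqes L82876 (flp_g L65585)
theorem L82878 : N8326 = N4622 := (eqc rfl L82877 rfl).symm
theorem L82880 : sm gb N4622 = N6089 := trfs L82878 L65581 rfl
theorem L82881 : N6089 = N3381 := eqes L82880 L36639
theorem L82882 : N6089 = N3381 := eqc rfl L82881 rfl
theorem L82889 : sm gg N4622 = N6079 := trfs L82878 L65585 rfl
theorem L82890 : N6079 = N6328 := eqes L82889 (flp_g L50049)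
theorem L82891 : N6328 = N6079 := (eqc rfl L82890 rfl).symm
theorem L82892 : sm gh N4622 = N7835 := trfs L82878 L65587 rfl
theorem L82893 : N7835 = N3377 := eqes L82892 (flp_h L36636)
theorem L82894 : N7835 = N3377 := eqc rfl L82893 rfl
theorem L82910 : sm gi N3377 = N5728 := trfs L82894 (flp_i L61707) rfl
theorem L82911 : N5728 = N2495 := eqes L82910 L26820
theorem L82912 : N5728 = N2495 := eqc rfl L82911 rfl
theorem L82917 : sm gc N2495 = N4665 := trfs L82912 L45210 rfl
theorem L82918 : N4665 = N3079 := eqes L82917 (flp_c L24393)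
theorem L82919 : N4665 = N3079 := eqc rfl L82918 rfl
theorem L82929 : sm gg N2495 = N4197 := trfs L82912 L45214 rfl
theorem L82930 : N4197 = N3407 := eqes L82929 L27095
theorem L82931 : N4197 = N3407 := eqc rfl L82930 rfl
theorem L82932 : sm gh N2495 = N4196 := trfs L82912 (flp_h L45205) rfl
theorem L82933 : N4196 = N3408 := eqes L82932 L27104
theorem L82934 : N4196 = N3408 := eqc rfl L82933 rfl
theorem L82936 : sm gb N3408 = N3082 := trfs L82934 L33176 rfl
theorem L82937 : N3082 = N2499 := eqes L82936 L27107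
theorem L82938 : N3082 = N2499 := eqc rfl L82937 rfl
theorem L82942 : sm ge N3408 = N5726 := trfs L82934 (flp_e L45194) rfl
theorem L82943 : N5726 = N4664 := eqes L82942 (flp_e L37033)
theorem L82944 : N5726 = N4664 := eqc rfl L82943 rfl
theorem L82945 : sm gf N3408 = N3714 := trfs L82934 L33181 rfl
theorem L82946 : N3714 = N2496 := eqes L82945 L27109
theorem L82947 : N3714 = N2496 := eqc rfl L82946 rfl
theorem L82950 : sm gi N3408 = N4445 := trfs L82934 (flp_i L35170) rfl
theorem L82951 : N4445 = N4666 := eqes L82950 L37045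
theorem L82952 : N4666 = N4445 := (eqc rfl L82951 rfl).symm
theorem L82954 : sm gb N4445 = N3414 := trfs L82952 L37048 rfl
theorem L82955 : N3414 = N3257 := eqes L82954 L35167
theorem L82956 : N3414 = N3257 := eqc rfl L82955 rfl
theorem L82962 : sm gf N4445 = N3409 := trfs L82952 L37051 rfl
theorem L82963 : N3409 = N3856 := eqes L82962 L35172
theorem L82964 : N3856 = N3409 := (eqc rfl L82963 rfl).symm
theorem L82967 : sm gi N4445 = N3408 := trfs L82952 (flp_i L37045) rfl
theorem L82970 : sm gb N3409 = N2830 := trfs L82964 L30522 rfl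
theorem L82971 : N2830 = N2500 := eqes L82970 L27115
theorem L82972 : N2830 = N2500 := eqc rfl L82971 rfl
theorem L82973 : sm gc N3409 = N3896 := trfs L82964 (flp_c L30856) rfl
theorem L82974 : N3896 = N4199 := eqes L82973 (flp_c L33206)
theorem L82975 : N4199 = N3896 := (eqc rfl L82974 rfl).symm
theorem L82978 : sm gf N3409 = N4445 := trfs L82964 (flp_f L35172) rfl
theorem L82980 : sm gg N3409 = N2827 := trfs L82964 (flp_g L30519) rfl
theorem L82981 : N2827 = N2887 := eqes L82980 L27118
theorem L82982 : N2887 = N2827 := (eqc rfl L82981 rfl).symm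
theorem L82983 : sm gh N3409 = N5270 := trfs L82964 L41639 rfl
theorem L82984 : N5270 = N4624 := eqes L82983 (flp_h L36665)
theorem L82985 : N5270 = N4624 := eqc rfl L82984 rfl
theorem L82988 : sm gb N4624 = N3863 := trfs L82985 L41642 rfl
theorem L82989 : N3863 = N3383 := eqes L82988 L36657
theorem L82990 : N3863 = N3383 := eqc rfl L82989 rfl
theorem L82995 : sm ge N4624 = N7208 := trfs L82985 (flp_e L56806) rfl
theorem L82996 : N7208 = N4199 := eqes L82995 L36661
theorem L82997 : N7208 = N3896 := eqc rfl L82996 L82975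
theorem L83009 : sm gg N3896 = N5269 := trfs L82997 L56808 rfl
theorem L83010 : N5269 = N2855 := eqes L83009 (flp_g L30851)
theorem L83011 : N5269 = N2855 := eqc rfl L83010 rfl
theorem L83015 : sm gb N2855 = N3862 := trfs L83011 L41633 rfl
theorem L83016 : N3862 = N2095 := eqes L83015 L22677
theorem L83017 : N3862 = N2095 := eqc rfl L83016 rfl
theorem L83024 : sm ge N2855 = N3857 := trfs L83011 L41635 rfl
theorem L83025 : N3857 = N3895 := eqes L83024 L30840
theorem L83026 : N3895 = N3857 := (eqc rfl L83025 rfl).symm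
theorem L83030 : sm gh N2855 = N3855 := trfs L83011 (flp_h L41630) rfl
theorem L83031 : N3855 = N3897 := eqes L83030 L30862
theorem L83032 : N3897 = N3855 := (eqc rfl L83031 rfl).symm
theorem L83033 : sm gi N2855 = N7210 := trfs L83011 L56817 rfl
theorem L83034 : N7210 = N2115 := eqes L83033 L22683
theorem L83035 : N7210 = N2115 := eqc rfl L83034 rfl
theorem L83040 : sm gc N2115 = N7286 := trfs L83035 (flp_c L57456) rfl
theorem L83041 : N7286 = N2726 := eqes L83040 (flp_c L21666)
theorem L83042 : N7286 = N2726 := eqc rfl L83041 rfl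
theorem L83043 : sm ge N2115 = N2856 := trfs L83035 L56822 L82775
theorem L83044 : N2856 = N2884 := eqes L83043 L22937
theorem L83045 : N2884 = N2856 := (eqc rfl L83044 rfl).symm
theorem L83049 : sm gh N2115 = N6940 := trfs L83035 L56826 rfl
theorem L83050 : N6940 = N2886 := eqes L83049 L22949
theorem L83051 : N6940 = N2886 := eqc rfl L83050 rfl
theorem L83064 : sm gf N2886 = N2726 := trfs L83051 (flp_f L57460) L83042
theorem L83065 : N2726 = N2116 := eqes L83064 L22954
theorem L83066 : N2726 = N2116 := eqc rfl L83065 rfl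
theorem L83070 : sm gi N2886 = N5074 := trfs L83051 (flp_i L54720) rfl
theorem L83071 : N5074 = N3941 := eqes L83070 L31254
theorem L83072 : N5074 = N3941 := eqc rfl L83071 rfl
theorem L83089 : sm gh N3941 = N2828 := trfs L83072 (flp_h L40118) L82808
theorem L83090 : N2828 = N5326 := eqes L83089 (flp_h L42114)
theorem L83091 : N5326 = N2828 := (eqc rfl L83090 rfl).symm
theorem L83104 : sm gh N2828 = N3941 := trfs L83091 L42114 rfl
theorem L83105 : N3941 = N2073 := eqes L83104 (flp_h L22453)
theorem L83106 : N3941 = N2073 := eqc rfl L83105 rfl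
theorem L83120 : sm gi N2073 = N2886 := trfs L83106 (flp_i L31254) rfl
theorem L83121 : N2886 = N2000 := eqes L83120 L16499
theorem L83122 : N2886 = N2000 := eqc rfl L83121 rfl
theorem L83124 : sm gb N2000 = N2119 := trfs L83122 L22952 rfl
theorem L83125 : N2119 = N1471 := eqes L83124 (flp_b L15934)
theorem L83126 : N2119 = N1471 := eqc rfl L83125 rfl
theorem L83132 : sm gg N2000 = N3940 := trfs L83122 (flp_g L31251) rfl
theorem L83133 : N3940 = N2264 := eqes L83132 (flp_g L17972)
theorem L83134 : N3940 = N2264 := eqc rfl L83133 rfl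
theorem L83135 : sm gh N2000 = N2115 := trfs L83122 (flp_h L22949) rfl
theorem L83136 : N2115 = N2727 := eqes L83135 L21669
theorem L83137 : N2727 = N2115 := (eqc rfl L83136 rfl).symm
theorem L83139 : sm gb N2115 = N2002 := trfs L83137 L21672 rfl
theorem L83140 : N2002 = N1552 := eqes L83139 L16856
theorem L83141 : N2002 = N1552 := eqc rfl L83140 rfl
theorem L83150 : sm gg N2115 = N3080 := trfs L83137 (flp_g L24403) rfl
theorem L83151 : N3080 = N2885 := eqes L83150 L22942
theorem L83152 : N3080 = N2885 := eqc rfl L83151 rfl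
theorem L83153 : sm gh N2115 = N2000 := trfs L83137 (flp_h L21669) rfl
theorem L83155 : sm gi N2115 = N3717 := trfs L83137 L29450 rfl
theorem L83156 : N3717 = N2855 := eqes L83155 (flp_i L22683)
theorem L83157 : N3717 = N2855 := eqc rfl L83156 rfl
theorem L83163 : sm gd N2855 = N5079 := trfs L83157 (flp_d L40167) rfl
theorem L83164 : N5079 = N2166 := eqes L83163 L22681
theorem L83165 : N5079 = N2166 := eqc rfl L83164 rfl
theorem L83186 : sm gh N2166 = N6947 := trfs L83165 L54779 rfl
theorem L83187 : N6947 = N2951 := eqes L83186 L23417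
theorem L83188 : N6947 = N2951 := eqc rfl L83187 rfl
theorem L83196 : sm ge N2951 = N9518 := trfs L83188 (flp_e L74895) rfl
theorem L83197 : N9518 = N4021 := eqes L83196 (flp_e L31846)
theorem L83198 : N9518 = N4021 := eqc rfl L83197 rfl
theorem L83202 : sm gg N2951 = N7840 := trfs L83188 (flp_g L61758) rfl
theorem L83203 : N7840 = N4022 := eqes L83202 (flp_g L31856)
theorem L83204 : N7840 = N4022 := eqc rfl L83203 rfl
theorem L83211 : sm gd N4022 = N8331 := trfs L83204 (flp_d L65629) rfl
theorem L83212 : N8331 = N5492 := eqes L83211 L43407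
theorem L83213 : N8331 = N5492 := eqc rfl L83212 rfl
theorem L83217 : sm gb N5492 = N6092 := trfs L83213 L65624 rfl
theorem L83218 : N6092 = N4031 := eqes L83217 L43410
theorem L83219 : N6092 = N4031 := eqc rfl L83218 rfl
theorem L83222 : sm gh N5492 = N6081 := trfs L83213 (flp_h L65621) rfl
theorem L83223 : N6081 = N7287 := eqes L83222 (flp_h L57471)
theorem L83224 : N7287 = N6081 := (eqc rfl L83223 rfl).symm
theorem L83231 : sm gf N6081 = N8684 := trfs L83224 (flp_f L68527) rfl
theorem L83232 : N8684 = N8329 := eqes L83231 (flp_f L65610)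
theorem L83233 : N8684 = N8329 := eqc rfl L83232 rfl
theorem L83237 : sm gh N6081 = N5492 := trfs L83224 L57471 rfl
theorem L83240 : sm gb N8329 = N6340 := trfs L83233 L68525 rfl
theorem L83241 : N6340 = N6091 := eqes L83240 L65606
theorem L83242 : N6340 = N6091 := eqc rfl L83241 rfl
theorem L83244 : sm gg N8329 = N6329 := trfs L83233 L68529 rfl
theorem L83246 : sm gh N8329 = N6833 := trfs L83233 L68531 rfl
theorem L83248 : sm ga N6091 = N4644 := trfs L83242 L50162 rfl
theorem L83249 : N4644 = N4470 := eqes L83248 L48097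
theorem L83250 : N4644 = N4470 := eqc rfl L83249 rfl
theorem L83252 : sm gd N6091 = N4628 := trfs L83242 (flp_d L50160) rfl
theorem L83253 : N4628 = N4454 := eqes L83252 L48100
theorem L83254 : N4628 = N4454 := eqc rfl L83253 rfl
theorem L83255 : sm ge N6091 = N8703 := trfs L83242 L68704 rfl
theorem L83256 : N8703 = N8344 := eqes L83255 (flp_e L65743)
theorem L83257 : N8703 = N8344 := eqc rfl L83256 rfl
theorem L83259 : sm gg N6091 = N4629 := trfs L83242 L50166 rfl
theorem L83260 : N4629 = N8343 := eqes L83259 (flp_g L65736)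
theorem L83261 : N8343 = N4629 := (eqc rfl L83260 rfl).symm
theorem L83262 : sm gh N6091 = N4998 := trfs L83242 L50169 rfl
theorem L83263 : N4998 = N8345 := eqes L83262 L65746
theorem L83264 : N8345 = N4998 := (eqc rfl L83263 rfl).symm
theorem L83265 : sm gi N6091 = N8704 := trfs L83242 L68713 rfl
theorem L83266 : N8704 = N4453 := eqes L83265 (flp_i L48095)
theorem L83267 : N8704 = N4453 := eqc rfl L83266 rfl
theorem L83278 : sm gg N4453 = N6343 := trfs L83267 L68722 rfl
theorem L83279 : N6343 = N6088 := eqes L83278 (flp_g L48072)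
theorem L83280 : N6343 = N6088 := eqc rfl L83279 rfl
theorem L83282 : sm ga N6088 = N4647 := trfs L83280 L50192 rfl
theorem L83283 : N4647 = N4467 := eqes L83282 L48068
theorem L83284 : N4647 = N4467 := eqc rfl L83283 rfl
theorem L83285 : sm gb N6088 = N8688 := trfs L83280 (flp_b L68566) rfl
theorem L83286 : N8688 = N8325 := eqes L83285 (flp_b L65571)
theorem L83287 : N8688 = N8325 := eqc rfl L83286 rfl
theorem L83292 : sm ge N6088 = N8706 := trfs L83280 (flp_e L68739) rfl
theorem L83293 : N8706 = N8342 := eqes L83292 L65719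
theorem L83294 : N8706 = N8342 := eqc rfl L83293 rfl
theorem L83295 : sm gf N6088 = N4632 := trfs L83280 L50197 rfl
theorem L83296 : N4632 = N5281 := eqes L83295 L48070
theorem L83297 : N5281 = N4632 := (eqc rfl L83296 rfl).symm
theorem L83301 : sm ga N4632 = N3878 := trfs L83297 L41735 rfl
theorem L83302 : N3878 = N3395 := eqes L83301 L36739
theorem L83303 : N3878 = N3395 := eqc rfl L83302 rfl
theorem L83310 : sm gf N4632 = N6088 := trfs L83297 (flp_f L48070) rfl
theorem L83315 : sm gi N4632 = N7229 := trfs L83297 L56980 rfl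
theorem L83316 : N7229 = N3382 := eqes L83315 (flp_i L36737)
theorem L83317 : N7229 = N3382 := eqc rfl L83316 rfl
theorem L83322 : sm gd N3382 = N5282 := trfs L83317 L56985 rfl
theorem L83323 : N5282 = N2476 := eqes L83322 (flp_d L26863)
theorem L83324 : N5282 = N2476 := eqc rfl L83323 rfl
theorem L83338 : sm gg N2476 = N3865 := trfs L83324 L41747 rfl
theorem L83339 : N3865 = N2096 := eqes L83338 L19715
theorem L83340 : N3865 = N2096 := eqc rfl L83339 rfl
theorem L83341 : sm gh N2476 = N5087 := trfs L83324 L41749 rfl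
theorem L83342 : N5087 = N1811 := eqes L83341 (flp_h L19707)
theorem L83343 : N5087 = N1811 := eqc rfl L83342 rfl
theorem L83362 : sm gi N1811 = N3721 := trfs L83343 (flp_i L40220) rfl
theorem L83363 : N3721 = N1339 := eqes L83362 L14465
theorem L83364 : N3721 = N1339 := eqc rfl L83363 rfl
theorem L83382 : sm gh N1339 = N2729 := trfs L83364 (flp_h L29479) rfl
theorem L83383 : N2729 = N1827 := eqes L83382 L14610
theorem L83384 : N2729 = N1827 := eqc rfl L83383 rfl
theorem L83385 : sm ga N1827 = N2008 := trfs L83384 L21684 rfl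
theorem L83386 : N2008 = N1344 := eqes L83385 L14612
theorem L83387 : N2008 = N1344 := eqc rfl L83386 rfl
theorem L83389 : sm gc N1827 = N2004 := trfs L83384 L21686 rfl
theorem L83390 : N2004 = N1341 := eqes L83389 L14614
theorem L83391 : N2004 = N1341 := eqc rfl L83390 rfl
theorem L83397 : sm gg N1827 = N2001 := trfs L83384 (flp_g L21682) rfl
theorem L83398 : N2001 = N1553 := eqes L83397 L14616
theorem L83399 : N2001 = N1553 := eqc rfl L83398 rfl
theorem L83401 : sm ga N1553 = N1475 := trfs L83399 L15942 rfl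
theorem L83402 : N1475 = N1144 := eqes L83401 L12421
theorem L83403 : N1475 = N1144 := eqc rfl L83402 rfl
theorem L83405 : sm gc N1553 = N1472 := trfs L83399 L15944 rfl
theorem L83406 : N1472 = N1141 := eqes L83405 L12423
theorem L83407 : N1472 = N1141 := eqc rfl L83406 rfl
theorem L83409 : sm ge N1553 = N2728 := trfs L83399 L21676 rfl
theorem L83410 : N2728 = N2075 := eqes L83409 (flp_e L16517)
theorem L83411 : N2728 = N2075 := eqc rfl L83410 rfl
theorem L83415 : sm gi N1553 = N2074 := trfs L83399 (flp_i L16509) rfl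
theorem L83416 : N2074 = N2120 := eqes L83415 L16889
theorem L83417 : N2120 = N2074 := (eqc rfl L83416 rfl).symm
theorem L83418 : sm ga N2074 = N1561 := trfs L83417 L16891 rfl
theorem L83419 : N1561 = N1527 := eqes L83418 L16504
theorem L83420 : N1561 = N1527 := eqc rfl L83419 rfl
theorem L83422 : sm gc N2074 = N1557 := trfs L83417 L16893 rfl
theorem L83423 : N1557 = N1524 := eqes L83422 L16506
theorem L83424 : N1557 = N1524 := eqc rfl L83423 rfl
theorem L83426 : sm ge N2074 = N2833 := trfs L83417 (flp_e L22500) rfl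
theorem L83427 : N2833 = N2829 := eqes L83426 L22460
theorem L83428 : N2833 = N2829 := eqc rfl L83427 rfl
theorem L83432 : sm gh N2074 = N2861 := trfs L83417 (flp_h L22737) rfl
theorem L83433 : N2861 = N2831 := eqes L83432 L22479
theorem L83434 : N2861 = N2831 := eqc rfl L83433 rfl
theorem L83435 : sm gi N2074 = N1553 := trfs L83417 (flp_i L16889) rfl
theorem L83437 : sm ga N2831 = N2105 := trfs L83434 L22731 rfl
theorem L83438 : N2105 = N2082 := eqes L83437 L22481
theorem L83439 : N2105 = N2082 := eqc rfl L83438 rfl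
theorem L83441 : sm gc N2831 = N2100 := trfs L83434 L22733 rfl
theorem L83442 : N2100 = N2078 := eqes L83441 L22483
theorem L83443 : N2100 = N2078 := eqc rfl L83442 rfl
theorem L83452 : sm ga N2078 = N1546 := trfs L83443 L16723 rfl
theorem L83453 : N1546 = N1531 := eqes L83452 L16538
theorem L83454 : N1546 = N1531 := eqc rfl L83453 rfl
theorem L83455 : sm gb N2078 = N2079 := trfs L83443 L16725 rfl
theorem L83456 : N2079 = N2099 := eqes L83455 (flp_b L16716)
theorem L83457 : N2099 = N2079 := (eqc rfl L83456 rfl).symm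
theorem L83459 : sm ge N2078 = N2006 := trfs L83443 L16728 rfl
theorem L83460 : N2006 = N2835 := eqes L83459 (flp_e L22517)
theorem L83461 : N2835 = N2006 := (eqc rfl L83460 rfl).symm
theorem L83465 : sm gg N2078 = N2480 := trfs L83443 (flp_g L19757) rfl
theorem L83466 : N2480 = N2836 := eqes L83465 (flp_g L22525)
theorem L83467 : N2836 = N2480 := (eqc rfl L83466 rfl).symm
theorem L83469 : sm gi N2078 = N1539 := trfs L83443 (flp_i L16721) rfl
theorem L83470 : N1539 = N2837 := eqes L83469 L22528
theorem L83471 : N2837 = N1539 := (eqc rfl L83470 rfl).symm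
theorem L83484 : sm gh N1539 = N2736 := trfs L83471 L22535 rfl
theorem L83485 : N2736 = N1129 := eqes L83484 (flp_h L12299)
theorem L83486 : N2736 = N1129 := eqc rfl L83485 rfl
theorem L83487 : sm gi N1539 = N2078 := trfs L83471 (flp_i L22528) rfl
theorem L83502 : sm gf N1129 = N2006 := trfs L83486 L21745 rfl
theorem L83503 : N2006 = N1538 := eqes L83502 L12289
theorem L83504 : N2006 = N1538 := eqc rfl L83503 rfl
theorem L83506 : sm gi N1129 = N2005 := trfs L83486 (flp_i L21737) rfl
theorem L83507 : N2005 = N837 := eqes L83506 L9049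
theorem L83508 : N2005 = N837 := eqc rfl L83507 rfl
theorem L83512 : sm gb N837 = N1556 := trfs L83508 L15972 rfl
theorem L83513 : N1556 = N1081 := eqes L83512 (flp_b L8682)
theorem L83514 : N1556 = N1081 := eqc rfl L83513 rfl
theorem L83522 : sm gf N837 = N1473 := trfs L83508 L15974 rfl
theorem L83523 : N1473 = N1140 := eqes L83522 L9142
theorem L83524 : N1473 = N1140 := eqc rfl L83523 rfl
theorem L83527 : sm ga N1140 = N1085 := trfs L83524 L11780 rfl
theorem L83528 : N1085 = N840 := eqes L83527 L9144
theorem L83529 : N1085 = N840 := eqc rfl L83528 rfl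
theorem L83533 : sm gd N1140 = N1093 := trfs L83524 L11784 rfl
theorem L83534 : N1093 = N838 := eqes L83533 L9146
theorem L83535 : N1093 = N838 := eqc rfl L83534 rfl
theorem L83536 : sm ge N1140 = N1539 := trfs L83524 (flp_e L12305) rfl
theorem L83537 : N1539 = N1554 := eqes L83536 L12426
theorem L83538 : N1554 = N1539 := (eqc rfl L83537 rfl).symm
theorem L83539 : sm gg N1140 = N1667 := trfs L83524 (flp_g L13271) rfl
theorem L83540 : N1667 = N1555 := eqes L83539 L12431
theorem L83541 : N1667 = N1555 := eqc rfl L83540 rfl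
theorem L83545 : sm ga N1555 = N1231 := trfs L83541 L13267 rfl
theorem L83546 : N1231 = N1146 := eqes L83545 L12433
theorem L83547 : N1231 = N1146 := eqc rfl L83546 rfl
theorem L83550 : sm gc N1555 = N2266 := trfs L83541 (flp_c L17988) rfl
theorem L83551 : N2266 = N2118 := eqes L83550 (flp_c L16876)
theorem L83552 : N2266 = N2118 := eqc rfl L83551 rfl
theorem L83553 : sm gd N1555 = N1249 := trfs L83541 L13273 rfl
theorem L83554 : N1249 = N1142 := eqes L83553 L12435
theorem L83555 : N1249 = N1142 := eqc rfl L83554 rfl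
theorem L83556 : sm ge N1555 = N1813 := trfs L83541 (flp_e L14485) rfl
theorem L83557 : N1813 = N2121 := eqes L83556 (flp_e L16901)
theorem L83558 : N2121 = N1813 := (eqc rfl L83557 rfl).symm
theorem L83559 : sm gf N1555 = N2269 := trfs L83541 (flp_f L18014) rfl
theorem L83560 : N2269 = N1829 := eqes L83559 (flp_f L14629)
theorem L83561 : N2269 = N1829 := eqc rfl L83560 rfl
theorem L83562 : sm gh N1555 = N1227 := trfs L83541 (flp_h L13265) rfl
theorem L83563 : N1227 = N2123 := eqes L83562 L16909
theorem L83564 : N2123 = N1227 := (eqc rfl L83563 rfl).symm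
theorem L83565 : sm gi N1555 = N2270 := trfs L83541 L18018 rfl
theorem L83566 : N2270 = N2098 := eqes L83565 (flp_i L16710)
theorem L83567 : N2270 = N2098 := eqc rfl L83566 rfl
theorem L83568 : sm ga N2098 = N1674 := trfs L83567 L18020 rfl
theorem L83569 : N1674 = N1544 := eqes L83568 L16704
theorem L83570 : N1674 = N1544 := eqc rfl L83569 rfl
theorem L83571 : sm gb N2098 = N1831 := trfs L83567 L18022 rfl
theorem L83572 : N1831 = N2077 := eqes L83571 L16706
theorem L83573 : N2077 = N1831 := (eqc rfl L83572 rfl).symm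
theorem L83574 : sm gc N2098 = N3085 := trfs L83567 (flp_c L24441) rfl
theorem L83575 : N3085 = N2858 := eqes L83574 (flp_c L22708)
theorem L83576 : N3085 = N2858 := eqc rfl L83575 rfl
theorem L83577 : sm gd N2098 = N1698 := trfs L83567 L18024 rfl
theorem L83578 : N1698 = N1540 := eqes L83577 L16708
theorem L83579 : N1698 = N1540 := eqc rfl L83578 rfl
theorem L83580 : sm ge N2098 = N2480 := trfs L83567 (flp_e L19755) rfl
theorem L83581 : N2480 = N2862 := eqes L83580 (flp_e L22746)
theorem L83582 : N2862 = N2480 := (eqc rfl L83581 rfl).symm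
theorem L83583 : sm gf N2098 = N3089 := trfs L83567 (flp_f L24481) rfl
theorem L83584 : N3089 = N2478 := eqes L83583 (flp_f L19737)
theorem L83585 : N3089 = N2478 := eqc rfl L83584 rfl
theorem L83587 : sm gh N2098 = N2394 := trfs L83567 (flp_h L19044) rfl
theorem L83588 : N2394 = N2864 := eqes L83587 L22760
theorem L83589 : N2864 = N2394 := (eqc rfl L83588 rfl).symm
theorem L83601 : sm gf N2394 = N3386 := trfs L83589 (flp_f L26910) rfl
theorem L83602 : N3386 = N3264 := eqes L83601 (flp_f L25897)
theorem L83603 : N3386 = N3264 := eqc rfl L83602 rfl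
theorem L83605 : sm gh N2394 = N2098 := trfs L83589 (flp_h L22760) rfl
theorem L83607 : sm gi N2394 = N3912 := trfs L83589 L31007 rfl
theorem L83608 : N3912 = N1754 := eqes L83607 (flp_i L19035)
theorem L83609 : N3912 = N1754 := eqc rfl L83608 rfl
theorem L83625 : sm gh N1754 = N2897 := trfs L83609 L31016 rfl
theorem L83626 : N2897 = N1289 := eqes L83625 (flp_h L13989)
theorem L83627 : N2897 = N1289 := eqc rfl L83626 rfl
theorem L83641 : sm gf N1289 = N3419 := trfs L83627 (flp_f L27194) rfl
theorem L83642 : N3419 = N1753 := eqes L83641 L13981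
theorem L83643 : N3419 = N1753 := eqc rfl L83642 rfl
theorem L83661 : sm gg N1753 = N2504 := trfs L83643 L27196 rfl
theorem L83662 : N2504 = N2392 := eqes L83661 L19018
theorem L83663 : N2504 = N2392 := eqc rfl L83662 rfl
theorem L83665 : sm gi N1753 = N2503 := trfs L83643 (flp_i L27188) rfl
theorem L83666 : N2503 = N1666 := eqes L83665 L13987
theorem L83667 : N2503 = N1666 := eqc rfl L83666 rfl
theorem L83668 : sm ga N1666 = N1838 := trfs L83667 L19954 rfl
theorem L83669 : N1838 = N1230 := eqes L83668 L13259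
theorem L83670 : N1838 = N1230 := eqc rfl L83669 rfl
theorem L83674 : sm gc N1666 = N3413 := trfs L83667 (flp_c L27146) rfl
theorem L83675 : N3413 = N2265 := eqes L83674 (flp_c L17981)
theorem L83676 : N3413 = N2265 := eqc rfl L83675 rfl
theorem L83677 : sm gd N1666 = N1868 := trfs L83667 L19960 rfl
theorem L83678 : N1868 = N1228 := eqes L83677 L13263
theorem L83679 : N1868 = N1228 := eqc rfl L83678 rfl
theorem L83680 : sm ge N1666 = N3416 := trfs L83667 (flp_e L27172) rfl
theorem L83681 : N3416 = N2267 := eqes L83680 L17992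
theorem L83682 : N3416 = N2267 := eqc rfl L83681 rfl
theorem L83684 : sm gg N1666 = N1830 := trfs L83667 L19958 rfl
theorem L83685 : N1830 = N2268 := eqes L83684 L17998
theorem L83686 : N2268 = N1830 := (eqc rfl L83685 rfl).symm
theorem L83689 : sm ga N1830 = N1672 := trfs L83686 L18000 rfl
theorem L83690 : N1672 = N1347 := eqes L83689 L14633
theorem L83691 : N1672 = N1347 := eqc rfl L83690 rfl
theorem L83695 : sm gd N1830 = N1668 := trfs L83686 L18004 rfl
theorem L83696 : N1668 = N1369 := eqes L83695 L14637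
theorem L83697 : N1668 = N1369 := eqc rfl L83696 rfl
theorem L83698 : sm ge N1830 = N3086 := trfs L83686 (flp_e L24451) rfl
theorem L83699 : N3086 = N2502 := eqes L83698 (flp_e L19950)
theorem L83700 : N3086 = N2502 := eqc rfl L83699 rfl
theorem L83702 : sm gg N1830 = N1666 := trfs L83686 (flp_g L17998) rfl
theorem L83707 : sm ga N2502 = N2276 := trfs L83700 L24447 rfl
theorem L83708 : N2276 = N1837 := eqes L83707 L19948
theorem L83709 : N2276 = N1837 := eqc rfl L83708 rfl
theorem L83710 : sm gb N2502 = N2501 := trfs L83700 L24449 rfl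
theorem L83711 : N2501 = N3087 := eqes L83710 (flp_b L24457)
theorem L83712 : N3087 = N2501 := (eqc rfl L83711 rfl).symm
theorem L83713 : sm gc N2502 = N4201 := trfs L83700 (flp_c L33219) rfl
theorem L83714 : N4201 = N3412 := eqes L83713 (flp_c L27138)
theorem L83715 : N4201 = N3412 := eqc rfl L83714 rfl
theorem L83716 : sm gd N2502 = N4173 := trfs L83700 (flp_d L33004) rfl
theorem L83717 : N4173 = N3417 := eqes L83716 L27176
theorem L83718 : N4173 = N3417 := eqc rfl L83717 rfl
theorem L83719 : sm gf N2502 = N4208 := trfs L83700 L33277 rfl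
theorem L83720 : N4208 = N3262 := eqes L83719 (flp_f L25881)
theorem L83721 : N4208 = N3262 := eqc rfl L83720 rfl
theorem L83727 : sm gi N2502 = N3261 := trfs L83700 (flp_i L25873) rfl
theorem L83728 : N3261 = N3418 := eqes L83727 L27182
theorem L83729 : N3418 = N3261 := (eqc rfl L83728 rfl).symm
theorem L83733 : sm gb N3261 = N4211 := trfs L83729 (flp_b L33307) rfl
theorem L83734 : N4211 = N3384 := eqes L83733 (flp_b L26888)
theorem L83735 : N4211 = N3384 := eqc rfl L83734 rfl
theorem L83743 : sm gf N3261 = N4459 := trfs L83729 (flp_f L35299) rfl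
theorem L83744 : N4459 = N4456 := eqes L83743 L35268
theorem L83745 : N4459 = N4456 := eqc rfl L83744 rfl
theorem L83747 : sm gh N3261 = N4636 := trfs L83729 (flp_h L36788) rfl
theorem L83748 : N4636 = N4457 := eqes L83747 L35278
theorem L83749 : N4636 = N4457 := eqc rfl L83748 rfl
theorem L83750 : sm gi N3261 = N2502 := trfs L83729 (flp_i L27182) rfl
theorem L83752 : sm ga N4457 = N3399 := trfs L83749 L36780 rfl
theorem L83753 : N3399 = N3273 := eqes L83752 L35280
theorem L83754 : N3399 = N3273 := eqc rfl L83753 rfl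
theorem L83755 : sm gb N4457 = N4456 := trfs L83749 L36782 L83745
theorem L83756 : N4456 = N4634 := eqes L83755 (flp_b L36763)
theorem L83757 : N4634 = N4456 := (eqc rfl L83756 rfl).symm
theorem L83758 : sm gc N4457 = N6339 := trfs L83749 (flp_c L50152) rfl
theorem L83759 : N6339 = N6085 := eqes L83758 (flp_c L48042)
theorem L83760 : N6339 = N6085 := eqc rfl L83759 rfl
theorem L83761 : sm gd N4457 = N6350 := trfs L83749 (flp_d L50267) rfl
theorem L83762 : N6350 = N6094 := eqes L83761 L48125
theorem L83763 : N6350 = N6094 := eqc rfl L83762 rfl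
theorem L83764 : sm ge N4457 = N3387 := trfs L83749 L36784 rfl
theorem L83765 : N3387 = N3263 := eqes L83764 L35282
theorem L83766 : N3387 = N3263 := eqc rfl L83765 rfl
theorem L83767 : sm gf N4457 = N3384 := trfs L83749 L36786 L83735
theorem L83768 : N3384 = N6093 := eqes L83767 (flp_f L48121)
theorem L83769 : N6093 = N3384 := (eqc rfl L83768 rfl).symm
theorem L83773 : sm gi N4457 = N3385 := trfs L83749 (flp_i L36778) rfl
theorem L83774 : N3385 = N6095 := eqes L83773 L48132
theorem L83775 : N6095 = N3385 := (eqc rfl L83774 rfl).symm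
theorem L83783 : sm gd N3385 = N8349 := trfs L83775 (flp_d L65787) rfl
theorem L83784 : N8349 = N4635 := eqes L83783 L36769
theorem L83785 : N8349 = N4635 := eqc rfl L83784 rfl
theorem L83794 : sm gh N3385 = N5748 := trfs L83775 L48140 rfl
theorem L83795 : N5748 = N2477 := eqes L83794 (flp_h L26894)
theorem L83796 : N5748 = N2477 := eqc rfl L83795 rfl
theorem L83797 : sm gi N3385 = N4457 := trfs L83775 (flp_i L48132) rfl
theorem L83810 : sm gf N2477 = N7860 := trfs L83796 (flp_f L61921) rfl
theorem L83811 : N7860 = N2267 := eqes L83810 L19725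
theorem L83812 : N7860 = N2267 := eqc rfl L83811 rfl
theorem L83815 : sm ga N2267 = N5770 := trfs L83812 L61915 rfl
theorem L83816 : N5770 = N1671 := eqes L83815 L17994
theorem L83817 : N5770 = N1671 := eqc rfl L83816 rfl
theorem L83828 : sm gi N2267 = N5746 := trfs L83812 (flp_i L61913) rfl
theorem L83829 : N5746 = N2391 := eqes L83828 (flp_i L19014)
theorem L83830 : N5746 = N2391 := eqc rfl L83829 rfl
theorem L83847 : sm gg N2391 = N6346 := trfs L83830 (flp_g L50231) rfl
theorem L83848 : N6346 = N3261 := eqes L83847 L25867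
theorem L83849 : N6346 = N3261 := eqc rfl L83848 rfl
theorem L83868 : sm gi N3261 = N8710 := trfs L83849 L68773 rfl
theorem L83869 : N8710 = N2502 := eqes L83868 L83750
theorem L83870 : N8710 = N2502 := eqc rfl L83869 rfl
theorem L83876 : sm ge N2502 = N7313 := trfs L83870 L68779 rfl
theorem L83877 : N7313 = N1830 := eqes L83876 L19950
theorem L83878 : N7313 = N1830 := eqc rfl L83877 rfl
theorem L83891 : sm gh N1830 = N5397 := trfs L83878 L57713 rfl
theorem L83892 : N5397 = N1340 := eqes L83891 (flp_h L14631)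
theorem L83893 : N5397 = N1340 := eqc rfl L83892 rfl
theorem L83909 : sm gi N1340 = N3949 := trfs L83893 (flp_i L42706) rfl
theorem L83910 : N3949 = N1812 := eqes L83909 (flp_i L14477)
theorem L83911 : N3949 = N1812 := eqc rfl L83910 rfl
theorem L83929 : sm gh N1812 = N2893 := trfs L83911 (flp_h L31316) rfl
theorem L83930 : N2893 = N2479 := eqes L83929 L19739
theorem L83931 : N2893 = N2479 := eqc rfl L83930 rfl
theorem L83942 : sm ge N2479 = N3415 := trfs L83931 (flp_e L27166) rfl
theorem L83943 : N3415 = N3385 := eqes L83942 (flp_e L26900)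
theorem L83944 : N3415 = N3385 := eqc rfl L83943 rfl
theorem L83949 : sm gi N2479 = N3908 := trfs L83931 (flp_i L30971) rfl
theorem L83950 : N3908 = N3387 := eqes L83949 L26915
theorem L83951 : N3908 = N3263 := eqc rfl L83950 L83766
theorem L83957 : sm gc N3263 = N5332 := trfs L83951 (flp_c L42165) rfl
theorem L83958 : N5332 = N4452 := eqes L83957 (flp_c L35234)
theorem L83959 : N5332 = N4452 := eqc rfl L83958 rfl
theorem L83966 : sm ga N4452 = N3915 := trfs L83959 L42163 rfl
theorem L83967 : N3915 = N3268 := eqes L83966 L35232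
theorem L83968 : N3915 = N3268 := eqc rfl L83967 rfl
theorem L83973 : sm ge N4452 = N6336 := trfs L83959 (flp_e L50128) rfl
theorem L83974 : N6336 = N6085 := eqes L83973 (flp_e L48044)
theorem L83975 : N6336 = N6085 := eqc rfl L83974 rfl
theorem L83980 : sm gh N4452 = N7300 := trfs L83959 L57587 rfl
theorem L83981 : N7300 = N3257 := eqes L83980 (flp_h L35230)
theorem L83982 : N7300 = N3257 := eqc rfl L83981 rfl
theorem L83993 : sm gg N3257 = N6952 := trfs L83982 L57595 rfl
theorem L83994 : N6952 = N2389 := eqes L83993 (flp_g L25827)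
theorem L83995 : N6952 = N2389 := eqc rfl L83994 rfl
theorem L84007 : sm gi N2389 = N9527 := trfs L83995 L74954 rfl
theorem L84008 : N9527 = N2265 := eqes L84007 L18998
theorem L84009 : N9527 = N2265 := eqc rfl L84008 rfl
theorem L84010 : sm ga N2265 = N6981 := trfs L84009 L74956 rfl
theorem L84011 : N6981 = N1669 := eqes L84010 L17979
theorem L84012 : N6981 = N1669 := eqc rfl L84011 rfl
theorem L84026 : sm gg N1669 = N7327 := trfs L84012 (flp_g L57833) rfl
theorem L84027 : N7327 = N2272 := eqes L84026 L18033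
theorem L84028 : N7327 = N2272 := eqc rfl L84027 rfl
theorem L84029 : sm gh N1669 = N7247 := trfs L84012 (flp_h L57138) rfl
theorem L84030 : N7247 = N2273 := eqes L84029 L18041
theorem L84031 : N7247 = N2273 := eqc rfl L84030 rfl
theorem L84046 : sm gi N2273 = N5295 := trfs L84031 (flp_i L57129) rfl
theorem L84047 : N5295 = N3095 := eqes L84046 L24518
theorem L84048 : N5295 = N3095 := eqc rfl L84047 rfl
theorem L84059 : sm ge N3095 = N6102 := trfs L84048 (flp_e L48193) rfl
theorem L84060 : N6102 = N4218 := eqes L84059 (flp_e L33357)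
theorem L84061 : N6102 = N4218 := eqc rfl L84060 rfl
theorem L84062 : sm gf N3095 = N3875 := trfs L84048 L41857 rfl
theorem L84063 : N3875 = N2275 := eqes L84062 L24523
theorem L84064 : N3875 = N2275 := eqc rfl L84063 rfl
theorem L84068 : sm gh N3095 = N3874 := trfs L84048 (flp_h L41852) rfl
theorem L84069 : N3874 = N3270 := eqes L84068 (flp_h L25950)
theorem L84070 : N3874 = N3270 := eqc rfl L84069 rfl
theorem L84073 : sm gc N3270 = N2845 := trfs L84070 L30677 rfl
theorem L84074 : N2845 = N2403 := eqes L84073 L25946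
theorem L84075 : N2845 = N2403 := eqc rfl L84074 rfl
theorem L84079 : sm ge N3270 = N4463 := trfs L84070 (flp_e L35335) rfl
theorem L84080 : N4463 = N4466 := eqes L84079 (flp_e L35358)
theorem L84081 : N4466 = N4463 := (eqc rfl L84080 rfl).symm
theorem L84082 : sm gf N3270 = N2839 := trfs L84070 (flp_f L30674) rfl
theorem L84083 : N2839 = N2399 := eqes L84082 L25948
theorem L84084 : N2839 = N2399 := eqc rfl L84083 rfl
theorem L84085 : sm gg N3270 = N2900 := trfs L84070 L30681 rfl
theorem L84086 : N2900 = N4468 := eqes L84085 (flp_g L35380)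
theorem L84087 : N4468 = N2900 := (eqc rfl L84086 rfl).symm
theorem L84088 : sm gi N3270 = N3733 := trfs L84070 L30679 rfl
theorem L84089 : N3733 = N2397 := eqes L84088 (flp_i L25943)
theorem L84090 : N3733 = N2397 := eqc rfl L84089 rfl
theorem L84099 : sm ge N2397 = N4215 := trfs L84090 (flp_e L33338) rfl
theorem L84100 : N4215 = N3267 := eqes L84099 (flp_e L25923)
theorem L84101 : N4215 = N3267 := eqc rfl L84100 rfl
theorem L84102 : sm gf N2397 = N2738 := trfs L84090 (flp_f L29575) rfl
theorem L84103 : N2738 = N1757 := eqes L84102 L19070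
theorem L84104 : N2738 = N1757 := eqc rfl L84103 rfl
theorem L84116 : sm gg N1757 = N2007 := trfs L84104 (flp_g L21752) rfl
theorem L84117 : N2007 = N1528 := eqes L84116 L14023
theorem L84118 : N2007 = N1528 := eqc rfl L84117 rfl
theorem L84119 : sm gh N1757 = N3734 := trfs L84104 L29580 rfl
theorem L84120 : N3734 = N1291 := eqes L84119 (flp_h L14016)
theorem L84121 : N3734 = N1291 := eqc rfl L84120 rfl
theorem L84131 : sm gg N1291 = N2739 := trfs L84121 L29587 rfl
theorem L84132 : N2739 = N1121 := eqes L84131 L10333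
theorem L84133 : N2739 = N1121 := eqc rfl L84132 rfl
theorem L84149 : sm gi N1121 = N3736 := trfs L84133 L29592 rfl
theorem L84150 : N3736 = N1083 := eqes L84149 L8986
theorem L84151 : N3736 = N1083 := eqc rfl L84150 rfl
theorem L84167 : sm gh N1083 = N3877 := trfs L84151 (flp_h L30706) rfl
theorem L84168 : N3877 = N1476 := eqes L84167 L11802
theorem L84169 : N3877 = N1476 := eqc rfl L84168 rfl
theorem L84179 : sm ge N1476 = N2843 := trfs L84169 L30702 rfl
theorem L84180 : N2843 = N1542 := eqes L84179 (flp_e L12334)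
theorem L84181 : N2843 = N1542 := eqc rfl L84180 rfl
theorem L84186 : sm gi N1476 = N2840 := trfs L84169 (flp_i L30697) rfl
theorem L84187 : N2840 = N2011 := eqes L84186 L16010
theorem L84188 : N2840 = N2011 := eqc rfl L84187 rfl
theorem L84192 : sm gc N2011 = N2086 := trfs L84188 L22558 rfl
theorem L84193 : N2086 = N1480 := eqes L84192 L16013
theorem L84194 : N2086 = N1480 := eqc rfl L84193 rfl
theorem L84204 : sm gh N2011 = N2080 := trfs L84188 (flp_h L22555) rfl
theorem L84205 : N2080 = N2084 := eqes L84204 (flp_h L16589)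
theorem L84206 : N2084 = N2080 := (eqc rfl L84205 rfl).symm
theorem L84209 : sm gc N2080 = N1532 := trfs L84206 L16585 rfl
theorem L84210 : N1532 = N1529 := eqes L84209 L16555
theorem L84211 : N1532 = N1529 := eqc rfl L84210 rfl
theorem L84212 : sm gd N2080 = N2844 := trfs L84206 (flp_d L22591) rfl
theorem L84213 : N2844 = N2838 := eqes L84212 L22537
theorem L84214 : N2844 = N2838 := eqc rfl L84213 rfl
theorem L84216 : sm gf N2080 = N1542 := trfs L84206 (flp_f L22583) L84181
theorem L84217 : N1542 = N1558 := eqes L84216 L16559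
theorem L84218 : N1558 = N1542 := (eqc rfl L84217 rfl).symm
theorem L84225 : sm ga N1542 = N2117 := trfs L84218 (flp_a L16868) rfl
theorem L84226 : N2117 = N2096 := eqes L84225 (flp_a L16685)
theorem L84227 : N2117 = N2096 := eqc rfl L84226 rfl
theorem L84229 : sm gc N1542 = N1145 := trfs L84218 L12454 rfl
theorem L84230 : N1145 = N1133 := eqes L84229 L12332
theorem L84231 : N1145 = N1133 := eqc rfl L84230 rfl
theorem L84232 : sm gd N1542 = N2125 := trfs L84218 L16925 rfl
theorem L84233 : N2125 = N2104 := eqes L84232 L16757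
theorem L84234 : N2125 = N2104 := eqc rfl L84233 rfl
theorem L84235 : sm ge N1542 = N1143 := trfs L84218 (flp_e L12451) rfl
theorem L84236 : N1143 = N1476 := eqes L84235 L12334
theorem L84237 : N1476 = N1143 := (eqc rfl L84236 rfl).symm
theorem L84238 : sm gf N1542 = N2080 := trfs L84218 (flp_f L16559) rfl
theorem L84239 : N2080 = N2103 := eqes L84238 (flp_f L16755)
theorem L84240 : N2103 = N2080 := (eqc rfl L84239 rfl).symm
theorem L84241 : sm gg N1542 = N2126 := trfs L84218 L16931 rfl
theorem L84242 : N2126 = N1816 := eqes L84241 (flp_g L14519)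
theorem L84243 : N2126 = N1816 := eqc rfl L84242 rfl
theorem L84245 : sm gi N1542 = N2101 := trfs L84218 (flp_i L16737) rfl
theorem L84246 : N2101 = N2105 := eqes L84245 L16763
theorem L84247 : N2101 = N2082 := eqc rfl L84246 L83439
theorem L84255 : sm gd N2082 = N2866 := trfs L84247 L22780 rfl
theorem L84256 : N2866 = N2842 := eqes L84255 L22571
theorem L84257 : N2866 = N2842 := eqc rfl L84256 rfl
theorem L84258 : sm ge N2082 = N1541 := trfs L84247 (flp_e L16732) rfl
theorem L84261 : sm gg N2082 = N2867 := trfs L84247 L22790 rfl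
theorem L84262 : N2867 = N2841 := eqes L84261 (flp_g L22569)
theorem L84263 : N2867 = N2841 := eqc rfl L84262 rfl
theorem L84271 : sm gd N2841 = N3913 := trfs L84263 (flp_d L31022) rfl
theorem L84272 : N3913 = N3878 := eqes L84271 L30708
theorem L84273 : N3913 = N3395 := eqc rfl L84272 L83303
theorem L84274 : sm ge N2841 = N2102 := trfs L84263 L22795 rfl
theorem L84275 : N2102 = N3875 := eqes L84274 (flp_e L30688)
theorem L84276 : N2275 = N2102 := (eqc rfl L84275 L84064).symm
theorem L84278 : sm gh N2841 = N3916 := trfs L84263 L31045 rfl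
theorem L84279 : N3916 = N2081 := eqes L84278 (flp_h L22564)
theorem L84280 : N3916 = N2081 := eqc rfl L84279 rfl
theorem L84297 : sm gi N2081 = N5353 := trfs L84280 L42354 rfl
theorem L84298 : N5353 = N2008 := eqes L84297 L16567
theorem L84299 : N5353 = N1344 := eqc rfl L84298 L83387
theorem L84313 : sm gf N1344 = N2272 := trfs L84299 (flp_f L57831) L84028
theorem L84314 : N2272 = N1834 := eqes L84313 (flp_f L14666)
theorem L84315 : N2272 = N1834 := eqc rfl L84314 rfl
theorem L84317 : sm gh N1344 = N3960 := trfs L84299 L42363 rfl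
theorem L84318 : N3960 = N983 := eqes L84317 (flp_h L10787)
theorem L84319 : N3960 = N983 := eqc rfl L84318 rfl
theorem L84337 : sm gi N983 = N2901 := trfs L84319 (flp_i L31393) rfl
theorem L84338 : N2901 = N1331 := eqes L84337 (flp_i L10675)
theorem L84339 : N2901 = N1331 := eqc rfl L84338 rfl
theorem L84350 : sm ge N1331 = N2128 := trfs L84339 L23062 rfl
theorem L84351 : N2128 = N1229 := eqes L84350 L10671
theorem L84352 : N2128 = N1229 := eqc rfl L84351 rfl
theorem L84353 : sm gf N1331 = N3958 := trfs L84339 (flp_f L31385) rfl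
theorem L84354 : N3958 = N1815 := eqes L84353 L14503
theorem L84355 : N3958 = N1815 := eqc rfl L84354 rfl
theorem L84367 : sm gh N1815 = N2900 := trfs L84355 (flp_h L31380) rfl
theorem L84368 : N2900 = N2483 := eqes L84367 L19781
theorem L84369 : N2900 = N2483 := eqc rfl L84368 rfl
theorem L84375 : sm gd N2483 = N3954 := trfs L84369 (flp_d L31358) rfl
theorem L84376 : N3954 = N3392 := eqes L84375 L26962
theorem L84377 : N3954 = N3392 := eqc rfl L84376 rfl
theorem L84378 : sm ge N2483 = N3422 := trfs L84369 (flp_e L27215) rfl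
theorem L84379 : N3422 = N3390 := eqes L84378 (flp_e L26949)
theorem L84380 : N3422 = N3390 := eqc rfl L84379 rfl
theorem L84382 : sm gi N2483 = N3268 := trfs L84369 (flp_i L31041) L83968
theorem L84383 : N3268 = N3393 := eqes L84382 L26970
theorem L84384 : N3393 = N3268 := (eqc rfl L84383 rfl).symm
theorem L84387 : sm gc N3268 = N2489 := trfs L84384 L26973 rfl
theorem L84388 : N2489 = N2402 := eqes L84387 L25930
theorem L84389 : N2489 = N2402 := eqc rfl L84388 rfl
theorem L84391 : sm ge N3268 = N4643 := trfs L84384 (flp_e L36849) rfl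
theorem L84392 : N4643 = N4464 := eqes L84391 (flp_e L35344)
theorem L84393 : N4643 = N4464 := eqc rfl L84392 rfl
theorem L84394 : sm gf N3268 = N2485 := trfs L84384 L26975 rfl
theorem L84395 : N2485 = N2841 := eqes L84394 L25932
theorem L84396 : N2841 = N2485 := (eqc rfl L84395 rfl).symm
theorem L84400 : sm gh N3268 = N2509 := trfs L84384 L26977 rfl
theorem L84401 : N2509 = N2396 := eqes L84400 (flp_h L25927)
theorem L84402 : N2509 = N2396 := eqc rfl L84401 rfl
theorem L84405 : N4468 = N2483 := L84087.trans L84369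
theorem L84408 : sm gc N2396 = N1839 := trfs L84402 L20002 rfl
theorem L84409 : N1839 = N1759 := eqes L84408 L19058
theorem L84410 : N1839 = N1759 := eqc rfl L84409 rfl
theorem L84412 : sm ge N2396 = N3425 := trfs L84402 (flp_e L27235) rfl
theorem L84413 : N3425 = N3266 := eqes L84412 (flp_e L25914)
theorem L84414 : N3425 = N3266 := eqc rfl L84413 rfl
theorem L84415 : sm gf N2396 = N1835 := trfs L84402 L20005 rfl
theorem L84416 : N1835 = N2081 := eqes L84415 L19063
theorem L84417 : N2081 = N1835 := (eqc rfl L84416 rfl).symm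
theorem L84418 : sm gg N2396 = N3426 := trfs L84402 (flp_g L27245) rfl
theorem L84419 : N3426 = N1756 := eqes L84418 (flp_g L19055)
theorem L84420 : N3426 = N1756 := eqc rfl L84419 rfl
theorem L84432 : sm gi N1756 = N2508 := trfs L84420 (flp_i L27237) rfl
theorem L84433 : N2508 = N1669 := eqes L84432 L14014
theorem L84434 : N2508 = N1669 := eqc rfl L84433 rfl
theorem L84439 : sm ge N1669 = N3423 := trfs L84434 (flp_e L27222) rfl
theorem L84440 : N3423 = N2271 := eqes L84439 L18028
theorem L84441 : N3423 = N2271 := eqc rfl L84440 rfl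
theorem L84445 : sm gh N1669 = N1833 := trfs L84434 (flp_h L19989) rfl
theorem L84446 : N1833 = N2273 := eqes L84445 L18041
theorem L84447 : N2273 = N1833 := (eqc rfl L84446 rfl).symm
theorem L84465 : sm gh N1833 = N1669 := trfs L84447 (flp_h L18041) rfl
theorem L84467 : sm gi N1833 = N3095 := trfs L84447 L24518 rfl
theorem L84468 : N3095 = N2482 := eqes L84467 (flp_i L19777)
theorem L84469 : N3095 = N2482 := eqc rfl L84468 rfl
theorem L84474 : sm gc N2482 = N2279 := trfs L84469 L24521 rfl
theorem L84475 : N2279 = N1818 := eqes L84474 L19773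
theorem L84476 : N2279 = N1818 := eqc rfl L84475 rfl
theorem L84480 : sm ge N2482 = N4218 := trfs L84469 (flp_e L33357) rfl
theorem L84481 : N4218 = N3389 := eqes L84480 (flp_e L26940)
theorem L84482 : N4218 = N3389 := eqc rfl L84481 rfl
theorem L84486 : sm gh N2482 = N3270 := trfs L84469 (flp_h L25950) rfl
theorem L84487 : N3270 = N3391 := eqes L84486 L26953
theorem L84488 : N3391 = N3270 := (eqc rfl L84487 rfl).symm
theorem L84491 : sm gc N3270 = N2488 := trfs L84488 L26956 rfl
theorem L84492 : N2488 = N2403 := eqes L84491 L25946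
theorem L84493 : N2488 = N2403 := eqc rfl L84492 rfl
theorem L84495 : sm ge N3270 = N4641 := trfs L84488 (flp_e L36835) rfl
theorem L84496 : N4641 = N4466 := eqes L84495 (flp_e L35358)
theorem L84497 : N4641 = N4463 := eqc rfl L84496 L84081
theorem L84501 : sm gh N3270 = N2482 := trfs L84488 (flp_h L26953) rfl
theorem L84504 : sm ga N4463 = N6337 := trfs L84497 (flp_a L50134) rfl
theorem L84505 : N6337 = N6084 := eqes L84504 (flp_a L48028)
theorem L84506 : N6337 = N6084 := eqc rfl L84505 rfl
theorem L84508 : sm gc N4463 = N3397 := trfs L84497 L36833 rfl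
theorem L84509 : N3397 = N3272 := eqes L84508 L35331
theorem L84510 : N3397 = N3272 := eqc rfl L84509 rfl
theorem L84511 : sm gd N4463 = N6356 := trfs L84497 L50315 rfl
theorem L84512 : N6356 = N6098 := eqes L84511 (flp_d L48161)
theorem L84513 : N6356 = N6098 := eqc rfl L84512 rfl
theorem L84521 : N6102 = N3389 := L84061.trans L84482
theorem L84522 : sm gi N4463 = N6357 := trfs L84497 L50320 rfl
theorem L84523 : N6357 = N4215 := eqes L84522 L35333
theorem L84524 : N6357 = N3267 := eqc rfl L84523 L84101
theorem L84536 : sm gf N3267 = N8724 := trfs L84524 (flp_f L68900) rfl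
theorem L84537 : N8724 = N2507 := eqes L84536 L25925
theorem L84538 : N8724 = N2507 := eqc rfl L84537 rfl
theorem L84547 : sm gh N2507 = N6414 := trfs L84538 L68904 rfl
theorem L84548 : N6414 = N1832 := eqes L84547 (flp_h L19982)
theorem L84549 : N6414 = N1832 := eqc rfl L84548 rfl
theorem L84559 : sm gd N1832 = N8802 := trfs L84549 (flp_d L69495) rfl
theorem L84560 : N8802 = N2505 := eqes L84559 L19970
theorem L84561 : N8802 = N2505 := eqc rfl L84560 rfl
theorem L84571 : sm gi N2505 = N6413 := trfs L84561 (flp_i L69492) rfl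
theorem L84572 : N6413 = N3388 := eqes L84571 (flp_i L26931)
theorem L84573 : N6413 = N3388 := eqc rfl L84572 rfl
theorem L84585 : sm gf N3388 = N4684 := trfs L84573 L50756 rfl
theorem L84586 : N4684 = N3090 := eqes L84585 L26929
theorem L84587 : N4684 = N3090 := eqc rfl L84586 rfl
theorem L84588 : sm gg N3388 = N8360 := trfs L84573 (flp_g L65872) rfl
theorem L84589 : N8360 = N4638 := eqes L84588 L36803
theorem L84590 : N8360 = N4638 := eqc rfl L84589 rfl
theorem L84591 : sm gh N3388 = N8793 := trfs L84573 (flp_h L69441) rfl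
theorem L84592 : N8793 = N4639 := eqes L84591 L36812
theorem L84593 : N8793 = N4639 := eqc rfl L84592 rfl
theorem L84595 : sm gd N4639 = N6408 := trfs L84593 (flp_d L69436) rfl
theorem L84596 : N6408 = N6353 := eqes L84595 L50288
theorem L84597 : N6408 = N6353 := eqc rfl L84596 rfl
theorem L84598 : sm gf N4639 = N6409 := trfs L84593 L69439 rfl
theorem L84599 : N6409 = N4214 := eqes L84598 L36817
theorem L84600 : N6409 = N4214 := eqc rfl L84599 rfl
theorem L84601 : sm ga N4214 = N8772 := trfs L84600 (flp_a L69281) rfl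
theorem L84602 : N8772 = N5734 := eqes L84601 (flp_a L45262)
theorem L84603 : N8772 = N5734 := eqc rfl L84602 rfl
theorem L84605 : sm gc N4214 = N8795 := trfs L84600 L69448 rfl
theorem L84606 : N8795 = N5701 := eqes L84605 (flp_c L45015)
theorem L84607 : N8795 = N5701 := eqc rfl L84606 rfl
theorem L84608 : sm gd N4214 = N4680 := trfs L84600 (flp_d L50727) rfl
theorem L84609 : N4680 = N5753 := eqes L84608 L45416
theorem L84610 : N5753 = N4680 := (eqc rfl L84609 rfl).symm
theorem L84612 : sm gg N4214 = N4681 := trfs L84600 L50730 rfl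
theorem L84613 : N4681 = N5752 := eqes L84612 (flp_g L45414)
theorem L84614 : N5752 = N4681 := (eqc rfl L84613 rfl).symm
theorem L84616 : sm gi N4214 = N8796 := trfs L84600 L69455 rfl
theorem L84617 : N8796 = N5754 := eqes L84616 L45421
theorem L84618 : N8796 = N5754 := eqc rfl L84617 rfl
theorem L84620 : sm gd N5754 = N6410 := trfs L84618 L69458 rfl
theorem L84621 : N6410 = N7872 := eqes L84620 (flp_d L62002)
theorem L84622 : N7872 = N6410 := (eqc rfl L84621 rfl).symm
theorem L84624 : sm gg N5754 = N6412 := trfs L84618 L69461 rfl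
theorem L84625 : N6412 = N7869 := eqes L84624 (flp_g L61987)
theorem L84626 : N7869 = N6412 := (eqc rfl L84625 rfl).symm
theorem L84629 : sm gg N6412 = N5754 := trfs L84626 L61987 rfl
theorem L84631 : sm gh N6412 = N8356 := trfs L84626 (flp_h L65845) rfl
theorem L84632 : N8356 = N8799 := eqes L84631 L69474
theorem L84633 : N8799 = N8356 := (eqc rfl L84632 rfl).symm
theorem L84637 : sm gh N8356 = N6412 := trfs L84633 (flp_h L69474) rfl
theorem L84639 : sm gi N8356 = N6419 := trfs L84633 L69478 rfl
theorem L84640 : N6419 = N6099 := eqes L84639 (flp_i L65839)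
theorem L84641 : N6419 = N6099 := eqc rfl L84640 rfl
theorem L84653 : sm gf N6099 = N8369 := trfs L84641 (flp_f L65939) rfl
theorem L84654 : N8369 = N8354 := eqes L84653 (flp_f L65828)
theorem L84655 : N8369 = N8354 := eqc rfl L84654 rfl
theorem L84659 : sm gh N6099 = N4687 := trfs L84641 (flp_h L50795) rfl
theorem L84660 : N4687 = N4461 := eqes L84659 (flp_h L48167)
theorem L84661 : N4687 = N4461 := eqc rfl L84660 rfl
theorem L84662 : sm ga N4461 = N6399 := trfs L84661 (flp_a L50660) rfl
theorem L84663 : N6399 = N6082 := eqes L84662 (flp_a L48012)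
theorem L84664 : N6399 = N6082 := eqc rfl L84663 rfl
theorem L84666 : sm gc N4461 = N6418 := trfs L84661 (flp_c L50790) rfl
theorem L84667 : N6418 = N6049 := eqes L84666 (flp_c L47747)
theorem L84668 : N6418 = N6049 := eqc rfl L84667 rfl
theorem L84671 : sm gf N4461 = N6107 := trfs L84661 (flp_f L48232) rfl
theorem L84672 : N6107 = N6098 := eqes L84671 L48158
theorem L84673 : N6107 = N6098 := eqc rfl L84672 rfl
theorem L84675 : sm gi N4461 = N3424 := trfs L84661 (flp_i L37199) rfl
theorem L84676 : N3424 = N4213 := eqes L84675 L35320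
theorem L84677 : N4213 = N3424 := (eqc rfl L84676 rfl).symm
theorem L84678 : sm ga N3424 = N5733 := trfs L84677 (flp_a L45255) rfl
theorem L84679 : N5733 = N4671 := eqes L84678 (flp_a L37087)
theorem L84680 : N5733 = N4671 := eqc rfl L84679 rfl
theorem L84682 : sm gc N3424 = N5700 := trfs L84677 (flp_c L45008) rfl
theorem L84683 : N5700 = N4686 := eqes L84682 L37194
theorem L84684 : N5700 = N4686 := eqc rfl L84683 rfl
theorem L84689 : sm gf N3424 = N5751 := trfs L84677 L45405 rfl
theorem L84690 : N5751 = N4465 := eqes L84689 (flp_f L35351)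
theorem L84691 : N5751 = N4465 := eqc rfl L84690 rfl
theorem L84695 : sm gi N3424 = N4461 := trfs L84677 (flp_i L35320) rfl
theorem L84697 : sm ga N4465 = N7841 := trfs L84691 (flp_a L61763) rfl
theorem L84698 : N7841 = N6086 := eqes L84697 (flp_a L48050)
theorem L84699 : N7841 = N6086 := eqc rfl L84698 rfl
theorem L84701 : sm gc N4465 = N7793 := trfs L84691 (flp_c L61403) rfl
theorem L84702 : N7793 = N6105 := eqes L84701 L48215
theorem L84703 : N7793 = N6105 := eqc rfl L84702 rfl
theorem L84705 : sm ge N4465 = N7866 := trfs L84691 L61965 rfl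
theorem L84706 : N7866 = N6106 := eqes L84705 L48221
theorem L84707 : N7866 = N6106 := eqc rfl L84706 rfl
theorem L84708 : sm gg N4465 = N6351 := trfs L84691 (flp_g L50279) rfl
theorem L84709 : N6351 = N6103 := eqes L84708 (flp_g L48202)
theorem L84710 : N6351 = N6103 := eqc rfl L84709 rfl
theorem L84711 : sm gh N4465 = N7867 := trfs L84691 L61971 rfl
theorem L84712 : N7867 = N6100 := eqes L84711 (flp_h L48178)
theorem L84713 : N7867 = N6100 := eqc rfl L84712 rfl
theorem L84718 : sm gg N6100 = N8717 := trfs L84713 (flp_g L68848) rfl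
theorem L84719 : N8717 = N8355 := eqes L84718 (flp_g L65835)
theorem L84720 : N8717 = N8355 := eqc rfl L84719 rfl
theorem L84722 : sm gf N8355 = N6352 := trfs L84720 L68846 rfl
theorem L84725 : sm ga N6103 = N8693 := trfs L84710 (flp_a L68618) rfl
theorem L84726 : N8693 = N8337 := eqes L84725 (flp_a L65680)
theorem L84727 : N8693 = N8337 := eqc rfl L84726 rfl
theorem L84729 : sm gc N6103 = N8554 := trfs L84710 (flp_c L67523) rfl
theorem L84730 : N8554 = N8362 := eqes L84729 L65887
theorem L84731 : N8554 = N8362 := eqc rfl L84730 rfl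
theorem L84735 : sm ge N6103 = N8716 := trfs L84710 L68832 rfl
theorem L84736 : N8716 = N8363 := eqes L84735 L65893
theorem L84737 : N8716 = N8363 := eqc rfl L84736 rfl
theorem L84740 : sm gi N6103 = N4679 := trfs L84710 L50277 rfl
theorem L84741 : N4679 = N8364 := eqes L84740 L65900
theorem L84742 : N8364 = N4679 := (eqc rfl L84741 rfl).symm
theorem L84744 : sm gd N4679 = N6104 := trfs L84742 L65903 rfl
theorem L84745 : N6104 = N3422 := eqes L84744 L37150
theorem L84746 : N6104 = N3390 := eqc rfl L84745 L84380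
theorem L84748 : sm gi N4679 = N6103 := trfs L84742 (flp_i L65900) rfl
theorem L84759 : sm gh N3390 = N5757 := trfs L84746 L48213 rfl
theorem L84760 : N5757 = N2481 := eqes L84759 (flp_h L26944)
theorem L84761 : N5757 = N2481 := eqc rfl L84760 rfl
theorem L84773 : sm gi N2481 = N4216 := trfs L84761 (flp_i L45439) rfl
theorem L84774 : N4216 = N1832 := eqes L84773 L19766
theorem L84775 : N4216 = N1832 := eqc rfl L84774 rfl
theorem L84783 : sm gd N1832 = N5756 := trfs L84775 L45434 rfl
theorem L84784 : N5756 = N2505 := eqes L84783 L19970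
theorem L84785 : N5756 = N2505 := eqc rfl L84784 rfl
theorem L84820 : sm gg N2505 = N4217 := trfs L84785 L45437 rfl
theorem L84821 : N4217 = N3420 := eqes L84820 L27198
theorem L84822 : N4217 = N3420 := eqc rfl L84821 rfl
theorem L84830 : sm ga N3420 = N5737 := trfs L84822 (flp_a L45285) rfl
theorem L84831 : N5737 = N4667 := eqes L84830 (flp_a L37055)
theorem L84832 : N5737 = N4667 := eqc rfl L84831 rfl
theorem L84841 : sm gf N3420 = N4642 := trfs L84822 (flp_f L36842) rfl
theorem L84842 : N4642 = N4679 := eqes L84841 L37147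
theorem L84843 : N4679 = N4642 := (eqc rfl L84842 rfl).symm
theorem L84845 : sm gi N3420 = N5760 := trfs L84822 L45457 rfl
theorem L84846 : N5760 = N4638 := eqes L84845 (flp_i L36810)
theorem L84847 : N5760 = N4638 := eqc rfl L84846 rfl
theorem L84856 : sm ge N4638 = N7882 := trfs L84847 (flp_e L62065) rfl
theorem L84857 : N7882 = N3659 := eqes L84856 L36808
theorem L84858 : N7882 = N3659 := eqc rfl L84857 rfl
theorem L84862 : sm gh N4638 = N7883 := trfs L84847 L62067 rfl
theorem L84863 : N7883 = N6352 := eqes L84862 L50281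
theorem L84864 : N7883 = N6352 := eqc rfl L84863 rfl
theorem L84866 : sm gd N6352 = N8354 := trfs L84864 (flp_d L65941) L84655
theorem L84867 : N8354 = N8718 := eqes L84866 L68850
theorem L84868 : N8718 = N8354 := (eqc rfl L84867 rfl).symm
theorem L84871 : sm gd N8354 = N6352 := trfs L84868 (flp_d L68850) rfl
theorem L84877 : sm gd N3659 = N5764 := trfs L84858 L62063 rfl
theorem L84878 : N5764 = N2681 := eqes L84877 L29029
theorem L84879 : N5764 = N2681 := eqc rfl L84878 rfl
theorem L84898 : sm gi N2681 = N4221 := trfs L84879 (flp_i L45489) rfl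
theorem L84899 : N4221 = N1977 := eqes L84898 L21318
theorem L84900 : N4221 = N1977 := eqc rfl L84899 rfl
theorem L84913 : sm gg N1977 = N5761 := trfs L84900 (flp_g L45467) rfl
theorem L84914 : N5761 = N1449 := eqes L84913 (flp_g L15752)
theorem L84915 : N5761 = N1449 := eqc rfl L84914 rfl
theorem L84928 : sm gf N1449 = N7884 := trfs L84915 L62070 rfl
theorem L84929 : N7884 = N1449 := eqes L84928 L11596
theorem L84930 : N7884 = N1449 := eqc rfl L84929 rfl
theorem L84936 : sm ge N1449 = N6991 := trfs L84930 L62076 rfl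
theorem L84937 : N6991 = N1061 := eqes L84936 (flp_e L11590)
theorem L84938 : N6991 = N1061 := eqc rfl L84937 rfl
theorem L84956 : sm gi N1061 = N9585 := trfs L84938 L75374 rfl
theorem L84957 : N9585 = N1437 := eqes L84956 (flp_i L11496)
theorem L84958 : N9585 = N1437 := eqc rfl L84957 rfl
theorem L84963 : sm gf N1437 = N5109 := trfs L84958 L75379 L77966
theorem L84964 : N5109 = N1051 := eqes L84963 (flp_f L11491)
theorem L84965 : N5109 = N1051 := eqc rfl L84964 rfl
theorem L84980 : sm gh N1051 = N6993 := trfs L84965 L55107 rfl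
theorem L84981 : N6993 = N1438 := eqes L84980 L11498
theorem L84982 : N6993 = N1438 := eqc rfl L84981 rfl
theorem L84998 : sm gg N1438 = N5112 := trfs L84982 L55112 rfl
theorem L84999 : N5112 = N1176 := eqes L84998 L11504
theorem L85000 : N5112 = N1176 := eqc rfl L84999 rfl
theorem L85013 : sm gf N1176 = N3743 := trfs L85000 L40408 rfl
theorem L85014 : N3743 = N1600 := eqes L85013 (flp_f L12759)
theorem L85015 : N3743 = N1600 := eqc rfl L85014 rfl
theorem L85032 : sm gh N1600 = N2744 := trfs L85015 (flp_h L29642) rfl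
theorem L85033 : N2744 = N1175 := eqes L85032 (flp_h L12754)
theorem L85034 : N2744 = N1175 := eqc rfl L85033 rfl
theorem L85051 : sm gi N1175 = N2010 := trfs L85034 (flp_i L21794) rfl
theorem L85052 : N2010 = N875 := eqes L85051 L9395
theorem L85053 : N2010 = N875 := eqc rfl L85052 rfl
theorem L85068 : sm gg N875 = N2274 := trfs L85053 (flp_g L18051) rfl
theorem L85069 : N2274 = N1188 := eqes L85068 L9489
theorem L85070 : N2274 = N1188 := eqc rfl L85069 rfl
theorem L85080 : sm ge N1188 = N3096 := trfs L85070 L24525 rfl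
theorem L85081 : N3096 = N1613 := eqes L85080 (flp_e L12857)
theorem L85082 : N3096 = N1613 := eqc rfl L85081 rfl
theorem L85093 : sm gd N1613 = N3394 := trfs L85082 (flp_d L26987) rfl
theorem L85094 : N3394 = N2192 := eqes L85093 (flp_d L17429)
theorem L85095 : N3394 = N2192 := eqc rfl L85094 rfl
theorem L85101 : sm gi N1613 = N4224 := trfs L85082 L33399 rfl
theorem L85102 : N4224 = N2176 := eqes L85101 (flp_i L17306)
theorem L85103 : N4224 = N2176 := eqc rfl L85102 rfl
theorem L85119 : sm gh N2176 = N5768 := trfs L85103 L45519 rfl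
theorem L85120 : N5768 = N2965 := eqes L85119 L23533
theorem L85121 : N5768 = N2965 := eqc rfl L85120 rfl
theorem L85131 : sm gf N2965 = N7891 := trfs L85121 (flp_f L62136) rfl
theorem L85132 : N7891 = N4041 := eqes L85131 (flp_f L32002)
theorem L85133 : N7891 = N4041 := eqc rfl L85132 rfl
theorem L85137 : sm gc N4041 = N5896 := trfs L85133 L62134 rfl
theorem L85138 : N5896 = N2970 := eqes L85137 L32000
theorem L85139 : N5896 = N2970 := eqc rfl L85138 rfl
theorem L85159 : sm gh N2970 = N4315 := trfs L85139 (flp_h L46529) rfl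
theorem L85160 : N4315 = N2181 := eqes L85159 (flp_h L23566)
theorem L85161 : N4315 = N2181 := eqc rfl L85160 rfl
theorem L85177 : sm gi N2181 = N3160 := trfs L85161 (flp_i L34136) rfl
theorem L85178 : N3160 = N1614 := eqes L85177 L17343
theorem L85179 : N3160 = N1614 := eqc rfl L85178 rfl
theorem L85188 : sm ge N1614 = N4311 := trfs L85179 (flp_e L34112) rfl
theorem L85189 : N4311 = N1978 := eqes L85188 (flp_e L15765)
theorem L85190 : N4311 = N1978 := eqc rfl L85189 rfl
theorem L85202 : sm gd N1978 = N5886 := trfs L85190 (flp_d L46456) rfl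
theorem L85203 : N5886 = N2665 := eqes L85202 (flp_d L21176)
theorem L85204 : N5886 = N2665 := eqc rfl L85203 rfl
theorem L85226 : sm gi N2665 = N8064 := trfs L85204 L63484 rfl
theorem L85227 : N8064 = N3603 := eqes L85226 (flp_i L28588)
theorem L85228 : N8064 = N3603 := eqc rfl L85227 rfl
theorem L85234 : sm gf N3603 = N5887 := trfs L85228 L63491 rfl
theorem L85235 : N5887 = N2637 := eqes L85234 (flp_f L28582)
theorem L85236 : N5887 = N2637 := eqc rfl L85235 rfl
theorem L85253 : sm gh N2637 = N8065 := trfs L85236 L63493 rfl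
theorem L85254 : N8065 = N3604 := eqes L85253 L28592
theorem L85255 : N8065 = N3604 := eqc rfl L85254 rfl
theorem L85260 : sm ge N3604 = N5888 := trfs L85255 L63497 rfl
theorem L85261 : N5888 = N2639 := eqes L85260 L28596
theorem L85262 : N5888 = N2639 := eqc rfl L85261 rfl
theorem L85278 : sm gi N2639 = N8047 := trfs L85262 (flp_i L63369) rfl
theorem L85279 : N8047 = N3607 := eqes L85278 L28617
theorem L85280 : N8047 = N3607 := eqc rfl L85279 rfl
theorem L85286 : sm gh N3607 = N5877 := trfs L85280 (flp_h L63363) rfl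
theorem L85287 : N5877 = N2668 := eqes L85286 L28625
theorem L85288 : N5877 = N2668 := eqc rfl L85287 rfl
theorem L85308 : sm gi N2668 = N4301 := trfs L85288 (flp_i L46386) rfl
theorem L85309 : N4301 = N1950 := eqes L85308 (flp_i L21197)
theorem L85310 : N4301 = N1950 := eqc rfl L85309 rfl
theorem L85330 : sm gh N1950 = N3154 := trfs L85310 L34035 rfl
theorem L85331 : N3154 = N1426 := eqes L85330 (flp_h L15532)
theorem L85332 : N3154 = N1426 := eqc rfl L85331 rfl
theorem L85347 : sm gg N1426 = N4304 := trfs L85332 (flp_g L34059) rfl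
theorem L85348 : N4304 = N1042 := eqes L85347 (flp_g L11401)
theorem L85349 : N4304 = N1042 := eqc rfl L85348 rfl
theorem L85370 : sm gi N1042 = N5882 := trfs L85349 L46426 rfl
theorem L85371 : N5882 = N1412 := eqes L85370 (flp_i L11303)
theorem L85372 : N5882 = N1412 := eqc rfl L85371 rfl
theorem L85386 : sm gf N1412 = N8050 := trfs L85372 (flp_f L63391) rfl
theorem L85387 : N8050 = N1034 := eqes L85386 (flp_f L11297)
theorem L85388 : N8050 = N1034 := eqc rfl L85387 rfl
theorem L85394 : sm gd N1034 = N5879 := trfs L85388 L63389 rfl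
theorem L85395 : N5879 = N762 := eqes L85394 (flp_d L8309)
theorem L85396 : N5879 = N762 := eqc rfl L85395 rfl
theorem L85414 : sm gi N762 = N4303 := trfs L85396 (flp_i L46400) rfl
theorem L85415 : N4303 = N563 := eqes L85414 L6158
theorem L85416 : N4303 = N563 := eqc rfl L85415 rfl
theorem L85432 : sm gh N563 = N3152 := trfs L85416 (flp_h L34044) rfl
theorem L85433 : N3152 = N426 := eqes L85432 L4568
theorem L85434 : N3152 = N426 := eqc rfl L85433 rfl
theorem L85450 : sm gf N426 = N2316 := trfs L85434 (flp_f L24992) rfl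
theorem L85451 : N2316 = N579 := eqes L85450 L4690
theorem L85452 : N2316 = N579 := eqc rfl L85451 rfl
theorem L85470 : sm gg N579 = N1699 := trfs L85452 (flp_g L18396) rfl
theorem L85471 : N1699 = N790 := eqes L85470 L6375
theorem L85472 : N1699 = N790 := eqc rfl L85471 rfl
theorem L85487 : sm ge N790 = N1251 := trfs L85472 (flp_e L13530) rfl
theorem L85488 : N1251 = N584 := eqes L85487 L6379
theorem L85489 : N1251 = N584 := eqc rfl L85488 rfl
theorem L85499 : sm gc N584 = N921 := trfs L85489 L9998 rfl
theorem L85500 : N921 = N741 := eqes L85499 (flp_c L5998)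
theorem L85501 : N921 = N741 := eqc rfl L85500 rfl
theorem L85507 : sm gh N584 = N1701 := trfs L85489 L13548 rfl
theorem L85508 : N1701 = N782 := eqes L85507 (flp_h L6317)
theorem L85509 : N1701 = N782 := eqc rfl L85508 rfl
theorem L85530 : sm gi N782 = N2320 := trfs L85509 L18431 rfl
theorem L85531 : N2320 = N1054 := eqes L85530 (flp_i L8467)
theorem L85532 : N2320 = N1054 := eqc rfl L85531 rfl
theorem L85551 : sm gg N1054 = N3157 := trfs L85532 (flp_g L25044) rfl
theorem L85552 : N3157 = N774 := eqes L85551 (flp_g L8462)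
theorem L85553 : N3157 = N774 := eqc rfl L85552 rfl
theorem L85566 : sm gf N774 = N2775 := trfs L85553 L25042 rfl
theorem L85567 : N2775 = N568 := eqes L85566 (flp_f L6249)
theorem L85568 : N2775 = N568 := eqc rfl L85567 rfl
theorem L85588 : sm gi N568 = N2033 := trfs L85568 (flp_i L22048) rfl
theorem L85589 : N2033 = N421 := eqes L85588 L4608
theorem L85590 : N2033 = N421 := eqc rfl L85589 rfl
theorem L85610 : sm gh N421 = N1492 := trfs L85590 (flp_h L16186) rfl
theorem L85611 : N1492 = N317 := eqes L85610 L3439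
theorem L85612 : N1492 = N317 := eqc rfl L85611 rfl
theorem L85627 : sm gg N317 = N1095 := trfs L85612 (flp_g L11924) rfl
theorem L85628 : N1095 = N262 := eqes L85627 L2597
theorem L85629 : N1095 = N262 := eqc rfl L85628 rfl
theorem L85644 : sm gf N262 = N807 := trfs L85629 (flp_f L8780) rfl
theorem L85645 : N807 = N356 := eqes L85644 L2885
theorem L85646 : N807 = N356 := eqc rfl L85645 rfl
theorem L85655 : sm gc N356 = N595 := trfs L85646 (flp_c L6508) rfl
theorem L85656 : N595 = N462 := eqes L85655 (flp_c L3758)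
theorem L85657 : N595 = N462 := eqc rfl L85656 rfl
theorem L85661 : sm gh N356 = N1096 := trfs L85646 L8788 rfl
theorem L85662 : N1096 = N477 := eqes L85661 (flp_h L3861)
theorem L85663 : N1096 = N477 := eqc rfl L85662 rfl
theorem L85678 : sm gi N477 = N1495 := trfs L85663 L11945 rfl
theorem L85679 : N1495 = N639 := eqes L85678 (flp_i L5148)
theorem L85680 : N1495 = N639 := eqc rfl L85679 rfl
theorem L85687 : sm gc N639 = N1100 := trfs L85680 L11949 rfl
theorem L85688 : N1100 = N833 := eqes L85687 (flp_c L6714)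
theorem L85689 : N1100 = N833 := eqc rfl L85688 rfl
theorem L85701 : sm gd N833 = N1480 := trfs L85689 (flp_d L11830) rfl
theorem L85702 : N1480 = N1132 := eqes L85701 (flp_d L9078)
theorem L85703 : N1480 = N1132 := eqc rfl L85702 rfl
theorem L85708 : sm gg N833 = N1256 := trfs L85689 (flp_g L10037) rfl
theorem L85709 : N1256 = N1134 := eqes L85708 L9089
theorem L85710 : N1256 = N1134 := eqc rfl L85709 rfl
theorem L85714 : sm gb N1134 = N927 := trfs L85710 L10034 rfl
theorem L85715 : N927 = N836 := eqes L85714 L9091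
theorem L85716 : N927 = N836 := eqc rfl L85715 rfl
theorem L85722 : sm gi N1134 = N922 := trfs L85710 (flp_i L10032) rfl
theorem L85723 : N922 = N842 := eqes L85722 L9097
theorem L85724 : N922 = N842 := eqc rfl L85723 rfl
theorem L85726 : sm gb N842 = N685 := trfs L85724 L7395 rfl
theorem L85727 : N685 = N623 := eqes L85726 L6779
theorem L85728 : N685 = N623 := eqc rfl L85727 rfl
theorem L85734 : sm gh N842 = N682 := trfs L85724 (flp_h L7393) rfl
theorem L85735 : N682 = N628 := eqes L85734 L6784
theorem L85736 : N682 = N628 := eqc rfl L85735 rfl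
theorem L85737 : sm ga N628 = N918 := trfs L85736 (flp_a L7361) rfl
theorem L85738 : N918 = N849 := eqes L85737 (flp_a L6823)
theorem L85739 : N918 = N849 := eqc rfl L85738 rfl
theorem L85740 : sm gb N628 = N505 := trfs L85736 L5492 rfl
theorem L85741 : N505 = N465 := eqes L85740 L5069
theorem L85742 : N505 = N465 := eqc rfl L85741 rfl
theorem L85744 : sm gd N628 = N504 := trfs L85736 (flp_d L5490) rfl
theorem L85745 : N504 = N851 := eqes L85744 (flp_d L6842)
theorem L85746 : N851 = N504 := (eqc rfl L85745 rfl).symm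
theorem L85758 : sm gd N504 = N628 := trfs L85746 L6842 rfl
theorem L85763 : sm gf N504 = N1005 := trfs L85746 (flp_f L8092) rfl
theorem L85764 : N1005 = N683 := eqes L85763 L5498
theorem L85765 : N1005 = N683 := eqc rfl L85764 rfl
theorem L85766 : sm gg N504 = N626 := trfs L85746 (flp_g L6837) rfl
theorem L85767 : N626 = N440 := eqes L85766 L4079
theorem L85768 : N626 = N440 := eqc rfl L85767 rfl
theorem L85769 : sm gh N504 = N1159 := trfs L85746 L9273 rfl
theorem L85770 : N1159 = N672 := eqes L85769 (flp_h L5409)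
theorem L85771 : N1159 = N672 := eqc rfl L85770 rfl
theorem L85786 : sm gf N672 = N1373 := trfs L85771 (flp_f L11005) rfl
theorem L85787 : N1373 = N908 := eqes L85786 L7277
theorem L85788 : N1373 = N908 := eqc rfl L85787 rfl
theorem L85789 : sm gg N672 = N852 := trfs L85771 L9278 rfl
theorem L85790 : N852 = N590 := eqes L85789 L5407
theorem L85791 : N852 = N590 := eqc rfl L85790 rfl
theorem L85792 : sm gi N672 = N1579 := trfs L85771 L12598 rfl
theorem L85793 : N1579 = N702 := eqes L85792 (flp_i L5668)
theorem L85794 : N1579 = N702 := eqc rfl L85793 rfl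
theorem L85807 : sm gg N702 = N1160 := trfs L85794 L12603 rfl
theorem L85808 : N1160 = N609 := eqes L85807 L5665
theorem L85809 : N1160 = N609 := eqc rfl L85808 rfl
theorem L85814 : sm gb N609 = N857 := trfs L85809 L9282 rfl
theorem L85815 : N857 = N450 := eqes L85814 L4920
theorem L85816 : N857 = N450 := eqc rfl L85815 rfl
theorem L85824 : sm gf N609 = N853 := trfs L85809 L9285 rfl
theorem L85825 : N853 = N827 := eqes L85824 L6661
theorem L85826 : N853 = N827 := eqc rfl L85825 rfl
theorem L85829 : sm ga N827 = N1156 := trfs L85826 (flp_a L9251) rfl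
theorem L85830 : N1156 = N1120 := eqes L85829 (flp_a L8975)
theorem L85831 : N1156 = N1120 := eqc rfl L85830 rfl
theorem L85832 : sm gb N827 = N632 := trfs L85826 L6854 rfl
theorem L85833 : N632 = N611 := eqes L85832 L6663
theorem L85834 : N632 = N611 := eqc rfl L85833 rfl
theorem L85836 : sm gd N827 = N1148 := trfs L85826 (flp_d L9199) rfl
theorem L85837 : N1148 = N1122 := eqes L85836 (flp_d L8994)
theorem L85838 : N1148 = N1122 := eqc rfl L85837 rfl
theorem L85840 : sm gg N827 = N1007 := trfs L85826 (flp_g L8107) rfl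
theorem L85841 : N1007 = N1124 := eqes L85840 L9005
theorem L85842 : N1124 = N1007 := (eqc rfl L85841 rfl).symm
theorem L85844 : sm gi N827 = N627 := trfs L85826 (flp_i L6852) rfl
theorem L85845 : N627 = N801 := eqes L85844 L6667
theorem L85846 : N801 = N627 := (eqc rfl L85845 rfl).symm
theorem L85847 : sm ga N627 = N1082 := trfs L85846 (flp_a L8686) rfl
theorem L85848 : N1082 = N848 := eqes L85847 (flp_a L6817)
theorem L85849 : N1082 = N848 := eqc rfl L85848 rfl
theorem L85850 : sm gb N627 = N592 := trfs L85846 L6462 rfl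
theorem L85851 : N592 = N464 := eqes L85850 L5063
theorem L85852 : N592 = N464 := eqc rfl L85851 rfl
theorem L85854 : sm gd N627 = N1084 := trfs L85846 (flp_d L8702) rfl
theorem L85855 : N1084 = N841 := eqes L85854 (flp_d L6775)
theorem L85856 : N1084 = N841 := eqc rfl L85855 rfl
theorem L85863 : sm gh N627 = N596 := trfs L85846 L6465 rfl
theorem L85864 : N596 = N461 := eqes L85863 (flp_h L5061)
theorem L85865 : N596 = N461 := eqc rfl L85864 rfl
theorem L85866 : sm gi N627 = N827 := trfs L85846 (flp_i L6667) rfl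
theorem L85868 : sm ga N461 = N806 := trfs L85865 (flp_a L6501) rfl
theorem L85869 : N806 = N624 := eqes L85868 (flp_a L5040)
theorem L85870 : N806 = N624 := eqc rfl L85869 rfl
theorem L85871 : sm gb N461 = N442 := trfs L85865 L4820 rfl
theorem L85872 : N442 = N341 := eqes L85871 L3749
theorem L85873 : N442 = N341 := eqc rfl L85872 rfl
theorem L85879 : sm gg N461 = N810 := trfs L85865 L6527 rfl
theorem L85880 : N810 = N543 := eqes L85879 (flp_g L4413)
theorem L85881 : N810 = N543 := eqc rfl L85880 rfl
theorem L85892 : sm gf N543 = N923 := trfs L85881 (flp_f L7406) rfl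
theorem L85893 : N923 = N739 := eqes L85892 L5978
theorem L85894 : N923 = N739 := eqc rfl L85893 rfl
theorem L85897 : sm ga N739 = N1250 := trfs L85894 (flp_a L9986) rfl
theorem L85898 : N1250 = N1001 := eqes L85897 (flp_a L8054)
theorem L85899 : N1250 = N1001 := eqc rfl L85898 rfl
theorem L85900 : sm gb N739 = N686 := trfs L85894 L7402 rfl
theorem L85901 : N686 = N545 := eqes L85900 L5980
theorem L85902 : N686 = N545 := eqc rfl L85901 rfl
theorem L85907 : sm ge N739 = N1242 := trfs L85894 (flp_e L9919) rfl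
theorem L85908 : N1242 = N1004 := eqes L85907 L8077
theorem L85909 : N1242 = N1004 := eqc rfl L85908 rfl
theorem L85912 : sm gh N739 = N1232 := trfs L85894 (flp_h L9839) rfl
theorem L85913 : N1232 = N1006 := eqes L85912 L8094
theorem L85914 : N1232 = N1006 := eqc rfl L85913 rfl
theorem L85917 : sm gb N1006 = N911 := trfs L85914 L9836 rfl
theorem L85918 : N911 = N744 := eqes L85917 L8096
theorem L85919 : N911 = N744 := eqc rfl L85918 rfl
theorem L85922 : sm ge N1006 = N1660 := trfs L85914 (flp_e L13217) rfl
theorem L85923 : N1660 = N1372 := eqes L85922 (flp_e L10997)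
theorem L85924 : N1660 = N1372 := eqc rfl L85923 rfl
theorem L85928 : sm gi N1006 = N1294 := trfs L85914 (flp_i L10362) rfl
theorem L85929 : N1294 = N1374 := eqes L85928 L11009
theorem L85930 : N1374 = N1294 := (eqc rfl L85929 rfl).symm
theorem L85931 : sm ga N1294 = N1869 := trfs L85930 (flp_a L14920) rfl
theorem L85932 : N1869 = N1755 := eqes L85931 (flp_a L14000)
theorem L85933 : N1869 = N1755 := eqc rfl L85932 rfl
theorem L85934 : sm gb N1294 = N1011 := trfs L85930 L11011 rfl
theorem L85935 : N1011 = N953 := eqes L85934 L10358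
theorem L85936 : N1011 = N953 := eqc rfl L85935 rfl
theorem L85939 : sm ge N1294 = N1873 := trfs L85930 (flp_e L14954) rfl
theorem L85940 : N1873 = N1747 := eqes L85939 (flp_e L13936)
theorem L85941 : N1873 = N1747 := eqc rfl L85940 rfl
theorem L85946 : sm gi N1294 = N1006 := trfs L85930 (flp_i L11009) rfl
theorem L85948 : sm ga N1747 = N2551 := trfs L85941 (flp_a L20312) rfl
theorem L85949 : N2551 = N2377 := eqes L85948 (flp_a L18895)
theorem L85950 : N2551 = N2377 := eqc rfl L85949 rfl
theorem L85951 : sm gb N1747 = N1378 := trfs L85941 L14951 rfl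
theorem L85952 : N1378 = N1288 := eqes L85951 L13933
theorem L85953 : N1378 = N1288 := eqc rfl L85952 rfl
theorem L85955 : sm gd N1747 = N2557 := trfs L85941 (flp_d L20363) rfl
theorem L85956 : N2557 = N2381 := eqes L85955 (flp_d L18932)
theorem L85957 : N2557 = N2381 := eqc rfl L85956 rfl
theorem L85959 : sm gg N1747 = N2555 := trfs L85941 (flp_g L20352) rfl
theorem L85960 : N2555 = N1285 := eqes L85959 (flp_g L13931)
theorem L85961 : N2555 = N1285 := eqc rfl L85960 rfl
theorem L85980 : sm gi N1285 = N1871 := trfs L85961 (flp_i L20345) rfl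
theorem L85981 : N1871 = N1223 := eqes L85980 L10285
theorem L85982 : N1871 = N1223 := eqc rfl L85981 rfl
theorem L85983 : sm ga N1223 = N2549 := trfs L85982 (flp_a L20298) rfl
theorem L85984 : N2549 = N1656 := eqes L85983 (flp_a L13186)
theorem L85985 : N2549 = N1656 := eqc rfl L85984 rfl
theorem L85986 : sm gb N1223 = N1376 := trfs L85982 L14937 rfl
theorem L85987 : N1376 = N904 := eqes L85986 L9766
theorem L85988 : N1376 = N904 := eqc rfl L85987 rfl
theorem L85990 : sm gd N1223 = N2554 := trfs L85982 L20339 rfl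
theorem L85991 : N2554 = N1658 := eqes L85990 (flp_d L13203)
theorem L85992 : N2554 = N1658 := eqc rfl L85991 rfl
theorem L85999 : sm gh N1223 = N1371 := trfs L85982 (flp_h L14935) rfl
theorem L86000 : N1371 = N914 := eqes L85999 L9769
theorem L86001 : N1371 = N914 := eqc rfl L86000 rfl
theorem L86002 : sm ga N914 = N1866 := trfs L86001 (flp_a L14895) rfl
theorem L86003 : N1866 = N1238 := eqes L86002 (flp_a L9886)
theorem L86004 : N1866 = N1238 := eqc rfl L86003 rfl
theorem L86005 : sm gb N914 = N1008 := trfs L86001 L10986 rfl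
theorem L86006 : N1008 = N679 := eqes L86005 L7328
theorem L86007 : N1008 = N679 := eqc rfl L86006 rfl
theorem L86009 : sm gd N914 = N1857 := trfs L86001 (flp_d L14833) rfl
theorem L86010 : N1857 = N1240 := eqes L86009 (flp_d L9905)
theorem L86011 : N1857 = N1240 := eqc rfl L86010 rfl
theorem L86013 : sm gf N914 = N1870 := trfs L86001 L14926 rfl
theorem L86014 : N1870 = N677 := eqes L86013 (flp_f L7326)
theorem L86015 : N1870 = N677 := eqc rfl L86014 rfl
theorem L86029 : sm ge N677 = N1575 := trfs L86015 L14932 rfl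
theorem L86030 : N1575 = N500 := eqes L86029 (flp_e L5446)
theorem L86031 : N1575 = N500 := eqc rfl L86030 rfl
theorem L86045 : sm gh N500 = N2145 := trfs L86031 L17066 rfl
theorem L86046 : N2145 = N668 := eqes L86045 (flp_h L5372)
theorem L86047 : N2145 = N668 := eqc rfl L86046 rfl
theorem L86062 : sm gi N668 = N2923 := trfs L86047 L23212 rfl
theorem L86063 : N2923 = N698 := eqes L86062 (flp_i L5631)
theorem L86064 : N2923 = N698 := eqc rfl L86063 rfl
theorem L86072 : sm gd N698 = N3988 := trfs L86064 (flp_d L31594) rfl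
theorem L86073 : N3988 = N526 := eqes L86072 L5625
theorem L86074 : N3988 = N526 := eqc rfl L86073 rfl
theorem L86095 : sm gh N526 = N5449 := trfs L86074 L43076 rfl
theorem L86096 : N5449 = N396 := eqes L86095 L4272
theorem L86097 : N5449 = N396 := eqc rfl L86096 rfl
theorem L86112 : sm gf N396 = N3991 := trfs L86097 L43080 rfl
theorem L86113 : N3991 = N295 := eqes L86112 L3240
theorem L86114 : N3991 = N295 := eqc rfl L86113 rfl
theorem L86130 : sm gg N295 = N2928 := trfs L86114 L31618 rfl
theorem L86131 : N2928 = N250 := eqes L86130 L2423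
theorem L86132 : N2928 = N250 := eqc rfl L86131 rfl
theorem L86149 : sm gh N250 = N2149 := trfs L86132 (flp_h L23248) rfl
theorem L86150 : N2149 = N336 := eqes L86149 (flp_h L2749)
theorem L86151 : N2149 = N336 := eqc rfl L86150 rfl
theorem L86168 : sm gi N336 = N1577 := trfs L86151 (flp_i L17096) rfl
theorem L86169 : N1577 = N452 := eqes L86168 (flp_i L3683)
theorem L86170 : N1577 = N452 := eqc rfl L86169 rfl
theorem L86187 : sm gg N452 = N2146 := trfs L86170 (flp_g L17078) rfl
theorem L86188 : N2146 = N529 := eqes L86187 (flp_g L4295)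
theorem L86189 : N2146 = N529 := eqc rfl L86188 rfl
theorem L86201 : sm ge N529 = N2906 := trfs L86189 (flp_e L23097) rfl
theorem L86202 : N2906 = N721 := eqes L86201 L5832
theorem L86203 : N2906 = N721 := eqc rfl L86202 rfl
theorem L86222 : sm gi N721 = N3966 := trfs L86203 L31433 rfl
theorem L86223 : N3966 = N533 := eqes L86222 L5841
theorem L86224 : N3966 = N533 := eqc rfl L86223 rfl
theorem L86236 : sm gf N533 = N5418 := trfs L86224 (flp_f L42853) rfl
theorem L86237 : N5418 = N727 := eqes L86236 L5891
theorem L86238 : N5418 = N727 := eqc rfl L86237 rfl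
theorem L86255 : sm gh N727 = N7416 := trfs L86238 L58512 rfl
theorem L86256 : N7416 = N544 := eqes L86255 L5897
theorem L86257 : N7416 = N544 := eqc rfl L86256 rfl
theorem L86259 : sm gb N544 = N5429 := trfs L86257 L58514 rfl
theorem L86260 : N5429 = N402 := eqes L86259 L4420
theorem L86261 : N5429 = N402 := eqc rfl L86260 rfl
theorem L86264 : sm ga N402 = N7012 := trfs L86261 (flp_a L55258) rfl
theorem L86265 : N7012 = N506 := eqes L86264 (flp_a L4094)
theorem L86266 : N7012 = N506 := eqc rfl L86265 rfl
theorem L86279 : sm gg N402 = N7273 := trfs L86261 (flp_g L57338) rfl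
theorem L86280 : N7273 = N547 := eqes L86279 L4439
theorem L86281 : N7273 = N547 := eqc rfl L86280 rfl
theorem L86286 : sm gd N547 = N506 := trfs L86281 L57340 L86266
theorem L86287 : N506 = N743 := eqes L86286 (flp_d L6013)
theorem L86288 : N743 = N506 := (eqc rfl L86287 rfl).symm
theorem L86292 : sm gh N547 = N5314 := trfs L86281 (flp_h L57334) rfl
theorem L86293 : N5314 = N730 := eqes L86292 (flp_h L5915)
theorem L86294 : N5314 = N730 := eqc rfl L86293 rfl
theorem L86303 : sm gd N730 = N3889 := trfs L86294 L42002 rfl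
theorem L86304 : N3889 = N988 := eqes L86303 (flp_d L7962)
theorem L86305 : N3889 = N988 := eqc rfl L86304 rfl
theorem L86306 : sm ge N730 = N7272 := trfs L86294 (flp_e L57329) rfl
theorem L86307 : N7272 = N974 := eqes L86306 (flp_e L7844)
theorem L86308 : N7272 = N974 := eqc rfl L86307 rfl
theorem L86313 : sm gi N730 = N3888 := trfs L86294 (flp_i L42000) rfl
theorem L86314 : N3888 = N980 := eqes L86313 (flp_i L7907)
theorem L86315 : N3888 = N980 := eqc rfl L86314 rfl
theorem L86334 : sm gg N980 = N2910 := trfs L86315 L30791 rfl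
theorem L86335 : N2910 = N723 := eqes L86334 (flp_g L7900)
theorem L86336 : N2910 = N723 := eqc rfl L86335 rfl
theorem L86348 : sm ge N723 = N3971 := trfs L86336 L31469 rfl
theorem L86349 : N3971 = N967 := eqes L86348 (flp_e L7793)
theorem L86350 : N3971 = N967 := eqc rfl L86349 rfl
theorem L86371 : sm gi N967 = N5428 := trfs L86350 L42923 rfl
theorem L86372 : N5428 = N718 := eqes L86371 L7791
theorem L86373 : N5428 = N718 := eqc rfl L86372 rfl
theorem L86385 : sm gf N718 = N3998 := trfs L86373 L42927 rfl
theorem L86386 : N3998 = N527 := eqes L86385 (flp_f L5802)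
theorem L86387 : N3998 = N527 := eqc rfl L86386 rfl
theorem L86402 : sm gh N527 = N5462 := trfs L86387 L43174 rfl
theorem L86403 : N5462 = N397 := eqes L86402 L4281
theorem L86404 : N5462 = N397 := eqc rfl L86403 rfl
theorem L86413 : sm gd N397 = N7469 := trfs L86404 L58910 rfl
theorem L86414 : N7469 = N539 := eqes L86413 L4378
theorem L86415 : N7469 = N539 := eqc rfl L86414 rfl
theorem L86425 : sm gh N539 = N8967 := trfs L86415 (flp_h L70727) rfl
theorem L86426 : N8967 = N735 := eqes L86425 L5949
theorem L86427 : N8967 = N735 := eqc rfl L86426 rfl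
theorem L86429 : sm gd N735 = N6541 := trfs L86427 (flp_d L70723) rfl
theorem L86430 : N6541 = N973 := eqes L86429 (flp_d L7838)
theorem L86431 : N6541 = N973 := eqc rfl L86430 rfl
theorem L86451 : sm gi N973 = N8927 := trfs L86431 (flp_i L70437) rfl
theorem L86452 : N8927 = N1328 := eqes L86451 L10641
theorem L86453 : N8927 = N1328 := eqc rfl L86452 rfl
theorem L86458 : sm gh N1328 = N6507 := trfs L86453 (flp_h L70432) rfl
theorem L86459 : N6507 = N1796 := eqes L86458 (flp_h L14362)
theorem L86460 : N6507 = N1796 := eqc rfl L86459 rfl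
theorem L86478 : sm gi N1796 = N4750 := trfs L86460 (flp_i L51451) rfl
theorem L86479 : N4750 = N1317 := eqes L86478 (flp_i L14354)
theorem L86480 : N4750 = N1317 := eqc rfl L86479 rfl
theorem L86498 : sm gh N1317 = N3492 := trfs L86480 L37668 rfl
theorem L86499 : N3492 = N966 := eqes L86498 (flp_h L10562)
theorem L86500 : N3492 = N966 := eqc rfl L86499 rfl
theorem L86511 : sm ge N966 = N2558 := trfs L86500 (flp_e L27724) rfl
theorem L86512 : N2558 = N903 := eqes L86511 L7782
theorem L86513 : N2558 = N903 := eqc rfl L86512 rfl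
theorem L86529 : sm gf N903 = N1876 := trfs L86513 L20368 rfl
theorem L86530 : N1876 = N1224 := eqes L86529 L9773
theorem L86531 : N1876 = N1224 := eqc rfl L86530 rfl
theorem L86534 : sm gi N903 = N3493 := trfs L86513 L27729 rfl
theorem L86535 : N3493 = N945 := eqes L86534 (flp_i L7591)
theorem L86536 : N3493 = N945 := eqc rfl L86535 rfl
theorem L86550 : sm gf N945 = N2561 := trfs L86536 L27733 rfl
theorem L86551 : N2561 = N1286 := eqes L86550 L10289
theorem L86552 : N2561 = N1286 := eqc rfl L86551 rfl
theorem L86566 : sm gg N1286 = N1879 := trfs L86552 L20391 rfl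
theorem L86567 : N1879 = N1749 := eqes L86566 L13950
theorem L86568 : N1879 = N1749 := eqc rfl L86567 rfl
theorem L86569 : sm gh N1286 = N3496 := trfs L86552 L27750 rfl
theorem L86570 : N3496 = N1750 := eqes L86569 L13957
theorem L86571 : N3496 = N1750 := eqc rfl L86570 rfl
theorem L86590 : sm gi N1750 = N4754 := trfs L86571 (flp_i L37697) rfl
theorem L86591 : N4754 = N2387 := eqes L86590 L18974
theorem L86592 : N4754 = N2387 := eqc rfl L86591 rfl
theorem L86607 : sm gg N2387 = N3478 := trfs L86592 L37694 rfl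
theorem L86608 : N3478 = N3253 := eqes L86607 (flp_g L25796)
theorem L86609 : N3478 = N3253 := eqc rfl L86608 rfl
theorem L86610 : sm gh N2387 = N3475 := trfs L86592 (flp_h L37692) rfl
theorem L86611 : N3475 = N2263 := eqes L86610 L18979
theorem L86612 : N3475 = N2263 := eqc rfl L86611 rfl
theorem L86616 : sm gb N2263 = N4745 := trfs L86612 (flp_b L37631) rfl
theorem L86617 : N4745 = N3073 := eqes L86616 (flp_b L24344)
theorem L86618 : N4745 = N3073 := eqc rfl L86617 rfl
theorem L86619 : sm gc N2263 = N4753 := trfs L86612 (flp_c L37687) rfl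
theorem L86620 : N4753 = N3057 := eqes L86619 (flp_c L24231)
theorem L86621 : N4753 = N3057 := eqc rfl L86620 rfl
theorem L86622 : sm gd N2263 = N2545 := trfs L86612 L27607 rfl
theorem L86623 : N2545 = N1692 := eqes L86622 L17965
theorem L86624 : N2545 = N1692 := eqc rfl L86623 rfl
theorem L86625 : sm ge N2263 = N4616 := trfs L86612 (flp_e L36590) rfl
theorem L86626 : N4616 = N3077 := eqes L86625 (flp_e L24377)
theorem L86627 : N4616 = N3077 := eqc rfl L86626 rfl
theorem L86629 : sm gg N2263 = N2547 := trfs L86612 L27609 rfl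
theorem L86630 : N2547 = N3078 := eqes L86629 (flp_g L24386)
theorem L86631 : N3078 = N2547 := (eqc rfl L86630 rfl).symm
theorem L86632 : sm gi N2263 = N2544 := trfs L86612 (flp_i L27605) rfl
theorem L86633 : N2544 = N1663 := eqes L86632 (flp_i L17961)
theorem L86634 : N2544 = N1663 := eqc rfl L86633 rfl
theorem L86638 : sm gb N1663 = N3468 := trfs L86634 (flp_b L27556) rfl
theorem L86639 : N3468 = N2258 := eqes L86638 (flp_b L17925)
theorem L86640 : N3468 = N2258 := eqc rfl L86639 rfl
theorem L86641 : sm gc N1663 = N3474 := trfs L86634 L27598 rfl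
theorem L86642 : N3474 = N2248 := eqes L86641 (flp_c L17852)
theorem L86643 : N3474 = N2248 := eqc rfl L86642 rfl
theorem L86644 : sm gd N1663 = N1862 := trfs L86634 (flp_d L20262) rfl
theorem L86645 : N1862 = N1245 := eqes L86644 L13241
theorem L86646 : N1862 = N1245 := eqc rfl L86645 rfl
theorem L86647 : sm ge N1663 = N3373 := trfs L86634 (flp_e L26789) rfl
theorem L86648 : N3373 = N2261 := eqes L86647 (flp_e L17950)
theorem L86649 : N3373 = N2261 := eqc rfl L86648 rfl
theorem L86651 : sm gg N1663 = N1863 := trfs L86634 L20264 rfl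
theorem L86652 : N1863 = N2262 := eqes L86651 (flp_g L17957)
theorem L86653 : N2262 = N1863 := (eqc rfl L86652 rfl).symm
theorem L86655 : sm ga N1863 = N1809 := trfs L86653 L17954 rfl
theorem L86656 : N1809 = N2303 := eqes L86655 (flp_a L18281)
theorem L86657 : N2303 = N1809 := (eqc rfl L86656 rfl).symm
theorem L86661 : sm gc N1863 = N3056 := trfs L86653 (flp_c L24221) rfl
theorem L86662 : N3056 = N2546 := eqes L86661 L20276
theorem L86663 : N3056 = N2546 := eqc rfl L86662 rfl
theorem L86664 : sm gd N1863 = N1691 := trfs L86653 L17959 rfl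
theorem L86665 : N1691 = N1364 := eqes L86664 (flp_d L14874)
theorem L86666 : N1691 = N1364 := eqc rfl L86665 rfl
theorem L86667 : sm ge N1863 = N3075 := trfs L86653 (flp_e L24361) rfl
theorem L86668 : N3075 = N2471 := eqes L86667 (flp_e L19669)
theorem L86669 : N3075 = N2471 := eqc rfl L86668 rfl
theorem L86671 : sm gg N1863 = N1663 := trfs L86653 L17957 rfl
theorem L86673 : sm gh N1863 = N1662 := trfs L86653 (flp_h L17952) rfl
theorem L86674 : N1662 = N1377 := eqes L86673 L14877
theorem L86675 : N1662 = N1377 := eqc rfl L86674 rfl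
theorem L86677 : sm ga N1377 = N1326 := trfs L86675 L13230 rfl
theorem L86678 : N1326 = N1710 := eqes L86677 (flp_a L13624)
theorem L86679 : N1710 = N1326 := (eqc rfl L86678 rfl).symm
theorem L86683 : sm gc N1377 = N2247 := trfs L86675 (flp_c L17843) rfl
theorem L86684 : N2247 = N1878 := eqes L86683 L14990
theorem L86685 : N2247 = N1878 := eqc rfl L86684 rfl
theorem L86686 : sm gd N1377 = N1226 := trfs L86675 L13232 rfl
theorem L86687 : N1226 = N1009 := eqes L86686 (flp_d L11033)
theorem L86688 : N1226 = N1009 := eqc rfl L86687 rfl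
theorem L86689 : sm ge N1377 = N2260 := trfs L86675 (flp_e L17944) rfl
theorem L86690 : N2260 = N1842 := eqes L86689 (flp_e L14721)
theorem L86691 : N2260 = N1842 := eqc rfl L86690 rfl
theorem L86697 : sm ga N1842 = N1807 := trfs L86691 L17940 rfl
theorem L86698 : N1807 = N2282 := eqes L86697 (flp_a L18111)
theorem L86699 : N2282 = N1807 := (eqc rfl L86698 rfl).symm
theorem L86700 : sm gb N1842 = N3070 := trfs L86691 (flp_b L24321) rfl
theorem L86701 : N3070 = N2512 := eqes L86700 (flp_b L20023)
theorem L86702 : N3070 = N2512 := eqc rfl L86701 rfl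
theorem L86703 : sm gc N1842 = N3054 := trfs L86691 (flp_c L24204) rfl
theorem L86704 : N3054 = N2518 := eqes L86703 L20063
theorem L86705 : N3054 = N2518 := eqc rfl L86704 rfl
theorem L86706 : sm gd N1842 = N1675 := trfs L86691 L17942 rfl
theorem L86707 : N1675 = N1350 := eqes L86706 (flp_d L14719)
theorem L86708 : N1675 = N1350 := eqc rfl L86707 rfl
theorem L86709 : sm gf N1842 = N3074 := trfs L86691 L24350 rfl
theorem L86710 : N3074 = N2406 := eqes L86709 (flp_f L19143)
theorem L86711 : N3074 = N2406 := eqc rfl L86710 rfl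
theorem L86712 : sm gg N1842 = N1661 := trfs L86691 (flp_g L17938) rfl
theorem L86713 : N1661 = N2516 := eqes L86712 (flp_g L20052)
theorem L86714 : N2516 = N1661 := (eqc rfl L86713 rfl).symm
theorem L86716 : sm gi N1842 = N2384 := trfs L86691 (flp_i L18960) rfl
theorem L86717 : N2384 = N2519 := eqes L86716 L20068
theorem L86718 : N2519 = N2384 := (eqc rfl L86717 rfl).symm
theorem L86728 : sm gd N2384 = N1843 := trfs L86718 L20070 rfl
theorem L86729 : N1843 = N1762 := eqes L86728 L18956
theorem L86730 : N1843 = N1762 := eqc rfl L86729 rfl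
theorem L86736 : sm gh N2384 = N3438 := trfs L86718 L27321 rfl
theorem L86737 : N3438 = N3250 := eqes L86736 L25771
theorem L86738 : N3438 = N3250 := eqc rfl L86737 rfl
theorem L86739 : sm gi N2384 = N1842 := trfs L86718 (flp_i L20068) rfl
theorem L86758 : sm gi N3250 = N4619 := trfs L86738 (flp_i L36610) rfl
theorem L86759 : N4619 = N4441 := eqes L86758 L35133
theorem L86760 : N4619 = N4441 := eqc rfl L86759 rfl
theorem L86764 : sm gb N4441 = N6315 := trfs L86760 (flp_b L49938) rfl
theorem L86765 : N6315 = N6064 := eqes L86764 (flp_b L47860)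
theorem L86766 : N6315 = N6064 := eqc rfl L86765 rfl
theorem L86767 : sm gc N4441 = N6324 := trfs L86760 (flp_c L50001) rfl
theorem L86768 : N6324 = N6028 := eqes L86767 (flp_c L47564)
theorem L86769 : N6324 = N6028 := eqc rfl L86768 rfl
theorem L86770 : sm gd N4441 = N6263 := trfs L86760 (flp_d L49557) rfl
theorem L86771 : N6263 = N6070 := eqes L86770 (flp_d L47910)
theorem L86772 : N6263 = N6070 := eqc rfl L86771 rfl
theorem L86774 : sm gf N4441 = N6073 := trfs L86760 (flp_f L47932) rfl
theorem L86775 : N6073 = N6068 := eqes L86774 (flp_f L47895)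
theorem L86776 : N6073 = N6068 := eqc rfl L86775 rfl
theorem L86778 : sm gh N4441 = N3376 := trfs L86760 (flp_h L36606) rfl
theorem L86779 : N3376 = N4192 := eqes L86778 L35139
theorem L86780 : N4192 = N3376 := (eqc rfl L86779 rfl).symm
theorem L86781 : sm ga N3376 = N3374 := trfs L86780 L33144 rfl
theorem L86782 : N3374 = N4194 := eqes L86781 (flp_a L33160)
theorem L86783 : N4194 = N3374 := (eqc rfl L86782 rfl).symm
theorem L86784 : sm gb N3376 = N5715 := trfs L86780 (flp_b L45104) rfl
theorem L86785 : N5715 = N4612 := eqes L86784 (flp_b L36561)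
theorem L86786 : N5715 = N4612 := eqc rfl L86785 rfl
theorem L86787 : sm gc N3376 = N5679 := trfs L86780 (flp_c L44836) rfl
theorem L86788 : N5679 = N4618 := eqes L86787 (flp_c L36602)
theorem L86789 : N5679 = N4618 := eqc rfl L86788 rfl
theorem L86794 : sm gf N3376 = N5719 := trfs L86780 (flp_f L45137) rfl
theorem L86795 : N5719 = N4443 := eqes L86794 (flp_f L35153)
theorem L86796 : N5719 = N4443 := eqc rfl L86795 rfl
theorem L86799 : sm gh N3376 = N4441 := trfs L86780 (flp_h L35139) rfl
theorem L86802 : sm ga N4443 = N4614 := trfs L86796 L45134 rfl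
theorem L86803 : N4614 = N4576 := eqes L86802 (flp_a L36300)
theorem L86804 : N4614 = N4576 := eqc rfl L86803 rfl
theorem L86805 : sm gb N4443 = N7812 := trfs L86796 (flp_b L61520) rfl
theorem L86806 : N7812 = N6066 := eqes L86805 (flp_b L47877)
theorem L86807 : N7812 = N6066 := eqc rfl L86806 rfl
theorem L86808 : sm gc N4443 = N7760 := trfs L86796 (flp_c L61136) rfl
theorem L86809 : N7760 = N6072 := eqes L86808 (flp_c L47924)
theorem L86810 : N7760 = N6072 := eqc rfl L86809 rfl
theorem L86815 : sm gg N4443 = N6258 := trfs L86796 (flp_g L49512) rfl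
theorem L86816 : N6258 = N6070 := eqes L86815 (flp_g L47913)
theorem L86817 : N6258 = N6070 := eqc rfl L86816 rfl
theorem L86820 : sm gi N4443 = N4190 := trfs L86796 (flp_i L45132) rfl
theorem L86821 : N4190 = N3251 := eqes L86820 (flp_i L35148)
theorem L86822 : N4190 = N3251 := eqc rfl L86821 rfl
theorem L86823 : sm ga N3251 = N3372 := trfs L86822 L33127 rfl
theorem L86824 : N3372 = N3345 := eqes L86823 (flp_a L26581)
theorem L86825 : N3372 = N3345 := eqc rfl L86824 rfl
theorem L86829 : sm gc N3251 = N5677 := trfs L86822 (flp_c L44819) rfl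
theorem L86830 : N5677 = N4442 := eqes L86829 L35141
theorem L86831 : N5677 = N4442 := eqc rfl L86830 rfl
theorem L86837 : sm gg N3251 = N4572 := trfs L86822 (flp_g L36268) rfl
theorem L86838 : N4572 = N4440 := eqes L86837 (flp_g L35128)
theorem L86839 : N4572 = N4440 := eqc rfl L86838 rfl
theorem L86841 : sm ga N4440 = N4439 := trfs L86839 L36263 rfl
theorem L86842 : N4439 = N4573 := eqes L86841 (flp_a L36272)
theorem L86843 : N4573 = N4439 := (eqc rfl L86842 rfl).symm
theorem L86844 : sm gb N4440 = N6252 := trfs L86839 (flp_b L49453) rfl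
theorem L86845 : N6252 = N6063 := eqes L86844 (flp_b L47851)
theorem L86846 : N6252 = N6063 := eqc rfl L86845 rfl
theorem L86847 : sm gc N4440 = N6173 := trfs L86839 (flp_c L48805) rfl
theorem L86848 : N6173 = N6069 := eqes L86847 L47901
theorem L86849 : N6173 = N6069 := eqc rfl L86848 rfl
theorem L86854 : sm gf N4440 = N3344 := trfs L86839 L36266 rfl
theorem L86855 : N3344 = N6067 := eqes L86854 (flp_f L47886)
theorem L86856 : N6067 = N3344 := (eqc rfl L86855 rfl).symm
theorem L86857 : sm gh N4440 = N3343 := trfs L86839 (flp_h L36261) rfl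
theorem L86858 : N3343 = N3278 := eqes L86857 L35131
theorem L86859 : N3343 = N3278 := eqc rfl L86858 rfl
theorem L86861 : sm ga N3278 = N3249 := trfs L86859 L26562 rfl
theorem L86862 : N3249 = N3402 := eqes L86861 (flp_a L27057)
theorem L86863 : N3402 = N3249 := (eqc rfl L86862 rfl).symm
theorem L86864 : sm gb N3278 = N4567 := trfs L86859 (flp_b L36215) rfl
theorem L86865 : N4567 = N4473 := eqes L86864 (flp_b L35420)
theorem L86866 : N4567 = N4473 := eqc rfl L86865 rfl
theorem L86867 : sm gc N3278 = N4514 := trfs L86859 (flp_c L35781) rfl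
theorem L86868 : N4514 = N4479 := eqes L86867 L35466
theorem L86869 : N4514 = N4479 := eqc rfl L86868 rfl
theorem L86870 : sm gd N3278 = N2490 := trfs L86859 L26564 rfl
theorem L86871 : N2490 = N2405 := eqes L86870 (flp_d L26016)
theorem L86872 : N2490 = N2405 := eqc rfl L86871 rfl
theorem L86874 : sm gf N3278 = N2449 := trfs L86859 (flp_f L26560) rfl
theorem L86875 : N2449 = N4477 := eqes L86874 (flp_f L35451)
theorem L86876 : N4477 = N2449 := (eqc rfl L86875 rfl).symm
theorem L86878 : sm gi N3278 = N2469 := trfs L86859 L26566 rfl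
theorem L86879 : N2469 = N4480 := eqes L86878 L35472
theorem L86880 : N4480 = N2469 := (eqc rfl L86879 rfl).symm
theorem L86890 : sm gd N2469 = N3279 := trfs L86880 L35474 rfl
theorem L86891 : N3279 = N1840 := eqes L86890 L19658
theorem L86892 : N3279 = N1840 := eqc rfl L86891 rfl
theorem L86898 : sm gh N2469 = N6124 := trfs L86880 L48360 rfl
theorem L86899 : N6124 = N3372 := eqes L86898 L26780
theorem L86900 : N6124 = N3345 := eqc rfl L86899 L86825
theorem L86901 : sm gi N2469 = N3278 := trfs L86880 (flp_i L35472) rfl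
theorem L86909 : sm gc N3345 = N8390 := trfs L86900 (flp_c L66105) rfl
theorem L86910 : N8390 = N4575 := eqes L86909 L36289
theorem L86911 : N8390 = N4575 := eqc rfl L86910 rfl
theorem L86916 : sm gf N3345 = N8387 := trfs L86900 (flp_f L66083) rfl
theorem L86917 : N8387 = N3076 := eqes L86916 L26583
theorem L86918 : N8387 = N3076 := eqc rfl L86917 rfl
theorem L86921 : sm gi N3345 = N8314 := trfs L86900 (flp_i L65479) rfl
theorem L86922 : N8314 = N4576 := eqes L86921 L36298
theorem L86923 : N8314 = N4576 := eqc rfl L86922 rfl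
theorem L86931 : sm gg N4576 = N6068 := trfs L86923 L65475 L86776
theorem L86932 : N6068 = N6260 := eqes L86931 (flp_g L49532)
theorem L86933 : N6260 = N6068 := (eqc rfl L86932 rfl).symm
theorem L86938 : sm gb N6068 = N8575 := trfs L86933 (flp_b L67683) rfl
theorem L86939 : N8575 = N8303 := eqes L86938 (flp_b L65382)
theorem L86940 : N8575 = N8303 := eqc rfl L86939 rfl
theorem L86941 : sm gc N6068 = N8583 := trfs L86933 (flp_c L67758) rfl
theorem L86942 : N8583 = N8251 := eqes L86941 (flp_c L64967)
theorem L86943 : N8583 = N8251 := eqc rfl L86942 rfl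
theorem L86944 : sm gd N6068 = N4574 := trfs L86933 L49529 rfl
theorem L86945 : N4574 = N8311 := eqes L86944 (flp_d L65452)
theorem L86946 : N8311 = N4574 := (eqc rfl L86945 rfl).symm
theorem L86961 : sm gd N4574 = N6068 := trfs L86946 L65452 rfl
theorem L86965 : sm gg N4574 = N6318 := trfs L86946 L65456 rfl
theorem L86966 : N6318 = N3346 := eqes L86965 L36285
theorem L86967 : N6318 = N3346 := eqc rfl L86966 rfl
theorem L86982 : sm gi N3346 = N4613 := trfs L86967 (flp_i L49957) rfl
theorem L86983 : N4613 = N2450 := eqes L86982 (flp_i L26588)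
theorem L86984 : N4613 = N2450 := eqc rfl L86983 rfl
theorem L86996 : sm gh N2450 = N3432 := trfs L86984 L36571 rfl
theorem L86997 : N3432 = N1793 := eqes L86996 (flp_h L19523)
theorem L86998 : N3432 = N1793 := eqc rfl L86997 rfl
theorem L87014 : sm gi N1793 = N4697 := trfs L86998 L37264 rfl
theorem L87015 : N4697 = N1325 := eqes L87014 L14332
theorem L87016 : N4697 = N1325 := eqc rfl L87015 rfl
theorem L87032 : sm gh N1325 = N6433 := trfs L87016 L50889 rfl
theorem L87033 : N6433 = N1808 := eqes L87032 L14440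
theorem L87034 : N6433 = N1808 := eqc rfl L87033 rfl
theorem L87049 : sm gg N1808 = N3076 := trfs L87034 (flp_g L66085) L86918
theorem L87050 : N3076 = N2470 := eqes L87049 (flp_g L19665)
theorem L87051 : N3076 = N2470 := eqc rfl L87050 rfl
theorem L87055 : sm gb N2470 = N4187 := trfs L87051 (flp_b L33104) rfl
theorem L87056 : N4187 = N3368 := eqes L87055 (flp_b L26751)
theorem L87057 : N4187 = N3368 := eqc rfl L87056 rfl
theorem L87058 : sm gc N2470 = N4193 := trfs L87051 L33150 rfl
theorem L87059 : N4193 = N3323 := eqes L87058 (flp_c L26389)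
theorem L87060 : N4193 = N3323 := eqc rfl L87059 rfl
theorem L87066 : sm gg N2470 = N4191 := trfs L87051 (flp_g L33136) rfl
theorem L87067 : N4191 = N1808 := eqes L87066 L19665
theorem L87068 : N4191 = N1808 := eqc rfl L87067 rfl
theorem L87081 : sm gh N1808 = N3104 := trfs L87068 L33140 rfl
theorem L87082 : N3104 = N1325 := eqes L87081 (flp_h L14440)
theorem L87083 : N3104 = N1325 := eqc rfl L87082 rfl
theorem L87100 : sm gi N1325 = N4234 := trfs L87083 L33476 rfl
theorem L87101 : N4234 = N1793 := eqes L87100 (flp_i L14332)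
theorem L87102 : N4234 = N1793 := eqc rfl L87101 rfl
theorem L87110 : sm gd N1793 = N3105 := trfs L87102 L33480 rfl
theorem L87111 : N3105 = N1335 := eqes L87110 L14334
theorem L87112 : N3105 = N1335 := eqc rfl L87111 rfl
theorem L87131 : sm gh N1335 = N1840 := trfs L87112 (flp_h L26028) L86892
theorem L87132 : N1840 = N1822 := eqes L87131 L14566
theorem L87133 : N1840 = N1822 := eqc rfl L87132 rfl
theorem L87135 : sm ga N1822 = N2280 := trfs L87133 (flp_a L18095) rfl
theorem L87136 : N2280 = N1763 := eqes L87135 L14568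
theorem L87137 : N2280 = N1763 := eqc rfl L87136 rfl
theorem L87138 : sm gb N1822 = N2510 := trfs L87133 (flp_b L20009) rfl
theorem L87139 : N2510 = N2487 := eqes L87138 (flp_b L19817)
theorem L87140 : N2510 = N2487 := eqc rfl L87139 rfl
theorem L87142 : sm gd N1822 = N2469 := trfs L87133 (flp_d L19658) rfl
theorem L87143 : N2469 = N2492 := eqes L87142 L19861
theorem L87144 : N2492 = N2469 := (eqc rfl L87143 rfl).symm
theorem L87148 : sm gf N1822 = N1349 := trfs L87133 (flp_f L14707) rfl
theorem L87149 : N1349 = N1676 := eqes L87148 L14573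
theorem L87150 : N1676 = N1349 := (eqc rfl L87149 rfl).symm
theorem L87151 : sm gg N1822 = N2404 := trfs L87133 (flp_g L19132) rfl
theorem L87152 : N2404 = N2491 := eqes L87151 (flp_g L19859)
theorem L87153 : N2491 = N2404 := (eqc rfl L87152 rfl).symm
theorem L87155 : sm gi N1822 = N2405 := trfs L87133 (flp_i L19846) L86872
theorem L87156 : N2405 = N2493 := eqes L87155 L19868
theorem L87157 : N2493 = N2405 := (eqc rfl L87156 rfl).symm
theorem L87158 : sm ga N2405 = N2407 := trfs L87157 L19870 rfl
theorem L87159 : N2407 = N2491 := eqes L87158 (flp_a L19854)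
theorem L87160 : N2407 = N2404 := eqc rfl L87159 L87153
theorem L87166 : sm ge N2405 = N1824 := trfs L87157 L19873 rfl
theorem L87167 : N1824 = N1764 := eqes L87166 L19137
theorem L87168 : N1824 = N1764 := eqc rfl L87167 rfl
theorem L87172 : sm gg N2405 = N3403 := trfs L87157 (flp_g L27069) rfl
theorem L87173 : N3403 = N1763 := eqes L87172 L19139
theorem L87174 : N3403 = N1763 := eqc rfl L87173 rfl
theorem L87178 : N3279 = N1822 := L86892.trans L87133
theorem L87186 : sm gf N1763 = N4656 := trfs L87174 (flp_f L36966) rfl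
theorem L87187 : N4656 = N1350 := eqes L87186 L14073
theorem L87188 : N4656 = N1350 := eqc rfl L87187 rfl
theorem L87200 : sm ge N1350 = N3931 := trfs L87188 L36964 rfl
theorem L87201 : N3931 = N989 := eqes L87200 L10831
theorem L87202 : N3931 = N989 := eqc rfl L87201 rfl
theorem L87207 : sm gi N1350 = N3401 := trfs L87188 (flp_i L36959) rfl
theorem L87208 : N3401 = N1843 := eqes L87207 L14723
theorem L87209 : N3401 = N1762 := eqc rfl L87208 L86730
theorem L87220 : sm gg N1762 = N3103 := trfs L87209 L27053 rfl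
theorem L87221 : N3103 = N1295 := eqes L87220 (flp_g L14061)
theorem L87222 : N3103 = N1295 := eqc rfl L87221 rfl
theorem L87228 : sm ge N1295 = N2750 := trfs L87222 L24583 rfl
theorem L87229 : N2750 = N951 := eqes L87228 (flp_e L10366)
theorem L87230 : N2750 = N951 := eqc rfl L87229 rfl
theorem L87247 : sm gi N951 = N3750 := trfs L87230 L29691 rfl
theorem L87248 : N3750 = N909 := eqes L87247 L7646
theorem L87249 : N3750 = N909 := eqc rfl L87248 rfl
theorem L87262 : sm gg N909 = N989 := trfs L87249 (flp_g L31176) L87202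
theorem L87263 : N989 = N1234 := eqes L87262 L9848
theorem L87264 : N1234 = N989 := (eqc rfl L87263 rfl).symm
theorem L87265 : sm gh N909 = N988 := trfs L87249 (flp_h L30801) L86305
theorem L87266 : N988 = N1235 := eqes L87265 L9857
theorem L87267 : N1235 = N988 := (eqc rfl L87266 rfl).symm
theorem L87276 : sm gf N988 = N910 := trfs L87267 L9862 rfl
theorem L87277 : N910 = N844 := eqes L87276 L7964
theorem L87278 : N910 = N844 := eqc rfl L87277 rfl
theorem L87282 : sm gh N988 = N909 := trfs L87267 (flp_h L9857) rfl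
theorem L87283 : N909 = N1351 := eqes L87282 L10833
theorem L87284 : N1351 = N909 := (eqc rfl L87283 rfl).symm
theorem L87285 : sm gi N988 = N1678 := trfs L87267 L13352 rfl
theorem L87286 : N1678 = N1336 := eqes L87285 (flp_i L10724)
theorem L87287 : N1678 = N1336 := eqc rfl L87286 rfl
theorem L87288 : sm ga N1336 = N1352 := trfs L87287 L13354 rfl
theorem L87289 : N1352 = N1296 := eqes L87288 L10719
theorem L87290 : N1352 = N1296 := eqc rfl L87289 rfl
theorem L87297 : sm gf N1336 = N1236 := trfs L87287 L13359 rfl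
theorem L87298 : N1236 = N1136 := eqes L87297 L10726
theorem L87299 : N1236 = N1136 := eqc rfl L87298 rfl
theorem L87301 : sm gh N1336 = N1765 := trfs L87287 (flp_h L14089) rfl
theorem L87302 : N1765 = N1823 := eqes L87301 L14575
theorem L87303 : N1823 = N1765 := (eqc rfl L87302 rfl).symm
theorem L87314 : sm gg N1765 = N1337 := trfs L87303 L14582 rfl
theorem L87315 : N1337 = N2408 := eqes L87314 (flp_g L19161)
theorem L87316 : N2408 = N1337 := (eqc rfl L87315 rfl).symm
theorem L87317 : sm gh N1765 = N1336 := trfs L87303 (flp_h L14575) rfl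
theorem L87327 : sm gf N1337 = N2093 := trfs L87316 L19159 rfl
theorem L87328 : N2093 = N979 := eqes L87327 L10733
theorem L87329 : N2093 = N979 := eqc rfl L87328 rfl
theorem L87330 : sm gg N1337 = N1765 := trfs L87316 L19161 rfl
theorem L87346 : sm gg N979 = N1536 := trfs L87329 L16658 rfl
theorem L87347 : N1536 = N835 := eqes L87346 L7897
theorem L87348 : N1536 = N835 := eqc rfl L87347 rfl
theorem L87352 : sm gi N979 = N1535 := trfs L87329 (flp_i L16654) rfl
theorem L87353 : N1535 = N1338 := eqes L87352 L10736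
theorem L87354 : N1535 = N1338 := eqc rfl L87353 rfl
theorem L87366 : sm gg N1338 = N1127 := trfs L87354 L12268 rfl
theorem L87367 : N1127 = N1138 := eqes L87366 L10744
theorem L87368 : N1138 = N1127 := (eqc rfl L87367 rfl).symm
theorem L87369 : sm gh N1338 = N1126 := trfs L87354 (flp_h L12265) rfl
theorem L87370 : N1126 = N990 := eqes L87369 L10746
theorem L87371 : N1126 = N990 := eqc rfl L87370 rfl
theorem L87381 : sm ge N990 = N1533 := trfs L87371 (flp_e L12254) rfl
theorem L87382 : N1533 = N1298 := eqes L87381 (flp_e L10392)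
theorem L87383 : N1533 = N1298 := eqc rfl L87382 rfl
theorem L87386 : sm gg N990 = N828 := trfs L87371 (flp_g L9022) rfl
theorem L87387 : N828 = N846 := eqes L87386 L7978
theorem L87388 : N846 = N828 := (eqc rfl L87387 rfl).symm
theorem L87389 : sm gi N990 = N1088 := trfs L87371 L9027 rfl
theorem L87390 : N1088 = N729 := eqes L87389 (flp_i L7973)
theorem L87391 : N1088 = N729 := eqc rfl L87390 rfl
theorem L87405 : sm gg N729 = N802 := trfs L87391 (flp_g L8724) rfl
theorem L87406 : N802 = N622 := eqes L87405 L5907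
theorem L87407 : N802 = N622 := eqc rfl L87406 rfl
theorem L87408 : sm gh N729 = N1483 := trfs L87391 L11847 rfl
theorem L87409 : N1483 = N534 := eqes L87408 (flp_h L5904)
theorem L87410 : N1483 = N534 := eqc rfl L87409 rfl
theorem L87423 : sm gg N534 = N1089 := trfs L87410 L11852 rfl
theorem L87424 : N1089 = N457 := eqes L87423 L4343
theorem L87425 : N1089 = N457 := eqc rfl L87424 rfl
theorem L87427 : sm ga N457 = N845 := trfs L87425 L8733 rfl
theorem L87428 : N845 = N591 := eqes L87427 (flp_a L4783)
theorem L87429 : N845 = N591 := eqc rfl L87428 rfl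
theorem L87438 : sm gf N457 = N803 := trfs L87425 L8736 rfl
theorem L87439 : N803 = N621 := eqes L87438 L5021
theorem L87440 : N803 = N621 := eqc rfl L87439 rfl
theorem L87442 : sm gi N457 = N1484 := trfs L87425 L11856 rfl
theorem L87443 : N1484 = N615 := eqes L87442 (flp_i L4974)
theorem L87444 : N1484 = N615 := eqc rfl L87443 rfl
theorem L87456 : sm gf N615 = N1090 := trfs L87444 L11863 rfl
theorem L87457 : N1090 = N834 := eqes L87456 L6720
theorem L87458 : N1090 = N834 := eqc rfl L87457 rfl
theorem L87465 : sm ge N834 = N1127 := trfs L87458 (flp_e L9132) L87368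
theorem L87466 : N1127 = N1135 := eqes L87465 L9099
theorem L87467 : N1135 = N1127 := (eqc rfl L87466 rfl).symm
theorem L87469 : sm gh N834 = N1128 := trfs L87458 (flp_h L9041) rfl
theorem L87470 : N1128 = N1137 := eqes L87469 L9118
theorem L87471 : N1137 = N1128 := (eqc rfl L87470 rfl).symm
theorem L87488 : sm gi N1128 = N1550 := trfs L87471 L12396 rfl
theorem L87489 : N1550 = N829 := eqes L87488 (flp_i L9035)
theorem L87490 : N1550 = N829 := eqc rfl L87489 rfl
theorem L87497 : sm ge N829 = N2113 := trfs L87490 (flp_e L16837) rfl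
theorem L87498 : N2113 = N622 := eqes L87497 L6680
theorem L87499 : N2113 = N622 := eqc rfl L87498 rfl
theorem L87518 : sm gh N622 = N1569 := trfs L87499 L16841 rfl
theorem L87519 : N1569 = N457 := eqes L87518 (flp_h L5026)
theorem L87520 : N1569 = N457 := eqc rfl L87519 rfl
theorem L87536 : sm gi N457 = N1150 := trfs L87520 (flp_i L12522) rfl
theorem L87537 : N1150 = N615 := eqes L87536 (flp_i L4974)
theorem L87538 : N1150 = N615 := eqc rfl L87537 rfl
theorem L87548 : sm gf N615 = N1534 := trfs L87538 (flp_f L12263) rfl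
theorem L87549 : N1534 = N834 := eqes L87548 L6720
theorem L87550 : N1534 = N834 := eqc rfl L87549 rfl
theorem L87554 : sm gh N615 = N843 := trfs L87538 (flp_h L9207) rfl
theorem L87555 : N843 = N835 := eqes L87554 L6729
theorem L87556 : N843 = N835 := eqc rfl L87555 rfl
theorem L87557 : sm ga N835 = N1087 := trfs L87556 (flp_a L8720) rfl
theorem L87558 : N1087 = N829 := eqes L87557 L6731
theorem L87559 : N1087 = N829 := eqc rfl L87558 rfl
theorem L87565 : sm gf N835 = N1125 := trfs L87556 (flp_f L9020) rfl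
theorem L87567 : sm gg N835 = N1149 := trfs L87556 L9201 rfl
theorem L87568 : N1149 = N979 := eqes L87567 (flp_g L7897)
theorem L87569 : N1149 = N979 := eqc rfl L87568 rfl
theorem L87582 : sm gi N979 = N1547 := trfs L87569 (flp_i L12377) rfl
theorem L87583 : N1547 = N1338 := eqes L87582 L10736
theorem L87584 : N1547 = N1338 := eqc rfl L87583 rfl
theorem L87597 : sm gh N1338 = N2111 := trfs L87584 L16815 rfl
theorem L87598 : N2111 = N990 := eqes L87597 L10746
theorem L87599 : N2111 = N990 := eqc rfl L87598 rfl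
theorem L87605 : sm gd N990 = N2880 := trfs L87599 L22900 rfl
theorem L87606 : N2880 = N745 := eqes L87605 L7976
theorem L87607 : N2880 = N745 := eqc rfl L87606 rfl
theorem L87629 : sm gi N745 = N3933 := trfs L87607 L31189 rfl
theorem L87630 : N3933 = N546 := eqes L87629 (flp_i L6024)
theorem L87631 : N3933 = N546 := eqc rfl L87630 rfl
theorem L87644 : sm gh N546 = N5375 := trfs L87631 L42536 rfl
theorem L87645 : N5375 = N401 := eqes L87644 (flp_h L4432)
theorem L87646 : N5375 = N401 := eqc rfl L87645 rfl
theorem L87658 : sm gg N401 = N3936 := trfs L87646 L42541 rfl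
theorem L87659 : N3936 = N341 := eqes L87658 L3279
theorem L87660 : N3936 = N341 := eqc rfl L87659 rfl
theorem L87662 : sm ga N341 = N3894 := trfs L87660 L31217 rfl
theorem L87663 : N3894 = N441 := eqes L87662 (flp_a L3590)
theorem L87664 : N3894 = N441 := eqc rfl L87663 rfl
theorem L87675 : sm gf N341 = N3755 := trfs L87660 L31220 rfl
theorem L87676 : N3755 = N463 := eqes L87675 L3762
theorem L87677 : N3755 = N463 := eqc rfl L87676 rfl
theorem L87689 : sm gd N463 = N441 := trfs L87677 (flp_d L30837) L87664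
theorem L87690 : N441 = N342 := eqes L87689 L3766
theorem L87691 : N441 = N342 := eqc rfl L87690 rfl
theorem L87692 : sm ge N463 = N2792 := trfs L87677 L29737 rfl
theorem L87693 : N2792 = N629 := eqes L87692 L5075
theorem L87694 : N2792 = N629 := eqc rfl L87693 rfl
theorem L87698 : sm gh N463 = N2754 := trfs L87677 (flp_h L29733) rfl
theorem L87699 : N2754 = N631 := eqes L87698 L5089
theorem L87700 : N2754 = N631 := eqc rfl L87699 rfl
theorem L87719 : sm gi N631 = N2018 := trfs L87700 (flp_i L21868) rfl
theorem L87720 : N2018 = N857 := eqes L87719 L6880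
theorem L87721 : N2018 = N450 := eqc rfl L87720 L85816
theorem L87734 : sm gg N450 = N2751 := trfs L87721 (flp_g L21846) rfl
theorem L87735 : N2751 = N518 := eqes L87734 (flp_g L4199)
theorem L87736 : N2751 = N518 := eqc rfl L87735 rfl
theorem L87746 : sm ge N518 = N2044 := trfs L87736 L21848 rfl
theorem L87747 : N2044 = N383 := eqes L87746 (flp_e L4195)
theorem L87748 : N2044 = N383 := eqc rfl L87747 rfl
theorem L87767 : sm gi N383 = N2789 := trfs L87748 L22150 rfl
theorem L87768 : N2789 = N369 := eqes L87767 L3119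
theorem L87769 : N2789 = N369 := eqc rfl L87768 rfl
theorem L87789 : sm gh N369 = N3804 := trfs L87769 L30115 rfl
theorem L87790 : N3804 = N276 := eqes L87789 L2995
theorem L87791 : N3804 = N276 := eqc rfl L87790 rfl
theorem L87804 : sm gg N276 = N629 := trfs L87791 L30119 L87694
theorem L87805 : N629 = N241 := eqes L87804 L2250
theorem L87806 : N629 = N241 := eqc rfl L87805 rfl
theorem L87822 : sm gg N241 = N854 := trfs L87806 L6859 rfl
theorem L87823 : N854 = N276 := eqes L87822 (flp_g L2250)
theorem L87824 : N854 = N276 := eqc rfl L87823 rfl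
theorem L87837 : sm gh N276 = N1162 := trfs L87824 L9295 rfl
theorem L87838 : N1162 = N369 := eqes L87837 (flp_h L2995)
theorem L87839 : N1162 = N369 := eqc rfl L87838 rfl
theorem L87850 : sm gi N369 = N1582 := trfs L87839 L12618 rfl
theorem L87851 : N1582 = N383 := eqes L87850 (flp_i L3119)
theorem L87852 : N1582 = N383 := eqc rfl L87851 rfl
theorem L87861 : sm gg N383 = N1164 := trfs L87852 L12624 rfl
theorem L87862 : N1164 = N332 := eqes L87861 L3116
theorem L87863 : N1164 = N332 := eqc rfl L87862 rfl
theorem L87869 : sm gc N332 = N861 := trfs L87863 L9309 rfl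
theorem L87870 : N861 = N246 := eqes L87869 (flp_c L2711)
theorem L87871 : N861 = N246 := eqc rfl L87870 rfl
theorem L87890 : sm gi N246 = N634 := trfs L87871 (flp_i L6908) rfl
theorem L87891 : N634 = N240 := eqes L87890 L2024
theorem L87892 : N634 = N240 := eqc rfl L87891 rfl
theorem L87901 : sm ge N240 = N468 := trfs L87892 L5112 rfl
theorem L87902 : N468 = N324 := eqes L87901 L2648
theorem L87903 : N468 = N324 := eqc rfl L87902 rfl
theorem L87915 : sm gf N324 = N345 := trfs L87903 L3796 rfl
theorem L87916 : N345 = N438 := eqes L87915 L3565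
theorem L87917 : N438 = N345 := (eqc rfl L87916 rfl).symm
theorem L87921 : sm gh N324 = N344 := trfs L87903 (flp_h L3793) rfl
theorem L87922 : N344 = N242 := eqes L87921 L2653
theorem L87923 : N344 = N242 := eqc rfl L87922 rfl
theorem L87930 : sm gd N242 = N254 := trfs L87923 L2804 rfl
theorem L87931 : N254 = N180 := eqes L87930 L1992
theorem L87932 : N254 = N180 := eqc rfl L87931 rfl
theorem L87934 : sm gf N242 = N253 := trfs L87923 (flp_f L2801) rfl
theorem L87935 : N253 = N327 := eqes L87934 L2669
theorem L87936 : N327 = N253 := (eqc rfl L87935 rfl).symm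
theorem L87937 : sm gg N242 = N467 := trfs L87923 L3787 rfl
theorem L87938 : N467 = N277 := eqes L87937 (flp_g L2259)
theorem L87939 : N467 = N277 := eqc rfl L87938 rfl
theorem L87946 : sm gd N277 = N346 := trfs L87939 L3790 rfl
theorem L87947 : N346 = N208 := eqes L87946 L2262
theorem L87948 : N346 = N208 := eqc rfl L87947 rfl
theorem L87950 : sm gf N277 = N549 := trfs L87939 (flp_f L4458) rfl
theorem L87951 : N549 = N375 := eqes L87950 L3040
theorem L87952 : N549 = N375 := eqc rfl L87951 rfl
theorem L87960 : sm gd N375 = N406 := trfs L87952 L4455 rfl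
theorem L87961 : N406 = N280 := eqes L87960 L3045
theorem L87962 : N406 = N280 := eqc rfl L87961 rfl
theorem L87963 : sm ge N375 = N746 := trfs L87952 (flp_e L6036) rfl
theorem L87964 : N746 = N502 := eqes L87963 (flp_e L4063)
theorem L87965 : N746 = N502 := eqc rfl L87964 rfl
theorem L87966 : sm gg N375 = N404 := trfs L87952 (flp_g L4452) rfl
theorem L87967 : N404 = N507 := eqes L87966 L4099
theorem L87968 : N507 = N404 := (eqc rfl L87967 rfl).symm
theorem L87969 : sm gh N375 = N748 := trfs L87952 L6045 rfl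
theorem L87970 : N748 = N499 := eqes L87969 (flp_h L4038)
theorem L87971 : N748 = N499 := eqc rfl L87970 rfl
theorem L87981 : sm ge N499 = N1013 := trfs L87971 (flp_e L8150) rfl
theorem L87982 : N1013 = N670 := eqes L87981 (flp_e L5391)
theorem L87983 : N1013 = N670 := eqc rfl L87982 rfl
theorem L87985 : sm gg N499 = N550 := trfs L87971 L6050 rfl
theorem L87986 : N550 = N675 := eqes L87985 L5426
theorem L87987 : N675 = N550 := (eqc rfl L87986 rfl).symm
theorem L87988 : sm gi N499 = N1016 := trfs L87971 L8167 rfl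
theorem L87989 : N1016 = N519 := eqes L87988 (flp_i L4209)
theorem L87990 : N1016 = N519 := eqc rfl L87989 rfl
theorem L88005 : sm gg N519 = N749 := trfs L87990 L8173 rfl
theorem L88006 : N749 = N705 := eqes L88005 L5686
theorem L88007 : N749 = N705 := eqc rfl L88006 rfl
theorem L88015 : sm ge N705 = N1015 := trfs L88007 (flp_e L8163) rfl
theorem L88016 : N1015 = N947 := eqes L88015 (flp_e L7607)
theorem L88017 : N1015 = N947 := eqc rfl L88016 rfl
theorem L88018 : sm gf N705 = N551 := trfs L88007 L6057 rfl
theorem L88019 : N551 = N612 := eqes L88018 L5693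
theorem L88020 : N612 = N551 := (eqc rfl L88019 rfl).symm
theorem L88024 : sm ga N551 = N617 := trfs L88020 (flp_a L4991) rfl
theorem L88025 : N617 = N694 := eqes L88024 (flp_a L5592)
theorem L88026 : N694 = N617 := (eqc rfl L88025 rfl).symm
theorem L88031 : sm gf N551 = N705 := trfs L88020 (flp_f L5693) rfl
theorem L88033 : sm gg N551 = N451 := trfs L88020 (flp_g L4941) rfl
theorem L88034 : N451 = N469 := eqes L88033 L4471
theorem L88035 : N469 = N451 := (eqc rfl L88034 rfl).symm
theorem L88037 : sm gi N551 = N593 := trfs L88020 L4947 rfl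
theorem L88038 : N593 = N405 := eqes L88037 (flp_i L4466)
theorem L88039 : N593 = N405 := eqc rfl L88038 rfl
theorem L88040 : sm ga N405 = N459 := trfs L88039 L4797 rfl
theorem L88041 : N459 = N511 := eqes L88040 (flp_a L4136)
theorem L88042 : N511 = N459 := (eqc rfl L88041 rfl).symm
theorem L88049 : sm gh N405 = N443 := trfs L88039 L4802 rfl
theorem L88050 : N443 = N298 := eqes L88049 (flp_h L3305)
theorem L88051 : N443 = N298 := eqc rfl L88050 rfl
theorem L88052 : sm ga N298 = N343 := trfs L88051 L3606 rfl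
theorem L88053 : N343 = N377 := eqes L88052 (flp_a L3060)
theorem L88054 : N377 = N343 := (eqc rfl L88053 rfl).symm
theorem L88057 : sm gd N298 = N331 := trfs L88051 L3609 rfl
theorem L88058 : N331 = N221 := eqes L88057 (flp_d L2442)
theorem L88059 : N331 = N221 := eqc rfl L88058 rfl
theorem L88064 : sm ga N221 = N255 := trfs L88059 L2704 rfl
theorem L88065 : N255 = N279 := eqes L88064 (flp_a L2276)
theorem L88066 : N279 = N255 := (eqc rfl L88065 rfl).symm
theorem L88071 : sm ge N221 = N268 := trfs L88059 L2707 rfl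
theorem L88072 : N268 = N162 := eqes L88071 (flp_e L1819)
theorem L88073 : N268 = N162 := eqc rfl L88072 rfl
theorem L88074 : sm gf N221 = N379 := trfs L88059 (flp_f L3083) rfl
theorem L88075 : N379 = N299 := eqes L88074 L2449
theorem L88076 : N379 = N299 := eqc rfl L88075 rfl
theorem L88077 : sm gg N221 = N245 := trfs L88059 (flp_g L2702) rfl
theorem L88078 : N245 = N186 := eqes L88077 L1824
theorem L88079 : N245 = N186 := eqc rfl L88078 rfl
theorem L88082 : sm ga N186 = N187 := trfs L88079 L2013 rfl
theorem L88083 : N187 = N244 := eqes L88082 (flp_a L2005)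
theorem L88084 : N244 = N187 := (eqc rfl L88083 rfl).symm
theorem L88090 : sm ge N186 = N198 := trfs L88079 L2018 rfl
theorem L88091 : N198 = N135 := eqes L88090 (flp_e L1525)
theorem L88092 : N198 = N135 := eqc rfl L88091 rfl
theorem L88097 : sm ga N135 = N146 := trfs L88092 L1615 rfl
theorem L88098 : N146 = N179 := eqes L88097 (flp_a L1471)
theorem L88099 : N179 = N146 := (eqc rfl L88098 rfl).symm
theorem L88105 : sm gf N135 = N144 := trfs L88092 (flp_f L1613) rfl
theorem L88106 : N144 = N104 := eqes L88105 L1110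
theorem L88107 : N144 = N104 := eqc rfl L88106 rfl
theorem L88111 : sm ga N104 = N105 := trfs L88107 L1174 rfl
theorem L88112 : N105 = N143 := eqes L88111 (flp_a L1166)
theorem L88113 : N143 = N105 := (eqc rfl L88112 rfl).symm
theorem L88119 : sm ge N104 = N103 := trfs L88107 (flp_e L1172) rfl
theorem L88120 : N103 = N145 := eqes L88119 L1181
theorem L88121 : N145 = N103 := (eqc rfl L88120 rfl).symm
theorem L88132 : sm ge N103 = N104 := trfs L88121 (flp_e L1181) rfl
theorem L88134 : sm gf N103 = N200 := trfs L88121 L1628 rfl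
theorem L88135 : N200 = N130 := eqes L88134 (flp_f L1073)
theorem L88136 : N200 = N130 := eqc rfl L88135 rfl
theorem L88148 : sm gg N130 = N271 := trfs L88136 L2202 rfl
theorem L88149 : N271 = N152 := eqes L88148 (flp_g L1249)
theorem L88150 : N271 = N152 := eqc rfl L88149 rfl
theorem L88157 : sm gc N152 = N201 := trfs L88150 L2205 rfl
theorem L88158 : N201 = N207 := eqes L88157 L1688
theorem L88159 : N207 = N201 := (eqc rfl L88158 rfl).symm
theorem L88160 : sm gd N152 = N364 := trfs L88150 (flp_d L2951) rfl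
theorem L88161 : N364 = N110 := eqes L88160 (flp_d L1243)
theorem L88162 : N364 = N110 := eqc rfl L88161 rfl
theorem L88177 : sm gh N110 = N492 := trfs L88162 L3974 rfl
theorem L88178 : N492 = N77 := eqes L88177 (flp_h L894)
theorem L88179 : N492 = N77 := eqc rfl L88178 rfl
theorem L88194 : sm gi N77 = N665 := trfs L88179 L5342 rfl
theorem L88195 : N665 = N54 := eqes L88194 (flp_i L624)
theorem L88196 : N665 = N54 := eqc rfl L88195 rfl
theorem L88207 : sm gg N54 = N493 := trfs L88196 L5348 rfl
theorem L88208 : N493 = N44 := eqes L88207 L440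
theorem L88209 : N493 = N44 := eqc rfl L88208 rfl
theorem L88220 : sm gf N44 = N366 := trfs L88209 L3987 rfl
theorem L88221 : N366 = N35 := eqes L88220 L362
theorem L88222 : N366 = N35 := eqc rfl L88221 rfl
theorem L88234 : sm gi N35 = N270 := trfs L88222 (flp_i L2962) rfl
theorem L88235 : N270 = N51 := eqes L88234 L411
theorem L88236 : N270 = N51 := eqc rfl L88235 rfl
theorem L88237 : sm ga N51 = N361 := trfs L88236 (flp_a L2926) rfl
theorem L88238 : N361 = N36 := eqes L88237 L413
theorem L88239 : N361 = N36 := eqc rfl L88238 rfl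
theorem L88257 : sm gh N36 = N266 := trfs L88239 (flp_h L2924) rfl
theorem L88258 : N266 = N52 := eqes L88257 L420
theorem L88259 : N266 = N52 := eqc rfl L88258 rfl
theorem L88268 : sm gf N52 = N360 := trfs L88259 L2916 rfl
theorem L88269 : N360 = N67 := eqes L88268 (flp_f L548)
theorem L88270 : N360 = N67 := eqc rfl L88269 rfl
theorem L88279 : sm ge N67 = N486 := trfs L88270 L3927 rfl
theorem L88280 : N486 = N96 := eqes L88279 (flp_e L794)
theorem L88281 : N486 = N96 := eqc rfl L88280 rfl
theorem L88299 : sm gh N96 = N658 := trfs L88281 L5288 rfl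
theorem L88300 : N658 = N66 := eqes L88299 (flp_h L789)
theorem L88301 : N658 = N66 := eqc rfl L88300 rfl
theorem L88318 : sm gi N66 = N891 := trfs L88301 L7140 rfl
theorem L88319 : N891 = N45 := eqes L88318 (flp_i L535)
theorem L88320 : N891 = N45 := eqc rfl L88319 rfl
theorem L88331 : sm gg N45 = N1206 := trfs L88320 (flp_g L9643) rfl
theorem L88332 : N1206 = N55 := eqes L88331 (flp_g L449)
theorem L88333 : N1206 = N55 := eqc rfl L88332 rfl
theorem L88344 : sm gf N55 = N1634 := trfs L88333 (flp_f L13027) rfl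
theorem L88345 : N1634 = N79 := eqes L88344 L641
theorem L88346 : N1634 = N79 := eqc rfl L88345 rfl
theorem L88362 : sm gi N79 = N1204 := trfs L88346 (flp_i L13021) rfl
theorem L88363 : N1204 = N115 := eqes L88362 L941
theorem L88364 : N1204 = N115 := eqc rfl L88363 rfl
theorem L88378 : sm gh N115 = N888 := trfs L88364 (flp_h L9620) rfl
theorem L88379 : N888 = N160 := eqes L88378 L1318
theorem L88380 : N888 = N160 := eqc rfl L88379 rfl
theorem L88388 : sm gd N160 = N1114 := trfs L88380 (flp_d L8929) rfl
theorem L88389 : N1114 = N218 := eqes L88388 L1796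
theorem L88390 : N1114 = N218 := eqc rfl L88389 rfl
theorem L88411 : sm gh N218 = N1518 := trfs L88390 L12128 rfl
theorem L88412 : N1518 = N289 := eqes L88411 (flp_h L2378)
theorem L88413 : N1518 = N289 := eqc rfl L88412 rfl
theorem L88434 : sm gi N289 = N2067 := trfs L88413 L16445 rfl
theorem L88435 : N2067 = N388 := eqes L88434 (flp_i L3174)
theorem L88436 : N2067 = N388 := eqc rfl L88435 rfl
theorem L88452 : sm gf N388 = N1520 := trfs L88436 L16449 rfl
theorem L88453 : N1520 = N290 := eqes L88452 L3171
theorem L88454 : N1520 = N290 := eqc rfl L88453 rfl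
theorem L88465 : sm ge N290 = N1118 := trfs L88454 L12148 rfl
theorem L88466 : N1118 = N392 := eqes L88465 L3202
theorem L88467 : N1118 = N392 := eqc rfl L88466 rfl
theorem L88484 : sm gi N392 = N823 := trfs L88467 (flp_i L8957) rfl
theorem L88485 : N823 = N292 := eqes L88484 L3211
theorem L88486 : N823 = N292 := eqc rfl L88485 rfl
theorem L88488 : sm gb N292 = N1112 := trfs L88486 (flp_b L8911) rfl
theorem L88489 : N1112 = N230 := eqes L88488 L2399
theorem L88490 : N1112 = N230 := eqc rfl L88489 rfl
theorem L88509 : sm gh N230 = N818 := trfs L88490 (flp_h L8908) rfl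
theorem L88510 : N818 = N172 := eqes L88509 L1896
theorem L88511 : N818 = N172 := eqc rfl L88510 rfl
theorem L88525 : sm gg N172 = N601 := trfs L88511 (flp_g L6590) rfl
theorem L88526 : N601 = N140 := eqes L88525 L1418
theorem L88527 : N601 = N140 := eqc rfl L88526 rfl
theorem L88538 : sm gf N140 = N444 := trfs L88527 (flp_f L4855) rfl
theorem L88539 : N444 = N193 := eqes L88538 L1573
theorem L88540 : N444 = N193 := eqc rfl L88539 rfl
theorem L88555 : sm gh N193 = N602 := trfs L88540 L4863 rfl
theorem L88556 : N602 = N260 := eqes L88555 (flp_h L2123)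
theorem L88557 : N602 = N260 := eqc rfl L88556 rfl
theorem L88570 : sm gi N260 = N820 := trfs L88557 L6606 rfl
theorem L88571 : N820 = N349 := eqes L88570 (flp_i L2841)
theorem L88572 : N820 = N349 := eqc rfl L88571 rfl
theorem L88583 : sm gg N349 = N933 := trfs L88572 (flp_g L7493) rfl
theorem L88584 : N933 = N474 := eqes L88583 L3836
theorem L88585 : N933 = N474 := eqc rfl L88584 rfl
theorem L88594 : sm gf N474 = N1269 := trfs L88585 (flp_f L10149) rfl
theorem L88595 : N1269 = N571 := eqes L88594 (flp_f L4634)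
theorem L88596 : N1269 = N571 := eqc rfl L88595 rfl
theorem L88610 : sm gi N571 = N932 := trfs L88596 (flp_i L10143) rfl
theorem L88611 : N932 = N424 := eqes L88610 L4632
theorem L88612 : N932 = N424 := eqc rfl L88611 rfl
theorem L88624 : sm gh N424 = N688 := trfs L88612 (flp_h L7478) rfl
theorem L88625 : N688 = N319 := eqes L88624 L3460
theorem L88626 : N688 = N319 := eqc rfl L88625 rfl
theorem L88635 : sm ge N319 = N930 := trfs L88626 L7460 rfl
theorem L88636 : N930 = N429 := eqes L88635 (flp_e L3499)
theorem L88637 : N930 = N429 := eqc rfl L88636 rfl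
theorem L88642 : sm gb N429 = N691 := trfs L88637 L7463 rfl
theorem L88643 : N691 = N541 := eqes L88642 (flp_b L4393)
theorem L88644 : N691 = N541 := eqc rfl L88643 rfl
theorem L88648 : sm gg N429 = N1266 := trfs L88637 L10116 rfl
theorem L88649 : N1266 = N315 := eqes L88648 (flp_g L3495)
theorem L88650 : N1266 = N315 := eqc rfl L88649 rfl
theorem L88663 : sm gh N315 = N1722 := trfs L88650 L13721 rfl
theorem L88664 : N1722 = N416 := eqes L88663 (flp_h L3396)
theorem L88665 : N1722 = N416 := eqc rfl L88664 rfl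
theorem L88682 : sm gi N416 = N2348 := trfs L88665 L18655 rfl
theorem L88683 : N2348 = N561 := eqes L88682 (flp_i L4550)
theorem L88684 : N2348 = N561 := eqc rfl L88683 rfl
theorem L88696 : sm gf N561 = N3194 := trfs L88684 (flp_f L25320) rfl
theorem L88697 : N3194 = N413 := eqes L88696 (flp_f L4546)
theorem L88698 : N3194 = N413 := eqc rfl L88697 rfl
theorem L88704 : sm gd N413 = N4362 := trfs L88698 (flp_d L34484) rfl
theorem L88705 : N4362 = N555 := eqes L88704 (flp_d L4506)
theorem L88706 : N4362 = N555 := eqc rfl L88705 rfl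
theorem L88726 : sm gi N555 = N3193 := trfs L88706 (flp_i L34479) rfl
theorem L88727 : N3193 = N411 := eqes L88726 L4504
theorem L88728 : N3193 = N411 := eqc rfl L88727 rfl
theorem L88737 : sm ge N411 = N4361 := trfs L88728 L34469 rfl
theorem L88738 : N4361 = N304 := eqes L88737 (flp_e L3353)
theorem L88739 : N4361 = N304 := eqc rfl L88738 rfl
theorem L88750 : sm gd N304 = N3836 := trfs L88739 L34476 rfl
theorem L88751 : N3836 = N225 := eqes L88750 (flp_d L2493)
theorem L88752 : N3836 = N225 := eqc rfl L88751 rfl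
theorem L88771 : sm gi N225 = N5246 := trfs L88752 L41423 rfl
theorem L88772 : N5246 = N303 := eqes L88771 (flp_i L2491)
theorem L88773 : N5246 = N303 := eqc rfl L88772 rfl
theorem L88785 : sm gh N303 = N7180 := trfs L88773 L56551 rfl
theorem L88786 : N7180 = N224 := eqes L88785 (flp_h L2483)
theorem L88787 : N7180 = N224 := eqc rfl L88786 rfl
theorem L88801 : sm gi N224 = N5607 := trfs L88787 L56560 rfl
theorem L88802 : N5607 = N164 := eqes L88801 (flp_i L1842)
theorem L88803 : N5607 = N164 := eqc rfl L88802 rfl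
theorem L88817 : sm gh N164 = N4107 := trfs L88803 (flp_h L44289) rfl
theorem L88818 : N4107 = N118 := eqes L88817 (flp_h L1352)
theorem L88819 : N4107 = N118 := eqc rfl L88818 rfl
theorem L88826 : sm ge N118 = N3013 := trfs L88819 L32501 rfl
theorem L88827 : N3013 = N82 := eqes L88826 (flp_e L969)
theorem L88828 : N3013 = N82 := eqc rfl L88827 rfl
theorem L88842 : sm gi N82 = N2213 := trfs L88828 (flp_i L23893) rfl
theorem L88843 : N2213 = N120 := eqes L88842 L984
theorem L88844 : N2213 = N120 := eqc rfl L88843 rfl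
theorem L88850 : sm gf N120 = N1629 := trfs L88844 L17591 rfl
theorem L88851 : N1629 = N84 := eqes L88850 L990
theorem L88852 : N1629 = N84 := eqc rfl L88851 rfl
theorem L88868 : sm gh N84 = N2062 := trfs L88852 (flp_h L16408) rfl
theorem L88869 : N2062 = N122 := eqes L88868 L1001
theorem L88870 : N2062 = N122 := eqc rfl L88869 rfl
theorem L88884 : sm gi N122 = N2814 := trfs L88870 L22334 rfl
theorem L88885 : N2814 = N168 := eqes L88884 (flp_i L1391)
theorem L88886 : N2814 = N168 := eqc rfl L88885 rfl
theorem L88897 : sm gh N168 = N3840 := trfs L88886 L30378 rfl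
theorem L88898 : N3840 = N121 := eqes L88897 (flp_h L1384)
theorem L88899 : N3840 = N121 := eqc rfl L88898 rfl
theorem L88913 : sm gi N121 = N3016 := trfs L88899 L30387 rfl
theorem L88914 : N3016 = N83 := eqes L88913 (flp_i L993)
theorem L88915 : N3016 = N83 := eqc rfl L88914 rfl
theorem L88926 : sm gg N83 = N2219 := trfs L88915 L23924 rfl
theorem L88927 : N2219 = N68 := eqes L88926 L679
theorem L88928 : N2219 = N68 := eqc rfl L88927 rfl
theorem L88931 : sm gb N68 = N1639 := trfs L88928 L17636 rfl
theorem L88932 : N1639 = N94 := eqes L88931 (flp_b L770)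
theorem L88933 : N1639 = N94 := eqc rfl L88932 rfl
theorem L88976 : sm gi N94 = N2072 := trfs L88933 (flp_i L16492) rfl
theorem L88977 : N2072 = N132 := eqes L88976 L1085
theorem L88978 : N2072 = N132 := eqc rfl L88977 rfl
theorem L88990 : sm gh N132 = N1522 := trfs L88978 (flp_h L16485) rfl
theorem L88991 : N1522 = N182 := eqes L88990 L1494
theorem L88992 : N1522 = N182 := eqc rfl L88991 rfl
theorem L89002 : sm gi N182 = N1116 := trfs L88992 (flp_i L12161) rfl
theorem L89003 : N1116 = N133 := eqes L89002 L1504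
theorem L89004 : N1116 = N133 := eqc rfl L89003 rfl
theorem L89007 : sm gc N133 = N1521 := trfs L89004 L12153 rfl
theorem L89008 : N1521 = N181 := eqes L89007 (flp_c L1488)
theorem L89009 : N1521 = N181 := eqc rfl L89008 rfl
theorem L89028 : sm gh N181 = N1207 := trfs L89009 L12159 rfl
theorem L89029 : N1207 = N131 := eqes L89028 (flp_h L1485)
theorem L89030 : N1207 = N131 := eqc rfl L89029 rfl
theorem L89044 : sm gi N131 = N1638 := trfs L89030 L13053 rfl
theorem L89045 : N1638 = N93 := eqes L89044 (flp_i L1077)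
theorem L89046 : N1638 = N93 := eqc rfl L89045 rfl
theorem L89056 : sm gg N93 = N2224 := trfs L89046 (flp_g L17679) rfl
theorem L89057 : N2224 = N111 := eqes L89056 (flp_g L907)
theorem L89058 : N2224 = N111 := eqc rfl L89057 rfl
theorem L89071 : sm gh N111 = N3027 := trfs L89058 L24006 rfl
theorem L89072 : N3027 = N107 := eqes L89071 (flp_h L911)
theorem L89073 : N3027 = N107 := eqc rfl L89072 rfl
theorem L89089 : sm gi N107 = N3851 := trfs L89073 (flp_i L30484) rfl
theorem L89090 : N3851 = N149 := eqes L89089 L1212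
theorem L89091 : N3851 = N149 := eqc rfl L89090 rfl
theorem L89106 : sm gh N149 = N2822 := trfs L89091 (flp_h L30475) rfl
theorem L89107 : N2822 = N204 := eqes L89106 L1661
theorem L89108 : N2822 = N204 := eqc rfl L89107 rfl
theorem L89118 : sm gf N204 = N3846 := trfs L89108 (flp_f L30438) rfl
theorem L89119 : N3846 = N273 := eqes L89118 (flp_f L2225)
theorem L89120 : N3846 = N273 := eqc rfl L89119 rfl
theorem L89137 : sm gi N273 = N2818 := trfs L89120 (flp_i L30432) rfl
theorem L89138 : N2818 = N283 := eqes L89137 (flp_i L2317)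
theorem L89139 : N2818 = N283 := eqc rfl L89138 rfl
theorem L89154 : sm gh N283 = N2220 := trfs L89139 L22376 rfl
theorem L89155 : N2220 = N210 := eqes L89154 (flp_h L2309)
theorem L89156 : N2220 = N210 := eqc rfl L89155 rfl
theorem L89164 : sm ge N210 = N3021 := trfs L89156 L23955 rfl
theorem L89165 : N3021 = N282 := eqes L89164 (flp_e L2305)
theorem L89166 : N3021 = N282 := eqc rfl L89165 rfl
theorem L89184 : sm gi N282 = N4119 := trfs L89166 L32591 rfl
theorem L89185 : N4119 = N209 := eqes L89184 (flp_i L2300)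
theorem L89186 : N4119 = N209 := eqc rfl L89185 rfl
theorem L89198 : sm gh N209 = N5621 := trfs L89186 L44400 rfl
theorem L89199 : N5621 = N202 := eqes L89198 L1713
theorem L89200 : N5621 = N202 := eqc rfl L89199 rfl
theorem L89212 : sm gi N202 = N7194 := trfs L89200 (flp_i L56684) rfl
theorem L89213 : N7194 = N272 := eqes L89212 L2210
theorem L89214 : N7194 = N272 := eqc rfl L89213 rfl
theorem L89220 : sm gd N272 = N9857 := trfs L89214 L77512 rfl
theorem L89221 : N9857 = N272 := eqes L89220 L2215
theorem L89222 : N9857 = N272 := eqc rfl L89221 rfl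
theorem L89227 : sm ga N272 = N7487 := trfs L89222 L77514 rfl
theorem L89228 : N7487 = N213 := eqes L89227 L2212
theorem L89229 : N7487 = N213 := eqc rfl L89228 rfl
theorem L89236 : sm gi N213 = N5641 := trfs L89229 L59048 rfl
theorem L89237 : N5641 = N155 := eqes L89236 (flp_i L1747)
theorem L89238 : N5641 = N155 := eqc rfl L89237 rfl
theorem L89252 : sm gh N155 = N7707 := trfs L89238 (flp_h L60741) rfl
theorem L89253 : N7707 = N212 := eqes L89252 L1735
theorem L89254 : N7707 = N212 := eqc rfl L89253 rfl
theorem L89255 : sm gd N212 = N5640 := trfs L89254 (flp_d L60737) rfl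
theorem L89256 : N5640 = N285 := eqes L89255 L2327
theorem L89257 : N5640 = N285 := eqc rfl L89256 rfl
theorem L89273 : sm gi N285 = N7706 := trfs L89257 (flp_i L60735) rfl
theorem L89274 : N7706 = N385 := eqes L89273 L3132
theorem L89275 : N7706 = N385 := eqc rfl L89274 rfl
theorem L89280 : sm gh N385 = N5639 := trfs L89275 (flp_h L60729) rfl
theorem L89281 : N5639 = N520 := eqes L89280 L4211
theorem L89282 : N5639 = N520 := eqc rfl L89281 rfl
theorem L89296 : sm gi N520 = N4133 := trfs L89282 (flp_i L44543) rfl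
theorem L89297 : N4133 = N520 := eqes L89296 L4221
theorem L89298 : N4133 = N520 := eqc rfl L89297 rfl
theorem L89312 : sm gh N520 = N3034 := trfs L89298 (flp_h L32704) rfl
theorem L89313 : N3034 = N385 := eqes L89312 (flp_h L4211)
theorem L89314 : N3034 = N385 := eqc rfl L89313 rfl
theorem L89316 : sm gb N385 = N4130 := trfs L89314 (flp_b L32682) rfl
theorem L89317 : N4130 = N302 := eqes L89316 L3136
theorem L89318 : N4130 = N302 := eqc rfl L89317 rfl
theorem L89336 : sm gi N302 = N5636 := trfs L89318 L44517 rfl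
theorem L89337 : N5636 = N223 := eqes L89336 (flp_i L2475)
theorem L89338 : N5636 = N223 := eqc rfl L89337 rfl
theorem L89344 : sm gd N223 = N4131 := trfs L89338 L44521 rfl
theorem L89345 : N4131 = N164 := eqes L89344 (flp_d L1835)
theorem L89346 : N4131 = N164 := eqc rfl L89345 rfl
theorem L89359 : sm gh N164 = N5637 := trfs L89346 L44526 rfl
theorem L89360 : N5637 = N118 := eqes L89359 (flp_h L1352)
theorem L89361 : N5637 = N118 := eqc rfl L89360 rfl
theorem L89372 : sm gi N118 = N7483 := trfs L89361 (flp_i L59023) rfl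
theorem L89373 : N7483 = N165 := eqes L89372 L1360
theorem L89374 : N7483 = N165 := eqc rfl L89373 rfl
theorem L89382 : sm gh N165 = N5472 := trfs L89374 (flp_h L59014) rfl
theorem L89383 : N5472 = N225 := eqes L89382 L1850
theorem L89384 : N5472 = N225 := eqc rfl L89383 rfl
theorem L89398 : sm gi N225 = N4007 := trfs L89384 (flp_i L43246) rfl
theorem L89399 : N4007 = N303 := eqes L89398 (flp_i L2491)
theorem L89400 : N4007 = N303 := eqc rfl L89399 rfl
theorem L89409 : sm ge N303 = N2938 := trfs L89400 (flp_e L31728) rfl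
theorem L89410 : N2938 = N226 := eqes L89409 L2487
theorem L89411 : N2938 = N226 := eqc rfl L89410 rfl
theorem L89426 : sm gh N226 = N2229 := trfs L89411 L23319 rfl
theorem L89427 : N2229 = N166 := eqes L89426 (flp_h L1858)
theorem L89428 : N2229 = N166 := eqc rfl L89427 rfl
theorem L89436 : sm gf N166 = N1643 := trfs L89428 L17714 rfl
theorem L89437 : N1643 = N121 := eqes L89436 L1374
theorem L89438 : N1643 = N121 := eqc rfl L89437 rfl
theorem L89452 : sm gi N121 = N2235 := trfs L89438 L17754 rfl
theorem L89453 : N2235 = N83 := eqes L89452 (flp_i L993)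
theorem L89454 : N2235 = N83 := eqc rfl L89453 rfl
theorem L89464 : sm gh N83 = N3039 := trfs L89454 L24097 rfl
theorem L89465 : N3039 = N57 := eqes L89464 (flp_h L674)
theorem L89466 : N3039 = N57 := eqc rfl L89465 rfl
theorem L89479 : sm gi N57 = N4014 := trfs L89466 (flp_i L31791) rfl
theorem L89480 : N4014 = N84 := eqes L89479 L682
theorem L89481 : N4014 = N84 := eqc rfl L89480 rfl
theorem L89494 : sm gh N84 = N2944 := trfs L89481 (flp_h L31783) rfl
theorem L89495 : N2944 = N122 := eqes L89494 L1001
theorem L89496 : N2944 = N122 := eqc rfl L89495 rfl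
theorem L89506 : sm gg N122 = N2164 := trfs L89496 L23367 rfl
theorem L89507 : N2164 = N99 := eqes L89506 L1006
theorem L89508 : N2164 = N99 := eqc rfl L89507 rfl
theorem L89522 : sm gi N99 = N1589 := trfs L89508 (flp_i L17201) rfl
theorem L89523 : N1589 = N137 := eqes L89522 (flp_i L1128)
theorem L89524 : N1589 = N137 := eqc rfl L89523 rfl
theorem L89529 : sm gd N137 = N2154 := trfs L89524 (flp_d L17132) rfl
theorem L89530 : N2154 = N188 := eqes L89529 L1540
theorem L89531 : N2154 = N188 := eqc rfl L89530 rfl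
theorem L89548 : sm gg N188 = N2932 := trfs L89531 (flp_g L23278) rfl
theorem L89549 : N2932 = N228 := eqes L89548 (flp_g L1878)
theorem L89550 : N2932 = N228 := eqc rfl L89549 rfl
theorem L89561 : sm ge N228 = N3973 := trfs L89550 (flp_e L31483) rfl
theorem L89562 : N3973 = N309 := eqes L89561 L2532
theorem L89563 : N3973 = N309 := eqc rfl L89562 rfl
theorem L89581 : sm gi N309 = N5431 := trfs L89563 L42942 rfl
theorem L89582 : N5431 = N230 := eqes L89581 L2538
theorem L89583 : N5431 = N230 := eqc rfl L89582 rfl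
theorem L89600 : sm gh N230 = N7431 := trfs L89583 L58623 rfl
theorem L89601 : N7431 = N172 := eqes L89600 L1896
theorem L89602 : N7431 = N172 := eqc rfl L89601 rfl
theorem L89609 : sm gg N172 = N5434 := trfs L89602 L58629 rfl
theorem L89610 : N5434 = N140 := eqes L89609 L1418
theorem L89611 : N5434 = N140 := eqc rfl L89610 rfl
theorem L89626 : sm gf N140 = N7278 := trfs L89611 (flp_f L57379) rfl
theorem L89627 : N7278 = N193 := eqes L89626 L1573
theorem L89628 : N7278 = N193 := eqc rfl L89627 rfl
theorem L89635 : sm gh N193 = N5319 := trfs L89628 (flp_h L57374) rfl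
theorem L89636 : N5319 = N260 := eqes L89635 (flp_h L2123)
theorem L89637 : N5319 = N260 := eqc rfl L89636 rfl
theorem L89653 : sm gi N260 = N3892 := trfs L89637 (flp_i L42038) rfl
theorem L89654 : N3892 = N349 := eqes L89653 (flp_i L2841)
theorem L89655 : N3892 = N349 := eqc rfl L89654 rfl
theorem L89667 : sm gg N349 = N5315 := trfs L89655 (flp_g L42012) rfl
theorem L89668 : N5315 = N474 := eqes L89667 L3836
theorem L89669 : N5315 = N474 := eqc rfl L89668 rfl
theorem L89677 : sm gc N474 = N7263 := trfs L89669 (flp_c L57258) rfl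
theorem L89678 : N7263 = N642 := eqes L89677 (flp_c L5169)
theorem L89679 : N7263 = N642 := eqc rfl L89678 rfl
theorem L89691 : sm gb N642 = N5307 := trfs L89679 (flp_b L57252) rfl
theorem L89692 : N5307 = N868 := eqes L89691 (flp_b L6962)
theorem L89693 : N5307 = N868 := eqc rfl L89692 rfl
theorem L89714 : sm gi N868 = N7264 := trfs L89693 L57260 rfl
theorem L89715 : N7264 = N647 := eqes L89714 L6966
theorem L89716 : N7264 = N647 := eqc rfl L89715 rfl
theorem L89721 : sm gg N647 = N5310 := trfs L89716 L57265 rfl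
theorem L89722 : N5310 = N477 := eqes L89721 (flp_g L5202)
theorem L89723 : N5310 = N477 := eqc rfl L89722 rfl
theorem L89738 : sm gh N477 = N7268 := trfs L89723 L57294 rfl
theorem L89739 : N7268 = N356 := eqes L89738 L3861
theorem L89740 : N7268 = N356 := eqc rfl L89739 rfl
theorem L89746 : sm gf N356 = N5424 := trfs L89740 L57299 rfl
theorem L89747 : N5424 = N262 := eqes L89746 (flp_f L2885)
theorem L89748 : N5424 = N262 := eqc rfl L89747 rfl
theorem L89750 : sm ga N262 = N7394 := trfs L89748 (flp_a L58362) rfl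
theorem L89751 : N7394 = N355 := eqes L89750 (flp_a L2880)
theorem L89752 : N7394 = N355 := eqc rfl L89751 rfl
theorem L89775 : sm gh N355 = N5401 := trfs L89752 (flp_h L58360) rfl
theorem L89776 : N5401 = N475 := eqes L89775 (flp_h L3849)
theorem L89777 : N5401 = N475 := eqc rfl L89776 rfl
theorem L89796 : sm gi N475 = N3952 := trfs L89777 (flp_i L42736) rfl
theorem L89797 : N3952 = N637 := eqes L89796 (flp_i L5134)
theorem L89798 : N3952 = N637 := eqc rfl L89797 rfl
theorem L89817 : sm gg N637 = N5398 := trfs L89798 (flp_g L42718) rfl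
theorem L89818 : N5398 = N772 := eqes L89817 (flp_g L6235)
theorem L89819 : N5398 = N772 := eqc rfl L89818 rfl
theorem L89832 : sm gf N772 = N7386 := trfs L89819 (flp_f L58303) rfl
theorem L89833 : N7386 = N1050 := eqes L89832 L8429
theorem L89834 : N7386 = N1050 := eqc rfl L89833 rfl
theorem L89837 : sm ga N1050 = N5416 := trfs L89834 L58301 rfl
theorem L89838 : N5416 = N774 := eqes L89837 L8431
theorem L89839 : N5416 = N774 := eqc rfl L89838 rfl
theorem L89849 : sm ge N774 = N7413 := trfs L89839 L58491 rfl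
theorem L89850 : N7413 = N1035 := eqes L89849 (flp_e L8324)
theorem L89851 : N7413 = N1035 := eqc rfl L89850 rfl
theorem L89857 : sm gf N1035 = N5446 := trfs L89851 L58496 rfl
theorem L89858 : N5446 = N762 := eqes L89857 (flp_f L8317)
theorem L89859 : N5446 = N762 := eqc rfl L89858 rfl
theorem L89873 : sm ge N762 = N3986 := trfs L89859 (flp_e L43055) rfl
theorem L89874 : N3986 = N559 := eqes L89873 (flp_e L6152)
theorem L89875 : N3986 = N559 := eqc rfl L89874 rfl
theorem L89887 : sm gb N559 = N5445 := trfs L89875 L43046 rfl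
theorem L89888 : N5445 = N412 := eqes L89887 (flp_b L4528)
theorem L89889 : N5445 = N412 := eqc rfl L89888 rfl
theorem L89903 : sm gi N412 = N7449 := trfs L89889 L58761 rfl
theorem L89904 : N7449 = N306 := eqes L89903 L3367
theorem L89905 : N7449 = N306 := eqc rfl L89904 rfl
theorem L89911 : sm gf N306 = N5451 := trfs L89905 L58768 rfl
theorem L89912 : N5451 = N229 := eqes L89911 L2511
theorem L89913 : N5451 = N229 := eqc rfl L89912 rfl
theorem L89923 : sm gg N229 = N3993 := trfs L89913 L43100 rfl
theorem L89924 : N3993 = N189 := eqes L89923 L1886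
theorem L89925 : N3993 = N189 := eqc rfl L89924 rfl
theorem L89983 : sm ge N189 = N5423 := trfs L89925 (flp_e L42894) rfl
theorem L89984 : N5423 = N259 := eqes L89983 L2112
theorem L89985 : N5423 = N259 := eqc rfl L89984 rfl
theorem L89998 : sm gi N259 = N3967 := trfs L89985 (flp_i L42888) rfl
theorem L89999 : N3967 = N348 := eqes L89998 (flp_i L2834)
theorem L90000 : N3967 = N348 := eqc rfl L89999 rfl
theorem L90005 : sm gd N348 = N5413 := trfs L90000 (flp_d L42820) rfl
theorem L90006 : N5413 = N472 := eqes L90005 L3820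
theorem L90007 : N5413 = N472 := eqc rfl L90006 rfl
theorem L90026 : sm gh N472 = N7400 := trfs L90007 (flp_h L58410) rfl
theorem L90027 : N7400 = N641 := eqes L90026 L5159
theorem L90028 : N7400 = N641 := eqc rfl L90027 rfl
theorem L90030 : sm gb N641 = N5407 := trfs L90028 (flp_b L58406) rfl
theorem L90031 : N5407 = N867 := eqes L90030 (flp_b L6955)
theorem L90032 : N5407 = N867 := eqc rfl L90031 rfl
theorem L90051 : sm gi N867 = N7401 := trfs L90032 L58413 rfl
theorem L90052 : N7401 = N867 := eqes L90051 L6959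
theorem L90053 : N7401 = N867 := eqc rfl L90052 rfl
theorem L90054 : sm gc N867 = N5408 := trfs L90053 L58415 rfl
theorem L90055 : N5408 = N1176 := eqes L90054 (flp_c L9400)
theorem L90056 : N5408 = N1176 := eqc rfl L90055 rfl
theorem L90073 : sm gh N1176 = N7402 := trfs L90056 L58419 rfl
theorem L90074 : N7402 = N865 := eqes L90073 (flp_h L9397)
theorem L90075 : N7402 = N865 := eqc rfl L90074 rfl
theorem L90079 : sm gi N865 = N5415 := trfs L90075 L58423 rfl
theorem L90080 : N5415 = N645 := eqes L90079 L6942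
theorem L90081 : N5415 = N645 := eqc rfl L90080 rfl
theorem L90098 : sm gh N645 = N3962 := trfs L90081 (flp_h L42831) rfl
theorem L90099 : N3962 = N645 := eqes L90098 L5193
theorem L90100 : N3962 = N645 := eqc rfl L90099 rfl
theorem L90112 : sm gi N645 = N2902 := trfs L90100 (flp_i L31407) rfl
theorem L90113 : N2902 = N865 := eqes L90112 (flp_i L6942)
theorem L90114 : N2902 = N865 := eqc rfl L90113 rfl
theorem L90115 : sm ga N865 = N3946 := trfs L90114 (flp_a L31296) rfl
theorem L90116 : N3946 = N1171 := eqes L90115 (flp_a L9359)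
theorem L90117 : N3946 = N1171 := eqc rfl L90116 rfl
theorem L90137 : sm gg N1171 = N5392 := trfs L90117 (flp_g L42672) rfl
theorem L90138 : N5392 = N1433 := eqes L90137 (flp_g L11458)
theorem L90139 : N5392 = N1433 := eqc rfl L90138 rfl
theorem L90152 : sm gh N1433 = N7375 := trfs L90139 (flp_h L58222) rfl
theorem L90153 : N7375 = N1958 := eqes L90152 L15596
theorem L90154 : N7375 = N1958 := eqc rfl L90153 rfl
theorem L90165 : sm gd N1958 = N5388 := trfs L90154 (flp_d L58215) rfl
theorem L90166 : N5388 = N2676 := eqes L90165 L21268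
theorem L90167 : N5388 = N2676 := eqc rfl L90166 rfl
theorem L90177 : sm ge N2676 = N4060 := trfs L90167 L42642 rfl
theorem L90178 : N4060 = N3655 := eqes L90177 L28989
theorem L90179 : N4060 = N3655 := eqc rfl L90178 rfl
theorem L90186 : sm gh N2676 = N3942 := trfs L90167 (flp_h L42637) rfl
theorem L90187 : N3942 = N3382 := eqes L90186 (flp_h L26870)
theorem L90188 : N3942 = N3382 := eqc rfl L90187 rfl
theorem L90193 : sm gb N3382 = N5380 := trfs L90188 (flp_b L42582) rfl
theorem L90194 : N5380 = N4623 := eqes L90193 (flp_b L36648)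
theorem L90195 : N5380 = N4623 := eqc rfl L90194 rfl
theorem L90200 : sm ge N3382 = N2978 := trfs L90188 L31269 rfl
theorem L90201 : N2978 = N4631 := eqes L90200 L36726
theorem L90202 : N4631 = N2978 := (eqc rfl L90201 rfl).symm
theorem L90206 : sm gg N3382 = N2888 := trfs L90188 (flp_g L31262) rfl
theorem L90207 : N2888 = N2860 := eqes L90206 L26867
theorem L90208 : N2888 = N2860 := eqc rfl L90207 rfl
theorem L90209 : sm gi N3382 = N5330 := trfs L90188 (flp_i L42150) rfl
theorem L90210 : N5330 = N4632 := eqes L90209 L36737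
theorem L90211 : N5330 = N4632 := eqc rfl L90210 rfl
theorem L90213 : sm gb N4632 = N7281 := trfs L90211 (flp_b L57405) rfl
theorem L90214 : N7281 = N6333 := eqes L90213 (flp_b L50095)
theorem L90215 : N7281 = N6333 := eqc rfl L90214 rfl
theorem L90218 : sm ge N4632 = N4026 := trfs L90211 L42148 rfl
theorem L90219 : N4026 = N6345 := eqes L90218 (flp_e L50216)
theorem L90220 : N6345 = N4026 := (eqc rfl L90219 rfl).symm
theorem L90222 : sm gg N4632 = N3900 := trfs L90211 (flp_g L42141) rfl
theorem L90223 : N3900 = N3907 := eqes L90222 L36744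
theorem L90224 : N3900 = N3864 := eqc rfl L90223 L82752
theorem L90231 : sm ge N3864 = N2953 := trfs L90224 L30898 rfl
theorem L90232 : N2953 = N5283 := eqes L90231 L41751
theorem L90233 : N5283 = N2953 := (eqc rfl L90232 rfl).symm
theorem L90238 : sm ga N2953 = N3880 := trfs L90233 L41753 rfl
theorem L90239 : N3880 = N2175 := eqes L90238 L23434
theorem L90240 : N3880 = N2175 := eqc rfl L90239 rfl
theorem L90248 : sm ge N2953 = N3864 := trfs L90233 (flp_e L41751) rfl
theorem L90254 : sm gi N2953 = N7230 := trfs L90233 L56989 rfl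
theorem L90255 : N7230 = N2189 := eqes L90254 L23437
theorem L90256 : N7230 = N2189 := eqc rfl L90255 rfl
theorem L90257 : sm ga N2189 = N5303 := trfs L90256 L56991 rfl
theorem L90258 : N5303 = N1612 := eqes L90257 L17404
theorem L90259 : N5303 = N1612 := eqc rfl L90258 rfl
theorem L90269 : sm ge N1612 = N3881 := trfs L90259 L41915 rfl
theorem L90270 : N3881 = N2125 := eqes L90269 (flp_e L16929)
theorem L90271 : N3881 = N2104 := eqc rfl L90270 L84234
theorem L90273 : sm gg N1612 = N7257 := trfs L90259 (flp_g L57208) rfl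
theorem L90274 : N7257 = N2192 := eqes L90273 L17425
theorem L90275 : N7257 = N2192 := eqc rfl L90274 rfl
theorem L90303 : sm gi N2192 = N5301 := trfs L90275 (flp_i L57202) rfl
theorem L90304 : N5301 = N2962 := eqes L90303 (flp_i L23518)
theorem L90305 : N5301 = N2962 := eqc rfl L90304 rfl
theorem L90314 : sm gf N2962 = N7256 := trfs L90305 L57196 rfl
theorem L90315 : N7256 = N4037 := eqes L90314 L31969
theorem L90316 : N7256 = N4037 := eqc rfl L90315 rfl
theorem L90322 : sm ge N4037 = N8370 := trfs L90316 (flp_e L65948) rfl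
theorem L90323 : N8370 = N5511 := eqes L90322 L43556
theorem L90324 : N8370 = N5511 := eqc rfl L90323 rfl
theorem L90326 : sm gh N4037 = N4037 := trfs L90316 L57200 L90316
theorem L90327 : N4037 = N5512 := eqes L90326 L43563
theorem L90328 : N5512 = N4037 := (eqc rfl L90327 rfl).symm
theorem L90333 : sm ge N4037 = N7535 := trfs L90328 (flp_e L59421) rfl
theorem L90334 : N7535 = N5511 := eqes L90333 L43556
theorem L90335 : N7535 = N5511 := eqc rfl L90334 rfl
theorem L90338 : sm gh N4037 = N4037 := trfs L90328 (flp_h L43563) rfl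
theorem L90366 : sm gh N5511 = N5511 := trfs L90335 (flp_h L59417) rfl
theorem L90369 : sm gf N5511 = N6108 := trfs L90324 (flp_f L65943) rfl
theorem L90370 : N6108 = N7319 := eqes L90369 (flp_f L57771)
theorem L90371 : N7319 = N6108 := (eqc rfl L90370 rfl).symm
theorem L90380 : sm gf N6108 = N5511 := trfs L90371 L57771 rfl
theorem L90385 : sm gi N6108 = N5403 := trfs L90371 L57769 rfl
theorem L90386 : N5403 = N8371 := eqes L90385 L65951
theorem L90387 : N8371 = N5403 := (eqc rfl L90386 rfl).symm
theorem L90390 : sm ge N5403 = N6109 := trfs L90387 L65955 rfl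
theorem L90391 : N6109 = N3954 := eqes L90390 (flp_e L42751)
theorem L90392 : N6109 = N3392 := eqc rfl L90391 L84377
theorem L90393 : sm gg N5403 = N6110 := trfs L90387 L65957 rfl
theorem L90394 : N6110 = N7239 := eqes L90393 (flp_g L57072)
theorem L90395 : N7239 = N6110 := (eqc rfl L90394 rfl).symm
theorem L90396 : sm gi N5403 = N6108 := trfs L90387 (flp_i L65951) rfl
theorem L90400 : sm gd N6110 = N8353 := trfs L90395 (flp_d L65822) rfl
theorem L90401 : N8353 = N8368 := eqes L90400 (flp_d L65931)
theorem L90402 : N8368 = N8353 := (eqc rfl L90401 rfl).symm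
theorem L90405 : sm gg N6110 = N5403 := trfs L90395 L57072 rfl
theorem L90409 : sm gd N8353 = N6110 := trfs L90402 L65931 rfl
theorem L90422 : sm gh N3392 = N8372 := trfs L90392 L65959 rfl
theorem L90423 : N8372 = N2684 := eqes L90422 L26968
theorem L90424 : N8372 = N2684 := eqc rfl L90423 rfl
theorem L90431 : sm gg N2684 = N6111 := trfs L90424 L65965 rfl
theorem L90432 : N6111 = N3664 := eqes L90431 (flp_g L29067)
theorem L90433 : N6111 = N3664 := eqc rfl L90432 rfl
theorem L90441 : sm ge N3664 = N8373 := trfs L90433 (flp_e L65974) rfl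
theorem L90442 : N8373 = N5012 := eqes L90441 L39664
theorem L90443 : N8373 = N5012 := eqc rfl L90442 rfl
theorem L90444 : sm gf N3664 = N4471 := trfs L90433 L48262 rfl
theorem L90445 : N4471 = N2967 := eqes L90444 L29065
theorem L90446 : N4471 = N2967 := eqc rfl L90445 rfl
theorem L90457 : sm gh N2967 = N3271 := trfs L90446 (flp_h L35398) rfl
theorem L90458 : N3271 = N3919 := eqes L90457 (flp_h L31076)
theorem L90459 : N3919 = N3271 := (eqc rfl L90458 rfl).symm
theorem L90467 : sm gg N3271 = N2870 := trfs L90459 L31073 rfl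
theorem L90468 : N2870 = N2844 := eqes L90467 L25959
theorem L90469 : N2870 = N2838 := eqc rfl L90468 L84214
theorem L90470 : sm gh N3271 = N2967 := trfs L90459 L31076 rfl
theorem L90472 : sm gi N3271 = N5358 := trfs L90459 L42391 rfl
theorem L90473 : N5358 = N2398 := eqes L90472 (flp_i L25952)
theorem L90474 : N5358 = N2398 := eqc rfl L90473 rfl
theorem L90481 : sm gg N2398 = N3922 := trfs L90474 L42397 rfl
theorem L90482 : N3922 = N2083 := eqes L90481 L19075
theorem L90483 : N3922 = N2083 := eqc rfl L90482 rfl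
theorem L90494 : sm gf N2083 = N2873 := trfs L90483 L31099 rfl
theorem L90495 : N2873 = N2842 := eqes L90494 (flp_f L22574)
theorem L90496 : N2873 = N2842 := eqc rfl L90495 rfl
theorem L90504 : sm ge N2842 = N3924 := trfs L90496 (flp_e L31116) rfl
theorem L90505 : N3924 = N3880 := eqes L90504 L30724
theorem L90506 : N3924 = N2175 := eqc rfl L90505 L90240
theorem L90522 : sm gi N2175 = N2872 := trfs L90506 (flp_i L31110) rfl
theorem L90523 : N2872 = N1612 := eqes L90522 L17296
theorem L90524 : N2872 = N1612 := eqc rfl L90523 rfl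
theorem L90525 : sm ga N1612 = N3906 := trfs L90524 (flp_a L30949) rfl
theorem L90526 : N3906 = N2189 := eqes L90525 (flp_a L17404)
theorem L90527 : N3906 = N2189 := eqc rfl L90526 rfl
theorem L90535 : sm gh N1612 = N2180 := trfs L90524 L22836 rfl
theorem L90536 : N2180 = N2193 := eqes L90535 L17431
theorem L90537 : N2193 = N2180 := (eqc rfl L90536 rfl).symm
theorem L90546 : sm gg N2180 = N2982 := trfs L90537 (flp_g L23661) rfl
theorem L90547 : N2982 = N2685 := eqes L90546 (flp_g L21350)
theorem L90548 : N2982 = N2685 := eqc rfl L90547 rfl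
theorem L90549 : sm gh N2180 = N1612 := trfs L90537 (flp_h L17431) rfl
theorem L90557 : sm gf N2685 = N4063 := trfs L90548 (flp_f L32160) rfl
theorem L90558 : N4063 = N3666 := eqes L90557 L29076
theorem L90559 : N4063 = N3666 := eqc rfl L90558 rfl
theorem L90564 : sm ga N3666 = N5539 := trfs L90559 (flp_a L43760) rfl
theorem L90565 : N5539 = N5000 := eqes L90564 (flp_a L39578)
theorem L90566 : N5539 = N5000 := eqc rfl L90565 rfl
theorem L90570 : sm ge N3666 = N5541 := trfs L90559 (flp_e L43779) rfl
theorem L90571 : N5541 = N5013 := eqes L90570 (flp_e L39676)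
theorem L90572 : N5541 = N5013 := eqc rfl L90571 rfl
theorem L90574 : sm gh N3666 = N2981 := trfs L90559 (flp_h L32156) rfl
theorem L90575 : N2981 = N4648 := eqes L90574 (flp_h L36897)
theorem L90576 : N4648 = N2981 := (eqc rfl L90575 rfl).symm
theorem L90584 : sm ge N2981 = N6363 := trfs L90576 (flp_e L50374) rfl
theorem L90585 : N6363 = N4062 := eqes L90584 L32151
theorem L90586 : N6363 = N4062 := eqc rfl L90585 rfl
theorem L90589 : sm gh N2981 = N3666 := trfs L90576 L36897 rfl
theorem L90591 : sm gi N2981 = N6366 := trfs L90576 L50393 rfl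
theorem L90592 : N6366 = N4037 := eqes L90591 (flp_i L31975)
theorem L90593 : N6366 = N4037 := eqc rfl L90592 rfl
theorem L90600 : sm ge N4037 = N8737 := trfs L90593 (flp_e L68996) rfl
theorem L90601 : N8737 = N5511 := eqes L90600 L43556
theorem L90602 : N8737 = N5511 := eqc rfl L90601 rfl
theorem L90608 : sm gf N5511 = N6364 := trfs L90602 L68998 rfl
theorem L90609 : N6364 = N6108 := eqes L90608 (flp_f L90380)
theorem L90610 : N6364 = N6108 := eqc rfl L90609 rfl
theorem L90616 : sm gd N6108 = N8732 := trfs L90610 (flp_d L68956) rfl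
theorem L90617 : N8732 = N8363 := eqes L90616 (flp_d L65898)
theorem L90618 : N8732 = N8363 := eqc rfl L90617 rfl
theorem L90624 : sm gi N6108 = N4646 := trfs L90610 (flp_i L50376) rfl
theorem L90625 : N4646 = N5403 := eqes L90624 (flp_i L90396)
theorem L90626 : N5403 = N4646 := (eqc rfl L90625 rfl).symm
theorem L90627 : sm ga N4646 = N7373 := trfs L90626 (flp_a L58203) rfl
theorem L90628 : N7373 = N6342 := eqes L90627 (flp_a L50185)
theorem L90629 : N7373 = N6342 := eqc rfl L90628 rfl
theorem L90632 : sm gd N4646 = N6407 := trfs L90626 (flp_d L50718) rfl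
theorem L90633 : N6407 = N6359 := eqes L90632 (flp_d L50340)
theorem L90634 : N6407 = N6359 := eqc rfl L90633 rfl
theorem L90638 : sm gg N4646 = N6110 := trfs L90626 (flp_g L90405) rfl
theorem L90639 : N6110 = N6361 := eqes L90638 (flp_g L50353)
theorem L90640 : N6361 = N6110 := (eqc rfl L90639 rfl).symm
theorem L90641 : sm gh N4646 = N7395 := trfs L90626 L58369 rfl
theorem L90642 : N7395 = N3665 := eqes L90641 L36880
theorem L90643 : N7395 = N3665 := eqc rfl L90642 rfl
theorem L90644 : sm gi N4646 = N6108 := trfs L90626 L90396 rfl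
theorem L90648 : sm ge N3665 = N5404 := trfs L90643 L58373 rfl
theorem L90649 : N5404 = N2684 := eqes L90648 (flp_e L29071)
theorem L90650 : N5404 = N2684 := eqc rfl L90649 rfl
theorem L90659 : sm gg N2684 = N7240 := trfs L90650 (flp_g L57083) rfl
theorem L90660 : N7240 = N3664 := eqes L90659 (flp_g L29067)
theorem L90661 : N7240 = N3664 := eqc rfl L90660 rfl
theorem L90672 : sm gf N3664 = N5292 := trfs L90661 L57081 rfl
theorem L90673 : N5292 = N2967 := eqes L90672 L29065
theorem L90674 : N5292 = N2967 := eqc rfl L90673 rfl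
theorem L90687 : sm gg N2967 = N3873 := trfs L90674 L41834 rfl
theorem L90688 : N3873 = N2179 := eqes L90687 L23551
theorem L90689 : N3873 = N2179 := eqc rfl L90688 rfl
theorem L90693 : sm gi N2967 = N7242 := trfs L90674 L57092 rfl
theorem L90694 : N7242 = N2967 := eqes L90693 L23553
theorem L90695 : N7242 = N2967 := eqc rfl L90694 rfl
theorem L90702 : sm gh N2967 = N6976 := trfs L90695 L57099 rfl
theorem L90703 : N6976 = N3271 := eqes L90702 (flp_h L90470)
theorem L90704 : N6976 = N3271 := eqc rfl L90703 rfl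
theorem L90705 : sm ga N3271 = N5275 := trfs L90704 (flp_a L74922) L77679
theorem L90706 : N5275 = N4455 := eqes L90705 (flp_a L35260)
theorem L90707 : N5275 = N4455 := eqc rfl L90706 rfl
theorem L90846 : sm gd N4455 = N3861 := trfs L90707 L41682 rfl
theorem L90847 : N3861 = N3260 := eqes L90846 L35263
theorem L90848 : N3861 = N3260 := eqc rfl L90847 rfl
theorem L90866 : sm gc N3260 = N2834 := trfs L90848 L30564 rfl
theorem L90867 : N2834 = N2394 := eqes L90866 L25859
theorem L90868 : N2834 = N2394 := eqc rfl L90867 rfl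
theorem L90883 : sm gg N2394 = N2076 := trfs L90868 (flp_g L22504) rfl
theorem L90884 : N2076 = N2079 := eqes L90883 L19042
theorem L90885 : N2079 = N2076 := (eqc rfl L90884 rfl).symm
theorem L90889 : sm gi N2394 = N2733 := trfs L90868 L22511 rfl
theorem L90890 : N2733 = N1754 := eqes L90889 (flp_i L19035)
theorem L90891 : N2733 = N1754 := eqc rfl L90890 rfl
theorem L90901 : sm gh N1754 = N3727 := trfs L90891 L29526 rfl
theorem L90902 : N3727 = N1289 := eqes L90901 (flp_h L13989)
theorem L90903 : N3727 = N1289 := eqc rfl L90902 rfl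
theorem L90913 : sm gi N1289 = N5095 := trfs L90903 L40286 rfl
theorem L90914 : N5095 = N1227 := eqes L90913 L10317
theorem L90915 : N5095 = N1227 := eqc rfl L90914 rfl
theorem L90921 : sm gd N1227 = N6969 := trfs L90915 (flp_d L54957) rfl
theorem L90922 : N6969 = N906 := eqes L90921 (flp_d L9797)
theorem L90923 : N6969 = N906 := eqc rfl L90922 rfl
theorem L90945 : sm gh N906 = N9550 := trfs L90923 L75141 rfl
theorem L90946 : N9550 = N681 := eqes L90945 L7269
theorem L90947 : N9550 = N681 := eqc rfl L90946 rfl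
theorem L90958 : sm gg N681 = N6972 := trfs L90947 L75149 rfl
theorem L90959 : N6972 = N594 := eqes L90958 L5487
theorem L90960 : N6972 = N594 := eqc rfl L90959 rfl
theorem L90973 : sm gf N594 = N7318 := trfs L90960 (flp_f L57758) rfl
theorem L90974 : N7318 = N806 := eqes L90973 L6499
theorem L90975 : N7318 = N624 := eqc rfl L90974 L85870
theorem L90982 : sm gh N624 = N5346 := trfs L90975 (flp_h L57751) rfl
theorem L90983 : N5346 = N848 := eqes L90982 L6815
theorem L90984 : N5346 = N848 := eqc rfl L90983 rfl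
theorem L91005 : sm gi N848 = N3910 := trfs L90984 (flp_i L42294) rfl
theorem L91006 : N3910 = N1156 := eqes L91005 L9249
theorem L91007 : N3910 = N1120 := eqc rfl L91006 L85831
theorem L91017 : sm gd N1120 = N2863 := trfs L91007 (flp_d L30985) rfl
theorem L91018 : N2863 = N1524 := eqes L91017 (flp_d L12182)
theorem L91019 : N2863 = N1524 := eqc rfl L91018 rfl
theorem L91024 : sm gg N1120 = N5343 := trfs L91007 (flp_g L42270) rfl
theorem L91025 : N5343 = N1526 := eqes L91024 L12193
theorem L91026 : N5343 = N1526 := eqc rfl L91025 rfl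
theorem L91039 : sm gf N1526 = N7312 := trfs L91026 (flp_f L57698) rfl
theorem L91040 : N7312 = N1755 := eqes L91039 (flp_f L14006)
theorem L91041 : N7312 = N1755 := eqc rfl L91040 rfl
theorem L91076 : sm gg N1755 = N6966 := trfs L91041 L57700 rfl
theorem L91077 : N6966 = N1290 := eqes L91076 (flp_g L13998)
theorem L91078 : N6966 = N1290 := eqc rfl L91077 rfl
theorem L91088 : sm ge N1290 = N9546 := trfs L91078 L75103 rfl
theorem L91089 : N9546 = N1743 := eqes L91088 (flp_e L13905)
theorem L91090 : N9546 = N1743 := eqc rfl L91089 rfl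
theorem L91100 : sm gf N1743 = N7047 := trfs L91090 L75110 rfl
theorem L91101 : N7047 = N1283 := eqes L91100 (flp_f L13897)
theorem L91102 : N7047 = N1283 := eqc rfl L91101 rfl
theorem L91121 : sm gi N1283 = N9656 := trfs L91102 L75959 rfl
theorem L91122 : N9656 = N1221 := eqes L91121 L10268
theorem L91123 : N9656 = N1221 := eqc rfl L91122 rfl
theorem L91130 : sm ge N1221 = N7048 := trfs L91123 L75965 rfl
theorem L91131 : N7048 = N901 := eqes L91130 (flp_e L9749)
theorem L91132 : N7048 = N901 := eqc rfl L91131 rfl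
theorem L91146 : sm gh N901 = N9657 := trfs L91132 L75968 rfl
theorem L91147 : N9657 = N676 := eqes L91146 L7223
theorem L91148 : N9657 = N676 := eqc rfl L91147 rfl
theorem L91150 : sm ga N676 = N7097 := trfs L91148 L75970 rfl
theorem L91151 : N7097 = N500 := eqes L91150 (flp_a L5436)
theorem L91152 : N7097 = N500 := eqc rfl L91151 rfl
theorem L91159 : sm gc N500 = N9725 := trfs L91152 (flp_c L76483) rfl
theorem L91160 : N9725 = N500 := eqes L91159 L4047
theorem L91161 : N9725 = N500 := eqc rfl L91160 rfl
theorem L91178 : sm gh N500 = N7095 := trfs L91161 (flp_h L76481) rfl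
theorem L91179 : N7095 = N668 := eqes L91178 (flp_h L5372)
theorem L91180 : N7095 = N668 := eqc rfl L91179 rfl
theorem L91196 : sm gi N668 = N3792 := trfs L91180 (flp_i L55910) L81268
theorem L91197 : N3792 = N698 := eqes L91196 (flp_i L5631)
theorem L91198 : N3792 = N698 := eqc rfl L91197 rfl
theorem L91203 : sm gd N698 = N2781 := trfs L91198 (flp_d L30026) rfl
theorem L91204 : N2781 = N526 := eqes L91203 L5625
theorem L91205 : N2781 = N526 := eqc rfl L91204 rfl
theorem L91224 : sm gi N526 = N3793 := trfs L91205 L30034 rfl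
theorem L91225 : N3793 = N712 := eqes L91224 (flp_i L5756)
theorem L91226 : N3793 = N712 := eqc rfl L91225 rfl
theorem L91232 : sm gf N712 = N2783 := trfs L91226 L30038 rfl
theorem L91233 : N2783 = N529 := eqes L91232 L5752
theorem L91234 : N2783 = N529 := eqc rfl L91233 rfl
theorem L91244 : sm gg N529 = N2041 := trfs L91234 L22109 rfl
theorem L91245 : N2041 = N452 := eqes L91244 L4295
theorem L91246 : N2041 = N452 := eqc rfl L91245 rfl
theorem L91262 : sm gi N452 = N1497 := trfs L91246 (flp_i L16243) rfl
theorem L91263 : N1497 = N336 := eqes L91262 L3683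
theorem L91264 : N1497 = N336 := eqc rfl L91263 rfl
theorem L91282 : sm gh N336 = N1097 := trfs L91264 (flp_h L11961) rfl
theorem L91283 : N1097 = N250 := eqes L91282 L2749
theorem L91284 : N1097 = N250 := eqc rfl L91283 rfl
theorem L91293 : sm gg N250 = N1496 := trfs L91284 L11953 rfl
theorem L91294 : N1496 = N295 := eqes L91293 (flp_g L2423)
theorem L91295 : N1496 = N295 := eqc rfl L91294 rfl
theorem L91297 : sm ga N295 = N2026 := trfs L91295 (flp_a L16126) rfl
theorem L91298 : N2026 = N399 := eqes L91297 L3260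
theorem L91299 : N2026 = N399 := eqc rfl L91298 rfl
theorem L91321 : sm gh N399 = N2764 := trfs L91299 L21955 rfl
theorem L91322 : N2764 = N532 := eqes L91321 (flp_h L4329)
theorem L91323 : N2764 = N532 := eqc rfl L91322 rfl
theorem L91326 : sm gb N532 = N2141 := trfs L91323 L21959 rfl
theorem L91327 : N2141 = N671 := eqes L91326 (flp_b L5400)
theorem L91328 : N2141 = N671 := eqc rfl L91327 rfl
theorem L91335 : sm ge N532 = N2028 := trfs L91323 L21961 rfl
theorem L91336 : N2028 = N725 := eqes L91335 L5875
theorem L91337 : N2028 = N725 := eqc rfl L91336 rfl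
theorem L91350 : sm gi N725 = N2767 := trfs L91337 L21983 rfl
theorem L91351 : N2767 = N975 := eqes L91350 (flp_i L7860)
theorem L91352 : N2767 = N975 := eqc rfl L91351 rfl
theorem L91358 : sm gf N975 = N3149 := trfs L91352 (flp_f L24973) rfl
theorem L91359 : N3149 = N1330 := eqes L91358 L10658
theorem L91360 : N3149 = N1330 := eqc rfl L91359 rfl
theorem L91370 : sm gg N1330 = N2314 := trfs L91360 L24975 rfl
theorem L91371 : N2314 = N1814 := eqes L91370 L14490
theorem L91372 : N2314 = N1814 := eqc rfl L91371 rfl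
theorem L91384 : sm gi N1814 = N1697 := trfs L91372 (flp_i L18380) rfl
theorem L91385 : N1697 = N1342 := eqes L91384 L14499
theorem L91386 : N1697 = N1342 := eqc rfl L91385 rfl
theorem L91392 : sm ge N1342 = N2312 := trfs L91386 (flp_e L18367) rfl
theorem L91393 : N2312 = N1800 := eqes L91392 (flp_e L14390)
theorem L91394 : N2312 = N1800 := eqc rfl L91393 rfl
theorem L91397 : sm gh N1342 = N1248 := trfs L91386 (flp_h L13512) rfl
theorem L91398 : N1248 = N1003 := eqes L91397 L10776
theorem L91399 : N1248 = N1003 := eqc rfl L91398 rfl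
theorem L91404 : sm gd N1003 = N919 := trfs L91399 L9972 rfl
theorem L91405 : N919 = N1368 := eqes L91404 (flp_d L10963)
theorem L91406 : N1368 = N919 := (eqc rfl L91405 rfl).symm
theorem L91407 : sm ge N1003 = N1695 := trfs L91399 L13493 rfl
theorem L91408 : N1695 = N1356 := eqes L91407 (flp_e L10877)
theorem L91409 : N1695 = N1356 := eqc rfl L91408 rfl
theorem L91411 : sm gg N1003 = N1696 := trfs L91399 L13501 rfl
theorem L91412 : N1696 = N738 := eqes L91411 (flp_g L8068)
theorem L91413 : N1696 = N738 := eqc rfl L91412 rfl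
theorem L91421 : sm ge N738 = N2311 := trfs L91413 (flp_e L18358) rfl
theorem L91422 : N2311 = N992 := eqes L91421 (flp_e L7994)
theorem L91423 : N2311 = N992 := eqc rfl L91422 rfl
theorem L91437 : sm gh N992 = N3146 := trfs L91423 L24940 rfl
theorem L91438 : N3146 = N1320 := eqes L91437 (flp_h L10593)
theorem L91439 : N3146 = N1320 := eqc rfl L91438 rfl
theorem L91452 : sm gf N1320 = N4294 := trfs L91439 (flp_f L33979) rfl
theorem L91453 : N4294 = N969 := eqes L91452 (flp_f L10587)
theorem L91454 : N4294 = N969 := eqc rfl L91453 rfl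
theorem L91468 : sm gi N969 = N5865 := trfs L91454 L46294 rfl
theorem L91469 : N5865 = N1313 := eqes L91468 (flp_i L10532)
theorem L91470 : N5865 = N1313 := eqc rfl L91469 rfl
theorem L91476 : sm gd N1313 = N8029 := trfs L91470 (flp_d L63233) rfl
theorem L91477 : N8029 = N1787 := eqes L91476 L14267
theorem L91478 : N8029 = N1787 := eqc rfl L91477 rfl
theorem L91489 : sm gf N1787 = N5867 := trfs L91478 L63235 rfl
theorem L91490 : N5867 = N2440 := eqes L91489 L19428
theorem L91491 : N5867 = N2440 := eqc rfl L91490 rfl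
theorem L91508 : sm gh N2440 = N8032 := trfs L91491 L63252 rfl
theorem L91509 : N8032 = N3332 := eqes L91508 L26466
theorem L91510 : N8032 = N3332 := eqc rfl L91509 rfl
theorem L91519 : sm gg N3332 = N5870 := trfs L91510 L63258 rfl
theorem L91520 : N5870 = N4557 := eqes L91519 (flp_g L36137)
theorem L91521 : N5870 = N4557 := eqc rfl L91520 rfl
theorem L91537 : sm gi N4557 = N7952 := trfs L91521 (flp_i L62631) rfl
theorem L91538 : N7952 = N6238 := eqes L91537 L49338
theorem L91539 : N7952 = N6238 := eqc rfl L91538 rfl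
theorem L91543 : sm gb N6238 = N6474 := trfs L91539 L62627 rfl
theorem L91544 : N6474 = N6048 := eqes L91543 L49342
theorem L91545 : N6474 = N6048 := eqc rfl L91544 rfl
theorem L91548 : sm gh N6238 = N5811 := trfs L91539 (flp_h L62623) rfl
theorem L91549 : N5811 = N4594 := eqes L91548 L49348
theorem L91550 : N5811 = N4594 := eqc rfl L91549 rfl
theorem L91554 : sm gb N4594 = N4727 := trfs L91550 L45875 rfl
theorem L91555 : N4727 = N5699 := eqes L91554 (flp_b L44999)
theorem L91556 : N5699 = N4727 := (eqc rfl L91555 rfl).symm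
theorem L91560 : sm gd N4594 = N4254 := trfs L91550 L45877 rfl
theorem L91561 : N4254 = N3455 := eqes L91560 L36438
theorem L91562 : N4254 = N3455 := eqc rfl L91561 rfl
theorem L91563 : sm ge N4594 = N7792 := trfs L91550 (flp_e L61399) rfl
theorem L91564 : N7792 = N6288 := eqes L91563 (flp_e L49753)
theorem L91565 : N7792 = N6288 := eqc rfl L91564 rfl
theorem L91570 : sm gi N4594 = N4253 := trfs L91550 (flp_i L45871) rfl
theorem L91571 : N4253 = N3357 := eqes L91570 (flp_i L36434)
theorem L91572 : N4253 = N3357 := eqc rfl L91571 rfl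
theorem L91576 : sm gb N3357 = N3453 := trfs L91572 L33642 rfl
theorem L91577 : N3453 = N4175 := eqes L91576 (flp_b L33020)
theorem L91578 : N4175 = N3453 := (eqc rfl L91577 rfl).symm
theorem L91582 : sm gd N3357 = N3116 := trfs L91572 (flp_d L33638) rfl
theorem L91583 : N3116 = N2529 := eqes L91582 L26679
theorem L91584 : N3116 = N2529 := eqc rfl L91583 rfl
theorem L91585 : sm ge N3357 = N5697 := trfs L91572 (flp_e L44983) rfl
theorem L91586 : N5697 = N4591 := eqes L91585 (flp_e L36416)
theorem L91587 : N5697 = N4591 := eqc rfl L91586 rfl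
theorem L91592 : sm gh N3357 = N3147 := trfs L91572 L33645 rfl
theorem L91593 : N3147 = N2457 := eqes L91592 (flp_h L26672)
theorem L91594 : N3147 = N2457 := eqc rfl L91593 rfl
theorem L91598 : sm gb N2457 = N2550 := trfs L91594 L24954 rfl
theorem L91599 : N2550 = N3062 := eqes L91598 (flp_b L24268)
theorem L91600 : N3062 = N2550 := (eqc rfl L91599 rfl).symm
theorem L91605 : sm ge N2457 = N4210 := trfs L91594 (flp_e L33301) rfl
theorem L91606 : N4210 = N3355 := eqes L91605 (flp_e L26664)
theorem L91607 : N4210 = N3355 := eqc rfl L91606 rfl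
theorem L91620 : sm gf N3355 = N4635 := trfs L91607 (flp_f L36775) rfl
theorem L91621 : N4635 = N4590 := eqes L91620 L36405
theorem L91622 : N4635 = N4590 := eqc rfl L91621 rfl
theorem L91627 : sm gi N3355 = N5750 := trfs L91607 L45395 rfl
theorem L91628 : N5750 = N4555 := eqes L91627 (flp_i L36118)
theorem L91629 : N5750 = N4555 := eqc rfl L91628 rfl
theorem L91639 : sm gf N4555 = N6094 := trfs L91629 (flp_f L50270) L83763
theorem L91640 : N6094 = N6234 := eqes L91639 L49292
theorem L91641 : N6234 = N6094 := (eqc rfl L91640 rfl).symm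
theorem L91645 : sm gb N6094 = N6044 := trfs L91641 L49296 rfl
theorem L91646 : N6044 = N6347 := eqes L91645 (flp_b L50237)
theorem L91647 : N6347 = N6044 := (eqc rfl L91646 rfl).symm
theorem L91648 : sm gc N6094 = N8538 := trfs L91641 (flp_c L67366) rfl
theorem L91649 : N8538 = N8348 := eqes L91648 L65776
theorem L91650 : N8538 = N8348 := eqc rfl L91649 rfl
theorem L91653 : sm gf N6094 = N4555 := trfs L91641 (flp_f L49292) rfl
theorem L91654 : N4555 = N8346 := eqes L91653 (flp_f L65760)
theorem L91655 : N8346 = N4555 := (eqc rfl L91654 rfl).symm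
theorem L91656 : sm gg N6094 = N5695 := trfs L91641 L49303 rfl
theorem L91657 : N5695 = N4458 := eqes L91656 L48129
theorem L91658 : N5695 = N4458 := eqc rfl L91657 rfl
theorem L91659 : sm gh N6094 = N8549 := trfs L91641 L67467 rfl
theorem L91660 : N8549 = N8280 := eqes L91659 (flp_h L65215)
theorem L91661 : N8549 = N8280 := eqc rfl L91660 rfl
theorem L91664 : N8349 = N4590 := L83785.trans L91622
theorem L91666 : sm gb N8280 = N8279 := trfs L91661 L67471 rfl
theorem L91667 : N8279 = N8550 := eqes L91666 (flp_b L67482)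
theorem L91668 : N8550 = N8279 := (eqc rfl L91667 rfl).symm
theorem L91670 : sm gf N8280 = N6235 := trfs L91661 L67474 rfl
theorem L91672 : sm gg N8280 = N7788 := trfs L91661 L67476 rfl
theorem L91673 : N7788 = N6046 := eqes L91672 L65212
theorem L91674 : N7788 = N6046 := eqc rfl L91673 rfl
theorem L91680 : sm gf N6046 = N5696 := trfs L91674 L61359 rfl
theorem L91681 : N5696 = N4592 := eqes L91680 L47720
theorem L91682 : N5696 = N4592 := eqc rfl L91681 rfl
theorem L91684 : sm ga N4592 = N4186 := trfs L91682 L44969 rfl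
theorem L91685 : N4186 = N3369 := eqes L91684 L36422
theorem L91686 : N4186 = N3369 := eqc rfl L91685 rfl
theorem L91689 : sm gc N4592 = N7778 := trfs L91682 (flp_c L61274) rfl
theorem L91690 : N7778 = N6289 := eqes L91689 L49757
theorem L91691 : N7778 = N6289 := eqc rfl L91690 rfl
theorem L91696 : sm gg N4592 = N4174 := trfs L91682 L44975 rfl
theorem L91697 : N4174 = N6287 := eqes L91696 (flp_g L49743)
theorem L91698 : N6287 = N4174 := (eqc rfl L91697 rfl).symm
theorem L91700 : sm gi N4592 = N7790 := trfs L91682 L61373 rfl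
theorem L91701 : N7790 = N6290 := eqes L91700 L49765
theorem L91702 : N7790 = N6290 := eqc rfl L91701 rfl
theorem L91707 : sm gg N6290 = N5698 := trfs L91702 L61381 rfl
theorem L91708 : N5698 = N8626 := eqes L91707 (flp_g L68103)
theorem L91709 : N8626 = N5698 := (eqc rfl L91708 rfl).symm
theorem L91710 : sm gh N6290 = N8281 := trfs L91702 (flp_h L65225) rfl
theorem L91711 : N8281 = N8629 := eqes L91710 L68119
theorem L91712 : N8629 = N8281 := (eqc rfl L91711 rfl).symm
theorem L91715 : sm gh N8281 = N6290 := trfs L91712 (flp_h L68119) rfl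
theorem L91717 : sm gi N8281 = N6406 := trfs L91712 L68125 rfl
theorem L91718 : N6406 = N6045 := eqes L91717 (flp_i L65217)
theorem L91719 : N6406 = N6045 := eqc rfl L91718 rfl
theorem L91732 : sm gg N6045 = N8788 := trfs L91719 (flp_g L69407) rfl
theorem L91733 : N8788 = N4423 := eqes L91732 L47714
theorem L91734 : N8788 = N4423 := eqc rfl L91733 rfl
theorem L91740 : sm gh N4423 = N6403 := trfs L91734 (flp_h L69401) rfl
theorem L91741 : N6403 = N3236 := eqes L91740 (flp_h L34987)
theorem L91742 : N6403 = N3236 := eqc rfl L91741 rfl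
theorem L91756 : sm gi N3236 = N4675 := trfs L91742 (flp_i L50687) rfl
theorem L91757 : N4675 = N3061 := eqes L91756 L25659
theorem L91758 : N4675 = N3061 := eqc rfl L91757 rfl
theorem L91763 : sm gc N3061 = N6402 := trfs L91758 L50679 rfl
theorem L91764 : N6402 = N4168 := eqes L91763 (flp_c L32965)
theorem L91765 : N6402 = N4168 := eqc rfl L91764 rfl
theorem L91770 : sm gf N3061 = N6400 := trfs L91758 (flp_f L50669) rfl
theorem L91771 : N6400 = N3330 := eqes L91770 (flp_f L26453)
theorem L91772 : N6400 = N3330 := eqc rfl L91771 rfl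
theorem L91782 : sm ge N3330 = N8784 := trfs L91772 L69369 rfl
theorem L91783 : N8784 = N2440 := eqes L91782 (flp_e L26443)
theorem L91784 : N8784 = N2440 := eqc rfl L91783 rfl
theorem L91797 : sm gf N2440 = N6516 := trfs L91784 L69375 rfl
theorem L91798 : N6516 = N1787 := eqes L91797 (flp_f L19428)
theorem L91799 : N6516 = N1787 := eqc rfl L91798 rfl
theorem L91813 : sm gi N1787 = N8937 := trfs L91799 L70506 rfl
theorem L91814 : N8937 = N1319 := eqes L91813 L14274
theorem L91815 : N8937 = N1319 := eqc rfl L91814 rfl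
theorem L91816 : sm ga N1319 = N6527 := trfs L91815 L70508 rfl
theorem L91817 : N6527 = N970 := eqes L91816 L10584
theorem L91818 : N6527 = N970 := eqc rfl L91817 rfl
theorem L91823 : sm gc N970 = N8949 := trfs L91818 (flp_c L70598) rfl
theorem L91824 : N8949 = N1321 := eqes L91823 L10597
theorem L91825 : N8949 = N1321 := eqc rfl L91824 rfl
theorem L91842 : sm gi N1321 = N6525 := trfs L91825 (flp_i L70596) rfl
theorem L91843 : N6525 = N1789 := eqes L91842 (flp_i L14296)
theorem L91844 : N6525 = N1789 := eqc rfl L91843 rfl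
theorem L91860 : sm gh N1789 = N8911 := trfs L91844 (flp_h L70315) rfl
theorem L91861 : N8911 = N2444 := eqes L91860 L19470
theorem L91862 : N8911 = N2444 := eqc rfl L91861 rfl
theorem L91864 : sm ge N2444 = N6495 := trfs L91862 (flp_e L70310) rfl
theorem L91865 : N6495 = N2255 := eqes L91864 L19474
theorem L91866 : N6495 = N2255 := eqc rfl L91865 rfl
theorem L91880 : sm gf N2255 = N4744 := trfs L91866 L51362 rfl
theorem L91881 : N4744 = N3067 := eqes L91880 (flp_f L24306)
theorem L91882 : N4744 = N3067 := eqc rfl L91881 rfl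
theorem L91885 : sm gi N2255 = N8912 := trfs L91866 L70317 rfl
theorem L91886 : N8912 = N3069 := eqes L91885 L24314
theorem L91887 : N8912 = N3069 := eqc rfl L91886 rfl
theorem L91891 : sm gf N3069 = N6499 := trfs L91887 L70321 rfl
theorem L91892 : N6499 = N4182 := eqes L91891 (flp_f L33072)
theorem L91893 : N6499 = N4182 := eqc rfl L91892 rfl
theorem L91895 : sm ga N4182 = N8878 := trfs L91893 (flp_a L70070) rfl
theorem L91896 : N8878 = N5692 := eqes L91895 (flp_a L44935)
theorem L91897 : N8878 = N5692 := eqc rfl L91896 rfl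
theorem L91898 : sm gb N4182 = N8916 := trfs L91893 (flp_b L70352) rfl
theorem L91899 : N8916 = N5669 := eqes L91898 (flp_b L44760)
theorem L91900 : N8916 = N5669 := eqc rfl L91899 rfl
theorem L91902 : sm gd N4182 = N8888 := trfs L91893 (flp_d L70147) rfl
theorem L91903 : N8888 = N5709 := eqes L91902 (flp_d L45063)
theorem L91904 : N8888 = N5709 := eqc rfl L91903 rfl
theorem L91905 : sm ge N4182 = N8661 := trfs L91893 (flp_e L68332) rfl
theorem L91906 : N8661 = N5705 := eqes L91905 (flp_e L45037)
theorem L91907 : N8661 = N5705 := eqc rfl L91906 rfl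
theorem L91908 : sm gg N4182 = N4747 := trfs L91893 L51396 rfl
theorem L91909 : N4747 = N5707 := eqes L91908 (flp_g L45052)
theorem L91910 : N5707 = N4747 := (eqc rfl L91909 rfl).symm
theorem L91911 : sm gh N4182 = N8917 := trfs L91893 L70358 rfl
theorem L91912 : N8917 = N4431 := eqes L91911 (flp_h L35056)
theorem L91913 : N8917 = N4431 := eqc rfl L91912 rfl
theorem L91919 : sm gi N4431 = N6531 := trfs L91913 L70364 rfl
theorem L91920 : N6531 = N3242 := eqes L91919 (flp_i L35050)
theorem L91921 : N6531 = N3242 := eqc rfl L91920 rfl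
theorem L91941 : sm gh N3242 = N4769 := trfs L91921 (flp_h L51625) rfl
theorem L91942 : N4769 = N2378 := eqes L91941 (flp_h L25707)
theorem L91943 : N4769 = N2378 := eqc rfl L91942 rfl
theorem L91956 : sm gg N2378 = N3489 := trfs L91943 L37803 rfl
theorem L91957 : N3489 = N3241 := eqes L91956 L25699
theorem L91958 : N3489 = N3241 := eqc rfl L91957 rfl
theorem L91959 : sm gi N2378 = N3486 := trfs L91943 (flp_i L37798) rfl
theorem L91960 : N3486 = N2254 := eqes L91959 L18909
theorem L91961 : N3486 = N2254 := eqc rfl L91960 rfl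
theorem L91962 : sm ga N2254 = N4760 := trfs L91961 (flp_a L37738) rfl
theorem L91963 : N4760 = N3059 := eqes L91962 (flp_a L24244)
theorem L91964 : N4760 = N3059 := eqc rfl L91963 rfl
theorem L91965 : sm gb N2254 = N4768 := trfs L91961 L37791 rfl
theorem L91966 : N4768 = N3048 := eqes L91965 (flp_b L24163)
theorem L91967 : N4768 = N3048 := eqc rfl L91966 rfl
theorem L91970 : sm ge N2254 = N4690 := trfs L91961 (flp_e L37221) rfl
theorem L91971 : N4690 = N3065 := eqes L91970 L24292
theorem L91972 : N4690 = N3065 := eqc rfl L91971 rfl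
theorem L91974 : sm gg N2254 = N2556 := trfs L91961 L27688 rfl
theorem L91975 : N2556 = N3066 := eqes L91974 L24296
theorem L91976 : N3066 = N2556 := (eqc rfl L91975 rfl).symm
theorem L91978 : sm ga N2556 = N4169 := trfs L91976 (flp_a L32969) rfl
theorem L91979 : N4169 = N3482 := eqes L91978 (flp_a L27657)
theorem L91980 : N4169 = N3482 := eqc rfl L91979 rfl
theorem L91981 : sm gb N2556 = N4153 := trfs L91976 (flp_b L32849) rfl
theorem L91982 : N4153 = N3488 := eqes L91981 L27699
theorem L91983 : N4153 = N3488 := eqc rfl L91982 rfl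
theorem L91986 : sm ge N2556 = N4178 := trfs L91976 (flp_e L33046) rfl
theorem L91987 : N4178 = N3430 := eqes L91986 (flp_e L27273)
theorem L91988 : N4178 = N3430 := eqc rfl L91987 rfl
theorem L91990 : sm gg N2556 = N2254 := trfs L91976 (flp_g L24296) rfl
theorem L91992 : sm gh N2556 = N4180 := trfs L91976 L33054 rfl
theorem L91993 : N4180 = N3470 := eqes L91992 (flp_h L27574)
theorem L91994 : N4180 = N3470 := eqc rfl L91993 rfl
theorem L91997 : sm ga N3470 = N5690 := trfs L91994 (flp_a L44917) rfl
theorem L91998 : N5690 = N4726 := eqes L91997 (flp_a L37494)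
theorem L91999 : N5690 = N4726 := eqc rfl L91998 rfl
theorem L92000 : sm gb N3470 = N5667 := trfs L91994 (flp_b L44743) rfl
theorem L92001 : N5667 = N4746 := eqes L92000 L37637
theorem L92002 : N5667 = N4746 := eqc rfl L92001 rfl
theorem L92004 : sm gd N3470 = N5706 := trfs L91994 L45039 rfl
theorem L92005 : N5706 = N4731 := eqes L92004 (flp_d L37535)
theorem L92006 : N5706 = N4731 := eqc rfl L92005 rfl
theorem L92007 : sm ge N3470 = N5703 := trfs L91994 (flp_e L45027) rfl
theorem L92008 : N5703 = N4611 := eqes L92007 (flp_e L36555)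
theorem L92009 : N5703 = N4611 := eqc rfl L92008 rfl
theorem L92015 : sm gb N4611 = N7744 := trfs L92009 (flp_b L61017) rfl
theorem L92016 : N7744 = N6313 := eqes L92015 L49922
theorem L92017 : N7744 = N6313 := eqc rfl L92016 rfl
theorem L92019 : sm gd N4611 = N7798 := trfs L92009 L61430 rfl
theorem L92020 : N7798 = N6298 := eqes L92019 (flp_d L49818)
theorem L92021 : N7798 = N6298 := eqc rfl L92020 rfl
theorem L92025 : sm gg N4611 = N4179 := trfs L92009 L45029 rfl
theorem L92026 : N4179 = N6311 := eqes L92025 (flp_g L49908)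
theorem L92027 : N6311 = N4179 := (eqc rfl L92026 rfl).symm
theorem L92029 : sm gi N4611 = N7799 := trfs L92009 L61434 rfl
theorem L92030 : N7799 = N6314 := eqes L92029 L49930
theorem L92031 : N7799 = N6314 := eqc rfl L92030 rfl
theorem L92036 : sm gh N6314 = N8290 := trfs L92031 (flp_h L65298) rfl
theorem L92037 : N8290 = N8665 := eqes L92036 L68362
theorem L92038 : N8665 = N8290 := (eqc rfl L92037 rfl).symm
theorem L92041 : sm gh N8290 = N6314 := trfs L92038 (flp_h L68362) rfl
theorem L92043 : sm gi N8290 = N6428 := trfs L92038 L68368 rfl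
theorem L92044 : N6428 = N6052 := eqes L92043 (flp_i L65290)
theorem L92045 : N6428 = N6052 := eqc rfl L92044 rfl
theorem L92059 : sm gh N6052 = N4693 := trfs L92045 (flp_h L50857) rfl
theorem L92060 : N4693 = N4427 := eqes L92059 (flp_h L47770)
theorem L92061 : N4693 = N4427 := eqc rfl L92060 rfl
theorem L92062 : sm ga N4427 = N6405 := trfs L92061 (flp_a L50703) rfl
theorem L92063 : N6405 = N6037 := eqes L92062 (flp_a L47635)
theorem L92064 : N6405 = N6037 := eqc rfl L92063 rfl
theorem L92065 : sm gb N4427 = N6427 := trfs L92061 (flp_b L50851) rfl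
theorem L92066 : N6427 = N6014 := eqes L92065 (flp_b L47445)
theorem L92067 : N6427 = N6014 := eqc rfl L92066 rfl
theorem L92071 : sm gf N4427 = N6117 := trfs L92061 (flp_f L48313) rfl
theorem L92072 : N6117 = N6051 := eqes L92071 L47761
theorem L92073 : N6117 = N6051 := eqc rfl L92072 rfl
theorem L92077 : sm ga N6051 = N8351 := trfs L92073 (flp_a L65799) rfl
theorem L92078 : N8351 = N8268 := eqes L92077 (flp_a L65100)
theorem L92079 : N8351 = N8268 := eqc rfl L92078 rfl
theorem L92080 : sm gb N6051 = N8381 := trfs L92073 (flp_b L66035) rfl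
theorem L92081 : N8381 = N8234 := eqes L92080 (flp_b L64826)
theorem L92082 : N8381 = N8234 := eqc rfl L92081 rfl
theorem L92083 : sm gc N6051 = N4476 := trfs L92073 L48310 rfl
theorem L92084 : N4476 = N4434 := eqes L92083 L47763
theorem L92085 : N4476 = N4434 := eqc rfl L92084 rfl
theorem L92090 : sm gg N6051 = N8378 := trfs L92073 (flp_g L66015) rfl
theorem L92091 : N8378 = N4597 := eqes L92090 L47768
theorem L92092 : N8378 = N4597 := eqc rfl L92091 rfl
theorem L92094 : sm gi N6051 = N4475 := trfs L92073 (flp_i L48308) rfl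
theorem L92095 : N4475 = N5702 := eqes L92094 L47765
theorem L92096 : N5702 = N4475 := (eqc rfl L92095 rfl).symm
theorem L92109 : sm gg N4475 = N6241 := trfs L92096 (flp_g L49375) rfl
theorem L92110 : N6241 = N6114 := eqes L92109 (flp_g L48290)
theorem L92111 : N6241 = N6114 := eqc rfl L92110 rfl
theorem L92113 : sm gi N4475 = N6051 := trfs L92096 (flp_i L47765) rfl
theorem L92116 : sm gb N6114 = N8443 := trfs L92111 (flp_b L66597) rfl
theorem L92117 : N8443 = N8377 := eqes L92116 L66003
theorem L92118 : N8443 = N8377 := eqc rfl L92117 rfl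
theorem L92122 : sm gf N6114 = N4560 := trfs L92111 (flp_f L49368) rfl
theorem L92123 : N4560 = N8374 := eqes L92122 (flp_f L65980)
theorem L92124 : N8374 = N4560 := (eqc rfl L92123 rfl).symm
theorem L92125 : sm gh N6114 = N8558 := trfs L92111 L67555 rfl
theorem L92126 : N8558 = N8304 := eqes L92125 (flp_h L65396)
theorem L92127 : N8558 = N8304 := eqc rfl L92126 rfl
theorem L92132 : sm gf N8304 = N6242 := trfs L92127 L67560 rfl
theorem L92135 : sm gc N4560 = N6112 := trfs L92124 (flp_c L65978) rfl
theorem L92136 : N6112 = N3339 := eqes L92135 L36163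
theorem L92137 : N6112 = N3339 := eqc rfl L92136 rfl
theorem L92138 : sm gf N4560 = N6114 := trfs L92124 L65980 rfl
theorem L92140 : sm gg N4560 = N6420 := trfs L92124 L65982 rfl
theorem L92141 : N6420 = N3334 := eqes L92140 (flp_g L36161)
theorem L92142 : N6420 = N3334 := eqc rfl L92141 rfl
theorem L92144 : sm gb N3334 = N8809 := trfs L92142 L69541 rfl
theorem L92145 : N8809 = N4505 := eqes L92144 (flp_b L35700)
theorem L92146 : N8809 = N4505 := eqc rfl L92145 rfl
theorem L92164 : sm gf N4505 = N6423 := trfs L92146 L69543 rfl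
theorem L92165 : N6423 = N4152 := eqes L92164 L35706
theorem L92166 : N6423 = N4152 := eqc rfl L92165 rfl
theorem L92167 : sm ga N4152 = N8814 := trfs L92166 L69575 rfl
theorem L92168 : N8814 = N5655 := eqes L92167 (flp_a L44649)
theorem L92169 : N8814 = N5655 := eqc rfl L92168 rfl
theorem L92171 : sm gc N4152 = N4698 := trfs L92166 L50825 rfl
theorem L92172 : N4698 = N3050 := eqes L92171 L32845
theorem L92173 : N4698 = N3050 := eqc rfl L92172 rfl
theorem L92174 : sm gd N4152 = N8803 := trfs L92166 (flp_d L69501) rfl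
theorem L92175 : N8803 = N5664 := eqes L92174 L44719
theorem L92176 : N8803 = N5664 := eqc rfl L92175 rfl
theorem L92178 : sm gg N4152 = N4692 := trfs L92166 L50823 rfl
theorem L92179 : N4692 = N5665 := eqes L92178 L44725
theorem L92180 : N5665 = N4692 := (eqc rfl L92179 rfl).symm
theorem L92184 : sm gi N4152 = N8815 := trfs L92166 L69583 rfl
theorem L92185 : N8815 = N4401 := eqes L92184 (flp_i L34804)
theorem L92186 : N8815 = N4401 := eqc rfl L92185 rfl
theorem L92188 : sm gc N4401 = N6435 := trfs L92186 L69587 rfl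
theorem L92189 : N6435 = N3225 := eqes L92188 L34802
theorem L92190 : N6435 = N3225 := eqc rfl L92189 rfl
theorem L92196 : sm gb N3225 = N4699 := trfs L92190 L50902 rfl
theorem L92197 : N4699 = N2370 := eqes L92196 L25566
theorem L92198 : N4699 = N2370 := eqc rfl L92197 rfl
theorem L92206 : sm gg N3225 = N4702 := trfs L92190 L50907 rfl
theorem L92207 : N4702 = N4406 := eqes L92206 L34843
theorem L92208 : N4702 = N4406 := eqc rfl L92207 rfl
theorem L92209 : sm gh N3225 = N8828 := trfs L92190 L69673 rfl
theorem L92210 : N8828 = N4407 := eqes L92209 L34852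
theorem L92211 : N8828 = N4407 := eqc rfl L92210 rfl
theorem L92219 : sm gg N4407 = N6438 := trfs L92211 L69679 rfl
theorem L92220 : N6438 = N6022 := eqes L92219 (flp_g L47520)
theorem L92221 : N6438 = N6022 := eqc rfl L92220 rfl
theorem L92237 : sm gi N6022 = N8675 := trfs L92221 (flp_i L68441) rfl
theorem L92238 : N8675 = N8247 := eqes L92237 L64935
theorem L92239 : N8675 = N8247 := eqc rfl L92238 rfl
theorem L92241 : sm ge N8247 = N6513 := trfs L92239 L68439 rfl
theorem L92242 : N6513 = N6025 := eqes L92241 L64939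
theorem L92243 : N6513 = N6025 := eqc rfl L92242 rfl
theorem L92244 : sm gh N8247 = N6323 := trfs L92239 (flp_h L68435) rfl
theorem L92245 : N6323 = N7756 := eqes L92244 L64943
theorem L92246 : N7756 = N6323 := (eqc rfl L92245 rfl).symm
theorem L92248 : sm ge N6323 = N5676 := trfs L92246 L61110 rfl
theorem L92249 : N5676 = N4756 := eqes L92248 L49997
theorem L92250 : N5676 = N4756 := eqc rfl L92249 rfl
theorem L92251 : sm gg N6323 = N5675 := trfs L92246 L61112 rfl
theorem L92252 : N5675 = N8672 := eqes L92251 (flp_g L68417)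
theorem L92253 : N8672 = N5675 := (eqc rfl L92252 rfl).symm
theorem L92254 : sm gh N6323 = N8247 := trfs L92246 (flp_h L64943) rfl
theorem L92256 : sm gi N6323 = N5673 := trfs L92246 (flp_i L61106) rfl
theorem L92257 : N5673 = N4617 := eqes L92256 (flp_i L49993)
theorem L92258 : N5673 = N4617 := eqc rfl L92257 rfl
theorem L92259 : sm ga N4617 = N7737 := trfs L92258 (flp_a L60960) rfl
theorem L92260 : N7737 = N6322 := eqes L92259 L49987
theorem L92261 : N7737 = N6322 := eqc rfl L92260 rfl
theorem L92262 : sm gb N4617 = N4162 := trfs L92258 L44789 rfl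
theorem L92263 : N4162 = N3375 := eqes L92262 (flp_b L36594)
theorem L92264 : N4162 = N3375 := eqc rfl L92263 rfl
theorem L92266 : sm gd N4617 = N7755 := trfs L92258 L61098 rfl
theorem L92267 : N7755 = N6218 := eqes L92266 (flp_d L49152)
theorem L92268 : N7755 = N6218 := eqc rfl L92267 rfl
theorem L92269 : sm ge N4617 = N4159 := trfs L92258 L44791 rfl
theorem L92270 : N4159 = N3476 := eqes L92269 L36596
theorem L92271 : N4159 = N3476 := eqc rfl L92270 rfl
theorem L92275 : sm gg N4617 = N4158 := trfs L92258 L44793 rfl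
theorem L92276 : N4158 = N6319 := eqes L92275 (flp_g L49967)
theorem L92277 : N6319 = N4158 := (eqc rfl L92276 rfl).symm
theorem L92278 : sm gh N4617 = N4157 := trfs L92258 (flp_h L44787) rfl
theorem L92279 : N4157 = N3436 := eqes L92278 L36598
theorem L92280 : N4157 = N3436 := eqc rfl L92279 rfl
theorem L92281 : sm ga N3436 = N5660 := trfs L92280 (flp_a L44685) rfl
theorem L92282 : N5660 = N4701 := eqes L92281 L37292
theorem L92283 : N5660 = N4701 := eqc rfl L92282 rfl
theorem L92287 : sm ge N3436 = N3051 := trfs L92280 L32882 rfl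
theorem L92288 : N3051 = N2562 := eqes L92287 L27312
theorem L92289 : N3051 = N2562 := eqc rfl L92288 rfl
theorem L92290 : sm gf N3436 = N5672 := trfs L92280 L44781 rfl
theorem L92291 : N5672 = N4481 := eqes L92290 (flp_f L35483)
theorem L92292 : N5672 = N4481 := eqc rfl L92291 rfl
theorem L92297 : sm ga N4481 = N7736 := trfs L92292 (flp_a L60952) rfl
theorem L92298 : N7736 = N6125 := eqes L92297 L48367
theorem L92299 : N7736 = N6125 := eqc rfl L92298 rfl
theorem L92300 : sm gb N4481 = N4161 := trfs L92292 L44783 rfl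
theorem L92301 : N4161 = N3280 := eqes L92300 (flp_b L35479)
theorem L92302 : N4161 = N3280 := eqc rfl L92301 rfl
theorem L92306 : sm gg N4481 = N6168 := trfs L92292 (flp_g L48765) rfl
theorem L92307 : N6168 = N6122 := eqes L92306 (flp_g L48350)
theorem L92308 : N6168 = N6122 := eqc rfl L92307 rfl
theorem L92310 : sm gi N4481 = N6021 := trfs L92292 (flp_i L47509) rfl
theorem L92311 : N6021 = N6126 := eqes L92310 L48373
theorem L92312 : N6126 = N6021 := (eqc rfl L92311 rfl).symm
theorem L92316 : sm gb N6021 = N4482 := trfs L92312 L48375 rfl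
theorem L92317 : N4482 = N4410 := eqes L92316 L47506
theorem L92318 : N4482 = N4410 := eqc rfl L92317 rfl
theorem L92327 : sm gi N6021 = N4481 := trfs L92312 (flp_i L48373) rfl
theorem L92342 : sm gh N4410 = N6127 := trfs L92318 L48381 rfl
theorem L92343 : N6127 = N6026 := eqes L92342 L47548
theorem L92344 : N6127 = N6026 := eqc rfl L92343 rfl
theorem L92357 : sm gg N6026 = N4575 := trfs L92344 (flp_g L66108) L86911
theorem L92358 : N4575 = N4543 := eqes L92357 L47555
theorem L92359 : N4575 = N4543 := eqc rfl L92358 rfl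
theorem L92360 : sm gi N6026 = N8317 := trfs L92344 (flp_i L65502) rfl
theorem L92361 : N8317 = N8251 := eqes L92360 L64965
theorem L92362 : N8317 = N8251 := eqc rfl L92361 rfl
theorem L92363 : sm ga N8251 = N8587 := trfs L92362 (flp_a L67792) rfl
theorem L92364 : N8587 = N8460 := eqes L92363 (flp_a L66744)
theorem L92365 : N8587 = N8460 := eqc rfl L92364 rfl
theorem L92377 : sm gh N8460 = N6262 := trfs L92365 (flp_h L67790) rfl
theorem L92378 : N6262 = N6215 := eqes L92377 L66753
theorem L92379 : N6262 = N6215 := eqc rfl L92378 rfl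
theorem L92389 : sm gd N6215 = N8464 := trfs L92379 (flp_d L66785) rfl
theorem L92390 : N8464 = N8520 := eqes L92389 (flp_d L67213)
theorem L92391 : N8520 = N8464 := (eqc rfl L92390 rfl).symm
theorem L92393 : sm gf N6215 = N5723 := trfs L92379 L49548 rfl
theorem L92394 : N5723 = N4545 := eqes L92393 L49133
theorem L92395 : N5723 = N4545 := eqc rfl L92394 rfl
theorem L92404 : sm gd N4545 = N7764 := trfs L92395 (flp_d L61172) rfl
theorem L92405 : N7764 = N6217 := eqes L92404 (flp_d L49145)
theorem L92406 : N7764 = N6217 := eqc rfl L92405 rfl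
theorem L92407 : sm ge N4545 = N4279 := trfs L92395 L45171 rfl
theorem L92408 : N4279 = N3326 := eqes L92407 L36026
theorem L92409 : N4279 = N3326 := eqc rfl L92408 rfl
theorem L92410 : sm gg N4545 = N7822 := trfs L92395 (flp_g L61606) rfl
theorem L92411 : N7822 = N3325 := eqes L92410 L36028
theorem L92412 : N7822 = N3325 := eqc rfl L92411 rfl
theorem L92419 : sm ge N3325 = N5841 := trfs L92412 L61604 rfl
theorem L92420 : N5841 = N2438 := eqes L92419 L26403
theorem L92421 : N5841 = N2438 := eqc rfl L92420 rfl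
theorem L92436 : sm gi N2438 = N4276 := trfs L92421 (flp_i L46088) rfl
theorem L92437 : N4276 = N1785 := eqes L92436 (flp_i L19410)
theorem L92438 : N4276 = N1785 := eqc rfl L92437 rfl
theorem L92452 : sm gh N1785 = N3170 := trfs L92438 L33820 rfl
theorem L92453 : N3170 = N1310 := eqes L92452 (flp_h L14254)
theorem L92454 : N3170 = N1310 := eqc rfl L92453 rfl
theorem L92472 : sm gi N1310 = N4328 := trfs L92454 L34228 rfl
theorem L92473 : N4328 = N1774 := eqes L92472 (flp_i L14180)
theorem L92474 : N4328 = N1774 := eqc rfl L92473 rfl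
theorem L92490 : sm gh N1774 = N5914 := trfs L92474 L46661 rfl
theorem L92491 : N5914 = N2423 := eqes L92490 L19302
theorem L92492 : N5914 = N2423 := eqc rfl L92491 rfl
theorem L92507 : sm gg N2423 = N4332 := trfs L92492 L46667 rfl
theorem L92508 : N4332 = N3304 := eqes L92507 (flp_g L26256)
theorem L92509 : N4332 = N3304 := eqc rfl L92508 rfl
theorem L92528 : sm gi N3304 = N5845 := trfs L92509 (flp_i L46127) rfl
theorem L92529 : N5845 = N4518 := eqes L92528 L35818
theorem L92530 : N5845 = N4518 := eqc rfl L92529 rfl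
theorem L92531 : sm ga N4518 = N4757 := trfs L92530 L46122 rfl
theorem L92532 : N4757 = N4414 := eqes L92531 L35820
theorem L92533 : N4757 = N4414 := eqc rfl L92532 rfl
theorem L92540 : sm gd N4518 = N7999 := trfs L92530 L62969 rfl
theorem L92541 : N7999 = N6148 := eqes L92540 (flp_d L48567)
theorem L92542 : N7999 = N6148 := eqc rfl L92541 rfl
theorem L92547 : sm ga N6148 = N6514 := trfs L92542 L62971 rfl
theorem L92548 : N6514 = N6001 := eqes L92547 L48564
theorem L92549 : N6514 = N6001 := eqc rfl L92548 rfl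
theorem L92567 : sm gi N6001 = N4784 := trfs L92549 L51503 rfl
theorem L92568 : N4784 = N4392 := eqes L92567 (flp_i L47329)
theorem L92569 : N4784 = N4392 := eqc rfl L92568 rfl
theorem L92583 : sm gh N4392 = N3510 := trfs L92569 L37901 rfl
theorem L92584 : N3510 = N3216 := eqes L92583 (flp_h L34721)
theorem L92585 : N3510 = N3216 := eqc rfl L92584 rfl
theorem L92600 : sm gg N3216 = N4794 := trfs L92585 (flp_g L37975) rfl
theorem L92601 : N4794 = N2361 := eqes L92600 (flp_g L25490)
theorem L92602 : N4794 = N2361 := eqc rfl L92601 rfl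
theorem L92617 : sm gf N2361 = N6556 := trfs L92602 (flp_f L51802) rfl
theorem L92618 : N6556 = N1733 := eqes L92617 (flp_f L18761)
theorem L92619 : N6556 = N1733 := eqc rfl L92618 rfl
theorem L92636 : sm gh N1733 = N8966 := trfs L92619 (flp_h L70721) rfl
theorem L92637 : N8966 = N2362 := eqes L92636 L18767
theorem L92638 : N8966 = N2362 := eqc rfl L92637 rfl
theorem L92641 : sm gd N2362 = N6540 := trfs L92638 (flp_d L70715) rfl
theorem L92642 : N6540 = N1740 := eqes L92641 L18772
theorem L92643 : N6540 = N1740 := eqc rfl L92642 rfl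
theorem L92655 : sm gi N1740 = N8926 := trfs L92643 (flp_i L70430) rfl
theorem L92656 : N8926 = N2373 := eqes L92655 L18858
theorem L92657 : N8926 = N2373 := eqc rfl L92656 rfl
theorem L92661 : sm gh N2373 = N6506 := trfs L92657 (flp_h L70423) rfl
theorem L92662 : N6506 = N2249 := eqes L92661 L18865
theorem L92663 : N6506 = N2249 := eqc rfl L92662 rfl
theorem L92673 : sm gi N2249 = N4749 := trfs L92663 (flp_i L51443) rfl
theorem L92674 : N4749 = N1653 := eqes L92673 (flp_i L17857)
theorem L92675 : N4749 = N1653 := eqc rfl L92674 rfl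
theorem L92677 : sm gb N1653 = N6504 := trfs L92675 L51428 rfl
theorem L92678 : N6504 = N2244 := eqes L92677 (flp_b L17820)
theorem L92679 : N6504 = N2244 := eqc rfl L92678 rfl
theorem L92698 : sm gh N2244 = N4774 := trfs L92679 L51434 rfl
theorem L92699 : N4774 = N1650 := eqes L92698 (flp_h L17818)
theorem L92700 : N4774 = N1650 := eqc rfl L92699 rfl
theorem L92719 : sm gi N1650 = N6537 := trfs L92700 L51663 rfl
theorem L92720 : N6537 = N1737 := eqes L92719 (flp_i L13853)
theorem L92721 : N6537 = N1737 := eqc rfl L92720 rfl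
theorem L92732 : sm ge N1737 = N8961 := trfs L92721 (flp_e L70682) rfl
theorem L92733 : N8961 = N1308 := eqes L92732 L13855
theorem L92734 : N8961 = N1308 := eqc rfl L92733 rfl
theorem L92738 : sm gb N1308 = N6539 := trfs L92734 L70680 rfl
theorem L92739 : N6539 = N961 := eqes L92738 L10492
theorem L92740 : N6539 = N961 := eqc rfl L92739 rfl
theorem L92751 : sm gf N961 = N8824 := trfs L92740 (flp_f L69650) rfl
theorem L92752 : N8824 = N1310 := eqes L92751 L10503
theorem L92753 : N8824 = N1310 := eqc rfl L92752 rfl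
theorem L92759 : sm gi N1310 = N6430 := trfs L92753 (flp_i L69644) rfl
theorem L92760 : N6430 = N1774 := eqes L92759 (flp_i L14180)
theorem L92761 : N6430 = N1774 := eqc rfl L92760 rfl
theorem L92774 : sm gg N1774 = N8384 := trfs L92761 (flp_g L66060) rfl
theorem L92775 : N8384 = N2422 := eqes L92774 L19291
theorem L92776 : N8384 = N2422 := eqc rfl L92775 rfl
theorem L92789 : sm ge N2422 = N6119 := trfs L92776 (flp_e L66056) rfl
theorem L92790 : N6119 = N3302 := eqes L92789 (flp_e L26235)
theorem L92791 : N6119 = N3302 := eqc rfl L92790 rfl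
theorem L92807 : sm gi N3302 = N8385 := trfs L92791 L66063 rfl
theorem L92808 : N8385 = N2435 := eqes L92807 L26237
theorem L92809 : N8385 = N2435 := eqc rfl L92808 rfl
theorem L92810 : sm ga N2435 = N8750 := trfs L92809 (flp_a L69101) rfl
theorem L92811 : N8750 = N3054 := eqes L92810 (flp_a L24202)
theorem L92812 : N8750 = N2518 := eqc rfl L92811 L86705
theorem L92822 : sm gg N2518 = N7903 := trfs L92812 L69108 rfl
theorem L92823 : N7903 = N3434 := eqes L92822 (flp_g L27298)
theorem L92824 : N7903 = N3434 := eqc rfl L92823 rfl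
theorem L92834 : sm gi N3434 = N5776 := trfs L92824 (flp_i L62217) rfl
theorem L92835 : N5776 = N4699 := eqes L92834 L37277
theorem L92836 : N5776 = N2370 := eqc rfl L92835 L92198
theorem L92846 : sm gh N2370 = N7818 := trfs L92836 (flp_h L61571) rfl
theorem L92847 : N7818 = N3230 := eqes L92846 L25606
theorem L92848 : N7818 = N3230 := eqc rfl L92847 rfl
theorem L92852 : sm gg N3230 = N8579 := trfs L92848 (flp_g L67723) rfl
theorem L92853 : N8579 = N4411 := eqes L92852 (flp_g L34891)
theorem L92854 : N8579 = N4411 := eqc rfl L92853 rfl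
theorem L92857 : sm gf N4411 = N6259 := trfs L92854 L67721 rfl
theorem L92858 : N6259 = N6026 := eqes L92857 (flp_f L47553)
theorem L92859 : N6259 = N6026 := eqc rfl L92858 rfl
theorem L92867 : sm gd N6026 = N8461 := trfs L92859 (flp_d L66762) rfl
theorem L92868 : N8461 = N8250 := eqes L92867 L64958
theorem L92869 : N8461 = N8250 := eqc rfl L92868 rfl
theorem L92872 : sm gh N6026 = N4657 := trfs L92859 L49523 rfl
theorem L92873 : N4657 = N4410 := eqes L92872 (flp_h L47548)
theorem L92874 : N4657 = N4410 := eqc rfl L92873 rfl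
theorem L92885 : sm gg N4410 = N3404 := trfs L92874 L36977 rfl
theorem L92886 : N3404 = N3322 := eqes L92885 L34883
theorem L92887 : N3404 = N3322 := eqc rfl L92886 rfl
theorem L92898 : sm gf N3322 = N3106 := trfs L92887 L27078 rfl
theorem L92899 : N3106 = N2435 := eqes L92898 (flp_f L26381)
theorem L92900 : N3106 = N2435 := eqc rfl L92899 rfl
theorem L92914 : sm gi N2435 = N4236 := trfs L92900 L33491 rfl
theorem L92915 : N4236 = N3302 := eqes L92914 (flp_i L26237)
theorem L92916 : N4236 = N3302 := eqc rfl L92915 rfl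
theorem L92918 : sm gb N3302 = N5783 := trfs L92916 (flp_b L45636) rfl
theorem L92919 : N5783 = N4510 := eqes L92918 (flp_b L35747)
theorem L92920 : N5783 = N4510 := eqc rfl L92919 rfl
theorem L92941 : sm gg N4510 = N7907 := trfs L92920 (flp_g L62258) rfl
theorem L92942 : N7907 = N3298 := eqes L92941 (flp_g L35745)
theorem L92943 : N7907 = N3298 := eqc rfl L92942 rfl
theorem L92961 : sm gi N3298 = N5779 := trfs L92943 (flp_i L62251) rfl
theorem L92962 : N5779 = N2431 := eqes L92961 L26199
theorem L92963 : N5779 = N2431 := eqc rfl L92962 rfl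
theorem L92975 : sm gh N2431 = N7821 := trfs L92963 (flp_h L61596) rfl
theorem L92976 : N7821 = N3319 := eqes L92975 L26360
theorem L92977 : N7821 = N3319 := eqc rfl L92976 rfl
theorem L92980 : sm gg N3319 = N5722 := trfs L92977 L61594 rfl
theorem L92981 : N5722 = N4539 := eqes L92980 (flp_g L35987)
theorem L92982 : N5722 = N4539 := eqc rfl L92981 rfl
theorem L92990 : sm gd N4539 = N7763 := trfs L92982 (flp_d L61162) rfl
theorem L92991 : N7763 = N6210 := eqes L92990 L49096
theorem L92992 : N7763 = N6210 := eqc rfl L92991 rfl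
theorem L92996 : sm gf N4539 = N6261 := trfs L92982 (flp_f L49537) rfl
theorem L92997 : N6261 = N6209 := eqes L92996 (flp_f L49094)
theorem L92998 : N6261 = N6209 := eqc rfl L92997 rfl
theorem L93001 : sm ga N6209 = N8585 := trfs L92998 L67774 rfl
theorem L93002 : N8585 = N8488 := eqes L93001 (flp_a L66980)
theorem L93003 : N8585 = N8488 := eqc rfl L93002 rfl
theorem L93005 : sm gc N6209 = N8576 := trfs L92998 (flp_c L67697) rfl
theorem L93006 : N8576 = N8497 := eqes L93005 (flp_c L67047)
theorem L93007 : N8576 = N8497 := eqc rfl L93006 rfl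
theorem L93008 : sm gd N6209 = N8463 := trfs L92998 (flp_d L66774) rfl
theorem L93009 : N8463 = N8511 := eqes L93008 L67153
theorem L93010 : N8511 = N8463 := (eqc rfl L93009 rfl).symm
theorem L93015 : sm gb N8463 = N6214 := trfs L93010 L67155 rfl
theorem L93016 : N6214 = N6176 := eqes L93015 (flp_b L66772)
theorem L93017 : N6214 = N6176 := eqc rfl L93016 rfl
theorem L93018 : sm gd N8463 = N6209 := trfs L93010 (flp_d L67153) rfl
theorem L93023 : sm ga N6176 = N7759 := trfs L93017 (flp_a L61127) rfl
theorem L93024 : N7759 = N6029 := eqes L93023 L48833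
theorem L93025 : N7759 = N6029 := eqc rfl L93024 rfl
theorem L93034 : sm gf N6176 = N4544 := trfs L93017 L49125 rfl
theorem L93035 : N4544 = N5680 := eqes L93034 L48835
theorem L93036 : N5680 = N4544 := (eqc rfl L93035 rfl).symm
theorem L93041 : sm ga N4544 = N4546 := trfs L93036 L44844 rfl
theorem L93042 : N4546 = N5678 := eqes L93041 (flp_a L44826)
theorem L93043 : N5678 = N4546 := (eqc rfl L93042 rfl).symm
theorem L93045 : sm gc N4544 = N4163 := trfs L93036 (flp_c L44842) rfl
theorem L93046 : N4163 = N6216 := eqes L93045 L49135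
theorem L93047 : N6216 = N4163 := (eqc rfl L93046 rfl).symm
theorem L93050 : sm gf N4544 = N6176 := trfs L93036 (flp_f L48835) rfl
theorem L93065 : sm gc N4163 = N4544 := trfs L93047 (flp_c L49135) rfl
theorem L93075 : sm gi N4163 = N8522 := trfs L93047 L67225 rfl
theorem L93076 : N8522 = N5681 := eqes L93075 L44850
theorem L93077 : N8522 = N5681 := eqc rfl L93076 rfl
theorem L93082 : sm gg N5681 = N6219 := trfs L93077 L67232 rfl
theorem L93083 : N6219 = N7762 := eqes L93082 (flp_g L61158)
theorem L93084 : N7762 = N6219 := (eqc rfl L93083 rfl).symm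
theorem L93089 : sm gg N6219 = N5681 := trfs L93084 L61158 rfl
theorem L93117 : sm ga N4546 = N4544 := trfs L93043 L44826 rfl
theorem L93123 : sm gg N4546 = N4163 := trfs L93043 L44828 rfl
theorem L93132 : sm gg N6029 = N8459 := trfs L93025 (flp_g L66739) rfl
theorem L93133 : N8459 = N8252 := eqes L93132 (flp_g L64978)
theorem L93134 : N8459 = N8252 := eqc rfl L93133 rfl
theorem L93139 : sm gf N8252 = N6174 := trfs L93134 L66737 rfl
theorem L93142 : sm gb N8497 = N6255 := trfs L93007 (flp_b L67690) rfl
theorem L93143 : N6255 = N6295 := eqes L93142 L67045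
theorem L93144 : N6295 = N6255 := (eqc rfl L93143 rfl).symm
theorem L93147 : sm gh N8497 = N6371 := trfs L93007 L67695 rfl
theorem L93148 : N6371 = N6198 := eqes L93147 (flp_h L67043)
theorem L93149 : N6371 = N6198 := eqc rfl L93148 rfl
theorem L93167 : sm gi N6198 = N8746 := trfs L93149 L69067 rfl
theorem L93168 : N8746 = N8443 := eqes L93167 (flp_i L66601)
theorem L93169 : N8746 = N8377 := eqc rfl L93168 L92118
theorem L93170 : sm gb N8377 = N6372 := trfs L93169 L69069 rfl
theorem L93171 : N6372 = N6114 := eqes L93170 (flp_b L66003)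
theorem L93172 : N6372 = N6114 := eqc rfl L93171 rfl
theorem L93194 : sm gh N6114 = N8747 := trfs L93172 L69076 rfl
theorem L93195 : N8747 = N8304 := eqes L93194 (flp_h L65396)
theorem L93196 : N8747 = N8304 := eqc rfl L93195 rfl
theorem L93203 : sm gf N8304 = N7900 := trfs L93196 L69081 rfl
theorem L93204 : N7900 = N6242 := eqes L93203 L92132
theorem L93205 : N7900 = N6242 := eqc rfl L93204 rfl
theorem L93209 : sm ge N6242 = N5906 := trfs L93205 L62202 rfl
theorem L93210 : N5906 = N4562 := eqes L93209 L49381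
theorem L93211 : N5906 = N4562 := eqc rfl L93210 rfl
theorem L93228 : sm gi N4562 = N7988 := trfs L93211 (flp_i L62881) rfl
theorem L93229 : N7988 = N6246 := eqes L93228 L49407
theorem L93230 : N7988 = N6246 := eqc rfl L93229 rfl
theorem L93233 : sm gh N6246 = N5835 := trfs L93230 (flp_h L62876) rfl
theorem L93234 : N5835 = N4602 := eqes L93233 L49414
theorem L93235 : N5835 = N4602 := eqc rfl L93234 rfl
theorem L93244 : sm ge N4602 = N7816 := trfs L93235 (flp_e L61555) rfl
theorem L93245 : N7816 = N6297 := eqes L93244 (flp_e L49812)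
theorem L93246 : N7816 = N6297 := eqc rfl L93245 rfl
theorem L93251 : sm gi N4602 = N4272 := trfs L93235 (flp_i L46041) rfl
theorem L93252 : N4272 = N3362 := eqes L93251 (flp_i L36487)
theorem L93253 : N4272 = N3362 := eqc rfl L93252 rfl
theorem L93262 : sm ge N3362 = N5716 := trfs L93253 (flp_e L45112) rfl
theorem L93263 : N5716 = N4598 := eqes L93262 (flp_e L36466)
theorem L93264 : N5716 = N4598 := eqc rfl L93263 rfl
theorem L93269 : sm gh N3362 = N3166 := trfs L93253 L33786 rfl
theorem L93270 : N3166 = N2461 := eqes L93269 (flp_h L26707)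
theorem L93271 : N3166 = N2461 := eqc rfl L93270 rfl
theorem L93282 : sm gg N2461 = N4319 := trfs L93271 (flp_g L34171) rfl
theorem L93283 : N4319 = N1801 := eqes L93282 (flp_g L19600)
theorem L93284 : N4319 = N1801 := eqc rfl L93283 rfl
theorem L93303 : sm gi N1801 = N5902 := trfs L93284 L46573 rfl
theorem L93304 : N5902 = N2443 := eqes L93303 (flp_i L19468)
theorem L93305 : N5902 = N2443 := eqc rfl L93304 rfl
theorem L93307 : sm gb N2443 = N8080 := trfs L93305 (flp_b L63610) rfl
theorem L93308 : N8080 = N3296 := eqes L93307 (flp_b L26178)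
theorem L93309 : N8080 = N3296 := eqc rfl L93308 rfl
theorem L93327 : sm gg N3296 = N5905 := trfs L93309 L63614 rfl
theorem L93328 : N5905 = N4506 := eqes L93327 L35708
theorem L93329 : N5905 = N4506 := eqc rfl L93328 rfl
theorem L93336 : sm gd N4506 = N8059 := trfs L93329 (flp_d L63458) rfl
theorem L93337 : N8059 = N3543 := eqes L93336 L35714
theorem L93338 : N8059 = N3543 := eqc rfl L93337 rfl
theorem L93350 : sm gi N3543 = N5883 := trfs L93338 (flp_i L63452) rfl
theorem L93351 : N5883 = N2612 := eqes L93350 L28116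
theorem L93352 : N5883 = N2612 := eqc rfl L93351 rfl
theorem L93368 : sm gh N2612 = N8042 := trfs L93352 (flp_h L63333) rfl
theorem L93369 : N8042 = N3570 := eqes L93368 L28325
theorem L93370 : N8042 = N3570 := eqc rfl L93369 rfl
theorem L93372 : sm gc N3570 = N5924 := trfs L93370 L63335 rfl
theorem L93373 : N5924 = N2618 := eqes L93372 L28329
theorem L93374 : N5924 = N2618 := eqc rfl L93373 rfl
theorem L93391 : sm gi N2618 = N8111 := trfs L93374 L63841 rfl
theorem L93392 : N8111 = N3579 := eqes L93391 L28393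
theorem L93393 : N8111 = N3579 := eqc rfl L93392 rfl
theorem L93394 : sm gb N3579 = N5926 := trfs L93393 L63843 rfl
theorem L93395 : N5926 = N2624 := eqes L93394 L28395
theorem L93396 : N5926 = N2624 := eqc rfl L93395 rfl
theorem L93409 : sm gh N2624 = N8115 := trfs L93396 L63868 rfl
theorem L93410 : N8115 = N3555 := eqes L93409 (flp_h L28215)
theorem L93411 : N8115 = N3555 := eqc rfl L93410 rfl
theorem L93416 : sm gi N3555 = N5944 := trfs L93411 L63874 rfl
theorem L93417 : N5944 = N2602 := eqes L93416 (flp_i L28207)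
theorem L93418 : N5944 = N2602 := eqc rfl L93417 rfl
theorem L93434 : sm gh N2602 = N4347 := trfs L93418 (flp_h L46876) rfl
theorem L93435 : N4347 = N1905 := eqes L93434 (flp_h L20694)
theorem L93436 : N4347 = N1905 := eqc rfl L93435 rfl
theorem L93452 : sm gi N1905 = N3182 := trfs L93436 (flp_i L34365) rfl
theorem L93453 : N3182 = N1406 := eqes L93452 L15202
theorem L93454 : N3182 = N1406 := eqc rfl L93453 rfl
theorem L93465 : sm gg N1406 = N4342 := trfs L93454 (flp_g L34336) rfl
theorem L93466 : N4342 = N1030 := eqes L93465 (flp_g L11248)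
theorem L93467 : N4342 = N1030 := eqc rfl L93466 rfl
theorem L93483 : sm gh N1030 = N5921 := trfs L93467 (flp_h L46720) rfl
theorem L93484 : N5921 = N1407 := eqes L93483 L11256
theorem L93485 : N5921 = N1407 := eqc rfl L93484 rfl
theorem L93496 : sm gf N1407 = N8100 := trfs L93485 (flp_f L63762) rfl
theorem L93497 : N8100 = N1031 := eqes L93496 L11261
theorem L93498 : N8100 = N1031 := eqc rfl L93497 rfl
theorem L93502 : sm gc N1031 = N5919 := trfs L93498 (flp_c L63759) rfl
theorem L93503 : N5919 = N770 := eqes L93502 L8287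
theorem L93504 : N5919 = N770 := eqc rfl L93503 rfl
theorem L93523 : sm gi N770 = N8102 := trfs L93504 L63774 rfl
theorem L93524 : N8102 = N1048 := eqes L93523 L8412
theorem L93525 : N8102 = N1048 := eqc rfl L93524 rfl
theorem L93530 : sm gf N1048 = N5923 := trfs L93525 L63779 rfl
theorem L93531 : N5923 = N1432 := eqes L93530 (flp_f L11451)
theorem L93532 : N5923 = N1432 := eqc rfl L93531 rfl
theorem L93544 : sm gh N1432 = N8108 := trfs L93532 L63820 rfl
theorem L93545 : N8108 = N1935 := eqes L93544 (flp_h L15434)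
theorem L93546 : N8108 = N1935 := eqc rfl L93545 rfl
theorem L93551 : sm gi N1935 = N5938 := trfs L93546 L63826 rfl
theorem L93552 : N5938 = N1417 := eqes L93551 (flp_i L15428)
theorem L93553 : N5938 = N1417 := eqc rfl L93552 rfl
theorem L93558 : sm ge N1417 = N8133 := trfs L93553 (flp_e L64004) rfl
theorem L93559 : N8133 = N1933 := eqes L93558 (flp_e L15418)
theorem L93560 : N8133 = N1933 := eqc rfl L93559 rfl
theorem L93572 : sm gh N1933 = N5937 := trfs L93560 (flp_h L64001) rfl
theorem L93573 : N5937 = N1415 := eqes L93572 (flp_h L15415)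
theorem L93574 : N5937 = N1415 := eqc rfl L93573 rfl
theorem L93587 : sm gi N1415 = N4343 := trfs L93574 (flp_i L46828) rfl
theorem L93588 : N4343 = N1045 := eqes L93587 L11325
theorem L93589 : N4343 = N1045 := eqc rfl L93588 rfl
theorem L93602 : sm gh N1045 = N5922 := trfs L93589 (flp_h L46728) rfl
theorem L93603 : N5922 = N1430 := eqes L93602 L11431
theorem L93604 : N5922 = N1430 := eqc rfl L93603 rfl
theorem L93615 : sm gg N1430 = N4338 := trfs L93604 L46726 rfl
theorem L93616 : N4338 = N1953 := eqes L93615 (flp_g L15561)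
theorem L93617 : N4338 = N1953 := eqc rfl L93616 rfl
theorem L93626 : sm gf N1953 = N5927 := trfs L93617 L46758 rfl
theorem L93627 : N5927 = N2669 := eqes L93626 (flp_f L21210)
theorem L93628 : N5927 = N2669 := eqc rfl L93627 rfl
theorem L93654 : sm gc N2669 = N8113 := trfs L93628 (flp_c L63856) rfl
theorem L93655 : N8113 = N3580 := eqes L93654 (flp_c L28404)
theorem L93656 : N8113 = N3580 := eqc rfl L93655 rfl
theorem L93664 : sm gh N3580 = N5942 := trfs L93656 L63858 rfl
theorem L93665 : N5942 = N2620 := eqes L93664 (flp_h L28401)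
theorem L93666 : N5942 = N2620 := eqc rfl L93665 rfl
theorem L93668 : sm gb N2620 = N8136 := trfs L93666 (flp_b L64024) rfl
theorem L93669 : N8136 = N3575 := eqes L93668 (flp_b L28366)
theorem L93670 : N8136 = N3575 := eqc rfl L93669 rfl
theorem L93686 : sm gf N3575 = N5940 := trfs L93670 (flp_f L64022) rfl
theorem L93687 : N5940 = N2616 := eqes L93686 (flp_f L28364)
theorem L93688 : N5940 = N2616 := eqc rfl L93687 rfl
theorem L93689 : sm ga N2616 = N8134 := trfs L93688 (flp_a L64010) rfl
theorem L93690 : N8134 = N3563 := eqes L93689 (flp_a L28271)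
theorem L93691 : N8134 = N3563 := eqc rfl L93690 rfl
theorem L93711 : sm ge N3563 = N5939 := trfs L93691 (flp_e L64008) rfl
theorem L93712 : N5939 = N2608 := eqes L93711 L28275
theorem L93713 : N5939 = N2608 := eqc rfl L93712 rfl
theorem L93725 : sm gi N2608 = N8135 := trfs L93713 L64014 rfl
theorem L93726 : N8135 = N3539 := eqes L93725 (flp_i L28082)
theorem L93727 : N8135 = N3539 := eqc rfl L93726 rfl
theorem L93730 : sm gd N3539 = N5965 := trfs L93727 L64019 rfl
theorem L93731 : N5965 = N2593 := eqes L93730 L28080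
theorem L93732 : N5965 = N2593 := eqc rfl L93731 rfl
theorem L93746 : sm gh N2593 = N8165 := trfs L93732 L64250 rfl
theorem L93747 : N8165 = N3524 := eqes L93746 (flp_h L27963)
theorem L93748 : N8165 = N3524 := eqc rfl L93747 rfl
theorem L93754 : sm gc N3524 = N5978 := trfs L93748 L64255 rfl
theorem L93755 : N5978 = N4487 := eqes L93754 (flp_c L35534)
theorem L93756 : N5978 = N4487 := eqc rfl L93755 rfl
theorem L93771 : sm gg N4487 = N8178 := trfs L93756 (flp_g L64368) rfl
theorem L93772 : N8178 = N3283 := eqes L93771 (flp_g L35528)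
theorem L93773 : N8178 = N3283 := eqc rfl L93772 rfl
theorem L93783 : sm gh N3283 = N5975 := trfs L93773 (flp_h L64361) rfl
theorem L93784 : N5975 = N2416 := eqes L93783 L26060
theorem L93785 : N5975 = N2416 := eqc rfl L93784 rfl
theorem L93802 : sm gi N2416 = N4374 := trfs L93785 (flp_i L47130) rfl
theorem L93803 : N4374 = N1778 := eqes L93802 L19241
theorem L93804 : N4374 = N1778 := eqc rfl L93803 rfl
theorem L93808 : sm gb N1778 = N3505 := trfs L93804 L34588 rfl
theorem L93809 : N3505 = N2241 := eqes L93808 (flp_b L17801)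
theorem L93810 : N3505 = N2241 := eqc rfl L93809 rfl
theorem L93821 : sm gg N1778 = N3206 := trfs L93804 L34585 rfl
theorem L93822 : N3206 = N2428 := eqes L93821 L19340
theorem L93823 : N3206 = N2428 := eqc rfl L93822 rfl
theorem L93828 : sm gb N2428 = N2571 := trfs L93823 L25419 rfl
theorem L93829 : N2571 = N3047 := eqes L93828 (flp_b L24155)
theorem L93830 : N3047 = N2571 := (eqc rfl L93829 rfl).symm
theorem L93832 : sm gd N2428 = N4330 := trfs L93823 (flp_d L34247) rfl
theorem L93833 : N4330 = N3310 := eqes L93832 (flp_d L26299)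
theorem L93834 : N4330 = N3310 := eqc rfl L93833 rfl
theorem L93842 : sm gb N3310 = N3497 := trfs L93834 L34250 rfl
theorem L93843 : N3497 = N4149 := eqes L93842 (flp_b L32819)
theorem L93844 : N4149 = N3497 := (eqc rfl L93843 rfl).symm
theorem L93848 : sm ge N3310 = N5782 := trfs L93834 (flp_e L45630) rfl
theorem L93849 : N5782 = N4526 := eqes L93848 (flp_e L35887)
theorem L93850 : N5782 = N4526 := eqc rfl L93849 rfl
theorem L93853 : sm gh N3310 = N5843 := trfs L93834 (flp_h L46110) rfl
theorem L93854 : N5843 = N4528 := eqes L93853 L35895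
theorem L93855 : N5843 = N4528 := eqc rfl L93854 rfl
theorem L93856 : sm gi N3310 = N5915 := trfs L93834 L46669 rfl
theorem L93857 : N5915 = N4502 := eqes L93856 (flp_i L35676)
theorem L93858 : N5915 = N4502 := eqc rfl L93857 rfl
theorem L93868 : sm gh N4502 = N8095 := trfs L93858 L63722 rfl
theorem L93869 : N8095 = N6158 := eqes L93868 L48664
theorem L93870 : N8095 = N6158 := eqc rfl L93869 rfl
theorem L93872 : sm gb N6158 = N6545 := trfs L93870 L63726 rfl
theorem L93873 : N6545 = N6011 := eqes L93872 L48668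
theorem L93874 : N6545 = N6011 := eqc rfl L93873 rfl
theorem L93889 : sm gi N6011 = N8931 := trfs L93874 (flp_i L70467) rfl
theorem L93890 : N8931 = N8231 := eqes L93889 L64797
theorem L93891 : N8931 = N8231 := eqc rfl L93890 rfl
theorem L93894 : sm gh N8231 = N6512 := trfs L93891 (flp_h L70462) rfl
theorem L93895 : N6512 = N7740 := eqes L93894 L64804
theorem L93896 : N7740 = N6512 := (eqc rfl L93895 rfl).symm
theorem L93898 : sm gb N6512 = N6195 := trfs L93896 L60988 rfl
theorem L93899 : N6195 = N7997 := eqes L93898 (flp_b L62958)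
theorem L93900 : N7997 = N6195 := (eqc rfl L93899 rfl).symm
theorem L93903 : sm gg N6512 = N5663 := trfs L93896 L60992 rfl
theorem L93904 : N5663 = N8928 := eqes L93903 (flp_g L70444)
theorem L93905 : N8928 = N5663 := (eqc rfl L93904 rfl).symm
theorem L93906 : sm gh N6512 = N8231 := trfs L93896 (flp_h L64804) rfl
theorem L93908 : sm gi N6512 = N5662 := trfs L93896 (flp_i L60984) rfl
theorem L93909 : N5662 = N4755 := eqes L93908 (flp_i L51487)
theorem L93910 : N5662 = N4755 := eqc rfl L93909 rfl
theorem L93914 : sm gc N4755 = N7731 := trfs L93910 (flp_c L60914) rfl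
theorem L93915 : N7731 = N6501 := eqes L93914 (flp_c L51409)
theorem L93916 : N7731 = N6501 := eqc rfl L93915 rfl
theorem L93920 : sm gg N4755 = N4150 := trfs L93910 L44707 rfl
theorem L93921 : N4150 = N6509 := eqes L93920 (flp_g L51468)
theorem L93922 : N6509 = N4150 := (eqc rfl L93921 rfl).symm
theorem L93936 : sm gg N4150 = N4755 := trfs L93922 L51468 rfl
theorem L93938 : sm gh N4150 = N4779 := trfs L93922 L51470 rfl
theorem L93939 : N4779 = N3045 := eqes L93938 (flp_h L32824)
theorem L93940 : N4779 = N3045 := eqc rfl L93939 rfl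
theorem L93944 : sm gc N3045 = N6529 := trfs L93940 (flp_c L51611) rfl
theorem L93945 : N6529 = N4146 := eqes L93944 (flp_c L32798)
theorem L93946 : N6529 = N4146 := eqc rfl L93945 rfl
theorem L93954 : sm gi N3045 = N6542 := trfs L93940 L51698 rfl
theorem L93955 : N6542 = N3220 := eqes L93954 (flp_i L25528)
theorem L93956 : N6542 = N3220 := eqc rfl L93955 rfl
theorem L93959 : sm gc N3220 = N8952 := trfs L93956 (flp_c L70621) rfl
theorem L93960 : N8952 = N4395 := eqes L93959 (flp_c L34751)
theorem L93961 : N8952 = N4395 := eqc rfl L93960 rfl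
theorem L93969 : sm gg N4395 = N6532 := trfs L93961 L70624 rfl
theorem L93970 : N6532 = N6005 := eqes L93969 L47366
theorem L93971 : N6532 = N6005 := eqc rfl L93970 rfl
theorem L93976 : sm gb N6005 = N8942 := trfs L93971 (flp_b L70549) rfl
theorem L93977 : N8942 = N8215 := eqes L93976 (flp_b L64658)
theorem L93978 : N8942 = N8215 := eqc rfl L93977 rfl
theorem L93981 : sm ge N6005 = N8817 := trfs L93971 (flp_e L69607) rfl
theorem L93982 : N8817 = N8220 := eqes L93981 (flp_e L64707)
theorem L93983 : N8817 = N8220 := eqc rfl L93982 rfl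
theorem L93986 : sm gi N6005 = N4771 := trfs L93971 (flp_i L51631) rfl
theorem L93987 : N4771 = N5656 := eqes L93986 L47373
theorem L93988 : N5656 = N4771 := (eqc rfl L93987 rfl).symm
theorem L93990 : sm gb N4771 = N7724 := trfs L93988 (flp_b L60855) rfl
theorem L93991 : N7724 = N6521 := eqes L93990 (flp_b L51556)
theorem L93992 : N7724 = N6521 := eqc rfl L93991 rfl
theorem L94002 : sm gi N4771 = N6005 := trfs L93988 (flp_i L47373) rfl
theorem L94010 : sm ga N6521 = N5683 := trfs L93992 L60853 rfl
theorem L94011 : N5683 = N4762 := eqes L94010 (flp_a L51552)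
theorem L94012 : N5683 = N4762 := eqc rfl L94011 rfl
theorem L94013 : sm gc N6521 = N6179 := trfs L93992 L60857 rfl
theorem L94014 : N6179 = N8033 := eqes L94013 (flp_c L63263)
theorem L94015 : N8033 = N6179 := (eqc rfl L94014 rfl).symm
theorem L94018 : sm gg N6521 = N5653 := trfs L93992 (flp_g L60851) rfl
theorem L94019 : N5653 = N8939 := eqes L94018 (flp_g L70526)
theorem L94020 : N8939 = N5653 := (eqc rfl L94019 rfl).symm
theorem L94023 : sm ga N5653 = N6518 := trfs L94020 (flp_a L70523) rfl
theorem L94024 : N6518 = N4166 := eqes L94023 L44631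
theorem L94025 : N6518 = N4166 := eqc rfl L94024 rfl
theorem L94028 : sm gg N5653 = N6521 := trfs L94020 L70526 rfl
theorem L94035 : sm ge N4166 = N8786 := trfs L94025 (flp_e L69387) rfl
theorem L94036 : N8786 = N5682 := eqes L94035 L44857
theorem L94037 : N8786 = N5682 := eqc rfl L94036 rfl
theorem L94043 : sm gh N4166 = N8877 := trfs L94025 (flp_h L70066) rfl
theorem L94044 : N8877 = N5684 := eqes L94043 L44871
theorem L94045 : N8877 = N5684 := eqc rfl L94044 rfl
theorem L94046 : sm gi N4166 = N8940 := trfs L94025 L70530 rfl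
theorem L94047 : N8940 = N4415 := eqes L94046 (flp_i L34922)
theorem L94048 : N8940 = N4415 := eqc rfl L94047 rfl
theorem L94051 : sm gg N4415 = N6522 := trfs L94048 L70535 rfl
theorem L94052 : N6522 = N6032 := eqes L94051 L47593
theorem L94053 : N6522 = N6032 := eqc rfl L94052 rfl
theorem L94062 : sm ge N6032 = N8790 := trfs L94053 (flp_e L69419) rfl
theorem L94063 : N8790 = N8258 := eqes L94062 (flp_e L65024)
theorem L94064 : N8790 = N8258 := eqc rfl L94063 rfl
theorem L94066 : sm gh N6032 = N8943 := trfs L94053 L70553 rfl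
theorem L94067 : N8943 = N8260 := eqes L94066 L65036
theorem L94068 : N8943 = N8260 := eqc rfl L94067 rfl
theorem L94071 : sm gb N8260 = N6523 := trfs L94068 L70555 rfl
theorem L94072 : N6523 = N6039 := eqes L94071 L65038
theorem L94073 : N6523 = N6039 := eqc rfl L94072 rfl
theorem L94077 : sm gd N6039 = N8944 := trfs L94073 L70558 rfl
theorem L94078 : N8944 = N8272 := eqes L94077 L65137
theorem L94079 : N8944 = N8272 := eqc rfl L94078 rfl
theorem L94084 : sm gi N6039 = N8882 := trfs L94073 (flp_i L70104) rfl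
theorem L94085 : N8882 = N8273 := eqes L94084 L65146
theorem L94086 : N8882 = N8273 := eqc rfl L94085 rfl
theorem L94090 : sm gh N8273 = N6473 := trfs L94086 (flp_h L70097) rfl
theorem L94091 : N6473 = N7782 := eqes L94090 L65155
theorem L94092 : N7782 = N6473 := (eqc rfl L94091 rfl).symm
theorem L94098 : sm gh N6473 = N8273 := trfs L94092 (flp_h L65155) rfl
theorem L94101 : sm ga N8272 = N6534 := trfs L94079 L70560 rfl
theorem L94102 : N6534 = N6055 := eqes L94101 L65139
theorem L94103 : N6534 = N6055 := eqc rfl L94102 rfl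
theorem L94107 : sm gb N6055 = N8956 := trfs L94103 (flp_b L70649) rfl
theorem L94108 : N8956 = N8238 := eqes L94107 (flp_b L64865)
theorem L94109 : N8956 = N8238 := eqc rfl L94108 rfl
theorem L94126 : sm gd N8238 = N6533 := trfs L94109 (flp_d L70647) rfl
theorem L94127 : N6533 = N6016 := eqes L94126 (flp_d L64863)
theorem L94128 : N6533 = N6016 := eqc rfl L94127 rfl
theorem L94138 : sm gi N6016 = N8919 := trfs L94128 (flp_i L70380) rfl
theorem L94139 : N8919 = N8239 := eqes L94138 L64871
theorem L94140 : N8919 = N8239 := eqc rfl L94139 rfl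
theorem L94144 : sm gh N8239 = N6502 := trfs L94140 (flp_h L70373) rfl
theorem L94145 : N6502 = N7748 := eqes L94144 L64880
theorem L94146 : N7748 = N6502 := (eqc rfl L94145 rfl).symm
theorem L94152 : sm gh N6502 = N8239 := trfs L94146 (flp_h L64880) rfl
theorem L94156 : sm gi N8258 = N6404 := trfs L94064 (flp_i L69415) rfl
theorem L94157 : N6404 = N7767 := eqes L94156 L65026
theorem L94158 : N7767 = N6404 := (eqc rfl L94157 rfl).symm
theorem L94162 : sm gc N6404 = N6265 := trfs L94158 L61190 rfl
theorem L94163 : N6265 = N7863 := eqes L94162 (flp_c L61947)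
theorem L94164 : N7863 = N6265 := (eqc rfl L94163 rfl).symm
theorem L94168 : sm gi N6404 = N8258 := trfs L94158 (flp_i L65026) rfl
theorem L94171 : sm gc N6265 = N6404 := trfs L94164 L61947 rfl
theorem L94173 : sm ge N6265 = N5868 := trfs L94164 L61945 rfl
theorem L94174 : N5868 = N4578 := eqes L94173 L49571
theorem L94175 : N5868 = N4578 := eqc rfl L94174 rfl
theorem L94176 : sm gf N6265 = N8713 := trfs L94164 (flp_f L68808) rfl
theorem L94177 : N8713 = N8591 := eqes L94176 L67821
theorem L94178 : N8713 = N8591 := eqc rfl L94177 rfl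
theorem L94179 : sm gb N8591 = N6349 := trfs L94178 (flp_b L68805) rfl
theorem L94180 : N6349 = N6275 := eqes L94179 L67823
theorem L94181 : N6349 = N6275 := eqc rfl L94180 rfl
theorem L94182 : sm gc N8591 = N8350 := trfs L94178 L68810 rfl
theorem L94187 : sm gd N6275 = N8700 := trfs L94181 (flp_d L68688) rfl
theorem L94188 : N8700 = N8605 := eqes L94187 (flp_d L67924)
theorem L94189 : N8700 = N8605 := eqc rfl L94188 rfl
theorem L94192 : sm gg N6275 = N8711 := trfs L94181 (flp_g L68792) rfl
theorem L94193 : N8711 = N8268 := eqes L94192 (flp_g L65107)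
theorem L94194 : N8711 = N8268 := eqc rfl L94193 rfl
theorem L94195 : sm gh N6275 = N8552 := trfs L94181 (flp_h L67508) rfl
theorem L94196 : N8552 = N8609 := eqes L94195 L67950
theorem L94197 : N8609 = N8552 := (eqc rfl L94196 rfl).symm
theorem L94203 : sm gf N8552 = N6276 := trfs L94197 L67957 rfl
theorem L94204 : N6276 = N7791 := eqes L94203 L67506
theorem L94205 : N7791 = N6276 := (eqc rfl L94204 rfl).symm
theorem L94206 : sm gh N8552 = N6275 := trfs L94197 (flp_h L67950) rfl
theorem L94211 : sm gf N6276 = N8552 := trfs L94205 (flp_f L67506) rfl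
theorem L94214 : sm ga N8268 = N6369 := trfs L94194 L68789 rfl
theorem L94215 : N6369 = N6051 := eqes L94214 L65100
theorem L94216 : N6369 = N6051 := eqc rfl L94215 rfl
theorem L94231 : sm gh N6051 = N8574 := trfs L94216 (flp_h L67679) rfl
theorem L94232 : N8574 = N8288 := eqes L94231 L65277
theorem L94233 : N8574 = N8288 := eqc rfl L94232 rfl
theorem L94235 : sm gc N8288 = N6253 := trfs L94233 (flp_c L67674) rfl
theorem L94236 : N6253 = N6062 := eqes L94235 L65279
theorem L94237 : N6253 = N6062 := eqc rfl L94236 rfl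
theorem L94243 : sm gd N6062 = N4568 := trfs L94237 (flp_d L49460) rfl
theorem L94244 : N4568 = N8302 := eqes L94243 L65370
theorem L94245 : N8302 = N4568 := (eqc rfl L94244 rfl).symm
theorem L94250 : sm gg N6062 = N4569 := trfs L94237 L49464 rfl
theorem L94251 : N4569 = N4608 := eqes L94250 L47847
theorem L94252 : N4608 = N4569 := (eqc rfl L94251 rfl).symm
theorem L94262 : sm gg N4569 = N6062 := trfs L94252 (flp_g L47847) rfl
theorem L94264 : sm gh N4569 = N3367 := trfs L94252 (flp_h L36528) rfl
theorem L94265 : N3367 = N3398 := eqes L94264 L36239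
theorem L94266 : N3398 = N3367 := (eqc rfl L94265 rfl).symm
theorem L94267 : sm gi N4569 = N6310 := trfs L94252 L49897 rfl
theorem L94268 : N6310 = N6256 := eqes L94267 L49486
theorem L94269 : N6310 = N6256 := eqc rfl L94268 rfl
theorem L94279 : sm gf N6256 = N4610 := trfs L94269 L49902 rfl
theorem L94280 : N4610 = N5717 := eqes L94279 L49493
theorem L94281 : N5717 = N4610 := (eqc rfl L94280 rfl).symm
theorem L94284 : sm gh N6256 = N8573 := trfs L94269 (flp_h L67672) rfl
theorem L94285 : N8573 = N8578 := eqes L94284 L67706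
theorem L94286 : N8578 = N8573 := (eqc rfl L94285 rfl).symm
theorem L94289 : sm gd N8573 = N6064 := trfs L94286 L67713 L86766
theorem L94291 : N8573 = N8305 := eqes (flp_d L94289) (flp_d L65402)
theorem L94292 : N8573 = N8305 := eqc rfl L94291 rfl
theorem L94293 : N8578 = N8305 := L94286.trans L94292
theorem L94295 : sm gf N8305 = N7817 := trfs L94293 L67711 rfl
theorem L94297 : sm gh N8305 = N6256 := trfs L94293 (flp_h L67706) rfl
theorem L94302 : sm gf N8305 = N6254 := trfs L94292 L67668 rfl
theorem L94303 : N6254 = N7817 := eqes L94302 L94295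
theorem L94304 : N7817 = N6254 := (eqc rfl L94303 rfl).symm
theorem L94312 : sm gf N6254 = N8305 := trfs L94304 (flp_f L94295) rfl
theorem L94336 : sm gd N4610 = N4188 := trfs L94281 L45120 rfl
theorem L94337 : N4188 = N6312 := eqes L94336 (flp_d L49916)
theorem L94338 : N6312 = N4188 := (eqc rfl L94337 rfl).symm
theorem L94340 : sm gf N4610 = N6256 := trfs L94281 (flp_f L49493) rfl
theorem L94342 : sm gg N4610 = N7814 := trfs L94281 (flp_g L61541) rfl
theorem L94343 : N7814 = N3370 := eqes L94342 L36551
theorem L94344 : N7814 = N3370 := eqc rfl L94343 rfl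
theorem L94348 : sm ge N3370 = N5833 := trfs L94344 L61539 rfl
theorem L94349 : N5833 = N2468 := eqes L94348 L26769
theorem L94350 : N5833 = N2468 := eqc rfl L94349 rfl
theorem L94365 : sm gi N2468 = N4270 := trfs L94350 (flp_i L46026) rfl
theorem L94366 : N4270 = N1805 := eqes L94365 (flp_i L19648)
theorem L94367 : N4270 = N1805 := eqc rfl L94366 rfl
theorem L94375 : sm gf N1805 = N5830 := trfs L94367 (flp_f L46006) rfl
theorem L94376 : N5830 = N1323 := eqes L94375 L14423
theorem L94377 : N5830 = N1323 := eqc rfl L94376 rfl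
theorem L94396 : sm gh N1323 = N4317 := trfs L94377 L46009 rfl
theorem L94397 : N4317 = N970 := eqes L94396 (flp_h L10608)
theorem L94398 : N4317 = N970 := eqc rfl L94397 rfl
theorem L94404 : sm ge N970 = N5899 := trfs L94398 L46551 rfl
theorem L94405 : N5899 = N1284 := eqes L94404 (flp_e L10277)
theorem L94406 : N5899 = N1284 := eqc rfl L94405 rfl
theorem L94421 : sm gi N1284 = N8077 := trfs L94406 L63585 rfl
theorem L94422 : N8077 = N1222 := eqes L94421 L10275
theorem L94423 : N8077 = N1222 := eqc rfl L94422 rfl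
theorem L94424 : sm gb N1222 = N5910 := trfs L94423 L63587 rfl
theorem L94425 : N5910 = N903 := eqes L94424 L9761
theorem L94426 : N5910 = N903 := eqc rfl L94425 rfl
theorem L94434 : sm gf N903 = N7904 := trfs L94426 (flp_f L62234) rfl
theorem L94435 : N7904 = N1224 := eqes L94434 L9773
theorem L94436 : N7904 = N1224 := eqc rfl L94435 rfl
theorem L94445 : sm gi N1224 = N5777 := trfs L94436 (flp_i L62226) rfl
theorem L94446 : N5777 = N1286 := eqes L94445 (flp_i L10293)
theorem L94447 : N5777 = N1286 := eqc rfl L94446 rfl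
theorem L94454 : sm gg N1286 = N6375 := trfs L94447 (flp_g L50472) rfl
theorem L94455 : N6375 = N1749 := eqes L94454 L13950
theorem L94456 : N6375 = N1749 := eqc rfl L94455 rfl
theorem L94484 : sm gd N1749 = N5371 := trfs L94456 L50474 rfl
theorem L94485 : N5371 = N1288 := eqes L94484 L13952
theorem L94486 : N5371 = N1288 := eqc rfl L94485 rfl
theorem L94502 : sm gi N1288 = N7354 := trfs L94486 L58043 rfl
theorem L94503 : N7354 = N1226 := eqes L94502 L10308
theorem L94504 : N7354 = N1009 := eqc rfl L94503 L86688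
theorem L94505 : sm ga N1009 = N974 := trfs L94504 L58045 L86308
theorem L94506 : N974 = N1258 := eqes L94505 (flp_a L10051)
theorem L94507 : N1258 = N974 := (eqc rfl L94506 rfl).symm
theorem L94534 : sm gc N974 = N935 := trfs L94507 L10053 rfl
theorem L94535 : N935 = N719 := eqes L94534 L7842
theorem L94536 : N935 = N719 := eqc rfl L94535 rfl
theorem L94543 : sm gh N974 = N924 := trfs L94507 (flp_h L10049) rfl
theorem L94544 : N924 = N736 := eqes L94543 L7846
theorem L94545 : N924 = N736 := eqc rfl L94544 rfl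
theorem L94546 : sm gi N974 = N1711 := trfs L94507 L13627 rfl
theorem L94547 : N1711 = N1318 := eqes L94546 (flp_i L10579)
theorem L94548 : N1711 = N1318 := eqc rfl L94547 rfl
theorem L94561 : sm gg N1318 = N2330 := trfs L94548 (flp_g L18519) rfl
theorem L94562 : N2330 = N967 := eqes L94561 (flp_g L10570)
theorem L94563 : N2330 = N967 := eqc rfl L94562 rfl
theorem L94574 : sm gf N967 = N3169 := trfs L94563 (flp_f L25132) rfl
theorem L94575 : N3169 = N713 := eqes L94574 (flp_f L7784)
theorem L94576 : N3169 = N713 := eqc rfl L94575 rfl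
theorem L94586 : sm gi N713 = N2328 := trfs L94576 (flp_i L25124) rfl
theorem L94587 : N2328 = N527 := eqes L94586 L5768
theorem L94588 : N2328 = N527 := eqc rfl L94587 rfl
theorem L94596 : sm gh N527 = N1708 := trfs L94588 (flp_h L18494) rfl
theorem L94597 : N1708 = N397 := eqes L94596 L4281
theorem L94598 : N1708 = N397 := eqc rfl L94597 rfl
theorem L94606 : sm gf N397 = N1257 := trfs L94598 (flp_f L13602) rfl
theorem L94607 : N1257 = N540 := eqes L94606 L4384
theorem L94608 : N1257 = N540 := eqc rfl L94607 rfl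
theorem L94614 : sm gd N540 = N1689 := trfs L94608 (flp_d L13445) rfl
theorem L94615 : N1689 = N734 := eqes L94614 (flp_d L5946)
theorem L94616 : N1689 = N734 := eqc rfl L94615 rfl
theorem L94703 : sm ga N734 = N1363 := trfs L94616 L13442 rfl
theorem L94704 : N1363 = N915 := eqes L94703 (flp_a L7336)
theorem L94705 : N1363 = N915 := eqc rfl L94704 rfl
theorem L94710 : sm ge N734 = N1244 := trfs L94616 L13447 rfl
theorem L94711 : N1244 = N997 := eqes L94710 L8027
theorem L94712 : N1244 = N997 := eqc rfl L94711 rfl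
theorem L94717 : sm gh N734 = N2302 := trfs L94616 L18270 rfl
theorem L94718 : N2302 = N999 := eqes L94717 L8041
theorem L94719 : N2302 = N999 := eqc rfl L94718 rfl
theorem L94732 : sm gi N999 = N3134 := trfs L94719 L24830 rfl
theorem L94733 : N3134 = N1366 := eqes L94732 L10945
theorem L94734 : N3134 = N1366 := eqc rfl L94733 rfl
theorem L94739 : sm ge N1366 = N2305 := trfs L94734 L24835 rfl
theorem L94740 : N2305 = N1864 := eqes L94739 (flp_e L14882)
theorem L94741 : N2305 = N1864 := eqc rfl L94740 rfl
theorem L94745 : sm gg N1366 = N2304 := trfs L94734 L24837 rfl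
theorem L94746 : N2304 = N1865 := eqes L94745 (flp_g L14890)
theorem L94747 : N2304 = N1865 := eqc rfl L94746 rfl
theorem L94751 : sm gb N1865 = N3130 := trfs L94747 (flp_b L24799) rfl
theorem L94752 : N3130 = N2542 := eqes L94751 (flp_b L20249)
theorem L94753 : N3130 = N2542 := eqc rfl L94752 rfl
theorem L94773 : sm gc N2542 = N4261 := trfs L94753 (flp_c L33707) rfl
theorem L94774 : N4261 = N3461 := eqes L94773 (flp_c L27508)
theorem L94775 : N4261 = N3461 := eqc rfl L94774 rfl
theorem L94777 : sm ge N2542 = N2300 := trfs L94753 L24801 rfl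
theorem L94778 : N2300 = N3469 := eqes L94777 (flp_e L27566)
theorem L94779 : N3469 = N2300 := (eqc rfl L94778 rfl).symm
theorem L94783 : sm gi N2542 = N2298 := trfs L94753 (flp_i L24797) rfl
theorem L94784 : N2298 = N1859 := eqes L94783 (flp_i L20247)
theorem L94785 : N2298 = N1859 := eqc rfl L94784 rfl
theorem L94788 : sm gc N1859 = N3121 := trfs L94785 (flp_c L24734) rfl
theorem L94789 : N3121 = N2533 := eqes L94788 (flp_c L20182)
theorem L94790 : N3121 = N2533 := eqc rfl L94789 rfl
theorem L94792 : sm ge N1859 = N1687 := trfs L94785 L18243 rfl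
theorem L94793 : N1687 = N2539 := eqes L94792 (flp_e L20228)
theorem L94794 : N2539 = N1687 := (eqc rfl L94793 rfl).symm
theorem L94797 : sm gh N1859 = N1685 := trfs L94785 (flp_h L18239) rfl
theorem L94798 : N1685 = N1360 := eqes L94797 (flp_h L14845)
theorem L94799 : N1685 = N1360 := eqc rfl L94798 rfl
theorem L94800 : sm ga N1360 = N2288 := trfs L94799 (flp_a L18160) rfl
theorem L94801 : N2288 = N1849 := eqes L94800 (flp_a L14772)
theorem L94802 : N2288 = N1849 := eqc rfl L94801 rfl
theorem L94804 : sm gc N1360 = N2292 := trfs L94799 (flp_c L18198) rfl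
theorem L94805 : N2292 = N1853 := eqes L94804 (flp_c L14802)
theorem L94806 : N2292 = N1853 := eqc rfl L94805 rfl

end Cfsg.Agent.Helper28.FibA
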