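import Cfsg.Agent.Helper28.FibB7

/-! # The Fi₂₂ presentation, cosets of the subgroup generated by b, …, i: the coset enumeration, part 8 (helper28; generated) -/

set_option autoImplicit false

noncomputable section

namespace Cfsg.Agent.Helper28.FibA

open Cfsg.Agent.Helper28.CosetTable

theorem L94813 : sm ga N1853 = N3110 := trfs L94806 (flp_a L24639) rfl
theorem L94814 : N3110 = N2523 := eqes L94813 (flp_a L20100)
theorem L94815 : N3110 = N2523 := eqc rfl L94814 rfl
theorem L94820 : sm ge N1853 = N1683 := trfs L94806 (flp_e L18195) rfl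
theorem L94821 : N1683 = N2531 := eqes L94820 (flp_e L20168)
theorem L94822 : N2531 = N1683 := (eqc rfl L94821 rfl).symm
theorem L94824 : sm gg N1853 = N3120 := trfs L94806 L24723 rfl
theorem L94825 : N3120 = N1357 := eqes L94824 (flp_g L14799)
theorem L94826 : N3120 = N1357 := eqc rfl L94825 rfl
theorem L94843 : sm gh N1357 = N4259 := trfs L94826 L33691 rfl
theorem L94844 : N4259 = N1854 := eqes L94843 L14808
theorem L94845 : N4259 = N1854 := eqc rfl L94844 rfl
theorem L94855 : sm ge N1854 = N3122 := trfs L94845 L33696 rfl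
theorem L94856 : N3122 = N2532 := eqes L94855 (flp_e L20176)
theorem L94857 : N3122 = N2532 := eqc rfl L94856 rfl
theorem L94862 : sm gi N1854 = N5818 := trfs L94845 L45925 rfl
theorem L94863 : N5818 = N2535 := eqes L94862 L20194
theorem L94864 : N5818 = N2535 := eqc rfl L94863 rfl
theorem L94873 : sm ge N2535 = N4263 := trfs L94864 L45930 rfl
theorem L94874 : N4263 = N3459 := eqes L94873 (flp_e L27493)
theorem L94875 : N4263 = N3459 := eqc rfl L94874 rfl
theorem L94876 : sm gf N2535 = N7961 := trfs L94864 (flp_f L62697) rfl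
theorem L94877 : N7961 = N1856 := eqes L94876 L20199
theorem L94878 : N7961 = N1856 := eqc rfl L94877 rfl
theorem L94882 : sm gc N1856 = N5831 := trfs L94878 L62694 rfl
theorem L94883 : N5831 = N1362 := eqes L94882 L14824
theorem L94884 : N5831 = N1362 := eqc rfl L94883 rfl
theorem L94889 : sm ga N1362 = N7947 := trfs L94884 (flp_a L62582) rfl
theorem L94890 : N7947 = N1851 := eqes L94889 (flp_a L14786)
theorem L94891 : N7947 = N1851 := eqc rfl L94890 rfl
theorem L94908 : sm gi N1851 = N5807 := trfs L94891 (flp_i L62580) rfl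
theorem L94909 : N5807 = N1355 := eqes L94908 (flp_i L14784)
theorem L94910 : N5807 = N1355 := eqc rfl L94909 rfl
theorem L94924 : sm gh N1355 = N4251 := trfs L94910 (flp_h L45833) rfl
theorem L94925 : N4251 = N991 := eqes L94924 (flp_h L10865)
theorem L94926 : N4251 = N991 := eqc rfl L94925 rfl
theorem L94933 : sm gc N991 = N5796 := trfs L94926 (flp_c L45751) rfl
theorem L94934 : N5796 = N1353 := eqes L94933 L10849
theorem L94935 : N5796 = N1353 := eqc rfl L94934 rfl
theorem L94945 : sm gd N1353 = N7928 := trfs L94935 (flp_d L62434) rfl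
theorem L94946 : N7928 = N1065 := eqes L94945 L10856
theorem L94947 : N7928 = N1065 := eqc rfl L94946 rfl
theorem L94959 : sm gf N1065 = N5794 := trfs L94947 (flp_f L62428) rfl
theorem L94960 : N5794 = N1454 := eqes L94959 L11628
theorem L94961 : N5794 = N1454 := eqc rfl L94960 rfl
theorem L94976 : sm gh N1454 = N7929 := trfs L94961 L62438 rfl
theorem L94977 : N7929 = N1982 := eqes L94976 L15794
theorem L94978 : N7929 = N1982 := eqc rfl L94977 rfl
theorem L94987 : sm gg N1982 = N5795 := trfs L94978 L62445 rfl
theorem L94988 : N5795 = N2704 := eqes L94987 (flp_g L21504)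
theorem L94989 : N5795 = N2704 := eqc rfl L94988 rfl
theorem L95005 : sm gi N2704 = N7931 := trfs L94989 L62454 rfl
theorem L95006 : N7931 = N3688 := eqes L95005 L29235
theorem L95007 : N7931 = N3688 := eqc rfl L95006 rfl
theorem L95008 : sm ga N3688 = N5815 := trfs L95007 L62456 rfl
theorem L95009 : N5815 = N2711 := eqes L95008 L29237
theorem L95010 : N5815 = N2711 := eqc rfl L95009 rfl
theorem L95011 : sm gc N3688 = N5849 := trfs L95007 L62458 rfl
theorem L95012 : N5849 = N2709 := eqes L95011 L29239
theorem L95013 : N5849 = N2709 := eqc rfl L95012 rfl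
theorem L95022 : sm gg N2709 = N8003 := trfs L95013 (flp_g L63011) rfl
theorem L95023 : N8003 = N1986 := eqes L95022 L21543
theorem L95024 : N8003 = N1986 := eqc rfl L95023 rfl
theorem L95027 : sm ga N1986 = N5874 := trfs L95024 L63007 rfl
theorem L95028 : N5874 = N1464 := eqes L95027 L15829
theorem L95029 : N5874 = N1464 := eqc rfl L95028 rfl
theorem L95045 : sm gi N1464 = N4300 := trfs L95029 (flp_i L46366) rfl
theorem L95046 : N4300 = N1072 := eqes L95045 (flp_i L11709)
theorem L95047 : N4300 = N1072 := eqc rfl L95046 rfl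
theorem L95055 : sm gf N1072 = N5872 := trfs L95047 (flp_f L46355) rfl
theorem L95056 : N5872 = N789 := eqes L95055 L8612
theorem L95057 : N5872 = N789 := eqc rfl L95056 rfl
theorem L95068 : sm ge N789 = N8036 := trfs L95057 (flp_e L63286) rfl
theorem L95069 : N8036 = N587 := eqes L95068 L6372
theorem L95070 : N8036 = N587 := eqc rfl L95069 rfl
theorem L95079 : sm gh N587 = N5871 := trfs L95070 (flp_h L63282) rfl
theorem L95080 : N5871 = N434 := eqes L95079 (flp_h L4751)
theorem L95081 : N5871 = N434 := eqc rfl L95080 rfl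
theorem L95091 : sm gd N434 = N5157 := trfs L95081 L46348 rfl
theorem L95092 : N5157 = N321 := eqes L95091 (flp_d L3537)
theorem L95093 : N5157 = N321 := eqc rfl L95092 rfl
theorem L95110 : sm gh N321 = N7055 := trfs L95093 L55615 rfl
theorem L95111 : N7055 = N321 := eqes L95110 L2631
theorem L95112 : N7055 = N321 := eqc rfl L95111 rfl
theorem L95129 : sm gi N321 = N9665 := trfs L95112 L76035 rfl
theorem L95130 : N9665 = N321 := eqes L95129 L2632
theorem L95131 : N9665 = N321 := eqc rfl L95130 rfl
theorem L95136 : sm ge N321 = N7057 := trfs L95131 L76040 rfl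
theorem L95137 : N7057 = N237 := eqes L95136 (flp_e L2625)
theorem L95138 : N7057 = N237 := eqc rfl L95137 rfl
theorem L95151 : sm gf N237 = N5160 := trfs L95138 L55638 rfl
theorem L95152 : N5160 = N176 := eqes L95151 L1947
theorem L95153 : N5160 = N176 := eqc rfl L95152 rfl
theorem L95171 : sm gi N176 = N3775 := trfs L95153 (flp_i L40792) rfl
theorem L95172 : N3775 = N176 := eqes L95171 L1453
theorem L95173 : N3775 = N176 := eqc rfl L95172 rfl
theorem L95187 : sm gh N176 = N2768 := trfs L95173 (flp_h L29903) rfl
theorem L95188 : N2768 = N176 := eqes L95187 L1452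
theorem L95189 : N2768 = N176 := eqc rfl L95188 rfl
theorem L95198 : sm gg N176 = N2030 := trfs L95189 (flp_g L21992) rfl
theorem L95199 : N2030 = N142 := eqes L95198 L1450
theorem L95200 : N2030 = N142 := eqc rfl L95199 rfl
theorem L95205 : sm gb N142 = N1505 := trfs L95200 L16162 rfl
theorem L95206 : N1505 = N102 := eqes L95205 (flp_b L1157)
theorem L95207 : N1505 = N102 := eqc rfl L95206 rfl
theorem L95218 : sm gd N102 = N1105 := trfs L95207 (flp_d L12025) rfl
theorem L95219 : N1105 = N139 := eqes L95218 (flp_d L1141)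
theorem L95220 : N1105 = N139 := eqc rfl L95219 rfl
theorem L95258 : sm gh N139 = N1507 := trfs L95220 L12041 rfl
theorem L95259 : N1507 = N189 := eqes L95258 (flp_h L1551)
theorem L95260 : N1507 = N189 := eqc rfl L95259 rfl
theorem L95276 : sm gi N189 = N2053 := trfs L95260 L16336 rfl
theorem L95277 : N2053 = N256 := eqes L95276 (flp_i L2096)
theorem L95278 : N2053 = N256 := eqc rfl L95277 rfl
theorem L95286 : sm ge N256 = N1510 := trfs L95278 L16341 rfl
theorem L95287 : N1510 = N348 := eqes L95286 L2828
theorem L95288 : N1510 = N348 := eqc rfl L95287 rfl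
theorem L95338 : sm gd N348 = N2057 := trfs L95288 (flp_d L16369) rfl
theorem L95339 : N2057 = N472 := eqes L95338 L3820
theorem L95340 : N2057 = N472 := eqc rfl L95339 rfl
theorem L95361 : sm gi N472 = N1509 := trfs L95340 (flp_i L16365) rfl
theorem L95362 : N1509 = N352 := eqes L95361 L3823
theorem L95363 : N1509 = N352 := eqc rfl L95362 rfl
theorem L95375 : sm gg N352 = N2054 := trfs L95363 (flp_g L16348) rfl
theorem L95376 : N2054 = N422 := eqes L95375 (flp_g L3444)
theorem L95377 : N2054 = N422 := eqc rfl L95376 rfl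
theorem L95385 : sm gf N422 = N2339 := trfs L95377 (flp_f L18584) rfl
theorem L95386 : N2339 = N575 := eqes L95385 L4659
theorem L95387 : N2339 = N575 := eqc rfl L95386 rfl
theorem L95401 : sm gi N575 = N3186 := trfs L95387 L25249 rfl
theorem L95402 : N3186 = N775 := eqes L95401 (flp_i L6262)
theorem L95403 : N3186 = N775 := eqc rfl L95402 rfl
theorem L95413 : sm gh N775 = N4353 := trfs L95403 L34406 rfl
theorem L95414 : N4353 = N1057 := eqes L95413 L8488
theorem L95415 : N4353 = N1057 := eqc rfl L95414 rfl
theorem L95428 : sm gg N1057 = N3189 := trfs L95415 L34412 rfl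
theorem L95429 : N3189 = N1444 := eqes L95428 (flp_g L11554)
theorem L95430 : N3189 = N1444 := eqc rfl L95429 rfl
theorem L95441 : sm gf N1444 = N2345 := trfs L95430 L25276 rfl
theorem L95442 : N2345 = N1182 := eqes L95441 L11552
theorem L95443 : N2345 = N1182 := eqc rfl L95442 rfl
theorem L95458 : sm gh N1182 = N1720 := trfs L95443 (flp_h L18628) rfl
theorem L95459 : N1720 = N870 := eqes L95458 (flp_h L9445)
theorem L95460 : N1720 = N870 := eqc rfl L95459 rfl
theorem L95473 : sm gi N870 = N1264 := trfs L95460 (flp_i L13703) rfl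
theorem L95474 : N1264 = N649 := eqes L95473 L6982
theorem L95475 : N1264 = N649 := eqc rfl L95474 rfl
theorem L95482 : sm ge N649 = N1719 := trfs L95475 L13695 rfl
theorem L95483 : N1719 = N878 := eqes L95482 (flp_e L7039)
theorem L95484 : N1719 = N878 := eqc rfl L95483 rfl
theorem L95493 : sm gg N878 = N1511 := trfs L95484 L13699 rfl
theorem L95494 : N1511 = N648 := eqes L95493 (flp_g L7034)
theorem L95495 : N1511 = N648 := eqc rfl L95494 rfl
theorem L95507 : sm gi N648 = N2059 := trfs L95495 L16379 rfl
theorem L95508 : N2059 = N869 := eqes L95507 (flp_i L6972)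
theorem L95509 : N2059 = N869 := eqc rfl L95508 rfl
theorem L95519 : sm gh N869 = N2810 := trfs L95509 L22300 rfl
theorem L95520 : N2810 = N1181 := eqes L95519 L9437
theorem L95521 : N2810 = N1181 := eqc rfl L95520 rfl
theorem L95527 : sm gd N1181 = N3834 := trfs L95521 L30328 rfl
theorem L95528 : N3834 = N1607 := eqes L95527 L12809
theorem L95529 : N3834 = N1607 := eqc rfl L95528 rfl
theorem L95546 : sm gg N1607 = N4359 := trfs L95529 (flp_g L34457) rfl
theorem L95547 : N4359 = N2185 := eqes L95546 (flp_g L17374)
theorem L95548 : N4359 = N2185 := eqc rfl L95547 rfl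
theorem L95552 : sm gb N2185 = N5897 := trfs L95548 (flp_b L46538) rfl
theorem L95553 : N5897 = N2971 := eqes L95552 (flp_b L23576)
theorem L95554 : N5897 = N2971 := eqc rfl L95553 rfl
theorem L95560 : sm gf N2185 = N5955 := trfs L95548 (flp_f L46961) rfl
theorem L95561 : N5955 = N2973 := eqes L95560 (flp_f L23592)
theorem L95562 : N5955 = N2973 := eqc rfl L95561 rfl
theorem L95567 : sm gc N2973 = N8153 := trfs L95562 L64146 rfl
theorem L95568 : N8153 = N4051 := eqes L95567 L32068
theorem L95569 : N8153 = N4051 := eqc rfl L95568 rfl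
theorem L95583 : sm gb N4051 = N4051 := trfs L95569 L64153 L95569
theorem L95584 : N4051 = N5530 := eqes L95583 L43689
theorem L95585 : N5530 = N4051 := (eqc rfl L95584 rfl).symm
theorem L95601 : sm gf N4051 = N4053 := trfs L95585 L43692 rfl
theorem L95602 : N4053 = N2974 := eqes L95601 L32071
theorem L95603 : N4053 = N2974 := eqc rfl L95602 rfl
theorem L95616 : sm gg N2974 = N2975 := trfs L95603 L32088 rfl
theorem L95617 : N2975 = N2186 := eqes L95616 L23601
theorem L95618 : N2975 = N2186 := eqc rfl L95617 rfl
theorem L95625 : sm gc N2186 = N4050 := trfs L95618 (flp_c L32066) rfl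
theorem L95626 : N4050 = N1607 := eqes L95625 (flp_c L17379)
theorem L95627 : N4050 = N1607 := eqc rfl L95626 rfl
theorem L95633 : sm ga N1607 = N5529 := trfs L95627 L43681 rfl
theorem L95634 : N5529 = N1607 := eqes L95633 L12811
theorem L95635 : N5529 = N1607 := eqc rfl L95634 rfl
theorem L95643 : sm gb N1607 = N7534 := trfs L95635 (flp_b L59415) rfl
theorem L95644 : N7534 = N2183 := eqes L95643 (flp_b L17357)
theorem L95645 : N7534 = N2183 := eqc rfl L95644 rfl
theorem L95666 : sm ga N2183 = N5510 := trfs L95645 (flp_a L59408) rfl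
theorem L95667 : N5510 = N2961 := eqes L95666 (flp_a L23505)
theorem L95668 : N5510 = N2961 := eqc rfl L95667 rfl
theorem L95675 : sm gb N2961 = N4036 := trfs L95668 (flp_b L43549) rfl
theorem L95676 : N4036 = N2961 := eqes L95675 L23507
theorem L95677 : N4036 = N2961 := eqc rfl L95676 rfl
theorem L95755 : sm gc N2961 = N2961 := trfs L95677 (flp_c L31961) rfl
theorem L95805 : sm ga N2971 = N8026 := trfs L95554 (flp_a L63202) rfl
theorem L95806 : N8026 = N4035 := eqes L95805 (flp_a L31953)
theorem L95807 : N8026 = N4035 := eqc rfl L95806 rfl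
theorem L95821 : sm gg N4035 = N7045 := trfs L95807 L63205 rfl
theorem L95822 : N7045 = N2961 := eqes L95821 L31956
theorem L95823 : N7045 = N2961 := eqc rfl L95822 rfl
theorem L95829 : sm gd N2961 = N5149 := trfs L95823 (flp_d L55531) rfl
theorem L95830 : N5149 = N2173 := eqes L95829 (flp_d L23503)
theorem L95831 : N5149 = N2173 := eqc rfl L95830 rfl
theorem L95847 : sm gh N2173 = N3767 := trfs L95831 (flp_h L40701) rfl
theorem L95848 : N3767 = N1595 := eqes L95847 (flp_h L17274)
theorem L95849 : N3767 = N1595 := eqc rfl L95848 rfl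
theorem L95865 : sm gi N1595 = N2761 := trfs L95849 (flp_i L29835) rfl
theorem L95866 : N2761 = N1185 := eqes L95865 L12717
theorem L95867 : N2761 = N1185 := eqc rfl L95866 rfl
theorem L95879 : sm gg N1185 = N3143 := trfs L95867 (flp_g L24917) rfl
theorem L95880 : N3143 = N1611 := eqes L95879 L12838
theorem L95881 : N3143 = N1611 := eqc rfl L95880 rfl
theorem L95887 : sm ge N1611 = N2309 := trfs L95881 (flp_e L24912) rfl
theorem L95888 : N2309 = N1186 := eqes L95887 L12844
theorem L95889 : N2309 = N1186 := eqc rfl L95888 rfl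
theorem L95904 : sm gi N1186 = N3144 := trfs L95889 L24921 rfl
theorem L95905 : N3144 = N1596 := eqes L95904 (flp_i L12728)
theorem L95906 : N3144 = N1596 := eqc rfl L95905 rfl
theorem L95920 : sm gh N1596 = N4293 := trfs L95906 L33962 rfl
theorem L95921 : N4293 = N2174 := eqes L95920 L17283
theorem L95922 : N4293 = N2174 := eqc rfl L95921 rfl
theorem L95928 : sm gf N2174 = N5860 := trfs L95922 (flp_f L46254) rfl
theorem L95929 : N5860 = N2679 := eqes L95928 (flp_f L21299)
theorem L95930 : N5860 = N2679 := eqc rfl L95929 rfl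
theorem L95942 : sm gg N2679 = N8020 := trfs L95930 (flp_g L63153) rfl
theorem L95943 : N8020 = N1961 := eqes L95942 L21301
theorem L95944 : N8020 = N1961 := eqc rfl L95943 rfl
theorem L95953 : sm gh N1961 = N5857 := trfs L95944 (flp_h L63146) rfl
theorem L95954 : N5857 = N1434 := eqes L95953 (flp_h L15625)
theorem L95955 : N5857 = N1434 := eqc rfl L95954 rfl
theorem L95959 : sm gc N1434 = N7852 := trfs L95955 (flp_c L61842) rfl
theorem L95960 : N7852 = N1957 := eqes L95959 (flp_c L15592)
theorem L95961 : N7852 = N1957 := eqc rfl L95960 rfl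
theorem L96624 : sm gg N1957 = N5742 := trfs L95961 L61848 rfl
theorem L96625 : N5742 = N2674 := eqes L96624 L21249
theorem L96626 : N5742 = N2674 := eqc rfl L96625 rfl
theorem L96637 : sm gi N2674 = N4204 := trfs L96626 (flp_i L45323) rfl
theorem L96638 : N4204 = N1974 := eqes L96637 L21255
theorem L96639 : N4204 = N1974 := eqc rfl L96638 rfl
theorem L96641 : sm gb N1974 = N5729 := trfs L96639 (flp_b L45219) rfl
theorem L96642 : N5729 = N2693 := eqes L96641 (flp_b L21414)
theorem L96643 : N5729 = N2693 := eqc rfl L96642 rfl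
theorem L96656 : sm gf N2693 = N4198 := trfs L96643 L45221 rfl
theorem L96657 : N4198 = N2188 := eqes L96656 L21418
theorem L96658 : N4198 = N2188 := eqc rfl L96657 rfl
theorem L96666 : sm ge N2188 = N5731 := trfs L96658 L45234 rfl
theorem L96667 : N5731 = N2977 := eqes L96666 (flp_e L23625)
theorem L96668 : N5731 = N2977 := eqc rfl L96667 rfl
theorem L96675 : sm gd N2977 = N6332 := trfs L96668 (flp_d L50090) rfl
theorem L96676 : N6332 = N4056 := eqes L96675 (flp_d L32111)
theorem L96677 : N6332 = N4056 := eqc rfl L96676 rfl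
theorem L96681 : sm gg N2977 = N5078 := trfs L96668 L45240 rfl
theorem L96682 : N5078 = N2187 := eqes L96681 (flp_g L23619)
theorem L96683 : N5078 = N2187 := eqc rfl L96682 rfl
theorem L96708 : sm gd N2187 = N5328 := trfs L96683 (flp_d L42131) rfl
theorem L96709 : N5328 = N2976 := eqes L96708 L23613
theorem L96710 : N5328 = N2976 := eqc rfl L96709 rfl
theorem L96723 : sm gh N2976 = N4025 := trfs L96710 L42129 rfl
theorem L96724 : N4025 = N4057 := eqes L96723 L32113
theorem L96725 : N4057 = N4025 := (eqc rfl L96724 rfl).symm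
theorem L96729 : sm gc N4025 = N5534 := trfs L96725 (flp_c L43726) rfl
theorem L96730 : N5534 = N5495 := eqes L96729 (flp_c L43433)
theorem L96731 : N5534 = N5495 := eqc rfl L96730 rfl
theorem L96737 : sm gg N4025 = N5536 := trfs L96725 (flp_g L43742) rfl
theorem L96738 : N5536 = N4992 := eqes L96737 (flp_g L39515)
theorem L96739 : N5536 = N4992 := eqc rfl L96738 rfl
theorem L96740 : sm gh N4025 = N2976 := trfs L96725 (flp_h L32113) rfl
theorem L96770 : sm gc N4992 = N7563 := trfs L96739 (flp_c L59627) rfl
theorem L96771 : N7563 = N6836 := eqes L96770 (flp_c L53953)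
theorem L96772 : N7563 = N6836 := eqc rfl L96771 rfl
theorem L96775 : sm gf N4992 = N7567 := trfs L96739 (flp_f L59656) rfl
theorem L96776 : N7567 = N6837 := eqes L96775 L53958
theorem L96777 : N7567 = N6837 := eqc rfl L96776 rfl
theorem L96785 : sm gh N6837 = N5535 := trfs L96777 (flp_h L59651) rfl
theorem L96786 : N5535 = N8691 := eqes L96785 (flp_h L68602)
theorem L96787 : N8691 = N5535 := (eqc rfl L96786 rfl).symm
theorem L96792 : sm gh N5535 = N6837 := trfs L96787 L68602 rfl
theorem L96797 : sm gh N6836 = N5533 := trfs L96772 (flp_h L59623) rfl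
theorem L96798 : N5533 = N8689 := eqes L96797 (flp_h L68581)
theorem L96799 : N8689 = N5533 := (eqc rfl L96798 rfl).symm
theorem L96807 : sm gh N5533 = N6836 := trfs L96799 L68581 rfl
theorem L96825 : sm gd N5495 = N7564 := trfs L96731 L59631 rfl
theorem L96826 : N7564 = N7513 := eqes L96825 L59243
theorem L96827 : N7564 = N7513 := eqc rfl L96826 rfl
theorem L96835 : sm gf N7513 = N7513 := trfs L96827 L59635 L96827
theorem L96867 : sm gh N4056 = N4992 := trfs L96677 L50088 rfl
theorem L98158 : sm gd N2711 = N7959 := trfs L95010 (flp_d L62682) rfl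
theorem L98159 : N7959 = N3695 := eqes L98158 (flp_d L29289)
theorem L98160 : N7959 = N3695 := eqc rfl L98159 rfl
theorem L98167 : sm gi N3695 = N5814 := trfs L98160 (flp_i L62679) rfl
theorem L98168 : N5814 = N2710 := eqes L98167 (flp_i L29286)
theorem L98169 : N5814 = N2710 := eqc rfl L98168 rfl
theorem L98183 : sm gh N2710 = N4260 := trfs L98169 L45901 rfl
theorem L98184 : N4260 = N3460 := eqes L98183 (flp_h L27503)
theorem L98185 : N4260 = N3460 := eqc rfl L98184 rfl
theorem L98192 : sm ge N3460 = N5820 := trfs L98185 L45940 rfl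
theorem L98193 : N5820 = N4734 := eqes L98192 L37549
theorem L98194 : N5820 = N4734 := eqc rfl L98193 rfl
theorem L98197 : sm gi N3460 = N5821 := trfs L98185 L45945 rfl
theorem L98198 : N5821 = N4735 := eqes L98197 L37556
theorem L98199 : N5821 = N4735 := eqc rfl L98198 rfl
theorem L98206 : sm ge N4735 = N7969 := trfs L98199 (flp_e L62749) rfl
theorem L98207 : N7969 = N6487 := eqes L98206 (flp_e L51304)
theorem L98208 : N7969 = N6487 := eqc rfl L98207 rfl
theorem L98218 : sm gd N6487 = N5825 := trfs L98208 L62747 rfl
theorem L98219 : N5825 = N8890 := eqes L98218 (flp_d L70160)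
theorem L98220 : N8890 = N5825 := (eqc rfl L98219 rfl).symm
theorem L98223 : sm gd N5825 = N6487 := trfs L98220 L70160 rfl
theorem L98225 : sm ge N5825 = N6479 := trfs L98220 L70162 rfl
theorem L98226 : N6479 = N4265 := eqes L98225 L45974
theorem L98227 : N6479 = N4265 := eqc rfl L98226 rfl
theorem L98228 : sm gg N5825 = N6484 := trfs L98220 L70164 rfl
theorem L98229 : N6484 = N7972 := eqes L98228 (flp_g L62766)
theorem L98230 : N7972 = N6484 := (eqc rfl L98229 rfl).symm
theorem L98231 : sm gi N5825 = N6478 := trfs L98220 (flp_i L70157) rfl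
theorem L98232 : N6478 = N4264 := eqes L98231 (flp_i L45971)
theorem L98233 : N6478 = N4264 := eqc rfl L98232 rfl
theorem L98234 : sm ga N4264 = N8857 := trfs L98233 (flp_a L69902) rfl
theorem L98235 : N8857 = N5802 := eqes L98234 (flp_a L45801)
theorem L98236 : N8857 = N5802 := eqc rfl L98235 rfl
theorem L98238 : sm gc N4264 = N8887 := trfs L98233 (flp_c L70138) rfl
theorem L98239 : N8887 = N5708 := eqes L98238 (flp_c L45056)
theorem L98240 : N8887 = N5708 := eqc rfl L98239 rfl
theorem L98243 : sm ge N4264 = N4729 := trfs L98233 (flp_e L51241) rfl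
theorem L98244 : N4729 = N3123 := eqes L98243 (flp_e L33729)
theorem L98245 : N4729 = N3123 := eqc rfl L98244 rfl
theorem L98246 : sm gf N4264 = N8889 := trfs L98233 L70151 rfl
theorem L98247 : N8889 = N5824 := eqes L98246 L45965
theorem L98248 : N8889 = N5824 := eqc rfl L98247 rfl
theorem L98249 : sm gg N4264 = N4732 := trfs L98233 L51244 rfl
theorem L98250 : N4732 = N5822 := eqes L98249 (flp_g L45954)
theorem L98251 : N5822 = N4732 := (eqc rfl L98250 rfl).symm
theorem L98263 : sm ge N4732 = N4262 := trfs L98251 (flp_e L45951) rfl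
theorem L98264 : N4262 = N3458 := eqes L98263 (flp_e L37537)
theorem L98265 : N4262 = N3458 := eqc rfl L98264 rfl
theorem L98269 : sm gg N4732 = N4264 := trfs L98251 L45954 rfl
theorem L98276 : sm ga N3458 = N5800 := trfs L98265 (flp_a L45783) rfl
theorem L98277 : N5800 = N4714 := eqes L98276 (flp_a L37397)
theorem L98278 : N5800 = N4714 := eqc rfl L98277 rfl
theorem L98286 : sm gi N3458 = N5823 := trfs L98265 L45957 rfl
theorem L98287 : N5823 = N4733 := eqes L98286 L37543
theorem L98288 : N5823 = N4733 := eqc rfl L98287 rfl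
theorem L98289 : sm ga N4733 = N7939 := trfs L98288 (flp_a L62519) rfl
theorem L98290 : N7939 = N6459 := eqes L98289 (flp_a L51094)
theorem L98291 : N7939 = N6459 := eqc rfl L98290 rfl
theorem L98301 : sm gh N4733 = N7973 := trfs L98288 L62768 rfl
theorem L98302 : N7973 = N6485 := eqes L98301 L51289
theorem L98303 : N7973 = N6485 := eqc rfl L98302 rfl
theorem L98307 : sm gg N6485 = N5826 := trfs L98303 L62772 rfl
theorem L98308 : N5826 = N8891 := eqes L98307 (flp_g L70169)
theorem L98309 : N8891 = N5826 := (eqc rfl L98308 rfl).symm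
theorem L98313 : sm gg N5826 = N6485 := trfs L98309 L70169 rfl
theorem L98322 : sm gd N6459 = N5801 := trfs L98291 L62521 rfl
theorem L98323 : N5801 = N4715 := eqes L98322 L51096
theorem L98324 : N5801 = N4715 := eqc rfl L98323 rfl
theorem L98326 : sm gg N6459 = N5803 := trfs L98291 L62524 rfl
theorem L98327 : N5803 = N8858 := eqes L98326 (flp_g L69915)
theorem L98328 : N8858 = N5803 := (eqc rfl L98327 rfl).symm
theorem L98331 : sm gd N5803 = N6456 := trfs L98328 L69913 rfl
theorem L98332 : N6456 = N4248 := eqes L98331 L45808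
theorem L98333 : N6456 = N4248 := eqc rfl L98332 rfl
theorem L98334 : sm gg N5803 = N6459 := trfs L98328 L69915 rfl
theorem L98336 : sm gi N5803 = N6455 := trfs L98328 (flp_i L69909) rfl
theorem L98337 : N6455 = N4247 := eqes L98336 (flp_i L45804)
theorem L98338 : N6455 = N4247 := eqc rfl L98337 rfl
theorem L98340 : sm gb N4247 = N8834 := trfs L98338 (flp_b L69714) rfl
theorem L98341 : N8834 = N5789 := eqes L98340 (flp_b L45691)
theorem L98342 : N8834 = N5789 := eqc rfl L98341 rfl
theorem L98343 : sm gc N4247 = N8856 := trfs L98338 L69891 rfl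
theorem L98344 : N8856 = N5691 := eqes L98343 (flp_c L44930)
theorem L98345 : N8856 = N5691 := eqc rfl L98344 rfl
theorem L98346 : sm gd N4247 = N4713 := trfs L98338 (flp_d L51059) rfl
theorem L98347 : N4713 = N3112 := eqes L98346 (flp_d L33587)
theorem L98348 : N4713 = N3112 := eqc rfl L98347 rfl
theorem L98350 : sm gf N4247 = N8854 := trfs L98338 (flp_f L69876) rfl
theorem L98351 : N8854 = N3113 := eqes L98350 L33591
theorem L98352 : N8854 = N3113 := eqc rfl L98351 rfl
theorem L98359 : sm gd N3113 = N6454 := trfs L98352 (flp_d L69872) rfl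
theorem L98360 : N6454 = N2287 := eqes L98359 (flp_d L24662)
theorem L98361 : N6454 = N2287 := eqc rfl L98360 rfl
theorem L98374 : sm gh N2287 = N4712 := trfs L98361 (flp_h L51049) rfl
theorem L98375 : N4712 = N1679 := eqes L98374 (flp_h L18150)
theorem L98376 : N4712 = N1679 := eqc rfl L98375 rfl
theorem L98484 : sm gf N1679 = N3444 := trfs L98376 (flp_f L37375) rfl
theorem L98485 : N3444 = N2286 := eqes L98484 L18142
theorem L98486 : N3444 = N2286 := eqc rfl L98485 rfl
theorem L98490 : sm gb N2286 = N4704 := trfs L98486 (flp_b L37313) rfl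
theorem L98491 : N4704 = N3108 := eqes L98490 (flp_b L24622)
theorem L98492 : N4704 = N3108 := eqc rfl L98491 rfl
theorem L98493 : sm gc N2286 = N2527 := trfs L98486 L27369 rfl
theorem L98494 : N2527 = N1680 := eqes L98493 L18146
theorem L98495 : N2527 = N1680 := eqc rfl L98494 rfl
theorem L98499 : sm gg N2286 = N2522 := trfs L98486 (flp_g L27365) rfl
theorem L98500 : N2522 = N3111 := eqes L98499 L24645
theorem L98501 : N3111 = N2522 := (eqc rfl L98500 rfl).symm
theorem L98505 : sm gb N2522 = N4239 := trfs L98501 (flp_b L33518) rfl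
theorem L98506 : N4239 = N3439 := eqes L98505 (flp_b L27328)
theorem L98507 : N4239 = N3439 := eqc rfl L98506 rfl
theorem L98514 : sm gg N2522 = N2286 := trfs L98501 (flp_g L24645) rfl
theorem L98516 : sm gh N2522 = N4246 := trfs L98501 L33578 rfl
theorem L98517 : N4246 = N3445 := eqes L98516 L27375
theorem L98518 : N4246 = N3445 := eqc rfl L98517 rfl
theorem L98521 : sm gb N3445 = N5788 := trfs L98518 (flp_b L45681) rfl
theorem L98522 : N5788 = N4705 := eqes L98521 (flp_b L37322)
theorem L98523 : N5788 = N4705 := eqc rfl L98522 rfl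
theorem L98524 : sm gc N3445 = N3117 := trfs L98518 L33582 rfl
theorem L98525 : N3117 = N2528 := eqes L98524 L27379
theorem L98526 : N3117 = N2528 := eqc rfl L98525 rfl
theorem L98541 : sm gg N2528 = N2290 := trfs L98526 L24704 rfl
theorem L98542 : N2290 = N3452 := eqes L98541 (flp_g L27440)
theorem L98543 : N3452 = N2290 := (eqc rfl L98542 rfl).symm
theorem L98545 : sm gi N2528 = N4255 := trfs L98526 L33657 rfl
theorem L98546 : N4255 = N3454 := eqes L98545 L27449
theorem L98547 : N4255 = N3454 := eqc rfl L98546 rfl
theorem L98548 : sm ga N3454 = N3131 := trfs L98547 L33659 rfl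
theorem L98549 : N3131 = N2541 := eqes L98548 L27451
theorem L98550 : N3131 = N2541 := eqc rfl L98549 rfl
theorem L98557 : sm gg N3454 = N3118 := trfs L98547 L33664 rfl
theorem L98558 : N3118 = N4725 := eqes L98557 (flp_g L37489)
theorem L98559 : N4725 = N3118 := (eqc rfl L98558 rfl).symm
theorem L98570 : sm gg N3118 = N3454 := trfs L98559 L37489 rfl
theorem L98635 : sm gd N2541 = N4189 := trfs L98550 (flp_d L33120) rfl
theorem L98636 : N4189 = N3471 := eqes L98635 (flp_d L27580)
theorem L98637 : N4189 = N3471 := eqc rfl L98636 rfl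
theorem L98651 : sm gh N3471 = N4438 := trfs L98637 (flp_h L35117) rfl
theorem L98652 : N4438 = N4748 := eqes L98651 L37649
theorem L98653 : N4748 = N4438 := (eqc rfl L98652 rfl).symm
theorem L98662 : sm gh N4438 = N3471 := trfs L98653 (flp_h L37649) rfl
theorem L98681 : sm gg N2290 = N2528 := trfs L98543 L27440 rfl
theorem L98704 : sm gc N4705 = N4706 := trfs L98523 L45683 rfl
theorem L98705 : N4706 = N5787 := eqes L98704 (flp_c L45673)
theorem L98706 : N5787 = N4706 := (eqc rfl L98705 rfl).symm
theorem L98714 : sm gg N4705 = N4240 := trfs L98523 L45686 rfl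
theorem L98715 : N4240 = N6441 := eqes L98714 (flp_g L50949)
theorem L98716 : N6441 = N4240 := (eqc rfl L98715 rfl).symm
theorem L98718 : sm gi N4705 = N7919 := trfs L98523 L62355 rfl
theorem L98719 : N7919 = N6443 := eqes L98718 L50958
theorem L98720 : N7919 = N6443 := eqc rfl L98719 rfl
theorem L98723 : sm gc N6443 = N6445 := trfs L98720 L62360 rfl
theorem L98724 : N6445 = N7917 := eqes L98723 (flp_c L62340)
theorem L98725 : N7917 = N6445 := (eqc rfl L98724 rfl).symm
theorem L98727 : sm gg N6443 = N5790 := trfs L98720 L62363 rfl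
theorem L98728 : N5790 = N8835 := eqes L98727 (flp_g L69726)
theorem L98729 : N8835 = N5790 := (eqc rfl L98728 rfl).symm
theorem L98735 : sm gg N5790 = N6443 := trfs L98729 L69726 rfl
theorem L98743 : sm gc N6445 = N6443 := trfs L98725 L62340 rfl
theorem L98745 : sm ge N6445 = N5790 := trfs L98725 L62342 rfl
theorem L98777 : sm gg N4240 = N4705 := trfs L98716 L50949 rfl
theorem L98823 : sm gc N4706 = N4705 := trfs L98706 L45673 rfl
theorem L98828 : sm ge N4706 = N4240 := trfs L98706 L45675 rfl
theorem L98868 : sm gc N3439 = N3440 := trfs L98507 L33520 rfl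
theorem L98881 : sm gg N1680 = N1848 := trfs L98495 (flp_g L20132) rfl
theorem L98886 : sm ge N3108 = N3440 := trfs L98492 L37316 rfl
theorem L98889 : sm gg N3108 = N3439 := trfs L98492 (flp_g L37310) rfl
theorem L98926 : sm ge N3112 = N3446 := trfs L98348 L37391 rfl
theorem L98928 : sm gg N3112 = N3445 := trfs L98348 L37393 rfl
theorem L98931 : sm ga N5691 = N6477 := trfs L98345 L69893 rfl
theorem L98932 : N6477 = N4181 := eqes L98931 L44926
theorem L98933 : N6477 = N4181 := eqc rfl L98932 rfl
theorem L98934 : sm gg N5691 = N6457 := trfs L98345 L69895 rfl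
theorem L98935 : N6457 = N7781 := eqes L98934 (flp_g L61297)
theorem L98936 : N7781 = N6457 := (eqc rfl L98935 rfl).symm
theorem L98942 : sm gg N6457 = N5691 := trfs L98936 L61297 rfl
theorem L98945 : sm gb N4181 = N8886 := trfs L98933 L70128 rfl
theorem L98946 : N8886 = N5668 := eqes L98945 (flp_b L44752)
theorem L98947 : N8886 = N5668 := eqc rfl L98946 rfl
theorem L98960 : sm gg N5668 = N6480 := trfs L98947 L70132 rfl
theorem L98961 : N6480 = N7747 := eqes L98960 (flp_g L61042)
theorem L98962 : N7747 = N6480 := (eqc rfl L98961 rfl).symm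
theorem L98968 : sm gg N6480 = N5668 := trfs L98962 L61042 rfl
theorem L98981 : sm gg N5789 = N6442 := trfs L98342 L69716 rfl
theorem L98984 : sm ge N4248 = N4717 := trfs L98333 L51072 rfl
theorem L98992 : sm gg N4715 = N4248 := trfs L98324 L45796 rfl
theorem L98997 : sm gg N4714 = N4247 := trfs L98278 L45786 rfl
theorem L99011 : sm gd N5824 = N6486 := trfs L98248 L70154 rfl
theorem L99012 : N6486 = N7968 := eqes L99011 (flp_d L62741)
theorem L99013 : N7968 = N6486 := (eqc rfl L99012 rfl).symm
theorem L99016 : sm gd N6486 = N5824 := trfs L99013 L62741 rfl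
theorem L99021 : sm gg N3123 = N3458 := trfs L98245 L37518 rfl
theorem L99025 : sm gg N5708 = N6481 := trfs L98240 L70140 rfl
theorem L99028 : sm gd N5802 = N6460 := trfs L98236 L69907 rfl
theorem L99029 : N6460 = N7936 := eqes L99028 (flp_d L62501)
theorem L99030 : N7936 = N6460 := (eqc rfl L99029 rfl).symm
theorem L99031 : sm gg N5802 = N6458 := trfs L98236 L69904 rfl
theorem L99035 : sm gd N6460 = N5802 := trfs L99030 L62501 rfl
theorem L99039 : sm gg N6484 = N5825 := trfs L98230 L62766 rfl
theorem L99043 : sm gg N4265 = N4733 := trfs L98227 L51254 rfl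
theorem L99051 : sm gd N4734 = N4264 := trfs L98194 L45943 rfl
theorem L99184 : sm gg N3459 = N3124 := trfs L94875 L33726 rfl
theorem L99205 : sm gg N2532 = N2294 := trfs L94857 L24745 rfl
theorem L99236 : sm ge N1683 = N1853 := trfs L94822 L20168 rfl
theorem L99238 : sm gg N1683 = N1852 := trfs L94822 (flp_g L20162) rfl
theorem L99247 : sm ge N2523 = N2286 := trfs L94815 (flp_e L24637) rfl
theorem L99251 : sm gb N1849 = N1848 := trfs L94802 L18162 rfl
theorem L99254 : sm ge N1849 = N1680 := trfs L94802 (flp_e L18158) rfl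
theorem L99262 : sm ge N1687 = N1859 := trfs L94794 L20228 rfl
theorem L99264 : sm gg N1687 = N1858 := trfs L94794 L20230 rfl
theorem L99269 : sm ge N2533 = N2294 := trfs L94790 L24736 rfl
theorem L99275 : sm ge N2300 = N2542 := trfs L94779 L27566 rfl
theorem L99277 : sm gg N2300 = N2541 := trfs L94779 L27568 rfl
theorem L99281 : sm ge N3461 = N3124 := trfs L94775 L33709 rfl
theorem L99324 : sm ga N1864 = N1865 := trfs L94741 L18297 rfl
theorem L99355 : sm ga N997 = N998 := trfs L94712 L9934 rfl
theorem L99358 : sm gd N997 = N917 := trfs L94712 L9937 rfl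
theorem L99359 : N917 = N742 := eqes L99358 L8031
theorem L99360 : N917 = N742 := eqc rfl L99359 rfl
theorem L99369 : sm gc N742 = N680 := trfs L99360 L7353 rfl
theorem L99370 : N680 = N548 := eqes L99369 L6005
theorem L99371 : N680 = N548 := eqc rfl L99370 rfl
theorem L99386 : sm gh N548 = N905 := trfs L99371 (flp_h L7257) rfl
theorem L99387 : N905 = N747 := eqes L99386 L6039
theorem L99388 : N905 = N747 := eqc rfl L99387 rfl
theorem L99394 : sm gd N747 = N1220 := trfs L99388 (flp_d L9744) rfl
theorem L99395 : N1220 = N1014 := eqes L99394 L8154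
theorem L99396 : N1220 = N1014 := eqc rfl L99395 rfl
theorem L99403 : sm ga N1014 = N963 := trfs L99396 L9741 rfl
theorem L99404 : N963 = N1272 := eqes L99403 (flp_a L10171)
theorem L99405 : N1272 = N963 := (eqc rfl L99404 rfl).symm
theorem L99407 : sm gc N1014 = N1654 := trfs L99396 (flp_c L13172) rfl
theorem L99408 : N1654 = N1383 := eqes L99407 L11076
theorem L99409 : N1654 = N1383 := eqc rfl L99408 rfl
theorem L99412 : sm gg N1014 = N900 := trfs L99396 (flp_g L9739) rfl
theorem L99413 : N900 = N1381 := eqes L99412 (flp_g L11064)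
theorem L99414 : N1381 = N900 := (eqc rfl L99413 rfl).symm
theorem L99416 : sm gi N1014 = N1282 := trfs L99396 (flp_i L10258) rfl
theorem L99417 : N1282 = N1384 := eqes L99416 L11081
theorem L99418 : N1384 = N1282 := (eqc rfl L99417 rfl).symm
theorem L99432 : sm gh N1282 = N1886 := trfs L99418 L15042 rfl
theorem L99433 : N1886 = N1735 := eqes L99432 (flp_h L13836)
theorem L99434 : N1886 = N1735 := eqc rfl L99433 rfl
theorem L99435 : sm gi N1282 = N1014 := trfs L99418 (flp_i L11081) rfl
theorem L99445 : sm gg N1735 = N2570 := trfs L99434 (flp_g L20449) rfl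
theorem L99446 : N2570 = N1277 := eqes L99445 (flp_g L13831)
theorem L99447 : N2570 = N1277 := eqc rfl L99446 rfl
theorem L99456 : sm gf N1277 = N3504 := trfs L99447 (flp_f L27805) rfl
theorem L99457 : N3504 = N939 := eqes L99456 (flp_f L10211)
theorem L99458 : N3504 = N939 := eqc rfl L99457 rfl
theorem L99471 : sm gh N939 = N2567 := trfs L99458 (flp_h L27802) rfl
theorem L99472 : N2567 = N697 := eqes L99471 L7540
theorem L99473 : N2567 = N697 := eqc rfl L99472 rfl
theorem L99488 : sm gi N697 = N1880 := trfs L99473 (flp_i L20423) rfl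
theorem L99489 : N1880 = N667 := eqes L99488 L5619
theorem L99490 : N1880 = N667 := eqc rfl L99489 rfl
theorem L99499 : sm ge N667 = N2566 := trfs L99490 L20415 rfl
theorem L99500 : N2566 = N494 := eqes L99499 (flp_e L5358)
theorem L99501 : N2566 = N494 := eqc rfl L99500 rfl
theorem L99510 : sm gd N494 = N2158 := trfs L99501 L20420 rfl
theorem L99511 : N2158 = N367 := eqes L99510 (flp_d L3990)
theorem L99512 : N2158 = N367 := eqc rfl L99511 rfl
theorem L99528 : sm gi N367 = N2941 := trfs L99512 L23337 rfl
theorem L99529 : N2941 = N381 := eqes L99528 (flp_i L3103)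
theorem L99530 : N2941 = N381 := eqc rfl L99529 rfl
theorem L99540 : sm gh N381 = N4012 := trfs L99530 L31766 rfl
theorem L99541 : N4012 = N282 := eqes L99540 (flp_h L3094)
theorem L99542 : N4012 = N282 := eqc rfl L99541 rfl
theorem L99554 : sm gi N282 = N3037 := trfs L99542 L31773 rfl
theorem L99555 : N3037 = N209 := eqes L99554 (flp_i L2300)
theorem L99556 : N3037 = N209 := eqc rfl L99555 rfl
theorem L99568 : sm gh N209 = N2232 := trfs L99556 (flp_h L24081) rfl
theorem L99569 : N2232 = N202 := eqes L99568 L1713
theorem L99570 : N2232 = N202 := eqc rfl L99569 rfl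
theorem L99575 : sm ge N202 = N1642 := trfs L99570 L17736 rfl
theorem L99576 : N1642 = N148 := eqes L99575 (flp_e L1643)
theorem L99577 : N1642 = N148 := eqc rfl L99576 rfl
theorem L99583 : sm gc N148 = N2231 := trfs L99577 (flp_c L17726) rfl
theorem L99584 : N2231 = N156 := eqes L99583 (flp_c L1284)
theorem L99585 : N2231 = N156 := eqc rfl L99584 rfl
theorem L99694 : sm gh N156 = N3036 := trfs L99585 L24074 rfl
theorem L99695 : N3036 = N112 := eqes L99694 (flp_h L1278)
theorem L99696 : N3036 = N112 := eqc rfl L99695 rfl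
theorem L99707 : sm gi N112 = N4011 := trfs L99696 (flp_i L31764) rfl
theorem L99708 : N4011 = N157 := eqes L99707 L1290
theorem L99709 : N4011 = N157 := eqc rfl L99708 rfl
theorem L99713 : sm gd N157 = N5477 := trfs L99709 L43287 rfl
theorem L99714 : N5477 = N115 := eqes L99713 L1294
theorem L99715 : N5477 = N115 := eqc rfl L99714 rfl
theorem L99734 : sm gh N115 = N7468 := trfs L99715 (flp_h L58908) rfl
theorem L99735 : N7468 = N160 := eqes L99734 L1318
theorem L99736 : N7468 = N160 := eqc rfl L99735 rfl
theorem L99745 : sm gf N160 = N5465 := trfs L99736 L58903 rfl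
theorem L99746 : N5465 = N116 := eqes L99745 L1324
theorem L99747 : N5465 = N116 := eqc rfl L99746 rfl
theorem L99763 : sm gg N116 = N4005 := trfs L99747 L43197 rfl
theorem L99764 : N4005 = N96 := eqes L99763 L957
theorem L99765 : N4005 = N96 := eqc rfl L99764 rfl
theorem L99782 : sm gh N96 = N2948 := trfs L99765 L31718 rfl
theorem L99783 : N2948 = N66 := eqes L99782 (flp_h L789)
theorem L99784 : N2948 = N66 := eqc rfl L99783 rfl
theorem L99801 : sm gi N66 = N2239 := trfs L99784 L23397 rfl
theorem L99802 : N2239 = N45 := eqes L99801 (flp_i L535)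
theorem L99803 : N2239 = N45 := eqc rfl L99802 rfl
theorem L99818 : sm gg N45 = N3040 := trfs L99803 (flp_g L24107) rfl
theorem L99819 : N3040 = N55 := eqes L99818 (flp_g L449)
theorem L99820 : N3040 = N55 := eqc rfl L99819 rfl
theorem L99826 : sm ge N55 = N4140 := trfs L99820 L32755 rfl
theorem L99827 : N4140 = N38 := eqes L99826 (flp_e L444)
theorem L99828 : N4140 = N38 := eqc rfl L99827 rfl
theorem L99845 : sm gi N38 = N5481 := trfs L99828 (flp_i L43326) rfl
theorem L99846 : N5481 = N56 := eqes L99845 L452
theorem L99847 : N5481 = N56 := eqc rfl L99846 rfl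
theorem L99851 : sm gb N56 = N7492 := trfs L99847 (flp_b L59081) rfl
theorem L99852 : N7492 = N40 := eqes L99851 L454
theorem L99853 : N7492 = N40 := eqc rfl L99852 rfl
theorem L99881 : sm gg N40 = N5484 := trfs L99853 L59083 rfl
theorem L99882 : N5484 = N32 := eqes L99881 L330
theorem L99883 : N5484 = N32 := eqc rfl L99882 rfl
theorem L99900 : sm gi N32 = N4143 := trfs L99883 L43347 rfl
theorem L99901 : N4143 = N21 := eqes L99900 (flp_i L259)
theorem L99902 : N4143 = N21 := eqc rfl L99901 rfl
theorem L99912 : sm gf N21 = N5651 := trfs L99902 L44616 rfl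
theorem L99913 : N5651 = N17 := eqes L99912 L178
theorem L99914 : N5651 = N17 := eqc rfl L99913 rfl
theorem L99928 : sm gg N17 = N7722 := trfs L99914 L60836 rfl
theorem L99929 : N7722 = N17 := eqes L99928 L146
theorem L99930 : N7722 = N17 := eqc rfl L99929 rfl
theorem L99933 : sm gb N17 = N5652 := trfs L99930 L60838 rfl
theorem L99934 : N5652 = N24 := eqes L99933 L197
theorem L99935 : N5652 = N24 := eqc rfl L99934 rfl
theorem L99950 : sm gi N24 = N7498 := trfs L99935 (flp_i L59129) rfl
theorem L99951 : N7498 = N36 := eqes L99950 L291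
theorem L99952 : N7498 = N36 := eqc rfl L99951 rfl
theorem L99959 : sm gg N36 = N5485 := trfs L99952 (flp_g L59124) rfl
theorem L99960 : N5485 = N36 := eqes L99959 L298
theorem L99961 : N5485 = N36 := eqc rfl L99960 rfl
theorem L99970 : sm gh N36 = N7476 := trfs L99961 (flp_h L58964) rfl
theorem L99971 : N7476 = N52 := eqes L99970 L420
theorem L99972 : N7476 = N52 := eqc rfl L99971 rfl
theorem L99974 : sm ga N52 = N9749 := trfs L99972 (flp_a L76678) rfl
theorem L99975 : N9749 = N73 := eqes L99974 (flp_a L593)
theorem L99976 : N9749 = N73 := eqc rfl L99975 rfl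
theorem L99983 : sm gf N73 = N7116 := trfs L99976 (flp_f L76676) rfl
theorem L99984 : N7116 = N92 := eqes L99983 (flp_f L759)
theorem L99985 : N7116 = N92 := eqc rfl L99984 rfl
theorem L99993 : sm gd N92 = N9614 := trfs L99985 (flp_d L75612) rfl
theorem L99994 : N9614 = N130 := eqes L99993 L1068
theorem L99995 : N9614 = N130 := eqc rfl L99994 rfl
theorem L100414 : sm ge N130 = N7018 := trfs L99995 (flp_e L75606) rfl
theorem L100415 : N7018 = N180 := eqes L100414 L1478
theorem L100416 : N7018 = N180 := eqc rfl L100415 rfl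
theorem L100432 : sm gg N180 = N9611 := trfs L100416 (flp_g L75587) rfl
theorem L100433 : N9611 = N208 := eqes L100432 (flp_g L1703)
theorem L100434 : N9611 = N208 := eqc rfl L100433 rfl
theorem L100440 : sm gd N208 = N7015 := trfs L100434 (flp_d L75583) rfl
theorem L100441 : N7015 = N277 := eqes L100440 (flp_d L2262)
theorem L100442 : N7015 = N277 := eqc rfl L100441 rfl
theorem L100454 : sm gh N277 = N5127 := trfs L100442 (flp_h L55282) rfl
theorem L100455 : N5127 = N370 := eqes L100454 (flp_h L3004)
theorem L100456 : N5127 = N370 := eqc rfl L100455 rfl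
theorem L100463 : sm gf N370 = N7010 := trfs L100456 (flp_f L55246) rfl
theorem L100464 : N7010 = N499 := eqes L100463 L4032
theorem L100465 : N7010 = N499 := eqc rfl L100464 rfl
theorem L100482 : sm gi N499 = N5123 := trfs L100465 (flp_i L55239) rfl
theorem L100483 : N5123 = N519 := eqes L100482 (flp_i L4209)
theorem L100484 : N5123 = N519 := eqc rfl L100483 rfl
theorem L100490 : sm ge N519 = N7009 := trfs L100484 L55230 rfl
theorem L100491 : N7009 = N700 := eqes L100490 (flp_e L5648)
theorem L100492 : N7009 = N700 := eqc rfl L100491 rfl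
theorem L100515 : sm gf N700 = N5194 := trfs L100492 L55237 rfl
theorem L100516 : N5194 = N516 := eqes L100515 (flp_f L5642)
theorem L100517 : N5194 = N516 := eqc rfl L100516 rfl
theorem L100534 : sm gi N516 = N7108 := trfs L100517 L56007 rfl
theorem L100535 : N7108 = N496 := eqes L100534 L4183
theorem L100536 : N7108 = N496 := eqc rfl L100535 rfl
theorem L100540 : sm gd N496 = N9739 := trfs L100536 (flp_d L76591) rfl
theorem L100541 : N9739 = N667 := eqes L100540 (flp_d L5365)
theorem L100542 : N9739 = N667 := eqc rfl L100541 rfl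
theorem L100567 : sm ge N667 = N7193 := trfs L100542 L76593 rfl
theorem L100568 : N7193 = N494 := eqes L100567 (flp_e L5358)
theorem L100569 : N7193 = N494 := eqc rfl L100568 rfl
theorem L100585 : sm gi N494 = N5257 := trfs L100569 (flp_i L56666) rfl
theorem L100586 : N5257 = N514 := eqes L100585 (flp_i L4166)
theorem L100587 : N5257 = N514 := eqc rfl L100586 rfl
theorem L100599 : sm gh N514 = N7192 := trfs L100587 L56658 rfl
theorem L100600 : N7192 = N695 := eqes L100599 (flp_h L5605)
theorem L100601 : N7192 = N695 := eqc rfl L100600 rfl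
theorem L100608 : sm ge N695 = N9738 := trfs L100601 (flp_e L76583) rfl
theorem L100609 : N9738 = N939 := eqes L100608 L7536
theorem L100610 : N9738 = N939 := eqc rfl L100609 rfl
theorem L100620 : sm ga N939 = N7465 := trfs L100610 L76581 rfl
theorem L100621 : N7465 = N955 := eqes L100620 (flp_a L7677)
theorem L100622 : N7465 = N955 := eqc rfl L100621 rfl
theorem L100632 : sm gh N955 = N5459 := trfs L100622 (flp_h L58880) rfl
theorem L100633 : N5459 = N708 := eqes L100632 L7682
theorem L100634 : N5459 = N708 := eqc rfl L100633 rfl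
theorem L100639 : sm gc N708 = N6538 := trfs L100634 (flp_c L51675) rfl
theorem L100640 : N6538 = N957 := eqes L100639 (flp_c L7700)
theorem L100641 : N6538 = N957 := eqc rfl L100640 rfl
theorem L100660 : sm ge N957 = N4788 := trfs L100641 L51677 rfl
theorem L100661 : N4788 = N707 := eqes L100660 (flp_e L7696)
theorem L100662 : N4788 = N707 := eqc rfl L100661 rfl
theorem L100678 : sm gi N707 = N6554 := trfs L100662 L51783 rfl
theorem L100679 : N6554 = N522 := eqes L100678 L5712
theorem L100680 : N6554 = N522 := eqc rfl L100679 rfl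
theorem L100686 : sm gd N522 = N4789 := trfs L100680 L51787 rfl
theorem L100687 : N4789 = N696 := eqes L100686 (flp_d L5613)
theorem L100688 : N4789 = N696 := eqc rfl L100687 rfl
theorem L100714 : sm gh N696 = N6555 := trfs L100688 L51791 rfl
theorem L100715 : N6555 = N938 := eqes L100714 (flp_h L7532)
theorem L100716 : N6555 = N938 := eqc rfl L100715 rfl
theorem L100721 : sm gb N938 = N8981 := trfs L100716 (flp_b L70823) rfl
theorem L100722 : N8981 = N1275 := eqes L100721 L10194
theorem L100723 : N8981 = N1275 := eqc rfl L100722 rfl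
theorem L100736 : sm ge N1275 = N6552 := trfs L100723 L70826 rfl
theorem L100737 : N6552 = N1732 := eqes L100736 L13808
theorem L100738 : N6552 = N1732 := eqc rfl L100737 rfl
theorem L100749 : sm gf N1732 = N4793 := trfs L100738 L51772 rfl
theorem L100750 : N4793 = N2360 := eqes L100749 L18752
theorem L100751 : N4793 = N2360 := eqc rfl L100750 rfl
theorem L100763 : sm gh N2360 = N3506 := trfs L100751 (flp_h L37964) rfl
theorem L100764 : N3506 = N1738 := eqes L100763 L18757
theorem L100765 : N3506 = N1738 := eqc rfl L100764 rfl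
theorem L100775 : sm gg N1738 = N2572 := trfs L100765 L27823 rfl
theorem L100776 : N2572 = N2369 := eqes L100775 L18825
theorem L100777 : N2572 = N2369 := eqc rfl L100776 rfl
theorem L100778 : sm gi N1738 = N2568 := trfs L100765 (flp_i L27817) rfl
theorem L100779 : N2568 = N1651 := eqes L100778 L13862
theorem L100780 : N2568 = N1651 := eqc rfl L100779 rfl
theorem L100789 : sm gg N1651 = N1884 := trfs L100780 L20434 rfl
theorem L100790 : N1884 = N2245 := eqes L100789 L17824
theorem L100791 : N2245 = N1884 := (eqc rfl L100790 rfl).symm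
theorem L100799 : sm gg N1884 = N1651 := trfs L100791 (flp_g L17824) rfl
theorem L100824 : sm gi N2369 = N1884 := trfs L100777 (flp_i L20459) rfl
theorem L102002 : sm gg N900 = N1014 := trfs L99414 L11064 rfl
theorem L102005 : sm ga N1383 = N1312 := trfs L99409 L13170 rfl
theorem L102010 : sm gg N1383 = N1219 := trfs L99409 (flp_g L13168) rfl
theorem L102013 : sm gi N1383 = N1741 := trfs L99409 (flp_i L13885) rfl
theorem L102015 : sm ga N963 = N1014 := trfs L99405 L10171 rfl
theorem L102028 : sm ge N915 = N998 := trfs L94705 L10930 rfl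
theorem L102030 : sm gg N915 = N997 := trfs L94705 (flp_g L10925) rfl
theorem L102084 : sm ga N736 = N742 := trfs L94545 L7410 rfl
theorem L102094 : sm ga N719 = N747 := trfs L94536 L7506 rfl
theorem L102237 : sm gd N4188 = N4610 := trfs L94338 L49916 rfl
theorem L102279 : sm gh N3367 = N4569 := trfs L94266 (flp_h L36239) rfl
theorem L102286 : sm gd N4568 = N6062 := trfs L94245 (flp_d L65370) rfl
theorem L102324 : sm gc N8605 = N6338 := trfs L94189 (flp_c L68682) rfl
theorem L102325 : N6338 = N6391 := eqes L102324 L67922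
theorem L102326 : N6391 = N6338 := (eqc rfl L102325 rfl).symm
theorem L102334 : sm gb N6338 = N8761 := trfs L102326 (flp_b L69199) rfl
theorem L102335 : N8761 = N8682 := eqes L102334 (flp_b L68505)
theorem L102336 : N8761 = N8682 := eqc rfl L102335 rfl
theorem L102337 : sm gc N6338 = N8605 := trfs L102326 (flp_c L67922) rfl
theorem L102339 : sm gd N6338 = N4669 := trfs L102326 L50601 rfl
theorem L102340 : N4669 = N4627 := eqes L102339 (flp_d L50142)
theorem L102341 : N4669 = N4627 := eqc rfl L102340 rfl
theorem L102342 : sm ge N6338 = N8770 := trfs L102326 L69265 rfl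
theorem L102343 : N8770 = N8701 := eqes L102342 L68690
theorem L102344 : N8770 = N8701 := eqc rfl L102343 rfl
theorem L102347 : sm gg N6338 = N8332 := trfs L102326 (flp_g L65640) rfl
theorem L102348 : N8332 = N8698 := eqes L102347 (flp_g L68668)
theorem L102349 : N8698 = N8332 := (eqc rfl L102348 rfl).symm
theorem L102350 : sm gh N6338 = N8771 := trfs L102326 L69273 rfl
theorem L102351 : N8771 = N8695 := eqes L102350 (flp_h L68640)
theorem L102352 : N8771 = N8695 := eqc rfl L102351 rfl
theorem L102353 : sm gi N6338 = N8337 := trfs L102326 (flp_i L68622) L84727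
theorem L102354 : N8337 = N8702 := eqes L102353 L68696
theorem L102355 : N8702 = N8337 := (eqc rfl L102354 rfl).symm
theorem L102363 : sm gi N8337 = N6338 := trfs L102355 (flp_i L68696) rfl
theorem L102376 : sm gf N8695 = N6392 := trfs L102352 L69277 rfl
theorem L102377 : N6392 = N7843 := eqes L102376 L68638
theorem L102378 : N7843 = N6392 := (eqc rfl L102377 rfl).symm
theorem L102382 : sm gf N6392 = N8695 := trfs L102378 (flp_f L68638) rfl
theorem L102387 : sm gg N8332 = N6338 := trfs L102349 L68668 rfl
theorem L102391 : sm gf N8701 = N6879 := trfs L102344 L69271 rfl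
theorem L102394 : sm gb N4627 = N6386 := trfs L102341 (flp_b L50561) rfl
theorem L102395 : N6386 = N6327 := eqes L102394 (flp_b L50032)
theorem L102396 : N6386 = N6327 := eqc rfl L102395 rfl
theorem L102399 : sm gf N4627 = N3411 := trfs L102341 (flp_f L37067) rfl
theorem L102400 : N3411 = N4202 := eqes L102399 L36695
theorem L102401 : N4202 = N3411 := (eqc rfl L102400 rfl).symm
theorem L102404 : sm gh N4627 = N6395 := trfs L102341 L50624 rfl
theorem L102405 : N6395 = N3379 := eqes L102404 (flp_h L36687)
theorem L102406 : N6395 = N3379 := eqc rfl L102405 rfl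
theorem L102416 : sm gf N3379 = N4670 := trfs L102406 L50632 rfl
theorem L102417 : N4670 = N3081 := eqes L102416 L26841
theorem L102418 : N4670 = N3081 := eqc rfl L102417 rfl
theorem L102432 : sm gb N3081 = N6387 := trfs L102418 (flp_b L50568) rfl
theorem L102433 : N6387 = N4195 := eqes L102432 (flp_b L33169)
theorem L102434 : N6387 = N4195 := eqc rfl L102433 rfl
theorem L102436 : sm gd N3081 = N6396 := trfs L102418 L50634 rfl
theorem L102437 : N6396 = N4200 := eqes L102436 L33210
theorem L102438 : N6396 = N4200 := eqc rfl L102437 rfl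
theorem L102468 : sm gb N4200 = N8766 := trfs L102438 (flp_b L69239) rfl
theorem L102469 : N8766 = N5725 := eqes L102468 (flp_b L45184)
theorem L102470 : N8766 = N5725 := eqc rfl L102469 rfl
theorem L102471 : sm gc N4200 = N8778 := trfs L102438 L69326 rfl
theorem L102472 : N8778 = N5687 := eqes L102471 (flp_c L44896)
theorem L102473 : N8778 = N5687 := eqc rfl L102472 rfl
theorem L102484 : sm gg N5687 = N6398 := trfs L102473 L69331 rfl
theorem L102485 : N6398 = N7775 := eqes L102484 L61247
theorem L102486 : N7775 = N6398 := (eqc rfl L102485 rfl).symm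
theorem L102491 : sm gg N6398 = N5687 := trfs L102486 (flp_g L61247) rfl
theorem L102493 : sm gi N6398 = N8266 := trfs L102486 (flp_i L65087) rfl
theorem L102494 : N8266 = N8781 := eqes L102493 L69349
theorem L102495 : N8781 = N8266 := (eqc rfl L102494 rfl).symm
theorem L102500 : sm gi N8266 = N6398 := trfs L102495 (flp_i L69349) rfl
theorem L102520 : sm gg N5725 = N6388 := trfs L102470 L69241 rfl
theorem L102521 : N6388 = N7828 := eqes L102520 L61648
theorem L102522 : N7828 = N6388 := (eqc rfl L102521 rfl).symm
theorem L102527 : sm gg N6388 = N5725 := trfs L102522 (flp_g L61648) rfl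
theorem L102529 : sm gi N6388 = N8319 := trfs L102522 (flp_i L65520) rfl
theorem L102530 : N8319 = N8769 := eqes L102529 L69257
theorem L102531 : N8769 = N8319 := (eqc rfl L102530 rfl).symm
theorem L102536 : sm gi N8319 = N6388 := trfs L102531 (flp_i L69257) rfl
theorem L102544 : sm gh N4195 = N4663 := trfs L102434 (flp_h L50565) rfl
theorem L102545 : N4663 = N5727 := eqes L102544 L45196
theorem L102546 : N5727 = N4663 := (eqc rfl L102545 rfl).symm
theorem L102558 : sm gh N4663 = N4195 := trfs L102546 (flp_h L45196) rfl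
theorem L102560 : sm gi N4663 = N7833 := trfs L102546 L61687 rfl
theorem L102561 : N7833 = N6326 := eqes L102560 (flp_i L50027)
theorem L102562 : N7833 = N6326 := eqc rfl L102561 rfl
theorem L102564 : sm gb N6326 = N5738 := trfs L102562 L61690 rfl
theorem L102565 : N5738 = N4626 := eqes L102564 L50021
theorem L102566 : N5738 = N4626 := eqc rfl L102565 rfl
theorem L102569 : sm gf N6326 = N8683 := trfs L102562 (flp_f L68518) rfl
theorem L102570 : N8683 = N8680 := eqes L102569 L68478
theorem L102571 : N8683 = N8680 := eqc rfl L102570 rfl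
theorem L102572 : sm gh N6326 = N8321 := trfs L102562 (flp_h L65566) L82872
theorem L102573 : N8321 = N8681 := eqes L102572 L68491
theorem L102574 : N8681 = N8321 := (eqc rfl L102573 rfl).symm
theorem L102577 : sm gc N8321 = N8322 := trfs L102574 L68496 rfl
theorem L102578 : N8322 = N8680 := eqes L102577 (flp_c L68483)
theorem L102579 : N8680 = N8322 := (eqc rfl L102578 rfl).symm
theorem L102585 : sm gh N8321 = N6326 := trfs L102574 (flp_h L68491) rfl
theorem L102589 : sm gc N8322 = N8321 := trfs L102579 L68483 rfl
theorem L102592 : sm gf N8322 = N6326 := trfs L102579 (flp_f L68478) rfl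
theorem L102598 : N8683 = N8322 := L102571.trans L102579
theorem L102604 : sm gi N8322 = N6327 := trfs L102598 (flp_i L68509) rfl
theorem L102613 : sm gh N4626 = N6087 := trfs L102566 (flp_h L48064) rfl
theorem L102614 : N6087 = N6337 := eqes L102613 L50132
theorem L102615 : N6087 = N6084 := eqc rfl L102614 L84506
theorem L102629 : sm gi N6084 = N4451 := trfs L102615 (flp_i L48054) rfl
theorem L102630 : N4451 = N5735 := eqes L102629 L48032
theorem L102631 : N5735 = N4451 := (eqc rfl L102630 rfl).symm
theorem L102640 : sm gi N4451 = N6084 := trfs L102631 (flp_i L48032) rfl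
theorem L102716 : sm gf N3411 = N4627 := trfs L102401 (flp_f L36695) rfl
theorem L102719 : sm gh N3411 = N3081 := trfs L102401 (flp_h L33223) rfl
theorem L102725 : sm gf N6327 = N4663 := trfs L102396 (flp_f L50558) rfl
theorem L102727 : sm gg N6327 = N8321 := trfs L102396 (flp_g L65539) rfl
theorem L102730 : sm gf N8682 = N6384 := trfs L102336 (flp_f L69196) rfl
theorem L102738 : sm gh N4578 = N7950 := trfs L94175 (flp_h L62612) rfl
theorem L102739 : N7950 = N6267 := eqes L102738 L49579
theorem L102740 : N7950 = N6267 := eqc rfl L102739 rfl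
theorem L102743 : sm gc N6267 = N6472 := trfs L102740 L62614 rfl
theorem L102744 : N6472 = N7769 := eqes L102743 (flp_c L61206)
theorem L102745 : N7769 = N6472 := (eqc rfl L102744 rfl).symm
theorem L102748 : sm gc N6472 = N6267 := trfs L102745 L61206 rfl
theorem L102783 : sm gg N5684 = N6472 := trfs L94045 L70064 rfl
theorem L102806 : sm gg N5682 = N6404 := trfs L94037 L69389 rfl
theorem L102810 : sm gc N6179 = N6521 := trfs L94015 L63263 rfl
theorem L102814 : sm gc N4762 = N4578 := trfs L94012 L44867 rfl
theorem L102818 : sm gg N4762 = N4166 := trfs L94012 (flp_g L44863) rfl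
theorem L102820 : sm gi N4762 = N6032 := trfs L94012 (flp_i L47598) rfl
theorem L102826 : sm gi N8220 = N6426 := trfs L93983 (flp_i L69601) rfl
theorem L102839 : sm gi N8215 = N6521 := trfs L93978 (flp_i L70545) rfl
theorem L102867 : sm gg N4146 = N4771 := trfs L93946 L51614 rfl
theorem L102885 : sm gg N6501 = N5657 := trfs L93916 L60917 rfl
theorem L102891 : sm gg N5663 = N6512 := trfs L93905 L70444 rfl
theorem L102910 : sm gb N6195 = N6512 := trfs L93900 L62958 rfl
theorem L103089 : sm gb N4528 = N4755 := trfs L93855 L46112 rfl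
theorem L103107 : sm gf N4526 = N6380 := trfs L93850 (flp_f L50516) rfl
theorem L103108 : N6380 = N6191 := eqes L103107 L48952
theorem L103109 : N6380 = N6191 := eqc rfl L103108 rfl
theorem L103119 : sm gg N6191 = N8753 := trfs L103109 (flp_g L69135) rfl
theorem L103120 : N8753 = N8227 := eqes L103119 (flp_g L64770)
theorem L103121 : N8753 = N8227 := eqc rfl L103120 rfl
theorem L103133 : sm gb N8227 = N8388 := trfs L103121 L69137 rfl
theorem L103134 : N8388 = N8436 := eqes L103133 (flp_b L66525)
theorem L103135 : N8436 = N8388 := (eqc rfl L103134 rfl).symm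
theorem L103139 : sm gb N8388 = N8227 := trfs L103135 L66525 rfl
theorem L103143 : sm gf N8388 = N6156 := trfs L103135 (flp_f L66521) rfl
theorem L103146 : sm gi N8388 = N6191 := trfs L103135 L66528 rfl
theorem L103161 : sm gb N3497 = N3310 := trfs L93844 L32819 rfl
theorem L103166 : sm gg N3497 = N3045 := trfs L93844 (flp_g L32815) rfl
theorem L103168 : sm gi N3497 = N4398 := trfs L93844 (flp_i L34780) rfl
theorem L103178 : sm gb N2571 = N2428 := trfs L93830 L24155 rfl
theorem L103186 : sm gi N2571 = N3222 := trfs L93830 (flp_i L25543) rfl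
theorem L103206 : sm gg N2241 = N2571 := trfs L93810 L27814 rfl
theorem L103506 : sm gd N4598 = N7800 := trfs L93264 (flp_d L61444) rfl
theorem L103507 : N7800 = N6296 := eqes L103506 L49804
theorem L103508 : N7800 = N6296 := eqc rfl L103507 rfl
theorem L103512 : sm gc N6296 = N5704 := trfs L103508 (flp_c L61442) rfl
theorem L103513 : N5704 = N8639 := eqes L103512 L68181
theorem L103514 : N8639 = N5704 := (eqc rfl L103513 rfl).symm
theorem L103515 : sm gf N6296 = N8561 := trfs L103508 (flp_f L67580) rfl
theorem L103516 : N8561 = N8637 := eqes L103515 (flp_f L68172)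
theorem L103517 : N8637 = N8561 := (eqc rfl L103516 rfl).symm
theorem L103519 : sm gf N8561 = N6296 := trfs L103517 L68172 rfl
theorem L103521 : sm gc N5704 = N6296 := trfs L103514 (flp_c L68181) rfl
theorem L103538 : sm gf N6297 = N8577 := trfs L93246 (flp_f L67704) rfl
theorem L103603 : sm gb N6255 = N8497 := trfs L93144 (flp_b L67045) rfl
theorem L103606 : sm gf N6255 = N4598 := trfs L93144 L49802 rfl
theorem L103608 : sm gg N6255 = N8288 := trfs L93144 (flp_g L65284) rfl
theorem L103610 : sm gh N6255 = N4597 := trfs L93144 (flp_h L49797) rfl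
theorem L103612 : sm gb N8488 = N8315 := trfs L93003 L67781 rfl
theorem L103621 : sm gf N6210 = N8463 := trfs L92992 (flp_f L66776) rfl
theorem L103659 : sm ga N8250 = N8252 := trfs L92869 L66757 rfl
theorem L103661 : sm gc N8250 = N6174 := trfs L92869 (flp_c L66755) rfl
theorem L103663 : sm gg N8250 = N6176 := trfs L92869 L66759 rfl
theorem L103893 : sm gh N4414 = N3477 := trfs L92533 (flp_h L37711) rfl
theorem L103894 : N3477 = N4165 := eqes L103893 L34915
theorem L103895 : N4165 = N3477 := (eqc rfl L103894 rfl).symm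
theorem L103906 : sm gh N3477 = N4414 := trfs L103895 (flp_h L34915) rfl
theorem L103995 : sm ga N3326 = N3477 := trfs L92409 L33839 rfl
theorem L103999 : sm ga N6217 = N6219 := trfs L92406 L61168 rfl
theorem L104001 : sm gc N6217 = N5681 := trfs L92406 L61170 rfl
theorem L104007 : sm gd N8464 = N6215 := trfs L92391 L67213 rfl
theorem L104009 : sm gf N8464 = N6217 := trfs L92391 L67215 rfl
theorem L104018 : sm gd N4543 = N6176 := trfs L92359 (flp_d L48838) rfl
theorem L104037 : sm gf N6122 = N4510 := trfs L92308 (flp_f L48757) rfl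
theorem L104039 : sm gh N6122 = N8454 := trfs L92308 L66694 rfl
theorem L104040 : N8454 = N8312 := eqes L104039 (flp_h L65463)
theorem L104041 : N8454 = N8312 := eqc rfl L104040 rfl
theorem L104042 : sm gi N6122 = N4538 := trfs L92308 L48762 rfl
theorem L104046 : sm gf N8312 = N6169 := trfs L104041 L66699 rfl
theorem L104049 : sm ga N3280 = N3322 := trfs L92302 L32907 rfl
theorem L104057 : sm gi N3280 = N4410 := trfs L92302 (flp_i L34880) rfl
theorem L104059 : sm gb N6125 = N6191 := trfs L92299 L60954 rfl
theorem L104064 : sm gi N6125 = N8227 := trfs L92299 (flp_i L64767) rfl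
theorem L104069 : sm gg N2562 = N2243 := trfs L92289 (flp_g L24180) rfl
theorem L104072 : sm gi N2562 = N3226 := trfs L92289 (flp_i L25579) rfl
theorem L104074 : sm gb N4701 = N4526 := trfs L92283 L44687 rfl
theorem L104077 : sm gg N4701 = N4148 := trfs L92283 (flp_g L44683) rfl
theorem L104080 : sm gi N4701 = N6009 := trfs L92283 (flp_i L47408) rfl
theorem L104086 : sm gg N4158 = N4617 := trfs L92277 L49967 rfl
theorem L104098 : sm gg N3476 = N3052 := trfs L92271 L32895 rfl
theorem L104102 : sm gg N6218 = N5674 := trfs L92268 L61102 rfl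
theorem L104110 : sm gg N3375 = N3055 := trfs L92264 L32921 rfl
theorem L104114 : sm gb N6322 = N6192 := trfs L92261 L60962 rfl
theorem L104116 : sm gg N6322 = N5661 := trfs L92261 L60966 rfl
theorem L104118 : sm gg N5675 = N6323 := trfs L92253 L68417 rfl
theorem L104122 : sm gg N4756 = N4160 := trfs L92250 L44813 rfl
theorem L104127 : sm gh N6025 = N4756 := trfs L92243 (flp_h L51493) rfl
theorem L104145 : sm gi N4406 = N3436 := trfs L92208 (flp_i L37297) rfl
theorem L104163 : sm gd N4692 = N7741 := trfs L92180 (flp_d L60999) rfl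
theorem L104164 : N7741 = N6417 := eqes L104163 (flp_d L50784)
theorem L104165 : N7741 = N6417 := eqc rfl L104164 rfl
theorem L104168 : sm gg N4692 = N4152 := trfs L92180 (flp_g L44725) rfl
theorem L104178 : sm gi N6417 = N8232 := trfs L104165 (flp_i L64814) rfl
theorem L104179 : N8232 = N8807 := eqes L104178 L69528
theorem L104180 : N8807 = N8232 := (eqc rfl L104179 rfl).symm
theorem L104185 : sm gi N8232 = N6417 := trfs L104180 (flp_i L69528) rfl
theorem L104189 : sm gg N5664 = N6417 := trfs L92176 L69504 rfl
theorem L104193 : sm gg N3050 = N3436 := trfs L92173 L37275 rfl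
theorem L104195 : sm gg N5655 = N6426 := trfs L92169 L69581 rfl
theorem L104201 : sm gd N3339 = N4472 := trfs L92137 (flp_d L48267) rfl
theorem L104202 : N4472 = N2486 := eqes L104201 L26529
theorem L104203 : N4472 = N2486 := eqc rfl L104202 rfl
theorem L104207 : sm gi N3339 = N8376 := trfs L92137 L65993 rfl
theorem L104208 : N8376 = N2465 := eqes L104207 L26533
theorem L104209 : N8376 = N2465 := eqc rfl L104208 rfl
theorem L104211 : sm gd N2465 = N6113 := trfs L104209 L65997 rfl
theorem L104212 : N6113 = N1836 := eqes L104211 L19629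
theorem L104213 : N6113 = N1836 := eqc rfl L104212 rfl
theorem L104224 : sm gh N1836 = N1671 := trfs L104213 L48285 L83817
theorem L104225 : N1671 = N2511 := eqes L104224 L20013
theorem L104226 : N2511 = N1671 := (eqc rfl L104225 rfl).symm
theorem L104238 : sm gh N1671 = N1836 := trfs L104226 (flp_h L20013) rfl
theorem L104239 : N1836 = N2277 := eqes L104238 L18069
theorem L104240 : N2277 = N1836 := (eqc rfl L104239 rfl).symm
theorem L104260 : sm gh N1836 = N1671 := trfs L104240 (flp_h L18069) rfl
theorem L104262 : sm gi N1836 = N3101 := trfs L104240 L24562 rfl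
theorem L104263 : N3101 = N2486 := eqes L104262 (flp_i L19813)
theorem L104264 : N3101 = N2486 := eqc rfl L104263 rfl
theorem L104274 : sm gh N2486 = N3275 := trfs L104264 (flp_h L25994) rfl
theorem L104275 : N3275 = N3397 := eqes L104274 L27008
theorem L104276 : N3275 = N3272 := eqc rfl L104275 L84510
theorem L104286 : sm gi N3272 = N2401 := trfs L104276 (flp_i L25986) rfl
theorem L104287 : N2401 = N3098 := eqes L104286 L25965
theorem L104288 : N3098 = N2401 := (eqc rfl L104287 rfl).symm
theorem L104297 : sm gi N2401 = N3272 := trfs L104288 (flp_i L25965) rfl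
theorem L104322 : sm gf N2486 = N3273 := trfs L104203 L35414 rfl
theorem L104327 : sm gf N8377 = N6161 := trfs L92118 (flp_f L66595) rfl
theorem L104330 : sm gi N8377 = N6198 := trfs L92118 L66601 rfl
theorem L104350 : sm gi N4597 = N6114 := trfs L92092 (flp_i L66010) rfl
theorem L104360 : sm gi N4434 = N3274 := trfs L92085 (flp_i L35440) rfl
theorem L104364 : sm gi N8234 = N6116 := trfs L92082 (flp_i L66033) rfl
theorem L104368 : sm gi N8268 = N6096 := trfs L92079 (flp_i L65797) rfl
theorem L104371 : sm gi N6014 = N4692 := trfs L92067 (flp_i L50849) rfl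
theorem L104376 : sm gi N6037 = N4677 := trfs L92064 (flp_i L50701) rfl
theorem L104380 : sm gg N4179 = N4611 := trfs L92027 L49908 rfl
theorem L104386 : sm gg N6298 = N5704 := trfs L92021 L61432 rfl
theorem L104389 : sm gg N6313 = N5666 := trfs L92017 L61023 rfl
theorem L104392 : sm gg N4731 = N4181 := trfs L92006 L45042 rfl
theorem L104396 : sm gg N4746 = N4154 := trfs L92002 L44748 rfl
theorem L104402 : sm gg N4726 = N4170 := trfs L91999 L44922 rfl
theorem L104409 : sm gi N3430 = N4427 := trfs L91988 (flp_i L35027) rfl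
theorem L104415 : sm gi N3488 = N4402 := trfs L91983 (flp_i L34815) rfl
theorem L104422 : sm gi N3482 = N4418 := trfs L91980 (flp_i L34948) rfl
theorem L104426 : sm gg N3065 = N3430 := trfs L91972 L37223 rfl
theorem L104430 : sm gg N3048 = N3488 := trfs L91967 L37794 rfl
theorem L104436 : sm gg N3059 = N3482 := trfs L91964 L37740 rfl
theorem L104443 : sm gi N3241 = N2556 := trfs L91958 (flp_i L27705) rfl
theorem L104490 : sm gg N4747 = N4182 := trfs L91910 L45052 rfl
theorem L104492 : sm gh N4747 = N6056 := trfs L91910 (flp_h L47806) rfl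
theorem L104494 : sm gg N5705 = N6314 := trfs L91907 L68334 rfl
theorem L104496 : sm gg N5709 = N6482 := trfs L91904 L70149 rfl
theorem L104498 : sm gg N5669 = N6502 := trfs L91900 L70356 rfl
theorem L104500 : sm gg N5692 = N6473 := trfs L91897 L70074 rfl
theorem L104508 : sm gg N3067 = N3470 := trfs L91882 L37625 rfl
theorem L104559 : sm gg N4168 = N4677 := trfs L91765 L50685 rfl
theorem L104591 : sm gg N5698 = N6290 := trfs L91709 L68103 rfl
theorem L104597 : sm gg N4174 = N4592 := trfs L91698 L49743 rfl
theorem L104603 : sm gg N6289 = N5689 := trfs L91691 L61278 rfl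
theorem L104609 : sm gg N3369 = N3071 := trfs L91686 L33100 rfl
theorem L104620 : sm gb N8279 = N8280 := trfs L91668 L67482 rfl
theorem L104622 : sm gd N8279 = N6235 := trfs L91668 (flp_d L67478) rfl
theorem L104625 : sm gg N8279 = N6236 := trfs L91668 L67484 rfl
theorem L104633 : sm gi N4458 = N6044 := trfs L91658 (flp_i L47703) rfl
theorem L104637 : sm gf N4555 = N6094 := trfs L91655 L65760 rfl
theorem L104640 : sm gf N8348 = N6227 := trfs L91650 (flp_f L67362) rfl
theorem L104642 : sm gi N8348 = N6275 := trfs L91650 L67368 rfl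
theorem L104644 : sm gb N6044 = N6094 := trfs L91647 L50237 rfl
theorem L104659 : sm gb N4590 = N4458 := trfs L91622 L36773 rfl
theorem L104664 : sm gh N4590 = N6236 := trfs L91622 (flp_h L49324) rfl
theorem L104677 : sm gb N2550 = N2457 := trfs L91600 L24268 rfl
theorem L104681 : sm gg N2550 = N2251 := trfs L91600 (flp_g L24264) rfl
theorem L104684 : sm gi N2550 = N3237 := trfs L91600 (flp_i L25671) rfl
theorem L104692 : sm gb N4591 = N4592 := trfs L91587 L44981 rfl
theorem L104694 : sm gd N4591 = N4174 := trfs L91587 (flp_d L44977) rfl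
theorem L104696 : sm gf N4591 = N6236 := trfs L91587 (flp_f L49321) rfl
theorem L104699 : sm gb N2529 = N2528 := trfs L91584 L24692 rfl
theorem L104701 : sm ge N2529 = N2290 := trfs L91584 L24694 rfl
theorem L104708 : sm gb N3453 = N3357 := trfs L91578 L33020 rfl
theorem L104711 : sm gg N3453 = N3063 := trfs L91578 L33023 rfl
theorem L104718 : sm gb N6288 = N6290 := trfs L91565 L61395 rfl
theorem L104720 : sm gd N6288 = N5698 := trfs L91565 L61397 rfl
theorem L104722 : sm gf N6288 = N8553 := trfs L91565 (flp_f L67519) rfl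
theorem L104724 : sm gb N3455 = N3454 := trfs L91562 L33651 rfl
theorem L104726 : sm ge N3455 = N3118 := trfs L91562 L33653 rfl
theorem L104731 : sm gb N4727 = N4594 := trfs L91556 L44999 rfl
theorem L104734 : sm gg N4727 = N4176 := trfs L91556 L45004 rfl
theorem L104742 : sm gh N6048 = N4727 := trfs L91545 (flp_h L51209) rfl
theorem L104814 : sm gb N1356 = N1367 := trfs L91409 L13497 rfl
theorem L104822 : sm gd N919 = N1003 := trfs L91406 L10963 rfl
theorem L104830 : sm gb N1800 = N1867 := trfs L91394 L18365 rfl
theorem L105101 : sm gg N671 = N1572 := trfs L91328 L17041 rfl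
theorem L105102 : N1572 = N589 := eqes L105101 L5396
theorem L105103 : N1572 = N589 := eqc rfl L105102 rfl
theorem L105223 : sm gh N589 = N1153 := trfs L105103 (flp_h L12543) rfl
theorem L105224 : N1153 = N439 := eqes L105223 L4770
theorem L105225 : N1153 = N439 := eqc rfl L105224 rfl
theorem L105230 : sm ge N439 = N847 := trfs L105225 (flp_e L9226) rfl
theorem L105231 : N847 = N594 := eqes L105230 L4804
theorem L105232 : N847 = N594 := eqc rfl L105231 rfl
theorem L105241 : sm gd N594 = N625 := trfs L105232 L6812 rfl
theorem L105242 : N625 = N805 := eqes L105241 L6491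
theorem L105243 : N805 = N625 := (eqc rfl L105242 rfl).symm
theorem L105253 : sm gd N625 = N594 := trfs L105243 (flp_d L6491) rfl
theorem L105624 : N2086 = N1132 := L84194.trans L85703
theorem L105637 : N2835 = N1538 := L83461.trans L83504
theorem L105639 : sm gc N1524 = N3902 := trfs L91019 (flp_c L30914) rfl
theorem L105640 : N3902 = N2074 := eqes L105639 (flp_c L16506)
theorem L105641 : N3902 = N2074 := eqc rfl L105640 rfl
theorem L105642 : N2099 = N2076 := L83457.trans L90885
theorem L105666 : sm ge N2074 = N2859 := trfs L105641 L30916 rfl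
theorem L105667 : N2859 = N2829 := eqes L105666 L22460
theorem L105668 : N2859 = N2829 := eqc rfl L105667 rfl
theorem L105718 : sm gd N2829 = N3904 := trfs L105668 L30928 rfl
theorem L105719 : N3904 = N3860 := eqes L105718 L30550
theorem L105720 : N3904 = N3860 := eqc rfl L105719 rfl
theorem L105739 : sm gh N3860 = N2957 := trfs L105720 L30935 rfl
theorem L105740 : N2957 = N5276 := eqes L105739 L41687
theorem L105741 : N5276 = N2957 := (eqc rfl L105740 rfl).symm
theorem L105754 : sm gh N2957 = N3860 := trfs L105741 (flp_h L41687) rfl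
theorem L106087 : sm gg N2076 = N2394 := trfs L90885 (flp_g L19042) rfl
theorem L106091 : sm gi N2076 = N1525 := trfs L90885 (flp_i L16543) rfl
theorem L106111 : sm ge N2179 = N2179 := trfs L90689 L30671 L90689
theorem L106112 : N2179 = N2968 := eqes L106111 L23555
theorem L106113 : N2968 = N2179 := (eqc rfl L106112 rfl).symm
theorem L106122 : sm ge N2179 = N2179 := trfs L106113 (flp_e L23555) rfl
theorem L106164 : sm gg N6110 = N4646 := trfs L90640 L50353 rfl
theorem L106174 : sm gc N6359 = N8630 := trfs L90634 (flp_c L68129) rfl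
theorem L106177 : sm gf N6359 = N5029 := trfs L90634 L50720 rfl
theorem L106178 : N5029 = N8731 := eqes L106177 L68946
theorem L106179 : N8731 = N5029 := (eqc rfl L106178 rfl).symm
theorem L106180 : sm gg N6359 = N8353 := trfs L90634 (flp_g L65818) rfl
theorem L106182 : sm gh N6359 = N8792 := trfs L90634 L69429 rfl
theorem L106183 : N8792 = N8721 := eqes L106182 (flp_h L68875)
theorem L106184 : N8792 = N8721 := eqc rfl L106183 rfl
theorem L106189 : sm gf N8721 = N6882 := trfs L106184 L69434 rfl
theorem L106196 : sm gf N5029 = N6359 := trfs L106179 (flp_f L68946) rfl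
theorem L106203 : sm gf N6342 = N5538 := trfs L90629 L58206 rfl
theorem L106204 : N5538 = N8705 := eqes L106203 L68725
theorem L106205 : N8705 = N5538 := (eqc rfl L106204 rfl).symm
theorem L106209 : sm gf N5538 = N6342 := trfs L106205 (flp_f L68725) rfl
theorem L106211 : sm gh N5538 = N6847 := trfs L106205 L68730 rfl
theorem L106212 : N6847 = N7569 := eqes L106211 L59668
theorem L106213 : N7569 = N6847 := (eqc rfl L106212 rfl).symm
theorem L106219 : sm gh N6847 = N5538 := trfs L106213 (flp_h L59668) rfl
theorem L106226 : sm gi N8363 = N6359 := trfs L90618 (flp_i L68953) rfl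
theorem L106235 : sm gf N4062 = N4646 := trfs L90586 (flp_f L50368) rfl
theorem L106247 : sm gd N5013 = N7571 := trfs L90572 L59685 rfl
theorem L106248 : N7571 = N6864 := eqes L106247 (flp_d L54159)
theorem L106249 : N7571 = N6864 := eqc rfl L106248 rfl
theorem L106251 : sm gh N5013 = N4062 := trfs L90572 (flp_h L43775) rfl
theorem L106258 : sm gh N6864 = N9434 := trfs L106249 (flp_h L74264) rfl
theorem L106259 : N9434 = N9407 := eqes L106258 (flp_h L74063)
theorem L106260 : N9434 = N9407 := eqc rfl L106259 rfl
theorem L106262 : sm gd N9407 = N6882 := trfs L106260 (flp_d L74259) rfl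
theorem L106265 : sm gg N9407 = N9407 := trfs L106260 L74262 L106260
theorem L106271 : sm gh N5000 = N4059 := trfs L90566 (flp_h L43758) rfl
theorem L106290 : sm gh N2189 = N2958 := trfs L90527 L30952 rfl
theorem L106322 : sm gh N2838 = N2179 := trfs L90469 L22821 rfl
theorem L106327 : sm gh N5012 = N6110 := trfs L90443 (flp_h L65970) rfl
theorem L106367 : sm gi N2104 = N2842 := trfs L90271 (flp_i L30730) rfl
theorem L106390 : sm ge N4026 = N4632 := trfs L90220 L50216 rfl
theorem L106395 : sm ge N6333 = N5487 := trfs L90215 L57409 rfl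
theorem L106405 : sm ge N2860 = N2189 := trfs L90208 L22968 rfl
theorem L106407 : sm gf N2860 = N3860 := trfs L90208 (flp_f L30554) rfl
theorem L106426 : sm ge N2978 = N3382 := trfs L90202 (flp_e L36726) rfl
theorem L106440 : sm ge N4623 = N4056 := trfs L90195 L42586 rfl
theorem L106460 : sm gh N3655 = N2978 := trfs L90179 (flp_h L32136) rfl
theorem L107534 : sm ga N541 = N548 := trfs L88644 L5569 rfl
theorem L107939 : sm gc N201 = N152 := trfs L88159 (flp_c L1688) rfl
theorem L107967 : sm ga N105 = N104 := trfs L88113 L1166 rfl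
theorem L107969 : sm gc N105 = N103 := trfs L88113 (flp_c L1164) rfl
theorem L107979 : sm ga N146 = N135 := trfs L88099 L1471 rfl
theorem L107981 : sm gc N146 = N130 := trfs L88099 (flp_c L1469) rfl
theorem L107993 : sm ga N187 = N186 := trfs L88084 L2005 rfl
theorem L108000 : sm ga N299 = N300 := trfs L88076 L3077 rfl
theorem L108009 : sm ga N162 = N201 := trfs L88073 L2181 rfl
theorem L108020 : sm ga N255 = N221 := trfs L88066 L2276 rfl
theorem L108027 : sm ga N343 = N298 := trfs L88054 L3060 rfl
theorem L108033 : sm ga N459 = N405 := trfs L88042 L4136 rfl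
theorem L108044 : sm gg N451 = N551 := trfs L88035 (flp_g L4471) rfl
theorem L108049 : sm ga N617 = N551 := trfs L88026 L5592 rfl
theorem L108061 : sm gi N947 = N747 := trfs L88017 (flp_i L8160) rfl
theorem L108108 : sm ga N550 = N536 := trfs L87987 L5428 rfl
theorem L108113 : sm gg N550 = N499 := trfs L87987 (flp_g L5426) rfl
theorem L108116 : sm gi N550 = N705 := trfs L87987 (flp_i L5691) rfl
theorem L108120 : sm gg N670 = N747 := trfs L87983 L8152 rfl
theorem L108132 : sm ga N404 = N403 := trfs L87968 L4101 rfl
theorem L108136 : sm gg N404 = N375 := trfs L87968 (flp_g L4099) rfl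
theorem L108142 : sm gg N502 = N548 := trfs L87965 (flp_g L6032) rfl
theorem L108146 : sm gc N280 = N300 := trfs L87962 L3315 rfl
theorem L108150 : sm gg N280 = N299 := trfs L87962 (flp_g L3312) rfl
theorem L108157 : sm gc N208 = N255 := trfs L87948 L2815 rfl
theorem L108164 : sm ga N253 = N252 := trfs L87936 L2671 rfl
theorem L108169 : sm gf N253 = N242 := trfs L87936 (flp_f L2669) rfl
theorem L108174 : sm gc N180 = N187 := trfs L87932 L2077 rfl
theorem L108176 : sm gf N180 = N186 := trfs L87932 (flp_f L2074) rfl
theorem L108187 : sm ga N345 = N338 := trfs L87917 L3567 rfl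
theorem L108193 : sm gf N345 = N324 := trfs L87917 (flp_f L3565) rfl
theorem L108195 : sm gi N345 = N451 := trfs L87917 (flp_i L3674) rfl
theorem L108348 : sm gd N342 = N326 := trfs L87691 (flp_d L3588) rfl
theorem L108435 : sm gi N829 = N1125 := trfs L87559 (flp_i L9017) rfl
theorem L108436 : N1125 = N1128 := eqes L108435 L9035
theorem L108437 : N1128 = N1125 := (eqc rfl L108436 rfl).symm
theorem L108449 : sm gi N1125 = N829 := trfs L108437 (flp_i L9035) rfl
theorem L108464 : sm gh N834 = N1125 := trfs L87550 (flp_h L12258) rfl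
theorem L108534 : sm ga N1127 = N1125 := trfs L87467 L9101 rfl
theorem L108539 : sm ge N1127 = N834 := trfs L87467 (flp_e L9099) rfl
theorem L108559 : sm ge N621 = N835 := trfs L87440 (flp_e L6734) rfl
theorem L108572 : sm gh N591 = N621 := trfs L87429 (flp_h L6795) rfl
theorem L108588 : sm ga N622 = N621 := trfs L87407 L6470 rfl
theorem L108593 : sm gf N622 = N591 := trfs L87407 (flp_f L6468) rfl
theorem L108621 : sm gg N828 = N990 := trfs L87388 (flp_g L7978) rfl
theorem L108624 : sm gi N828 = N622 := trfs L87388 (flp_i L6802) rfl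
theorem L108631 : sm gg N1298 = N1125 := trfs L87383 (flp_g L12250) rfl
theorem L108665 : sm gg N1127 = N1338 := trfs L87368 (flp_g L10744) rfl
theorem L108687 : sm gi N835 = N1127 := trfs L87348 (flp_i L12271) rfl
theorem L108718 : sm ga N1136 = N990 := trfs L87299 L9868 rfl
theorem L108723 : sm ge N1136 = N1338 := trfs L87299 (flp_e L10742) rfl
theorem L108725 : sm gh N1136 = N1298 := trfs L87299 (flp_h L10396) rfl
theorem L108737 : sm gf N1296 = N990 := trfs L87290 L10847 rfl
theorem L108748 : sm gh N909 = N988 := trfs L87284 (flp_h L10833) rfl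
theorem L108754 : sm ga N844 = N729 := trfs L87278 L7293 rfl
theorem L108759 : sm ge N844 = N979 := trfs L87278 (flp_e L7895) rfl
theorem L108761 : sm gh N844 = N673 := trfs L87278 (flp_h L7291) rfl
theorem L108767 : sm ga N989 = N988 := trfs L87264 L9850 rfl
theorem L108773 : sm gg N989 = N909 := trfs L87264 (flp_g L9848) rfl
theorem L108775 : sm gi N989 = N1296 := trfs L87264 (flp_i L10378) rfl
theorem L108866 : sm ga N1764 = N1765 := trfs L87168 L14587 rfl
theorem L108871 : sm gf N1764 = N1338 := trfs L87168 L14591 rfl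
theorem L108873 : sm gi N1764 = N1337 := trfs L87168 (flp_i L14585) rfl
theorem L108885 : sm ge N2404 = N1765 := trfs L87160 L19149 rfl
theorem L108901 : sm gg N2404 = N1822 := trfs L87153 L19859 rfl
theorem L108903 : sm gh N2404 = N1821 := trfs L87153 (flp_h L19852) rfl
theorem L108909 : sm gf N1349 = N1822 := trfs L87150 (flp_f L14573) rfl
theorem L108912 : sm gh N1349 = N1233 := trfs L87150 (flp_h L13334) rfl
theorem L108921 : sm gd N2469 = N1822 := trfs L87144 (flp_d L19861) rfl
theorem L108930 : sm gd N2487 = N3367 := trfs L87140 (flp_d L26746) rfl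
theorem L108933 : sm gf N2487 = N1836 := trfs L87140 (flp_f L20007) rfl
theorem L108941 : sm gi N1763 = N2404 := trfs L87137 (flp_i L19128) rfl
theorem L108974 : sm ga N3323 = N3375 := trfs L87060 L33152 rfl
theorem L108976 : sm gd N3368 = N3071 := trfs L87057 (flp_d L33102) rfl
theorem L108978 : sm gf N3368 = N4569 := trfs L87057 (flp_f L36236) rfl
theorem L109011 : sm ga N8251 = N8313 := trfs L86943 L67756 rfl
theorem L109012 : N8313 = N8460 := eqes L109011 (flp_a L66744)
theorem L109013 : N8460 = N8313 := (eqc rfl L109012 rfl).symm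
theorem L109015 : sm ga N8313 = N8251 := trfs L109013 L66744 rfl
theorem L109019 : sm gf N8313 = N6175 := trfs L109013 L66749 rfl
theorem L109022 : sm gh N8313 = N6215 := trfs L109013 L66753 rfl
theorem L109025 : sm gd N8303 = N6254 := trfs L86940 L67685 rfl
theorem L109028 : sm gg N8303 = N6256 := trfs L86940 L67688 rfl
theorem L109054 : sm gi N1822 = N2405 := trfs L87178 (flp_i L26021) rfl
theorem L109068 : sm gf N2449 = N3278 := trfs L86876 L35451 rfl
theorem L109071 : sm ga N2405 = N2404 := trfs L86872 L19843 rfl
theorem L109074 : sm gf N2405 = N1821 := trfs L86872 (flp_f L19841) rfl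
theorem L109076 : sm ga N4479 = N4410 := trfs L86869 L35779 rfl
theorem L109080 : sm gf N4479 = N3302 := trfs L86869 (flp_f L35777) rfl
theorem L109083 : sm gi N4479 = N3322 := trfs L86869 L35784 rfl
theorem L109086 : sm gf N4473 = N3339 := trfs L86866 (flp_f L36213) rfl
theorem L109089 : sm gi N4473 = N3367 := trfs L86866 L36219 rfl
theorem L109091 : sm ga N3249 = N3278 := trfs L86863 L27057 rfl
theorem L109098 : sm gf N3344 = N4440 := trfs L86856 L47886 rfl
theorem L109102 : sm ga N6069 = N6026 := trfs L86849 L48803 rfl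
theorem L109105 : sm gf N6069 = N4515 := trfs L86849 L48808 rfl
theorem L109109 : sm gf N6063 = N4568 := trfs L86846 L49456 rfl
theorem L109112 : sm ga N4439 = N4440 := trfs L86843 L36272 rfl
theorem L109114 : sm gd N4439 = N3344 := trfs L86843 (flp_d L36270) rfl
theorem L109120 : sm ga N4442 = N4543 := trfs L86831 L44817 rfl
theorem L109126 : sm gc N3345 = N4543 := trfs L86825 (flp_c L36011) rfl
theorem L109129 : sm gf N3345 = N2470 := trfs L86825 L26783 rfl
theorem L109131 : sm gg N3345 = N4439 := trfs L86825 (flp_g L35124) rfl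
theorem L109133 : sm gh N3345 = N2469 := trfs L86825 (flp_h L26780) rfl
theorem L109136 : sm ga N6070 = N6068 := trfs L86817 L49507 rfl
theorem L109139 : sm gf N6070 = N4574 := trfs L86817 L49510 rfl
theorem L109145 : sm ga N6072 = N6215 := trfs L86810 L61134 rfl
theorem L109149 : sm gh N6072 = N8251 := trfs L86810 (flp_h L64974) rfl
theorem L109153 : sm gh N6066 = N8303 := trfs L86807 (flp_h L65389) rfl
theorem L109155 : sm gc N4576 = N6215 := trfs L86804 (flp_c L49130) rfl
theorem L109160 : sm gg N4576 = N6068 := trfs L86804 (flp_g L47897) rfl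
theorem L109165 : sm ga N4618 = N4545 := trfs L86789 L44834 rfl
theorem L109167 : sm gg N4618 = N4164 := trfs L86789 L44840 rfl
theorem L109171 : sm gg N4612 = N4188 := trfs L86786 L45108 rfl
theorem L109175 : sm ga N3374 = N3376 := trfs L86783 L33160 rfl
theorem L109179 : sm gf N3374 = N4576 := trfs L86783 (flp_f L36305) rfl
theorem L109185 : sm gh N6068 = N4443 := trfs L86776 (flp_h L47929) rfl
theorem L109190 : sm gh N6070 = N4576 := trfs L86772 (flp_h L49550) rfl
theorem L109193 : sm gh N6028 = N4618 := trfs L86769 (flp_h L49999) rfl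
theorem L109196 : sm gh N6064 = N4612 := trfs L86766 (flp_h L49936) rfl
theorem L109226 : sm gg N1661 = N1842 := trfs L86714 L20052 rfl
theorem L109230 : sm ga N2406 = N2469 := trfs L86711 L24352 rfl
theorem L109233 : sm gi N2406 = N3249 := trfs L86711 (flp_i L25766) rfl
theorem L109235 : sm ga N1350 = N1349 := trfs L86708 L13329 rfl
theorem L109239 : sm gg N1350 = N1233 := trfs L86708 (flp_g L13327) rfl
theorem L109241 : sm gi N1350 = N1762 := trfs L86708 (flp_i L14066) rfl
theorem L109243 : sm ga N2518 = N2435 := trfs L86705 L24202 rfl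
theorem L109247 : sm gg N2518 = N2246 := trfs L86705 (flp_g L24200) rfl
theorem L109249 : sm gi N2518 = N3229 := trfs L86705 (flp_i L25604) rfl
theorem L109254 : sm gg N2512 = N2256 := trfs L86702 (flp_g L24319) rfl
theorem L109256 : sm gi N2512 = N3245 := trfs L86702 (flp_i L25735) rfl
theorem L109258 : sm ga N1807 = N1842 := trfs L86699 L18111 rfl
theorem L109261 : sm ga N1009 = N974 := trfs L86688 L9788 rfl
theorem L109270 : sm ga N1878 = N1784 := trfs L86685 L17841 rfl
theorem L109273 : sm gg N1878 = N1652 := trfs L86685 (flp_g L17839) rfl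
theorem L109276 : sm gi N1878 = N2371 := trfs L86685 (flp_i L18849) rfl
theorem L109285 : sm ga N1326 = N1377 := trfs L86679 L13624 rfl
theorem L109289 : sm ga N2471 = N2470 := trfs L86669 L24359 rfl
theorem L109293 : sm ga N1364 = N1365 := trfs L86666 L13460 rfl
theorem L109299 : sm ga N2546 = N2437 := trfs L86663 L24219 rfl
theorem L109308 : sm ga N1809 = N1863 := trfs L86657 L18281 rfl
theorem L109312 : sm gd N2261 = N2470 := trfs L86649 (flp_d L26785) rfl
theorem L109314 : sm gg N2261 = N2471 := trfs L86649 L26787 rfl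
theorem L109318 : sm ge N1245 = N1365 := trfs L86646 L14870 rfl
theorem L109320 : sm gg N1245 = N1364 := trfs L86646 L14872 rfl
theorem L109324 : sm gg N2248 = N2546 := trfs L86643 L27600 rfl
theorem L109327 : sm gg N2258 = N2540 := trfs L86640 L27558 rfl
theorem L109332 : sm ga N2547 = N2473 := trfs L86631 L24381 rfl
theorem L109335 : sm gg N2547 = N2263 := trfs L86631 L24386 rfl
theorem L109339 : sm gd N3077 = N3374 := trfs L86627 L36588 rfl
theorem L109341 : sm gg N3077 = N3376 := trfs L86627 L36592 rfl
theorem L109345 : sm ge N1692 = N1865 := trfs L86624 L20271 rfl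
theorem L109347 : sm gg N1692 = N1864 := trfs L86624 L20273 rfl
theorem L109351 : sm gg N3057 = N3477 := trfs L86621 L37690 rfl
theorem L109354 : sm gg N3073 = N3471 := trfs L86618 L37635 rfl
theorem L109360 : sm gh N3253 = N2547 := trfs L86609 (flp_h L27623) rfl
theorem L109381 : sm gi N1749 = N1377 := trfs L86568 (flp_i L14995) rfl
theorem L109401 : sm gg N1224 = N1377 := trfs L86531 L14979 rfl
theorem L109530 : sm gd N506 = N547 := trfs L86288 L6013 rfl
theorem L109678 : sm ge N1240 = N1360 := trfs L86011 L14835 rfl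
theorem L109680 : sm gg N1240 = N1359 := trfs L86011 (flp_g L14829) rfl
theorem L109683 : sm gg N679 = N742 := trfs L86007 (flp_g L8110) rfl
theorem L109688 : sm gg N1238 = N1367 := trfs L86004 (flp_g L14893) rfl
theorem L109695 : sm gg N1658 = N1872 := trfs L85992 L20343 rfl
theorem L109698 : sm gg N904 = N1009 := trfs L85988 L11031 rfl
theorem L109703 : sm gg N1656 = N1867 := trfs L85985 L20303 rfl
theorem L109717 : sm gi N2381 = N1872 := trfs L85957 (flp_i L20359) rfl
theorem L109722 : sm gi N1288 = N1009 := trfs L85953 (flp_i L11036) rfl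
theorem L109728 : sm gi N2377 = N1867 := trfs L85950 (flp_i L20310) rfl
theorem L109730 : sm gf N953 = N745 := trfs L85936 L8136 rfl
theorem L109737 : sm gf N1755 = N1370 := trfs L85933 L14923 rfl
theorem L109745 : sm gg N1372 = N1223 := trfs L85924 (flp_g L13212) rfl
theorem L109748 : sm gi N1372 = N1747 := trfs L85924 (flp_i L13939) rfl
theorem L109750 : sm ga N744 = N730 := trfs L85919 L7302 rfl
theorem L109752 : sm gg N744 = N674 := trfs L85919 (flp_g L7300) rfl
theorem L109755 : sm gi N744 = N953 := trfs L85919 (flp_i L7661) rfl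
theorem L109759 : sm gg N1004 = N914 := trfs L85909 (flp_g L9914) rfl
theorem L109767 : sm ga N545 = N547 := trfs L85902 L5524 rfl
theorem L109770 : sm gg N545 = N506 := trfs L85902 (flp_g L5522) rfl
theorem L109773 : sm gb N1001 = N1003 := trfs L85899 L9988 rfl
theorem L109777 : sm gg N1001 = N919 := trfs L85899 (flp_g L9984) rfl
theorem L109792 : sm ga N341 = N342 := trfs L85873 L3598 rfl
theorem L109795 : sm gf N341 = N326 := trfs L85873 (flp_f L3596) rfl
theorem L109799 : sm gb N624 = N625 := trfs L85870 L6503 rfl
theorem L109803 : sm gf N624 = N594 := trfs L85870 (flp_f L6499) rfl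
theorem L109812 : sm gf N841 = N800 := trfs L85856 (flp_f L8698) rfl
theorem L109817 : sm ga N464 = N458 := trfs L85852 L4788 rfl
theorem L109820 : sm gf N464 = N437 := trfs L85852 (flp_f L4786) rfl
theorem L109829 : sm gf N848 = N799 := trfs L85849 (flp_f L8684) rfl
theorem L109835 : sm gf N1007 = N1294 := trfs L85842 (flp_f L10364) rfl
theorem L109837 : sm gg N1007 = N827 := trfs L85842 (flp_g L9005) rfl
theorem L109844 : sm gg N1122 = N1348 := trfs L85838 (flp_g L10821) rfl
theorem L109847 : sm gi N1122 = N841 := trfs L85838 (flp_i L9195) rfl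
theorem L109852 : sm gg N611 = N745 := trfs L85834 (flp_g L6029) rfl
theorem L109855 : sm gi N611 = N464 := trfs L85834 (flp_i L5095) rfl
theorem L109862 : sm gg N1120 = N1370 := trfs L85831 (flp_g L10981) rfl
theorem L109865 : sm gi N1120 = N848 := trfs L85831 (flp_i L9249) rfl
theorem L109891 : sm gf N590 = N627 := trfs L85791 L6850 rfl
theorem L109897 : sm gg N908 = N1006 := trfs L85788 L11007 rfl
theorem L109918 : sm gf N440 = N461 := trfs L85768 (flp_f L5053) rfl
theorem L109924 : sm gg N683 = N739 := trfs L85765 (flp_g L8084) rfl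
theorem L109937 : sm ga N465 = N401 := trfs L85742 L4084 rfl
theorem L109939 : sm gd N465 = N374 := trfs L85742 (flp_d L4082) rfl
theorem L109944 : sm gb N849 = N737 := trfs L85739 L7363 rfl
theorem L109946 : sm gd N849 = N681 := trfs L85739 (flp_d L7359) rfl
theorem L109951 : sm ga N623 = N546 := trfs L85728 L5515 rfl
theorem L109955 : sm ga N836 = N745 := trfs L85716 L7437 rfl
theorem L110003 : sm gd N462 = N440 := trfs L85657 (flp_d L4812) rfl
theorem L110117 : sm gd N741 = N683 := trfs L85501 L7390 rfl
theorem L110380 : sm ge N2192 = N2484 := trfs L85095 (flp_e L26979) rfl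
theorem L110382 : sm gh N2192 = N2685 := trfs L85095 L26985 rfl
theorem L110552 : sm gc N4642 = N6291 := trfs L84843 (flp_c L49775) rfl
theorem L110555 : sm gf N4642 = N3420 := trfs L84843 (flp_f L37147) rfl
theorem L110560 : sm gi N4642 = N6103 := trfs L84843 L84748 rfl
theorem L110571 : sm gf N4667 = N6338 := trfs L84832 (flp_f L50146) rfl
theorem L110588 : sm gf N8363 = N6852 := trfs L84737 L68841 rfl
theorem L110601 : sm gf N8362 = N6239 := trfs L84731 (flp_f L67521) rfl
theorem L110604 : sm gi N8362 = N6291 := trfs L84731 L67527 rfl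
theorem L110607 : sm gf N8337 = N6334 := trfs L84727 (flp_f L68616) rfl
theorem L110612 : sm gi N6106 = N8353 := trfs L84707 (flp_i L65820) rfl
theorem L110615 : sm gi N6105 = N8284 := trfs L84703 (flp_i L65251) rfl
theorem L110618 : sm gi N6086 = N8332 := trfs L84699 (flp_i L65638) rfl
theorem L110630 : sm gg N4686 = N4177 := trfs L84684 (flp_g L45006) rfl
theorem L110643 : sm gg N4671 = N4200 := trfs L84680 (flp_g L45253) rfl
theorem L110657 : sm gi N6098 = N4465 := trfs L84673 (flp_i L48227) rfl
theorem L110661 : sm gi N6049 = N4686 := trfs L84668 (flp_i L50788) rfl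
theorem L110666 : sm gi N6082 = N4671 := trfs L84664 (flp_i L50658) rfl
theorem L110676 : sm gd N6410 = N5754 := trfs L84622 L62002 rfl
theorem L110678 : sm gf N6410 = N8722 := trfs L84622 (flp_f L68884) rfl
theorem L110679 : N8722 = N8794 := eqes L110678 (flp_f L69446)
theorem L110680 : N8794 = N8722 := (eqc rfl L110679 rfl).symm
theorem L110683 : sm gf N8722 = N6410 := trfs L110680 L69446 rfl
theorem L110688 : sm gg N4681 = N4214 := trfs L84614 L45414 rfl
theorem L110691 : sm gd N4680 = N4214 := trfs L84610 (flp_d L45416) rfl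
theorem L110696 : sm gg N5701 = N6411 := trfs L84607 L69451 rfl
theorem L110698 : sm gd N5734 = N6392 := trfs L84603 (flp_d L69279) rfl
theorem L110701 : sm gg N5734 = N6393 := trfs L84603 L69283 rfl
theorem L110704 : sm gc N6353 = N8631 := trfs L84597 (flp_c L68136) rfl
theorem L110706 : sm gf N6353 = N4680 := trfs L84597 L50725 rfl
theorem L110708 : sm gg N6353 = N8354 := trfs L84597 (flp_g L65830) rfl
theorem L110712 : sm gf N4638 = N6103 := trfs L84590 L65870 rfl
theorem L110717 : sm gg N3090 = N3424 := trfs L84587 L37182 rfl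
theorem L110751 : sm gg N6098 = N4642 := trfs L84513 L50318 rfl
theorem L110757 : sm gg N3272 = N2487 := trfs L84510 L27014 rfl
theorem L110759 : sm gh N3272 = N2486 := trfs L84510 (flp_h L27008) rfl
theorem L110765 : sm gg N6084 = N4627 := trfs L84506 L50140 rfl
theorem L110767 : sm gh N6084 = N4626 := trfs L84506 (flp_h L50132) rfl
theorem L110772 : sm gg N2403 = N1819 := trfs L84493 L19829 rfl
theorem L110788 : sm gh N1818 = N2403 := trfs L84476 (flp_h L19123) rfl
theorem L110826 : sm gg N2271 = N2507 := trfs L84441 L27224 rfl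
theorem L110828 : sm gh N2271 = N2506 := trfs L84441 (flp_h L27217) rfl
theorem L110837 : sm gf N1835 = N2396 := trfs L84417 (flp_f L19063) rfl
theorem L110848 : sm gi N3266 = N2507 := trfs L84414 (flp_i L27230) rfl
theorem L110852 : sm gf N1759 = N1348 := trfs L84410 L14705 rfl
theorem L110867 : sm gf N2485 = N3268 := trfs L84396 (flp_f L25932) rfl
theorem L110875 : sm gi N4464 = N3390 := trfs L84393 (flp_i L36844) rfl
theorem L110880 : sm gf N2402 = N1820 := trfs L84389 L19837 rfl
theorem L110882 : sm gi N2402 = N1819 := trfs L84389 (flp_i L19832) rfl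
theorem L110885 : sm gf N3390 = N2506 := trfs L84380 (flp_f L27210) rfl
theorem L110887 : sm gg N3390 = N4463 := trfs L84380 (flp_g L35337) rfl
theorem L110910 : sm gh N1229 = N1559 := trfs L84352 (flp_h L16945) rfl
theorem L110956 : sm gg N1834 = N1669 := trfs L84315 (flp_g L18033) rfl
theorem L110958 : sm gi N1834 = N2396 := trfs L84315 (flp_i L19061) rfl
theorem L111001 : sm ge N2102 = N2485 := trfs L84276 (flp_e L19801) rfl
theorem L111003 : sm gh N2102 = N2399 := trfs L84276 (flp_h L19089) rfl
theorem L111007 : sm ge N3395 = N2962 := trfs L84273 L31024 rfl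
theorem L111021 : sm ge N2842 = N2175 := trfs L84257 L22788 rfl
theorem L111039 : sm ge N1816 = N1559 := trfs L84243 L16936 rfl
theorem L111043 : sm gf N2080 = N1542 := trfs L84240 L16755 rfl
theorem L111045 : sm gh N2080 = N1541 := trfs L84240 (flp_h L16750) rfl
theorem L111050 : sm ge N1143 = N1542 := trfs L84237 (flp_e L12334) rfl
theorem L111053 : sm gh N1143 = N1083 := trfs L84237 (flp_h L11802) rfl
theorem L111057 : sm ge N2104 = N1612 := trfs L84234 L16929 rfl
theorem L111059 : sm gf N2104 = N2838 := trfs L84234 (flp_f L22540) rfl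
theorem L111065 : sm gf N1133 = N1529 := trfs L84231 (flp_f L12224) rfl
theorem L111071 : sm gf N2096 = N2829 := trfs L84227 (flp_f L22468) rfl
theorem L111077 : sm gg N2838 = N3271 := trfs L84214 (flp_g L25959) rfl
theorem L111079 : sm gi N2838 = N2083 := trfs L84214 (flp_i L22587) rfl
theorem L111083 : sm gg N1529 = N1761 := trfs L84211 (flp_g L14057) rfl
theorem L111085 : sm gi N1529 = N1123 := trfs L84211 (flp_i L12241) rfl
theorem L111092 : sm ge N1132 = N1531 := trfs L105624 L16604 rfl
theorem L111094 : sm gh N1132 = N1529 := trfs L105624 (flp_h L16600) rfl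
theorem L111141 : sm gi N1528 = N2080 := trfs L84118 (flp_i L16557) rfl
theorem L111164 : sm gg N2483 = N3270 := trfs L84405 L35380 rfl
theorem L111167 : sm gi N2483 = N3268 := trfs L84405 (flp_i L35373) rfl
theorem L111170 : sm gg N2399 = N2080 := trfs L84084 (flp_g L22546) rfl
theorem L111174 : sm ge N4463 = N3270 := trfs L84081 L35358 rfl
theorem L111176 : sm gi N4463 = N3267 := trfs L84081 (flp_i L35353) rfl
theorem L111182 : sm ge N2403 = N3272 := trfs L84075 (flp_e L25967) rfl
theorem L111193 : sm gf N3389 = N4464 := trfs L84521 L48195 rfl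
theorem L111195 : sm gh N3389 = N4463 := trfs L84521 (flp_h L48188) rfl
theorem L111249 : sm gf N6085 = N4626 := trfs L83975 (flp_f L50120) rfl
theorem L111266 : sm gd N3385 = N4590 := trfs L83944 (flp_d L36409) rfl
theorem L111338 : sm gi N4590 = N6094 := trfs L91664 (flp_i L65783) rfl
theorem L111349 : sm gf N3384 = N4457 := trfs L83769 L48121 rfl
theorem L111361 : sm gi N3263 = N2479 := trfs L83766 (flp_i L26915) rfl
theorem L111366 : sm gi N6085 = N4627 := trfs L83760 (flp_i L50148) rfl
theorem L111368 : sm gb N4456 = N4457 := trfs L83757 L36763 rfl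
theorem L111373 : sm gg N4456 = N3385 := trfs L83757 L36767 rfl
theorem L111375 : sm gh N4456 = N3384 := trfs L83757 (flp_h L36759) rfl
theorem L111378 : sm gi N3273 = N2487 := trfs L83754 (flp_i L27023) rfl
theorem L111380 : sm ge N4456 = N3264 := trfs L83745 L35297 rfl
theorem L111398 : sm gi N3262 = N4456 := trfs L83721 (flp_i L35272) rfl
theorem L111400 : sm gb N3417 = N3355 := trfs L83718 L33002 rfl
theorem L111402 : sm gg N3417 = N3061 := trfs L83718 (flp_g L32998) rfl
theorem L111404 : sm gi N3417 = N4422 := trfs L83718 (flp_i L34985) rfl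
theorem L111408 : sm gg N3412 = N3081 := trfs L83715 (flp_g L33215) rfl
theorem L111410 : sm gi N3412 = N4450 := trfs L83715 (flp_i L35218) rfl
theorem L111412 : sm gb N2501 = N2502 := trfs L83712 L24457 rfl
theorem L111415 : sm gf N2501 = N3385 := trfs L83712 (flp_f L26902) rfl
theorem L111420 : sm gg N1837 = N1671 := trfs L83709 (flp_g L18063) rfl
theorem L111422 : sm gi N1837 = N2400 := trfs L83709 (flp_i L19097) rfl
theorem L111424 : sm gb N1369 = N1342 := trfs L83697 L13279 rfl
theorem L111429 : sm gi N1369 = N1755 := trfs L83697 (flp_i L14004) rfl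
theorem L111433 : sm gi N1347 = N1759 := trfs L83691 (flp_i L14039) rfl
theorem L111435 : sm gg N2267 = N2502 := trfs L83682 L27174 rfl
theorem L111437 : sm gh N2267 = N2501 := trfs L83682 (flp_h L27168) rfl
theorem L111441 : sm gg N1228 = N1369 := trfs L83679 L14916 rfl
theorem L111448 : sm gh N2265 = N2498 := trfs L83676 (flp_h L27142) rfl
theorem L111455 : sm gg N1230 = N1347 := trfs L83670 L14695 rfl
theorem L111457 : sm gh N1230 = N1346 := trfs L83670 (flp_h L14689) rfl
theorem L111464 : sm gi N2392 = N1830 := trfs L83663 (flp_i L19962) rfl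
theorem L111497 : sm gb N3264 = N3263 := trfs L83603 L26908 rfl
theorem L111501 : sm gg N3264 = N2479 := trfs L83603 L26912 rfl
theorem L111514 : sm gh N2478 = N3264 := trfs L83585 (flp_h L25899) rfl
theorem L111518 : sm ge N2480 = N2098 := trfs L83582 L22746 rfl
theorem L111521 : sm gb N1540 = N1370 := trfs L83579 L13524 rfl
theorem L111527 : sm ge N2858 = N3383 := trfs L83576 (flp_e L26878) rfl
theorem L111530 : sm gh N2858 = N3260 := trfs L83576 (flp_h L25865) rfl
theorem L111533 : sm gb N1831 = N2098 := trfs L83573 (flp_b L16706) rfl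
theorem L111536 : sm gf N1831 = N2392 := trfs L83573 (flp_f L19026) rfl
theorem L111542 : sm ge N1544 = N1820 := trfs L83570 (flp_e L14551) rfl
theorem L111544 : sm gh N1544 = N1761 := trfs L83570 (flp_h L14059) rfl
theorem L111549 : sm gh N1227 = N1555 := trfs L83564 (flp_h L16909) rfl
theorem L111551 : sm gb N1829 = N1830 := trfs L83561 L18012 rfl
theorem L111553 : sm gh N1829 = N1666 := trfs L83561 (flp_h L18008) rfl
theorem L111556 : sm ge N1813 = N1555 := trfs L83558 L16901 rfl
theorem L111559 : sm gb N1142 = N1002 := trfs L83555 L9979 rfl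
theorem L111564 : sm ge N2118 = N2476 := trfs L83552 (flp_e L19713) rfl
theorem L111567 : sm gh N2118 = N1665 := trfs L83552 (flp_h L17984) rfl
theorem L111569 : sm ge N1146 = N1333 := trfs L83547 (flp_e L10692) rfl
theorem L111572 : sm gh N1146 = N907 := trfs L83547 (flp_h L9826) rfl
theorem L111575 : sm ge N1539 = N1140 := trfs L83538 (flp_e L12426) rfl
theorem L111579 : sm gb N838 = N848 := trfs L83535 L8768 rfl
theorem L111583 : sm ge N840 = N1133 := trfs L83529 (flp_e L9086) rfl
theorem L111586 : sm gh N840 = N800 := trfs L83529 (flp_h L8704) rfl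
theorem L111594 : sm gh N1081 = N1140 := trfs L83514 (flp_h L12437) rfl
theorem L111614 : sm gf N2480 = N3263 := trfs L83467 (flp_f L25887) rfl
theorem L111616 : sm gg N2480 = N2078 := trfs L83467 L22525 rfl
theorem L111623 : sm ge N1538 = N2078 := trfs L105637 L22517 rfl
theorem L111627 : sm gb N2076 = N2078 := trfs L105642 L16716 rfl
theorem L111630 : sm gf N2076 = N1539 := trfs L105642 L16718 rfl
theorem L111632 : sm gh N2076 = N1538 := trfs L105642 (flp_h L16712) rfl
theorem L111636 : sm gg N1531 = N1820 := trfs L83454 (flp_g L14553) rfl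
theorem L111638 : sm gi N1531 = N1133 := trfs L83454 (flp_i L12360) rfl
theorem L111641 : sm gg N2082 = N2485 := trfs L83439 (flp_g L19803) rfl
theorem L111644 : sm gi N2082 = N1542 := trfs L83439 (flp_i L16763) rfl
theorem L111649 : sm gg N2829 = N3260 := trfs L83428 (flp_g L25863) rfl
theorem L111655 : sm gg N1524 = N1831 := trfs L83424 (flp_g L14645) rfl
theorem L111661 : sm gg N1527 = N1835 := trfs L83420 (flp_g L14675) rfl
theorem L111669 : sm gi N2075 = N2829 := trfs L83411 (flp_i L22466) rfl
theorem L111671 : sm gb N1141 = N1140 := trfs L83407 L11774 rfl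
theorem L111673 : sm gf N1141 = N1081 := trfs L83407 (flp_f L11770) rfl
theorem L111676 : sm gi N1141 = N1524 := trfs L83407 (flp_i L12184) rfl
theorem L111680 : sm gf N1144 = N1083 := trfs L83403 (flp_f L11796) rfl
theorem L111683 : sm gi N1144 = N1527 := trfs L83403 (flp_i L12208) rfl
theorem L111689 : sm gb N1341 = N1555 := trfs L83391 L15964 rfl
theorem L111727 : sm gi N2096 = N2831 := trfs L83340 (flp_i L30596) rfl
theorem L111743 : sm gg N3395 = N2842 := trfs L83303 L30711 rfl
theorem L111748 : sm gi N8342 = N6342 := trfs L83294 (flp_i L68734) rfl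
theorem L111762 : sm gi N8325 = N6329 := trfs L83287 (flp_i L68563) rfl
theorem L111766 : sm gf N4467 = N3395 := trfs L83284 L36888 rfl
theorem L111770 : sm gi N4467 = N3392 := trfs L83284 (flp_i L36882) rfl
theorem L111783 : sm gh N4998 = N6091 := trfs L83264 (flp_h L65746) rfl
theorem L111788 : sm gg N4629 = N6091 := trfs L83261 L65736 rfl
theorem L111790 : sm gi N4629 = N6088 := trfs L83261 (flp_i L65727) rfl
theorem L111793 : sm gg N8344 = N6342 := trfs L83257 L68709 rfl
theorem L111795 : sm gh N8344 = N6846 := trfs L83257 L68711 rfl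
theorem L111800 : sm gh N4454 = N3380 := trfs L83254 (flp_h L36697) rfl
theorem L111804 : sm gg N4470 = N3392 := trfs L83250 L36860 rfl
theorem L111806 : sm gh N4470 = N3664 := trfs L83250 L36863 rfl
theorem L111816 : sm gh N4031 = N4455 := trfs L83219 (flp_h L48104) rfl
theorem L111827 : sm gd N4021 = N4021 := trfs L83198 L74897 L83198
theorem L111828 : N4021 = N5491 := eqes L111827 L43400
theorem L111829 : N5491 = N4021 := (eqc rfl L111828 rfl).symm
theorem L111837 : sm gd N4021 = N4021 := trfs L111829 (flp_d L43400) rfl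
theorem L111840 : sm gg N4021 = N7506 := trfs L111829 (flp_g L59195) rfl
theorem L111841 : N7506 = N5490 := eqes L111840 (flp_g L43397)
theorem L111842 : N7506 = N5490 := eqc rfl L111841 rfl
theorem L111853 : sm gd N5490 = N5490 := trfs L111842 (flp_d L59190) rfl
theorem L111879 : sm ge N2885 = N3378 := trfs L83152 (flp_e L26829) rfl
theorem L111888 : sm ge N1552 = N2096 := trfs L83141 (flp_e L16689) rfl
theorem L111896 : sm gh N2264 = N2885 := trfs L83134 (flp_h L31246) rfl
theorem L111900 : sm gf N1471 = N1553 := trfs L83126 L16886 rfl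
theorem L111902 : sm gh N1471 = N1552 := trfs L83126 (flp_h L16880) rfl
theorem L111946 : sm gc N2116 = N2115 := trfs L83066 L21666 rfl
theorem L111950 : sm gf N2116 = N2000 := trfs L83066 (flp_f L21661) rfl
theorem L111970 : sm ge N2856 = N2115 := trfs L83045 (flp_e L22937) rfl
theorem L111986 : sm gf N3855 = N2856 := trfs L83032 L30869 rfl
theorem L111990 : sm gh N3855 = N2855 := trfs L83032 (flp_h L30862) rfl
theorem L111994 : sm gc N3857 = N3855 := trfs L83026 L30845 rfl
theorem L111997 : sm ge N3857 = N2855 := trfs L83026 (flp_e L30840) rfl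
theorem L112004 : sm ge N2095 = N2831 := trfs L83017 L30576 rfl
theorem L112007 : sm gh N2095 = N2829 := trfs L83017 (flp_h L30570) rfl
theorem L112014 : sm gf N3383 = N4452 := trfs L82990 (flp_f L35236) rfl
theorem L112016 : sm gg N3383 = N2831 := trfs L82990 L30586 rfl
theorem L112022 : sm gg N2827 = N3409 := trfs L82982 (flp_g L27118) rfl
theorem L112025 : sm gi N2827 = N2116 := trfs L82982 (flp_i L22957) rfl
theorem L112028 : sm gc N3896 = N3409 := trfs L82975 L33206 rfl
theorem L112030 : sm ge N3896 = N4624 := trfs L82975 (flp_e L36661) rfl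
theorem L112033 : sm gh N3896 = N4448 := trfs L82975 (flp_h L35199) rfl
theorem L112038 : sm gg N2500 = N2074 := trfs L82972 (flp_g L22470) rfl
theorem L112045 : sm gf N3257 = N2500 := trfs L82956 L27160 rfl
theorem L112050 : sm gc N2496 = N2885 := trfs L82947 L29431 rfl
theorem L112056 : sm gc N4664 = N4663 := trfs L82944 L45192 rfl
theorem L112059 : sm gg N4664 = N4195 := trfs L82944 (flp_g L45187) rfl
theorem L112062 : sm gi N4664 = N6075 := trfs L82944 (flp_i L47955) rfl
theorem L112065 : sm gg N2499 = N2265 := trfs L82938 (flp_g L24411) rfl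
theorem L112068 : sm gi N2499 = N3257 := trfs L82938 (flp_i L25834) rfl
theorem L112071 : sm gc N3407 = N3408 := trfs L82931 L33188 rfl
theorem L112084 : sm gg N3079 = N3408 := trfs L82919 L37042 rfl
theorem L112086 : sm gh N3079 = N3407 := trfs L82919 (flp_h L37035) rfl
theorem L112102 : sm gg N6079 = N4622 := trfs L82891 L50049 rfl
theorem L112104 : sm gh N6079 = N4621 := trfs L82891 (flp_h L50040) rfl
theorem L112111 : sm gg N3381 = N4454 := trfs L82882 L48084 rfl
theorem L112113 : sm gi N3381 = N4452 := trfs L82882 (flp_i L48076) rfl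
theorem L112121 : sm ge N8321 = N6079 := trfs L82872 L65562 rfl
theorem L112126 : sm gc N6077 = N6079 := trfs L82869 L50065 rfl
theorem L112128 : sm gf N6077 = N4624 := trfs L82869 L50067 rfl
theorem L112130 : sm gi N6077 = N4622 := trfs L82869 (flp_i L50060) rfl
theorem L112132 : sm ge N4454 = N6084 := trfs L82866 (flp_e L48034) rfl
theorem L112139 : sm gi N6076 = N8321 := trfs L82852 (flp_i L65535) rfl
theorem L112166 : sm ge N5271 = N4019 := trfs L82812 L42063 rfl
theorem L112184 : sm gg N6081 = N5267 := trfs L82794 (flp_g L56774) rfl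
theorem L112189 : sm gg N3855 = N4448 := trfs L82790 (flp_g L35197) rfl
theorem L112191 : sm gi N3855 = N2828 := trfs L82790 (flp_i L30541) rfl
theorem L112198 : sm gg N7204 = N8330 := trfs L82787 (flp_g L65619) rfl
theorem L112205 : sm gg N3860 = N4455 := trfs L82784 (flp_g L35266) rfl
theorem L112207 : sm gi N3860 = N2832 := trfs L82784 (flp_i L30606) rfl
theorem L112216 : sm gf N6333 = N8325 := trfs L82764 (flp_f L65573) rfl
theorem L112218 : sm gg N6333 = N5271 := trfs L82764 L56833 rfl
theorem L112228 : sm gg N3857 = N4624 := trfs L82755 (flp_g L36663) rfl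
theorem L112230 : sm gi N3857 = N2856 := trfs L82755 (flp_i L30878) rfl
theorem L112233 : sm gg N3864 = N4632 := trfs L82752 (flp_g L36744) rfl
theorem L112236 : sm gi N3864 = N2860 := trfs L82752 (flp_i L30956) rfl
theorem L112240 : sm ge N6331 = N5533 := trfs L82732 L58124 rfl
theorem L112245 : sm ge N4055 = N5327 := trfs L82727 (flp_e L57511) rfl
theorem L112247 : sm gh N4055 = N5495 := trfs L82727 L57517 rfl
theorem L112254 : sm gi N5273 = N7204 := trfs L82724 (flp_i L56771) rfl
theorem L112257 : sm ge N3898 = N2976 := trfs L82721 L31230 rfl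
theorem L112263 : sm gd N7213 = N7204 := trfs L82711 L57400 rfl
theorem L112265 : sm ge N7213 = N5486 := trfs L82711 L57393 rfl
theorem L112269 : sm gf N5267 = N3898 := trfs L82708 L42101 rfl
theorem L112278 : sm gh N4023 = N5267 := trfs L82695 (flp_h L56784) rfl
theorem L112282 : sm ge N2957 = N2957 := trfs L82576 (flp_e L31929) rfl
theorem L112305 : sm gc N2183 = N2183 := trfs L82489 (flp_c L23583) rfl
theorem L112316 : sm gd N2955 = N2955 := trfs L82471 (flp_d L31915) rfl
theorem L112359 : sm gd N4029 = N4029 := trfs L82453 (flp_d L43485) rfl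
theorem L112393 : sm ge N2967 = N2967 := trfs L82343 (flp_e L32024) rfl
theorem L112409 : sm gf N6846 = N6846 := trfs L82303 (flp_f L73950) rfl
theorem L112417 : sm gg N6864 = N6864 := trfs L82286 (flp_g L74130) rfl
theorem L112421 : sm gg N6847 = N6847 := trfs L82281 (flp_g L73958) rfl
theorem L112426 : sm gg N5000 = N5000 := trfs L82135 (flp_g L54044) rfl
theorem L112450 : sm gf N2958 = N2958 := trfs L82107 (flp_f L31935) rfl
theorem L114793 : sm gc N4019 = N7500 := trfs L77770 (flp_c L59144) rfl
theorem L114794 : N7500 = N5486 := eqes L114793 L43357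
theorem L114795 : N7500 = N5486 := eqc rfl L114794 rfl
theorem L114799 : sm gh N4019 = N4019 := trfs L77770 (flp_h L43374) rfl
theorem L114803 : sm gh N5486 = N5486 := trfs L114795 (flp_h L59140) rfl
theorem L114808 : sm gh N2175 = N2175 := trfs L77767 (flp_h L23520) rfl
theorem L114811 : sm gh N5497 = N5497 := trfs L77760 (flp_h L59273) rfl
theorem L114814 : sm gh N5487 = N5487 := trfs L77750 (flp_h L59157) rfl
theorem L114817 : sm gh N2962 = N2962 := trfs L77747 (flp_h L31978) rfl
theorem L114862 : N9114 = N762 := coi_47_19 (flp_c L7769) L7767 L5767 L5766 L7784 L7793 (flp_d L7886) L7885 (flp_b L10682) L14539 (flp_g L110772) L19121 L14055 L10819 L8105 L8103 L6031 (flp_g L109852) (flp_f L4933) (flp_e L3662) L2717 (flp_c L2037) L1508 L1134 (flp_g L1021) (flp_f L1403) L1908 L1913 (flp_c L2574) (flp_b L3475) (flp_h L4568) L4567 L6200 L6206 (flp_d L6310) (flp_c L8524) L8523 L8526 L11597 L11603 (flp_e L12857) (flp_d L17429) L17428 L17427 L110382 L21350 L82114 (flp_e L17332) (flp_d L12762) L9400 L6955 (flp_h L5159) (flp_g L4613) L6256 L8471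 (flp_d L11327) (flp_c L15189) (flp_b L20647) L28151 (flp_g L38444) (flp_f L52523) L52522 L71856
theorem L114863 : N9114 = N762 := eqc rfl L114862 rfl
theorem L114870 : sm gf N762 = N6647 := trfs L114863 L71860 rfl
theorem L114871 : N6647 = N1035 := eqes L114870 L8317
theorem L114872 : N6647 = N1035 := eqc rfl L114871 rfl
theorem L114894 : sm gi N1035 = N9117 := trfs L114872 L71879 rfl
theorem L114895 : N9117 = N768 := eqes L114894 L8322
theorem L114896 : N9117 = N768 := eqc rfl L114895 rfl
theorem L114903 : sm gg N768 = N6650 := trfs L114896 L71885 rfl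
theorem L114904 : N6650 = N1044 := eqes L114903 L8384
theorem L114905 : N6650 = N1044 := eqc rfl L114904 rfl
theorem L114922 : sm gh N1044 = N9120 := trfs L114905 L71898 rfl
theorem L114923 : N9120 = N790 := eqes L114922 L8390
theorem L114924 : N9120 = N790 := eqc rfl L114923 rfl
theorem L114929 : sm gd N790 = N6708 := trfs L114924 L71903 rfl
theorem L114930 : N6708 = N1071 := eqes L114929 (flp_d L8602)
theorem L114931 : N6708 = N1071 := eqc rfl L114930 rfl
theorem L114948 : sm gh N1071 = N4897 := trfs L114931 (flp_h L52998) rfl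
theorem L114949 : N4897 = N1463 := eqes L114948 L11701
theorem L114950 : N4897 = N1463 := eqc rfl L114949 rfl
theorem L114961 : sm gd N1463 = N3578 := trfs L114950 L38785 rfl
theorem L114962 : N3578 = N1950 := eqes L114961 (flp_d L15539)
theorem L114963 : N3578 = N1950 := eqc rfl L114962 rfl
theorem L114969 : sm gi N1463 = N3577 := trfs L114950 (flp_i L38781) rfl
theorem L114970 : N3577 = N1992 := eqes L114969 L15871
theorem L114971 : N3577 = N1992 := eqc rfl L114970 rfl
theorem L114972 : sm ga N1992 = N4877 := trfs L114971 (flp_a L38631) rfl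
theorem L114973 : N4877 = N2709 := eqes L114972 (flp_a L21538)
theorem L114974 : N4877 = N2709 := eqc rfl L114973 rfl
theorem L114975 : sm gb N1992 = N2622 := trfs L114971 L28381 rfl
theorem L114976 : N2622 = N1465 := eqes L114975 L15873
theorem L114977 : N2622 = N1465 := eqc rfl L114976 rfl
theorem L114981 : sm gd N1992 = N2617 := trfs L114971 (flp_d L28379) rfl
theorem L114982 : N2617 = N2668 := eqes L114981 (flp_d L21201)
theorem L114983 : N2668 = N2617 := (eqc rfl L114982 rfl).symm
theorem L114986 : sm gg N1992 = N4894 := trfs L114971 (flp_g L38763) rfl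
theorem L114987 : N4894 = N1464 := eqes L114986 L15877
theorem L114988 : N4894 = N1464 := eqc rfl L114987 rfl
theorem L114999 : sm gd N1464 = N3576 := trfs L114988 (flp_d L38759) rfl
theorem L115000 : N3576 = N1951 := eqes L114999 (flp_d L15545)
theorem L115001 : N3576 = N1951 := eqc rfl L115000 rfl
theorem L115003 : sm gf N1464 = N6703 := trfs L114988 (flp_f L52963) rfl
theorem L115004 : N6703 = N1073 := eqes L115003 L11714
theorem L115005 : N6703 = N1073 := eqc rfl L115004 rfl
theorem L115025 : sm gi N1073 = N9200 := trfs L115005 L72519 rfl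
theorem L115026 : N9200 = N789 := eqes L115025 (flp_i L8614)
theorem L115027 : N9200 = N789 := eqc rfl L115026 rfl
theorem L115031 : sm gd N789 = N6704 := trfs L115027 L72523 rfl
theorem L115032 : N6704 = N1043 := eqes L115031 (flp_d L8382)
theorem L115033 : N6704 = N1043 := eqc rfl L115032 rfl
theorem L115050 : sm gh N1043 = N9115 := trfs L115033 (flp_h L71872) rfl
theorem L115051 : N9115 = N767 := eqes L115050 (flp_h L8376)
theorem L115052 : N9115 = N767 := eqc rfl L115051 rfl
theorem L115054 : sm gb N767 = N6652 := trfs L115052 L71866 rfl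
theorem L115055 : N6652 = N564 := eqes L115054 L6196
theorem L115056 : N6652 = N564 := eqc rfl L115055 rfl
theorem L115074 : sm gi N564 = N4857 := trfs L115056 (flp_i L52561) rfl
theorem L115075 : N4857 = N763 := eqes L115074 (flp_i L6164)
theorem L115076 : N4857 = N763 := eqc rfl L115075 rfl
theorem L115088 : sm gh N763 = N3551 := trfs L115076 (flp_h L38470) rfl
theorem L115089 : N3551 = N1037 := eqes L115088 L8333
theorem L115090 : N3551 = N1037 := eqc rfl L115089 rfl
theorem L115100 : sm gf N1037 = N2600 := trfs L115090 (flp_f L28173) rfl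
theorem L115101 : N2600 = N1417 := eqes L115100 (flp_f L11341)
theorem L115102 : N2600 = N1417 := eqc rfl L115101 rfl
theorem L115104 : sm gi N1037 = N2620 := trfs L115090 L28179 rfl
theorem L115105 : N2620 = N1418 := eqes L115104 L11344
theorem L115106 : N2620 = N1418 := eqc rfl L115105 rfl
theorem L115108 : sm gb N1418 = N3575 := trfs L115106 (flp_b L28366) rfl
theorem L115109 : N3575 = N1931 := eqes L115108 (flp_b L15399)
theorem L115110 : N3575 = N1931 := eqc rfl L115109 rfl
theorem L115111 : sm gc N1418 = N1952 := trfs L115106 L20831 rfl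
theorem L115112 : N1952 = N1907 := eqes L115111 (flp_c L15215)
theorem L115113 : N1952 = N1907 := eqc rfl L115112 rfl
theorem L115116 : sm gf N1418 = N1918 := trfs L115106 (flp_f L20828) rfl
theorem L115117 : N1918 = N1935 := eqes L115116 (flp_f L15432)
theorem L115118 : N1935 = N1918 := (eqc rfl L115117 rfl).symm
theorem L115120 : sm gh N1418 = N3580 := trfs L115106 L28401 rfl
theorem L115121 : N3580 = N1048 := eqes L115120 L11350
theorem L115122 : N3580 = N1048 := eqc rfl L115121 rfl
theorem L115130 : sm gf N1048 = N2621 := trfs L115122 L28407 rfl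
theorem L115131 : N2621 = N1432 := eqes L115130 (flp_f L11451)
theorem L115132 : N2621 = N1432 := eqc rfl L115131 rfl
theorem L115137 : sm gc N1432 = N1953 := trfs L115132 L20839 rfl
theorem L115138 : N1953 = N1921 := eqes L115137 (flp_c L15319)
theorem L115139 : N1953 = N1921 := eqc rfl L115138 rfl
theorem L115141 : sm ge N1432 = N1920 := trfs L115132 L20841 rfl
theorem L115142 : N1920 = N1954 := eqes L115141 (flp_e L15568)
theorem L115143 : N1954 = N1920 := (eqc rfl L115142 rfl).symm
theorem L115144 : sm gg N1432 = N1919 := trfs L115132 L20843 rfl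
theorem L115145 : N1919 = N1955 := eqes L115144 (flp_g L15577)
theorem L115146 : N1955 = N1919 := (eqc rfl L115145 rfl).symm
theorem L115149 : sm gi N1432 = N3582 := trfs L115132 L28418 rfl
theorem L115150 : N3582 = N1047 := eqes L115149 (flp_i L11446)
theorem L115151 : N3582 = N1047 := eqc rfl L115150 rfl
theorem L115164 : sm gg N1047 = N2623 := trfs L115151 L28425 rfl
theorem L115165 : N2623 = N1431 := eqes L115164 (flp_g L11442)
theorem L115166 : N2623 = N1431 := eqc rfl L115165 rfl
theorem L115175 : sm gh N1431 = N3554 := trfs L115166 (flp_h L28205) rfl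
theorem L115176 : N3554 = N1046 := eqes L115175 (flp_h L11438)
theorem L115177 : N3554 = N1046 := eqc rfl L115176 rfl
theorem L115186 : sm ge N1046 = N2603 := trfs L115177 L28202 rfl
theorem L115187 : N2603 = N1429 := eqes L115186 (flp_e L11429)
theorem L115188 : N2603 = N1429 := eqc rfl L115187 rfl
theorem L115191 : sm gi N1046 = N2601 := trfs L115177 (flp_i L28197) rfl
theorem L115192 : N2601 = N1416 := eqes L115191 (flp_i L11335)
theorem L115193 : N2601 = N1416 := eqc rfl L115192 rfl
theorem L115195 : sm gb N1416 = N3548 := trfs L115193 (flp_b L28153) rfl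
theorem L115196 : N3548 = N1929 := eqes L115195 (flp_b L15383)
theorem L115197 : N3548 = N1929 := eqc rfl L115196 rfl
theorem L115198 : sm gc N1416 = N1933 := trfs L115193 L20689 rfl
theorem L115199 : N1933 = N1905 := eqes L115198 (flp_c L15198)
theorem L115200 : N1933 = N1905 := eqc rfl L115199 rfl
theorem L115204 : sm ge N1416 = N1906 := trfs L115193 L20691 rfl
theorem L115205 : N1906 = N1932 := eqes L115204 (flp_e L15411)
theorem L115206 : N1932 = N1906 := (eqc rfl L115205 rfl).symm
theorem L115209 : sm gh N1416 = N1904 := trfs L115193 (flp_h L20686) rfl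
theorem L115210 : N1904 = N1934 := eqes L115209 L15421
theorem L115211 : N1934 = N1904 := (eqc rfl L115210 rfl).symm
theorem L115213 : sm gb N1904 = N2639 := trfs L115211 (flp_b L20981) rfl
theorem L115214 : N2639 = N2596 := eqes L115213 (flp_b L20647)
theorem L115215 : N2639 = N2596 := eqc rfl L115214 rfl
theorem L115226 : sm gh N1904 = N1416 := trfs L115211 (flp_h L15421) rfl
theorem L115228 : sm gi N1904 = N2645 := trfs L115211 L21027 rfl
theorem L115229 : N2645 = N1405 := eqes L115228 L15191
theorem L115230 : N2645 = N1405 := eqc rfl L115229 rfl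
theorem L115239 : sm ge N1405 = N3610 := trfs L115230 (flp_e L28645) rfl
theorem L115240 : N3610 = N1030 := eqes L115239 (flp_e L11241)
theorem L115241 : N3610 = N1030 := eqc rfl L115240 rfl
theorem L115250 : sm gd N1030 = N4941 := trfs L115241 (flp_d L39131) rfl
theorem L115251 : N4941 = N759 := eqes L115250 L8282
theorem L115252 : N4941 = N759 := eqc rfl L115251 rfl
theorem L115272 : sm gi N759 = N3609 := trfs L115252 (flp_i L39128) rfl
theorem L115273 : N3609 = N1025 := eqes L115272 (flp_i L8246)
theorem L115274 : N3609 = N1025 := eqc rfl L115273 rfl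
theorem L115290 : sm gh N1025 = N2690 := trfs L115274 L28640 rfl
theorem L115291 : N2690 = N1391 := eqes L115290 (flp_h L11140)
theorem L115292 : N2690 = N1391 := eqc rfl L115291 rfl
theorem L115300 : sm gd N1391 = N1970 := trfs L115292 (flp_d L21389) rfl
theorem L115301 : N1970 = N1895 := eqes L115300 (flp_d L15119)
theorem L115302 : N1970 = N1895 := eqc rfl L115301 rfl
theorem L115307 : sm gg N1391 = N1971 := trfs L115292 L21392 rfl
theorem L115308 : N1971 = N1897 := eqes L115307 L15129
theorem L115309 : N1971 = N1897 := eqc rfl L115308 rfl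
theorem L115312 : sm gb N1897 = N2688 := trfs L115309 (flp_b L21374) rfl
theorem L115313 : N2688 = N2585 := eqes L115312 (flp_b L20559)
theorem L115314 : N2688 = N2585 := eqc rfl L115313 rfl
theorem L115318 : sm gd N1897 = N1443 := trfs L115309 (flp_d L15710) rfl
theorem L115319 : N1443 = N2587 := eqes L115318 (flp_d L20576)
theorem L115320 : N2587 = N1443 := (eqc rfl L115319 rfl).symm
theorem L115326 : sm gb N1443 = N3528 := trfs L115320 (flp_b L27987) rfl
theorem L115327 : N3528 = N1967 := eqes L115326 (flp_b L15676)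
theorem L115328 : N3528 = N1967 := eqc rfl L115327 rfl
theorem L115330 : sm gd N1443 = N1897 := trfs L115320 L20576 rfl
theorem L115338 : sm gh N1443 = N3533 := trfs L115320 L28023 rfl
theorem L115339 : N3533 = N1055 := eqes L115338 (flp_h L11540)
theorem L115340 : N3533 = N1055 := eqc rfl L115339 rfl
theorem L115352 : sm gg N1055 = N2588 := trfs L115340 L28028 rfl
theorem L115353 : N2588 = N1442 := eqes L115352 L11532
theorem L115354 : N2588 = N1442 := eqc rfl L115353 rfl
theorem L115355 : sm gi N1055 = N4832 := trfs L115340 L38260 rfl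
theorem L115356 : N4832 = N783 := eqes L115355 L8475
theorem L115357 : N4832 = N783 := eqc rfl L115356 rfl
theorem L115368 : sm gg N783 = N3534 := trfs L115357 L38267 rfl
theorem L115369 : N3534 = N1064 := eqes L115368 L8542
theorem L115370 : N3534 = N1064 := eqc rfl L115369 rfl
theorem L115381 : sm gf N1064 = N2589 := trfs L115370 L28038 rfl
theorem L115382 : N2589 = N1452 := eqes L115381 L11612
theorem L115383 : N2589 = N1452 := eqc rfl L115382 rfl
theorem L115387 : sm gb N1452 = N3530 := trfs L115383 (flp_b L28003) rfl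
theorem L115388 : N3530 = N1978 := eqes L115387 (flp_b L15762)
theorem L115389 : N3530 = N1978 := eqc rfl L115388 rfl
theorem L115398 : sm gi N1452 = N1896 := trfs L115383 (flp_i L20588) rfl
theorem L115399 : N1896 = N1969 := eqes L115398 (flp_i L15696)
theorem L115400 : N1969 = N1896 := (eqc rfl L115399 rfl).symm
theorem L115402 : sm gb N1896 = N2686 := trfs L115400 (flp_b L21356) rfl
theorem L115403 : N2686 = N2584 := eqes L115402 (flp_b L20552)
theorem L115404 : N2686 = N2584 := eqc rfl L115403 rfl
theorem L115407 : sm ge N1896 = N1605 := trfs L115400 L15698 rfl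
theorem L115408 : N1605 = N2578 := eqes L115407 (flp_e L20509)
theorem L115409 : N2578 = N1605 := (eqc rfl L115408 rfl).symm
theorem L115413 : sm gh N1896 = N2689 := trfs L115400 L21379 rfl
theorem L115414 : N2689 = N1390 := eqes L115413 (flp_h L15122)
theorem L115415 : N2689 = N1390 := eqc rfl L115414 rfl
theorem L115416 : sm gi N1896 = N1452 := trfs L115400 L15696 rfl
theorem L115424 : sm ge N1390 = N2184 := trfs L115415 L21383 rfl
theorem L115425 : N2184 = N1889 := eqes L115424 (flp_e L15073)
theorem L115426 : N2184 = N1889 := eqc rfl L115425 rfl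
theorem L115431 : sm gb N1889 = N2970 := trfs L115426 (flp_b L23568) rfl
theorem L115432 : N2970 = N2575 := eqes L115431 (flp_b L20484)
theorem L115433 : N2970 = N2575 := eqc rfl L115432 rfl
theorem L115438 : sm gf N1889 = N1606 := trfs L115426 L17367 rfl
theorem L115439 : N1606 = N2577 := eqes L115438 L20498
theorem L115440 : N2577 = N1606 := (eqc rfl L115439 rfl).symm
theorem L115446 : sm gb N1606 = N3514 := trfs L115440 (flp_b L27881) rfl
theorem L115447 : N3514 = N2182 := eqes L115446 (flp_b L17348)
theorem L115448 : N3514 = N2182 := eqc rfl L115447 rfl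
theorem L115450 : sm gd N1606 = N1890 := trfs L115440 L20502 rfl
theorem L115451 : N1890 = N2185 := eqes L115450 L17371
theorem L115452 : N2185 = N1890 := (eqc rfl L115451 rfl).symm
theorem L115456 : sm gf N1606 = N1889 := trfs L115440 (flp_f L20498) rfl
theorem L115461 : sm gh N1606 = N3519 := trfs L115440 L27919 rfl
theorem L115462 : N3519 = N1180 := eqes L115461 (flp_h L12800)
theorem L115463 : N3519 = N1180 := eqc rfl L115462 rfl
theorem L115478 : sm gi N1180 = N4811 := trfs L115463 L38105 rfl
theorem L115479 : N4811 = N878 := eqes L115478 L9435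
theorem L115480 : N4811 = N878 := eqc rfl L115479 rfl
theorem L115491 : sm gg N878 = N6585 := trfs L115480 (flp_g L52034) rfl
theorem L115492 : N6585 = N648 := eqes L115491 (flp_g L7034)
theorem L115493 : N6585 = N648 := eqc rfl L115492 rfl
theorem L115501 : sm ge N648 = N9023 := trfs L115493 (flp_e L71151) rfl
theorem L115502 : N9023 = N478 := eqes L115501 (flp_e L5209)
theorem L115503 : N9023 = N478 := eqc rfl L115502 rfl
theorem L115511 : sm gi N478 = N6582 := trfs L115503 (flp_i L71147) rfl
theorem L115512 : N6582 = N640 := eqes L115511 (flp_i L5157)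
theorem L115513 : N6582 = N640 := eqc rfl L115512 rfl
theorem L115527 : sm gh N640 = N4808 := trfs L115513 (flp_h L52004) rfl
theorem L115528 : N4808 = N871 := eqes L115527 L6984
theorem L115529 : N4808 = N871 := eqc rfl L115528 rfl
theorem L115537 : sm gf N871 = N6581 := trfs L115529 L51995 rfl
theorem L115538 : N6581 = N641 := eqes L115537 L6988
theorem L115539 : N6581 = N641 := eqc rfl L115538 rfl
theorem L115549 : sm gg N641 = N4828 := trfs L115539 L52002 rfl
theorem L115550 : N4828 = N776 := eqes L115549 (flp_g L6269)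
theorem L115551 : N4828 = N776 := eqc rfl L115550 rfl
theorem L115562 : sm gh N776 = N6610 := trfs L115551 L52221 rfl
theorem L115563 : N6610 = N569 := eqes L115562 (flp_h L6264)
theorem L115564 : N6610 = N569 := eqc rfl L115563 rfl
theorem L115571 : sm gd N569 = N9062 := trfs L115564 L71445 rfl
theorem L115572 : N9062 = N418 := eqes L115571 (flp_d L4610)
theorem L115573 : N9062 = N418 := eqc rfl L115572 rfl
theorem L115586 : sm gf N418 = N6611 := trfs L115573 L71448 rfl
theorem L115587 : N6611 = N570 := eqes L115586 L4619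
theorem L115588 : N6611 = N570 := eqc rfl L115587 rfl
theorem L115601 : sm gi N570 = N9065 := trfs L115588 L71468 rfl
theorem L115602 : N9065 = N423 := eqes L115601 L4625
theorem L115603 : N9065 = N423 := eqc rfl L115602 rfl
theorem L115607 : sm gg N423 = N6614 := trfs L115603 L71475 rfl
theorem L115608 : N6614 = N576 := eqes L115607 L4666
theorem L115609 : N6614 = N576 := eqc rfl L115608 rfl
theorem L115617 : sm gf N576 = N9025 := trfs L115609 (flp_f L71170) rfl
theorem L115618 : N9025 = N479 := eqes L115617 L4673
theorem L115619 : N9025 = N479 := eqc rfl L115618 rfl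
theorem L115631 : sm gi N479 = N6583 := trfs L115619 (flp_i L71164) rfl
theorem L115632 : N6583 = N642 := eqes L115631 (flp_i L5173)
theorem L115633 : N6583 = N642 := eqc rfl L115632 rfl
theorem L115638 : sm gc N642 = N9024 := trfs L115633 L71156 rfl
theorem L115639 : N9024 = N474 := eqes L115638 L5169
theorem L115640 : N9024 = N474 := eqc rfl L115639 rfl
theorem L115649 : sm gf N474 = N6613 := trfs L115640 L71160 rfl
theorem L115650 : N6613 = N571 := eqes L115649 (flp_f L4634)
theorem L115651 : N6613 = N571 := eqc rfl L115650 rfl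
theorem L115659 : sm ge N571 = N4860 := trfs L115651 L52248 rfl
theorem L115660 : N4860 = N765 := eqes L115659 (flp_e L6180)
theorem L115661 : N4860 = N765 := eqc rfl L115660 rfl
theorem L115678 : sm gi N765 = N6656 := trfs L115661 L52593 rfl
theorem L115679 : N6656 = N566 := eqes L115678 L6183
theorem L115680 : N6656 = N566 := eqc rfl L115679 rfl
theorem L115686 : sm gd N566 = N4943 := trfs L115680 L52598 rfl
theorem L115687 : N4943 = N760 := eqes L115686 (flp_d L6137)
theorem L115688 : N4943 = N760 := eqc rfl L115687 rfl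
theorem L115707 : sm gb N760 = N6769 := trfs L115688 (flp_b L53463) rfl
theorem L115708 : N6769 = N963 := eqes L115707 (flp_b L7744)
theorem L115709 : N6769 = N963 := eqc rfl L115708 rfl
theorem L115729 : sm gi N963 = N4942 := trfs L115709 (flp_i L53461) rfl
theorem L115730 : N4942 = N1306 := eqes L115729 (flp_i L10479)
theorem L115731 : N4942 = N1306 := eqc rfl L115730 rfl
theorem L115745 : sm gh N1306 = N3672 := trfs L115731 L39141 rfl
theorem L115746 : N3672 = N1770 := eqes L115745 (flp_h L14139)
theorem L115747 : N3672 = N1770 := eqc rfl L115746 rfl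
theorem L115758 : sm gg N1770 = N5020 := trfs L115747 (flp_g L39727) rfl
theorem L115759 : N5020 = N1301 := eqes L115758 (flp_g L14131)
theorem L115760 : N5020 = N1301 := eqc rfl L115759 rfl
theorem L115771 : sm gf N1301 = N6871 := trfs L115760 (flp_f L54210) rfl
theorem L115772 : N6871 = N955 := eqes L115771 (flp_f L10418)
theorem L115773 : N6871 = N955 := eqc rfl L115772 rfl
theorem L115790 : sm gh N955 = N9281 := trfs L115773 (flp_h L73124) rfl
theorem L115791 : N9281 = N708 := eqes L115790 L7682
theorem L115792 : N9281 = N708 := eqc rfl L115791 rfl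
theorem L115794 : sm gb N708 = N6763 := trfs L115792 (flp_b L73119) rfl
theorem L115795 : N6763 = N555 := eqes L115794 L5720
theorem L115796 : N6763 = N555 := eqc rfl L115795 rfl
theorem L115804 : sm ge N555 = N9282 := trfs L115796 L73126 rfl
theorem L115805 : N9282 = N409 := eqes L115804 (flp_e L4500)
theorem L115806 : N9282 = N409 := eqc rfl L115805 rfl
theorem L115824 : sm gh N409 = N6872 := trfs L115806 L73132 rfl
theorem L115825 : N6872 = N553 := eqes L115824 (flp_h L4490)
theorem L115826 : N6872 = N553 := eqc rfl L115825 rfl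
theorem L115832 : sm gd N553 = N9424 := trfs L115826 L74184 rfl
theorem L115833 : N9424 = N408 := eqes L115832 (flp_d L4484)
theorem L115834 : N9424 = N408 := eqc rfl L115833 rfl
theorem L115840 : sm gc N408 = N7561 := trfs L115834 L74190 rfl
theorem L115841 : N7561 = N552 := eqes L115840 (flp_c L4478)
theorem L115842 : N7561 = N552 := eqc rfl L115841 rfl
theorem L115848 : sm gd N552 = N5531 := trfs L115842 (flp_d L59608) rfl
theorem L115849 : N5531 = N750 := eqes L115848 L6060
theorem L115850 : N5531 = N750 := eqc rfl L115849 rfl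
theorem L115860 : sm ge N750 = N4051 := trfs L115850 (flp_e L43697) rfl
theorem L115861 : N4051 = N1018 := eqes L115860 L8185
theorem L115862 : N4051 = N1018 := eqc rfl L115861 rfl
theorem L115871 : sm gf N1018 = N2974 := trfs L115862 L32071 rfl
theorem L115872 : N2974 = N1387 := eqes L115871 L11105
theorem L115873 : N2974 = N1387 := eqc rfl L115872 rfl
theorem L115882 : sm gg N1387 = N2186 := trfs L115873 L23601 rfl
theorem L115883 : N2186 = N1891 := eqes L115882 L15083
theorem L115884 : N2186 = N1891 := eqc rfl L115883 rfl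
theorem L115889 : sm gc N1891 = N1607 := trfs L115884 (flp_c L17379) rfl
theorem L115890 : N1607 = N2579 := eqes L115889 (flp_c L20516)
theorem L115891 : N2579 = N1607 := (eqc rfl L115890 rfl).symm
theorem L115898 : sm gb N1607 = N3516 := trfs L115891 (flp_b L27896) rfl
theorem L115899 : N3516 = N2183 := eqes L115898 (flp_b L17357)
theorem L115900 : N3516 = N2183 := eqc rfl L115899 rfl
theorem L115901 : sm gc N1607 = N1891 := trfs L115891 L20516 rfl
theorem L115910 : sm ga N2183 = N4801 := trfs L115900 (flp_a L38026) rfl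
theorem L115911 : N4801 = N2961 := eqes L115910 (flp_a L23505)
theorem L115912 : N4801 = N2961 := eqc rfl L115911 rfl
theorem L115919 : sm gg N2183 = N2576 := trfs L115900 (flp_g L27894) rfl
theorem L115920 : N2576 = N2971 := eqes L115919 (flp_g L23578)
theorem L115921 : N2971 = N2576 := (eqc rfl L115920 rfl).symm
theorem L115924 : sm ga N2576 = N4035 := trfs L115921 (flp_a L31953) rfl
theorem L115925 : N4035 = N3512 := eqes L115924 (flp_a L27864)
theorem L115926 : N4035 = N3512 := eqc rfl L115925 rfl
theorem L115932 : sm gf N2576 = N4048 := trfs L115921 (flp_f L32048) rfl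
theorem L115933 : N4048 = N1888 := eqes L115932 (flp_f L20490)
theorem L115934 : N4048 = N1888 := eqc rfl L115933 rfl
theorem L115935 : sm gg N2576 = N2183 := trfs L115921 L23578 rfl
theorem L115945 : sm ge N1888 = N5527 := trfs L115934 L43664 rfl
theorem L115946 : N5527 = N1385 := eqes L115945 (flp_e L15059)
theorem L115947 : N5527 = N1385 := eqc rfl L115946 rfl
theorem L115956 : sm gd N1385 = N6868 := trfs L115947 (flp_d L54189) rfl
theorem L115957 : N6868 = N1019 := eqes L115956 L11090
theorem L115958 : N6868 = N1019 := eqc rfl L115957 rfl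
theorem L115975 : sm gh N1019 = N9275 := trfs L115958 (flp_h L73071) rfl
theorem L115976 : N9275 = N753 := eqes L115975 L8197
theorem L115977 : N9275 = N753 := eqc rfl L115976 rfl
theorem L115981 : sm ge N753 = N6757 := trfs L115977 (flp_e L73066) rfl
theorem L115982 : N6757 = N1023 := eqes L115981 L8225
theorem L115983 : N6757 = N1023 := eqc rfl L115982 rfl
theorem L115999 : sm gi N1023 = N9276 := trfs L115983 L73075 rfl
theorem L116000 : N9276 = N757 := eqes L115999 L8230
theorem L116001 : N9276 = N757 := eqc rfl L116000 rfl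
theorem L116003 : sm gd N757 = N6758 := trfs L116001 L73079 rfl
theorem L116004 : N6758 = N1028 := eqes L116003 L8265
theorem L116005 : N6758 = N1028 := eqc rfl L116004 rfl
theorem L116019 : sm gh N1028 = N4985 := trfs L116005 L53379 rfl
theorem L116020 : N4985 = N1403 := eqes L116019 L11227
theorem L116021 : N4985 = N1403 := eqc rfl L116020 rfl
theorem L116038 : sm gi N1403 = N3643 := trfs L116021 (flp_i L39446) rfl
theorem L116039 : N3643 = N1917 := eqes L116038 L15284
theorem L116040 : N3643 = N1917 := eqc rfl L116039 rfl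
theorem L116050 : sm gf N1917 = N2666 := trfs L116040 L28886 rfl
theorem L116051 : N2666 = N2619 := eqes L116050 (flp_f L20826)
theorem L116052 : N2666 = N2619 := eqc rfl L116051 rfl
theorem L116054 : sm gh N1917 = N2665 := trfs L116040 (flp_h L28881) rfl
theorem L116055 : N2665 = N2599 := eqes L116054 (flp_h L20674)
theorem L116056 : N2665 = N2599 := eqc rfl L116055 rfl
theorem L116057 : sm ga N2599 = N3626 := trfs L116056 (flp_a L28765) rfl
theorem L116058 : N3626 = N3541 := eqes L116057 (flp_a L28094)
theorem L116059 : N3626 = N3541 := eqc rfl L116058 rfl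
theorem L116061 : sm gc N2599 = N3632 := trfs L116056 (flp_c L28814) rfl
theorem L116062 : N3632 = N3546 := eqes L116061 (flp_c L28136)
theorem L116063 : N3632 = N3546 := eqc rfl L116062 rfl
theorem L116067 : sm gf N2599 = N1948 := trfs L116056 (flp_f L21172) rfl
theorem L116068 : N1948 = N3550 := eqes L116067 (flp_f L28169)
theorem L116069 : N3550 = N1948 := (eqc rfl L116068 rfl).symm
theorem L116071 : sm gi N2599 = N3603 := trfs L116056 (flp_i L28588) rfl
theorem L116072 : N3603 = N1902 := eqes L116071 (flp_i L20668)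
theorem L116073 : N3603 = N1902 := eqc rfl L116072 rfl
theorem L116083 : sm gf N1902 = N2637 := trfs L116073 (flp_f L28582) rfl
theorem L116084 : N2637 = N2598 := eqes L116083 (flp_f L20666)
theorem L116085 : N2637 = N2598 := eqc rfl L116084 rfl
theorem L116088 : sm ga N2598 = N3591 := trfs L116085 (flp_a L28493) rfl
theorem L116089 : N3591 = N3540 := eqes L116088 (flp_a L28087)
theorem L116090 : N3591 = N3540 := eqc rfl L116089 rfl
theorem L116092 : sm gc N2598 = N3596 := trfs L116085 (flp_c L28538) rfl
theorem L116093 : N3596 = N3544 := eqes L116092 (flp_c L28123)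
theorem L116094 : N3596 = N3544 := eqc rfl L116093 rfl
theorem L116095 : sm gd N2598 = N1966 := trfs L116085 L20966 rfl
theorem L116096 : N1966 = N3529 := eqes L116095 (flp_d L27999)
theorem L116097 : N3529 = N1966 := (eqc rfl L116096 rfl).symm
theorem L116100 : sm gg N2598 = N1928 := trfs L116085 (flp_g L20962) rfl
theorem L116101 : N1928 = N3549 := eqes L116100 (flp_g L28163)
theorem L116102 : N3549 = N1928 := (eqc rfl L116101 rfl).symm
theorem L116103 : sm gh N2598 = N3604 := trfs L116085 L28592 rfl
theorem L116104 : N3604 = N1901 := eqes L116103 (flp_h L20662)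
theorem L116105 : N3604 = N1901 := eqc rfl L116104 rfl
theorem L116118 : sm gg N1901 = N2638 := trfs L116105 L28598 rfl
theorem L116119 : N2638 = N2597 := eqes L116118 L20653
theorem L116120 : N2638 = N2597 := eqc rfl L116119 rfl
theorem L116122 : sm ga N2597 = N3592 := trfs L116120 (flp_a L28504) rfl
theorem L116123 : N3592 = N3539 := eqes L116122 (flp_a L28077)
theorem L116124 : N3592 = N3539 := eqc rfl L116123 rfl
theorem L116126 : sm gc N2597 = N3597 := trfs L116120 (flp_c L28546) rfl
theorem L116127 : N3597 = N3543 := eqes L116126 (flp_c L28114)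
theorem L116128 : N3597 = N3543 := eqc rfl L116127 rfl
theorem L116132 : sm ge N2597 = N1930 := trfs L116120 L20976 rfl
theorem L116133 : N1930 = N3547 := eqes L116132 (flp_e L28147)
theorem L116134 : N3547 = N1930 := (eqc rfl L116133 rfl).symm
theorem L116138 : sm gi N2597 = N3606 := trfs L116120 L28608 rfl
theorem L116139 : N3606 = N1915 := eqes L116138 L20659
theorem L116140 : N3606 = N1915 := eqc rfl L116139 rfl
theorem L116156 : sm gh N1915 = N2667 := trfs L116140 L28615 rfl
theorem L116157 : N2667 = N2618 := eqes L116156 L20813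
theorem L116158 : N2667 = N2618 := eqc rfl L116157 rfl
theorem L116159 : sm ga N2618 = N3628 := trfs L116158 (flp_a L28784) rfl
theorem L116160 : N3628 = N3565 := eqes L116159 (flp_a L28287)
theorem L116161 : N3628 = N3565 := eqc rfl L116160 rfl
theorem L116163 : sm gc N2618 = N3635 := trfs L116158 (flp_c L28832) rfl
theorem L116164 : N3635 = N3570 := eqes L116163 (flp_c L28329)
theorem L116165 : N3635 = N3570 := eqc rfl L116164 rfl
theorem L116171 : sm gi N2618 = N1949 := trfs L116158 (flp_i L21189) rfl
theorem L116172 : N1949 = N3579 := eqes L116171 L28393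
theorem L116173 : N3579 = N1949 := (eqc rfl L116172 rfl).symm
theorem L116174 : sm ga N1949 = N4879 := trfs L116173 (flp_a L38647) rfl
theorem L116175 : N4879 = N2654 := eqes L116174 (flp_a L21096)
theorem L116176 : N4879 = N2654 := eqc rfl L116175 rfl
theorem L116178 : sm gc N1949 = N4887 := trfs L116173 (flp_c L38711) rfl
theorem L116179 : N4887 = N2659 := eqes L116178 (flp_c L21135)
theorem L116180 : N4887 = N2659 := eqc rfl L116179 rfl
theorem L116186 : sm gh N1949 = N4856 := trfs L116173 (flp_h L38468) rfl
theorem L116187 : N4856 = N1425 := eqes L116186 (flp_h L15524)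
theorem L116188 : N4856 = N1425 := eqc rfl L116187 rfl
theorem L116189 : sm gi N1949 = N2618 := trfs L116173 (flp_i L28393) rfl
theorem L116195 : sm gc N1425 = N6640 := trfs L116188 (flp_c L52479) rfl
theorem L116196 : N6640 = N1943 := eqes L116195 (flp_c L15491)
theorem L116197 : N6640 = N1943 := eqc rfl L116196 rfl
theorem L116216 : sm gg N1943 = N4849 := trfs L116197 L52482 rfl
theorem L116217 : N4849 = N2658 := eqes L116216 L21127
theorem L116218 : N4849 = N2658 := eqc rfl L116217 rfl
theorem L116220 : sm gi N1943 = N4847 := trfs L116197 (flp_i L52475) rfl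
theorem L116221 : N4847 = N2632 := eqes L116220 (flp_i L20934)
theorem L116222 : N4847 = N2632 := eqc rfl L116221 rfl
theorem L116223 : sm ga N2632 = N6623 := trfs L116222 (flp_a L52335) rfl
theorem L116224 : N6623 = N3586 := eqes L116223 (flp_a L28451)
theorem L116225 : N6623 = N3586 := eqc rfl L116224 rfl
theorem L116226 : sm gb N2632 = N3598 := trfs L116222 L38393 rfl
theorem L116227 : N3598 = N3542 := eqes L116226 (flp_b L28103)
theorem L116228 : N3598 = N3542 := eqc rfl L116227 rfl
theorem L116230 : sm gd N2632 = N6639 := trfs L116222 L52468 rfl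
theorem L116231 : N6639 = N3595 := eqes L116230 L28529
theorem L116232 : N6639 = N3595 := eqc rfl L116231 rfl
theorem L116233 : sm ge N2632 = N6636 := trfs L116222 (flp_e L52448) rfl
theorem L116234 : N6636 = N1926 := eqes L116233 (flp_e L20930)
theorem L116235 : N6636 = N1926 := eqc rfl L116234 rfl
theorem L116255 : sm gh N1926 = N4845 := trfs L116235 (flp_h L52442) rfl
theorem L116256 : N4845 = N2634 := eqes L116255 L20944
theorem L116257 : N4845 = N2634 := eqc rfl L116256 rfl
theorem L116259 : sm ga N2634 = N6621 := trfs L116257 (flp_a L52316) rfl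
theorem L116260 : N6621 = N3588 := eqes L116259 (flp_a L28469)
theorem L116261 : N6621 = N3588 := eqc rfl L116260 rfl
theorem L116264 : sm gd N2634 = N6633 := trfs L116257 (flp_d L52422) rfl
theorem L116265 : N6633 = N3599 := eqes L116264 L28558
theorem L116266 : N6633 = N3599 := eqc rfl L116265 rfl
theorem L116274 : sm gi N2634 = N3568 := trfs L116257 L38380 rfl
theorem L116275 : N3568 = N3600 := eqes L116274 L28563
theorem L116276 : N3600 = N3568 := (eqc rfl L116275 rfl).symm
theorem L116277 : sm ga N3568 = N4912 := trfs L116276 (flp_a L38905) rfl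
theorem L116278 : N4912 = N4868 := eqes L116277 (flp_a L38558)
theorem L116279 : N4912 = N4868 := eqc rfl L116278 rfl
theorem L116282 : sm gd N3568 = N4929 := trfs L116276 (flp_d L39040) rfl
theorem L116283 : N4929 = N4880 := eqes L116282 (flp_d L38659)
theorem L116284 : N4929 = N4880 := eqc rfl L116283 rfl
theorem L116286 : sm gf N3568 = N2636 := trfs L116276 L28567 rfl
theorem L116287 : N2636 = N4882 := eqes L116286 L38667
theorem L116288 : N4882 = N2636 := (eqc rfl L116287 rfl).symm
theorem L116290 : sm gh N3568 = N2662 := trfs L116276 L28569 rfl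
theorem L116291 : N2662 = N4883 := eqes L116290 L38675
theorem L116292 : N4883 = N2662 := (eqc rfl L116291 rfl).symm
theorem L116293 : sm gi N3568 = N2634 := trfs L116276 (flp_i L28563) rfl
theorem L116295 : sm ga N2662 = N6670 := trfs L116292 (flp_a L52708) rfl
theorem L116296 : N6670 = N3623 := eqes L116295 (flp_a L28740)
theorem L116297 : N6670 = N3623 := eqc rfl L116296 rfl
theorem L116298 : sm gb N2662 = N3633 := trfs L116292 L38677 rfl
theorem L116299 : N3633 = N3572 := eqes L116298 (flp_b L28343)
theorem L116300 : N3633 = N3572 := eqc rfl L116299 rfl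
theorem L116302 : sm gd N2662 = N6690 := trfs L116292 L52863 rfl
theorem L116303 : N6690 = N3639 := eqes L116302 (flp_d L28859)
theorem L116304 : N6690 = N3639 := eqc rfl L116303 rfl
theorem L116310 : sm gg N2662 = N3569 := trfs L116292 L38683 rfl
theorem L116311 : N3569 = N3637 := eqes L116310 (flp_g L28849)
theorem L116312 : N3637 = N3569 := (eqc rfl L116311 rfl).symm
theorem L116313 : sm gh N2662 = N3568 := trfs L116292 (flp_h L38675) rfl
theorem L116315 : sm gi N2662 = N6691 := trfs L116292 L52869 rfl
theorem L116316 : N6691 = N1945 := eqes L116315 (flp_i L21153)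
theorem L116317 : N6691 = N1945 := eqc rfl L116316 rfl
theorem L116330 : sm gg N1945 = N4885 := trfs L116317 L52877 rfl
theorem L116331 : N4885 = N2660 := eqes L116330 (flp_g L21145)
theorem L116332 : N4885 = N2660 := eqc rfl L116331 rfl
theorem L116334 : sm ga N2660 = N6672 := trfs L116332 (flp_a L52723) rfl
theorem L116335 : N6672 = N3621 := eqes L116334 (flp_a L28723)
theorem L116336 : N6672 = N3621 := eqc rfl L116335 rfl
theorem L116339 : sm gd N2660 = N6694 := trfs L116332 (flp_d L52895) rfl
theorem L116340 : N6694 = N3636 := eqes L116339 L28837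
theorem L116341 : N6694 = N3636 := eqc rfl L116340 rfl
theorem L116345 : sm gh N2660 = N6638 := trfs L116332 (flp_h L52466) rfl
theorem L116346 : N6638 = N1944 := eqes L116345 (flp_h L21140)
theorem L116347 : N6638 = N1944 := eqc rfl L116346 rfl
theorem L116355 : sm gd N1944 = N9105 := trfs L116347 (flp_d L71798) rfl
theorem L116356 : N9105 = N2461 := eqes L116355 (flp_d L19604)
theorem L116357 : N9105 = N2461 := eqc rfl L116356 rfl
theorem L116366 : sm gi N2461 = N6637 := trfs L116357 (flp_i L71794) rfl
theorem L116367 : N6637 = N3335 := eqes L116366 (flp_i L26501)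
theorem L116368 : N6637 = N3335 := eqc rfl L116367 rfl
theorem L116384 : sm gh N3335 = N9098 := trfs L116368 (flp_h L71745) rfl
theorem L116385 : N9098 = N4562 := eqes L116384 L36177
theorem L116386 : N9098 = N4562 := eqc rfl L116385 rfl
theorem L116387 : sm gb N4562 = N6741 := trfs L116386 L71742 rfl
theorem L116388 : N6741 = N6163 := eqes L116387 (flp_b L48716)
theorem L116389 : N6741 = N6163 := eqc rfl L116388 rfl
theorem L116390 : sm gd N4562 = N6634 := trfs L116386 (flp_d L71740) rfl
theorem L116391 : N6634 = N6245 := eqes L116390 L49399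
theorem L116392 : N6634 = N6245 := eqc rfl L116391 rfl
theorem L116394 : sm ga N6245 = N9079 := trfs L116392 (flp_a L71591) rfl
theorem L116395 : N9079 = N8542 := eqes L116394 (flp_a L67403)
theorem L116396 : N9079 = N8542 := eqc rfl L116395 rfl
theorem L116397 : sm gb N6245 = N4921 := trfs L116392 L52428 rfl
theorem L116398 : N4921 = N8447 := eqes L116397 (flp_b L66636)
theorem L116399 : N8447 = N4921 := (eqc rfl L116398 rfl).symm
theorem L116401 : sm ge N6245 = N8442 := trfs L116392 (flp_e L66591) rfl
theorem L116402 : N8442 = N8564 := eqes L116401 L67594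
theorem L116403 : N8564 = N8442 := (eqc rfl L116402 rfl).symm
theorem L116408 : sm gh N6245 = N4844 := trfs L116392 (flp_h L52426) rfl
theorem L116409 : N4844 = N4926 := eqes L116408 L49405
theorem L116410 : N4926 = N4844 := (eqc rfl L116409 rfl).symm
theorem L116411 : sm gi N6245 = N9099 := trfs L116392 L71747 rfl
theorem L116412 : N9099 = N8565 := eqes L116411 L67601
theorem L116413 : N9099 = N8565 := eqc rfl L116412 rfl
theorem L116414 : sm gb N8565 = N6742 := trfs L116413 L71749 rfl
theorem L116418 : sm gh N8565 = N6688 := trfs L116413 L71753 rfl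
theorem L116420 : sm ga N4844 = N6727 := trfs L116410 (flp_a L53150) rfl
theorem L116421 : N6727 = N6620 := eqes L116420 (flp_a L52308)
theorem L116422 : N6727 = N6620 := eqc rfl L116421 rfl
theorem L116426 : sm ge N4844 = N6749 := trfs L116410 L53315 rfl
theorem L116427 : N6749 = N6160 := eqes L116426 (flp_e L48692)
theorem L116428 : N6749 = N6160 := eqc rfl L116427 rfl
theorem L116432 : sm gh N4844 = N6245 := trfs L116410 (flp_h L49405) rfl
theorem L116434 : sm gi N4844 = N6750 := trfs L116410 L53320 rfl
theorem L116435 : N6750 = N3567 := eqes L116434 L38369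
theorem L116436 : N6750 = N3567 := eqc rfl L116435 rfl
theorem L116448 : sm gh N3567 = N9267 := trfs L116436 L73016 rfl
theorem L116449 : N9267 = N4881 := eqes L116448 L38661
theorem L116450 : N9267 = N4881 := eqc rfl L116449 rfl
theorem L116452 : sm gd N4881 = N6820 := trfs L116450 L73022 rfl
theorem L116453 : N6820 = N6687 := eqes L116452 L52840
theorem L116454 : N6820 = N6687 := eqc rfl L116453 rfl
theorem L116456 : sm gg N4881 = N6753 := trfs L116450 L73020 rfl
theorem L116457 : N6753 = N6686 := eqes L116456 (flp_g L52838)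
theorem L116458 : N6753 = N6686 := eqc rfl L116457 rfl
theorem L116459 : sm ga N6686 = N9237 := trfs L116458 (flp_a L72807) rfl
theorem L116460 : N9237 = N9148 := eqes L116459 (flp_a L72128)
theorem L116461 : N9237 = N9148 := eqc rfl L116460 rfl
theorem L116462 : sm gb N6686 = N9110 := trfs L116458 (flp_b L71830) rfl
theorem L116463 : N9110 = N4969 := eqes L116462 L52835
theorem L116464 : N9110 = N4969 := eqc rfl L116463 rfl
theorem L116466 : sm gd N6686 = N4981 := trfs L116458 L53343 rfl
theorem L116467 : N4981 = N9174 := eqes L116466 L72327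
theorem L116468 : N9174 = N4981 := (eqc rfl L116467 rfl).symm
theorem L116472 : sm gf N6686 = N4932 := trfs L116458 L53341 rfl
theorem L116473 : N4932 = N9173 := eqes L116472 (flp_f L72324)
theorem L116474 : N9173 = N4932 := (eqc rfl L116473 rfl).symm
theorem L116476 : sm gi N6686 = N8568 := trfs L116458 (flp_i L67628) rfl
theorem L116477 : N8568 = N9175 := eqes L116476 L72335
theorem L116478 : N9175 = N8568 := (eqc rfl L116477 rfl).symm
theorem L116479 : sm gb N8568 = N6808 := trfs L116478 L72337 rfl
theorem L116482 : sm gg N8568 = N6688 := trfs L116478 L72340 rfl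
theorem L116484 : sm gi N8568 = N6686 := trfs L116478 (flp_i L72335) rfl
theorem L116486 : sm gb N4932 = N6806 := trfs L116474 L72321 rfl
theorem L116487 : N6806 = N6645 := eqes L116486 (flp_b L52513)
theorem L116488 : N6806 = N6645 := eqc rfl L116487 rfl
theorem L116490 : sm gf N4932 = N6686 := trfs L116474 L72324 rfl
theorem L116493 : sm gh N4932 = N6685 := trfs L116474 (flp_h L72319) rfl
theorem L116494 : N6685 = N3602 := eqes L116493 (flp_h L39055)
theorem L116495 : N6685 = N3602 := eqc rfl L116494 rfl
theorem L116496 : sm ga N3602 = N9147 := trfs L116495 (flp_a L72120) rfl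
theorem L116497 : N9147 = N4914 := eqes L116496 (flp_a L38922)
theorem L116498 : N9147 = N4914 := eqc rfl L116497 rfl
theorem L116499 : sm gb N3602 = N4968 := trfs L116495 L52827 rfl
theorem L116500 : N4968 = N4851 := eqes L116499 (flp_b L38424)
theorem L116501 : N4968 = N4851 := eqc rfl L116500 rfl
theorem L116510 : sm gi N3602 = N9096 := trfs L116495 (flp_i L71730) rfl
theorem L116511 : N9096 = N2635 := eqes L116510 (flp_i L28576)
theorem L116512 : N9096 = N2635 := eqc rfl L116511 rfl
theorem L116513 : sm gb N2635 = N6739 := trfs L116512 L71725 rfl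
theorem L116514 : N6739 = N3545 := eqes L116513 (flp_b L28129)
theorem L116515 : N6739 = N3545 := eqc rfl L116514 rfl
theorem L116523 : sm gc N3545 = N5004 := trfs L116515 L53254 rfl
theorem L116524 : N5004 = N4822 := eqes L116523 (flp_c L38191)
theorem L116525 : N5004 = N4822 := eqc rfl L116524 rfl
theorem L116530 : sm gf N3545 = N4920 := trfs L116515 (flp_f L53252) rfl
theorem L116531 : N4920 = N4848 := eqes L116530 (flp_f L38404)
theorem L116532 : N4920 = N4848 := eqc rfl L116531 rfl
theorem L116534 : sm gh N3545 = N9248 := trfs L116515 L72902 rfl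
theorem L116535 : N9248 = N4508 := eqes L116534 (flp_h L35732)
theorem L116536 : N9248 = N4508 := eqc rfl L116535 rfl
theorem L116538 : sm gc N4508 = N6853 := trfs L116536 L72904 rfl
theorem L116539 : N6853 = N6138 := eqes L116538 (flp_c L48482)
theorem L116540 : N6853 = N6138 := eqc rfl L116539 rfl
theorem L116541 : sm gf N4508 = N6740 := trfs L116536 L72906 rfl
theorem L116542 : N6740 = N6164 := eqes L116541 (flp_f L48727)
theorem L116543 : N6740 = N6164 := eqc rfl L116542 rfl
theorem L116545 : sm ga N6164 = N9224 := trfs L116543 (flp_a L72704) rfl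
theorem L116546 : N9224 = N8432 := eqes L116545 (flp_a L66489)
theorem L116547 : N9224 = N8432 := eqc rfl L116546 rfl
theorem L116549 : sm gc N6164 = N5005 := trfs L116543 L53263 rfl
theorem L116550 : N5005 = N8409 := eqes L116549 (flp_c L66273)
theorem L116551 : N8409 = N5005 := (eqc rfl L116550 rfl).symm
theorem L116555 : sm ge N6164 = N8555 := trfs L116543 (flp_e L67535) rfl
theorem L116556 : N8555 = N8449 := eqes L116555 L66654
theorem L116557 : N8555 = N8449 := eqc rfl L116556 rfl
theorem L116561 : sm gi N6164 = N9250 := trfs L116543 L72915 rfl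
theorem L116562 : N9250 = N8450 := eqes L116561 L66660
theorem L116563 : N9250 = N8450 := eqc rfl L116562 rfl
theorem L116564 : sm gc N8450 = N6855 := trfs L116563 L72917 rfl
theorem L116566 : sm gg N8450 = N6742 := trfs L116563 L72919 rfl
theorem L116568 : sm gh N8450 = N6808 := trfs L116563 L72921 rfl
theorem L116570 : sm gc N8449 = N6352 := trfs L116557 L67533 rfl
theorem L116572 : sm gg N8449 = N6240 := trfs L116557 L67537 rfl
theorem L116574 : sm gh N8449 = N6239 := trfs L116557 (flp_h L67531) rfl
theorem L116575 : N6239 = N6641 := eqes L116574 L66658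
theorem L116576 : N6641 = N6239 := (eqc rfl L116575 rfl).symm
theorem L116577 : sm ga N6239 = N9086 := trfs L116576 (flp_a L71651) rfl
theorem L116578 : N9086 = N8536 := eqes L116577 (flp_a L67342)
theorem L116579 : N9086 = N8536 := eqc rfl L116578 rfl
theorem L116580 : sm gb N6239 = N4928 := trfs L116576 L52488 rfl
theorem L116581 : N4928 = N8441 := eqes L116580 (flp_b L66577)
theorem L116582 : N8441 = N4928 := (eqc rfl L116581 rfl).symm
theorem L116589 : sm gf N6239 = N9108 := trfs L116576 L71816 rfl
theorem L116590 : N9108 = N8362 := eqes L116589 (flp_f L110601)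
theorem L116591 : N9108 = N8362 := eqc rfl L116590 rfl
theorem L116595 : sm gh N6239 = N8449 := trfs L116576 (flp_h L66658) rfl
theorem L116597 : sm gi N6239 = N9109 := trfs L116576 L71822 rfl
theorem L116598 : N9109 = N4595 := eqes L116597 L49358
theorem L116599 : N9109 = N4595 := eqc rfl L116598 rfl
theorem L116600 : sm gb N4595 = N6752 := trfs L116599 L71824 rfl
theorem L116601 : N6752 = N6196 := eqes L116600 (flp_b L48988)
theorem L116602 : N6752 = N6196 := eqc rfl L116601 rfl
theorem L116603 : sm ge N4595 = N6642 := trfs L116599 L71826 rfl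
theorem L116604 : N6642 = N3630 := eqes L116603 L36449
theorem L116605 : N6642 = N3630 := eqc rfl L116604 rfl
theorem L116606 : sm ga N3630 = N9087 := trfs L116605 (flp_a L71655) rfl
theorem L116607 : N9087 = N4953 := eqes L116606 (flp_a L39213)
theorem L116608 : N9087 = N4953 := eqc rfl L116607 rfl
theorem L116610 : sm gc N3630 = N9053 := trfs L116605 (flp_c L71381) rfl
theorem L116611 : N9053 = N2697 := eqes L116610 L28803
theorem L116612 : N9053 = N2697 := eqc rfl L116611 rfl
theorem L116627 : sm gi N2697 = N6601 := trfs L116612 (flp_i L71378) rfl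
theorem L116628 : N6601 = N3659 := eqes L116627 (flp_i L29031)
theorem L116629 : N6601 = N3659 := eqc rfl L116628 rfl
theorem L116630 : sm ga N3659 = N9035 := trfs L116629 (flp_a L71243) rfl
theorem L116631 : N9035 = N4993 := eqes L116630 (flp_a L39521)
theorem L116632 : N9035 = N4993 := eqc rfl L116631 rfl
theorem L116636 : sm gd N3659 = N4821 := trfs L116629 (flp_d L52153) rfl
theorem L116637 : N4821 = N2681 := eqes L116636 L29029
theorem L116638 : N4821 = N2681 := eqc rfl L116637 rfl
theorem L116642 : sm gg N3659 = N9050 := trfs L116629 (flp_g L71360) rfl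
theorem L116643 : N9050 = N2680 := eqes L116642 (flp_g L29026)
theorem L116644 : N9050 = N2680 := eqc rfl L116643 rfl
theorem L116648 : sm gd N2680 = N6600 := trfs L116644 (flp_d L71356) rfl
theorem L116649 : N6600 = N1962 := eqes L116648 (flp_d L21305)
theorem L116650 : N6600 = N1962 := eqc rfl L116649 rfl
theorem L116662 : sm gh N1962 = N4820 := trfs L116650 (flp_h L52145) rfl
theorem L116663 : N4820 = N2682 := eqes L116662 L21320
theorem L116664 : N4820 = N2682 := eqc rfl L116663 rfl
theorem L116673 : sm ga N2682 = N6589 := trfs L116664 (flp_a L52060) rfl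
theorem L116674 : N6589 = N3652 := eqes L116673 (flp_a L28962)
theorem L116675 : N6589 = N3652 := eqc rfl L116674 rfl
theorem L116678 : sm gd N2682 = N6136 := trfs L116664 (flp_d L48467) rfl
theorem L116679 : N6136 = N3663 := eqes L116678 L29057
theorem L116680 : N6136 = N3663 := eqc rfl L116679 rfl
theorem L116685 : sm gg N2682 = N3525 := trfs L116664 (flp_g L38173) rfl
theorem L116686 : N3525 = N3662 := eqes L116685 (flp_g L29054)
theorem L116687 : N3662 = N3525 := (eqc rfl L116686 rfl).symm
theorem L116689 : sm ga N3525 = N4996 := trfs L116687 (flp_a L39545) rfl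
theorem L116690 : N4996 = N4813 := eqes L116689 (flp_a L38121)
theorem L116691 : N4996 = N4813 := eqc rfl L116690 rfl
theorem L116693 : sm gc N3525 = N2687 := trfs L116687 L29050 rfl
theorem L116694 : N2687 = N2583 := eqes L116693 L27970
theorem L116695 : N2687 = N2583 := eqc rfl L116694 rfl
theorem L116699 : sm ge N3525 = N2683 := trfs L116687 L29052 rfl
theorem L116700 : N2683 = N4819 := eqes L116699 L38167
theorem L116701 : N4819 = N2683 := (eqc rfl L116700 rfl).symm
theorem L116702 : sm gf N3525 = N5008 := trfs L116687 (flp_f L39642) rfl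
theorem L116703 : N5008 = N2582 := eqes L116702 (flp_f L27967)
theorem L116704 : N5008 = N2582 := eqc rfl L116703 rfl
theorem L116705 : sm gg N3525 = N2682 := trfs L116687 L29054 rfl
theorem L116718 : sm ge N2582 = N4041 := trfs L116704 L39640 rfl
theorem L116719 : N4041 = N3513 := eqes L116718 (flp_e L27873)
theorem L116720 : N4041 = N3513 := eqc rfl L116719 rfl
theorem L116722 : sm gh N2582 = N3661 := trfs L116704 (flp_h L39635) rfl
theorem L116723 : N3661 = N3526 := eqes L116722 L27973
theorem L116724 : N3661 = N3526 := eqc rfl L116723 rfl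
theorem L116726 : sm ga N3526 = N4995 := trfs L116724 (flp_a L39534) rfl
theorem L116727 : N4995 = N4814 := eqes L116726 (flp_a L38128)
theorem L116728 : N4995 = N4814 := eqc rfl L116727 rfl
theorem L116732 : sm ge N3526 = N2964 := trfs L116724 L29044 rfl
theorem L116733 : N2964 = N4803 := eqes L116732 (flp_e L38046)
theorem L116734 : N4803 = N2964 := (eqc rfl L116733 rfl).symm
theorem L116738 : sm gi N3526 = N2699 := trfs L116724 L29042 rfl
theorem L116739 : N2699 = N4823 := eqes L116738 L38193
theorem L116740 : N4823 = N2699 := (eqc rfl L116739 rfl).symm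
theorem L116747 : sm ge N2699 = N6576 := trfs L116740 (flp_e L51959) rfl
theorem L116748 : N6576 = N2194 := eqes L116747 L21459
theorem L116749 : N6576 = N2194 := eqc rfl L116748 rfl
theorem L116753 : sm gi N2699 = N3526 := trfs L116740 (flp_i L38193) rfl
theorem L116765 : sm gf N2194 = N9013 := trfs L116749 (flp_f L71070) rfl
theorem L116766 : N9013 = N1613 := eqes L116765 (flp_f L17437)
theorem L116767 : N9013 = N1613 := eqc rfl L116766 rfl
theorem L116774 : sm gi N1613 = N6574 := trfs L116767 (flp_i L71065) rfl
theorem L116775 : N6574 = N2176 := eqes L116774 (flp_i L17306)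
theorem L116776 : N6574 = N2176 := eqc rfl L116775 rfl
theorem L116792 : sm gh N2176 = N4802 := trfs L116776 (flp_h L51941) rfl
theorem L116793 : N4802 = N2965 := eqes L116792 L23533
theorem L116794 : N4802 = N2965 := eqc rfl L116793 rfl
theorem L116795 : sm ga N2965 = N6566 := trfs L116794 (flp_a L51874) rfl
theorem L116796 : N6566 = N4029 := eqes L116795 (flp_a L31906)
theorem L116797 : N6566 = N4029 := eqc rfl L116796 rfl
theorem L116806 : sm gg N2965 = N6573 := trfs L116794 L51933 rfl
theorem L116807 : N6573 = N2177 := eqes L116806 L23540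
theorem L116808 : N6573 = N2177 := eqc rfl L116807 rfl
theorem L116810 : sm ga N2177 = N9000 := trfs L116808 (flp_a L70957) rfl
theorem L116811 : N9000 = N2955 := eqes L116810 (flp_a L23452)
theorem L116812 : N9000 = N2955 := eqc rfl L116811 rfl
theorem L116826 : sm gc N2955 = N6569 := trfs L116812 L70959 rfl
theorem L116827 : N6569 = N2173 := eqes L116826 L23454
theorem L116828 : N6569 = N2173 := eqc rfl L116827 rfl
theorem L116840 : sm gg N2173 = N4799 := trfs L116828 (flp_g L51898) rfl
theorem L116841 : N4799 = N2960 := eqes L116840 (flp_g L23500)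
theorem L116842 : N4799 = N2960 := eqc rfl L116841 rfl
theorem L116843 : sm gh N2173 = N9006 := trfs L116828 L71007 rfl
theorem L116844 : N9006 = N1595 := eqes L116843 (flp_h L17274)
theorem L116845 : N9006 = N1595 := eqc rfl L116844 rfl
theorem L116853 : sm gg N1595 = N6570 := trfs L116845 L71013 rfl
theorem L116854 : N6570 = N2172 := eqes L116853 L17264
theorem L116855 : N6570 = N2172 := eqc rfl L116854 rfl
theorem L116863 : sm gf N2172 = N4800 := trfs L116855 L51912 rfl
theorem L116864 : N4800 = N2959 := eqes L116863 L23484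
theorem L116865 : N4800 = N2959 := eqc rfl L116864 rfl
theorem L116867 : sm gi N2172 = N9007 := trfs L116855 L71016 rfl
theorem L116868 : N9007 = N1611 := eqes L116867 L17272
theorem L116869 : N9007 = N1611 := eqc rfl L116868 rfl
theorem L116873 : sm gf N1611 = N6571 := trfs L116869 L71022 rfl
theorem L116874 : N6571 = N2191 := eqes L116873 L17417
theorem L116875 : N6571 = N2191 := eqc rfl L116874 rfl
theorem L116881 : sm ge N2191 = N4818 := trfs L116875 L51921 rfl
theorem L116882 : N4818 = N2696 := eqes L116881 (flp_e L21440)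
theorem L116883 : N4818 = N2696 := eqc rfl L116882 rfl
theorem L116897 : sm gi N2696 = N3523 := trfs L116883 (flp_i L38158) rfl
theorem L116898 : N3523 = N3656 := eqes L116897 (flp_i L29003)
theorem L116899 : N3656 = N3523 := (eqc rfl L116898 rfl).symm
theorem L116906 : sm gf N3523 = N2677 := trfs L116899 (flp_f L28998) rfl
theorem L116907 : N2677 = N4817 := eqes L116906 (flp_f L38154)
theorem L116908 : N4817 = N2677 := (eqc rfl L116907 rfl).symm
theorem L116910 : sm gh N3523 = N5001 := trfs L116899 L39583 rfl
theorem L116911 : N5001 = N2580 := eqes L116910 (flp_h L27949)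
theorem L116912 : N5001 = N2580 := eqc rfl L116911 rfl
theorem L116913 : sm gi N3523 = N2696 := trfs L116899 L29003 rfl
theorem L116924 : sm gf N2580 = N3657 := trfs L116912 L39590 rfl
theorem L116925 : N3657 = N3522 := eqes L116924 L27941
theorem L116926 : N3657 = N3522 := eqc rfl L116925 rfl
theorem L116935 : sm ge N3522 = N2679 := trfs L116926 L29013 rfl
theorem L116936 : N2679 = N4815 := eqes L116935 L38133
theorem L116937 : N4815 = N2679 := (eqc rfl L116936 rfl).symm
theorem L116938 : sm gg N3522 = N2678 := trfs L116926 L29015 rfl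
theorem L116939 : N2678 = N4816 := eqes L116938 L38140
theorem L116940 : N4816 = N2678 := (eqc rfl L116939 rfl).symm
theorem L116947 : sm gd N2678 = N3524 := trfs L116940 L38145 rfl
theorem L116948 : N3524 = N3658 := eqes L116947 L29018
theorem L116949 : N3658 = N3524 := (eqc rfl L116948 rfl).symm
theorem L116954 : sm gg N2678 = N3522 := trfs L116940 (flp_g L38140) rfl
theorem L116956 : sm gh N2678 = N6595 := trfs L116940 L52105 rfl
theorem L116957 : N6595 = N1959 := eqes L116956 (flp_h L21285)
theorem L116958 : N6595 = N1959 := eqc rfl L116957 rfl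
theorem L116966 : sm ge N1959 = N9040 := trfs L116958 (flp_e L71287) rfl
theorem L116967 : N9040 = N1434 := eqes L116966 (flp_e L15606)
theorem L116968 : N9040 = N1434 := eqc rfl L116967 rfl
theorem L116984 : sm gg N1434 = N6594 := trfs L116968 L71289 rfl
theorem L116985 : N6594 = N1960 := eqes L116984 L15614
theorem L116986 : N6594 = N1960 := eqc rfl L116985 rfl
theorem L117001 : sm gi N1960 = N9042 := trfs L116986 L71299 rfl
theorem L117002 : N9042 = N1448 := eqes L117001 L15621
theorem L117003 : N9042 = N1448 := eqc rfl L117002 rfl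
theorem L117004 : sm ga N1448 = N6608 := trfs L117003 L71301 rfl
theorem L117005 : N6608 = N1063 := eqes L117004 L11582
theorem L117006 : N6608 = N1063 := eqc rfl L117005 rfl
theorem L117016 : sm gf N1063 = N9019 := trfs L117006 (flp_f L71119) rfl
theorem L117017 : N9019 = N877 := eqes L117016 L8540
theorem L117018 : N9019 = N877 := eqc rfl L117017 rfl
theorem L117031 : sm gi N877 = N6578 := trfs L117018 (flp_i L71113) rfl
theorem L117032 : N6578 = N1178 := eqes L117031 (flp_i L9418)
theorem L117033 : N6578 = N1178 := eqc rfl L117032 rfl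
theorem L117041 : sm gh N1178 = N4804 := trfs L117033 (flp_h L51971) rfl
theorem L117042 : N4804 = N1604 := eqes L117041 L12784
theorem L117043 : N4804 = N1604 := eqc rfl L117042 rfl
theorem L117044 : sm ga N1604 = N6568 := trfs L117043 (flp_a L51891) rfl
theorem L117045 : N6568 = N2174 := eqes L117044 (flp_a L17285)
theorem L117046 : N6568 = N2174 := eqc rfl L117045 rfl
theorem L117097 : sm gc N2174 = N8999 := trfs L117046 (flp_c L70950) rfl
theorem L117098 : N8999 = N2956 := eqes L117097 (flp_c L23464)
theorem L117099 : N8999 = N2956 := eqc rfl L117098 rfl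
theorem L117108 : sm gf N2956 = N6588 := trfs L117099 L70953 rfl
theorem L117109 : N6588 = N3653 := eqes L117108 (flp_f L28976)
theorem L117110 : N6588 = N3653 := eqc rfl L117109 rfl
theorem L117113 : sm gb N3653 = N9026 := trfs L117110 (flp_b L71175) rfl
theorem L117114 : N9026 = N4989 := eqes L117113 (flp_b L39486)
theorem L117115 : N9026 = N4989 := eqc rfl L117114 rfl
theorem L117117 : sm gd N3653 = N9031 := trfs L117110 L71209 rfl
theorem L117118 : N9031 = N4998 := eqes L117117 L39560
theorem L117119 : N9031 = N4998 := eqc rfl L117118 rfl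
theorem L117131 : sm ga N4998 = N6597 := trfs L117119 L71211 rfl
theorem L117132 : N6597 = N3664 := eqes L117131 L39562
theorem L117133 : N6597 = N3664 := eqc rfl L117132 rfl
theorem L117139 : sm ge N3664 = N8405 := trfs L117133 (flp_e L66242) rfl
theorem L117140 : N8405 = N5012 := eqes L117139 L39664
theorem L117141 : N8405 = N5012 := eqc rfl L117140 rfl
theorem L117165 : sm gd N5012 = N6135 := trfs L117141 (flp_d L66236) rfl
theorem L117166 : N6135 = N6861 := eqes L117165 (flp_d L54141)
theorem L117167 : N6861 = N6135 := (eqc rfl L117166 rfl).symm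
theorem L117170 : sm ga N6135 = N9388 := trfs L117167 (flp_a L73921) rfl
theorem L117171 : N9388 = N8396 := eqes L117170 (flp_a L66153)
theorem L117172 : N9388 = N8396 := eqc rfl L117171 rfl
theorem L117177 : sm gd N6135 = N5012 := trfs L117167 L54141 rfl
theorem L117181 : sm gg N6135 = N5011 := trfs L117167 L54138 rfl
theorem L117182 : N5011 = N8406 := eqes L117181 L66244
theorem L117183 : N8406 = N5011 := (eqc rfl L117182 rfl).symm
theorem L117184 : sm gh N6135 = N9402 := trfs L117167 (flp_h L74032) rfl
theorem L117185 : N9402 = N8407 := eqes L117184 L66252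
theorem L117186 : N9402 = N8407 := eqc rfl L117185 rfl
theorem L117189 : sm ge N8407 = N6854 := trfs L117186 (flp_e L74027) rfl
theorem L117190 : N6854 = N6137 := eqes L117189 L66257
theorem L117191 : N6854 = N6137 := eqc rfl L117190 rfl
theorem L117192 : sm gg N8407 = N6857 := trfs L117186 L74030 rfl
theorem L117194 : sm ga N6137 = N9381 := trfs L117191 (flp_a L73867) rfl
theorem L117195 : N9381 = N8398 := eqes L117194 (flp_a L66171)
theorem L117196 : N9381 = N8398 := eqc rfl L117195 rfl
theorem L117206 : sm gg N6137 = N5006 := trfs L117191 L54093 rfl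
theorem L117207 : N5006 = N8408 := eqes L117206 (flp_g L66266)
theorem L117208 : N8408 = N5006 := (eqc rfl L117207 rfl).symm
theorem L117210 : sm gi N6137 = N9403 := trfs L117191 L74034 rfl
theorem L117211 : N9403 = N8410 := eqes L117210 L66277
theorem L117212 : N9403 = N8410 := eqc rfl L117211 rfl
theorem L117214 : sm gd N8410 = N6855 := trfs L117212 L74037 rfl
theorem L117216 : sm gg N8410 = N6858 := trfs L117212 L74039 rfl
theorem L117220 : sm gc N5006 = N6142 := trfs L117208 L66263 rfl
theorem L117221 : N6142 = N6856 := eqes L117220 L54104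
theorem L117222 : N6856 = N6142 := (eqc rfl L117221 rfl).symm
theorem L117224 : sm gg N5006 = N6137 := trfs L117208 L66266 rfl
theorem L117227 : sm ga N6142 = N9383 := trfs L117222 (flp_a L73883) rfl
theorem L117228 : N9383 = N8403 := eqes L117227 (flp_a L66216)
theorem L117229 : N9383 = N8403 := eqc rfl L117228 rfl
theorem L117233 : sm gc N6142 = N5006 := trfs L117222 (flp_c L54104) rfl
theorem L117238 : sm ge N6142 = N9405 := trfs L117222 L74048 rfl
theorem L117239 : N9405 = N8414 := eqes L117238 (flp_e L66314)
theorem L117240 : N9405 = N8414 := eqc rfl L117239 rfl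
theorem L117243 : sm gh N6142 = N5010 := trfs L117222 L54107 rfl
theorem L117244 : N5010 = N4491 := eqes L117243 (flp_h L48509)
theorem L117245 : N5010 = N4491 := eqc rfl L117244 rfl
theorem L117246 : sm gi N6142 = N9406 := trfs L117222 L74054 rfl
theorem L117247 : N9406 = N8417 := eqes L117246 L66334
theorem L117248 : N9406 = N8417 := eqc rfl L117247 rfl
theorem L117249 : sm gc N8417 = N6858 := trfs L117248 L74056 rfl
theorem L117253 : sm ga N4491 = N6844 := trfs L117245 (flp_a L54015) rfl
theorem L117254 : N6844 = N6132 := eqes L117253 (flp_a L48426)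
theorem L117255 : N6844 = N6132 := eqc rfl L117254 rfl
theorem L117264 : sm ge N4491 = N6863 := trfs L117245 L54150 rfl
theorem L117265 : N6863 = N6140 := eqes L117264 (flp_e L48499)
theorem L117266 : N6863 = N6140 := eqc rfl L117265 rfl
theorem L117268 : sm gg N4491 = N6860 := trfs L117245 (flp_g L54130) rfl
theorem L117269 : N6860 = N3285 := eqes L117268 (flp_g L35563)
theorem L117270 : N6860 = N3285 := eqc rfl L117269 rfl
theorem L117283 : sm gf N3285 = N9409 := trfs L117270 (flp_f L74074) rfl
theorem L117284 : N9409 = N2410 := eqes L117283 (flp_f L26072)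
theorem L117285 : N9409 = N2410 := eqc rfl L117284 rfl
theorem L117289 : sm gd N2410 = N6867 := trfs L117285 L74078 rfl
theorem L117290 : N6867 = N1767 := eqes L117289 (flp_d L19177)
theorem L117291 : N6867 = N1767 := eqc rfl L117290 rfl
theorem L117294 : sm ga N1767 = N9394 := trfs L117291 (flp_a L73968) rfl
theorem L117295 : N9394 = N2409 := eqes L117294 (flp_a L19167)
theorem L117296 : N9394 = N2409 := eqc rfl L117295 rfl
theorem L117305 : sm gf N2409 = N6850 := trfs L117296 L73970 rfl
theorem L117306 : N6850 = N3283 := eqes L117305 L26052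
theorem L117307 : N6850 = N3283 := eqc rfl L117306 rfl
theorem L117320 : sm gh N3283 = N9243 := trfs L117307 (flp_h L72865) rfl
theorem L117321 : N9243 = N2416 := eqes L117320 L26060
theorem L117322 : N9243 = N2416 := eqc rfl L117321 rfl
theorem L117331 : sm gg N2416 = N6737 := trfs L117322 L72863 rfl
theorem L117332 : N6737 = N3295 := eqes L117331 L26164
theorem L117333 : N6737 = N3295 := eqc rfl L117332 rfl
theorem L117349 : sm gi N3295 = N9246 := trfs L117333 L72885 rfl
theorem L117350 : N9246 = N2428 := eqes L117349 L26173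
theorem L117351 : N9246 = N2428 := eqc rfl L117350 rfl
theorem L117355 : sm gc N2428 = N6738 := trfs L117351 L72889 rfl
theorem L117356 : N6738 = N1911 := eqes L117355 L19344
theorem L117357 : N6738 = N1911 := eqc rfl L117356 rfl
theorem L117366 : sm gg N1911 = N9244 := trfs L117357 (flp_g L72875) rfl
theorem L117367 : N9244 = N1400 := eqes L117366 (flp_g L15242)
theorem L117368 : N9244 = N1400 := eqc rfl L117367 rfl
theorem L117373 : sm gd N1400 = N6736 := trfs L117368 L72872 rfl
theorem L117374 : N6736 = N1909 := eqes L117373 (flp_d L15232)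
theorem L117375 : N6736 = N1909 := eqc rfl L117374 rfl
theorem L117389 : sm gh N1909 = N4967 := trfs L117375 L53232 rfl
theorem L117390 : N4967 = N2609 := eqes L117389 L20747
theorem L117391 : N4967 = N2609 := eqc rfl L117390 rfl
theorem L117399 : sm ge N2609 = N3629 := trfs L117391 L39333 rfl
theorem L117400 : N3629 = N3564 := eqes L117399 (flp_e L28282)
theorem L117401 : N3629 = N3564 := eqc rfl L117400 rfl
theorem L117404 : sm gi N2609 = N3627 := trfs L117391 (flp_i L39327) rfl
theorem L117405 : N3627 = N3566 := eqes L117404 L28294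
theorem L117406 : N3627 = N3566 := eqc rfl L117405 rfl
theorem L117409 : sm gc N3566 = N4956 := trfs L117406 (flp_c L39238) rfl
theorem L117410 : N4956 = N4872 := eqes L117409 (flp_c L38593)
theorem L117411 : N4956 = N4872 := eqc rfl L117410 rfl
theorem L117413 : sm ge N3566 = N2655 := trfs L117406 L28777 rfl
theorem L117414 : N2655 = N4878 := eqes L117413 (flp_e L38642)
theorem L117415 : N4878 = N2655 := (eqc rfl L117414 rfl).symm
theorem L117419 : sm gh N3566 = N2653 := trfs L117406 (flp_h L28772) rfl
theorem L117420 : N2653 = N4843 := eqes L117419 (flp_h L38362)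
theorem L117421 : N4843 = N2653 := (eqc rfl L117420 rfl).symm
theorem L117424 : sm gc N2653 = N6625 := trfs L117421 (flp_c L52352) rfl
theorem L117425 : N6625 = N3619 := eqes L117424 (flp_c L28708)
theorem L117426 : N6625 = N3619 := eqc rfl L117425 rfl
theorem L117428 : sm ge N2653 = N6631 := trfs L117421 (flp_e L52402) rfl
theorem L117429 : N6631 = N1940 := eqes L117428 L21092
theorem L117430 : N6631 = N1940 := eqc rfl L117429 rfl
theorem L117434 : sm gh N2653 = N3566 := trfs L117421 L38362 rfl
theorem L117447 : sm gi N1940 = N4841 := trfs L117430 (flp_i L52397) rfl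
theorem L117448 : N4841 = N2629 := eqes L117447 (flp_i L20909)
theorem L117449 : N4841 = N2629 := eqc rfl L117448 rfl
theorem L117452 : sm gc N2629 = N6622 := trfs L117449 (flp_c L52328) rfl
theorem L117453 : N6622 = N3587 := eqes L117452 (flp_c L28462)
theorem L117454 : N6622 = N3587 := eqc rfl L117453 rfl
theorem L117464 : sm gh N2629 = N3538 := trfs L117449 (flp_h L38339) rfl
theorem L117465 : N3538 = N3593 := eqes L117464 L28510
theorem L117466 : N3593 = N3538 := (eqc rfl L117465 rfl).symm
theorem L117475 : sm gg N3538 = N2630 := trfs L117466 L28516 rfl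
theorem L117476 : N2630 = N4840 := eqes L117475 L38329
theorem L117477 : N4840 = N2630 := (eqc rfl L117476 rfl).symm
theorem L117478 : sm gh N3538 = N2629 := trfs L117466 (flp_h L28510) rfl
theorem L117490 : sm gg N2630 = N3538 := trfs L117477 (flp_g L38329) rfl
theorem L117493 : sm gi N2630 = N3563 := trfs L117477 L38337 rfl
theorem L117494 : N3563 = N3594 := eqes L117493 L28519
theorem L117495 : N3594 = N3563 := (eqc rfl L117494 rfl).symm
theorem L117501 : sm gf N3563 = N2631 := trfs L117495 L28525 rfl
theorem L117502 : N2631 = N4875 := eqes L117501 L38612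
theorem L117503 : N4875 = N2631 := (eqc rfl L117502 rfl).symm
theorem L117505 : sm gh N3563 = N2656 := trfs L117495 L28527 rfl
theorem L117506 : N2656 = N4876 := eqes L117505 L38620
theorem L117507 : N4876 = N2656 := (eqc rfl L117506 rfl).symm
theorem L117508 : sm gi N3563 = N2630 := trfs L117495 (flp_i L28519) rfl
theorem L117516 : sm gf N2656 = N6680 := trfs L117507 (flp_f L52788) rfl
theorem L117517 : N6680 = N1942 := eqes L117516 L21120
theorem L117518 : N6680 = N1942 := eqc rfl L117517 rfl
theorem L117521 : sm gh N2656 = N3563 := trfs L117507 (flp_h L38620) rfl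
theorem L117543 : sm gc N1942 = N9151 := trfs L117518 (flp_c L72150) rfl
theorem L117544 : N9151 = N2652 := eqes L117543 (flp_c L21081)
theorem L117545 : N9151 = N2652 := eqc rfl L117544 rfl
theorem L117555 : sm gh N2652 = N6669 := trfs L117545 (flp_h L72146) rfl
theorem L117556 : N6669 = N3590 := eqes L117555 (flp_h L28489)
theorem L117557 : N6669 = N3590 := eqc rfl L117556 rfl
theorem L117559 : sm gb N3590 = N9133 := trfs L117557 (flp_b L72001) rfl
theorem L117560 : N9133 = N4906 := eqes L117559 (flp_b L38852)
theorem L117561 : N9133 = N4906 := eqc rfl L117560 rfl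
theorem L117576 : sm ga N4906 = N6773 := trfs L117561 L71999 rfl
theorem L117577 : N6773 = N6619 := eqes L117576 (flp_a L52297)
theorem L117578 : N6773 = N6619 := eqc rfl L117577 rfl
theorem L117581 : sm gf N4906 = N6659 := trfs L117561 (flp_f L71997) rfl
theorem L117582 : N6659 = N6717 := eqes L117581 (flp_f L53073)
theorem L117583 : N6717 = N6659 := (eqc rfl L117582 rfl).symm
theorem L117585 : sm ga N6659 = N9074 := trfs L117583 (flp_a L71548) rfl
theorem L117586 : N9074 = N4945 := eqes L117585 L52617
theorem L117587 : N9074 = N4945 := eqc rfl L117586 rfl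
theorem L117590 : sm gd N6659 = N9217 := trfs L117583 (flp_d L72654) rfl
theorem L117591 : N9217 = N9131 := eqes L117590 (flp_d L71988)
theorem L117592 : N9217 = N9131 := eqc rfl L117591 rfl
theorem L117596 : sm gf N6659 = N4906 := trfs L117583 L53073 rfl
theorem L117601 : sm gh N6659 = N4949 := trfs L117583 L53075 rfl
theorem L117602 : N4949 = N9134 := eqes L117601 L72006
theorem L117603 : N9134 = N4949 := (eqc rfl L117602 rfl).symm
theorem L117604 : sm gi N6659 = N4904 := trfs L117583 (flp_i L53068) rfl
theorem L117605 : N4904 = N9070 := eqes L117604 (flp_i L71516)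
theorem L117606 : N9070 = N4904 := (eqc rfl L117605 rfl).symm
theorem L117607 : sm ga N4904 = N6713 := trfs L117606 L71509 rfl
theorem L117608 : N6713 = N6617 := eqes L117607 (flp_a L52281)
theorem L117609 : N6713 = N6617 := eqc rfl L117608 rfl
theorem L117612 : sm ge N4904 = N6616 := trfs L117606 L71514 rfl
theorem L117613 : N6616 = N6714 := eqes L117612 (flp_e L53051)
theorem L117614 : N6714 = N6616 := (eqc rfl L117613 rfl).symm
theorem L117615 : sm gg N4904 = N6615 := trfs L117606 (flp_g L71507) rfl
theorem L117616 : N6615 = N6715 := eqes L117615 (flp_g L53060)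
theorem L117617 : N6715 = N6615 := (eqc rfl L117616 rfl).symm
theorem L117618 : sm gi N4904 = N6659 := trfs L117606 L71516 rfl
theorem L117625 : sm gd N6615 = N9213 := trfs L117617 L72623 rfl
theorem L117626 : N9213 = N9069 := eqes L117625 L71498
theorem L117627 : N9213 = N9069 := eqc rfl L117626 rfl
theorem L117628 : sm ge N6615 = N9210 := trfs L117617 (flp_e L72604) rfl
theorem L117629 : N9210 = N4833 := eqes L117628 (flp_e L52259)
theorem L117630 : N9210 = N4833 := eqc rfl L117629 rfl
theorem L117632 : sm gg N6615 = N4904 := trfs L117617 L53060 rfl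
theorem L117634 : sm gh N6615 = N4903 := trfs L117617 (flp_h L53054) rfl
theorem L117635 : N4903 = N9071 := eqes L117634 L71518
theorem L117636 : N9071 = N4903 := (eqc rfl L117635 rfl).symm
theorem L117644 : sm gh N4903 = N6615 := trfs L117636 (flp_h L71518) rfl
theorem L117646 : sm gb N4833 = N6724 := trfs L117630 L72601 rfl
theorem L117647 : N6724 = N3536 := eqes L117646 L38274
theorem L117648 : N6724 = N3536 := eqc rfl L117647 rfl
theorem L117664 : sm gh N3536 = N4908 := trfs L117648 (flp_h L53122) rfl
theorem L117665 : N4908 = N4837 := eqes L117664 L38306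
theorem L117666 : N4908 = N4837 := eqc rfl L117665 rfl
theorem L117671 : sm gd N4837 = N6721 := trfs L117666 (flp_d L53101) rfl
theorem L117672 : N6721 = N6624 := eqes L117671 L52342
theorem L117673 : N6721 = N6624 := eqc rfl L117672 rfl
theorem L117676 : sm gf N4837 = N6723 := trfs L117666 L53112 rfl
theorem L117677 : N6723 = N3537 := eqes L117676 L38312
theorem L117678 : N6723 = N3537 := eqc rfl L117677 rfl
theorem L117692 : sm gi N3537 = N4955 := trfs L117678 L53118 rfl
theorem L117693 : N4955 = N4839 := eqes L117692 L38319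
theorem L117694 : N4955 = N4839 := eqc rfl L117693 rfl
theorem L117698 : sm gd N4839 = N6787 := trfs L117694 (flp_d L53587) rfl
theorem L117699 : N6787 = N6627 := eqes L117698 (flp_d L52368)
theorem L117700 : N6787 = N6627 := eqc rfl L117699 rfl
theorem L117705 : sm gh N4839 = N6791 := trfs L117694 L53613 rfl
theorem L117706 : N6791 = N3562 := eqes L117705 L38327
theorem L117707 : N6791 = N3562 := eqc rfl L117706 rfl
theorem L117713 : sm gd N3562 = N9321 := trfs L117707 L73412 rfl
theorem L117714 : N9321 = N4874 := eqes L117713 (flp_d L38609)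
theorem L117715 : N9321 = N4874 := eqc rfl L117714 rfl
theorem L117731 : sm gf N4874 = N6792 := trfs L117715 L73416 rfl
theorem L117732 : N6792 = N6676 := eqes L117731 (flp_f L52759)
theorem L117733 : N6792 = N6676 := eqc rfl L117732 rfl
theorem L117735 : sm ga N6676 = N4973 := trfs L117733 L53625 rfl
theorem L117736 : N4973 = N4889 := eqes L117735 L52754
theorem L117737 : N4973 = N4889 := eqc rfl L117736 rfl
theorem L117738 : sm gb N6676 = N9295 := trfs L117733 (flp_b L73227) rfl
theorem L117739 : N9295 = N9141 := eqes L117738 (flp_b L72071)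
theorem L117740 : N9295 = N9141 := eqc rfl L117739 rfl
theorem L117743 : sm ge N6676 = N9323 := trfs L117733 L73430 rfl
theorem L117744 : N9323 = N9160 := eqes L117743 (flp_e L72221)
theorem L117745 : N9323 = N9160 := eqc rfl L117744 rfl
theorem L117746 : sm gg N6676 = N4957 := trfs L117733 L53627 rfl
theorem L117747 : N4957 = N9158 := eqes L117746 (flp_g L72207)
theorem L117748 : N9158 = N4957 := (eqc rfl L117747 rfl).symm
theorem L117749 : sm gh N6676 = N9317 := trfs L117733 (flp_h L73387) rfl
theorem L117750 : N9317 = N9161 := eqes L117749 L72223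
theorem L117751 : N9317 = N9161 := eqc rfl L117750 rfl
theorem L117752 : sm gi N6676 = N9324 := trfs L117733 L73439 rfl
theorem L117753 : N9324 = N4871 := eqes L117752 (flp_i L52752)
theorem L117754 : N9324 = N4871 := eqc rfl L117753 rfl
theorem L117760 : sm gg N4871 = N6795 := trfs L117754 L73446 rfl
theorem L117761 : N6795 = N6673 := eqes L117760 (flp_g L52735)
theorem L117762 : N6795 = N6673 := eqc rfl L117761 rfl
theorem L117763 : sm ga N6673 = N4976 := trfs L117762 L53649 rfl
theorem L117764 : N4976 = N4886 := eqes L117763 L52732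
theorem L117765 : N4976 = N4886 := eqc rfl L117764 rfl
theorem L117766 : sm gb N6673 = N9299 := trfs L117762 (flp_b L73253) rfl
theorem L117767 : N9299 = N9137 := eqes L117766 (flp_b L72038)
theorem L117768 : N9299 = N9137 := eqc rfl L117767 rfl
theorem L117770 : sm gd N6673 = N4958 := trfs L117762 L53652 rfl
theorem L117771 : N4958 = N4870 := eqes L117770 (flp_d L52730)
theorem L117772 : N4958 = N4870 := eqc rfl L117771 rfl
theorem L117773 : sm ge N6673 = N9326 := trfs L117762 (flp_e L73463) rfl
theorem L117774 : N9326 = N9157 := eqes L117773 L72192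
theorem L117775 : N9326 = N9157 := eqc rfl L117774 rfl
theorem L117777 : sm gh N6673 = N9327 := trfs L117762 L73465 rfl
theorem L117778 : N9327 = N8481 := eqes L117777 (flp_h L66928)
theorem L117779 : N9327 = N8481 := eqc rfl L117778 rfl
theorem L117782 : sm ga N8481 = N6817 := trfs L117779 L73467 rfl
theorem L117783 : N6817 = N6202 := eqes L117782 L66922
theorem L117784 : N6817 = N6202 := eqc rfl L117783 rfl
theorem L117794 : sm ge N6202 = N9352 := trfs L117784 (flp_e L73649) rfl
theorem L117795 : N9352 = N8503 := eqes L117794 L67084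
theorem L117796 : N9352 = N8503 := eqc rfl L117795 rfl
theorem L117802 : sm gi N6202 = N9344 := trfs L117784 (flp_i L73598) rfl
theorem L117803 : N9344 = N8504 := eqes L117802 L67093
theorem L117804 : N9344 = N8504 := eqc rfl L117803 rfl
theorem L117807 : sm gh N8504 = N6810 := trfs L117804 (flp_h L73594) rfl
theorem L117812 : sm gh N8503 = N6816 := trfs L117796 (flp_h L73646) rfl
theorem L117813 : N6816 = N6695 := eqes L117812 L67091
theorem L117814 : N6816 = N6695 := eqc rfl L117813 rfl
theorem L117816 : sm gb N6695 = N9187 := trfs L117814 (flp_b L72425) rfl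
theorem L117817 : N9187 = N4977 := eqes L117816 L52900
theorem L117818 : N9187 = N4977 := eqc rfl L117817 rfl
theorem L117820 : sm gd N6695 = N4980 := trfs L117814 L53808 rfl
theorem L117821 : N4980 = N9182 := eqes L117820 (flp_d L72392)
theorem L117822 : N9182 = N4980 := (eqc rfl L117821 rfl).symm
theorem L117824 : sm gf N6695 = N9351 := trfs L117814 (flp_f L73644) rfl
theorem L117825 : N9351 = N9189 := eqes L117824 L72436
theorem L117826 : N9351 = N9189 := eqc rfl L117825 rfl
theorem L117830 : sm gi N6695 = N4975 := trfs L117814 (flp_i L53805) rfl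
theorem L117831 : N4975 = N9190 := eqes L117830 L72442
theorem L117832 : N9190 = N4975 := (eqc rfl L117831 rfl).symm
theorem L117833 : sm gb N4975 = N6819 := trfs L117832 L72444 rfl
theorem L117834 : N6819 = N6693 := eqes L117833 (flp_b L52887)
theorem L117835 : N6819 = N6693 := eqc rfl L117834 rfl
theorem L117837 : sm ge N4975 = N6696 := trfs L117832 L72447 rfl
theorem L117838 : N6696 = N3634 := eqes L117837 (flp_e L39382)
theorem L117839 : N6696 = N3634 := eqc rfl L117838 rfl
theorem L117840 : sm gg N4975 = N6698 := trfs L117832 L72449 rfl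
theorem L117841 : N6698 = N6813 := eqes L117840 (flp_g L53788)
theorem L117842 : N6813 = N6698 := (eqc rfl L117841 rfl).symm
theorem L117843 : sm gi N4975 = N6695 := trfs L117832 (flp_i L72442) rfl
theorem L117851 : sm gf N6698 = N9347 := trfs L117842 L73613 rfl
theorem L117852 : N9347 = N9193 := eqes L117851 (flp_f L72473)
theorem L117853 : N9347 = N9193 := eqc rfl L117852 rfl
theorem L117854 : sm gg N6698 = N4975 := trfs L117842 L53788 rfl
theorem L117856 : sm gh N6698 = N9340 := trfs L117842 (flp_h L73574) rfl
theorem L117857 : N9340 = N9194 := eqes L117856 L72475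
theorem L117858 : N9340 = N9194 := eqc rfl L117857 rfl
theorem L117861 : sm ge N9194 = N6807 := trfs L117858 (flp_e L73569) rfl
theorem L117862 : N6807 = N6699 := eqes L117861 L72480
theorem L117863 : N6807 = N6699 := eqc rfl L117862 rfl
theorem L117864 : sm gg N9194 = N6809 := trfs L117858 L73572 rfl
theorem L117874 : sm gg N6699 = N4970 := trfs L117863 L53749 rfl
theorem L117875 : N4970 = N9191 := eqes L117874 (flp_g L72457)
theorem L117876 : N9191 = N4970 := (eqc rfl L117875 rfl).symm
theorem L117878 : sm gi N6699 = N9341 := trfs L117863 L73576 rfl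
theorem L117879 : N9341 = N8507 := eqes L117878 (flp_i L67126)
theorem L117880 : N9341 = N8507 := eqc rfl L117879 rfl
theorem L117882 : sm gd N8507 = N6808 := trfs L117880 L73579 rfl
theorem L117884 : sm gg N8507 = N6810 := trfs L117880 L73581 rfl
theorem L117889 : sm gg N4970 = N6699 := trfs L117876 L72457 rfl
theorem L117897 : sm gd N9193 = N6818 := trfs L117853 L73616 rfl
theorem L117900 : sm gb N3634 = N4978 := trfs L117839 L52907 rfl
theorem L117901 : N4978 = N4884 := eqes L117900 (flp_b L38687)
theorem L117902 : N4978 = N4884 := eqc rfl L117901 rfl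
theorem L117910 : sm ga N4884 = N6797 := trfs L117902 (flp_a L53665) rfl
theorem L117911 : N6797 = N6671 := eqes L117910 (flp_a L52718)
theorem L117912 : N6797 = N6671 := eqc rfl L117911 rfl
theorem L117913 : sm gc N4884 = N3695 := trfs L117902 L39401 rfl
theorem L117914 : N3695 = N6692 := eqes L117913 L52879
theorem L117915 : N6692 = N3695 := (eqc rfl L117914 rfl).symm
theorem L117928 : sm gc N3695 = N4884 := trfs L117915 (flp_c L52879) rfl
theorem L117993 : sm gb N6671 = N9302 := trfs L117912 (flp_b L73274) rfl
theorem L117994 : N9302 = N9135 := eqes L117993 (flp_b L72021)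
theorem L117995 : N9302 = N9135 := eqc rfl L117994 rfl
theorem L117996 : sm gc N6671 = N5043 := trfs L117912 L53667 rfl
theorem L117998 : sm gd N6671 = N4960 := trfs L117912 L53669 rfl
theorem L117999 : N4960 = N4869 := eqes L117998 (flp_d L52716)
theorem L118000 : N4960 = N4869 := eqc rfl L117999 rfl
theorem L118001 : sm ge N6671 = N9329 := trfs L117912 (flp_e L73484) rfl
theorem L118002 : N9329 = N9155 := eqes L118001 L72179
theorem L118003 : N9329 = N9155 := eqc rfl L118002 rfl
theorem L118005 : sm gg N6671 = N4962 := trfs L117912 L53672 rfl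
theorem L118006 : N4962 = N9152 := eqes L118005 (flp_g L72160)
theorem L118007 : N9152 = N4962 := (eqc rfl L118006 rfl).symm
theorem L118008 : sm gh N6671 = N9330 := trfs L117912 L73488 rfl
theorem L118009 : N9330 = N9149 := eqes L118008 (flp_h L72138)
theorem L118010 : N9330 = N9149 := eqc rfl L118009 rfl
theorem L118011 : sm gi N6671 = N4959 := trfs L117912 (flp_i L53663) rfl
theorem L118012 : N4959 = N9156 := eqes L118011 L72185
theorem L118013 : N9156 = N4959 := (eqc rfl L118012 rfl).symm
theorem L118017 : sm gi N4959 = N6671 := trfs L118013 (flp_i L72185) rfl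
theorem L118020 : sm gc N9149 = N6901 := trfs L118010 L73492 rfl
theorem L118023 : sm gg N9149 = N6800 := trfs L118010 L73495 rfl
theorem L118027 : sm gg N4962 = N6671 := trfs L118007 L72160 rfl
theorem L118030 : sm gc N9155 = N6900 := trfs L118003 L73482 rfl
theorem L118032 : sm gg N9155 = N6799 := trfs L118003 L73486 rfl
theorem L118034 : sm gi N9155 = N6796 := trfs L118003 (flp_i L73478) rfl
theorem L118037 : sm gb N4869 = N6778 := trfs L118000 (flp_b L53523) rfl
theorem L118038 : N6778 = N6660 := eqes L118037 (flp_b L52628)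
theorem L118039 : N6778 = N6660 := eqc rfl L118038 rfl
theorem L118058 : sm ga N6660 = N9138 := trfs L118039 (flp_a L72045) rfl
theorem L118059 : N9138 = N4946 := eqes L118058 L52626
theorem L118060 : N9138 = N4946 := eqc rfl L118059 rfl
theorem L118070 : sm gi N6660 = N4947 := trfs L118039 (flp_i L53521) rfl
theorem L118071 : N4947 = N9136 := eqes L118070 L72024
theorem L118072 : N9136 = N4947 := (eqc rfl L118071 rfl).symm
theorem L118078 : sm ge N4947 = N6663 := trfs L118072 L72031 rfl
theorem L118079 : N6663 = N6774 := eqes L118078 (flp_e L53497)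
theorem L118080 : N6774 = N6663 := (eqc rfl L118079 rfl).symm
theorem L118082 : sm gi N4947 = N6660 := trfs L118072 (flp_i L72024) rfl
theorem L118088 : sm ge N6663 = N4947 := trfs L118080 L53497 rfl
theorem L118113 : sm gg N4946 = N6663 := trfs L118060 L72051 rfl
theorem L118115 : sm gi N4946 = N6661 := trfs L118060 (flp_i L72043) rfl
theorem L118128 : sm gg N9135 = N6781 := trfs L117995 L73279 rfl
theorem L118130 : sm gi N9135 = N6777 := trfs L117995 (flp_i L73272) rfl
theorem L118132 : sm gc N6693 = N5051 := trfs L117835 L53823 rfl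
theorem L118135 : sm gf N6693 = N9354 := trfs L117835 (flp_f L73663) rfl
theorem L118136 : N9354 = N9186 := eqes L118135 L72416
theorem L118137 : N9354 = N9186 := eqc rfl L118136 rfl
theorem L118140 : sm gh N6693 = N9355 := trfs L117835 L73665 rfl
theorem L118141 : N9355 = N9177 := eqes L118140 (flp_h L72353)
theorem L118142 : N9355 = N9177 := eqc rfl L118141 rfl
theorem L118145 : sm gc N9177 = N6910 := trfs L118142 L73667 rfl
theorem L118148 : sm gg N9177 = N6823 := trfs L118142 L73671 rfl
theorem L118150 : sm gc N9186 = N6909 := trfs L118137 L73660 rfl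
theorem L118153 : sm gi N9186 = N6818 := trfs L118137 (flp_i L73658) rfl
theorem L118158 : sm gd N9189 = N6822 := trfs L117826 L73641 rfl
theorem L118161 : sm gi N9189 = N6815 := trfs L117826 (flp_i L73638) rfl
theorem L118163 : sm gd N4980 = N6695 := trfs L117822 L72392 rfl
theorem L118166 : sm gg N4980 = N6693 := trfs L117822 L72390 rfl
theorem L118168 : sm gd N4977 = N6698 := trfs L117818 L72427 rfl
theorem L118171 : sm gi N4977 = N6693 := trfs L117818 (flp_i L72423) rfl
theorem L118178 : sm gd N9157 = N6799 := trfs L117775 L73461 rfl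
theorem L118180 : sm gi N9157 = N6794 := trfs L117775 (flp_i L73456) rfl
theorem L118188 : sm gh N4870 = N6726 := trfs L117772 (flp_h L53146) rfl
theorem L118189 : N6726 = N3559 := eqes L118188 (flp_h L38573)
theorem L118190 : N6726 = N3559 := eqc rfl L118189 rfl
theorem L118191 : sm gi N4870 = N3620 := trfs L117772 (flp_i L39250) rfl
theorem L118196 : sm gd N3559 = N9232 := trfs L118190 (flp_d L72771) rfl
theorem L118197 : N9232 = N4522 := eqes L118196 (flp_d L35856)
theorem L118198 : N9232 = N4522 := eqc rfl L118197 rfl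
theorem L118205 : sm gi N4522 = N6725 := trfs L118198 (flp_i L72767) rfl
theorem L118206 : N6725 = N6152 := eqes L118205 (flp_i L48614)
theorem L118207 : N6725 = N6152 := eqc rfl L118206 rfl
theorem L118214 : sm ge N6152 = N9231 := trfs L118207 L72761 rfl
theorem L118215 : N9231 = N8429 := eqes L118214 (flp_e L66464)
theorem L118216 : N9231 = N8429 := eqc rfl L118215 rfl
theorem L118219 : sm gh N6152 = N9225 := trfs L118207 (flp_h L72715) rfl
theorem L118220 : N9225 = N8431 := eqes L118219 L66478
theorem L118221 : N9225 = N8431 := eqc rfl L118220 rfl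
theorem L118223 : sm gd N8431 = N6722 := trfs L118221 (flp_d L72710) rfl
theorem L118226 : sm ga N8429 = N6747 := trfs L118216 L72763 rfl
theorem L118227 : N6747 = N6161 := eqes L118226 L66460
theorem L118228 : N6747 = N6161 := eqc rfl L118227 rfl
theorem L118229 : sm gd N8429 = N6729 := trfs L118216 L72765 rfl
theorem L118238 : sm gf N6161 = N9262 := trfs L118228 L72989 rfl
theorem L118239 : N9262 = N8377 := eqes L118238 (flp_f L104327)
theorem L118240 : N9262 = N8377 := eqc rfl L118239 rfl
theorem L118316 : sm gd N8377 = N6751 := trfs L118240 L72991 rfl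
theorem L118323 : sm gi N9137 = N6775 := trfs L117768 (flp_i L73251) rfl
theorem L118330 : sm gi N4886 = N3634 := trfs L117765 (flp_i L39387) rfl
theorem L118344 : sm gd N9161 = N6788 := trfs L117751 (flp_d L73380) rfl
theorem L118346 : sm gg N9161 = N6789 := trfs L117751 L73384 rfl
theorem L118350 : sm gg N4957 = N6676 := trfs L117748 L72207 rfl
theorem L118352 : sm gi N4957 = N6673 := trfs L117748 (flp_i L72199) rfl
theorem L118355 : sm gd N9160 = N6796 := trfs L117745 L73437 rfl
theorem L118357 : sm gg N9160 = N6794 := trfs L117745 L73435 rfl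
theorem L118359 : sm gg N9141 = N6775 := trfs L117740 L73229 rfl
theorem L118365 : sm gg N4889 = N3634 := trfs L117737 L39371 rfl
theorem L118387 : sm gb N6627 = N9290 := trfs L117700 (flp_b L73193) rfl
theorem L118388 : N9290 = N9077 := eqes L118387 (flp_b L71575)
theorem L118389 : N9290 = N9077 := eqc rfl L118388 rfl
theorem L118390 : sm gc N6627 = N5026 := trfs L117700 L53585 rfl
theorem L118391 : N5026 = N9038 := eqes L118390 (flp_c L71269)
theorem L118392 : N9038 = N5026 := (eqc rfl L118391 rfl).symm
theorem L118393 : sm ge N6627 = N9315 := trfs L117700 L73363 rfl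
theorem L118394 : N9315 = N9089 := eqes L118393 (flp_e L71671)
theorem L118395 : N9315 = N9089 := eqc rfl L118394 rfl
theorem L118399 : sm gh N6627 = N9316 := trfs L117700 L73371 rfl
theorem L118400 : N9316 = N9090 := eqes L118399 L71674
theorem L118401 : N9316 = N9090 := eqc rfl L118400 rfl
theorem L118404 : sm gc N9090 = N6880 := trfs L118401 L73375 rfl
theorem L118406 : sm gf N9090 = N6788 := trfs L118401 L73377 rfl
theorem L118409 : sm ga N9089 = N6805 := trfs L118395 L73365 rfl
theorem L118410 : N6805 = N6644 := eqes L118409 L71668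
theorem L118411 : N6805 = N6644 := eqc rfl L118410 rfl
theorem L118412 : sm gc N9089 = N6879 := trfs L118395 L73367 rfl
theorem L118417 : sm gc N6644 = N5029 := trfs L118411 L53736 rfl
theorem L118418 : N5029 = N9055 := eqes L118417 (flp_c L71395)
theorem L118419 : N9055 = N5029 := (eqc rfl L118418 rfl).symm
theorem L118422 : sm gf N6644 = N8630 := trfs L118411 (flp_f L68132) rfl
theorem L118423 : N8630 = N9112 := eqes L118422 (flp_f L71847)
theorem L118424 : N9112 = N8630 := (eqc rfl L118423 rfl).symm
theorem L118426 : sm gh N6644 = N9337 := trfs L118411 L73547 rfl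
theorem L118427 : N9337 = N9113 := eqes L118426 L71849
theorem L118428 : N9337 = N9113 := eqc rfl L118427 rfl
theorem L118430 : sm gc N9113 = N6882 := trfs L118428 L73549 rfl
theorem L118434 : sm gb N8630 = N6755 := trfs L118424 L71844 rfl
theorem L118437 : sm gf N8630 = N6644 := trfs L118424 L71847 rfl
theorem L118439 : sm gi N8630 = N6643 := trfs L118424 (flp_i L71842) rfl
theorem L118442 : sm gc N5029 = N6644 := trfs L118419 L71395 rfl
theorem L118446 : sm gi N5029 = N6603 := trfs L118419 (flp_i L71392) rfl
theorem L118447 : N6603 = N6852 := eqes L118446 (flp_i L54080)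
theorem L118448 : N6852 = N6603 := (eqc rfl L118447 rfl).symm
theorem L118449 : sm ga N6603 = N9379 := trfs L118448 (flp_a L73851) rfl
theorem L118450 : N9379 = N9037 := eqes L118449 (flp_a L71260)
theorem L118451 : N9379 = N9037 := eqc rfl L118450 rfl
theorem L118454 : sm gd N6603 = N5511 := trfs L118448 L54082 rfl
theorem L118455 : N5511 = N9014 := eqes L118454 (flp_d L71079)
theorem L118456 : N9014 = N5511 := (eqc rfl L118455 rfl).symm
theorem L118458 : sm gf N6603 = N8363 := trfs L118448 (flp_f L110588) rfl
theorem L118459 : N8363 = N9054 := eqes L118458 L71387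
theorem L118460 : N9054 = N8363 := (eqc rfl L118459 rfl).symm
theorem L118465 : sm gi N6603 = N5029 := trfs L118448 L54080 rfl
theorem L118471 : sm gc N8363 = N6643 := trfs L118460 L71390 rfl
theorem L118473 : sm gf N8363 = N6603 := trfs L118460 (flp_f L71387) rfl
theorem L118477 : sm gd N5511 = N6603 := trfs L118456 L71079 rfl
theorem L118479 : sm ge N5511 = N6575 := trfs L118456 (flp_e L71073) rfl
theorem L118480 : N6575 = N4037 := eqes L118479 (flp_e L43556)
theorem L118481 : N6575 = N4037 := eqc rfl L118480 rfl
theorem L118484 : sm ga N4037 = N9002 := trfs L118481 (flp_a L70974) rfl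
theorem L118485 : N9002 = N5497 := eqes L118484 (flp_a L43445)
theorem L118486 : N9002 = N5497 := eqc rfl L118485 rfl
theorem L118495 : sm gd N5497 = N6567 := trfs L118486 (flp_d L70972) rfl
theorem L118496 : N6567 = N4028 := eqes L118495 L43448
theorem L118497 : N6567 = N4028 := eqc rfl L118496 rfl
theorem L118501 : sm gb N4028 = N8998 := trfs L118497 (flp_b L70940) rfl
theorem L118502 : N8998 = N5489 := eqes L118501 (flp_b L43383)
theorem L118503 : N8998 = N5489 := eqc rfl L118502 rfl
theorem L118509 : sm gh N4028 = N4798 := trfs L118497 (flp_h L51880) rfl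
theorem L118510 : N4798 = N5501 := eqes L118509 L43475
theorem L118511 : N5501 = N4798 := (eqc rfl L118510 rfl).symm
theorem L118514 : sm gb N4798 = N7505 := trfs L118511 (flp_b L59183) rfl
theorem L118515 : N7505 = N6565 := eqes L118514 L51863
theorem L118516 : N7505 = N6565 := eqc rfl L118515 rfl
theorem L118523 : sm gh N4798 = N4028 := trfs L118511 (flp_h L43475) rfl
theorem L118528 : sm ge N6565 = N9368 := trfs L118516 (flp_e L73762) rfl
theorem L118529 : N9368 = N4812 := eqes L118528 L51866
theorem L118530 : N9368 = N4812 := eqc rfl L118529 rfl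
theorem L118531 : sm gf N6565 = N5490 := trfs L118516 L59186 rfl
theorem L118532 : N5490 = N8997 := eqes L118531 L70929
theorem L118533 : N8997 = N5490 := (eqc rfl L118532 rfl).symm
theorem L118542 : sm gf N5490 = N6565 := trfs L118533 (flp_f L70929) rfl
theorem L118548 : sm gf N4812 = N6831 := trfs L118530 L73764 rfl
theorem L118549 : N6831 = N6586 := eqes L118548 L52037
theorem L118550 : N6831 = N6586 := eqc rfl L118549 rfl
theorem L118552 : sm gh N4812 = N6830 := trfs L118530 (flp_h L73756) rfl
theorem L118553 : N6830 = N6587 := eqes L118552 L52044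
theorem L118554 : N6830 = N6587 := eqc rfl L118553 rfl
theorem L118559 : sm gd N6587 = N9364 := trfs L118554 (flp_d L73728) rfl
theorem L118560 : N9364 = N9029 := eqes L118559 L71195
theorem L118561 : N9364 = N9029 := eqc rfl L118560 rfl
theorem L118564 : sm gf N6587 = N4987 := trfs L118554 (flp_f L53896) rfl
theorem L118565 : N4987 = N9028 := eqes L118564 (flp_f L71193)
theorem L118566 : N9028 = N4987 := (eqc rfl L118565 rfl).symm
theorem L118568 : sm gi N6587 = N5025 := trfs L118554 L53902 rfl
theorem L118569 : N5025 = N9030 := eqes L118568 L71201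
theorem L118570 : N9030 = N5025 := (eqc rfl L118569 rfl).symm
theorem L118576 : sm gi N5025 = N6587 := trfs L118570 (flp_i L71201) rfl
theorem L118583 : sm gf N4987 = N6587 := trfs L118566 L71193 rfl
theorem L118604 : sm gb N9029 = N6838 := trfs L118561 L73726 rfl
theorem L118605 : N6838 = N6591 := eqes L118604 L71198
theorem L118606 : N6838 = N6591 := eqc rfl L118605 rfl
theorem L118607 : sm gf N9029 = N6828 := trfs L118561 (flp_f L73723) rfl
theorem L118610 : sm gi N9029 = N6876 := trfs L118561 L73730 rfl
theorem L118619 : sm gh N6591 = N9380 := trfs L118606 L73858 rfl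
theorem L118620 : N9380 = N8399 := eqes L118619 (flp_h L66184)
theorem L118621 : N9380 = N8399 := eqc rfl L118620 rfl
theorem L118625 : sm gf N8399 = N6839 := trfs L118621 L73862 rfl
theorem L118631 : sm gd N6586 = N9369 := trfs L118550 L73768 rfl
theorem L118632 : N9369 = N8394 := eqes L118631 (flp_d L66139)
theorem L118633 : N9369 = N8394 := eqc rfl L118632 rfl
theorem L118636 : sm gg N6586 = N4988 := trfs L118550 L53915 rfl
theorem L118637 : N4988 = N9027 := eqes L118636 L71179
theorem L118638 : N9027 = N4988 := (eqc rfl L118637 rfl).symm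
theorem L118639 : sm gh N6586 = N4987 := trfs L118550 (flp_h L53907) rfl
theorem L118646 : sm gg N4988 = N6586 := trfs L118638 (flp_g L71179) rfl
theorem L118650 : sm gb N8394 = N6843 := trfs L118633 L73771 rfl
theorem L118651 : N6843 = N6129 := eqes L118650 L66135
theorem L118652 : N6843 = N6129 := eqc rfl L118651 rfl
theorem L118653 : sm gg N8394 = N6832 := trfs L118633 L73773 rfl
theorem L118663 : sm gg N6129 = N4997 := trfs L118652 L54010 rfl
theorem L118664 : N4997 = N8397 := eqes L118663 L66159
theorem L118665 : N8397 = N4997 := (eqc rfl L118664 rfl).symm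
theorem L118673 : sm gg N4997 = N6129 := trfs L118665 (flp_g L66159) rfl
theorem L118682 : sm ge N5489 = N6587 := trfs L118503 L70943 rfl
theorem L118685 : sm gh N5489 = N6565 := trfs L118503 (flp_h L70937) rfl
theorem L118687 : sm gd N9037 = N7516 := trfs L118451 L73856 rfl
theorem L118690 : sm gi N9037 = N6879 := trfs L118451 L73854 rfl
theorem L118693 : sm gc N5026 = N6627 := trfs L118392 L71269 rfl
theorem L118697 : sm gi N5026 = N6591 := trfs L118392 (flp_i L71265) rfl
theorem L118700 : sm gf N9077 = N6771 := trfs L118389 (flp_f L73191) rfl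
theorem L118709 : sm gb N6624 = N9207 := trfs L117673 (flp_b L72579) rfl
theorem L118710 : N9207 = N9073 := eqes L118709 (flp_b L71542)
theorem L118711 : N9207 = N9073 := eqc rfl L118710 rfl
theorem L118717 : sm gg N6624 = N4907 := trfs L117673 (flp_g L53095) rfl
theorem L118718 : N4907 = N9084 := eqes L118717 (flp_g L71636)
theorem L118719 : N9084 = N4907 := (eqc rfl L118718 rfl).symm
theorem L118726 : sm gg N4907 = N6624 := trfs L118719 L71636 rfl
theorem L118729 : sm gg N9073 = N6712 := trfs L118711 (flp_g L72577) rfl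
theorem L118731 : sm gi N9073 = N6771 := trfs L118711 L72583 rfl
theorem L118756 : sm gg N9069 = N6716 := trfs L117627 L72628 rfl
theorem L118766 : sm ge N6616 = N4904 := trfs L117614 L53051 rfl
theorem L118769 : sm gh N6616 = N4902 := trfs L117614 (flp_h L53046) rfl
theorem L118773 : sm ge N6617 = N4903 := trfs L117609 L53042 rfl
theorem L118775 : sm gg N6617 = N4902 := trfs L117609 (flp_g L53037) rfl
theorem L118781 : sm ge N4949 = N6661 := trfs L117603 L72013 rfl
theorem L118783 : sm gg N4949 = N6660 := trfs L117603 L72015 rfl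
theorem L118785 : sm gh N4949 = N6659 := trfs L117603 (flp_h L72006) rfl
theorem L118791 : sm gb N9131 = N6730 := trfs L117592 L72652 rfl
theorem L118792 : N6730 = N6667 := eqes L118791 L71986
theorem L118793 : N6730 = N6667 := eqc rfl L118792 rfl
theorem L118794 : sm gf N9131 = N6720 := trfs L117592 L72656 rfl
theorem L118796 : sm gi N9131 = N6716 := trfs L117592 (flp_i L72650) rfl
theorem L118801 : sm ge N6667 = N9236 := trfs L118793 (flp_e L72803) rfl
theorem L118802 : N9236 = N8475 := eqes L118801 (flp_e L66882)
theorem L118803 : N9236 = N8475 := eqc rfl L118802 rfl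
theorem L118808 : sm gi N6667 = N4911 := trfs L118793 (flp_i L53172) rfl
theorem L118809 : N4911 = N9078 := eqes L118808 (flp_i L71587)
theorem L118810 : N9078 = N4911 := (eqc rfl L118809 rfl).symm
theorem L118816 : sm gi N4911 = N6667 := trfs L118810 L71587 rfl
theorem L118820 : sm gi N8475 = N6729 := trfs L118803 (flp_i L72798) rfl
theorem L118826 : sm gh N4945 = N6663 := trfs L117587 L71555 rfl
theorem L118828 : sm gi N4945 = N6617 := trfs L117587 (flp_i L71546) rfl
theorem L118832 : sm gf N6619 = N4945 := trfs L117578 (flp_f L53485) rfl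
theorem L118839 : sm gf N2631 = N3563 := trfs L117503 (flp_f L38612) rfl
theorem L118913 : sm ge N3587 = N4837 := trfs L117454 L52330 rfl
theorem L118917 : sm gh N3587 = N4835 := trfs L117454 (flp_h L52324) rfl
theorem L118926 : sm gf N3619 = N4839 := trfs L117426 L52354 rfl
theorem L118931 : sm gi N3619 = N4837 := trfs L117426 (flp_i L52348) rfl
theorem L118937 : sm ge N2655 = N3566 := trfs L117415 L38642 rfl
theorem L118945 : sm gg N4872 = N3620 := trfs L117411 L39242 rfl
theorem L118947 : sm gh N4872 = N3619 := trfs L117411 (flp_h L39234) rfl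
theorem L118955 : sm gg N3564 = N2656 := trfs L117401 L28799 rfl
theorem L118958 : sm gi N3564 = N2655 := trfs L117401 (flp_i L28791) rfl
theorem L119084 : sm ga N6140 = N9390 := trfs L117266 (flp_a L73936) rfl
theorem L119085 : N9390 = N8401 := eqes L119084 (flp_a L66197)
theorem L119086 : N9390 = N8401 := eqc rfl L119085 rfl
theorem L119093 : sm gf N6140 = N9416 := trfs L117266 L74123 rfl
theorem L119094 : N9416 = N8413 := eqes L119093 L66302
theorem L119095 : N9416 = N8413 := eqc rfl L119094 rfl
theorem L119099 : sm gc N8413 = N6864 := trfs L119095 L74125 rfl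
theorem L119108 : sm gc N8401 = N6845 := trfs L119086 L73938 rfl
theorem L119123 : sm gc N6132 = N4997 := trfs L117255 (flp_c L54013) rfl
theorem L119128 : sm gc N8414 = N6857 := trfs L117240 L74050 rfl
theorem L119134 : sm gc N8403 = N6840 := trfs L117229 (flp_c L73881) rfl
theorem L119141 : sm gd N8398 = N6839 := trfs L117196 (flp_d L73865) rfl
theorem L119143 : sm gg N8398 = N6840 := trfs L117196 L73869 rfl
theorem L119146 : sm gc N5011 = N6140 := trfs L117183 L66247 rfl
theorem L119149 : sm gg N5011 = N6135 := trfs L117183 (flp_g L66244) rfl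
theorem L119154 : sm gd N8396 = N6846 := trfs L117172 L73926 rfl
theorem L119156 : sm gg N8396 = N6845 := trfs L117172 L73923 rfl
theorem L119161 : sm ge N4989 = N6586 := trfs L117115 (flp_e L71172) rfl
theorem L119213 : sm gd N3524 = N2678 := trfs L116949 (flp_d L29018) rfl
theorem L119221 : sm ge N2679 = N3522 := trfs L116937 (flp_e L38133) rfl
theorem L119248 : sm gf N2677 = N3523 := trfs L116908 L38154 rfl
theorem L119250 : sm gh N2677 = N3522 := trfs L116908 (flp_h L38149) rfl
theorem L119261 : sm ge N2959 = N3523 := trfs L116865 L38020 rfl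
theorem L119264 : sm gh N2959 = N3511 := trfs L116865 (flp_h L38015) rfl
theorem L119290 : sm gf N2960 = N3511 := trfs L116842 (flp_f L38007) rfl
theorem L119302 : sm gf N4029 = N4798 := trfs L116797 (flp_f L51872) rfl
theorem L119329 : sm ge N2964 = N3526 := trfs L116734 L38046 rfl
theorem L119334 : sm ge N4814 = N4028 := trfs L116728 L39540 rfl
theorem L119336 : sm gf N4814 = N3651 := trfs L116728 (flp_f L39532) rfl
theorem L119340 : sm gi N4814 = N3677 := trfs L116728 L39538 rfl
theorem L119345 : sm gf N3513 = N2965 := trfs L116720 L32002 rfl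
theorem L119348 : sm gh N3513 = N2964 := trfs L116720 (flp_h L31997) rfl
theorem L119360 : sm ge N2683 = N3525 := trfs L116701 (flp_e L38167) rfl
theorem L119370 : sm ge N2583 = N1968 := trfs L116695 L21367 rfl
theorem L119378 : sm ge N4813 = N3653 := trfs L116691 L39549 rfl
theorem L119382 : sm gh N4813 = N3651 := trfs L116691 (flp_h L39543) rfl
theorem L119396 : sm gc N3663 = N4491 := trfs L116680 L48465 rfl
theorem L119399 : sm gg N3663 = N4488 := trfs L116680 (flp_g L48462) rfl
theorem L119403 : sm gg N3652 = N4813 := trfs L116675 (flp_g L52058) rfl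
theorem L119411 : sm gf N2681 = N3526 := trfs L116638 L38185 rfl
theorem L119413 : sm gh N2681 = N3525 := trfs L116638 (flp_h L38180) rfl
theorem L119416 : sm gc N4993 = N6624 := trfs L116632 L71247 rfl
theorem L119418 : sm gf N4993 = N6591 := trfs L116632 L71245 rfl
theorem L119437 : sm gf N4953 = N6627 := trfs L116608 L71659 rfl
theorem L119439 : sm gi N4953 = N6624 := trfs L116608 (flp_i L71653) rfl
theorem L119443 : sm gf N6196 = N9269 := trfs L116602 (flp_f L73034) rfl
theorem L119444 : N9269 = N8493 := eqes L119443 L67014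
theorem L119445 : N9269 = N8493 := eqc rfl L119444 rfl
theorem L119451 : sm ge N8493 = N6755 := trfs L119445 L73032 rfl
theorem L119453 : sm gi N8493 = N6751 := trfs L119445 (flp_i L73029) rfl
theorem L119457 : sm gb N8362 = N6751 := trfs L116591 L71818 rfl
theorem L119459 : sm ge N8362 = N6643 := trfs L116591 L71820 rfl
theorem L119462 : sm gb N4928 = N6239 := trfs L116582 L66577 rfl
theorem L119465 : sm gd N4928 = N6161 := trfs L116582 L66580 rfl
theorem L119470 : sm gi N4928 = N6196 := trfs L116582 L66584 rfl
theorem L119472 : sm ge N8536 = N6624 := trfs L116579 (flp_e L71649) rfl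
theorem L119476 : sm gc N5005 = N6164 := trfs L116551 L66273 rfl
theorem L119478 : sm gd N5005 = N6137 := trfs L116551 (flp_d L66268) rfl
theorem L119482 : sm gc N8432 = N6839 := trfs L116547 L72706 rfl
theorem L119484 : sm gg N8432 = N6722 := trfs L116547 L72708 rfl
theorem L119487 : sm gf N6138 = N5005 := trfs L116540 L54087 rfl
theorem L119491 : sm gi N6138 = N9400 := trfs L116540 L74013 rfl
theorem L119492 : N9400 = N8412 := eqes L119491 L66294
theorem L119493 : N9400 = N8412 := eqc rfl L119492 rfl
theorem L119495 : sm gf N8412 = N6855 := trfs L119493 L74016 rfl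
theorem L119498 : sm gh N8412 = N6883 := trfs L119493 L74019 rfl
theorem L119501 : sm gc N4848 = N3659 := trfs L116532 L38980 rfl
theorem L119504 : sm ge N4848 = N6239 := trfs L116532 (flp_e L49356) rfl
theorem L119508 : sm gi N4848 = N3630 := trfs L116532 L38984 rfl
theorem L119513 : sm gf N4822 = N3659 := trfs L116525 (flp_f L39610) rfl
theorem L119516 : sm gi N4822 = N3678 := trfs L116525 L39615 rfl
theorem L119522 : sm gc N4851 = N3678 := trfs L116501 L39339 rfl
theorem L119525 : sm gf N4851 = N3630 := trfs L116501 (flp_f L39337) rfl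
theorem L119530 : sm gf N4914 = N6667 := trfs L116498 (flp_f L72118) rfl
theorem L119533 : sm gc N6645 = N5030 := trfs L116488 L53742 rfl
theorem L119538 : sm gi N6645 = N9339 := trfs L116488 L73562 rfl
theorem L119539 : N9339 = N8453 := eqes L119538 (flp_i L66692)
theorem L119540 : N9339 = N8453 := eqc rfl L119539 rfl
theorem L119541 : sm gc N8453 = N6883 := trfs L119540 L73564 rfl
theorem L119543 : sm gf N8453 = N6808 := trfs L119540 L73566 rfl
theorem L119547 : sm gd N4981 = N6686 := trfs L116468 (flp_d L72327) rfl
theorem L119552 : sm gd N4969 = N6699 := trfs L116464 L71834 rfl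
theorem L119554 : sm gf N4969 = N6645 := trfs L116464 L71832 rfl
theorem L119557 : sm gd N9148 = N6800 := trfs L116461 L72812 rfl
theorem L119559 : sm gf N9148 = N6733 := trfs L116461 L72810 rfl
theorem L119561 : sm gc N6687 = N5052 := trfs L116454 L53831 rfl
theorem L119564 : sm gg N6687 = N4981 := trfs L116454 L53834 rfl
theorem L119566 : sm gi N6687 = N8650 := trfs L116454 (flp_i L68249) rfl
theorem L119567 : N8650 = N9178 := eqes L119566 L72355
theorem L119568 : N9178 = N8650 := (eqc rfl L119567 rfl).symm
theorem L119569 : sm gb N8650 = N6810 := trfs L119568 L72357 rfl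
theorem L119571 : sm gd N8650 = N6688 := trfs L119568 L72359 rfl
theorem L119574 : sm gi N8650 = N6687 := trfs L119568 (flp_i L72355) rfl
theorem L119581 : sm ga N6160 = N9233 := trfs L116428 (flp_a L72776) rfl
theorem L119582 : N9233 = N8428 := eqes L119581 (flp_a L66449)
theorem L119583 : N9233 = N8428 := eqc rfl L119582 rfl
theorem L119588 : sm gg N6160 = N4928 := trfs L116428 L53318 rfl
theorem L119595 : sm gg N8428 = N6729 := trfs L119583 L72779 rfl
theorem L119599 : sm gg N6620 = N4911 := trfs L116422 L53153 rfl
theorem L119606 : sm ge N8442 = N6245 := trfs L116403 (flp_e L67594) rfl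
theorem L119608 : sm gg N8442 = N6247 := trfs L116403 L67597 rfl
theorem L119610 : sm gb N4921 = N6245 := trfs L116399 L66636 rfl
theorem L119615 : sm gg N4921 = N6164 := trfs L116399 L66639 rfl
theorem L119620 : sm gh N8542 = N6620 := trfs L116396 (flp_h L71589) rfl
theorem L119622 : sm gd N6163 = N4921 := trfs L116389 (flp_d L53267) rfl
theorem L119626 : sm gi N6163 = N9253 := trfs L116389 L72934 rfl
theorem L119627 : N9253 = N8448 := eqes L119626 L66643
theorem L119628 : N9253 = N8448 := eqc rfl L119627 rfl
theorem L119629 : sm gd N8448 = N6742 := trfs L119628 L72936 rfl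
theorem L119643 : sm gi N3636 = N4884 := trfs L116341 (flp_i L52891) rfl
theorem L119645 : sm ge N3621 = N4872 := trfs L116336 L52727 rfl
theorem L119649 : sm gi N3621 = N4869 := trfs L116336 (flp_i L52721) rfl
theorem L119661 : sm gg N3569 = N2662 := trfs L116312 L28849 rfl
theorem L119664 : sm gi N3569 = N2660 := trfs L116312 (flp_i L28844) rfl
theorem L119672 : sm gg N3639 = N4884 := trfs L116304 L52867 rfl
theorem L119675 : sm ge N3572 = N2660 := trfs L116300 L28822 rfl
theorem L119682 : sm ge N3623 = N4870 := trfs L116297 L52712 rfl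
theorem L119684 : sm gg N3623 = N4869 := trfs L116297 L52714 rfl
theorem L119691 : sm gf N2636 = N3568 := trfs L116288 (flp_f L38667) rfl
theorem L119696 : sm gf N4880 = N3602 := trfs L116284 L39042 rfl
theorem L119700 : sm gf N4868 = N3590 := trfs L116279 L38909 rfl
theorem L119702 : sm gh N4868 = N3623 := trfs L116279 L38911 rfl
theorem L119712 : sm gg N3599 = N4844 := trfs L116266 (flp_g L52417) rfl
theorem L119714 : sm gi N3599 = N4880 := trfs L116266 L52424 rfl
theorem L119716 : sm ge N3588 = N4836 := trfs L116261 L52320 rfl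
theorem L119718 : sm gg N3588 = N4835 := trfs L116261 (flp_g L52314) rfl
theorem L119721 : sm gi N3588 = N4868 := trfs L116261 L52322 rfl
theorem L119735 : sm gg N3595 = N4848 := trfs L116232 L52473 rfl
theorem L119741 : sm gg N3542 = N2634 := trfs L116228 L28556 rfl
theorem L119743 : sm gh N3542 = N2633 := trfs L116228 (flp_h L28551) rfl
theorem L119747 : sm gg N3586 = N4837 := trfs L116225 L52340 rfl
theorem L119749 : sm gh N3586 = N4836 := trfs L116225 (flp_h L52333) rfl
theorem L119755 : sm gh N2658 = N3572 := trfs L116218 L38414 rfl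
theorem L119769 : sm gg N2659 = N3572 := trfs L116180 L38714 rfl
theorem L119776 : sm gg N2654 = N3566 := trfs L116176 L38652 rfl
theorem L119780 : sm ge N3570 = N2662 := trfs L116165 L28834 rfl
theorem L119784 : sm gi N3570 = N2659 := trfs L116165 (flp_i L28830) rfl
theorem L119788 : sm ge N3565 = N2656 := trfs L116161 L28788 rfl
theorem L119792 : sm gi N3565 = N2654 := trfs L116161 (flp_i L28782) rfl
theorem L119816 : sm ge N1930 = N2597 := trfs L116134 L28147 rfl
theorem L119822 : sm gi N1930 = N2616 := trfs L116134 L28149 rfl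
theorem L119829 : sm ge N3543 = N2634 := trfs L116128 L28548 rfl
theorem L119833 : sm gh N3543 = N2632 := trfs L116128 (flp_h L28544) rfl
theorem L119836 : sm ge N3539 = N2630 := trfs L116124 L28507 rfl
theorem L119840 : sm gh N3539 = N2628 := trfs L116124 (flp_h L28502) rfl
theorem L119849 : sm gg N1928 = N2598 := trfs L116102 L28163 rfl
theorem L119851 : sm gh N1928 = N2597 := trfs L116102 (flp_h L28158) rfl
theorem L119854 : sm gd N1966 = N2598 := trfs L116097 L27999 rfl
theorem L119859 : sm gh N1966 = N2583 := trfs L116097 (flp_h L27993) rfl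
theorem L119862 : sm ge N3544 = N2633 := trfs L116094 L28540 rfl
theorem L119865 : sm gg N3544 = N2632 := trfs L116094 (flp_g L28536) rfl
theorem L119867 : sm gi N3544 = N2658 := trfs L116094 L28542 rfl
theorem L119870 : sm gd N3540 = N2677 := trfs L116090 L28496 rfl
theorem L119872 : sm ge N3540 = N2629 := trfs L116090 L28498 rfl
theorem L119875 : sm gg N3540 = N2628 := trfs L116090 (flp_g L28491) rfl
theorem L119877 : sm gi N3540 = N2653 := trfs L116090 L28500 rfl
theorem L119889 : sm gf N1948 = N2599 := trfs L116069 L28169 rfl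
theorem L119893 : sm gi N1948 = N2598 := trfs L116069 (flp_i L28165) rfl
theorem L119896 : sm gf N3546 = N2658 := trfs L116063 (flp_f L28812) rfl
theorem L119901 : sm gd N3541 = N2696 := trfs L116059 L28768 rfl
theorem L119904 : sm gf N3541 = N2653 := trfs L116059 (flp_f L28763) rfl
theorem L119912 : sm gg N2619 = N1949 := trfs L116052 L21186 rfl
theorem L119914 : sm gh N2619 = N1948 := trfs L116052 (flp_h L21180) rfl
theorem L119984 : sm gd N3512 = N2960 := trfs L115926 (flp_d L31951) rfl
theorem L120000 : sm gg N2961 = N3512 := trfs L115912 (flp_g L38024) rfl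
theorem L120189 : sm gd N1890 = N1606 := trfs L115452 (flp_d L17371) rfl
theorem L120193 : sm gg N1890 = N1607 := trfs L115452 L17374 rfl
theorem L120197 : sm gd N2182 = N2576 := trfs L115448 L27883 rfl
theorem L120207 : sm gf N2575 = N2182 := trfs L115433 L23570 rfl
theorem L120210 : sm gh N2575 = N2181 := trfs L115433 (flp_h L23566) rfl
theorem L120219 : sm ge N1605 = N1896 := trfs L115409 L20509 rfl
theorem L120222 : sm gh N1605 = N1889 := trfs L115409 (flp_h L20505) rfl
theorem L120225 : sm ge N2584 = N2181 := trfs L115404 L21360 rfl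
theorem L120227 : sm gf N2584 = N1966 := trfs L115404 (flp_f L21354) rfl
theorem L120237 : sm gd N1978 = N2599 := trfs L115389 L28005 rfl
theorem L120242 : sm gi N1978 = N2584 := trfs L115389 (flp_i L28001) rfl
theorem L120261 : sm gf N1442 = N1896 := trfs L115354 L20584 rfl
theorem L120277 : sm gg N1967 = N2583 := trfs L115328 (flp_g L27985) rfl
theorem L120286 : sm gd N2585 = N1967 := trfs L115314 (flp_d L21372) rfl
theorem L120298 : sm ge N1895 = N1444 := trfs L115302 L15705 rfl
theorem L120300 : sm gg N1895 = N1443 := trfs L115302 L15707 rfl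
theorem L120302 : sm gh N1895 = N1442 := trfs L115302 (flp_h L15701) rfl
theorem L120367 : sm gg N2596 = N1930 := trfs L115215 L20984 rfl
theorem L120373 : sm gd N1906 = N1442 := trfs L115206 L15409 rfl
theorem L120375 : sm ge N1906 = N1416 := trfs L115206 L15411 rfl
theorem L120378 : sm gg N1906 = N1415 := trfs L115206 (flp_g L15406) rfl
theorem L120392 : sm gh N1905 = N1415 := trfs L115200 (flp_h L15415) rfl
theorem L120396 : sm ge N1929 = N2598 := trfs L115197 L28155 rfl
theorem L120400 : sm gh N1929 = N2596 := trfs L115197 (flp_h L28151) rfl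
theorem L120409 : sm gi N1429 = N1906 := trfs L115188 (flp_i L20702) rfl
theorem L120464 : sm gg N1919 = N1432 := trfs L115146 L15577 rfl
theorem L120466 : sm gi N1919 = N1431 := trfs L115146 (flp_i L15571) rfl
theorem L120470 : sm ge N1920 = N1432 := trfs L115143 L15568 rfl
theorem L120473 : sm gi N1920 = N1430 := trfs L115143 (flp_i L15564) rfl
theorem L120477 : sm ge N1921 = N1431 := trfs L115139 L15559 rfl
theorem L120480 : sm gg N1921 = N1430 := trfs L115139 L15561 rfl
theorem L120482 : sm gh N1921 = N1429 := trfs L115139 (flp_h L15556) rfl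
theorem L120491 : sm gf N1918 = N1418 := trfs L115118 L15432 rfl
theorem L120493 : sm gh N1918 = N1432 := trfs L115118 L15434 rfl
theorem L120498 : sm gd N1907 = N1452 := trfs L115113 L15552 rfl
theorem L120501 : sm gf N1907 = N1429 := trfs L115113 (flp_f L15549) rfl
theorem L120507 : sm gf N1931 = N2616 := trfs L115110 (flp_f L28364) rfl
theorem L120514 : sm ge N1417 = N1905 := trfs L115102 L20682 rfl
theorem L120516 : sm gg N1417 = N1904 := trfs L115102 (flp_g L20676) rfl
theorem L120519 : sm gi N1417 = N1918 := trfs L115102 L20684 rfl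
theorem L120603 : sm ge N1951 = N2618 := trfs L115001 L28375 rfl
theorem L120607 : sm gh N1951 = N2616 := trfs L115001 (flp_h L28371) rfl
theorem L120629 : sm gd N2617 = N1992 := trfs L114983 L21201 rfl
theorem L120632 : sm gg N2617 = N1951 := trfs L114983 L21204 rfl
theorem L120643 : sm gd N1465 = N1919 := trfs L114977 (flp_d L20845) rfl
theorem L120650 : sm gd N2709 = N3564 := trfs L114974 (flp_d L38629) rfl
theorem L120658 : sm ge N1950 = N2619 := trfs L114963 L28390 rfl
theorem L120662 : sm gi N1950 = N2617 := trfs L114963 (flp_i L28386) rfl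
theorem L120730 : sm ge N7509 = N7509 := ded_25_2 (flp_c L59212) L82606 L59212
theorem L120731 : sm gf N9373 = N9373 := ded_35_4 (flp_e L73800) L53930 L82606 (flp_f L53930) L73800
theorem L120732 : sm gg N9377 = N9377 := ded_27_2 L73837 L82678 (flp_c L73837)
theorem L120733 : sm gg N9375 = N9375 := ded_36_2 L73821 L82678 (flp_e L73821)
theorem L120734 : sm gh N7509 = N8330 := ded_42_2 (flp_g L112198) L82715 (flp_g L59215)
theorem L120736 : sm ge N8690 = N7499 := ded_36_1 (flp_g L59131) (flp_e L112265) L82744
theorem L120738 : sm gf N8342 = N7516 := ded_35_2 (flp_e L59265) (flp_f L43443) L106390 L83310 L65719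
theorem L120740 : sm gg N7844 = N8775 := ded_14_2 L69305 L84629 (flp_a L61782)
theorem L120742 : sm gg N7796 = N8798 := ded_27_2 L69471 L84629 (flp_c L61420)
theorem L120744 : sm gc N9485 = N9375 := ded_46_32 L73818 L54038 L106251 L106235 (flp_e L36876) (flp_d L26962) L19784 L14541 L10730 (flp_h L10382) (flp_f L7641) L5677 (flp_d L4341) L3224 L2399 L1893 L1896 L1930 (flp_e L2583) L2581 (flp_c L3490) (flp_b L4692) (flp_a L6347) (flp_h L8362) (flp_f L8357) (flp_e L6186) L4556 (flp_c L5783) (flp_b L7225) (flp_a L7217) L5372 L4043 L4074 L85758 L5071 L3889 L2894 (flp_h L3877) (flp_f L4673) (flp_e L6225) (flp_d L8402) (flp_c L11251) (flp_b L15272) (flp_a L20741) L28285 L28290 L119788 L21118 (flp_c L21516) (flp_b L29200) L29199 L29206 L29204 L21492 (flp_d L21611) (flp_c L29343) L29342 L29341 L40023 L40029 (flp_e L54586) L74638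
theorem L120746 : sm gh N7516 = N7516 := ded_15_2 L59267 L90366 (flp_a L59267)
theorem L120747 : sm gb N8513 = N7757 := ded_17_3 (flp_c L61114) L44797 L93065 (flp_b L49098) L67167
theorem L120749 : sm gg N7758 = N8525 := ded_21_2 L67248 L93089 (flp_b L61120)
theorem L120751 : sm gg N7765 = N8526 := ded_42_3 (flp_h L67253) L93089 L61175
theorem L120753 : sm gb N8489 = N8524 := ded_9_4 (flp_a L67240) (flp_b L49150) L93117 (flp_b L49098) (flp_a L66987)
theorem L120755 : sm gg N8789 = N7723 := ded_36_2 (flp_e L60843) L94028 (flp_e L69411)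
theorem L120757 : sm gg N8880 = N7725 := ded_42_3 (flp_h L60861) L94028 (flp_h L70088)
theorem L120759 : sm gc N8789 = N8467 := ded_10_2 L66808 L94171 L69409
theorem L120761 : sm gc N8627 = N8592 := ded_28_3 (flp_h L67826) L94171 (flp_h L68109)
theorem L120763 : sm gh N9377 = N7562 := ded_28_2 L59619 L96792 (flp_c L73837)
theorem L120765 : sm gh N9375 = N7566 := ded_37_2 (flp_e L59645) L96792 (flp_e L73821)
theorem L120767 : sm gh N7501 = N7501 := ded_44_5 L59154 L96792 L53964 (flp_h L96792) (flp_i L59154)
theorem L120768 : sm gh N7499 = N7499 := ded_44_5 L59138 L96807 L53957 (flp_h L96807) (flp_i L59138)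
theorem L120769 : sm gd N8866 = N7941 := ded_11_2 L62535 L98223 (flp_a L69971)
theorem L120771 : sm gd N8902 = N7975 := ded_31_3 L62787 L98223 (flp_f L70245)
theorem L120773 : sm gf N7974 = N8898 := ded_39_3 (flp_g L70212) (flp_f L51275) L98269 L45965 L62776
theorem L120775 : sm gg N8864 = N7942 := ded_14_2 L62541 L98313 (flp_a L69957)
theorem L120777 : sm gg N8897 = N7807 := ded_27_2 L61485 L98313 (flp_c L70208)
theorem L120779 : sm gg N8900 = N7976 := ded_36_2 L62792 L98313 (flp_e L70230)
theorem L120781 : sm gg N8838 = N7922 := ded_21_2 L62383 L98334 (flp_b L69745)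
theorem L120783 : sm gg N8861 = N7784 := ded_27_2 L61322 L98334 (flp_c L69934)
theorem L120785 : sm gg N8863 = N7941 := ded_36_2 L62537 L98334 (flp_e L69953)
theorem L120787 : sm gd N8836 = N8839 := ded_24_4 (flp_c L69750) (flp_d L50967) L98823 L50951 L69729
theorem L120789 : sm gd N7921 = N8840 := ded_30_3 (flp_e L69758) (flp_d L50967) L98828 L45688 L62374
theorem L120791 : sm gg N7770 = N8859 := ded_21_2 (flp_b L69917) L98942 (flp_b L61213)
theorem L120793 : sm gg N7783 = N8860 := ded_36_2 (flp_e L69923) L98942 L61311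
theorem L120795 : sm gg N7732 = N8892 := ded_14_2 (flp_a L70173) L98968 (flp_a L60921)
theorem L120797 : sm gg N7749 = N8893 := ded_36_2 (flp_e L70180) L98968 L61055
theorem L120799 : sm gg N7750 = N8894 := ded_43_3 (flp_i L70186) L98968 L61061
theorem L120801 : sm gg N8836 = N7920 := ded_27_2 (flp_c L62366) L98981 L69729
theorem L120803 : sm gg N8837 = N7921 := ded_36_2 (flp_e L62374) L98981 L69734
theorem L120805 : sm gd N7940 = N8865 := ded_11_2 L69964 L99016 (flp_a L62528)
theorem L120807 : sm gd N7974 = N8901 := ded_32_3 (flp_g L70233) L99016 L62776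
theorem L120809 : sm gg N8643 = N7801 := ded_32_2 L61448 L99025 (flp_d L68207)
theorem L120811 : sm gg N8896 = N7806 := ded_43_3 (flp_i L61477) L99025 L70200
theorem L120813 : sm gc N7801 = N8640 := ded_24_3 L68191 L49830 L99051 (flp_c L45056) (flp_d L61448)
theorem L120815 : sm gc N8641 = N7802 := ded_24_3 L61452 L45035 L102237 (flp_c L49810) (flp_d L68195)
theorem L120817 : sm gg N7766 = N8780 := ded_21_2 (flp_b L69344) L102491 (flp_b L61183)
theorem L120819 : sm gg N7776 = N8774 := ded_42_3 L69301 L102491 L61256
theorem L120821 : sm gg N7827 = N8768 := ded_27_2 (flp_c L69253) L102527 L61642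
theorem L120823 : sm gg N7829 = N8763 := ded_42_3 L69218 L102527 L61656
theorem L120825 : sm gd N7829 = N8762 := ded_33_3 (flp_h L69203) L50547 L102558 L45181 L61656
theorem L120827 : sm gc N8469 = N8880 := ded_10_2 (flp_a L70085) L102748 (flp_a L66824)
theorem L120829 : sm gc N8596 = N8881 := ded_29_3 (flp_i L70092) L102748 L67853
theorem L120831 : sm gg N8627 = N7768 := ded_36_2 L61200 L102783 (flp_e L68107)
theorem L120833 : sm gg N8881 = N7771 := ded_43_3 (flp_i L61218) L102783 L70092
theorem L120835 : sm gg N7730 = N8663 := ded_36_2 L68350 L102885 (flp_e L60908)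
theorem L120837 : sm gg N7733 = N8918 := ded_43_3 (flp_i L70366) L102885 L60927
theorem L120839 : sm gg N8674 = N7739 := ded_36_2 L60982 L102891 (flp_e L68433)
theorem L120841 : sm gb N8674 = N8490 := ded_19_3 L66997 L102910 (flp_e L68433)
theorem L120843 : sm gc N8610 = N7779 := ded_10_2 L61282 L103521 (flp_a L67961)
theorem L120845 : sm gc N8632 = N7795 := ded_28_3 L61416 L103521 (flp_h L68144)
theorem L120847 : sm ga N8526 = N8523 := ded_15_3 (flp_h L67234) L103999 L67253
theorem L120849 : sm gc N7765 = N8523 := ded_28_3 (flp_h L67234) L104001 L61175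
theorem L120851 : sm gg N7738 = N8524 := ded_14_2 (flp_a L67240) L104102 (flp_a L60970)
theorem L120853 : sm gg N7757 = N8515 := ded_27_2 L67186 L104102 L61114
theorem L120855 : sm gg N8664 = N7746 := ded_27_2 L61033 L104118 (flp_c L68358)
theorem L120857 : sm gg N8806 = N7728 := ded_14_2 L60890 L104189 L69522
theorem L120859 : sm gg N8797 = N7742 := ded_42_3 (flp_h L61002) L104189 (flp_h L69466)
theorem L120861 : N8365 = N9268 := coi_39_2 (flp_g L73024) (flp_f L53328) (flp_g L119588) L48687 L104189 (flp_f L65911)
theorem L120862 : N9268 = N8365 := (eqc rfl L120861 rfl).symm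
theorem L120864 : sm ge N8365 = N6754 := trfs L120862 L73027 rfl
theorem L120866 : sm gg N8365 = N6751 := trfs L120862 (flp_g L73024) rfl
theorem L120868 : sm gg N7779 = N8612 := ded_14_2 L67977 L104386 (flp_a L61282)
theorem L120870 : sm gg N7745 = N8642 := ded_21_2 (flp_b L68199) L104386 (flp_b L61027)
theorem L120872 : sm gg N7795 = N8634 := ded_42_3 L68156 L104386 (flp_h L61416)
theorem L120874 : sm gg N7802 = N8644 := ded_43_3 (flp_i L68209) L104386 L61450
theorem L120876 : sm gg N8628 = N7780 := ded_14_2 L61286 L104494 (flp_a L68113)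
theorem L120878 : sm gd N9374 = N9484 := ded_46_45 L74632 L54611 L40068 (flp_h L29405) L21651 L15923 L11761 L8673 L6441 L4760 L4765 L4763 (flp_e L6403) (flp_d L8415) (flp_c L11267) (flp_b L15286) (flp_a L20757) (flp_h L28099) L119904 L21092 L15468 (flp_c L14388) L104830 L14903 (flp_h L10992) L8083 (flp_e L8077) L5983 L4422 L3514 L2603 (flp_h L3454) (flp_f L3449) (flp_e L2548) L1890 (flp_c L1883) (flp_b L1790) (flp_a L2230) L2235 (flp_f L2242) L3016 L3023 (flp_c L4052) (flp_b L5448) (flp_a L7312) (flp_h L9757) L13184 L13193 (flp_d L13263) (flp_c L17981) (flp_b L24391) L24390 L112086 L27102 L111879 L36645 L50071 L50078 L50073 L50076 (flp_f L53938) L73808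
theorem L120880 : sm gf N8687 = N7566 := ded_20_2 L59648 L106209 (flp_b L68559)
theorem L120882 : sm gd N7844 = N8773 := ded_11_2 L69290 L110676 (flp_a L61782)
theorem L120884 : N8366 = N9111 := coi_47_48 L71838 (flp_h L67635) (flp_g L67630) (flp_f L49428) (flp_e L36199) (flp_d L26510) L19472 L14310 (flp_h L10562) L7779 L10554 L14328 L14334 L10712 (flp_b L14523) L19815 (flp_g L110757) (flp_f L25961) L19095 L14037 L10360 L10358 L7660 (flp_g L7656) (flp_f L5679) (flp_e L4195) L3121 (flp_c L2391) L1790 L1398 L1021 L822 L1143 L1147 L827 (flp_b L1118) L1120 (flp_g L1348) L1828 L1834 (flp_d L2439) (flp_c L3287) (flp_b L4420) (flp_h L5897) L7946 L7954 L6783 (flp_d L9185) (flp_c L12459) L12458 (flp_h L110910) L9816 (flp_f L111680) (flp_e L12215) L16576 L16579 L16578 L16581 (flp_g L19075) (flp_f L25939) L35384 (flp_d L48224) (flp_c L65916)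
theorem L120885 : N9111 = N8366 := (eqc rfl L120884 rfl).symm
theorem L120886 : sm gb N8366 = N6754 := trfs L120885 L71838 rfl
theorem L120890 : sm gg N8366 = N6643 := trfs L120885 (flp_g L71836) rfl
theorem L120892 : sm gd N8759 = N8768 := ded_24_4 (flp_c L69253) (flp_d L50574) L112056 (flp_d L50547) (flp_c L69185)
theorem L120894 : sm gg N9391 = N9391 := ded_14_2 L73944 L112417 (flp_a L73944)
theorem L120895 : N8198 = N9473 := coi_47_57 L74554 L54531 L39997 (flp_d L39993) (flp_c L39441) (flp_b L52953) (flp_h L52951) L38744 (flp_f L52949) (flp_e L72471) L117897 L53818 L39943 (flp_h L51298) L70233 L70239 L51320 L37587 (flp_c L49869) (flp_b L67130) L67133 (flp_g L52936) (flp_f L38730) (flp_e L28349) (flp_d L20785) L15260 L11229 (flp_h L8284) L6123 L8277 L11241 L11246 L11244 (flp_b L11396) L15524 (flp_g L119912) L20826 L15289 L15288 (flp_c L20795) L20793 (flp_h L20960) L20959 L119691 L28314 (flp_d L26327) L26325 L19371 L19402 L19407 L14258 (flp_e L13877) (flp_d L18772) L18769 (flp_b L25468) (flp_h L25466) L18749 L25459 L34676 L34681 (flp_c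 L47235) L47234 L64518
theorem L120896 : N9473 = N8198 := (eqc rfl L120895 rfl).symm
theorem L120898 : sm gd N8198 = N6914 := trfs L120896 (flp_d L74550) rfl
theorem L120901 : sm gg N8198 = N6915 := trfs L120896 L74554 rfl
theorem L120903 : sm gh N8198 = N6930 := trfs L120896 L74556 rfl
theorem L120904 : N6930 = N5988 := eqes L120903 (flp_h L64518)
theorem L120905 : N6930 = N5988 := eqc rfl L120904 rfl
theorem L120906 : sm ga N5988 = N9490 := trfs L120905 (flp_a L74678) rfl
theorem L120907 : N9490 = N8187 := eqes L120906 (flp_a L64430)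
theorem L120908 : N9490 = N8187 := eqc rfl L120907 rfl
theorem L120913 : sm gd N5988 = N5069 := trfs L120905 (flp_d L54650) rfl
theorem L120914 : N5069 = N8196 := eqes L120913 L64503
theorem L120915 : N8196 = N5069 := (eqc rfl L120914 rfl).symm
theorem L120920 : sm gg N5988 = N5070 := trfs L120905 L54654 rfl
theorem L120921 : N5070 = N8197 := eqes L120920 L64510
theorem L120922 : N8197 = N5070 := (eqc rfl L120921 rfl).symm
theorem L120925 : sm gc N5070 = N5993 := trfs L120922 L64513 rfl
theorem L120926 : N5993 = N6931 := eqes L120925 L54657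
theorem L120927 : N6931 = N5993 := (eqc rfl L120926 rfl).symm
theorem L120928 : sm ge N5070 = N5989 := trfs L120922 L64515 rfl
theorem L120929 : N5989 = N6932 := eqes L120928 L54663
theorem L120930 : N6932 = N5989 := (eqc rfl L120929 rfl).symm
theorem L120931 : sm gg N5070 = N5988 := trfs L120922 (flp_g L64510) rfl
theorem L120934 : sm ga N5989 = N9492 := trfs L120930 (flp_a L74694) rfl
theorem L120935 : N9492 = N8188 := eqes L120934 (flp_a L64438)
theorem L120936 : N9492 = N8188 := eqc rfl L120935 rfl
theorem L120942 : sm ge N5989 = N5070 := trfs L120930 (flp_e L54663) rfl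
theorem L120946 : sm gh N5989 = N9475 := trfs L120930 (flp_h L74567) rfl
theorem L120947 : N9475 = N8199 := eqes L120946 L64526
theorem L120948 : N9475 = N8199 := eqc rfl L120947 rfl
theorem L120951 : sm ge N8199 = N6915 := trfs L120948 (flp_e L74564) rfl
theorem L120958 : sm ge N8188 = N6928 := trfs L120936 (flp_e L74692) rfl
theorem L120962 : sm ga N5993 = N9491 := trfs L120927 (flp_a L74686) rfl
theorem L120963 : N9491 = N8192 := eqes L120962 (flp_a L64472)
theorem L120964 : N9491 = N8192 := eqc rfl L120963 rfl
theorem L120968 : sm gc N5993 = N5070 := trfs L120927 (flp_c L54657) rfl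
theorem L120971 : sm gf N5993 = N5071 := trfs L120927 L54659 rfl
theorem L120972 : N5071 = N8204 := eqes L120971 L64566
theorem L120973 : N8204 = N5071 := (eqc rfl L120972 rfl).symm
theorem L120975 : sm gh N5993 = N9474 := trfs L120927 (flp_h L74562) rfl
theorem L120976 : N9474 = N8205 := eqes L120975 L64574
theorem L120977 : N9474 = N8205 := eqc rfl L120976 rfl
theorem L120979 : sm gc N8205 = N6915 := trfs L120977 (flp_c L74558) rfl
theorem L120981 : sm gf N8205 = N6916 := trfs L120977 L74560 rfl
theorem L120983 : sm gb N5071 = N5997 := trfs L120973 L64568 rfl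
theorem L120984 : N5997 = N6933 := eqes L120983 L54669
theorem L120985 : N6933 = N5997 := (eqc rfl L120984 rfl).symm
theorem L120988 : sm gf N5071 = N5993 := trfs L120973 (flp_f L64566) rfl
theorem L120995 : sm gb N5997 = N5071 := trfs L120985 (flp_b L54669) rfl
theorem L121002 : sm gh N5997 = N9476 := trfs L120985 (flp_h L74574) rfl
theorem L121003 : N9476 = N8209 := eqes L121002 L64608
theorem L121004 : N9476 = N8209 := eqc rfl L121003 rfl
theorem L121006 : sm gb N8209 = N6916 := trfs L121004 (flp_b L74570) rfl
theorem L121019 : sm gc N8192 = N6928 := trfs L120964 (flp_c L74684) rfl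
theorem L121022 : sm gf N8192 = N6929 := trfs L120964 L74688 rfl
theorem L121030 : sm gd N5069 = N5988 := trfs L120915 (flp_d L64503) rfl
theorem L121038 : sm gd N8187 = N6927 := trfs L120908 (flp_d L74676) rfl
theorem L121041 : sm gg N8187 = N6928 := trfs L120908 L74681 rfl
theorem L121044 : sm gg N9370 = N8185 := ded_27_2 (flp_c L66137) L118653 L73776
theorem L121046 : sm gc N9371 = N9488 := ded_17_2 L74665 (flp_c L121019) (flp_b L66199) L119108 (flp_b L73785)
theorem L121048 : sm gb N9370 = N8188 := ded_17_3 L64440 (flp_b L48428) L119123 (flp_b L53921) L73776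
theorem L121050 : sm ge N9377 = N9485 := ded_25_0 L120744 L73821 (flp_c L73837)
theorem L121052 : sm gf N9374 = N9485 := ded_26_0 L120744 (flp_f L73815) (flp_c L73812)
theorem L121054 : sm gd N9375 = N9489 := ded_24_2 (flp_c L74670) (flp_d L54617) (flp_c L54584) L74638 L120744
theorem L121056 : sm ge N9488 = N9370 := ded_19_2 L121048 L120958 (flp_b L74665)
theorem L121058 : sm ga N9493 = N8413 := ded_9_3 L66304 L48529 L120995 (flp_a L54644) L74699
theorem L121060 : sm gf N9493 = N8401 := ded_20_2 L66199 L121022 L74699
theorem L121062 : sm gf N9489 = N9371 := ded_26_0 L121046 L74667 L74670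
theorem L121064 : sm gd N9486 = N9377 := ded_30_5 L121050 (flp_d L74638) L54586 L54590 L74644
theorem L121066 : sm gb N9489 = N9391 := ded_18_1 L73946 (flp_b L73818) L121054
theorem L121068 : sm gc N9391 = N9493 := ded_10_0 L121058 L119099 (flp_a L73944)
theorem L121070 : sm gf N9376 = N9486 := ded_31_0 L121064 (flp_f L73833) L73823
theorem L121072 : sm gf N7499 = N9871 := rfl
theorem L121074 : sm ga N9871 = N9871 := ded_13_1 (flp_f L121072) L59133 L121072
theorem L121075 : sm gb N9871 = N9871 := ded_20_1 (flp_f L121072) L59134 L121072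
theorem L121076 : sm gc N9871 = N7501 := ded_26_1 (flp_f L59147) (flp_c L59135) L121072
theorem L121078 : sm gd N9871 = N9871 := ded_31_1 (flp_f L121072) L59137 L121072
theorem L121079 : sm gh N9871 = N9871 := ded_40_2 (flp_f L121072) L120768 L121072
theorem L121080 : sm gi N9871 = N7562 := ded_41_2 (flp_f L59615) (flp_i L59138) L121072
theorem L121082 : sm gg N9871 = N9871 := ded_39_2 (flp_f L121072) (flp_g L59131) L43360 L59131 L121072
theorem L121083 : sm ge N7501 = N9872 := rfl
theorem L121085 : sm ga N9872 = N9872 := ded_12_1 (flp_e L121083) L59149 L121083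
theorem L121086 : sm gb N9872 = N7516 := ded_19_1 (flp_e L59265) (flp_b L59150) L121083
theorem L121088 : sm gg N9872 = N9872 := ded_36_2 (flp_e L121083) L59156 L121083
theorem L121089 : sm gh N9872 = N9872 := ded_37_2 (flp_e L121083) L120767 L121083
theorem L121090 : sm gi N9872 = N7566 := ded_38_2 (flp_e L59645) (flp_i L59154) L121083
theorem L121092 : sm ge N7562 = N9873 := rfl
theorem L121094 : sm ga N9873 = N9873 := ded_12_1 (flp_e L121092) L59617 L121092
theorem L121095 : sm gb N9873 = N9873 := ded_19_1 (flp_e L121092) L59618 L121092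
theorem L121096 : sm gc N9873 = N7566 := ded_25_1 (flp_e L59645) (flp_c L59619) L121092
theorem L121098 : sm gg N9873 = N9873 := ded_36_2 (flp_e L121092) L59622 L121092
theorem L121099 : sm gh N9873 = N9485 := ded_37_2 (flp_e L121050) L120763 L121092
theorem L121101 : sm gd N9482 = N9873 := ded_33_5 L121099 (flp_d L74638) (flp_h L54580) (flp_d L54558) L74612
theorem L121103 : sm gd N7723 = N9874 := rfl
theorem L121105 : sm ga N9874 = N7766 := ded_11_1 (flp_d L61181) (flp_a L60845) L121103
theorem L121107 : sm gb N9874 = N7728 := ded_18_1 (flp_d L60888) (flp_b L60847) L121103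
theorem L121109 : sm ge N9874 = N9874 := ded_30_2 (flp_d L121103) (flp_e L60843) L44637 L60843 L121103
theorem L121110 : sm gh N7723 = N9875 := rfl
theorem L121112 : sm ga N9875 = N7768 := ded_15_1 (flp_h L61194) (flp_a L60845) L121110
theorem L121114 : sm gb N9875 = N7730 := ded_22_1 (flp_h L60902) (flp_b L60847) L121110
theorem L121116 : sm gc N9875 = N8468 := ded_28_1 (flp_h L66814) (flp_c L60849) L121110
theorem L121118 : sm ge N9875 = N7725 := ded_37_1 (flp_h L60861) L60843 L121110
theorem L121120 : sm gd N7725 = N9876 := rfl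
theorem L121122 : sm ga N9876 = N7770 := ded_11_1 (flp_d L61211) (flp_a L60863) L121120
theorem L121124 : sm gb N9876 = N7732 := ded_18_1 (flp_d L60919) (flp_b L60865) L121120
theorem L121126 : sm gf N9876 = N7726 := ded_31_2 (flp_d L60871) (flp_f L60869) L121120
theorem L121128 : sm gh N9876 = N9876 := ded_33_2 (flp_d L121120) (flp_h L60861) L44637 L60861 L121120
theorem L121129 : sm gi N7725 = N9877 := rfl
theorem L121131 : sm ga N9877 = N7771 := ded_16_1 (flp_i L61218) (flp_a L60863) L121129
theorem L121133 : sm gb N9877 = N7733 := ded_23_1 (flp_i L60927) (flp_b L60865) L121129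
theorem L121135 : sm gc N9877 = N8471 := ded_29_1 (flp_i L66841) (flp_c L60867) L121129
theorem L121137 : sm gf N9877 = N7727 := ded_41_1 (flp_i L60879) (flp_f L60869) L121129
theorem L121139 : sm gc N7726 = N9878 := rfl
theorem L121141 : sm ga N9878 = N7772 := ded_10_1 (flp_c L61226) (flp_a L60873) L121139
theorem L121143 : sm gg N9878 = N9878 := ded_27_2 (flp_c L121139) L60877 L121139
theorem L121144 : sm gh N9878 = N9878 := ded_28_2 (flp_c L121139) L60878 L121139
theorem L121145 : sm gb N9878 = N9878 := ded_17_1 (flp_c L121139) L60875 L44674 (flp_b L60875) L121139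
theorem L121146 : sm gd N9878 = N8472 := ded_24_2 (flp_c L66849) (flp_d L48871) (flp_c L44644) L60871 L121139
theorem L121148 : sm ge N7726 = N9879 := rfl
theorem L121150 : sm ga N9879 = N7773 := ded_12_1 (flp_e L61234) (flp_a L60873) L121148
theorem L121152 : sm gb N9879 = N7734 := ded_19_1 (flp_e L60935) (flp_b L60875) L121148
theorem L121154 : sm gg N9879 = N9879 := ded_36_2 (flp_e L121148) L60877 L121148
theorem L121155 : sm gh N9879 = N9879 := ded_37_2 (flp_e L121148) L60878 L121148
theorem L121156 : sm gi N7726 = N9880 := rfl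
theorem L121158 : sm ga N9880 = N7774 := ded_16_1 (flp_i L61240) (flp_a L60873) L121156
theorem L121160 : sm gb N9880 = N7735 := ded_23_1 (flp_i L60942) (flp_b L60875) L121156
theorem L121162 : sm gd N9880 = N7727 := ded_34_1 (flp_i L60879) L60871 L121156
theorem L121164 : sm gg N9880 = N9880 := ded_43_1 (flp_i L121156) L60877 L121156
theorem L121165 : sm gh N7728 = N9881 := rfl
theorem L121167 : sm ga N9881 = N7742 := ded_15_1 (flp_h L61002) (flp_a L60890) L121165
theorem L121169 : sm gc N9881 = N9881 := ded_28_1 (flp_h L121165) L60892 L121165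
theorem L121170 : sm ge N9881 = N9881 := ded_37_1 (flp_h L121165) L60893 L121165
theorem L121171 : sm gd N7730 = N9882 := rfl
theorem L121173 : sm ga N9882 = N7745 := ded_11_1 (flp_d L61025) (flp_a L60904) L121171
theorem L121175 : sm gi N7730 = N9883 := rfl
theorem L121177 : sm ga N9883 = N7746 := ded_16_1 (flp_i L61029) (flp_a L60904) L121175
theorem L121179 : sm gc N9883 = N7739 := ded_29_1 (flp_i L60976) (flp_c L60906) L121175
theorem L121181 : sm ge N9883 = N7733 := ded_38_1 (flp_i L60927) (flp_e L60908) L121175
theorem L121183 : sm ge N7732 = N9884 := rfl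
theorem L121185 : sm ga N9884 = N7749 := ded_12_1 (flp_e L61055) (flp_a L60921) L121183
theorem L121187 : sm gc N9884 = N9884 := ded_25_1 (flp_e L121183) L60925 L121183
theorem L121188 : sm gh N9884 = N9884 := ded_37_2 (flp_e L121183) L60926 L121183
theorem L121189 : sm gi N7732 = N9885 := rfl
theorem L121191 : sm ga N9885 = N7750 := ded_16_1 (flp_i L61061) (flp_a L60921) L121189
theorem L121193 : sm gc N9885 = N9885 := ded_29_1 (flp_i L121189) L60925 L121189
theorem L121194 : sm gd N9885 = N7733 := ded_34_1 (flp_i L60927) L60919 L121189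
theorem L121196 : sm gf N9885 = N7735 := ded_41_1 (flp_i L60942) (flp_f L60923) L121189
theorem L121198 : sm gf N7734 = N9886 := rfl
theorem L121200 : sm ga N9886 = N7751 := ded_13_1 (flp_f L61070) (flp_a L60937) L121198
theorem L121202 : sm gc N9886 = N9886 := ded_26_1 (flp_f L121198) L60939 L121198
theorem L121203 : sm gh N9886 = N9886 := ded_40_2 (flp_f L121198) L60941 L121198
theorem L121204 : sm gi N7734 = N9887 := rfl
theorem L121206 : sm ga N9887 = N7752 := ded_16_1 (flp_i L61076) (flp_a L60937) L121204
theorem L121208 : sm gc N9887 = N9887 := ded_29_1 (flp_i L121204) L60939 L121204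
theorem L121209 : sm ge N9887 = N7735 := ded_38_1 (flp_i L60942) L60935 L121204
theorem L121211 : sm gg N9887 = N9887 := ded_43_1 (flp_i L121204) L60940 L121204
theorem L121212 : sm gh N7735 = N9888 := rfl
theorem L121214 : sm ga N9888 = N7753 := ded_15_1 (flp_h L61084) (flp_a L60944) L121212
theorem L121216 : sm gc N9888 = N9888 := ded_28_1 (flp_h L121212) L60946 L121212
theorem L121217 : sm gg N9888 = N9888 := ded_42_1 (flp_h L121212) L60949 L121212
theorem L121218 : sm gi N9888 = N9888 := ded_44_2 (flp_h L121212) (flp_i L60942) L44675 L60942 L121212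
theorem L121219 : sm gc N7738 = N9889 := rfl
theorem L121221 : sm ga N9889 = N7757 := ded_10_1 (flp_c L61114) (flp_a L60970) L121219
theorem L121223 : sm ge N9889 = N9889 := ded_25_2 (flp_c L121219) L60974 L121219
theorem L121224 : sm gh N9889 = N9889 := ded_28_2 (flp_c L121219) L60975 L121219
theorem L121225 : sm gi N7738 = N9890 := rfl
theorem L121227 : sm ga N9890 = N7758 := ded_16_1 (flp_i L61118) (flp_a L60970) L121225
theorem L121229 : sm gb N9890 = N8492 := ded_23_1 (flp_i L67007) (flp_b L60972) L121225
theorem L121231 : sm gd N9890 = N7739 := ded_34_1 (flp_i L60976) L60968 L121225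
theorem L121233 : sm ge N9890 = N9890 := ded_38_1 (flp_i L121225) L60974 L121225
theorem L121234 : sm gd N7742 = N9891 := rfl
theorem L121236 : sm gb N9891 = N7795 := ded_18_1 (flp_d L61414) (flp_b L61004) L121234
theorem L121238 : sm gh N9891 = N7745 := ded_33_2 (flp_d L61025) (flp_h L44733) L44719 L61002 L121234
theorem L121240 : sm gi N7742 = N9892 := rfl
theorem L121242 : sm gb N9892 = N7796 := ded_23_1 (flp_i L61418) (flp_b L61004) L121240
theorem L121244 : sm gc N9892 = N9892 := ded_29_1 (flp_i L121240) L61006 L121240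
theorem L121245 : sm ge N9892 = N9892 := ded_38_1 (flp_i L121240) L61007 L121240
theorem L121246 : sm gc N7745 = N9893 := rfl
theorem L121248 : sm gd N9893 = N7757 := ded_24_2 (flp_c L61114) (flp_d L44795) (flp_c L44737) L61025 L121246
theorem L121250 : sm ge N7745 = N9894 := rfl
theorem L121252 : sm gb N9894 = N7801 := ded_19_1 (flp_e L61446) (flp_b L61027) L121250
theorem L121254 : sm gd N9894 = N7749 := ded_30_1 (flp_e L61055) (flp_d L44750) (flp_e L44739) L61025 L121250
theorem L121256 : sm gi N7745 = N9895 := rfl
theorem L121258 : sm gb N9895 = N7802 := ded_23_1 (flp_i L61450) (flp_b L61027) L121256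
theorem L121260 : sm gd N9895 = N7746 := ded_34_1 (flp_i L61029) L61025 L121256
theorem L121262 : sm gf N7749 = N9896 := rfl
theorem L121264 : sm gb N9896 = N7805 := ded_20_1 (flp_f L61470) (flp_b L61057) L121262
theorem L121266 : sm gc N9896 = N9896 := ded_26_1 (flp_f L121262) L61059 L121262
theorem L121267 : sm gh N9896 = N9896 := ded_40_2 (flp_f L121262) L61060 L121262
theorem L121268 : sm ge N9896 = N7751 := ded_35_1 (flp_f L61070) (flp_e L44766) (flp_f L44754) L61055 L121262
theorem L121270 : sm gi N7749 = N9897 := rfl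
theorem L121272 : sm gb N9897 = N7806 := ded_23_1 (flp_i L61477) (flp_b L61057) L121270
theorem L121274 : sm gc N9897 = N9897 := ded_29_1 (flp_i L121270) L61059 L121270
theorem L121275 : sm ge N9897 = N7750 := ded_38_1 (flp_i L61061) L61055 L121270
theorem L121277 : sm gh N7750 = N9898 := rfl
theorem L121279 : sm gb N9898 = N7807 := ded_22_1 (flp_h L61483) (flp_b L61063) L121277
theorem L121281 : sm gc N9898 = N9898 := ded_28_1 (flp_h L121277) L61065 L121277
theorem L121282 : sm gf N9898 = N7753 := ded_40_1 (flp_h L61084) (flp_f L61068) L121277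
theorem L121284 : sm gi N9898 = N9898 := ded_44_2 (flp_h L121277) (flp_i L61061) L44757 L61061 L121277
theorem L121285 : sm gg N7751 = N9899 := rfl
theorem L121287 : sm gb N9899 = N7808 := ded_21_1 (flp_g L61490) (flp_b L61072) L121285
theorem L121289 : sm gc N9899 = N9899 := ded_27_1 (flp_g L121285) L61074 L121285
theorem L121290 : sm gh N9899 = N9899 := ded_42_2 (flp_g L121285) L61075 L121285
theorem L121291 : sm gf N9899 = N9899 := ded_39_1 (flp_g L121285) (flp_f L61070) L44771 L61070 L121285
theorem L121292 : sm gi N7751 = N9900 := rfl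
theorem L121294 : sm gb N9900 = N7809 := ded_23_1 (flp_i L61496) (flp_b L61072) L121292
theorem L121296 : sm gc N9900 = N9900 := ded_29_1 (flp_i L121292) L61074 L121292
theorem L121297 : sm gf N9900 = N7752 := ded_41_1 (flp_i L61076) L61070 L121292
theorem L121299 : sm gh N7752 = N9901 := rfl
theorem L121301 : sm gb N9901 = N7810 := ded_22_1 (flp_h L61502) (flp_b L61078) L121299
theorem L121303 : sm gc N9901 = N9901 := ded_28_1 (flp_h L121299) L61080 L121299
theorem L121304 : sm ge N9901 = N7753 := ded_37_1 (flp_h L61084) (flp_e L61081) L121299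
theorem L121306 : sm gg N9901 = N9901 := ded_42_1 (flp_h L121299) L61083 L121299
theorem L121307 : sm gi N9901 = N9901 := ded_44_2 (flp_h L121299) (flp_i L61076) L44772 L61076 L121299
theorem L121308 : sm gi N7757 = N9902 := rfl
theorem L121310 : sm gc N9902 = N7758 := ded_29_1 (flp_i L61118) L61114 L121308
theorem L121312 : sm ge N9902 = N9902 := ded_38_1 (flp_i L121308) L61116 L121308
theorem L121313 : sm gh N7758 = N9903 := rfl
theorem L121315 : sm gb N9903 = N7765 := ded_22_1 (flp_h L61175) (flp_b L61120) L121313
theorem L121317 : sm ge N9903 = N9903 := ded_37_1 (flp_h L121313) L61124 L121313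
theorem L121318 : sm gi N9903 = N9903 := ded_44_2 (flp_h L121313) (flp_i L61118) L44800 L61118 L121313
theorem L121319 : sm gc N7766 = N9904 := rfl
theorem L121321 : sm ge N9904 = N9904 := ded_25_2 (flp_c L121319) L61185 L121319
theorem L121322 : sm gb N9904 = N7827 := ded_17_1 (flp_c L61642) L45184 (flp_c L44896) (flp_b L61183) L121319
theorem L121324 : sm gd N9904 = N8588 := ded_24_2 (flp_c L67801) (flp_d L49561) (flp_c L44861) L61181 L121319
theorem L121326 : sm gh N7766 = N9905 := rfl
theorem L121328 : sm gb N9905 = N7776 := ded_22_1 (flp_h L61256) (flp_b L61183) L121326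
theorem L121330 : sm ge N9905 = N9905 := ded_37_1 (flp_h L121326) L61185 L121326
theorem L121331 : sm gd N7768 = N9906 := rfl
theorem L121333 : sm gb N9906 = N7779 := ded_18_1 (flp_d L61280) (flp_b L61196) L121331
theorem L121335 : sm gi N7768 = N9907 := rfl
theorem L121337 : sm gb N9907 = N7780 := ded_23_1 (flp_i L61284) (flp_b L61196) L121335
theorem L121339 : sm gc N9907 = N8594 := ded_29_1 (flp_i L67838) (flp_c L61198) L121335
theorem L121341 : sm ge N9907 = N7771 := ded_38_1 (flp_i L61218) (flp_e L61200) L121335
theorem L121343 : sm gc N7770 = N9908 := rfl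
theorem L121345 : sm gf N9908 = N7772 := ded_26_2 (flp_c L61226) (flp_f L61215) L121343
theorem L121347 : sm gh N9908 = N9908 := ded_28_2 (flp_c L121343) L61217 L121343
theorem L121348 : sm gb N9908 = N7920 := ded_17_1 (flp_c L62366) L45691 (flp_c L44930) (flp_b L61213) L121343
theorem L121350 : sm gd N9908 = N8597 := ded_24_2 (flp_c L67860) (flp_d L49586) (flp_c L44875) L61211 L121343
theorem L121352 : sm ge N7770 = N9909 := rfl
theorem L121354 : sm gb N9909 = N7783 := ded_19_1 (flp_e L61311) (flp_b L61213) L121352
theorem L121356 : sm gh N9909 = N9909 := ded_37_2 (flp_e L121352) L61217 L121352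
theorem L121357 : sm gi N7770 = N9910 := rfl
theorem L121359 : sm gb N9910 = N7784 := ded_23_1 (flp_i L61318) (flp_b L61213) L121357
theorem L121361 : sm gd N9910 = N7771 := ded_34_1 (flp_i L61218) L61211 L121357
theorem L121363 : sm gf N9910 = N7774 := ded_41_1 (flp_i L61240) (flp_f L61215) L121357
theorem L121365 : sm ge N7772 = N9911 := rfl
theorem L121367 : sm gb N9911 = N7923 := ded_19_1 (flp_e L62389) (flp_b L61230) L121365
theorem L121369 : sm gc N9911 = N7773 := ded_25_1 (flp_e L61234) L61226 L121365
theorem L121371 : sm gg N9911 = N9911 := ded_36_2 (flp_e L121365) L61228 L121365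
theorem L121372 : sm gh N9911 = N9911 := ded_37_2 (flp_e L121365) L61229 L121365
theorem L121373 : sm gi N7772 = N9912 := rfl
theorem L121375 : sm gb N9912 = N7924 := ded_23_1 (flp_i L62396) (flp_b L61230) L121373
theorem L121377 : sm gc N9912 = N7774 := ded_29_1 (flp_i L61240) L61226 L121373
theorem L121379 : sm gd N9912 = N8601 := ded_34_1 (flp_i L67891) (flp_d L61232) L121373
theorem L121381 : sm gg N9912 = N9912 := ded_43_1 (flp_i L121373) L61228 L121373
theorem L121382 : sm gf N7773 = N9913 := rfl
theorem L121384 : sm gb N9913 = N7785 := ded_20_1 (flp_f L61328) (flp_b L61236) L121382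
theorem L121386 : sm gh N9913 = N9913 := ded_40_2 (flp_f L121382) L61239 L121382
theorem L121387 : sm gi N7773 = N9914 := rfl
theorem L121389 : sm gb N9914 = N7786 := ded_23_1 (flp_i L61335) (flp_b L61236) L121387
theorem L121391 : sm ge N9914 = N7774 := ded_38_1 (flp_i L61240) L61234 L121387
theorem L121393 : sm gg N9914 = N9914 := ded_43_1 (flp_i L121387) L61238 L121387
theorem L121394 : sm gh N7774 = N9915 := rfl
theorem L121396 : sm gb N9915 = N7787 := ded_22_1 (flp_h L61344) (flp_b L61242) L121394
theorem L121398 : sm gg N9915 = N9915 := ded_42_1 (flp_h L121394) L61246 L121394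
theorem L121399 : sm gi N9915 = N9915 := ded_44_2 (flp_h L121394) (flp_i L61240) L44884 L61240 L121394
theorem L121400 : sm gd N7776 = N9916 := rfl
theorem L121402 : sm ga N9916 = N7795 := ded_11_1 (flp_d L61414) (flp_a L61258) L121400
theorem L121404 : sm gh N9916 = N7779 := ded_33_2 (flp_d L61280) (flp_h L44907) L44892 L61256 L121400
theorem L121406 : sm gi N7776 = N9917 := rfl
theorem L121408 : sm ga N9917 = N7796 := ded_16_1 (flp_i L61418) (flp_a L61258) L121406
theorem L121410 : sm gc N9917 = N7844 := ded_29_1 (flp_i L61780) (flp_c L61260) L121406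
theorem L121412 : sm ge N9917 = N9917 := ded_38_1 (flp_i L121406) L61262 L121406
theorem L121413 : sm ge N7779 = N9918 := rfl
theorem L121415 : sm ga N9918 = N7801 := ded_12_1 (flp_e L61446) (flp_a L61282) L121413
theorem L121417 : sm gd N9918 = N7783 := ded_30_1 (flp_e L61311) (flp_d L44924) (flp_e L44913) L61280 L121413
theorem L121419 : sm gi N7779 = N9919 := rfl
theorem L121421 : sm ga N9919 = N7802 := ded_16_1 (flp_i L61450) (flp_a L61282) L121419
theorem L121423 : sm gd N9919 = N7780 := ded_34_1 (flp_i L61284) L61280 L121419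
theorem L121425 : sm gf N7783 = N9920 := rfl
theorem L121427 : sm ga N9920 = N7805 := ded_13_1 (flp_f L61470) (flp_a L61313) L121425
theorem L121429 : sm gc N9920 = N7940 := ded_26_1 (flp_f L62526) (flp_c L61315) L121425
theorem L121431 : sm gh N9920 = N9920 := ded_40_2 (flp_f L121425) L61317 L121425
theorem L121432 : sm ge N9920 = N7785 := ded_35_1 (flp_f L61328) (flp_e L44941) (flp_f L44928) L61311 L121425
theorem L121434 : sm gi N7783 = N9921 := rfl
theorem L121436 : sm ga N9921 = N7806 := ded_16_1 (flp_i L61477) (flp_a L61313) L121434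
theorem L121438 : sm gc N9921 = N7941 := ded_29_1 (flp_i L62533) (flp_c L61315) L121434
theorem L121440 : sm ge N9921 = N7784 := ded_38_1 (flp_i L61318) L61311 L121434
theorem L121442 : sm gh N7784 = N9922 := rfl
theorem L121444 : sm ga N9922 = N7807 := ded_15_1 (flp_h L61483) (flp_a L61320) L121442
theorem L121446 : sm gc N9922 = N7942 := ded_28_1 (flp_h L62539) (flp_c L61322) L121442
theorem L121448 : sm gf N9922 = N7787 := ded_40_1 (flp_h L61344) (flp_f L61326) L121442
theorem L121450 : sm gi N9922 = N9922 := ded_44_2 (flp_h L121442) (flp_i L61318) L44932 L61318 L121442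
theorem L121451 : sm gg N7785 = N9923 := rfl
theorem L121453 : sm ga N9923 = N7808 := ded_14_1 (flp_g L61490) (flp_a L61330) L121451
theorem L121455 : sm gc N9923 = N7943 := ded_27_1 (flp_g L62547) (flp_c L61332) L121451
theorem L121457 : sm gh N9923 = N9923 := ded_42_2 (flp_g L121451) L61334 L121451
theorem L121458 : sm gf N9923 = N9923 := ded_39_1 (flp_g L121451) (flp_f L61328) L44947 L61328 L121451
theorem L121459 : sm gi N7785 = N9924 := rfl
theorem L121461 : sm ga N9924 = N7809 := ded_16_1 (flp_i L61496) (flp_a L61330) L121459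
theorem L121463 : sm gc N9924 = N7944 := ded_29_1 (flp_i L62554) (flp_c L61332) L121459
theorem L121465 : sm gf N9924 = N7786 := ded_41_1 (flp_i L61335) L61328 L121459
theorem L121467 : sm gh N7786 = N9925 := rfl
theorem L121469 : sm ga N9925 = N7810 := ded_15_1 (flp_h L61502) (flp_a L61337) L121467
theorem L121471 : sm gc N9925 = N7945 := ded_28_1 (flp_h L62561) (flp_c L61339) L121467
theorem L121473 : sm ge N9925 = N7787 := ded_37_1 (flp_h L61344) (flp_e L61341) L121467
theorem L121475 : sm gg N9925 = N9925 := ded_42_1 (flp_h L121467) L61343 L121467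
theorem L121476 : sm gi N9925 = N9925 := ded_44_2 (flp_h L121467) (flp_i L61335) L44948 L61335 L121467
theorem L121477 : sm ge N7795 = N9926 := rfl
theorem L121479 : sm gh N9926 = N7801 := ded_37_2 (flp_e L61446) (flp_h L61416) L121477
theorem L121481 : sm gd N9926 = N9926 := ded_30_1 (flp_e L121477) (flp_d L61414) L45017 L61414 L121477
theorem L121482 : sm gi N7795 = N9927 := rfl
theorem L121484 : sm gd N9927 = N7796 := ded_34_1 (flp_i L61418) L61414 L121482
theorem L121486 : sm gf N7801 = N9928 := rfl
theorem L121488 : sm gd N9928 = N7805 := ded_31_1 (flp_f L61470) (flp_d L61448) L121486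
theorem L121490 : sm gi N7801 = N9929 := rfl
theorem L121492 : sm gd N9929 = N7806 := ded_34_1 (flp_i L61477) (flp_d L61448) L121490
theorem L121494 : sm ge N9929 = N7802 := ded_38_1 (flp_i L61450) L61446 L121490
theorem L121496 : sm gh N7802 = N9930 := rfl
theorem L121498 : sm gg N7805 = N9931 := rfl
theorem L121500 : sm gc N9931 = N7974 := ded_27_1 (flp_g L62776) (flp_c L61472) L121498
theorem L121502 : sm ge N9931 = N7808 := ded_36_1 (flp_g L61490) (flp_e L61475) L121498
theorem L121504 : sm gh N9931 = N9931 := ded_42_2 (flp_g L121498) L61474 L121498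
theorem L121505 : sm gi N7805 = N9932 := rfl
theorem L121507 : sm gc N9932 = N7975 := ded_29_1 (flp_i L62782) (flp_c L61472) L121505
theorem L121509 : sm ge N9932 = N7809 := ded_38_1 (flp_i L61496) (flp_e L61475) L121505
theorem L121511 : sm gf N9932 = N7806 := ded_41_1 (flp_i L61477) L61470 L121505
theorem L121513 : sm gh N7806 = N9933 := rfl
theorem L121515 : sm gc N9933 = N7976 := ded_28_1 (flp_h L62789) (flp_c L61479) L121513
theorem L121517 : sm ge N9933 = N7807 := ded_37_1 (flp_h L61483) (flp_e L61481) L121513
theorem L121519 : sm gi N9933 = N9933 := ded_44_2 (flp_h L121513) (flp_i L61477) L45058 L61477 L121513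
theorem L121520 : sm gi N7808 = N9934 := rfl
theorem L121522 : sm gc N9934 = N7977 := ded_29_1 (flp_i L62795) (flp_c L61492) L121520
theorem L121524 : sm gf N9934 = N9934 := ded_41_1 (flp_i L121520) L61495 L121520
theorem L121525 : sm gg N9934 = N7809 := ded_43_1 (flp_i L61496) L61490 L121520
theorem L121527 : sm gh N7809 = N9935 := rfl
theorem L121529 : sm gc N9935 = N7978 := ded_28_1 (flp_h L62802) (flp_c L61498) L121527
theorem L121531 : sm gf N9935 = N7810 := ded_40_1 (flp_h L61502) (flp_f L61500) L121527
theorem L121533 : sm gi N9935 = N9935 := ded_44_2 (flp_h L121527) (flp_i L61496) L45071 L61496 L121527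
theorem L121534 : sm gd N7810 = N9936 := rfl
theorem L121536 : sm gg N9936 = N9936 := ded_32_2 (flp_d L121534) L61508 L121534
theorem L121537 : sm gi N9936 = N9936 := ded_34_2 (flp_d L121534) L61509 L121534
theorem L121538 : sm gh N7827 = N9937 := rfl
theorem L121540 : sm ga N9937 = N9937 := ded_15_1 (flp_h L121538) L61644 L121538
theorem L121541 : sm gc N9937 = N7829 := ded_28_1 (flp_h L61656) L61642 L121538
theorem L121543 : sm ge N9937 = N9937 := ded_37_1 (flp_h L121538) L61645 L121538
theorem L121544 : sm gi N7829 = N9938 := rfl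
theorem L121546 : sm ga N9938 = N9938 := ded_16_1 (flp_i L121544) L61658 L121544
theorem L121547 : sm gb N9938 = N7844 := ded_23_1 (flp_i L61780) (flp_b L61659) L121544
theorem L121549 : sm ge N9938 = N9938 := ded_38_1 (flp_i L121544) L61661 L121544
theorem L121550 : sm ge N7920 = N9939 := rfl
theorem L121552 : sm ga N9939 = N9939 := ded_12_1 (flp_e L121550) L62368 L121550
theorem L121553 : sm gc N9939 = N7921 := ded_25_1 (flp_e L62374) L62366 L121550
theorem L121555 : sm gh N9939 = N9939 := ded_37_2 (flp_e L121550) L62371 L121550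
theorem L121556 : sm gi N7920 = N9940 := rfl
theorem L121558 : sm ga N9940 = N9940 := ded_16_1 (flp_i L121556) L62368 L121556
theorem L121559 : sm gc N9940 = N7922 := ded_29_1 (flp_i L62380) L62366 L121556
theorem L121561 : sm gd N9940 = N8843 := ded_34_1 (flp_i L69784) (flp_d L62372) L121556
theorem L121563 : sm gf N9940 = N7924 := ded_41_1 (flp_i L62396) (flp_f L62369) L121556
theorem L121565 : sm gf N7921 = N9941 := rfl
theorem L121567 : sm ga N9941 = N9941 := ded_13_1 (flp_f L121565) L62376 L121565
theorem L121568 : sm gb N9941 = N7940 := ded_20_1 (flp_f L62526) (flp_b L62377) L121565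
theorem L121570 : sm gh N9941 = N9941 := ded_40_2 (flp_f L121565) L62379 L121565
theorem L121571 : sm ge N9941 = N7925 := ded_35_1 (flp_f L62404) (flp_e L45713) (flp_f L45693) L62374 L121565
theorem L121573 : sm gi N7921 = N9942 := rfl
theorem L121575 : sm ga N9942 = N9942 := ded_16_1 (flp_i L121573) L62376 L121573
theorem L121576 : sm gb N9942 = N7941 := ded_23_1 (flp_i L62533) (flp_b L62377) L121573
theorem L121578 : sm ge N9942 = N7922 := ded_38_1 (flp_i L62380) L62374 L121573
theorem L121580 : sm gh N7922 = N9943 := rfl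
theorem L121582 : sm ga N9943 = N9943 := ded_15_1 (flp_h L121580) L62382 L121580
theorem L121583 : sm gb N9943 = N7942 := ded_22_1 (flp_h L62539) (flp_b L62383) L121580
theorem L121585 : sm gf N9943 = N7927 := ded_40_1 (flp_h L62420) (flp_f L62387) L121580
theorem L121587 : sm gd N9943 = N9943 := ded_33_1 (flp_h L121580) L62385 L45705 (flp_d L62385) L121580
theorem L121588 : sm gi N9943 = N9943 := ded_44_2 (flp_h L121580) (flp_i L62380) L45695 L62380 L121580
theorem L121589 : sm gd N7923 = N9944 := rfl
theorem L121591 : sm ga N9944 = N9944 := ded_11_1 (flp_d L121589) L62391 L121589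
theorem L121592 : sm gg N9944 = N9944 := ded_32_2 (flp_d L121589) L62394 L121589
theorem L121593 : sm gc N9944 = N9944 := ded_24_1 (flp_d L121589) L62392 L45720 (flp_c L62392) L121589
theorem L121594 : sm ge N9944 = N8847 := ded_30_2 (flp_d L69817) (flp_e L51009) (flp_d L45711) L62389 L121589
theorem L121596 : sm gf N7923 = N9945 := rfl
theorem L121598 : sm ga N9945 = N9945 := ded_13_1 (flp_f L121596) L62391 L121596
theorem L121599 : sm gc N9945 = N7925 := ded_26_1 (flp_f L62404) (flp_c L62392) L121596
theorem L121601 : sm gh N9945 = N9945 := ded_40_2 (flp_f L121596) L62395 L121596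
theorem L121602 : sm gi N7923 = N9946 := rfl
theorem L121604 : sm ga N9946 = N9946 := ded_16_1 (flp_i L121602) L62391 L121602
theorem L121605 : sm gc N9946 = N7926 := ded_29_1 (flp_i L62411) (flp_c L62392) L121602
theorem L121607 : sm ge N9946 = N7924 := ded_38_1 (flp_i L62396) L62389 L121602
theorem L121609 : sm gg N9946 = N9946 := ded_43_1 (flp_i L121602) L62394 L121602
theorem L121610 : sm gh N7924 = N9947 := rfl
theorem L121612 : sm ga N9947 = N9947 := ded_15_1 (flp_h L121610) L62398 L121610
theorem L121613 : sm gc N9947 = N7927 := ded_28_1 (flp_h L62420) (flp_c L62399) L121610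
theorem L121615 : sm gg N9947 = N9947 := ded_42_1 (flp_h L121610) L62403 L121610
theorem L121616 : sm gi N9947 = N9947 := ded_44_2 (flp_h L121610) (flp_i L62396) L45710 L62396 L121610
theorem L121617 : sm gg N7925 = N9948 := rfl
theorem L121619 : sm ga N9948 = N9948 := ded_14_1 (flp_g L121617) L62406 L121617
theorem L121620 : sm gb N9948 = N7943 := ded_21_1 (flp_g L62547) (flp_b L62407) L121617
theorem L121622 : sm gd N9948 = N9948 := ded_32_1 (flp_g L121617) L62409 L121617
theorem L121623 : sm gh N9948 = N9948 := ded_42_2 (flp_g L121617) L62410 L121617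
theorem L121624 : sm gf N9948 = N9948 := ded_39_1 (flp_g L121617) (flp_f L62404) L45718 L62404 L121617
theorem L121625 : sm gi N7925 = N9949 := rfl
theorem L121627 : sm ga N9949 = N9949 := ded_16_1 (flp_i L121625) L62406 L121625
theorem L121628 : sm gb N9949 = N7944 := ded_23_1 (flp_i L62554) (flp_b L62407) L121625
theorem L121630 : sm gd N9949 = N9949 := ded_34_1 (flp_i L121625) L62409 L121625
theorem L121631 : sm gf N9949 = N7926 := ded_41_1 (flp_i L62411) L62404 L121625
theorem L121633 : sm gh N7926 = N9950 := rfl
theorem L121635 : sm ga N9950 = N9950 := ded_15_1 (flp_h L121633) L62413 L121633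
theorem L121636 : sm gb N9950 = N7945 := ded_22_1 (flp_h L62561) (flp_b L62414) L121633
theorem L121638 : sm ge N9950 = N7927 := ded_37_1 (flp_h L62420) (flp_e L62417) L121633
theorem L121640 : sm gg N9950 = N9950 := ded_42_1 (flp_h L121633) L62419 L121633
theorem L121641 : sm gi N9950 = N9950 := ded_44_2 (flp_h L121633) (flp_i L62411) L45719 L62411 L121633
theorem L121642 : sm gg N7940 = N9951 := rfl
theorem L121644 : sm ga N9951 = N7974 := ded_14_1 (flp_g L62776) (flp_a L62528) L121642
theorem L121646 : sm ge N9951 = N7943 := ded_36_1 (flp_g L62547) (flp_e L62531) L121642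
theorem L121648 : sm gh N9951 = N9951 := ded_42_2 (flp_g L121642) L62530 L121642
theorem L121649 : sm gi N7940 = N9952 := rfl
theorem L121651 : sm ga N9952 = N7975 := ded_16_1 (flp_i L62782) (flp_a L62528) L121649
theorem L121653 : sm ge N9952 = N7944 := ded_38_1 (flp_i L62554) (flp_e L62531) L121649
theorem L121655 : sm gf N9952 = N7941 := ded_41_1 (flp_i L62533) L62526 L121649
theorem L121657 : sm gh N7941 = N9953 := rfl
theorem L121659 : sm ga N9953 = N7976 := ded_15_1 (flp_h L62789) (flp_a L62535) L121657
theorem L121661 : sm ge N9953 = N7942 := ded_37_1 (flp_h L62539) (flp_e L62537) L121657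
theorem L121663 : sm gi N9953 = N9953 := ded_44_2 (flp_h L121657) (flp_i L62533) L45803 L62533 L121657
theorem L121664 : sm gi N7943 = N9954 := rfl
theorem L121666 : sm ga N9954 = N7977 := ded_16_1 (flp_i L62795) (flp_a L62549) L121664
theorem L121668 : sm gd N9954 = N9954 := ded_34_1 (flp_i L121664) L62551 L121664
theorem L121669 : sm gf N9954 = N9954 := ded_41_1 (flp_i L121664) L62553 L121664
theorem L121670 : sm gg N9954 = N7944 := ded_43_1 (flp_i L62554) L62547 L121664
theorem L121672 : sm gh N7944 = N9955 := rfl
theorem L121674 : sm ga N9955 = N7978 := ded_15_1 (flp_h L62802) (flp_a L62556) L121672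
theorem L121676 : sm gf N9955 = N7945 := ded_40_1 (flp_h L62561) (flp_f L62559) L121672
theorem L121678 : sm gi N9955 = N9955 := ded_44_2 (flp_h L121672) (flp_i L62554) L45817 L62554 L121672
theorem L121679 : sm gd N7945 = N9956 := rfl
theorem L121681 : sm ga N9956 = N7979 := ded_11_1 (flp_d L62808) (flp_a L62563) L121679
theorem L121683 : sm gg N9956 = N9956 := ded_32_2 (flp_d L121679) L62567 L121679
theorem L121684 : sm gi N9956 = N9956 := ded_34_2 (flp_d L121679) L62568 L121679
theorem L121685 : sm ge N9956 = N9956 := ded_30_2 (flp_d L121679) L62565 L45831 (flp_e L62565) L121679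
theorem L121686 : sm gh N9956 = N9956 := ded_33_2 (flp_d L121679) (flp_h L62561) L45822 L62561 L121679
theorem L121687 : sm gi N7974 = N9957 := rfl
theorem L121689 : sm gb N9957 = N9957 := ded_23_1 (flp_i L121687) L62778 L121687
theorem L121690 : sm ge N9957 = N7977 := ded_38_1 (flp_i L62795) (flp_e L62779) L121687
theorem L121692 : sm gg N9957 = N7975 := ded_43_1 (flp_i L62782) L62776 L121687
theorem L121694 : sm gh N7975 = N9958 := rfl
theorem L121696 : sm gb N9958 = N9958 := ded_22_1 (flp_h L121694) L62784 L121694
theorem L121697 : sm ge N9958 = N7978 := ded_37_1 (flp_h L62802) (flp_e L62785) L121694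
theorem L121699 : sm gf N9958 = N7976 := ded_40_1 (flp_h L62789) (flp_f L62787) L121694
theorem L121701 : sm gi N9958 = N9958 := ded_44_2 (flp_h L121694) (flp_i L62782) L45968 L62782 L121694
theorem L121702 : sm gd N7976 = N9959 := rfl
theorem L121704 : sm gb N9959 = N9959 := ded_18_1 (flp_d L121702) L62791 L121702
theorem L121705 : sm gi N9959 = N9959 := ded_34_2 (flp_d L121702) L62794 L121702
theorem L121706 : sm ge N9959 = N9959 := ded_30_2 (flp_d L121702) L62792 L45981 (flp_e L62792) L121702
theorem L121707 : sm gh N7977 = N9960 := rfl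
theorem L121709 : sm gb N9960 = N9960 := ded_22_1 (flp_h L121707) L62797 L121707
theorem L121710 : sm gf N9960 = N9960 := ded_40_1 (flp_h L121707) L62799 L121707
theorem L121711 : sm gg N9960 = N7978 := ded_42_1 (flp_h L62802) (flp_g L62800) L121707
theorem L121713 : sm gi N9960 = N9960 := ded_44_2 (flp_h L121707) (flp_i L62795) L45987 L62795 L121707
theorem L121714 : sm gd N7978 = N9961 := rfl
theorem L121716 : sm gb N9961 = N9961 := ded_18_1 (flp_d L121714) L62804 L121714
theorem L121717 : sm gf N9961 = N7979 := ded_31_2 (flp_d L62808) (flp_f L62805) L121714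
theorem L121719 : sm gi N9961 = N9961 := ded_34_2 (flp_d L121714) L62807 L121714
theorem L121720 : sm gh N9961 = N9961 := ded_33_2 (flp_d L121714) (flp_h L62802) L45992 L62802 L121714
theorem L121721 : sm gc N7979 = N9962 := rfl
theorem L121723 : sm ge N9962 = N9962 := ded_25_2 (flp_c L121721) L62813 L121721
theorem L121724 : sm gg N9962 = N9962 := ded_27_2 (flp_c L121721) L62811 L121721
theorem L121725 : sm gh N9962 = N9962 := ded_28_2 (flp_c L121721) L62814 L121721
theorem L121726 : sm gi N9962 = N9962 := ded_29_2 (flp_c L121721) L62812 L121721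
theorem L121727 : sm ge N8185 = N9963 := rfl
theorem L121729 : sm ga N9963 = N9963 := ded_12_1 (flp_e L121727) L64416 L121727
theorem L121730 : sm gb N9963 = N8187 := ded_19_1 (flp_e L64428) (flp_b L64417) L121727
theorem L121732 : sm gg N9963 = N9488 := ded_36_2 L121056 L121044 L121727
theorem L121734 : sm gi N9963 = N9963 := ded_38_2 (flp_e L121727) L64420 L121727
theorem L121735 : sm gf N9963 = N9963 := ded_35_2 (flp_e L121727) (flp_f L64414) L47180 L64414 L121727
theorem L121736 : sm gd N9487 = N9963 := ded_18_0 L121730 L121038 (flp_b L74655)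
theorem L121738 : sm gh N8185 = N9964 := rfl
theorem L121740 : sm ga N9964 = N9964 := ded_15_1 (flp_h L121738) L64416 L121738
theorem L121741 : sm gb N9964 = N8189 := ded_22_1 (flp_h L64445) (flp_b L64417) L121738
theorem L121743 : sm gf N9964 = N8186 := ded_40_1 (flp_h L64421) L64414 L121738
theorem L121745 : sm gd N8186 = N9965 := rfl
theorem L121747 : sm ga N9965 = N9965 := ded_11_1 (flp_d L121745) L64423 L121745
theorem L121748 : sm gb N9965 = N8190 := ded_18_1 (flp_d L64453) (flp_b L64424) L121745
theorem L121750 : sm gg N9965 = N9965 := ded_32_2 (flp_d L121745) L64427 L121745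
theorem L121751 : sm gh N9965 = N9965 := ded_33_2 (flp_d L121745) (flp_h L64421) L47179 L64421 L121745
theorem L121752 : sm gi N8186 = N9966 := rfl
theorem L121754 : sm ga N9966 = N9966 := ded_16_1 (flp_i L121752) L64423 L121752
theorem L121755 : sm gb N9966 = N8191 := ded_23_1 (flp_i L64461) (flp_b L64424) L121752
theorem L121757 : sm ge N9966 = N9966 := ded_38_1 (flp_i L121752) L64426 L121752
theorem L121758 : sm gg N9966 = N9966 := ded_43_1 (flp_i L121752) L64427 L121752
theorem L121759 : sm gh N9966 = N9966 := ded_44_1 (flp_i L121752) (flp_h L64421) L47182 L64421 L121752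
theorem L121760 : sm gh N8187 = N9967 := rfl
theorem L121762 : sm ga N9967 = N8198 := ded_15_1 (flp_h L64518) (flp_a L64430) L121760
theorem L121764 : sm gc N9967 = N8193 := ded_28_1 (flp_h L64478) (flp_c L64432) L121760
theorem L121766 : sm ge N9967 = N8189 := ded_37_1 (flp_h L64445) L64428 L121760
theorem L121768 : sm gf N9967 = N9967 := ded_40_1 (flp_h L121760) L64435 L121760
theorem L121769 : sm gg N9967 = N9465 := ded_42_1 L74501 (flp_g L121041) L121760
theorem L121771 : sm gd N9967 = N9464 := ded_33_1 (flp_h L74488) L54462 L54625 (flp_d L121038) L121760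
theorem L121773 : sm gh N8188 = N9968 := rfl
theorem L121775 : sm ga N9968 = N8199 := ded_15_1 (flp_h L64526) (flp_a L64438) L121773
theorem L121777 : sm gc N9968 = N8194 := ded_28_1 (flp_h L64485) (flp_c L64440) L121773
theorem L121779 : sm ge N9968 = N9465 := ded_37_1 L74501 (flp_e L120958) L121773
theorem L121781 : sm gf N9968 = N9968 := ded_40_1 (flp_h L121773) L64444 L121773
theorem L121782 : sm gg N9968 = N8189 := ded_42_1 (flp_h L64445) L64436 L121773
theorem L121784 : sm gd N8189 = N9969 := rfl
theorem L121786 : sm ga N9969 = N8200 := ded_11_1 (flp_d L64534) (flp_a L64447) L121784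
theorem L121788 : sm gf N9969 = N8190 := ded_31_2 (flp_d L64453) (flp_f L64451) L121784
theorem L121790 : sm gc N9969 = N8223 := ded_24_1 (flp_d L64730) L47380 (flp_d L47221) (flp_c L64449) L121784
theorem L121792 : sm gh N9969 = N9969 := ded_33_2 (flp_d L121784) (flp_h L64445) L47190 L64445 L121784
theorem L121793 : sm gi N8189 = N9970 := rfl
theorem L121795 : sm ga N9970 = N8201 := ded_16_1 (flp_i L64542) (flp_a L64447) L121793
theorem L121797 : sm gc N9970 = N8195 := ded_29_1 (flp_i L64494) (flp_c L64449) L121793
theorem L121799 : sm gf N9970 = N8191 := ded_41_1 (flp_i L64461) (flp_f L64451) L121793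
theorem L121801 : sm gh N9970 = N9970 := ded_44_1 (flp_i L121793) (flp_h L64445) L47191 L64445 L121793
theorem L121802 : sm ge N8190 = N9971 := rfl
theorem L121804 : sm ga N9971 = N8202 := ded_12_1 (flp_e L64550) (flp_a L64455) L121802
theorem L121806 : sm gc N9971 = N8225 := ded_25_1 (flp_e L64747) (flp_c L64458) L121802
theorem L121808 : sm gg N9971 = N9971 := ded_36_2 (flp_e L121802) L64457 L121802
theorem L121809 : sm gh N9971 = N9971 := ded_37_2 (flp_e L121802) L64460 L121802
theorem L121810 : sm gd N9971 = N9971 := ded_30_1 (flp_e L121802) (flp_d L64453) L47198 L64453 L121802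
theorem L121811 : sm gi N8190 = N9972 := rfl
theorem L121813 : sm ga N9972 = N8203 := ded_16_1 (flp_i L64558) (flp_a L64455) L121811
theorem L121815 : sm gc N9972 = N8226 := ded_29_1 (flp_i L64755) (flp_c L64458) L121811
theorem L121817 : sm gd N9972 = N8191 := ded_34_1 (flp_i L64461) L64453 L121811
theorem L121819 : sm gg N9972 = N9972 := ded_43_1 (flp_i L121811) L64457 L121811
theorem L121820 : sm gh N8192 = N9973 := rfl
theorem L121822 : sm ga N9973 = N8205 := ded_15_1 (flp_h L64574) (flp_a L64472) L121820
theorem L121824 : sm gc N9973 = N9465 := ded_28_1 L74501 (flp_c L121019) L121820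
theorem L121826 : sm ge N9973 = N8194 := ded_37_1 (flp_h L64485) (flp_e L64475) L121820
theorem L121828 : sm gf N9973 = N9466 := ded_40_1 L74509 (flp_f L121022) L121820
theorem L121830 : sm gg N9973 = N8193 := ded_42_1 (flp_h L64478) L64470 L121820
theorem L121832 : sm gd N8193 = N9974 := rfl
theorem L121834 : sm ga N9974 = N8206 := ded_11_1 (flp_d L64582) (flp_a L64480) L121832
theorem L121836 : sm gf N9974 = N9974 := ded_31_2 (flp_d L121832) L64484 L121832
theorem L121837 : sm ge N9974 = N8229 := ded_30_2 (flp_d L64780) L47414 (flp_d L47221) (flp_e L64482) L121832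
theorem L121839 : sm gh N9974 = N9974 := ded_33_2 (flp_d L121832) (flp_h L64478) L47205 L64478 L121832
theorem L121840 : sm gi N8193 = N9975 := rfl
theorem L121842 : sm ga N9975 = N8207 := ded_16_1 (flp_i L64590) (flp_a L64480) L121840
theorem L121844 : sm ge N9975 = N8195 := ded_38_1 (flp_i L64494) (flp_e L64482) L121840
theorem L121846 : sm gf N9975 = N9975 := ded_41_1 (flp_i L121840) L64484 L121840
theorem L121847 : sm gh N9975 = N9975 := ded_44_1 (flp_i L121840) (flp_h L64478) L47204 L64478 L121840
theorem L121848 : sm gi N8194 = N9976 := rfl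
theorem L121850 : sm ga N9976 = N8208 := ded_16_1 (flp_i L64598) (flp_a L64487) L121848
theorem L121852 : sm gd N9976 = N8231 := ded_34_1 (flp_i L64797) (flp_d L64492) L121848
theorem L121854 : sm gf N9976 = N9976 := ded_41_1 (flp_i L121848) L64489 L121848
theorem L121855 : sm gg N9976 = N8195 := ded_43_1 (flp_i L64494) (flp_g L64490) L121848
theorem L121857 : sm gh N9976 = N9976 := ded_44_1 (flp_i L121848) (flp_h L64485) L47213 L64485 L121848
theorem L121858 : sm gi N8198 = N9977 := rfl
theorem L121860 : sm gb N9977 = N9977 := ded_23_1 (flp_i L121858) L64520 L121858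
theorem L121861 : sm gc N9977 = N8207 := ded_29_1 (flp_i L64590) (flp_c L64521) L121858
theorem L121863 : sm gd N9977 = N8907 := ded_34_1 L70284 (flp_d L120898) L121858
theorem L121865 : sm ge N9977 = N8201 := ded_38_1 (flp_i L64542) (flp_e L64523) L121858
theorem L121867 : sm gf N9977 = N9977 := ded_41_1 (flp_i L121858) L64525 L121858
theorem L121868 : sm gg N9977 = N8908 := ded_43_1 L70291 (flp_g L120901) L121858
theorem L121870 : sm gh N9977 = N9977 := ded_44_1 (flp_i L121858) (flp_h L64518) L47237 L64518 L121858
theorem L121871 : sm gd N8199 = N9978 := rfl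
theorem L121873 : sm gb N9978 = N9978 := ded_18_1 (flp_d L121871) L64528 L121871
theorem L121874 : sm gf N9978 = N9978 := ded_31_2 (flp_d L121871) L64531 L121871
theorem L121875 : sm gg N9978 = N8200 := ded_32_2 (flp_d L64534) (flp_g L64532) L121871
theorem L121877 : sm gc N9978 = N8238 := ded_24_1 (flp_d L64863) L47467 (flp_d L47291) (flp_c L64529) L121871
theorem L121879 : sm ge N9978 = N9471 := ded_30_2 (flp_d L74540) L54513 L54528 (flp_e L120951) L121871
theorem L121881 : sm gh N9978 = N9978 := ded_33_2 (flp_d L121871) (flp_h L64526) L47244 L64526 L121871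
theorem L121882 : sm gi N8199 = N9979 := rfl
theorem L121884 : sm gb N9979 = N9979 := ded_23_1 (flp_i L121882) L64528 L121882
theorem L121885 : sm gc N9979 = N8208 := ded_29_1 (flp_i L64598) (flp_c L64529) L121882
theorem L121887 : sm ge N9979 = N8908 := ded_38_1 L70291 (flp_e L120951) L121882
theorem L121889 : sm gf N9979 = N9979 := ded_41_1 (flp_i L121882) L64531 L121882
theorem L121890 : sm gg N9979 = N8201 := ded_43_1 (flp_i L64542) (flp_g L64532) L121882
theorem L121892 : sm gh N9979 = N9979 := ded_44_1 (flp_i L121882) (flp_h L64526) L47245 L64526 L121882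
theorem L121893 : sm ge N8200 = N9980 := rfl
theorem L121895 : sm gb N9980 = N9980 := ded_19_1 (flp_e L121893) L64536 L121893
theorem L121896 : sm gc N9980 = N8240 := ded_25_1 (flp_e L64882) (flp_c L64539) L121893
theorem L121898 : sm gg N9980 = N9471 := ded_36_2 (flp_e L121879) L121875 L121893
theorem L121900 : sm gh N9980 = N9980 := ded_37_2 (flp_e L121893) L64541 L121893
theorem L121901 : sm gd N9980 = N9470 := ded_30_1 L74536 (flp_d L120898) L64523 L64534 L121893
theorem L121903 : sm gi N8200 = N9981 := rfl
theorem L121905 : sm gb N9981 = N9981 := ded_23_1 (flp_i L121903) L64536 L121903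
theorem L121906 : sm gc N9981 = N8241 := ded_29_1 (flp_i L64887) (flp_c L64539) L121903
theorem L121908 : sm gd N9981 = N8201 := ded_34_1 (flp_i L64542) L64534 L121903
theorem L121910 : sm gf N9981 = N8203 := ded_41_1 (flp_i L64558) (flp_f L64537) L121903
theorem L121912 : sm gf N8202 = N9982 := rfl
theorem L121914 : sm gb N9982 = N9982 := ded_20_1 (flp_f L121912) L64552 L121912
theorem L121915 : sm gc N9982 = N8242 := ded_26_1 (flp_f L64895) (flp_c L64553) L121912
theorem L121917 : sm gd N9982 = N9982 := ded_31_1 (flp_f L121912) L64557 L121912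
theorem L121918 : sm gh N9982 = N9982 := ded_40_2 (flp_f L121912) L64556 L121912
theorem L121919 : sm gi N8202 = N9983 := rfl
theorem L121921 : sm gb N9983 = N9983 := ded_23_1 (flp_i L121919) L64552 L121919
theorem L121922 : sm gc N9983 = N8243 := ded_29_1 (flp_i L64902) (flp_c L64553) L121919
theorem L121924 : sm gd N9983 = N9983 := ded_34_1 (flp_i L121919) L64557 L121919
theorem L121925 : sm ge N9983 = N8203 := ded_38_1 (flp_i L64558) L64550 L121919
theorem L121927 : sm gg N9983 = N9983 := ded_43_1 (flp_i L121919) L64555 L121919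
theorem L121928 : sm gh N8203 = N9984 := rfl
theorem L121930 : sm gb N9984 = N9984 := ded_22_1 (flp_h L121928) L64560 L121928
theorem L121931 : sm gc N9984 = N8244 := ded_28_1 (flp_h L64911) (flp_c L64561) L121928
theorem L121933 : sm gg N9984 = N9984 := ded_42_1 (flp_h L121928) L64565 L121928
theorem L121934 : sm gd N9984 = N9984 := ded_33_1 (flp_h L121928) L64563 L47268 (flp_d L64563) L121928
theorem L121935 : sm gi N9984 = N9984 := ded_44_2 (flp_h L121928) (flp_i L64558) L47260 L64558 L121928
theorem L121936 : sm gd N8205 = N9985 := rfl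
theorem L121938 : sm gb N9985 = N8210 := ded_18_1 (flp_d L64615) (flp_b L64576) L121936
theorem L121940 : sm gf N9985 = N9361 := ded_31_2 L73707 (flp_f L120981) L121936
theorem L121942 : sm gg N9985 = N8206 := ded_32_2 (flp_d L64582) (flp_g L64580) L121936
theorem L121944 : sm gc N9985 = N9360 := ded_24_1 (flp_d L73698) L53866 L54528 (flp_c L120979) L121936
theorem L121946 : sm ge N9985 = N8246 := ded_30_2 (flp_d L64928) L47518 (flp_d L47291) (flp_e L64578) L121936
theorem L121948 : sm gh N9985 = N9985 := ded_33_2 (flp_d L121936) (flp_h L64574) L47273 L64574 L121936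
theorem L121949 : sm gi N8205 = N9986 := rfl
theorem L121951 : sm gb N9986 = N8211 := ded_23_1 (flp_i L64622) (flp_b L64576) L121949
theorem L121953 : sm gc N9986 = N8908 := ded_29_1 L70291 (flp_c L120979) L121949
theorem L121955 : sm ge N9986 = N8208 := ded_38_1 (flp_i L64598) (flp_e L64578) L121949
theorem L121957 : sm gf N9986 = N8909 := ded_41_1 L70299 (flp_f L120981) L121949
theorem L121959 : sm gg N9986 = N8207 := ded_43_1 (flp_i L64590) (flp_g L64580) L121949
theorem L121961 : sm gh N9986 = N9986 := ded_44_1 (flp_i L121949) (flp_h L64574) L47276 L64574 L121949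
theorem L121962 : sm gc N8206 = N9987 := rfl
theorem L121964 : sm ge N9987 = N8248 := ded_25_2 (flp_c L64945) (flp_e L64587) L121962
theorem L121966 : sm gf N9987 = N9987 := ded_26_2 (flp_c L121962) L64586 L121962
theorem L121967 : sm gg N9987 = N9360 := ded_27_2 (flp_c L121944) L121942 L121962
theorem L121969 : sm gh N9987 = N9987 := ded_28_2 (flp_c L121962) L64589 L121962
theorem L121970 : sm gd N9987 = N9359 := ded_24_2 L73693 (flp_d L120898) L64521 L64582 L121962
theorem L121972 : sm gi N8206 = N9988 := rfl
theorem L121974 : sm gb N9988 = N8213 := ded_23_1 (flp_i L64637) (flp_b L64584) L121972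
theorem L121976 : sm gd N9988 = N8207 := ded_34_1 (flp_i L64590) L64582 L121972
theorem L121978 : sm ge N9988 = N8249 := ded_38_1 (flp_i L64950) (flp_e L64587) L121972
theorem L121980 : sm gf N9988 = N9988 := ded_41_1 (flp_i L121972) L64586 L121972
theorem L121981 : sm gd N8209 = N9989 := rfl
theorem L121983 : sm gb N9989 = N9361 := ded_18_1 L73707 (flp_b L121006) L121981
theorem L121985 : sm gf N9989 = N8210 := ded_31_2 (flp_d L64615) (flp_f L64612) L121981
theorem L121987 : sm gg N9989 = N9989 := ded_32_2 (flp_d L121981) L64614 L121981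
theorem L121988 : sm gh N9989 = N9989 := ded_33_2 (flp_d L121981) (flp_h L64608) L47305 L64608 L121981
theorem L121989 : sm gi N8209 = N9990 := rfl
theorem L121991 : sm gb N9990 = N8909 := ded_23_1 L70299 (flp_b L121006) L121989
theorem L121993 : sm gc N9990 = N9990 := ded_29_1 (flp_i L121989) L64610 L121989
theorem L121994 : sm ge N9990 = N9990 := ded_38_1 (flp_i L121989) L64611 L121989
theorem L121995 : sm gf N9990 = N8211 := ded_41_1 (flp_i L64622) (flp_f L64612) L121989
theorem L121997 : sm gg N9990 = N9990 := ded_43_1 (flp_i L121989) L64614 L121989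
theorem L121998 : sm gh N9990 = N9990 := ded_44_1 (flp_i L121989) (flp_h L64608) L47306 L64608 L121989
theorem L121999 : sm gc N8210 = N9991 := rfl
theorem L122001 : sm ge N9991 = N8252 := ded_25_2 (flp_c L64976) (flp_e L64619) L121999
theorem L122003 : sm gg N9991 = N8212 := ded_27_2 (flp_c L64630) (flp_g L64617) L121999
theorem L122005 : sm gh N9991 = N9991 := ded_28_2 (flp_c L121999) L64621 L121999
theorem L122006 : sm gd N9991 = N9991 := ded_24_2 (flp_c L121999) (flp_d L64615) L47311 L64615 L121999
theorem L122007 : sm gi N8210 = N9992 := rfl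
theorem L122009 : sm gd N9992 = N8211 := ded_34_1 (flp_i L64622) L64615 L122007
theorem L122011 : sm ge N9992 = N8253 := ded_38_1 (flp_i L64983) (flp_e L64619) L122007
theorem L122013 : sm gg N9992 = N8213 := ded_43_1 (flp_i L64637) (flp_g L64617) L122007
theorem L122015 : sm gb N8212 = N9993 := rfl
theorem L122017 : sm gd N9993 = N9993 := ded_18_2 (flp_b L122015) L64636 L122015
theorem L122018 : sm ge N9993 = N8254 := ded_19_2 (flp_b L64989) (flp_e L64632) L122015
theorem L122020 : sm gf N9993 = N9993 := ded_20_2 (flp_b L122015) L64634 L122015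
theorem L122021 : sm gh N9993 = N9993 := ded_22_2 (flp_b L122015) L64635 L122015
theorem L122022 : sm gi N8212 = N9994 := rfl
theorem L122024 : sm gc N9994 = N8213 := ded_29_1 (flp_i L64637) L64630 L122022
theorem L122026 : sm gd N9994 = N9994 := ded_34_1 (flp_i L122022) L64636 L122022
theorem L122027 : sm ge N9994 = N8255 := ded_38_1 (flp_i L64996) (flp_e L64632) L122022
theorem L122029 : sm gf N9994 = N9994 := ded_41_1 (flp_i L122022) L64634 L122022
theorem L122030 : sm gh N8213 = N9995 := rfl
theorem L122032 : sm ge N9995 = N8256 := ded_37_1 (flp_h L65004) (flp_e L64641) L122030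
theorem L122034 : sm gf N9995 = N9995 := ded_40_1 (flp_h L122030) L64643 L122030
theorem L122035 : sm gd N9995 = N9995 := ded_33_1 (flp_h L122030) L64639 L47328 (flp_d L64639) L122030
theorem L122036 : sm gi N9995 = N9995 := ded_44_2 (flp_h L122030) (flp_i L64637) L47321 L64637 L122030
theorem L122037 : sm gd N8214 = N9996 := rfl
theorem L122039 : sm ga N9996 = N8257 := ded_11_1 (flp_d L65011) (flp_a L64646) L122037
theorem L122041 : sm gb N9996 = N8219 := ded_18_1 (flp_d L64691) (flp_b L64648) L122037
theorem L122043 : sm gf N9996 = N8466 := ded_31_2 (flp_d L66798) (flp_f L64652) L122037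
theorem L122045 : sm gi N9996 = N9874 := ded_34_2 (flp_d L121103) (flp_i L64650) L122037
theorem L122047 : sm ge N9996 = N9996 := ded_30_2 (flp_d L122037) (flp_e L64644) L47344 L64644 L122037
theorem L122048 : sm gg N8214 = N9997 := rfl
theorem L122050 : sm ga N9997 = N8258 := ded_14_1 (flp_g L65020) (flp_a L64646) L122048
theorem L122052 : sm gb N9997 = N8220 := ded_21_1 (flp_g L64701) (flp_b L64648) L122048
theorem L122054 : sm ge N9997 = N8215 := ded_36_1 (flp_g L64654) L64644 L122048
theorem L122056 : sm gi N9997 = N8789 := ded_43_2 L120755 (flp_i L64650) L122048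
theorem L122058 : sm gh N8214 = N9998 := rfl
theorem L122060 : sm ga N9998 = N8259 := ded_15_1 (flp_h L65028) (flp_a L64646) L122058
theorem L122062 : sm gb N9998 = N8221 := ded_22_1 (flp_h L64711) (flp_b L64648) L122058
theorem L122064 : sm ge N9998 = N8216 := ded_37_1 (flp_h L64664) L64644 L122058
theorem L122066 : sm gf N9998 = N8468 := ded_40_1 (flp_h L66814) (flp_f L64652) L122058
theorem L122068 : sm gh N8215 = N9999 := rfl
theorem L122070 : sm ga N9999 = N8260 := ded_15_1 (flp_h L65036) (flp_a L64656) L122068
theorem L122072 : sm gb N9999 = N8222 := ded_22_1 (flp_h L64721) (flp_b L64658) L122068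
theorem L122074 : sm gf N9999 = N9999 := ded_40_1 (flp_h L122068) L64663 L122068
theorem L122075 : sm gg N9999 = N8216 := ded_42_1 (flp_h L64664) L64654 L122068
theorem L122077 : sm gd N8216 = N10000 := rfl
theorem L122079 : sm ga N10000 = N8261 := ded_11_1 (flp_d L65043) (flp_a L64666) L122077
theorem L122081 : sm gb N10000 = N8223 := ded_18_1 (flp_d L64730) (flp_b L64668) L122077
theorem L122083 : sm gf N10000 = N8217 := ded_31_2 (flp_d L64672) (flp_f L64670) L122077
theorem L122085 : sm gh N10000 = N10000 := ded_33_2 (flp_d L122077) (flp_h L64664) L47344 L64664 L122077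
theorem L122086 : sm gi N8216 = N10001 := rfl
theorem L122088 : sm ga N10001 = N8262 := ded_16_1 (flp_i L65050) (flp_a L64666) L122086
theorem L122090 : sm gb N10001 = N8224 := ded_23_1 (flp_i L64737) (flp_b L64668) L122086
theorem L122092 : sm gf N10001 = N8218 := ded_41_1 (flp_i L64680) (flp_f L64670) L122086
theorem L122094 : sm gh N10001 = N9877 := ded_44_1 (flp_i L121129) (flp_h L60861) (flp_i L47345) L64664 L122086
theorem L122096 : sm gc N8217 = N10002 := rfl
theorem L122098 : sm ga N10002 = N8263 := ded_10_1 (flp_c L65058) (flp_a L64674) L122096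
theorem L122100 : sm gg N10002 = N10002 := ded_27_2 (flp_c L122096) L64678 L122096
theorem L122101 : sm gh N10002 = N10002 := ded_28_2 (flp_c L122096) L64679 L122096
theorem L122102 : sm ge N8217 = N10003 := rfl
theorem L122104 : sm ga N10003 = N8264 := ded_12_1 (flp_e L65063) (flp_a L64674) L122102
theorem L122106 : sm gb N10003 = N8225 := ded_19_1 (flp_e L64747) (flp_b L64676) L122102
theorem L122108 : sm gg N10003 = N10003 := ded_36_2 (flp_e L122102) L64678 L122102
theorem L122109 : sm gh N10003 = N10003 := ded_37_2 (flp_e L122102) L64679 L122102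
theorem L122110 : sm gd N10003 = N8473 := ded_30_1 (flp_e L66857) (flp_d L48871) (flp_e L47353) L64672 L122102
theorem L122112 : sm gi N8217 = N10004 := rfl
theorem L122114 : sm ga N10004 = N8265 := ded_16_1 (flp_i L65071) (flp_a L64674) L122112
theorem L122116 : sm gb N10004 = N8226 := ded_23_1 (flp_i L64755) (flp_b L64676) L122112
theorem L122118 : sm gd N10004 = N8218 := ded_34_1 (flp_i L64680) L64672 L122112
theorem L122120 : sm gg N10004 = N10004 := ded_43_1 (flp_i L122112) L64678 L122112
theorem L122121 : sm gg N8219 = N10005 := rfl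
theorem L122123 : sm ga N10005 = N8232 := ded_14_1 (flp_g L64806) (flp_a L64693) L122121
theorem L122125 : sm gc N10005 = N10005 := ded_27_1 (flp_g L122121) L64699 L122121
theorem L122126 : sm gd N10005 = N8220 := ded_32_1 (flp_g L64701) L64691 L122121
theorem L122128 : sm ge N10005 = N10005 := ded_36_1 (flp_g L122121) L64700 L122121
theorem L122129 : sm gi N10005 = N8806 := ded_43_2 L120857 (flp_i L64697) L122121
theorem L122131 : sm gh N8219 = N10006 := rfl
theorem L122133 : sm ga N10006 = N8233 := ded_15_1 (flp_h L64816) (flp_a L64693) L122131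
theorem L122135 : sm gc N10006 = N10006 := ded_28_1 (flp_h L122131) L64699 L122131
theorem L122136 : sm ge N10006 = N10006 := ded_37_1 (flp_h L122131) L64700 L122131
theorem L122137 : sm gf N10006 = N8476 := ded_40_1 (flp_h L66884) (flp_f L64695) L122131
theorem L122139 : sm gf N8220 = N10007 := rfl
theorem L122141 : sm ga N10007 = N8234 := ded_13_1 (flp_f L64824) (flp_a L64703) L122139
theorem L122143 : sm gc N10007 = N8227 := ded_26_1 (flp_f L64762) (flp_c L64705) L122139
theorem L122145 : sm gi N10007 = N8380 := ded_41_2 L66031 (flp_i L102826) L122139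
theorem L122147 : sm ge N10007 = N10007 := ded_35_1 (flp_f L122139) L64707 L47375 (flp_e L64707) L122139
theorem L122148 : sm gg N10007 = N8477 := ded_39_2 (flp_f L66891) (flp_g L48894) (flp_f L47364) L64701 L122139
theorem L122150 : sm gh N8220 = N10008 := rfl
theorem L122152 : sm ga N10008 = N8235 := ded_15_1 (flp_h L64835) (flp_a L64703) L122150
theorem L122154 : sm gc N10008 = N8228 := ded_28_1 (flp_h L64772) (flp_c L64705) L122150
theorem L122156 : sm ge N10008 = N8222 := ded_37_1 (flp_h L64721) (flp_e L64707) L122150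
theorem L122158 : sm gg N10008 = N8221 := ded_42_1 (flp_h L64711) L64701 L122150
theorem L122160 : sm gd N8221 = N10009 := rfl
theorem L122162 : sm ga N10009 = N8236 := ded_11_1 (flp_d L64845) (flp_a L64713) L122160
theorem L122164 : sm gf N10009 = N8479 := ded_31_2 (flp_d L66908) (flp_f L64719) L122160
theorem L122166 : sm gi N8221 = N10010 := rfl
theorem L122168 : sm ga N10010 = N8237 := ded_16_1 (flp_i L64851) (flp_a L64713) L122166
theorem L122170 : sm gc N10010 = N8230 := ded_29_1 (flp_i L64787) (flp_c L64715) L122166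
theorem L122172 : sm ge N10010 = N8224 := ded_38_1 (flp_i L64737) (flp_e L64717) L122166
theorem L122174 : sm gf N10010 = N8480 := ded_41_1 (flp_i L66912) (flp_f L64719) L122166
theorem L122176 : sm gh N10010 = N9883 := ded_44_1 (flp_i L121175) (flp_h L60902) (flp_i L47362) L64711 L122166
theorem L122178 : sm gd N8222 = N10011 := rfl
theorem L122180 : sm ga N10011 = N8238 := ded_11_1 (flp_d L64863) (flp_a L64723) L122178
theorem L122182 : sm gf N10011 = N10011 := ded_31_2 (flp_d L122178) L64727 L122178
theorem L122183 : sm gg N10011 = N8223 := ded_32_2 (flp_d L64730) (flp_g L64728) L122178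
theorem L122185 : sm gh N10011 = N10011 := ded_33_2 (flp_d L122178) (flp_h L64721) L47372 L64721 L122178
theorem L122186 : sm gi N8222 = N10012 := rfl
theorem L122188 : sm ga N10012 = N8239 := ded_16_1 (flp_i L64871) (flp_a L64723) L122186
theorem L122190 : sm gc N10012 = N8231 := ded_29_1 (flp_i L64797) (flp_c L64725) L122186
theorem L122192 : sm gf N10012 = N10012 := ded_41_1 (flp_i L122186) L64727 L122186
theorem L122193 : sm gg N10012 = N8224 := ded_43_1 (flp_i L64737) (flp_g L64728) L122186
theorem L122195 : sm gh N10012 = N8918 := ded_44_1 (flp_i L70366) L51412 L94002 L64721 L122186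
theorem L122197 : sm ge N8223 = N10013 := rfl
theorem L122199 : sm ga N10013 = N8240 := ded_12_1 (flp_e L64882) (flp_a L64732) L122197
theorem L122201 : sm gh N10013 = N10013 := ded_37_2 (flp_e L122197) L64736 L122197
theorem L122202 : sm gi N8223 = N10014 := rfl
theorem L122204 : sm ga N10014 = N8241 := ded_16_1 (flp_i L64887) (flp_a L64732) L122202
theorem L122206 : sm gd N10014 = N8224 := ded_34_1 (flp_i L64737) L64730 L122202
theorem L122208 : sm gf N10014 = N8226 := ded_41_1 (flp_i L64755) (flp_f L64734) L122202
theorem L122210 : sm gf N8225 = N10015 := rfl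
theorem L122212 : sm ga N10015 = N8242 := ded_13_1 (flp_f L64895) (flp_a L64749) L122210
theorem L122214 : sm gd N10015 = N8485 := ded_31_1 (flp_f L66955) (flp_d L64753) L122210
theorem L122216 : sm gh N10015 = N10015 := ded_40_2 (flp_f L122210) L64752 L122210
theorem L122217 : sm gi N8225 = N10016 := rfl
theorem L122219 : sm ga N10016 = N8243 := ded_16_1 (flp_i L64902) (flp_a L64749) L122217
theorem L122221 : sm gd N10016 = N8486 := ded_34_1 (flp_i L66962) (flp_d L64753) L122217
theorem L122223 : sm ge N10016 = N8226 := ded_38_1 (flp_i L64755) L64747 L122217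
theorem L122225 : sm gg N10016 = N10016 := ded_43_1 (flp_i L122217) L64751 L122217
theorem L122226 : sm gh N8226 = N10017 := rfl
theorem L122228 : sm ga N10017 = N8244 := ded_15_1 (flp_h L64911) (flp_a L64757) L122226
theorem L122230 : sm gg N10017 = N10017 := ded_42_1 (flp_h L122226) L64761 L122226
theorem L122231 : sm gd N10017 = N9888 := ded_33_1 (flp_h L121212) L60947 (flp_h L47399) (flp_d L64759) L122226
theorem L122233 : sm gi N10017 = N10017 := ded_44_2 (flp_h L122226) (flp_i L64755) L47389 L64755 L122226
theorem L122234 : sm gh N8227 = N10018 := rfl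
theorem L122236 : sm ga N10018 = N8245 := ded_15_1 (flp_h L64919) (flp_a L64764) L122234
theorem L122238 : sm ge N10018 = N10018 := ded_37_1 (flp_h L122234) L64769 L122234
theorem L122239 : sm gf N10018 = N8228 := ded_40_1 (flp_h L64772) L64762 L122234
theorem L122241 : sm gg N10018 = N8488 := ded_42_1 (flp_h L66978) (flp_g L64770) L122234
theorem L122243 : sm gd N8228 = N10019 := rfl
theorem L122245 : sm ga N10019 = N8246 := ded_11_1 (flp_d L64928) (flp_a L64774) L122243
theorem L122247 : sm gg N10019 = N8229 := ded_32_2 (flp_d L64780) (flp_g L64778) L122243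
theorem L122249 : sm gh N10019 = N10019 := ded_33_2 (flp_d L122243) (flp_h L64772) L47405 L64772 L122243
theorem L122250 : sm gi N8228 = N10020 := rfl
theorem L122252 : sm ga N10020 = N8247 := ded_16_1 (flp_i L64935) (flp_a L64774) L122250
theorem L122254 : sm ge N10020 = N8231 := ded_38_1 (flp_i L64797) (flp_e L64776) L122250
theorem L122256 : sm gg N10020 = N8230 := ded_43_1 (flp_i L64787) (flp_g L64778) L122250
theorem L122258 : sm gh N10020 = N8674 := ded_44_1 (flp_i L68429) L49991 L104080 L64772 L122250
theorem L122260 : sm gc N8229 = N10021 := rfl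
theorem L122262 : sm ga N10021 = N8248 := ded_10_1 (flp_c L64945) (flp_a L64782) L122260
theorem L122264 : sm gf N10021 = N8491 := ded_26_2 (flp_c L67001) (flp_f L64784) L122260
theorem L122266 : sm gh N10021 = N10021 := ded_28_2 (flp_c L122260) L64786 L122260
theorem L122267 : sm gi N8229 = N10022 := rfl
theorem L122269 : sm ga N10022 = N8249 := ded_16_1 (flp_i L64950) (flp_a L64782) L122267
theorem L122271 : sm gd N10022 = N8230 := ded_34_1 (flp_i L64787) L64780 L122267
theorem L122273 : sm gf N10022 = N8492 := ded_41_1 (flp_i L67007) (flp_f L64784) L122267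
theorem L122275 : sm gf N8232 = N10023 := rfl
theorem L122277 : sm gb N10023 = N8284 := ded_20_1 (flp_f L65245) (flp_b L64808) L122275
theorem L122279 : sm gc N10023 = N10023 := ded_26_1 (flp_f L122275) L64810 L122275
theorem L122280 : sm gd N10023 = N8234 := ded_31_1 (flp_f L64824) (flp_d L64811) L122275
theorem L122282 : sm gi N10023 = N8365 := ded_41_2 L65911 (flp_i L104185) L122275
theorem L122284 : sm gg N10023 = N8493 := ded_39_2 (flp_f L67014) (flp_g L48986) (flp_f L47437) L64806 L122275
theorem L122286 : sm ge N9271 = N10023 := ded_38_3 L122282 L120864 L73041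
theorem L122288 : sm gh N8232 = N10024 := rfl
theorem L122290 : sm gb N10024 = N8285 := ded_22_1 (flp_h L65255) (flp_b L64808) L122288
theorem L122292 : sm gc N10024 = N10024 := ded_28_1 (flp_h L122288) L64810 L122288
theorem L122293 : sm ge N10024 = N10024 := ded_37_1 (flp_h L122288) L64813 L122288
theorem L122294 : sm gg N10024 = N8233 := ded_42_1 (flp_h L64816) L64806 L122288
theorem L122296 : sm gd N8233 = N10025 := rfl
theorem L122298 : sm gb N10025 = N8286 := ded_18_1 (flp_d L65262) (flp_b L64818) L122296
theorem L122300 : sm gf N10025 = N8495 := ded_31_2 (flp_d L67030) (flp_f L64822) L122296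
theorem L122302 : sm gh N10025 = N8236 := ded_33_2 (flp_d L64845) (flp_h L47453) L47433 L64816 L122296
theorem L122304 : sm gi N8233 = N10026 := rfl
theorem L122306 : sm gb N10026 = N8287 := ded_23_1 (flp_i L65268) (flp_b L64818) L122304
theorem L122308 : sm gc N10026 = N10026 := ded_29_1 (flp_i L122304) L64820 L122304
theorem L122309 : sm ge N10026 = N10026 := ded_38_1 (flp_i L122304) L64821 L122304
theorem L122310 : sm gf N10026 = N8496 := ded_41_1 (flp_i L67036) (flp_f L64822) L122304
theorem L122312 : sm gh N10026 = N9892 := ded_44_1 (flp_i L121240) (flp_h L61002) (flp_i L47439) L64816 L122304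
theorem L122314 : sm gh N8234 = N10027 := rfl
theorem L122316 : sm gb N10027 = N8288 := ded_22_1 (flp_h L65277) (flp_b L64826) L122314
theorem L122318 : sm gc N10027 = N8245 := ded_28_1 (flp_h L64919) (flp_c L64828) L122314
theorem L122320 : sm ge N10027 = N10027 := ded_37_1 (flp_h L122314) L64832 L122314
theorem L122321 : sm gf N10027 = N8235 := ded_40_1 (flp_h L64835) L64824 L122314
theorem L122323 : sm gg N10027 = N8497 := ded_42_1 (flp_h L67043) (flp_g L64833) L122314
theorem L122325 : sm gd N8235 = N10028 := rfl
theorem L122327 : sm gb N10028 = N8289 := ded_18_1 (flp_d L65286) (flp_b L64837) L122325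
theorem L122329 : sm gg N10028 = N8236 := ded_32_2 (flp_d L64845) (flp_g L64843) L122325
theorem L122331 : sm gi N8235 = N10029 := rfl
theorem L122333 : sm gb N10029 = N8290 := ded_23_1 (flp_i L65290) (flp_b L64837) L122331
theorem L122335 : sm gc N10029 = N8247 := ded_29_1 (flp_i L64935) (flp_c L64839) L122331
theorem L122337 : sm ge N10029 = N8239 := ded_38_1 (flp_i L64871) (flp_e L64841) L122331
theorem L122339 : sm gg N10029 = N8237 := ded_43_1 (flp_i L64851) (flp_g L64843) L122331
theorem L122341 : sm gh N10029 = N8664 := ded_44_1 (flp_i L68354) L49926 (flp_i L104371) L64835 L122331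
theorem L122343 : sm gc N8236 = N10030 := rfl
theorem L122345 : sm gf N10030 = N8500 := ded_26_2 (flp_c L67068) (flp_f L64849) L122343
theorem L122347 : sm gd N10030 = N8248 := ded_24_2 (flp_c L64945) (flp_d L47522) (flp_c L47457) L64845 L122343
theorem L122349 : sm ge N8236 = N10031 := rfl
theorem L122351 : sm gb N10031 = N8292 := ded_19_1 (flp_e L65306) (flp_b L64847) L122349
theorem L122353 : sm gd N10031 = N8240 := ded_30_1 (flp_e L64882) (flp_d L47472) (flp_e L47459) L64845 L122349
theorem L122355 : sm gi N8236 = N10032 := rfl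
theorem L122357 : sm gb N10032 = N8293 := ded_23_1 (flp_i L65310) (flp_b L64847) L122355
theorem L122359 : sm gd N10032 = N8237 := ded_34_1 (flp_i L64851) L64845 L122355
theorem L122361 : sm gf N10032 = N8502 := ded_41_1 (flp_i L67078) (flp_f L64849) L122355
theorem L122363 : sm ge N8238 = N10033 := rfl
theorem L122365 : sm gb N10033 = N8294 := ded_19_1 (flp_e L65316) (flp_b L64865) L122363
theorem L122367 : sm gc N10033 = N9471 := ded_25_1 (flp_e L121879) L121877 L122363
theorem L122369 : sm gg N10033 = N8240 := ded_36_2 (flp_e L64882) (flp_g L64868) L122363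
theorem L122371 : sm gh N10033 = N10033 := ded_37_2 (flp_e L122363) L64870 L122363
theorem L122372 : sm gf N9472 = N10033 := ded_26_0 L122367 L74543 L74546
theorem L122374 : sm gi N8238 = N10034 := rfl
theorem L122376 : sm gb N10034 = N8295 := ded_23_1 (flp_i L65322) (flp_b L64865) L122374
theorem L122378 : sm gd N10034 = N8239 := ded_34_1 (flp_i L64871) L64863 L122374
theorem L122380 : sm gf N10034 = N10034 := ded_41_1 (flp_i L122374) L64867 L122374
theorem L122381 : sm gg N10034 = N8241 := ded_43_1 (flp_i L64887) (flp_g L64868) L122374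
theorem L122383 : sm gf N8240 = N10035 := rfl
theorem L122385 : sm gb N10035 = N8296 := ded_20_1 (flp_f L65330) (flp_b L64884) L122383
theorem L122387 : sm gh N10035 = N10035 := ded_40_2 (flp_f L122383) L64886 L122383
theorem L122388 : sm ge N10035 = N8242 := ded_35_1 (flp_f L64895) (flp_e L47489) (flp_f L47476) L64882 L122383
theorem L122390 : sm gi N8240 = N10036 := rfl
theorem L122392 : sm gb N10036 = N8297 := ded_23_1 (flp_i L65336) (flp_b L64884) L122390
theorem L122394 : sm ge N10036 = N8241 := ded_38_1 (flp_i L64887) L64882 L122390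
theorem L122396 : sm gh N8241 = N10037 := rfl
theorem L122398 : sm gb N10037 = N8298 := ded_22_1 (flp_h L65341) (flp_b L64889) L122396
theorem L122400 : sm gf N10037 = N8244 := ded_40_1 (flp_h L64911) (flp_f L64893) L122396
theorem L122402 : sm gd N10037 = N9898 := ded_33_1 (flp_h L121277) L61066 (flp_h L47487) (flp_d L64891) L122396
theorem L122404 : sm gi N10037 = N10037 := ded_44_2 (flp_h L122396) (flp_i L64887) L47478 L64887 L122396
theorem L122405 : sm gg N8242 = N10038 := rfl
theorem L122407 : sm gb N10038 = N8299 := ded_21_1 (flp_g L65349) (flp_b L64897) L122405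
theorem L122409 : sm gd N10038 = N8508 := ded_32_1 (flp_g L67128) (flp_d L64899) L122405
theorem L122411 : sm gh N10038 = N10038 := ded_42_2 (flp_g L122405) L64901 L122405
theorem L122412 : sm gf N10038 = N10038 := ded_39_1 (flp_g L122405) (flp_f L64895) L47493 L64895 L122405
theorem L122413 : sm gi N8242 = N10039 := rfl
theorem L122415 : sm gb N10039 = N8300 := ded_23_1 (flp_i L65356) (flp_b L64897) L122413
theorem L122417 : sm gd N10039 = N8509 := ded_34_1 (flp_i L67136) (flp_d L64899) L122413
theorem L122419 : sm gf N10039 = N8243 := ded_41_1 (flp_i L64902) L64895 L122413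
theorem L122421 : sm gh N8243 = N10040 := rfl
theorem L122423 : sm gb N10040 = N8301 := ded_22_1 (flp_h L65363) (flp_b L64904) L122421
theorem L122425 : sm ge N10040 = N8244 := ded_37_1 (flp_h L64911) (flp_e L64908) L122421
theorem L122427 : sm gg N10040 = N10040 := ded_42_1 (flp_h L122421) L64910 L122421
theorem L122428 : sm gi N10040 = N10040 := ded_44_2 (flp_h L122421) (flp_i L64902) L47494 L64902 L122421
theorem L122429 : sm gd N8245 = N10041 := rfl
theorem L122431 : sm gb N10041 = N8250 := ded_18_1 (flp_d L64958) (flp_b L64921) L122429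
theorem L122433 : sm gf N10041 = N8246 := ded_31_2 (flp_d L64928) (flp_f L64924) L122429
theorem L122435 : sm gg N10041 = N8463 := ded_32_2 L93018 (flp_g L64926) L122429
theorem L122437 : sm gh N10041 = N10041 := ded_33_2 (flp_d L122429) (flp_h L64919) L47508 L64919 L122429
theorem L122438 : sm gi N8245 = N10042 := rfl
theorem L122440 : sm gb N10042 = N8251 := ded_23_1 (flp_i L64965) (flp_b L64921) L122438
theorem L122442 : sm ge N10042 = N10042 := ded_38_1 (flp_i L122438) L64923 L122438
theorem L122443 : sm gf N10042 = N8247 := ded_41_1 (flp_i L64935) (flp_f L64924) L122438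
theorem L122445 : sm gg N10042 = N8512 := ded_43_1 (flp_i L67160) (flp_g L64926) L122438
theorem L122447 : sm gh N10042 = N8316 := ded_44_1 (flp_i L65488) L47920 (flp_i L92327) L64919 L122438
theorem L122449 : sm gc N8246 = N10043 := rfl
theorem L122451 : sm ge N10043 = N9360 := ded_25_2 (flp_c L121944) L121946 L122449
theorem L122453 : sm gg N10043 = N8248 := ded_27_2 (flp_c L64945) (flp_g L64932) L122449
theorem L122455 : sm gh N10043 = N10043 := ded_28_2 (flp_c L122449) L64934 L122449
theorem L122456 : sm gi N8246 = N10044 := rfl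
theorem L122458 : sm gb N10044 = N8253 := ded_23_1 (flp_i L64983) (flp_b L64930) L122456
theorem L122460 : sm gd N10044 = N8247 := ded_34_1 (flp_i L64935) L64928 L122456
theorem L122462 : sm gg N10044 = N8249 := ded_43_1 (flp_i L64950) (flp_g L64932) L122456
theorem L122464 : sm gb N8248 = N10045 := rfl
theorem L122466 : sm gf N10045 = N8515 := ded_20_2 (flp_b L67182) (flp_f L64947) L122464
theorem L122468 : sm gh N10045 = N10045 := ded_22_2 (flp_b L122464) L64949 L122464
theorem L122469 : sm gc N10045 = N8254 := ded_17_2 (flp_b L64989) (flp_c L47572) (flp_b L47524) L64945 L122464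
theorem L122471 : sm gi N8248 = N10046 := rfl
theorem L122473 : sm gc N10046 = N8249 := ded_29_1 (flp_i L64950) L64945 L122471
theorem L122475 : sm gf N10046 = N8516 := ded_41_1 (flp_i L67188) (flp_f L64947) L122471
theorem L122477 : sm gh N8249 = N10047 := rfl
theorem L122479 : sm gb N10047 = N8256 := ded_22_1 (flp_h L65004) (flp_b L64952) L122477
theorem L122481 : sm gf N10047 = N8517 := ded_40_1 (flp_h L67193) (flp_f L64956) L122477
theorem L122483 : sm gd N10047 = N9903 := ded_33_1 (flp_h L121313) L61122 (flp_h L47537) (flp_d L64954) L122477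
theorem L122485 : sm gi N10047 = N10047 := ded_44_2 (flp_h L122477) (flp_i L64950) L47528 L64950 L122477
theorem L122486 : sm ge N8250 = N10048 := rfl
theorem L122488 : sm ga N10048 = N9991 := ded_12_1 L122001 (flp_a L103659) L122486
theorem L122490 : sm gc N10048 = N8419 := ded_25_1 L66359 (flp_c L103661) L122486
theorem L122492 : sm gg N10048 = N8421 := ded_36_2 L66376 (flp_g L103663) L122486
theorem L122494 : sm gh N10048 = N10048 := ded_37_2 (flp_e L122486) L64964 L122486
theorem L122495 : sm gd N10048 = N10048 := ded_30_1 (flp_e L122486) (flp_d L64958) L47552 L64958 L122486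
theorem L122496 : sm gi N8250 = N10049 := rfl
theorem L122498 : sm gc N10049 = N8462 := ded_29_1 (flp_i L66764) (flp_c L103661) L122496
theorem L122500 : sm gd N10049 = N8251 := ded_34_1 (flp_i L64965) L64958 L122496
theorem L122502 : sm gf N10049 = N8253 := ded_41_1 (flp_i L64983) (flp_f L64960) L122496
theorem L122504 : sm gg N10049 = N8464 := ded_43_1 (flp_i L66779) (flp_g L103663) L122496
theorem L122506 : sm gb N8252 = N10050 := rfl
theorem L122508 : sm gd N10050 = N8312 := ded_18_2 (flp_b L65458) (flp_d L64981) L122506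
theorem L122510 : sm gf N10050 = N8455 := ded_20_2 L66705 (flp_f L93139) L122506
theorem L122512 : sm gg N10050 = N8254 := ded_21_2 (flp_b L64989) (flp_g L64978) L122506
theorem L122514 : sm gh N10050 = N10050 := ded_22_2 (flp_b L122506) L64980 L122506
theorem L122515 : sm gi N8252 = N10051 := rfl
theorem L122517 : sm ga N10051 = N10049 := ded_16_1 (flp_i L122496) L103659 L122515
theorem L122519 : sm gc N10051 = N8253 := ded_29_1 (flp_i L64983) L64976 L122515
theorem L122521 : sm gd N10051 = N8313 := ded_34_1 (flp_i L65465) (flp_d L64981) L122515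
theorem L122523 : sm gf N10051 = N8462 := ded_41_1 (flp_i L66764) (flp_f L93139) L122515
theorem L122525 : sm gg N10051 = N8255 := ded_43_1 (flp_i L64996) (flp_g L64978) L122515
theorem L122527 : sm gh N8253 = N10052 := rfl
theorem L122529 : sm gg N10052 = N8256 := ded_42_1 (flp_h L65004) (flp_g L64987) L122527
theorem L122531 : sm gd N10052 = N8526 := ded_33_1 (flp_h L67253) L49160 (flp_h L109193) (flp_d L64985) L122527
theorem L122533 : sm gi N10052 = N10052 := ded_44_2 (flp_h L122527) (flp_i L64983) L47561 L64983 L122527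
theorem L122534 : sm ga N8254 = N10053 := rfl
theorem L122536 : sm gd N10053 = N8315 := ded_11_2 (flp_a L65481) (flp_d L64991) L122534
theorem L122538 : sm gf N10053 = N8524 := ded_13_2 (flp_a L67240) (flp_f L64993) L122534
theorem L122540 : sm gh N10053 = N10053 := ded_15_2 (flp_a L122534) L64995 L122534
theorem L122541 : sm gi N8254 = N10054 := rfl
theorem L122543 : sm gb N10054 = N8255 := ded_23_1 (flp_i L64996) L64989 L122541
theorem L122545 : sm gd N10054 = N8316 := ded_34_1 (flp_i L65488) (flp_d L64991) L122541
theorem L122547 : sm gf N10054 = N8525 := ded_41_1 (flp_i L67246) (flp_f L64993) L122541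
theorem L122549 : sm gh N8255 = N10055 := rfl
theorem L122551 : sm gc N10055 = N8256 := ded_28_1 (flp_h L65004) (flp_c L64998) L122549
theorem L122553 : sm gf N10055 = N8526 := ded_40_1 (flp_h L67253) (flp_f L65002) L122549
theorem L122555 : sm gi N10055 = N10055 := ded_44_2 (flp_h L122549) (flp_i L64996) L47576 L64996 L122549
theorem L122556 : sm gc N8257 = N10056 := rfl
theorem L122558 : sm ge N10056 = N10056 := ded_25_2 (flp_c L122556) L65019 L122556
theorem L122559 : sm gf N10056 = N8588 := ded_26_2 (flp_c L67801) (flp_f L65015) L122556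
theorem L122561 : sm gi N10056 = N9904 := ded_29_2 (flp_c L121319) (flp_i L65017) L122556
theorem L122563 : sm gb N10056 = N8318 := ded_17_1 (flp_c L65504) L47941 (flp_c L47630) (flp_b L65013) L122556
theorem L122565 : sm gg N8257 = N10057 := rfl
theorem L122567 : sm gb N10057 = N8266 := ded_21_1 (flp_g L65078) (flp_b L65013) L122565
theorem L122569 : sm gd N10057 = N8258 := ded_32_1 (flp_g L65020) L65011 L122565
theorem L122571 : sm ge N10057 = N10057 := ded_36_1 (flp_g L122565) L65019 L122565
theorem L122572 : sm gi N10057 = N8780 := ded_43_2 (flp_g L120817) (flp_i L65017) L122565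
theorem L122574 : sm gh N8257 = N10058 := rfl
theorem L122576 : sm gb N10058 = N8267 := ded_22_1 (flp_h L65089) (flp_b L65013) L122574
theorem L122578 : sm ge N10058 = N10058 := ded_37_1 (flp_h L122574) L65019 L122574
theorem L122579 : sm gf N10058 = N8590 := ded_40_1 (flp_h L67815) (flp_f L65015) L122574
theorem L122581 : sm gf N8258 = N10059 := rfl
theorem L122583 : sm gb N10059 = N8268 := ded_20_1 (flp_f L65098) (flp_b L65022) L122581
theorem L122585 : sm gi N10059 = N8350 := ded_41_2 L65795 L94168 L122581
theorem L122587 : sm ge N10059 = N10059 := ded_35_1 (flp_f L122581) L65024 L47600 (flp_e L65024) L122581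
theorem L122588 : sm gg N10059 = N8591 := ded_39_2 (flp_f L67821) (flp_g L49567) (flp_f L47591) L65020 L122581
theorem L122590 : sm gh N8258 = N10060 := rfl
theorem L122592 : sm gb N10060 = N8269 := ded_22_1 (flp_h L65109) (flp_b L65022) L122590
theorem L122594 : sm ge N10060 = N8260 := ded_37_1 (flp_h L65036) (flp_e L65024) L122590
theorem L122596 : sm gg N10060 = N8259 := ded_42_1 (flp_h L65028) L65020 L122590
theorem L122598 : sm gd N8259 = N10061 := rfl
theorem L122600 : sm gb N10061 = N8270 := ded_18_1 (flp_d L65119) (flp_b L65030) L122598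
theorem L122602 : sm gf N10061 = N8593 := ded_31_2 (flp_d L67834) (flp_f L65034) L122598
theorem L122604 : sm gi N8259 = N10062 := rfl
theorem L122606 : sm gb N10062 = N8271 := ded_23_1 (flp_i L65125) (flp_b L65030) L122604
theorem L122608 : sm ge N10062 = N8262 := ded_38_1 (flp_i L65050) (flp_e L65032) L122604
theorem L122610 : sm gf N10062 = N8594 := ded_41_1 (flp_i L67838) (flp_f L65034) L122604
theorem L122612 : sm gh N10062 = N9907 := ded_44_1 (flp_i L121335) (flp_h L61194) (flp_i L47589) L65028 L122604
theorem L122614 : sm gd N8260 = N10063 := rfl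
theorem L122616 : sm gb N10063 = N8272 := ded_18_1 (flp_d L65137) (flp_b L65038) L122614
theorem L122618 : sm gf N10063 = N10063 := ded_31_2 (flp_d L122614) L65040 L122614
theorem L122619 : sm gg N10063 = N8261 := ded_32_2 (flp_d L65043) (flp_g L65041) L122614
theorem L122621 : sm gh N10063 = N10063 := ded_33_2 (flp_d L122614) (flp_h L65036) L47597 L65036 L122614
theorem L122622 : sm gi N8260 = N10064 := rfl
theorem L122624 : sm gb N10064 = N8273 := ded_23_1 (flp_i L65146) (flp_b L65038) L122622
theorem L122626 : sm gf N10064 = N10064 := ded_41_1 (flp_i L122622) L65040 L122622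
theorem L122627 : sm gg N10064 = N8262 := ded_43_1 (flp_i L65050) (flp_g L65041) L122622
theorem L122629 : sm gh N10064 = N8881 := ded_44_1 (flp_i L70092) L51200 L102820 L65036 L122622
theorem L122631 : sm gc N8261 = N10065 := rfl
theorem L122633 : sm gf N10065 = N8263 := ded_26_2 (flp_c L65058) (flp_f L65047) L122631
theorem L122635 : sm gh N10065 = N10065 := ded_28_2 (flp_c L122631) L65049 L122631
theorem L122636 : sm gb N10065 = N10065 := ded_17_1 (flp_c L122631) L65045 L47668 (flp_b L65045) L122631
theorem L122637 : sm ge N8261 = N10066 := rfl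
theorem L122639 : sm gb N10066 = N8274 := ded_19_1 (flp_e L65157) (flp_b L65045) L122637
theorem L122641 : sm gh N10066 = N10066 := ded_37_2 (flp_e L122637) L65049 L122637
theorem L122642 : sm gi N8261 = N10067 := rfl
theorem L122644 : sm gb N10067 = N8275 := ded_23_1 (flp_i L65163) (flp_b L65045) L122642
theorem L122646 : sm gd N10067 = N8262 := ded_34_1 (flp_i L65050) L65043 L122642
theorem L122648 : sm gf N10067 = N8265 := ded_41_1 (flp_i L65071) (flp_f L65047) L122642
theorem L122650 : sm ge N8263 = N10068 := rfl
theorem L122652 : sm gb N10068 = N10068 := ded_19_1 (flp_e L122650) L65062 L122650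
theorem L122653 : sm gc N10068 = N8264 := ded_25_1 (flp_e L65063) L65058 L122650
theorem L122655 : sm gg N10068 = N10068 := ded_36_2 (flp_e L122650) L65060 L122650
theorem L122656 : sm gh N10068 = N10068 := ded_37_2 (flp_e L122650) L65061 L122650
theorem L122657 : sm gi N8263 = N10069 := rfl
theorem L122659 : sm gb N10069 = N10069 := ded_23_1 (flp_i L122657) L65062 L122657
theorem L122660 : sm gc N10069 = N8265 := ded_29_1 (flp_i L65071) L65058 L122657
theorem L122662 : sm gg N10069 = N10069 := ded_43_1 (flp_i L122657) L65060 L122657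
theorem L122663 : sm gf N8264 = N10070 := rfl
theorem L122665 : sm gb N10070 = N8276 := ded_20_1 (flp_f L65172) (flp_b L65065) L122663
theorem L122667 : sm gd N10070 = N8602 := ded_31_1 (flp_f L67898) (flp_d L65069) L122663
theorem L122669 : sm gh N10070 = N10070 := ded_40_2 (flp_f L122663) L65068 L122663
theorem L122670 : sm gi N8264 = N10071 := rfl
theorem L122672 : sm gb N10071 = N8277 := ded_23_1 (flp_i L65180) (flp_b L65065) L122670
theorem L122674 : sm gd N10071 = N8603 := ded_34_1 (flp_i L67904) (flp_d L65069) L122670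
theorem L122676 : sm ge N10071 = N8265 := ded_38_1 (flp_i L65071) L65063 L122670
theorem L122678 : sm gg N10071 = N10071 := ded_43_1 (flp_i L122670) L65067 L122670
theorem L122679 : sm gh N8265 = N10072 := rfl
theorem L122681 : sm gb N10072 = N8278 := ded_22_1 (flp_h L65190) (flp_b L65073) L122679
theorem L122683 : sm gg N10072 = N10072 := ded_42_1 (flp_h L122679) L65077 L122679
theorem L122684 : sm gd N10072 = N9915 := ded_33_1 (flp_h L121394) L61244 (flp_h L47620) (flp_d L65075) L122679
theorem L122686 : sm gi N10072 = N10072 := ded_44_2 (flp_h L122679) (flp_i L65071) L47612 L65071 L122679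
theorem L122687 : sm gf N8266 = N10073 := rfl
theorem L122689 : sm ga N10073 = N8284 := ded_13_1 (flp_f L65245) (flp_a L65080) L122687
theorem L122691 : sm gc N10073 = N8332 := ded_26_1 (flp_f L65632) (flp_c L65082) L122687
theorem L122693 : sm gd N10073 = N8268 := ded_31_1 (flp_f L65098) (flp_d L65084) L122687
theorem L122695 : sm gi N10073 = N8339 := ded_41_2 L65700 (flp_i L102500) L122687
theorem L122697 : sm gg N10073 = N8605 := ded_39_2 (flp_f L67918) (flp_g L49621) (flp_f L47626) L65078 L122687
theorem L122699 : sm gh N8266 = N10074 := rfl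
theorem L122701 : sm ga N10074 = N8285 := ded_15_1 (flp_h L65255) (flp_a L65080) L122699
theorem L122703 : sm gc N10074 = N8333 := ded_28_1 (flp_h L65642) (flp_c L65082) L122699
theorem L122705 : sm ge N10074 = N10074 := ded_37_1 (flp_h L122699) L65086 L122699
theorem L122706 : sm gg N10074 = N8267 := ded_42_1 (flp_h L65089) L65078 L122699
theorem L122708 : sm gd N8267 = N10075 := rfl
theorem L122710 : sm ga N10075 = N8286 := ded_11_1 (flp_d L65262) (flp_a L65091) L122708
theorem L122712 : sm gf N10075 = N8607 := ded_31_2 (flp_d L67936) (flp_f L65096) L122708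
theorem L122714 : sm gh N10075 = N8270 := ded_33_2 (flp_d L65119) (flp_h L47643) L47622 L65089 L122708
theorem L122716 : sm gi N8267 = N10076 := rfl
theorem L122718 : sm ga N10076 = N8287 := ded_16_1 (flp_i L65268) (flp_a L65091) L122716
theorem L122720 : sm gc N10076 = N8335 := ded_29_1 (flp_i L65657) (flp_c L65093) L122716
theorem L122722 : sm ge N10076 = N10076 := ded_38_1 (flp_i L122716) L65095 L122716
theorem L122723 : sm gf N10076 = N8608 := ded_41_1 (flp_i L67942) (flp_f L65096) L122716
theorem L122725 : sm gh N10076 = N9917 := ded_44_1 (flp_i L121406) (flp_h L61256) (flp_i L47628) L65089 L122716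
theorem L122727 : sm gh N8268 = N10077 := rfl
theorem L122729 : sm ga N10077 = N8288 := ded_15_1 (flp_h L65277) (flp_a L65100) L122727
theorem L122731 : sm gc N10077 = N8279 := ded_28_1 (flp_h L65199) (flp_c L65102) L122727
theorem L122733 : sm ge N10077 = N10077 := ded_37_1 (flp_h L122727) L65106 L122727
theorem L122734 : sm gf N10077 = N8269 := ded_40_1 (flp_h L65109) L65098 L122727
theorem L122736 : sm gg N10077 = N8552 := ded_42_1 L94206 (flp_g L65107) L122727
theorem L122738 : sm gd N8269 = N10078 := rfl
theorem L122740 : sm ga N10078 = N8289 := ded_11_1 (flp_d L65286) (flp_a L65111) L122738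
theorem L122742 : sm gg N10078 = N8270 := ded_32_2 (flp_d L65119) (flp_g L65117) L122738
theorem L122744 : sm gi N8269 = N10079 := rfl
theorem L122746 : sm ga N10079 = N8290 := ded_16_1 (flp_i L65290) (flp_a L65111) L122744
theorem L122748 : sm gc N10079 = N8281 := ded_29_1 (flp_i L65217) (flp_c L65113) L122744
theorem L122750 : sm ge N10079 = N8273 := ded_38_1 (flp_i L65146) (flp_e L65115) L122744
theorem L122752 : sm gg N10079 = N8271 := ded_43_1 (flp_i L65125) (flp_g L65117) L122744
theorem L122754 : sm gh N10079 = N8628 := ded_44_1 (flp_i L68111) L49763 (flp_i L104376) L65109 L122744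
theorem L122756 : sm gc N8270 = N10080 := rfl
theorem L122758 : sm ga N10080 = N8291 := ded_10_1 (flp_c L65300) (flp_a L65121) L122756
theorem L122760 : sm gf N10080 = N8612 := ded_26_2 (flp_c L67975) (flp_f L65123) L122756
theorem L122762 : sm gd N10080 = N8282 := ded_24_2 (flp_c L65227) (flp_d L47716) (flp_c L47647) L65119 L122756
theorem L122764 : sm ge N8270 = N10081 := rfl
theorem L122766 : sm ga N10081 = N8292 := ded_12_1 (flp_e L65306) (flp_a L65121) L122764
theorem L122768 : sm gd N10081 = N8274 := ded_30_1 (flp_e L65157) (flp_d L47662) (flp_e L47649) L65119 L122764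
theorem L122770 : sm gi N8270 = N10082 := rfl
theorem L122772 : sm ga N10082 = N8293 := ded_16_1 (flp_i L65310) (flp_a L65121) L122770
theorem L122774 : sm gd N10082 = N8271 := ded_34_1 (flp_i L65125) L65119 L122770
theorem L122776 : sm gf N10082 = N8614 := ded_41_1 (flp_i L67987) (flp_f L65123) L122770
theorem L122778 : sm ge N8272 = N10083 := rfl
theorem L122780 : sm ga N10083 = N8294 := ded_12_1 (flp_e L65316) (flp_a L65139) L122778
theorem L122782 : sm gc N10083 = N10083 := ded_25_1 (flp_e L122778) L65144 L122778
theorem L122783 : sm gg N10083 = N8274 := ded_36_2 (flp_e L65157) (flp_g L65142) L122778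
theorem L122785 : sm gh N10083 = N10083 := ded_37_2 (flp_e L122778) L65145 L122778
theorem L122786 : sm gi N8272 = N10084 := rfl
theorem L122788 : sm ga N10084 = N8295 := ded_16_1 (flp_i L65322) (flp_a L65139) L122786
theorem L122790 : sm gc N10084 = N10084 := ded_29_1 (flp_i L122786) L65144 L122786
theorem L122791 : sm gd N10084 = N8273 := ded_34_1 (flp_i L65146) L65137 L122786
theorem L122793 : sm gf N10084 = N10084 := ded_41_1 (flp_i L122786) L65141 L122786
theorem L122794 : sm gg N10084 = N8275 := ded_43_1 (flp_i L65163) (flp_g L65142) L122786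
theorem L122796 : sm gf N8274 = N10085 := rfl
theorem L122798 : sm ga N10085 = N8296 := ded_13_1 (flp_f L65330) (flp_a L65159) L122796
theorem L122800 : sm gc N10085 = N10085 := ded_26_1 (flp_f L122796) L65161 L122796
theorem L122801 : sm gh N10085 = N10085 := ded_40_2 (flp_f L122796) L65162 L122796
theorem L122802 : sm ge N10085 = N8276 := ded_35_1 (flp_f L65172) (flp_e L47680) (flp_f L47666) L65157 L122796
theorem L122804 : sm gi N8274 = N10086 := rfl
theorem L122806 : sm ga N10086 = N8297 := ded_16_1 (flp_i L65336) (flp_a L65159) L122804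
theorem L122808 : sm gc N10086 = N10086 := ded_29_1 (flp_i L122804) L65161 L122804
theorem L122809 : sm ge N10086 = N8275 := ded_38_1 (flp_i L65163) L65157 L122804
theorem L122811 : sm gh N8275 = N10087 := rfl
theorem L122813 : sm ga N10087 = N8298 := ded_15_1 (flp_h L65341) (flp_a L65165) L122811
theorem L122815 : sm gc N10087 = N10087 := ded_28_1 (flp_h L122811) L65167 L122811
theorem L122816 : sm gf N10087 = N8278 := ded_40_1 (flp_h L65190) (flp_f L65170) L122811
theorem L122818 : sm gd N10087 = N9922 := ded_33_1 (flp_h L121442) L61324 (flp_h L47678) (flp_d L65168) L122811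
theorem L122820 : sm gi N10087 = N10087 := ded_44_2 (flp_h L122811) (flp_i L65163) L47669 L65163 L122811
theorem L122821 : sm gg N8276 = N10088 := rfl
theorem L122823 : sm ga N10088 = N8299 := ded_14_1 (flp_g L65349) (flp_a L65174) L122821
theorem L122825 : sm gc N10088 = N10088 := ded_27_1 (flp_g L122821) L65176 L122821
theorem L122826 : sm gd N10088 = N8620 := ded_32_1 (flp_g L68042) (flp_d L65177) L122821
theorem L122828 : sm gh N10088 = N10088 := ded_42_2 (flp_g L122821) L65179 L122821
theorem L122829 : sm gf N10088 = N10088 := ded_39_1 (flp_g L122821) (flp_f L65172) L47685 L65172 L122821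
theorem L122830 : sm gi N8276 = N10089 := rfl
theorem L122832 : sm ga N10089 = N8300 := ded_16_1 (flp_i L65356) (flp_a L65174) L122830
theorem L122834 : sm gc N10089 = N10089 := ded_29_1 (flp_i L122830) L65176 L122830
theorem L122835 : sm gd N10089 = N8621 := ded_34_1 (flp_i L68051) (flp_d L65177) L122830
theorem L122837 : sm gf N10089 = N8277 := ded_41_1 (flp_i L65180) L65172 L122830
theorem L122839 : sm gh N8277 = N10090 := rfl
theorem L122841 : sm ga N10090 = N8301 := ded_15_1 (flp_h L65363) (flp_a L65182) L122839
theorem L122843 : sm gc N10090 = N10090 := ded_28_1 (flp_h L122839) L65184 L122839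
theorem L122844 : sm ge N10090 = N8278 := ded_37_1 (flp_h L65190) (flp_e L65187) L122839
theorem L122846 : sm gg N10090 = N10090 := ded_42_1 (flp_h L122839) L65189 L122839
theorem L122847 : sm gi N10090 = N10090 := ded_44_2 (flp_h L122839) (flp_i L65180) L47686 L65180 L122839
theorem L122848 : sm gi N8279 = N10091 := rfl
theorem L122850 : sm ga N10091 = N8303 := ded_16_1 (flp_i L65380) (flp_a L65201) L122848
theorem L122852 : sm gd N10091 = N8551 := ded_34_1 (flp_i L67489) (flp_d L104622) L122848
theorem L122854 : sm ge N10091 = N10091 := ded_38_1 (flp_i L122848) L65203 L122848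
theorem L122855 : sm gf N10091 = N8281 := ded_41_1 (flp_i L65217) (flp_f L65204) L122848
theorem L122857 : sm gg N10091 = N8553 := ded_43_1 (flp_i L67510) (flp_g L104625) L122848
theorem L122859 : sm gh N10091 = N8283 := ded_44_1 (flp_i L65236) L47723 L104633 L65199 L122848
theorem L122861 : sm gc N8280 = N10092 := rfl
theorem L122863 : sm ga N10092 = N8304 := ded_10_1 (flp_c L65391) (flp_a L65210) L122861
theorem L122865 : sm ge N10092 = N10092 := ded_25_2 (flp_c L122861) L65214 L122861
theorem L122866 : sm gf N10092 = N8539 := ded_26_2 L67377 (flp_f L91670) L122861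
theorem L122868 : sm gg N10092 = N8282 := ded_27_2 (flp_c L65227) (flp_g L65212) L122861
theorem L122870 : sm gh N10092 = N8348 := ded_28_2 (flp_c L65776) (flp_h L65215) L122861
theorem L122872 : sm gi N8280 = N10093 := rfl
theorem L122874 : sm ga N10093 = N8305 := ded_16_1 (flp_i L65398) (flp_a L65210) L122872
theorem L122876 : sm gb N10093 = N10091 := ded_23_1 (flp_i L122848) L104620 L122872
theorem L122878 : sm gd N10093 = N8281 := ded_34_1 (flp_i L65217) L65208 L122872
theorem L122880 : sm ge N10093 = N10093 := ded_38_1 (flp_i L122872) L65214 L122872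
theorem L122881 : sm gf N10093 = N8551 := ded_41_1 (flp_i L67489) (flp_f L91670) L122872
theorem L122883 : sm gg N10093 = N8283 := ded_43_1 (flp_i L65236) (flp_g L65212) L122872
theorem L122885 : sm gh N10093 = N8553 := ded_44_1 (flp_i L67510) (flp_h L104664) L111338 (flp_h L65215) L122872
theorem L122887 : sm gb N8282 = N10094 := rfl
theorem L122889 : sm ge N10094 = N10094 := ded_19_2 (flp_b L122887) L65231 L122887
theorem L122890 : sm gf N10094 = N8627 := ded_20_2 (flp_b L68105) (flp_f L65232) L122887
theorem L122892 : sm gh N10094 = N8350 := ded_22_2 (flp_b L65792) (flp_h L65234) L122887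
theorem L122894 : sm gi N8282 = N10095 := rfl
theorem L122896 : sm ga N10095 = N8307 := ded_16_1 (flp_i L65416) (flp_a L65229) L122894
theorem L122898 : sm gc N10095 = N8283 := ded_29_1 (flp_i L65236) L65227 L122894
theorem L122900 : sm ge N10095 = N10095 := ded_38_1 (flp_i L122894) L65231 L122894
theorem L122901 : sm gf N10095 = N8628 := ded_41_1 (flp_i L68111) (flp_f L65232) L122894
theorem L122903 : sm ge N8284 = N10096 := rfl
theorem L122905 : sm gb N10096 = N9271 := ded_19_1 L122286 L122277 L122903
theorem L122907 : sm gc N10096 = N8353 := ded_25_1 (flp_e L65815) (flp_c L65247) L122903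
theorem L122909 : sm gg N10096 = N8630 := ded_36_2 (flp_e L68127) (flp_g L65253) L122903
theorem L122911 : sm gi N10096 = N8366 := ded_38_2 (flp_e L65914) L110615 L122903
theorem L122913 : sm gd N10096 = N10096 := ded_30_1 (flp_e L122903) L65249 L47767 (flp_d L65249) L122903
theorem L122914 : sm gf N10096 = N10096 := ded_35_2 (flp_e L122903) (flp_f L65245) L47751 L65245 L122903
theorem L122915 : sm gh N8284 = N10097 := rfl
theorem L122917 : sm gc N10097 = N8354 := ded_28_1 (flp_h L65825) (flp_c L65247) L122915
theorem L122919 : sm gf N10097 = N8285 := ded_40_1 (flp_h L65255) L65245 L122915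
theorem L122921 : sm gg N10097 = N8631 := ded_42_1 (flp_h L68134) (flp_g L65253) L122915
theorem L122923 : sm gd N8285 = N10098 := rfl
theorem L122925 : sm gg N10098 = N8286 := ded_32_2 (flp_d L65262) (flp_g L65260) L122923
theorem L122927 : sm gh N10098 = N8289 := ded_33_2 (flp_d L65286) (flp_h L47770) (flp_d L47749) L65255 L122923
theorem L122929 : sm gi N8285 = N10099 := rfl
theorem L122931 : sm gc N10099 = N8356 := ded_29_1 (flp_i L65839) (flp_c L65257) L122929
theorem L122933 : sm ge N10099 = N10099 := ded_38_1 (flp_i L122929) L65259 L122929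
theorem L122934 : sm gg N10099 = N8287 := ded_43_1 (flp_i L65268) (flp_g L65260) L122929
theorem L122936 : sm gh N10099 = N8798 := ded_44_1 (flp_i L69469) L50745 (flp_i L110661) L65255 L122929
theorem L122938 : sm gc N8286 = N10100 := rfl
theorem L122940 : sm gf N10100 = N8634 := ded_26_2 (flp_c L68154) (flp_f L65264) L122938
theorem L122942 : sm gh N10100 = N8291 := ded_28_2 (flp_c L65300) (flp_h L65266) L122938
theorem L122944 : sm gd N10100 = N8357 := ded_24_2 (flp_c L65847) (flp_d L48173) (flp_c L47756) L65262 L122938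
theorem L122946 : sm ge N8286 = N10101 := rfl
theorem L122948 : sm gh N10101 = N8292 := ded_37_2 (flp_e L65306) (flp_h L65266) L122946
theorem L122950 : sm gd N10101 = N10101 := ded_30_1 (flp_e L122946) (flp_d L65262) L47758 L65262 L122946
theorem L122951 : sm gi N8286 = N10102 := rfl
theorem L122953 : sm gd N10102 = N8287 := ded_34_1 (flp_i L65268) L65262 L122951
theorem L122955 : sm gf N10102 = N8636 := ded_41_1 (flp_i L68166) (flp_f L65264) L122951
theorem L122957 : sm gd N8288 = N10103 := rfl
theorem L122959 : sm gf N10103 = N8289 := ded_31_2 (flp_d L65286) (flp_f L65282) L122957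
theorem L122961 : sm gg N10103 = N8561 := ded_32_2 L67582 L103608 L122957
theorem L122963 : sm gc N10103 = N8559 := ded_24_1 (flp_d L67564) L49379 L102286 (flp_c L65279) L122957
theorem L122965 : sm gi N8288 = N10104 := rfl
theorem L122967 : sm gc N10104 = N8303 := ded_29_1 (flp_i L65380) (flp_c L65279) L122965
theorem L122969 : sm ge N10104 = N10104 := ded_38_1 (flp_i L122965) L65281 L122965
theorem L122970 : sm gf N10104 = N8290 := ded_41_1 (flp_i L65290) (flp_f L65282) L122965
theorem L122972 : sm gg N10104 = N8577 := ded_43_1 (flp_i L67699) L103608 L122965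
theorem L122974 : sm gh N10104 = N8307 := ded_44_1 (flp_i L65416) L47873 L92113 L65277 L122965
theorem L122976 : sm gc N8289 = N10105 := rfl
theorem L122978 : sm gf N10105 = N8559 := ded_26_2 (flp_c L122963) L122959 L122976
theorem L122980 : sm gg N10105 = N8291 := ded_27_2 (flp_c L65300) (flp_g L65288) L122976
theorem L122982 : sm gd N10105 = N8304 := ded_24_2 (flp_c L65391) (flp_d L47849) (flp_c L47772) L65286 L122976
theorem L122984 : sm ge N8289 = N10106 := rfl
theorem L122986 : sm gg N10106 = N8292 := ded_36_2 (flp_e L65306) (flp_g L65288) L122984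
theorem L122988 : sm gd N10106 = N8294 := ded_30_1 (flp_e L65316) (flp_d L47792) (flp_e L47774) L65286 L122984
theorem L122990 : sm gi N8289 = N10107 := rfl
theorem L122992 : sm gd N10107 = N8290 := ded_34_1 (flp_i L65290) L65286 L122990
theorem L122994 : sm gg N10107 = N8293 := ded_43_1 (flp_i L65310) (flp_g L65288) L122990
theorem L122996 : sm gb N8291 = N10108 := rfl
theorem L122998 : sm gd N10108 = N8306 := ded_18_2 (flp_b L65407) (flp_d L65304) L122996
theorem L123000 : sm gf N10108 = N8642 := ded_20_2 (flp_b L68199) (flp_f L65302) L122996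
theorem L123002 : sm ge N8291 = N10109 := rfl
theorem L123004 : sm gc N10109 = N8292 := ded_25_1 (flp_e L65306) L65300 L123002
theorem L123006 : sm gd N10109 = N10109 := ded_30_1 (flp_e L123002) L65304 L47870 (flp_d L65304) L123002
theorem L123007 : sm gi N8291 = N10110 := rfl
theorem L123009 : sm gc N10110 = N8293 := ded_29_1 (flp_i L65310) L65300 L123007
theorem L123011 : sm gd N10110 = N8307 := ded_34_1 (flp_i L65416) (flp_d L65304) L123007
theorem L123013 : sm gf N10110 = N8644 := ded_41_1 (flp_i L68209) (flp_f L65302) L123007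
theorem L123015 : sm gf N8292 = N10111 := rfl
theorem L123017 : sm gd N10111 = N8296 := ded_31_1 (flp_f L65330) (flp_d L65308) L123015
theorem L123019 : sm ge N10111 = N8645 := ded_35_1 (flp_f L68215) (flp_e L49820) (flp_f L47780) L65306 L123015
theorem L123021 : sm gi N8292 = N10112 := rfl
theorem L123023 : sm gd N10112 = N8297 := ded_34_1 (flp_i L65336) (flp_d L65308) L123021
theorem L123025 : sm ge N10112 = N8293 := ded_38_1 (flp_i L65310) L65306 L123021
theorem L123027 : sm gh N8293 = N10113 := rfl
theorem L123029 : sm gf N10113 = N8647 := ded_40_1 (flp_h L68225) (flp_f L65314) L123027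
theorem L123031 : sm gd N10113 = N9930 := ded_33_1 (flp_h L121496) L61452 (flp_h L47790) (flp_d L65312) L123027
theorem L123033 : sm gf N8294 = N10114 := rfl
theorem L123035 : sm gb N10114 = N9472 := ded_20_1 L122372 L122365 L123033
theorem L123037 : sm gc N10114 = N10114 := ded_26_1 (flp_f L123033) L65318 L123033
theorem L123038 : sm gh N10114 = N10114 := ded_40_2 (flp_f L123033) L65321 L123033
theorem L123039 : sm ge N10114 = N10114 := ded_35_1 (flp_f L123033) (flp_e L65316) L47794 L65316 L123033
theorem L123040 : sm gi N8294 = N10115 := rfl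
theorem L123042 : sm gc N10115 = N10115 := ded_29_1 (flp_i L123040) L65318 L123040
theorem L123043 : sm ge N10115 = N8295 := ded_38_1 (flp_i L65322) L65316 L123040
theorem L123045 : sm gg N10115 = N8297 := ded_43_1 (flp_i L65336) (flp_g L65319) L123040
theorem L123047 : sm gh N8295 = N10116 := rfl
theorem L123049 : sm gc N10116 = N10116 := ded_28_1 (flp_h L123047) L65324 L123047
theorem L123050 : sm gf N10116 = N10116 := ded_40_1 (flp_h L123047) L65327 L123047
theorem L123051 : sm gg N10116 = N8298 := ded_42_1 (flp_h L65341) (flp_g L65328) L123047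
theorem L123053 : sm gd N10116 = N8897 := ded_33_1 (flp_h L70206) L51272 L104492 (flp_d L65325) L123047
theorem L123055 : sm gi N10116 = N10116 := ded_44_2 (flp_h L123047) (flp_i L65322) L47798 L65322 L123047
theorem L123056 : sm gg N8296 = N10117 := rfl
theorem L123058 : sm gc N10117 = N10117 := ded_27_1 (flp_g L123056) L65332 L123056
theorem L123059 : sm ge N10117 = N8299 := ded_36_1 (flp_g L65349) (flp_e L65334) L123056
theorem L123061 : sm gh N10117 = N10117 := ded_42_2 (flp_g L123056) L65333 L123056
theorem L123062 : sm gi N8296 = N10118 := rfl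
theorem L123064 : sm gc N10118 = N10118 := ded_29_1 (flp_i L123062) L65332 L123062
theorem L123065 : sm ge N10118 = N8300 := ded_38_1 (flp_i L65356) (flp_e L65334) L123062
theorem L123067 : sm gf N10118 = N8297 := ded_41_1 (flp_i L65336) L65330 L123062
theorem L123069 : sm gh N8297 = N10119 := rfl
theorem L123071 : sm gc N10119 = N10119 := ded_28_1 (flp_h L123069) L65338 L123069
theorem L123072 : sm ge N10119 = N8298 := ded_37_1 (flp_h L65341) (flp_e L65339) L123069
theorem L123074 : sm gi N10119 = N10119 := ded_44_2 (flp_h L123069) (flp_i L65336) L47811 L65336 L123069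
theorem L123075 : sm gi N8299 = N10120 := rfl
theorem L123077 : sm gc N10120 = N10120 := ded_29_1 (flp_i L123075) L65351 L123075
theorem L123078 : sm gd N10120 = N8654 := ded_34_1 (flp_i L68275) (flp_d L65352) L123075
theorem L123080 : sm gf N10120 = N10120 := ded_41_1 (flp_i L123075) L65355 L123075
theorem L123081 : sm gg N10120 = N8300 := ded_43_1 (flp_i L65356) L65349 L123075
theorem L123083 : sm gh N8300 = N10121 := rfl
theorem L123085 : sm gc N10121 = N10121 := ded_28_1 (flp_h L123083) L65358 L123083
theorem L123086 : sm gf N10121 = N8301 := ded_40_1 (flp_h L65363) (flp_f L65361) L123083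
theorem L123088 : sm gi N10121 = N10121 := ded_44_2 (flp_h L123083) (flp_i L65356) L47824 L65356 L123083
theorem L123089 : sm gd N8301 = N10122 := rfl
theorem L123091 : sm gg N10122 = N10122 := ded_32_2 (flp_d L123089) L65368 L123089
theorem L123092 : sm gi N10122 = N10122 := ded_34_2 (flp_d L123089) L65369 L123089
theorem L123093 : sm ge N10122 = N9936 := ded_30_2 (flp_d L121534) L61506 (flp_d L47837) (flp_e L65366) L123089
theorem L123095 : sm gh N10122 = N8656 := ded_33_2 (flp_d L68290) (flp_h L49880) (flp_d L47828) L65363 L123089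
theorem L123097 : sm gb N8304 = N10123 := rfl
theorem L123099 : sm ge N10123 = N10123 := ded_19_2 (flp_b L123097) L65393 L123097
theorem L123100 : sm gf N10123 = N8444 := ded_20_2 L66608 (flp_f L92132) L123097
theorem L123102 : sm gg N10123 = N8306 := ded_21_2 (flp_b L65407) (flp_g L65394) L123097
theorem L123104 : sm gh N10123 = N8377 := ded_22_2 (flp_b L66003) (flp_h L65396) L123097
theorem L123106 : sm gc N10123 = N8312 := ded_17_2 (flp_b L65458) (flp_c L47901) (flp_b L47851) L65391 L123097
theorem L123108 : sm gi N8304 = N10124 := rfl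
theorem L123110 : sm gc N10124 = N8305 := ded_29_1 (flp_i L65398) L65391 L123108
theorem L123112 : sm ge N10124 = N10124 := ded_38_1 (flp_i L123108) L65393 L123108
theorem L123113 : sm gf N10124 = N8560 := ded_41_1 (flp_i L67568) (flp_f L92132) L123108
theorem L123115 : sm gg N10124 = N8307 := ded_43_1 (flp_i L65416) (flp_g L65394) L123108
theorem L123117 : sm gh N10124 = N8577 := ded_44_1 (flp_i L67699) L103610 L104350 (flp_h L65396) L123108
theorem L123119 : sm ga N8306 = N10125 := rfl
theorem L123121 : sm gc N10125 = N8315 := ded_10_2 (flp_a L65481) (flp_c L65414) L123119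
theorem L123123 : sm ge N10125 = N10125 := ded_12_2 (flp_a L123119) L65409 L123119
theorem L123124 : sm gf N10125 = N8663 := ded_13_2 (flp_a L68346) (flp_f L65410) L123119
theorem L123126 : sm gh N10125 = N8380 := ded_15_2 (flp_a L66026) (flp_h L65412) L123119
theorem L123128 : sm gi N8306 = N10126 := rfl
theorem L123130 : sm gb N10126 = N8307 := ded_23_1 (flp_i L65416) L65407 L123128
theorem L123132 : sm gc N10126 = N8316 := ded_29_1 (flp_i L65488) (flp_c L65414) L123128
theorem L123134 : sm ge N10126 = N10126 := ded_38_1 (flp_i L123128) L65409 L123128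
theorem L123135 : sm gf N10126 = N8664 := ded_41_1 (flp_i L68354) (flp_f L65410) L123128
theorem L123137 : sm ga N8312 = N10127 := rfl
theorem L123139 : sm ge N10127 = N10127 := ded_12_2 (flp_a L123137) L65460 L123137
theorem L123140 : sm gf N10127 = N8437 := ded_13_2 L66535 (flp_f L104046) L123137
theorem L123142 : sm gg N10127 = N8315 := ded_14_2 (flp_a L65481) (flp_g L65461) L123137
theorem L123144 : sm gh N10127 = N8388 := ded_15_2 (flp_a L66089) (flp_h L65463) L123137
theorem L123146 : sm gb N10127 = N10018 := ded_9_2 L122236 L64921 (flp_a L109102) L65458 L123137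
theorem L123148 : sm gi N8312 = N10128 := rfl
theorem L123150 : sm gb N10128 = N8313 := ded_23_1 (flp_i L65465) L65458 L123148
theorem L123152 : sm ge N10128 = N10128 := ded_38_1 (flp_i L123148) L65460 L123148
theorem L123153 : sm gf N10128 = N8456 := ded_41_1 (flp_i L66710) (flp_f L104046) L123148
theorem L123155 : sm gg N10128 = N8316 := ded_43_1 (flp_i L65488) (flp_g L65461) L123148
theorem L123157 : sm gh N10128 = N8512 := ded_44_1 (flp_i L67160) (flp_h L49089) (flp_i L104042) (flp_h L65463) L123148
theorem L123159 : sm gi N8315 = N10129 := rfl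
theorem L123161 : sm ga N10129 = N8316 := ded_16_1 (flp_i L65488) L65481 L123159
theorem L123163 : sm ge N10129 = N10129 := ded_38_1 (flp_i L123159) L65483 L123159
theorem L123164 : sm gf N10129 = N8674 := ded_41_1 (flp_i L68429) (flp_f L65484) L123159
theorem L123166 : sm gg N8318 = N10130 := rfl
theorem L123168 : sm ga N10130 = N10130 := ded_14_1 (flp_g L123166) L65506 L123166
theorem L123169 : sm gc N10130 = N8319 := ded_27_1 (flp_g L65512) L65504 L123166
theorem L123171 : sm ge N10130 = N10130 := ded_36_1 (flp_g L123166) L65507 L123166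
theorem L123172 : sm gi N10130 = N8768 := ded_43_2 (flp_g L120821) (flp_i L65510) L123166
theorem L123174 : sm gh N8318 = N10131 := rfl
theorem L123176 : sm ga N10131 = N10131 := ded_15_1 (flp_h L123174) L65506 L123174
theorem L123177 : sm gc N10131 = N8320 := ded_28_1 (flp_h L65522) L65504 L123174
theorem L123179 : sm ge N10131 = N10131 := ded_37_1 (flp_h L123174) L65507 L123174
theorem L123180 : sm gf N10131 = N8760 := ded_40_1 (flp_h L69189) (flp_f L65508) L123174
theorem L123182 : sm gf N8319 = N10132 := rfl
theorem L123184 : sm ga N10132 = N10132 := ded_13_1 (flp_f L123182) L65514 L123182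
theorem L123185 : sm gb N10132 = N8332 := ded_20_1 (flp_f L65632) (flp_b L65515) L123182
theorem L123187 : sm gd N10132 = N8321 := ded_31_1 (flp_f L65530) (flp_d L65517) L123182
theorem L123189 : sm gi N10132 = N8323 := ded_41_2 L65555 (flp_i L102536) L123182
theorem L123191 : sm gg N10132 = N8682 := ded_39_2 L102730 (flp_g L50542) (flp_f L47943) L65512 L123182
theorem L123193 : sm gh N8319 = N10133 := rfl
theorem L123195 : sm ga N10133 = N10133 := ded_15_1 (flp_h L123193) L65514 L123193
theorem L123196 : sm gb N10133 = N8333 := ded_22_1 (flp_h L65642) (flp_b L65515) L123193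
theorem L123198 : sm ge N10133 = N10133 := ded_37_1 (flp_h L123193) L65519 L123193
theorem L123199 : sm gg N10133 = N8320 := ded_42_1 (flp_h L65522) L65512 L123193
theorem L123201 : sm gd N8320 = N10134 := rfl
theorem L123203 : sm ga N10134 = N10134 := ded_11_1 (flp_d L123201) L65524 L123201
theorem L123204 : sm gb N10134 = N8334 := ded_18_1 (flp_d L65649) (flp_b L65525) L123201
theorem L123206 : sm gf N10134 = N8763 := ded_31_2 (flp_d L69212) (flp_f L65528) L123201
theorem L123208 : sm gh N10134 = N8323 := ded_33_2 (flp_d L65550) (flp_h L47957) L47938 L65522 L123201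
theorem L123210 : sm gi N8320 = N10135 := rfl
theorem L123212 : sm ga N10135 = N10135 := ded_16_1 (flp_i L123210) L65524 L123210
theorem L123213 : sm gb N10135 = N8335 := ded_23_1 (flp_i L65657) (flp_b L65525) L123210
theorem L123215 : sm ge N10135 = N10135 := ded_38_1 (flp_i L123210) L65527 L123210
theorem L123216 : sm gf N10135 = N8764 := ded_41_1 (flp_i L69220) (flp_f L65528) L123210
theorem L123218 : sm gh N10135 = N9938 := ded_44_1 (flp_i L121544) (flp_h L61656) (flp_i L47945) L65522 L123210
theorem L123220 : sm gd N8322 = N10136 := rfl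
theorem L123222 : sm ga N10136 = N10136 := ded_11_1 (flp_d L123220) L65543 L123220
theorem L123223 : sm gb N10136 = N8337 := ded_18_1 (flp_d L65678) (flp_b L65544) L123220
theorem L123225 : sm gf N10136 = N8678 := ded_31_2 L68463 (flp_f L102592) L123220
theorem L123227 : sm gg N10136 = N8323 := ded_32_2 (flp_d L65550) (flp_g L65548) L123220
theorem L123229 : sm gi N10136 = N8682 := ded_34_2 (flp_d L68502) (flp_i L102604) L123220
theorem L123231 : sm gc N8323 = N10137 := rfl
theorem L123233 : sm ga N10137 = N10137 := ded_10_1 (flp_c L123231) L65552 L123231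
theorem L123234 : sm gf N10137 = N8768 := ded_26_2 (flp_c L69253) (flp_f L65555) L123231
theorem L123236 : sm ge N8323 = N10138 := rfl
theorem L123238 : sm ga N10138 = N10138 := ded_12_1 (flp_e L123236) L65552 L123236
theorem L123239 : sm gb N10138 = N8340 := ded_19_1 (flp_e L65704) (flp_b L65553) L123236
theorem L123241 : sm gd N10138 = N8328 := ded_30_1 (flp_e L65596) (flp_d L47975) (flp_e L47962) L65550 L123236
theorem L123243 : sm gf N10138 = N10138 := ded_35_2 (flp_e L123236) L65555 L50579 (flp_f L65555) L123236
theorem L123244 : sm gc N8325 = N10139 := rfl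
theorem L123246 : sm ga N10139 = N10139 := ded_10_1 (flp_c L123244) L65570 L123244
theorem L123247 : sm gf N10139 = N8690 := ded_26_2 L68588 L112216 L123244
theorem L123249 : sm gg N10139 = N8327 := ded_27_2 (flp_c L65589) (flp_g L65575) L123244
theorem L123251 : sm gh N10139 = N10139 := ded_28_2 (flp_c L123244) L65577 L123244
theorem L123252 : sm gi N10139 = N8686 := ded_29_2 (flp_c L68546) (flp_i L111762) L123244
theorem L123254 : sm gb N10139 = N10139 := ded_17_1 (flp_c L123244) L65571 L48074 (flp_b L65571) L123244
theorem L123255 : sm ge N8325 = N10140 := rfl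
theorem L123257 : sm ga N10140 = N10140 := ded_12_1 (flp_e L123255) L65570 L123255
theorem L123258 : sm gb N10140 = N8342 := ded_19_1 (flp_e L65719) (flp_b L65571) L123255
theorem L123260 : sm gg N10140 = N8328 := ded_36_2 (flp_e L65596) (flp_g L65575) L123255
theorem L123262 : sm gh N10140 = N10140 := ded_37_2 (flp_e L123255) L65577 L123255
theorem L123263 : sm gi N10140 = N8687 := ded_38_2 (flp_e L68556) (flp_i L111762) L123255
theorem L123265 : sm gf N10140 = N9872 := ded_35_2 (flp_e L121083) (flp_f L59147) (flp_e L106395) L112216 L123255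
theorem L123267 : sm ge N8327 = N10141 := rfl
theorem L123269 : sm ga N10141 = N10141 := ded_12_1 (flp_e L123267) L65591 L123267
theorem L123270 : sm gb N10141 = N10141 := ded_19_1 (flp_e L123267) L65595 L123267
theorem L123271 : sm gc N10141 = N8328 := ded_25_1 (flp_e L65596) L65589 L123267
theorem L123273 : sm gh N10141 = N10141 := ded_37_2 (flp_e L123267) L65594 L123267
theorem L123274 : sm gf N10141 = N10141 := ded_35_2 (flp_e L123267) L65592 L47995 (flp_f L65592) L123267
theorem L123275 : sm gi N8327 = N10142 := rfl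
theorem L123277 : sm ga N10142 = N10142 := ded_16_1 (flp_i L123275) L65591 L123275
theorem L123278 : sm gb N10142 = N10142 := ded_23_1 (flp_i L123275) L65595 L123275
theorem L123279 : sm gc N10142 = N8329 := ded_29_1 (flp_i L65603) L65589 L123275
theorem L123281 : sm gd N10142 = N10139 := ded_34_1 L123252 L68554 L123275
theorem L123283 : sm gf N10142 = N8330 := ded_41_1 (flp_i L65612) (flp_f L65592) L123275
theorem L123285 : sm gg N10142 = N8686 := ded_43_1 (flp_i L123252) L123249 L123275
theorem L123287 : sm gh N9372 = N10142 := ded_28_0 L123279 L83246 L73790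
theorem L123289 : sm gi N8328 = N10143 := rfl
theorem L123291 : sm ga N10143 = N10143 := ded_16_1 (flp_i L123289) L65598 L123289
theorem L123292 : sm gb N10143 = N8344 := ded_23_1 (flp_i L65738) (flp_b L65599) L123289
theorem L123294 : sm ge N10143 = N8329 := ded_38_1 (flp_i L65603) L65596 L123289
theorem L123296 : sm gf N10143 = N10143 := ded_41_1 (flp_i L123289) L65602 L123289
theorem L123297 : sm gg N10143 = N8687 := ded_43_1 (flp_i L123263) L123260 L123289
theorem L123299 : sm gh N9373 = N10143 := ded_22_0 L123292 L111795 (flp_b L73803)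
theorem L123301 : sm ge N8332 = N10144 := rfl
theorem L123303 : sm ga N10144 = N8353 := ded_12_1 (flp_e L65815) (flp_a L65634) L123301
theorem L123305 : sm gg N10144 = N8701 := ded_36_2 (flp_e L68690) (flp_g L102387) L123301
theorem L123307 : sm gi N10144 = N8340 := ded_38_2 (flp_e L65704) L110618 L123301
theorem L123309 : sm gd N10144 = N8344 := ded_30_1 L65743 L48100 L112132 (flp_d L65636) L123301
theorem L123311 : sm gf N10144 = N10144 := ded_35_2 (flp_e L123301) (flp_f L65632) L48016 L65632 L123301
theorem L123312 : sm gh N8332 = N10145 := rfl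
theorem L123314 : sm ga N10145 = N8354 := ded_15_1 (flp_h L65825) (flp_a L65634) L123312
theorem L123316 : sm gf N10145 = N8333 := ded_40_1 (flp_h L65642) L65632 L123312
theorem L123318 : sm gg N10145 = N8695 := ded_42_1 L68640 (flp_g L102387) L123312
theorem L123320 : sm gd N10145 = N8694 := ded_33_1 (flp_h L68626) L50106 (flp_h L110767) (flp_d L65636) L123312
theorem L123322 : sm gd N8333 = N10146 := rfl
theorem L123324 : sm ga N10146 = N8355 := ded_11_1 (flp_d L65832) (flp_a L65644) L123322
theorem L123326 : sm gf N10146 = N8694 := ded_31_2 (flp_d L123320) L123316 L123322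
theorem L123328 : sm gg N10146 = N8334 := ded_32_2 (flp_d L65649) (flp_g L65647) L123322
theorem L123330 : sm gh N10146 = N8337 := ded_33_2 (flp_d L65678) (flp_h L48038) (flp_d L48014) L65642 L123322
theorem L123332 : sm gi N8333 = N10147 := rfl
theorem L123334 : sm ga N10147 = N8356 := ded_16_1 (flp_i L65839) (flp_a L65644) L123332
theorem L123336 : sm ge N10147 = N10147 := ded_38_1 (flp_i L123332) L65646 L123332
theorem L123337 : sm gg N10147 = N8335 := ded_43_1 (flp_i L65657) (flp_g L65647) L123332
theorem L123339 : sm gh N10147 = N8775 := ded_44_1 (flp_i L69303) L50616 (flp_i L110666) L65642 L123332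
theorem L123341 : sm gc N8334 = N10148 := rfl
theorem L123343 : sm ga N10148 = N8357 := ded_10_1 (flp_c L65847) (flp_a L65651) L123341
theorem L123345 : sm gf N10148 = N8774 := ded_26_2 (flp_c L69296) (flp_f L65653) L123341
theorem L123347 : sm gh N10148 = N8339 := ded_28_2 (flp_c L65696) (flp_h L65655) L123341
theorem L123349 : sm ge N8334 = N10149 := rfl
theorem L123351 : sm ga N10149 = N8358 := ded_12_1 (flp_e L65853) (flp_a L65651) L123349
theorem L123353 : sm gh N10149 = N8340 := ded_37_2 (flp_e L65704) (flp_h L65655) L123349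
theorem L123355 : sm gd N10149 = N10149 := ded_30_1 (flp_e L123349) (flp_d L65649) L48023 L65649 L123349
theorem L123356 : sm gf N10149 = N10149 := ded_35_2 (flp_e L123349) L65653 L50615 (flp_f L65653) L123349
theorem L123357 : sm gi N8334 = N10150 := rfl
theorem L123359 : sm ga N10150 = N8359 := ded_16_1 (flp_i L65860) (flp_a L65651) L123357
theorem L123361 : sm gd N10150 = N8335 := ded_34_1 (flp_i L65657) L65649 L123357
theorem L123363 : sm gf N10150 = N8775 := ded_41_1 (flp_i L69303) (flp_f L65653) L123357
theorem L123365 : sm gc N8337 = N10151 := rfl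
theorem L123367 : sm ga N10151 = N8362 := ded_10_1 (flp_c L65887) (flp_a L65680) L123365
theorem L123369 : sm gf N10151 = N8536 := ded_26_2 L67344 (flp_f L110607) L123365
theorem L123371 : sm gg N10151 = N8339 := ded_27_2 (flp_c L65696) (flp_g L65682) L123365
theorem L123373 : sm gi N10151 = N8605 := ded_29_2 (flp_c L102337) (flp_i L102363) L123365
theorem L123375 : sm gd N10151 = N8348 := ded_24_2 (flp_c L65776) (flp_d L48125) (flp_c L48042) L65678 L123365
theorem L123377 : sm ge N9088 = N10151 := ded_12_0 L123367 L119459 (flp_a L71663)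
theorem L123379 : sm ge N8337 = N10152 := rfl
theorem L123381 : sm ga N10152 = N8363 := ded_12_1 (flp_e L65893) (flp_a L65680) L123379
theorem L123383 : sm gc N10152 = N9088 := ded_25_1 L123377 (flp_c L123365) L123379
theorem L123385 : sm gg N10152 = N8340 := ded_36_2 (flp_e L65704) (flp_g L65682) L123379
theorem L123387 : sm gi N10152 = N8701 := ded_38_2 (flp_e L68690) (flp_i L102363) L123379
theorem L123389 : sm gd N10152 = N8342 := ded_30_1 (flp_e L65719) (flp_d L48066) (flp_e L48044) L65678 L123379
theorem L123391 : sm gf N10152 = N9037 := ded_35_2 (flp_e L71258) (flp_f L119418) (flp_e L50108) (flp_f L110607) L123379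
theorem L123393 : sm gb N8339 = N10153 := rfl
theorem L123395 : sm gd N10153 = N8350 := ded_18_2 (flp_b L65792) (flp_d L65702) L123393
theorem L123397 : sm gf N10153 = N8780 := ded_20_2 (flp_b L69344) (flp_f L65700) L123393
theorem L123399 : sm ge N8339 = N10154 := rfl
theorem L123401 : sm ga N10154 = N8366 := ded_12_1 (flp_e L65914) (flp_a L65698) L123399
theorem L123403 : sm gc N10154 = N8340 := ded_25_1 (flp_e L65704) L65696 L123399
theorem L123405 : sm gg N10154 = N9088 := ded_36_2 L123377 L123371 L123399
theorem L123407 : sm gd N10154 = N10154 := ded_30_1 (flp_e L123399) L65702 L48146 (flp_d L65702) L123399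
theorem L123408 : sm gf N10154 = N10154 := ded_35_2 (flp_e L123399) L65700 L50655 (flp_f L65700) L123399
theorem L123409 : sm gb N8348 = N10155 := rfl
theorem L123411 : sm ge N10155 = N10155 := ded_19_2 (flp_b L123409) L65780 L123409
theorem L123412 : sm gf N10155 = N8528 := ded_20_2 L67271 (flp_f L104640) L123409
theorem L123414 : sm gg N10155 = N8350 := ded_21_2 (flp_b L65792) (flp_g L65781) L123409
theorem L123416 : sm gi N10155 = N8591 := ded_23_2 L67823 (flp_i L104642) L123409
theorem L123418 : sm gc N10155 = N10059 := ded_17_2 L122583 L65102 L104644 L65776 L123409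
theorem L123420 : sm ga N8350 = N10156 := rfl
theorem L123422 : sm ge N10156 = N10156 := ded_12_2 (flp_a L123420) L65794 L123420
theorem L123423 : sm gf N10156 = N8789 := ded_13_2 (flp_a L69409) (flp_f L65795) L123420
theorem L123425 : sm gb N10156 = N8380 := ded_9_2 (flp_a L66026) (flp_b L48301) (flp_a L48144) L65792 L123420
theorem L123427 : sm gh N8353 = N10157 := rfl
theorem L123429 : sm gb N10157 = N10157 := ded_22_1 (flp_h L123427) L65817 L123427
theorem L123430 : sm ge N10157 = N8354 := ded_37_1 (flp_h L65825) L65815 L123427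
theorem L123432 : sm gf N10157 = N10157 := ded_40_1 (flp_h L123427) L65824 L123427
theorem L123433 : sm gg N10157 = N8721 := ded_42_1 L68875 L106180 L123427
theorem L123435 : sm gd N10157 = N8407 := ded_33_1 (flp_h L66252) L117177 L106327 (flp_d L90409) L123427
theorem L123437 : sm gi N8354 = N10158 := rfl
theorem L123439 : sm gb N10158 = N10158 := ded_23_1 (flp_i L123437) L65827 L123437
theorem L123440 : sm gd N10158 = N8719 := ded_34_1 (flp_i L68857) (flp_d L84871) L123437
theorem L123442 : sm gf N10158 = N8356 := ded_41_1 (flp_i L65839) (flp_f L65828) L123437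
theorem L123444 : sm gg N10158 = N8722 := ded_43_1 (flp_i L68879) L110708 L123437
theorem L123446 : sm gh N10158 = N8359 := ded_44_1 (flp_i L65860) L48178 (flp_i L110657) L65825 L123437
theorem L123448 : sm gc N8355 = N10159 := rfl
theorem L123450 : sm gf N10159 = N8449 := ded_26_2 L116570 (flp_f L84722) L123448
theorem L123452 : sm gg N10159 = N8357 := ded_27_2 (flp_c L65847) (flp_g L65835) L123448
theorem L123454 : sm gh N10159 = N8362 := ded_28_2 (flp_c L65887) (flp_h L65837) L123448
theorem L123456 : sm gb N10159 = N8566 := ded_47_6 L67612 (flp_g L120866) L65911 L50786 L50784 L37239 (flp_b L27309) (flp_h L26803) L104110 (flp_f L26247) L26245 (flp_d L26122) L26119 (flp_b L35573) (flp_h L35571) L35563 L35570 (flp_e L48499) L48498 (flp_c L119146) L39660 (flp_h L54112) (flp_g L117192) L66259 L66257 (flp_d L119478) L119476 L48725 L36189 L119712 L38368 (flp_e L48692) (flp_d L48683) L35702 L26197 L26239 (flp_g L35797) (flp_f L109105) L47903 (flp_d L64981) (flp_c L64976) (flp_b L64930) L64934 L64932 L47526 L35993 (flp_d L35989) (flp_c L35929)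 L35927 (flp_h L26701) L26695 L36457 L36461 (flp_d L49777) (flp_c L110552) L36841 (flp_h L50293) L110708 L65828 L48170 L65832 L123448
theorem L123458 : sm ge N8451 = N10159 := ded_35_5 L123450 (flp_e L66654) L48727 L48741 L66668
theorem L123460 : sm ge N8355 = N10160 := rfl
theorem L123462 : sm gb N10160 = N10160 := ded_19_1 (flp_e L123460) L65834 L123460
theorem L123463 : sm gc N10160 = N8451 := ded_25_1 L123458 (flp_c L123448) L123460
theorem L123465 : sm gg N10160 = N8358 := ded_36_2 (flp_e L65853) (flp_g L65835) L123460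
theorem L123467 : sm gh N10160 = N8363 := ded_37_2 (flp_e L65893) (flp_h L65837) L123460
theorem L123469 : sm gd N10160 = N10160 := ded_30_1 (flp_e L123460) (flp_d L65832) L48170 L65832 L123460
theorem L123470 : sm gf N10160 = N8411 := ded_35_2 (flp_e L66285) L119487 (flp_e L50284) (flp_f L84722) L123460
theorem L123472 : sm gi N8355 = N10161 := rfl
theorem L123474 : sm gb N10161 = N10161 := ded_23_1 (flp_i L123472) L65834 L123472
theorem L123475 : sm gd N10161 = N8356 := ded_34_1 (flp_i L65839) L65832 L123472
theorem L123477 : sm gf N10161 = N8719 := ded_41_1 (flp_i L68857) (flp_f L84722) L123472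
theorem L123479 : sm gg N10161 = N8359 := ded_43_1 (flp_i L65860) (flp_g L65835) L123472
theorem L123481 : sm gh N10161 = N8722 := ded_44_1 (flp_i L68879) L50293 L110560 (flp_h L65837) L123472
theorem L123483 : sm gb N8357 = N10162 := rfl
theorem L123485 : sm gf N10162 = N8797 := ded_20_2 (flp_b L69463) (flp_f L65849) L123483
theorem L123487 : sm gg N10162 = N8566 := ded_21_2 (flp_b L123456) L123452 L123483
theorem L123489 : sm gh N10162 = N8365 := ded_22_2 (flp_b L65907) (flp_h L65851) L123483
theorem L123491 : sm gc N10162 = N10162 := ded_17_2 (flp_b L123483) (flp_c L65847) L48175 L65847 L123483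
theorem L123492 : sm ge N10162 = N8569 := ded_47_3 L67633 L61492 L45985 L45987 (flp_g L45983) (flp_f L33740) (flp_e L24761) (flp_d L18217) L13407 L9910 (flp_h L7342) L5457 L7334 L102028 L8037 L5956 L4393 (flp_h L4589) (flp_g L4584) (flp_f L3393) (flp_e L2517) (flp_d L1867) L1380 (flp_b L1770) (flp_h L1768) L1298 L1296 L938 L936 L653 L651 L700 L707 L573 L571 L575 L581 (flp_b L800) L805 (flp_g L965) L964 L1344 (flp_d L1817) (flp_c L2430) (flp_b L3270) (flp_h L4339) L4337 L5012 L5020 (flp_d L6769) (flp_c L9166) L9165 L111053 (flp_g L9816) L13286 L18028 L24483 (flp_c L33039) (flp_b L44721) L61002 (flp_g L120859) (flp_f L123485)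
theorem L123494 : sm ge N8357 = N10163 := rfl
theorem L123496 : sm gb N10163 = N8569 := ded_19_1 (flp_e L123492) (flp_b L123483) L123494
theorem L123498 : sm gc N10163 = N8358 := ded_25_1 (flp_e L65853) L65847 L123494
theorem L123500 : sm gg N10163 = N8451 := ded_36_2 L123458 L123452 L123494
theorem L123502 : sm gh N10163 = N8366 := ded_37_2 (flp_e L65914) (flp_h L65851) L123494
theorem L123504 : sm gf N10163 = N10163 := ded_35_2 (flp_e L123494) L65849 L50744 (flp_f L65849) L123494
theorem L123505 : sm gd N10163 = N9899 := ded_47_4 L121289 L121287 L61494 (flp_g L61490) (flp_f L45067) (flp_e L33074) (flp_d L24308) L17907 L13207 (flp_h L9779) L7239 L9773 L13222 L13226 L9847 (flp_b L13301) (flp_h L104260) (flp_g L14677) (flp_f L14031) (flp_e L14025) L10343 L7637 L7635 L5683 L7656 L109730 L6028 (flp_d L7976) L7975 (flp_b L10817) (flp_h L14555) (flp_g L111636) L12238 L9002 L6775 L5065 L5063 (flp_h L3769) (flp_g L3279) L4425 L6003 (flp_d L8031) L8029 (flp_b L10898) L14838 (flp_g L99264) L13431 L9912 (flp_d L13210) (flp_c L17907) (flp_b L24170)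 (flp_h L24168) L17808 L24161 L32841 L44719 L44723 L44721 L45013 L110696 (flp_f L65849) L123494
theorem L123507 : sm gi N8357 = N10164 := rfl
theorem L123509 : sm gc N10164 = N8359 := ded_29_1 (flp_i L65860) L65847 L123507
theorem L123511 : sm gf N10164 = N8798 := ded_41_1 (flp_i L69469) (flp_f L65849) L123507
theorem L123513 : sm gi N8358 = N10165 := rfl
theorem L123515 : sm gb N10165 = N10165 := ded_23_1 (flp_i L123513) L65855 L123513
theorem L123516 : sm gd N10165 = N10165 := ded_34_1 (flp_i L123513) L65858 L123513
theorem L123517 : sm ge N10165 = N8359 := ded_38_1 (flp_i L65860) L65853 L123513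
theorem L123519 : sm gf N10165 = N10165 := ded_41_1 (flp_i L123513) L65859 L123513
theorem L123520 : sm ga N8365 = N10166 := rfl
theorem L123522 : sm gc N10166 = N10166 := ded_10_2 (flp_a L123520) L65913 L123520
theorem L123523 : sm gd N10166 = N8380 := ded_11_2 (flp_a L66026) (flp_d L65909) L123520
theorem L123525 : sm ge N10166 = N9238 := ded_12_2 L72816 (flp_e L120864) L123520
theorem L123527 : sm gf N10166 = N8806 := ded_13_2 (flp_a L69522) (flp_f L65911) L123520
theorem L123529 : sm gg N10166 = N9235 := ded_14_2 L72793 (flp_g L120866) L123520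
theorem L123531 : sm ga N8377 = N10167 := rfl
theorem L123533 : sm gc N10167 = N8388 := ded_10_2 (flp_a L66089) (flp_c L66008) L123531
theorem L123535 : sm gd N10167 = N9235 := ded_11_2 L72793 (flp_d L118316) L123531
theorem L123537 : sm ge N10167 = N10167 := ded_12_2 (flp_a L123531) L66005 L123531
theorem L123538 : sm gf N10167 = N8429 := ded_13_2 L66460 (flp_f L104327) L123531
theorem L123540 : sm gg N10167 = N8380 := ded_14_2 (flp_a L66026) (flp_g L66006) L123531
theorem L123542 : sm gi N10167 = N8477 := ded_16_2 L66893 (flp_i L104330) L123531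
theorem L123544 : sm ge N8394 = N10168 := rfl
theorem L123546 : sm ga N10168 = N10168 := ded_12_1 (flp_e L123544) L66134 L123544
theorem L123547 : sm gb N10168 = N8396 := ded_19_1 (flp_e L66151) (flp_b L66135) L123544
theorem L123549 : sm gc N10168 = N9963 := ded_25_1 (flp_e L121727) (flp_c L66137) L123544
theorem L123551 : sm gg N10168 = N9371 := ded_36_2 (flp_e L73782) (flp_g L118653) L123544
theorem L123553 : sm gi N10168 = N10168 := ded_38_2 (flp_e L123544) L66141 L123544
theorem L123554 : sm gd N10168 = N9373 := ded_30_1 (flp_e L73800) (flp_d L53925) L119161 (flp_d L66139) L123544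
theorem L123556 : sm gf N10168 = N10168 := ded_35_2 (flp_e L123544) (flp_f L66132) L48392 L66132 L123544
theorem L123557 : sm gh N8394 = N10169 := rfl
theorem L123559 : sm ga N10169 = N10169 := ded_15_1 (flp_h L123557) L66134 L123557
theorem L123560 : sm gb N10169 = N8398 := ded_22_1 (flp_h L66169) (flp_b L66135) L123557
theorem L123562 : sm gc N10169 = N9964 := ded_28_1 (flp_h L121738) (flp_c L66137) L123557
theorem L123564 : sm gf N10169 = N8395 := ded_40_1 (flp_h L66142) L66132 L123557
theorem L123566 : sm gg N10169 = N9366 := ded_42_1 L73746 (flp_g L118653) L123557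
theorem L123568 : sm gd N10169 = N9365 := ded_33_1 (flp_h L73733) L53886 (flp_h L118639) (flp_d L66139) L123557
theorem L123570 : sm gd N8395 = N10170 := rfl
theorem L123572 : sm ga N10170 = N10170 := ded_11_1 (flp_d L123570) L66144 L123570
theorem L123573 : sm gb N10170 = N8399 := ded_18_1 (flp_d L66177) (flp_b L66145) L123570
theorem L123575 : sm gf N10170 = N9365 := ded_31_2 (flp_d L123568) L123564 L123570
theorem L123577 : sm gg N10170 = N10170 := ded_32_2 (flp_d L123570) L66150 L123570
theorem L123578 : sm gh N10170 = N9029 := ded_33_2 (flp_d L71195) (flp_h L52044) (flp_d L48390) L66142 L123570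
theorem L123580 : sm gi N8395 = N10171 := rfl
theorem L123582 : sm ga N10171 = N10171 := ded_16_1 (flp_i L123580) L66144 L123580
theorem L123583 : sm gb N10171 = N8400 := ded_23_1 (flp_i L66186) (flp_b L66145) L123580
theorem L123585 : sm gc N10171 = N9966 := ded_29_1 (flp_i L121752) (flp_c L66147) L123580
theorem L123587 : sm ge N10171 = N10171 := ded_38_1 (flp_i L123580) L66149 L123580
theorem L123588 : sm gg N10171 = N10171 := ded_43_1 (flp_i L123580) L66150 L123580
theorem L123589 : sm gh N10171 = N10171 := ded_44_1 (flp_i L123580) (flp_h L66142) L48394 L66142 L123580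
theorem L123590 : sm gh N8396 = N10172 := rfl
theorem L123592 : sm ga N10172 = N8407 := ded_15_1 (flp_h L66252) (flp_a L66153) L123590
theorem L123594 : sm gc N10172 = N8402 := ded_28_1 (flp_h L66205) (flp_c L66155) L123590
theorem L123596 : sm ge N10172 = N8398 := ded_37_1 (flp_h L66169) L66151 L123590
theorem L123598 : sm gf N10172 = N10172 := ded_40_1 (flp_h L123590) L66158 L123590
theorem L123599 : sm gg N10172 = N9384 := ded_42_1 L73892 (flp_g L119156) L123590
theorem L123601 : sm gi N8398 = N10173 := rfl
theorem L123603 : sm ga N10173 = N8410 := ded_16_1 (flp_i L66277) (flp_a L66171) L123601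
theorem L123605 : sm gc N10173 = N8404 := ded_29_1 (flp_i L66225) (flp_c L66173) L123601
theorem L123607 : sm gd N10173 = N9382 := ded_34_1 (flp_i L73873) (flp_d L119141) L123601
theorem L123609 : sm gf N10173 = N8400 := ded_41_1 (flp_i L66186) (flp_f L66175) L123601
theorem L123611 : sm gg N10173 = N9385 := ded_43_1 (flp_i L73894) (flp_g L119143) L123601
theorem L123613 : sm gh N10173 = N10173 := ded_44_1 (flp_i L123601) (flp_h L66169) L48406 L66169 L123601
theorem L123614 : sm ge N8399 = N10174 := rfl
theorem L123616 : sm ga N10174 = N8411 := ded_12_1 (flp_e L66285) (flp_a L66179) L123614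
theorem L123618 : sm gc N10174 = N8434 := ded_25_1 (flp_e L66505) (flp_c L66182) L123614
theorem L123620 : sm gg N10174 = N10174 := ded_36_2 (flp_e L123614) L66181 L123614
theorem L123621 : sm gh N10174 = N9037 := ded_37_2 (flp_e L71258) (flp_h L66184) L123614
theorem L123623 : sm gd N10174 = N10174 := ded_30_1 (flp_e L123614) (flp_d L66177) L48413 L66177 L123614
theorem L123624 : sm gi N8399 = N10175 := rfl
theorem L123626 : sm ga N10175 = N8412 := ded_16_1 (flp_i L66294) (flp_a L66179) L123624
theorem L123628 : sm gc N10175 = N8435 := ded_29_1 (flp_i L66514) (flp_c L66182) L123624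
theorem L123630 : sm gd N10175 = N8400 := ded_34_1 (flp_i L66186) L66177 L123624
theorem L123632 : sm gf N10175 = N9382 := ded_41_1 (flp_i L73873) (flp_f L118625) L123624
theorem L123634 : sm gg N10175 = N10175 := ded_43_1 (flp_i L123624) L66181 L123624
theorem L123635 : sm gh N10175 = N9433 := ded_44_1 (flp_i L74251) (flp_h L54272) L118697 (flp_h L66184) L123624
theorem L123637 : sm gh N8401 = N10176 := rfl
theorem L123639 : sm ga N10176 = N8414 := ded_15_1 (flp_h L66310) (flp_a L66197) L123637
theorem L123641 : sm gb N10176 = N9973 := ded_22_1 (flp_h L121820) (flp_b L66199) L123637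
theorem L123643 : sm gc N10176 = N9384 := ded_28_1 L73892 (flp_c L119108) L123637
theorem L123645 : sm ge N10176 = N8403 := ded_37_1 (flp_h L66214) (flp_e L66202) L123637
theorem L123647 : sm gg N10176 = N8402 := ded_42_1 (flp_h L66205) L66195 L123637
theorem L123649 : sm gd N8402 = N10177 := rfl
theorem L123651 : sm ga N10177 = N8415 := ded_11_1 (flp_d L66318) (flp_a L66207) L123649
theorem L123653 : sm gb N10177 = N9974 := ded_18_1 (flp_d L121832) (flp_b L66209) L123649
theorem L123655 : sm gf N10177 = N10177 := ded_31_2 (flp_d L123649) L66213 L123649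
theorem L123656 : sm ge N10177 = N8438 := ded_30_2 (flp_d L66543) L48660 (flp_d L48442) (flp_e L66211) L123649
theorem L123658 : sm gh N10177 = N10177 := ded_33_2 (flp_d L123649) (flp_h L66205) L48422 L66205 L123649
theorem L123659 : sm gi N8402 = N10178 := rfl
theorem L123661 : sm ga N10178 = N8416 := ded_16_1 (flp_i L66326) (flp_a L66207) L123659
theorem L123663 : sm gb N10178 = N9975 := ded_23_1 (flp_i L121840) (flp_b L66209) L123659
theorem L123665 : sm ge N10178 = N8404 := ded_38_1 (flp_i L66225) (flp_e L66211) L123659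
theorem L123667 : sm gf N10178 = N10178 := ded_41_1 (flp_i L123659) L66213 L123659
theorem L123668 : sm gh N10178 = N10178 := ded_44_1 (flp_i L123659) (flp_h L66205) L48421 L66205 L123659
theorem L123669 : sm gi N8403 = N10179 := rfl
theorem L123671 : sm ga N10179 = N8417 := ded_16_1 (flp_i L66334) (flp_a L66216) L123669
theorem L123673 : sm gb N10179 = N9976 := ded_23_1 (flp_i L121848) (flp_b L66218) L123669
theorem L123675 : sm gc N10179 = N9385 := ded_29_1 (flp_i L73894) (flp_c L119134) L123669
theorem L123677 : sm gd N10179 = N8440 := ded_34_1 (flp_i L66564) (flp_d L66223) L123669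
theorem L123679 : sm gf N10179 = N10179 := ded_41_1 (flp_i L123669) L66220 L123669
theorem L123680 : sm gg N10179 = N8404 := ded_43_1 (flp_i L66225) (flp_g L66221) L123669
theorem L123682 : sm gh N10179 = N10179 := ded_44_1 (flp_i L123669) (flp_h L66214) L48432 L66214 L123669
theorem L123683 : sm gi N8407 = N10180 := rfl
theorem L123685 : sm gb N10180 = N10180 := ded_23_1 (flp_i L123683) L66254 L123683
theorem L123686 : sm gc N10180 = N8416 := ded_29_1 (flp_i L66326) (flp_c L66255) L123683
theorem L123688 : sm ge N10180 = N8410 := ded_38_1 (flp_i L66277) (flp_e L66257) L123683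
theorem L123690 : sm gf N10180 = N10180 := ded_41_1 (flp_i L123683) L66259 L123683
theorem L123691 : sm gg N10180 = N9408 := ded_43_1 (flp_i L74066) (flp_g L117192) L123683
theorem L123693 : sm gh N10180 = N10180 := ded_44_1 (flp_i L123683) (flp_h L66252) L48460 L66252 L123683
theorem L123694 : sm gi N8411 = N10181 := rfl
theorem L123696 : sm gb N10181 = N10181 := ded_23_1 (flp_i L123694) L66287 L123694
theorem L123697 : sm gc N10181 = N8452 := ded_29_1 (flp_i L66676) (flp_c L66288) L123694
theorem L123699 : sm gd N10181 = N10181 := ded_34_1 (flp_i L123694) L66293 L123694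
theorem L123700 : sm ge N10181 = N8412 := ded_38_1 (flp_i L66294) L66285 L123694
theorem L123702 : sm gg N10181 = N10181 := ded_43_1 (flp_i L123694) L66290 L123694
theorem L123703 : sm gh N10181 = N9435 := ded_44_1 (flp_i L74266) (flp_h L54287) (flp_i L118465) (flp_h L66291) L123694
theorem L123705 : sm gh N8413 = N10182 := rfl
theorem L123707 : sm gb N10182 = N8418 := ded_22_1 (flp_h L66344) (flp_b L66304) L123705
theorem L123709 : sm gc N10182 = N9407 := ded_28_1 L74063 (flp_c L119099) L123705
theorem L123711 : sm ge N10182 = N10182 := ded_37_1 (flp_h L123705) L66308 L123705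
theorem L123712 : sm gf N10182 = N8414 := ded_40_1 (flp_h L66310) L66302 L123705
theorem L123714 : sm gg N10182 = N10182 := ded_42_1 (flp_h L123705) L66309 L123705
theorem L123715 : sm gd N8414 = N10183 := rfl
theorem L123717 : sm gb N10183 = N8419 := ded_18_1 (flp_d L66353) (flp_b L66312) L123715
theorem L123719 : sm gg N10183 = N8415 := ded_32_2 (flp_d L66318) (flp_g L66316) L123715
theorem L123721 : sm ge N10183 = N8455 := ded_30_2 (flp_d L66703) L48771 (flp_d L48516) (flp_e L66314) L123715
theorem L123723 : sm gh N10183 = N10183 := ded_33_2 (flp_d L123715) (flp_h L66310) L48498 L66310 L123715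
theorem L123724 : sm gi N8414 = N10184 := rfl
theorem L123726 : sm gb N10184 = N8420 := ded_23_1 (flp_i L66362) (flp_b L66312) L123724
theorem L123728 : sm gc N10184 = N9408 := ded_29_1 (flp_i L74066) (flp_c L119128) L123724
theorem L123730 : sm ge N10184 = N8417 := ded_38_1 (flp_i L66334) (flp_e L66314) L123724
theorem L123732 : sm gg N10184 = N8416 := ded_43_1 (flp_i L66326) (flp_g L66316) L123724
theorem L123734 : sm gh N10184 = N10184 := ded_44_1 (flp_i L123724) (flp_h L66310) L48501 L66310 L123724
theorem L123735 : sm gc N8415 = N10185 := rfl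
theorem L123737 : sm ge N10185 = N8457 := ded_25_2 (flp_c L66720) (flp_e L66323) L123735
theorem L123739 : sm gf N10185 = N10185 := ded_26_2 (flp_c L123735) L66322 L123735
theorem L123740 : sm gh N10185 = N10185 := ded_28_2 (flp_c L123735) L66325 L123735
theorem L123741 : sm gi N8415 = N10186 := rfl
theorem L123743 : sm gb N10186 = N8422 := ded_23_1 (flp_i L66381) (flp_b L66320) L123741
theorem L123745 : sm gd N10186 = N8416 := ded_34_1 (flp_i L66326) L66318 L123741
theorem L123747 : sm ge N10186 = N8458 := ded_38_1 (flp_i L66725) (flp_e L66323) L123741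
theorem L123749 : sm gf N10186 = N10186 := ded_41_1 (flp_i L123741) L66322 L123741
theorem L123750 : sm gd N8418 = N10187 := rfl
theorem L123752 : sm ga N10187 = N9989 := ded_11_1 (flp_d L121981) (flp_a L66346) L123750
theorem L123754 : sm gf N10187 = N8419 := ded_31_2 (flp_d L66353) (flp_f L66350) L123750
theorem L123756 : sm gg N10187 = N10187 := ded_32_2 (flp_d L123750) L66352 L123750
theorem L123757 : sm gh N10187 = N10187 := ded_33_2 (flp_d L123750) (flp_h L66344) L48532 L66344 L123750
theorem L123758 : sm gi N8418 = N10188 := rfl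
theorem L123760 : sm ga N10188 = N9990 := ded_16_1 (flp_i L121989) (flp_a L66346) L123758
theorem L123762 : sm gc N10188 = N10188 := ded_29_1 (flp_i L123758) L66348 L123758
theorem L123763 : sm ge N10188 = N10188 := ded_38_1 (flp_i L123758) L66349 L123758
theorem L123764 : sm gf N10188 = N8420 := ded_41_1 (flp_i L66362) (flp_f L66350) L123758
theorem L123766 : sm gg N10188 = N10188 := ded_43_1 (flp_i L123758) L66352 L123758
theorem L123767 : sm gh N10188 = N10188 := ded_44_1 (flp_i L123758) (flp_h L66344) L48533 L66344 L123758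
theorem L123768 : sm gi N8419 = N10189 := rfl
theorem L123770 : sm ga N10189 = N9992 := ded_16_1 (flp_i L122007) (flp_a L66355) L123768
theorem L123772 : sm gd N10189 = N8420 := ded_34_1 (flp_i L66362) L66353 L123768
theorem L123774 : sm ge N10189 = N8462 := ded_38_1 (flp_i L66764) (flp_e L66359) L123768
theorem L123776 : sm gg N10189 = N8422 := ded_43_1 (flp_i L66381) (flp_g L66357) L123768
theorem L123778 : sm gb N8421 = N10190 := rfl
theorem L123780 : sm gd N10190 = N10190 := ded_18_2 (flp_b L123778) L66380 L123778
theorem L123781 : sm ge N10190 = N8463 := ded_19_2 (flp_b L66772) (flp_e L66376) L123778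
theorem L123783 : sm gf N10190 = N10190 := ded_20_2 (flp_b L123778) L66378 L123778
theorem L123784 : sm gh N10190 = N10190 := ded_22_2 (flp_b L123778) L66379 L123778
theorem L123785 : sm gi N8421 = N10191 := rfl
theorem L123787 : sm ga N10191 = N9994 := ded_16_1 (flp_i L122022) (flp_a L66374) L123785
theorem L123789 : sm gc N10191 = N8422 := ded_29_1 (flp_i L66381) L66372 L123785
theorem L123791 : sm gd N10191 = N10191 := ded_34_1 (flp_i L123785) L66380 L123785
theorem L123792 : sm ge N10191 = N8464 := ded_38_1 (flp_i L66779) (flp_e L66376) L123785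
theorem L123794 : sm gf N10191 = N10191 := ded_41_1 (flp_i L123785) L66378 L123785
theorem L123795 : sm gh N8422 = N10192 := rfl
theorem L123797 : sm ga N10192 = N9995 := ded_15_1 (flp_h L122030) (flp_a L66383) L123795
theorem L123799 : sm ge N10192 = N8465 := ded_37_1 (flp_h L66789) (flp_e L66387) L123795
theorem L123801 : sm gf N10192 = N10192 := ded_40_1 (flp_h L123795) L66389 L123795
theorem L123802 : sm gd N10192 = N10192 := ded_33_1 (flp_h L123795) L66385 L48561 (flp_d L66385) L123795
theorem L123803 : sm gi N10192 = N10192 := ded_44_2 (flp_h L123795) (flp_i L66381) L48552 L66381 L123795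
theorem L123804 : sm gd N8423 = N10193 := rfl
theorem L123806 : sm ga N10193 = N8527 := ded_11_1 (flp_d L67259) (flp_a L66392) L123804
theorem L123808 : sm gb N10193 = N8428 := ded_18_1 (flp_d L66447) (flp_b L66394) L123804
theorem L123810 : sm gf N10193 = N9874 := ded_31_2 (flp_d L121103) (flp_f L66400) L123804
theorem L123812 : sm gi N10193 = N8466 := ded_34_2 (flp_d L66798) (flp_i L66398) L123804
theorem L123814 : sm ge N10193 = N9069 := ded_30_2 (flp_d L71498) (flp_e L52259) (flp_d L48581) L66390 L123804
theorem L123816 : sm gg N9216 = N10193 := ded_21_0 L123808 L119595 (flp_b L72648)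
theorem L123818 : sm gg N8423 = N10194 := rfl
theorem L123820 : sm ga N10194 = N8528 := ded_14_1 (flp_g L67269) (flp_a L66392) L123818
theorem L123822 : sm gb N10194 = N8429 := ded_21_1 (flp_g L66458) (flp_b L66394) L123818
theorem L123824 : sm gc N10194 = N9997 := ded_27_1 (flp_g L122048) (flp_c L66396) L123818
theorem L123826 : sm gd N10194 = N9216 := ded_32_1 L123816 (flp_d L123804) L123818
theorem L123828 : sm ge N10194 = N8424 := ded_36_1 (flp_g L66402) L66390 L123818
theorem L123830 : sm gi N10194 = N8467 := ded_43_2 (flp_g L66806) (flp_i L66398) L123818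
theorem L123832 : sm gh N8423 = N10195 := rfl
theorem L123834 : sm ga N10195 = N8529 := ded_15_1 (flp_h L67279) (flp_a L66392) L123832
theorem L123836 : sm gb N10195 = N8430 := ded_22_1 (flp_h L66468) (flp_b L66394) L123832
theorem L123838 : sm gc N10195 = N9998 := ded_28_1 (flp_h L122058) (flp_c L66396) L123832
theorem L123840 : sm ge N10195 = N8425 := ded_37_1 (flp_h L66415) L66390 L123832
theorem L123842 : sm gf N10195 = N9875 := ded_40_1 (flp_h L121110) (flp_f L66400) L123832
theorem L123844 : sm gh N8424 = N10196 := rfl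
theorem L123846 : sm ga N10196 = N8530 := ded_15_1 (flp_h L67289) (flp_a L66404) L123844
theorem L123848 : sm gb N10196 = N8431 := ded_22_1 (flp_h L66478) (flp_b L66406) L123844
theorem L123850 : sm gc N10196 = N9999 := ded_28_1 (flp_h L122068) (flp_c L66408) L123844
theorem L123852 : sm gf N10196 = N10196 := ded_40_1 (flp_h L123844) L66414 L123844
theorem L123853 : sm gg N10196 = N8425 := ded_42_1 (flp_h L66415) L66402 L123844
theorem L123855 : sm gd N10196 = N9208 := ded_33_1 (flp_h L72585) (flp_d L53030) (flp_h L118769) (flp_d L66410) L123844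
theorem L123857 : sm gd N8425 = N10197 := rfl
theorem L123859 : sm ga N10197 = N8531 := ded_11_1 (flp_d L67298) (flp_a L66417) L123857
theorem L123861 : sm gb N10197 = N8432 := ded_18_1 (flp_d L66487) (flp_b L66419) L123857
theorem L123863 : sm gf N10197 = N8426 := ded_31_2 (flp_d L66425) (flp_f L66423) L123857
theorem L123865 : sm gg N10197 = N9208 := ded_32_2 (flp_d L123855) L123853 L123857
theorem L123867 : sm gh N10197 = N9073 := ded_33_2 (flp_d L71538) (flp_h L52279) (flp_d L48581) L66415 L123857
theorem L123869 : sm gi N8425 = N10198 := rfl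
theorem L123871 : sm ga N10198 = N8532 := ded_16_1 (flp_i L67306) (flp_a L66417) L123869
theorem L123873 : sm gb N10198 = N8433 := ded_23_1 (flp_i L66495) (flp_b L66419) L123869
theorem L123875 : sm gc N10198 = N10001 := ded_29_1 (flp_i L122086) (flp_c L66421) L123869
theorem L123877 : sm gf N10198 = N8427 := ded_41_1 (flp_i L66434) (flp_f L66423) L123869
theorem L123879 : sm gh N10198 = N8471 := ded_44_1 (flp_i L66841) (flp_h L48863) (flp_i L48583) L66415 L123869
theorem L123881 : sm gc N8426 = N10199 := rfl
theorem L123883 : sm ga N10199 = N8533 := ded_10_1 (flp_c L67316) (flp_a L66427) L123881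
theorem L123885 : sm gg N10199 = N10199 := ded_27_2 (flp_c L123881) L66431 L123881
theorem L123886 : sm gh N10199 = N9075 := ded_28_2 (flp_c L71557) (flp_h L66432) L123881
theorem L123888 : sm gd N10199 = N10002 := ded_24_2 (flp_c L122096) (flp_d L64672) (flp_c L48591) L66425 L123881
theorem L123890 : sm ge N8426 = N10200 := rfl
theorem L123892 : sm ga N10200 = N8534 := ded_12_1 (flp_e L67324) (flp_a L66427) L123890
theorem L123894 : sm gb N10200 = N8434 := ded_19_1 (flp_e L66505) (flp_b L66429) L123890
theorem L123896 : sm gg N10200 = N10200 := ded_36_2 (flp_e L123890) L66431 L123890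
theorem L123897 : sm gh N10200 = N9076 := ded_37_2 (flp_e L71563) (flp_h L66432) L123890
theorem L123899 : sm gd N10200 = N9879 := ded_30_1 (flp_e L121148) (flp_d L60871) (flp_e L48593) L66425 L123890
theorem L123901 : sm gi N8426 = N10201 := rfl
theorem L123903 : sm ga N10201 = N8535 := ded_16_1 (flp_i L67333) (flp_a L66427) L123901
theorem L123905 : sm gb N10201 = N8435 := ded_23_1 (flp_i L66514) (flp_b L66429) L123901
theorem L123907 : sm gd N10201 = N8427 := ded_34_1 (flp_i L66434) L66425 L123901
theorem L123909 : sm gg N10201 = N10201 := ded_43_1 (flp_i L123901) L66431 L123901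
theorem L123910 : sm gh N8428 = N10202 := rfl
theorem L123912 : sm ga N10202 = N8442 := ded_15_1 (flp_h L66586) (flp_a L66449) L123910
theorem L123914 : sm gc N10202 = N10202 := ded_28_1 (flp_h L123910) L66455 L123910
theorem L123915 : sm ge N10202 = N8542 := ded_37_1 L119620 (flp_e L66456) L123910
theorem L123917 : sm gf N10202 = N9881 := ded_40_1 (flp_h L121165) (flp_f L66451) L123910
theorem L123919 : sm gg N10202 = N8544 := ded_42_1 L67427 (flp_g L119595) L123910
theorem L123921 : sm gh N8429 = N10203 := rfl
theorem L123923 : sm ga N10203 = N8444 := ded_15_1 (flp_h L66606) (flp_a L66460) L123921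
theorem L123925 : sm gc N10203 = N8437 := ded_28_1 (flp_h L66533) (flp_c L66462) L123921
theorem L123927 : sm ge N10203 = N8431 := ded_37_1 (flp_h L66478) (flp_e L66464) L123921
theorem L123929 : sm gg N10203 = N8430 := ded_42_1 (flp_h L66468) L66458 L123921
theorem L123931 : sm gd N8430 = N10204 := rfl
theorem L123933 : sm ga N10204 = N8445 := ded_11_1 (flp_d L66616) (flp_a L66470) L123931
theorem L123935 : sm gf N10204 = N9882 := ded_31_2 (flp_d L121171) (flp_f L66476) L123931
theorem L123937 : sm gi N8430 = N10205 := rfl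
theorem L123939 : sm ga N10205 = N8446 := ded_16_1 (flp_i L66622) (flp_a L66470) L123937
theorem L123941 : sm gc N10205 = N8439 := ded_29_1 (flp_i L66552) (flp_c L66472) L123937
theorem L123943 : sm ge N10205 = N8433 := ded_38_1 (flp_i L66495) (flp_e L66474) L123937
theorem L123945 : sm gf N10205 = N9883 := ded_41_1 (flp_i L121175) (flp_f L66476) L123937
theorem L123947 : sm gh N10205 = N8480 := ded_44_1 (flp_i L66912) (flp_h L48902) (flp_i L48602) L66468 L123937
theorem L123949 : sm gi N8431 = N10206 := rfl
theorem L123951 : sm ga N10206 = N8448 := ded_16_1 (flp_i L66643) (flp_a L66480) L123949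
theorem L123953 : sm gc N10206 = N8440 := ded_29_1 (flp_i L66564) (flp_c L66482) L123949
theorem L123955 : sm gd N10206 = N9226 := ded_34_1 (flp_i L72717) (flp_d L118223) L123949
theorem L123957 : sm gf N10206 = N10206 := ded_41_1 (flp_i L123949) L66484 L123949
theorem L123958 : sm gg N10206 = N8433 := ded_43_1 (flp_i L66495) (flp_g L66485) L123949
theorem L123960 : sm gh N10206 = N8482 := ded_44_1 (flp_i L66930) (flp_h L48910) (flp_i L48614) L66478 L123949
theorem L123962 : sm ge N8432 = N10207 := rfl
theorem L123964 : sm ga N10207 = N8449 := ded_12_1 (flp_e L66654) (flp_a L66489) L123962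
theorem L123966 : sm gc N10207 = N8694 := ded_25_1 L68630 (flp_c L119482) L123962
theorem L123968 : sm gg N10207 = N8537 := ded_36_2 L67358 (flp_g L119484) L123962
theorem L123970 : sm gh N10207 = N8536 := ded_37_2 L119472 (flp_h L66493) L123962
theorem L123972 : sm gi N8432 = N10208 := rfl
theorem L123974 : sm ga N10208 = N8450 := ded_16_1 (flp_i L66660) (flp_a L66489) L123972
theorem L123976 : sm gc N10208 = N9382 := ded_29_1 (flp_i L73873) (flp_c L119482) L123972
theorem L123978 : sm gd N10208 = N8433 := ded_34_1 (flp_i L66495) L66487 L123972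
theorem L123980 : sm gf N10208 = N8435 := ded_41_1 (flp_i L66514) (flp_f L66491) L123972
theorem L123982 : sm gg N10208 = N9226 := ded_43_1 (flp_i L72717) (flp_g L119484) L123972
theorem L123984 : sm gh N10208 = N9318 := ded_44_1 (flp_i L73389) (flp_h L53590) L119439 (flp_h L66493) L123972
theorem L123986 : sm gf N8434 = N10209 := rfl
theorem L123988 : sm ga N10209 = N8451 := ded_13_1 (flp_f L66668) (flp_a L66507) L123986
theorem L123990 : sm gd N10209 = N9886 := ded_31_1 (flp_f L121198) (flp_d L66512) L123986
theorem L123992 : sm gh N10209 = N9088 := ded_40_2 (flp_f L71661) (flp_h L66510) L123986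
theorem L123994 : sm gi N8434 = N10210 := rfl
theorem L123996 : sm ga N10210 = N8452 := ded_16_1 (flp_i L66676) (flp_a L66507) L123994
theorem L123998 : sm gd N10210 = N9887 := ded_34_1 (flp_i L121204) (flp_d L66512) L123994
theorem L124000 : sm ge N10210 = N8435 := ded_38_1 (flp_i L66514) L66505 L123994
theorem L124002 : sm gg N10210 = N10210 := ded_43_1 (flp_i L123994) L66509 L123994
theorem L124003 : sm gh N8435 = N10211 := rfl
theorem L124005 : sm ga N10211 = N8453 := ded_15_1 (flp_h L66685) (flp_a L66516) L124003
theorem L124007 : sm gc N10211 = N9433 := ded_28_1 (flp_h L123635) L123628 L124003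
theorem L124009 : sm gf N10211 = N9318 := ded_40_1 (flp_h L123984) L123980 L124003
theorem L124011 : sm gg N10211 = N10211 := ded_42_1 (flp_h L124003) L66520 L124003
theorem L124012 : sm gd N10211 = N8487 := ded_33_1 (flp_h L66970) L48949 (flp_h L48641) (flp_d L66518) L124003
theorem L124014 : sm gi N10211 = N9090 := ded_44_2 (flp_h L71674) (flp_i L52364) (flp_h L48630) L66514 L124003
theorem L124016 : sm gd N8437 = N10212 := rfl
theorem L124018 : sm ga N10212 = N8455 := ded_11_1 (flp_d L66703) (flp_a L66535) L124016
theorem L124020 : sm gb N10212 = N10019 := ded_18_1 (flp_d L122243) (flp_b L66537) L124016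
theorem L124022 : sm gg N10212 = N8438 := ded_32_2 (flp_d L66543) (flp_g L66541) L124016
theorem L124024 : sm gh N10212 = N10212 := ded_33_2 (flp_d L124016) (flp_h L66533) L48649 L66533 L124016
theorem L124025 : sm gi N8437 = N10213 := rfl
theorem L124027 : sm ga N10213 = N8456 := ded_16_1 (flp_i L66710) (flp_a L66535) L124025
theorem L124029 : sm gb N10213 = N10020 := ded_23_1 (flp_i L122250) (flp_b L66537) L124025
theorem L124031 : sm ge N10213 = N8440 := ded_38_1 (flp_i L66564) (flp_e L66539) L124025
theorem L124033 : sm gg N10213 = N8439 := ded_43_1 (flp_i L66552) (flp_g L66541) L124025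
theorem L124035 : sm gh N10213 = N8490 := ded_44_1 (flp_i L66993) (flp_h L48958) (flp_i L48652) L66533 L124025
theorem L124037 : sm gc N8438 = N10214 := rfl
theorem L124039 : sm ga N10214 = N8457 := ded_10_1 (flp_c L66720) (flp_a L66545) L124037
theorem L124041 : sm gf N10214 = N9889 := ded_26_2 (flp_c L121219) (flp_f L66549) L124037
theorem L124043 : sm gh N10214 = N10214 := ded_28_2 (flp_c L124037) L66551 L124037
theorem L124044 : sm gi N8438 = N10215 := rfl
theorem L124046 : sm ga N10215 = N8458 := ded_16_1 (flp_i L66725) (flp_a L66545) L124044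
theorem L124048 : sm gb N10215 = N10022 := ded_23_1 (flp_i L122267) (flp_b L66547) L124044
theorem L124050 : sm gd N10215 = N8439 := ded_34_1 (flp_i L66552) L66543 L124044
theorem L124052 : sm gf N10215 = N9890 := ded_41_1 (flp_i L121225) (flp_f L66549) L124044
theorem L124054 : sm gd N8442 = N10216 := rfl
theorem L124056 : sm gb N10216 = N8556 := ded_18_1 (flp_d L67539) (flp_b L66588) L124054
theorem L124058 : sm gf N10216 = N9891 := ded_31_2 (flp_d L121234) (flp_f L66593) L124054
theorem L124060 : sm gg N10216 = N8562 := ded_32_2 L67586 (flp_g L119608) L124054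
theorem L124062 : sm ge N10216 = N8559 := ded_30_2 (flp_d L67564) L49381 L49399 (flp_e L119606) L124054
theorem L124064 : sm gh N10216 = N8445 := ded_33_2 (flp_d L66616) (flp_h L48704) L48683 L66586 L124054
theorem L124066 : sm gi N8442 = N10217 := rfl
theorem L124068 : sm gb N10217 = N8557 := ded_23_1 (flp_i L67545) (flp_b L66588) L124066
theorem L124070 : sm gc N10217 = N10217 := ded_29_1 (flp_i L124066) L66590 L124066
theorem L124071 : sm ge N10217 = N8565 := ded_38_1 (flp_i L67601) (flp_e L119606) L124066
theorem L124073 : sm gf N10217 = N9892 := ded_41_1 (flp_i L121240) (flp_f L66593) L124066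
theorem L124075 : sm gg N10217 = N8567 := ded_43_1 (flp_i L67616) (flp_g L119608) L124066
theorem L124077 : sm gh N10217 = N8496 := ded_44_1 (flp_i L67036) (flp_h L48995) (flp_i L48689) L66586 L124066
theorem L124079 : sm gd N8444 = N10218 := rfl
theorem L124081 : sm gb N10218 = N8559 := ded_18_1 (flp_d L67564) (flp_b L66608) L124079
theorem L124083 : sm gg N10218 = N8445 := ded_32_2 (flp_d L66616) (flp_g L66614) L124079
theorem L124085 : sm ge N10218 = N8556 := ded_30_2 (flp_d L67539) L49364 (flp_d L119622) (flp_e L66612) L124079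
theorem L124087 : sm gh N10218 = N8562 := ded_33_2 L67586 L49419 L119465 L66606 L124079
theorem L124089 : sm gi N8444 = N10219 := rfl
theorem L124091 : sm gb N10219 = N8560 := ded_23_1 (flp_i L67568) (flp_b L66608) L124089
theorem L124093 : sm gc N10219 = N8456 := ded_29_1 (flp_i L66710) (flp_c L66610) L124089
theorem L124095 : sm ge N10219 = N8448 := ded_38_1 (flp_i L66643) (flp_e L66612) L124089
theorem L124097 : sm gg N10219 = N8446 := ded_43_1 (flp_i L66622) (flp_g L66614) L124089
theorem L124099 : sm gh N10219 = N8499 := ded_44_1 (flp_i L67058) (flp_h L49009) (flp_i L48702) L66606 L124089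
theorem L124101 : sm gc N8445 = N10220 := rfl
theorem L124103 : sm gf N10220 = N9893 := ded_26_2 (flp_c L121246) (flp_f L66620) L124101
theorem L124105 : sm gd N10220 = N8457 := ded_24_2 (flp_c L66720) (flp_d L48775) (flp_c L48708) L66616 L124101
theorem L124107 : sm ge N8445 = N10221 := rfl
theorem L124109 : sm gb N10221 = N8562 := ded_19_1 (flp_e L67584) (flp_b L66618) L124107
theorem L124111 : sm gg N10221 = N8556 := ded_36_2 (flp_e L124085) L124083 L124107
theorem L124113 : sm gh N10221 = N8559 := ded_37_2 (flp_e L124062) L124064 L124107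
theorem L124115 : sm gd N10221 = N8449 := ded_30_1 (flp_e L66654) (flp_d L48723) (flp_e L48710) L66616 L124107
theorem L124117 : sm gi N8445 = N10222 := rfl
theorem L124119 : sm gb N10222 = N8563 := ded_23_1 (flp_i L67588) (flp_b L66618) L124117
theorem L124121 : sm gd N10222 = N8446 := ded_34_1 (flp_i L66622) L66616 L124117
theorem L124123 : sm gf N10222 = N9895 := ded_41_1 (flp_i L121256) (flp_f L66620) L124117
theorem L124125 : sm gi N8449 = N10223 := rfl
theorem L124127 : sm gb N10223 = N8567 := ded_23_1 (flp_i L67616) (flp_b L66656) L124125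
theorem L124129 : sm gc N10223 = N8719 := ded_29_1 (flp_i L68857) (flp_c L116570) L124125
theorem L124131 : sm ge N10223 = N8450 := ded_38_1 (flp_i L66660) L66654 L124125
theorem L124133 : sm gg N10223 = N8557 := ded_43_1 (flp_i L67545) (flp_g L116572) L124125
theorem L124135 : sm gh N10223 = N8633 := ded_44_1 (flp_i L68146) (flp_h L49779) (flp_i L49358) L116595 L124125
theorem L124137 : sm gi N8451 = N10224 := rfl
theorem L124139 : sm gb N10224 = N8570 := ded_23_1 (flp_i L67638) (flp_b L66670) L124137
theorem L124141 : sm gd N10224 = N9900 := ded_34_1 (flp_i L121292) (flp_d L66672) L124137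
theorem L124143 : sm gf N10224 = N8452 := ded_41_1 (flp_i L66676) L66668 L124137
theorem L124145 : sm gh N8452 = N10225 := rfl
theorem L124147 : sm gb N10225 = N8571 := ded_22_1 (flp_h L67645) (flp_b L66678) L124145
theorem L124149 : sm gc N10225 = N9435 := ded_28_1 (flp_h L123703) L123697 L124145
theorem L124151 : sm ge N10225 = N8453 := ded_37_1 (flp_h L66685) (flp_e L66682) L124145
theorem L124153 : sm gg N10225 = N10225 := ded_42_1 (flp_h L124145) L66684 L124145
theorem L124154 : sm gi N10225 = N9113 := ded_44_2 (flp_h L71849) (flp_i L52503) (flp_h L48746) L66676 L124145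
theorem L124156 : sm gc N8455 = N10226 := rfl
theorem L124158 : sm gg N10226 = N8457 := ded_27_2 (flp_c L66720) (flp_g L66707) L124156
theorem L124160 : sm gh N10226 = N10226 := ded_28_2 (flp_c L124156) L66709 L124156
theorem L124161 : sm gi N8455 = N10227 := rfl
theorem L124163 : sm gb N10227 = N8462 := ded_23_1 (flp_i L66764) (flp_b L66705) L124161
theorem L124165 : sm gd N10227 = N8456 := ded_34_1 (flp_i L66710) L66703 L124161
theorem L124167 : sm gg N10227 = N8458 := ded_43_1 (flp_i L66725) (flp_g L66707) L124161
theorem L124169 : sm gb N8457 = N10228 := rfl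
theorem L124171 : sm gf N10228 = N8513 := ded_20_2 L120747 (flp_f L66722) L124169
theorem L124173 : sm gh N10228 = N10228 := ded_22_2 (flp_b L124169) L66724 L124169
theorem L124174 : sm gc N10228 = N8463 := ded_17_2 (flp_b L66772) (flp_c L48831) (flp_b L48777) L66720 L124169
theorem L124176 : sm gi N8457 = N10229 := rfl
theorem L124178 : sm gc N10229 = N8458 := ded_29_1 (flp_i L66725) L66720 L124176
theorem L124180 : sm gf N10229 = N9902 := ded_41_1 (flp_i L121308) (flp_f L66722) L124176
theorem L124182 : sm gh N8458 = N10230 := rfl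
theorem L124184 : sm gb N10230 = N8465 := ded_22_1 (flp_h L66789) (flp_b L66727) L124182
theorem L124186 : sm gf N10230 = N9903 := ded_40_1 (flp_h L121313) (flp_f L66731) L124182
theorem L124188 : sm gd N10230 = N8517 := ded_33_1 (flp_h L67193) L49120 (flp_h L48790) (flp_d L66729) L124182
theorem L124190 : sm gi N10230 = N10230 := ded_44_2 (flp_h L124182) (flp_i L66725) L48781 L66725 L124182
theorem L124191 : sm gh N8462 = N10231 := rfl
theorem L124193 : sm ga N10231 = N10052 := ded_15_1 (flp_h L122527) (flp_a L66766) L124191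
theorem L124195 : sm gg N10231 = N8465 := ded_42_1 (flp_h L66789) (flp_g L66770) L124191
theorem L124197 : sm gd N10231 = N8523 := ded_33_1 (flp_h L67234) L49145 (flp_h L48829) (flp_d L66768) L124191
theorem L124199 : sm gi N10231 = N10231 := ded_44_2 (flp_h L124191) (flp_i L66764) L48818 L66764 L124191
theorem L124200 : sm ga N8463 = N10232 := rfl
theorem L124202 : sm gd N10232 = N8488 := ded_11_2 L66980 (flp_d L93018) L124200
theorem L124204 : sm gf N10232 = N8489 := ded_13_2 L66987 L103621 L124200
theorem L124206 : sm gh N10232 = N10232 := ded_15_2 (flp_a L124200) L66778 L124200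
theorem L124207 : sm gb N10232 = N10053 := ded_9_2 (flp_a L122534) (flp_b L64989) (flp_a L48833) L66772 L124200
theorem L124209 : sm gi N8463 = N10233 := rfl
theorem L124211 : sm gb N10233 = N8464 := ded_23_1 (flp_i L66779) L66772 L124209
theorem L124213 : sm gd N10233 = N8512 := ded_34_1 (flp_i L67160) (flp_d L93018) L124209
theorem L124215 : sm gf N10233 = N8514 := ded_41_1 (flp_i L67173) L103621 L124209
theorem L124217 : sm gh N8464 = N10234 := rfl
theorem L124219 : sm ga N10234 = N10055 := ded_15_1 (flp_h L122549) (flp_a L66781) L124217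
theorem L124221 : sm gc N10234 = N8465 := ded_28_1 (flp_h L66789) (flp_c L66783) L124217
theorem L124223 : sm gf N10234 = N8523 := ded_40_1 (flp_h L67234) (flp_f L104009) L124217
theorem L124225 : sm gi N10234 = N10234 := ded_44_2 (flp_h L124217) (flp_i L66779) L48837 L66779 L124217
theorem L124226 : sm gc N8466 = N10235 := rfl
theorem L124228 : sm ga N10235 = N8588 := ded_10_1 (flp_c L67801) (flp_a L66800) L124226
theorem L124230 : sm ge N10235 = N9130 := ded_25_2 (flp_c L71975) (flp_e L66804) L124226
theorem L124232 : sm gb N10235 = N10235 := ded_17_1 (flp_c L124226) L66802 L48891 (flp_b L66802) L124226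
theorem L124233 : sm gg N8466 = N10236 := rfl
theorem L124235 : sm ga N10236 = N8589 := ded_14_1 (flp_g L67807) (flp_a L66800) L124233
theorem L124237 : sm gb N10236 = N8475 := ded_21_1 (flp_g L66875) (flp_b L66802) L124233
theorem L124239 : sm gd N10236 = N8467 := ded_32_1 (flp_g L66806) L66798 L124233
theorem L124241 : sm ge N10236 = N9131 := ded_36_1 (flp_g L71982) (flp_e L66804) L124233
theorem L124243 : sm gi N10236 = N9216 := ded_43_2 L123816 L123812 L124233
theorem L124245 : sm gh N8466 = N10237 := rfl
theorem L124247 : sm ga N10237 = N8590 := ded_15_1 (flp_h L67815) (flp_a L66800) L124245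
theorem L124249 : sm gb N10237 = N8476 := ded_22_1 (flp_h L66884) (flp_b L66802) L124245
theorem L124251 : sm ge N10237 = N9132 := ded_37_1 (flp_h L71990) (flp_e L66804) L124245
theorem L124253 : sm gf N8467 = N10238 := rfl
theorem L124255 : sm ga N10238 = N8591 := ded_13_1 (flp_f L67821) (flp_a L66808) L124253
theorem L124257 : sm gb N10238 = N8477 := ded_20_1 (flp_f L66891) (flp_b L66810) L124253
theorem L124259 : sm gc N10238 = N10156 := ded_26_1 L123423 L120759 L124253
theorem L124261 : sm ge N10238 = N10238 := ded_35_1 (flp_f L124253) L66812 L48862 (flp_e L66812) L124253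
theorem L124262 : sm gh N8467 = N10239 := rfl
theorem L124264 : sm ga N10239 = N8592 := ded_15_1 (flp_h L67826) (flp_a L66808) L124262
theorem L124266 : sm gb N10239 = N8478 := ded_22_1 (flp_h L66898) (flp_b L66810) L124262
theorem L124268 : sm ge N10239 = N8469 := ded_37_1 (flp_h L66822) (flp_e L66812) L124262
theorem L124270 : sm gg N10239 = N8468 := ded_42_1 (flp_h L66814) L66806 L124262
theorem L124272 : sm gd N8468 = N10240 := rfl
theorem L124274 : sm ga N10240 = N8593 := ded_11_1 (flp_d L67834) (flp_a L66816) L124272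
theorem L124276 : sm gb N10240 = N8479 := ded_18_1 (flp_d L66908) (flp_b L66818) L124272
theorem L124278 : sm gi N8468 = N10241 := rfl
theorem L124280 : sm ga N10241 = N8594 := ded_16_1 (flp_i L67838) (flp_a L66816) L124278
theorem L124282 : sm gb N10241 = N8480 := ded_23_1 (flp_i L66912) (flp_b L66818) L124278
theorem L124284 : sm ge N10241 = N8471 := ded_38_1 (flp_i L66841) (flp_e L66820) L124278
theorem L124286 : sm gd N8469 = N10242 := rfl
theorem L124288 : sm ga N10242 = N8595 := ded_11_1 (flp_d L67844) (flp_a L66824) L124286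
theorem L124290 : sm gb N10242 = N8481 := ded_18_1 (flp_d L66920) (flp_b L66826) L124286
theorem L124292 : sm gf N10242 = N10242 := ded_31_2 (flp_d L124286) L66828 L124286
theorem L124293 : sm gg N10242 = N8470 := ded_32_2 (flp_d L66831) (flp_g L66829) L124286
theorem L124295 : sm gh N10242 = N9137 := ded_33_2 (flp_d L72034) (flp_h L52634) (flp_d L48860) L66822 L124286
theorem L124297 : sm gi N8469 = N10243 := rfl
theorem L124299 : sm ga N10243 = N8596 := ded_16_1 (flp_i L67853) (flp_a L66824) L124297
theorem L124301 : sm gb N10243 = N8482 := ded_23_1 (flp_i L66930) (flp_b L66826) L124297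
theorem L124303 : sm gf N10243 = N10243 := ded_41_1 (flp_i L124297) L66828 L124297
theorem L124304 : sm gg N10243 = N8471 := ded_43_1 (flp_i L66841) (flp_g L66829) L124297
theorem L124306 : sm gc N8470 = N10244 := rfl
theorem L124308 : sm ga N10244 = N8597 := ded_10_1 (flp_c L67860) (flp_a L66833) L124306
theorem L124310 : sm gf N10244 = N8472 := ded_26_2 (flp_c L66849) (flp_f L66837) L124306
theorem L124312 : sm gh N10244 = N9139 := ded_28_2 (flp_c L72053) (flp_h L66839) L124306
theorem L124314 : sm gb N10244 = N10244 := ded_17_1 (flp_c L124306) L66835 L48925 (flp_b L66835) L124306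
theorem L124315 : sm ge N8470 = N10245 := rfl
theorem L124317 : sm ga N10245 = N8598 := ded_12_1 (flp_e L67868) (flp_a L66833) L124315
theorem L124319 : sm gb N10245 = N8483 := ded_19_1 (flp_e L66939) (flp_b L66835) L124315
theorem L124321 : sm gh N10245 = N9140 := ded_37_2 (flp_e L72061) (flp_h L66839) L124315
theorem L124323 : sm gi N8470 = N10246 := rfl
theorem L124325 : sm ga N10246 = N8599 := ded_16_1 (flp_i L67874) (flp_a L66833) L124323
theorem L124327 : sm gb N10246 = N8484 := ded_23_1 (flp_i L66946) (flp_b L66835) L124323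
theorem L124329 : sm gd N10246 = N8471 := ded_34_1 (flp_i L66841) L66831 L124323
theorem L124331 : sm gf N10246 = N8474 := ded_41_1 (flp_i L66866) (flp_f L66837) L124323
theorem L124333 : sm ge N8472 = N10247 := rfl
theorem L124335 : sm ga N10247 = N8600 := ded_12_1 (flp_e L67882) (flp_a L66851) L124333
theorem L124337 : sm gb N10247 = N10247 := ded_19_1 (flp_e L124333) L66856 L124333
theorem L124338 : sm gc N10247 = N8473 := ded_25_1 (flp_e L66857) L66849 L124333
theorem L124340 : sm gg N10247 = N10247 := ded_36_2 (flp_e L124333) L66853 L124333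
theorem L124341 : sm gh N10247 = N9142 := ded_37_2 (flp_e L72077) (flp_h L66854) L124333
theorem L124343 : sm gi N8472 = N10248 := rfl
theorem L124345 : sm ga N10248 = N8601 := ded_16_1 (flp_i L67891) (flp_a L66851) L124343
theorem L124347 : sm gb N10248 = N10248 := ded_23_1 (flp_i L124343) L66856 L124343
theorem L124348 : sm gc N10248 = N8474 := ded_29_1 (flp_i L66866) L66849 L124343
theorem L124350 : sm gg N10248 = N10248 := ded_43_1 (flp_i L124343) L66853 L124343
theorem L124351 : sm gf N8473 = N10249 := rfl
theorem L124353 : sm ga N10249 = N8602 := ded_13_1 (flp_f L67898) (flp_a L66859) L124351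
theorem L124355 : sm gb N10249 = N8485 := ded_20_1 (flp_f L66955) (flp_b L66861) L124351
theorem L124357 : sm gh N10249 = N9144 := ded_40_2 (flp_f L72094) (flp_h L66864) L124351
theorem L124359 : sm gi N8473 = N10250 := rfl
theorem L124361 : sm ga N10250 = N8603 := ded_16_1 (flp_i L67904) (flp_a L66859) L124359
theorem L124363 : sm gb N10250 = N8486 := ded_23_1 (flp_i L66962) (flp_b L66861) L124359
theorem L124365 : sm ge N10250 = N8474 := ded_38_1 (flp_i L66866) L66857 L124359
theorem L124367 : sm gg N10250 = N10250 := ded_43_1 (flp_i L124359) L66863 L124359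
theorem L124368 : sm gh N8474 = N10251 := rfl
theorem L124370 : sm ga N10251 = N8604 := ded_15_1 (flp_h L67911) (flp_a L66868) L124368
theorem L124372 : sm gb N10251 = N8487 := ded_22_1 (flp_h L66970) (flp_b L66870) L124368
theorem L124374 : sm gg N10251 = N10251 := ded_42_1 (flp_h L124368) L66874 L124368
theorem L124375 : sm gi N10251 = N9146 := ded_44_2 (flp_h L72111) (flp_i L52676) (flp_h L48878) L66866 L124368
theorem L124377 : sm gf N8475 = N10252 := rfl
theorem L124379 : sm ga N10252 = N8493 := ded_13_1 (flp_f L67014) (flp_a L66877) L124377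
theorem L124381 : sm gc N10252 = N10252 := ded_26_1 (flp_f L124377) L66879 L124377
theorem L124382 : sm gd N10252 = N8477 := ded_31_1 (flp_f L66891) (flp_d L66880) L124377
theorem L124384 : sm gi N10252 = N9235 := ded_41_2 (flp_f L72791) (flp_i L118820) L124377
theorem L124386 : sm ge N10252 = N9239 := ded_35_1 L72827 L53193 L119530 (flp_e L66882) L124377
theorem L124388 : sm gh N8475 = N10253 := rfl
theorem L124390 : sm ga N10253 = N8494 := ded_15_1 (flp_h L67021) (flp_a L66877) L124388
theorem L124392 : sm gc N10253 = N10253 := ded_28_1 (flp_h L124388) L66879 L124388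
theorem L124393 : sm ge N10253 = N9148 := ded_37_1 (flp_h L72126) (flp_e L66882) L124388
theorem L124395 : sm gg N10253 = N8476 := ded_42_1 (flp_h L66884) L66875 L124388
theorem L124397 : sm gd N8476 = N10254 := rfl
theorem L124399 : sm ga N10254 = N8495 := ded_11_1 (flp_d L67030) (flp_a L66886) L124397
theorem L124401 : sm gh N10254 = N8479 := ded_33_2 (flp_d L66908) (flp_h L48902) L48887 L66884 L124397
theorem L124403 : sm gi N8476 = N10255 := rfl
theorem L124405 : sm ga N10255 = N8496 := ded_16_1 (flp_i L67036) (flp_a L66886) L124403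
theorem L124407 : sm gc N10255 = N10255 := ded_29_1 (flp_i L124403) L66888 L124403
theorem L124408 : sm ge N10255 = N9150 := ded_38_1 (flp_i L72140) (flp_e L66889) L124403
theorem L124410 : sm gh N8477 = N10256 := rfl
theorem L124412 : sm ga N10256 = N8497 := ded_15_1 (flp_h L67043) (flp_a L66893) L124410
theorem L124414 : sm gc N10256 = N8488 := ded_28_1 (flp_h L66978) (flp_c L66895) L124410
theorem L124416 : sm ge N10256 = N10256 := ded_37_1 (flp_h L124410) L66897 L124410
theorem L124417 : sm gf N10256 = N8478 := ded_40_1 (flp_h L66898) L66891 L124410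
theorem L124419 : sm gd N8478 = N10257 := rfl
theorem L124421 : sm ga N10257 = N8498 := ded_11_1 (flp_d L67052) (flp_a L66900) L124419
theorem L124423 : sm gg N10257 = N8479 := ded_32_2 (flp_d L66908) (flp_g L66906) L124419
theorem L124425 : sm gi N8478 = N10258 := rfl
theorem L124427 : sm ga N10258 = N8499 := ded_16_1 (flp_i L67058) (flp_a L66900) L124425
theorem L124429 : sm gc N10258 = N8490 := ded_29_1 (flp_i L66993) (flp_c L66902) L124425
theorem L124431 : sm ge N10258 = N8482 := ded_38_1 (flp_i L66930) (flp_e L66904) L124425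
theorem L124433 : sm gg N10258 = N8480 := ded_43_1 (flp_i L66912) (flp_g L66906) L124425
theorem L124435 : sm gc N8479 = N10259 := rfl
theorem L124437 : sm ga N10259 = N8500 := ded_10_1 (flp_c L67068) (flp_a L66910) L124435
theorem L124439 : sm gd N10259 = N8491 := ded_24_2 (flp_c L67001) (flp_d L48966) (flp_c L48906) L66908 L124435
theorem L124441 : sm ge N8479 = N10260 := rfl
theorem L124443 : sm ga N10260 = N8501 := ded_12_1 (flp_e L67072) (flp_a L66910) L124441
theorem L124445 : sm gd N10260 = N8483 := ded_30_1 (flp_e L66939) (flp_d L48919) (flp_e L48908) L66908 L124441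
theorem L124447 : sm gi N8479 = N10261 := rfl
theorem L124449 : sm ga N10261 = N8502 := ded_16_1 (flp_i L67078) (flp_a L66910) L124447
theorem L124451 : sm gd N10261 = N8480 := ded_34_1 (flp_i L66912) L66908 L124447
theorem L124453 : sm ge N8481 = N10262 := rfl
theorem L124455 : sm ga N10262 = N8503 := ded_12_1 (flp_e L67084) (flp_a L66922) L124453
theorem L124457 : sm gc N10262 = N10262 := ded_25_1 (flp_e L124453) L66927 L124453
theorem L124458 : sm gg N10262 = N8483 := ded_36_2 (flp_e L66939) (flp_g L66925) L124453
theorem L124460 : sm gh N10262 = N9157 := ded_37_2 (flp_e L72192) (flp_h L66928) L124453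
theorem L124462 : sm gi N8481 = N10263 := rfl
theorem L124464 : sm ga N10263 = N8504 := ded_16_1 (flp_i L67093) (flp_a L66922) L124462
theorem L124466 : sm gc N10263 = N10263 := ded_29_1 (flp_i L124462) L66927 L124462
theorem L124467 : sm gd N10263 = N8482 := ded_34_1 (flp_i L66930) L66920 L124462
theorem L124469 : sm gf N10263 = N10263 := ded_41_1 (flp_i L124462) L66924 L124462
theorem L124470 : sm gg N10263 = N8484 := ded_43_1 (flp_i L66946) (flp_g L66925) L124462
theorem L124472 : sm gh N10263 = N9320 := ded_44_1 (flp_i L73404) L53604 L118352 (flp_h L66928) L124462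
theorem L124474 : sm gf N8483 = N10264 := rfl
theorem L124476 : sm ga N10264 = N8505 := ded_13_1 (flp_f L67103) (flp_a L66941) L124474
theorem L124478 : sm gc N10264 = N10264 := ded_26_1 (flp_f L124474) L66943 L124474
theorem L124479 : sm gh N10264 = N9159 := ded_40_2 (flp_f L72209) (flp_h L66944) L124474
theorem L124481 : sm ge N10264 = N8485 := ded_35_1 (flp_f L66955) (flp_e L48936) (flp_f L48923) L66939 L124474
theorem L124483 : sm gi N8483 = N10265 := rfl
theorem L124485 : sm ga N10265 = N8506 := ded_16_1 (flp_i L67112) (flp_a L66941) L124483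
theorem L124487 : sm gc N10265 = N10265 := ded_29_1 (flp_i L124483) L66943 L124483
theorem L124488 : sm ge N10265 = N8484 := ded_38_1 (flp_i L66946) L66939 L124483
theorem L124490 : sm gh N8484 = N10266 := rfl
theorem L124492 : sm ga N10266 = N8507 := ded_15_1 (flp_h L67119) (flp_a L66948) L124490
theorem L124494 : sm gc N10266 = N10266 := ded_28_1 (flp_h L124490) L66950 L124490
theorem L124495 : sm gf N10266 = N8487 := ded_40_1 (flp_h L66970) (flp_f L66953) L124490
theorem L124497 : sm gg N10266 = N9320 := ded_42_1 (flp_h L124472) L124470 L124490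
theorem L124499 : sm gd N10266 = N9318 := ded_33_1 (flp_h L123984) L123978 L66503 (flp_d L66951) L124490
theorem L124501 : sm gi N10266 = N9161 := ded_44_2 (flp_h L72223) (flp_i L52752) (flp_h L48926) L66946 L124490
theorem L124503 : sm gg N8485 = N10267 := rfl
theorem L124505 : sm ga N10267 = N8508 := ded_14_1 (flp_g L67128) (flp_a L66957) L124503
theorem L124507 : sm gc N10267 = N10267 := ded_27_1 (flp_g L124503) L66959 L124503
theorem L124508 : sm gh N10267 = N9162 := ded_42_2 (flp_g L72230) (flp_h L66960) L124503
theorem L124510 : sm gf N10267 = N10267 := ded_39_1 (flp_g L124503) (flp_f L66955) L48941 L66955 L124503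
theorem L124511 : sm gi N8485 = N10268 := rfl
theorem L124513 : sm ga N10268 = N8509 := ded_16_1 (flp_i L67136) (flp_a L66957) L124511
theorem L124515 : sm gc N10268 = N10268 := ded_29_1 (flp_i L124511) L66959 L124511
theorem L124516 : sm gf N10268 = N8486 := ded_41_1 (flp_i L66962) L66955 L124511
theorem L124518 : sm gh N8486 = N10269 := rfl
theorem L124520 : sm ga N10269 = N8510 := ded_15_1 (flp_h L67143) (flp_a L66964) L124518
theorem L124522 : sm gc N10269 = N10269 := ded_28_1 (flp_h L124518) L66966 L124518
theorem L124523 : sm ge N10269 = N8487 := ded_37_1 (flp_h L66970) (flp_e L66967) L124518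
theorem L124525 : sm gg N10269 = N10269 := ded_42_1 (flp_h L124518) L66969 L124518
theorem L124526 : sm gi N10269 = N9164 := ded_44_2 (flp_h L72245) (flp_i L52767) (flp_h L48942) L66962 L124518
theorem L124528 : sm gi N8488 = N10270 := rfl
theorem L124530 : sm ga N10270 = N8512 := ded_16_1 (flp_i L67160) (flp_a L66980) L124528
theorem L124532 : sm gb N10270 = N10129 := ded_23_1 (flp_i L123159) (flp_b L103612) L124528
theorem L124534 : sm ge N10270 = N10270 := ded_38_1 (flp_i L124528) L66982 L124528
theorem L124535 : sm gf N10270 = N8490 := ded_41_1 (flp_i L66993) (flp_f L66983) L124528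
theorem L124537 : sm gc N8489 = N10271 := rfl
theorem L124539 : sm ga N10271 = N8513 := ded_10_1 (flp_c L67167) (flp_a L66987) L124537
theorem L124541 : sm ge N10271 = N10271 := ded_25_2 (flp_c L124537) L66991 L124537
theorem L124542 : sm gg N10271 = N8491 := ded_27_2 (flp_c L67001) (flp_g L66989) L124537
theorem L124544 : sm gh N10271 = N10271 := ded_28_2 (flp_c L124537) L66992 L124537
theorem L124545 : sm gi N8489 = N10272 := rfl
theorem L124547 : sm ga N10272 = N8514 := ded_16_1 (flp_i L67173) (flp_a L66987) L124545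
theorem L124549 : sm gd N10272 = N8490 := ded_34_1 (flp_i L66993) L66985 L124545
theorem L124551 : sm ge N10272 = N10272 := ded_38_1 (flp_i L124545) L66991 L124545
theorem L124552 : sm gg N10272 = N8492 := ded_43_1 (flp_i L67007) (flp_g L66989) L124545
theorem L124554 : sm gb N8491 = N10273 := rfl
theorem L124556 : sm ge N10273 = N10273 := ded_19_2 (flp_b L124554) L67005 L124554
theorem L124557 : sm gh N10273 = N10273 := ded_22_2 (flp_b L124554) L67006 L124554
theorem L124558 : sm gi N8491 = N10274 := rfl
theorem L124560 : sm ga N10274 = N8516 := ded_16_1 (flp_i L67188) (flp_a L67003) L124558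
theorem L124562 : sm gc N10274 = N8492 := ded_29_1 (flp_i L67007) L67001 L124558
theorem L124564 : sm ge N10274 = N10274 := ded_38_1 (flp_i L124558) L67005 L124558
theorem L124565 : sm gh N8492 = N10275 := rfl
theorem L124567 : sm ga N10275 = N8517 := ded_15_1 (flp_h L67193) (flp_a L67009) L124565
theorem L124569 : sm ge N10275 = N10275 := ded_37_1 (flp_h L124565) L67013 L124565
theorem L124570 : sm gi N10275 = N10275 := ded_44_2 (flp_h L124565) (flp_i L67007) L48971 L67007 L124565
theorem L124571 : sm gh N8493 = N10276 := rfl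
theorem L124573 : sm gb N10276 = N8631 := ded_22_1 (flp_h L68134) (flp_b L67016) L124571
theorem L124575 : sm gc N10276 = N10276 := ded_28_1 (flp_h L124571) L67018 L124571
theorem L124576 : sm ge N10276 = N9272 := ded_37_1 (flp_h L73048) (flp_e L119451) L124571
theorem L124578 : sm gf N10276 = N8494 := ded_40_1 (flp_h L67021) L67014 L124571
theorem L124580 : sm gd N8494 = N10277 := rfl
theorem L124582 : sm gb N10277 = N8632 := ded_18_1 (flp_d L68140) (flp_b L67023) L124580
theorem L124584 : sm gg N10277 = N8495 := ded_32_2 (flp_d L67030) (flp_g L67028) L124580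
theorem L124586 : sm ge N10277 = N9358 := ded_30_2 (flp_d L73689) L53854 L119547 (flp_e L67026) L124580
theorem L124588 : sm gh N10277 = N8498 := ded_33_2 (flp_d L67052) (flp_h L49009) (flp_d L48991) L67021 L124580
theorem L124590 : sm gi N8494 = N10278 := rfl
theorem L124592 : sm gb N10278 = N8633 := ded_23_1 (flp_i L68146) (flp_b L67023) L124590
theorem L124594 : sm gc N10278 = N10278 := ded_29_1 (flp_i L124590) L67025 L124590
theorem L124595 : sm ge N10278 = N8568 := ded_38_1 L116484 (flp_e L67026) L124590
theorem L124597 : sm gg N10278 = N8496 := ded_43_1 (flp_i L67036) (flp_g L67028) L124590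
theorem L124599 : sm gh N10278 = N8567 := ded_44_1 (flp_i L67616) L49419 L119470 L67021 L124590
theorem L124601 : sm gc N8495 = N10279 := rfl
theorem L124603 : sm gh N10279 = N8500 := ded_28_2 (flp_c L67068) (flp_h L67034) L124601
theorem L124605 : sm gd N10279 = N10279 := ded_24_2 (flp_c L124601) (flp_d L67030) L48999 L67030 L124601
theorem L124606 : sm ge N8495 = N10280 := rfl
theorem L124608 : sm gb N10280 = N8635 := ded_19_1 (flp_e L68160) (flp_b L67032) L124606
theorem L124610 : sm gg N10280 = N9358 := ded_36_2 (flp_e L124586) L124584 L124606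
theorem L124612 : sm gh N10280 = N8501 := ded_37_2 (flp_e L67072) (flp_h L67034) L124606
theorem L124614 : sm gd N10280 = N9177 := ded_30_1 (flp_e L72349) (flp_d L52840) (flp_e L49000) L67030 L124606
theorem L124616 : sm gi N8495 = N10281 := rfl
theorem L124618 : sm gb N10281 = N8636 := ded_23_1 (flp_i L68166) (flp_b L67032) L124616
theorem L124620 : sm gd N10281 = N8496 := ded_34_1 (flp_i L67036) L67030 L124616
theorem L124622 : sm gd N8497 = N10282 := rfl
theorem L124624 : sm gb N10282 = N8561 := ded_18_1 L67582 L103603 L124622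
theorem L124626 : sm gf N10282 = N8498 := ded_31_2 (flp_d L67052) (flp_f L67050) L124622
theorem L124628 : sm gi N8497 = N10283 := rfl
theorem L124630 : sm gb N10283 = N8577 := ded_23_1 (flp_i L67699) L103603 L124628
theorem L124632 : sm gc N10283 = N8512 := ded_29_1 (flp_i L67160) (flp_c L67047) L124628
theorem L124634 : sm ge N10283 = N10283 := ded_38_1 (flp_i L124628) L67049 L124628
theorem L124635 : sm gf N10283 = N8499 := ded_41_1 (flp_i L67058) (flp_f L67050) L124628
theorem L124637 : sm gc N8498 = N10284 := rfl
theorem L124639 : sm gg N10284 = N8500 := ded_27_2 (flp_c L67068) (flp_g L67056) L124637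
theorem L124641 : sm gb N10284 = N9893 := ded_17_1 (flp_c L121246) L61027 L103521 (flp_b L67054) L124637
theorem L124643 : sm gd N10284 = N8513 := ded_24_2 (flp_c L67167) (flp_d L49096) (flp_c L49013) L67052 L124637
theorem L124645 : sm ge N8498 = N10285 := rfl
theorem L124647 : sm gb N10285 = N8640 := ded_19_1 (flp_e L68187) (flp_b L67054) L124645
theorem L124649 : sm gg N10285 = N8501 := ded_36_2 (flp_e L67072) (flp_g L67056) L124645
theorem L124651 : sm gh N10285 = N9358 := ded_37_2 (flp_e L124586) L124588 L124645
theorem L124653 : sm gd N10285 = N8503 := ded_30_1 (flp_e L67084) (flp_d L49031) (flp_e L49015) L67052 L124645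
theorem L124655 : sm gi N8498 = N10286 := rfl
theorem L124657 : sm gb N10286 = N8641 := ded_23_1 (flp_i L68193) (flp_b L67054) L124655
theorem L124659 : sm gd N10286 = N8499 := ded_34_1 (flp_i L67058) L67052 L124655
theorem L124661 : sm gg N10286 = N8502 := ded_43_1 (flp_i L67078) (flp_g L67056) L124655
theorem L124663 : sm gb N8500 = N10287 := rfl
theorem L124665 : sm gd N10287 = N8515 := ded_18_2 (flp_b L67182) (flp_d L67070) L124663
theorem L124667 : sm gg N10287 = N9893 := ded_21_2 (flp_b L124641) L124639 L124663
theorem L124669 : sm gc N10287 = N8642 := ded_17_2 (flp_b L68199) (flp_c L49816) (flp_b L49021) L67068 L124663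
theorem L124671 : sm ge N8500 = N10288 := rfl
theorem L124673 : sm gc N10288 = N8501 := ded_25_1 (flp_e L67072) L67068 L124671
theorem L124675 : sm gd N10288 = N10288 := ded_30_1 (flp_e L124671) L67070 L49114 (flp_d L67070) L124671
theorem L124676 : sm gi N8500 = N10289 := rfl
theorem L124678 : sm gc N10289 = N8502 := ded_29_1 (flp_i L67078) L67068 L124676
theorem L124680 : sm gd N10289 = N8516 := ded_34_1 (flp_i L67188) (flp_d L67070) L124676
theorem L124682 : sm gf N8501 = N10290 := rfl
theorem L124684 : sm gb N10290 = N8645 := ded_20_1 (flp_f L68215) (flp_b L67074) L124682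
theorem L124686 : sm gd N10290 = N8505 := ded_31_1 (flp_f L67103) (flp_d L67076) L124682
theorem L124688 : sm gi N8501 = N10291 := rfl
theorem L124690 : sm gb N10291 = N8646 := ded_23_1 (flp_i L68219) (flp_b L67074) L124688
theorem L124692 : sm gd N10291 = N8506 := ded_34_1 (flp_i L67112) (flp_d L67076) L124688
theorem L124694 : sm ge N10291 = N8502 := ded_38_1 (flp_i L67078) L67072 L124688
theorem L124696 : sm gh N8502 = N10292 := rfl
theorem L124698 : sm gb N10292 = N8647 := ded_22_1 (flp_h L68225) (flp_b L67080) L124696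
theorem L124700 : sm gf N8503 = N10293 := rfl
theorem L124702 : sm gb N10293 = N8648 := ded_20_1 (flp_f L68227) (flp_b L67086) L124700
theorem L124704 : sm gc N10293 = N10293 := ded_26_1 (flp_f L124700) L67088 L124700
theorem L124705 : sm gh N10293 = N9189 := ded_40_2 (flp_f L72436) (flp_h L67091) L124700
theorem L124707 : sm ge N10293 = N10293 := ded_35_1 (flp_f L124700) (flp_e L67084) L49035 L67084 L124700
theorem L124708 : sm gi N8503 = N10294 := rfl
theorem L124710 : sm gb N10294 = N8649 := ded_23_1 (flp_i L68234) (flp_b L67086) L124708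
theorem L124712 : sm gc N10294 = N10294 := ded_29_1 (flp_i L124708) L67088 L124708
theorem L124713 : sm ge N10294 = N8504 := ded_38_1 (flp_i L67093) L67084 L124708
theorem L124715 : sm gg N10294 = N8506 := ded_43_1 (flp_i L67112) (flp_g L67089) L124708
theorem L124717 : sm gh N10294 = N9343 := ded_44_1 (flp_i L73589) L53763 L117843 (flp_h L67091) L124708
theorem L124719 : sm gg N8505 = N10295 := rfl
theorem L124721 : sm gb N10295 = N8651 := ded_21_1 (flp_g L68251) (flp_b L67105) L124719
theorem L124723 : sm gc N10295 = N10295 := ded_27_1 (flp_g L124719) L67107 L124719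
theorem L124724 : sm ge N10295 = N8508 := ded_36_1 (flp_g L67128) (flp_e L67110) L124719
theorem L124726 : sm gh N10295 = N9192 := ded_42_2 (flp_g L72459) (flp_h L67108) L124719
theorem L124728 : sm gi N8505 = N10296 := rfl
theorem L124730 : sm gb N10296 = N8652 := ded_23_1 (flp_i L68259) (flp_b L67105) L124728
theorem L124732 : sm gc N10296 = N10296 := ded_29_1 (flp_i L124728) L67107 L124728
theorem L124733 : sm ge N10296 = N8509 := ded_38_1 (flp_i L67136) (flp_e L67110) L124728
theorem L124735 : sm gf N10296 = N8506 := ded_41_1 (flp_i L67112) L67103 L124728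
theorem L124737 : sm gh N8506 = N10297 := rfl
theorem L124739 : sm gb N10297 = N8653 := ded_22_1 (flp_h L68267) (flp_b L67114) L124737
theorem L124741 : sm gc N10297 = N10297 := ded_28_1 (flp_h L124737) L67116 L124737
theorem L124742 : sm ge N10297 = N8507 := ded_37_1 (flp_h L67119) (flp_e L67117) L124737
theorem L124744 : sm gg N10297 = N9343 := ded_42_1 (flp_h L124717) L124715 L124737
theorem L124746 : sm gi N10297 = N9194 := ded_44_2 (flp_h L72475) (flp_i L52922) (flp_h L49055) L67112 L124737
theorem L124748 : sm gi N8508 = N10298 := rfl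
theorem L124750 : sm gb N10298 = N8654 := ded_23_1 (flp_i L68275) (flp_b L67130) L124748
theorem L124752 : sm gc N10298 = N10298 := ded_29_1 (flp_i L124748) L67132 L124748
theorem L124753 : sm gf N10298 = N10298 := ded_41_1 (flp_i L124748) L67135 L124748
theorem L124754 : sm gg N10298 = N8509 := ded_43_1 (flp_i L67136) L67128 L124748
theorem L124756 : sm gh N8509 = N10299 := rfl
theorem L124758 : sm gb N10299 = N8655 := ded_22_1 (flp_h L68282) (flp_b L67138) L124756
theorem L124760 : sm gc N10299 = N10299 := ded_28_1 (flp_h L124756) L67140 L124756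
theorem L124761 : sm gf N10299 = N8510 := ded_40_1 (flp_h L67143) (flp_f L67141) L124756
theorem L124763 : sm gi N10299 = N9196 := ded_44_2 (flp_h L72491) (flp_i L52943) (flp_h L49071) L67136 L124756
theorem L124765 : sm gd N8510 = N10300 := rfl
theorem L124767 : sm gb N10300 = N8656 := ded_18_1 (flp_d L68290) (flp_b L67145) L124765
theorem L124769 : sm gg N10300 = N10300 := ded_32_2 (flp_d L124765) L67150 L124765
theorem L124770 : sm gi N10300 = N9197 := ded_34_2 (flp_d L72498) (flp_i L67151) L124765
theorem L124772 : sm gi N8513 = N10301 := rfl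
theorem L124774 : sm gb N10301 = N9902 := ded_23_1 (flp_i L121308) (flp_b L120747) L124772
theorem L124776 : sm gc N10301 = N8514 := ded_29_1 (flp_i L67173) L67167 L124772
theorem L124778 : sm ge N10301 = N10301 := ded_38_1 (flp_i L124772) L67169 L124772
theorem L124779 : sm gg N10301 = N8516 := ded_43_1 (flp_i L67188) (flp_g L67170) L124772
theorem L124781 : sm gh N8514 = N10302 := rfl
theorem L124783 : sm gb N10302 = N8523 := ded_22_1 (flp_h L67234) (flp_b L67175) L124781
theorem L124785 : sm ge N10302 = N10302 := ded_37_1 (flp_h L124781) L67179 L124781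
theorem L124786 : sm gg N10302 = N8517 := ded_42_1 (flp_h L67193) (flp_g L67180) L124781
theorem L124788 : sm gi N10302 = N10302 := ded_44_2 (flp_h L124781) (flp_i L67173) L49103 L67173 L124781
theorem L124789 : sm ga N8515 = N10303 := rfl
theorem L124791 : sm gc N10303 = N8524 := ded_10_2 (flp_a L67240) (flp_c L67186) L124789
theorem L124793 : sm ge N10303 = N10303 := ded_12_2 (flp_a L124789) L67184 L124789
theorem L124794 : sm gg N10303 = N9889 := ded_14_2 L121221 L120853 L124789
theorem L124796 : sm gh N10303 = N10303 := ded_15_2 (flp_a L124789) L67185 L124789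
theorem L124797 : sm gi N8515 = N10304 := rfl
theorem L124799 : sm gb N10304 = N8516 := ded_23_1 (flp_i L67188) L67182 L124797
theorem L124801 : sm gc N10304 = N8525 := ded_29_1 (flp_i L67246) (flp_c L67186) L124797
theorem L124803 : sm ge N10304 = N10304 := ded_38_1 (flp_i L124797) L67184 L124797
theorem L124804 : sm gg N10304 = N9902 := ded_43_1 (flp_i L121308) L120853 L124797
theorem L124806 : sm gh N8516 = N10305 := rfl
theorem L124808 : sm gc N10305 = N8517 := ded_28_1 (flp_h L67193) (flp_c L67190) L124806
theorem L124810 : sm ge N10305 = N10305 := ded_37_1 (flp_h L124806) L67192 L124806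
theorem L124811 : sm gi N10305 = N10305 := ded_44_2 (flp_h L124806) (flp_i L67188) L49115 L67188 L124806
theorem L124812 : sm gi N8524 = N10306 := rfl
theorem L124814 : sm ga N10306 = N8525 := ded_16_1 (flp_i L67246) L67240 L124812
theorem L124816 : sm gb N10306 = N10272 := ded_23_1 (flp_i L124545) L120753 L124812
theorem L124818 : sm gd N10306 = N8674 := ded_34_1 (flp_i L68429) (flp_d L67242) L124812
theorem L124820 : sm ge N10306 = N10306 := ded_38_1 (flp_i L124812) L67244 L124812
theorem L124821 : sm gg N10306 = N9890 := ded_43_1 (flp_i L121225) L120851 L124812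
theorem L124823 : sm gh N8525 = N10307 := rfl
theorem L124825 : sm gb N10307 = N8526 := ded_22_1 (flp_h L67253) (flp_b L67248) L124823
theorem L124827 : sm ge N10307 = N10307 := ded_37_1 (flp_h L124823) L67252 L124823
theorem L124828 : sm gg N10307 = N9903 := ded_42_1 (flp_h L121313) L120749 L124823
theorem L124830 : sm gi N10307 = N10307 := ded_44_2 (flp_h L124823) (flp_i L67246) L49155 L67246 L124823
theorem L124831 : sm gc N8527 = N10308 := rfl
theorem L124833 : sm ge N10308 = N9206 := ded_25_2 (flp_c L72569) (flp_e L67267) L124831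
theorem L124835 : sm gf N10308 = N9904 := ded_26_2 (flp_c L121319) (flp_f L67263) L124831
theorem L124837 : sm gi N10308 = N8588 := ded_29_2 (flp_c L67801) (flp_i L67265) L124831
theorem L124839 : sm gb N10308 = N8677 := ded_17_1 (flp_c L68447) L50010 (flp_c L49222) (flp_b L67261) L124831
theorem L124841 : sm gd N10308 = N10056 := ded_24_2 (flp_c L122556) (flp_d L65011) (flp_c L49171) L67259 L124831
theorem L124843 : sm gg N8527 = N10309 := rfl
theorem L124845 : sm ga N10309 = N9216 := ded_14_1 L123816 L123806 L124843
theorem L124847 : sm gb N10309 = N8536 := ded_21_1 (flp_g L67340) (flp_b L67261) L124843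
theorem L124849 : sm gd N10309 = N8528 := ded_32_1 (flp_g L67269) L67259 L124843
theorem L124851 : sm ge N10309 = N9073 := ded_36_1 L118729 (flp_e L67267) L124843
theorem L124853 : sm gi N10309 = N8589 := ded_43_2 (flp_g L67807) (flp_i L67265) L124843
theorem L124855 : sm gh N8527 = N10310 := rfl
theorem L124857 : sm gb N10310 = N8537 := ded_22_1 (flp_h L67352) (flp_b L67261) L124855
theorem L124859 : sm ge N10310 = N9208 := ded_37_1 (flp_h L72585) (flp_e L67267) L124855
theorem L124861 : sm gf N10310 = N9905 := ded_40_1 (flp_h L121326) (flp_f L67263) L124855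
theorem L124863 : sm gh N8528 = N10311 := rfl
theorem L124865 : sm gb N10311 = N8539 := ded_22_1 (flp_h L67373) (flp_b L67271) L124863
theorem L124867 : sm gc N10311 = N10060 := ded_28_1 (flp_h L122590) (flp_c L67273) L124863
theorem L124869 : sm ge N10311 = N8530 := ded_37_1 (flp_h L67289) (flp_e L67275) L124863
theorem L124871 : sm gg N10311 = N8529 := ded_42_1 (flp_h L67279) L67269 L124863
theorem L124873 : sm gd N8529 = N10312 := rfl
theorem L124875 : sm gb N10312 = N8540 := ded_18_1 (flp_d L67383) (flp_b L67281) L124873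
theorem L124877 : sm gf N10312 = N9906 := ded_31_2 (flp_d L121331) (flp_f L67287) L124873
theorem L124879 : sm gi N8529 = N10313 := rfl
theorem L124881 : sm gb N10313 = N8541 := ded_23_1 (flp_i L67389) (flp_b L67281) L124879
theorem L124883 : sm gc N10313 = N10062 := ded_29_1 (flp_i L122604) (flp_c L67283) L124879
theorem L124885 : sm ge N10313 = N8532 := ded_38_1 (flp_i L67306) (flp_e L67285) L124879
theorem L124887 : sm gf N10313 = N9907 := ded_41_1 (flp_i L121335) (flp_f L67287) L124879
theorem L124889 : sm gh N10313 = N8594 := ded_44_1 (flp_i L67838) (flp_h L49573) (flp_i L49173) L67279 L124879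
theorem L124891 : sm gd N8530 = N10314 := rfl
theorem L124893 : sm ga N10314 = N9208 := ded_11_1 (flp_d L123855) L123846 L124891
theorem L124895 : sm gb N10314 = N8542 := ded_18_1 (flp_d L67401) (flp_b L67291) L124891
theorem L124897 : sm gf N10314 = N10314 := ded_31_2 (flp_d L124891) L67295 L124891
theorem L124898 : sm gg N10314 = N8531 := ded_32_2 (flp_d L67298) (flp_g L67296) L124891
theorem L124900 : sm gh N10314 = N9069 := ded_33_2 (flp_d L71498) (flp_h L117644) (flp_d L49183) L67289 L124891
theorem L124902 : sm gi N8530 = N10315 := rfl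
theorem L124904 : sm gb N10315 = N8543 := ded_23_1 (flp_i L67411) (flp_b L67291) L124902
theorem L124906 : sm gc N10315 = N10064 := ded_29_1 (flp_i L122622) (flp_c L67293) L124902
theorem L124908 : sm gf N10315 = N10315 := ded_41_1 (flp_i L124902) L67295 L124902
theorem L124909 : sm gg N10315 = N8532 := ded_43_1 (flp_i L67306) (flp_g L67296) L124902
theorem L124911 : sm gh N10315 = N8596 := ded_44_1 (flp_i L67853) (flp_h L49579) (flp_i L49185) L67289 L124902
theorem L124913 : sm gc N8531 = N10316 := rfl
theorem L124915 : sm gf N10316 = N8533 := ded_26_2 (flp_c L67316) (flp_f L67302) L124913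
theorem L124917 : sm gh N10316 = N9215 := ded_28_2 (flp_c L72640) (flp_h L67304) L124913
theorem L124919 : sm gb N10316 = N10316 := ded_17_1 (flp_c L124913) L67300 L49261 (flp_b L67300) L124913
theorem L124920 : sm gd N10316 = N10065 := ded_24_2 (flp_c L122631) (flp_d L65043) (flp_c L49192) L67298 L124913
theorem L124922 : sm ge N8531 = N10317 := rfl
theorem L124924 : sm gb N10317 = N8544 := ded_19_1 (flp_e L67422) (flp_b L67300) L124922
theorem L124926 : sm gh N10317 = N9216 := ded_37_2 (flp_e L72646) (flp_h L67304) L124922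
theorem L124928 : sm gi N8531 = N10318 := rfl
theorem L124930 : sm gb N10318 = N8545 := ded_23_1 (flp_i L67429) (flp_b L67300) L124928
theorem L124932 : sm gd N10318 = N8532 := ded_34_1 (flp_i L67306) L67298 L124928
theorem L124934 : sm gf N10318 = N8535 := ded_41_1 (flp_i L67333) (flp_f L67302) L124928
theorem L124936 : sm ge N8533 = N10319 := rfl
theorem L124938 : sm gb N10319 = N10319 := ded_19_1 (flp_e L124936) L67321 L124936
theorem L124939 : sm gc N10319 = N8534 := ded_25_1 (flp_e L67324) L67316 L124936
theorem L124941 : sm gg N10319 = N10319 := ded_36_2 (flp_e L124936) L67318 L124936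
theorem L124942 : sm gh N10319 = N9218 := ded_37_2 (flp_e L72658) (flp_h L67319) L124936
theorem L124944 : sm gi N8533 = N10320 := rfl
theorem L124946 : sm gb N10320 = N10320 := ded_23_1 (flp_i L124944) L67321 L124944
theorem L124947 : sm gc N10320 = N8535 := ded_29_1 (flp_i L67333) L67316 L124944
theorem L124949 : sm gd N10320 = N10069 := ded_34_1 (flp_i L122657) (flp_d L67322) L124944
theorem L124951 : sm gg N10320 = N10320 := ded_43_1 (flp_i L124944) L67318 L124944
theorem L124952 : sm gf N8534 = N10321 := rfl
theorem L124954 : sm gb N10321 = N8546 := ded_20_1 (flp_f L67438) (flp_b L67326) L124952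
theorem L124956 : sm gd N10321 = N9913 := ded_31_1 (flp_f L121382) (flp_d L67331) L124952
theorem L124958 : sm gh N10321 = N9220 := ded_40_2 (flp_f L72671) (flp_h L67329) L124952
theorem L124960 : sm gi N8534 = N10322 := rfl
theorem L124962 : sm gb N10322 = N8547 := ded_23_1 (flp_i L67447) (flp_b L67326) L124960
theorem L124964 : sm gd N10322 = N9914 := ded_34_1 (flp_i L121387) (flp_d L67331) L124960
theorem L124966 : sm ge N10322 = N8535 := ded_38_1 (flp_i L67333) L67324 L124960
theorem L124968 : sm gg N10322 = N10322 := ded_43_1 (flp_i L124960) L67328 L124960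
theorem L124969 : sm gh N8535 = N10323 := rfl
theorem L124971 : sm gb N10323 = N8548 := ded_22_1 (flp_h L67457) (flp_b L67335) L124969
theorem L124973 : sm gg N10323 = N10323 := ded_42_1 (flp_h L124969) L67339 L124969
theorem L124974 : sm gd N10323 = N8604 := ded_33_1 (flp_h L67911) L49618 (flp_h L49212) (flp_d L67337) L124969
theorem L124976 : sm gi N10323 = N9222 := ded_44_2 (flp_h L72684) (flp_i L53088) (flp_h L49201) L67333 L124969
theorem L124978 : sm gd N8537 = N10324 := rfl
theorem L124980 : sm ga N10324 = N8556 := ded_11_1 (flp_d L67539) (flp_a L67354) L124978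
theorem L124982 : sm gf N10324 = N9916 := ded_31_2 (flp_d L121400) (flp_f L67360) L124978
theorem L124984 : sm gh N10324 = N8540 := ded_33_2 (flp_d L67383) (flp_h L49236) L49214 L67352 L124978
theorem L124986 : sm gi N8537 = N10325 := rfl
theorem L124988 : sm ga N10325 = N8557 := ded_16_1 (flp_i L67545) (flp_a L67354) L124986
theorem L124990 : sm gc N10325 = N8696 := ded_29_1 (flp_i L68642) (flp_c L67356) L124986
theorem L124992 : sm ge N10325 = N9226 := ded_38_1 (flp_i L72717) (flp_e L67358) L124986
theorem L124994 : sm gf N10325 = N9917 := ded_41_1 (flp_i L121406) (flp_f L67360) L124986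
theorem L124996 : sm gh N10325 = N8608 := ded_44_1 (flp_i L67942) (flp_h L49631) (flp_i L49220) L67352 L124986
theorem L124998 : sm gd N8539 = N10326 := rfl
theorem L125000 : sm ga N10326 = N8559 := ded_11_1 (flp_d L67564) (flp_a L67375) L124998
theorem L125002 : sm gg N10326 = N8540 := ded_32_2 (flp_d L67383) (flp_g L67381) L124998
theorem L125004 : sm gi N8539 = N10327 := rfl
theorem L125006 : sm ga N10327 = N8560 := ded_16_1 (flp_i L67568) (flp_a L67375) L125004
theorem L125008 : sm gc N10327 = N8551 := ded_29_1 (flp_i L67489) (flp_c L67377) L125004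
theorem L125010 : sm ge N10327 = N8543 := ded_38_1 (flp_i L67411) (flp_e L67379) L125004
theorem L125012 : sm gg N10327 = N8541 := ded_43_1 (flp_i L67389) (flp_g L67381) L125004
theorem L125014 : sm gh N10327 = N8611 := ded_44_1 (flp_i L67965) (flp_h L49646) (flp_i L49234) L67373 L125004
theorem L125016 : sm gc N8540 = N10328 := rfl
theorem L125018 : sm ga N10328 = N8561 := ded_10_1 (flp_c L67578) (flp_a L67385) L125016
theorem L125020 : sm gf N10328 = N8610 := ded_26_2 L120843 (flp_f L67387) L125016
theorem L125022 : sm gd N10328 = N8552 := ded_24_2 (flp_c L67501) (flp_d L49315) (flp_c L49240) L67383 L125016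
theorem L125024 : sm ge N8540 = N10329 := rfl
theorem L125026 : sm ga N10329 = N8562 := ded_12_1 (flp_e L67584) (flp_a L67385) L125024
theorem L125028 : sm gd N10329 = N8544 := ded_30_1 (flp_e L67422) (flp_d L49255) (flp_e L49242) L67383 L125024
theorem L125030 : sm gi N8540 = N10330 := rfl
theorem L125032 : sm ga N10330 = N8563 := ded_16_1 (flp_i L67588) (flp_a L67385) L125030
theorem L125034 : sm gd N10330 = N8541 := ded_34_1 (flp_i L67389) L67383 L125030
theorem L125036 : sm gf N10330 = N9919 := ded_41_1 (flp_i L121419) (flp_f L67387) L125030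
theorem L125038 : sm gi N8542 = N10331 := rfl
theorem L125040 : sm ga N10331 = N8565 := ded_16_1 (flp_i L67601) (flp_a L67403) L125038
theorem L125042 : sm gc N10331 = N10331 := ded_29_1 (flp_i L125038) L67408 L125038
theorem L125043 : sm gd N10331 = N8543 := ded_34_1 (flp_i L67411) L67401 L125038
theorem L125045 : sm gf N10331 = N10331 := ded_41_1 (flp_i L125038) L67405 L125038
theorem L125046 : sm gg N10331 = N8545 := ded_43_1 (flp_i L67429) (flp_g L67406) L125038
theorem L125048 : sm gh N10331 = N9150 := ded_44_1 (flp_i L72140) (flp_h L52692) (flp_i L52311) (flp_h L119620) L125038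
theorem L125050 : sm gf N8544 = N10332 := rfl
theorem L125052 : sm ga N10332 = N8566 := ded_13_1 (flp_f L67609) (flp_a L67424) L125050
theorem L125054 : sm gc N10332 = N10332 := ded_26_1 (flp_f L125050) L67426 L125050
theorem L125055 : sm gh N10332 = N9235 := ded_40_2 (flp_f L72791) (flp_h L67427) L125050
theorem L125057 : sm ge N10332 = N8546 := ded_35_1 (flp_f L67438) (flp_e L49274) (flp_f L49259) L67422 L125050
theorem L125059 : sm gi N8544 = N10333 := rfl
theorem L125061 : sm ga N10333 = N8567 := ded_16_1 (flp_i L67616) (flp_a L67424) L125059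
theorem L125063 : sm gc N10333 = N10333 := ded_29_1 (flp_i L125059) L67426 L125059
theorem L125064 : sm ge N10333 = N8545 := ded_38_1 (flp_i L67429) L67422 L125059
theorem L125066 : sm gh N8545 = N10334 := rfl
theorem L125068 : sm ga N10334 = N8568 := ded_15_1 (flp_h L67621) (flp_a L67431) L125066
theorem L125070 : sm gc N10334 = N10334 := ded_28_1 (flp_h L125066) L67433 L125066
theorem L125071 : sm gf N10334 = N8548 := ded_40_1 (flp_h L67457) (flp_f L67436) L125066
theorem L125073 : sm gg N10334 = N9150 := ded_42_1 (flp_h L125048) L125046 L125066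
theorem L125075 : sm gd N10334 = N8619 := ded_33_1 (flp_h L68032) L49702 (flp_h L49272) (flp_d L67434) L125066
theorem L125077 : sm gi N10334 = N9148 := ded_44_2 (flp_h L72126) (flp_i L118816) (flp_h L49262) L67429 L125066
theorem L125079 : sm gg N8546 = N10335 := rfl
theorem L125081 : sm ga N10335 = N8569 := ded_14_1 (flp_g L67630) (flp_a L67440) L125079
theorem L125083 : sm gc N10335 = N10335 := ded_27_1 (flp_g L125079) L67442 L125079
theorem L125084 : sm gd N10335 = N9923 := ded_32_1 (flp_g L121451) (flp_d L67443) L125079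
theorem L125086 : sm gh N10335 = N9238 := ded_42_2 (flp_g L72814) (flp_h L67445) L125079
theorem L125088 : sm gf N10335 = N10335 := ded_39_1 (flp_g L125079) (flp_f L67438) L49279 L67438 L125079
theorem L125089 : sm gi N8546 = N10336 := rfl
theorem L125091 : sm ga N10336 = N8570 := ded_16_1 (flp_i L67638) (flp_a L67440) L125089
theorem L125093 : sm gc N10336 = N10336 := ded_29_1 (flp_i L125089) L67442 L125089
theorem L125094 : sm gd N10336 = N9924 := ded_34_1 (flp_i L121459) (flp_d L67443) L125089
theorem L125096 : sm gf N10336 = N8547 := ded_41_1 (flp_i L67447) L67438 L125089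
theorem L125098 : sm gh N8547 = N10337 := rfl
theorem L125100 : sm ga N10337 = N8571 := ded_15_1 (flp_h L67645) (flp_a L67449) L125098
theorem L125102 : sm gc N10337 = N10337 := ded_28_1 (flp_h L125098) L67451 L125098
theorem L125103 : sm ge N10337 = N8548 := ded_37_1 (flp_h L67457) (flp_e L67454) L125098
theorem L125105 : sm gg N10337 = N10337 := ded_42_1 (flp_h L125098) L67456 L125098
theorem L125106 : sm gi N10337 = N9240 := ded_44_2 (flp_h L72829) (flp_i L53187) (flp_h L49280) L67447 L125098
theorem L125108 : sm gb N8552 = N10338 := rfl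
theorem L125110 : sm ge N10338 = N10338 := ded_19_2 (flp_b L125108) L67505 L125108
theorem L125111 : sm gf N10338 = N8592 := ded_20_2 L67828 L94211 L125108
theorem L125113 : sm gh N10338 = N8591 := ded_22_2 L67823 (flp_h L94206) L125108
theorem L125115 : sm gc N10338 = N10094 := ded_17_2 (flp_b L122887) (flp_c L65227) (flp_b L49319) L67501 L125108
theorem L125117 : sm gi N8552 = N10339 := rfl
theorem L125119 : sm ga N10339 = N8577 := ded_16_1 (flp_i L67699) (flp_a L67503) L125117
theorem L125121 : sm gc N10339 = N8553 := ded_29_1 (flp_i L67510) L67501 L125117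
theorem L125123 : sm ge N10339 = N10339 := ded_38_1 (flp_i L125117) L67505 L125117
theorem L125124 : sm gf N10339 = N8611 := ded_41_1 (flp_i L67965) L94211 L125117
theorem L125126 : sm gc N8556 = N10340 := rfl
theorem L125128 : sm gf N10340 = N8632 := ded_26_2 L120845 (flp_f L67541) L125126
theorem L125130 : sm gh N10340 = N8561 := ded_28_2 (flp_c L67578) (flp_h L67543) L125126
theorem L125132 : sm gd N10340 = N8631 := ded_24_2 (flp_c L110704) (flp_d L50288) (flp_c L49362) L67539 L125126
theorem L125134 : sm gi N8556 = N10341 := rfl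
theorem L125136 : sm gd N10341 = N8557 := ded_34_1 (flp_i L67545) L67539 L125134
theorem L125138 : sm gf N10341 = N9927 := ded_41_1 (flp_i L121482) (flp_f L67541) L125134
theorem L125140 : sm gi N8559 = N10342 := rfl
theorem L125142 : sm gd N10342 = N8560 := ded_34_1 (flp_i L67568) L67564 L125140
theorem L125144 : sm gg N10342 = N8563 := ded_43_1 (flp_i L67588) (flp_g L67566) L125140
theorem L125146 : sm ge N8561 = N10343 := rfl
theorem L125148 : sm gc N10343 = N8562 := ded_25_1 (flp_e L67584) L67578 L125146
theorem L125150 : sm gd N10343 = N10343 := ded_30_1 (flp_e L125146) L67582 L49481 (flp_d L67582) L125146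
theorem L125151 : sm gi N8561 = N10344 := rfl
theorem L125153 : sm gc N10344 = N8563 := ded_29_1 (flp_i L67588) L67578 L125151
theorem L125155 : sm gd N10344 = N8577 := ded_34_1 (flp_i L67699) (flp_d L67582) L125151
theorem L125157 : sm gf N10344 = N8641 := ded_41_1 (flp_i L68193) (flp_f L103519) L125151
theorem L125159 : sm gf N8562 = N10345 := rfl
theorem L125161 : sm gd N10345 = N8566 := ded_31_1 (flp_f L67609) (flp_d L67586) L125159
theorem L125163 : sm ge N10345 = N9928 := ded_35_1 (flp_f L121486) (flp_e L61446) (flp_f L49387) L67584 L125159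
theorem L125165 : sm gi N8562 = N10346 := rfl
theorem L125167 : sm gd N10346 = N8567 := ded_34_1 (flp_i L67616) (flp_d L67586) L125165
theorem L125169 : sm ge N10346 = N8563 := ded_38_1 (flp_i L67588) L67584 L125165
theorem L125171 : sm gh N8563 = N10347 := rfl
theorem L125173 : sm gf N10347 = N9930 := ded_40_1 (flp_h L121496) (flp_f L67592) L125171
theorem L125175 : sm gd N10347 = N8647 := ded_33_1 (flp_h L68225) L49826 (flp_h L49397) (flp_d L67590) L125171
theorem L125177 : sm gi N8566 = N10348 := rfl
theorem L125179 : sm gc N10348 = N10348 := ded_29_1 (flp_i L125177) L67611 L125177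
theorem L125180 : sm ge N10348 = N8570 := ded_38_1 (flp_i L67638) (flp_e L67614) L125177
theorem L125182 : sm gf N10348 = N8567 := ded_41_1 (flp_i L67616) L67609 L125177
theorem L125184 : sm gi N8569 = N10349 := rfl
theorem L125186 : sm gc N10349 = N10349 := ded_29_1 (flp_i L125184) L67632 L125184
theorem L125187 : sm gd N10349 = N9934 := ded_34_1 (flp_i L121520) (flp_d L67633) L125184
theorem L125189 : sm gf N10349 = N10349 := ded_41_1 (flp_i L125184) L67637 L125184
theorem L125190 : sm gg N10349 = N8570 := ded_43_1 (flp_i L67638) L67630 L125184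
theorem L125192 : sm gh N8570 = N10350 := rfl
theorem L125194 : sm gc N10350 = N10350 := ded_28_1 (flp_h L125192) L67640 L125192
theorem L125195 : sm gf N10350 = N8571 := ded_40_1 (flp_h L67645) (flp_f L67643) L125192
theorem L125197 : sm gi N10350 = N9272 := ded_44_2 (flp_h L73048) (flp_i L53350) (flp_h L49433) L67638 L125192
theorem L125199 : sm gd N8571 = N10351 := rfl
theorem L125201 : sm gg N10351 = N10351 := ded_32_2 (flp_d L125199) L67650 L125199
theorem L125202 : sm gi N10351 = N9273 := ded_34_2 (flp_d L73053) (flp_i L67651) L125199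
theorem L125204 : sm ge N10351 = N8656 := ded_30_2 (flp_d L68290) L49884 (flp_d L49447) (flp_e L67648) L125199
theorem L125206 : sm gh N10351 = N9936 := ded_33_2 (flp_d L121534) (flp_h L61502) (flp_d L49438) L67645 L125199
theorem L125208 : sm gg N8588 = N10352 := rfl
theorem L125210 : sm gb N10352 = N8759 := ded_21_1 (flp_g L69182) (flp_b L67805) L125208
theorem L125212 : sm gc N10352 = N8589 := ded_27_1 (flp_g L67807) L67801 L125208
theorem L125214 : sm ge N10352 = N9288 := ded_36_1 (flp_g L73177) (flp_e L67803) L125208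
theorem L125216 : sm gh N8588 = N10353 := rfl
theorem L125218 : sm gb N10353 = N8760 := ded_22_1 (flp_h L69189) (flp_b L67805) L125216
theorem L125220 : sm gc N10353 = N8590 := ded_28_1 (flp_h L67815) L67801 L125216
theorem L125222 : sm ge N10353 = N9289 := ded_37_1 (flp_h L73184) (flp_e L67803) L125216
theorem L125224 : sm gf N8589 = N10354 := rfl
theorem L125226 : sm gb N10354 = N8605 := ded_20_1 (flp_f L67918) (flp_b L67809) L125224
theorem L125228 : sm gd N10354 = N8591 := ded_31_1 (flp_f L67821) (flp_d L67811) L125224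
theorem L125230 : sm gh N8589 = N10355 := rfl
theorem L125232 : sm gb N10355 = N8606 := ded_22_1 (flp_h L67926) (flp_b L67809) L125230
theorem L125234 : sm ge N10355 = N9291 := ded_37_1 (flp_h L73198) (flp_e L67813) L125230
theorem L125236 : sm gg N10355 = N8590 := ded_42_1 (flp_h L67815) L67807 L125230
theorem L125238 : sm gd N8590 = N10356 := rfl
theorem L125240 : sm gb N10356 = N8607 := ded_18_1 (flp_d L67936) (flp_b L67817) L125238
theorem L125242 : sm gh N10356 = N8593 := ded_33_2 (flp_d L67834) (flp_h L49573) L49561 L67815 L125238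
theorem L125244 : sm gi N8590 = N10357 := rfl
theorem L125246 : sm gb N10357 = N8608 := ded_23_1 (flp_i L67942) (flp_b L67817) L125244
theorem L125248 : sm ge N10357 = N9293 := ded_38_1 (flp_i L73211) (flp_e L67819) L125244
theorem L125250 : sm gd N8592 = N10358 := rfl
theorem L125252 : sm gb N10358 = N8610 := ded_18_1 (flp_d L67959) (flp_b L67828) L125250
theorem L125254 : sm gg N10358 = N8593 := ded_32_2 (flp_d L67834) (flp_g L67832) L125250
theorem L125256 : sm gi N8592 = N10359 := rfl
theorem L125258 : sm gb N10359 = N8611 := ded_23_1 (flp_i L67965) (flp_b L67828) L125256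
theorem L125260 : sm ge N10359 = N8596 := ded_38_1 (flp_i L67853) (flp_e L67830) L125256
theorem L125262 : sm gg N10359 = N8594 := ded_43_1 (flp_i L67838) (flp_g L67832) L125256
theorem L125264 : sm gc N8593 = N10360 := rfl
theorem L125266 : sm ge N8593 = N10361 := rfl
theorem L125268 : sm gb N10361 = N8613 := ded_19_1 (flp_e L67981) (flp_b L67836) L125266
theorem L125270 : sm gd N10361 = N8598 := ded_30_1 (flp_e L67868) (flp_d L49586) (flp_e L49577) L67834 L125266
theorem L125272 : sm gi N8593 = N10362 := rfl
theorem L125274 : sm gb N10362 = N8614 := ded_23_1 (flp_i L67987) (flp_b L67836) L125272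
theorem L125276 : sm gd N10362 = N8594 := ded_34_1 (flp_i L67838) L67834 L125272
theorem L125278 : sm gc N8595 = N10363 := rfl
theorem L125280 : sm gf N10363 = N10363 := ded_26_2 (flp_c L125278) L67848 L125278
theorem L125281 : sm gg N10363 = N8597 := ded_27_2 (flp_c L67860) (flp_g L67849) L125278
theorem L125283 : sm gh N10363 = N9300 := ded_28_2 (flp_c L73258) (flp_h L67851) L125278
theorem L125285 : sm gb N10363 = N8839 := ded_17_1 (flp_c L69750) L50970 (flp_c L49675) (flp_b L67846) L125278
theorem L125287 : sm ge N8595 = N10364 := rfl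
theorem L125289 : sm gb N10364 = N8615 := ded_19_1 (flp_e L67993) (flp_b L67846) L125287
theorem L125291 : sm gg N10364 = N8598 := ded_36_2 (flp_e L67868) (flp_g L67849) L125287
theorem L125293 : sm gh N10364 = N9301 := ded_37_2 (flp_e L73266) (flp_h L67851) L125287
theorem L125295 : sm gi N8595 = N10365 := rfl
theorem L125297 : sm gb N10365 = N8616 := ded_23_1 (flp_i L68003) (flp_b L67846) L125295
theorem L125299 : sm gd N10365 = N8596 := ded_34_1 (flp_i L67853) L67844 L125295
theorem L125301 : sm gf N10365 = N10365 := ded_41_1 (flp_i L125295) L67848 L125295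
theorem L125302 : sm gg N10365 = N8599 := ded_43_1 (flp_i L67874) (flp_g L67849) L125295
theorem L125304 : sm ge N8597 = N10366 := rfl
theorem L125306 : sm gb N10366 = N8842 := ded_19_1 (flp_e L69777) (flp_b L67866) L125304
theorem L125308 : sm gc N10366 = N8598 := ded_25_1 (flp_e L67868) L67860 L125304
theorem L125310 : sm gh N10366 = N9303 := ded_37_2 (flp_e L73281) (flp_h L67864) L125304
theorem L125312 : sm gi N8597 = N10367 := rfl
theorem L125314 : sm gb N10367 = N8843 := ded_23_1 (flp_i L69784) (flp_b L67866) L125312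
theorem L125316 : sm gc N10367 = N8599 := ded_29_1 (flp_i L67874) L67860 L125312
theorem L125318 : sm gf N10367 = N8601 := ded_41_1 (flp_i L67891) (flp_f L67862) L125312
theorem L125320 : sm gf N8598 = N10368 := rfl
theorem L125322 : sm gb N10368 = N8617 := ded_20_1 (flp_f L68014) (flp_b L67870) L125320
theorem L125324 : sm gh N10368 = N9305 := ded_40_2 (flp_f L73296) (flp_h L67872) L125320
theorem L125326 : sm ge N10368 = N8602 := ded_35_1 (flp_f L67898) (flp_e L49607) (flp_f L49590) L67868 L125320
theorem L125328 : sm gi N8598 = N10369 := rfl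
theorem L125330 : sm gb N10369 = N8618 := ded_23_1 (flp_i L68024) (flp_b L67870) L125328
theorem L125332 : sm ge N10369 = N8599 := ded_38_1 (flp_i L67874) L67868 L125328
theorem L125334 : sm gh N8599 = N10370 := rfl
theorem L125336 : sm gb N10370 = N8619 := ded_22_1 (flp_h L68032) (flp_b L67876) L125334
theorem L125338 : sm gf N10370 = N8604 := ded_40_1 (flp_h L67911) (flp_f L67880) L125334
theorem L125340 : sm gi N10370 = N9307 := ded_44_2 (flp_h L73308) (flp_i L53540) (flp_h L49592) L67874 L125334
theorem L125342 : sm gd N8600 = N10371 := rfl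
theorem L125344 : sm gb N10371 = N8847 := ded_18_1 (flp_d L69817) (flp_b L67884) L125342
theorem L125346 : sm gg N10371 = N10371 := ded_32_2 (flp_d L125342) L67888 L125342
theorem L125347 : sm gf N8600 = N10372 := rfl
theorem L125349 : sm gb N10372 = N8848 := ded_20_1 (flp_f L69822) (flp_b L67884) L125347
theorem L125351 : sm gc N10372 = N8602 := ded_26_1 (flp_f L67898) (flp_c L67886) L125347
theorem L125353 : sm gh N10372 = N9309 := ded_40_2 (flp_f L73321) (flp_h L67889) L125347
theorem L125355 : sm gi N8600 = N10373 := rfl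
theorem L125357 : sm gb N10373 = N8849 := ded_23_1 (flp_i L69829) (flp_b L67884) L125355
theorem L125359 : sm gc N10373 = N8603 := ded_29_1 (flp_i L67904) (flp_c L67886) L125355
theorem L125361 : sm ge N10373 = N8601 := ded_38_1 (flp_i L67891) L67882 L125355
theorem L125363 : sm gg N10373 = N10373 := ded_43_1 (flp_i L125355) L67888 L125355
theorem L125364 : sm gh N8601 = N10374 := rfl
theorem L125366 : sm gb N10374 = N8850 := ded_22_1 (flp_h L69837) (flp_b L67893) L125364
theorem L125368 : sm gc N10374 = N8604 := ded_28_1 (flp_h L67911) (flp_c L67895) L125364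
theorem L125370 : sm gg N10374 = N10374 := ded_42_1 (flp_h L125364) L67897 L125364
theorem L125371 : sm gi N10374 = N9311 := ded_44_2 (flp_h L73336) (flp_i L53555) (flp_h L49603) L67891 L125364
theorem L125373 : sm gg N8602 = N10375 := rfl
theorem L125375 : sm gb N10375 = N8620 := ded_21_1 (flp_g L68042) (flp_b L67900) L125373
theorem L125377 : sm gh N10375 = N9312 := ded_42_2 (flp_g L73343) (flp_h L67902) L125373
theorem L125379 : sm gf N10375 = N10375 := ded_39_1 (flp_g L125373) (flp_f L67898) L49611 L67898 L125373
theorem L125380 : sm gi N8602 = N10376 := rfl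
theorem L125382 : sm gb N10376 = N8621 := ded_23_1 (flp_i L68051) (flp_b L67900) L125380
theorem L125384 : sm gf N10376 = N8603 := ded_41_1 (flp_i L67904) L67898 L125380
theorem L125386 : sm gh N8603 = N10377 := rfl
theorem L125388 : sm gb N10377 = N8622 := ded_22_1 (flp_h L68059) (flp_b L67906) L125386
theorem L125390 : sm ge N10377 = N8604 := ded_37_1 (flp_h L67911) (flp_e L67908) L125386
theorem L125392 : sm gg N10377 = N10377 := ded_42_1 (flp_h L125386) L67910 L125386
theorem L125393 : sm gi N10377 = N9314 := ded_44_2 (flp_h L73356) (flp_i L53568) (flp_h L49612) L67904 L125386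
theorem L125395 : sm ge N8605 = N10378 := rfl
theorem L125397 : sm ga N10378 = N8630 := ded_12_1 (flp_e L68127) (flp_a L67920) L125395
theorem L125399 : sm gc N10378 = N8701 := ded_25_1 (flp_e L68690) L102337 L125395
theorem L125401 : sm gi N10378 = N9088 := ded_38_2 L123377 L123373 L125395
theorem L125403 : sm gd N10378 = N10378 := ded_30_1 (flp_e L125395) L67924 L49645 (flp_d L67924) L125395
theorem L125404 : sm gf N10378 = N9089 := ded_35_2 L71671 (flp_f L119437) (flp_e L49629) L67918 L125395
theorem L125406 : sm gh N8605 = N10379 := rfl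
theorem L125408 : sm ga N10379 = N8631 := ded_15_1 (flp_h L68134) (flp_a L67920) L125406
theorem L125410 : sm gc N10379 = N8695 := ded_28_1 L68640 L102337 L125406
theorem L125412 : sm gf N10379 = N8606 := ded_40_1 (flp_h L67926) L67918 L125406
theorem L125414 : sm gd N8606 = N10380 := rfl
theorem L125416 : sm ga N10380 = N8632 := ded_11_1 (flp_d L68140) (flp_a L67928) L125414
theorem L125418 : sm gg N10380 = N8607 := ded_32_2 (flp_d L67936) (flp_g L67934) L125414
theorem L125420 : sm gc N10380 = N9916 := ded_24_1 (flp_d L121400) L61260 L110698 (flp_c L67930) L125414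
theorem L125422 : sm gh N10380 = N8610 := ded_33_2 (flp_d L67959) (flp_h L49646) (flp_d L49627) L67926 L125414
theorem L125424 : sm gi N8606 = N10381 := rfl
theorem L125426 : sm ga N10381 = N8633 := ded_16_1 (flp_i L68146) (flp_a L67928) L125424
theorem L125428 : sm gc N10381 = N8773 := ded_29_1 (flp_i L69288) (flp_c L67930) L125424
theorem L125430 : sm ge N10381 = N9318 := ded_38_1 (flp_i L73389) (flp_e L67932) L125424
theorem L125432 : sm gg N10381 = N8608 := ded_43_1 (flp_i L67942) (flp_g L67934) L125424
theorem L125434 : sm gc N8607 = N10382 := rfl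
theorem L125436 : sm ga N10382 = N8634 := ded_10_1 (flp_c L68154) (flp_a L67938) L125434
theorem L125438 : sm gg N10382 = N9916 := ded_27_2 (flp_c L125420) L125418 L125434
theorem L125440 : sm gh N10382 = N8612 := ded_28_2 (flp_c L67975) (flp_h L67940) L125434
theorem L125442 : sm gd N10382 = N8774 := ded_24_2 (flp_c L69296) (flp_d L50611) (flp_c L49635) L67936 L125434
theorem L125444 : sm ge N8607 = N10383 := rfl
theorem L125446 : sm ga N10383 = N8635 := ded_12_1 (flp_e L68160) (flp_a L67938) L125444
theorem L125448 : sm gh N10383 = N8613 := ded_37_2 (flp_e L67981) (flp_h L67940) L125444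
theorem L125450 : sm gd N10383 = N9319 := ded_30_1 (flp_e L73397) (flp_d L53598) (flp_e L49637) L67936 L125444
theorem L125452 : sm gi N8607 = N10384 := rfl
theorem L125454 : sm ga N10384 = N8636 := ded_16_1 (flp_i L68166) (flp_a L67938) L125452
theorem L125456 : sm gd N10384 = N8608 := ded_34_1 (flp_i L67942) L67936 L125452
theorem L125458 : sm ge N8610 = N10385 := rfl
theorem L125460 : sm ga N10385 = N8640 := ded_12_1 (flp_e L68187) (flp_a L67961) L125458
theorem L125462 : sm gc N10385 = N9918 := ded_25_1 (flp_e L121413) (flp_c L120843) L125458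
theorem L125464 : sm gg N10385 = N8613 := ded_36_2 (flp_e L67981) (flp_g L67963) L125458
theorem L125466 : sm gd N10385 = N8615 := ded_30_1 (flp_e L67993) (flp_d L49668) (flp_e L49652) L67959 L125458
theorem L125468 : sm gi N8610 = N10386 := rfl
theorem L125470 : sm ga N10386 = N8641 := ded_16_1 (flp_i L68193) (flp_a L67961) L125468
theorem L125472 : sm gc N10386 = N9919 := ded_29_1 (flp_i L121419) (flp_c L120843) L125468
theorem L125474 : sm gd N10386 = N8611 := ded_34_1 (flp_i L67965) L67959 L125468
theorem L125476 : sm gg N10386 = N8614 := ded_43_1 (flp_i L67987) (flp_g L67963) L125468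
theorem L125478 : sm gb N8612 = N10387 := rfl
theorem L125480 : sm gd N10387 = N8627 := ded_18_2 (flp_b L68105) (flp_d L67979) L125478
theorem L125482 : sm gg N10387 = N9906 := ded_21_2 L121333 L120868 L125478
theorem L125484 : sm ge N8612 = N10388 := rfl
theorem L125486 : sm ga N10388 = N8643 := ded_12_1 (flp_e L68203) (flp_a L67977) L125484
theorem L125488 : sm gc N10388 = N8613 := ded_25_1 (flp_e L67981) L67975 L125484
theorem L125490 : sm gg N10388 = N9918 := ded_36_2 (flp_e L121413) L120868 L125484
theorem L125492 : sm gd N10388 = N8860 := ded_30_1 (flp_e L69923) L51083 (flp_e L49761) (flp_d L67979) L125484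
theorem L125494 : sm gi N8612 = N10389 := rfl
theorem L125496 : sm ga N10389 = N8644 := ded_16_1 (flp_i L68209) (flp_a L67977) L125494
theorem L125498 : sm gc N10389 = N8614 := ded_29_1 (flp_i L67987) L67975 L125494
theorem L125500 : sm gd N10389 = N8628 := ded_34_1 (flp_i L68111) (flp_d L67979) L125494
theorem L125502 : sm gg N10389 = N9919 := ded_43_1 (flp_i L121419) L120868 L125494
theorem L125504 : sm gf N8613 = N10390 := rfl
theorem L125506 : sm ga N10390 = N8645 := ded_13_1 (flp_f L68215) (flp_a L67983) L125504
theorem L125508 : sm gd N10390 = N8617 := ded_31_1 (flp_f L68014) (flp_d L67985) L125504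
theorem L125510 : sm gi N8613 = N10391 := rfl
theorem L125512 : sm ga N10391 = N8646 := ded_16_1 (flp_i L68219) (flp_a L67983) L125510
theorem L125514 : sm gd N10391 = N8618 := ded_34_1 (flp_i L68024) (flp_d L67985) L125510
theorem L125516 : sm ge N10391 = N8614 := ded_38_1 (flp_i L67987) L67981 L125510
theorem L125518 : sm gh N8614 = N10392 := rfl
theorem L125520 : sm ga N10392 = N8647 := ded_15_1 (flp_h L68225) (flp_a L67989) L125518
theorem L125522 : sm gf N8615 = N10393 := rfl
theorem L125524 : sm ga N10393 = N8648 := ded_13_1 (flp_f L68227) (flp_a L67995) L125522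
theorem L125526 : sm gc N10393 = N8865 := ded_26_1 (flp_f L69962) (flp_c L67997) L125522
theorem L125528 : sm gh N10393 = N9328 := ded_40_2 (flp_f L73471) (flp_h L68001) L125522
theorem L125530 : sm ge N10393 = N10393 := ded_35_1 (flp_f L125522) (flp_e L67993) L49672 L67993 L125522
theorem L125531 : sm gi N8615 = N10394 := rfl
theorem L125533 : sm ga N10394 = N8649 := ded_16_1 (flp_i L68234) (flp_a L67995) L125531
theorem L125535 : sm gc N10394 = N8866 := ded_29_1 (flp_i L69969) (flp_c L67997) L125531
theorem L125537 : sm ge N10394 = N8616 := ded_38_1 (flp_i L68003) L67993 L125531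
theorem L125539 : sm gg N10394 = N8618 := ded_43_1 (flp_i L68024) (flp_g L67999) L125531
theorem L125541 : sm gh N8616 = N10395 := rfl
theorem L125543 : sm ga N10395 = N8650 := ded_15_1 (flp_h L68242) (flp_a L68005) L125541
theorem L125545 : sm gc N10395 = N8867 := ded_28_1 (flp_h L69977) (flp_c L68007) L125541
theorem L125547 : sm gf N10395 = N10395 := ded_40_1 (flp_h L125541) L68011 L125541
theorem L125548 : sm gg N10395 = N8619 := ded_42_1 (flp_h L68032) (flp_g L68012) L125541
theorem L125550 : sm gd N10395 = N9150 := ded_33_1 (flp_h L125048) L125043 L67420 (flp_d L68009) L125541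
theorem L125552 : sm gi N10395 = N9149 := ded_44_2 L72138 (flp_i L118017) (flp_h L49677) L68003 L125541
theorem L125554 : sm gg N8617 = N10396 := rfl
theorem L125556 : sm ga N10396 = N8651 := ded_14_1 (flp_g L68251) (flp_a L68016) L125554
theorem L125558 : sm gc N10396 = N8868 := ded_27_1 (flp_g L69987) (flp_c L68018) L125554
theorem L125560 : sm ge N10396 = N8620 := ded_36_1 (flp_g L68042) (flp_e L68022) L125554
theorem L125562 : sm gh N10396 = N9331 := ded_42_2 (flp_g L73497) (flp_h L68020) L125554
theorem L125564 : sm gi N8617 = N10397 := rfl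
theorem L125566 : sm ga N10397 = N8652 := ded_16_1 (flp_i L68259) (flp_a L68016) L125564
theorem L125568 : sm gc N10397 = N8869 := ded_29_1 (flp_i L69995) (flp_c L68018) L125564
theorem L125570 : sm ge N10397 = N8621 := ded_38_1 (flp_i L68051) (flp_e L68022) L125564
theorem L125572 : sm gf N10397 = N8618 := ded_41_1 (flp_i L68024) L68014 L125564
theorem L125574 : sm gh N8618 = N10398 := rfl
theorem L125576 : sm ga N10398 = N8653 := ded_15_1 (flp_h L68267) (flp_a L68026) L125574
theorem L125578 : sm gc N10398 = N8870 := ded_28_1 (flp_h L70003) (flp_c L68028) L125574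
theorem L125580 : sm ge N10398 = N8619 := ded_37_1 (flp_h L68032) (flp_e L68030) L125574
theorem L125582 : sm gi N10398 = N9333 := ded_44_2 (flp_h L73515) (flp_i L53682) (flp_h L49694) L68024 L125574
theorem L125584 : sm gi N8620 = N10399 := rfl
theorem L125586 : sm ga N10399 = N8654 := ded_16_1 (flp_i L68275) (flp_a L68044) L125584
theorem L125588 : sm gc N10399 = N8871 := ded_29_1 (flp_i L70011) (flp_c L68046) L125584
theorem L125590 : sm gf N10399 = N10399 := ded_41_1 (flp_i L125584) L68050 L125584
theorem L125591 : sm gg N10399 = N8621 := ded_43_1 (flp_i L68051) L68042 L125584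
theorem L125593 : sm gh N8621 = N10400 := rfl
theorem L125595 : sm ga N10400 = N8655 := ded_15_1 (flp_h L68282) (flp_a L68053) L125593
theorem L125597 : sm gc N10400 = N8872 := ded_28_1 (flp_h L70019) (flp_c L68055) L125593
theorem L125599 : sm gf N10400 = N8622 := ded_40_1 (flp_h L68059) (flp_f L68057) L125593
theorem L125601 : sm gi N10400 = N9335 := ded_44_2 (flp_h L73533) (flp_i L53706) (flp_h L49712) L68051 L125593
theorem L125603 : sm gd N8622 = N10401 := rfl
theorem L125605 : sm ga N10401 = N8656 := ded_11_1 (flp_d L68290) (flp_a L68061) L125603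
theorem L125607 : sm gg N10401 = N10401 := ded_32_2 (flp_d L125603) L68067 L125603
theorem L125608 : sm gi N10401 = N9336 := ded_34_2 (flp_d L73541) (flp_i L68068) L125603
theorem L125610 : sm ga N8627 = N10402 := rfl
theorem L125612 : sm gc N10402 = N10239 := ded_10_2 L124264 (flp_c L120761) L125610
theorem L125614 : sm ge N10402 = N8880 := ded_12_2 (flp_a L70085) (flp_e L68107) L125610
theorem L125616 : sm gg N10402 = N9875 := ded_14_2 L121112 (flp_g L120831) L125610
theorem L125618 : sm gh N10402 = N8789 := ded_15_2 (flp_a L69409) (flp_h L68109) L125610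
theorem L125620 : sm gb N10402 = N8663 := ded_9_2 (flp_a L68346) (flp_b L49922) (flp_a L49759) L68105 L125610
theorem L125622 : sm gi N8627 = N10403 := rfl
theorem L125624 : sm gb N10403 = N8628 := ded_23_1 (flp_i L68111) L68105 L125622
theorem L125626 : sm gc N10403 = N10359 := ded_29_1 (flp_i L125256) (flp_c L120761) L125622
theorem L125628 : sm ge N10403 = N8881 := ded_38_1 (flp_i L70092) (flp_e L68107) L125622
theorem L125630 : sm gg N10403 = N9907 := ded_43_1 (flp_i L121335) (flp_g L120831) L125622
theorem L125632 : sm gh N8630 = N10404 := rfl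
theorem L125634 : sm gb N10404 = N9272 := ded_22_1 (flp_h L73048) (flp_b L118434) L125632
theorem L125636 : sm gc N10404 = N8721 := ded_28_1 L68875 L106174 L125632
theorem L125638 : sm ge N10404 = N8631 := ded_37_1 (flp_h L68134) L68127 L125632
theorem L125640 : sm gf N10404 = N9113 := ded_40_1 (flp_h L71849) (flp_f L118437) L125632
theorem L125642 : sm gi N8631 = N10405 := rfl
theorem L125644 : sm gc N10405 = N8722 := ded_29_1 (flp_i L68879) L110704 L125642
theorem L125646 : sm gf N10405 = N8633 := ded_41_1 (flp_i L68146) (flp_f L68138) L125642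
theorem L125648 : sm ge N8632 = N10406 := rfl
theorem L125650 : sm gb N10406 = N9358 := ded_19_1 (flp_e L124586) L124582 L125648
theorem L125652 : sm gc N10406 = N9926 := ded_25_1 (flp_e L121477) (flp_c L120845) L125648
theorem L125654 : sm gg N10406 = N8635 := ded_36_2 (flp_e L68160) (flp_g L68142) L125648
theorem L125656 : sm gh N10406 = N8640 := ded_37_2 (flp_e L68187) (flp_h L68144) L125648
theorem L125658 : sm gd N10406 = N9194 := ded_30_1 L72480 (flp_d L119552) (flp_e L49783) L68140 L125648
theorem L125660 : sm gi N8632 = N10407 := rfl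
theorem L125662 : sm gc N10407 = N9927 := ded_29_1 (flp_i L121482) (flp_c L120845) L125660
theorem L125664 : sm gd N10407 = N8633 := ded_34_1 (flp_i L68146) L68140 L125660
theorem L125666 : sm gg N10407 = N8636 := ded_43_1 (flp_i L68166) (flp_g L68142) L125660
theorem L125668 : sm gb N8634 = N10408 := rfl
theorem L125670 : sm gd N10408 = N8797 := ded_18_2 (flp_b L69463) (flp_d L68158) L125668
theorem L125672 : sm gg N10408 = N9891 := ded_21_2 L121236 L120872 L125668
theorem L125674 : sm gh N10408 = N8642 := ded_22_2 (flp_b L68199) (flp_h L68156) L125668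
theorem L125676 : sm ge N8634 = N10409 := rfl
theorem L125678 : sm gc N10409 = N8635 := ded_25_1 (flp_e L68160) L68154 L125676
theorem L125680 : sm gg N10409 = N9926 := ded_36_2 (flp_e L121477) L120872 L125676
theorem L125682 : sm gh N10409 = N8643 := ded_37_2 (flp_e L68203) (flp_h L68156) L125676
theorem L125684 : sm gd N10409 = N10409 := ded_30_1 (flp_e L125676) L68158 L50744 (flp_d L68158) L125676
theorem L125685 : sm gi N8634 = N10410 := rfl
theorem L125687 : sm gc N10410 = N8636 := ded_29_1 (flp_i L68166) L68154 L125685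
theorem L125689 : sm gd N10410 = N8798 := ded_34_1 (flp_i L69469) (flp_d L68158) L125685
theorem L125691 : sm gg N10410 = N9927 := ded_43_1 (flp_i L121482) L120872 L125685
theorem L125693 : sm gf N8635 = N10411 := rfl
theorem L125695 : sm gd N10411 = N9342 := ded_31_1 (flp_f L73583) (flp_d L68164) L125693
theorem L125697 : sm gh N10411 = N8645 := ded_40_2 (flp_f L68215) (flp_h L68162) L125693
theorem L125699 : sm gi N8635 = N10412 := rfl
theorem L125701 : sm gd N10412 = N9343 := ded_34_1 (flp_i L73589) (flp_d L68164) L125699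
theorem L125703 : sm ge N10412 = N8636 := ded_38_1 (flp_i L68166) L68160 L125699
theorem L125705 : sm gh N8636 = N10413 := rfl
theorem L125707 : sm gi N10413 = N8647 := ded_44_2 (flp_h L68225) (flp_i L49824) (flp_h L49789) L68166 L125705
theorem L125709 : sm gf N8640 = N10414 := rfl
theorem L125711 : sm gc N10414 = N9928 := ded_26_1 (flp_f L121486) L120813 L125709
theorem L125713 : sm gd N10414 = N8648 := ded_31_1 (flp_f L68227) (flp_d L68191) L125709
theorem L125715 : sm gi N8640 = N10415 := rfl
theorem L125717 : sm gc N10415 = N9929 := ded_29_1 (flp_i L121490) L120813 L125715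
theorem L125719 : sm gd N10415 = N8649 := ded_34_1 (flp_i L68234) (flp_d L68191) L125715
theorem L125721 : sm ge N10415 = N8641 := ded_38_1 (flp_i L68193) L68187 L125715
theorem L125723 : sm gg N10415 = N8646 := ded_43_1 (flp_i L68219) (flp_g L68189) L125715
theorem L125725 : sm gh N8641 = N10416 := rfl
theorem L125727 : sm gc N10416 = N9930 := ded_28_1 (flp_h L121496) (flp_c L120815) L125725
theorem L125729 : sm gg N10416 = N8647 := ded_42_1 (flp_h L68225) (flp_g L68197) L125725
theorem L125731 : sm ga N8642 = N10417 := rfl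
theorem L125733 : sm gd N10417 = N8663 := ded_11_2 (flp_a L68346) (flp_d L68201) L125731
theorem L125735 : sm gg N10417 = N9882 := ded_14_2 L121173 L120870 L125731
theorem L125737 : sm ge N8642 = N10418 := rfl
theorem L125739 : sm gb N10418 = N8643 := ded_19_1 (flp_e L68203) L68199 L125737
theorem L125741 : sm gg N10418 = N9894 := ded_36_2 (flp_e L121250) L120870 L125737
theorem L125743 : sm gd N10418 = N8893 := ded_30_1 (flp_e L70180) L51258 (flp_e L49924) (flp_d L68201) L125737
theorem L125745 : sm gi N8642 = N10419 := rfl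
theorem L125747 : sm gb N10419 = N8644 := ded_23_1 (flp_i L68209) L68199 L125745
theorem L125749 : sm gd N10419 = N8664 := ded_34_1 (flp_i L68354) (flp_d L68201) L125745
theorem L125751 : sm gg N10419 = N9895 := ded_43_1 (flp_i L121256) L120870 L125745
theorem L125753 : sm gf N8643 = N10420 := rfl
theorem L125755 : sm gc N10420 = N8645 := ded_26_1 (flp_f L68215) (flp_c L68205) L125753
theorem L125757 : sm gd N10420 = N8895 := ded_31_1 (flp_f L70194) (flp_d L68207) L125753
theorem L125759 : sm gi N8643 = N10421 := rfl
theorem L125761 : sm gc N10421 = N8646 := ded_29_1 (flp_i L68219) (flp_c L68205) L125759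
theorem L125763 : sm gd N10421 = N8896 := ded_34_1 (flp_i L70200) (flp_d L68207) L125759
theorem L125765 : sm ge N10421 = N8644 := ded_38_1 (flp_i L68209) L68203 L125759
theorem L125767 : sm gg N10421 = N9929 := ded_43_1 (flp_i L121490) (flp_g L120809) L125759
theorem L125769 : sm gh N8644 = N10422 := rfl
theorem L125771 : sm gc N10422 = N8647 := ded_28_1 (flp_h L68225) (flp_c L68211) L125769
theorem L125773 : sm gg N10422 = N9930 := ded_42_1 (flp_h L121496) L120874 L125769
theorem L125775 : sm gg N8645 = N10423 := rfl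
theorem L125777 : sm gd N10423 = N8651 := ded_32_1 (flp_g L68251) (flp_d L68217) L125775
theorem L125779 : sm gi N8645 = N10424 := rfl
theorem L125781 : sm gd N10424 = N8652 := ded_34_1 (flp_i L68259) (flp_d L68217) L125779
theorem L125783 : sm gf N10424 = N8646 := ded_41_1 (flp_i L68219) L68215 L125779
theorem L125785 : sm gh N8646 = N10425 := rfl
theorem L125787 : sm ge N10425 = N8647 := ded_37_1 (flp_h L68225) (flp_e L68223) L125785
theorem L125789 : sm gg N8648 = N10426 := rfl
theorem L125791 : sm gc N10426 = N8901 := ded_27_1 (flp_g L70233) (flp_c L68229) L125789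
theorem L125793 : sm ge N10426 = N10426 := ded_36_1 (flp_g L125789) L68233 L125789
theorem L125794 : sm gh N10426 = N9353 := ded_42_2 (flp_g L73651) (flp_h L68231) L125789
theorem L125796 : sm gf N10426 = N8651 := ded_39_1 (flp_g L68251) (flp_f L49845) (flp_g L49832) L68227 L125789
theorem L125798 : sm gi N8648 = N10427 := rfl
theorem L125800 : sm gc N10427 = N8902 := ded_29_1 (flp_i L70241) (flp_c L68229) L125798
theorem L125802 : sm ge N10427 = N10427 := ded_38_1 (flp_i L125798) L68233 L125798
theorem L125803 : sm gf N10427 = N8649 := ded_41_1 (flp_i L68234) L68227 L125798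
theorem L125805 : sm gh N8649 = N10428 := rfl
theorem L125807 : sm gb N10428 = N9343 := ded_22_1 (flp_h L124717) L124710 L125805
theorem L125809 : sm gc N10428 = N8903 := ded_28_1 (flp_h L70247) (flp_c L68236) L125805
theorem L125811 : sm ge N10428 = N8650 := ded_37_1 (flp_h L68242) (flp_e L68238) L125805
theorem L125813 : sm gg N10428 = N8653 := ded_42_1 (flp_h L68267) (flp_g L68240) L125805
theorem L125815 : sm gi N10428 = N9177 := ded_44_2 L72353 (flp_i L118171) (flp_h L49834) L68234 L125805
theorem L125817 : sm gi N8651 = N10429 := rfl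

end Cfsg.Agent.Helper28.FibA
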