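import Cfsg.Agent.Helper28.FibB8

/-! # The Fi₂₂ presentation, cosets of the subgroup generated by b, …, i: the coset enumeration, part 9 (helper28; generated) -/

set_option autoImplicit false

noncomputable section

namespace Cfsg.Agent.Helper28.FibA

open Cfsg.Agent.Helper28.CosetTable

theorem L125819 : sm gc N10429 = N8904 := ded_29_1 (flp_i L70256) (flp_c L68253) L125817
theorem L125821 : sm ge N10429 = N8654 := ded_38_1 (flp_i L68275) (flp_e L68255) L125817
theorem L125823 : sm gg N10429 = N8652 := ded_43_1 (flp_i L68259) L68251 L125817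
theorem L125825 : sm gh N8652 = N10430 := rfl
theorem L125827 : sm gc N10430 = N8905 := ded_28_1 (flp_h L70263) (flp_c L68261) L125825
theorem L125829 : sm ge N10430 = N8655 := ded_37_1 (flp_h L68282) (flp_e L68263) L125825
theorem L125831 : sm gf N10430 = N8653 := ded_40_1 (flp_h L68267) (flp_f L68265) L125825
theorem L125833 : sm gi N10430 = N9357 := ded_44_2 (flp_h L73681) (flp_i L53842) (flp_h L49849) L68259 L125825
theorem L125835 : sm gd N8653 = N10431 := rfl
theorem L125837 : sm gi N10431 = N9358 := ded_34_2 (flp_d L73689) (flp_i L68273) L125835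
theorem L125839 : sm gh N8654 = N10432 := rfl
theorem L125841 : sm gc N10432 = N8907 := ded_28_1 (flp_h L70278) (flp_c L68277) L125839
theorem L125843 : sm gf N10432 = N10432 := ded_40_1 (flp_h L125839) L68279 L125839
theorem L125844 : sm gg N10432 = N8655 := ded_42_1 (flp_h L68282) (flp_g L68280) L125839
theorem L125846 : sm gi N10432 = N9359 := ded_44_2 (flp_h L73691) (flp_i L53856) (flp_h L49871) L68275 L125839
theorem L125848 : sm gd N8655 = N10433 := rfl
theorem L125850 : sm gf N10433 = N8656 := ded_31_2 (flp_d L68290) (flp_f L68286) L125848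
theorem L125852 : sm gi N10433 = N9360 := ded_34_2 (flp_d L73698) (flp_i L68288) L125848
theorem L125854 : sm gc N8656 = N10434 := rfl
theorem L125856 : sm gg N10434 = N10434 := ded_27_2 (flp_c L125854) L68292 L125854
theorem L125857 : sm gi N10434 = N9361 := ded_29_2 (flp_c L73703) (flp_i L68293) L125854
theorem L125859 : sm gd N10434 = N8909 := ded_24_2 (flp_c L70294) (flp_d L51352) (flp_c L49882) L68290 L125854
theorem L125861 : sm gi N8663 = N10435 := rfl
theorem L125863 : sm ga N10435 = N8664 := ded_16_1 (flp_i L68354) L68346 L125861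
theorem L125865 : sm gc N10435 = N8674 := ded_29_1 (flp_i L68429) (flp_c L68348) L125861
theorem L125867 : sm ge N10435 = N8918 := ded_38_1 (flp_i L70366) (flp_e L68350) L125861
theorem L125869 : sm gg N10435 = N9883 := ded_43_1 (flp_i L121175) L120835 L125861
theorem L125871 : sm gg N8677 = N10436 := rfl
theorem L125873 : sm ga N10436 = N10436 := ded_14_1 (flp_g L125871) L68449 L125871
theorem L125874 : sm gc N10436 = N8678 := ded_27_1 (flp_g L68458) L68447 L125871
theorem L125876 : sm gd N10436 = N10130 := ded_32_1 (flp_g L123166) (flp_d L68456) L125871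
theorem L125878 : sm ge N10436 = N9362 := ded_36_1 (flp_g L73709) (flp_e L68450) L125871
theorem L125880 : sm gi N10436 = N8759 := ded_43_2 (flp_g L69182) (flp_i L68454) L125871
theorem L125882 : sm gh N8677 = N10437 := rfl
theorem L125884 : sm ga N10437 = N10437 := ded_15_1 (flp_h L125882) L68449 L125882
theorem L125885 : sm gc N10437 = N8679 := ded_28_1 (flp_h L68469) L68447 L125882
theorem L125887 : sm ge N10437 = N9363 := ded_37_1 (flp_h L73717) (flp_e L68450) L125882
theorem L125889 : sm gf N10437 = N9937 := ded_40_1 (flp_h L121538) (flp_f L68452) L125882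
theorem L125891 : sm gh N8678 = N10438 := rfl
theorem L125893 : sm ga N10438 = N10438 := ded_15_1 (flp_h L125891) L68460 L125891
theorem L125894 : sm gb N10438 = N8694 := ded_22_1 (flp_h L68626) (flp_b L68461) L125891
theorem L125896 : sm ge N10438 = N9365 := ded_37_1 (flp_h L73733) (flp_e L68465) L125891
theorem L125898 : sm gg N10438 = N8679 := ded_42_1 (flp_h L68469) L68458 L125891
theorem L125900 : sm gd N8679 = N10439 := rfl
theorem L125902 : sm ga N10439 = N10439 := ded_11_1 (flp_d L125900) L68471 L125900
theorem L125903 : sm gb N10439 = N8695 := ded_18_1 (flp_d L68634) (flp_b L68472) L125900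
theorem L125905 : sm gf N10439 = N8762 := ded_31_2 (flp_d L120825) (flp_f L68476) L125900
theorem L125907 : sm gh N10439 = N8682 := ded_33_2 (flp_d L68502) (flp_h L50029) L50007 L68469 L125900
theorem L125909 : sm gi N8679 = N10440 := rfl
theorem L125911 : sm ga N10440 = N10440 := ded_16_1 (flp_i L125909) L68471 L125909
theorem L125912 : sm gb N10440 = N8696 := ded_23_1 (flp_i L68642) (flp_b L68472) L125909
theorem L125914 : sm ge N10440 = N9367 := ded_38_1 (flp_i L73748) (flp_e L68474) L125909
theorem L125916 : sm gf N10440 = N9938 := ded_41_1 (flp_i L121544) (flp_f L68476) L125909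
theorem L125918 : sm gh N10440 = N8764 := ded_44_1 (flp_i L69220) (flp_h L50551) (flp_i L50014) L68469 L125909
theorem L125920 : sm gc N8682 = N10441 := rfl
theorem L125922 : sm ga N10441 = N10441 := ded_10_1 (flp_c L125920) L68504 L125920
theorem L125923 : sm gf N10441 = N8759 := ded_26_2 L69185 (flp_f L102730) L125920
theorem L125925 : sm gd N10441 = N10137 := ded_24_2 (flp_c L123231) (flp_d L65550) (flp_c L50034) L68502 L125920
theorem L125927 : sm ge N8682 = N10442 := rfl
theorem L125929 : sm ga N10442 = N10442 := ded_12_1 (flp_e L125927) L68504 L125927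
theorem L125930 : sm gb N10442 = N8701 := ded_19_1 (flp_e L68690) (flp_b L68505) L125927
theorem L125932 : sm gd N10442 = N8687 := ded_30_1 (flp_e L68556) (flp_d L50051) (flp_e L50036) L68502 L125927
theorem L125934 : sm gf N10442 = N9429 := ded_35_2 (flp_e L74219) (flp_f L54242) (flp_e L50549) (flp_f L102730) L125927
theorem L125936 : sm ge N8686 = N10443 := rfl
theorem L125938 : sm ga N10443 = N10443 := ded_12_1 (flp_e L125936) L68548 L125936
theorem L125939 : sm gb N10443 = N10443 := ded_19_1 (flp_e L125936) L68553 L125936
theorem L125940 : sm gc N10443 = N8687 := ded_25_1 (flp_e L68556) L68546 L125936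
theorem L125942 : sm gh N10443 = N9374 := ded_37_2 (flp_e L73808) (flp_h L68551) L125936
theorem L125944 : sm gf N10443 = N9873 := ded_35_2 (flp_e L121092) (flp_f L59615) (flp_e L112240) (flp_f L68549) L125936
theorem L125946 : sm gi N8694 = N10444 := rfl
theorem L125948 : sm ga N10444 = N8719 := ded_16_1 (flp_i L68857) (flp_a L68628) L125946
theorem L125950 : sm ge N10444 = N9382 := ded_38_1 (flp_i L73873) (flp_e L68630) L125946
theorem L125952 : sm gg N10444 = N8696 := ded_43_1 (flp_i L68642) (flp_g L68632) L125946
theorem L125954 : sm gh N10444 = N8773 := ded_44_1 (flp_i L69288) (flp_h L50603) (flp_i L50110) L68626 L125946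
theorem L125956 : sm ge N8695 = N10445 := rfl
theorem L125958 : sm ga N10445 = N8721 := ded_12_1 (flp_e L68872) (flp_a L68636) L125956
theorem L125960 : sm gh N10445 = N8701 := ded_37_2 (flp_e L68690) (flp_h L68640) L125956
theorem L125962 : sm gd N10445 = N9384 := ded_30_1 (flp_e L73888) (flp_d L53980) (flp_e L50116) L68634 L125956
theorem L125964 : sm gf N10445 = N9432 := ded_35_2 L74248 L54276 (flp_e L50607) L102382 L125956
theorem L125966 : sm gi N8695 = N10446 := rfl
theorem L125968 : sm ga N10446 = N8722 := ded_16_1 (flp_i L68879) (flp_a L68636) L125966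
theorem L125970 : sm gd N10446 = N8696 := ded_34_1 (flp_i L68642) L68634 L125966
theorem L125972 : sm gf N10446 = N8773 := ded_41_1 (flp_i L69288) L102382 L125966
theorem L125974 : sm gi N8721 = N10447 := rfl
theorem L125976 : sm gb N10447 = N10447 := ded_23_1 (flp_i L125974) L68874 L125974
theorem L125977 : sm gd N10447 = N9408 := ded_34_1 (flp_i L74066) (flp_d L68877) L125974
theorem L125979 : sm ge N10447 = N8722 := ded_38_1 (flp_i L68879) L68872 L125974
theorem L125981 : sm gf N10447 = N9435 := ded_41_1 (flp_i L74266) (flp_f L106189) L125974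
theorem L125983 : sm gh N8759 = N10448 := rfl
theorem L125985 : sm ga N10448 = N10448 := ded_15_1 (flp_h L125983) L69184 L125983
theorem L125986 : sm gc N10448 = N8762 := ded_28_1 (flp_h L69203) (flp_c L69185) L125983
theorem L125988 : sm ge N10448 = N9426 := ded_37_1 (flp_h L74200) (flp_e L69187) L125983
theorem L125990 : sm gg N10448 = N8760 := ded_42_1 (flp_h L69189) L69182 L125983
theorem L125992 : sm gd N8760 = N10449 := rfl
theorem L125994 : sm ga N10449 = N10449 := ded_11_1 (flp_d L125992) L69191 L125992
theorem L125995 : sm gi N8760 = N10450 := rfl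
theorem L125997 : sm ga N10450 = N10450 := ded_16_1 (flp_i L125995) L69191 L125995
theorem L125998 : sm gc N10450 = N8764 := ded_29_1 (flp_i L69220) (flp_c L69192) L125995
theorem L126000 : sm ge N10450 = N9428 := ded_38_1 (flp_i L74213) (flp_e L69194) L125995
theorem L126002 : sm gi N8762 = N10451 := rfl
theorem L126004 : sm ga N10451 = N10451 := ded_16_1 (flp_i L126002) L69205 L126002
theorem L126005 : sm gb N10451 = N8773 := ded_23_1 (flp_i L69288) (flp_b L69206) L126002
theorem L126007 : sm gd N10451 = N9938 := ded_34_1 (flp_i L121544) L120825 L126002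
theorem L126009 : sm ge N10451 = N9431 := ded_38_1 (flp_i L74236) (flp_e L69208) L126002
theorem L126011 : sm gg N10451 = N8764 := ded_43_1 (flp_i L69220) (flp_g L69210) L126002
theorem L126013 : sm gc N8763 = N10452 := rfl
theorem L126015 : sm ga N10452 = N10452 := ded_10_1 (flp_c L126013) L69214 L126013
theorem L126016 : sm ge N10452 = N10452 := ded_25_2 (flp_c L126013) L69217 L126013
theorem L126017 : sm gg N10452 = N9937 := ded_27_2 L121541 L120823 L126013
theorem L126019 : sm gh N10452 = N8768 := ded_28_2 (flp_c L69253) (flp_h L69218) L126013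
theorem L126021 : sm gi N8763 = N10453 := rfl
theorem L126023 : sm ga N10453 = N10453 := ded_16_1 (flp_i L126021) L69214 L126021
theorem L126024 : sm gb N10453 = N8775 := ded_23_1 (flp_i L69303) (flp_b L69215) L126021
theorem L126026 : sm gd N10453 = N8764 := ded_34_1 (flp_i L69220) L69212 L126021
theorem L126028 : sm ge N10453 = N10453 := ded_38_1 (flp_i L126021) L69217 L126021
theorem L126029 : sm gg N10453 = N9938 := ded_43_1 (flp_i L121544) L120823 L126021
theorem L126031 : sm gb N8768 = N10454 := rfl
theorem L126033 : sm gd N10454 = N10352 := ded_18_2 L125210 L120892 L126031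
theorem L126035 : sm ge N10454 = N10454 := ded_19_2 (flp_b L126031) L69256 L126031
theorem L126036 : sm gg N10454 = N9904 := ded_21_2 L121322 L120821 L126031
theorem L126038 : sm gc N10454 = N8780 := ded_17_2 (flp_b L69344) (flp_c L50651) (flp_b L50577) L69253 L126031
theorem L126040 : sm gb N8774 = N10455 := rfl
theorem L126042 : sm ge N10455 = N10455 := ded_19_2 (flp_b L126040) L69300 L126040
theorem L126043 : sm gg N10455 = N9905 := ded_21_2 L121328 L120819 L126040
theorem L126045 : sm gh N10455 = N8780 := ded_22_2 (flp_b L69344) (flp_h L69301) L126040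
theorem L126047 : sm gi N8774 = N10456 := rfl
theorem L126049 : sm ga N10456 = N8798 := ded_16_1 (flp_i L69469) (flp_a L69298) L126047
theorem L126051 : sm gc N10456 = N8775 := ded_29_1 (flp_i L69303) L69296 L126047
theorem L126053 : sm ge N10456 = N10456 := ded_38_1 (flp_i L126047) L69300 L126047
theorem L126054 : sm gg N10456 = N9917 := ded_43_1 (flp_i L121406) L120819 L126047
theorem L126056 : sm ga N8780 = N10457 := rfl
theorem L126058 : sm gd N10457 = N8789 := ded_11_2 (flp_a L69409) (flp_d L69346) L126056
theorem L126060 : sm ge N10457 = N10457 := ded_12_2 (flp_a L126056) L69348 L126056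
theorem L126061 : sm gg N10457 = N9874 := ded_14_2 L121105 L120817 L126056
theorem L126063 : sm gb N10457 = N8806 := ded_9_2 (flp_a L69522) (flp_b L50782) (flp_a L50653) L69344 L126056
theorem L126065 : sm ga N8797 = N10458 := rfl
theorem L126067 : sm gc N10458 = N10458 := ded_10_2 (flp_a L126065) L69468 L126065
theorem L126068 : sm ge N10458 = N10458 := ded_12_2 (flp_a L126065) L69465 L126065
theorem L126069 : sm gg N10458 = N9881 := ded_14_2 L121167 (flp_g L120859) L126065
theorem L126071 : sm gh N10458 = N8806 := ded_15_2 (flp_a L69522) (flp_h L69466) L126065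
theorem L126073 : sm gi N8797 = N10459 := rfl
theorem L126075 : sm gb N10459 = N8798 := ded_23_1 (flp_i L69469) L69463 L126073
theorem L126077 : sm gc N10459 = N10459 := ded_29_1 (flp_i L126073) L69468 L126073
theorem L126078 : sm ge N10459 = N10459 := ded_38_1 (flp_i L126073) L69465 L126073
theorem L126079 : sm gg N10459 = N9892 := ded_43_1 (flp_i L121240) (flp_g L120859) L126073
theorem L126081 : sm gb N8836 = N10460 := rfl
theorem L126083 : sm gd N10460 = N10363 := ded_18_2 L125285 (flp_d L120787) L126081
theorem L126085 : sm gf N10460 = N10460 := ded_20_2 (flp_b L126081) L69732 L126081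
theorem L126086 : sm gg N10460 = N9908 := ded_21_2 L121348 (flp_g L120801) L126081
theorem L126088 : sm gh N10460 = N10460 := ded_22_2 (flp_b L126081) L69733 L126081
theorem L126089 : sm gc N10460 = N8859 := ded_17_2 (flp_b L69917) (flp_c L51077) (flp_b L50954) L69729 L126081
theorem L126091 : sm ge N8836 = N10461 := rfl
theorem L126093 : sm ga N10461 = N10461 := ded_12_1 (flp_e L126091) L69731 L126091
theorem L126094 : sm gc N10461 = N8837 := ded_25_1 (flp_e L69734) L69729 L126091
theorem L126096 : sm gg N10461 = N9939 := ded_36_2 (flp_e L121550) (flp_g L120801) L126091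
theorem L126098 : sm gh N10461 = N10461 := ded_37_2 (flp_e L126091) L69733 L126091
theorem L126099 : sm gi N8836 = N10462 := rfl
theorem L126101 : sm ga N10462 = N10462 := ded_16_1 (flp_i L126099) L69731 L126099
theorem L126102 : sm gc N10462 = N8838 := ded_29_1 (flp_i L69742) L69729 L126099
theorem L126104 : sm gf N10462 = N10462 := ded_41_1 (flp_i L126099) L69732 L126099
theorem L126105 : sm gg N10462 = N9940 := ded_43_1 (flp_i L121556) (flp_g L120801) L126099
theorem L126107 : sm gf N8837 = N10463 := rfl
theorem L126109 : sm ga N10463 = N10463 := ded_13_1 (flp_f L126107) L69736 L126107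
theorem L126110 : sm gb N10463 = N8862 := ded_20_1 (flp_f L69939) (flp_b L69737) L126107
theorem L126112 : sm gd N10463 = N8844 := ded_31_1 (flp_f L69791) (flp_d L69740) L126107
theorem L126114 : sm gh N10463 = N10463 := ded_40_2 (flp_f L126107) L69739 L126107
theorem L126115 : sm ge N10463 = N10463 := ded_35_1 (flp_f L126107) (flp_e L69734) L50956 L69734 L126107
theorem L126116 : sm gi N8837 = N10464 := rfl
theorem L126118 : sm ga N10464 = N10464 := ded_16_1 (flp_i L126116) L69736 L126116
theorem L126119 : sm gb N10464 = N8863 := ded_23_1 (flp_i L69947) (flp_b L69737) L126116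
theorem L126121 : sm gd N10464 = N8845 := ded_34_1 (flp_i L69800) (flp_d L69740) L126116
theorem L126123 : sm ge N10464 = N8838 := ded_38_1 (flp_i L69742) L69734 L126116
theorem L126125 : sm gg N10464 = N9942 := ded_43_1 (flp_i L121573) (flp_g L120803) L126116
theorem L126127 : sm gh N8838 = N10465 := rfl
theorem L126129 : sm ga N10465 = N10465 := ded_15_1 (flp_h L126127) L69744 L126127
theorem L126130 : sm gb N10465 = N8864 := ded_22_1 (flp_h L69955) (flp_b L69745) L126127
theorem L126132 : sm gf N10465 = N10465 := ded_40_1 (flp_h L126127) L69749 L126127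
theorem L126133 : sm gg N10465 = N9943 := ded_42_1 (flp_h L121580) (flp_g L120781) L126127
theorem L126135 : sm gd N10465 = N10465 := ded_33_1 (flp_h L126127) L69747 L50966 (flp_d L69747) L126127
theorem L126136 : sm gi N10465 = N10465 := ded_44_2 (flp_h L126127) (flp_i L69742) L50957 L69742 L126127
theorem L126137 : sm ge N8839 = N10466 := rfl
theorem L126139 : sm ga N10466 = N10466 := ded_12_1 (flp_e L126137) L69752 L126137
theorem L126140 : sm gc N10466 = N8840 := ded_25_1 (flp_e L69758) L69750 L126137
theorem L126142 : sm gg N10466 = N8842 := ded_36_2 (flp_e L69777) (flp_g L69754) L126137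
theorem L126144 : sm gh N10466 = N9436 := ded_37_2 (flp_e L74272) (flp_h L69756) L126137
theorem L126146 : sm gi N8839 = N10467 := rfl
theorem L126148 : sm ga N10467 = N10467 := ded_16_1 (flp_i L126146) L69752 L126146
theorem L126149 : sm gc N10467 = N8841 := ded_29_1 (flp_i L69767) L69750 L126146
theorem L126151 : sm gd N10467 = N10462 := ded_34_1 (flp_i L126099) L120787 L126146
theorem L126153 : sm gf N10467 = N10467 := ded_41_1 (flp_i L126146) L69753 L126146
theorem L126154 : sm gg N10467 = N8843 := ded_43_1 (flp_i L69784) (flp_g L69754) L126146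
theorem L126156 : sm gf N8840 = N10468 := rfl
theorem L126158 : sm ga N10468 = N10468 := ded_13_1 (flp_f L126156) L69760 L126156
theorem L126159 : sm gb N10468 = N8865 := ded_20_1 (flp_f L69962) (flp_b L69761) L126156
theorem L126161 : sm gd N10468 = N9941 := ded_31_1 (flp_f L121565) L120789 L126156
theorem L126163 : sm gh N10468 = N9438 := ded_40_2 (flp_f L74288) (flp_h L69765) L126156
theorem L126165 : sm ge N10468 = N10468 := ded_35_1 (flp_f L126156) (flp_e L69758) L50972 L69758 L126156
theorem L126166 : sm gi N8840 = N10469 := rfl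
theorem L126168 : sm ga N10469 = N10469 := ded_16_1 (flp_i L126166) L69760 L126166
theorem L126169 : sm gb N10469 = N8866 := ded_23_1 (flp_i L69969) (flp_b L69761) L126166
theorem L126171 : sm gd N10469 = N9942 := ded_34_1 (flp_i L121573) L120789 L126166
theorem L126173 : sm ge N10469 = N8841 := ded_38_1 (flp_i L69767) L69758 L126166
theorem L126175 : sm gg N10469 = N8845 := ded_43_1 (flp_i L69800) (flp_g L69763) L126166
theorem L126177 : sm gh N8841 = N10470 := rfl
theorem L126179 : sm ga N10470 = N10470 := ded_15_1 (flp_h L126177) L69769 L126177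
theorem L126180 : sm gb N10470 = N8867 := ded_22_1 (flp_h L69977) (flp_b L69770) L126177
theorem L126182 : sm gf N10470 = N10470 := ded_40_1 (flp_h L126177) L69774 L126177
theorem L126183 : sm gg N10470 = N8846 := ded_42_1 (flp_h L69807) (flp_g L69775) L126177
theorem L126185 : sm gd N10470 = N10470 := ded_33_1 (flp_h L126177) L69772 L50985 (flp_d L69772) L126177
theorem L126186 : sm gi N10470 = N9440 := ded_44_2 (flp_h L74305) (flp_i L54315) (flp_h L50975) L69767 L126177
theorem L126188 : sm gd N8842 = N10471 := rfl
theorem L126190 : sm ga N10471 = N10471 := ded_11_1 (flp_d L126188) L69779 L126188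
theorem L126191 : sm gf N8842 = N10472 := rfl
theorem L126193 : sm ga N10472 = N10472 := ded_13_1 (flp_f L126191) L69779 L126191
theorem L126194 : sm gc N10472 = N8844 := ded_26_1 (flp_f L69791) (flp_c L69780) L126191
theorem L126196 : sm gh N10472 = N9442 := ded_40_2 (flp_f L74319) (flp_h L69782) L126191
theorem L126198 : sm ge N10472 = N8848 := ded_35_1 (flp_f L69822) (flp_e L51009) (flp_f L50989) L69777 L126191
theorem L126200 : sm gi N8842 = N10473 := rfl
theorem L126202 : sm ga N10473 = N10473 := ded_16_1 (flp_i L126200) L69779 L126200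
theorem L126203 : sm gc N10473 = N8845 := ded_29_1 (flp_i L69800) (flp_c L69780) L126200
theorem L126205 : sm ge N10473 = N8843 := ded_38_1 (flp_i L69784) L69777 L126200
theorem L126207 : sm gh N8843 = N10474 := rfl
theorem L126209 : sm ga N10474 = N10474 := ded_15_1 (flp_h L126207) L69786 L126207
theorem L126210 : sm gc N10474 = N8846 := ded_28_1 (flp_h L69807) (flp_c L69787) L126207
theorem L126212 : sm gf N10474 = N8850 := ded_40_1 (flp_h L69837) (flp_f L69789) L126207
theorem L126214 : sm gi N10474 = N9444 := ded_44_2 (flp_h L74333) (flp_i L54330) (flp_h L50991) L69784 L126207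
theorem L126216 : sm gg N8844 = N10475 := rfl
theorem L126218 : sm ga N10475 = N10475 := ded_14_1 (flp_g L126216) L69793 L126216
theorem L126219 : sm gb N10475 = N8868 := ded_21_1 (flp_g L69987) (flp_b L69794) L126216
theorem L126221 : sm ge N10475 = N8851 := ded_36_1 (flp_g L69845) (flp_e L69798) L126216
theorem L126223 : sm gh N10475 = N9445 := ded_42_2 (flp_g L74340) (flp_h L69796) L126216
theorem L126225 : sm gi N8844 = N10476 := rfl
theorem L126227 : sm ga N10476 = N10476 := ded_16_1 (flp_i L126225) L69793 L126225
theorem L126228 : sm gb N10476 = N8869 := ded_23_1 (flp_i L69995) (flp_b L69794) L126225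
theorem L126230 : sm ge N10476 = N8852 := ded_38_1 (flp_i L69854) (flp_e L69798) L126225
theorem L126232 : sm gf N10476 = N8845 := ded_41_1 (flp_i L69800) L69791 L126225
theorem L126234 : sm gh N8845 = N10477 := rfl
theorem L126236 : sm ga N10477 = N10477 := ded_15_1 (flp_h L126234) L69802 L126234
theorem L126237 : sm gb N10477 = N8870 := ded_22_1 (flp_h L70003) (flp_b L69803) L126234
theorem L126239 : sm ge N10477 = N8846 := ded_37_1 (flp_h L69807) (flp_e L69805) L126234
theorem L126241 : sm gi N10477 = N9447 := ded_44_2 (flp_h L74358) (flp_i L54346) (flp_h L50998) L69800 L126234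
theorem L126243 : sm gf N8847 = N10478 := rfl
theorem L126245 : sm ga N10478 = N10478 := ded_13_1 (flp_f L126243) L69819 L126243
theorem L126246 : sm gc N10478 = N10478 := ded_26_1 (flp_f L126243) L69821 L126243
theorem L126247 : sm gd N10478 = N8848 := ded_31_1 (flp_f L69822) L69817 L126243
theorem L126249 : sm gh N8847 = N10479 := rfl
theorem L126251 : sm ga N10479 = N10479 := ded_15_1 (flp_h L126249) L69819 L126249
theorem L126252 : sm gc N10479 = N10479 := ded_28_1 (flp_h L126249) L69821 L126249
theorem L126253 : sm gg N10479 = N10479 := ded_42_1 (flp_h L126249) L69820 L126249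
theorem L126254 : sm gd N10479 = N9449 := ded_33_1 (flp_h L74372) (flp_d L54362) (flp_h L51015) L69817 L126249
theorem L126256 : sm gi N8847 = N10480 := rfl
theorem L126258 : sm ga N10480 = N10480 := ded_16_1 (flp_i L126256) L69819 L126256
theorem L126259 : sm gc N10480 = N10480 := ded_29_1 (flp_i L126256) L69821 L126256
theorem L126260 : sm gd N10480 = N8849 := ded_34_1 (flp_i L69829) L69817 L126256
theorem L126262 : sm gg N10480 = N10480 := ded_43_1 (flp_i L126256) L69820 L126256
theorem L126263 : sm gg N8848 = N10481 := rfl
theorem L126265 : sm ga N10481 = N10481 := ded_14_1 (flp_g L126263) L69824 L126263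
theorem L126266 : sm gc N10481 = N8851 := ded_27_1 (flp_g L69845) (flp_c L69825) L126263
theorem L126268 : sm gh N10481 = N9451 := ded_42_2 (flp_g L74388) (flp_h L69827) L126263
theorem L126270 : sm gf N10481 = N10481 := ded_39_1 (flp_g L126263) (flp_f L69822) L51014 L69822 L126263
theorem L126271 : sm gi N8848 = N10482 := rfl
theorem L126273 : sm ga N10482 = N10482 := ded_16_1 (flp_i L126271) L69824 L126271
theorem L126274 : sm gc N10482 = N8852 := ded_29_1 (flp_i L69854) (flp_c L69825) L126271
theorem L126276 : sm gf N10482 = N8849 := ded_41_1 (flp_i L69829) L69822 L126271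
theorem L126278 : sm gh N8849 = N10483 := rfl
theorem L126280 : sm ga N10483 = N10483 := ded_15_1 (flp_h L126278) L69831 L126278
theorem L126281 : sm gc N10483 = N8853 := ded_28_1 (flp_h L69862) (flp_c L69832) L126278
theorem L126283 : sm ge N10483 = N8850 := ded_37_1 (flp_h L69837) (flp_e L69834) L126278
theorem L126285 : sm gg N10483 = N10483 := ded_42_1 (flp_h L126278) L69836 L126278
theorem L126286 : sm gi N10483 = N9453 := ded_44_2 (flp_h L74401) (flp_i L54374) (flp_h L51015) L69829 L126278
theorem L126288 : sm gd N8850 = N10484 := rfl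
theorem L126290 : sm ga N10484 = N10484 := ded_11_1 (flp_d L126288) L69839 L126288
theorem L126291 : sm gg N10484 = N10484 := ded_32_2 (flp_d L126288) L69842 L126288
theorem L126292 : sm gi N10484 = N9454 := ded_34_2 (flp_d L74409) (flp_i L69843) L126288
theorem L126294 : sm gc N10484 = N10484 := ded_24_1 (flp_d L126288) L69840 L51046 (flp_c L69840) L126288
theorem L126295 : sm gi N8851 = N10485 := rfl
theorem L126297 : sm ga N10485 = N10485 := ded_16_1 (flp_i L126295) L69847 L126295
theorem L126298 : sm gb N10485 = N8871 := ded_23_1 (flp_i L70011) (flp_b L69848) L126295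
theorem L126300 : sm gd N10485 = N10485 := ded_34_1 (flp_i L126295) L69850 L126295
theorem L126301 : sm gf N10485 = N10485 := ded_41_1 (flp_i L126295) L69853 L126295
theorem L126302 : sm gg N10485 = N8852 := ded_43_1 (flp_i L69854) L69845 L126295
theorem L126304 : sm gh N8852 = N10486 := rfl
theorem L126306 : sm ga N10486 = N10486 := ded_15_1 (flp_h L126304) L69856 L126304
theorem L126307 : sm gb N10486 = N8872 := ded_22_1 (flp_h L70019) (flp_b L69857) L126304
theorem L126309 : sm gf N10486 = N8853 := ded_40_1 (flp_h L69862) (flp_f L69860) L126304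
theorem L126311 : sm gi N10486 = N9456 := ded_44_2 (flp_h L74425) (flp_i L54396) (flp_h L51029) L69854 L126304
theorem L126313 : sm gd N8853 = N10487 := rfl
theorem L126315 : sm ga N10487 = N10487 := ded_11_1 (flp_d L126313) L69864 L126313
theorem L126316 : sm gb N10487 = N8873 := ded_18_1 (flp_d L70027) (flp_b L69865) L126313
theorem L126318 : sm gg N10487 = N10487 := ded_32_2 (flp_d L126313) L69869 L126313
theorem L126319 : sm gi N10487 = N9457 := ded_34_2 (flp_d L74432) (flp_i L69870) L126313
theorem L126321 : sm ge N10487 = N10487 := ded_30_2 (flp_d L126313) L69867 L51046 (flp_e L69867) L126313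
theorem L126322 : sm gh N10487 = N10487 := ded_33_2 (flp_d L126313) (flp_h L69862) L51036 L69862 L126313
theorem L126323 : sm ga N8859 = N10488 := rfl
theorem L126325 : sm gd N10488 = N8880 := ded_11_2 (flp_a L70085) (flp_d L69919) L126323
theorem L126327 : sm gf N10488 = N10488 := ded_13_2 (flp_a L126323) L69921 L126323
theorem L126328 : sm gg N10488 = N9876 := ded_14_2 L121122 L120791 L126323
theorem L126330 : sm gh N10488 = N10488 := ded_15_2 (flp_a L126323) L69922 L126323
theorem L126331 : sm gb N10488 = N8892 := ded_9_2 (flp_a L70173) (flp_b L51256) (flp_a L51079) L69917 L126323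
theorem L126333 : sm ge N8859 = N10489 := rfl
theorem L126335 : sm gb N10489 = N8860 := ded_19_1 (flp_e L69923) L69917 L126333
theorem L126337 : sm gg N10489 = N9909 := ded_36_2 (flp_e L121352) L120791 L126333
theorem L126339 : sm gh N10489 = N10489 := ded_37_2 (flp_e L126333) L69922 L126333
theorem L126340 : sm gi N8859 = N10490 := rfl
theorem L126342 : sm gb N10490 = N8861 := ded_23_1 (flp_i L69930) L69917 L126340
theorem L126344 : sm gd N10490 = N8881 := ded_34_1 (flp_i L70092) (flp_d L69919) L126340
theorem L126346 : sm gf N10490 = N10490 := ded_41_1 (flp_i L126340) L69921 L126340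
theorem L126347 : sm gg N10490 = N9910 := ded_43_1 (flp_i L121357) L120791 L126340
theorem L126349 : sm gf N8860 = N10491 := rfl
theorem L126351 : sm ga N10491 = N8895 := ded_13_1 (flp_f L70194) (flp_a L69925) L126349
theorem L126353 : sm gc N10491 = N8862 := ded_26_1 (flp_f L69939) (flp_c L69927) L126349
theorem L126355 : sm gh N10491 = N10491 := ded_40_2 (flp_f L126349) L69929 L126349
theorem L126356 : sm ge N10491 = N10491 := ded_35_1 (flp_f L126349) (flp_e L69923) L51081 L69923 L126349
theorem L126357 : sm gi N8860 = N10492 := rfl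
theorem L126359 : sm ga N10492 = N8896 := ded_16_1 (flp_i L70200) (flp_a L69925) L126357
theorem L126361 : sm gc N10492 = N8863 := ded_29_1 (flp_i L69947) (flp_c L69927) L126357
theorem L126363 : sm ge N10492 = N8861 := ded_38_1 (flp_i L69930) L69923 L126357
theorem L126365 : sm gg N10492 = N9921 := ded_43_1 (flp_i L121434) L120793 L126357
theorem L126367 : sm gh N8861 = N10493 := rfl
theorem L126369 : sm ga N10493 = N8897 := ded_15_1 (flp_h L70206) (flp_a L69932) L126367
theorem L126371 : sm gc N10493 = N8864 := ded_28_1 (flp_h L69955) (flp_c L69934) L126367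
theorem L126373 : sm gf N10493 = N10493 := ded_40_1 (flp_h L126367) L69938 L126367
theorem L126374 : sm gg N10493 = N9922 := ded_42_1 (flp_h L121442) (flp_g L120783) L126367
theorem L126376 : sm gi N10493 = N10493 := ded_44_2 (flp_h L126367) (flp_i L69930) L51082 L69930 L126367
theorem L126377 : sm gg N8862 = N10494 := rfl
theorem L126379 : sm ga N10494 = N8898 := ded_14_1 (flp_g L70212) (flp_a L69941) L126377
theorem L126381 : sm gd N10494 = N8868 := ded_32_1 (flp_g L69987) (flp_d L69943) L126377
theorem L126383 : sm ge N10494 = N10494 := ded_36_1 (flp_g L126377) L69946 L126377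
theorem L126384 : sm gh N10494 = N10494 := ded_42_2 (flp_g L126377) L69945 L126377
theorem L126385 : sm gf N10494 = N9951 := ded_39_1 (flp_g L121642) (flp_f L62526) L99031 L69939 L126377
theorem L126387 : sm gi N8862 = N10495 := rfl
theorem L126389 : sm ga N10495 = N8899 := ded_16_1 (flp_i L70219) (flp_a L69941) L126387
theorem L126391 : sm gd N10495 = N8869 := ded_34_1 (flp_i L69995) (flp_d L69943) L126387
theorem L126393 : sm ge N10495 = N10495 := ded_38_1 (flp_i L126387) L69946 L126387
theorem L126394 : sm gf N10495 = N8863 := ded_41_1 (flp_i L69947) L69939 L126387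
theorem L126396 : sm gh N8863 = N10496 := rfl
theorem L126398 : sm ga N10496 = N8900 := ded_15_1 (flp_h L70227) (flp_a L69949) L126396
theorem L126400 : sm ge N10496 = N8864 := ded_37_1 (flp_h L69955) (flp_e L69953) L126396
theorem L126402 : sm gg N10496 = N9953 := ded_42_1 (flp_h L121657) (flp_g L120785) L126396
theorem L126404 : sm gi N10496 = N10496 := ded_44_2 (flp_h L126396) (flp_i L69947) L51089 L69947 L126396
theorem L126405 : sm gg N8865 = N10497 := rfl
theorem L126407 : sm ga N10497 = N8901 := ded_14_1 (flp_g L70233) (flp_a L69964) L126405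
theorem L126409 : sm gd N10497 = N9951 := ded_32_1 (flp_g L121642) L120805 L126405
theorem L126411 : sm ge N10497 = N10497 := ded_36_1 (flp_g L126405) L69968 L126405
theorem L126412 : sm gh N10497 = N9458 := ded_42_2 (flp_g L74441) (flp_h L69966) L126405
theorem L126414 : sm gf N10497 = N8868 := ded_39_1 (flp_g L69987) (flp_f L51116) (flp_g L51103) L69962 L126405
theorem L126416 : sm gi N8865 = N10498 := rfl
theorem L126418 : sm ga N10498 = N8902 := ded_16_1 (flp_i L70241) (flp_a L69964) L126416
theorem L126420 : sm gd N10498 = N9952 := ded_34_1 (flp_i L121649) L120805 L126416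
theorem L126422 : sm ge N10498 = N10498 := ded_38_1 (flp_i L126416) L69968 L126416
theorem L126423 : sm gf N10498 = N8866 := ded_41_1 (flp_i L69969) L69962 L126416
theorem L126425 : sm gh N8866 = N10499 := rfl
theorem L126427 : sm ga N10499 = N8903 := ded_15_1 (flp_h L70247) (flp_a L69971) L126425
theorem L126429 : sm ge N10499 = N8867 := ded_37_1 (flp_h L69977) (flp_e L69973) L126425
theorem L126431 : sm gg N10499 = N8870 := ded_42_1 (flp_h L70003) (flp_g L69975) L126425
theorem L126433 : sm gi N10499 = N9460 := ded_44_2 (flp_h L74457) (flp_i L54419) (flp_h L51105) L69969 L126425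
theorem L126435 : sm gi N8868 = N10500 := rfl
theorem L126437 : sm ga N10500 = N8904 := ded_16_1 (flp_i L70256) (flp_a L69989) L126435
theorem L126439 : sm ge N10500 = N8871 := ded_38_1 (flp_i L70011) (flp_e L69991) L126435
theorem L126441 : sm gg N10500 = N8869 := ded_43_1 (flp_i L69995) L69987 L126435
theorem L126443 : sm gh N8869 = N10501 := rfl
theorem L126445 : sm ga N10501 = N8905 := ded_15_1 (flp_h L70263) (flp_a L69997) L126443
theorem L126447 : sm ge N10501 = N8872 := ded_37_1 (flp_h L70019) (flp_e L69999) L126443
theorem L126449 : sm gf N10501 = N8870 := ded_40_1 (flp_h L70003) (flp_f L70001) L126443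
theorem L126451 : sm gi N10501 = N9462 := ded_44_2 (flp_h L74474) (flp_i L54443) (flp_h L51120) L69995 L126443
theorem L126453 : sm gd N8870 = N10502 := rfl
theorem L126455 : sm ga N10502 = N8906 := ded_11_1 (flp_d L70272) (flp_a L70005) L126453
theorem L126457 : sm gi N10502 = N9463 := ded_34_2 (flp_d L74482) (flp_i L70009) L126453
theorem L126459 : sm ge N10502 = N10502 := ded_30_2 (flp_d L126453) L70007 L51136 (flp_e L70007) L126453
theorem L126460 : sm gh N8871 = N10503 := rfl
theorem L126462 : sm ga N10503 = N8907 := ded_15_1 (flp_h L70278) (flp_a L70013) L126460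
theorem L126464 : sm gf N10503 = N10503 := ded_40_1 (flp_h L126460) L70016 L126460
theorem L126465 : sm gg N10503 = N8872 := ded_42_1 (flp_h L70019) (flp_g L70017) L126460
theorem L126467 : sm gi N10503 = N9464 := ded_44_2 (flp_h L74488) (flp_i L54458) (flp_h L51144) L70011 L126460
theorem L126469 : sm gd N8872 = N10504 := rfl
theorem L126471 : sm ga N10504 = N8908 := ded_11_1 (flp_d L70286) (flp_a L70021) L126469
theorem L126473 : sm gf N10504 = N8873 := ded_31_2 (flp_d L70027) (flp_f L70023) L126469
theorem L126475 : sm gi N10504 = N9465 := ded_34_2 (flp_d L74495) (flp_i L70025) L126469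
theorem L126477 : sm gh N10504 = N10504 := ded_33_2 (flp_d L126469) (flp_h L70019) L51151 L70019 L126469
theorem L126478 : sm gc N8873 = N10505 := rfl
theorem L126480 : sm ga N10505 = N8909 := ded_10_1 (flp_c L70294) (flp_a L70029) L126478
theorem L126482 : sm ge N10505 = N10505 := ded_25_2 (flp_c L126478) L70034 L126478
theorem L126483 : sm gg N10505 = N10505 := ded_27_2 (flp_c L126478) L70031 L126478
theorem L126484 : sm gh N10505 = N10505 := ded_28_2 (flp_c L126478) L70035 L126478
theorem L126485 : sm gi N10505 = N9466 := ded_29_2 (flp_c L74503) (flp_i L70032) L126478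
theorem L126487 : sm gi N8880 = N10506 := rfl
theorem L126489 : sm ga N10506 = N8881 := ded_16_1 (flp_i L70092) L70085 L126487
theorem L126491 : sm gb N10506 = N8918 := ded_23_1 (flp_i L70366) (flp_b L70090) L126487
theorem L126493 : sm gc N10506 = N10243 := ded_29_1 (flp_i L124297) L120827 L126487
theorem L126495 : sm gf N10506 = N10506 := ded_41_1 (flp_i L126487) L70087 L126487
theorem L126496 : sm gg N10506 = N9877 := ded_43_1 (flp_i L121129) (flp_g L120757) L126487
theorem L126498 : sm ge N8892 = N10507 := rfl
theorem L126500 : sm ga N10507 = N8893 := ded_12_1 (flp_e L70180) L70173 L126498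
theorem L126502 : sm gc N10507 = N10507 := ded_25_1 (flp_e L126498) L70175 L126498
theorem L126503 : sm gg N10507 = N9884 := ded_36_2 (flp_e L121183) L120795 L126498
theorem L126505 : sm gh N10507 = N10507 := ded_37_2 (flp_e L126498) L70179 L126498
theorem L126506 : sm gi N8892 = N10508 := rfl
theorem L126508 : sm ga N10508 = N8894 := ded_16_1 (flp_i L70186) L70173 L126506
theorem L126510 : sm gc N10508 = N10508 := ded_29_1 (flp_i L126506) L70175 L126506
theorem L126511 : sm gd N10508 = N8918 := ded_34_1 (flp_i L70366) (flp_d L70176) L126506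
theorem L126513 : sm gf N10508 = N10508 := ded_41_1 (flp_i L126506) L70178 L126506
theorem L126514 : sm gg N10508 = N9885 := ded_43_1 (flp_i L121189) L120795 L126506
theorem L126516 : sm gf N8893 = N10509 := rfl
theorem L126518 : sm gb N10509 = N8895 := ded_20_1 (flp_f L70194) (flp_b L70182) L126516
theorem L126520 : sm gc N10509 = N10509 := ded_26_1 (flp_f L126516) L70184 L126516
theorem L126521 : sm gh N10509 = N10509 := ded_40_2 (flp_f L126516) L70185 L126516
theorem L126522 : sm ge N10509 = N10509 := ded_35_1 (flp_f L126516) (flp_e L70180) L51260 L70180 L126516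
theorem L126523 : sm gi N8893 = N10510 := rfl
theorem L126525 : sm gb N10510 = N8896 := ded_23_1 (flp_i L70200) (flp_b L70182) L126523
theorem L126527 : sm gc N10510 = N10510 := ded_29_1 (flp_i L126523) L70184 L126523
theorem L126528 : sm ge N10510 = N8894 := ded_38_1 (flp_i L70186) L70180 L126523
theorem L126530 : sm gg N10510 = N9897 := ded_43_1 (flp_i L121270) L120797 L126523
theorem L126532 : sm gh N8894 = N10511 := rfl
theorem L126534 : sm gb N10511 = N8897 := ded_22_1 (flp_h L70206) (flp_b L70188) L126532
theorem L126536 : sm gc N10511 = N10511 := ded_28_1 (flp_h L126532) L70190 L126532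
theorem L126537 : sm gf N10511 = N10511 := ded_40_1 (flp_h L126532) L70193 L126532
theorem L126538 : sm gg N10511 = N9898 := ded_42_1 (flp_h L121277) L120799 L126532
theorem L126540 : sm gi N10511 = N10511 := ded_44_2 (flp_h L126532) (flp_i L70186) L51261 L70186 L126532
theorem L126541 : sm gg N8895 = N10512 := rfl
theorem L126543 : sm gc N10512 = N8898 := ded_27_1 (flp_g L70212) (flp_c L70196) L126541
theorem L126545 : sm ge N10512 = N10512 := ded_36_1 (flp_g L126541) L70199 L126541
theorem L126546 : sm gh N10512 = N10512 := ded_42_2 (flp_g L126541) L70198 L126541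
theorem L126547 : sm gf N10512 = N9931 := ded_39_1 (flp_g L121498) (flp_f L61470) L99025 L70194 L126541
theorem L126549 : sm gi N8895 = N10513 := rfl
theorem L126551 : sm gc N10513 = N8899 := ded_29_1 (flp_i L70219) (flp_c L70196) L126549
theorem L126553 : sm ge N10513 = N10513 := ded_38_1 (flp_i L126549) L70199 L126549
theorem L126554 : sm gf N10513 = N8896 := ded_41_1 (flp_i L70200) L70194 L126549
theorem L126556 : sm gh N8896 = N10514 := rfl
theorem L126558 : sm gc N10514 = N8900 := ded_28_1 (flp_h L70227) (flp_c L70202) L126556
theorem L126560 : sm ge N10514 = N8897 := ded_37_1 (flp_h L70206) (flp_e L70204) L126556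
theorem L126562 : sm gg N10514 = N9933 := ded_42_1 (flp_h L121513) (flp_g L120811) L126556
theorem L126564 : sm gi N10514 = N10514 := ded_44_2 (flp_h L126556) (flp_i L70200) L51267 L70200 L126556
theorem L126565 : sm gi N8898 = N10515 := rfl
theorem L126567 : sm gb N10515 = N10515 := ded_23_1 (flp_i L126565) L70214 L126565
theorem L126568 : sm gd N10515 = N8904 := ded_34_1 (flp_i L70256) (flp_d L70215) L126565
theorem L126570 : sm ge N10515 = N10515 := ded_38_1 (flp_i L126565) L70217 L126565
theorem L126571 : sm gf N10515 = N9957 := ded_41_1 (flp_i L121687) L120773 L126565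
theorem L126573 : sm gg N10515 = N8899 := ded_43_1 (flp_i L70219) L70212 L126565
theorem L126575 : sm gh N8899 = N10516 := rfl
theorem L126577 : sm gb N10516 = N10516 := ded_22_1 (flp_h L126575) L70221 L126575
theorem L126578 : sm ge N10516 = N10516 := ded_37_1 (flp_h L126575) L70224 L126575
theorem L126579 : sm gf N10516 = N8900 := ded_40_1 (flp_h L70227) (flp_f L70225) L126575
theorem L126581 : sm gi N10516 = N10516 := ded_44_2 (flp_h L126575) (flp_i L70219) L51280 L70219 L126575
theorem L126582 : sm gd N8900 = N10517 := rfl
theorem L126584 : sm gb N10517 = N10517 := ded_18_1 (flp_d L126582) L70229 L126582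
theorem L126585 : sm gg N10517 = N9959 := ded_32_2 (flp_d L121702) (flp_g L120779) L126582
theorem L126587 : sm gi N10517 = N10517 := ded_34_2 (flp_d L126582) L70232 L126582
theorem L126588 : sm ge N10517 = N10517 := ded_30_2 (flp_d L126582) L70230 L51293 (flp_e L70230) L126582
theorem L126589 : sm gh N10517 = N8906 := ded_33_2 (flp_d L70272) (flp_h L51331) (flp_d L51285) L70227 L126582
theorem L126591 : sm gi N8901 = N10518 := rfl
theorem L126593 : sm gb N10518 = N10518 := ded_23_1 (flp_i L126591) L70235 L126591
theorem L126594 : sm gd N10518 = N9957 := ded_34_1 (flp_i L121687) L120807 L126591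
theorem L126596 : sm ge N10518 = N10518 := ded_38_1 (flp_i L126591) L70236 L126591
theorem L126597 : sm gf N10518 = N8904 := ded_41_1 (flp_i L70256) (flp_f L70239) L126591
theorem L126599 : sm gg N10518 = N8902 := ded_43_1 (flp_i L70241) L70233 L126591
theorem L126601 : sm gh N8902 = N10519 := rfl
theorem L126603 : sm gb N10519 = N10519 := ded_22_1 (flp_h L126601) L70243 L126601
theorem L126604 : sm ge N10519 = N10519 := ded_37_1 (flp_h L126601) L70244 L126601
theorem L126605 : sm gf N10519 = N8903 := ded_40_1 (flp_h L70247) (flp_f L70245) L126601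
theorem L126607 : sm gi N10519 = N9468 := ded_44_2 (flp_h L74520) (flp_i L54488) (flp_h L51298) L70241 L126601
theorem L126609 : sm gd N8903 = N10520 := rfl
theorem L126611 : sm gb N10520 = N10520 := ded_18_1 (flp_d L126609) L70249 L126609
theorem L126612 : sm gg N10520 = N8906 := ded_32_2 (flp_d L70272) (flp_g L70252) L126609
theorem L126614 : sm gi N10520 = N9469 := ded_34_2 (flp_d L74526) (flp_i L70254) L126609
theorem L126616 : sm ge N10520 = N10520 := ded_30_2 (flp_d L126609) L70250 L51314 (flp_e L70250) L126609
theorem L126617 : sm gh N10520 = N9959 := ded_33_2 (flp_d L121702) (flp_h L62789) L98223 L70247 L126609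
theorem L126619 : sm gh N8904 = N10521 := rfl
theorem L126621 : sm gb N10521 = N10521 := ded_22_1 (flp_h L126619) L70258 L126619
theorem L126622 : sm ge N10521 = N8907 := ded_37_1 (flp_h L70278) (flp_e L70259) L126619
theorem L126624 : sm gg N10521 = N8905 := ded_42_1 (flp_h L70263) (flp_g L70261) L126619
theorem L126626 : sm gi N10521 = N9470 := ded_44_2 (flp_h L74533) (flp_i L54502) (flp_h L51322) L70256 L126619
theorem L126628 : sm gd N8905 = N10522 := rfl
theorem L126630 : sm gb N10522 = N10522 := ded_18_1 (flp_d L126628) L70265 L126628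
theorem L126631 : sm gf N10522 = N8906 := ded_31_2 (flp_d L70272) (flp_f L70268) L126628
theorem L126633 : sm gi N10522 = N9471 := ded_34_2 (flp_d L74540) (flp_i L70270) L126628
theorem L126635 : sm gc N8906 = N10523 := rfl
theorem L126637 : sm ge N10523 = N10523 := ded_25_2 (flp_c L126635) L70277 L126635
theorem L126638 : sm gi N10523 = N9472 := ded_29_2 (flp_c L74546) (flp_i L70275) L126635
theorem L126640 : sm gc N9029 = N10524 := rfl
theorem L126642 : sm ga N10524 = N10524 := ded_10_1 (flp_c L126640) L71197 L126640
theorem L126643 : sm gf N10524 = N9362 := ded_26_2 L73712 (flp_f L118607) L126640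
theorem L126645 : sm gg N10524 = N10524 := ded_27_2 (flp_c L126640) L71200 L126640
theorem L126646 : sm gi N10524 = N9425 := ded_29_2 L74196 (flp_i L118610) L126640
theorem L126648 : sm gb N10524 = N9075 := ded_17_1 (flp_c L71557) L52292 (flp_c L52079) (flp_b L71198) L126640
theorem L126650 : sm gd N10524 = N10524 := ded_24_2 (flp_c L126640) (flp_d L71195) L52049 L71195 L126640
theorem L126651 : sm ge N9029 = N10525 := rfl
theorem L126653 : sm ga N10525 = N10525 := ded_12_1 (flp_e L126651) L71197 L126651
theorem L126654 : sm gb N10525 = N9037 := ded_19_1 (flp_e L71258) (flp_b L71198) L126651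
theorem L126656 : sm gg N10525 = N10525 := ded_36_2 (flp_e L126651) L71200 L126651
theorem L126657 : sm gi N10525 = N9429 := ded_38_2 (flp_e L74219) (flp_i L118610) L126651
theorem L126659 : sm gd N10525 = N9872 := ded_30_1 (flp_e L121083) L59152 L118682 L71195 L126651
theorem L126661 : sm gc N9069 = N10526 := rfl
theorem L126663 : sm ga N10526 = N9206 := ded_10_1 (flp_c L72569) (flp_a L71500) L126661
theorem L126665 : sm gf N10526 = N10526 := ded_26_2 (flp_c L126661) L71504 L126661
theorem L126666 : sm gg N10526 = N9215 := ded_27_2 (flp_c L72640) (flp_g L118756) L126661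
theorem L126668 : sm gi N10526 = N9130 := ded_29_2 (flp_c L71975) (flp_i L71505) L126661
theorem L126670 : sm gb N10526 = N10526 := ded_17_1 (flp_c L126661) L71502 L52313 (flp_b L71502) L126661
theorem L126671 : sm gd N10526 = N10526 := ded_24_2 (flp_c L126661) (flp_d L71498) L52265 L71498 L126661
theorem L126672 : sm gc N9073 = N10527 := rfl
theorem L126674 : sm ga N10527 = N9215 := ded_10_1 (flp_c L72640) (flp_a L71540) L126672
theorem L126676 : sm gf N10527 = N9075 := ded_26_2 (flp_c L71557) (flp_f L71544) L126672
theorem L126678 : sm gg N10527 = N9206 := ded_27_2 (flp_c L72569) (flp_g L118729) L126672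
theorem L126680 : sm gi N10527 = N9288 := ded_29_2 L73181 (flp_i L118731) L126672
theorem L126682 : sm gb N10527 = N9362 := ded_17_1 L73712 L53884 L119416 (flp_b L71542) L126672
theorem L126684 : sm gd N10527 = N10527 := ded_24_2 (flp_c L126672) (flp_d L71538) L52285 L71538 L126672
theorem L126685 : sm ge N9075 = N10528 := rfl
theorem L126687 : sm ga N10528 = N9218 := ded_12_1 (flp_e L72658) (flp_a L71559) L126685
theorem L126689 : sm gc N10528 = N9076 := ded_25_1 (flp_e L71563) L71557 L126685
theorem L126691 : sm gg N10528 = N10528 := ded_36_2 (flp_e L126685) L71561 L126685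
theorem L126692 : sm gi N9075 = N10529 := rfl
theorem L126694 : sm ga N10529 = N9219 := ded_16_1 (flp_i L72664) (flp_a L71559) L126692
theorem L126696 : sm gb N10529 = N9425 := ded_23_1 (flp_i L126646) L126648 L126692
theorem L126698 : sm gc N10529 = N9077 := ded_29_1 (flp_i L71571) L71557 L126692
theorem L126700 : sm gd N10529 = N10529 := ded_34_1 (flp_i L126692) L71562 L126692
theorem L126701 : sm gf N10529 = N9288 := ded_41_1 (flp_i L126680) L126676 L126692
theorem L126703 : sm gg N10529 = N10529 := ded_43_1 (flp_i L126692) L71561 L126692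
theorem L126704 : sm gf N9076 = N10530 := rfl
theorem L126706 : sm ga N10530 = N9220 := ded_13_1 (flp_f L72671) (flp_a L71565) L126704
theorem L126708 : sm gb N10530 = N9088 := ded_20_1 (flp_f L71661) (flp_b L71567) L126704
theorem L126710 : sm gd N10530 = N10530 := ded_31_1 (flp_f L126704) L71570 L126704
theorem L126711 : sm gi N9076 = N10531 := rfl
theorem L126713 : sm ga N10531 = N9221 := ded_16_1 (flp_i L72676) (flp_a L71565) L126711
theorem L126715 : sm gb N10531 = N9089 := ded_23_1 (flp_i L71666) (flp_b L71567) L126711
theorem L126717 : sm gd N10531 = N10531 := ded_34_1 (flp_i L126711) L71570 L126711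
theorem L126718 : sm ge N10531 = N9077 := ded_38_1 (flp_i L71571) L71563 L126711
theorem L126720 : sm gg N10531 = N10531 := ded_43_1 (flp_i L126711) L71569 L126711
theorem L126721 : sm gh N9077 = N10532 := rfl
theorem L126723 : sm ga N10532 = N9222 := ded_15_1 (flp_h L72684) (flp_a L71573) L126721
theorem L126725 : sm gb N10532 = N9090 := ded_22_1 (flp_h L71674) (flp_b L71575) L126721
theorem L126727 : sm gf N10532 = N9291 := ded_40_1 (flp_h L73198) (flp_f L118700) L126721
theorem L126729 : sm gg N10532 = N10532 := ded_42_1 (flp_h L126721) L71579 L126721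
theorem L126730 : sm gd N10532 = N9146 := ded_33_1 (flp_h L72111) L52682 (flp_h L52304) (flp_d L71577) L126721
theorem L126732 : sm gh N9089 = N10533 := rfl
theorem L126734 : sm ga N10533 = N9113 := ded_15_1 (flp_h L71849) (flp_a L71668) L126732
theorem L126736 : sm gc N10533 = N9432 := ded_28_1 (flp_h L74244) (flp_c L118412) L126732
theorem L126738 : sm ge N10533 = N9090 := ded_37_1 (flp_h L71674) (flp_e L71671) L126732
theorem L126740 : sm gg N10533 = N10533 := ded_42_1 (flp_h L126732) L71673 L126732
theorem L126741 : sm gd N9113 = N10534 := rfl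
theorem L126743 : sm gb N10534 = N9273 := ded_18_1 (flp_d L73053) (flp_b L71851) L126741
theorem L126745 : sm gg N10534 = N10534 := ded_32_2 (flp_d L126741) L71855 L126741
theorem L126746 : sm ge N10534 = N9197 := ded_30_2 (flp_d L72498) L52956 (flp_d L52516) (flp_e L71853) L126741
theorem L126748 : sm gh N10534 = N10534 := ded_33_2 (flp_d L126741) (flp_h L71849) L52507 L71849 L126741
theorem L126749 : sm gg N9130 = N10535 := rfl
theorem L126751 : sm ga N10535 = N9288 := ded_14_1 (flp_g L73177) (flp_a L71977) L126749
theorem L126753 : sm gb N10535 = N10535 := ded_21_1 (flp_g L126749) L71980 L126749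
theorem L126754 : sm gc N10535 = N9131 := ded_27_1 (flp_g L71982) L71975 L126749
theorem L126756 : sm gd N10535 = N10535 := ded_32_1 (flp_g L126749) L71981 L126749
theorem L126757 : sm gi N10535 = N9215 := ded_43_2 (flp_g L126666) L126668 L126749
theorem L126759 : sm gf N9219 = N10535 := ded_13_0 L126751 (flp_f L126701) L126694
theorem L126761 : sm gh N9130 = N10536 := rfl
theorem L126763 : sm ga N10536 = N9289 := ded_15_1 (flp_h L73184) (flp_a L71977) L126761
theorem L126765 : sm gb N10536 = N10536 := ded_22_1 (flp_h L126761) L71980 L126761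
theorem L126766 : sm gc N10536 = N9132 := ded_28_1 (flp_h L71990) L71975 L126761
theorem L126768 : sm gf N10536 = N10536 := ded_40_1 (flp_h L126761) L71979 L126761
theorem L126769 : sm gh N9131 = N10537 := rfl
theorem L126771 : sm ga N10537 = N9291 := ded_15_1 (flp_h L73198) (flp_a L71984) L126769
theorem L126773 : sm gb N10537 = N9148 := ded_22_1 (flp_h L72126) (flp_b L71986) L126769
theorem L126775 : sm gf N10537 = N9222 := ded_40_1 (flp_h L72684) (flp_f L118794) L126769
theorem L126777 : sm gg N10537 = N9132 := ded_42_1 (flp_h L71990) L71982 L126769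
theorem L126779 : sm gd N10537 = N9307 := ded_33_1 (flp_h L73308) L53544 L118785 (flp_d L71988) L126769
theorem L126781 : sm gd N9132 = N10538 := rfl
theorem L126783 : sm ga N10538 = N9292 := ded_11_1 (flp_d L73204) (flp_a L71992) L126781
theorem L126785 : sm gb N10538 = N9149 := ded_18_1 (flp_d L72133) (flp_b L71994) L126781
theorem L126787 : sm gf N10538 = N10538 := ded_31_2 (flp_d L126781) L71996 L126781
theorem L126788 : sm gg N10538 = N9307 := ded_32_2 (flp_d L126779) L126777 L126781
theorem L126790 : sm gh N10538 = N9135 := ded_33_2 (flp_d L72017) (flp_h L52624) L52608 L71990 L126781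
theorem L126792 : sm gi N9132 = N10539 := rfl
theorem L126794 : sm ga N10539 = N9293 := ded_16_1 (flp_i L73211) (flp_a L71992) L126792
theorem L126796 : sm gb N10539 = N9150 := ded_23_1 (flp_i L72140) (flp_b L71994) L126792
theorem L126798 : sm gf N10539 = N10539 := ded_41_1 (flp_i L126792) L71996 L126792
theorem L126799 : sm gc N9135 = N10540 := rfl
theorem L126801 : sm ga N10540 = N9297 := ded_10_1 (flp_c L73240) (flp_a L72019) L126799
theorem L126803 : sm gf N10540 = N10540 := ded_26_2 (flp_c L126799) L72023 L126799
theorem L126804 : sm gg N10540 = N9304 := ded_27_2 L73291 (flp_g L118128) L126799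
theorem L126806 : sm gi N10540 = N9300 := ded_29_2 (flp_c L73258) (flp_i L118130) L126799
theorem L126808 : sm gb N10540 = N9437 := ded_17_1 L74282 L54318 (flp_c L117996) (flp_b L72021) L126799
theorem L126810 : sm gd N10540 = N10540 := ded_24_2 (flp_c L126799) (flp_d L72017) L52630 L72017 L126799
theorem L126811 : sm ge N9135 = N10541 := rfl
theorem L126813 : sm ga N10541 = N9298 := ded_12_1 (flp_e L73245) (flp_a L72019) L126811
theorem L126815 : sm gb N10541 = N9155 := ded_19_1 (flp_e L72179) (flp_b L72021) L126811
theorem L126817 : sm gg N10541 = N9306 := ded_36_2 L73306 (flp_g L118128) L126811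
theorem L126819 : sm gi N10541 = N9301 := ded_38_2 (flp_e L73266) (flp_i L118130) L126811
theorem L126821 : sm gd N10541 = N9140 := ded_30_1 (flp_e L72061) (flp_d L52644) (flp_e L52631) L72017 L126811
theorem L126823 : sm gc N9137 = N10542 := rfl
theorem L126825 : sm ga N10542 = N9300 := ded_10_1 (flp_c L73258) (flp_a L72036) L126823
theorem L126827 : sm gf N10542 = N10542 := ded_26_2 (flp_c L126823) L72040 L126823
theorem L126828 : sm gg N10542 = N9139 := ded_27_2 (flp_c L72053) (flp_g L72041) L126823
theorem L126830 : sm gi N10542 = N9297 := ded_29_2 (flp_c L73240) (flp_i L118323) L126823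
theorem L126832 : sm gb N10542 = N10542 := ded_17_1 (flp_c L126823) L72038 L52737 (flp_b L72038) L126823
theorem L126833 : sm gd N10542 = N10542 := ded_24_2 (flp_c L126823) (flp_d L72034) L52640 L72034 L126823
theorem L126834 : sm ge N9137 = N10543 := rfl
theorem L126836 : sm ga N10543 = N9301 := ded_12_1 (flp_e L73266) (flp_a L72036) L126834
theorem L126838 : sm gb N10543 = N9157 := ded_19_1 (flp_e L72192) (flp_b L72038) L126834
theorem L126840 : sm gg N10543 = N9140 := ded_36_2 (flp_e L72061) (flp_g L72041) L126834
theorem L126842 : sm gi N10543 = N9298 := ded_38_2 (flp_e L73245) (flp_i L118323) L126834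
theorem L126844 : sm gd N10543 = N9306 := ded_30_1 L73306 L53544 L118781 L72034 L126834
theorem L126846 : sm ge N9139 = N10544 := rfl
theorem L126848 : sm ga N10544 = N9303 := ded_12_1 (flp_e L73281) (flp_a L72055) L126846
theorem L126850 : sm gb N10544 = N10544 := ded_19_1 (flp_e L126846) L72059 L126846
theorem L126851 : sm gc N10544 = N9140 := ded_25_1 (flp_e L72061) L72053 L126846
theorem L126853 : sm gi N9139 = N10545 := rfl
theorem L126855 : sm ga N10545 = N9304 := ded_16_1 (flp_i L73287) (flp_a L72055) L126853
theorem L126857 : sm gb N10545 = N10545 := ded_23_1 (flp_i L126853) L72059 L126853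
theorem L126858 : sm gc N10545 = N9141 := ded_29_1 (flp_i L72067) L72053 L126853
theorem L126860 : sm gd N10545 = N10545 := ded_34_1 (flp_i L126853) L72060 L126853
theorem L126861 : sm gf N10545 = N9143 := ded_41_1 (flp_i L72085) (flp_f L72057) L126853
theorem L126863 : sm gg N10545 = N9297 := ded_43_1 (flp_i L126830) L126828 L126853
theorem L126865 : sm gf N9140 = N10546 := rfl
theorem L126867 : sm ga N10546 = N9305 := ded_13_1 (flp_f L73296) (flp_a L72063) L126865
theorem L126869 : sm gb N10546 = N9159 := ded_20_1 (flp_f L72209) (flp_b L72065) L126865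
theorem L126871 : sm ge N10546 = N9144 := ded_35_1 (flp_f L72094) (flp_e L52668) (flp_f L52650) L72061 L126865
theorem L126873 : sm gi N9140 = N10547 := rfl
theorem L126875 : sm ga N10547 = N9306 := ded_16_1 (flp_i L73302) (flp_a L72063) L126873
theorem L126877 : sm gb N10547 = N9160 := ded_23_1 (flp_i L72216) (flp_b L72065) L126873
theorem L126879 : sm gd N10547 = N9301 := ded_34_1 (flp_i L126819) L126821 L126873
theorem L126881 : sm ge N10547 = N9141 := ded_38_1 (flp_i L72067) L72061 L126873
theorem L126883 : sm gg N10547 = N9298 := ded_43_1 (flp_i L126842) L126840 L126873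
theorem L126885 : sm gh N9141 = N10548 := rfl
theorem L126887 : sm ga N10548 = N9307 := ded_15_1 (flp_h L73308) (flp_a L72069) L126885
theorem L126889 : sm gb N10548 = N9161 := ded_22_1 (flp_h L72223) (flp_b L72071) L126885
theorem L126891 : sm gf N10548 = N9146 := ded_40_1 (flp_h L72111) (flp_f L72075) L126885
theorem L126893 : sm gg N10548 = N9292 := ded_42_1 L73209 (flp_g L118359) L126885
theorem L126895 : sm gd N10548 = N9291 := ded_33_1 (flp_h L73198) L53478 L118826 (flp_d L72073) L126885
theorem L126897 : sm gd N9142 = N10549 := rfl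
theorem L126899 : sm ga N10549 = N9308 := ded_11_1 (flp_d L73314) (flp_a L72079) L126897
theorem L126901 : sm gb N10549 = N10549 := ded_18_1 (flp_d L126897) L72081 L126897
theorem L126902 : sm gg N10549 = N10549 := ded_32_2 (flp_d L126897) L72084 L126897
theorem L126903 : sm gc N10549 = N10549 := ded_24_1 (flp_d L126897) L72082 L52675 (flp_c L72082) L126897
theorem L126904 : sm ge N10549 = N10549 := ded_30_2 (flp_d L126897) (flp_e L72077) L52667 L72077 L126897
theorem L126905 : sm gf N9142 = N10550 := rfl
theorem L126907 : sm ga N10550 = N9309 := ded_13_1 (flp_f L73321) (flp_a L72079) L126905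
theorem L126909 : sm gb N10550 = N10550 := ded_20_1 (flp_f L126905) L72081 L126905
theorem L126910 : sm gc N10550 = N9144 := ded_26_1 (flp_f L72094) (flp_c L72082) L126905
theorem L126912 : sm gi N9142 = N10551 := rfl
theorem L126914 : sm ga N10551 = N9310 := ded_16_1 (flp_i L73327) (flp_a L72079) L126912
theorem L126916 : sm gb N10551 = N10551 := ded_23_1 (flp_i L126912) L72081 L126912
theorem L126917 : sm gc N10551 = N9145 := ded_29_1 (flp_i L72101) (flp_c L72082) L126912
theorem L126919 : sm ge N10551 = N9143 := ded_38_1 (flp_i L72085) L72077 L126912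
theorem L126921 : sm gg N10551 = N10551 := ded_43_1 (flp_i L126912) L72084 L126912
theorem L126922 : sm gh N9143 = N10552 := rfl
theorem L126924 : sm ga N10552 = N9311 := ded_15_1 (flp_h L73336) (flp_a L72087) L126922
theorem L126926 : sm gb N10552 = N10552 := ded_22_1 (flp_h L126922) L72089 L126922
theorem L126927 : sm gc N10552 = N9146 := ded_28_1 (flp_h L72111) (flp_c L72090) L126922
theorem L126929 : sm gg N10552 = N10552 := ded_42_1 (flp_h L126922) L72093 L126922
theorem L126930 : sm gg N9144 = N10553 := rfl
theorem L126932 : sm ga N10553 = N9312 := ded_14_1 (flp_g L73343) (flp_a L72096) L126930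
theorem L126934 : sm gb N10553 = N9162 := ded_21_1 (flp_g L72230) (flp_b L72098) L126930
theorem L126936 : sm gd N10553 = N10553 := ded_32_1 (flp_g L126930) L72100 L126930
theorem L126937 : sm gf N10553 = N10553 := ded_39_1 (flp_g L126930) (flp_f L72094) L52674 L72094 L126930
theorem L126938 : sm gi N9144 = N10554 := rfl
theorem L126940 : sm ga N10554 = N9313 := ded_16_1 (flp_i L73349) (flp_a L72096) L126938
theorem L126942 : sm gb N10554 = N9163 := ded_23_1 (flp_i L72237) (flp_b L72098) L126938
theorem L126944 : sm gd N10554 = N10554 := ded_34_1 (flp_i L126938) L72100 L126938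
theorem L126945 : sm gf N10554 = N9145 := ded_41_1 (flp_i L72101) L72094 L126938
theorem L126947 : sm gh N9145 = N10555 := rfl
theorem L126949 : sm ga N10555 = N9314 := ded_15_1 (flp_h L73356) (flp_a L72103) L126947
theorem L126951 : sm gb N10555 = N9164 := ded_22_1 (flp_h L72245) (flp_b L72105) L126947
theorem L126953 : sm ge N10555 = N9146 := ded_37_1 (flp_h L72111) (flp_e L72108) L126947
theorem L126955 : sm gg N10555 = N10555 := ded_42_1 (flp_h L126947) L72110 L126947
theorem L126956 : sm ge N9149 = N10556 := rfl
theorem L126958 : sm ga N10556 = N9177 := ded_12_1 (flp_e L72349) (flp_a L72135) L126956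
theorem L126960 : sm gc N10556 = N9460 := ded_25_1 L74461 (flp_c L118020) L126956
theorem L126962 : sm gg N10556 = N9333 := ded_36_2 L73521 (flp_g L118023) L126956
theorem L126964 : sm gh N10556 = N9155 := ded_37_2 (flp_e L72179) (flp_h L72138) L126956
theorem L126966 : sm gf N9155 = N10557 := rfl
theorem L126968 : sm ga N10557 = N9186 := ded_13_1 (flp_f L72416) (flp_a L72181) L126966
theorem L126970 : sm gc N10557 = N9459 := ded_26_1 L74455 (flp_c L118030) L126966
theorem L126972 : sm gd N10557 = N9159 := ded_31_1 (flp_f L72209) (flp_d L72183) L126966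
theorem L126974 : sm gi N10557 = N9328 := ded_41_2 (flp_f L73471) (flp_i L118034) L126966
theorem L126976 : sm ge N10557 = N10557 := ded_35_1 (flp_f L126966) (flp_e L72179) L52720 L72179 L126966
theorem L126977 : sm gf N9157 = N10558 := rfl
theorem L126979 : sm ga N10558 = N9189 := ded_13_1 (flp_f L72436) (flp_a L72194) L126977
theorem L126981 : sm gc N10558 = N10558 := ded_26_1 (flp_f L126977) L72196 L126977
theorem L126982 : sm gd N10558 = N9332 := ded_31_1 L73513 (flp_d L118178) L126977
theorem L126984 : sm gi N10558 = N9325 := ded_41_2 (flp_f L73448) (flp_i L118180) L126977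
theorem L126986 : sm ge N10558 = N10558 := ded_35_1 (flp_f L126977) (flp_e L72192) L52734 L72192 L126977
theorem L126987 : sm gg N9159 = N10559 := rfl
theorem L126989 : sm ga N10559 = N9192 := ded_14_1 (flp_g L72459) (flp_a L72211) L126987
theorem L126991 : sm gc N10559 = N10559 := ded_27_1 (flp_g L126987) L72213 L126987
theorem L126992 : sm ge N10559 = N9162 := ded_36_1 (flp_g L72230) (flp_e L72214) L126987
theorem L126994 : sm gi N9159 = N10560 := rfl
theorem L126996 : sm ga N10560 = N9193 := ded_16_1 (flp_i L72466) (flp_a L72211) L126994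
theorem L126998 : sm gc N10560 = N10560 := ded_29_1 (flp_i L126994) L72213 L126994
theorem L126999 : sm gd N10560 = N9328 := ded_34_1 (flp_i L126974) L126972 L126994
theorem L127001 : sm ge N10560 = N9163 := ded_38_1 (flp_i L72237) (flp_e L72214) L126994
theorem L127003 : sm gf N10560 = N9160 := ded_41_1 (flp_i L72216) L72209 L126994
theorem L127005 : sm gh N9160 = N10561 := rfl
theorem L127007 : sm ga N10561 = N9194 := ded_15_1 (flp_h L72475) (flp_a L72218) L127005
theorem L127009 : sm gc N10561 = N10561 := ded_28_1 (flp_h L127005) L72220 L127005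
theorem L127010 : sm ge N10561 = N9161 := ded_37_1 (flp_h L72223) (flp_e L72221) L127005
theorem L127012 : sm gg N10561 = N9319 := ded_42_1 L73402 (flp_g L118357) L127005
theorem L127014 : sm gi N9162 = N10562 := rfl
theorem L127016 : sm ga N10562 = N9195 := ded_16_1 (flp_i L72482) (flp_a L72232) L127014
theorem L127018 : sm gc N10562 = N10562 := ded_29_1 (flp_i L127014) L72234 L127014
theorem L127019 : sm gd N10562 = N10562 := ded_34_1 (flp_i L127014) L72235 L127014
theorem L127020 : sm gf N10562 = N10562 := ded_41_1 (flp_i L127014) L72236 L127014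
theorem L127021 : sm gg N10562 = N9163 := ded_43_1 (flp_i L72237) L72230 L127014
theorem L127023 : sm gh N9163 = N10563 := rfl
theorem L127025 : sm ga N10563 = N9196 := ded_15_1 (flp_h L72491) (flp_a L72239) L127023
theorem L127027 : sm gc N10563 = N10563 := ded_28_1 (flp_h L127023) L72241 L127023
theorem L127028 : sm gf N10563 = N9164 := ded_40_1 (flp_h L72245) (flp_f L72243) L127023
theorem L127030 : sm gd N9164 = N10564 := rfl
theorem L127032 : sm ga N10564 = N9197 := ded_11_1 (flp_d L72498) (flp_a L72247) L127030
theorem L127034 : sm gg N10564 = N10564 := ded_32_2 (flp_d L127030) L72252 L127030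
theorem L127035 : sm gh N10564 = N10564 := ded_33_2 (flp_d L127030) (flp_h L72245) L52772 L72245 L127030
theorem L127036 : sm gf N9177 = N10565 := rfl
theorem L127038 : sm gb N10565 = N9342 := ded_20_1 (flp_f L73583) (flp_b L72351) L127036
theorem L127040 : sm gc N10565 = N9468 := ded_26_1 L74524 (flp_c L118145) L127036
theorem L127042 : sm gh N10565 = N9186 := ded_40_2 (flp_f L72416) (flp_h L72353) L127036
theorem L127044 : sm ge N10565 = N10565 := ded_35_1 (flp_f L127036) (flp_e L72349) L52844 L72349 L127036
theorem L127045 : sm gg N9186 = N10566 := rfl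
theorem L127047 : sm gb N10566 = N9350 := ded_21_1 (flp_g L73632) (flp_b L72418) L127045
theorem L127049 : sm gc N10566 = N9467 := ded_27_1 L74518 (flp_c L118150) L127045
theorem L127051 : sm gd N10566 = N9192 := ded_32_1 (flp_g L72459) (flp_d L72420) L127045
theorem L127053 : sm ge N10566 = N10566 := ded_36_1 (flp_g L127045) L72422 L127045
theorem L127054 : sm gi N10566 = N9353 := ded_43_2 (flp_g L73651) (flp_i L118153) L127045
theorem L127056 : sm gf N10566 = N9356 := ded_39_1 L73679 L53848 L118166 L72416 L127045
theorem L127058 : sm gg N9189 = N10567 := rfl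
theorem L127060 : sm gb N10567 = N9353 := ded_21_1 (flp_g L73651) (flp_b L72438) L127058
theorem L127062 : sm gc N10567 = N10567 := ded_27_1 (flp_g L127058) L72440 L127058
theorem L127063 : sm gd N10567 = N9356 := ded_32_1 L73679 (flp_d L118158) L127058
theorem L127065 : sm ge N10567 = N10567 := ded_36_1 (flp_g L127058) L72441 L127058
theorem L127066 : sm gi N10567 = N9350 := ded_43_2 (flp_g L73632) (flp_i L118161) L127058
theorem L127068 : sm gf N10567 = N9192 := ded_39_1 (flp_g L72459) (flp_f L52915) (flp_g L52903) L72436 L127058
theorem L127070 : sm gi N9192 = N10568 := rfl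
theorem L127072 : sm gb N10568 = N9356 := ded_23_1 (flp_i L73673) (flp_b L72461) L127070
theorem L127074 : sm gc N10568 = N10568 := ded_29_1 (flp_i L127070) L72463 L127070
theorem L127075 : sm gd N10568 = N9353 := ded_34_1 (flp_i L127054) L127051 L127070
theorem L127077 : sm ge N10568 = N9195 := ded_38_1 (flp_i L72482) (flp_e L72464) L127070
theorem L127079 : sm gf N10568 = N9350 := ded_41_1 (flp_i L127066) L127068 L127070
theorem L127081 : sm gg N10568 = N9193 := ded_43_1 (flp_i L72466) L72459 L127070
theorem L127083 : sm gh N9193 = N10569 := rfl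
theorem L127085 : sm gb N10569 = N9357 := ded_22_1 (flp_h L73681) (flp_b L72468) L127083
theorem L127087 : sm gc N10569 = N10569 := ded_28_1 (flp_h L127083) L72470 L127083
theorem L127088 : sm ge N10569 = N9196 := ded_37_1 (flp_h L72491) (flp_e L72471) L127083
theorem L127090 : sm gf N10569 = N9194 := ded_40_1 (flp_h L72475) (flp_f L72473) L127083
theorem L127092 : sm gh N9195 = N10570 := rfl
theorem L127094 : sm gb N10570 = N9359 := ded_22_1 (flp_h L73691) (flp_b L72484) L127092
theorem L127096 : sm gc N10570 = N10570 := ded_28_1 (flp_h L127092) L72486 L127092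
theorem L127097 : sm gf N10570 = N10570 := ded_40_1 (flp_h L127092) L72488 L127092
theorem L127098 : sm gg N10570 = N9196 := ded_42_1 (flp_h L72491) (flp_g L72489) L127092
theorem L127100 : sm gd N9196 = N10571 := rfl
theorem L127102 : sm gb N10571 = N9360 := ded_18_1 (flp_d L73698) (flp_b L72493) L127100
theorem L127104 : sm gf N10571 = N9197 := ded_31_2 (flp_d L72498) (flp_f L72496) L127100
theorem L127106 : sm gh N10571 = N10571 := ded_33_2 (flp_d L127100) (flp_h L72491) L52948 L72491 L127100
theorem L127107 : sm gc N9197 = N10572 := rfl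
theorem L127109 : sm gg N10572 = N10572 := ded_27_2 (flp_c L127107) L72502 L127107
theorem L127110 : sm gh N10572 = N10572 := ded_28_2 (flp_c L127107) L72503 L127107
theorem L127111 : sm gd N10572 = N10572 := ded_24_2 (flp_c L127107) (flp_d L72498) L52955 L72498 L127107
theorem L127112 : sm gh N9206 = N10573 := rfl
theorem L127114 : sm gb N10573 = N9363 := ded_22_1 (flp_h L73717) (flp_b L72574) L127112
theorem L127116 : sm gc N10573 = N9208 := ded_28_1 (flp_h L72585) L72569 L127112
theorem L127118 : sm gf N10573 = N10573 := ded_40_1 (flp_h L127112) L72571 L127112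
theorem L127119 : sm gi N9208 = N10574 := rfl
theorem L127121 : sm gb N10574 = N9226 := ded_23_1 (flp_i L72717) (flp_b L72587) L127119
theorem L127123 : sm gf N10574 = N10574 := ded_41_1 (flp_i L127119) L72589 L127119
theorem L127124 : sm gh N10574 = N9293 := ded_44_1 (flp_i L73211) (flp_h L53480) (flp_i L53035) L72585 L127119
theorem L127126 : sm ge N9215 = N10575 := rfl
theorem L127128 : sm gb N10575 = N10575 := ded_19_1 (flp_e L127126) L72644 L127126
theorem L127129 : sm gc N10575 = N9216 := ded_25_1 (flp_e L72646) L72640 L127126
theorem L127131 : sm gf N9216 = N10576 := rfl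
theorem L127133 : sm gb N10576 = N9235 := ded_20_1 (flp_f L72791) (flp_b L72648) L127131
theorem L127135 : sm ge N10576 = N9220 := ded_35_1 (flp_f L72671) (flp_e L53082) (flp_f L53066) L72646 L127131
theorem L127137 : sm gd N9218 = N10577 := rfl
theorem L127139 : sm gb N10577 = N10577 := ded_18_1 (flp_d L127137) L72660 L127137
theorem L127140 : sm gg N10577 = N10577 := ded_32_2 (flp_d L127137) L72663 L127137
theorem L127141 : sm gc N10577 = N10577 := ded_24_1 (flp_d L127137) L72661 L53087 (flp_c L72661) L127137
theorem L127142 : sm ge N10577 = N10577 := ded_30_2 (flp_d L127137) (flp_e L72658) L53081 L72658 L127137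
theorem L127143 : sm gf N9218 = N10578 := rfl
theorem L127145 : sm gb N10578 = N10578 := ded_20_1 (flp_f L127143) L72660 L127143
theorem L127146 : sm gc N10578 = N9220 := ded_26_1 (flp_f L72671) (flp_c L72661) L127143
theorem L127148 : sm gi N9218 = N10579 := rfl
theorem L127150 : sm gb N10579 = N10579 := ded_23_1 (flp_i L127148) L72660 L127148
theorem L127151 : sm gc N10579 = N9221 := ded_29_1 (flp_i L72676) (flp_c L72661) L127148
theorem L127153 : sm ge N10579 = N9219 := ded_38_1 (flp_i L72664) L72658 L127148
theorem L127155 : sm gg N10579 = N10579 := ded_43_1 (flp_i L127148) L72663 L127148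
theorem L127156 : sm gh N9219 = N10580 := rfl
theorem L127158 : sm gb N10580 = N10580 := ded_22_1 (flp_h L127156) L72666 L127156
theorem L127159 : sm gc N10580 = N9222 := ded_28_1 (flp_h L72684) (flp_c L72667) L127156
theorem L127161 : sm gg N10580 = N10580 := ded_42_1 (flp_h L127156) L72670 L127156
theorem L127162 : sm gg N9220 = N10581 := rfl
theorem L127164 : sm gb N10581 = N9238 := ded_21_1 (flp_g L72814) (flp_b L72673) L127162
theorem L127166 : sm gd N10581 = N10581 := ded_32_1 (flp_g L127162) L72675 L127162
theorem L127167 : sm gf N10581 = N10581 := ded_39_1 (flp_g L127162) (flp_f L72671) L53086 L72671 L127162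
theorem L127168 : sm gi N9220 = N10582 := rfl
theorem L127170 : sm gb N10582 = N9239 := ded_23_1 (flp_i L72821) (flp_b L72673) L127168
theorem L127172 : sm gd N10582 = N10582 := ded_34_1 (flp_i L127168) L72675 L127168
theorem L127173 : sm gf N10582 = N9221 := ded_41_1 (flp_i L72676) L72671 L127168
theorem L127175 : sm gh N9221 = N10583 := rfl
theorem L127177 : sm gb N10583 = N9240 := ded_22_1 (flp_h L72829) (flp_b L72678) L127175
theorem L127179 : sm ge N10583 = N9222 := ded_37_1 (flp_h L72684) (flp_e L72681) L127175
theorem L127181 : sm gg N10583 = N10583 := ded_42_1 (flp_h L127175) L72683 L127175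
theorem L127182 : sm gi N9238 = N10584 := rfl
theorem L127184 : sm ga N10584 = N9271 := ded_16_1 (flp_i L73041) (flp_a L72816) L127182
theorem L127186 : sm gc N10584 = N10584 := ded_29_1 (flp_i L127182) L72818 L127182
theorem L127187 : sm gd N10584 = N10584 := ded_34_1 (flp_i L127182) L72819 L127182
theorem L127188 : sm gf N10584 = N10584 := ded_41_1 (flp_i L127182) L72820 L127182
theorem L127189 : sm gg N10584 = N9239 := ded_43_1 (flp_i L72821) L72814 L127182
theorem L127191 : sm gh N9239 = N10585 := rfl
theorem L127193 : sm ga N10585 = N9272 := ded_15_1 (flp_h L73048) (flp_a L72823) L127191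
theorem L127195 : sm gc N10585 = N10585 := ded_28_1 (flp_h L127191) L72825 L127191
theorem L127196 : sm gf N10585 = N9240 := ded_40_1 (flp_h L72829) (flp_f L72827) L127191
theorem L127198 : sm gd N9240 = N10586 := rfl
theorem L127200 : sm ga N10586 = N9273 := ded_11_1 (flp_d L73053) (flp_a L72831) L127198
theorem L127202 : sm gg N10586 = N10586 := ded_32_2 (flp_d L127198) L72836 L127198
theorem L127203 : sm ge N10586 = N9336 := ded_30_2 (flp_d L73541) L53721 (flp_d L53202) (flp_e L72834) L127198
theorem L127205 : sm gh N10586 = N10586 := ded_33_2 (flp_d L127198) (flp_h L72829) L53192 L72829 L127198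
theorem L127206 : sm gh N9271 = N10587 := rfl
theorem L127208 : sm gc N10587 = N10587 := ded_28_1 (flp_h L127206) L73043 L127206
theorem L127209 : sm gf N10587 = N10587 := ded_40_1 (flp_h L127206) L73045 L127206
theorem L127210 : sm gg N10587 = N9272 := ded_42_1 (flp_h L73048) (flp_g L73046) L127206
theorem L127212 : sm gd N9272 = N10588 := rfl
theorem L127214 : sm gf N10588 = N9273 := ded_31_2 (flp_d L73053) (flp_f L73051) L127212
theorem L127216 : sm gh N10588 = N10588 := ded_33_2 (flp_d L127212) (flp_h L73048) L53353 L73048 L127212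
theorem L127217 : sm gc N9273 = N10589 := rfl
theorem L127219 : sm ge N10589 = N9361 := ded_25_2 (flp_c L73703) (flp_e L73056) L127217
theorem L127221 : sm gg N10589 = N10589 := ded_27_2 (flp_c L127217) L73055 L127217
theorem L127222 : sm gh N10589 = N10589 := ded_28_2 (flp_c L127217) L73058 L127217
theorem L127223 : sm gd N10589 = N10589 := ded_24_2 (flp_c L127217) (flp_d L73053) L53358 L73053 L127217
theorem L127224 : sm gh N9288 = N10590 := rfl
theorem L127226 : sm gb N10590 = N9426 := ded_22_1 (flp_h L74200) (flp_b L73179) L127224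
theorem L127228 : sm gc N10590 = N9291 := ded_28_1 (flp_h L73198) (flp_c L73181) L127224
theorem L127230 : sm gg N10590 = N9289 := ded_42_1 (flp_h L73184) L73177 L127224
theorem L127232 : sm gd N9289 = N10591 := rfl
theorem L127234 : sm gb N10591 = N9427 := ded_18_1 (flp_d L74207) (flp_b L73186) L127232
theorem L127236 : sm gf N10591 = N10591 := ded_31_2 (flp_d L127232) L73190 L127232
theorem L127237 : sm gh N10591 = N10591 := ded_33_2 (flp_d L127232) (flp_h L73184) L53473 L73184 L127232
theorem L127238 : sm gi N9289 = N10592 := rfl
theorem L127240 : sm gb N10592 = N9428 := ded_23_1 (flp_i L74213) (flp_b L73186) L127238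
theorem L127242 : sm gc N10592 = N9293 := ded_29_1 (flp_i L73211) (flp_c L73188) L127238
theorem L127244 : sm gf N10592 = N10592 := ded_41_1 (flp_i L127238) L73190 L127238
theorem L127245 : sm gi N9291 = N10593 := rfl
theorem L127247 : sm gb N10593 = N9318 := ded_23_1 (flp_i L73389) (flp_b L73200) L127245
theorem L127249 : sm gg N10593 = N9293 := ded_43_1 (flp_i L73211) (flp_g L73202) L127245
theorem L127251 : sm gc N9292 = N10594 := rfl
theorem L127253 : sm gf N10594 = N10594 := ded_26_2 (flp_c L127251) L73208 L127251
theorem L127254 : sm gh N10594 = N9297 := ded_28_2 (flp_c L73240) (flp_h L73209) L127251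
theorem L127256 : sm gb N10594 = N10594 := ded_17_1 (flp_c L127251) L73206 L53603 (flp_b L73206) L127251
theorem L127257 : sm ge N9292 = N10595 := rfl
theorem L127259 : sm gb N10595 = N9319 := ded_19_1 (flp_e L73397) (flp_b L73206) L127257
theorem L127261 : sm gh N10595 = N9298 := ded_37_2 (flp_e L73245) (flp_h L73209) L127257
theorem L127263 : sm gi N9292 = N10596 := rfl
theorem L127265 : sm gb N10596 = N9320 := ded_23_1 (flp_i L73404) (flp_b L73206) L127263
theorem L127267 : sm gd N10596 = N9293 := ded_34_1 (flp_i L73211) L73204 L127263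
theorem L127269 : sm gf N10596 = N10596 := ded_41_1 (flp_i L127263) L73208 L127263
theorem L127270 : sm ge N9297 = N10597 := rfl
theorem L127272 : sm gb N10597 = N10597 := ded_19_1 (flp_e L127270) L73243 L127270
theorem L127273 : sm gc N10597 = N9298 := ded_25_1 (flp_e L73245) L73240 L127270
theorem L127275 : sm gf N9298 = N10598 := rfl
theorem L127277 : sm gb N10598 = N9325 := ded_20_1 (flp_f L73448) (flp_b L73247) L127275
theorem L127279 : sm gd N10598 = N9305 := ded_31_1 (flp_f L73296) (flp_d L73249) L127275
theorem L127281 : sm ge N10598 = N10598 := ded_35_1 (flp_f L127275) (flp_e L73245) L53505 L73245 L127275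
theorem L127282 : sm ge N9300 = N10599 := rfl
theorem L127284 : sm gb N10599 = N9436 := ded_19_1 (flp_e L74272) (flp_b L73263) L127282
theorem L127286 : sm gc N10599 = N9301 := ded_25_1 (flp_e L73266) L73258 L127282
theorem L127288 : sm gg N10599 = N9303 := ded_36_2 (flp_e L73281) (flp_g L73261) L127282
theorem L127290 : sm gf N9301 = N10600 := rfl
theorem L127292 : sm gb N10600 = N9328 := ded_20_1 (flp_f L73471) (flp_b L73268) L127290
theorem L127294 : sm ge N10600 = N10600 := ded_35_1 (flp_f L127290) (flp_e L73266) L53518 L73266 L127290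
theorem L127295 : sm gd N9303 = N10601 := rfl
theorem L127297 : sm gb N10601 = N9441 := ded_18_1 (flp_d L74314) (flp_b L73283) L127295
theorem L127299 : sm ge N10601 = N10601 := ded_30_2 (flp_d L127295) (flp_e L73281) L53535 L73281 L127295
theorem L127300 : sm gf N9303 = N10602 := rfl
theorem L127302 : sm gb N10602 = N9442 := ded_20_1 (flp_f L74319) (flp_b L73283) L127300
theorem L127304 : sm gc N10602 = N9305 := ded_26_1 (flp_f L73296) (flp_c L73285) L127300
theorem L127306 : sm ge N10602 = N9309 := ded_35_1 (flp_f L73321) (flp_e L53548) (flp_f L53531) L73281 L127300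
theorem L127308 : sm gi N9303 = N10603 := rfl
theorem L127310 : sm gb N10603 = N9443 := ded_23_1 (flp_i L74326) (flp_b L73283) L127308
theorem L127312 : sm gc N10603 = N9306 := ded_29_1 (flp_i L73302) (flp_c L73285) L127308
theorem L127314 : sm ge N10603 = N9304 := ded_38_1 (flp_i L73287) L73281 L127308
theorem L127316 : sm gh N9304 = N10604 := rfl
theorem L127318 : sm gb N10604 = N9444 := ded_22_1 (flp_h L74333) (flp_b L73289) L127316
theorem L127320 : sm gc N10604 = N9307 := ded_28_1 (flp_h L73308) (flp_c L73291) L127316
theorem L127322 : sm gf N10604 = N9311 := ded_40_1 (flp_h L73336) (flp_f L73294) L127316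
theorem L127324 : sm gg N9305 = N10605 := rfl
theorem L127326 : sm gb N10605 = N9331 := ded_21_1 (flp_g L73497) (flp_b L73298) L127324
theorem L127328 : sm ge N10605 = N9312 := ded_36_1 (flp_g L73343) (flp_e L73300) L127324
theorem L127330 : sm gi N9305 = N10606 := rfl
theorem L127332 : sm gb N10606 = N9332 := ded_23_1 (flp_i L73505) (flp_b L73298) L127330
theorem L127334 : sm ge N10606 = N9313 := ded_38_1 (flp_i L73349) (flp_e L73300) L127330
theorem L127336 : sm gf N10606 = N9306 := ded_41_1 (flp_i L73302) L73296 L127330
theorem L127338 : sm gh N9306 = N10607 := rfl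
theorem L127340 : sm gb N10607 = N9333 := ded_22_1 (flp_h L73515) (flp_b L73304) L127338
theorem L127342 : sm ge N10607 = N9307 := ded_37_1 (flp_h L73308) (flp_e L73306) L127338
theorem L127344 : sm gf N9308 = N10608 := rfl
theorem L127346 : sm gb N10608 = N9448 := ded_20_1 (flp_f L74365) (flp_b L73316) L127344
theorem L127348 : sm gc N10608 = N10608 := ded_26_1 (flp_f L127344) L73319 L127344
theorem L127349 : sm gd N10608 = N9309 := ded_31_1 (flp_f L73321) L73314 L127344
theorem L127351 : sm gh N9308 = N10609 := rfl
theorem L127353 : sm gb N10609 = N9449 := ded_22_1 (flp_h L74372) (flp_b L73316) L127351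
theorem L127355 : sm gc N10609 = N10609 := ded_28_1 (flp_h L127351) L73319 L127351
theorem L127356 : sm ge N10609 = N10609 := ded_37_1 (flp_h L127351) L73320 L127351
theorem L127357 : sm gg N10609 = N10609 := ded_42_1 (flp_h L127351) L73318 L127351
theorem L127358 : sm gi N9308 = N10610 := rfl
theorem L127360 : sm gb N10610 = N9450 := ded_23_1 (flp_i L74379) (flp_b L73316) L127358
theorem L127362 : sm gc N10610 = N10610 := ded_29_1 (flp_i L127358) L73319 L127358
theorem L127363 : sm gd N10610 = N9310 := ded_34_1 (flp_i L73327) L73314 L127358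
theorem L127365 : sm ge N10610 = N10610 := ded_38_1 (flp_i L127358) L73320 L127358
theorem L127366 : sm gg N10610 = N10610 := ded_43_1 (flp_i L127358) L73318 L127358
theorem L127367 : sm gg N9309 = N10611 := rfl
theorem L127369 : sm gb N10611 = N9451 := ded_21_1 (flp_g L74388) (flp_b L73323) L127367
theorem L127371 : sm gc N10611 = N9312 := ded_27_1 (flp_g L73343) (flp_c L73325) L127367
theorem L127373 : sm gf N10611 = N10611 := ded_39_1 (flp_g L127367) (flp_f L73321) L53554 L73321 L127367
theorem L127374 : sm gi N9309 = N10612 := rfl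
theorem L127376 : sm gb N10612 = N9452 := ded_23_1 (flp_i L74394) (flp_b L73323) L127374
theorem L127378 : sm gc N10612 = N9313 := ded_29_1 (flp_i L73349) (flp_c L73325) L127374
theorem L127380 : sm gf N10612 = N9310 := ded_41_1 (flp_i L73327) L73321 L127374
theorem L127382 : sm gh N9310 = N10613 := rfl
theorem L127384 : sm gb N10613 = N9453 := ded_22_1 (flp_h L74401) (flp_b L73329) L127382
theorem L127386 : sm gc N10613 = N9314 := ded_28_1 (flp_h L73356) (flp_c L73331) L127382
theorem L127388 : sm ge N10613 = N9311 := ded_37_1 (flp_h L73336) (flp_e L73333) L127382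
theorem L127390 : sm gg N10613 = N10613 := ded_42_1 (flp_h L127382) L73335 L127382
theorem L127391 : sm gd N9311 = N10614 := rfl
theorem L127393 : sm gb N10614 = N9454 := ded_18_1 (flp_d L74409) (flp_b L73338) L127391
theorem L127395 : sm gg N10614 = N10614 := ded_32_2 (flp_d L127391) L73342 L127391
theorem L127396 : sm gh N10614 = N10614 := ded_33_2 (flp_d L127391) (flp_h L73336) L53561 L73336 L127391
theorem L127397 : sm gi N9312 = N10615 := rfl
theorem L127399 : sm gb N10615 = N9334 := ded_23_1 (flp_i L73523) (flp_b L73345) L127397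
theorem L127401 : sm gd N10615 = N10615 := ded_34_1 (flp_i L127397) L73347 L127397
theorem L127402 : sm gf N10615 = N10615 := ded_41_1 (flp_i L127397) L73348 L127397
theorem L127403 : sm gg N10615 = N9313 := ded_43_1 (flp_i L73349) L73343 L127397
theorem L127405 : sm gh N9313 = N10616 := rfl
theorem L127407 : sm gb N10616 = N9335 := ded_22_1 (flp_h L73533) (flp_b L73351) L127405
theorem L127409 : sm gf N10616 = N9314 := ded_40_1 (flp_h L73356) (flp_f L73354) L127405
theorem L127411 : sm gd N9314 = N10617 := rfl
theorem L127413 : sm gb N10617 = N9336 := ded_18_1 (flp_d L73541) (flp_b L73358) L127411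
theorem L127415 : sm gg N10617 = N10617 := ded_32_2 (flp_d L127411) L73362 L127411
theorem L127416 : sm gh N10617 = N10617 := ded_33_2 (flp_d L127411) (flp_h L73356) L53572 L73356 L127411
theorem L127417 : sm gf N9319 = N10618 := rfl
theorem L127419 : sm ga N10618 = N9342 := ded_13_1 (flp_f L73583) (flp_a L73399) L127417
theorem L127421 : sm gc N10618 = N10618 := ded_26_1 (flp_f L127417) L73401 L127417
theorem L127422 : sm gh N10618 = N9325 := ded_40_2 (flp_f L73448) (flp_h L73402) L127417
theorem L127424 : sm ge N10618 = N10618 := ded_35_1 (flp_f L127417) (flp_e L73397) L53602 L73397 L127417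
theorem L127425 : sm gi N9319 = N10619 := rfl
theorem L127427 : sm ga N10619 = N9343 := ded_16_1 (flp_i L73589) (flp_a L73399) L127425
theorem L127429 : sm gc N10619 = N10619 := ded_29_1 (flp_i L127425) L73401 L127425
theorem L127430 : sm ge N10619 = N9320 := ded_38_1 (flp_i L73404) L73397 L127425
theorem L127432 : sm gg N9325 = N10620 := rfl
theorem L127434 : sm ga N10620 = N9350 := ded_14_1 (flp_g L73632) (flp_a L73450) L127432
theorem L127436 : sm gc N10620 = N10620 := ded_27_1 (flp_g L127432) L73452 L127432
theorem L127437 : sm gd N10620 = N9331 := ded_32_1 (flp_g L73497) (flp_d L73453) L127432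
theorem L127439 : sm ge N10620 = N10620 := ded_36_1 (flp_g L127432) L73455 L127432
theorem L127440 : sm gg N9328 = N10621 := rfl
theorem L127442 : sm ga N10621 = N9353 := ded_14_1 (flp_g L73651) (flp_a L73473) L127440
theorem L127444 : sm gc N10621 = N9458 := ded_27_1 (flp_g L74441) (flp_c L73475) L127440
theorem L127446 : sm ge N10621 = N10621 := ded_36_1 (flp_g L127440) L73477 L127440
theorem L127447 : sm gf N10621 = N9331 := ded_39_1 (flp_g L73497) (flp_f L53674) (flp_g L53661) L73471 L127440
theorem L127449 : sm gi N9331 = N10622 := rfl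
theorem L127451 : sm ga N10622 = N9356 := ded_16_1 (flp_i L73673) (flp_a L73499) L127449
theorem L127453 : sm gc N10622 = N9461 := ded_29_1 (flp_i L74465) (flp_c L73501) L127449
theorem L127455 : sm ge N10622 = N9334 := ded_38_1 (flp_i L73523) (flp_e L73503) L127449
theorem L127457 : sm gg N10622 = N9332 := ded_43_1 (flp_i L73505) L73497 L127449
theorem L127459 : sm gh N9332 = N10623 := rfl
theorem L127461 : sm ga N10623 = N9357 := ded_15_1 (flp_h L73681) (flp_a L73507) L127459
theorem L127463 : sm gc N10623 = N9462 := ded_28_1 (flp_h L74474) (flp_c L73509) L127459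
theorem L127465 : sm ge N10623 = N9335 := ded_37_1 (flp_h L73533) (flp_e L73511) L127459
theorem L127467 : sm gf N10623 = N9333 := ded_40_1 (flp_h L73515) (flp_f L73513) L127459
theorem L127469 : sm gd N9333 = N10624 := rfl
theorem L127471 : sm ga N10624 = N9358 := ded_11_1 (flp_d L73689) (flp_a L73517) L127469
theorem L127473 : sm gh N9334 = N10625 := rfl
theorem L127475 : sm ga N10625 = N9359 := ded_15_1 (flp_h L73691) (flp_a L73525) L127473
theorem L127477 : sm gc N10625 = N9464 := ded_28_1 (flp_h L74488) (flp_c L73527) L127473
theorem L127479 : sm gf N10625 = N10625 := ded_40_1 (flp_h L127473) L73530 L127473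
theorem L127480 : sm gg N10625 = N9335 := ded_42_1 (flp_h L73533) (flp_g L73531) L127473
theorem L127482 : sm gd N9335 = N10626 := rfl
theorem L127484 : sm ga N10626 = N9360 := ded_11_1 (flp_d L73698) (flp_a L73535) L127482
theorem L127486 : sm gf N10626 = N9336 := ded_31_2 (flp_d L73541) (flp_f L73539) L127482
theorem L127488 : sm gh N10626 = N10626 := ded_33_2 (flp_d L127482) (flp_h L73533) L53712 L73533 L127482
theorem L127489 : sm gc N9336 = N10627 := rfl
theorem L127491 : sm ga N10627 = N9361 := ded_10_1 (flp_c L73703) (flp_a L73543) L127489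
theorem L127493 : sm gg N10627 = N10627 := ded_27_2 (flp_c L127489) L73545 L127489
theorem L127494 : sm gh N10627 = N10627 := ded_28_2 (flp_c L127489) L73546 L127489
theorem L127495 : sm gd N10627 = N9466 := ded_24_2 (flp_c L74503) (flp_d L54473) (flp_c L53719) L73541 L127489
theorem L127497 : sm gg N9342 = N10628 := rfl
theorem L127499 : sm gc N10628 = N10628 := ded_27_1 (flp_g L127497) L73585 L127497
theorem L127500 : sm ge N10628 = N10628 := ded_36_1 (flp_g L127497) L73588 L127497
theorem L127501 : sm gh N10628 = N9350 := ded_42_2 (flp_g L73632) (flp_h L73586) L127497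
theorem L127503 : sm gi N9342 = N10629 := rfl
theorem L127505 : sm gc N10629 = N10629 := ded_29_1 (flp_i L127503) L73585 L127503
theorem L127506 : sm ge N10629 = N10629 := ded_38_1 (flp_i L127503) L73588 L127503
theorem L127507 : sm gf N10629 = N9343 := ded_41_1 (flp_i L73589) L73583 L127503
theorem L127509 : sm gh N9356 = N10630 := rfl
theorem L127511 : sm gc N10630 = N9470 := ded_28_1 (flp_h L74533) (flp_c L73675) L127509
theorem L127513 : sm ge N10630 = N9359 := ded_37_1 (flp_h L73691) (flp_e L73677) L127509
theorem L127515 : sm gg N10630 = N9357 := ded_42_1 (flp_h L73681) (flp_g L73679) L127509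
theorem L127517 : sm gd N9357 = N10631 := rfl
theorem L127519 : sm gf N10631 = N9358 := ded_31_2 (flp_d L73689) (flp_f L73687) L127517
theorem L127521 : sm gc N9358 = N10632 := rfl
theorem L127523 : sm gd N10632 = N9472 := ded_24_2 (flp_c L74546) (flp_d L54517) (flp_c L53852) L73689 L127521
theorem L127525 : sm gh N9362 = N10633 := rfl
theorem L127527 : sm ga N10633 = N10633 := ded_15_1 (flp_h L127525) L73711 L127525
theorem L127528 : sm gc N10633 = N9365 := ded_28_1 (flp_h L73733) (flp_c L73712) L127525
theorem L127530 : sm gg N10633 = N9363 := ded_42_1 (flp_h L73717) L73709 L127525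
theorem L127532 : sm gd N9363 = N10634 := rfl
theorem L127534 : sm ga N10634 = N10634 := ded_11_1 (flp_d L127532) L73719 L127532
theorem L127535 : sm gf N10634 = N10634 := ded_31_2 (flp_d L127532) L73722 L127532
theorem L127536 : sm gh N10634 = N10634 := ded_33_2 (flp_d L127532) (flp_h L73717) L53880 L73717 L127532
theorem L127537 : sm gi N9363 = N10635 := rfl
theorem L127539 : sm ga N10635 = N10635 := ded_16_1 (flp_i L127537) L73719 L127537
theorem L127540 : sm gc N10635 = N9367 := ded_29_1 (flp_i L73748) (flp_c L73720) L127537
theorem L127542 : sm gf N10635 = N10635 := ded_41_1 (flp_i L127537) L73722 L127537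
theorem L127543 : sm gh N10635 = N9428 := ded_44_1 (flp_i L74213) (flp_h L54236) (flp_i L53878) L73717 L127537
theorem L127545 : sm gi N9365 = N10636 := rfl
theorem L127547 : sm ga N10636 = N10636 := ded_16_1 (flp_i L127545) L73735 L127545
theorem L127548 : sm gb N10636 = N9382 := ded_23_1 (flp_i L73873) (flp_b L73736) L127545
theorem L127550 : sm gg N10636 = N9367 := ded_43_1 (flp_i L73748) (flp_g L73738) L127545
theorem L127552 : sm gh N10636 = N9431 := ded_44_1 (flp_i L74236) (flp_h L54250) (flp_i L53888) L73733 L127545
theorem L127554 : sm gc N9366 = N10637 := rfl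
theorem L127556 : sm ga N10637 = N10637 := ded_10_1 (flp_c L127554) L73742 L127554
theorem L127557 : sm gf N10637 = N10637 := ded_26_2 (flp_c L127554) L73745 L127554
theorem L127558 : sm gg N10637 = N9964 := ded_27_2 (flp_c L123562) L123566 L127554
theorem L127560 : sm gh N10637 = N9370 := ded_28_2 (flp_c L73776) (flp_h L73746) L127554
theorem L127562 : sm gb N10637 = N9968 := ded_17_1 L121777 (flp_b L66218) L119134 (flp_b L73743) L127554
theorem L127564 : sm ge N9366 = N10638 := rfl
theorem L127566 : sm ga N10638 = N10638 := ded_12_1 (flp_e L127564) L73742 L127564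
theorem L127567 : sm gb N10638 = N9384 := ded_19_1 (flp_e L73888) (flp_b L73743) L127564
theorem L127569 : sm gh N10638 = N9371 := ded_37_2 (flp_e L73782) (flp_h L73746) L127564
theorem L127571 : sm gi N9366 = N10639 := rfl
theorem L127573 : sm ga N10639 = N10639 := ded_16_1 (flp_i L127571) L73742 L127571
theorem L127574 : sm gb N10639 = N9385 := ded_23_1 (flp_i L73894) (flp_b L73743) L127571
theorem L127576 : sm gd N10639 = N9367 := ded_34_1 (flp_i L73748) L73740 L127571
theorem L127578 : sm gf N10639 = N10639 := ded_41_1 (flp_i L127571) L73745 L127571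
theorem L127579 : sm gh N10639 = N10639 := ded_44_1 (flp_i L127571) L73746 L53924 (flp_h L73746) L127571
theorem L127580 : sm ge N9372 = N10640 := rfl
theorem L127582 : sm ga N10640 = N10640 := ded_12_1 (flp_e L127580) L73792 L127580
theorem L127583 : sm gb N10640 = N10640 := ded_19_1 (flp_e L127580) L73798 L127580
theorem L127584 : sm gc N10640 = N9373 := ded_25_1 (flp_e L73800) L73790 L127580
theorem L127586 : sm gg N10640 = N9374 := ded_36_2 (flp_e L73808) (flp_g L73795) L127580
theorem L127588 : sm gi N10640 = N10640 := ded_38_2 (flp_e L127580) L73797 L127580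
theorem L127589 : sm gf N10640 = N10640 := ded_35_2 (flp_e L127580) L73793 L120730 (flp_f L73793) L127580
theorem L127590 : sm gf N9384 = N10641 := rfl
theorem L127592 : sm ga N10641 = N9407 := ded_13_1 (flp_f L74060) (flp_a L73890) L127590
theorem L127594 : sm gd N10641 = N9432 := ded_31_1 (flp_f L125964) L125962 L127590
theorem L127596 : sm gh N10641 = N9391 := ded_40_2 (flp_f L73942) (flp_h L73892) L127590
theorem L127598 : sm ge N10641 = N10641 := ded_35_1 (flp_f L127590) (flp_e L73888) L53984 L73888 L127590
theorem L127599 : sm gg N10641 = N10641 := ded_39_2 (flp_f L127590) (flp_g L123599) L123598 L123599 L127590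
theorem L127600 : sm gi N9384 = N10642 := rfl
theorem L127602 : sm ga N10642 = N9408 := ded_16_1 (flp_i L74066) (flp_a L73890) L127600
theorem L127604 : sm ge N10642 = N9385 := ded_38_1 (flp_i L73894) L73888 L127600
theorem L127606 : sm gh N10642 = N10642 := ded_44_1 (flp_i L127600) L73892 L54025 (flp_h L73892) L127600
theorem L127607 : sm gi N9407 = N10643 := rfl
theorem L127609 : sm gb N10643 = N10643 := ded_23_1 (flp_i L127607) L74062 L127607
theorem L127610 : sm gd N10643 = N9435 := ded_34_1 (flp_i L74266) (flp_d L106262) L127607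
theorem L127612 : sm ge N10643 = N10643 := ded_38_1 (flp_i L127607) L74065 L127607
theorem L127613 : sm gf N10643 = N9408 := ded_41_1 (flp_i L74066) L74060 L127607
theorem L127615 : sm gg N10643 = N10643 := ded_43_1 (flp_i L127607) L106265 L127607
theorem L127616 : sm gh N10643 = N10643 := ded_44_1 (flp_i L127607) L74063 L54161 (flp_h L74063) L127607
theorem L127617 : sm ge N9425 = N10644 := rfl
theorem L127619 : sm ga N10644 = N10644 := ded_12_1 (flp_e L127617) L74195 L127617
theorem L127620 : sm gc N10644 = N9429 := ded_25_1 (flp_e L74219) (flp_c L74196) L127617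
theorem L127622 : sm gg N10644 = N10644 := ded_36_2 (flp_e L127617) L74199 L127617
theorem L127623 : sm gh N9425 = N10645 := rfl
theorem L127625 : sm ga N10645 = N10645 := ded_15_1 (flp_h L127623) L74195 L127623
theorem L127626 : sm gc N10645 = N9430 := ded_28_1 (flp_h L74227) (flp_c L74196) L127623
theorem L127628 : sm gf N10645 = N9426 := ded_40_1 (flp_h L74200) L74193 L127623
theorem L127630 : sm gg N10645 = N10645 := ded_42_1 (flp_h L127623) L74199 L127623
theorem L127631 : sm gd N9426 = N10646 := rfl
theorem L127633 : sm ga N10646 = N10646 := ded_11_1 (flp_d L127631) L74202 L127631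
theorem L127634 : sm gg N10646 = N9427 := ded_32_2 (flp_d L74207) (flp_g L74205) L127631
theorem L127636 : sm gc N10646 = N10646 := ded_24_1 (flp_d L127631) L74203 L54257 (flp_c L74203) L127631
theorem L127637 : sm gh N10646 = N10646 := ded_33_2 (flp_d L127631) (flp_h L74200) L54235 L74200 L127631
theorem L127638 : sm gi N9426 = N10647 := rfl
theorem L127640 : sm ga N10647 = N10647 := ded_16_1 (flp_i L127638) L74202 L127638
theorem L127641 : sm gc N10647 = N9431 := ded_29_1 (flp_i L74236) (flp_c L74203) L127638
theorem L127643 : sm gg N10647 = N9428 := ded_43_1 (flp_i L74213) (flp_g L74205) L127638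
theorem L127645 : sm ge N9427 = N10648 := rfl
theorem L127647 : sm ga N10648 = N10648 := ded_12_1 (flp_e L127645) L74209 L127645
theorem L127648 : sm gc N10648 = N10648 := ded_25_1 (flp_e L127645) L74211 L127645
theorem L127649 : sm gh N10648 = N10648 := ded_37_2 (flp_e L127645) L74212 L127645
theorem L127650 : sm gi N9427 = N10649 := rfl
theorem L127652 : sm ga N10649 = N10649 := ded_16_1 (flp_i L127650) L74209 L127650
theorem L127653 : sm gc N10649 = N10649 := ded_29_1 (flp_i L127650) L74211 L127650
theorem L127654 : sm gd N10649 = N9428 := ded_34_1 (flp_i L74213) L74207 L127650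
theorem L127656 : sm gf N10649 = N10649 := ded_41_1 (flp_i L127650) L74210 L127650
theorem L127657 : sm gh N9429 = N10650 := rfl
theorem L127659 : sm ga N10650 = N10650 := ded_15_1 (flp_h L127657) L74221 L127657
theorem L127660 : sm gb N10650 = N9432 := ded_22_1 (flp_h L74244) (flp_b L74222) L127657
theorem L127662 : sm ge N10650 = N9430 := ded_37_1 (flp_h L74227) L74219 L127657
theorem L127664 : sm gg N10650 = N10650 := ded_42_1 (flp_h L127657) L74224 L127657
theorem L127665 : sm gi N9430 = N10651 := rfl
theorem L127667 : sm ga N10651 = N10651 := ded_16_1 (flp_i L127665) L74229 L127665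
theorem L127668 : sm gb N10651 = N9433 := ded_23_1 (flp_i L74251) (flp_b L74230) L127665
theorem L127670 : sm gd N10651 = N10651 := ded_34_1 (flp_i L127665) L74235 L127665
theorem L127671 : sm gf N10651 = N9431 := ded_41_1 (flp_i L74236) (flp_f L74232) L127665
theorem L127673 : sm gg N10651 = N10651 := ded_43_1 (flp_i L127665) L74234 L127665
theorem L127674 : sm gi N9432 = N10652 := rfl
theorem L127676 : sm ga N10652 = N9435 := ded_16_1 (flp_i L74266) (flp_a L74246) L127674
theorem L127678 : sm ge N10652 = N9433 := ded_38_1 (flp_i L74251) (flp_e L74248) L127674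
theorem L127680 : sm gg N10652 = N10652 := ded_43_1 (flp_i L127674) L74250 L127674
theorem L127681 : sm gd N9436 = N10653 := rfl
theorem L127683 : sm ga N10653 = N10653 := ded_11_1 (flp_d L127681) L74274 L127681
theorem L127684 : sm gg N10653 = N9441 := ded_32_2 (flp_d L74314) (flp_g L74277) L127681
theorem L127686 : sm gc N10653 = N10653 := ded_24_1 (flp_d L127681) L74275 L54314 (flp_c L74275) L127681
theorem L127687 : sm ge N10653 = N10653 := ded_30_2 (flp_d L127681) (flp_e L74272) L54306 L74272 L127681
theorem L127688 : sm gf N9436 = N10654 := rfl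
theorem L127690 : sm ga N10654 = N10654 := ded_13_1 (flp_f L127688) L74274 L127688
theorem L127691 : sm gc N10654 = N9438 := ded_26_1 (flp_f L74288) (flp_c L74275) L127688
theorem L127693 : sm ge N10654 = N10654 := ded_35_1 (flp_f L127688) (flp_e L74272) L54303 L74272 L127688
theorem L127694 : sm gi N9436 = N10655 := rfl
theorem L127696 : sm ga N10655 = N10655 := ded_16_1 (flp_i L127694) L74274 L127694
theorem L127697 : sm gc N10655 = N9439 := ded_29_1 (flp_i L74295) (flp_c L74275) L127694
theorem L127699 : sm ge N10655 = N9437 := ded_38_1 (flp_i L74279) L74272 L127694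
theorem L127701 : sm gg N10655 = N9443 := ded_43_1 (flp_i L74326) (flp_g L74277) L127694
theorem L127703 : sm gh N9437 = N10656 := rfl
theorem L127705 : sm ga N10656 = N10656 := ded_15_1 (flp_h L127703) L74281 L127703
theorem L127706 : sm gc N10656 = N9440 := ded_28_1 (flp_h L74305) (flp_c L74282) L127703
theorem L127708 : sm gf N10656 = N10656 := ded_40_1 (flp_h L127703) L74285 L127703
theorem L127709 : sm gg N10656 = N9444 := ded_42_1 (flp_h L74333) (flp_g L74286) L127703
theorem L127711 : sm gg N9438 = N10657 := rfl
theorem L127713 : sm ga N10657 = N10657 := ded_14_1 (flp_g L127711) L74290 L127711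
theorem L127714 : sm gb N10657 = N9458 := ded_21_1 (flp_g L74441) (flp_b L74291) L127711
theorem L127716 : sm gd N10657 = N10657 := ded_32_1 (flp_g L127711) L74293 L127711
theorem L127717 : sm ge N10657 = N10657 := ded_36_1 (flp_g L127711) L74294 L127711
theorem L127718 : sm gf N10657 = N9445 := ded_39_1 (flp_g L74340) (flp_f L54338) (flp_g L54312) L74288 L127711
theorem L127720 : sm gi N9438 = N10658 := rfl
theorem L127722 : sm ga N10658 = N10658 := ded_16_1 (flp_i L127720) L74290 L127720
theorem L127723 : sm gb N10658 = N9459 := ded_23_1 (flp_i L74449) (flp_b L74291) L127720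
theorem L127725 : sm gd N10658 = N10658 := ded_34_1 (flp_i L127720) L74293 L127720
theorem L127726 : sm ge N10658 = N10658 := ded_38_1 (flp_i L127720) L74294 L127720
theorem L127727 : sm gf N10658 = N9439 := ded_41_1 (flp_i L74295) L74288 L127720
theorem L127729 : sm gh N9439 = N10659 := rfl
theorem L127731 : sm ga N10659 = N10659 := ded_15_1 (flp_h L127729) L74297 L127729
theorem L127732 : sm gb N10659 = N9460 := ded_22_1 (flp_h L74457) (flp_b L74298) L127729
theorem L127734 : sm ge N10659 = N9440 := ded_37_1 (flp_h L74305) (flp_e L74301) L127729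
theorem L127736 : sm gg N10659 = N9447 := ded_42_1 (flp_h L74358) (flp_g L74303) L127729
theorem L127738 : sm gf N9441 = N10660 := rfl
theorem L127740 : sm ga N10660 = N10660 := ded_13_1 (flp_f L127738) L74316 L127738
theorem L127741 : sm gc N10660 = N10660 := ded_26_1 (flp_f L127738) L74317 L127738
theorem L127742 : sm gd N10660 = N9442 := ded_31_1 (flp_f L74319) L74314 L127738
theorem L127744 : sm gh N9441 = N10661 := rfl
theorem L127746 : sm ga N10661 = N10661 := ded_15_1 (flp_h L127744) L74316 L127744
theorem L127747 : sm gc N10661 = N10661 := ded_28_1 (flp_h L127744) L74317 L127744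
theorem L127748 : sm ge N10661 = N10661 := ded_37_1 (flp_h L127744) L74318 L127744
theorem L127749 : sm gi N9441 = N10662 := rfl
theorem L127751 : sm ga N10662 = N10662 := ded_16_1 (flp_i L127749) L74316 L127749
theorem L127752 : sm gc N10662 = N10662 := ded_29_1 (flp_i L127749) L74317 L127749
theorem L127753 : sm gd N10662 = N9443 := ded_34_1 (flp_i L74326) L74314 L127749
theorem L127755 : sm ge N10662 = N10662 := ded_38_1 (flp_i L127749) L74318 L127749
theorem L127756 : sm gg N9442 = N10663 := rfl
theorem L127758 : sm ga N10663 = N10663 := ded_14_1 (flp_g L127756) L74321 L127756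
theorem L127759 : sm gc N10663 = N9445 := ded_27_1 (flp_g L74340) (flp_c L74322) L127756
theorem L127761 : sm ge N10663 = N9451 := ded_36_1 (flp_g L74388) (flp_e L74324) L127756
theorem L127763 : sm gi N9442 = N10664 := rfl
theorem L127765 : sm ga N10664 = N10664 := ded_16_1 (flp_i L127763) L74321 L127763
theorem L127766 : sm gc N10664 = N9446 := ded_29_1 (flp_i L74348) (flp_c L74322) L127763
theorem L127768 : sm ge N10664 = N9452 := ded_38_1 (flp_i L74394) (flp_e L74324) L127763
theorem L127770 : sm gf N10664 = N9443 := ded_41_1 (flp_i L74326) L74319 L127763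
theorem L127772 : sm gh N9443 = N10665 := rfl
theorem L127774 : sm ga N10665 = N10665 := ded_15_1 (flp_h L127772) L74328 L127772
theorem L127775 : sm gc N10665 = N9447 := ded_28_1 (flp_h L74358) (flp_c L74329) L127772
theorem L127777 : sm ge N10665 = N9444 := ded_37_1 (flp_h L74333) (flp_e L74331) L127772
theorem L127779 : sm gd N9444 = N10666 := rfl
theorem L127781 : sm ga N10666 = N10666 := ded_11_1 (flp_d L127779) L74335 L127779
theorem L127782 : sm gf N10666 = N9454 := ded_31_2 (flp_d L74409) (flp_f L74338) L127779
theorem L127784 : sm gc N10666 = N10666 := ded_24_1 (flp_d L127779) L74336 L54361 (flp_c L74336) L127779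
theorem L127785 : sm gh N10666 = N10666 := ded_33_2 (flp_d L127779) (flp_h L74333) L54335 L74333 L127779
theorem L127786 : sm gi N9445 = N10667 := rfl
theorem L127788 : sm ga N10667 = N10667 := ded_16_1 (flp_i L127786) L74342 L127786
theorem L127789 : sm gb N10667 = N9461 := ded_23_1 (flp_i L74465) (flp_b L74343) L127786
theorem L127791 : sm gd N10667 = N10667 := ded_34_1 (flp_i L127786) L74345 L127786
theorem L127792 : sm ge N10667 = N9455 := ded_38_1 (flp_i L74415) (flp_e L74346) L127786
theorem L127794 : sm gg N10667 = N9446 := ded_43_1 (flp_i L74348) L74340 L127786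
theorem L127796 : sm gh N9446 = N10668 := rfl
theorem L127798 : sm ga N10668 = N10668 := ded_15_1 (flp_h L127796) L74350 L127796
theorem L127799 : sm gb N10668 = N9462 := ded_22_1 (flp_h L74474) (flp_b L74351) L127796
theorem L127801 : sm ge N10668 = N9456 := ded_37_1 (flp_h L74425) (flp_e L74354) L127796
theorem L127803 : sm gf N10668 = N9447 := ded_40_1 (flp_h L74358) (flp_f L74356) L127796
theorem L127805 : sm gd N9447 = N10669 := rfl
theorem L127807 : sm ga N10669 = N10669 := ded_11_1 (flp_d L127805) L74360 L127805
theorem L127808 : sm gb N10669 = N9463 := ded_18_1 (flp_d L74482) (flp_b L74361) L127805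
theorem L127810 : sm ge N10669 = N10669 := ded_30_2 (flp_d L127805) L74363 L54361 (flp_e L74363) L127805
theorem L127811 : sm gh N10669 = N10669 := ded_33_2 (flp_d L127805) (flp_h L74358) L54351 L74358 L127805
theorem L127812 : sm ge N9448 = N10670 := rfl
theorem L127814 : sm ga N10670 = N10670 := ded_12_1 (flp_e L127812) L74367 L127812
theorem L127815 : sm gc N10670 = N9477 := ded_25_1 (flp_e L74577) (flp_c L74368) L127812
theorem L127817 : sm gf N10670 = N10670 := ded_35_2 (flp_e L127812) (flp_f L74365) L54368 L74365 L127812
theorem L127818 : sm gg N9448 = N10671 := rfl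
theorem L127820 : sm ga N10671 = N10671 := ded_14_1 (flp_g L127818) L74367 L127818
theorem L127821 : sm gc N10671 = N9478 := ded_27_1 (flp_g L74583) (flp_c L74368) L127818
theorem L127823 : sm gd N10671 = N9451 := ded_32_1 (flp_g L74388) (flp_d L74370) L127818
theorem L127825 : sm gf N10671 = N10671 := ded_39_1 (flp_g L127818) (flp_f L74365) L54365 L74365 L127818
theorem L127826 : sm gh N9448 = N10672 := rfl
theorem L127828 : sm ga N10672 = N10672 := ded_15_1 (flp_h L127826) L74367 L127826
theorem L127829 : sm gc N10672 = N9479 := ded_28_1 (flp_h L74590) (flp_c L74368) L127826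
theorem L127831 : sm gf N10672 = N9449 := ded_40_1 (flp_h L74372) L74365 L127826
theorem L127833 : sm ge N10672 = N10671 := ded_47_3 L127823 L74391 L54391 (flp_h L51144) (flp_g L51139) (flp_f L37444) (flp_e L27410) (flp_d L20116) L14758 (flp_b L13382) (flp_h L13378) L9881 L13369 (flp_e L99254) L14774 L10875 L8578 (flp_h L11381) (flp_g L11374) (flp_f L8357) (flp_e L6186) L4556 (flp_c L5783) (flp_b L7225) L7223 L5442 L5440 L5480 (flp_d L109946) L6825 L5227 (flp_h L7012) (flp_g L7006) (flp_f L5182) (flp_e L3844) L2846 (flp_c L3709) (flp_b L4772) L4770 (flp_g L4069) (flp_f L5440) L7310 L9875 L13361 L18133 L24628 L24636 (flp_f L33532) (flp_e L98828) L50967 L69750 (flp_b L125285) L125283 L73261 L53531 L53548 L73314 L73319 L73316 L74372 L74378 (flp_f L127831)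
theorem L127835 : sm ge N9478 = N9479 := ded_25_2 (flp_c L127829) L127833 L127821
theorem L127837 : sm gg N10670 = N10672 := ded_36_0 L127833 (flp_g L127818) L127812
theorem L127839 : sm gh N10671 = N10670 := ded_37_2 (flp_e L127812) L127826 L127833
theorem L127841 : sm gg N9479 = N9477 := ded_36_2 (flp_e L74577) L74583 L127835
theorem L127843 : sm gh N9477 = N9478 := ded_37_0 L127835 (flp_h L74590) L74577
theorem L127845 : sm gi N9448 = N10673 := rfl
theorem L127847 : sm ga N10673 = N10673 := ded_16_1 (flp_i L127845) L74367 L127845
theorem L127848 : sm gc N10673 = N9480 := ded_29_1 (flp_i L74597) (flp_c L74368) L127845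
theorem L127850 : sm gd N10673 = N9452 := ded_34_1 (flp_i L74394) (flp_d L74370) L127845
theorem L127852 : sm gf N10673 = N9450 := ded_41_1 (flp_i L74379) L74365 L127845
theorem L127854 : sm gi N9449 = N10674 := rfl
theorem L127856 : sm ga N10674 = N10674 := ded_16_1 (flp_i L127854) L74374 L127854
theorem L127857 : sm gc N10674 = N9481 := ded_29_1 (flp_i L74605) (flp_c L74375) L127854
theorem L127859 : sm ge N10674 = N10674 := ded_38_1 (flp_i L127854) L74377 L127854
theorem L127860 : sm gg N10674 = N10674 := ded_43_1 (flp_i L127854) L74378 L127854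
theorem L127861 : sm gh N9450 = N10675 := rfl
theorem L127863 : sm ga N10675 = N10675 := ded_15_1 (flp_h L127861) L74381 L127861
theorem L127864 : sm gc N10675 = N9482 := ded_28_1 (flp_h L74612) (flp_c L74382) L127861
theorem L127866 : sm ge N10675 = N10675 := ded_37_1 (flp_h L127861) L74386 L127861
theorem L127867 : sm gg N10675 = N10675 := ded_42_1 (flp_h L127861) L74387 L127861
theorem L127868 : sm gd N10644 = N10675 := ded_24_0 L127864 L121101 L121096 (flp_d L74225) (flp_c L127620)
theorem L127870 : sm gi N9451 = N10676 := rfl
theorem L127872 : sm ga N10676 = N10676 := ded_16_1 (flp_i L127870) L74390 L127870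
theorem L127873 : sm gc N10676 = N9455 := ded_29_1 (flp_i L74415) (flp_c L74391) L127870
theorem L127875 : sm gf N10676 = N10676 := ded_41_1 (flp_i L127870) L74393 L127870
theorem L127876 : sm gg N10676 = N9452 := ded_43_1 (flp_i L74394) L74388 L127870
theorem L127878 : sm gh N9452 = N10677 := rfl
theorem L127880 : sm ga N10677 = N10677 := ded_15_1 (flp_h L127878) L74396 L127878
theorem L127881 : sm gc N10677 = N9456 := ded_28_1 (flp_h L74425) (flp_c L74397) L127878
theorem L127883 : sm gf N10677 = N9453 := ded_40_1 (flp_h L74401) (flp_f L74399) L127878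
theorem L127885 : sm gd N9453 = N10678 := rfl
theorem L127887 : sm ga N10678 = N10678 := ded_11_1 (flp_d L127885) L74403 L127885
theorem L127888 : sm gg N10678 = N10678 := ded_32_2 (flp_d L127885) L74408 L127885
theorem L127889 : sm gh N10678 = N10644 := ded_33_2 L127868 (flp_h L127861) L74384 L74401 L127885
theorem L127891 : sm gc N10678 = N10650 := ded_46_4 L127660 L74246 (flp_h L54287) L106196 (flp_e L50337) (flp_d L36839) L26947 L19817 L14568 (flp_h L14068) L10371 (flp_e L7956) L5902 L4348 L3232 L2559 L2561 (flp_f L1930) (flp_e L1415) (flp_d L1018) L703 L506 L505 (flp_h L503) (flp_f L500) L499 L498 (flp_c L694) (flp_b L943) (flp_a L1224) L1669 L1676 L1238 L1243 (flp_c L107939) L1637 L1198 L1201 L1203 (flp_e L1584) (flp_d L2150) (flp_c L2895) (flp_b L3889) (flp_a L5225) (flp_h L7012) (flp_f L8519) (flp_e L11379) (flp_d L15468) (flp_c L21059) (flp_b L28674) (flp_a L38519) L52634 L52641 (flp_e L118781) (flp_d L53544) (flp_c L73291) L73289 L54332 L74333 L74338 (flp_e L74406) L127885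
theorem L127893 : sm ge N10645 = N10678 := ded_37_3 L127889 (flp_e L127617) L127623
theorem L127895 : sm ge N9454 = N10679 := rfl
theorem L127897 : sm ga N10679 = N10679 := ded_12_1 (flp_e L127895) L74411 L127895
theorem L127898 : sm gc N10679 = N10679 := ded_25_1 (flp_e L127895) L74413 L127895
theorem L127899 : sm gg N10679 = N10679 := ded_36_2 (flp_e L127895) L74412 L127895
theorem L127900 : sm gh N10679 = N10679 := ded_37_2 (flp_e L127895) L74414 L127895
theorem L127901 : sm gd N10679 = N10645 := ded_30_1 L127893 (flp_d L127885) L74406 L74409 L127895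
theorem L127903 : sm gf N10646 = N10679 := ded_31_0 L127901 L127628 L127631
theorem L127905 : sm gh N9455 = N10680 := rfl
theorem L127907 : sm ga N10680 = N10680 := ded_15_1 (flp_h L127905) L74417 L127905
theorem L127908 : sm gb N10680 = N9464 := ded_22_1 (flp_h L74488) (flp_b L74418) L127905
theorem L127910 : sm gf N10680 = N10680 := ded_40_1 (flp_h L127905) L74422 L127905
theorem L127911 : sm gg N10680 = N9456 := ded_42_1 (flp_h L74425) (flp_g L74423) L127905
theorem L127913 : sm gd N9456 = N10681 := rfl
theorem L127915 : sm ga N10681 = N10681 := ded_11_1 (flp_d L127913) L74427 L127913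
theorem L127916 : sm gb N10681 = N9465 := ded_18_1 (flp_d L74495) (flp_b L74428) L127913
theorem L127918 : sm gf N10681 = N9457 := ded_31_2 (flp_d L74432) (flp_f L74430) L127913
theorem L127920 : sm gh N10681 = N9488 := ded_33_2 (flp_d L74662) (flp_h L54608) (flp_d L54401) L74425 L127913
theorem L127922 : sm gc N10681 = N10638 := ded_46_4 L127567 L73890 L54112 L54156 L54162 L54159 L39674 L39673 (flp_a L54038) L106219 L106209 (flp_e L50183) (flp_d L36707) L26859 L19743 L19030 (flp_h L14043) (flp_f L10339) L7631 (flp_d L5885) L4335 L3435 L2550 L2555 L2601 (flp_e L3493) (flp_d L4701) L4700 (flp_b L6362) (flp_a L8559) L11655 L11661 L8571 L6431 (flp_c L8650) (flp_b L11729) L11728 (flp_h L11726) L8641 (flp_e L11622) (flp_d L14739) (flp_c L18140) (flp_b L18133) L13363 L13404 (flp_f L18215) (flp_e L99269) L27497 (flp_c L36483) (flp_b L49033) (flp_a L66922) L66928 L52734 L72192 L118178 L53686 (flp_b L54349) L54348 L74358 (flp_f L127803) L127801 L127913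
theorem L127924 : sm ge N10637 = N10681 := ded_19_0 L127916 (flp_e L121779) (flp_b L127562)
theorem L127926 : sm gc N9457 = N10682 := rfl
theorem L127928 : sm ga N10682 = N10682 := ded_10_1 (flp_c L127926) L74434 L127926
theorem L127929 : sm ge N10682 = N10682 := ded_25_2 (flp_c L127926) L74438 L127926
theorem L127930 : sm gf N10682 = N10638 := ded_26_2 (flp_c L127922) L127918 L127926
theorem L127932 : sm gg N10682 = N10682 := ded_27_2 (flp_c L127926) L74437 L127926
theorem L127933 : sm gh N10682 = N9489 := ded_28_2 (flp_c L74670) (flp_h L74439) L127926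
theorem L127935 : sm gd N10682 = N10650 := ded_24_2 (flp_c L127891) (flp_d L127885) L74404 L74432 L127926
theorem L127937 : sm gb N10682 = N10641 := ded_46_5 L127592 L74063 (flp_f L54156) (flp_e L39658) (flp_d L29057) L21323 L15676 L11542 (flp_h L11540) L8477 (flp_e L8471) L6260 L4622 (flp_b L4317) L4315 L4208 (flp_f L4204) (flp_e L3123) (flp_d L2319) L1728 L1313 L1003 (flp_h L1001) (flp_f L990) (flp_e L1365) L1364 L1363 (flp_b L1749) (flp_a L2212) L2970 L2977 L2975 L2979 L3998 L5367 L7217 L7223 L5440 L5480 (flp_d L109946) L6825 L5227 L5225 (flp_h L5207) (flp_f L6319) (flp_e L8388) (flp_d L11405) (flp_c L15496) (flp_b L20772) (flp_a L28242) L38573 L38579 (flp_e L119682) (flp_d L39289) L39287 (flp_b L39839) L39838 L54354 L54359 (flp_e L54410) L74432 L127926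
theorem L127939 : sm gi N9458 = N10683 := rfl
theorem L127941 : sm ga N10683 = N9467 := ded_16_1 (flp_i L74511) (flp_a L74443) L127939
theorem L127943 : sm gd N10683 = N10683 := ded_34_1 (flp_i L127939) L74445 L127939
theorem L127944 : sm ge N10683 = N10683 := ded_38_1 (flp_i L127939) L74446 L127939
theorem L127945 : sm gf N10683 = N9461 := ded_41_1 (flp_i L74465) (flp_f L74447) L127939
theorem L127947 : sm gg N10683 = N9459 := ded_43_1 (flp_i L74449) L74441 L127939
theorem L127949 : sm gh N9459 = N10684 := rfl
theorem L127951 : sm ga N10684 = N9468 := ded_15_1 (flp_h L74520) (flp_a L74451) L127949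
theorem L127953 : sm ge N10684 = N10684 := ded_37_1 (flp_h L127949) L74454 L127949
theorem L127954 : sm gf N10684 = N9460 := ded_40_1 (flp_h L74457) (flp_f L74455) L127949
theorem L127956 : sm gd N9460 = N10685 := rfl
theorem L127958 : sm ga N10685 = N9469 := ded_11_1 (flp_d L74526) (flp_a L74459) L127956
theorem L127960 : sm gg N10685 = N9463 := ded_32_2 (flp_d L74482) (flp_g L74463) L127956
theorem L127962 : sm ge N10685 = N10685 := ded_30_2 (flp_d L127956) L74461 L54435 (flp_e L74461) L127956
theorem L127963 : sm gh N10685 = N10685 := ded_33_2 (flp_d L127956) (flp_h L74457) L54423 L74457 L127956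
theorem L127964 : sm gh N9461 = N10686 := rfl
theorem L127966 : sm ga N10686 = N9470 := ded_15_1 (flp_h L74533) (flp_a L74467) L127964
theorem L127968 : sm ge N10686 = N9464 := ded_37_1 (flp_h L74488) (flp_e L74470) L127964
theorem L127970 : sm gg N10686 = N9462 := ded_42_1 (flp_h L74474) (flp_g L74472) L127964
theorem L127972 : sm gd N9462 = N10687 := rfl
theorem L127974 : sm ga N10687 = N9471 := ded_11_1 (flp_d L74540) (flp_a L74476) L127972
theorem L127976 : sm gf N10687 = N9463 := ded_31_2 (flp_d L74482) (flp_f L74480) L127972
theorem L127978 : sm gh N10687 = N10687 := ded_33_2 (flp_d L127972) (flp_h L74474) L54447 L74474 L127972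
theorem L127979 : sm gc N9463 = N10688 := rfl
theorem L127981 : sm ga N10688 = N9472 := ded_10_1 (flp_c L74546) (flp_a L74484) L127979
theorem L127983 : sm ge N10688 = N10688 := ded_25_2 (flp_c L127979) L74486 L127979
theorem L127984 : sm gh N10688 = N10688 := ded_28_2 (flp_c L127979) L74487 L127979
theorem L127985 : sm gb N9466 = N10689 := rfl
theorem L127987 : sm ge N10689 = N10689 := ded_19_2 (flp_b L127985) L74507 L127985
theorem L127988 : sm gf N10689 = N10176 := ded_20_2 L123641 L121828 L127985
theorem L127990 : sm gg N10689 = N10689 := ded_21_2 (flp_b L127985) L74508 L127985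
theorem L127991 : sm gh N10689 = N9493 := ded_22_2 (flp_b L74699) (flp_h L74509) L127985
theorem L127993 : sm ga N10689 = N10182 := ded_9_1 L123707 L66346 L121006 (flp_a L74505) L127985
theorem L127995 : sm gc N10689 = N10641 := ded_17_2 (flp_b L127937) (flp_c L127926) L74435 L74503 L127985
theorem L127997 : sm gh N9467 = N10690 := rfl
theorem L127999 : sm gb N10690 = N10690 := ded_22_1 (flp_h L127997) L74513 L127997
theorem L128000 : sm ge N10690 = N10690 := ded_37_1 (flp_h L127997) L74515 L127997
theorem L128001 : sm gf N10690 = N9470 := ded_40_1 (flp_h L74533) (flp_f L74516) L127997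
theorem L128003 : sm gg N10690 = N9468 := ded_42_1 (flp_h L74520) (flp_g L74518) L127997
theorem L128005 : sm gd N9468 = N10691 := rfl
theorem L128007 : sm gb N10691 = N10691 := ded_18_1 (flp_d L128005) L74522 L128005
theorem L128008 : sm gf N10691 = N9469 := ded_31_2 (flp_d L74526) (flp_f L74524) L128005
theorem L128010 : sm gh N10691 = N10691 := ded_33_2 (flp_d L128005) (flp_h L74520) L54491 L74520 L128005
theorem L128011 : sm gc N9469 = N10692 := rfl
theorem L128013 : sm ge N10692 = N10692 := ded_25_2 (flp_c L128011) L74531 L128011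
theorem L128014 : sm gg N10692 = N9472 := ded_27_2 (flp_c L74546) (flp_g L74529) L128011
theorem L128016 : sm gh N10692 = N10692 := ded_28_2 (flp_c L128011) L74532 L128011
theorem L128017 : sm gi N9477 = N10693 := rfl
theorem L128019 : sm ga N10693 = N10693 := ded_16_1 (flp_i L128017) L74579 L128017
theorem L128020 : sm gb N10693 = N10693 := ded_23_1 (flp_i L128017) L74580 L128017
theorem L128021 : sm gd N10693 = N10693 := ded_34_1 (flp_i L128017) L74581 L128017
theorem L128022 : sm ge N10693 = N9480 := ded_38_1 (flp_i L74597) L74577 L128017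
theorem L128024 : sm gf N10693 = N10693 := ded_41_1 (flp_i L128017) L74582 L128017
theorem L128025 : sm gi N9478 = N10694 := rfl
theorem L128027 : sm ga N10694 = N10694 := ded_16_1 (flp_i L128025) L74585 L128025
theorem L128028 : sm gb N10694 = N10694 := ded_23_1 (flp_i L128025) L74586 L128025
theorem L128029 : sm gd N10694 = N9483 := ded_34_1 (flp_i L74618) (flp_d L74587) L128025
theorem L128031 : sm gf N10694 = N10694 := ded_41_1 (flp_i L128025) L74589 L128025
theorem L128032 : sm gg N10694 = N9480 := ded_43_1 (flp_i L74597) L74583 L128025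
theorem L128034 : sm gi N9479 = N10695 := rfl
theorem L128036 : sm ga N10695 = N10695 := ded_16_1 (flp_i L128034) L74592 L128034
theorem L128037 : sm gb N10695 = N10695 := ded_23_1 (flp_i L128034) L74593 L128034
theorem L128038 : sm gd N10695 = N10695 := ded_34_1 (flp_i L128034) L74596 L128034
theorem L128039 : sm ge N10695 = N10694 := ded_38_1 (flp_i L128025) L127835 L128034
theorem L128041 : sm gf N10695 = N9481 := ded_41_1 (flp_i L74605) (flp_f L74594) L128034
theorem L128043 : sm gg N10695 = N10693 := ded_43_1 (flp_i L128017) (flp_g L127841) L128034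
theorem L128045 : sm gh N9480 = N10696 := rfl
theorem L128047 : sm ga N10696 = N10696 := ded_15_1 (flp_h L128045) L74599 L128045
theorem L128048 : sm gb N10696 = N10696 := ded_22_1 (flp_h L128045) L74600 L128045
theorem L128049 : sm gf N10696 = N9482 := ded_40_1 (flp_h L74612) (flp_f L74603) L128045
theorem L128051 : sm gd N10696 = N10443 := ded_33_1 L125942 L120878 (flp_h L74628) (flp_d L74601) L128045
theorem L128053 : sm gh N9481 = N10697 := rfl
theorem L128055 : sm ga N10697 = N10697 := ded_15_1 (flp_h L128053) L74607 L128053
theorem L128056 : sm gb N10697 = N10697 := ded_22_1 (flp_h L128053) L74608 L128053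
theorem L128057 : sm ge N10697 = N10697 := ded_37_1 (flp_h L128053) L74610 L128053
theorem L128058 : sm gg N10697 = N10697 := ded_42_1 (flp_h L128053) L74611 L128053
theorem L128059 : sm gi N10697 = N9482 := ded_44_2 (flp_h L74612) (flp_i L54554) L54547 L74605 L128053
theorem L128061 : sm gh N9483 = N10698 := rfl
theorem L128063 : sm ga N10698 = N10698 := ded_15_1 (flp_h L128061) L74620 L128061
theorem L128064 : sm gb N10698 = N10698 := ded_22_1 (flp_h L128061) L74621 L128061
theorem L128065 : sm gc N10698 = N9487 := ded_28_1 (flp_h L74652) (flp_c L74622) L128061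
theorem L128067 : sm ge N10698 = N10698 := ded_37_1 (flp_h L128061) L74624 L128061
theorem L128068 : sm gf N10698 = N10698 := ded_40_1 (flp_h L128061) L74625 L128061
theorem L128069 : sm gg N10698 = N9484 := ded_42_1 (flp_h L74628) (flp_g L74626) L128061
theorem L128071 : sm gi N10698 = N10698 := ded_44_2 (flp_h L128061) (flp_i L74618) L54569 L74618 L128061
theorem L128072 : sm gd N10640 = N10698 := ded_24_0 L128065 L121736 (flp_c L123549) L123554 (flp_c L127584)
theorem L128074 : sm ge N9871 = N10699 := rfl
theorem L128076 : sm ga N10699 = N10699 := ded_12_1 (flp_e L128074) L121074 L128074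
theorem L128077 : sm gb N10699 = N10699 := ded_19_1 (flp_e L128074) L121075 L128074
theorem L128078 : sm gc N10699 = N9872 := ded_25_1 (flp_e L121083) (flp_c L121076) L128074
theorem L128080 : sm gg N10699 = N10699 := ded_36_2 (flp_e L128074) L121082 L128074
theorem L128081 : sm gh N10699 = N10699 := ded_37_2 (flp_e L128074) L121079 L128074
theorem L128082 : sm gi N10699 = N9873 := ded_38_2 (flp_e L121092) (flp_i L121080) L128074
theorem L128084 : sm gd N10697 = N10699 := ded_34_3 L128082 (flp_d L121101) (flp_i L128059)
theorem L128086 : sm gc N9874 = N10700 := rfl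
theorem L128088 : sm ga N10700 = N9904 := ded_10_1 (flp_c L121319) (flp_a L121105) L128086
theorem L128090 : sm ge N10700 = N10700 := ded_25_2 (flp_c L128086) L121109 L128086
theorem L128091 : sm gb N10700 = N10700 := ded_17_1 (flp_c L128086) L121107 L60892 (flp_b L121107) L128086
theorem L128092 : sm gd N10700 = N10235 := ded_24_2 (flp_c L124226) (flp_d L66798) (flp_c L60849) L121103 L128086
theorem L128094 : sm gh N9874 = N10701 := rfl
theorem L128096 : sm ga N10701 = N9905 := ded_15_1 (flp_h L121326) (flp_a L121105) L128094
theorem L128098 : sm gb N10701 = N9881 := ded_22_1 (flp_h L121165) (flp_b L121107) L128094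
theorem L128100 : sm ge N10701 = N10701 := ded_37_1 (flp_h L128094) L121109 L128094
theorem L128101 : sm gd N9875 = N10702 := rfl
theorem L128103 : sm ga N10702 = N9906 := ded_11_1 (flp_d L121331) (flp_a L121112) L128101
theorem L128105 : sm gb N10702 = N9882 := ded_18_1 (flp_d L121171) (flp_b L121114) L128101
theorem L128107 : sm gi N9875 = N10703 := rfl
theorem L128109 : sm ga N10703 = N9907 := ded_16_1 (flp_i L121335) (flp_a L121112) L128107
theorem L128111 : sm gb N10703 = N9883 := ded_23_1 (flp_i L121175) (flp_b L121114) L128107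
theorem L128113 : sm gc N10703 = N10241 := ded_29_1 (flp_i L124278) (flp_c L121116) L128107
theorem L128115 : sm ge N10703 = N9877 := ded_38_1 (flp_i L121129) (flp_e L121118) L128107
theorem L128117 : sm gc N9876 = N10704 := rfl
theorem L128119 : sm ga N10704 = N9908 := ded_10_1 (flp_c L121343) (flp_a L121122) L128117
theorem L128121 : sm gf N10704 = N9878 := ded_26_2 (flp_c L121139) (flp_f L121126) L128117
theorem L128123 : sm gh N10704 = N10704 := ded_28_2 (flp_c L128117) L121128 L128117
theorem L128124 : sm gb N10704 = N10704 := ded_17_1 (flp_c L128117) L121124 L60925 (flp_b L121124) L128117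
theorem L128125 : sm gd N10704 = N10244 := ded_24_2 (flp_c L124306) (flp_d L66831) (flp_c L60867) L121120 L128117
theorem L128127 : sm ge N9876 = N10705 := rfl
theorem L128129 : sm ga N10705 = N9909 := ded_12_1 (flp_e L121352) (flp_a L121122) L128127
theorem L128131 : sm gb N10705 = N9884 := ded_19_1 (flp_e L121183) (flp_b L121124) L128127
theorem L128133 : sm gh N10705 = N10705 := ded_37_2 (flp_e L128127) L121128 L128127
theorem L128134 : sm gi N9876 = N10706 := rfl
theorem L128136 : sm ga N10706 = N9910 := ded_16_1 (flp_i L121357) (flp_a L121122) L128134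
theorem L128138 : sm gb N10706 = N9885 := ded_23_1 (flp_i L121189) (flp_b L121124) L128134
theorem L128140 : sm gd N10706 = N9877 := ded_34_1 (flp_i L121129) L121120 L128134
theorem L128142 : sm gf N10706 = N9880 := ded_41_1 (flp_i L121156) (flp_f L121126) L128134
theorem L128144 : sm ge N9878 = N10707 := rfl
theorem L128146 : sm ga N10707 = N9911 := ded_12_1 (flp_e L121365) (flp_a L121141) L128144
theorem L128148 : sm gb N10707 = N10707 := ded_19_1 (flp_e L128144) L121145 L128144
theorem L128149 : sm gc N10707 = N9879 := ded_25_1 (flp_e L121148) L121139 L128144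
theorem L128151 : sm gg N10707 = N10707 := ded_36_2 (flp_e L128144) L121143 L128144
theorem L128152 : sm gh N10707 = N10707 := ded_37_2 (flp_e L128144) L121144 L128144
theorem L128153 : sm gi N9878 = N10708 := rfl
theorem L128155 : sm ga N10708 = N9912 := ded_16_1 (flp_i L121373) (flp_a L121141) L128153
theorem L128157 : sm gb N10708 = N10708 := ded_23_1 (flp_i L128153) L121145 L128153
theorem L128158 : sm gc N10708 = N9880 := ded_29_1 (flp_i L121156) L121139 L128153
theorem L128160 : sm gd N10708 = N10248 := ded_34_1 (flp_i L124343) (flp_d L121146) L128153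
theorem L128162 : sm gg N10708 = N10708 := ded_43_1 (flp_i L128153) L121143 L128153
theorem L128163 : sm gf N9879 = N10709 := rfl
theorem L128165 : sm ga N10709 = N9913 := ded_13_1 (flp_f L121382) (flp_a L121150) L128163
theorem L128167 : sm gb N10709 = N9886 := ded_20_1 (flp_f L121198) (flp_b L121152) L128163
theorem L128169 : sm gh N10709 = N10709 := ded_40_2 (flp_f L128163) L121155 L128163
theorem L128170 : sm gi N9879 = N10710 := rfl
theorem L128172 : sm ga N10710 = N9914 := ded_16_1 (flp_i L121387) (flp_a L121150) L128170
theorem L128174 : sm gb N10710 = N9887 := ded_23_1 (flp_i L121204) (flp_b L121152) L128170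
theorem L128176 : sm ge N10710 = N9880 := ded_38_1 (flp_i L121156) L121148 L128170
theorem L128178 : sm gg N10710 = N10710 := ded_43_1 (flp_i L128170) L121154 L128170
theorem L128179 : sm gh N9880 = N10711 := rfl
theorem L128181 : sm ga N10711 = N9915 := ded_15_1 (flp_h L121394) (flp_a L121158) L128179
theorem L128183 : sm gb N10711 = N9888 := ded_22_1 (flp_h L121212) (flp_b L121160) L128179
theorem L128185 : sm gg N10711 = N10711 := ded_42_1 (flp_h L128179) L121164 L128179
theorem L128186 : sm gi N10711 = N10711 := ded_44_2 (flp_h L128179) (flp_i L121156) L60878 L121156 L128179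
theorem L128187 : sm gd N9881 = N10712 := rfl
theorem L128189 : sm ga N10712 = N9891 := ded_11_1 (flp_d L121234) (flp_a L121167) L128187
theorem L128191 : sm gh N10712 = N9882 := ded_33_2 (flp_d L121171) (flp_h L60902) L60888 L121165 L128187
theorem L128193 : sm gi N9881 = N10713 := rfl
theorem L128195 : sm ga N10713 = N9892 := ded_16_1 (flp_i L121240) (flp_a L121167) L128193
theorem L128197 : sm gc N10713 = N10713 := ded_29_1 (flp_i L128193) L121169 L128193
theorem L128198 : sm ge N10713 = N10713 := ded_38_1 (flp_i L128193) L121170 L128193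
theorem L128199 : sm gc N9882 = N10714 := rfl
theorem L128201 : sm ga N10714 = N9893 := ded_10_1 (flp_c L121246) (flp_a L121173) L128199
theorem L128203 : sm gd N10714 = N9889 := ded_24_2 (flp_c L121219) (flp_d L60968) (flp_c L60906) L121171 L128199
theorem L128205 : sm ge N9882 = N10715 := rfl
theorem L128207 : sm ga N10715 = N9894 := ded_12_1 (flp_e L121250) (flp_a L121173) L128205
theorem L128209 : sm gd N10715 = N9884 := ded_30_1 (flp_e L121183) (flp_d L60919) (flp_e L60908) L121171 L128205
theorem L128211 : sm gi N9882 = N10716 := rfl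
theorem L128213 : sm ga N10716 = N9895 := ded_16_1 (flp_i L121256) (flp_a L121173) L128211
theorem L128215 : sm gd N10716 = N9883 := ded_34_1 (flp_i L121175) L121171 L128211
theorem L128217 : sm gf N9884 = N10717 := rfl
theorem L128219 : sm ga N10717 = N9896 := ded_13_1 (flp_f L121262) (flp_a L121185) L128217
theorem L128221 : sm gc N10717 = N10717 := ded_26_1 (flp_f L128217) L121187 L128217
theorem L128222 : sm gh N10717 = N10717 := ded_40_2 (flp_f L128217) L121188 L128217
theorem L128223 : sm ge N10717 = N9886 := ded_35_1 (flp_f L121198) (flp_e L60935) (flp_f L60923) L121183 L128217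
theorem L128225 : sm gi N9884 = N10718 := rfl
theorem L128227 : sm ga N10718 = N9897 := ded_16_1 (flp_i L121270) (flp_a L121185) L128225
theorem L128229 : sm gc N10718 = N10718 := ded_29_1 (flp_i L128225) L121187 L128225
theorem L128230 : sm ge N10718 = N9885 := ded_38_1 (flp_i L121189) L121183 L128225
theorem L128232 : sm gh N9885 = N10719 := rfl
theorem L128234 : sm ga N10719 = N9898 := ded_15_1 (flp_h L121277) (flp_a L121191) L128232
theorem L128236 : sm gc N10719 = N10719 := ded_28_1 (flp_h L128232) L121193 L128232
theorem L128237 : sm gf N10719 = N9888 := ded_40_1 (flp_h L121212) (flp_f L121196) L128232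
theorem L128239 : sm gi N10719 = N10719 := ded_44_2 (flp_h L128232) (flp_i L121189) L60926 L121189 L128232
theorem L128240 : sm gg N9886 = N10720 := rfl
theorem L128242 : sm ga N10720 = N9899 := ded_14_1 (flp_g L121285) (flp_a L121200) L128240
theorem L128244 : sm gc N10720 = N10720 := ded_27_1 (flp_g L128240) L121202 L128240
theorem L128245 : sm gh N10720 = N10720 := ded_42_2 (flp_g L128240) L121203 L128240
theorem L128246 : sm gf N10720 = N10720 := ded_39_1 (flp_g L128240) (flp_f L121198) L60940 L121198 L128240
theorem L128247 : sm gi N9886 = N10721 := rfl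
theorem L128249 : sm ga N10721 = N9900 := ded_16_1 (flp_i L121292) (flp_a L121200) L128247
theorem L128251 : sm gc N10721 = N10721 := ded_29_1 (flp_i L128247) L121202 L128247
theorem L128252 : sm gf N10721 = N9887 := ded_41_1 (flp_i L121204) L121198 L128247
theorem L128254 : sm gh N9887 = N10722 := rfl
theorem L128256 : sm ga N10722 = N9901 := ded_15_1 (flp_h L121299) (flp_a L121206) L128254
theorem L128258 : sm gc N10722 = N10722 := ded_28_1 (flp_h L128254) L121208 L128254
theorem L128259 : sm ge N10722 = N9888 := ded_37_1 (flp_h L121212) (flp_e L121209) L128254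
theorem L128261 : sm gg N10722 = N10722 := ded_42_1 (flp_h L128254) L121211 L128254
theorem L128262 : sm gi N10722 = N10722 := ded_44_2 (flp_h L128254) (flp_i L121204) L60941 L121204 L128254
theorem L128263 : sm gb N9889 = N10723 := rfl
theorem L128265 : sm ge N10723 = N10723 := ded_19_2 (flp_b L128263) L121223 L128263
theorem L128266 : sm gh N10723 = N10723 := ded_22_2 (flp_b L128263) L121224 L128263
theorem L128267 : sm gc N10723 = N10273 := ded_17_2 (flp_b L124554) (flp_c L67001) (flp_b L60972) L121219 L128263
theorem L128269 : sm gi N9889 = N10724 := rfl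
theorem L128271 : sm ga N10724 = N9902 := ded_16_1 (flp_i L121308) (flp_a L121221) L128269
theorem L128273 : sm gc N10724 = N9890 := ded_29_1 (flp_i L121225) L121219 L128269
theorem L128275 : sm ge N10724 = N10724 := ded_38_1 (flp_i L128269) L121223 L128269
theorem L128276 : sm gh N9890 = N10725 := rfl
theorem L128278 : sm ga N10725 = N9903 := ded_15_1 (flp_h L121313) (flp_a L121227) L128276
theorem L128280 : sm gb N10725 = N10275 := ded_22_1 (flp_h L124565) (flp_b L121229) L128276
theorem L128282 : sm ge N10725 = N10725 := ded_37_1 (flp_h L128276) L121233 L128276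
theorem L128283 : sm gi N10725 = N10725 := ded_44_2 (flp_h L128276) (flp_i L121225) L60975 L121225 L128276
theorem L128284 : sm gc N9891 = N10726 := rfl
theorem L128286 : sm gh N10726 = N9893 := ded_28_2 (flp_c L121246) (flp_h L121238) L128284
theorem L128288 : sm gd N10726 = N10726 := ded_24_2 (flp_c L128284) (flp_d L121234) L61006 L121234 L128284
theorem L128289 : sm ge N9891 = N10727 := rfl
theorem L128291 : sm gb N10727 = N9926 := ded_19_1 (flp_e L121477) (flp_b L121236) L128289
theorem L128293 : sm gh N10727 = N9894 := ded_37_2 (flp_e L121250) (flp_h L121238) L128289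
theorem L128295 : sm gd N10727 = N10727 := ded_30_1 (flp_e L128289) (flp_d L121234) L61007 L121234 L128289
theorem L128296 : sm gi N9891 = N10728 := rfl
theorem L128298 : sm gb N10728 = N9927 := ded_23_1 (flp_i L121482) (flp_b L121236) L128296
theorem L128300 : sm gd N10728 = N9892 := ded_34_1 (flp_i L121240) L121234 L128296
theorem L128302 : sm ge N9893 = N10729 := rfl
theorem L128304 : sm gc N10729 = N9894 := ded_25_1 (flp_e L121250) L121246 L128302
theorem L128306 : sm gd N10729 = N10729 := ded_30_1 (flp_e L128302) L121248 L61116 (flp_d L121248) L128302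
theorem L128307 : sm gi N9893 = N10730 := rfl
theorem L128309 : sm gc N10730 = N9895 := ded_29_1 (flp_i L121256) L121246 L128307
theorem L128311 : sm gd N10730 = N9902 := ded_34_1 (flp_i L121308) (flp_d L121248) L128307
theorem L128313 : sm gf N9894 = N10731 := rfl
theorem L128315 : sm gb N10731 = N9928 := ded_20_1 (flp_f L121486) (flp_b L121252) L128313
theorem L128317 : sm gd N10731 = N9896 := ded_31_1 (flp_f L121262) (flp_d L121254) L128313
theorem L128319 : sm gi N9894 = N10732 := rfl
theorem L128321 : sm gb N10732 = N9929 := ded_23_1 (flp_i L121490) (flp_b L121252) L128319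
theorem L128323 : sm gd N10732 = N9897 := ded_34_1 (flp_i L121270) (flp_d L121254) L128319
theorem L128325 : sm ge N10732 = N9895 := ded_38_1 (flp_i L121256) L121250 L128319
theorem L128327 : sm gh N9895 = N10733 := rfl
theorem L128329 : sm gb N10733 = N9930 := ded_22_1 (flp_h L121496) (flp_b L121258) L128327
theorem L128331 : sm gg N9896 = N10734 := rfl
theorem L128333 : sm gb N10734 = N9931 := ded_21_1 (flp_g L121498) (flp_b L121264) L128331
theorem L128335 : sm gc N10734 = N10734 := ded_27_1 (flp_g L128331) L121266 L128331
theorem L128336 : sm ge N10734 = N9899 := ded_36_1 (flp_g L121285) (flp_e L121268) L128331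
theorem L128338 : sm gh N10734 = N10734 := ded_42_2 (flp_g L128331) L121267 L128331
theorem L128339 : sm gi N9896 = N10735 := rfl
theorem L128341 : sm gb N10735 = N9932 := ded_23_1 (flp_i L121505) (flp_b L121264) L128339
theorem L128343 : sm gc N10735 = N10735 := ded_29_1 (flp_i L128339) L121266 L128339
theorem L128344 : sm ge N10735 = N9900 := ded_38_1 (flp_i L121292) (flp_e L121268) L128339
theorem L128346 : sm gf N10735 = N9897 := ded_41_1 (flp_i L121270) L121262 L128339
theorem L128348 : sm gh N9897 = N10736 := rfl
theorem L128350 : sm gb N10736 = N9933 := ded_22_1 (flp_h L121513) (flp_b L121272) L128348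
theorem L128352 : sm gc N10736 = N10736 := ded_28_1 (flp_h L128348) L121274 L128348
theorem L128353 : sm ge N10736 = N9898 := ded_37_1 (flp_h L121277) (flp_e L121275) L128348
theorem L128355 : sm gi N10736 = N10736 := ded_44_2 (flp_h L128348) (flp_i L121270) L61060 L121270 L128348
theorem L128356 : sm gi N9899 = N10737 := rfl
theorem L128358 : sm gb N10737 = N9934 := ded_23_1 (flp_i L121520) (flp_b L121287) L128356
theorem L128360 : sm gc N10737 = N10737 := ded_29_1 (flp_i L128356) L121289 L128356
theorem L128361 : sm gf N10737 = N10737 := ded_41_1 (flp_i L128356) L121291 L128356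
theorem L128362 : sm gg N10737 = N9900 := ded_43_1 (flp_i L121292) L121285 L128356
theorem L128364 : sm gh N9900 = N10738 := rfl
theorem L128366 : sm gb N10738 = N9935 := ded_22_1 (flp_h L121527) (flp_b L121294) L128364
theorem L128368 : sm gc N10738 = N10738 := ded_28_1 (flp_h L128364) L121296 L128364
theorem L128369 : sm gf N10738 = N9901 := ded_40_1 (flp_h L121299) (flp_f L121297) L128364
theorem L128371 : sm gi N10738 = N10738 := ded_44_2 (flp_h L128364) (flp_i L121292) L61075 L121292 L128364
theorem L128372 : sm gd N9901 = N10739 := rfl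
theorem L128374 : sm gb N10739 = N9936 := ded_18_1 (flp_d L121534) (flp_b L121301) L128372
theorem L128376 : sm gg N10739 = N10739 := ded_32_2 (flp_d L128372) L121306 L128372
theorem L128377 : sm gi N10739 = N10739 := ded_34_2 (flp_d L128372) L121307 L128372
theorem L128378 : sm gh N9902 = N10740 := rfl
theorem L128380 : sm gc N10740 = N9903 := ded_28_1 (flp_h L121313) (flp_c L121310) L128378
theorem L128382 : sm ge N10740 = N10740 := ded_37_1 (flp_h L128378) L121312 L128378
theorem L128383 : sm gi N10740 = N10740 := ded_44_2 (flp_h L128378) (flp_i L121308) L61117 L121308 L128378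
theorem L128384 : sm gh N9904 = N10741 := rfl
theorem L128386 : sm gb N10741 = N9937 := ded_22_1 (flp_h L121538) (flp_b L121322) L128384
theorem L128388 : sm gc N10741 = N9905 := ded_28_1 (flp_h L121326) L121319 L128384
theorem L128390 : sm ge N10741 = N10741 := ded_37_1 (flp_h L128384) L121321 L128384
theorem L128391 : sm gd N9905 = N10742 := rfl
theorem L128393 : sm gb N10742 = N9916 := ded_18_1 (flp_d L121400) (flp_b L121328) L128391
theorem L128395 : sm gh N10742 = N9906 := ded_33_2 (flp_d L121331) (flp_h L61194) L61181 L121326 L128391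
theorem L128397 : sm gi N9905 = N10743 := rfl
theorem L128399 : sm gb N10743 = N9917 := ded_23_1 (flp_i L121406) (flp_b L121328) L128397
theorem L128401 : sm ge N10743 = N10743 := ded_38_1 (flp_i L128397) L121330 L128397
theorem L128402 : sm gc N9906 = N10744 := rfl
theorem L128404 : sm gd N10744 = N10360 := ded_24_2 (flp_c L125264) (flp_d L67834) (flp_c L61198) L121331 L128402
theorem L128406 : sm ge N9906 = N10745 := rfl
theorem L128408 : sm gb N10745 = N9918 := ded_19_1 (flp_e L121413) (flp_b L121333) L128406
theorem L128410 : sm gd N10745 = N9909 := ded_30_1 (flp_e L121352) (flp_d L61211) (flp_e L61200) L121331 L128406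
theorem L128412 : sm gi N9906 = N10746 := rfl
theorem L128414 : sm gb N10746 = N9919 := ded_23_1 (flp_i L121419) (flp_b L121333) L128412
theorem L128416 : sm gd N10746 = N9907 := ded_34_1 (flp_i L121335) L121331 L128412
theorem L128418 : sm ge N9908 = N10747 := rfl
theorem L128420 : sm gb N10747 = N9939 := ded_19_1 (flp_e L121550) (flp_b L121348) L128418
theorem L128422 : sm gc N10747 = N9909 := ded_25_1 (flp_e L121352) L121343 L128418
theorem L128424 : sm gh N10747 = N10747 := ded_37_2 (flp_e L128418) L121347 L128418
theorem L128425 : sm gi N9908 = N10748 := rfl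
theorem L128427 : sm gb N10748 = N9940 := ded_23_1 (flp_i L121556) (flp_b L121348) L128425
theorem L128429 : sm gc N10748 = N9910 := ded_29_1 (flp_i L121357) L121343 L128425
theorem L128431 : sm gd N10748 = N10367 := ded_34_1 (flp_i L125312) (flp_d L121350) L128425
theorem L128433 : sm gf N10748 = N9912 := ded_41_1 (flp_i L121373) (flp_f L121345) L128425
theorem L128435 : sm gf N9909 = N10749 := rfl
theorem L128437 : sm gb N10749 = N9920 := ded_20_1 (flp_f L121425) (flp_b L121354) L128435
theorem L128439 : sm gh N10749 = N10749 := ded_40_2 (flp_f L128435) L121356 L128435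
theorem L128440 : sm ge N10749 = N9913 := ded_35_1 (flp_f L121382) (flp_e L61234) (flp_f L61215) L121352 L128435
theorem L128442 : sm gi N9909 = N10750 := rfl
theorem L128444 : sm gb N10750 = N9921 := ded_23_1 (flp_i L121434) (flp_b L121354) L128442
theorem L128446 : sm ge N10750 = N9910 := ded_38_1 (flp_i L121357) L121352 L128442
theorem L128448 : sm gh N9910 = N10751 := rfl
theorem L128450 : sm gb N10751 = N9922 := ded_22_1 (flp_h L121442) (flp_b L121359) L128448
theorem L128452 : sm gf N10751 = N9915 := ded_40_1 (flp_h L121394) (flp_f L121363) L128448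
theorem L128454 : sm gi N10751 = N10751 := ded_44_2 (flp_h L128448) (flp_i L121357) L61217 L121357 L128448
theorem L128455 : sm gd N9911 = N10752 := rfl
theorem L128457 : sm gb N10752 = N9944 := ded_18_1 (flp_d L121589) (flp_b L121367) L128455
theorem L128459 : sm gg N10752 = N10752 := ded_32_2 (flp_d L128455) L121371 L128455
theorem L128460 : sm ge N10752 = N10371 := ded_30_2 (flp_d L125342) (flp_e L67882) (flp_d L61232) L121365 L128455
theorem L128462 : sm gf N9911 = N10753 := rfl
theorem L128464 : sm gb N10753 = N9945 := ded_20_1 (flp_f L121596) (flp_b L121367) L128462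
theorem L128466 : sm gc N10753 = N9913 := ded_26_1 (flp_f L121382) (flp_c L121369) L128462
theorem L128468 : sm gh N10753 = N10753 := ded_40_2 (flp_f L128462) L121372 L128462
theorem L128469 : sm gi N9911 = N10754 := rfl
theorem L128471 : sm gb N10754 = N9946 := ded_23_1 (flp_i L121602) (flp_b L121367) L128469
theorem L128473 : sm gc N10754 = N9914 := ded_29_1 (flp_i L121387) (flp_c L121369) L128469
theorem L128475 : sm ge N10754 = N9912 := ded_38_1 (flp_i L121373) L121365 L128469
theorem L128477 : sm gg N10754 = N10754 := ded_43_1 (flp_i L128469) L121371 L128469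
theorem L128478 : sm gh N9912 = N10755 := rfl
theorem L128480 : sm gb N10755 = N9947 := ded_22_1 (flp_h L121610) (flp_b L121375) L128478
theorem L128482 : sm gc N10755 = N9915 := ded_28_1 (flp_h L121394) (flp_c L121377) L128478
theorem L128484 : sm gg N10755 = N10755 := ded_42_1 (flp_h L128478) L121381 L128478
theorem L128485 : sm gi N10755 = N10755 := ded_44_2 (flp_h L128478) (flp_i L121373) L61229 L121373 L128478
theorem L128486 : sm gg N9913 = N10756 := rfl
theorem L128488 : sm gb N10756 = N9923 := ded_21_1 (flp_g L121451) (flp_b L121384) L128486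
theorem L128490 : sm gh N10756 = N10756 := ded_42_2 (flp_g L128486) L121386 L128486
theorem L128491 : sm gf N10756 = N10756 := ded_39_1 (flp_g L128486) (flp_f L121382) L61238 L121382 L128486
theorem L128492 : sm gi N9913 = N10757 := rfl
theorem L128494 : sm gb N10757 = N9924 := ded_23_1 (flp_i L121459) (flp_b L121384) L128492
theorem L128496 : sm gf N10757 = N9914 := ded_41_1 (flp_i L121387) L121382 L128492
theorem L128498 : sm gh N9914 = N10758 := rfl
theorem L128500 : sm gb N10758 = N9925 := ded_22_1 (flp_h L121467) (flp_b L121389) L128498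
theorem L128502 : sm ge N10758 = N9915 := ded_37_1 (flp_h L121394) (flp_e L121391) L128498
theorem L128504 : sm gg N10758 = N10758 := ded_42_1 (flp_h L128498) L121393 L128498
theorem L128505 : sm gi N10758 = N10758 := ded_44_2 (flp_h L128498) (flp_i L121387) L61239 L121387 L128498
theorem L128506 : sm ge N9916 = N10759 := rfl
theorem L128508 : sm ga N10759 = N9926 := ded_12_1 (flp_e L121477) (flp_a L121402) L128506
theorem L128510 : sm gh N10759 = N9918 := ded_37_2 (flp_e L121413) (flp_h L121404) L128506
theorem L128512 : sm gd N10759 = N10759 := ded_30_1 (flp_e L128506) (flp_d L121400) L61262 L121400 L128506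
theorem L128513 : sm gi N9916 = N10760 := rfl
theorem L128515 : sm ga N10760 = N9927 := ded_16_1 (flp_i L121482) (flp_a L121402) L128513
theorem L128517 : sm gd N10760 = N9917 := ded_34_1 (flp_i L121406) L121400 L128513
theorem L128519 : sm gf N9918 = N10761 := rfl
theorem L128521 : sm ga N10761 = N9928 := ded_13_1 (flp_f L121486) (flp_a L121415) L128519
theorem L128523 : sm gd N10761 = N9920 := ded_31_1 (flp_f L121425) (flp_d L121417) L128519
theorem L128525 : sm gi N9918 = N10762 := rfl
theorem L128527 : sm ga N10762 = N9929 := ded_16_1 (flp_i L121490) (flp_a L121415) L128525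
theorem L128529 : sm gd N10762 = N9921 := ded_34_1 (flp_i L121434) (flp_d L121417) L128525
theorem L128531 : sm ge N10762 = N9919 := ded_38_1 (flp_i L121419) L121413 L128525
theorem L128533 : sm gh N9919 = N10763 := rfl
theorem L128535 : sm ga N10763 = N9930 := ded_15_1 (flp_h L121496) (flp_a L121421) L128533
theorem L128537 : sm gg N9920 = N10764 := rfl
theorem L128539 : sm ga N10764 = N9931 := ded_14_1 (flp_g L121498) (flp_a L121427) L128537
theorem L128541 : sm gc N10764 = N9951 := ded_27_1 (flp_g L121642) (flp_c L121429) L128537
theorem L128543 : sm ge N10764 = N9923 := ded_36_1 (flp_g L121451) (flp_e L121432) L128537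
theorem L128545 : sm gh N10764 = N10764 := ded_42_2 (flp_g L128537) L121431 L128537
theorem L128546 : sm gi N9920 = N10765 := rfl
theorem L128548 : sm ga N10765 = N9932 := ded_16_1 (flp_i L121505) (flp_a L121427) L128546
theorem L128550 : sm gc N10765 = N9952 := ded_29_1 (flp_i L121649) (flp_c L121429) L128546
theorem L128552 : sm ge N10765 = N9924 := ded_38_1 (flp_i L121459) (flp_e L121432) L128546
theorem L128554 : sm gf N10765 = N9921 := ded_41_1 (flp_i L121434) L121425 L128546
theorem L128556 : sm gh N9921 = N10766 := rfl
theorem L128558 : sm ga N10766 = N9933 := ded_15_1 (flp_h L121513) (flp_a L121436) L128556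
theorem L128560 : sm gc N10766 = N9953 := ded_28_1 (flp_h L121657) (flp_c L121438) L128556
theorem L128562 : sm ge N10766 = N9922 := ded_37_1 (flp_h L121442) (flp_e L121440) L128556
theorem L128564 : sm gi N10766 = N10766 := ded_44_2 (flp_h L128556) (flp_i L121434) L61317 L121434 L128556
theorem L128565 : sm gi N9923 = N10767 := rfl
theorem L128567 : sm ga N10767 = N9934 := ded_16_1 (flp_i L121520) (flp_a L121453) L128565
theorem L128569 : sm gc N10767 = N9954 := ded_29_1 (flp_i L121664) (flp_c L121455) L128565
theorem L128571 : sm gf N10767 = N10767 := ded_41_1 (flp_i L128565) L121458 L128565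
theorem L128572 : sm gg N10767 = N9924 := ded_43_1 (flp_i L121459) L121451 L128565
theorem L128574 : sm gh N9924 = N10768 := rfl
theorem L128576 : sm ga N10768 = N9935 := ded_15_1 (flp_h L121527) (flp_a L121461) L128574
theorem L128578 : sm gc N10768 = N9955 := ded_28_1 (flp_h L121672) (flp_c L121463) L128574
theorem L128580 : sm gf N10768 = N9925 := ded_40_1 (flp_h L121467) (flp_f L121465) L128574
theorem L128582 : sm gi N10768 = N10768 := ded_44_2 (flp_h L128574) (flp_i L121459) L61334 L121459 L128574
theorem L128583 : sm gd N9925 = N10769 := rfl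
theorem L128585 : sm ga N10769 = N9936 := ded_11_1 (flp_d L121534) (flp_a L121469) L128583
theorem L128587 : sm gg N10769 = N10769 := ded_32_2 (flp_d L128583) L121475 L128583
theorem L128588 : sm gi N10769 = N10769 := ded_34_2 (flp_d L128583) L121476 L128583
theorem L128589 : sm gf N9926 = N10770 := rfl
theorem L128591 : sm gd N10770 = N10770 := ded_31_1 (flp_f L128589) L121481 L128589
theorem L128592 : sm gh N10770 = N9928 := ded_40_2 (flp_f L121486) (flp_h L121479) L128589
theorem L128594 : sm gi N9926 = N10771 := rfl
theorem L128596 : sm gd N10771 = N10771 := ded_34_1 (flp_i L128594) L121481 L128594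
theorem L128597 : sm ge N10771 = N9927 := ded_38_1 (flp_i L121482) L121477 L128594
theorem L128599 : sm gh N9927 = N10772 := rfl
theorem L128601 : sm gi N10772 = N9930 := ded_44_2 (flp_h L121496) (flp_i L61450) (flp_h L61416) L121482 L128599
theorem L128603 : sm gg N9928 = N10773 := rfl
theorem L128605 : sm gd N10773 = N9931 := ded_32_1 (flp_g L121498) (flp_d L121488) L128603
theorem L128607 : sm gi N9928 = N10774 := rfl
theorem L128609 : sm gd N10774 = N9932 := ded_34_1 (flp_i L121505) (flp_d L121488) L128607
theorem L128611 : sm gf N10774 = N9929 := ded_41_1 (flp_i L121490) L121486 L128607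
theorem L128613 : sm gh N9929 = N10775 := rfl
theorem L128615 : sm ge N10775 = N9930 := ded_37_1 (flp_h L121496) (flp_e L121494) L128613
theorem L128617 : sm gi N9931 = N10776 := rfl
theorem L128619 : sm gc N10776 = N9957 := ded_29_1 (flp_i L121687) (flp_c L121500) L128617
theorem L128621 : sm ge N10776 = N9934 := ded_38_1 (flp_i L121520) (flp_e L121502) L128617
theorem L128623 : sm gg N10776 = N9932 := ded_43_1 (flp_i L121505) L121498 L128617
theorem L128625 : sm gh N9932 = N10777 := rfl
theorem L128627 : sm gc N10777 = N9958 := ded_28_1 (flp_h L121694) (flp_c L121507) L128625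
theorem L128629 : sm ge N10777 = N9935 := ded_37_1 (flp_h L121527) (flp_e L121509) L128625
theorem L128631 : sm gf N10777 = N9933 := ded_40_1 (flp_h L121513) (flp_f L121511) L128625
theorem L128633 : sm gi N10777 = N10777 := ded_44_2 (flp_h L128625) (flp_i L121505) L61474 L121505 L128625
theorem L128634 : sm gd N9933 = N10778 := rfl
theorem L128636 : sm gi N10778 = N10778 := ded_34_2 (flp_d L128634) L121519 L128634
theorem L128637 : sm gh N9934 = N10779 := rfl
theorem L128639 : sm gc N10779 = N9960 := ded_28_1 (flp_h L121707) (flp_c L121522) L128637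
theorem L128641 : sm gf N10779 = N10779 := ded_40_1 (flp_h L128637) L121524 L128637
theorem L128642 : sm gg N10779 = N9935 := ded_42_1 (flp_h L121527) (flp_g L121525) L128637
theorem L128644 : sm gi N10779 = N10779 := ded_44_2 (flp_h L128637) (flp_i L121520) L61494 L121520 L128637
theorem L128645 : sm gd N9935 = N10780 := rfl
theorem L128647 : sm gf N10780 = N9936 := ded_31_2 (flp_d L121534) (flp_f L121531) L128645
theorem L128649 : sm gi N10780 = N10780 := ded_34_2 (flp_d L128645) L121533 L128645
theorem L128650 : sm gc N9936 = N10781 := rfl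
theorem L128652 : sm gg N10781 = N10781 := ded_27_2 (flp_c L128650) L121536 L128650
theorem L128653 : sm gi N10781 = N10781 := ded_29_2 (flp_c L128650) L121537 L128650
theorem L128654 : sm gd N10781 = N9962 := ded_24_2 (flp_c L121721) (flp_d L62808) (flp_c L61504) L121534 L128650
theorem L128656 : sm gd N9937 = N10782 := rfl
theorem L128658 : sm ga N10782 = N10782 := ded_11_1 (flp_d L128656) L121540 L128656
theorem L128659 : sm gh N10782 = N10449 := ded_33_2 (flp_d L125992) (flp_h L69189) (flp_d L61646) L121538 L128656
theorem L128661 : sm gi N9937 = N10783 := rfl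
theorem L128663 : sm ga N10783 = N10783 := ded_16_1 (flp_i L128661) L121540 L128661
theorem L128664 : sm gc N10783 = N9938 := ded_29_1 (flp_i L121544) (flp_c L121541) L128661
theorem L128666 : sm ge N10783 = N10783 := ded_38_1 (flp_i L128661) L121543 L128661
theorem L128667 : sm gd N9939 = N10784 := rfl
theorem L128669 : sm ga N10784 = N10784 := ded_11_1 (flp_d L128667) L121552 L128667
theorem L128670 : sm ge N10784 = N10471 := ded_30_2 (flp_d L126188) (flp_e L69777) (flp_d L62372) L121550 L128667
theorem L128672 : sm gf N9939 = N10785 := rfl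
theorem L128674 : sm ga N10785 = N10785 := ded_13_1 (flp_f L128672) L121552 L128672
theorem L128675 : sm gc N10785 = N9941 := ded_26_1 (flp_f L121565) (flp_c L121553) L128672
theorem L128677 : sm gh N10785 = N10785 := ded_40_2 (flp_f L128672) L121555 L128672
theorem L128678 : sm ge N10785 = N9945 := ded_35_1 (flp_f L121596) (flp_e L62389) (flp_f L62369) L121550 L128672
theorem L128680 : sm gi N9939 = N10786 := rfl
theorem L128682 : sm ga N10786 = N10786 := ded_16_1 (flp_i L128680) L121552 L128680
theorem L128683 : sm gc N10786 = N9942 := ded_29_1 (flp_i L121573) (flp_c L121553) L128680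
theorem L128685 : sm ge N10786 = N9940 := ded_38_1 (flp_i L121556) L121550 L128680
theorem L128687 : sm gh N9940 = N10787 := rfl
theorem L128689 : sm ga N10787 = N10787 := ded_15_1 (flp_h L128687) L121558 L128687
theorem L128690 : sm gc N10787 = N9943 := ded_28_1 (flp_h L121580) (flp_c L121559) L128687
theorem L128692 : sm gf N10787 = N9947 := ded_40_1 (flp_h L121610) (flp_f L121563) L128687
theorem L128694 : sm gi N10787 = N10787 := ded_44_2 (flp_h L128687) (flp_i L121556) L62371 L121556 L128687
theorem L128695 : sm gg N9941 = N10788 := rfl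
theorem L128697 : sm ga N10788 = N10788 := ded_14_1 (flp_g L128695) L121567 L128695
theorem L128698 : sm gb N10788 = N9951 := ded_21_1 (flp_g L121642) (flp_b L121568) L128695
theorem L128700 : sm ge N10788 = N9948 := ded_36_1 (flp_g L121617) (flp_e L121571) L128695
theorem L128702 : sm gh N10788 = N10788 := ded_42_2 (flp_g L128695) L121570 L128695
theorem L128703 : sm gi N9941 = N10789 := rfl
theorem L128705 : sm ga N10789 = N10789 := ded_16_1 (flp_i L128703) L121567 L128703
theorem L128706 : sm gb N10789 = N9952 := ded_23_1 (flp_i L121649) (flp_b L121568) L128703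
theorem L128708 : sm ge N10789 = N9949 := ded_38_1 (flp_i L121625) (flp_e L121571) L128703
theorem L128710 : sm gf N10789 = N9942 := ded_41_1 (flp_i L121573) L121565 L128703
theorem L128712 : sm gh N9942 = N10790 := rfl
theorem L128714 : sm ga N10790 = N10790 := ded_15_1 (flp_h L128712) L121575 L128712
theorem L128715 : sm gb N10790 = N9953 := ded_22_1 (flp_h L121657) (flp_b L121576) L128712
theorem L128717 : sm ge N10790 = N9943 := ded_37_1 (flp_h L121580) (flp_e L121578) L128712
theorem L128719 : sm gi N10790 = N10790 := ded_44_2 (flp_h L128712) (flp_i L121573) L62379 L121573 L128712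
theorem L128720 : sm gf N9944 = N10791 := rfl
theorem L128722 : sm ga N10791 = N10791 := ded_13_1 (flp_f L128720) L121591 L128720
theorem L128723 : sm gc N10791 = N10791 := ded_26_1 (flp_f L128720) L121593 L128720
theorem L128724 : sm gd N10791 = N9945 := ded_31_1 (flp_f L121596) L121589 L128720
theorem L128726 : sm gh N9944 = N10792 := rfl
theorem L128728 : sm ga N10792 = N10792 := ded_15_1 (flp_h L128726) L121591 L128726
theorem L128729 : sm gc N10792 = N10792 := ded_28_1 (flp_h L128726) L121593 L128726
theorem L128730 : sm ge N10792 = N10479 := ded_37_1 (flp_h L126249) (flp_e L121594) L128726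
theorem L128732 : sm gg N10792 = N10792 := ded_42_1 (flp_h L128726) L121592 L128726
theorem L128733 : sm gd N10792 = N10792 := ded_33_1 (flp_h L128726) (flp_d L121589) L62395 L121589 L128726
theorem L128734 : sm gi N9944 = N10793 := rfl
theorem L128736 : sm ga N10793 = N10793 := ded_16_1 (flp_i L128734) L121591 L128734
theorem L128737 : sm gc N10793 = N10793 := ded_29_1 (flp_i L128734) L121593 L128734
theorem L128738 : sm gd N10793 = N9946 := ded_34_1 (flp_i L121602) L121589 L128734
theorem L128740 : sm ge N10793 = N10480 := ded_38_1 (flp_i L126256) (flp_e L121594) L128734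
theorem L128742 : sm gg N10793 = N10793 := ded_43_1 (flp_i L128734) L121592 L128734
theorem L128743 : sm gg N9945 = N10794 := rfl
theorem L128745 : sm ga N10794 = N10794 := ded_14_1 (flp_g L128743) L121598 L128743
theorem L128746 : sm gc N10794 = N9948 := ded_27_1 (flp_g L121617) (flp_c L121599) L128743
theorem L128748 : sm gh N10794 = N10794 := ded_42_2 (flp_g L128743) L121601 L128743
theorem L128749 : sm gf N10794 = N10794 := ded_39_1 (flp_g L128743) (flp_f L121596) L62394 L121596 L128743
theorem L128750 : sm gi N9945 = N10795 := rfl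
theorem L128752 : sm ga N10795 = N10795 := ded_16_1 (flp_i L128750) L121598 L128750
theorem L128753 : sm gc N10795 = N9949 := ded_29_1 (flp_i L121625) (flp_c L121599) L128750
theorem L128755 : sm gf N10795 = N9946 := ded_41_1 (flp_i L121602) L121596 L128750
theorem L128757 : sm gh N9946 = N10796 := rfl
theorem L128759 : sm ga N10796 = N10796 := ded_15_1 (flp_h L128757) L121604 L128757
theorem L128760 : sm gc N10796 = N9950 := ded_28_1 (flp_h L121633) (flp_c L121605) L128757
theorem L128762 : sm ge N10796 = N9947 := ded_37_1 (flp_h L121610) (flp_e L121607) L128757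
theorem L128764 : sm gg N10796 = N10796 := ded_42_1 (flp_h L128757) L121609 L128757
theorem L128765 : sm gi N10796 = N10796 := ded_44_2 (flp_h L128757) (flp_i L121602) L62395 L121602 L128757
theorem L128766 : sm gd N9947 = N10797 := rfl
theorem L128768 : sm ga N10797 = N10797 := ded_11_1 (flp_d L128766) L121612 L128766
theorem L128769 : sm gg N10797 = N10797 := ded_32_2 (flp_d L128766) L121615 L128766
theorem L128770 : sm gi N10797 = N10797 := ded_34_2 (flp_d L128766) L121616 L128766
theorem L128771 : sm gc N10797 = N10797 := ded_24_1 (flp_d L128766) L121613 L62426 (flp_c L121613) L128766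
theorem L128772 : sm gh N10797 = N10484 := ded_33_2 (flp_d L126288) (flp_h L69837) (flp_d L62401) L121610 L128766
theorem L128774 : sm gi N9948 = N10798 := rfl
theorem L128776 : sm ga N10798 = N10798 := ded_16_1 (flp_i L128774) L121619 L128774
theorem L128777 : sm gb N10798 = N9954 := ded_23_1 (flp_i L121664) (flp_b L121620) L128774
theorem L128779 : sm gd N10798 = N10798 := ded_34_1 (flp_i L128774) L121622 L128774
theorem L128780 : sm gf N10798 = N10798 := ded_41_1 (flp_i L128774) L121624 L128774
theorem L128781 : sm gg N10798 = N9949 := ded_43_1 (flp_i L121625) L121617 L128774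
theorem L128783 : sm gh N9949 = N10799 := rfl
theorem L128785 : sm ga N10799 = N10799 := ded_15_1 (flp_h L128783) L121627 L128783
theorem L128786 : sm gb N10799 = N9955 := ded_22_1 (flp_h L121672) (flp_b L121628) L128783
theorem L128788 : sm gf N10799 = N9950 := ded_40_1 (flp_h L121633) (flp_f L121631) L128783
theorem L128790 : sm gi N10799 = N10799 := ded_44_2 (flp_h L128783) (flp_i L121625) L62410 L121625 L128783
theorem L128791 : sm gd N9950 = N10800 := rfl
theorem L128793 : sm ga N10800 = N10800 := ded_11_1 (flp_d L128791) L121635 L128791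
theorem L128794 : sm gb N10800 = N9956 := ded_18_1 (flp_d L121679) (flp_b L121636) L128791
theorem L128796 : sm gg N10800 = N10800 := ded_32_2 (flp_d L128791) L121640 L128791
theorem L128797 : sm gi N10800 = N10800 := ded_34_2 (flp_d L128791) L121641 L128791
theorem L128798 : sm ge N10800 = N10800 := ded_30_2 (flp_d L128791) L121638 L62426 (flp_e L121638) L128791
theorem L128799 : sm gh N10800 = N10800 := ded_33_2 (flp_d L128791) (flp_h L121633) L62416 L121633 L128791
theorem L128800 : sm gi N9951 = N10801 := rfl
theorem L128802 : sm ga N10801 = N9957 := ded_16_1 (flp_i L121687) (flp_a L121644) L128800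
theorem L128804 : sm ge N10801 = N9954 := ded_38_1 (flp_i L121664) (flp_e L121646) L128800
theorem L128806 : sm gg N10801 = N9952 := ded_43_1 (flp_i L121649) L121642 L128800
theorem L128808 : sm gh N9952 = N10802 := rfl
theorem L128810 : sm ga N10802 = N9958 := ded_15_1 (flp_h L121694) (flp_a L121651) L128808
theorem L128812 : sm ge N10802 = N9955 := ded_37_1 (flp_h L121672) (flp_e L121653) L128808
theorem L128814 : sm gf N10802 = N9953 := ded_40_1 (flp_h L121657) (flp_f L121655) L128808
theorem L128816 : sm gi N10802 = N10802 := ded_44_2 (flp_h L128808) (flp_i L121649) L62530 L121649 L128808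
theorem L128817 : sm gd N9953 = N10803 := rfl
theorem L128819 : sm ga N10803 = N9959 := ded_11_1 (flp_d L121702) (flp_a L121659) L128817
theorem L128821 : sm gi N10803 = N10803 := ded_34_2 (flp_d L128817) L121663 L128817
theorem L128822 : sm ge N10803 = N10803 := ded_30_2 (flp_d L128817) L121661 L62545 (flp_e L121661) L128817
theorem L128823 : sm gh N9954 = N10804 := rfl
theorem L128825 : sm ga N10804 = N9960 := ded_15_1 (flp_h L121707) (flp_a L121666) L128823
theorem L128827 : sm gf N10804 = N10804 := ded_40_1 (flp_h L128823) L121669 L128823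
theorem L128828 : sm gg N10804 = N9955 := ded_42_1 (flp_h L121672) (flp_g L121670) L128823
theorem L128830 : sm gi N10804 = N10804 := ded_44_2 (flp_h L128823) (flp_i L121664) L62552 L121664 L128823
theorem L128831 : sm gd N9955 = N10805 := rfl
theorem L128833 : sm ga N10805 = N9961 := ded_11_1 (flp_d L121714) (flp_a L121674) L128831
theorem L128835 : sm gf N10805 = N9956 := ded_31_2 (flp_d L121679) (flp_f L121676) L128831
theorem L128837 : sm gi N10805 = N10805 := ded_34_2 (flp_d L128831) L121678 L128831
theorem L128838 : sm gh N10805 = N10805 := ded_33_2 (flp_d L128831) (flp_h L121672) L62558 L121672 L128831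
theorem L128839 : sm gc N9956 = N10806 := rfl
theorem L128841 : sm ga N10806 = N9962 := ded_10_1 (flp_c L121721) (flp_a L121681) L128839
theorem L128843 : sm ge N10806 = N10806 := ded_25_2 (flp_c L128839) L121685 L128839
theorem L128844 : sm gg N10806 = N10806 := ded_27_2 (flp_c L128839) L121683 L128839
theorem L128845 : sm gh N10806 = N10806 := ded_28_2 (flp_c L128839) L121686 L128839
theorem L128846 : sm gi N10806 = N10806 := ded_29_2 (flp_c L128839) L121684 L128839
theorem L128847 : sm gh N9957 = N10807 := rfl
theorem L128849 : sm gb N10807 = N10807 := ded_22_1 (flp_h L128847) L121689 L128847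
theorem L128850 : sm ge N10807 = N9960 := ded_37_1 (flp_h L121707) (flp_e L121690) L128847
theorem L128852 : sm gg N10807 = N9958 := ded_42_1 (flp_h L121694) (flp_g L121692) L128847
theorem L128854 : sm gi N10807 = N10807 := ded_44_2 (flp_h L128847) (flp_i L121687) L62781 L121687 L128847
theorem L128855 : sm gd N9958 = N10808 := rfl
theorem L128857 : sm gb N10808 = N10808 := ded_18_1 (flp_d L128855) L121696 L128855
theorem L128858 : sm gf N10808 = N9959 := ded_31_2 (flp_d L121702) (flp_f L121699) L128855
theorem L128860 : sm gi N10808 = N10808 := ded_34_2 (flp_d L128855) L121701 L128855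
theorem L128861 : sm gc N9959 = N10809 := rfl
theorem L128863 : sm ge N10809 = N10809 := ded_25_2 (flp_c L128861) L121706 L128861
theorem L128864 : sm gi N10809 = N10809 := ded_29_2 (flp_c L128861) L121705 L128861
theorem L128865 : sm gd N9960 = N10810 := rfl
theorem L128867 : sm gb N10810 = N10810 := ded_18_1 (flp_d L128865) L121709 L128865
theorem L128868 : sm gf N10810 = N10810 := ded_31_2 (flp_d L128865) L121710 L128865
theorem L128869 : sm gg N10810 = N9961 := ded_32_2 (flp_d L121714) (flp_g L121711) L128865
theorem L128871 : sm gi N10810 = N10810 := ded_34_2 (flp_d L128865) L121713 L128865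
theorem L128872 : sm gh N10810 = N10810 := ded_33_2 (flp_d L128865) (flp_h L121707) L62798 L121707 L128865
theorem L128873 : sm gc N9961 = N10811 := rfl
theorem L128875 : sm gf N10811 = N9962 := ded_26_2 (flp_c L121721) (flp_f L121717) L128873
theorem L128877 : sm gh N10811 = N10811 := ded_28_2 (flp_c L128873) L121720 L128873
theorem L128878 : sm gi N10811 = N10811 := ded_29_2 (flp_c L128873) L121719 L128873
theorem L128879 : sm ge N9961 = N10812 := rfl
theorem L128881 : sm gb N10812 = N10812 := ded_19_1 (flp_e L128879) L121716 L128879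
theorem L128882 : sm gh N10812 = N10812 := ded_37_2 (flp_e L128879) L121720 L128879
theorem L128883 : sm gi N10812 = N10812 := ded_38_2 (flp_e L128879) L121719 L128879
theorem L128884 : sm gf N10812 = N10812 := ded_35_2 (flp_e L128879) L121717 L62813 (flp_f L121717) L128879
theorem L128885 : sm gb N9962 = N10813 := rfl
theorem L128887 : sm ge N10813 = N10813 := ded_19_2 (flp_b L128885) L121723 L128885
theorem L128888 : sm gg N10813 = N10813 := ded_21_2 (flp_b L128885) L121724 L128885
theorem L128889 : sm gh N10813 = N10813 := ded_22_2 (flp_b L128885) L121725 L128885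
theorem L128890 : sm gi N10813 = N10813 := ded_23_2 (flp_b L128885) L121726 L128885
theorem L128891 : sm gc N10813 = N10813 := ded_17_2 (flp_b L128885) (flp_c L121721) L62810 L121721 L128885
theorem L128892 : sm gh N9963 = N10814 := rfl
theorem L128894 : sm ga N10814 = N10814 := ded_15_1 (flp_h L128892) L121729 L128892
theorem L128895 : sm gb N10814 = N9967 := ded_22_1 (flp_h L121760) (flp_b L121730) L128892
theorem L128897 : sm ge N10814 = N9964 := ded_37_1 (flp_h L121738) L121727 L128892
theorem L128899 : sm gf N10814 = N10814 := ded_40_1 (flp_h L128892) L121735 L128892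
theorem L128900 : sm gg N10814 = N10681 := ded_42_1 L127920 (flp_g L121732) L128892
theorem L128902 : sm gd N10814 = N10680 := ded_33_1 (flp_h L127905) L74420 L74652 L121736 L128892
theorem L128904 : sm gd N9964 = N10815 := rfl
theorem L128906 : sm ga N10815 = N10815 := ded_11_1 (flp_d L128904) L121740 L128904
theorem L128907 : sm gb N10815 = N9969 := ded_18_1 (flp_d L121784) (flp_b L121741) L128904
theorem L128909 : sm gf N10815 = N9965 := ded_31_2 (flp_d L121745) (flp_f L121743) L128904
theorem L128911 : sm gh N10815 = N10815 := ded_33_2 (flp_d L128904) (flp_h L121738) L64419 L121738 L128904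
theorem L128912 : sm gi N9964 = N10816 := rfl
theorem L128914 : sm ga N10816 = N10816 := ded_16_1 (flp_i L128912) L121740 L128912
theorem L128915 : sm gb N10816 = N9970 := ded_23_1 (flp_i L121793) (flp_b L121741) L128912
theorem L128917 : sm gf N10816 = N9966 := ded_41_1 (flp_i L121752) (flp_f L121743) L128912
theorem L128919 : sm gh N10816 = N10816 := ded_44_1 (flp_i L128912) (flp_h L121738) L64420 L121738 L128912
theorem L128920 : sm gc N9965 = N10817 := rfl
theorem L128922 : sm ga N10817 = N10817 := ded_10_1 (flp_c L128920) L121747 L128920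
theorem L128923 : sm gg N10817 = N10817 := ded_27_2 (flp_c L128920) L121750 L128920
theorem L128924 : sm gh N10817 = N10817 := ded_28_2 (flp_c L128920) L121751 L128920
theorem L128925 : sm gb N10817 = N10002 := ded_17_1 (flp_c L122096) L64676 (flp_c L64458) (flp_b L121748) L128920
theorem L128927 : sm ge N9965 = N10818 := rfl
theorem L128929 : sm ga N10818 = N10818 := ded_12_1 (flp_e L128927) L121747 L128927
theorem L128930 : sm gb N10818 = N9971 := ded_19_1 (flp_e L121802) (flp_b L121748) L128927
theorem L128932 : sm gg N10818 = N10818 := ded_36_2 (flp_e L128927) L121750 L128927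
theorem L128933 : sm gh N10818 = N10818 := ded_37_2 (flp_e L128927) L121751 L128927
theorem L128934 : sm gd N10818 = N10818 := ded_30_1 (flp_e L128927) (flp_d L121745) L64426 L121745 L128927
theorem L128935 : sm gi N9965 = N10819 := rfl
theorem L128937 : sm ga N10819 = N10819 := ded_16_1 (flp_i L128935) L121747 L128935
theorem L128938 : sm gb N10819 = N9972 := ded_23_1 (flp_i L121811) (flp_b L121748) L128935
theorem L128940 : sm gd N10819 = N9966 := ded_34_1 (flp_i L121752) L121745 L128935
theorem L128942 : sm gg N10819 = N10819 := ded_43_1 (flp_i L128935) L121750 L128935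
theorem L128943 : sm gi N9967 = N10820 := rfl
theorem L128945 : sm ga N10820 = N9977 := ded_16_1 (flp_i L121858) (flp_a L121762) L128943
theorem L128947 : sm gc N10820 = N9975 := ded_29_1 (flp_i L121840) (flp_c L121764) L128943
theorem L128949 : sm gd N10820 = N10503 := ded_34_1 L126467 (flp_d L121771) L128943
theorem L128951 : sm ge N10820 = N9970 := ded_38_1 (flp_i L121793) (flp_e L121766) L128943
theorem L128953 : sm gf N10820 = N10820 := ded_41_1 (flp_i L128943) L121768 L128943
theorem L128954 : sm gg N10820 = N10504 := ded_43_1 L126475 (flp_g L121769) L128943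
theorem L128956 : sm gh N10820 = N10820 := ded_44_1 (flp_i L128943) (flp_h L121760) L64434 L121760 L128943
theorem L128957 : sm gd N9968 = N10821 := rfl
theorem L128959 : sm ga N10821 = N9978 := ded_11_1 (flp_d L121871) (flp_a L121775) L128957
theorem L128961 : sm gf N10821 = N10821 := ded_31_2 (flp_d L128957) L121781 L128957
theorem L128962 : sm gg N10821 = N9969 := ded_32_2 (flp_d L121784) (flp_g L121782) L128957
theorem L128964 : sm gc N10821 = N10011 := ded_24_1 (flp_d L122178) L64725 (flp_d L64492) (flp_c L121777) L128957
theorem L128966 : sm ge N10821 = N10687 := ded_30_2 (flp_d L127972) L74478 L74495 (flp_e L121779) L128957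
theorem L128968 : sm gh N10821 = N10821 := ded_33_2 (flp_d L128957) (flp_h L121773) L64442 L121773 L128957
theorem L128969 : sm gi N9968 = N10822 := rfl
theorem L128971 : sm ga N10822 = N9979 := ded_16_1 (flp_i L121882) (flp_a L121775) L128969
theorem L128973 : sm gc N10822 = N9976 := ded_29_1 (flp_i L121848) (flp_c L121777) L128969
theorem L128975 : sm ge N10822 = N10504 := ded_38_1 L126475 (flp_e L121779) L128969
theorem L128977 : sm gf N10822 = N10822 := ded_41_1 (flp_i L128969) L121781 L128969
theorem L128978 : sm gg N10822 = N9970 := ded_43_1 (flp_i L121793) (flp_g L121782) L128969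
theorem L128980 : sm gh N10822 = N10822 := ded_44_1 (flp_i L128969) (flp_h L121773) L64443 L121773 L128969
theorem L128981 : sm ge N9969 = N10823 := rfl
theorem L128983 : sm ga N10823 = N9980 := ded_12_1 (flp_e L121893) (flp_a L121786) L128981
theorem L128985 : sm gc N10823 = N10013 := ded_25_1 (flp_e L122197) (flp_c L121790) L128981
theorem L128987 : sm gg N10823 = N10687 := ded_36_2 (flp_e L128966) L128962 L128981
theorem L128989 : sm gh N10823 = N10823 := ded_37_2 (flp_e L128981) L121792 L128981
theorem L128990 : sm gd N10823 = N10686 := ded_30_1 L127968 (flp_d L121771) L121766 L121784 L128981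
theorem L128992 : sm gi N9969 = N10824 := rfl
theorem L128994 : sm ga N10824 = N9981 := ded_16_1 (flp_i L121903) (flp_a L121786) L128992
theorem L128996 : sm gc N10824 = N10014 := ded_29_1 (flp_i L122202) (flp_c L121790) L128992
theorem L128998 : sm gd N10824 = N9970 := ded_34_1 (flp_i L121793) L121784 L128992
theorem L129000 : sm gf N10824 = N9972 := ded_41_1 (flp_i L121811) (flp_f L121788) L128992
theorem L129002 : sm gf N9971 = N10825 := rfl
theorem L129004 : sm ga N10825 = N9982 := ded_13_1 (flp_f L121912) (flp_a L121804) L129002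
theorem L129006 : sm gc N10825 = N10015 := ded_26_1 (flp_f L122210) (flp_c L121806) L129002
theorem L129008 : sm gd N10825 = N10825 := ded_31_1 (flp_f L129002) L121810 L129002
theorem L129009 : sm gh N10825 = N10825 := ded_40_2 (flp_f L129002) L121809 L129002
theorem L129010 : sm gi N9971 = N10826 := rfl
theorem L129012 : sm ga N10826 = N9983 := ded_16_1 (flp_i L121919) (flp_a L121804) L129010
theorem L129014 : sm gc N10826 = N10016 := ded_29_1 (flp_i L122217) (flp_c L121806) L129010
theorem L129016 : sm gd N10826 = N10826 := ded_34_1 (flp_i L129010) L121810 L129010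
theorem L129017 : sm ge N10826 = N9972 := ded_38_1 (flp_i L121811) L121802 L129010
theorem L129019 : sm gg N10826 = N10826 := ded_43_1 (flp_i L129010) L121808 L129010
theorem L129020 : sm gh N9972 = N10827 := rfl
theorem L129022 : sm ga N10827 = N9984 := ded_15_1 (flp_h L121928) (flp_a L121813) L129020
theorem L129024 : sm gc N10827 = N10017 := ded_28_1 (flp_h L122226) (flp_c L121815) L129020
theorem L129026 : sm gg N10827 = N10827 := ded_42_1 (flp_h L129020) L121819 L129020
theorem L129027 : sm gd N10827 = N10827 := ded_33_1 (flp_h L129020) L121817 L64469 (flp_d L121817) L129020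
theorem L129028 : sm gi N10827 = N10827 := ded_44_2 (flp_h L129020) (flp_i L121811) L64460 L121811 L129020
theorem L129029 : sm gd N9973 = N10828 := rfl
theorem L129031 : sm ga N10828 = N9985 := ded_11_1 (flp_d L121936) (flp_a L121822) L129029
theorem L129033 : sm gf N10828 = N10627 := ded_31_2 L127495 (flp_f L121828) L129029
theorem L129035 : sm gg N10828 = N9974 := ded_32_2 (flp_d L121832) (flp_g L121830) L129029
theorem L129037 : sm gc N10828 = N10626 := ded_24_1 (flp_d L127482) L73537 L74495 (flp_c L121824) L129029
theorem L129039 : sm ge N10828 = N10019 := ded_30_2 (flp_d L122243) L64776 (flp_d L64492) (flp_e L121826) L129029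
theorem L129041 : sm gh N10828 = N10828 := ded_33_2 (flp_d L129029) (flp_h L121820) L64474 L121820 L129029
theorem L129042 : sm gi N9973 = N10829 := rfl
theorem L129044 : sm ga N10829 = N9986 := ded_16_1 (flp_i L121949) (flp_a L121822) L129042
theorem L129046 : sm gc N10829 = N10504 := ded_29_1 L126475 (flp_c L121824) L129042
theorem L129048 : sm ge N10829 = N9976 := ded_38_1 (flp_i L121848) (flp_e L121826) L129042
theorem L129050 : sm gf N10829 = N10505 := ded_41_1 L126485 (flp_f L121828) L129042
theorem L129052 : sm gg N10829 = N9975 := ded_43_1 (flp_i L121840) (flp_g L121830) L129042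
theorem L129054 : sm gh N10829 = N10829 := ded_44_1 (flp_i L129042) (flp_h L121820) L64477 L121820 L129042
theorem L129055 : sm gc N9974 = N10830 := rfl
theorem L129057 : sm ga N10830 = N9987 := ded_10_1 (flp_c L121962) (flp_a L121834) L129055
theorem L129059 : sm ge N10830 = N10021 := ded_25_2 (flp_c L122260) (flp_e L121837) L129055
theorem L129061 : sm gf N10830 = N10830 := ded_26_2 (flp_c L129055) L121836 L129055
theorem L129062 : sm gg N10830 = N10626 := ded_27_2 (flp_c L129037) L129035 L129055
theorem L129064 : sm gh N10830 = N10830 := ded_28_2 (flp_c L129055) L121839 L129055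
theorem L129065 : sm gd N10830 = N10625 := ded_24_2 L127477 (flp_d L121771) L121764 L121832 L129055
theorem L129067 : sm gi N9974 = N10831 := rfl
theorem L129069 : sm ga N10831 = N9988 := ded_16_1 (flp_i L121972) (flp_a L121834) L129067
theorem L129071 : sm gd N10831 = N9975 := ded_34_1 (flp_i L121840) L121832 L129067
theorem L129073 : sm ge N10831 = N10022 := ded_38_1 (flp_i L122267) (flp_e L121837) L129067
theorem L129075 : sm gf N10831 = N10831 := ded_41_1 (flp_i L129067) L121836 L129067
theorem L129076 : sm gi N9978 = N10832 := rfl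
theorem L129078 : sm gb N10832 = N10832 := ded_23_1 (flp_i L129076) L121873 L129076
theorem L129079 : sm gc N10832 = N10034 := ded_29_1 (flp_i L122374) (flp_c L121877) L129076
theorem L129081 : sm gd N10832 = N9979 := ded_34_1 (flp_i L121882) L121871 L129076
theorem L129083 : sm ge N10832 = N10522 := ded_38_1 L126633 (flp_e L121879) L129076
theorem L129085 : sm gf N10832 = N10832 := ded_41_1 (flp_i L129076) L121874 L129076
theorem L129086 : sm gg N10832 = N9981 := ded_43_1 (flp_i L121903) (flp_g L121875) L129076
theorem L129088 : sm gf N9980 = N10833 := rfl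
theorem L129090 : sm gb N10833 = N10833 := ded_20_1 (flp_f L129088) L121895 L129088
theorem L129091 : sm gc N10833 = N10035 := ded_26_1 (flp_f L122383) (flp_c L121896) L129088
theorem L129093 : sm gd N10833 = N10690 := ded_31_1 L128001 (flp_d L121901) L129088
theorem L129095 : sm gh N10833 = N10833 := ded_40_2 (flp_f L129088) L121900 L129088
theorem L129096 : sm ge N10833 = N9982 := ded_35_1 (flp_f L121912) (flp_e L64550) (flp_f L64537) L121893 L129088
theorem L129098 : sm gg N10833 = N10691 := ded_39_2 L128008 L74529 (flp_f L74543) (flp_g L121898) L129088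
theorem L129100 : sm gi N9980 = N10834 := rfl
theorem L129102 : sm gb N10834 = N10834 := ded_23_1 (flp_i L129100) L121895 L129100
theorem L129103 : sm gc N10834 = N10036 := ded_29_1 (flp_i L122390) (flp_c L121896) L129100
theorem L129105 : sm gd N10834 = N10521 := ded_34_1 L126626 (flp_d L121901) L129100
theorem L129107 : sm ge N10834 = N9981 := ded_38_1 (flp_i L121903) L121893 L129100
theorem L129109 : sm gg N10834 = N10522 := ded_43_1 L126633 (flp_g L121898) L129100
theorem L129111 : sm gh N9981 = N10835 := rfl
theorem L129113 : sm gb N10835 = N10835 := ded_22_1 (flp_h L129111) L121905 L129111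
theorem L129114 : sm gc N10835 = N10037 := ded_28_1 (flp_h L122396) (flp_c L121906) L129111
theorem L129116 : sm gf N10835 = N9984 := ded_40_1 (flp_h L121928) (flp_f L121910) L129111
theorem L129118 : sm gd N10835 = N10835 := ded_33_1 (flp_h L129111) L121908 L64549 (flp_d L121908) L129111
theorem L129119 : sm gi N10835 = N10835 := ded_44_2 (flp_h L129111) (flp_i L121903) L64541 L121903 L129111
theorem L129120 : sm gg N9982 = N10836 := rfl
theorem L129122 : sm gb N10836 = N10836 := ded_21_1 (flp_g L129120) L121914 L129120
theorem L129123 : sm gc N10836 = N10038 := ded_27_1 (flp_g L122405) (flp_c L121915) L129120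
theorem L129125 : sm gd N10836 = N10836 := ded_32_1 (flp_g L129120) L121917 L129120
theorem L129126 : sm ge N10836 = N10691 := ded_36_1 (flp_g L129098) L129096 L129120
theorem L129128 : sm gh N10836 = N10836 := ded_42_2 (flp_g L129120) L121918 L129120
theorem L129129 : sm gf N10836 = N10836 := ded_39_1 (flp_g L129120) (flp_f L121912) L64555 L121912 L129120
theorem L129130 : sm gi N9982 = N10837 := rfl
theorem L129132 : sm gb N10837 = N10837 := ded_23_1 (flp_i L129130) L121914 L129130
theorem L129133 : sm gc N10837 = N10039 := ded_29_1 (flp_i L122413) (flp_c L121915) L129130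
theorem L129135 : sm gd N10837 = N10837 := ded_34_1 (flp_i L129130) L121917 L129130
theorem L129136 : sm gf N10837 = N9983 := ded_41_1 (flp_i L121919) L121912 L129130
theorem L129138 : sm gh N9983 = N10838 := rfl
theorem L129140 : sm gb N10838 = N10838 := ded_22_1 (flp_h L129138) L121921 L129138
theorem L129141 : sm gc N10838 = N10040 := ded_28_1 (flp_h L122421) (flp_c L121922) L129138
theorem L129143 : sm ge N10838 = N9984 := ded_37_1 (flp_h L121928) (flp_e L121925) L129138
theorem L129145 : sm gg N10838 = N10838 := ded_42_1 (flp_h L129138) L121927 L129138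
theorem L129146 : sm gi N10838 = N10838 := ded_44_2 (flp_h L129138) (flp_i L121919) L64556 L121919 L129138
theorem L129147 : sm gi N9985 = N10839 := rfl
theorem L129149 : sm gb N10839 = N9992 := ded_23_1 (flp_i L122007) (flp_b L121938) L129147
theorem L129151 : sm gc N10839 = N10433 := ded_29_1 L125852 (flp_c L121944) L129147
theorem L129153 : sm gd N10839 = N9986 := ded_34_1 (flp_i L121949) L121936 L129147
theorem L129155 : sm ge N10839 = N10044 := ded_38_1 (flp_i L122456) (flp_e L121946) L129147
theorem L129157 : sm gf N10839 = N10434 := ded_41_1 L125857 (flp_f L121940) L129147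
theorem L129159 : sm gg N10839 = N9988 := ded_43_1 (flp_i L121972) (flp_g L121942) L129147
theorem L129161 : sm gb N9987 = N10840 := rfl
theorem L129163 : sm gd N10840 = N10570 := ded_18_2 L127094 (flp_d L121970) L129161
theorem L129165 : sm ge N10840 = N10045 := ded_19_2 (flp_b L122464) (flp_e L121964) L129161
theorem L129167 : sm gf N10840 = N10840 := ded_20_2 (flp_b L129161) L121966 L129161
theorem L129168 : sm gg N10840 = N10571 := ded_21_2 L127102 (flp_g L121967) L129161
theorem L129170 : sm gh N10840 = N10840 := ded_22_2 (flp_b L129161) L121969 L129161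
theorem L129171 : sm gc N10840 = N9993 := ded_17_2 (flp_b L122015) (flp_c L64630) (flp_b L64584) L121962 L129161
theorem L129173 : sm gi N9987 = N10841 := rfl
theorem L129175 : sm gc N10841 = N9988 := ded_29_1 (flp_i L121972) L121962 L129173
theorem L129177 : sm gd N10841 = N10432 := ded_34_1 L125846 (flp_d L121970) L129173
theorem L129179 : sm ge N10841 = N10046 := ded_38_1 (flp_i L122471) (flp_e L121964) L129173
theorem L129181 : sm gf N10841 = N10841 := ded_41_1 (flp_i L129173) L121966 L129173
theorem L129182 : sm gg N10841 = N10433 := ded_43_1 L125852 (flp_g L121967) L129173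
theorem L129184 : sm gh N9988 = N10842 := rfl
theorem L129186 : sm gb N10842 = N9995 := ded_22_1 (flp_h L122030) (flp_b L121974) L129184
theorem L129188 : sm ge N10842 = N10047 := ded_37_1 (flp_h L122477) (flp_e L121978) L129184
theorem L129190 : sm gf N10842 = N10842 := ded_40_1 (flp_h L129184) L121980 L129184
theorem L129191 : sm gd N10842 = N10842 := ded_33_1 (flp_h L129184) L121976 L64597 (flp_d L121976) L129184
theorem L129192 : sm gi N10842 = N10842 := ded_44_2 (flp_h L129184) (flp_i L121972) L64589 L121972 L129184
theorem L129193 : sm gc N9989 = N10843 := rfl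
theorem L129195 : sm gf N10843 = N9991 := ded_26_2 (flp_c L121999) (flp_f L121985) L129193
theorem L129197 : sm gg N10843 = N10843 := ded_27_2 (flp_c L129193) L121987 L129193
theorem L129198 : sm gh N10843 = N10843 := ded_28_2 (flp_c L129193) L121988 L129193
theorem L129199 : sm gb N10843 = N10572 := ded_17_1 (flp_c L127107) L72500 L73703 (flp_b L121983) L129193
theorem L129201 : sm gd N10843 = N10843 := ded_24_2 (flp_c L129193) (flp_d L121981) L64610 L121981 L129193
theorem L129202 : sm ge N10187 = N10843 := ded_35_5 L129195 L122001 L93139 (flp_e L66359) (flp_f L123754)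
theorem L129204 : sm ge N9989 = N10844 := rfl
theorem L129206 : sm ga N10844 = N10843 := ded_12_1 (flp_e L129202) L123752 L129204
theorem L129208 : sm gb N10844 = N10589 := ded_19_1 L127219 (flp_b L121983) L129204
theorem L129210 : sm gc N10844 = N10187 := ded_25_1 L129202 (flp_c L129193) L129204
theorem L129212 : sm gg N10844 = N10844 := ded_36_2 (flp_e L129204) L121987 L129204
theorem L129213 : sm gh N10844 = N10844 := ded_37_2 (flp_e L129204) L121988 L129204
theorem L129214 : sm gd N10844 = N10844 := ded_30_1 (flp_e L129204) (flp_d L121981) L64611 L121981 L129204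
theorem L129215 : sm gf N10844 = N10048 := ded_35_2 (flp_e L122486) L64960 (flp_e L64619) (flp_f L121985) L129204
theorem L129217 : sm gi N9989 = N10845 := rfl
theorem L129219 : sm gb N10845 = N10434 := ded_23_1 L125857 (flp_b L121983) L129217
theorem L129221 : sm gd N10845 = N9990 := ded_34_1 (flp_i L121989) L121981 L129217
theorem L129223 : sm gf N10845 = N9992 := ded_41_1 (flp_i L122007) (flp_f L121985) L129217
theorem L129225 : sm gg N10845 = N10845 := ded_43_1 (flp_i L129217) L121987 L129217
theorem L129226 : sm gb N9991 = N10846 := rfl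
theorem L129228 : sm gd N10846 = N10846 := ded_18_2 (flp_b L129226) L122006 L129226
theorem L129229 : sm ge N10846 = N10050 := ded_19_2 (flp_b L122506) (flp_e L122001) L129226
theorem L129231 : sm gf N10846 = N10572 := ded_20_2 (flp_b L129199) L129195 L129226
theorem L129233 : sm gg N10846 = N9993 := ded_21_2 (flp_b L122015) (flp_g L122003) L129226
theorem L129235 : sm gh N10846 = N10846 := ded_22_2 (flp_b L129226) L122005 L129226
theorem L129236 : sm gc N10846 = N10571 := ded_17_2 L127102 (flp_c L121944) L121938 L121999 L129226
theorem L129238 : sm gi N9991 = N10847 := rfl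
theorem L129240 : sm gc N10847 = N9992 := ded_29_1 (flp_i L122007) L121999 L129238
theorem L129242 : sm gd N10847 = N10847 := ded_34_1 (flp_i L129238) L122006 L129238
theorem L129243 : sm ge N10847 = N10051 := ded_38_1 (flp_i L122515) (flp_e L122001) L129238
theorem L129245 : sm gg N10847 = N9994 := ded_43_1 (flp_i L122022) (flp_g L122003) L129238
theorem L129247 : sm gh N9992 = N10848 := rfl
theorem L129249 : sm ge N10848 = N10052 := ded_37_1 (flp_h L122527) (flp_e L122011) L129247
theorem L129251 : sm gg N10848 = N9995 := ded_42_1 (flp_h L122030) (flp_g L122013) L129247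
theorem L129253 : sm gd N10848 = N10848 := ded_33_1 (flp_h L129247) L122009 L64629 (flp_d L122009) L129247
theorem L129254 : sm gi N10848 = N10848 := ded_44_2 (flp_h L129247) (flp_i L122007) L64621 L122007 L129247
theorem L129255 : sm ga N9993 = N10849 := rfl
theorem L129257 : sm gd N10849 = N10849 := ded_11_2 (flp_a L129255) L122017 L129255
theorem L129258 : sm ge N10849 = N10053 := ded_12_2 (flp_a L122534) (flp_e L122018) L129255
theorem L129260 : sm gf N10849 = N10849 := ded_13_2 (flp_a L129255) L122020 L129255
theorem L129261 : sm gh N10849 = N10849 := ded_15_2 (flp_a L129255) L122021 L129255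
theorem L129262 : sm gi N9993 = N10850 := rfl
theorem L129264 : sm gb N10850 = N9994 := ded_23_1 (flp_i L122022) L122015 L129262
theorem L129266 : sm gd N10850 = N10850 := ded_34_1 (flp_i L129262) L122017 L129262
theorem L129267 : sm ge N10850 = N10054 := ded_38_1 (flp_i L122541) (flp_e L122018) L129262
theorem L129269 : sm gf N10850 = N10850 := ded_41_1 (flp_i L129262) L122020 L129262
theorem L129270 : sm gh N9994 = N10851 := rfl
theorem L129272 : sm gc N10851 = N9995 := ded_28_1 (flp_h L122030) (flp_c L122024) L129270
theorem L129274 : sm ge N10851 = N10055 := ded_37_1 (flp_h L122549) (flp_e L122027) L129270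
theorem L129276 : sm gf N10851 = N10851 := ded_40_1 (flp_h L129270) L122029 L129270
theorem L129277 : sm gi N10851 = N10851 := ded_44_2 (flp_h L129270) (flp_i L122022) L64635 L122022 L129270
theorem L129278 : sm gc N9996 = N10852 := rfl
theorem L129280 : sm ga N10852 = N10056 := ded_10_1 (flp_c L122556) (flp_a L122039) L129278
theorem L129282 : sm ge N10852 = N10852 := ded_25_2 (flp_c L129278) L122047 L129278
theorem L129283 : sm gf N10852 = N10235 := ded_26_2 (flp_c L124226) (flp_f L122043) L129278
theorem L129285 : sm gi N10852 = N10700 := ded_29_2 (flp_c L128086) (flp_i L122045) L129278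
theorem L129287 : sm gb N10852 = N10852 := ded_17_1 (flp_c L129278) L122041 L64699 (flp_b L122041) L129278
theorem L129288 : sm gg N9996 = N10853 := rfl
theorem L129290 : sm ga N10853 = N10057 := ded_14_1 (flp_g L122565) (flp_a L122039) L129288
theorem L129292 : sm gb N10853 = N10005 := ded_21_1 (flp_g L122121) (flp_b L122041) L129288
theorem L129294 : sm gd N10853 = N9997 := ded_32_1 (flp_g L122048) L122037 L129288
theorem L129296 : sm ge N10853 = N10853 := ded_36_1 (flp_g L129288) L122047 L129288
theorem L129297 : sm gi N10853 = N10457 := ded_43_2 L126061 (flp_i L122045) L129288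
theorem L129299 : sm gh N9996 = N10854 := rfl
theorem L129301 : sm ga N10854 = N10058 := ded_15_1 (flp_h L122574) (flp_a L122039) L129299
theorem L129303 : sm gb N10854 = N10006 := ded_22_1 (flp_h L122131) (flp_b L122041) L129299
theorem L129305 : sm ge N10854 = N10854 := ded_37_1 (flp_h L129299) L122047 L129299
theorem L129306 : sm gf N10854 = N10237 := ded_40_1 (flp_h L124245) (flp_f L122043) L129299
theorem L129308 : sm gf N9997 = N10855 := rfl
theorem L129310 : sm ga N10855 = N10059 := ded_13_1 (flp_f L122581) (flp_a L122050) L129308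
theorem L129312 : sm gb N10855 = N10007 := ded_20_1 (flp_f L122139) (flp_b L122052) L129308
theorem L129314 : sm gi N10855 = N10156 := ded_41_2 L123423 (flp_i L122056) L129308
theorem L129316 : sm ge N10855 = N10855 := ded_35_1 (flp_f L129308) L122054 L64663 (flp_e L122054) L129308
theorem L129317 : sm gg N10855 = N10238 := ded_39_2 (flp_f L124253) (flp_g L66806) (flp_f L64652) L122048 L129308
theorem L129319 : sm gh N9997 = N10856 := rfl
theorem L129321 : sm ga N10856 = N10060 := ded_15_1 (flp_h L122590) (flp_a L122050) L129319
theorem L129323 : sm gb N10856 = N10008 := ded_22_1 (flp_h L122150) (flp_b L122052) L129319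
theorem L129325 : sm ge N10856 = N9999 := ded_37_1 (flp_h L122068) (flp_e L122054) L129319
theorem L129327 : sm gg N10856 = N9998 := ded_42_1 (flp_h L122058) L122048 L129319
theorem L129329 : sm gd N9998 = N10857 := rfl
theorem L129331 : sm ga N10857 = N10061 := ded_11_1 (flp_d L122598) (flp_a L122060) L129329
theorem L129333 : sm gb N10857 = N10009 := ded_18_1 (flp_d L122160) (flp_b L122062) L129329
theorem L129335 : sm gf N10857 = N10240 := ded_31_2 (flp_d L124272) (flp_f L122066) L129329
theorem L129337 : sm gi N9998 = N10858 := rfl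
theorem L129339 : sm ga N10858 = N10062 := ded_16_1 (flp_i L122604) (flp_a L122060) L129337
theorem L129341 : sm gb N10858 = N10010 := ded_23_1 (flp_i L122166) (flp_b L122062) L129337
theorem L129343 : sm ge N10858 = N10001 := ded_38_1 (flp_i L122086) (flp_e L122064) L129337
theorem L129345 : sm gf N10858 = N10241 := ded_41_1 (flp_i L124278) (flp_f L122066) L129337
theorem L129347 : sm gh N10858 = N10703 := ded_44_1 (flp_i L128107) (flp_h L121110) (flp_i L64650) L122058 L129337
theorem L129349 : sm gd N9999 = N10859 := rfl
theorem L129351 : sm ga N10859 = N10063 := ded_11_1 (flp_d L122614) (flp_a L122070) L129349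
theorem L129353 : sm gb N10859 = N10011 := ded_18_1 (flp_d L122178) (flp_b L122072) L129349
theorem L129355 : sm gf N10859 = N10859 := ded_31_2 (flp_d L129349) L122074 L129349
theorem L129356 : sm gg N10859 = N10000 := ded_32_2 (flp_d L122077) (flp_g L122075) L129349
theorem L129358 : sm gh N10859 = N10859 := ded_33_2 (flp_d L129349) (flp_h L122068) L64660 L122068 L129349
theorem L129359 : sm gi N9999 = N10860 := rfl
theorem L129361 : sm ga N10860 = N10064 := ded_16_1 (flp_i L122622) (flp_a L122070) L129359
theorem L129363 : sm gb N10860 = N10012 := ded_23_1 (flp_i L122186) (flp_b L122072) L129359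
theorem L129365 : sm gf N10860 = N10860 := ded_41_1 (flp_i L129359) L122074 L129359
theorem L129366 : sm gg N10860 = N10001 := ded_43_1 (flp_i L122086) (flp_g L122075) L129359
theorem L129368 : sm gh N10860 = N10506 := ded_44_1 (flp_i L126487) L70088 (flp_i L102839) L122068 L129359
theorem L129370 : sm gc N10000 = N10861 := rfl
theorem L129372 : sm ga N10861 = N10065 := ded_10_1 (flp_c L122631) (flp_a L122079) L129370
theorem L129374 : sm gf N10861 = N10002 := ded_26_2 (flp_c L122096) (flp_f L122083) L129370
theorem L129376 : sm gh N10861 = N10861 := ded_28_2 (flp_c L129370) L122085 L129370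
theorem L129377 : sm ge N10000 = N10862 := rfl
theorem L129379 : sm ga N10862 = N10066 := ded_12_1 (flp_e L122637) (flp_a L122079) L129377
theorem L129381 : sm gb N10862 = N10013 := ded_19_1 (flp_e L122197) (flp_b L122081) L129377
theorem L129383 : sm gh N10862 = N10862 := ded_37_2 (flp_e L129377) L122085 L129377
theorem L129384 : sm gi N10000 = N10863 := rfl
theorem L129386 : sm ga N10863 = N10067 := ded_16_1 (flp_i L122642) (flp_a L122079) L129384
theorem L129388 : sm gb N10863 = N10014 := ded_23_1 (flp_i L122202) (flp_b L122081) L129384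
theorem L129390 : sm gd N10863 = N10001 := ded_34_1 (flp_i L122086) L122077 L129384
theorem L129392 : sm gf N10863 = N10004 := ded_41_1 (flp_i L122112) (flp_f L122083) L129384
theorem L129394 : sm ge N10002 = N10864 := rfl
theorem L129396 : sm ga N10864 = N10068 := ded_12_1 (flp_e L122650) (flp_a L122098) L129394
theorem L129398 : sm gc N10864 = N10003 := ded_25_1 (flp_e L122102) L122096 L129394
theorem L129400 : sm gg N10864 = N10864 := ded_36_2 (flp_e L129394) L122100 L129394
theorem L129401 : sm gh N10864 = N10864 := ded_37_2 (flp_e L129394) L122101 L129394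
theorem L129402 : sm gi N10002 = N10865 := rfl
theorem L129404 : sm ga N10865 = N10069 := ded_16_1 (flp_i L122657) (flp_a L122098) L129402
theorem L129406 : sm gc N10865 = N10004 := ded_29_1 (flp_i L122112) L122096 L129402
theorem L129408 : sm gg N10865 = N10865 := ded_43_1 (flp_i L129402) L122100 L129402
theorem L129409 : sm gf N10003 = N10866 := rfl
theorem L129411 : sm ga N10866 = N10070 := ded_13_1 (flp_f L122663) (flp_a L122104) L129409
theorem L129413 : sm gb N10866 = N10015 := ded_20_1 (flp_f L122210) (flp_b L122106) L129409
theorem L129415 : sm gd N10866 = N10249 := ded_31_1 (flp_f L124351) (flp_d L122110) L129409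
theorem L129417 : sm gh N10866 = N10866 := ded_40_2 (flp_f L129409) L122109 L129409
theorem L129418 : sm gi N10003 = N10867 := rfl
theorem L129420 : sm ga N10867 = N10071 := ded_16_1 (flp_i L122670) (flp_a L122104) L129418
theorem L129422 : sm gb N10867 = N10016 := ded_23_1 (flp_i L122217) (flp_b L122106) L129418
theorem L129424 : sm gd N10867 = N10250 := ded_34_1 (flp_i L124359) (flp_d L122110) L129418
theorem L129426 : sm ge N10867 = N10004 := ded_38_1 (flp_i L122112) L122102 L129418
theorem L129428 : sm gg N10867 = N10867 := ded_43_1 (flp_i L129418) L122108 L129418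
theorem L129429 : sm gh N10004 = N10868 := rfl
theorem L129431 : sm ga N10868 = N10072 := ded_15_1 (flp_h L122679) (flp_a L122114) L129429
theorem L129433 : sm gb N10868 = N10017 := ded_22_1 (flp_h L122226) (flp_b L122116) L129429
theorem L129435 : sm gg N10868 = N10868 := ded_42_1 (flp_h L129429) L122120 L129429
theorem L129436 : sm gd N10868 = N10711 := ded_33_1 (flp_h L128179) L121162 (flp_h L64689) (flp_d L122118) L129429
theorem L129438 : sm gi N10868 = N10868 := ded_44_2 (flp_h L129429) (flp_i L122112) L64679 L122112 L129429
theorem L129439 : sm gf N10005 = N10869 := rfl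
theorem L129441 : sm ga N10869 = N10023 := ded_13_1 (flp_f L122275) (flp_a L122123) L129439
theorem L129443 : sm gc N10869 = N10869 := ded_26_1 (flp_f L129439) L122125 L129439
theorem L129444 : sm gd N10869 = N10007 := ded_31_1 (flp_f L122139) (flp_d L122126) L129439
theorem L129446 : sm gi N10869 = N10166 := ded_41_2 L123527 (flp_i L122129) L129439
theorem L129448 : sm gg N10869 = N10252 := ded_39_2 (flp_f L124377) (flp_g L66875) (flp_f L64695) L122121 L129439
theorem L129450 : sm ge N10584 = N10869 := ded_12_0 L129441 (flp_e L122286) (flp_a L127184)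
theorem L129452 : sm gh N10005 = N10870 := rfl
theorem L129454 : sm ga N10870 = N10024 := ded_15_1 (flp_h L122288) (flp_a L122123) L129452
theorem L129456 : sm gc N10870 = N10870 := ded_28_1 (flp_h L129452) L122125 L129452
theorem L129457 : sm ge N10870 = N10870 := ded_37_1 (flp_h L129452) L122128 L129452
theorem L129458 : sm gg N10870 = N10006 := ded_42_1 (flp_h L122131) L122121 L129452
theorem L129460 : sm gd N10006 = N10871 := rfl
theorem L129462 : sm ga N10871 = N10025 := ded_11_1 (flp_d L122296) (flp_a L122133) L129460
theorem L129464 : sm gf N10871 = N10254 := ded_31_2 (flp_d L124397) (flp_f L122137) L129460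
theorem L129466 : sm gh N10871 = N10009 := ded_33_2 (flp_d L122160) (flp_h L64711) L64691 L122131 L129460
theorem L129468 : sm gi N10006 = N10872 := rfl
theorem L129470 : sm ga N10872 = N10026 := ded_16_1 (flp_i L122304) (flp_a L122133) L129468
theorem L129472 : sm gc N10872 = N10872 := ded_29_1 (flp_i L129468) L122135 L129468
theorem L129473 : sm ge N10872 = N10872 := ded_38_1 (flp_i L129468) L122136 L129468
theorem L129474 : sm gf N10872 = N10255 := ded_41_1 (flp_i L124403) (flp_f L122137) L129468
theorem L129476 : sm gh N10872 = N10713 := ded_44_1 (flp_i L128193) (flp_h L121165) (flp_i L64697) L122131 L129468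
theorem L129478 : sm gh N10007 = N10873 := rfl
theorem L129480 : sm ga N10873 = N10027 := ded_15_1 (flp_h L122314) (flp_a L122141) L129478
theorem L129482 : sm gc N10873 = N10018 := ded_28_1 (flp_h L122234) (flp_c L122143) L129478
theorem L129484 : sm ge N10873 = N10873 := ded_37_1 (flp_h L129478) L122147 L129478
theorem L129485 : sm gf N10873 = N10008 := ded_40_1 (flp_h L122150) L122139 L129478
theorem L129487 : sm gg N10873 = N10256 := ded_42_1 (flp_h L124410) (flp_g L122148) L129478
theorem L129489 : sm gd N10008 = N10874 := rfl
theorem L129491 : sm ga N10874 = N10028 := ded_11_1 (flp_d L122325) (flp_a L122152) L129489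
theorem L129493 : sm gg N10874 = N10009 := ded_32_2 (flp_d L122160) (flp_g L122158) L129489
theorem L129495 : sm gi N10008 = N10875 := rfl
theorem L129497 : sm ga N10875 = N10029 := ded_16_1 (flp_i L122331) (flp_a L122152) L129495
theorem L129499 : sm gc N10875 = N10020 := ded_29_1 (flp_i L122250) (flp_c L122154) L129495
theorem L129501 : sm ge N10875 = N10012 := ded_38_1 (flp_i L122186) (flp_e L122156) L129495
theorem L129503 : sm gg N10875 = N10010 := ded_43_1 (flp_i L122166) (flp_g L122158) L129495
theorem L129505 : sm gh N10875 = N10435 := ded_44_1 (flp_i L125861) L68352 (flp_i L102826) L122150 L129495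
theorem L129507 : sm gc N10009 = N10876 := rfl
theorem L129509 : sm ga N10876 = N10030 := ded_10_1 (flp_c L122343) (flp_a L122162) L129507
theorem L129511 : sm gf N10876 = N10259 := ded_26_2 (flp_c L124435) (flp_f L122164) L129507
theorem L129513 : sm gd N10876 = N10021 := ded_24_2 (flp_c L122260) (flp_d L64780) (flp_c L64715) L122160 L129507
theorem L129515 : sm ge N10009 = N10877 := rfl
theorem L129517 : sm ga N10877 = N10031 := ded_12_1 (flp_e L122349) (flp_a L122162) L129515
theorem L129519 : sm gd N10877 = N10013 := ded_30_1 (flp_e L122197) (flp_d L64730) (flp_e L64717) L122160 L129515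
theorem L129521 : sm gi N10009 = N10878 := rfl
theorem L129523 : sm ga N10878 = N10032 := ded_16_1 (flp_i L122355) (flp_a L122162) L129521
theorem L129525 : sm gd N10878 = N10010 := ded_34_1 (flp_i L122166) L122160 L129521
theorem L129527 : sm gf N10878 = N10261 := ded_41_1 (flp_i L124447) (flp_f L122164) L129521
theorem L129529 : sm ge N10011 = N10879 := rfl
theorem L129531 : sm ga N10879 = N10033 := ded_12_1 (flp_e L122363) (flp_a L122180) L129529
theorem L129533 : sm gc N10879 = N10687 := ded_25_1 (flp_e L128966) L128964 L129529
theorem L129535 : sm gg N10879 = N10013 := ded_36_2 (flp_e L122197) (flp_g L122183) L129529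
theorem L129537 : sm gh N10879 = N10879 := ded_37_2 (flp_e L129529) L122185 L129529
theorem L129538 : sm gf N10688 = N10879 := ded_13_0 L129531 (flp_f L122372) (flp_a L127981)
theorem L129540 : sm gi N10011 = N10880 := rfl
theorem L129542 : sm ga N10880 = N10034 := ded_16_1 (flp_i L122374) (flp_a L122180) L129540
theorem L129544 : sm gd N10880 = N10012 := ded_34_1 (flp_i L122186) L122178 L129540
theorem L129546 : sm gf N10880 = N10880 := ded_41_1 (flp_i L129540) L122182 L129540
theorem L129547 : sm gg N10880 = N10014 := ded_43_1 (flp_i L122202) (flp_g L122183) L129540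
theorem L129549 : sm gf N10013 = N10881 := rfl
theorem L129551 : sm ga N10881 = N10035 := ded_13_1 (flp_f L122383) (flp_a L122199) L129549
theorem L129553 : sm gh N10881 = N10881 := ded_40_2 (flp_f L129549) L122201 L129549
theorem L129554 : sm ge N10881 = N10015 := ded_35_1 (flp_f L122210) (flp_e L64747) (flp_f L64734) L122197 L129549
theorem L129556 : sm gi N10013 = N10882 := rfl
theorem L129558 : sm ga N10882 = N10036 := ded_16_1 (flp_i L122390) (flp_a L122199) L129556
theorem L129560 : sm ge N10882 = N10014 := ded_38_1 (flp_i L122202) L122197 L129556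
theorem L129562 : sm gh N10014 = N10883 := rfl
theorem L129564 : sm ga N10883 = N10037 := ded_15_1 (flp_h L122396) (flp_a L122204) L129562
theorem L129566 : sm gf N10883 = N10017 := ded_40_1 (flp_h L122226) (flp_f L122208) L129562
theorem L129568 : sm gd N10883 = N10719 := ded_33_1 (flp_h L128232) L121194 (flp_h L64745) (flp_d L122206) L129562
theorem L129570 : sm gi N10883 = N10883 := ded_44_2 (flp_h L129562) (flp_i L122202) L64736 L122202 L129562
theorem L129571 : sm gg N10015 = N10884 := rfl
theorem L129573 : sm ga N10884 = N10038 := ded_14_1 (flp_g L122405) (flp_a L122212) L129571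
theorem L129575 : sm gd N10884 = N10267 := ded_32_1 (flp_g L124503) (flp_d L122214) L129571
theorem L129577 : sm gh N10884 = N10884 := ded_42_2 (flp_g L129571) L122216 L129571
theorem L129578 : sm gf N10884 = N10884 := ded_39_1 (flp_g L129571) (flp_f L122210) L64751 L122210 L129571
theorem L129579 : sm gi N10015 = N10885 := rfl
theorem L129581 : sm ga N10885 = N10039 := ded_16_1 (flp_i L122413) (flp_a L122212) L129579
theorem L129583 : sm gd N10885 = N10268 := ded_34_1 (flp_i L124511) (flp_d L122214) L129579
theorem L129585 : sm gf N10885 = N10016 := ded_41_1 (flp_i L122217) L122210 L129579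
theorem L129587 : sm gh N10016 = N10886 := rfl
theorem L129589 : sm ga N10886 = N10040 := ded_15_1 (flp_h L122421) (flp_a L122219) L129587
theorem L129591 : sm ge N10886 = N10017 := ded_37_1 (flp_h L122226) (flp_e L122223) L129587
theorem L129593 : sm gg N10886 = N10886 := ded_42_1 (flp_h L129587) L122225 L129587
theorem L129594 : sm gi N10886 = N10886 := ded_44_2 (flp_h L129587) (flp_i L122217) L64752 L122217 L129587
theorem L129595 : sm gd N10018 = N10887 := rfl
theorem L129597 : sm ga N10887 = N10041 := ded_11_1 (flp_d L122429) (flp_a L122236) L129595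
theorem L129599 : sm gf N10887 = N10019 := ded_31_2 (flp_d L122243) (flp_f L122239) L129595
theorem L129601 : sm gg N10887 = N10232 := ded_32_2 L124202 (flp_g L122241) L129595
theorem L129603 : sm gh N10887 = N10887 := ded_33_2 (flp_d L129595) (flp_h L122234) L64766 L122234 L129595
theorem L129604 : sm gi N10018 = N10888 := rfl
theorem L129606 : sm ga N10888 = N10042 := ded_16_1 (flp_i L122438) (flp_a L122236) L129604
theorem L129608 : sm ge N10888 = N10888 := ded_38_1 (flp_i L129604) L122238 L129604
theorem L129609 : sm gf N10888 = N10020 := ded_41_1 (flp_i L122250) (flp_f L122239) L129604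
theorem L129611 : sm gg N10888 = N10270 := ded_43_1 (flp_i L124528) (flp_g L122241) L129604
theorem L129613 : sm gh N10888 = N10129 := ded_44_1 (flp_i L123159) L65486 L104064 L122234 L129604
theorem L129615 : sm gc N10019 = N10889 := rfl
theorem L129617 : sm ga N10889 = N10043 := ded_10_1 (flp_c L122449) (flp_a L122245) L129615
theorem L129619 : sm ge N10889 = N10626 := ded_25_2 (flp_c L129037) L129039 L129615
theorem L129621 : sm gg N10889 = N10021 := ded_27_2 (flp_c L122260) (flp_g L122247) L129615
theorem L129623 : sm gh N10889 = N10889 := ded_28_2 (flp_c L129615) L122249 L129615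
theorem L129624 : sm gi N10019 = N10890 := rfl
theorem L129626 : sm ga N10890 = N10044 := ded_16_1 (flp_i L122456) (flp_a L122245) L129624
theorem L129628 : sm gd N10890 = N10020 := ded_34_1 (flp_i L122250) L122243 L129624
theorem L129630 : sm gg N10890 = N10022 := ded_43_1 (flp_i L122267) (flp_g L122247) L129624
theorem L129632 : sm gb N10021 = N10891 := rfl
theorem L129634 : sm gf N10891 = N10273 := ded_20_2 (flp_b L124554) (flp_f L122264) L129632
theorem L129636 : sm gh N10891 = N10891 := ded_22_2 (flp_b L129632) L122266 L129632
theorem L129637 : sm gi N10021 = N10892 := rfl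
theorem L129639 : sm ga N10892 = N10046 := ded_16_1 (flp_i L122471) (flp_a L122262) L129637
theorem L129641 : sm gc N10892 = N10022 := ded_29_1 (flp_i L122267) L122260 L129637
theorem L129643 : sm gf N10892 = N10274 := ded_41_1 (flp_i L124558) (flp_f L122264) L129637
theorem L129645 : sm gh N10022 = N10893 := rfl
theorem L129647 : sm ga N10893 = N10047 := ded_15_1 (flp_h L122477) (flp_a L122269) L129645
theorem L129649 : sm gf N10893 = N10275 := ded_40_1 (flp_h L124565) (flp_f L122273) L129645
theorem L129651 : sm gd N10893 = N10725 := ded_33_1 (flp_h L128276) L121231 (flp_h L64795) (flp_d L122271) L129645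
theorem L129653 : sm gi N10893 = N10893 := ded_44_2 (flp_h L129645) (flp_i L122267) L64786 L122267 L129645
theorem L129654 : sm gh N10023 = N10894 := rfl
theorem L129656 : sm gb N10894 = N10097 := ded_22_1 (flp_h L122915) (flp_b L122277) L129654
theorem L129658 : sm gc N10894 = N10894 := ded_28_1 (flp_h L129654) L122279 L129654
theorem L129659 : sm ge N10894 = N10587 := ded_37_1 (flp_h L127206) L122286 L129654
theorem L129661 : sm gf N10894 = N10024 := ded_40_1 (flp_h L122288) L122275 L129654
theorem L129663 : sm gg N10894 = N10276 := ded_42_1 (flp_h L124571) (flp_g L122284) L129654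
theorem L129665 : sm gd N10024 = N10895 := rfl
theorem L129667 : sm gb N10895 = N10098 := ded_18_1 (flp_d L122923) (flp_b L122290) L129665
theorem L129669 : sm gg N10895 = N10025 := ded_32_2 (flp_d L122296) (flp_g L122294) L129665
theorem L129671 : sm gh N10895 = N10028 := ded_33_2 (flp_d L122325) (flp_h L64835) (flp_d L64811) L122288 L129665
theorem L129673 : sm gi N10024 = N10896 := rfl
theorem L129675 : sm gb N10896 = N10099 := ded_23_1 (flp_i L122929) (flp_b L122290) L129673
theorem L129677 : sm gc N10896 = N10896 := ded_29_1 (flp_i L129673) L122292 L129673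
theorem L129678 : sm ge N10896 = N10896 := ded_38_1 (flp_i L129673) L122293 L129673
theorem L129679 : sm gg N10896 = N10026 := ded_43_1 (flp_i L122304) (flp_g L122294) L129673
theorem L129681 : sm gh N10896 = N10459 := ded_44_1 (flp_i L126073) L69466 (flp_i L104185) L122288 L129673
theorem L129683 : sm gc N10025 = N10897 := rfl
theorem L129685 : sm gf N10897 = N10279 := ded_26_2 (flp_c L124601) (flp_f L122300) L129683
theorem L129687 : sm gh N10897 = N10030 := ded_28_2 (flp_c L122343) (flp_h L122302) L129683
theorem L129689 : sm gd N10897 = N10897 := ded_24_2 (flp_c L129683) (flp_d L122296) L64820 L122296 L129683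
theorem L129690 : sm ge N10025 = N10898 := rfl
theorem L129692 : sm gb N10898 = N10101 := ded_19_1 (flp_e L122946) (flp_b L122298) L129690
theorem L129694 : sm gh N10898 = N10031 := ded_37_2 (flp_e L122349) (flp_h L122302) L129690
theorem L129696 : sm gd N10898 = N10898 := ded_30_1 (flp_e L129690) (flp_d L122296) L64821 L122296 L129690
theorem L129697 : sm gi N10025 = N10899 := rfl
theorem L129699 : sm gb N10899 = N10102 := ded_23_1 (flp_i L122951) (flp_b L122298) L129697
theorem L129701 : sm gd N10899 = N10026 := ded_34_1 (flp_i L122304) L122296 L129697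
theorem L129703 : sm gf N10899 = N10281 := ded_41_1 (flp_i L124616) (flp_f L122300) L129697
theorem L129705 : sm gd N10027 = N10900 := rfl
theorem L129707 : sm gb N10900 = N10103 := ded_18_1 (flp_d L122957) (flp_b L122316) L129705
theorem L129709 : sm gf N10900 = N10028 := ded_31_2 (flp_d L122325) (flp_f L122321) L129705
theorem L129711 : sm gg N10900 = N10282 := ded_32_2 (flp_d L124622) (flp_g L122323) L129705
theorem L129713 : sm gi N10027 = N10901 := rfl
theorem L129715 : sm gb N10901 = N10104 := ded_23_1 (flp_i L122965) (flp_b L122316) L129713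
theorem L129717 : sm gc N10901 = N10042 := ded_29_1 (flp_i L122438) (flp_c L122318) L129713
theorem L129719 : sm ge N10901 = N10901 := ded_38_1 (flp_i L129713) L122320 L129713
theorem L129720 : sm gf N10901 = N10029 := ded_41_1 (flp_i L122331) (flp_f L122321) L129713
theorem L129722 : sm gg N10901 = N10283 := ded_43_1 (flp_i L124628) (flp_g L122323) L129713
theorem L129724 : sm gh N10901 = N10126 := ded_44_1 (flp_i L123128) L65412 (flp_i L104364) L122314 L129713
theorem L129726 : sm gc N10028 = N10902 := rfl
theorem L129728 : sm gg N10902 = N10030 := ded_27_2 (flp_c L122343) (flp_g L122329) L129726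
theorem L129730 : sm gd N10902 = N10043 := ded_24_2 (flp_c L122449) (flp_d L64928) (flp_c L64839) L122325 L129726
theorem L129732 : sm ge N10631 = N10902 := ded_30_0 L129730 L122451 (flp_d L73698) (flp_e L73685) L127517
theorem L129734 : sm ge N10028 = N10903 := rfl
theorem L129736 : sm gb N10903 = N10106 := ded_19_1 (flp_e L122984) (flp_b L122327) L129734
theorem L129738 : sm gc N10903 = N10631 := ded_25_1 L129732 (flp_c L129726) L129734
theorem L129740 : sm gg N10903 = N10031 := ded_36_2 (flp_e L122349) (flp_g L122329) L129734
theorem L129742 : sm gd N10903 = N10033 := ded_30_1 (flp_e L122363) (flp_d L64863) (flp_e L64841) L122325 L129734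
theorem L129744 : sm gf N10632 = N10903 := ded_26_0 L129738 L127519 L127521
theorem L129746 : sm gi N10028 = N10904 := rfl
theorem L129748 : sm gb N10904 = N10107 := ded_23_1 (flp_i L122990) (flp_b L122327) L129746
theorem L129750 : sm gd N10904 = N10029 := ded_34_1 (flp_i L122331) L122325 L129746
theorem L129752 : sm gg N10904 = N10032 := ded_43_1 (flp_i L122355) (flp_g L122329) L129746
theorem L129754 : sm gb N10030 = N10905 := rfl
theorem L129756 : sm gd N10905 = N10045 := ded_18_2 (flp_b L122464) (flp_d L122347) L129754
theorem L129758 : sm gf N10905 = N10287 := ded_20_2 (flp_b L124663) (flp_f L122345) L129754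
theorem L129760 : sm gc N10905 = N10108 := ded_17_2 (flp_b L122996) (flp_c L65300) (flp_b L64847) L122343 L129754
theorem L129762 : sm ge N10030 = N10906 := rfl
theorem L129764 : sm gc N10906 = N10031 := ded_25_1 (flp_e L122349) L122343 L129762
theorem L129766 : sm gg N10906 = N10631 := ded_36_2 L129732 L129728 L129762
theorem L129768 : sm gd N10906 = N10630 := ded_30_1 L127513 (flp_d L121970) L121964 (flp_d L122347) L129762
theorem L129770 : sm gi N10030 = N10907 := rfl
theorem L129772 : sm gc N10907 = N10032 := ded_29_1 (flp_i L122355) L122343 L129770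
theorem L129774 : sm gd N10907 = N10046 := ded_34_1 (flp_i L122471) (flp_d L122347) L129770
theorem L129776 : sm gf N10907 = N10289 := ded_41_1 (flp_i L124676) (flp_f L122345) L129770
theorem L129778 : sm gf N10031 = N10908 := rfl
theorem L129780 : sm gb N10908 = N10111 := ded_20_1 (flp_f L123015) (flp_b L122351) L129778
theorem L129782 : sm gd N10908 = N10035 := ded_31_1 (flp_f L122383) (flp_d L122353) L129778
theorem L129784 : sm ge N10908 = N10290 := ded_35_1 (flp_f L124682) (flp_e L67072) (flp_f L64849) L122349 L129778
theorem L129786 : sm gi N10031 = N10909 := rfl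
theorem L129788 : sm gb N10909 = N10112 := ded_23_1 (flp_i L123021) (flp_b L122351) L129786
theorem L129790 : sm gd N10909 = N10036 := ded_34_1 (flp_i L122390) (flp_d L122353) L129786
theorem L129792 : sm ge N10909 = N10032 := ded_38_1 (flp_i L122355) L122349 L129786
theorem L129794 : sm gh N10032 = N10910 := rfl
theorem L129796 : sm gb N10910 = N10113 := ded_22_1 (flp_h L123027) (flp_b L122357) L129794
theorem L129798 : sm gf N10910 = N10292 := ded_40_1 (flp_h L124696) (flp_f L122361) L129794
theorem L129800 : sm gd N10910 = N10733 := ded_33_1 (flp_h L128327) L121260 (flp_h L64861) (flp_d L122359) L129794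
theorem L129802 : sm gi N10033 = N10911 := rfl
theorem L129804 : sm gb N10911 = N10115 := ded_23_1 (flp_i L123040) (flp_b L122365) L129802
theorem L129806 : sm gc N10911 = N10522 := ded_29_1 L126633 (flp_c L122367) L129802
theorem L129808 : sm ge N10911 = N10034 := ded_38_1 (flp_i L122374) L122363 L129802
theorem L129810 : sm gf N10911 = N10523 := ded_41_1 L126638 L122372 L129802
theorem L129812 : sm gg N10911 = N10036 := ded_43_1 (flp_i L122390) (flp_g L122369) L129802
theorem L129814 : sm gh N10034 = N10912 := rfl
theorem L129816 : sm gb N10912 = N10116 := ded_22_1 (flp_h L123047) (flp_b L122376) L129814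
theorem L129818 : sm gf N10912 = N10912 := ded_40_1 (flp_h L129814) L122380 L129814
theorem L129819 : sm gg N10912 = N10037 := ded_42_1 (flp_h L122396) (flp_g L122381) L129814
theorem L129821 : sm gd N10912 = N10511 := ded_33_1 (flp_h L126532) L70191 L94152 (flp_d L122378) L129814
theorem L129823 : sm gi N10912 = N10912 := ded_44_2 (flp_h L129814) (flp_i L122374) L64870 L122374 L129814
theorem L129824 : sm gg N10035 = N10913 := rfl
theorem L129826 : sm gb N10913 = N10117 := ded_21_1 (flp_g L123056) (flp_b L122385) L129824
theorem L129828 : sm gc N10913 = N10691 := ded_27_1 (flp_g L129098) L129091 L129824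
theorem L129830 : sm ge N10913 = N10038 := ded_36_1 (flp_g L122405) (flp_e L122388) L129824
theorem L129832 : sm gh N10913 = N10913 := ded_42_2 (flp_g L129824) L122387 L129824
theorem L129833 : sm gf N10913 = N10692 := ded_39_1 L128014 L122372 L122369 L122383 L129824
theorem L129835 : sm gi N10035 = N10914 := rfl
theorem L129837 : sm gb N10914 = N10118 := ded_23_1 (flp_i L123062) (flp_b L122385) L129835
theorem L129839 : sm ge N10914 = N10039 := ded_38_1 (flp_i L122413) (flp_e L122388) L129835
theorem L129841 : sm gf N10914 = N10036 := ded_41_1 (flp_i L122390) L122383 L129835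
theorem L129843 : sm gh N10036 = N10915 := rfl
theorem L129845 : sm gb N10915 = N10119 := ded_22_1 (flp_h L123069) (flp_b L122392) L129843
theorem L129847 : sm ge N10915 = N10037 := ded_37_1 (flp_h L122396) (flp_e L122394) L129843
theorem L129849 : sm gi N10915 = N10915 := ded_44_2 (flp_h L129843) (flp_i L122390) L64886 L122390 L129843
theorem L129850 : sm gi N10038 = N10916 := rfl
theorem L129852 : sm gb N10916 = N10120 := ded_23_1 (flp_i L123075) (flp_b L122407) L129850
theorem L129854 : sm gd N10916 = N10298 := ded_34_1 (flp_i L124748) (flp_d L122409) L129850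
theorem L129856 : sm gf N10916 = N10916 := ded_41_1 (flp_i L129850) L122412 L129850
theorem L129857 : sm gg N10916 = N10039 := ded_43_1 (flp_i L122413) L122405 L129850
theorem L129859 : sm gh N10039 = N10917 := rfl
theorem L129861 : sm gb N10917 = N10121 := ded_22_1 (flp_h L123083) (flp_b L122415) L129859
theorem L129863 : sm gf N10917 = N10040 := ded_40_1 (flp_h L122421) (flp_f L122419) L129859
theorem L129865 : sm gi N10917 = N10917 := ded_44_2 (flp_h L129859) (flp_i L122413) L64901 L122413 L129859
theorem L129866 : sm gd N10040 = N10918 := rfl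
theorem L129868 : sm gb N10918 = N10122 := ded_18_1 (flp_d L123089) (flp_b L122423) L129866
theorem L129870 : sm gg N10918 = N10918 := ded_32_2 (flp_d L129866) L122427 L129866
theorem L129871 : sm gi N10918 = N10918 := ded_34_2 (flp_d L129866) L122428 L129866
theorem L129872 : sm ge N10918 = N10739 := ded_30_2 (flp_d L128372) L121304 (flp_d L64916) (flp_e L122425) L129866
theorem L129874 : sm gh N10918 = N10300 := ded_33_2 (flp_d L124765) (flp_h L67143) (flp_d L64906) L122421 L129866
theorem L129876 : sm gc N10041 = N10919 := rfl
theorem L129878 : sm gf N10919 = N10043 := ded_26_2 (flp_c L122449) (flp_f L122433) L129876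
theorem L129880 : sm gg N10919 = N10228 := ded_27_2 L124174 (flp_g L122435) L129876
theorem L129882 : sm gh N10919 = N10919 := ded_28_2 (flp_c L129876) L122437 L129876
theorem L129883 : sm gb N10919 = N10226 := ded_17_1 (flp_c L124156) L66705 (flp_c L103661) (flp_b L122431) L129876
theorem L129885 : sm ge N10588 = N10919 := ded_35_5 L129878 L122451 L73700 (flp_e L73056) (flp_f L127214)
theorem L129887 : sm ge N10041 = N10920 := rfl
theorem L129889 : sm gb N10920 = N10048 := ded_19_1 (flp_e L122486) (flp_b L122431) L129887
theorem L129891 : sm gc N10920 = N10588 := ded_25_1 L129885 (flp_c L129876) L129887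
theorem L129893 : sm gg N10920 = N10190 := ded_36_2 L123781 (flp_g L122435) L129887
theorem L129895 : sm gh N10920 = N10920 := ded_37_2 (flp_e L129887) L122437 L129887
theorem L129896 : sm gd N10920 = N10920 := ded_30_1 (flp_e L129887) (flp_d L122429) L64923 L122429 L129887
theorem L129897 : sm gf N10920 = N10589 := ded_35_2 L127219 (flp_f L121940) L121946 (flp_f L122433) L129887
theorem L129899 : sm gi N10041 = N10921 := rfl
theorem L129901 : sm gb N10921 = N10049 := ded_23_1 (flp_i L122496) (flp_b L122431) L129899
theorem L129903 : sm gd N10921 = N10042 := ded_34_1 (flp_i L122438) L122429 L129899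
theorem L129905 : sm gf N10921 = N10044 := ded_41_1 (flp_i L122456) (flp_f L122433) L129899
theorem L129907 : sm gg N10921 = N10233 := ded_43_1 (flp_i L124209) (flp_g L122435) L129899
theorem L129909 : sm gb N10043 = N10922 := rfl
theorem L129911 : sm ge N10922 = N10571 := ded_19_2 L127102 (flp_e L122451) L129909
theorem L129913 : sm gf N10922 = N10226 := ded_20_2 (flp_b L129883) L129878 L129909
theorem L129915 : sm gg N10922 = N10045 := ded_21_2 (flp_b L122464) (flp_g L122453) L129909
theorem L129917 : sm gh N10922 = N10922 := ded_22_2 (flp_b L129909) L122455 L129909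
theorem L129918 : sm gc N10922 = N10050 := ded_17_2 (flp_b L122506) (flp_c L64976) (flp_b L64930) L122449 L129909
theorem L129920 : sm gi N10043 = N10923 := rfl
theorem L129922 : sm gc N10923 = N10044 := ded_29_1 (flp_i L122456) L122449 L129920
theorem L129924 : sm ge N10923 = N10433 := ded_38_1 L125852 (flp_e L122451) L129920
theorem L129926 : sm gg N10923 = N10046 := ded_43_1 (flp_i L122471) (flp_g L122453) L129920
theorem L129928 : sm gh N10044 = N10924 := rfl
theorem L129930 : sm gb N10924 = N10052 := ded_22_1 (flp_h L122527) (flp_b L122458) L129928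
theorem L129932 : sm gg N10924 = N10047 := ded_42_1 (flp_h L122477) (flp_g L122462) L129928
theorem L129934 : sm gd N10924 = N10307 := ded_33_1 (flp_h L124823) L67250 L92254 (flp_d L122460) L129928
theorem L129936 : sm gi N10924 = N10924 := ded_44_2 (flp_h L129928) (flp_i L122456) L64934 L122456 L129928
theorem L129937 : sm ga N10045 = N10925 := rfl
theorem L129939 : sm gc N10925 = N10053 := ded_10_2 (flp_a L122534) (flp_c L122469) L129937
theorem L129941 : sm gf N10925 = N10303 := ded_13_2 (flp_a L124789) (flp_f L122466) L129937
theorem L129943 : sm gh N10925 = N10925 := ded_15_2 (flp_a L129937) L122468 L129937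
theorem L129944 : sm gi N10045 = N10926 := rfl
theorem L129946 : sm gb N10926 = N10046 := ded_23_1 (flp_i L122471) L122464 L129944
theorem L129948 : sm gc N10926 = N10054 := ded_29_1 (flp_i L122541) (flp_c L122469) L129944
theorem L129950 : sm gf N10926 = N10304 := ded_41_1 (flp_i L124797) (flp_f L122466) L129944
theorem L129952 : sm gh N10046 = N10927 := rfl
theorem L129954 : sm gc N10927 = N10047 := ded_28_1 (flp_h L122477) (flp_c L122473) L129952
theorem L129956 : sm gf N10927 = N10305 := ded_40_1 (flp_h L124806) (flp_f L122475) L129952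
theorem L129958 : sm gi N10927 = N10927 := ded_44_2 (flp_h L129952) (flp_i L122471) L64949 L122471 L129952
theorem L129959 : sm gi N10048 = N10928 := rfl
theorem L129961 : sm ga N10928 = N10847 := ded_16_1 (flp_i L129238) (flp_a L122488) L129959
theorem L129963 : sm gc N10928 = N10189 := ded_29_1 (flp_i L123768) (flp_c L122490) L129959
theorem L129965 : sm gd N10928 = N10928 := ded_34_1 (flp_i L129959) L122495 L129959
theorem L129966 : sm ge N10928 = N10049 := ded_38_1 (flp_i L122496) L122486 L129959
theorem L129968 : sm gg N10928 = N10191 := ded_43_1 (flp_i L123785) (flp_g L122492) L129959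
theorem L129970 : sm gh N10049 = N10929 := rfl
theorem L129972 : sm gc N10929 = N10231 := ded_28_1 (flp_h L124191) (flp_c L122498) L129970
theorem L129974 : sm gf N10929 = N10052 := ded_40_1 (flp_h L122527) (flp_f L122502) L129970
theorem L129976 : sm gg N10929 = N10234 := ded_42_1 (flp_h L124217) (flp_g L122504) L129970
theorem L129978 : sm gd N10929 = N10055 := ded_33_1 (flp_h L122549) L65000 L109149 (flp_d L122500) L129970
theorem L129980 : sm gi N10929 = N10929 := ded_44_2 (flp_h L129970) (flp_i L122496) L64964 L122496 L129970
theorem L129981 : sm ga N10050 = N10930 := rfl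
theorem L129983 : sm gd N10930 = N10127 := ded_11_2 (flp_a L123137) (flp_d L122508) L129981
theorem L129985 : sm gf N10930 = N10212 := ded_13_2 L124018 (flp_f L122510) L129981
theorem L129987 : sm gg N10930 = N10053 := ded_14_2 (flp_a L122534) (flp_g L122512) L129981
theorem L129989 : sm gh N10930 = N10930 := ded_15_2 (flp_a L129981) L122514 L129981
theorem L129990 : sm gb N10930 = N10887 := ded_9_2 L129597 L122431 L103659 L122506 L129981
theorem L129992 : sm gi N10050 = N10931 := rfl
theorem L129994 : sm gb N10931 = N10051 := ded_23_1 (flp_i L122515) L122506 L129992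
theorem L129996 : sm gd N10931 = N10128 := ded_34_1 (flp_i L123148) (flp_d L122508) L129992
theorem L129998 : sm gf N10931 = N10227 := ded_41_1 (flp_i L124161) (flp_f L122510) L129992
theorem L130000 : sm gg N10931 = N10054 := ded_43_1 (flp_i L122541) (flp_g L122512) L129992
theorem L130002 : sm gh N10051 = N10932 := rfl
theorem L130004 : sm ga N10932 = N10929 := ded_15_1 (flp_h L129970) (flp_a L122517) L130002
theorem L130006 : sm gc N10932 = N10052 := ded_28_1 (flp_h L122527) (flp_c L122519) L130002
theorem L130008 : sm gf N10932 = N10231 := ded_40_1 (flp_h L124191) (flp_f L122523) L130002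
theorem L130010 : sm gg N10932 = N10055 := ded_42_1 (flp_h L122549) (flp_g L122525) L130002
theorem L130012 : sm gd N10932 = N10234 := ded_33_1 (flp_h L124217) L104007 (flp_h L109022) (flp_d L122521) L130002
theorem L130014 : sm gi N10932 = N10932 := ded_44_2 (flp_h L130002) (flp_i L122515) L64980 L122515 L130002
theorem L130015 : sm gi N10053 = N10933 := rfl
theorem L130017 : sm ga N10933 = N10054 := ded_16_1 (flp_i L122541) L122534 L130015
theorem L130019 : sm gd N10933 = N10129 := ded_34_1 (flp_i L123159) (flp_d L122536) L130015
theorem L130021 : sm gf N10933 = N10306 := ded_41_1 (flp_i L124812) (flp_f L122538) L130015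
theorem L130023 : sm gh N10054 = N10934 := rfl
theorem L130025 : sm gb N10934 = N10055 := ded_22_1 (flp_h L122549) (flp_b L122543) L130023
theorem L130027 : sm gf N10934 = N10307 := ded_40_1 (flp_h L124823) (flp_f L122547) L130023
theorem L130029 : sm gi N10934 = N10934 := ded_44_2 (flp_h L130023) (flp_i L122541) L64995 L122541 L130023
theorem L130030 : sm gg N10056 = N10935 := rfl
theorem L130032 : sm gb N10935 = N10130 := ded_21_1 (flp_g L123166) (flp_b L122563) L130030
theorem L130034 : sm gc N10935 = N10057 := ded_27_1 (flp_g L122565) L122556 L130030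
theorem L130036 : sm ge N10935 = N10935 := ded_36_1 (flp_g L130030) L122558 L130030
theorem L130037 : sm gi N10935 = N10454 := ded_43_2 L126036 (flp_i L122561) L130030
theorem L130039 : sm gh N10056 = N10936 := rfl
theorem L130041 : sm gb N10936 = N10131 := ded_22_1 (flp_h L123174) (flp_b L122563) L130039
theorem L130043 : sm gc N10936 = N10058 := ded_28_1 (flp_h L122574) L122556 L130039
theorem L130045 : sm ge N10936 = N10936 := ded_37_1 (flp_h L130039) L122558 L130039
theorem L130046 : sm gf N10936 = N10353 := ded_40_1 (flp_h L125216) (flp_f L122559) L130039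
theorem L130048 : sm gf N10057 = N10937 := rfl
theorem L130050 : sm gb N10937 = N10073 := ded_20_1 (flp_f L122687) (flp_b L122567) L130048
theorem L130052 : sm gd N10937 = N10059 := ded_31_1 (flp_f L122581) (flp_d L122569) L130048
theorem L130054 : sm gi N10937 = N10153 := ded_41_2 L123397 (flp_i L122572) L130048
theorem L130056 : sm gg N10937 = N10354 := ded_39_2 (flp_f L125224) (flp_g L67807) (flp_f L65015) L122565 L130048
theorem L130058 : sm gh N10057 = N10938 := rfl
theorem L130060 : sm gb N10938 = N10074 := ded_22_1 (flp_h L122699) (flp_b L122567) L130058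
theorem L130062 : sm ge N10938 = N10938 := ded_37_1 (flp_h L130058) L122571 L130058
theorem L130063 : sm gg N10938 = N10058 := ded_42_1 (flp_h L122574) L122565 L130058
theorem L130065 : sm gd N10058 = N10939 := rfl
theorem L130067 : sm gb N10939 = N10075 := ded_18_1 (flp_d L122708) (flp_b L122576) L130065
theorem L130069 : sm gf N10939 = N10356 := ded_31_2 (flp_d L125238) (flp_f L122579) L130065
theorem L130071 : sm gh N10939 = N10061 := ded_33_2 (flp_d L122598) (flp_h L65028) L65011 L122574 L130065
theorem L130073 : sm gi N10058 = N10940 := rfl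
theorem L130075 : sm gb N10940 = N10076 := ded_23_1 (flp_i L122716) (flp_b L122576) L130073
theorem L130077 : sm ge N10940 = N10940 := ded_38_1 (flp_i L130073) L122578 L130073
theorem L130078 : sm gf N10940 = N10357 := ded_41_1 (flp_i L125244) (flp_f L122579) L130073
theorem L130080 : sm gh N10940 = N10743 := ded_44_1 (flp_i L128397) (flp_h L121326) (flp_i L65017) L122574 L130073
theorem L130082 : sm gh N10059 = N10941 := rfl
theorem L130084 : sm gb N10941 = N10077 := ded_22_1 (flp_h L122727) (flp_b L122583) L130082
theorem L130086 : sm ge N10941 = N10941 := ded_37_1 (flp_h L130082) L122587 L130082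
theorem L130087 : sm gf N10941 = N10060 := ded_40_1 (flp_h L122590) L122581 L130082
theorem L130089 : sm gg N10941 = N10338 := ded_42_1 L125113 (flp_g L122588) L130082
theorem L130091 : sm gd N10060 = N10942 := rfl
theorem L130093 : sm gb N10942 = N10078 := ded_18_1 (flp_d L122738) (flp_b L122592) L130091
theorem L130095 : sm gg N10942 = N10061 := ded_32_2 (flp_d L122598) (flp_g L122596) L130091
theorem L130097 : sm gi N10060 = N10943 := rfl
theorem L130099 : sm gb N10943 = N10079 := ded_23_1 (flp_i L122744) (flp_b L122592) L130097
theorem L130101 : sm ge N10943 = N10064 := ded_38_1 (flp_i L122622) (flp_e L122594) L130097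
theorem L130103 : sm gg N10943 = N10062 := ded_43_1 (flp_i L122604) (flp_g L122596) L130097
theorem L130105 : sm gh N10943 = N10403 := ded_44_1 (flp_i L125622) L68109 L94168 L122590 L130097
theorem L130107 : sm gc N10061 = N10944 := rfl
theorem L130109 : sm gf N10944 = N10360 := ded_26_2 (flp_c L125264) (flp_f L122602) L130107
theorem L130111 : sm ge N10061 = N10945 := rfl
theorem L130113 : sm gb N10945 = N10081 := ded_19_1 (flp_e L122764) (flp_b L122600) L130111
theorem L130115 : sm gd N10945 = N10066 := ded_30_1 (flp_e L122637) (flp_d L65043) (flp_e L65032) L122598 L130111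
theorem L130117 : sm gi N10061 = N10946 := rfl
theorem L130119 : sm gb N10946 = N10082 := ded_23_1 (flp_i L122770) (flp_b L122600) L130117
theorem L130121 : sm gd N10946 = N10062 := ded_34_1 (flp_i L122604) L122598 L130117
theorem L130123 : sm gf N10946 = N10362 := ded_41_1 (flp_i L125272) (flp_f L122602) L130117
theorem L130125 : sm gc N10063 = N10947 := rfl
theorem L130127 : sm gf N10947 = N10947 := ded_26_2 (flp_c L130125) L122618 L130125
theorem L130128 : sm gg N10947 = N10065 := ded_27_2 (flp_c L122631) (flp_g L122619) L130125
theorem L130130 : sm gh N10947 = N10947 := ded_28_2 (flp_c L130125) L122621 L130125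
theorem L130131 : sm gb N10947 = N10947 := ded_17_1 (flp_c L130125) L122616 L65144 (flp_b L122616) L130125
theorem L130132 : sm ge N10063 = N10948 := rfl
theorem L130134 : sm gb N10948 = N10083 := ded_19_1 (flp_e L122778) (flp_b L122616) L130132
theorem L130136 : sm gg N10948 = N10066 := ded_36_2 (flp_e L122637) (flp_g L122619) L130132
theorem L130138 : sm gh N10948 = N10948 := ded_37_2 (flp_e L130132) L122621 L130132
theorem L130139 : sm gi N10063 = N10949 := rfl
theorem L130141 : sm gb N10949 = N10084 := ded_23_1 (flp_i L122786) (flp_b L122616) L130139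
theorem L130143 : sm gd N10949 = N10064 := ded_34_1 (flp_i L122622) L122614 L130139
theorem L130145 : sm gf N10949 = N10949 := ded_41_1 (flp_i L130139) L122618 L130139
theorem L130146 : sm gg N10949 = N10067 := ded_43_1 (flp_i L122642) (flp_g L122619) L130139
theorem L130148 : sm ge N10065 = N10950 := rfl
theorem L130150 : sm gb N10950 = N10950 := ded_19_1 (flp_e L130148) L122636 L130148
theorem L130151 : sm gc N10950 = N10066 := ded_25_1 (flp_e L122637) L122631 L130148
theorem L130153 : sm gh N10950 = N10950 := ded_37_2 (flp_e L130148) L122635 L130148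
theorem L130154 : sm gi N10065 = N10951 := rfl
theorem L130156 : sm gb N10951 = N10951 := ded_23_1 (flp_i L130154) L122636 L130154
theorem L130157 : sm gc N10951 = N10067 := ded_29_1 (flp_i L122642) L122631 L130154
theorem L130159 : sm gf N10951 = N10069 := ded_41_1 (flp_i L122657) (flp_f L122633) L130154
theorem L130161 : sm gf N10066 = N10952 := rfl
theorem L130163 : sm gb N10952 = N10085 := ded_20_1 (flp_f L122796) (flp_b L122639) L130161
theorem L130165 : sm gh N10952 = N10952 := ded_40_2 (flp_f L130161) L122641 L130161
theorem L130166 : sm ge N10952 = N10070 := ded_35_1 (flp_f L122663) (flp_e L65063) (flp_f L65047) L122637 L130161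
theorem L130168 : sm gi N10066 = N10953 := rfl
theorem L130170 : sm gb N10953 = N10086 := ded_23_1 (flp_i L122804) (flp_b L122639) L130168
theorem L130172 : sm ge N10953 = N10067 := ded_38_1 (flp_i L122642) L122637 L130168
theorem L130174 : sm gh N10067 = N10954 := rfl
theorem L130176 : sm gb N10954 = N10087 := ded_22_1 (flp_h L122811) (flp_b L122644) L130174
theorem L130178 : sm gf N10954 = N10072 := ded_40_1 (flp_h L122679) (flp_f L122648) L130174
theorem L130180 : sm gd N10954 = N10751 := ded_33_1 (flp_h L128448) L121361 (flp_h L65056) (flp_d L122646) L130174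
theorem L130182 : sm gi N10954 = N10954 := ded_44_2 (flp_h L130174) (flp_i L122642) L65049 L122642 L130174
theorem L130183 : sm gd N10068 = N10955 := rfl
theorem L130185 : sm gb N10955 = N10955 := ded_18_1 (flp_d L130183) L122652 L130183
theorem L130186 : sm gg N10955 = N10955 := ded_32_2 (flp_d L130183) L122655 L130183
theorem L130187 : sm gc N10955 = N10371 := ded_24_1 (flp_d L125342) L67886 (flp_d L65069) (flp_c L122653) L130183
theorem L130189 : sm gf N10068 = N10956 := rfl
theorem L130191 : sm gb N10956 = N10956 := ded_20_1 (flp_f L130189) L122652 L130189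
theorem L130192 : sm gc N10956 = N10070 := ded_26_1 (flp_f L122663) (flp_c L122653) L130189
theorem L130194 : sm gh N10956 = N10956 := ded_40_2 (flp_f L130189) L122656 L130189
theorem L130195 : sm gi N10068 = N10957 := rfl
theorem L130197 : sm gb N10957 = N10957 := ded_23_1 (flp_i L130195) L122652 L130195
theorem L130198 : sm gc N10957 = N10071 := ded_29_1 (flp_i L122670) (flp_c L122653) L130195
theorem L130200 : sm ge N10957 = N10069 := ded_38_1 (flp_i L122657) L122650 L130195
theorem L130202 : sm gg N10957 = N10957 := ded_43_1 (flp_i L130195) L122655 L130195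
theorem L130203 : sm gh N10069 = N10958 := rfl
theorem L130205 : sm gb N10958 = N10958 := ded_22_1 (flp_h L130203) L122659 L130203
theorem L130206 : sm gc N10958 = N10072 := ded_28_1 (flp_h L122679) (flp_c L122660) L130203
theorem L130208 : sm gg N10958 = N10958 := ded_42_1 (flp_h L130203) L122662 L130203
theorem L130209 : sm gi N10958 = N10958 := ded_44_2 (flp_h L130203) (flp_i L122657) L65061 L122657 L130203
theorem L130210 : sm gg N10070 = N10959 := rfl
theorem L130212 : sm gb N10959 = N10088 := ded_21_1 (flp_g L122821) (flp_b L122665) L130210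
theorem L130214 : sm gd N10959 = N10375 := ded_32_1 (flp_g L125373) (flp_d L122667) L130210
theorem L130216 : sm gh N10959 = N10959 := ded_42_2 (flp_g L130210) L122669 L130210
theorem L130217 : sm gf N10959 = N10959 := ded_39_1 (flp_g L130210) (flp_f L122663) L65067 L122663 L130210
theorem L130218 : sm gi N10070 = N10960 := rfl
theorem L130220 : sm gb N10960 = N10089 := ded_23_1 (flp_i L122830) (flp_b L122665) L130218
theorem L130222 : sm gd N10960 = N10376 := ded_34_1 (flp_i L125380) (flp_d L122667) L130218
theorem L130224 : sm gf N10960 = N10071 := ded_41_1 (flp_i L122670) L122663 L130218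
theorem L130226 : sm gh N10071 = N10961 := rfl
theorem L130228 : sm gb N10961 = N10090 := ded_22_1 (flp_h L122839) (flp_b L122672) L130226
theorem L130230 : sm ge N10961 = N10072 := ded_37_1 (flp_h L122679) (flp_e L122676) L130226
theorem L130232 : sm gg N10961 = N10961 := ded_42_1 (flp_h L130226) L122678 L130226
theorem L130233 : sm gi N10961 = N10961 := ded_44_2 (flp_h L130226) (flp_i L122670) L65068 L122670 L130226
theorem L130234 : sm ge N10073 = N10962 := rfl
theorem L130236 : sm ga N10962 = N10096 := ded_12_1 (flp_e L122903) (flp_a L122689) L130234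
theorem L130238 : sm gc N10962 = N10144 := ded_25_1 (flp_e L123301) (flp_c L122691) L130234
theorem L130240 : sm gg N10962 = N10378 := ded_36_2 (flp_e L125395) (flp_g L122697) L130234
theorem L130242 : sm gi N10962 = N10154 := ded_38_2 (flp_e L123399) (flp_i L122695) L130234
theorem L130244 : sm gd N10962 = N10962 := ded_30_1 (flp_e L130234) L122693 L65106 (flp_d L122693) L130234
theorem L130245 : sm gf N10962 = N10962 := ded_35_2 (flp_e L130234) (flp_f L122687) L65086 L122687 L130234
theorem L130246 : sm gh N10073 = N10963 := rfl
theorem L130248 : sm ga N10963 = N10097 := ded_15_1 (flp_h L122915) (flp_a L122689) L130246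
theorem L130250 : sm gc N10963 = N10145 := ded_28_1 (flp_h L123312) (flp_c L122691) L130246
theorem L130252 : sm gf N10963 = N10074 := ded_40_1 (flp_h L122699) L122687 L130246
theorem L130254 : sm gg N10963 = N10379 := ded_42_1 (flp_h L125406) (flp_g L122697) L130246
theorem L130256 : sm gd N10074 = N10964 := rfl
theorem L130258 : sm ga N10964 = N10098 := ded_11_1 (flp_d L122923) (flp_a L122701) L130256
theorem L130260 : sm gg N10964 = N10075 := ded_32_2 (flp_d L122708) (flp_g L122706) L130256
theorem L130262 : sm gh N10964 = N10078 := ded_33_2 (flp_d L122738) (flp_h L65109) (flp_d L65084) L122699 L130256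
theorem L130264 : sm gi N10074 = N10965 := rfl
theorem L130266 : sm ga N10965 = N10099 := ded_16_1 (flp_i L122929) (flp_a L122701) L130264
theorem L130268 : sm gc N10965 = N10147 := ded_29_1 (flp_i L123332) (flp_c L122703) L130264
theorem L130270 : sm ge N10965 = N10965 := ded_38_1 (flp_i L130264) L122705 L130264
theorem L130271 : sm gg N10965 = N10076 := ded_43_1 (flp_i L122716) (flp_g L122706) L130264
theorem L130273 : sm gh N10965 = N10456 := ded_44_1 (flp_i L126047) L69301 (flp_i L102500) L122699 L130264
theorem L130275 : sm gc N10075 = N10966 := rfl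
theorem L130277 : sm ga N10966 = N10100 := ded_10_1 (flp_c L122938) (flp_a L122710) L130275
theorem L130279 : sm gf N10966 = N10382 := ded_26_2 (flp_c L125434) (flp_f L122712) L130275
theorem L130281 : sm gh N10966 = N10080 := ded_28_2 (flp_c L122756) (flp_h L122714) L130275
theorem L130283 : sm gd N10966 = N10148 := ded_24_2 (flp_c L123341) (flp_d L65649) (flp_c L65093) L122708 L130275
theorem L130285 : sm ge N10075 = N10967 := rfl
theorem L130287 : sm ga N10967 = N10101 := ded_12_1 (flp_e L122946) (flp_a L122710) L130285
theorem L130289 : sm gh N10967 = N10081 := ded_37_2 (flp_e L122764) (flp_h L122714) L130285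
theorem L130291 : sm gd N10967 = N10967 := ded_30_1 (flp_e L130285) (flp_d L122708) L65095 L122708 L130285
theorem L130292 : sm gi N10075 = N10968 := rfl
theorem L130294 : sm ga N10968 = N10102 := ded_16_1 (flp_i L122951) (flp_a L122710) L130292
theorem L130296 : sm gd N10968 = N10076 := ded_34_1 (flp_i L122716) L122708 L130292
theorem L130298 : sm gf N10968 = N10384 := ded_41_1 (flp_i L125452) (flp_f L122712) L130292
theorem L130300 : sm gd N10077 = N10969 := rfl
theorem L130302 : sm ga N10969 = N10103 := ded_11_1 (flp_d L122957) (flp_a L122729) L130300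
theorem L130304 : sm gf N10969 = N10078 := ded_31_2 (flp_d L122738) (flp_f L122734) L130300
theorem L130306 : sm gg N10969 = N10328 := ded_32_2 L125022 (flp_g L122736) L130300
theorem L130308 : sm gc N10969 = N10326 := ded_24_1 (flp_d L124998) L67377 (flp_d L104622) (flp_c L122731) L130300
theorem L130310 : sm gi N10077 = N10970 := rfl
theorem L130312 : sm ga N10970 = N10104 := ded_16_1 (flp_i L122965) (flp_a L122729) L130310
theorem L130314 : sm gc N10970 = N10091 := ded_29_1 (flp_i L122848) (flp_c L122731) L130310
theorem L130316 : sm ge N10970 = N10970 := ded_38_1 (flp_i L130310) L122733 L130310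
theorem L130317 : sm gf N10970 = N10079 := ded_41_1 (flp_i L122744) (flp_f L122734) L130310
theorem L130319 : sm gg N10970 = N10339 := ded_43_1 (flp_i L125117) (flp_g L122736) L130310
theorem L130321 : sm gh N10970 = N10095 := ded_44_1 (flp_i L122894) L65234 (flp_i L104368) L122727 L130310
theorem L130323 : sm gc N10078 = N10971 := rfl
theorem L130325 : sm ga N10971 = N10105 := ded_10_1 (flp_c L122976) (flp_a L122740) L130323
theorem L130327 : sm gf N10971 = N10326 := ded_26_2 (flp_c L130308) L130304 L130323
theorem L130329 : sm gg N10971 = N10080 := ded_27_2 (flp_c L122756) (flp_g L122742) L130323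
theorem L130331 : sm gd N10971 = N10092 := ded_24_2 (flp_c L122861) (flp_d L65208) (flp_c L65113) L122738 L130323
theorem L130333 : sm ge N10078 = N10972 := rfl
theorem L130335 : sm ga N10972 = N10106 := ded_12_1 (flp_e L122984) (flp_a L122740) L130333
theorem L130337 : sm gg N10972 = N10081 := ded_36_2 (flp_e L122764) (flp_g L122742) L130333
theorem L130339 : sm gd N10972 = N10083 := ded_30_1 (flp_e L122778) (flp_d L65137) (flp_e L65115) L122738 L130333
theorem L130341 : sm gi N10078 = N10973 := rfl
theorem L130343 : sm ga N10973 = N10107 := ded_16_1 (flp_i L122990) (flp_a L122740) L130341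
theorem L130345 : sm gd N10973 = N10079 := ded_34_1 (flp_i L122744) L122738 L130341
theorem L130347 : sm gg N10973 = N10082 := ded_43_1 (flp_i L122770) (flp_g L122742) L130341
theorem L130349 : sm gb N10080 = N10974 := rfl
theorem L130351 : sm gd N10974 = N10094 := ded_18_2 (flp_b L122887) (flp_d L122762) L130349
theorem L130353 : sm gf N10974 = N10387 := ded_20_2 (flp_b L125478) (flp_f L122760) L130349
theorem L130355 : sm ge N10080 = N10975 := rfl
theorem L130357 : sm ga N10975 = N10109 := ded_12_1 (flp_e L123002) (flp_a L122758) L130355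
theorem L130359 : sm gc N10975 = N10081 := ded_25_1 (flp_e L122764) L122756 L130355
theorem L130361 : sm gd N10975 = N10975 := ded_30_1 (flp_e L130355) L122762 L65231 (flp_d L122762) L130355
theorem L130362 : sm gi N10080 = N10976 := rfl
theorem L130364 : sm ga N10976 = N10110 := ded_16_1 (flp_i L123007) (flp_a L122758) L130362
theorem L130366 : sm gc N10976 = N10082 := ded_29_1 (flp_i L122770) L122756 L130362
theorem L130368 : sm gd N10976 = N10095 := ded_34_1 (flp_i L122894) (flp_d L122762) L130362
theorem L130370 : sm gf N10976 = N10389 := ded_41_1 (flp_i L125494) (flp_f L122760) L130362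
theorem L130372 : sm gf N10081 = N10977 := rfl
theorem L130374 : sm ga N10977 = N10111 := ded_13_1 (flp_f L123015) (flp_a L122766) L130372
theorem L130376 : sm gd N10977 = N10085 := ded_31_1 (flp_f L122796) (flp_d L122768) L130372
theorem L130378 : sm ge N10977 = N10390 := ded_35_1 (flp_f L125504) (flp_e L67981) (flp_f L65123) L122764 L130372
theorem L130380 : sm gi N10081 = N10978 := rfl
theorem L130382 : sm ga N10978 = N10112 := ded_16_1 (flp_i L123021) (flp_a L122766) L130380
theorem L130384 : sm gd N10978 = N10086 := ded_34_1 (flp_i L122804) (flp_d L122768) L130380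
theorem L130386 : sm ge N10978 = N10082 := ded_38_1 (flp_i L122770) L122764 L130380
theorem L130388 : sm gh N10082 = N10979 := rfl
theorem L130390 : sm ga N10979 = N10113 := ded_15_1 (flp_h L123027) (flp_a L122772) L130388
theorem L130392 : sm gf N10979 = N10392 := ded_40_1 (flp_h L125518) (flp_f L122776) L130388
theorem L130394 : sm gd N10979 = N10763 := ded_33_1 (flp_h L128533) L121423 (flp_h L65135) (flp_d L122774) L130388
theorem L130396 : sm gf N10083 = N10980 := rfl
theorem L130398 : sm ga N10980 = N10114 := ded_13_1 (flp_f L123033) (flp_a L122780) L130396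
theorem L130400 : sm gc N10980 = N10980 := ded_26_1 (flp_f L130396) L122782 L130396
theorem L130401 : sm gh N10980 = N10980 := ded_40_2 (flp_f L130396) L122785 L130396
theorem L130402 : sm ge N10980 = N10980 := ded_35_1 (flp_f L130396) (flp_e L122778) L65141 L122778 L130396
theorem L130403 : sm gi N10083 = N10981 := rfl
theorem L130405 : sm ga N10981 = N10115 := ded_16_1 (flp_i L123040) (flp_a L122780) L130403
theorem L130407 : sm gc N10981 = N10981 := ded_29_1 (flp_i L130403) L122782 L130403
theorem L130408 : sm ge N10981 = N10084 := ded_38_1 (flp_i L122786) L122778 L130403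
theorem L130410 : sm gg N10981 = N10086 := ded_43_1 (flp_i L122804) (flp_g L122783) L130403
theorem L130412 : sm gh N10084 = N10982 := rfl
theorem L130414 : sm ga N10982 = N10116 := ded_15_1 (flp_h L123047) (flp_a L122788) L130412
theorem L130416 : sm gc N10982 = N10982 := ded_28_1 (flp_h L130412) L122790 L130412
theorem L130417 : sm gf N10982 = N10982 := ded_40_1 (flp_h L130412) L122793 L130412
theorem L130418 : sm gg N10982 = N10087 := ded_42_1 (flp_h L122811) (flp_g L122794) L130412
theorem L130420 : sm gd N10982 = N10493 := ded_33_1 (flp_h L126367) L69936 L94098 (flp_d L122791) L130412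
theorem L130422 : sm gi N10982 = N10982 := ded_44_2 (flp_h L130412) (flp_i L122786) L65145 L122786 L130412
theorem L130423 : sm gg N10085 = N10983 := rfl
theorem L130425 : sm ga N10983 = N10117 := ded_14_1 (flp_g L123056) (flp_a L122798) L130423
theorem L130427 : sm gc N10983 = N10983 := ded_27_1 (flp_g L130423) L122800 L130423
theorem L130428 : sm ge N10983 = N10088 := ded_36_1 (flp_g L122821) (flp_e L122802) L130423
theorem L130430 : sm gh N10983 = N10983 := ded_42_2 (flp_g L130423) L122801 L130423
theorem L130431 : sm gi N10085 = N10984 := rfl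
theorem L130433 : sm ga N10984 = N10118 := ded_16_1 (flp_i L123062) (flp_a L122798) L130431
theorem L130435 : sm gc N10984 = N10984 := ded_29_1 (flp_i L130431) L122800 L130431
theorem L130436 : sm ge N10984 = N10089 := ded_38_1 (flp_i L122830) (flp_e L122802) L130431
theorem L130438 : sm gf N10984 = N10086 := ded_41_1 (flp_i L122804) L122796 L130431
theorem L130440 : sm gh N10086 = N10985 := rfl
theorem L130442 : sm ga N10985 = N10119 := ded_15_1 (flp_h L123069) (flp_a L122806) L130440
theorem L130444 : sm gc N10985 = N10985 := ded_28_1 (flp_h L130440) L122808 L130440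
theorem L130445 : sm ge N10985 = N10087 := ded_37_1 (flp_h L122811) (flp_e L122809) L130440
theorem L130447 : sm gi N10985 = N10985 := ded_44_2 (flp_h L130440) (flp_i L122804) L65162 L122804 L130440
theorem L130448 : sm gi N10088 = N10986 := rfl
theorem L130450 : sm ga N10986 = N10120 := ded_16_1 (flp_i L123075) (flp_a L122823) L130448
theorem L130452 : sm gc N10986 = N10986 := ded_29_1 (flp_i L130448) L122825 L130448
theorem L130453 : sm gd N10986 = N10399 := ded_34_1 (flp_i L125584) (flp_d L122826) L130448
theorem L130455 : sm gf N10986 = N10986 := ded_41_1 (flp_i L130448) L122829 L130448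
theorem L130456 : sm gg N10986 = N10089 := ded_43_1 (flp_i L122830) L122821 L130448
theorem L130458 : sm gh N10089 = N10987 := rfl
theorem L130460 : sm ga N10987 = N10121 := ded_15_1 (flp_h L123083) (flp_a L122832) L130458
theorem L130462 : sm gc N10987 = N10987 := ded_28_1 (flp_h L130458) L122834 L130458
theorem L130463 : sm gf N10987 = N10090 := ded_40_1 (flp_h L122839) (flp_f L122837) L130458
theorem L130465 : sm gi N10987 = N10987 := ded_44_2 (flp_h L130458) (flp_i L122830) L65179 L122830 L130458
theorem L130466 : sm gd N10090 = N10988 := rfl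
theorem L130468 : sm ga N10988 = N10122 := ded_11_1 (flp_d L123089) (flp_a L122841) L130466
theorem L130470 : sm gg N10988 = N10988 := ded_32_2 (flp_d L130466) L122846 L130466
theorem L130471 : sm gi N10988 = N10988 := ded_34_2 (flp_d L130466) L122847 L130466
theorem L130472 : sm ge N10988 = N10769 := ded_30_2 (flp_d L128583) L121473 (flp_d L65196) (flp_e L122844) L130466
theorem L130474 : sm gh N10988 = N10401 := ded_33_2 (flp_d L125603) (flp_h L68059) (flp_d L65185) L122839 L130466
theorem L130476 : sm gb N10092 = N10989 := rfl
theorem L130478 : sm ge N10989 = N10989 := ded_19_2 (flp_b L130476) L122865 L130476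
theorem L130479 : sm gf N10989 = N10311 := ded_20_2 L124865 (flp_f L122866) L130476
theorem L130481 : sm gg N10989 = N10094 := ded_21_2 (flp_b L122887) (flp_g L122868) L130476
theorem L130483 : sm gh N10989 = N10155 := ded_22_2 (flp_b L123409) (flp_h L122870) L130476
theorem L130485 : sm gc N10989 = N10941 := ded_17_2 L130084 L122731 L104620 L122861 L130476
theorem L130487 : sm gi N10092 = N10990 := rfl
theorem L130489 : sm ga N10990 = N10124 := ded_16_1 (flp_i L123108) (flp_a L122863) L130487
theorem L130491 : sm gc N10990 = N10093 := ded_29_1 (flp_i L122872) L122861 L130487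
theorem L130493 : sm ge N10990 = N10990 := ded_38_1 (flp_i L130487) L122865 L130487
theorem L130494 : sm gf N10990 = N10327 := ded_41_1 (flp_i L125004) (flp_f L122866) L130487
theorem L130496 : sm gg N10990 = N10095 := ded_43_1 (flp_i L122894) (flp_g L122868) L130487
theorem L130498 : sm gh N10990 = N10339 := ded_44_1 (flp_i L125117) L94206 (flp_i L104642) (flp_h L122870) L130487
theorem L130500 : sm ga N10094 = N10991 := rfl
theorem L130502 : sm ge N10991 = N10991 := ded_12_2 (flp_a L130500) L122889 L130500
theorem L130503 : sm gf N10991 = N10402 := ded_13_2 (flp_a L125610) (flp_f L122890) L130500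
theorem L130505 : sm gh N10991 = N10156 := ded_15_2 (flp_a L123420) (flp_h L122892) L130500
theorem L130507 : sm gb N10991 = N10125 := ded_9_2 (flp_a L123119) (flp_b L65407) (flp_a L65229) L122887 L130500
theorem L130509 : sm gi N10094 = N10992 := rfl
theorem L130511 : sm gb N10992 = N10095 := ded_23_1 (flp_i L122894) L122887 L130509
theorem L130513 : sm ge N10992 = N10992 := ded_38_1 (flp_i L130509) L122889 L130509
theorem L130514 : sm gf N10992 = N10403 := ded_41_1 (flp_i L125622) (flp_f L122890) L130509
theorem L130516 : sm gh N10096 = N10993 := rfl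
theorem L130518 : sm gb N10993 = N10587 := ded_22_1 (flp_h L127206) (flp_b L122905) L130516
theorem L130520 : sm gc N10993 = N10157 := ded_28_1 (flp_h L123427) (flp_c L122907) L130516
theorem L130522 : sm ge N10993 = N10097 := ded_37_1 (flp_h L122915) L122903 L130516
theorem L130524 : sm gf N10993 = N10993 := ded_40_1 (flp_h L130516) L122914 L130516
theorem L130525 : sm gg N10993 = N10404 := ded_42_1 (flp_h L125632) (flp_g L122909) L130516
theorem L130527 : sm gd N10185 = N10993 := ded_24_0 L130520 L123435 L66255 L66318 L123735
theorem L130529 : sm gd N10097 = N10994 := rfl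
theorem L130531 : sm gf N10994 = N10098 := ded_31_2 (flp_d L122923) (flp_f L122919) L130529
theorem L130533 : sm gg N10994 = N10340 := ded_32_2 L125132 (flp_g L122921) L130529
theorem L130535 : sm gc N10994 = N10221 := ded_24_1 L124115 L116570 (flp_d L84871) (flp_c L122917) L130529
theorem L130537 : sm ge N10994 = N10220 := ded_30_2 L124105 (flp_e L123737) L130527 L130522 L130529
theorem L130539 : sm gh N10994 = N10103 := ded_33_2 (flp_d L122957) (flp_h L65277) (flp_d L65249) L122915 L130529
theorem L130541 : sm gi N10097 = N10995 := rfl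
theorem L130543 : sm gc N10995 = N10158 := ded_29_1 (flp_i L123437) (flp_c L122917) L130541
theorem L130545 : sm gf N10995 = N10099 := ded_41_1 (flp_i L122929) (flp_f L122919) L130541
theorem L130547 : sm gg N10995 = N10405 := ded_43_1 (flp_i L125642) (flp_g L122921) L130541
theorem L130549 : sm gh N10995 = N10164 := ded_44_1 (flp_i L123507) L65851 L110615 L122915 L130541
theorem L130551 : sm gc N10098 = N10996 := rfl
theorem L130553 : sm gf N10996 = N10221 := ded_26_2 (flp_c L130535) L130531 L130551
theorem L130555 : sm gg N10996 = N10100 := ded_27_2 (flp_c L122938) (flp_g L122925) L130551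
theorem L130557 : sm gh N10996 = N10105 := ded_28_2 (flp_c L122976) (flp_h L122927) L130551
theorem L130559 : sm gd N10996 = N10159 := ded_24_2 (flp_c L123448) (flp_d L65832) (flp_c L65257) L122923 L130551
theorem L130561 : sm gb N10345 = N10996 := ded_20_3 L130553 L124109 L125159
theorem L130563 : sm ge N10731 = N10996 := ded_35_5 L130553 (flp_e L124107) L66620 L121250 L128313
theorem L130565 : sm ge N10098 = N10997 := rfl
theorem L130567 : sm gc N10997 = N10731 := ded_25_1 L130563 (flp_c L130551) L130565
theorem L130569 : sm gg N10997 = N10101 := ded_36_2 (flp_e L122946) (flp_g L122925) L130565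
theorem L130571 : sm gh N10997 = N10106 := ded_37_2 (flp_e L122984) (flp_h L122927) L130565
theorem L130573 : sm gd N10997 = N10997 := ded_30_1 (flp_e L130565) (flp_d L122923) L65259 L122923 L130565
theorem L130574 : sm gf N10997 = N10729 := ded_35_2 (flp_e L128302) (flp_f L124103) (flp_e L130537) L130531 L130565
theorem L130576 : sm gi N10098 = N10998 := rfl
theorem L130578 : sm gd N10998 = N10099 := ded_34_1 (flp_i L122929) L122923 L130576
theorem L130580 : sm gg N10998 = N10102 := ded_43_1 (flp_i L122951) (flp_g L122925) L130576
theorem L130582 : sm gb N10100 = N10999 := rfl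
theorem L130584 : sm gd N10999 = N10162 := ded_18_2 (flp_b L123483) (flp_d L122944) L130582
theorem L130586 : sm gf N10999 = N10408 := ded_20_2 (flp_b L125668) (flp_f L122940) L130582
theorem L130588 : sm gg N10999 = N10345 := ded_21_2 L130561 L130555 L130582
theorem L130590 : sm gh N10999 = N10108 := ded_22_2 (flp_b L122996) (flp_h L122942) L130582
theorem L130592 : sm ge N10773 = N10999 := ded_30_0 L130584 L123492 L67633 (flp_e L121502) (flp_d L128605)
theorem L130594 : sm ge N10100 = N11000 := rfl
theorem L130596 : sm gb N11000 = N10773 := ded_19_1 L130592 (flp_b L130582) L130594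
theorem L130598 : sm gc N11000 = N10101 := ded_25_1 (flp_e L122946) L122938 L130594
theorem L130600 : sm gg N11000 = N10731 := ded_36_2 L130563 L130555 L130594
theorem L130602 : sm gh N11000 = N10109 := ded_37_2 (flp_e L123002) (flp_h L122942) L130594
theorem L130604 : sm gd N11000 = N10734 := ded_30_1 L128336 (flp_d L123505) (flp_e L123494) (flp_d L122944) L130594
theorem L130606 : sm gi N10100 = N11001 := rfl
theorem L130608 : sm gc N11001 = N10102 := ded_29_1 (flp_i L122951) L122938 L130606
theorem L130610 : sm gd N11001 = N10164 := ded_34_1 (flp_i L123507) (flp_d L122944) L130606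
theorem L130612 : sm gf N11001 = N10410 := ded_41_1 (flp_i L125685) (flp_f L122940) L130606
theorem L130614 : sm gf N10101 = N11002 := rfl
theorem L130616 : sm gd N11002 = N11002 := ded_31_1 (flp_f L130614) L122950 L130614
theorem L130617 : sm gh N11002 = N10111 := ded_40_2 (flp_f L123015) (flp_h L122948) L130614
theorem L130619 : sm ge N11002 = N10411 := ded_35_1 (flp_f L125693) (flp_e L68160) (flp_f L65264) L122946 L130614
theorem L130621 : sm gi N10101 = N11003 := rfl
theorem L130623 : sm gd N11003 = N11003 := ded_34_1 (flp_i L130621) L122950 L130621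
theorem L130624 : sm ge N11003 = N10102 := ded_38_1 (flp_i L122951) L122946 L130621
theorem L130626 : sm gh N10102 = N11004 := rfl
theorem L130628 : sm gf N11004 = N10413 := ded_40_1 (flp_h L125705) (flp_f L122955) L130626
theorem L130630 : sm gd N11004 = N10772 := ded_33_1 (flp_h L128599) L121484 (flp_h L65275) (flp_d L122953) L130626
theorem L130632 : sm gi N11004 = N10113 := ded_44_2 (flp_h L123027) (flp_i L65310) (flp_h L65266) L122951 L130626
theorem L130634 : sm ge N10103 = N11005 := rfl
theorem L130636 : sm gc N11005 = N10216 := ded_25_1 L124062 (flp_c L122963) L130634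
theorem L130638 : sm gg N11005 = N10343 := ded_36_2 (flp_e L125146) (flp_g L122961) L130634
theorem L130640 : sm gh N11005 = N10220 := ded_37_2 (flp_e L130537) L130539 L130634
theorem L130642 : sm gd N11005 = N11005 := ded_30_1 (flp_e L130634) (flp_d L122957) L65281 L122957 L130634
theorem L130643 : sm gf N10726 = N11005 := ded_26_0 L130636 L124058 L128284
theorem L130645 : sm gi N10103 = N11006 := rfl
theorem L130647 : sm gc N11006 = N10342 := ded_29_1 (flp_i L125140) (flp_c L122963) L130645
theorem L130649 : sm gd N11006 = N10104 := ded_34_1 (flp_i L122965) L122957 L130645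
theorem L130651 : sm gf N11006 = N10107 := ded_41_1 (flp_i L122990) (flp_f L122959) L130645
theorem L130653 : sm gg N11006 = N10344 := ded_43_1 (flp_i L125151) (flp_g L122961) L130645
theorem L130655 : sm gb N10105 = N11007 := rfl
theorem L130657 : sm gd N11007 = N10123 := ded_18_2 (flp_b L123097) (flp_d L122982) L130655
theorem L130659 : sm gf N11007 = N10218 := ded_20_2 L124081 (flp_f L122978) L130655
theorem L130661 : sm gg N11007 = N10108 := ded_21_2 (flp_b L122996) (flp_g L122980) L130655
theorem L130663 : sm gh N11007 = N10345 := ded_22_2 L130561 L130557 L130655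
theorem L130665 : sm ge N10770 = N11007 := ded_35_5 L130659 L124085 L67541 L121477 L128589
theorem L130667 : sm ge N10105 = N11008 := rfl
theorem L130669 : sm gb N11008 = N10770 := ded_19_1 L130665 (flp_b L130655) L130667
theorem L130671 : sm gc N11008 = N10106 := ded_25_1 (flp_e L122984) L122976 L130667
theorem L130673 : sm gg N11008 = N10109 := ded_36_2 (flp_e L123002) (flp_g L122980) L130667
theorem L130675 : sm gh N11008 = N10731 := ded_37_2 L130563 L130557 L130667
theorem L130677 : sm gd N11008 = N11008 := ded_30_1 (flp_e L130667) L122982 L65393 (flp_d L122982) L130667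
theorem L130678 : sm gf N11008 = N10727 := ded_35_2 (flp_e L128289) (flp_f L124058) L124062 (flp_f L122978) L130667
theorem L130680 : sm gi N10105 = N11009 := rfl
theorem L130682 : sm gc N11009 = N10107 := ded_29_1 (flp_i L122990) L122976 L130680
theorem L130684 : sm gd N11009 = N10124 := ded_34_1 (flp_i L123108) (flp_d L122982) L130680
theorem L130686 : sm gf N11009 = N10342 := ded_41_1 (flp_i L125140) (flp_f L122978) L130680
theorem L130688 : sm gg N11009 = N10110 := ded_43_1 (flp_i L123007) (flp_g L122980) L130680
theorem L130690 : sm gf N10106 = N11010 := rfl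
theorem L130692 : sm gb N11010 = N10632 := ded_20_1 L129744 L129736 L130690
theorem L130694 : sm gc N11010 = N10727 := ded_26_1 (flp_f L130678) L130671 L130690
theorem L130696 : sm gd N11010 = N10114 := ded_31_1 (flp_f L123033) (flp_d L122988) L130690
theorem L130698 : sm gh N11010 = N10729 := ded_40_2 (flp_f L130574) L130571 L130690
theorem L130700 : sm ge N11010 = N10726 := ded_35_1 L130643 (flp_e L130634) L122959 L122984 L130690
theorem L130702 : sm gi N10106 = N11011 := rfl
theorem L130704 : sm gd N11011 = N10115 := ded_34_1 (flp_i L123040) (flp_d L122988) L130702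
theorem L130706 : sm ge N11011 = N10107 := ded_38_1 (flp_i L122990) L122984 L130702
theorem L130708 : sm gg N11011 = N10112 := ded_43_1 (flp_i L123021) (flp_g L122986) L130702
theorem L130710 : sm gh N10107 = N11012 := rfl
theorem L130712 : sm gg N11012 = N10113 := ded_42_1 (flp_h L123027) (flp_g L122994) L130710
theorem L130714 : sm gd N11012 = N10422 := ded_33_1 (flp_h L125769) L68213 (flp_h L92041) (flp_d L122992) L130710
theorem L130716 : sm ga N10108 = N11013 := rfl
theorem L130718 : sm gd N11013 = N10125 := ded_11_2 (flp_a L123119) (flp_d L122998) L130716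
theorem L130720 : sm gf N11013 = N10417 := ded_13_2 (flp_a L125731) (flp_f L123000) L130716
theorem L130722 : sm ge N10108 = N11014 := rfl
theorem L130724 : sm gb N11014 = N10109 := ded_19_1 (flp_e L123002) L122996 L130722
theorem L130726 : sm gg N11014 = N10770 := ded_36_2 L130665 L130661 L130722
theorem L130728 : sm gh N11014 = N10773 := ded_37_2 L130592 L130590 L130722
theorem L130730 : sm gd N11014 = N11014 := ded_30_1 (flp_e L130722) L122998 L65409 (flp_d L122998) L130722
theorem L130731 : sm gi N10108 = N11015 := rfl
theorem L130733 : sm gb N11015 = N10110 := ded_23_1 (flp_i L123007) L122996 L130731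
theorem L130735 : sm gd N11015 = N10126 := ded_34_1 (flp_i L123128) (flp_d L122998) L130731
theorem L130737 : sm gf N11015 = N10419 := ded_41_1 (flp_i L125745) (flp_f L123000) L130731
theorem L130739 : sm gf N10109 = N11016 := rfl
theorem L130741 : sm gc N11016 = N10111 := ded_26_1 (flp_f L123015) (flp_c L123004) L130739
theorem L130743 : sm gd N11016 = N11016 := ded_31_1 (flp_f L130739) L123006 L130739
theorem L130744 : sm ge N11016 = N10420 := ded_35_1 (flp_f L125753) (flp_e L68203) (flp_f L65302) L123002 L130739
theorem L130746 : sm gi N10109 = N11017 := rfl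
theorem L130748 : sm gc N11017 = N10112 := ded_29_1 (flp_i L123021) (flp_c L123004) L130746
theorem L130750 : sm gd N11017 = N11017 := ded_34_1 (flp_i L130746) L123006 L130746
theorem L130751 : sm ge N11017 = N10110 := ded_38_1 (flp_i L123007) L123002 L130746
theorem L130753 : sm gh N10110 = N11018 := rfl
theorem L130755 : sm gc N11018 = N10113 := ded_28_1 (flp_h L123027) (flp_c L123009) L130753
theorem L130757 : sm gf N11018 = N10422 := ded_40_1 (flp_h L125769) (flp_f L123013) L130753
theorem L130759 : sm gg N10111 = N11019 := rfl
theorem L130761 : sm gd N11019 = N10117 := ded_32_1 (flp_g L123056) (flp_d L123017) L130759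
theorem L130763 : sm ge N11019 = N10423 := ded_36_1 (flp_g L125775) (flp_e L123019) L130759
theorem L130765 : sm gi N10111 = N11020 := rfl
theorem L130767 : sm gd N11020 = N10118 := ded_34_1 (flp_i L123062) (flp_d L123017) L130765
theorem L130769 : sm ge N11020 = N10424 := ded_38_1 (flp_i L125779) (flp_e L123019) L130765
theorem L130771 : sm gf N11020 = N10112 := ded_41_1 (flp_i L123021) L123015 L130765
theorem L130773 : sm gh N10112 = N11021 := rfl
theorem L130775 : sm ge N11021 = N10113 := ded_37_1 (flp_h L123027) (flp_e L123025) L130773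
theorem L130777 : sm gg N10114 = N11022 := rfl
theorem L130779 : sm gb N11022 = N10692 := ded_21_1 L128014 (flp_b L123035) L130777
theorem L130781 : sm gc N11022 = N11022 := ded_27_1 (flp_g L130777) L123037 L130777
theorem L130782 : sm ge N11022 = N11022 := ded_36_1 (flp_g L130777) L123039 L130777
theorem L130783 : sm gh N11022 = N11022 := ded_42_2 (flp_g L130777) L123038 L130777
theorem L130784 : sm gf N11022 = N10117 := ded_39_1 (flp_g L123056) (flp_f L65330) (flp_g L65319) L123033 L130777
theorem L130786 : sm gi N10114 = N11023 := rfl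
theorem L130788 : sm gb N11023 = N10523 := ded_23_1 L126638 (flp_b L123035) L130786
theorem L130790 : sm gc N11023 = N11023 := ded_29_1 (flp_i L130786) L123037 L130786
theorem L130791 : sm ge N11023 = N11023 := ded_38_1 (flp_i L130786) L123039 L130786
theorem L130792 : sm gf N11023 = N10115 := ded_41_1 (flp_i L123040) L123033 L130786
theorem L130794 : sm gh N10115 = N11024 := rfl
theorem L130796 : sm gc N11024 = N11024 := ded_28_1 (flp_h L130794) L123042 L130794
theorem L130797 : sm ge N11024 = N10116 := ded_37_1 (flp_h L123047) (flp_e L123043) L130794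
theorem L130799 : sm gg N11024 = N10119 := ded_42_1 (flp_h L123069) (flp_g L123045) L130794
theorem L130801 : sm gi N11024 = N11024 := ded_44_2 (flp_h L130794) (flp_i L123040) L65321 L123040 L130794
theorem L130802 : sm gi N10117 = N11025 := rfl
theorem L130804 : sm gc N11025 = N11025 := ded_29_1 (flp_i L130802) L123058 L130802
theorem L130805 : sm ge N11025 = N10120 := ded_38_1 (flp_i L123075) (flp_e L123059) L130802
theorem L130807 : sm gg N11025 = N10118 := ded_43_1 (flp_i L123062) L123056 L130802
theorem L130809 : sm gh N10118 = N11026 := rfl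
theorem L130811 : sm gc N11026 = N11026 := ded_28_1 (flp_h L130809) L123064 L130809
theorem L130812 : sm ge N11026 = N10121 := ded_37_1 (flp_h L123083) (flp_e L123065) L130809
theorem L130814 : sm gf N11026 = N10119 := ded_40_1 (flp_h L123069) (flp_f L123067) L130809
theorem L130816 : sm gi N11026 = N11026 := ded_44_2 (flp_h L130809) (flp_i L123062) L65333 L123062 L130809
theorem L130817 : sm gd N10119 = N11027 := rfl
theorem L130819 : sm gi N11027 = N11027 := ded_34_2 (flp_d L130817) L123074 L130817
theorem L130820 : sm ge N11027 = N10778 := ded_30_2 (flp_d L128634) L121517 (flp_d L65346) (flp_e L123072) L130817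
theorem L130822 : sm gh N10120 = N11028 := rfl
theorem L130824 : sm gc N11028 = N11028 := ded_28_1 (flp_h L130822) L123077 L130822
theorem L130825 : sm gf N11028 = N11028 := ded_40_1 (flp_h L130822) L123080 L130822
theorem L130826 : sm gg N11028 = N10121 := ded_42_1 (flp_h L123083) (flp_g L123081) L130822
theorem L130828 : sm gi N11028 = N11028 := ded_44_2 (flp_h L130822) (flp_i L123075) L65354 L123075 L130822
theorem L130829 : sm gd N10121 = N11029 := rfl
theorem L130831 : sm gf N11029 = N10122 := ded_31_2 (flp_d L123089) (flp_f L123086) L130829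
theorem L130833 : sm gi N11029 = N11029 := ded_34_2 (flp_d L130829) L123088 L130829
theorem L130834 : sm gh N11029 = N10433 := ded_33_2 (flp_d L125848) (flp_h L68282) (flp_d L65359) L123083 L130829
theorem L130836 : sm gc N10122 = N11030 := rfl
theorem L130838 : sm ge N11030 = N10781 := ded_25_2 (flp_c L128650) (flp_e L123093) L130836
theorem L130840 : sm gg N11030 = N11030 := ded_27_2 (flp_c L130836) L123091 L130836
theorem L130841 : sm gh N11030 = N10434 := ded_28_2 (flp_c L125854) (flp_h L123095) L130836
theorem L130843 : sm gi N11030 = N11030 := ded_29_2 (flp_c L130836) L123092 L130836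
theorem L130844 : sm gd N11030 = N11030 := ded_24_2 (flp_c L130836) (flp_d L123089) L65365 L123089 L130836
theorem L130845 : sm ga N10123 = N11031 := rfl
theorem L130847 : sm gc N11031 = N10127 := ded_10_2 (flp_a L123137) (flp_c L123106) L130845
theorem L130849 : sm ge N11031 = N11031 := ded_12_2 (flp_a L130845) L123099 L130845
theorem L130850 : sm gf N11031 = N10203 := ded_13_2 L123923 (flp_f L123100) L130845
theorem L130852 : sm gg N11031 = N10125 := ded_14_2 (flp_a L123119) (flp_g L123102) L130845
theorem L130854 : sm gh N11031 = N10167 := ded_15_2 (flp_a L123531) (flp_h L123104) L130845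
theorem L130856 : sm gi N10123 = N11032 := rfl
theorem L130858 : sm gb N11032 = N10124 := ded_23_1 (flp_i L123108) L123097 L130856
theorem L130860 : sm gc N11032 = N10128 := ded_29_1 (flp_i L123148) (flp_c L123106) L130856
theorem L130862 : sm ge N11032 = N11032 := ded_38_1 (flp_i L130856) L123099 L130856
theorem L130863 : sm gf N11032 = N10219 := ded_41_1 (flp_i L124089) (flp_f L123100) L130856
theorem L130865 : sm gg N11032 = N10126 := ded_43_1 (flp_i L123128) (flp_g L123102) L130856
theorem L130867 : sm gh N11032 = N10283 := ded_44_1 (flp_i L124628) (flp_h L67043) (flp_i L104330) (flp_h L123104) L130856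
theorem L130869 : sm gi N10125 = N11033 := rfl
theorem L130871 : sm ga N11033 = N10126 := ded_16_1 (flp_i L123128) L123119 L130869
theorem L130873 : sm gc N11033 = N10129 := ded_29_1 (flp_i L123159) (flp_c L123121) L130869
theorem L130875 : sm ge N11033 = N11033 := ded_38_1 (flp_i L130869) L123123 L130869
theorem L130876 : sm gf N11033 = N10435 := ded_41_1 (flp_i L125861) (flp_f L123124) L130869
theorem L130878 : sm gi N10127 = N11034 := rfl
theorem L130880 : sm ga N11034 = N10128 := ded_16_1 (flp_i L123148) L123137 L130878
theorem L130882 : sm gb N11034 = N10888 := ded_23_1 (flp_i L129604) (flp_b L123146) L130878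
theorem L130884 : sm ge N11034 = N11034 := ded_38_1 (flp_i L130878) L123139 L130878
theorem L130885 : sm gf N11034 = N10213 := ded_41_1 (flp_i L124025) (flp_f L123140) L130878
theorem L130887 : sm gg N11034 = N10129 := ded_43_1 (flp_i L123159) (flp_g L123142) L130878
theorem L130889 : sm gh N11034 = N10270 := ded_44_1 (flp_i L124528) (flp_h L66978) (flp_i L103146) (flp_h L123144) L130878
theorem L130891 : sm gf N10130 = N11035 := rfl
theorem L130893 : sm ga N11035 = N11035 := ded_13_1 (flp_f L130891) L123168 L130891
theorem L130894 : sm gc N11035 = N10132 := ded_26_1 (flp_f L123182) (flp_c L123169) L130891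
theorem L130896 : sm gi N11035 = N10137 := ded_41_2 L123234 (flp_i L123172) L130891
theorem L130898 : sm gg N11035 = N10441 := ded_39_2 L125923 (flp_g L69182) (flp_f L65508) L123166 L130891
theorem L130900 : sm gh N10130 = N11036 := rfl
theorem L130902 : sm ga N11036 = N11036 := ded_15_1 (flp_h L130900) L123168 L130900
theorem L130903 : sm gc N11036 = N10133 := ded_28_1 (flp_h L123193) (flp_c L123169) L130900
theorem L130905 : sm ge N11036 = N11036 := ded_37_1 (flp_h L130900) L123171 L130900
theorem L130906 : sm gg N11036 = N10131 := ded_42_1 (flp_h L123174) L123166 L130900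
theorem L130908 : sm gd N10131 = N11037 := rfl
theorem L130910 : sm ga N11037 = N11037 := ded_11_1 (flp_d L130908) L123176 L130908
theorem L130911 : sm gf N11037 = N10449 := ded_31_2 (flp_d L125992) (flp_f L123180) L130908
theorem L130913 : sm gi N10131 = N11038 := rfl
theorem L130915 : sm ga N11038 = N11038 := ded_16_1 (flp_i L130913) L123176 L130913
theorem L130916 : sm gc N11038 = N10135 := ded_29_1 (flp_i L123210) (flp_c L123177) L130913
theorem L130918 : sm ge N11038 = N11038 := ded_38_1 (flp_i L130913) L123179 L130913
theorem L130919 : sm gf N11038 = N10450 := ded_41_1 (flp_i L125995) (flp_f L123180) L130913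
theorem L130921 : sm gh N11038 = N10783 := ded_44_1 (flp_i L128661) (flp_h L121538) (flp_i L65510) L123174 L130913
theorem L130923 : sm ge N10132 = N11039 := rfl
theorem L130925 : sm ga N11039 = N11039 := ded_12_1 (flp_e L130923) L123184 L130923
theorem L130926 : sm gb N11039 = N10144 := ded_19_1 (flp_e L123301) (flp_b L123185) L130923
theorem L130928 : sm gg N11039 = N10442 := ded_36_2 (flp_e L125927) (flp_g L123191) L130923
theorem L130930 : sm gi N11039 = N10138 := ded_38_2 (flp_e L123236) (flp_i L123189) L130923
theorem L130932 : sm gd N11039 = N10143 := ded_30_1 L123294 L65608 (flp_e L112121) (flp_d L123187) L130923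
theorem L130934 : sm gf N11039 = N11039 := ded_35_2 (flp_e L130923) (flp_f L123182) L65519 L123182 L130923
theorem L130935 : sm gh N10132 = N11040 := rfl
theorem L130937 : sm ga N11040 = N11040 := ded_15_1 (flp_h L130935) L123184 L130935
theorem L130938 : sm gb N11040 = N10145 := ded_22_1 (flp_h L123312) (flp_b L123185) L130935
theorem L130940 : sm gf N11040 = N10133 := ded_40_1 (flp_h L123193) L123182 L130935
theorem L130942 : sm gg N11040 = N10439 := ded_42_1 L125907 (flp_g L123191) L130935
theorem L130944 : sm gd N11040 = N10438 := ded_33_1 (flp_h L125891) L68463 (flp_h L102585) (flp_d L123187) L130935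
theorem L130946 : sm gd N10133 = N11041 := rfl
theorem L130948 : sm ga N11041 = N11041 := ded_11_1 (flp_d L130946) L123195 L130946
theorem L130949 : sm gb N11041 = N10146 := ded_18_1 (flp_d L123322) (flp_b L123196) L130946
theorem L130951 : sm gf N11041 = N10438 := ded_31_2 (flp_d L130944) L130940 L130946
theorem L130953 : sm gg N11041 = N10134 := ded_32_2 (flp_d L123201) (flp_g L123199) L130946
theorem L130955 : sm gh N11041 = N10136 := ded_33_2 (flp_d L123220) (flp_h L65541) (flp_d L65517) L123193 L130946
theorem L130957 : sm gi N10133 = N11042 := rfl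
theorem L130959 : sm ga N11042 = N11042 := ded_16_1 (flp_i L130957) L123195 L130957
theorem L130960 : sm gb N11042 = N10147 := ded_23_1 (flp_i L123332) (flp_b L123196) L130957
theorem L130962 : sm ge N11042 = N11042 := ded_38_1 (flp_i L130957) L123198 L130957
theorem L130963 : sm gg N11042 = N10135 := ded_43_1 (flp_i L123210) (flp_g L123199) L130957
theorem L130965 : sm gh N11042 = N10453 := ded_44_1 (flp_i L126021) L69218 (flp_i L102536) L123193 L130957
theorem L130967 : sm gc N10134 = N11043 := rfl
theorem L130969 : sm ga N11043 = N11043 := ded_10_1 (flp_c L130967) L123203 L130967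
theorem L130970 : sm gf N11043 = N10452 := ded_26_2 (flp_c L126013) (flp_f L123206) L130967
theorem L130972 : sm gh N11043 = N10137 := ded_28_2 (flp_c L123231) (flp_h L123208) L130967
theorem L130974 : sm ge N10134 = N11044 := rfl
theorem L130976 : sm ga N11044 = N11044 := ded_12_1 (flp_e L130974) L123203 L130974
theorem L130977 : sm gb N11044 = N10149 := ded_19_1 (flp_e L123349) (flp_b L123204) L130974
theorem L130979 : sm gh N11044 = N10138 := ded_37_2 (flp_e L123236) (flp_h L123208) L130974
theorem L130981 : sm gd N11044 = N11044 := ded_30_1 (flp_e L130974) (flp_d L123201) L65527 L123201 L130974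
theorem L130982 : sm gf N11044 = N11044 := ded_35_2 (flp_e L130974) L123206 L69217 (flp_f L123206) L130974
theorem L130983 : sm gi N10134 = N11045 := rfl
theorem L130985 : sm ga N11045 = N11045 := ded_16_1 (flp_i L130983) L123203 L130983
theorem L130986 : sm gb N11045 = N10150 := ded_23_1 (flp_i L123357) (flp_b L123204) L130983
theorem L130988 : sm gd N11045 = N10135 := ded_34_1 (flp_i L123210) L123201 L130983
theorem L130990 : sm gf N11045 = N10453 := ded_41_1 (flp_i L126021) (flp_f L123206) L130983
theorem L130992 : sm gc N10136 = N11046 := rfl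
theorem L130994 : sm ga N11046 = N11046 := ded_10_1 (flp_c L130992) L123222 L130992
theorem L130995 : sm gf N11046 = N10436 := ded_26_2 L125874 (flp_f L123225) L130992
theorem L130997 : sm gg N11046 = N10137 := ded_27_2 (flp_c L123231) (flp_g L123227) L130992
theorem L130999 : sm gi N11046 = N10441 := ded_29_2 (flp_c L125920) (flp_i L123229) L130992
theorem L131001 : sm gd N11046 = N11035 := ded_24_2 L130894 L123187 (flp_c L102589) L123220 L130992
theorem L131003 : sm ge N10136 = N11047 := rfl
theorem L131005 : sm ga N11047 = N11047 := ded_12_1 (flp_e L131003) L123222 L131003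
theorem L131006 : sm gb N11047 = N10152 := ded_19_1 (flp_e L123379) (flp_b L123223) L131003
theorem L131008 : sm gg N11047 = N10138 := ded_36_2 (flp_e L123236) (flp_g L123227) L131003
theorem L131010 : sm gi N11047 = N10442 := ded_38_2 (flp_e L125927) (flp_i L123229) L131003
theorem L131012 : sm gd N11047 = N10140 := ded_30_1 (flp_e L123255) (flp_d L65568) (flp_e L65546) L123220 L131003
theorem L131014 : sm gf N11047 = N10525 := ded_35_2 (flp_e L126651) L118607 (flp_e L68465) (flp_f L123225) L131003
theorem L131016 : sm gb N10137 = N11048 := rfl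
theorem L131018 : sm gf N11048 = N10454 := ded_20_2 (flp_b L126031) (flp_f L123234) L131016
theorem L131020 : sm gc N11048 = N10153 := ded_17_2 (flp_b L123393) (flp_c L65696) (flp_b L65553) L123231 L131016
theorem L131022 : sm ge N10137 = N11049 := rfl
theorem L131024 : sm ga N11049 = N11049 := ded_12_1 (flp_e L131022) L123233 L131022
theorem L131025 : sm gc N11049 = N10138 := ded_25_1 (flp_e L123236) L123231 L131022
theorem L131027 : sm gf N11049 = N11049 := ded_35_2 (flp_e L131022) L123234 L69256 (flp_f L123234) L131022
theorem L131028 : sm ge N10139 = N11050 := rfl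
theorem L131030 : sm ga N11050 = N11050 := ded_12_1 (flp_e L131028) L123246 L131028
theorem L131031 : sm gb N11050 = N11050 := ded_19_1 (flp_e L131028) L123254 L131028
theorem L131032 : sm gc N11050 = N10140 := ded_25_1 (flp_e L123255) L123244 L131028
theorem L131034 : sm gg N11050 = N10141 := ded_36_2 (flp_e L123267) (flp_g L123249) L131028
theorem L131036 : sm gh N11050 = N11050 := ded_37_2 (flp_e L131028) L123251 L131028
theorem L131037 : sm gi N11050 = N10443 := ded_38_2 (flp_e L125936) (flp_i L123252) L131028
theorem L131039 : sm gf N11050 = N10699 := ded_35_2 (flp_e L128074) (flp_f L121072) (flp_e L120736) (flp_f L123247) L131028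
theorem L131041 : sm gd N10141 = N11051 := rfl
theorem L131043 : sm ga N11051 = N11051 := ded_11_1 (flp_d L131041) L123269 L131041
theorem L131044 : sm gb N11051 = N11051 := ded_18_1 (flp_d L131041) L123270 L131041
theorem L131045 : sm gf N11051 = N11051 := ded_31_2 (flp_d L131041) L123274 L131041
theorem L131046 : sm ge N11051 = N10696 := ded_30_2 L128051 (flp_e L125936) L68554 L123267 L131041
theorem L131048 : sm gh N10693 = N11051 := ded_37_0 L131046 (flp_h L128045) (flp_e L128022)
theorem L131050 : sm gi N10141 = N11052 := rfl
theorem L131052 : sm ga N11052 = N11052 := ded_16_1 (flp_i L131050) L123269 L131050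
theorem L131053 : sm gb N11052 = N11052 := ded_23_1 (flp_i L131050) L123270 L131050
theorem L131054 : sm gc N11052 = N10143 := ded_29_1 (flp_i L123289) (flp_c L123271) L131050
theorem L131056 : sm ge N11052 = N10142 := ded_38_1 (flp_i L123275) L123267 L131050
theorem L131058 : sm gf N11052 = N11052 := ded_41_1 (flp_i L131050) L123274 L131050
theorem L131059 : sm gg N11052 = N10443 := ded_43_1 (flp_i L131037) L131034 L131050
theorem L131061 : sm gh N10640 = N11052 := ded_28_0 L131054 (flp_h L123299) (flp_c L127584)
theorem L131063 : sm gh N10144 = N11053 := rfl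
theorem L131065 : sm ga N11053 = N10157 := ded_15_1 (flp_h L123427) (flp_a L123303) L131063
theorem L131067 : sm ge N11053 = N10145 := ded_37_1 (flp_h L123312) L123301 L131063
theorem L131069 : sm gf N11053 = N11053 := ded_40_1 (flp_h L131063) L123311 L131063
theorem L131070 : sm gg N11053 = N10445 := ded_42_1 L125960 (flp_g L123305) L131063
theorem L131072 : sm gd N11053 = N10172 := ded_33_1 (flp_h L123590) L119154 (flp_h L111795) (flp_d L123309) L131063
theorem L131074 : sm gi N10145 = N11054 := rfl
theorem L131076 : sm ga N11054 = N10158 := ded_16_1 (flp_i L123437) (flp_a L123314) L131074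
theorem L131078 : sm gd N11054 = N10444 := ded_34_1 (flp_i L125946) (flp_d L123320) L131074
theorem L131080 : sm gf N11054 = N10147 := ded_41_1 (flp_i L123332) (flp_f L123316) L131074
theorem L131082 : sm gg N11054 = N10446 := ded_43_1 (flp_i L125966) (flp_g L123318) L131074
theorem L131084 : sm gh N11054 = N10150 := ded_44_1 (flp_i L123357) L65655 L110618 L123312 L131074
theorem L131086 : sm gc N10146 = N11055 := rfl
theorem L131088 : sm ga N11055 = N10159 := ded_10_1 (flp_c L123448) (flp_a L123324) L131086
theorem L131090 : sm gf N11055 = N10207 := ded_26_2 L123966 (flp_f L123326) L131086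
theorem L131092 : sm gg N11055 = N10148 := ded_27_2 (flp_c L123341) (flp_g L123328) L131086
theorem L131094 : sm gh N11055 = N10151 := ded_28_2 (flp_c L123365) (flp_h L123330) L131086
theorem L131096 : sm ge N10209 = N11055 := ded_12_0 L131088 (flp_e L123458) (flp_a L123988)
theorem L131098 : sm ge N10146 = N11056 := rfl
theorem L131100 : sm ga N11056 = N10160 := ded_12_1 (flp_e L123460) (flp_a L123324) L131098
theorem L131102 : sm gc N11056 = N10209 := ded_25_1 L131096 (flp_c L131086) L131098
theorem L131104 : sm gg N11056 = N10149 := ded_36_2 (flp_e L123349) (flp_g L123328) L131098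
theorem L131106 : sm gh N11056 = N10152 := ded_37_2 (flp_e L123379) (flp_h L123330) L131098
theorem L131108 : sm gd N11056 = N11056 := ded_30_1 (flp_e L131098) (flp_d L123322) L65646 L123322 L131098
theorem L131109 : sm gf N11056 = N10174 := ded_35_2 (flp_e L123614) L118625 (flp_e L68630) (flp_f L123326) L131098
theorem L131111 : sm gi N10146 = N11057 := rfl
theorem L131113 : sm ga N11057 = N10161 := ded_16_1 (flp_i L123472) (flp_a L123324) L131111
theorem L131115 : sm gd N11057 = N10147 := ded_34_1 (flp_i L123332) L123322 L131111
theorem L131117 : sm gf N11057 = N10444 := ded_41_1 (flp_i L125946) (flp_f L123326) L131111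
theorem L131119 : sm gg N11057 = N10150 := ded_43_1 (flp_i L123357) (flp_g L123328) L131111
theorem L131121 : sm gh N11057 = N10446 := ded_44_1 (flp_i L125966) L68640 (flp_i L102363) (flp_h L123330) L131111
theorem L131123 : sm gb N10148 = N11058 := rfl
theorem L131125 : sm gf N11058 = N10455 := ded_20_2 (flp_b L126040) (flp_f L123345) L131123
theorem L131127 : sm gh N11058 = N10153 := ded_22_2 (flp_b L123393) (flp_h L123347) L131123
theorem L131129 : sm ge N10148 = N11059 := rfl
theorem L131131 : sm ga N11059 = N10163 := ded_12_1 (flp_e L123494) (flp_a L123343) L131129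
theorem L131133 : sm gc N11059 = N10149 := ded_25_1 (flp_e L123349) L123341 L131129
theorem L131135 : sm gg N11059 = N10209 := ded_36_2 L131096 L131092 L131129
theorem L131137 : sm gh N11059 = N10154 := ded_37_2 (flp_e L123399) (flp_h L123347) L131129
theorem L131139 : sm gf N11059 = N11059 := ded_35_2 (flp_e L131129) L123345 L69300 (flp_f L123345) L131129
theorem L131140 : sm gd N10720 = N11059 := ded_11_0 L131131 L123505 (flp_a L128242)
theorem L131142 : sm gi N10148 = N11060 := rfl
theorem L131144 : sm ga N11060 = N10164 := ded_16_1 (flp_i L123507) (flp_a L123343) L131142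
theorem L131146 : sm gc N11060 = N10150 := ded_29_1 (flp_i L123357) L123341 L131142
theorem L131148 : sm gf N11060 = N10456 := ded_41_1 (flp_i L126047) (flp_f L123345) L131142
theorem L131150 : sm gi N10149 = N11061 := rfl
theorem L131152 : sm ga N11061 = N10165 := ded_16_1 (flp_i L123513) (flp_a L123351) L131150
theorem L131154 : sm gd N11061 = N11061 := ded_34_1 (flp_i L131150) L123355 L131150
theorem L131155 : sm ge N11061 = N10150 := ded_38_1 (flp_i L123357) L123349 L131150
theorem L131157 : sm gf N11061 = N11061 := ded_41_1 (flp_i L131150) L123356 L131150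
theorem L131158 : sm gb N10151 = N11062 := rfl
theorem L131160 : sm gd N11062 = N10155 := ded_18_2 (flp_b L123409) (flp_d L123375) L131158
theorem L131162 : sm ge N11062 = N10530 := ded_19_2 L126708 L123377 L131158
theorem L131164 : sm gf N11062 = N10309 := ded_20_2 L124847 (flp_f L123369) L131158
theorem L131166 : sm gg N11062 = N10153 := ded_21_2 (flp_b L123393) (flp_g L123371) L131158
theorem L131168 : sm gi N11062 = N10354 := ded_23_2 L125226 (flp_i L123373) L131158
theorem L131170 : sm ga N11062 = N10576 := ded_9_1 L127133 L72793 (flp_b L119457) (flp_a L123367) L131158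
theorem L131172 : sm ga N10153 = N11063 := rfl
theorem L131174 : sm gd N11063 = N10156 := ded_11_2 (flp_a L123420) (flp_d L123395) L131172
theorem L131176 : sm gf N11063 = N10457 := ded_13_2 (flp_a L126056) (flp_f L123397) L131172
theorem L131178 : sm gg N11063 = N10576 := ded_14_2 (flp_a L131170) L131166 L131172
theorem L131180 : sm gb N11063 = N10166 := ded_9_2 (flp_a L123520) (flp_b L65907) (flp_a L65698) L123393 L131172
theorem L131182 : sm ge N10581 = N11063 := ded_36_3 L131178 L127135 L127162
theorem L131184 : sm ge N10153 = N11064 := rfl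
theorem L131186 : sm ga N11064 = N10581 := ded_12_1 L131182 (flp_a L131172) L131184
theorem L131188 : sm gb N11064 = N10154 := ded_19_1 (flp_e L123399) L123393 L131184
theorem L131190 : sm gg N11064 = N10530 := ded_36_2 (flp_e L131162) L131166 L131184
theorem L131192 : sm gd N11064 = N11064 := ded_30_1 (flp_e L131184) L123395 L65794 (flp_d L123395) L131184
theorem L131193 : sm gf N11064 = N11064 := ded_35_2 (flp_e L131184) L123397 L69348 (flp_f L123397) L131184
theorem L131194 : sm ga N10155 = N11065 := rfl
theorem L131196 : sm gc N11065 = N10855 := ded_10_2 L129310 (flp_c L123418) L131194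
theorem L131198 : sm gd N11065 = N10576 := ded_11_2 (flp_a L131170) L131160 L131194
theorem L131200 : sm ge N11065 = N11065 := ded_12_2 (flp_a L131194) L123411 L131194
theorem L131201 : sm gf N11065 = N10194 := ded_13_2 L123820 (flp_f L123412) L131194
theorem L131203 : sm gg N11065 = N10156 := ded_14_2 (flp_a L123420) (flp_g L123414) L131194
theorem L131205 : sm gi N11065 = N10238 := ded_16_2 L124255 (flp_i L123416) L131194
theorem L131207 : sm gb N11065 = N10167 := ded_9_2 (flp_a L123531) (flp_b L66003) (flp_a L65778) L123409 L131194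
theorem L131209 : sm gi N10157 = N11066 := rfl
theorem L131211 : sm gb N11066 = N11066 := ded_23_1 (flp_i L131209) L123429 L131209
theorem L131212 : sm gd N11066 = N10180 := ded_34_1 (flp_i L123683) (flp_d L123435) L131209
theorem L131214 : sm ge N11066 = N10158 := ded_38_1 (flp_i L123437) (flp_e L123430) L131209
theorem L131216 : sm gf N11066 = N11066 := ded_41_1 (flp_i L131209) L123432 L131209
theorem L131217 : sm gg N11066 = N10447 := ded_43_1 (flp_i L125974) (flp_g L123433) L131209
theorem L131219 : sm gh N11066 = N10165 := ded_44_1 (flp_i L123513) L65856 L110612 L123427 L131209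
theorem L131221 : sm gi N10159 = N11067 := rfl
theorem L131223 : sm gb N11067 = N10348 := ded_23_1 (flp_i L125177) (flp_b L123456) L131221
theorem L131225 : sm gc N11067 = N10161 := ded_29_1 (flp_i L123472) L123448 L131221
theorem L131227 : sm ge N11067 = N10224 := ded_38_1 (flp_i L124137) L123458 L131221
theorem L131229 : sm gf N11067 = N10223 := ded_41_1 (flp_i L124125) (flp_f L123450) L131221
theorem L131231 : sm gg N11067 = N10164 := ded_43_1 (flp_i L123507) (flp_g L123452) L131221
theorem L131233 : sm gh N11067 = N10405 := ded_44_1 (flp_i L125642) (flp_h L68134) (flp_i L110604) (flp_h L123454) L131221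
theorem L131235 : sm gi N10160 = N11068 := rfl
theorem L131237 : sm gb N11068 = N11068 := ded_23_1 (flp_i L131235) L123462 L131235
theorem L131238 : sm gc N11068 = N10224 := ded_29_1 (flp_i L124137) (flp_c L123463) L131235
theorem L131240 : sm gd N11068 = N11068 := ded_34_1 (flp_i L131235) L123469 L131235
theorem L131241 : sm ge N11068 = N10161 := ded_38_1 (flp_i L123472) L123460 L131235
theorem L131243 : sm gf N11068 = N10181 := ded_41_1 (flp_i L123694) (flp_f L123470) L131235
theorem L131245 : sm gg N11068 = N10165 := ded_43_1 (flp_i L123513) (flp_g L123465) L131235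
theorem L131247 : sm gh N11068 = N10447 := ded_44_1 (flp_i L125974) L68875 (flp_i L106226) (flp_h L123467) L131235
theorem L131249 : sm ga N10162 = N11069 := rfl
theorem L131251 : sm gc N11069 = N11069 := ded_10_2 (flp_a L131249) L123491 L131249
theorem L131252 : sm ge N11069 = N10335 := ded_12_2 L125081 (flp_e L123492) L131249
theorem L131254 : sm gf N11069 = N10458 := ded_13_2 (flp_a L126065) (flp_f L123485) L131249
theorem L131256 : sm gg N11069 = N10332 := ded_14_2 L125052 (flp_g L123487) L131249
theorem L131258 : sm gh N11069 = N10166 := ded_15_2 (flp_a L123520) (flp_h L123489) L131249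
theorem L131260 : sm gi N10162 = N11070 := rfl
theorem L131262 : sm gb N11070 = N10164 := ded_23_1 (flp_i L123507) L123483 L131260
theorem L131264 : sm gc N11070 = N11070 := ded_29_1 (flp_i L131260) L123491 L131260
theorem L131265 : sm ge N11070 = N10349 := ded_38_1 (flp_i L125184) (flp_e L123492) L131260
theorem L131267 : sm gf N11070 = N10459 := ded_41_1 (flp_i L126073) (flp_f L123485) L131260
theorem L131269 : sm gg N11070 = N10348 := ded_43_1 (flp_i L125177) (flp_g L123487) L131260
theorem L131271 : sm gi N10163 = N11071 := rfl
theorem L131273 : sm gb N11071 = N10349 := ded_23_1 (flp_i L125184) (flp_b L123496) L131271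
theorem L131275 : sm gc N11071 = N10165 := ded_29_1 (flp_i L123513) (flp_c L123498) L131271
theorem L131277 : sm gd N11071 = N10737 := ded_34_1 (flp_i L128356) (flp_d L123505) L131271
theorem L131279 : sm ge N11071 = N10164 := ded_38_1 (flp_i L123507) L123494 L131271
theorem L131281 : sm gf N11071 = N11071 := ded_41_1 (flp_i L131271) L123504 L131271
theorem L131282 : sm gg N11071 = N10224 := ded_43_1 (flp_i L124137) (flp_g L123500) L131271
theorem L131284 : sm gh N10168 = N11072 := rfl
theorem L131286 : sm ga N11072 = N11072 := ded_15_1 (flp_h L131284) L123546 L131284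
theorem L131287 : sm gb N11072 = N10172 := ded_22_1 (flp_h L123590) (flp_b L123547) L131284
theorem L131289 : sm gc N11072 = N10814 := ded_28_1 (flp_h L128892) (flp_c L123549) L131284
theorem L131291 : sm ge N11072 = N10169 := ded_37_1 (flp_h L123557) L123544 L131284
theorem L131293 : sm gf N11072 = N11072 := ded_40_1 (flp_h L131284) L123556 L131284
theorem L131294 : sm gg N11072 = N10638 := ded_42_1 L127569 (flp_g L123551) L131284
theorem L131296 : sm gi N10169 = N11073 := rfl
theorem L131298 : sm ga N11073 = N11073 := ded_16_1 (flp_i L131296) L123559 L131296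
theorem L131299 : sm gb N11073 = N10173 := ded_23_1 (flp_i L123601) (flp_b L123560) L131296
theorem L131301 : sm gc N11073 = N10816 := ded_29_1 (flp_i L128912) (flp_c L123562) L131296
theorem L131303 : sm gd N11073 = N10636 := ded_34_1 (flp_i L127545) (flp_d L123568) L131296
theorem L131305 : sm gf N11073 = N10171 := ded_41_1 (flp_i L123580) (flp_f L123564) L131296
theorem L131307 : sm gg N11073 = N10639 := ded_43_1 (flp_i L127571) (flp_g L123566) L131296
theorem L131309 : sm gh N11073 = N11073 := ded_44_1 (flp_i L131296) (flp_h L123557) L66141 L123557 L131296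
theorem L131310 : sm gc N10170 = N11074 := rfl
theorem L131312 : sm ga N11074 = N11074 := ded_10_1 (flp_c L131310) L123572 L131310
theorem L131313 : sm gf N11074 = N10633 := ded_26_2 L127528 (flp_f L123575) L131310
theorem L131315 : sm gg N11074 = N11074 := ded_27_2 (flp_c L131310) L123577 L131310
theorem L131316 : sm gh N11074 = N10524 := ded_28_2 (flp_c L126640) (flp_h L123578) L131310
theorem L131318 : sm gb N11074 = N10199 := ded_17_1 (flp_c L123881) L66429 (flp_c L66182) (flp_b L123573) L131310
theorem L131320 : sm gd N11074 = N10817 := ded_24_2 (flp_c L128920) (flp_d L121745) (flp_c L66147) L123570 L131310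
theorem L131322 : sm ge N10170 = N11075 := rfl
theorem L131324 : sm ga N11075 = N11075 := ded_12_1 (flp_e L131322) L123572 L131322
theorem L131325 : sm gb N11075 = N10174 := ded_19_1 (flp_e L123614) (flp_b L123573) L131322
theorem L131327 : sm gg N11075 = N11075 := ded_36_2 (flp_e L131322) L123577 L131322
theorem L131328 : sm gh N11075 = N10525 := ded_37_2 (flp_e L126651) (flp_h L123578) L131322
theorem L131330 : sm gd N11075 = N11075 := ded_30_1 (flp_e L131322) (flp_d L123570) L66149 L123570 L131322
theorem L131331 : sm gi N10170 = N11076 := rfl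
theorem L131333 : sm ga N11076 = N11076 := ded_16_1 (flp_i L131331) L123572 L131331
theorem L131334 : sm gb N11076 = N10175 := ded_23_1 (flp_i L123624) (flp_b L123573) L131331
theorem L131336 : sm gd N11076 = N10171 := ded_34_1 (flp_i L123580) L123570 L131331
theorem L131338 : sm gf N11076 = N10636 := ded_41_1 (flp_i L127545) (flp_f L123575) L131331
theorem L131340 : sm gg N11076 = N11076 := ded_43_1 (flp_i L131331) L123577 L131331
theorem L131341 : sm gh N11076 = N10651 := ded_44_1 (flp_i L127665) (flp_h L74227) (flp_i L118610) (flp_h L123578) L131331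
theorem L131343 : sm gi N10172 = N11077 := rfl
theorem L131345 : sm ga N11077 = N10180 := ded_16_1 (flp_i L123683) (flp_a L123592) L131343
theorem L131347 : sm gc N11077 = N10178 := ded_29_1 (flp_i L123659) (flp_c L123594) L131343
theorem L131349 : sm ge N11077 = N10173 := ded_38_1 (flp_i L123601) (flp_e L123596) L131343
theorem L131351 : sm gf N11077 = N11077 := ded_41_1 (flp_i L131343) L123598 L131343
theorem L131352 : sm gg N11077 = N10642 := ded_43_1 (flp_i L127600) (flp_g L123599) L131343
theorem L131354 : sm gh N11077 = N11077 := ded_44_1 (flp_i L131343) (flp_h L123590) L66157 L123590 L131343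
theorem L131355 : sm gi N10174 = N11078 := rfl
theorem L131357 : sm ga N11078 = N10181 := ded_16_1 (flp_i L123694) (flp_a L123616) L131355
theorem L131359 : sm gc N11078 = N10210 := ded_29_1 (flp_i L123994) (flp_c L123618) L131355
theorem L131361 : sm gd N11078 = N11078 := ded_34_1 (flp_i L131355) L123623 L131355
theorem L131362 : sm ge N11078 = N10175 := ded_38_1 (flp_i L123624) L123614 L131355
theorem L131364 : sm gg N11078 = N11078 := ded_43_1 (flp_i L131355) L123620 L131355
theorem L131365 : sm gh N11078 = N10652 := ded_44_1 (flp_i L127674) (flp_h L74244) (flp_i L118690) (flp_h L123621) L131355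
theorem L131367 : sm gd N10176 = N11079 := rfl
theorem L131369 : sm ga N11079 = N10183 := ded_11_1 (flp_d L123715) (flp_a L123639) L131367
theorem L131371 : sm gb N11079 = N10828 := ded_18_1 (flp_d L129029) (flp_b L123641) L131367
theorem L131373 : sm gg N11079 = N10177 := ded_32_2 (flp_d L123649) (flp_g L123647) L131367
theorem L131375 : sm ge N11079 = N10212 := ded_30_2 (flp_d L124016) L66539 (flp_d L66223) (flp_e L123645) L131367
theorem L131377 : sm gh N11079 = N11079 := ded_33_2 (flp_d L131367) (flp_h L123637) L66201 L123637 L131367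
theorem L131378 : sm gi N10176 = N11080 := rfl
theorem L131380 : sm ga N11080 = N10184 := ded_16_1 (flp_i L123724) (flp_a L123639) L131378
theorem L131382 : sm gb N11080 = N10829 := ded_23_1 (flp_i L129042) (flp_b L123641) L131378
theorem L131384 : sm gc N11080 = N10642 := ded_29_1 (flp_i L127600) (flp_c L123643) L131378
theorem L131386 : sm ge N11080 = N10179 := ded_38_1 (flp_i L123669) (flp_e L123645) L131378
theorem L131388 : sm gg N11080 = N10178 := ded_43_1 (flp_i L123659) (flp_g L123647) L131378
theorem L131390 : sm gh N11080 = N11080 := ded_44_1 (flp_i L131378) (flp_h L123637) L66204 L123637 L131378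
theorem L131391 : sm gc N10177 = N11081 := rfl
theorem L131393 : sm ga N11081 = N10185 := ded_10_1 (flp_c L123735) (flp_a L123651) L131391
theorem L131395 : sm ge N11081 = N10214 := ded_25_2 (flp_c L124037) (flp_e L123656) L131391
theorem L131397 : sm gf N11081 = N11081 := ded_26_2 (flp_c L131391) L123655 L131391
theorem L131398 : sm gh N11081 = N11081 := ded_28_2 (flp_c L131391) L123658 L131391
theorem L131399 : sm gi N10177 = N11082 := rfl
theorem L131401 : sm ga N11082 = N10186 := ded_16_1 (flp_i L123741) (flp_a L123651) L131399
theorem L131403 : sm gb N11082 = N10831 := ded_23_1 (flp_i L129067) (flp_b L123653) L131399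
theorem L131405 : sm gd N11082 = N10178 := ded_34_1 (flp_i L123659) L123649 L131399
theorem L131407 : sm ge N11082 = N10215 := ded_38_1 (flp_i L124044) (flp_e L123656) L131399
theorem L131409 : sm gf N11082 = N11082 := ded_41_1 (flp_i L131399) L123655 L131399
theorem L131410 : sm gd N10182 = N11083 := rfl
theorem L131412 : sm gb N11083 = N10187 := ded_18_1 (flp_d L123750) (flp_b L123707) L131410
theorem L131414 : sm gf N11083 = N10183 := ded_31_2 (flp_d L123715) (flp_f L123712) L131410
theorem L131416 : sm gg N11083 = N11083 := ded_32_2 (flp_d L131410) L123714 L131410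
theorem L131417 : sm gc N11083 = N10534 := ded_24_1 (flp_d L126741) L118430 (flp_d L106262) (flp_c L123709) L131410
theorem L131419 : sm gh N11083 = N11083 := ded_33_2 (flp_d L131410) (flp_h L123705) L66306 L123705 L131410
theorem L131420 : sm ge N10572 = N11083 := ded_47_3 (flp_d L131410) L123709 L74062 L74063 L112417 (flp_f L54156) (flp_e L39658) (flp_d L29057) L21323 L15676 (flp_h L11540) L11532 L120261 (flp_e L120219) L12796 L12795 (flp_b L17340) (flp_h L120210) L20486 L120207 L17350 L12790 (flp_c L17320) L17319 (flp_h L17317) (flp_g L12747) (flp_f L9390) L6941 (flp_d L9072) (flp_c L9065) L6704 L6729 (flp_g L7897) (flp_f L10733) (flp_e L14571) (flp_d L108921) (flp_c L26383) (flp_b L35977) L49089 (flp_g L64926) L64924 L47518 (flp_d L47291) (flp_c L64529) L64528 (flp_h L64526) (flp_g L47239) (flp_f L34662) L25454 L25458 (flp_c L25452) L18747 L18767 L18771 (flp_f L25500) (flp_e L34718) L47316 L64630 L122015 L122021 (flp_g L129233) L129231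
theorem L131422 : sm gi N10182 = N11084 := rfl
theorem L131424 : sm gb N11084 = N10188 := ded_23_1 (flp_i L123758) (flp_b L123707) L131422
theorem L131426 : sm gc N11084 = N10643 := ded_29_1 (flp_i L127607) (flp_c L123709) L131422
theorem L131428 : sm ge N11084 = N11084 := ded_38_1 (flp_i L131422) L123711 L131422
theorem L131429 : sm gf N11084 = N10184 := ded_41_1 (flp_i L123724) (flp_f L123712) L131422
theorem L131431 : sm gg N11084 = N11084 := ded_43_1 (flp_i L131422) L123714 L131422
theorem L131432 : sm gh N11084 = N11084 := ded_44_1 (flp_i L131422) (flp_h L123705) L66307 L123705 L131422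
theorem L131433 : sm gc N10183 = N11085 := rfl
theorem L131435 : sm ge N11085 = N10226 := ded_25_2 (flp_c L124156) (flp_e L123721) L131433
theorem L131437 : sm gf N11085 = N10534 := ded_26_2 (flp_c L131417) L131414 L131433
theorem L131439 : sm gg N11085 = N10185 := ded_27_2 (flp_c L123735) (flp_g L123719) L131433
theorem L131441 : sm gh N11085 = N11085 := ded_28_2 (flp_c L131433) L123723 L131433
theorem L131442 : sm gb N11085 = N10588 := ded_17_1 (flp_c L129891) L129889 L122490 (flp_b L123717) L131433
theorem L131444 : sm gd N11085 = N10404 := ded_24_2 L125636 L68877 (flp_c L119128) L123715 L131433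
theorem L131446 : sm gi N10183 = N11086 := rfl
theorem L131448 : sm gb N11086 = N10189 := ded_23_1 (flp_i L123768) (flp_b L123717) L131446
theorem L131450 : sm gd N11086 = N10184 := ded_34_1 (flp_i L123724) L123715 L131446
theorem L131452 : sm ge N11086 = N10227 := ded_38_1 (flp_i L124161) (flp_e L123721) L131446
theorem L131454 : sm gg N11086 = N10186 := ded_43_1 (flp_i L123741) (flp_g L123719) L131446
theorem L131456 : sm gb N10185 = N11087 := rfl
theorem L131458 : sm gd N11087 = N10587 := ded_18_2 (flp_b L130518) (flp_d L130527) L131456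
theorem L131460 : sm ge N11087 = N10228 := ded_19_2 (flp_b L124169) (flp_e L123737) L131456
theorem L131462 : sm gf N11087 = N11087 := ded_20_2 (flp_b L131456) L123739 L131456
theorem L131463 : sm gg N11087 = N10588 := ded_21_2 (flp_b L131442) L131439 L131456
theorem L131465 : sm gh N11087 = N11087 := ded_22_2 (flp_b L131456) L123740 L131456
theorem L131466 : sm gc N11087 = N10190 := ded_17_2 (flp_b L123778) (flp_c L66372) (flp_b L66320) L123735 L131456
theorem L131468 : sm gi N10185 = N11088 := rfl
theorem L131470 : sm gc N11088 = N10186 := ded_29_1 (flp_i L123741) L123735 L131468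
theorem L131472 : sm ge N11088 = N10229 := ded_38_1 (flp_i L124176) (flp_e L123737) L131468
theorem L131474 : sm gf N11088 = N11088 := ded_41_1 (flp_i L131468) L123739 L131468
theorem L131475 : sm gh N10186 = N11089 := rfl
theorem L131477 : sm gb N11089 = N10192 := ded_22_1 (flp_h L123795) (flp_b L123743) L131475
theorem L131479 : sm ge N11089 = N10230 := ded_37_1 (flp_h L124182) (flp_e L123747) L131475
theorem L131481 : sm gf N11089 = N11089 := ded_40_1 (flp_h L131475) L123749 L131475
theorem L131482 : sm gd N11089 = N11089 := ded_33_1 (flp_h L131475) L123745 L66333 (flp_d L123745) L131475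
theorem L131483 : sm gi N11089 = N11089 := ded_44_2 (flp_h L131475) (flp_i L123741) L66325 L123741 L131475
theorem L131484 : sm gi N10187 = N11090 := rfl
theorem L131486 : sm ga N11090 = N10845 := ded_16_1 (flp_i L129217) (flp_a L123752) L131484
theorem L131488 : sm gd N11090 = N10188 := ded_34_1 (flp_i L123758) L123750 L131484
theorem L131490 : sm gf N11090 = N10189 := ded_41_1 (flp_i L123768) (flp_f L123754) L131484
theorem L131492 : sm gg N11090 = N11090 := ded_43_1 (flp_i L131484) L123756 L131484
theorem L131493 : sm gh N10189 = N11091 := rfl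
theorem L131495 : sm ga N11091 = N10848 := ded_15_1 (flp_h L129247) (flp_a L123770) L131493
theorem L131497 : sm ge N11091 = N10231 := ded_37_1 (flp_h L124191) (flp_e L123774) L131493
theorem L131499 : sm gg N11091 = N10192 := ded_42_1 (flp_h L123795) (flp_g L123776) L131493
theorem L131501 : sm gd N11091 = N11091 := ded_33_1 (flp_h L131493) L123772 L66371 (flp_d L123772) L131493
theorem L131502 : sm gi N11091 = N11091 := ded_44_2 (flp_h L131493) (flp_i L123768) L66361 L123768 L131493
theorem L131503 : sm ga N10190 = N11092 := rfl
theorem L131505 : sm gd N11092 = N11092 := ded_11_2 (flp_a L131503) L123780 L131503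
theorem L131506 : sm ge N11092 = N10232 := ded_12_2 (flp_a L124200) (flp_e L123781) L131503
theorem L131508 : sm gf N11092 = N11092 := ded_13_2 (flp_a L131503) L123783 L131503
theorem L131509 : sm gh N11092 = N11092 := ded_15_2 (flp_a L131503) L123784 L131503
theorem L131510 : sm gb N11092 = N10849 := ded_9_2 (flp_a L129255) (flp_b L122015) (flp_a L66374) L123778 L131503
theorem L131512 : sm gi N10190 = N11093 := rfl
theorem L131514 : sm gb N11093 = N10191 := ded_23_1 (flp_i L123785) L123778 L131512
theorem L131516 : sm gd N11093 = N11093 := ded_34_1 (flp_i L131512) L123780 L131512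
theorem L131517 : sm ge N11093 = N10233 := ded_38_1 (flp_i L124209) (flp_e L123781) L131512
theorem L131519 : sm gf N11093 = N11093 := ded_41_1 (flp_i L131512) L123783 L131512
theorem L131520 : sm gh N10191 = N11094 := rfl
theorem L131522 : sm ga N11094 = N10851 := ded_15_1 (flp_h L129270) (flp_a L123787) L131520
theorem L131524 : sm gc N11094 = N10192 := ded_28_1 (flp_h L123795) (flp_c L123789) L131520
theorem L131526 : sm ge N11094 = N10234 := ded_37_1 (flp_h L124217) (flp_e L123792) L131520
theorem L131528 : sm gf N11094 = N11094 := ded_40_1 (flp_h L131520) L123794 L131520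
theorem L131529 : sm gi N11094 = N11094 := ded_44_2 (flp_h L131520) (flp_i L123785) L66379 L123785 L131520
theorem L131530 : sm gc N10193 = N11095 := rfl
theorem L131532 : sm ga N11095 = N10308 := ded_10_1 (flp_c L124831) (flp_a L123806) L131530
theorem L131534 : sm ge N11095 = N10526 := ded_25_2 (flp_c L126661) (flp_e L123814) L131530
theorem L131536 : sm gf N11095 = N10700 := ded_26_2 (flp_c L128086) (flp_f L123810) L131530
theorem L131538 : sm gg N11095 = N10575 := ded_27_2 L127129 L123816 L131530
theorem L131540 : sm gi N11095 = N10235 := ded_29_2 (flp_c L124226) (flp_i L123812) L131530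
theorem L131542 : sm gb N11095 = N11095 := ded_17_1 (flp_c L131530) L123808 L66455 (flp_b L123808) L131530
theorem L131543 : sm gd N11095 = N10852 := ded_24_2 (flp_c L129278) (flp_d L122037) (flp_c L66396) L123804 L131530
theorem L131545 : sm gh N10193 = N11096 := rfl
theorem L131547 : sm ga N11096 = N10310 := ded_15_1 (flp_h L124855) (flp_a L123806) L131545
theorem L131549 : sm gb N11096 = N10202 := ded_22_1 (flp_h L123910) (flp_b L123808) L131545
theorem L131551 : sm ge N11096 = N10314 := ded_37_1 L124900 (flp_e L123814) L131545
theorem L131553 : sm gf N11096 = N10701 := ded_40_1 (flp_h L128094) (flp_f L123810) L131545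
theorem L131555 : sm gg N11096 = N10317 := ded_42_1 L124926 L123816 L131545
theorem L131557 : sm gh N10194 = N11097 := rfl
theorem L131559 : sm ga N11097 = N10311 := ded_15_1 (flp_h L124863) (flp_a L123820) L131557
theorem L131561 : sm gb N11097 = N10203 := ded_22_1 (flp_h L123921) (flp_b L123822) L131557
theorem L131563 : sm gc N11097 = N10856 := ded_28_1 (flp_h L129319) (flp_c L123824) L131557
theorem L131565 : sm ge N11097 = N10196 := ded_37_1 (flp_h L123844) (flp_e L123828) L131557
theorem L131567 : sm gg N11097 = N10195 := ded_42_1 (flp_h L123832) L123818 L131557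
theorem L131569 : sm gd N10195 = N11098 := rfl
theorem L131571 : sm ga N11098 = N10312 := ded_11_1 (flp_d L124873) (flp_a L123834) L131569
theorem L131573 : sm gb N11098 = N10204 := ded_18_1 (flp_d L123931) (flp_b L123836) L131569
theorem L131575 : sm gf N11098 = N10702 := ded_31_2 (flp_d L128101) (flp_f L123842) L131569
theorem L131577 : sm gi N10195 = N11099 := rfl
theorem L131579 : sm ga N11099 = N10313 := ded_16_1 (flp_i L124879) (flp_a L123834) L131577
theorem L131581 : sm gb N11099 = N10205 := ded_23_1 (flp_i L123937) (flp_b L123836) L131577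
theorem L131583 : sm gc N11099 = N10858 := ded_29_1 (flp_i L129337) (flp_c L123838) L131577
theorem L131585 : sm ge N11099 = N10198 := ded_38_1 (flp_i L123869) (flp_e L123840) L131577
theorem L131587 : sm gf N11099 = N10703 := ded_41_1 (flp_i L128107) (flp_f L123842) L131577
theorem L131589 : sm gh N11099 = N10241 := ded_44_1 (flp_i L124278) (flp_h L66814) (flp_i L66398) L123832 L131577
theorem L131591 : sm gi N10196 = N11100 := rfl
theorem L131593 : sm ga N11100 = N10315 := ded_16_1 (flp_i L124902) (flp_a L123846) L131591
theorem L131595 : sm gb N11100 = N10206 := ded_23_1 (flp_i L123949) (flp_b L123848) L131591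
theorem L131597 : sm gc N11100 = N10860 := ded_29_1 (flp_i L129359) (flp_c L123850) L131591
theorem L131599 : sm gd N11100 = N10574 := ded_34_1 (flp_i L127119) (flp_d L123855) L131591
theorem L131601 : sm gf N11100 = N11100 := ded_41_1 (flp_i L131591) L123852 L131591
theorem L131602 : sm gg N11100 = N10198 := ded_43_1 (flp_i L123869) (flp_g L123853) L131591
theorem L131604 : sm gh N11100 = N10243 := ded_44_1 (flp_i L124297) (flp_h L66822) (flp_i L66412) L123844 L131591
theorem L131606 : sm gc N10197 = N11101 := rfl
theorem L131608 : sm ga N11101 = N10316 := ded_10_1 (flp_c L124913) (flp_a L123859) L131606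
theorem L131610 : sm gf N11101 = N10199 := ded_26_2 (flp_c L123881) (flp_f L123863) L131606
theorem L131612 : sm gg N11101 = N10573 := ded_27_2 L127116 (flp_g L123865) L131606
theorem L131614 : sm gh N11101 = N10527 := ded_28_2 (flp_c L126672) (flp_h L123867) L131606
theorem L131616 : sm gb N11101 = N10633 := ded_17_1 L127528 L73736 (flp_c L119482) (flp_b L123861) L131606
theorem L131618 : sm gd N11101 = N10861 := ded_24_2 (flp_c L129370) (flp_d L122077) (flp_c L66421) L123857 L131606
theorem L131620 : sm ge N10197 = N11102 := rfl
theorem L131622 : sm ga N11102 = N10317 := ded_12_1 (flp_e L124922) (flp_a L123859) L131620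
theorem L131624 : sm gb N11102 = N10207 := ded_19_1 (flp_e L123962) (flp_b L123861) L131620
theorem L131626 : sm gg N11102 = N10310 := ded_36_2 L124859 (flp_g L123865) L131620
theorem L131628 : sm gh N11102 = N10309 := ded_37_2 L124851 (flp_h L123867) L131620
theorem L131630 : sm gi N10197 = N11103 := rfl
theorem L131632 : sm ga N11103 = N10318 := ded_16_1 (flp_i L124928) (flp_a L123859) L131630
theorem L131634 : sm gb N11103 = N10208 := ded_23_1 (flp_i L123972) (flp_b L123861) L131630
theorem L131636 : sm gd N11103 = N10198 := ded_34_1 (flp_i L123869) L123857 L131630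
theorem L131638 : sm gf N11103 = N10201 := ded_41_1 (flp_i L123901) (flp_f L123863) L131630
theorem L131640 : sm gg N11103 = N10574 := ded_43_1 (flp_i L127119) (flp_g L123865) L131630
theorem L131642 : sm gh N11103 = N10593 := ded_44_1 (flp_i L127245) (flp_h L73198) (flp_i L118731) (flp_h L123867) L131630
theorem L131644 : sm ge N10199 = N11104 := rfl
theorem L131646 : sm ga N11104 = N10319 := ded_12_1 (flp_e L124936) (flp_a L123883) L131644
theorem L131648 : sm gc N11104 = N10200 := ded_25_1 (flp_e L123890) L123881 L131644
theorem L131650 : sm gg N11104 = N11104 := ded_36_2 (flp_e L131644) L123885 L131644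
theorem L131651 : sm gh N11104 = N10528 := ded_37_2 (flp_e L126685) (flp_h L123886) L131644
theorem L131653 : sm gi N10199 = N11105 := rfl
theorem L131655 : sm ga N11105 = N10320 := ded_16_1 (flp_i L124944) (flp_a L123883) L131653
theorem L131657 : sm gc N11105 = N10201 := ded_29_1 (flp_i L123901) L123881 L131653
theorem L131659 : sm gd N11105 = N10865 := ded_34_1 (flp_i L129402) (flp_d L123888) L131653
theorem L131661 : sm gg N11105 = N11105 := ded_43_1 (flp_i L131653) L123885 L131653
theorem L131662 : sm gf N10200 = N11106 := rfl
theorem L131664 : sm ga N11106 = N10321 := ded_13_1 (flp_f L124952) (flp_a L123892) L131662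
theorem L131666 : sm gb N11106 = N10209 := ded_20_1 (flp_f L123986) (flp_b L123894) L131662
theorem L131668 : sm gd N11106 = N10709 := ded_31_1 (flp_f L128163) (flp_d L123899) L131662
theorem L131670 : sm gh N11106 = N10530 := ded_40_2 (flp_f L126704) (flp_h L123897) L131662
theorem L131672 : sm gi N10200 = N11107 := rfl
theorem L131674 : sm ga N11107 = N10322 := ded_16_1 (flp_i L124960) (flp_a L123892) L131672
theorem L131676 : sm gb N11107 = N10210 := ded_23_1 (flp_i L123994) (flp_b L123894) L131672
theorem L131678 : sm gd N11107 = N10710 := ded_34_1 (flp_i L128170) (flp_d L123899) L131672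
theorem L131680 : sm ge N11107 = N10201 := ded_38_1 (flp_i L123901) L123890 L131672
theorem L131682 : sm gg N11107 = N11107 := ded_43_1 (flp_i L131672) L123896 L131672
theorem L131683 : sm gh N10201 = N11108 := rfl
theorem L131685 : sm ga N11108 = N10323 := ded_15_1 (flp_h L124969) (flp_a L123903) L131683
theorem L131687 : sm gb N11108 = N10211 := ded_22_1 (flp_h L124003) (flp_b L123905) L131683
theorem L131689 : sm gf N11108 = N10593 := ded_40_1 (flp_h L131642) L131638 L131683
theorem L131691 : sm gg N11108 = N11108 := ded_42_1 (flp_h L131683) L123909 L131683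
theorem L131692 : sm gd N11108 = N10251 := ded_33_1 (flp_h L124368) L66872 (flp_h L66445) (flp_d L123907) L131683
theorem L131694 : sm gi N11108 = N10532 := ded_44_2 (flp_h L126721) (flp_i L71571) (flp_h L66432) L123901 L131683
theorem L131696 : sm gd N10202 = N11109 := rfl
theorem L131698 : sm ga N11109 = N10216 := ded_11_1 (flp_d L124054) (flp_a L123912) L131696
theorem L131700 : sm gf N11109 = N10712 := ded_31_2 (flp_d L128187) (flp_f L123917) L131696
theorem L131702 : sm gg N11109 = N10329 := ded_32_2 L125028 (flp_g L123919) L131696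
theorem L131704 : sm ge N11109 = N10326 := ded_30_2 (flp_d L124998) L67379 L67401 (flp_e L123915) L131696
theorem L131706 : sm gh N11109 = N10204 := ded_33_2 (flp_d L123931) (flp_h L66468) L66447 L123910 L131696
theorem L131708 : sm gi N10202 = N11110 := rfl
theorem L131710 : sm ga N11110 = N10217 := ded_16_1 (flp_i L124066) (flp_a L123912) L131708
theorem L131712 : sm gc N11110 = N11110 := ded_29_1 (flp_i L131708) L123914 L131708
theorem L131713 : sm ge N11110 = N10331 := ded_38_1 (flp_i L125038) (flp_e L123915) L131708
theorem L131715 : sm gf N11110 = N10713 := ded_41_1 (flp_i L128193) (flp_f L123917) L131708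
theorem L131717 : sm gg N11110 = N10333 := ded_43_1 (flp_i L125059) (flp_g L123919) L131708
theorem L131719 : sm gh N11110 = N10255 := ded_44_1 (flp_i L124403) (flp_h L66884) (flp_i L66453) L123910 L131708
theorem L131721 : sm gd N10203 = N11111 := rfl
theorem L131723 : sm ga N11111 = N10218 := ded_11_1 (flp_d L124079) (flp_a L123923) L131721
theorem L131725 : sm gg N11111 = N10204 := ded_32_2 (flp_d L123931) (flp_g L123929) L131721
theorem L131727 : sm ge N11111 = N10324 := ded_30_2 (flp_d L124978) L67358 (flp_d L118223) (flp_e L123927) L131721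
theorem L131729 : sm gh N11111 = N10329 := ded_33_2 L125028 L67427 (flp_d L118229) L123921 L131721
theorem L131731 : sm gi N10203 = N11112 := rfl
theorem L131733 : sm ga N11112 = N10219 := ded_16_1 (flp_i L124089) (flp_a L123923) L131731
theorem L131735 : sm gc N11112 = N10213 := ded_29_1 (flp_i L124025) (flp_c L123925) L131731
theorem L131737 : sm ge N11112 = N10206 := ded_38_1 (flp_i L123949) (flp_e L123927) L131731
theorem L131739 : sm gg N11112 = N10205 := ded_43_1 (flp_i L123937) (flp_g L123929) L131731
theorem L131741 : sm gh N11112 = N10258 := ded_44_1 (flp_i L124425) (flp_h L66898) (flp_i L66466) L123921 L131731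
theorem L131743 : sm gc N10204 = N11113 := rfl
theorem L131745 : sm ga N11113 = N10220 := ded_10_1 (flp_c L124101) (flp_a L123933) L131743
theorem L131747 : sm gf N11113 = N10714 := ded_26_2 (flp_c L128199) (flp_f L123935) L131743
theorem L131749 : sm gd N11113 = N10214 := ded_24_2 (flp_c L124037) (flp_d L66543) (flp_c L66472) L123931 L131743
theorem L131751 : sm ge N10204 = N11114 := rfl
theorem L131753 : sm ga N11114 = N10221 := ded_12_1 (flp_e L124107) (flp_a L123933) L131751
theorem L131755 : sm gg N11114 = N10324 := ded_36_2 (flp_e L131727) L131725 L131751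
theorem L131757 : sm gh N11114 = N10326 := ded_37_2 (flp_e L131704) L131706 L131751
theorem L131759 : sm gd N11114 = N10207 := ded_30_1 (flp_e L123962) (flp_d L66487) (flp_e L66474) L123931 L131751
theorem L131761 : sm gi N10204 = N11115 := rfl
theorem L131763 : sm ga N11115 = N10222 := ded_16_1 (flp_i L124117) (flp_a L123933) L131761
theorem L131765 : sm gd N11115 = N10205 := ded_34_1 (flp_i L123937) L123931 L131761
theorem L131767 : sm gf N11115 = N10716 := ded_41_1 (flp_i L128211) (flp_f L123935) L131761
theorem L131769 : sm gi N10207 = N11116 := rfl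
theorem L131771 : sm ga N11116 = N10223 := ded_16_1 (flp_i L124125) (flp_a L123964) L131769
theorem L131773 : sm gc N11116 = N10444 := ded_29_1 (flp_i L125946) (flp_c L123966) L131769
theorem L131775 : sm ge N11116 = N10208 := ded_38_1 (flp_i L123972) L123962 L131769
theorem L131777 : sm gg N11116 = N10325 := ded_43_1 (flp_i L124986) (flp_g L123968) L131769
theorem L131779 : sm gh N11116 = N10381 := ded_44_1 (flp_i L125424) (flp_h L67926) (flp_i L67350) (flp_h L123970) L131769
theorem L131781 : sm gi N10209 = N11117 := rfl
theorem L131783 : sm ga N11117 = N10224 := ded_16_1 (flp_i L124137) (flp_a L123988) L131781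
theorem L131785 : sm gd N11117 = N10721 := ded_34_1 (flp_i L128247) (flp_d L123990) L131781
theorem L131787 : sm gf N11117 = N10210 := ded_41_1 (flp_i L123994) L123986 L131781
theorem L131789 : sm gh N10210 = N11118 := rfl
theorem L131791 : sm ga N11118 = N10225 := ded_15_1 (flp_h L124145) (flp_a L123996) L131789
theorem L131793 : sm gc N11118 = N10652 := ded_28_1 (flp_h L131365) L131359 L131789
theorem L131795 : sm ge N11118 = N10211 := ded_37_1 (flp_h L124003) (flp_e L124000) L131789
theorem L131797 : sm gg N11118 = N11118 := ded_42_1 (flp_h L131789) L124002 L131789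
theorem L131798 : sm gi N11118 = N10533 := ded_44_2 (flp_h L126732) (flp_i L71666) (flp_h L66510) L123994 L131789
theorem L131800 : sm gc N10212 = N11119 := rfl
theorem L131802 : sm ga N11119 = N10226 := ded_10_1 (flp_c L124156) (flp_a L124018) L131800
theorem L131804 : sm gg N11119 = N10214 := ded_27_2 (flp_c L124037) (flp_g L124022) L131800
theorem L131806 : sm gh N11119 = N11119 := ded_28_2 (flp_c L131800) L124024 L131800
theorem L131807 : sm gi N10212 = N11120 := rfl
theorem L131809 : sm ga N11120 = N10227 := ded_16_1 (flp_i L124161) (flp_a L124018) L131807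
theorem L131811 : sm gb N11120 = N10890 := ded_23_1 (flp_i L129624) (flp_b L124020) L131807
theorem L131813 : sm gd N11120 = N10213 := ded_34_1 (flp_i L124025) L124016 L131807
theorem L131815 : sm gg N11120 = N10215 := ded_43_1 (flp_i L124044) (flp_g L124022) L131807
theorem L131817 : sm gb N10214 = N11121 := rfl
theorem L131819 : sm gf N11121 = N10723 := ded_20_2 (flp_b L128263) (flp_f L124041) L131817
theorem L131821 : sm gh N11121 = N11121 := ded_22_2 (flp_b L131817) L124043 L131817
theorem L131822 : sm gc N11121 = N10891 := ded_17_2 (flp_b L129632) (flp_c L122260) (flp_b L66547) L124037 L131817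
theorem L131824 : sm gi N10214 = N11122 := rfl
theorem L131826 : sm ga N11122 = N10229 := ded_16_1 (flp_i L124176) (flp_a L124039) L131824
theorem L131828 : sm gc N11122 = N10215 := ded_29_1 (flp_i L124044) L124037 L131824
theorem L131830 : sm gf N11122 = N10724 := ded_41_1 (flp_i L128269) (flp_f L124041) L131824
theorem L131832 : sm gh N10215 = N11123 := rfl
theorem L131834 : sm ga N11123 = N10230 := ded_15_1 (flp_h L124182) (flp_a L124046) L131832
theorem L131836 : sm gb N11123 = N10893 := ded_22_1 (flp_h L129645) (flp_b L124048) L131832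
theorem L131838 : sm gf N11123 = N10725 := ded_40_1 (flp_h L128276) (flp_f L124052) L131832
theorem L131840 : sm gd N11123 = N10275 := ded_33_1 (flp_h L124565) L67011 (flp_h L66562) (flp_d L124050) L131832
theorem L131842 : sm gi N11123 = N11123 := ded_44_2 (flp_h L131832) (flp_i L124044) L66551 L124044 L131832
theorem L131843 : sm gi N10216 = N11124 := rfl
theorem L131845 : sm gb N11124 = N10341 := ded_23_1 (flp_i L125134) (flp_b L124056) L131843
theorem L131847 : sm gd N11124 = N10217 := ded_34_1 (flp_i L124066) L124054 L131843
theorem L131849 : sm ge N11124 = N10342 := ded_38_1 (flp_i L125140) (flp_e L124062) L131843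
theorem L131851 : sm gf N11124 = N10728 := ded_41_1 (flp_i L128296) (flp_f L124058) L131843
theorem L131853 : sm gg N11124 = N10346 := ded_43_1 (flp_i L125165) (flp_g L124060) L131843
theorem L131855 : sm gc N10218 = N11125 := rfl
theorem L131857 : sm ge N11125 = N10340 := ded_25_2 (flp_c L125126) (flp_e L124085) L131855
theorem L131859 : sm gg N11125 = N10220 := ded_27_2 (flp_c L124101) (flp_g L124083) L131855
theorem L131861 : sm gh N11125 = N10343 := ded_28_2 L125148 (flp_h L124087) L131855
theorem L131863 : sm gd N11125 = N10226 := ded_24_2 (flp_c L124156) (flp_d L66703) (flp_c L66610) L124079 L131855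
theorem L131865 : sm gi N10218 = N11126 := rfl
theorem L131867 : sm gb N11126 = N10342 := ded_23_1 (flp_i L125140) (flp_b L124081) L131865
theorem L131869 : sm gd N11126 = N10219 := ded_34_1 (flp_i L124089) L124079 L131865
theorem L131871 : sm ge N11126 = N10341 := ded_38_1 (flp_i L125134) (flp_e L124085) L131865
theorem L131873 : sm gg N11126 = N10222 := ded_43_1 (flp_i L124117) (flp_g L124083) L131865
theorem L131875 : sm gb N10220 = N11127 := rfl
theorem L131877 : sm gd N11127 = N10228 := ded_18_2 (flp_b L124169) (flp_d L124105) L131875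
theorem L131879 : sm gf N11127 = N10284 := ded_20_2 L124641 (flp_f L124103) L131875
theorem L131881 : sm gc N11127 = N10282 := ded_17_2 L124624 (flp_c L67578) (flp_b L66618) L124101 L131875
theorem L131883 : sm gi N10220 = N11128 := rfl
theorem L131885 : sm gc N11128 = N10222 := ded_29_1 (flp_i L124117) L124101 L131883
theorem L131887 : sm gd N11128 = N10229 := ded_34_1 (flp_i L124176) (flp_d L124105) L131883
theorem L131889 : sm gf N11128 = N10730 := ded_41_1 (flp_i L128307) (flp_f L124103) L131883
theorem L131891 : sm gi N10221 = N11129 := rfl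
theorem L131893 : sm gb N11129 = N10346 := ded_23_1 (flp_i L125165) (flp_b L124109) L131891
theorem L131895 : sm gd N11129 = N10223 := ded_34_1 (flp_i L124125) (flp_d L124115) L131891
theorem L131897 : sm ge N11129 = N10222 := ded_38_1 (flp_i L124117) L124107 L131891
theorem L131899 : sm gg N11129 = N10341 := ded_43_1 (flp_i L125134) (flp_g L124111) L131891
theorem L131901 : sm gh N10222 = N11130 := rfl
theorem L131903 : sm gb N11130 = N10347 := ded_22_1 (flp_h L125171) (flp_b L124119) L131901
theorem L131905 : sm gf N11130 = N10733 := ded_40_1 (flp_h L128327) (flp_f L124123) L131901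
theorem L131907 : sm gd N11130 = N10292 := ded_33_1 (flp_h L124696) L67082 (flp_h L66632) (flp_d L124121) L131901
theorem L131909 : sm gh N10224 = N11131 := rfl
theorem L131911 : sm gb N11131 = N10350 := ded_22_1 (flp_h L125192) (flp_b L124139) L131909
theorem L131913 : sm gc N11131 = N10447 := ded_28_1 (flp_h L131247) L131238 L131909
theorem L131915 : sm ge N11131 = N10405 := ded_37_1 (flp_h L131233) L131227 L131909
theorem L131917 : sm gf N11131 = N10225 := ded_40_1 (flp_h L124145) (flp_f L124143) L131909
theorem L131919 : sm gi N11131 = N10404 := ded_44_2 (flp_h L125632) L118439 (flp_h L66674) L124137 L131909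
theorem L131921 : sm gd N10225 = N11132 := rfl
theorem L131923 : sm gb N11132 = N10351 := ded_18_1 (flp_d L125199) (flp_b L124147) L131921
theorem L131925 : sm gg N11132 = N11132 := ded_32_2 (flp_d L131921) L124153 L131921
theorem L131926 : sm gi N11132 = N10534 := ded_34_2 (flp_d L126741) (flp_i L124154) L131921
theorem L131928 : sm ge N11132 = N10300 := ded_30_2 (flp_d L124765) L67148 (flp_d L66690) (flp_e L124151) L131921
theorem L131930 : sm gh N11132 = N10739 := ded_33_2 (flp_d L128372) (flp_h L121299) (flp_d L66680) L124145 L131921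
theorem L131932 : sm gi N10226 = N11133 := rfl
theorem L131934 : sm gc N11133 = N10227 := ded_29_1 (flp_i L124161) L124156 L131932
theorem L131936 : sm gg N11133 = N10229 := ded_43_1 (flp_i L124176) (flp_g L124158) L131932
theorem L131938 : sm gh N10227 = N11134 := rfl
theorem L131940 : sm gb N11134 = N10231 := ded_22_1 (flp_h L124191) (flp_b L124163) L131938
theorem L131942 : sm gg N11134 = N10230 := ded_42_1 (flp_h L124182) (flp_g L124167) L131938
theorem L131944 : sm gd N11134 = N10302 := ded_33_1 (flp_h L124781) L67177 (flp_h L66718) (flp_d L124165) L131938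
theorem L131946 : sm gi N11134 = N11134 := ded_44_2 (flp_h L131938) (flp_i L124161) L66709 L124161 L131938
theorem L131947 : sm ga N10228 = N11135 := rfl
theorem L131949 : sm gc N11135 = N10232 := ded_10_2 (flp_a L124200) (flp_c L124174) L131947
theorem L131951 : sm gf N11135 = N10271 := ded_13_2 L124539 (flp_f L124171) L131947
theorem L131953 : sm gh N11135 = N11135 := ded_15_2 (flp_a L131947) L124173 L131947
theorem L131954 : sm gi N10228 = N11136 := rfl
theorem L131956 : sm gb N11136 = N10229 := ded_23_1 (flp_i L124176) L124169 L131954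
theorem L131958 : sm gc N11136 = N10233 := ded_29_1 (flp_i L124209) (flp_c L124174) L131954
theorem L131960 : sm gf N11136 = N10301 := ded_41_1 (flp_i L124772) (flp_f L124171) L131954
theorem L131962 : sm gh N10229 = N11137 := rfl
theorem L131964 : sm gc N11137 = N10230 := ded_28_1 (flp_h L124182) (flp_c L124178) L131962
theorem L131966 : sm gf N11137 = N10740 := ded_40_1 (flp_h L128378) (flp_f L124180) L131962
theorem L131968 : sm gi N11137 = N11137 := ded_44_2 (flp_h L131962) (flp_i L124176) L66724 L124176 L131962
theorem L131969 : sm gi N10232 = N11138 := rfl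
theorem L131971 : sm ga N11138 = N10233 := ded_16_1 (flp_i L124209) L124200 L131969
theorem L131973 : sm gb N11138 = N10933 := ded_23_1 (flp_i L130015) (flp_b L124207) L131969
theorem L131975 : sm gd N11138 = N10270 := ded_34_1 (flp_i L124528) (flp_d L124202) L131969
theorem L131977 : sm gf N11138 = N10272 := ded_41_1 (flp_i L124545) (flp_f L124204) L131969
theorem L131979 : sm gh N10233 = N11139 := rfl
theorem L131981 : sm gb N11139 = N10234 := ded_22_1 (flp_h L124217) (flp_b L124211) L131979
theorem L131983 : sm gf N11139 = N10302 := ded_40_1 (flp_h L124781) (flp_f L124215) L131979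
theorem L131985 : sm gi N11139 = N11139 := ded_44_2 (flp_h L131979) (flp_i L124209) L66778 L124209 L131979
theorem L131986 : sm gg N10235 = N11140 := rfl
theorem L131988 : sm ga N11140 = N10352 := ded_14_1 (flp_g L125208) (flp_a L124228) L131986
theorem L131990 : sm gb N11140 = N11140 := ded_21_1 (flp_g L131986) L124232 L131986
theorem L131991 : sm gc N11140 = N10236 := ded_27_1 (flp_g L124233) L124226 L131986
theorem L131993 : sm ge N11140 = N10535 := ded_36_1 (flp_g L126749) (flp_e L124230) L131986
theorem L131995 : sm gi N11140 = N10575 := ded_43_2 (flp_g L131538) L131540 L131986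
theorem L131997 : sm gh N10235 = N11141 := rfl
theorem L131999 : sm ga N11141 = N10353 := ded_15_1 (flp_h L125216) (flp_a L124228) L131997
theorem L132001 : sm gb N11141 = N11141 := ded_22_1 (flp_h L131997) L124232 L131997
theorem L132002 : sm gc N11141 = N10237 := ded_28_1 (flp_h L124245) L124226 L131997
theorem L132004 : sm ge N11141 = N10536 := ded_37_1 (flp_h L126761) (flp_e L124230) L131997
theorem L132006 : sm gf N10236 = N11142 := rfl
theorem L132008 : sm ga N11142 = N10354 := ded_13_1 (flp_f L125224) (flp_a L124235) L132006
theorem L132010 : sm gb N11142 = N10252 := ded_20_1 (flp_f L124377) (flp_b L124237) L132006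
theorem L132012 : sm gd N11142 = N10238 := ded_31_1 (flp_f L124253) (flp_d L124239) L132006
theorem L132014 : sm gi N11142 = N10576 := ded_41_2 (flp_f L127131) (flp_i L124243) L132006
theorem L132016 : sm ge N11142 = N10582 := ded_35_1 L127173 L72681 (flp_f L118794) (flp_e L124241) L132006
theorem L132018 : sm gh N10236 = N11143 := rfl
theorem L132020 : sm ga N11143 = N10355 := ded_15_1 (flp_h L125230) (flp_a L124235) L132018
theorem L132022 : sm gb N11143 = N10253 := ded_22_1 (flp_h L124388) (flp_b L124237) L132018
theorem L132024 : sm ge N11143 = N10537 := ded_37_1 (flp_h L126769) (flp_e L124241) L132018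
theorem L132026 : sm gg N11143 = N10237 := ded_42_1 (flp_h L124245) L124233 L132018
theorem L132028 : sm gd N10237 = N11144 := rfl
theorem L132030 : sm ga N11144 = N10356 := ded_11_1 (flp_d L125238) (flp_a L124247) L132028
theorem L132032 : sm gb N11144 = N10254 := ded_18_1 (flp_d L124397) (flp_b L124249) L132028
theorem L132034 : sm gh N11144 = N10240 := ded_33_2 (flp_d L124272) (flp_h L66814) L66798 L124245 L132028
theorem L132036 : sm gi N10237 = N11145 := rfl
theorem L132038 : sm ga N11145 = N10357 := ded_16_1 (flp_i L125244) (flp_a L124247) L132036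
theorem L132040 : sm gb N11145 = N10255 := ded_23_1 (flp_i L124403) (flp_b L124249) L132036
theorem L132042 : sm ge N11145 = N10539 := ded_38_1 (flp_i L126792) (flp_e L124251) L132036
theorem L132044 : sm gh N10238 = N11146 := rfl
theorem L132046 : sm ga N11146 = N10338 := ded_15_1 L125113 (flp_a L124255) L132044
theorem L132048 : sm gb N11146 = N10256 := ded_22_1 (flp_h L124410) (flp_b L124257) L132044
theorem L132050 : sm gc N11146 = N10991 := ded_28_1 L130505 (flp_c L124259) L132044
theorem L132052 : sm ge N11146 = N11146 := ded_37_1 (flp_h L132044) L124261 L132044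
theorem L132053 : sm gf N11146 = N10239 := ded_40_1 (flp_h L124262) L124253 L132044
theorem L132055 : sm gd N10239 = N11147 := rfl
theorem L132057 : sm ga N11147 = N10358 := ded_11_1 (flp_d L125250) (flp_a L124264) L132055
theorem L132059 : sm gb N11147 = N10257 := ded_18_1 (flp_d L124419) (flp_b L124266) L132055
theorem L132061 : sm gg N11147 = N10240 := ded_32_2 (flp_d L124272) (flp_g L124270) L132055
theorem L132063 : sm gi N10239 = N11148 := rfl
theorem L132065 : sm ga N11148 = N10359 := ded_16_1 (flp_i L125256) (flp_a L124264) L132063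
theorem L132067 : sm gb N11148 = N10258 := ded_23_1 (flp_i L124425) (flp_b L124266) L132063
theorem L132069 : sm ge N11148 = N10243 := ded_38_1 (flp_i L124297) (flp_e L124268) L132063
theorem L132071 : sm gg N11148 = N10241 := ded_43_1 (flp_i L124278) (flp_g L124270) L132063
theorem L132073 : sm gc N10240 = N11149 := rfl
theorem L132075 : sm ga N11149 = N10360 := ded_10_1 (flp_c L125264) (flp_a L124274) L132073
theorem L132077 : sm ge N10240 = N11150 := rfl
theorem L132079 : sm ga N11150 = N10361 := ded_12_1 (flp_e L125266) (flp_a L124274) L132077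
theorem L132081 : sm gb N11150 = N10260 := ded_19_1 (flp_e L124441) (flp_b L124276) L132077
theorem L132083 : sm gd N11150 = N10245 := ded_30_1 (flp_e L124315) (flp_d L66831) (flp_e L66820) L124272 L132077
theorem L132085 : sm gi N10240 = N11151 := rfl
theorem L132087 : sm ga N11151 = N10362 := ded_16_1 (flp_i L125272) (flp_a L124274) L132085
theorem L132089 : sm gb N11151 = N10261 := ded_23_1 (flp_i L124447) (flp_b L124276) L132085
theorem L132091 : sm gd N11151 = N10241 := ded_34_1 (flp_i L124278) L124272 L132085
theorem L132093 : sm gc N10242 = N11152 := rfl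
theorem L132095 : sm ga N11152 = N10363 := ded_10_1 (flp_c L125278) (flp_a L124288) L132093
theorem L132097 : sm gf N11152 = N11152 := ded_26_2 (flp_c L132093) L124292 L132093
theorem L132098 : sm gg N11152 = N10244 := ded_27_2 (flp_c L124306) (flp_g L124293) L132093
theorem L132100 : sm gh N11152 = N10542 := ded_28_2 (flp_c L126823) (flp_h L124295) L132093
theorem L132102 : sm gb N11152 = N11152 := ded_17_1 (flp_c L132093) L124290 L66927 (flp_b L124290) L132093
theorem L132103 : sm ge N10242 = N11153 := rfl
theorem L132105 : sm ga N11153 = N10364 := ded_12_1 (flp_e L125287) (flp_a L124288) L132103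
theorem L132107 : sm gb N11153 = N10262 := ded_19_1 (flp_e L124453) (flp_b L124290) L132103
theorem L132109 : sm gg N11153 = N10245 := ded_36_2 (flp_e L124315) (flp_g L124293) L132103
theorem L132111 : sm gh N11153 = N10543 := ded_37_2 (flp_e L126834) (flp_h L124295) L132103
theorem L132113 : sm gi N10242 = N11154 := rfl
theorem L132115 : sm ga N11154 = N10365 := ded_16_1 (flp_i L125295) (flp_a L124288) L132113
theorem L132117 : sm gb N11154 = N10263 := ded_23_1 (flp_i L124462) (flp_b L124290) L132113
theorem L132119 : sm gd N11154 = N10243 := ded_34_1 (flp_i L124297) L124286 L132113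
theorem L132121 : sm gf N11154 = N11154 := ded_41_1 (flp_i L132113) L124292 L132113
theorem L132122 : sm gg N11154 = N10246 := ded_43_1 (flp_i L124323) (flp_g L124293) L132113
theorem L132124 : sm gh N11154 = N10596 := ded_44_1 (flp_i L127263) L73209 (flp_i L118323) (flp_h L124295) L132113
theorem L132126 : sm ge N10244 = N11155 := rfl
theorem L132128 : sm ga N11155 = N10366 := ded_12_1 (flp_e L125304) (flp_a L124308) L132126
theorem L132130 : sm gb N11155 = N11155 := ded_19_1 (flp_e L132126) L124314 L132126
theorem L132131 : sm gc N11155 = N10245 := ded_25_1 (flp_e L124315) L124306 L132126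
theorem L132133 : sm gh N11155 = N10544 := ded_37_2 (flp_e L126846) (flp_h L124312) L132126
theorem L132135 : sm gi N10244 = N11156 := rfl
theorem L132137 : sm ga N11156 = N10367 := ded_16_1 (flp_i L125312) (flp_a L124308) L132135
theorem L132139 : sm gb N11156 = N11156 := ded_23_1 (flp_i L132135) L124314 L132135
theorem L132140 : sm gc N11156 = N10246 := ded_29_1 (flp_i L124323) L124306 L132135
theorem L132142 : sm gf N11156 = N10248 := ded_41_1 (flp_i L124343) (flp_f L124310) L132135
theorem L132144 : sm gf N10245 = N11157 := rfl
theorem L132146 : sm ga N11157 = N10368 := ded_13_1 (flp_f L125320) (flp_a L124317) L132144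
theorem L132148 : sm gb N11157 = N10264 := ded_20_1 (flp_f L124474) (flp_b L124319) L132144
theorem L132150 : sm gh N11157 = N10546 := ded_40_2 (flp_f L126865) (flp_h L124321) L132144
theorem L132152 : sm ge N11157 = N10249 := ded_35_1 (flp_f L124351) (flp_e L66857) (flp_f L66837) L124315 L132144
theorem L132154 : sm gi N10245 = N11158 := rfl
theorem L132156 : sm ga N11158 = N10369 := ded_16_1 (flp_i L125328) (flp_a L124317) L132154
theorem L132158 : sm gb N11158 = N10265 := ded_23_1 (flp_i L124483) (flp_b L124319) L132154
theorem L132160 : sm ge N11158 = N10246 := ded_38_1 (flp_i L124323) L124315 L132154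
theorem L132162 : sm gh N10246 = N11159 := rfl
theorem L132164 : sm ga N11159 = N10370 := ded_15_1 (flp_h L125334) (flp_a L124325) L132162
theorem L132166 : sm gb N11159 = N10266 := ded_22_1 (flp_h L124490) (flp_b L124327) L132162
theorem L132168 : sm gf N11159 = N10251 := ded_40_1 (flp_h L124368) (flp_f L124331) L132162
theorem L132170 : sm gg N11159 = N10596 := ded_42_1 (flp_h L132124) L132122 L132162
theorem L132172 : sm gd N11159 = N10593 := ded_33_1 (flp_h L131642) L131636 L123879 (flp_d L124329) L132162
theorem L132174 : sm gi N11159 = N10548 := ded_44_2 (flp_h L126885) (flp_i L72067) (flp_h L66839) L124323 L132162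
theorem L132176 : sm gd N10247 = N11160 := rfl
theorem L132178 : sm ga N11160 = N10371 := ded_11_1 (flp_d L125342) (flp_a L124335) L132176
theorem L132180 : sm gb N11160 = N11160 := ded_18_1 (flp_d L132176) L124337 L132176
theorem L132181 : sm gg N11160 = N11160 := ded_32_2 (flp_d L132176) L124340 L132176
theorem L132182 : sm gf N10247 = N11161 := rfl
theorem L132184 : sm ga N11161 = N10372 := ded_13_1 (flp_f L125347) (flp_a L124335) L132182
theorem L132186 : sm gb N11161 = N11161 := ded_20_1 (flp_f L132182) L124337 L132182
theorem L132187 : sm gc N11161 = N10249 := ded_26_1 (flp_f L124351) (flp_c L124338) L132182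
theorem L132189 : sm gh N11161 = N10550 := ded_40_2 (flp_f L126905) (flp_h L124341) L132182
theorem L132191 : sm gi N10247 = N11162 := rfl
theorem L132193 : sm ga N11162 = N10373 := ded_16_1 (flp_i L125355) (flp_a L124335) L132191
theorem L132195 : sm gb N11162 = N11162 := ded_23_1 (flp_i L132191) L124337 L132191
theorem L132196 : sm gc N11162 = N10250 := ded_29_1 (flp_i L124359) (flp_c L124338) L132191
theorem L132198 : sm ge N11162 = N10248 := ded_38_1 (flp_i L124343) L124333 L132191
theorem L132200 : sm gg N11162 = N11162 := ded_43_1 (flp_i L132191) L124340 L132191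
theorem L132201 : sm gh N10248 = N11163 := rfl
theorem L132203 : sm ga N11163 = N10374 := ded_15_1 (flp_h L125364) (flp_a L124345) L132201
theorem L132205 : sm gb N11163 = N11163 := ded_22_1 (flp_h L132201) L124347 L132201
theorem L132206 : sm gc N11163 = N10251 := ded_28_1 (flp_h L124368) (flp_c L124348) L132201
theorem L132208 : sm gg N11163 = N11163 := ded_42_1 (flp_h L132201) L124350 L132201
theorem L132209 : sm gi N11163 = N10552 := ded_44_2 (flp_h L126922) (flp_i L72085) (flp_h L66854) L124343 L132201
theorem L132211 : sm gg N10249 = N11164 := rfl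
theorem L132213 : sm ga N11164 = N10375 := ded_14_1 (flp_g L125373) (flp_a L124353) L132211
theorem L132215 : sm gb N11164 = N10267 := ded_21_1 (flp_g L124503) (flp_b L124355) L132211
theorem L132217 : sm gh N11164 = N10553 := ded_42_2 (flp_g L126930) (flp_h L124357) L132211
theorem L132219 : sm gf N11164 = N11164 := ded_39_1 (flp_g L132211) (flp_f L124351) L66863 L124351 L132211
theorem L132220 : sm gi N10249 = N11165 := rfl
theorem L132222 : sm ga N11165 = N10376 := ded_16_1 (flp_i L125380) (flp_a L124353) L132220
theorem L132224 : sm gb N11165 = N10268 := ded_23_1 (flp_i L124511) (flp_b L124355) L132220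
theorem L132226 : sm gf N11165 = N10250 := ded_41_1 (flp_i L124359) L124351 L132220
theorem L132228 : sm gh N10250 = N11166 := rfl
theorem L132230 : sm ga N11166 = N10377 := ded_15_1 (flp_h L125386) (flp_a L124361) L132228
theorem L132232 : sm gb N11166 = N10269 := ded_22_1 (flp_h L124518) (flp_b L124363) L132228
theorem L132234 : sm ge N11166 = N10251 := ded_37_1 (flp_h L124368) (flp_e L124365) L132228
theorem L132236 : sm gg N11166 = N11166 := ded_42_1 (flp_h L132228) L124367 L132228
theorem L132237 : sm gi N11166 = N10555 := ded_44_2 (flp_h L126947) (flp_i L72101) (flp_h L66864) L124359 L132228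
theorem L132239 : sm gh N10252 = N11167 := rfl
theorem L132241 : sm ga N11167 = N10276 := ded_15_1 (flp_h L124571) (flp_a L124379) L132239
theorem L132243 : sm gc N11167 = N11167 := ded_28_1 (flp_h L132239) L124381 L132239
theorem L132244 : sm ge N11167 = N10585 := ded_37_1 (flp_h L127191) (flp_e L124386) L132239
theorem L132246 : sm gf N11167 = N10253 := ded_40_1 (flp_h L124388) L124377 L132239
theorem L132248 : sm gd N10253 = N11168 := rfl
theorem L132250 : sm ga N11168 = N10277 := ded_11_1 (flp_d L124580) (flp_a L124390) L132248
theorem L132252 : sm gg N11168 = N10254 := ded_32_2 (flp_d L124397) (flp_g L124395) L132248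
theorem L132254 : sm ge N11168 = N10624 := ded_30_2 (flp_d L127469) L73521 (flp_d L119557) (flp_e L124393) L132248
theorem L132256 : sm gh N11168 = N10257 := ded_33_2 (flp_d L124419) (flp_h L66898) (flp_d L66880) L124388 L132248
theorem L132258 : sm gi N10253 = N11169 := rfl
theorem L132260 : sm ga N11169 = N10278 := ded_16_1 (flp_i L124590) (flp_a L124390) L132258
theorem L132262 : sm gc N11169 = N11169 := ded_29_1 (flp_i L132258) L124392 L132258
theorem L132263 : sm ge N11169 = N10334 := ded_38_1 L125077 (flp_e L124393) L132258
theorem L132265 : sm gg N11169 = N10255 := ded_43_1 (flp_i L124403) (flp_g L124395) L132258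
theorem L132267 : sm gh N11169 = N10333 := ded_44_1 (flp_i L125059) L67427 (flp_i L118820) L124388 L132258
theorem L132269 : sm gc N10254 = N11170 := rfl
theorem L132271 : sm ga N11170 = N10279 := ded_10_1 (flp_c L124601) (flp_a L124399) L132269
theorem L132273 : sm gh N11170 = N10259 := ded_28_2 (flp_c L124435) (flp_h L124401) L132269
theorem L132275 : sm gd N11170 = N11170 := ded_24_2 (flp_c L132269) (flp_d L124397) L66888 L124397 L132269
theorem L132276 : sm ge N10254 = N11171 := rfl
theorem L132278 : sm ga N11171 = N10280 := ded_12_1 (flp_e L124606) (flp_a L124399) L132276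
theorem L132280 : sm gg N11171 = N10624 := ded_36_2 (flp_e L132254) L132252 L132276
theorem L132282 : sm gh N11171 = N10260 := ded_37_2 (flp_e L124441) (flp_h L124401) L132276
theorem L132284 : sm gd N11171 = N10556 := ded_30_1 (flp_e L126956) (flp_d L72133) (flp_e L66889) L124397 L132276
theorem L132286 : sm gi N10254 = N11172 := rfl
theorem L132288 : sm ga N11172 = N10281 := ded_16_1 (flp_i L124616) (flp_a L124399) L132286
theorem L132290 : sm gd N11172 = N10255 := ded_34_1 (flp_i L124403) L124397 L132286
theorem L132292 : sm gd N10256 = N11173 := rfl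
theorem L132294 : sm ga N11173 = N10282 := ded_11_1 (flp_d L124622) (flp_a L124412) L132292
theorem L132296 : sm gf N11173 = N10257 := ded_31_2 (flp_d L124419) (flp_f L124417) L132292
theorem L132298 : sm gi N10256 = N11174 := rfl
theorem L132300 : sm ga N11174 = N10283 := ded_16_1 (flp_i L124628) (flp_a L124412) L132298
theorem L132302 : sm gc N11174 = N10270 := ded_29_1 (flp_i L124528) (flp_c L124414) L132298
theorem L132304 : sm ge N11174 = N11174 := ded_38_1 (flp_i L132298) L124416 L132298
theorem L132305 : sm gf N11174 = N10258 := ded_41_1 (flp_i L124425) (flp_f L124417) L132298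
theorem L132307 : sm gc N10257 = N11175 := rfl
theorem L132309 : sm ga N11175 = N10284 := ded_10_1 (flp_c L124637) (flp_a L124421) L132307
theorem L132311 : sm gg N11175 = N10259 := ded_27_2 (flp_c L124435) (flp_g L124423) L132307
theorem L132313 : sm gd N11175 = N10271 := ded_24_2 (flp_c L124537) (flp_d L66985) (flp_c L66902) L124419 L132307
theorem L132315 : sm ge N10257 = N11176 := rfl
theorem L132317 : sm ga N11176 = N10285 := ded_12_1 (flp_e L124645) (flp_a L124421) L132315
theorem L132319 : sm gg N11176 = N10260 := ded_36_2 (flp_e L124441) (flp_g L124423) L132315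
theorem L132321 : sm gh N11176 = N10624 := ded_37_2 (flp_e L132254) L132256 L132315
theorem L132323 : sm gd N11176 = N10262 := ded_30_1 (flp_e L124453) (flp_d L66920) (flp_e L66904) L124419 L132315
theorem L132325 : sm gi N10257 = N11177 := rfl
theorem L132327 : sm ga N11177 = N10286 := ded_16_1 (flp_i L124655) (flp_a L124421) L132325
theorem L132329 : sm gd N11177 = N10258 := ded_34_1 (flp_i L124425) L124419 L132325
theorem L132331 : sm gg N11177 = N10261 := ded_43_1 (flp_i L124447) (flp_g L124423) L132325
theorem L132333 : sm gb N10259 = N11178 := rfl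
theorem L132335 : sm gd N11178 = N10273 := ded_18_2 (flp_b L124554) (flp_d L124439) L132333
theorem L132337 : sm ge N10259 = N11179 := rfl
theorem L132339 : sm ga N11179 = N10288 := ded_12_1 (flp_e L124671) (flp_a L124437) L132337
theorem L132341 : sm gc N11179 = N10260 := ded_25_1 (flp_e L124441) L124435 L132337
theorem L132343 : sm gd N11179 = N11179 := ded_30_1 (flp_e L132337) L124439 L67005 (flp_d L124439) L132337
theorem L132344 : sm gi N10259 = N11180 := rfl
theorem L132346 : sm ga N11180 = N10289 := ded_16_1 (flp_i L124676) (flp_a L124437) L132344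
theorem L132348 : sm gc N11180 = N10261 := ded_29_1 (flp_i L124447) L124435 L132344
theorem L132350 : sm gd N11180 = N10274 := ded_34_1 (flp_i L124558) (flp_d L124439) L132344
theorem L132352 : sm gf N10260 = N11181 := rfl
theorem L132354 : sm ga N11181 = N10290 := ded_13_1 (flp_f L124682) (flp_a L124443) L132352
theorem L132356 : sm gd N11181 = N10264 := ded_31_1 (flp_f L124474) (flp_d L124445) L132352
theorem L132358 : sm gi N10260 = N11182 := rfl
theorem L132360 : sm ga N11182 = N10291 := ded_16_1 (flp_i L124688) (flp_a L124443) L132358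
theorem L132362 : sm gd N11182 = N10265 := ded_34_1 (flp_i L124483) (flp_d L124445) L132358
theorem L132364 : sm ge N11182 = N10261 := ded_38_1 (flp_i L124447) L124441 L132358
theorem L132366 : sm gh N10261 = N11183 := rfl
theorem L132368 : sm ga N11183 = N10292 := ded_15_1 (flp_h L124696) (flp_a L124449) L132366
theorem L132370 : sm gf N10262 = N11184 := rfl
theorem L132372 : sm ga N11184 = N10293 := ded_13_1 (flp_f L124700) (flp_a L124455) L132370
theorem L132374 : sm gc N11184 = N11184 := ded_26_1 (flp_f L132370) L124457 L132370
theorem L132375 : sm gh N11184 = N10558 := ded_40_2 (flp_f L126977) (flp_h L124460) L132370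
theorem L132377 : sm ge N11184 = N11184 := ded_35_1 (flp_f L132370) (flp_e L124453) L66924 L124453 L132370
theorem L132378 : sm gi N10262 = N11185 := rfl
theorem L132380 : sm ga N11185 = N10294 := ded_16_1 (flp_i L124708) (flp_a L124455) L132378
theorem L132382 : sm gc N11185 = N11185 := ded_29_1 (flp_i L132378) L124457 L132378
theorem L132383 : sm ge N11185 = N10263 := ded_38_1 (flp_i L124462) L124453 L132378
theorem L132385 : sm gg N11185 = N10265 := ded_43_1 (flp_i L124483) (flp_g L124458) L132378
theorem L132387 : sm gh N11185 = N10619 := ded_44_1 (flp_i L127425) L73402 (flp_i L118180) (flp_h L124460) L132378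
theorem L132389 : sm gg N10264 = N11186 := rfl
theorem L132391 : sm ga N11186 = N10295 := ded_14_1 (flp_g L124719) (flp_a L124476) L132389
theorem L132393 : sm gc N11186 = N11186 := ded_27_1 (flp_g L132389) L124478 L132389
theorem L132394 : sm ge N11186 = N10267 := ded_36_1 (flp_g L124503) (flp_e L124481) L132389
theorem L132396 : sm gh N11186 = N10559 := ded_42_2 (flp_g L126987) (flp_h L124479) L132389
theorem L132398 : sm gi N10264 = N11187 := rfl
theorem L132400 : sm ga N11187 = N10296 := ded_16_1 (flp_i L124728) (flp_a L124476) L132398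
theorem L132402 : sm gc N11187 = N11187 := ded_29_1 (flp_i L132398) L124478 L132398
theorem L132403 : sm ge N11187 = N10268 := ded_38_1 (flp_i L124511) (flp_e L124481) L132398
theorem L132405 : sm gf N11187 = N10265 := ded_41_1 (flp_i L124483) L124474 L132398
theorem L132407 : sm gh N10265 = N11188 := rfl
theorem L132409 : sm ga N11188 = N10297 := ded_15_1 (flp_h L124737) (flp_a L124485) L132407
theorem L132411 : sm gc N11188 = N11188 := ded_28_1 (flp_h L132407) L124487 L132407
theorem L132412 : sm ge N11188 = N10266 := ded_37_1 (flp_h L124490) (flp_e L124488) L132407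
theorem L132414 : sm gg N11188 = N10619 := ded_42_1 (flp_h L132387) L132385 L132407
theorem L132416 : sm gi N11188 = N10561 := ded_44_2 (flp_h L127005) (flp_i L72216) (flp_h L66944) L124483 L132407
theorem L132418 : sm gi N10267 = N11189 := rfl
theorem L132420 : sm ga N11189 = N10298 := ded_16_1 (flp_i L124748) (flp_a L124505) L132418
theorem L132422 : sm gc N11189 = N11189 := ded_29_1 (flp_i L132418) L124507 L132418
theorem L132423 : sm gf N11189 = N11189 := ded_41_1 (flp_i L132418) L124510 L132418
theorem L132424 : sm gg N11189 = N10268 := ded_43_1 (flp_i L124511) L124503 L132418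
theorem L132426 : sm gh N10268 = N11190 := rfl
theorem L132428 : sm ga N11190 = N10299 := ded_15_1 (flp_h L124756) (flp_a L124513) L132426
theorem L132430 : sm gc N11190 = N11190 := ded_28_1 (flp_h L132426) L124515 L132426
theorem L132431 : sm gf N11190 = N10269 := ded_40_1 (flp_h L124518) (flp_f L124516) L132426
theorem L132433 : sm gi N11190 = N10563 := ded_44_2 (flp_h L127023) (flp_i L72237) (flp_h L66960) L124511 L132426
theorem L132435 : sm gd N10269 = N11191 := rfl
theorem L132437 : sm ga N11191 = N10300 := ded_11_1 (flp_d L124765) (flp_a L124520) L132435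
theorem L132439 : sm gg N11191 = N11191 := ded_32_2 (flp_d L132435) L124525 L132435
theorem L132440 : sm gi N11191 = N10564 := ded_34_2 (flp_d L127030) (flp_i L124526) L132435
theorem L132442 : sm gb N10271 = N11192 := rfl
theorem L132444 : sm ge N11192 = N11192 := ded_19_2 (flp_b L132442) L124541 L132442
theorem L132445 : sm gg N11192 = N10273 := ded_21_2 (flp_b L124554) (flp_g L124542) L132442
theorem L132447 : sm gh N11192 = N11192 := ded_22_2 (flp_b L132442) L124544 L132442
theorem L132448 : sm ga N11192 = N10723 := ded_9_1 (flp_b L128263) L121221 (flp_b L120747) (flp_a L124539) L132442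
theorem L132450 : sm gi N10271 = N11193 := rfl
theorem L132452 : sm ga N11193 = N10301 := ded_16_1 (flp_i L124772) (flp_a L124539) L132450
theorem L132454 : sm gc N11193 = N10272 := ded_29_1 (flp_i L124545) L124537 L132450
theorem L132456 : sm ge N11193 = N11193 := ded_38_1 (flp_i L132450) L124541 L132450
theorem L132457 : sm gg N11193 = N10274 := ded_43_1 (flp_i L124558) (flp_g L124542) L132450
theorem L132459 : sm gh N10272 = N11194 := rfl
theorem L132461 : sm ga N11194 = N10302 := ded_15_1 (flp_h L124781) (flp_a L124547) L132459
theorem L132463 : sm ge N11194 = N11194 := ded_37_1 (flp_h L132459) L124551 L132459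
theorem L132464 : sm gg N11194 = N10275 := ded_42_1 (flp_h L124565) (flp_g L124552) L132459
theorem L132466 : sm gi N11194 = N11194 := ded_44_2 (flp_h L132459) (flp_i L124545) L66992 L124545 L132459
theorem L132467 : sm ga N10273 = N11195 := rfl
theorem L132469 : sm gc N11195 = N11192 := ded_10_2 L132448 L128267 L132467
theorem L132471 : sm ge N11195 = N11195 := ded_12_2 (flp_a L132467) L124556 L132467
theorem L132472 : sm gg N11195 = N10723 := ded_14_2 (flp_a L132448) L132445 L132467
theorem L132474 : sm gh N11195 = N11195 := ded_15_2 (flp_a L132467) L124557 L132467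
theorem L132475 : sm gb N11195 = N10303 := ded_9_2 (flp_a L124789) (flp_b L67182) (flp_a L67003) L124554 L132467
theorem L132477 : sm gi N10273 = N11196 := rfl
theorem L132479 : sm gb N11196 = N10274 := ded_23_1 (flp_i L124558) L124554 L132477
theorem L132481 : sm ge N11196 = N11196 := ded_38_1 (flp_i L132477) L124556 L132477
theorem L132482 : sm gh N10274 = N11197 := rfl
theorem L132484 : sm ga N11197 = N10305 := ded_15_1 (flp_h L124806) (flp_a L124560) L132482
theorem L132486 : sm gc N11197 = N10275 := ded_28_1 (flp_h L124565) (flp_c L124562) L132482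
theorem L132488 : sm ge N11197 = N11197 := ded_37_1 (flp_h L132482) L124564 L132482
theorem L132489 : sm gi N11197 = N11197 := ded_44_2 (flp_h L132482) (flp_i L124558) L67006 L124558 L132482
theorem L132490 : sm gd N10276 = N11198 := rfl
theorem L132492 : sm gb N11198 = N10340 := ded_18_1 L125132 (flp_b L124573) L132490
theorem L132494 : sm gf N11198 = N10277 := ded_31_2 (flp_d L124580) (flp_f L124578) L132490
theorem L132496 : sm gh N11198 = N10282 := ded_33_2 (flp_d L124622) (flp_h L67043) (flp_d L67019) L124571 L132490
theorem L132498 : sm gi N10276 = N11199 := rfl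
theorem L132500 : sm gb N11199 = N10405 := ded_23_1 (flp_i L125642) (flp_b L124573) L132498
theorem L132502 : sm gc N11199 = N11199 := ded_29_1 (flp_i L132498) L124575 L132498
theorem L132503 : sm ge N11199 = N10350 := ded_38_1 L125197 (flp_e L124576) L132498
theorem L132505 : sm gf N11199 = N10278 := ded_41_1 (flp_i L124590) (flp_f L124578) L132498
theorem L132507 : sm gh N11199 = N10348 := ded_44_1 (flp_i L125177) L67612 (flp_i L119453) L124571 L132498
theorem L132509 : sm gc N10277 = N11200 := rfl
theorem L132511 : sm ge N11200 = N10632 := ded_25_2 (flp_c L127521) (flp_e L124586) L132509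
theorem L132513 : sm gg N11200 = N10279 := ded_27_2 (flp_c L124601) (flp_g L124584) L132509
theorem L132515 : sm gh N11200 = N10284 := ded_28_2 (flp_c L124637) (flp_h L124588) L132509
theorem L132517 : sm gb N11200 = N10726 := ded_17_1 (flp_c L128284) L121236 (flp_c L120845) (flp_b L124582) L132509
theorem L132519 : sm gd N11200 = N11200 := ded_24_2 (flp_c L132509) (flp_d L124580) L67025 L124580 L132509
theorem L132520 : sm gi N10277 = N11201 := rfl
theorem L132522 : sm gb N11201 = N10407 := ded_23_1 (flp_i L125660) (flp_b L124582) L132520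
theorem L132524 : sm gd N11201 = N10278 := ded_34_1 (flp_i L124590) L124580 L132520
theorem L132526 : sm ge N11201 = N10431 := ded_38_1 L125837 (flp_e L124586) L132520
theorem L132528 : sm gg N11201 = N10281 := ded_43_1 (flp_i L124616) (flp_g L124584) L132520
theorem L132530 : sm gb N10279 = N11202 := rfl
theorem L132532 : sm gd N11202 = N11202 := ded_18_2 (flp_b L132530) L124605 L132530
theorem L132533 : sm gg N11202 = N10726 := ded_21_2 (flp_b L132517) L132513 L132530
theorem L132535 : sm gh N11202 = N10287 := ded_22_2 (flp_b L124663) (flp_h L124603) L132530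
theorem L132537 : sm gc N11202 = N10408 := ded_17_2 (flp_b L125668) (flp_c L68154) (flp_b L67032) L124601 L132530
theorem L132539 : sm ge N10279 = N11203 := rfl
theorem L132541 : sm gc N11203 = N10280 := ded_25_1 (flp_e L124606) L124601 L132539
theorem L132543 : sm gg N11203 = N10632 := ded_36_2 (flp_e L132511) L132513 L132539
theorem L132545 : sm gh N11203 = N10288 := ded_37_2 (flp_e L124671) (flp_h L124603) L132539
theorem L132547 : sm gd N10692 = N11203 := ded_24_0 L132541 L124614 L118145 L74526 L128011
theorem L132549 : sm gi N10279 = N11204 := rfl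
theorem L132551 : sm gc N11204 = N10281 := ded_29_1 (flp_i L124616) L124601 L132549
theorem L132553 : sm gd N11204 = N11204 := ded_34_1 (flp_i L132549) L124605 L132549
theorem L132554 : sm gf N10280 = N11205 := rfl
theorem L132556 : sm gb N11205 = N10411 := ded_20_1 (flp_f L125693) (flp_b L124608) L132554
theorem L132558 : sm gd N11205 = N10565 := ded_31_1 (flp_f L127036) (flp_d L124614) L132554
theorem L132560 : sm gh N11205 = N10290 := ded_40_2 (flp_f L124682) (flp_h L124612) L132554
theorem L132562 : sm gi N10280 = N11206 := rfl
theorem L132564 : sm gb N11206 = N10412 := ded_23_1 (flp_i L125699) (flp_b L124608) L132562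
theorem L132566 : sm gd N11206 = N10428 := ded_34_1 L125815 (flp_d L124614) L132562
theorem L132568 : sm ge N11206 = N10281 := ded_38_1 (flp_i L124616) L124606 L132562
theorem L132570 : sm gg N11206 = N10431 := ded_43_1 L125837 (flp_g L124610) L132562
theorem L132572 : sm gh N10281 = N11207 := rfl
theorem L132574 : sm gb N11207 = N10413 := ded_22_1 (flp_h L125705) (flp_b L124618) L132572
theorem L132576 : sm gi N11207 = N10292 := ded_44_2 (flp_h L124696) (flp_i L67078) (flp_h L67034) L124616 L132572
theorem L132578 : sm ge N10282 = N11208 := rfl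
theorem L132580 : sm gb N11208 = N10343 := ded_19_1 (flp_e L125146) (flp_b L124624) L132578
theorem L132582 : sm gd N11208 = N11208 := ded_30_1 (flp_e L132578) (flp_d L124622) L67049 L124622 L132578
theorem L132583 : sm gi N10282 = N11209 := rfl
theorem L132585 : sm gb N11209 = N10344 := ded_23_1 (flp_i L125151) (flp_b L124624) L132583
theorem L132587 : sm gd N11209 = N10283 := ded_34_1 (flp_i L124628) L124622 L132583
theorem L132589 : sm gf N11209 = N10286 := ded_41_1 (flp_i L124655) (flp_f L124626) L132583
theorem L132591 : sm ge N10284 = N11210 := rfl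
theorem L132593 : sm gb N11210 = N10729 := ded_19_1 (flp_e L128302) (flp_b L124641) L132591
theorem L132595 : sm gc N11210 = N10285 := ded_25_1 (flp_e L124645) L124637 L132591
theorem L132597 : sm gg N11210 = N10288 := ded_36_2 (flp_e L124671) (flp_g L124639) L132591
theorem L132599 : sm gh N11210 = N10632 := ded_37_2 (flp_e L132511) L132515 L132591
theorem L132601 : sm gd N11210 = N11210 := ded_30_1 (flp_e L132591) L124643 L67169 (flp_d L124643) L132591
theorem L132602 : sm gi N10284 = N11211 := rfl
theorem L132604 : sm gb N11211 = N10730 := ded_23_1 (flp_i L128307) (flp_b L124641) L132602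
theorem L132606 : sm gc N11211 = N10286 := ded_29_1 (flp_i L124655) L124637 L132602
theorem L132608 : sm gd N11211 = N10301 := ded_34_1 (flp_i L124772) (flp_d L124643) L132602
theorem L132610 : sm gg N11211 = N10289 := ded_43_1 (flp_i L124676) (flp_g L124639) L132602
theorem L132612 : sm gf N10285 = N11212 := rfl
theorem L132614 : sm gb N11212 = N10414 := ded_20_1 (flp_f L125709) (flp_b L124647) L132612
theorem L132616 : sm gd N11212 = N10293 := ded_31_1 (flp_f L124700) (flp_d L124653) L132612
theorem L132618 : sm gh N11212 = N10631 := ded_40_2 L127519 (flp_h L124651) L132612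
theorem L132620 : sm gi N10285 = N11213 := rfl
theorem L132622 : sm gb N11213 = N10415 := ded_23_1 (flp_i L125715) (flp_b L124647) L132620
theorem L132624 : sm gd N11213 = N10294 := ded_34_1 (flp_i L124708) (flp_d L124653) L132620
theorem L132626 : sm ge N11213 = N10286 := ded_38_1 (flp_i L124655) L124645 L132620
theorem L132628 : sm gg N11213 = N10291 := ded_43_1 (flp_i L124688) (flp_g L124649) L132620
theorem L132630 : sm gh N10286 = N11214 := rfl
theorem L132632 : sm gb N11214 = N10416 := ded_22_1 (flp_h L125725) (flp_b L124657) L132630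
theorem L132634 : sm gg N11214 = N10292 := ded_42_1 (flp_h L124696) (flp_g L124661) L132630
theorem L132636 : sm ga N10287 = N11215 := rfl
theorem L132638 : sm gc N11215 = N10417 := ded_10_2 (flp_a L125731) (flp_c L124669) L132636
theorem L132640 : sm gd N11215 = N10303 := ded_11_2 (flp_a L124789) (flp_d L124665) L132636
theorem L132642 : sm gg N11215 = N10714 := ded_14_2 L128201 (flp_g L124667) L132636
theorem L132644 : sm ge N10287 = N11216 := rfl
theorem L132646 : sm gb N11216 = N10288 := ded_19_1 (flp_e L124671) L124663 L132644
theorem L132648 : sm gc N11216 = N10418 := ded_25_1 (flp_e L125737) (flp_c L124669) L132644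
theorem L132650 : sm gg N11216 = N10729 := ded_36_2 (flp_e L128302) (flp_g L124667) L132644
theorem L132652 : sm gd N11216 = N11216 := ded_30_1 (flp_e L132644) L124665 L67184 (flp_d L124665) L132644
theorem L132653 : sm gi N10287 = N11217 := rfl
theorem L132655 : sm gb N11217 = N10289 := ded_23_1 (flp_i L124676) L124663 L132653
theorem L132657 : sm gc N11217 = N10419 := ded_29_1 (flp_i L125745) (flp_c L124669) L132653
theorem L132659 : sm gd N11217 = N10304 := ded_34_1 (flp_i L124797) (flp_d L124665) L132653
theorem L132661 : sm gg N11217 = N10730 := ded_43_1 (flp_i L128307) (flp_g L124667) L132653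
theorem L132663 : sm gf N10288 = N11218 := rfl
theorem L132665 : sm gc N11218 = N10290 := ded_26_1 (flp_f L124682) (flp_c L124673) L132663
theorem L132667 : sm gd N11218 = N11218 := ded_31_1 (flp_f L132663) L124675 L132663
theorem L132668 : sm gi N10288 = N11219 := rfl
theorem L132670 : sm gc N11219 = N10291 := ded_29_1 (flp_i L124688) (flp_c L124673) L132668
theorem L132672 : sm gd N11219 = N11219 := ded_34_1 (flp_i L132668) L124675 L132668
theorem L132673 : sm ge N11219 = N10289 := ded_38_1 (flp_i L124676) L124671 L132668
theorem L132675 : sm gh N10289 = N11220 := rfl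
theorem L132677 : sm gc N11220 = N10292 := ded_28_1 (flp_h L124696) (flp_c L124678) L132675
theorem L132679 : sm gg N10290 = N11221 := rfl
theorem L132681 : sm gb N11221 = N10423 := ded_21_1 (flp_g L125775) (flp_b L124684) L132679
theorem L132683 : sm gd N11221 = N10295 := ded_32_1 (flp_g L124719) (flp_d L124686) L132679
theorem L132685 : sm gi N10290 = N11222 := rfl
theorem L132687 : sm gb N11222 = N10424 := ded_23_1 (flp_i L125779) (flp_b L124684) L132685
theorem L132689 : sm gd N11222 = N10296 := ded_34_1 (flp_i L124728) (flp_d L124686) L132685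
theorem L132691 : sm gf N11222 = N10291 := ded_41_1 (flp_i L124688) L124682 L132685
theorem L132693 : sm gh N10291 = N11223 := rfl
theorem L132695 : sm gb N11223 = N10425 := ded_22_1 (flp_h L125785) (flp_b L124690) L132693
theorem L132697 : sm ge N11223 = N10292 := ded_37_1 (flp_h L124696) (flp_e L124694) L132693
theorem L132699 : sm gg N10293 = N11224 := rfl
theorem L132701 : sm gb N11224 = N10426 := ded_21_1 (flp_g L125789) (flp_b L124702) L132699
theorem L132703 : sm gc N11224 = N11224 := ded_27_1 (flp_g L132699) L124704 L132699
theorem L132704 : sm ge N11224 = N11224 := ded_36_1 (flp_g L132699) L124707 L132699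
theorem L132705 : sm gh N11224 = N10567 := ded_42_2 (flp_g L127058) (flp_h L124705) L132699
theorem L132707 : sm gf N11224 = N10295 := ded_39_1 (flp_g L124719) (flp_f L67103) (flp_g L67089) L124700 L132699
theorem L132709 : sm gi N10293 = N11225 := rfl
theorem L132711 : sm gb N11225 = N10427 := ded_23_1 (flp_i L125798) (flp_b L124702) L132709
theorem L132713 : sm gc N11225 = N11225 := ded_29_1 (flp_i L132709) L124704 L132709
theorem L132714 : sm ge N11225 = N11225 := ded_38_1 (flp_i L132709) L124707 L132709
theorem L132715 : sm gf N11225 = N10294 := ded_41_1 (flp_i L124708) L124700 L132709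
theorem L132717 : sm gh N11225 = N10629 := ded_44_1 (flp_i L127503) L73586 (flp_i L118161) (flp_h L124705) L132709
theorem L132719 : sm gi N10295 = N11226 := rfl
theorem L132721 : sm gb N11226 = N10429 := ded_23_1 (flp_i L125817) (flp_b L124721) L132719
theorem L132723 : sm gc N11226 = N11226 := ded_29_1 (flp_i L132719) L124723 L132719
theorem L132724 : sm ge N11226 = N10298 := ded_38_1 (flp_i L124748) (flp_e L124724) L132719
theorem L132726 : sm gg N11226 = N10296 := ded_43_1 (flp_i L124728) L124719 L132719
theorem L132728 : sm gh N10296 = N11227 := rfl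
theorem L132730 : sm gb N11227 = N10430 := ded_22_1 (flp_h L125825) (flp_b L124730) L132728
theorem L132732 : sm gc N11227 = N11227 := ded_28_1 (flp_h L132728) L124732 L132728
theorem L132733 : sm ge N11227 = N10299 := ded_37_1 (flp_h L124756) (flp_e L124733) L132728
theorem L132735 : sm gf N11227 = N10297 := ded_40_1 (flp_h L124737) (flp_f L124735) L132728
theorem L132737 : sm gi N11227 = N10569 := ded_44_2 (flp_h L127083) (flp_i L72466) (flp_h L67108) L124728 L132728
theorem L132739 : sm gd N10297 = N11228 := rfl
theorem L132741 : sm gb N11228 = N10431 := ded_18_1 (flp_d L125835) (flp_b L124739) L132739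
theorem L132743 : sm gg N11228 = N10412 := ded_32_2 L125701 (flp_g L124744) L132739
theorem L132745 : sm gi N11228 = N10406 := ded_34_2 L125658 (flp_i L124746) L132739
theorem L132747 : sm ge N11228 = N10407 := ded_30_2 L125664 L68150 (flp_d L117882) (flp_e L124742) L132739
theorem L132749 : sm gc N10771 = N11228 := ded_29_3 L132745 L125652 L128594
theorem L132751 : sm gh N10298 = N11229 := rfl
theorem L132753 : sm gb N11229 = N10432 := ded_22_1 (flp_h L125839) (flp_b L124750) L132751
theorem L132755 : sm gc N11229 = N11229 := ded_28_1 (flp_h L132751) L124752 L132751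
theorem L132756 : sm gf N11229 = N11229 := ded_40_1 (flp_h L132751) L124753 L132751
theorem L132757 : sm gg N11229 = N10299 := ded_42_1 (flp_h L124756) (flp_g L124754) L132751
theorem L132759 : sm gi N11229 = N10570 := ded_44_2 (flp_h L127092) (flp_i L72482) (flp_h L67133) L124748 L132751
theorem L132761 : sm gd N10299 = N11230 := rfl
theorem L132763 : sm gb N11230 = N10433 := ded_18_1 (flp_d L125848) (flp_b L124758) L132761
theorem L132765 : sm gf N11230 = N10300 := ded_31_2 (flp_d L124765) (flp_f L124761) L132761
theorem L132767 : sm gi N11230 = N10571 := ded_34_2 (flp_d L127100) (flp_i L124763) L132761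
theorem L132769 : sm gc N10300 = N11231 := rfl
theorem L132771 : sm gg N11231 = N11231 := ded_27_2 (flp_c L132769) L124769 L132769
theorem L132772 : sm gi N11231 = N10572 := ded_29_2 (flp_c L127107) (flp_i L124770) L132769
theorem L132774 : sm gd N11231 = N11231 := ded_24_2 (flp_c L132769) (flp_d L124765) L67147 L124765 L132769
theorem L132775 : sm gh N10301 = N11232 := rfl
theorem L132777 : sm gb N11232 = N10740 := ded_22_1 (flp_h L128378) (flp_b L124774) L132775
theorem L132779 : sm gc N11232 = N10302 := ded_28_1 (flp_h L124781) (flp_c L124776) L132775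
theorem L132781 : sm ge N11232 = N11232 := ded_37_1 (flp_h L132775) L124778 L132775
theorem L132782 : sm gg N11232 = N10305 := ded_42_1 (flp_h L124806) (flp_g L124779) L132775
theorem L132784 : sm gi N11232 = N11232 := ded_44_2 (flp_h L132775) (flp_i L124772) L67172 L124772 L132775
theorem L132785 : sm gi N10303 = N11233 := rfl
theorem L132787 : sm ga N11233 = N10304 := ded_16_1 (flp_i L124797) L124789 L132785
theorem L132789 : sm gc N11233 = N10306 := ded_29_1 (flp_i L124812) (flp_c L124791) L132785
theorem L132791 : sm ge N11233 = N11233 := ded_38_1 (flp_i L132785) L124793 L132785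
theorem L132792 : sm gg N11233 = N10724 := ded_43_1 (flp_i L128269) (flp_g L124794) L132785
theorem L132794 : sm gh N10304 = N11234 := rfl
theorem L132796 : sm gb N11234 = N10305 := ded_22_1 (flp_h L124806) (flp_b L124799) L132794
theorem L132798 : sm gc N11234 = N10307 := ded_28_1 (flp_h L124823) (flp_c L124801) L132794
theorem L132800 : sm ge N11234 = N11234 := ded_37_1 (flp_h L132794) L124803 L132794
theorem L132801 : sm gg N11234 = N10740 := ded_42_1 (flp_h L128378) (flp_g L124804) L132794
theorem L132803 : sm gi N11234 = N11234 := ded_44_2 (flp_h L132794) (flp_i L124797) L67185 L124797 L132794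
theorem L132804 : sm gd N10305 = N11235 := rfl
theorem L132806 : sm gi N11235 = N11235 := ded_34_2 (flp_d L132804) L124811 L132804
theorem L132807 : sm gh N10306 = N11236 := rfl
theorem L132809 : sm ga N11236 = N10307 := ded_15_1 (flp_h L124823) (flp_a L124814) L132807
theorem L132811 : sm gb N11236 = N11194 := ded_22_1 (flp_h L132459) (flp_b L124816) L132807
theorem L132813 : sm ge N11236 = N11236 := ded_37_1 (flp_h L132807) L124820 L132807
theorem L132814 : sm gg N11236 = N10725 := ded_42_1 (flp_h L128276) (flp_g L124821) L132807
theorem L132816 : sm gi N11236 = N11236 := ded_44_2 (flp_h L132807) (flp_i L124812) L67245 L124812 L132807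
theorem L132817 : sm gg N10308 = N11237 := rfl
theorem L132819 : sm ga N11237 = N10575 := ded_14_1 (flp_g L131538) L131532 L132817
theorem L132821 : sm gb N11237 = N10436 := ded_21_1 (flp_g L125871) (flp_b L124839) L132817
theorem L132823 : sm gc N11237 = N10309 := ded_27_1 (flp_g L124843) L124831 L132817
theorem L132825 : sm gd N11237 = N10935 := ded_32_1 (flp_g L130030) (flp_d L124841) L132817
theorem L132827 : sm ge N11237 = N10527 := ded_36_1 L126678 (flp_e L124833) L132817
theorem L132829 : sm gi N11237 = N10352 := ded_43_2 (flp_g L125208) (flp_i L124837) L132817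
theorem L132831 : sm gh N10308 = N11238 := rfl
theorem L132833 : sm gb N11238 = N10437 := ded_22_1 (flp_h L125882) (flp_b L124839) L132831
theorem L132835 : sm gc N11238 = N10310 := ded_28_1 (flp_h L124855) L124831 L132831
theorem L132837 : sm ge N11238 = N10573 := ded_37_1 (flp_h L127112) (flp_e L124833) L132831
theorem L132839 : sm gf N11238 = N10741 := ded_40_1 (flp_h L128384) (flp_f L124835) L132831
theorem L132841 : sm gd N10310 = N11239 := rfl
theorem L132843 : sm gb N11239 = N10324 := ded_18_1 (flp_d L124978) (flp_b L124857) L132841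
theorem L132845 : sm gf N11239 = N10742 := ded_31_2 (flp_d L128391) (flp_f L124861) L132841
theorem L132847 : sm gh N11239 = N10312 := ded_33_2 (flp_d L124873) (flp_h L67279) L67259 L124855 L132841
theorem L132849 : sm gi N10310 = N11240 := rfl
theorem L132851 : sm gb N11240 = N10325 := ded_23_1 (flp_i L124986) (flp_b L124857) L132849
theorem L132853 : sm ge N11240 = N10574 := ded_38_1 (flp_i L127119) (flp_e L124859) L132849
theorem L132855 : sm gf N11240 = N10743 := ded_41_1 (flp_i L128397) (flp_f L124861) L132849
theorem L132857 : sm gh N11240 = N10357 := ded_44_1 (flp_i L125244) (flp_h L67815) (flp_i L67265) L124855 L132849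
theorem L132859 : sm gd N10311 = N11241 := rfl
theorem L132861 : sm gb N11241 = N10326 := ded_18_1 (flp_d L124998) (flp_b L124865) L132859
theorem L132863 : sm gg N11241 = N10312 := ded_32_2 (flp_d L124873) (flp_g L124871) L132859
theorem L132865 : sm gi N10311 = N11242 := rfl
theorem L132867 : sm gb N11242 = N10327 := ded_23_1 (flp_i L125004) (flp_b L124865) L132865
theorem L132869 : sm gc N11242 = N10943 := ded_29_1 (flp_i L130097) (flp_c L124867) L132865
theorem L132871 : sm ge N11242 = N10315 := ded_38_1 (flp_i L124902) (flp_e L124869) L132865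
theorem L132873 : sm gg N11242 = N10313 := ded_43_1 (flp_i L124879) (flp_g L124871) L132865
theorem L132875 : sm gh N11242 = N10359 := ded_44_1 (flp_i L125256) (flp_h L67826) (flp_i L67277) L124863 L132865
theorem L132877 : sm gc N10312 = N11243 := rfl
theorem L132879 : sm gf N11243 = N10744 := ded_26_2 (flp_c L128402) (flp_f L124877) L132877
theorem L132881 : sm gd N11243 = N10944 := ded_24_2 (flp_c L130107) (flp_d L122598) (flp_c L67283) L124873 L132877
theorem L132883 : sm ge N10312 = N11244 := rfl
theorem L132885 : sm gb N11244 = N10329 := ded_19_1 (flp_e L125024) (flp_b L124875) L132883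
theorem L132887 : sm gd N11244 = N10317 := ded_30_1 (flp_e L124922) (flp_d L67298) (flp_e L67285) L124873 L132883
theorem L132889 : sm gi N10312 = N11245 := rfl
theorem L132891 : sm gb N11245 = N10330 := ded_23_1 (flp_i L125030) (flp_b L124875) L132889
theorem L132893 : sm gd N11245 = N10313 := ded_34_1 (flp_i L124879) L124873 L132889
theorem L132895 : sm gf N11245 = N10746 := ded_41_1 (flp_i L128412) (flp_f L124877) L132889
theorem L132897 : sm gc N10314 = N11246 := rfl
theorem L132899 : sm ga N11246 = N10573 := ded_10_1 L127116 (flp_a L124893) L132897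
theorem L132901 : sm gf N11246 = N11246 := ded_26_2 (flp_c L132897) L124897 L132897
theorem L132902 : sm gg N11246 = N10316 := ded_27_2 (flp_c L124913) (flp_g L124898) L132897
theorem L132904 : sm gh N11246 = N10526 := ded_28_2 (flp_c L126661) (flp_h L124900) L132897
theorem L132906 : sm gb N11246 = N11246 := ded_17_1 (flp_c L132897) L124895 L67408 (flp_b L124895) L132897
theorem L132907 : sm gd N11246 = N10947 := ded_24_2 (flp_c L130125) (flp_d L122614) (flp_c L67293) L124891 L132897
theorem L132909 : sm gi N10314 = N11247 := rfl
theorem L132911 : sm ga N11247 = N10574 := ded_16_1 (flp_i L127119) (flp_a L124893) L132909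
theorem L132913 : sm gb N11247 = N10331 := ded_23_1 (flp_i L125038) (flp_b L124895) L132909
theorem L132915 : sm gd N11247 = N10315 := ded_34_1 (flp_i L124902) L124891 L132909
theorem L132917 : sm gf N11247 = N11247 := ded_41_1 (flp_i L132909) L124897 L132909
theorem L132918 : sm gg N11247 = N10318 := ded_43_1 (flp_i L124928) (flp_g L124898) L132909
theorem L132920 : sm gh N11247 = N10539 := ded_44_1 (flp_i L126792) (flp_h L71990) (flp_i L71505) (flp_h L124900) L132909
theorem L132922 : sm ge N10316 = N11248 := rfl
theorem L132924 : sm gb N11248 = N11248 := ded_19_1 (flp_e L132922) L124919 L132922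
theorem L132925 : sm gc N11248 = N10317 := ded_25_1 (flp_e L124922) L124913 L132922
theorem L132927 : sm gh N11248 = N10575 := ded_37_2 (flp_e L127126) (flp_h L124917) L132922
theorem L132929 : sm gi N10316 = N11249 := rfl
theorem L132931 : sm gb N11249 = N11249 := ded_23_1 (flp_i L132929) L124919 L132929
theorem L132932 : sm gc N11249 = N10318 := ded_29_1 (flp_i L124928) L124913 L132929
theorem L132934 : sm gd N11249 = N10951 := ded_34_1 (flp_i L130154) (flp_d L124920) L132929
theorem L132936 : sm gf N11249 = N10320 := ded_41_1 (flp_i L124944) (flp_f L124915) L132929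
theorem L132938 : sm gf N10317 = N11250 := rfl
theorem L132940 : sm gb N11250 = N10332 := ded_20_1 (flp_f L125050) (flp_b L124924) L132938
theorem L132942 : sm gh N11250 = N10576 := ded_40_2 (flp_f L127131) (flp_h L124926) L132938
theorem L132944 : sm ge N11250 = N10321 := ded_35_1 (flp_f L124952) (flp_e L67324) (flp_f L67302) L124922 L132938
theorem L132946 : sm gi N10317 = N11251 := rfl
theorem L132948 : sm gb N11251 = N10333 := ded_23_1 (flp_i L125059) (flp_b L124924) L132946
theorem L132950 : sm ge N11251 = N10318 := ded_38_1 (flp_i L124928) L124922 L132946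
theorem L132952 : sm gh N10318 = N11252 := rfl
theorem L132954 : sm ga N11252 = N10593 := ded_15_1 (flp_h L131642) L131632 L132952
theorem L132956 : sm gb N11252 = N10334 := ded_22_1 (flp_h L125066) (flp_b L124930) L132952
theorem L132958 : sm gf N11252 = N10323 := ded_40_1 (flp_h L124969) (flp_f L124934) L132952
theorem L132960 : sm gg N11252 = N10539 := ded_42_1 (flp_h L132920) L132918 L132952
theorem L132962 : sm gd N11252 = N10370 := ded_33_1 (flp_h L125334) L67878 (flp_h L67314) (flp_d L124932) L132952
theorem L132964 : sm gi N11252 = N10537 := ded_44_2 (flp_h L126769) L118796 (flp_h L67304) L124928 L132952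
theorem L132966 : sm gd N10319 = N11253 := rfl
theorem L132968 : sm gb N11253 = N11253 := ded_18_1 (flp_d L132966) L124938 L132966
theorem L132969 : sm gg N11253 = N11253 := ded_32_2 (flp_d L132966) L124941 L132966
theorem L132970 : sm gc N11253 = N10752 := ded_24_1 (flp_d L128455) L121369 (flp_d L67331) (flp_c L124939) L132966
theorem L132972 : sm ge N11253 = N10955 := ded_30_2 (flp_d L130183) (flp_e L122650) (flp_d L67322) L124936 L132966
theorem L132974 : sm gf N10319 = N11254 := rfl
theorem L132976 : sm gb N11254 = N11254 := ded_20_1 (flp_f L132974) L124938 L132974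
theorem L132977 : sm gc N11254 = N10321 := ded_26_1 (flp_f L124952) (flp_c L124939) L132974
theorem L132979 : sm gh N11254 = N10578 := ded_40_2 (flp_f L127143) (flp_h L124942) L132974
theorem L132981 : sm gi N10319 = N11255 := rfl
theorem L132983 : sm gb N11255 = N11255 := ded_23_1 (flp_i L132981) L124938 L132981
theorem L132984 : sm gc N11255 = N10322 := ded_29_1 (flp_i L124960) (flp_c L124939) L132981
theorem L132986 : sm ge N11255 = N10320 := ded_38_1 (flp_i L124944) L124936 L132981
theorem L132988 : sm gg N11255 = N11255 := ded_43_1 (flp_i L132981) L124941 L132981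
theorem L132989 : sm gh N10320 = N11256 := rfl
theorem L132991 : sm gb N11256 = N11256 := ded_22_1 (flp_h L132989) L124946 L132989
theorem L132992 : sm gc N11256 = N10323 := ded_28_1 (flp_h L124969) (flp_c L124947) L132989
theorem L132994 : sm gg N11256 = N11256 := ded_42_1 (flp_h L132989) L124951 L132989
theorem L132995 : sm gi N11256 = N10580 := ded_44_2 (flp_h L127156) (flp_i L72664) (flp_h L67319) L124944 L132989
theorem L132997 : sm gg N10321 = N11257 := rfl
theorem L132999 : sm gb N11257 = N10335 := ded_21_1 (flp_g L125079) (flp_b L124954) L132997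
theorem L133001 : sm gd N11257 = N10756 := ded_32_1 (flp_g L128486) (flp_d L124956) L132997
theorem L133003 : sm gh N11257 = N10581 := ded_42_2 (flp_g L127162) (flp_h L124958) L132997
theorem L133005 : sm gf N11257 = N11257 := ded_39_1 (flp_g L132997) (flp_f L124952) L67328 L124952 L132997
theorem L133006 : sm gi N10321 = N11258 := rfl
theorem L133008 : sm gb N11258 = N10336 := ded_23_1 (flp_i L125089) (flp_b L124954) L133006
theorem L133010 : sm gd N11258 = N10757 := ded_34_1 (flp_i L128492) (flp_d L124956) L133006
theorem L133012 : sm gf N11258 = N10322 := ded_41_1 (flp_i L124960) L124952 L133006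
theorem L133014 : sm gh N10322 = N11259 := rfl
theorem L133016 : sm gb N11259 = N10337 := ded_22_1 (flp_h L125098) (flp_b L124962) L133014
theorem L133018 : sm ge N11259 = N10323 := ded_37_1 (flp_h L124969) (flp_e L124966) L133014
theorem L133020 : sm gg N11259 = N11259 := ded_42_1 (flp_h L133014) L124968 L133014
theorem L133021 : sm gi N11259 = N10583 := ded_44_2 (flp_h L127175) (flp_i L72676) (flp_h L67329) L124960 L133014
theorem L133023 : sm gc N10324 = N11260 := rfl
theorem L133025 : sm ga N11260 = N10340 := ded_10_1 (flp_c L125126) (flp_a L124980) L133023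
theorem L133027 : sm gf N11260 = N10380 := ded_26_2 L125420 (flp_f L124982) L133023
theorem L133029 : sm gh N11260 = N10328 := ded_28_2 (flp_c L125016) (flp_h L124984) L133023
theorem L133031 : sm gd N11260 = N10379 := ded_24_2 L125410 (flp_d L68634) (flp_c L67356) L124978 L133023
theorem L133033 : sm gi N10324 = N11261 := rfl
theorem L133035 : sm ga N11261 = N10341 := ded_16_1 (flp_i L125134) (flp_a L124980) L133033
theorem L133037 : sm gd N11261 = N10325 := ded_34_1 (flp_i L124986) L124978 L133033
theorem L133039 : sm gf N11261 = N10760 := ded_41_1 (flp_i L128513) (flp_f L124982) L133033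
theorem L133041 : sm gi N10326 = N11262 := rfl
theorem L133043 : sm ga N11262 = N10342 := ded_16_1 (flp_i L125140) (flp_a L125000) L133041
theorem L133045 : sm gd N11262 = N10327 := ded_34_1 (flp_i L125004) L124998 L133041
theorem L133047 : sm gg N11262 = N10330 := ded_43_1 (flp_i L125030) (flp_g L125002) L133041
theorem L133049 : sm gb N10328 = N11263 := rfl
theorem L133051 : sm gd N11263 = N10338 := ded_18_2 (flp_b L125108) (flp_d L125022) L133049
theorem L133053 : sm gf N11263 = N10358 := ded_20_2 L125252 (flp_f L125020) L133049
theorem L133055 : sm ge N10328 = N11264 := rfl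
theorem L133057 : sm ga N11264 = N10343 := ded_12_1 (flp_e L125146) (flp_a L125018) L133055
theorem L133059 : sm gc N11264 = N10329 := ded_25_1 (flp_e L125024) L125016 L133055
theorem L133061 : sm gd N11264 = N11264 := ded_30_1 (flp_e L133055) L125022 L67505 (flp_d L125022) L133055
theorem L133062 : sm gi N10328 = N11265 := rfl
theorem L133064 : sm ga N11265 = N10344 := ded_16_1 (flp_i L125151) (flp_a L125018) L133062
theorem L133066 : sm gc N11265 = N10330 := ded_29_1 (flp_i L125030) L125016 L133062
theorem L133068 : sm gd N11265 = N10339 := ded_34_1 (flp_i L125117) (flp_d L125022) L133062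
theorem L133070 : sm gf N11265 = N10386 := ded_41_1 (flp_i L125468) (flp_f L125020) L133062
theorem L133072 : sm gf N10329 = N11266 := rfl
theorem L133074 : sm ga N11266 = N10345 := ded_13_1 (flp_f L125159) (flp_a L125026) L133072
theorem L133076 : sm gd N11266 = N10332 := ded_31_1 (flp_f L125050) (flp_d L125028) L133072
theorem L133078 : sm ge N11266 = N10761 := ded_35_1 (flp_f L128519) (flp_e L121413) (flp_f L67387) L125024 L133072
theorem L133080 : sm gi N10329 = N11267 := rfl
theorem L133082 : sm ga N11267 = N10346 := ded_16_1 (flp_i L125165) (flp_a L125026) L133080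
theorem L133084 : sm gd N11267 = N10333 := ded_34_1 (flp_i L125059) (flp_d L125028) L133080
theorem L133086 : sm ge N11267 = N10330 := ded_38_1 (flp_i L125030) L125024 L133080
theorem L133088 : sm gh N10330 = N11268 := rfl
theorem L133090 : sm ga N11268 = N10347 := ded_15_1 (flp_h L125171) (flp_a L125032) L133088
theorem L133092 : sm gf N11268 = N10763 := ded_40_1 (flp_h L128533) (flp_f L125036) L133088
theorem L133094 : sm gd N11268 = N10392 := ded_33_1 (flp_h L125518) L67991 (flp_h L67399) (flp_d L125034) L133088
theorem L133096 : sm gi N10332 = N11269 := rfl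
theorem L133098 : sm ga N11269 = N10348 := ded_16_1 (flp_i L125177) (flp_a L125052) L133096
theorem L133100 : sm gc N11269 = N11269 := ded_29_1 (flp_i L133096) L125054 L133096
theorem L133101 : sm ge N11269 = N10336 := ded_38_1 (flp_i L125089) (flp_e L125057) L133096
theorem L133103 : sm gf N11269 = N10333 := ded_41_1 (flp_i L125059) L125050 L133096
theorem L133105 : sm gi N10335 = N11270 := rfl
theorem L133107 : sm ga N11270 = N10349 := ded_16_1 (flp_i L125184) (flp_a L125081) L133105
theorem L133109 : sm gc N11270 = N11270 := ded_29_1 (flp_i L133105) L125083 L133105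
theorem L133110 : sm gd N11270 = N10767 := ded_34_1 (flp_i L128565) (flp_d L125084) L133105
theorem L133112 : sm gf N11270 = N11270 := ded_41_1 (flp_i L133105) L125088 L133105
theorem L133113 : sm gg N11270 = N10336 := ded_43_1 (flp_i L125089) L125079 L133105
theorem L133115 : sm gh N10336 = N11271 := rfl
theorem L133117 : sm ga N11271 = N10350 := ded_15_1 (flp_h L125192) (flp_a L125091) L133115
theorem L133119 : sm gc N11271 = N11271 := ded_28_1 (flp_h L133115) L125093 L133115
theorem L133120 : sm gf N11271 = N10337 := ded_40_1 (flp_h L125098) (flp_f L125096) L133115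
theorem L133122 : sm gi N11271 = N10585 := ded_44_2 (flp_h L127191) (flp_i L72821) (flp_h L67445) L125089 L133115
theorem L133124 : sm gd N10337 = N11272 := rfl
theorem L133126 : sm ga N11272 = N10351 := ded_11_1 (flp_d L125199) (flp_a L125100) L133124
theorem L133128 : sm gg N11272 = N11272 := ded_32_2 (flp_d L133124) L125105 L133124
theorem L133129 : sm gi N11272 = N10586 := ded_34_2 (flp_d L127198) (flp_i L125106) L133124
theorem L133131 : sm ge N11272 = N10401 := ded_30_2 (flp_d L125603) L68065 (flp_d L67463) (flp_e L125103) L133124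
theorem L133133 : sm gh N11272 = N10769 := ded_33_2 (flp_d L128583) (flp_h L121467) (flp_d L67452) L125098 L133124
theorem L133135 : sm gi N10338 = N11273 := rfl
theorem L133137 : sm gb N11273 = N10339 := ded_23_1 (flp_i L125117) L125108 L133135
theorem L133139 : sm gc N11273 = N10992 := ded_29_1 (flp_i L130509) (flp_c L125115) L133135
theorem L133141 : sm ge N11273 = N11273 := ded_38_1 (flp_i L133135) L125110 L133135
theorem L133142 : sm gf N11273 = N10359 := ded_41_1 (flp_i L125256) (flp_f L125111) L133135
theorem L133144 : sm gi N10340 = N11274 := rfl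
theorem L133146 : sm gc N11274 = N10341 := ded_29_1 (flp_i L125134) L125126 L133144
theorem L133148 : sm gd N11274 = N10405 := ded_34_1 (flp_i L125642) (flp_d L125132) L133144
theorem L133150 : sm gf N11274 = N10407 := ded_41_1 (flp_i L125660) (flp_f L125128) L133144
theorem L133152 : sm gh N10341 = N11275 := rfl
theorem L133154 : sm gf N11275 = N10772 := ded_40_1 (flp_h L128599) (flp_f L125138) L133152
theorem L133156 : sm gd N11275 = N10413 := ded_33_1 (flp_h L125705) L68168 (flp_h L67553) (flp_d L125136) L133152
theorem L133158 : sm gi N11275 = N10347 := ded_44_2 (flp_h L125171) (flp_i L67588) (flp_h L67543) L125134 L133152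
theorem L133160 : sm gh N10342 = N11276 := rfl
theorem L133162 : sm gg N11276 = N10347 := ded_42_1 (flp_h L125171) (flp_g L125144) L133160
theorem L133164 : sm gd N11276 = N10416 := ded_33_1 (flp_h L125725) L68195 (flp_h L67576) (flp_d L125142) L133160
theorem L133166 : sm gf N10343 = N11277 := rfl
theorem L133168 : sm gc N11277 = N10345 := ded_26_1 (flp_f L125159) (flp_c L125148) L133166
theorem L133170 : sm gd N11277 = N11277 := ded_31_1 (flp_f L133166) L125150 L133166
theorem L133171 : sm ge N11277 = N10414 := ded_35_1 (flp_f L125709) (flp_e L68187) (flp_f L103519) L125146 L133166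
theorem L133173 : sm gi N10343 = N11278 := rfl
theorem L133175 : sm gc N11278 = N10346 := ded_29_1 (flp_i L125165) (flp_c L125148) L133173
theorem L133177 : sm gd N11278 = N11278 := ded_34_1 (flp_i L133173) L125150 L133173
theorem L133178 : sm ge N11278 = N10344 := ded_38_1 (flp_i L125151) L125146 L133173
theorem L133180 : sm gh N10344 = N11279 := rfl
theorem L133182 : sm gc N11279 = N10347 := ded_28_1 (flp_h L125171) (flp_c L125153) L133180
theorem L133184 : sm gf N11279 = N10416 := ded_40_1 (flp_h L125725) (flp_f L125157) L133180
theorem L133186 : sm gi N10345 = N11280 := rfl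
theorem L133188 : sm gd N11280 = N10348 := ded_34_1 (flp_i L125177) (flp_d L125161) L133186
theorem L133190 : sm ge N11280 = N10774 := ded_38_1 (flp_i L128607) (flp_e L125163) L133186
theorem L133192 : sm gf N11280 = N10346 := ded_41_1 (flp_i L125165) L125159 L133186
theorem L133194 : sm gh N10346 = N11281 := rfl
theorem L133196 : sm ge N11281 = N10347 := ded_37_1 (flp_h L125171) (flp_e L125169) L133194
theorem L133198 : sm gh N10349 = N11282 := rfl
theorem L133200 : sm gc N11282 = N11282 := ded_28_1 (flp_h L133198) L125186 L133198
theorem L133201 : sm gf N11282 = N11282 := ded_40_1 (flp_h L133198) L125189 L133198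
theorem L133202 : sm gg N11282 = N10350 := ded_42_1 (flp_h L125192) (flp_g L125190) L133198
theorem L133204 : sm gi N11282 = N10587 := ded_44_2 (flp_h L127206) (flp_i L73041) (flp_h L67635) L125184 L133198
theorem L133206 : sm gd N10350 = N11283 := rfl
theorem L133208 : sm gf N11283 = N10351 := ded_31_2 (flp_d L125199) (flp_f L125195) L133206
theorem L133210 : sm gi N11283 = N10588 := ded_34_2 (flp_d L127212) (flp_i L125197) L133206
theorem L133212 : sm gh N11283 = N10780 := ded_33_2 (flp_d L128645) (flp_h L121527) (flp_d L67641) L125192 L133206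
theorem L133214 : sm gc N10351 = N11284 := rfl
theorem L133216 : sm ge N11284 = N10434 := ded_25_2 (flp_c L125854) (flp_e L125204) L133214
theorem L133218 : sm gg N11284 = N11284 := ded_27_2 (flp_c L133214) L125201 L133214
theorem L133219 : sm gh N11284 = N10781 := ded_28_2 (flp_c L128650) (flp_h L125206) L133214
theorem L133221 : sm gi N11284 = N10589 := ded_29_2 (flp_c L127217) (flp_i L125202) L133214
theorem L133223 : sm gd N11284 = N11284 := ded_24_2 (flp_c L133214) (flp_d L125199) L67647 L125199 L133214
theorem L133224 : sm gf N10352 = N11285 := rfl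
theorem L133226 : sm gb N11285 = N10441 := ded_20_1 L125923 (flp_b L125210) L133224
theorem L133228 : sm gc N11285 = N10354 := ded_26_1 (flp_f L125224) (flp_c L125212) L133224
theorem L133230 : sm gd N11285 = N11048 := ded_31_1 L131018 L126033 L133224
theorem L133232 : sm gh N10352 = N11286 := rfl
theorem L133234 : sm gb N11286 = N10448 := ded_22_1 (flp_h L125983) (flp_b L125210) L133232
theorem L133236 : sm gc N11286 = N10355 := ded_28_1 (flp_h L125230) (flp_c L125212) L133232
theorem L133238 : sm ge N11286 = N10590 := ded_37_1 (flp_h L127224) (flp_e L125214) L133232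
theorem L133240 : sm gg N11286 = N10353 := ded_42_1 (flp_h L125216) L125208 L133232
theorem L133242 : sm gd N10353 = N11287 := rfl
theorem L133244 : sm gb N11287 = N10449 := ded_18_1 (flp_d L125992) (flp_b L125218) L133242
theorem L133246 : sm gi N10353 = N11288 := rfl
theorem L133248 : sm gb N11288 = N10450 := ded_23_1 (flp_i L125995) (flp_b L125218) L133246
theorem L133250 : sm gc N11288 = N10357 := ded_29_1 (flp_i L125244) (flp_c L125220) L133246
theorem L133252 : sm ge N11288 = N10592 := ded_38_1 (flp_i L127238) (flp_e L125222) L133246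
theorem L133254 : sm ge N10354 = N11289 := rfl
theorem L133256 : sm ga N11289 = N10582 := ded_12_1 (flp_e L132016) L132008 L133254
theorem L133258 : sm gb N11289 = N10378 := ded_19_1 (flp_e L125395) (flp_b L125226) L133254
theorem L133260 : sm gi N11289 = N10530 := ded_38_2 (flp_e L131162) L131168 L133254
theorem L133262 : sm gd N11289 = N11289 := ded_30_1 (flp_e L133254) L125228 L67825 (flp_d L125228) L133254
theorem L133263 : sm gf N11289 = N10531 := ded_35_2 L126718 L118700 (flp_e L67813) L125224 L133254
theorem L133265 : sm gh N10354 = N11290 := rfl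
theorem L133267 : sm gb N11290 = N10379 := ded_22_1 (flp_h L125406) (flp_b L125226) L133265
theorem L133269 : sm gf N11290 = N10355 := ded_40_1 (flp_h L125230) L125224 L133265
theorem L133271 : sm gd N10355 = N11291 := rfl
theorem L133273 : sm gb N11291 = N10380 := ded_18_1 (flp_d L125414) (flp_b L125232) L133271
theorem L133275 : sm gg N11291 = N10356 := ded_32_2 (flp_d L125238) (flp_g L125236) L133271
theorem L133277 : sm gh N11291 = N10358 := ded_33_2 (flp_d L125250) (flp_h L67826) (flp_d L67811) L125230 L133271
theorem L133279 : sm gi N10355 = N11292 := rfl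
theorem L133281 : sm gb N11292 = N10381 := ded_23_1 (flp_i L125424) (flp_b L125232) L133279
theorem L133283 : sm ge N11292 = N10593 := ded_38_1 (flp_i L127245) (flp_e L125234) L133279
theorem L133285 : sm gg N11292 = N10357 := ded_43_1 (flp_i L125244) (flp_g L125236) L133279
theorem L133287 : sm gc N10356 = N11293 := rfl
theorem L133289 : sm gh N11293 = N10360 := ded_28_2 (flp_c L125264) (flp_h L125242) L133287
theorem L133291 : sm ge N10356 = N11294 := rfl
theorem L133293 : sm gb N11294 = N10383 := ded_19_1 (flp_e L125444) (flp_b L125240) L133291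
theorem L133295 : sm gh N11294 = N10361 := ded_37_2 (flp_e L125266) (flp_h L125242) L133291
theorem L133297 : sm gd N11294 = N10595 := ded_30_1 (flp_e L127257) (flp_d L73204) (flp_e L67819) L125238 L133291
theorem L133299 : sm gi N10356 = N11295 := rfl
theorem L133301 : sm gb N11295 = N10384 := ded_23_1 (flp_i L125452) (flp_b L125240) L133299
theorem L133303 : sm gd N11295 = N10357 := ded_34_1 (flp_i L125244) L125238 L133299
theorem L133305 : sm gc N10358 = N11296 := rfl
theorem L133307 : sm gg N11296 = N10360 := ded_27_2 (flp_c L125264) (flp_g L125254) L133305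
theorem L133309 : sm gb N11296 = N10744 := ded_17_1 (flp_c L128402) L121333 (flp_c L120843) (flp_b L125252) L133305
theorem L133311 : sm ge N10358 = N11297 := rfl
theorem L133313 : sm gb N11297 = N10385 := ded_19_1 (flp_e L125458) (flp_b L125252) L133311
theorem L133315 : sm gg N11297 = N10361 := ded_36_2 (flp_e L125266) (flp_g L125254) L133311
theorem L133317 : sm gd N11297 = N10364 := ded_30_1 (flp_e L125287) (flp_d L67844) (flp_e L67830) L125250 L133311
theorem L133319 : sm gi N10358 = N11298 := rfl
theorem L133321 : sm gb N11298 = N10386 := ded_23_1 (flp_i L125468) (flp_b L125252) L133319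
theorem L133323 : sm gd N11298 = N10359 := ded_34_1 (flp_i L125256) L125250 L133319
theorem L133325 : sm gg N11298 = N10362 := ded_43_1 (flp_i L125272) (flp_g L125254) L133319
theorem L133327 : sm gb N10360 = N11299 := rfl
theorem L133329 : sm gd N11299 = N11296 := ded_18_2 L133309 L128404 L133327
theorem L133331 : sm gg N11299 = N10744 := ded_21_2 (flp_b L133309) L133307 L133327
theorem L133333 : sm gc N11299 = N10387 := ded_17_2 (flp_b L125478) (flp_c L67975) (flp_b L67836) L125264 L133327
theorem L133335 : sm ge N10360 = N11300 := rfl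
theorem L133337 : sm gc N11300 = N10361 := ded_25_1 (flp_e L125266) L125264 L133335
theorem L133339 : sm gi N10360 = N11301 := rfl
theorem L133341 : sm gc N11301 = N10362 := ded_29_1 (flp_i L125272) L125264 L133339
theorem L133343 : sm gf N10361 = N11302 := rfl
theorem L133345 : sm gb N11302 = N10390 := ded_20_1 (flp_f L125504) (flp_b L125268) L133343
theorem L133347 : sm gd N11302 = N10368 := ded_31_1 (flp_f L125320) (flp_d L125270) L133343
theorem L133349 : sm gi N10361 = N11303 := rfl
theorem L133351 : sm gb N11303 = N10391 := ded_23_1 (flp_i L125510) (flp_b L125268) L133349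
theorem L133353 : sm gd N11303 = N10369 := ded_34_1 (flp_i L125328) (flp_d L125270) L133349
theorem L133355 : sm ge N11303 = N10362 := ded_38_1 (flp_i L125272) L125266 L133349
theorem L133357 : sm gh N10362 = N11304 := rfl
theorem L133359 : sm gb N11304 = N10392 := ded_22_1 (flp_h L125518) (flp_b L125274) L133357
theorem L133361 : sm ge N10363 = N11305 := rfl
theorem L133363 : sm gb N11305 = N10466 := ded_19_1 (flp_e L126137) (flp_b L125285) L133361
theorem L133365 : sm gc N11305 = N10364 := ded_25_1 (flp_e L125287) L125278 L133361
theorem L133367 : sm gg N11305 = N10366 := ded_36_2 (flp_e L125304) (flp_g L125281) L133361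
theorem L133369 : sm gh N11305 = N10599 := ded_37_2 (flp_e L127282) (flp_h L125283) L133361
theorem L133371 : sm gi N10363 = N11306 := rfl
theorem L133373 : sm gb N11306 = N10467 := ded_23_1 (flp_i L126146) (flp_b L125285) L133371
theorem L133375 : sm gc N11306 = N10365 := ded_29_1 (flp_i L125295) L125278 L133371
theorem L133377 : sm gf N11306 = N11306 := ded_41_1 (flp_i L133371) L125280 L133371
theorem L133378 : sm gg N11306 = N10367 := ded_43_1 (flp_i L125312) (flp_g L125281) L133371
theorem L133380 : sm gf N10364 = N11307 := rfl
theorem L133382 : sm gb N11307 = N10393 := ded_20_1 (flp_f L125522) (flp_b L125289) L133380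
theorem L133384 : sm gh N11307 = N10600 := ded_40_2 (flp_f L127290) (flp_h L125293) L133380
theorem L133386 : sm ge N11307 = N11307 := ded_35_1 (flp_f L133380) (flp_e L125287) L67848 L125287 L133380
theorem L133387 : sm gi N10364 = N11308 := rfl
theorem L133389 : sm gb N11308 = N10394 := ded_23_1 (flp_i L125531) (flp_b L125289) L133387
theorem L133391 : sm ge N11308 = N10365 := ded_38_1 (flp_i L125295) L125287 L133387
theorem L133393 : sm gg N11308 = N10369 := ded_43_1 (flp_i L125328) (flp_g L125291) L133387
theorem L133395 : sm gh N10365 = N11309 := rfl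
theorem L133397 : sm ga N11309 = N10596 := ded_15_1 (flp_h L132124) L132115 L133395
theorem L133399 : sm gb N11309 = N10395 := ded_22_1 (flp_h L125541) (flp_b L125297) L133395
theorem L133401 : sm gf N11309 = N11309 := ded_40_1 (flp_h L133395) L125301 L133395
theorem L133402 : sm gg N11309 = N10370 := ded_42_1 (flp_h L125334) (flp_g L125302) L133395
theorem L133404 : sm gd N11309 = N10539 := ded_33_1 (flp_h L132920) L132915 L124911 (flp_d L125299) L133395
theorem L133406 : sm gi N11309 = N10538 := ded_44_2 L126790 L118130 (flp_h L67851) L125295 L133395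
theorem L133408 : sm gd N10366 = N11310 := rfl
theorem L133410 : sm gb N11310 = N10471 := ded_18_1 (flp_d L126188) (flp_b L125306) L133408
theorem L133412 : sm gf N10366 = N11311 := rfl
theorem L133414 : sm gb N11311 = N10472 := ded_20_1 (flp_f L126191) (flp_b L125306) L133412
theorem L133416 : sm gc N11311 = N10368 := ded_26_1 (flp_f L125320) (flp_c L125308) L133412
theorem L133418 : sm gh N11311 = N10602 := ded_40_2 (flp_f L127300) (flp_h L125310) L133412
theorem L133420 : sm ge N11311 = N10372 := ded_35_1 (flp_f L125347) (flp_e L67882) (flp_f L67862) L125304 L133412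
theorem L133422 : sm gi N10366 = N11312 := rfl
theorem L133424 : sm gb N11312 = N10473 := ded_23_1 (flp_i L126200) (flp_b L125306) L133422
theorem L133426 : sm gc N11312 = N10369 := ded_29_1 (flp_i L125328) (flp_c L125308) L133422
theorem L133428 : sm ge N11312 = N10367 := ded_38_1 (flp_i L125312) L125304 L133422
theorem L133430 : sm gh N10367 = N11313 := rfl
theorem L133432 : sm gb N11313 = N10474 := ded_22_1 (flp_h L126207) (flp_b L125314) L133430
theorem L133434 : sm gc N11313 = N10370 := ded_28_1 (flp_h L125334) (flp_c L125316) L133430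
theorem L133436 : sm gf N11313 = N10374 := ded_40_1 (flp_h L125364) (flp_f L125318) L133430
theorem L133438 : sm gi N11313 = N10604 := ded_44_2 (flp_h L127316) (flp_i L73287) (flp_h L67864) L125312 L133430
theorem L133440 : sm gg N10368 = N11314 := rfl
theorem L133442 : sm gb N11314 = N10396 := ded_21_1 (flp_g L125554) (flp_b L125322) L133440
theorem L133444 : sm ge N11314 = N10375 := ded_36_1 (flp_g L125373) (flp_e L125326) L133440
theorem L133446 : sm gh N11314 = N10605 := ded_42_2 (flp_g L127324) (flp_h L125324) L133440
theorem L133448 : sm gi N10368 = N11315 := rfl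
theorem L133450 : sm gb N11315 = N10397 := ded_23_1 (flp_i L125564) (flp_b L125322) L133448
theorem L133452 : sm ge N11315 = N10376 := ded_38_1 (flp_i L125380) (flp_e L125326) L133448
theorem L133454 : sm gf N11315 = N10369 := ded_41_1 (flp_i L125328) L125320 L133448
theorem L133456 : sm gh N10369 = N11316 := rfl
theorem L133458 : sm gb N11316 = N10398 := ded_22_1 (flp_h L125574) (flp_b L125330) L133456
theorem L133460 : sm ge N11316 = N10370 := ded_37_1 (flp_h L125334) (flp_e L125332) L133456
theorem L133462 : sm gi N11316 = N10607 := ded_44_2 (flp_h L127338) (flp_i L73302) (flp_h L67872) L125328 L133456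
theorem L133464 : sm gf N10371 = N11317 := rfl
theorem L133466 : sm gb N11317 = N10478 := ded_20_1 (flp_f L126243) (flp_b L125344) L133464
theorem L133468 : sm gd N11317 = N10372 := ded_31_1 (flp_f L125347) L125342 L133464
theorem L133470 : sm gh N10371 = N11318 := rfl
theorem L133472 : sm gb N11318 = N10479 := ded_22_1 (flp_h L126249) (flp_b L125344) L133470
theorem L133474 : sm gg N11318 = N11318 := ded_42_1 (flp_h L133470) L125346 L133470
theorem L133475 : sm gd N11318 = N10609 := ded_33_1 (flp_h L127351) (flp_d L73314) (flp_h L67889) L125342 L133470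
theorem L133477 : sm gi N10371 = N11319 := rfl
theorem L133479 : sm gb N11319 = N10480 := ded_23_1 (flp_i L126256) (flp_b L125344) L133477
theorem L133481 : sm gd N11319 = N10373 := ded_34_1 (flp_i L125355) L125342 L133477
theorem L133483 : sm gg N11319 = N11319 := ded_43_1 (flp_i L133477) L125346 L133477
theorem L133484 : sm gg N10372 = N11320 := rfl
theorem L133486 : sm gb N11320 = N10481 := ded_21_1 (flp_g L126263) (flp_b L125349) L133484
theorem L133488 : sm gc N11320 = N10375 := ded_27_1 (flp_g L125373) (flp_c L125351) L133484
theorem L133490 : sm gh N11320 = N10611 := ded_42_2 (flp_g L127367) (flp_h L125353) L133484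
theorem L133492 : sm gf N11320 = N11320 := ded_39_1 (flp_g L133484) (flp_f L125347) L67888 L125347 L133484
theorem L133493 : sm gi N10372 = N11321 := rfl
theorem L133495 : sm gb N11321 = N10482 := ded_23_1 (flp_i L126271) (flp_b L125349) L133493
theorem L133497 : sm gc N11321 = N10376 := ded_29_1 (flp_i L125380) (flp_c L125351) L133493
theorem L133499 : sm gf N11321 = N10373 := ded_41_1 (flp_i L125355) L125347 L133493
theorem L133501 : sm gh N10373 = N11322 := rfl
theorem L133503 : sm gb N11322 = N10483 := ded_22_1 (flp_h L126278) (flp_b L125357) L133501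
theorem L133505 : sm gc N11322 = N10377 := ded_28_1 (flp_h L125386) (flp_c L125359) L133501
theorem L133507 : sm ge N11322 = N10374 := ded_37_1 (flp_h L125364) (flp_e L125361) L133501
theorem L133509 : sm gg N11322 = N11322 := ded_42_1 (flp_h L133501) L125363 L133501
theorem L133510 : sm gi N11322 = N10613 := ded_44_2 (flp_h L127382) (flp_i L73327) (flp_h L67889) L125355 L133501
theorem L133512 : sm gd N10374 = N11323 := rfl
theorem L133514 : sm gb N11323 = N10484 := ded_18_1 (flp_d L126288) (flp_b L125366) L133512
theorem L133516 : sm gg N11323 = N11323 := ded_32_2 (flp_d L133512) L125370 L133512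
theorem L133517 : sm gi N11323 = N10614 := ded_34_2 (flp_d L127391) (flp_i L125371) L133512
theorem L133519 : sm gi N10375 = N11324 := rfl
theorem L133521 : sm gb N11324 = N10399 := ded_23_1 (flp_i L125584) (flp_b L125375) L133519
theorem L133523 : sm gf N11324 = N11324 := ded_41_1 (flp_i L133519) L125379 L133519
theorem L133524 : sm gg N11324 = N10376 := ded_43_1 (flp_i L125380) L125373 L133519
theorem L133526 : sm gh N10376 = N11325 := rfl
theorem L133528 : sm gb N11325 = N10400 := ded_22_1 (flp_h L125593) (flp_b L125382) L133526
theorem L133530 : sm gf N11325 = N10377 := ded_40_1 (flp_h L125386) (flp_f L125384) L133526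
theorem L133532 : sm gi N11325 = N10616 := ded_44_2 (flp_h L127405) (flp_i L73349) (flp_h L67902) L125380 L133526
theorem L133534 : sm gd N10377 = N11326 := rfl
theorem L133536 : sm gb N11326 = N10401 := ded_18_1 (flp_d L125603) (flp_b L125388) L133534
theorem L133538 : sm gg N11326 = N11326 := ded_32_2 (flp_d L133534) L125392 L133534
theorem L133539 : sm gi N11326 = N10617 := ded_34_2 (flp_d L127411) (flp_i L125393) L133534
theorem L133541 : sm gh N10378 = N11327 := rfl
theorem L133543 : sm ga N11327 = N10404 := ded_15_1 (flp_h L125632) (flp_a L125397) L133541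
theorem L133545 : sm gc N11327 = N10445 := ded_28_1 L125960 (flp_c L125399) L133541
theorem L133547 : sm ge N11327 = N10379 := ded_37_1 (flp_h L125406) L125395 L133541
theorem L133549 : sm gf N11327 = N10533 := ded_40_1 (flp_h L126732) (flp_f L125404) L133541
theorem L133551 : sm gi N10379 = N11328 := rfl
theorem L133553 : sm ga N11328 = N10405 := ded_16_1 (flp_i L125642) (flp_a L125408) L133551
theorem L133555 : sm gc N11328 = N10446 := ded_29_1 (flp_i L125966) (flp_c L125410) L133551
theorem L133557 : sm gf N11328 = N10381 := ded_41_1 (flp_i L125424) (flp_f L125412) L133551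
theorem L133559 : sm ge N10380 = N11329 := rfl
theorem L133561 : sm ga N11329 = N10406 := ded_12_1 (flp_e L125648) (flp_a L125416) L133559
theorem L133563 : sm gc N11329 = N10759 := ded_25_1 (flp_e L128506) (flp_c L125420) L133559
theorem L133565 : sm gg N11329 = N10383 := ded_36_2 (flp_e L125444) (flp_g L125418) L133559
theorem L133567 : sm gh N11329 = N10385 := ded_37_2 (flp_e L125458) (flp_h L125422) L133559
theorem L133569 : sm gd N11329 = N10561 := ded_30_1 L127010 L118344 (flp_e L67932) L125414 L133559
theorem L133571 : sm gi N10380 = N11330 := rfl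
theorem L133573 : sm ga N11330 = N10407 := ded_16_1 (flp_i L125660) (flp_a L125416) L133571
theorem L133575 : sm gc N11330 = N10760 := ded_29_1 (flp_i L128513) (flp_c L125420) L133571
theorem L133577 : sm gd N11330 = N10381 := ded_34_1 (flp_i L125424) L125414 L133571
theorem L133579 : sm gg N11330 = N10384 := ded_43_1 (flp_i L125452) (flp_g L125418) L133571
theorem L133581 : sm gb N10382 = N11331 := rfl
theorem L133583 : sm gd N11331 = N10455 := ded_18_2 (flp_b L126040) (flp_d L125442) L133581
theorem L133585 : sm gg N11331 = N10742 := ded_21_2 L128393 (flp_g L125438) L133581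
theorem L133587 : sm gh N11331 = N10387 := ded_22_2 (flp_b L125478) (flp_h L125440) L133581
theorem L133589 : sm ge N10382 = N11332 := rfl
theorem L133591 : sm ga N11332 = N10409 := ded_12_1 (flp_e L125676) (flp_a L125436) L133589
theorem L133593 : sm gc N11332 = N10383 := ded_25_1 (flp_e L125444) L125434 L133589
theorem L133595 : sm gg N11332 = N10759 := ded_36_2 (flp_e L128506) (flp_g L125438) L133589
theorem L133597 : sm gh N11332 = N10388 := ded_37_2 (flp_e L125484) (flp_h L125440) L133589
theorem L133599 : sm gd N11332 = N11332 := ded_30_1 (flp_e L133589) L125442 L69300 (flp_d L125442) L133589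
theorem L133600 : sm gi N10382 = N11333 := rfl
theorem L133602 : sm ga N11333 = N10410 := ded_16_1 (flp_i L125685) (flp_a L125436) L133600
theorem L133604 : sm gc N11333 = N10384 := ded_29_1 (flp_i L125452) L125434 L133600
theorem L133606 : sm gd N11333 = N10456 := ded_34_1 (flp_i L126047) (flp_d L125442) L133600
theorem L133608 : sm gg N11333 = N10760 := ded_43_1 (flp_i L128513) (flp_g L125438) L133600
theorem L133610 : sm gf N10383 = N11334 := rfl
theorem L133612 : sm ga N11334 = N10411 := ded_13_1 (flp_f L125693) (flp_a L125446) L133610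
theorem L133614 : sm gd N11334 = N10618 := ded_31_1 (flp_f L127417) (flp_d L125450) L133610
theorem L133616 : sm gh N11334 = N10390 := ded_40_2 (flp_f L125504) (flp_h L125448) L133610
theorem L133618 : sm gi N10383 = N11335 := rfl
theorem L133620 : sm ga N11335 = N10412 := ded_16_1 (flp_i L125699) (flp_a L125446) L133618
theorem L133622 : sm gd N11335 = N10619 := ded_34_1 (flp_i L127425) (flp_d L125450) L133618
theorem L133624 : sm ge N11335 = N10384 := ded_38_1 (flp_i L125452) L125444 L133618
theorem L133626 : sm gh N10384 = N11336 := rfl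
theorem L133628 : sm ga N11336 = N10413 := ded_15_1 (flp_h L125705) (flp_a L125454) L133626
theorem L133630 : sm gi N11336 = N10392 := ded_44_2 (flp_h L125518) (flp_i L67987) (flp_h L67940) L125452 L133626
theorem L133632 : sm gf N10385 = N11337 := rfl
theorem L133634 : sm ga N11337 = N10414 := ded_13_1 (flp_f L125709) (flp_a L125460) L133632
theorem L133636 : sm gc N11337 = N10761 := ded_26_1 (flp_f L128519) (flp_c L125462) L133632
theorem L133638 : sm gd N11337 = N10393 := ded_31_1 (flp_f L125522) (flp_d L125466) L133632
theorem L133640 : sm gi N10385 = N11338 := rfl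
theorem L133642 : sm ga N11338 = N10415 := ded_16_1 (flp_i L125715) (flp_a L125460) L133640
theorem L133644 : sm gc N11338 = N10762 := ded_29_1 (flp_i L128525) (flp_c L125462) L133640
theorem L133646 : sm gd N11338 = N10394 := ded_34_1 (flp_i L125531) (flp_d L125466) L133640
theorem L133648 : sm ge N11338 = N10386 := ded_38_1 (flp_i L125468) L125458 L133640
theorem L133650 : sm gg N11338 = N10391 := ded_43_1 (flp_i L125510) (flp_g L125464) L133640
theorem L133652 : sm gh N10386 = N11339 := rfl
theorem L133654 : sm ga N11339 = N10416 := ded_15_1 (flp_h L125725) (flp_a L125470) L133652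
theorem L133656 : sm gc N11339 = N10763 := ded_28_1 (flp_h L128533) (flp_c L125472) L133652
theorem L133658 : sm gg N11339 = N10392 := ded_42_1 (flp_h L125518) (flp_g L125476) L133652
theorem L133660 : sm ga N10387 = N11340 := rfl
theorem L133662 : sm gd N11340 = N10402 := ded_11_2 (flp_a L125610) (flp_d L125480) L133660
theorem L133664 : sm gg N11340 = N10702 := ded_14_2 L128103 (flp_g L125482) L133660
theorem L133666 : sm gb N11340 = N10417 := ded_9_2 (flp_a L125731) (flp_b L68199) (flp_a L67977) L125478 L133660
theorem L133668 : sm ge N10387 = N11341 := rfl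
theorem L133670 : sm gb N11341 = N10388 := ded_19_1 (flp_e L125484) L125478 L133668
theorem L133672 : sm gg N11341 = N10745 := ded_36_2 (flp_e L128406) (flp_g L125482) L133668
theorem L133674 : sm gd N11341 = N10489 := ded_30_1 (flp_e L126333) L69919 (flp_e L68107) (flp_d L125480) L133668
theorem L133676 : sm gi N10387 = N11342 := rfl
theorem L133678 : sm gb N11342 = N10389 := ded_23_1 (flp_i L125494) L125478 L133676
theorem L133680 : sm gd N11342 = N10403 := ded_34_1 (flp_i L125622) (flp_d L125480) L133676
theorem L133682 : sm gg N11342 = N10746 := ded_43_1 (flp_i L128412) (flp_g L125482) L133676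
theorem L133684 : sm gf N10388 = N11343 := rfl
theorem L133686 : sm ga N11343 = N10420 := ded_13_1 (flp_f L125753) (flp_a L125486) L133684
theorem L133688 : sm gc N11343 = N10390 := ded_26_1 (flp_f L125504) (flp_c L125488) L133684
theorem L133690 : sm gd N11343 = N10491 := ded_31_1 (flp_f L126349) (flp_d L125492) L133684
theorem L133692 : sm gi N10388 = N11344 := rfl
theorem L133694 : sm ga N11344 = N10421 := ded_16_1 (flp_i L125759) (flp_a L125486) L133692
theorem L133696 : sm gc N11344 = N10391 := ded_29_1 (flp_i L125510) (flp_c L125488) L133692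
theorem L133698 : sm gd N11344 = N10492 := ded_34_1 (flp_i L126357) (flp_d L125492) L133692
theorem L133700 : sm ge N11344 = N10389 := ded_38_1 (flp_i L125494) L125484 L133692
theorem L133702 : sm gg N11344 = N10762 := ded_43_1 (flp_i L128525) (flp_g L125490) L133692
theorem L133704 : sm gh N10389 = N11345 := rfl
theorem L133706 : sm ga N11345 = N10422 := ded_15_1 (flp_h L125769) (flp_a L125496) L133704
theorem L133708 : sm gc N11345 = N10392 := ded_28_1 (flp_h L125518) (flp_c L125498) L133704
theorem L133710 : sm gg N11345 = N10763 := ded_42_1 (flp_h L128533) (flp_g L125502) L133704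
theorem L133712 : sm gg N10390 = N11346 := rfl
theorem L133714 : sm ga N11346 = N10423 := ded_14_1 (flp_g L125775) (flp_a L125506) L133712
theorem L133716 : sm gd N11346 = N10396 := ded_32_1 (flp_g L125554) (flp_d L125508) L133712
theorem L133718 : sm gi N10390 = N11347 := rfl
theorem L133720 : sm ga N11347 = N10424 := ded_16_1 (flp_i L125779) (flp_a L125506) L133718
theorem L133722 : sm gd N11347 = N10397 := ded_34_1 (flp_i L125564) (flp_d L125508) L133718
theorem L133724 : sm gf N11347 = N10391 := ded_41_1 (flp_i L125510) L125504 L133718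
theorem L133726 : sm gh N10391 = N11348 := rfl
theorem L133728 : sm ga N11348 = N10425 := ded_15_1 (flp_h L125785) (flp_a L125512) L133726
theorem L133730 : sm ge N11348 = N10392 := ded_37_1 (flp_h L125518) (flp_e L125516) L133726
theorem L133732 : sm gg N10393 = N11349 := rfl
theorem L133734 : sm ga N11349 = N10426 := ded_14_1 (flp_g L125789) (flp_a L125524) L133732
theorem L133736 : sm gc N11349 = N10497 := ded_27_1 (flp_g L126405) (flp_c L125526) L133732
theorem L133738 : sm ge N11349 = N11349 := ded_36_1 (flp_g L133732) L125530 L133732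
theorem L133739 : sm gh N11349 = N10621 := ded_42_2 (flp_g L127440) (flp_h L125528) L133732
theorem L133741 : sm gf N11349 = N10396 := ded_39_1 (flp_g L125554) (flp_f L68014) (flp_g L67999) L125522 L133732
theorem L133743 : sm gi N10393 = N11350 := rfl
theorem L133745 : sm ga N11350 = N10427 := ded_16_1 (flp_i L125798) (flp_a L125524) L133743
theorem L133747 : sm gc N11350 = N10498 := ded_29_1 (flp_i L126416) (flp_c L125526) L133743
theorem L133749 : sm ge N11350 = N11350 := ded_38_1 (flp_i L133743) L125530 L133743
theorem L133750 : sm gf N11350 = N10394 := ded_41_1 (flp_i L125531) L125522 L133743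
theorem L133752 : sm gh N10394 = N11351 := rfl
theorem L133754 : sm ga N11351 = N10428 := ded_15_1 (flp_h L125805) (flp_a L125533) L133752
theorem L133756 : sm gc N11351 = N10499 := ded_28_1 (flp_h L126425) (flp_c L125535) L133752
theorem L133758 : sm ge N11351 = N10395 := ded_37_1 (flp_h L125541) (flp_e L125537) L133752
theorem L133760 : sm gg N11351 = N10398 := ded_42_1 (flp_h L125574) (flp_g L125539) L133752
theorem L133762 : sm gi N11351 = N10556 := ded_44_2 L126964 L118034 (flp_h L68001) L125531 L133752
theorem L133764 : sm gi N10396 = N11352 := rfl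
theorem L133766 : sm ga N11352 = N10429 := ded_16_1 (flp_i L125817) (flp_a L125556) L133764
theorem L133768 : sm gc N11352 = N10500 := ded_29_1 (flp_i L126435) (flp_c L125558) L133764
theorem L133770 : sm ge N11352 = N10399 := ded_38_1 (flp_i L125584) (flp_e L125560) L133764
theorem L133772 : sm gg N11352 = N10397 := ded_43_1 (flp_i L125564) L125554 L133764
theorem L133774 : sm gh N10397 = N11353 := rfl
theorem L133776 : sm ga N11353 = N10430 := ded_15_1 (flp_h L125825) (flp_a L125566) L133774
theorem L133778 : sm gc N11353 = N10501 := ded_28_1 (flp_h L126443) (flp_c L125568) L133774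
theorem L133780 : sm ge N11353 = N10400 := ded_37_1 (flp_h L125593) (flp_e L125570) L133774
theorem L133782 : sm gf N11353 = N10398 := ded_40_1 (flp_h L125574) (flp_f L125572) L133774
theorem L133784 : sm gi N11353 = N10623 := ded_44_2 (flp_h L127459) (flp_i L73505) (flp_h L68020) L125564 L133774
theorem L133786 : sm gd N10398 = N11354 := rfl
theorem L133788 : sm ga N11354 = N10431 := ded_11_1 (flp_d L125835) (flp_a L125576) L133786
theorem L133790 : sm gi N11354 = N10624 := ded_34_2 (flp_d L127469) (flp_i L125582) L133786
theorem L133792 : sm gh N10399 = N11355 := rfl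
theorem L133794 : sm ga N11355 = N10432 := ded_15_1 (flp_h L125839) (flp_a L125586) L133792
theorem L133796 : sm gc N11355 = N10503 := ded_28_1 (flp_h L126460) (flp_c L125588) L133792
theorem L133798 : sm gf N11355 = N11355 := ded_40_1 (flp_h L133792) L125590 L133792
theorem L133799 : sm gg N11355 = N10400 := ded_42_1 (flp_h L125593) (flp_g L125591) L133792
theorem L133801 : sm gi N11355 = N10625 := ded_44_2 (flp_h L127473) (flp_i L73523) (flp_h L68048) L125584 L133792
theorem L133803 : sm gd N10400 = N11356 := rfl
theorem L133805 : sm ga N11356 = N10433 := ded_11_1 (flp_d L125848) (flp_a L125595) L133803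
theorem L133807 : sm gf N11356 = N10401 := ded_31_2 (flp_d L125603) (flp_f L125599) L133803
theorem L133809 : sm gi N11356 = N10626 := ded_34_2 (flp_d L127482) (flp_i L125601) L133803
theorem L133811 : sm gc N10401 = N11357 := rfl
theorem L133813 : sm ga N11357 = N10434 := ded_10_1 (flp_c L125854) (flp_a L125605) L133811
theorem L133815 : sm gg N11357 = N11357 := ded_27_2 (flp_c L133811) L125607 L133811
theorem L133816 : sm gi N11357 = N10627 := ded_29_2 (flp_c L127489) (flp_i L125608) L133811
theorem L133818 : sm gd N11357 = N10505 := ded_24_2 (flp_c L126478) (flp_d L70027) (flp_c L68063) L125603 L133811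
theorem L133820 : sm gi N10402 = N11358 := rfl
theorem L133822 : sm ga N11358 = N10403 := ded_16_1 (flp_i L125622) L125610 L133820
theorem L133824 : sm gb N11358 = N10435 := ded_23_1 (flp_i L125861) (flp_b L125620) L133820
theorem L133826 : sm gc N11358 = N11148 := ded_29_1 (flp_i L132063) (flp_c L125612) L133820
theorem L133828 : sm ge N11358 = N10506 := ded_38_1 (flp_i L126487) (flp_e L125614) L133820
theorem L133830 : sm gg N11358 = N10703 := ded_43_1 (flp_i L128107) (flp_g L125616) L133820
theorem L133832 : sm gf N10406 = N11359 := rfl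
theorem L133834 : sm gb N11359 = N10631 := ded_20_1 L127519 (flp_b L125650) L133832
theorem L133836 : sm gc N11359 = N10770 := ded_26_1 (flp_f L128589) (flp_c L125652) L133832
theorem L133838 : sm gd N11359 = N10569 := ded_31_1 L127090 (flp_d L125658) L133832
theorem L133840 : sm gh N11359 = N10414 := ded_40_2 (flp_f L125709) (flp_h L125656) L133832
theorem L133842 : sm gh N10407 = N11360 := rfl
theorem L133844 : sm gc N11360 = N10772 := ded_28_1 (flp_h L128599) (flp_c L125662) L133842
theorem L133846 : sm gg N11360 = N10413 := ded_42_1 (flp_h L125705) (flp_g L125666) L133842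
theorem L133848 : sm gi N11360 = N10416 := ded_44_2 (flp_h L125725) (flp_i L68193) (flp_h L68144) L125660 L133842
theorem L133850 : sm ga N10408 = N11361 := rfl
theorem L133852 : sm gd N11361 = N10458 := ded_11_2 (flp_a L126065) (flp_d L125670) L133850
theorem L133854 : sm gg N11361 = N10712 := ded_14_2 L128189 (flp_g L125672) L133850
theorem L133856 : sm gh N11361 = N10417 := ded_15_2 (flp_a L125731) (flp_h L125674) L133850
theorem L133858 : sm ge N10408 = N11362 := rfl
theorem L133860 : sm gb N11362 = N10409 := ded_19_1 (flp_e L125676) L125668 L133858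
theorem L133862 : sm gg N11362 = N10727 := ded_36_2 (flp_e L128289) (flp_g L125672) L133858
theorem L133864 : sm gh N11362 = N10418 := ded_37_2 (flp_e L125737) (flp_h L125674) L133858
theorem L133866 : sm gd N11362 = N11362 := ded_30_1 (flp_e L133858) L125670 L69465 (flp_d L125670) L133858
theorem L133867 : sm gi N10408 = N11363 := rfl
theorem L133869 : sm gb N11363 = N10410 := ded_23_1 (flp_i L125685) L125668 L133867
theorem L133871 : sm gd N11363 = N10459 := ded_34_1 (flp_i L126073) (flp_d L125670) L133867
theorem L133873 : sm gg N11363 = N10728 := ded_43_1 (flp_i L128296) (flp_g L125672) L133867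
theorem L133875 : sm gf N10409 = N11364 := rfl
theorem L133877 : sm gc N11364 = N10411 := ded_26_1 (flp_f L125693) (flp_c L125678) L133875
theorem L133879 : sm gd N11364 = N11364 := ded_31_1 (flp_f L133875) L125684 L133875
theorem L133880 : sm gh N11364 = N10420 := ded_40_2 (flp_f L125753) (flp_h L125682) L133875
theorem L133882 : sm gi N10409 = N11365 := rfl
theorem L133884 : sm gc N11365 = N10412 := ded_29_1 (flp_i L125699) (flp_c L125678) L133882
theorem L133886 : sm gd N11365 = N11365 := ded_34_1 (flp_i L133882) L125684 L133882
theorem L133887 : sm ge N11365 = N10410 := ded_38_1 (flp_i L125685) L125676 L133882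
theorem L133889 : sm gg N11365 = N10771 := ded_43_1 (flp_i L128594) (flp_g L125680) L133882
theorem L133891 : sm gh N10410 = N11366 := rfl
theorem L133893 : sm gc N11366 = N10413 := ded_28_1 (flp_h L125705) (flp_c L125687) L133891
theorem L133895 : sm gg N11366 = N10772 := ded_42_1 (flp_h L128599) (flp_g L125691) L133891
theorem L133897 : sm gi N11366 = N10422 := ded_44_2 (flp_h L125769) (flp_i L68209) (flp_h L68156) L125685 L133891
theorem L133899 : sm gg N10411 = N11367 := rfl
theorem L133901 : sm gd N11367 = N10628 := ded_32_1 (flp_g L127497) (flp_d L125695) L133899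
theorem L133903 : sm gh N11367 = N10423 := ded_42_2 (flp_g L125775) (flp_h L125697) L133899
theorem L133905 : sm gi N10411 = N11368 := rfl
theorem L133907 : sm gd N11368 = N10629 := ded_34_1 (flp_i L127503) (flp_d L125695) L133905
theorem L133909 : sm gf N11368 = N10412 := ded_41_1 (flp_i L125699) L125693 L133905
theorem L133911 : sm gh N10412 = N11369 := rfl
theorem L133913 : sm ge N11369 = N10413 := ded_37_1 (flp_h L125705) (flp_e L125703) L133911
theorem L133915 : sm gi N11369 = N10425 := ded_44_2 (flp_h L125785) (flp_i L68219) (flp_h L68162) L125699 L133911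
theorem L133917 : sm gg N10414 = N11370 := rfl
theorem L133919 : sm gc N11370 = N10773 := ded_27_1 (flp_g L128603) (flp_c L125711) L133917
theorem L133921 : sm gd N11370 = N10426 := ded_32_1 (flp_g L125789) (flp_d L125713) L133917
theorem L133923 : sm gf N11370 = N10423 := ded_39_1 (flp_g L125775) (flp_f L68215) (flp_g L68189) L125709 L133917
theorem L133925 : sm gi N10414 = N11371 := rfl
theorem L133927 : sm gc N11371 = N10774 := ded_29_1 (flp_i L128607) (flp_c L125711) L133925
theorem L133929 : sm gd N11371 = N10427 := ded_34_1 (flp_i L125798) (flp_d L125713) L133925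
theorem L133931 : sm gf N11371 = N10415 := ded_41_1 (flp_i L125715) L125709 L133925
theorem L133933 : sm gh N10415 = N11372 := rfl
theorem L133935 : sm gc N11372 = N10775 := ded_28_1 (flp_h L128613) (flp_c L125717) L133933
theorem L133937 : sm ge N11372 = N10416 := ded_37_1 (flp_h L125725) (flp_e L125721) L133933
theorem L133939 : sm gg N11372 = N10425 := ded_42_1 (flp_h L125785) (flp_g L125723) L133933
theorem L133941 : sm ge N10417 = N11373 := rfl
theorem L133943 : sm ga N11373 = N10418 := ded_12_1 (flp_e L125737) L125731 L133941
theorem L133945 : sm gg N11373 = N10715 := ded_36_2 (flp_e L128205) (flp_g L125735) L133941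
theorem L133947 : sm gd N11373 = N10507 := ded_30_1 (flp_e L126498) L70176 (flp_e L68350) (flp_d L125733) L133941
theorem L133949 : sm gi N10417 = N11374 := rfl
theorem L133951 : sm ga N11374 = N10419 := ded_16_1 (flp_i L125745) L125731 L133949
theorem L133953 : sm gd N11374 = N10435 := ded_34_1 (flp_i L125861) (flp_d L125733) L133949
theorem L133955 : sm gg N11374 = N10716 := ded_43_1 (flp_i L128211) (flp_g L125735) L133949
theorem L133957 : sm gf N10418 = N11375 := rfl
theorem L133959 : sm gb N11375 = N10420 := ded_20_1 (flp_f L125753) (flp_b L125739) L133957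
theorem L133961 : sm gd N11375 = N10509 := ded_31_1 (flp_f L126516) (flp_d L125743) L133957
theorem L133963 : sm gi N10418 = N11376 := rfl
theorem L133965 : sm gb N11376 = N10421 := ded_23_1 (flp_i L125759) (flp_b L125739) L133963
theorem L133967 : sm gd N11376 = N10510 := ded_34_1 (flp_i L126523) (flp_d L125743) L133963
theorem L133969 : sm ge N11376 = N10419 := ded_38_1 (flp_i L125745) L125737 L133963
theorem L133971 : sm gg N11376 = N10732 := ded_43_1 (flp_i L128319) (flp_g L125741) L133963
theorem L133973 : sm gh N10419 = N11377 := rfl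
theorem L133975 : sm gb N11377 = N10422 := ded_22_1 (flp_h L125769) (flp_b L125747) L133973
theorem L133977 : sm gg N11377 = N10733 := ded_42_1 (flp_h L128327) (flp_g L125751) L133973
theorem L133979 : sm gg N10420 = N11378 := rfl
theorem L133981 : sm gc N11378 = N10423 := ded_27_1 (flp_g L125775) (flp_c L125755) L133979
theorem L133983 : sm gd N11378 = N10512 := ded_32_1 (flp_g L126541) (flp_d L125757) L133979
theorem L133985 : sm gf N11378 = N10773 := ded_39_1 (flp_g L128603) (flp_f L121486) (flp_g L120809) L125753 L133979
theorem L133987 : sm gi N10420 = N11379 := rfl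
theorem L133989 : sm gc N11379 = N10424 := ded_29_1 (flp_i L125779) (flp_c L125755) L133987
theorem L133991 : sm gd N11379 = N10513 := ded_34_1 (flp_i L126549) (flp_d L125757) L133987
theorem L133993 : sm gf N11379 = N10421 := ded_41_1 (flp_i L125759) L125753 L133987
theorem L133995 : sm gh N10421 = N11380 := rfl
theorem L133997 : sm gc N11380 = N10425 := ded_28_1 (flp_h L125785) (flp_c L125761) L133995
theorem L133999 : sm ge N11380 = N10422 := ded_37_1 (flp_h L125769) (flp_e L125765) L133995
theorem L134001 : sm gg N11380 = N10775 := ded_42_1 (flp_h L128613) (flp_g L125767) L133995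
theorem L134003 : sm gi N10423 = N11381 := rfl
theorem L134005 : sm gd N11381 = N10429 := ded_34_1 (flp_i L125817) (flp_d L125777) L134003
theorem L134007 : sm gg N11381 = N10424 := ded_43_1 (flp_i L125779) L125775 L134003
theorem L134009 : sm gh N10424 = N11382 := rfl
theorem L134011 : sm gf N11382 = N10425 := ded_40_1 (flp_h L125785) (flp_f L125783) L134009
theorem L134013 : sm gd N10425 = N11383 := rfl
theorem L134015 : sm gh N11383 = N10431 := ded_33_2 (flp_d L125835) (flp_h L68267) (flp_d L68221) L125785 L134013
theorem L134017 : sm gi N10426 = N11384 := rfl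
theorem L134019 : sm gc N11384 = N10518 := ded_29_1 (flp_i L126591) (flp_c L125791) L134017
theorem L134021 : sm ge N11384 = N11384 := ded_38_1 (flp_i L134017) L125793 L134017
theorem L134022 : sm gf N11384 = N10429 := ded_41_1 (flp_i L125817) (flp_f L125796) L134017
theorem L134024 : sm gg N11384 = N10427 := ded_43_1 (flp_i L125798) L125789 L134017
theorem L134026 : sm gh N10427 = N11385 := rfl
theorem L134028 : sm gb N11385 = N10629 := ded_22_1 (flp_h L132717) L132711 L134026
theorem L134030 : sm gc N11385 = N10519 := ded_28_1 (flp_h L126601) (flp_c L125800) L134026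
theorem L134032 : sm ge N11385 = N11385 := ded_37_1 (flp_h L134026) L125802 L134026
theorem L134033 : sm gf N11385 = N10428 := ded_40_1 (flp_h L125805) (flp_f L125803) L134026
theorem L134035 : sm gi N11385 = N10565 := ded_44_2 L127042 L118153 (flp_h L68231) L125798 L134026
theorem L134037 : sm gh N10429 = N11386 := rfl
theorem L134039 : sm gc N11386 = N10521 := ded_28_1 (flp_h L126619) (flp_c L125819) L134037
theorem L134041 : sm ge N11386 = N10432 := ded_37_1 (flp_h L125839) (flp_e L125821) L134037
theorem L134043 : sm gg N11386 = N10430 := ded_42_1 (flp_h L125825) (flp_g L125823) L134037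
theorem L134045 : sm gi N11386 = N10630 := ded_44_2 (flp_h L127509) (flp_i L73673) (flp_h L68257) L125817 L134037
theorem L134047 : sm gd N10430 = N11387 := rfl
theorem L134049 : sm gf N11387 = N10431 := ded_31_2 (flp_d L125835) (flp_f L125831) L134047
theorem L134051 : sm gi N11387 = N10631 := ded_34_2 (flp_d L127517) (flp_i L125833) L134047
theorem L134053 : sm gc N10431 = N11388 := rfl
theorem L134055 : sm gi N11388 = N10632 := ded_29_2 (flp_c L127521) (flp_i L125837) L134053
theorem L134057 : sm gd N11388 = N10523 := ded_24_2 (flp_c L126635) (flp_d L70272) (flp_c L68269) L125835 L134053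
theorem L134059 : sm gh N10436 = N11389 := rfl
theorem L134061 : sm ga N11389 = N11389 := ded_15_1 (flp_h L134059) L125873 L134059
theorem L134062 : sm gc N11389 = N10438 := ded_28_1 (flp_h L125891) (flp_c L125874) L134059
theorem L134064 : sm ge N11389 = N10633 := ded_37_1 (flp_h L127525) (flp_e L125878) L134059
theorem L134066 : sm gg N11389 = N10437 := ded_42_1 (flp_h L125882) L125871 L134059
theorem L134068 : sm gd N10437 = N11390 := rfl
theorem L134070 : sm ga N11390 = N11390 := ded_11_1 (flp_d L134068) L125884 L134068
theorem L134071 : sm gf N11390 = N10782 := ded_31_2 (flp_d L128656) (flp_f L125889) L134068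
theorem L134073 : sm gh N11390 = N11037 := ded_33_2 (flp_d L130908) (flp_h L123174) (flp_d L68456) L125882 L134068
theorem L134075 : sm gi N10437 = N11391 := rfl
theorem L134077 : sm ga N11391 = N11391 := ded_16_1 (flp_i L134075) L125884 L134075
theorem L134078 : sm gc N11391 = N10440 := ded_29_1 (flp_i L125909) (flp_c L125885) L134075
theorem L134080 : sm ge N11391 = N10635 := ded_38_1 (flp_i L127537) (flp_e L125887) L134075
theorem L134082 : sm gf N11391 = N10783 := ded_41_1 (flp_i L128661) (flp_f L125889) L134075
theorem L134084 : sm gh N11391 = N10450 := ded_44_1 (flp_i L125995) (flp_h L69189) (flp_i L68454) L125882 L134075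
theorem L134086 : sm gi N10438 = N11392 := rfl
theorem L134088 : sm ga N11392 = N11392 := ded_16_1 (flp_i L134086) L125893 L134086
theorem L134089 : sm gb N11392 = N10444 := ded_23_1 (flp_i L125946) (flp_b L125894) L134086
theorem L134091 : sm ge N11392 = N10636 := ded_38_1 (flp_i L127545) (flp_e L125896) L134086
theorem L134093 : sm gg N11392 = N10440 := ded_43_1 (flp_i L125909) (flp_g L125898) L134086
theorem L134095 : sm gh N11392 = N10451 := ded_44_1 (flp_i L126002) (flp_h L69203) (flp_i L68467) L125891 L134086
theorem L134097 : sm gc N10439 = N11393 := rfl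
theorem L134099 : sm ga N11393 = N11393 := ded_10_1 (flp_c L134097) L125902 L134097
theorem L134100 : sm gf N11393 = N10448 := ded_26_2 L125986 (flp_f L125905) L134097
theorem L134102 : sm gh N11393 = N10441 := ded_28_2 (flp_c L125920) (flp_h L125907) L134097
theorem L134104 : sm ge N10439 = N11394 := rfl
theorem L134106 : sm ga N11394 = N11394 := ded_12_1 (flp_e L134104) L125902 L134104
theorem L134107 : sm gb N11394 = N10445 := ded_19_1 (flp_e L125956) (flp_b L125903) L134104
theorem L134109 : sm gh N11394 = N10442 := ded_37_2 (flp_e L125927) (flp_h L125907) L134104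
theorem L134111 : sm gd N11394 = N10638 := ded_30_1 (flp_e L127564) (flp_d L73740) (flp_e L68474) L125900 L134104
theorem L134113 : sm gf N11394 = N10650 := ded_35_2 L127662 L74232 (flp_e L69208) (flp_f L125905) L134104
theorem L134115 : sm gi N10439 = N11395 := rfl
theorem L134117 : sm ga N11395 = N11395 := ded_16_1 (flp_i L134115) L125902 L134115
theorem L134118 : sm gb N11395 = N10446 := ded_23_1 (flp_i L125966) (flp_b L125903) L134115
theorem L134120 : sm gd N11395 = N10440 := ded_34_1 (flp_i L125909) L125900 L134115
theorem L134122 : sm gf N11395 = N10451 := ded_41_1 (flp_i L126002) (flp_f L125905) L134115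
theorem L134124 : sm ge N10441 = N11396 := rfl
theorem L134126 : sm ga N11396 = N11396 := ded_12_1 (flp_e L134124) L125922 L134124
theorem L134127 : sm gc N11396 = N10442 := ded_25_1 (flp_e L125927) L125920 L134124
theorem L134129 : sm gf N11396 = N10644 := ded_35_2 (flp_e L127617) (flp_f L74193) (flp_e L69187) (flp_f L125923) L134124
theorem L134131 : sm gi N10445 = N11397 := rfl
theorem L134133 : sm ga N11397 = N10447 := ded_16_1 (flp_i L125974) (flp_a L125958) L134131
theorem L134135 : sm gd N11397 = N10642 := ded_34_1 (flp_i L127600) (flp_d L125962) L134131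
theorem L134137 : sm ge N11397 = N10446 := ded_38_1 (flp_i L125966) L125956 L134131
theorem L134139 : sm gf N11397 = N10652 := ded_41_1 (flp_i L127674) (flp_f L125964) L134131
theorem L134141 : sm gd N10448 = N11398 := rfl
theorem L134143 : sm ga N11398 = N11398 := ded_11_1 (flp_d L134141) L125985 L134141
theorem L134144 : sm gg N11398 = N10449 := ded_32_2 (flp_d L125992) (flp_g L125990) L134141
theorem L134146 : sm gc N11398 = N10782 := ded_24_1 (flp_d L128656) L121541 L120825 (flp_c L125986) L134141
theorem L134148 : sm gi N10448 = N11399 := rfl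
theorem L134150 : sm ga N11399 = N11399 := ded_16_1 (flp_i L134148) L125985 L134148
theorem L134151 : sm gc N11399 = N10451 := ded_29_1 (flp_i L126002) (flp_c L125986) L134148
theorem L134153 : sm ge N11399 = N10647 := ded_38_1 (flp_i L127638) (flp_e L125988) L134148
theorem L134155 : sm gg N11399 = N10450 := ded_43_1 (flp_i L125995) (flp_g L125990) L134148
theorem L134157 : sm gc N10449 = N11400 := rfl
theorem L134159 : sm ga N11400 = N11400 := ded_10_1 (flp_c L134157) L125994 L134157
theorem L134160 : sm gg N11400 = N10782 := ded_27_2 (flp_c L134146) L134144 L134157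
theorem L134162 : sm gh N11400 = N11398 := ded_28_2 L134146 L128659 L134157
theorem L134164 : sm gd N11400 = N10452 := ded_24_2 (flp_c L126013) (flp_d L69212) (flp_c L69192) L125992 L134157
theorem L134166 : sm ge N10449 = N11401 := rfl
theorem L134168 : sm ga N11401 = N11401 := ded_12_1 (flp_e L134166) L125994 L134166
theorem L134169 : sm gd N11401 = N10648 := ded_30_1 (flp_e L127645) (flp_d L74207) (flp_e L69194) L125992 L134166
theorem L134171 : sm gi N10449 = N11402 := rfl
theorem L134173 : sm ga N11402 = N11402 := ded_16_1 (flp_i L134171) L125994 L134171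
theorem L134174 : sm gd N11402 = N10450 := ded_34_1 (flp_i L125995) L125992 L134171
theorem L134176 : sm gb N10452 = N11403 := rfl
theorem L134178 : sm ge N11403 = N11403 := ded_19_2 (flp_b L134176) L126016 L134176
theorem L134179 : sm gg N11403 = N10741 := ded_21_2 L128386 (flp_g L126017) L134176
theorem L134181 : sm gh N11403 = N10454 := ded_22_2 (flp_b L126031) (flp_h L126019) L134176
theorem L134183 : sm gc N11403 = N10455 := ded_17_2 (flp_b L126040) (flp_c L69296) (flp_b L69215) L126013 L134176
theorem L134185 : sm gi N10452 = N11404 := rfl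
theorem L134187 : sm ga N11404 = N11404 := ded_16_1 (flp_i L134185) L126015 L134185
theorem L134188 : sm gc N11404 = N10453 := ded_29_1 (flp_i L126021) L126013 L134185
theorem L134190 : sm ge N11404 = N11404 := ded_38_1 (flp_i L134185) L126016 L134185
theorem L134191 : sm gg N11404 = N10783 := ded_43_1 (flp_i L128661) (flp_g L126017) L134185
theorem L134193 : sm ga N10454 = N11405 := rfl
theorem L134195 : sm gc N11405 = N10457 := ded_10_2 (flp_a L126056) (flp_c L126038) L134193
theorem L134197 : sm gd N11405 = N11140 := ded_11_2 L131988 (flp_d L126033) L134193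
theorem L134199 : sm ge N11405 = N11405 := ded_12_2 (flp_a L134193) L126035 L134193
theorem L134200 : sm gg N11405 = N10700 := ded_14_2 L128088 (flp_g L126036) L134193
theorem L134202 : sm gb N11405 = N11405 := ded_9_2 (flp_a L134193) (flp_b L126031) L69255 L126031 L134193
theorem L134203 : sm ga N10455 = N11406 := rfl
theorem L134205 : sm ge N11406 = N11406 := ded_12_2 (flp_a L134203) L126042 L134203
theorem L134206 : sm gg N11406 = N10701 := ded_14_2 L128096 (flp_g L126043) L134203
theorem L134208 : sm gh N11406 = N10457 := ded_15_2 (flp_a L126056) (flp_h L126045) L134203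
theorem L134210 : sm gb N11406 = N10458 := ded_9_2 (flp_a L126065) (flp_b L69463) (flp_a L69298) L126040 L134203
theorem L134212 : sm gi N10455 = N11407 := rfl
theorem L134214 : sm gb N11407 = N10456 := ded_23_1 (flp_i L126047) L126040 L134212
theorem L134216 : sm ge N11407 = N11407 := ded_38_1 (flp_i L134212) L126042 L134212
theorem L134217 : sm gg N11407 = N10743 := ded_43_1 (flp_i L128397) (flp_g L126043) L134212
theorem L134219 : sm gi N10458 = N11408 := rfl
theorem L134221 : sm ga N11408 = N10459 := ded_16_1 (flp_i L126073) L126065 L134219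
theorem L134223 : sm gc N11408 = N11408 := ded_29_1 (flp_i L134219) L126067 L134219
theorem L134224 : sm ge N11408 = N11408 := ded_38_1 (flp_i L134219) L126068 L134219
theorem L134225 : sm gg N11408 = N10713 := ded_43_1 (flp_i L128193) (flp_g L126069) L134219
theorem L134227 : sm ga N10460 = N11409 := rfl
theorem L134229 : sm gc N11409 = N10488 := ded_10_2 (flp_a L126323) (flp_c L126089) L134227
theorem L134231 : sm gd N11409 = N11152 := ded_11_2 L132095 (flp_d L126083) L134227
theorem L134233 : sm gf N11409 = N11409 := ded_13_2 (flp_a L134227) L126085 L134227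
theorem L134234 : sm gg N11409 = N10704 := ded_14_2 L128119 (flp_g L126086) L134227
theorem L134236 : sm gh N11409 = N11409 := ded_15_2 (flp_a L134227) L126088 L134227
theorem L134237 : sm gb N11409 = N11409 := ded_9_2 (flp_a L134227) (flp_b L126081) L69731 L126081 L134227
theorem L134238 : sm ge N10460 = N11410 := rfl
theorem L134240 : sm gb N11410 = N10461 := ded_19_1 (flp_e L126091) L126081 L134238
theorem L134242 : sm gc N11410 = N10489 := ded_25_1 (flp_e L126333) (flp_c L126089) L134238
theorem L134244 : sm gg N11410 = N10747 := ded_36_2 (flp_e L128418) (flp_g L126086) L134238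
theorem L134246 : sm gh N11410 = N11410 := ded_37_2 (flp_e L134238) L126088 L134238
theorem L134247 : sm gi N10460 = N11411 := rfl
theorem L134249 : sm gb N11411 = N10462 := ded_23_1 (flp_i L126099) L126081 L134247
theorem L134251 : sm gc N11411 = N10490 := ded_29_1 (flp_i L126340) (flp_c L126089) L134247
theorem L134253 : sm gd N11411 = N11306 := ded_34_1 (flp_i L133371) (flp_d L126083) L134247
theorem L134255 : sm gf N11411 = N11411 := ded_41_1 (flp_i L134247) L126085 L134247
theorem L134256 : sm gg N11411 = N10748 := ded_43_1 (flp_i L128425) (flp_g L126086) L134247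
theorem L134258 : sm gd N10461 = N11412 := rfl
theorem L134260 : sm ga N11412 = N11412 := ded_11_1 (flp_d L134258) L126093 L134258
theorem L134261 : sm gg N11412 = N10784 := ded_32_2 (flp_d L128667) (flp_g L126096) L134258
theorem L134263 : sm gc N11412 = N10471 := ded_24_1 (flp_d L126188) L69780 (flp_d L69740) (flp_c L126094) L134258
theorem L134265 : sm gf N10461 = N11413 := rfl
theorem L134267 : sm ga N11413 = N11413 := ded_13_1 (flp_f L134265) L126093 L134265
theorem L134268 : sm gc N11413 = N10463 := ded_26_1 (flp_f L126107) (flp_c L126094) L134265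
theorem L134270 : sm gh N11413 = N11413 := ded_40_2 (flp_f L134265) L126098 L134265
theorem L134271 : sm ge N11413 = N11413 := ded_35_1 (flp_f L134265) (flp_e L126091) L69732 L126091 L134265
theorem L134272 : sm gi N10461 = N11414 := rfl
theorem L134274 : sm ga N11414 = N11414 := ded_16_1 (flp_i L134272) L126093 L134272
theorem L134275 : sm gc N11414 = N10464 := ded_29_1 (flp_i L126116) (flp_c L126094) L134272
theorem L134277 : sm ge N11414 = N10462 := ded_38_1 (flp_i L126099) L126091 L134272
theorem L134279 : sm gg N11414 = N10786 := ded_43_1 (flp_i L128680) (flp_g L126096) L134272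
theorem L134281 : sm gh N10462 = N11415 := rfl
theorem L134283 : sm ga N11415 = N11415 := ded_15_1 (flp_h L134281) L126101 L134281
theorem L134284 : sm gc N11415 = N10465 := ded_28_1 (flp_h L126127) (flp_c L126102) L134281
theorem L134286 : sm gf N11415 = N11415 := ded_40_1 (flp_h L134281) L126104 L134281
theorem L134287 : sm gg N11415 = N10787 := ded_42_1 (flp_h L128687) (flp_g L126105) L134281
theorem L134289 : sm gi N11415 = N11415 := ded_44_2 (flp_h L134281) (flp_i L126099) L69733 L126099 L134281
theorem L134290 : sm gg N10463 = N11416 := rfl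
theorem L134292 : sm ga N11416 = N11416 := ded_14_1 (flp_g L134290) L126109 L134290
theorem L134293 : sm gb N11416 = N10494 := ded_21_1 (flp_g L126377) (flp_b L126110) L134290
theorem L134295 : sm gd N11416 = N10475 := ded_32_1 (flp_g L126216) (flp_d L126112) L134290
theorem L134297 : sm ge N11416 = N11416 := ded_36_1 (flp_g L134290) L126115 L134290
theorem L134298 : sm gh N11416 = N11416 := ded_42_2 (flp_g L134290) L126114 L134290
theorem L134299 : sm gf N11416 = N10788 := ded_39_1 (flp_g L128695) (flp_f L121565) (flp_g L120803) L126107 L134290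
theorem L134301 : sm gi N10463 = N11417 := rfl
theorem L134303 : sm ga N11417 = N11417 := ded_16_1 (flp_i L134301) L126109 L134301
theorem L134304 : sm gb N11417 = N10495 := ded_23_1 (flp_i L126387) (flp_b L126110) L134301
theorem L134306 : sm gd N11417 = N10476 := ded_34_1 (flp_i L126225) (flp_d L126112) L134301
theorem L134308 : sm ge N11417 = N11417 := ded_38_1 (flp_i L134301) L126115 L134301
theorem L134309 : sm gf N11417 = N10464 := ded_41_1 (flp_i L126116) L126107 L134301
theorem L134311 : sm gh N10464 = N11418 := rfl
theorem L134313 : sm ga N11418 = N11418 := ded_15_1 (flp_h L134311) L126118 L134311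
theorem L134314 : sm gb N11418 = N10496 := ded_22_1 (flp_h L126396) (flp_b L126119) L134311
theorem L134316 : sm ge N11418 = N10465 := ded_37_1 (flp_h L126127) (flp_e L126123) L134311
theorem L134318 : sm gg N11418 = N10790 := ded_42_1 (flp_h L128712) (flp_g L126125) L134311
theorem L134320 : sm gi N11418 = N11418 := ded_44_2 (flp_h L134311) (flp_i L126116) L69739 L126116 L134311
theorem L134321 : sm gd N10466 = N11419 := rfl
theorem L134323 : sm ga N11419 = N11419 := ded_11_1 (flp_d L134321) L126139 L134321
theorem L134324 : sm gg N11419 = N10471 := ded_32_2 (flp_d L126188) (flp_g L126142) L134321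
theorem L134326 : sm gc N11419 = N10784 := ded_24_1 (flp_d L128667) L121553 L120789 (flp_c L126140) L134321
theorem L134328 : sm ge N11419 = N11412 := ded_30_2 (flp_d L134258) (flp_e L126091) L120787 L126137 L134321
theorem L134330 : sm gf N10466 = N11420 := rfl
theorem L134332 : sm ga N11420 = N11420 := ded_13_1 (flp_f L134330) L126139 L134330
theorem L134333 : sm gc N11420 = N10468 := ded_26_1 (flp_f L126156) (flp_c L126140) L134330
theorem L134335 : sm gh N11420 = N10654 := ded_40_2 (flp_f L127688) (flp_h L126144) L134330
theorem L134337 : sm ge N11420 = N11420 := ded_35_1 (flp_f L134330) (flp_e L126137) L69753 L126137 L134330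
theorem L134338 : sm gi N10466 = N11421 := rfl
theorem L134340 : sm ga N11421 = N11421 := ded_16_1 (flp_i L134338) L126139 L134338
theorem L134341 : sm gc N11421 = N10469 := ded_29_1 (flp_i L126166) (flp_c L126140) L134338
theorem L134343 : sm ge N11421 = N10467 := ded_38_1 (flp_i L126146) L126137 L134338
theorem L134345 : sm gg N11421 = N10473 := ded_43_1 (flp_i L126200) (flp_g L126142) L134338
theorem L134347 : sm gh N10467 = N11422 := rfl
theorem L134349 : sm ga N11422 = N11422 := ded_15_1 (flp_h L134347) L126148 L134347
theorem L134350 : sm gc N11422 = N10470 := ded_28_1 (flp_h L126177) (flp_c L126149) L134347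
theorem L134352 : sm gf N11422 = N11422 := ded_40_1 (flp_h L134347) L126153 L134347
theorem L134353 : sm gg N11422 = N10474 := ded_42_1 (flp_h L126207) (flp_g L126154) L134347
theorem L134355 : sm gi N11422 = N10656 := ded_44_2 (flp_h L127703) (flp_i L74279) (flp_h L69756) L126146 L134347
theorem L134357 : sm gg N10468 = N11423 := rfl
theorem L134359 : sm ga N11423 = N11423 := ded_14_1 (flp_g L134357) L126158 L134357
theorem L134360 : sm gb N11423 = N10497 := ded_21_1 (flp_g L126405) (flp_b L126159) L134357
theorem L134362 : sm gd N11423 = N10788 := ded_32_1 (flp_g L128695) (flp_d L126161) L134357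
theorem L134364 : sm ge N11423 = N11423 := ded_36_1 (flp_g L134357) L126165 L134357
theorem L134365 : sm gh N11423 = N10657 := ded_42_2 (flp_g L127711) (flp_h L126163) L134357
theorem L134367 : sm gf N11423 = N10475 := ded_39_1 (flp_g L126216) (flp_f L69791) (flp_g L69763) L126156 L134357
theorem L134369 : sm gi N10468 = N11424 := rfl
theorem L134371 : sm ga N11424 = N11424 := ded_16_1 (flp_i L134369) L126158 L134369
theorem L134372 : sm gb N11424 = N10498 := ded_23_1 (flp_i L126416) (flp_b L126159) L134369
theorem L134374 : sm gd N11424 = N10789 := ded_34_1 (flp_i L128703) (flp_d L126161) L134369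
theorem L134376 : sm ge N11424 = N11424 := ded_38_1 (flp_i L134369) L126165 L134369
theorem L134377 : sm gf N11424 = N10469 := ded_41_1 (flp_i L126166) L126156 L134369
theorem L134379 : sm gh N10469 = N11425 := rfl
theorem L134381 : sm ga N11425 = N11425 := ded_15_1 (flp_h L134379) L126168 L134379
theorem L134382 : sm gb N11425 = N10499 := ded_22_1 (flp_h L126425) (flp_b L126169) L134379
theorem L134384 : sm ge N11425 = N10470 := ded_37_1 (flp_h L126177) (flp_e L126173) L134379
theorem L134386 : sm gg N11425 = N10477 := ded_42_1 (flp_h L126234) (flp_g L126175) L134379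
theorem L134388 : sm gi N11425 = N10659 := ded_44_2 (flp_h L127729) (flp_i L74295) (flp_h L69765) L126166 L134379
theorem L134390 : sm gf N10471 = N11426 := rfl
theorem L134392 : sm ga N11426 = N11426 := ded_13_1 (flp_f L134390) L126190 L134390
theorem L134393 : sm gd N11426 = N10472 := ded_31_1 (flp_f L126191) L126188 L134390
theorem L134395 : sm gh N10471 = N11427 := rfl
theorem L134397 : sm ga N11427 = N11427 := ded_15_1 (flp_h L134395) L126190 L134395
theorem L134398 : sm gd N11427 = N10661 := ded_33_1 (flp_h L127744) (flp_d L74314) (flp_h L69782) L126188 L134395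
theorem L134400 : sm gi N10471 = N11428 := rfl
theorem L134402 : sm ga N11428 = N11428 := ded_16_1 (flp_i L134400) L126190 L134400
theorem L134403 : sm gd N11428 = N10473 := ded_34_1 (flp_i L126200) L126188 L134400
theorem L134405 : sm gg N10472 = N11429 := rfl
theorem L134407 : sm ga N11429 = N11429 := ded_14_1 (flp_g L134405) L126193 L134405
theorem L134408 : sm gc N11429 = N10475 := ded_27_1 (flp_g L126216) (flp_c L126194) L134405
theorem L134410 : sm ge N11429 = N10481 := ded_36_1 (flp_g L126263) (flp_e L126198) L134405
theorem L134412 : sm gh N11429 = N10663 := ded_42_2 (flp_g L127756) (flp_h L126196) L134405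
theorem L134414 : sm gi N10472 = N11430 := rfl
theorem L134416 : sm ga N11430 = N11430 := ded_16_1 (flp_i L134414) L126193 L134414
theorem L134417 : sm gc N11430 = N10476 := ded_29_1 (flp_i L126225) (flp_c L126194) L134414
theorem L134419 : sm ge N11430 = N10482 := ded_38_1 (flp_i L126271) (flp_e L126198) L134414
theorem L134421 : sm gf N11430 = N10473 := ded_41_1 (flp_i L126200) L126191 L134414
theorem L134423 : sm gh N10473 = N11431 := rfl
theorem L134425 : sm ga N11431 = N11431 := ded_15_1 (flp_h L134423) L126202 L134423
theorem L134426 : sm gc N11431 = N10477 := ded_28_1 (flp_h L126234) (flp_c L126203) L134423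
theorem L134428 : sm ge N11431 = N10474 := ded_37_1 (flp_h L126207) (flp_e L126205) L134423
theorem L134430 : sm gi N11431 = N10665 := ded_44_2 (flp_h L127772) (flp_i L74326) (flp_h L69782) L126200 L134423
theorem L134432 : sm gd N10474 = N11432 := rfl
theorem L134434 : sm ga N11432 = N11432 := ded_11_1 (flp_d L134432) L126209 L134432
theorem L134435 : sm gf N11432 = N10484 := ded_31_2 (flp_d L126288) (flp_f L126212) L134432
theorem L134437 : sm gi N11432 = N10666 := ded_34_2 (flp_d L127779) (flp_i L126214) L134432
theorem L134439 : sm gc N11432 = N11432 := ded_24_1 (flp_d L134432) L126210 L69814 (flp_c L126210) L134432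
theorem L134440 : sm gi N10475 = N11433 := rfl
theorem L134442 : sm ga N11433 = N11433 := ded_16_1 (flp_i L134440) L126218 L134440
theorem L134443 : sm gb N11433 = N10500 := ded_23_1 (flp_i L126435) (flp_b L126219) L134440
theorem L134445 : sm ge N11433 = N10485 := ded_38_1 (flp_i L126295) (flp_e L126221) L134440
theorem L134447 : sm gg N11433 = N10476 := ded_43_1 (flp_i L126225) L126216 L134440
theorem L134449 : sm gh N10476 = N11434 := rfl
theorem L134451 : sm ga N11434 = N11434 := ded_15_1 (flp_h L134449) L126227 L134449
theorem L134452 : sm gb N11434 = N10501 := ded_22_1 (flp_h L126443) (flp_b L126228) L134449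
theorem L134454 : sm ge N11434 = N10486 := ded_37_1 (flp_h L126304) (flp_e L126230) L134449
theorem L134456 : sm gf N11434 = N10477 := ded_40_1 (flp_h L126234) (flp_f L126232) L134449
theorem L134458 : sm gi N11434 = N10668 := ded_44_2 (flp_h L127796) (flp_i L74348) (flp_h L69796) L126225 L134449
theorem L134460 : sm gd N10477 = N11435 := rfl
theorem L134462 : sm ga N11435 = N11435 := ded_11_1 (flp_d L134460) L126236 L134460
theorem L134463 : sm gb N11435 = N10502 := ded_18_1 (flp_d L126453) (flp_b L126237) L134460
theorem L134465 : sm gi N11435 = N10669 := ded_34_2 (flp_d L127805) (flp_i L126241) L134460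
theorem L134467 : sm ge N11435 = N11435 := ded_30_2 (flp_d L134460) L126239 L69814 (flp_e L126239) L134460
theorem L134468 : sm ge N10478 = N11436 := rfl
theorem L134470 : sm ga N11436 = N11436 := ded_12_1 (flp_e L134468) L126245 L134468
theorem L134471 : sm gc N11436 = N11436 := ded_25_1 (flp_e L134468) L126246 L134468
theorem L134472 : sm gg N10478 = N11437 := rfl
theorem L134474 : sm ga N11437 = N11437 := ded_14_1 (flp_g L134472) L126245 L134472
theorem L134475 : sm gc N11437 = N11437 := ded_27_1 (flp_g L134472) L126246 L134472
theorem L134476 : sm gd N11437 = N10481 := ded_32_1 (flp_g L126263) (flp_d L126247) L134472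
theorem L134478 : sm gf N11437 = N11437 := ded_39_1 (flp_g L134472) (flp_f L126243) L69820 L126243 L134472
theorem L134479 : sm gh N10478 = N11438 := rfl
theorem L134481 : sm ga N11438 = N11438 := ded_15_1 (flp_h L134479) L126245 L134479
theorem L134482 : sm gc N11438 = N11438 := ded_28_1 (flp_h L134479) L126246 L134479
theorem L134483 : sm gf N11438 = N10479 := ded_40_1 (flp_h L126249) L126243 L134479
theorem L134485 : sm gd N11438 = N10672 := ded_33_1 (flp_h L127826) L74370 (flp_h L69827) (flp_d L126247) L134479
theorem L134487 : sm gi N10478 = N11439 := rfl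
theorem L134489 : sm ga N11439 = N11439 := ded_16_1 (flp_i L134487) L126245 L134487
theorem L134490 : sm gc N11439 = N11439 := ded_29_1 (flp_i L134487) L126246 L134487
theorem L134491 : sm gd N11439 = N10482 := ded_34_1 (flp_i L126271) (flp_d L126247) L134487
theorem L134493 : sm gf N11439 = N10480 := ded_41_1 (flp_i L126256) L126243 L134487
theorem L134495 : sm gi N10479 = N11440 := rfl
theorem L134497 : sm ga N11440 = N11440 := ded_16_1 (flp_i L134495) L126251 L134495
theorem L134498 : sm gc N11440 = N11440 := ded_29_1 (flp_i L134495) L126252 L134495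
theorem L134499 : sm gd N11440 = N10674 := ded_34_1 (flp_i L127854) (flp_d L126254) L134495
theorem L134501 : sm gg N11440 = N11440 := ded_43_1 (flp_i L134495) L126253 L134495
theorem L134502 : sm gh N10480 = N11441 := rfl
theorem L134504 : sm ga N11441 = N11441 := ded_15_1 (flp_h L134502) L126258 L134502
theorem L134505 : sm gc N11441 = N11441 := ded_28_1 (flp_h L134502) L126259 L134502
theorem L134506 : sm gg N11441 = N11441 := ded_42_1 (flp_h L134502) L126262 L134502
theorem L134507 : sm gi N10481 = N11442 := rfl
theorem L134509 : sm ga N11442 = N11442 := ded_16_1 (flp_i L134507) L126265 L134507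
theorem L134510 : sm gc N11442 = N10485 := ded_29_1 (flp_i L126295) (flp_c L126266) L134507
theorem L134512 : sm gf N11442 = N11442 := ded_41_1 (flp_i L134507) L126270 L134507
theorem L134513 : sm gg N11442 = N10482 := ded_43_1 (flp_i L126271) L126263 L134507
theorem L134515 : sm gh N10482 = N11443 := rfl
theorem L134517 : sm ga N11443 = N11443 := ded_15_1 (flp_h L134515) L126273 L134515
theorem L134518 : sm gc N11443 = N10486 := ded_28_1 (flp_h L126304) (flp_c L126274) L134515
theorem L134520 : sm gf N11443 = N10483 := ded_40_1 (flp_h L126278) (flp_f L126276) L134515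
theorem L134522 : sm gi N11443 = N10677 := ded_44_2 (flp_h L127878) (flp_i L74394) (flp_h L69827) L126271 L134515
theorem L134524 : sm gd N10483 = N11444 := rfl
theorem L134526 : sm ga N11444 = N11444 := ded_11_1 (flp_d L134524) L126280 L134524
theorem L134527 : sm gg N11444 = N11444 := ded_32_2 (flp_d L134524) L126285 L134524
theorem L134528 : sm gi N11444 = N10678 := ded_34_2 (flp_d L127885) (flp_i L126286) L134524
theorem L134530 : sm ge N10484 = N11445 := rfl
theorem L134532 : sm ga N11445 = N11445 := ded_12_1 (flp_e L134530) L126290 L134530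
theorem L134533 : sm gc N11445 = N11445 := ded_25_1 (flp_e L134530) L126294 L134530
theorem L134534 : sm gg N11445 = N11445 := ded_36_2 (flp_e L134530) L126291 L134530
theorem L134535 : sm gi N11445 = N10679 := ded_38_2 (flp_e L127895) (flp_i L126292) L134530
theorem L134537 : sm gh N10485 = N11446 := rfl
theorem L134539 : sm ga N11446 = N11446 := ded_15_1 (flp_h L134537) L126297 L134537
theorem L134540 : sm gb N11446 = N10503 := ded_22_1 (flp_h L126460) (flp_b L126298) L134537
theorem L134542 : sm gf N11446 = N11446 := ded_40_1 (flp_h L134537) L126301 L134537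
theorem L134543 : sm gg N11446 = N10486 := ded_42_1 (flp_h L126304) (flp_g L126302) L134537
theorem L134545 : sm gi N11446 = N10680 := ded_44_2 (flp_h L127905) (flp_i L74415) (flp_h L69851) L126295 L134537
theorem L134547 : sm gd N10486 = N11447 := rfl
theorem L134549 : sm ga N11447 = N11447 := ded_11_1 (flp_d L134547) L126306 L134547
theorem L134550 : sm gb N11447 = N10504 := ded_18_1 (flp_d L126469) (flp_b L126307) L134547
theorem L134552 : sm gf N11447 = N10487 := ded_31_2 (flp_d L126313) (flp_f L126309) L134547
theorem L134554 : sm gi N11447 = N10681 := ded_34_2 (flp_d L127913) (flp_i L126311) L134547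
theorem L134556 : sm gh N11447 = N11447 := ded_33_2 (flp_d L134547) (flp_h L126304) L69859 L126304 L134547
theorem L134557 : sm gc N10487 = N11448 := rfl
theorem L134559 : sm ga N11448 = N11448 := ded_10_1 (flp_c L134557) L126315 L134557
theorem L134560 : sm ge N11448 = N11448 := ded_25_2 (flp_c L134557) L126321 L134557
theorem L134561 : sm gg N11448 = N11448 := ded_27_2 (flp_c L134557) L126318 L134557
theorem L134562 : sm gh N11448 = N11448 := ded_28_2 (flp_c L134557) L126322 L134557
theorem L134563 : sm gi N11448 = N10682 := ded_29_2 (flp_c L127926) (flp_i L126319) L134557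
theorem L134565 : sm ge N10488 = N11449 := rfl
theorem L134567 : sm ga N11449 = N10489 := ded_12_1 (flp_e L126333) L126323 L134565
theorem L134569 : sm gb N11449 = N10507 := ded_19_1 (flp_e L126498) (flp_b L126331) L134565
theorem L134571 : sm gg N11449 = N10705 := ded_36_2 (flp_e L128127) (flp_g L126328) L134565
theorem L134573 : sm gh N11449 = N11449 := ded_37_2 (flp_e L134565) L126330 L134565
theorem L134574 : sm gi N10488 = N11450 := rfl
theorem L134576 : sm ga N11450 = N10490 := ded_16_1 (flp_i L126340) L126323 L134574
theorem L134578 : sm gb N11450 = N10508 := ded_23_1 (flp_i L126506) (flp_b L126331) L134574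
theorem L134580 : sm gd N11450 = N10506 := ded_34_1 (flp_i L126487) (flp_d L126325) L134574
theorem L134582 : sm gf N11450 = N11450 := ded_41_1 (flp_i L134574) L126327 L134574
theorem L134583 : sm gg N11450 = N10706 := ded_43_1 (flp_i L128134) (flp_g L126328) L134574
theorem L134585 : sm gf N10489 = N11451 := rfl
theorem L134587 : sm gb N11451 = N10491 := ded_20_1 (flp_f L126349) (flp_b L126335) L134585
theorem L134589 : sm gh N11451 = N11451 := ded_40_2 (flp_f L134585) L126339 L134585
theorem L134590 : sm ge N11451 = N11451 := ded_35_1 (flp_f L134585) (flp_e L126333) L69921 L126333 L134585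
theorem L134591 : sm gi N10489 = N11452 := rfl
theorem L134593 : sm gb N11452 = N10492 := ded_23_1 (flp_i L126357) (flp_b L126335) L134591
theorem L134595 : sm ge N11452 = N10490 := ded_38_1 (flp_i L126340) L126333 L134591
theorem L134597 : sm gg N11452 = N10750 := ded_43_1 (flp_i L128442) (flp_g L126337) L134591
theorem L134599 : sm gh N10490 = N11453 := rfl
theorem L134601 : sm gb N11453 = N10493 := ded_22_1 (flp_h L126367) (flp_b L126342) L134599
theorem L134603 : sm gf N11453 = N11453 := ded_40_1 (flp_h L134599) L126346 L134599
theorem L134604 : sm gg N11453 = N10751 := ded_42_1 (flp_h L128448) (flp_g L126347) L134599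
theorem L134606 : sm gi N11453 = N11453 := ded_44_2 (flp_h L134599) (flp_i L126340) L69922 L126340 L134599
theorem L134607 : sm gg N10491 = N11454 := rfl
theorem L134609 : sm ga N11454 = N10512 := ded_14_1 (flp_g L126541) (flp_a L126351) L134607
theorem L134611 : sm gc N11454 = N10494 := ded_27_1 (flp_g L126377) (flp_c L126353) L134607
theorem L134613 : sm ge N11454 = N11454 := ded_36_1 (flp_g L134607) L126356 L134607
theorem L134614 : sm gh N11454 = N11454 := ded_42_2 (flp_g L134607) L126355 L134607
theorem L134615 : sm gf N11454 = N10764 := ded_39_1 (flp_g L128537) (flp_f L121425) L120793 L126349 L134607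
theorem L134617 : sm gi N10491 = N11455 := rfl
theorem L134619 : sm ga N11455 = N10513 := ded_16_1 (flp_i L126549) (flp_a L126351) L134617
theorem L134621 : sm gc N11455 = N10495 := ded_29_1 (flp_i L126387) (flp_c L126353) L134617
theorem L134623 : sm ge N11455 = N11455 := ded_38_1 (flp_i L134617) L126356 L134617
theorem L134624 : sm gf N11455 = N10492 := ded_41_1 (flp_i L126357) L126349 L134617
theorem L134626 : sm gh N10492 = N11456 := rfl
theorem L134628 : sm ga N11456 = N10514 := ded_15_1 (flp_h L126556) (flp_a L126359) L134626
theorem L134630 : sm gc N11456 = N10496 := ded_28_1 (flp_h L126396) (flp_c L126361) L134626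
theorem L134632 : sm ge N11456 = N10493 := ded_37_1 (flp_h L126367) (flp_e L126363) L134626
theorem L134634 : sm gg N11456 = N10766 := ded_42_1 (flp_h L128556) (flp_g L126365) L134626
theorem L134636 : sm gi N11456 = N11456 := ded_44_2 (flp_h L134626) (flp_i L126357) L69929 L126357 L134626
theorem L134637 : sm gi N10494 = N11457 := rfl
theorem L134639 : sm ga N11457 = N10515 := ded_16_1 (flp_i L126565) (flp_a L126379) L134637
theorem L134641 : sm gd N11457 = N10500 := ded_34_1 (flp_i L126435) (flp_d L126381) L134637
theorem L134643 : sm ge N11457 = N11457 := ded_38_1 (flp_i L134637) L126383 L134637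
theorem L134644 : sm gf N11457 = N10801 := ded_41_1 (flp_i L128800) (flp_f L126385) L134637
theorem L134646 : sm gg N11457 = N10495 := ded_43_1 (flp_i L126387) L126377 L134637
theorem L134648 : sm gh N10495 = N11458 := rfl
theorem L134650 : sm ga N11458 = N10516 := ded_15_1 (flp_h L126575) (flp_a L126389) L134648
theorem L134652 : sm ge N11458 = N11458 := ded_37_1 (flp_h L134648) L126393 L134648
theorem L134653 : sm gf N11458 = N10496 := ded_40_1 (flp_h L126396) (flp_f L126394) L134648
theorem L134655 : sm gi N11458 = N11458 := ded_44_2 (flp_h L134648) (flp_i L126387) L69945 L126387 L134648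
theorem L134656 : sm gd N10496 = N11459 := rfl
theorem L134658 : sm ga N11459 = N10517 := ded_11_1 (flp_d L126582) (flp_a L126398) L134656
theorem L134660 : sm gg N11459 = N10803 := ded_32_2 (flp_d L128817) (flp_g L126402) L134656
theorem L134662 : sm gi N11459 = N11459 := ded_34_2 (flp_d L134656) L126404 L134656
theorem L134663 : sm ge N11459 = N11459 := ded_30_2 (flp_d L134656) L126400 L69960 (flp_e L126400) L134656
theorem L134664 : sm gh N11459 = N10502 := ded_33_2 (flp_d L126453) (flp_h L70003) (flp_d L69951) L126396 L134656
theorem L134666 : sm gi N10497 = N11460 := rfl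
theorem L134668 : sm ga N11460 = N10518 := ded_16_1 (flp_i L126591) (flp_a L126407) L134666
theorem L134670 : sm gd N11460 = N10801 := ded_34_1 (flp_i L128800) (flp_d L126409) L134666
theorem L134672 : sm ge N11460 = N11460 := ded_38_1 (flp_i L134666) L126411 L134666
theorem L134673 : sm gf N11460 = N10500 := ded_41_1 (flp_i L126435) (flp_f L126414) L134666
theorem L134675 : sm gg N11460 = N10498 := ded_43_1 (flp_i L126416) L126405 L134666
theorem L134677 : sm gh N10498 = N11461 := rfl
theorem L134679 : sm ga N11461 = N10519 := ded_15_1 (flp_h L126601) (flp_a L126418) L134677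
theorem L134681 : sm ge N11461 = N11461 := ded_37_1 (flp_h L134677) L126422 L134677
theorem L134682 : sm gf N11461 = N10499 := ded_40_1 (flp_h L126425) (flp_f L126423) L134677
theorem L134684 : sm gi N11461 = N10684 := ded_44_2 (flp_h L127949) (flp_i L74449) (flp_h L69966) L126416 L134677
theorem L134686 : sm gd N10499 = N11462 := rfl
theorem L134688 : sm ga N11462 = N10520 := ded_11_1 (flp_d L126609) (flp_a L126427) L134686
theorem L134690 : sm gg N11462 = N10502 := ded_32_2 (flp_d L126453) (flp_g L126431) L134686
theorem L134692 : sm gi N11462 = N10685 := ded_34_2 (flp_d L127956) (flp_i L126433) L134686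
theorem L134694 : sm ge N11462 = N11462 := ded_30_2 (flp_d L134686) L126429 L69984 (flp_e L126429) L134686
theorem L134695 : sm gh N11462 = N10803 := ded_33_2 (flp_d L128817) (flp_h L121657) (flp_d L120769) L126425 L134686
theorem L134697 : sm gh N10500 = N11463 := rfl
theorem L134699 : sm ga N11463 = N10521 := ded_15_1 (flp_h L126619) (flp_a L126437) L134697
theorem L134701 : sm ge N11463 = N10503 := ded_37_1 (flp_h L126460) (flp_e L126439) L134697
theorem L134703 : sm gg N11463 = N10501 := ded_42_1 (flp_h L126443) (flp_g L126441) L134697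
theorem L134705 : sm gi N11463 = N10686 := ded_44_2 (flp_h L127964) (flp_i L74465) (flp_h L69993) L126435 L134697
theorem L134707 : sm gd N10501 = N11464 := rfl
theorem L134709 : sm ga N11464 = N10522 := ded_11_1 (flp_d L126628) (flp_a L126445) L134707
theorem L134711 : sm gf N11464 = N10502 := ded_31_2 (flp_d L126453) (flp_f L126449) L134707
theorem L134713 : sm gi N11464 = N10687 := ded_34_2 (flp_d L127972) (flp_i L126451) L134707
theorem L134715 : sm gc N10502 = N11465 := rfl
theorem L134717 : sm ga N11465 = N10523 := ded_10_1 (flp_c L126635) (flp_a L126455) L134715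
theorem L134719 : sm ge N11465 = N11465 := ded_25_2 (flp_c L134715) L126459 L134715
theorem L134720 : sm gi N11465 = N10688 := ded_29_2 (flp_c L127979) (flp_i L126457) L134715
theorem L134722 : sm gb N10505 = N11466 := rfl
theorem L134724 : sm ge N11466 = N11466 := ded_19_2 (flp_b L134722) L126482 L134722
theorem L134725 : sm gf N11466 = N11080 := ded_20_2 L131382 L129050 L134722
theorem L134727 : sm gg N11466 = N11466 := ded_21_2 (flp_b L134722) L126483 L134722
theorem L134728 : sm gh N11466 = N11466 := ded_22_2 (flp_b L134722) L126484 L134722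
theorem L134729 : sm gi N11466 = N10689 := ded_23_2 (flp_b L127985) (flp_i L126485) L134722
theorem L134731 : sm ga N11466 = N11084 := ded_9_1 L131424 L123760 L121991 (flp_a L126480) L134722
theorem L134733 : sm gf N10507 = N11467 := rfl
theorem L134735 : sm ga N11467 = N10509 := ded_13_1 (flp_f L126516) (flp_a L126500) L134733
theorem L134737 : sm gc N11467 = N11467 := ded_26_1 (flp_f L134733) L126502 L134733
theorem L134738 : sm gh N11467 = N11467 := ded_40_2 (flp_f L134733) L126505 L134733
theorem L134739 : sm ge N11467 = N11467 := ded_35_1 (flp_f L134733) (flp_e L126498) L70178 L126498 L134733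
theorem L134740 : sm gi N10507 = N11468 := rfl
theorem L134742 : sm ga N11468 = N10510 := ded_16_1 (flp_i L126523) (flp_a L126500) L134740
theorem L134744 : sm gc N11468 = N11468 := ded_29_1 (flp_i L134740) L126502 L134740
theorem L134745 : sm ge N11468 = N10508 := ded_38_1 (flp_i L126506) L126498 L134740
theorem L134747 : sm gg N11468 = N10718 := ded_43_1 (flp_i L128225) (flp_g L126503) L134740
theorem L134749 : sm gh N10508 = N11469 := rfl
theorem L134751 : sm ga N11469 = N10511 := ded_15_1 (flp_h L126532) (flp_a L126508) L134749
theorem L134753 : sm gc N11469 = N11469 := ded_28_1 (flp_h L134749) L126510 L134749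
theorem L134754 : sm gf N11469 = N11469 := ded_40_1 (flp_h L134749) L126513 L134749
theorem L134755 : sm gg N11469 = N10719 := ded_42_1 (flp_h L128232) (flp_g L126514) L134749
theorem L134757 : sm gi N11469 = N11469 := ded_44_2 (flp_h L134749) (flp_i L126506) L70179 L126506 L134749
theorem L134758 : sm gg N10509 = N11470 := rfl
theorem L134760 : sm gb N11470 = N10512 := ded_21_1 (flp_g L126541) (flp_b L126518) L134758
theorem L134762 : sm gc N11470 = N11470 := ded_27_1 (flp_g L134758) L126520 L134758
theorem L134763 : sm ge N11470 = N11470 := ded_36_1 (flp_g L134758) L126522 L134758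
theorem L134764 : sm gh N11470 = N11470 := ded_42_2 (flp_g L134758) L126521 L134758
theorem L134765 : sm gf N11470 = N10734 := ded_39_1 (flp_g L128331) (flp_f L121262) L120797 L126516 L134758
theorem L134767 : sm gi N10509 = N11471 := rfl
theorem L134769 : sm gb N11471 = N10513 := ded_23_1 (flp_i L126549) (flp_b L126518) L134767
theorem L134771 : sm gc N11471 = N11471 := ded_29_1 (flp_i L134767) L126520 L134767
theorem L134772 : sm ge N11471 = N11471 := ded_38_1 (flp_i L134767) L126522 L134767
theorem L134773 : sm gf N11471 = N10510 := ded_41_1 (flp_i L126523) L126516 L134767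
theorem L134775 : sm gh N10510 = N11472 := rfl
theorem L134777 : sm gb N11472 = N10514 := ded_22_1 (flp_h L126556) (flp_b L126525) L134775
theorem L134779 : sm gc N11472 = N11472 := ded_28_1 (flp_h L134775) L126527 L134775
theorem L134780 : sm ge N11472 = N10511 := ded_37_1 (flp_h L126532) (flp_e L126528) L134775
theorem L134782 : sm gg N11472 = N10736 := ded_42_1 (flp_h L128348) (flp_g L126530) L134775
theorem L134784 : sm gi N11472 = N11472 := ded_44_2 (flp_h L134775) (flp_i L126523) L70185 L126523 L134775
theorem L134785 : sm gi N10512 = N11473 := rfl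
theorem L134787 : sm gc N11473 = N10515 := ded_29_1 (flp_i L126565) (flp_c L126543) L134785
theorem L134789 : sm ge N11473 = N11473 := ded_38_1 (flp_i L134785) L126545 L134785
theorem L134790 : sm gf N11473 = N10776 := ded_41_1 (flp_i L128617) (flp_f L126547) L134785
theorem L134792 : sm gg N11473 = N10513 := ded_43_1 (flp_i L126549) L126541 L134785
theorem L134794 : sm gh N10513 = N11474 := rfl
theorem L134796 : sm gc N11474 = N10516 := ded_28_1 (flp_h L126575) (flp_c L126551) L134794
theorem L134798 : sm ge N11474 = N11474 := ded_37_1 (flp_h L134794) L126553 L134794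
theorem L134799 : sm gf N11474 = N10514 := ded_40_1 (flp_h L126556) (flp_f L126554) L134794
theorem L134801 : sm gi N11474 = N11474 := ded_44_2 (flp_h L134794) (flp_i L126549) L70198 L126549 L134794
theorem L134802 : sm gd N10514 = N11475 := rfl
theorem L134804 : sm gg N11475 = N10778 := ded_32_2 (flp_d L128634) (flp_g L126562) L134802
theorem L134806 : sm gi N11475 = N11475 := ded_34_2 (flp_d L134802) L126564 L134802
theorem L134807 : sm gh N10515 = N11476 := rfl
theorem L134809 : sm gb N11476 = N11476 := ded_22_1 (flp_h L134807) L126567 L134807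
theorem L134810 : sm ge N11476 = N11476 := ded_37_1 (flp_h L134807) L126570 L134807
theorem L134811 : sm gf N11476 = N10807 := ded_40_1 (flp_h L128847) (flp_f L126571) L134807
theorem L134813 : sm gg N11476 = N10516 := ded_42_1 (flp_h L126575) (flp_g L126573) L134807
theorem L134815 : sm gi N11476 = N11476 := ded_44_2 (flp_h L134807) (flp_i L126565) L70218 L126565 L134807
theorem L134816 : sm gd N10516 = N11477 := rfl
theorem L134818 : sm gb N11477 = N11477 := ded_18_1 (flp_d L134816) L126577 L134816
theorem L134819 : sm gf N11477 = N10517 := ded_31_2 (flp_d L126582) (flp_f L126579) L134816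
theorem L134821 : sm gi N11477 = N11477 := ded_34_2 (flp_d L134816) L126581 L134816
theorem L134822 : sm gh N11477 = N10522 := ded_33_2 (flp_d L126628) (flp_h L70263) (flp_d L70222) L126575 L134816
theorem L134824 : sm gc N10517 = N11478 := rfl
theorem L134826 : sm ge N11478 = N11478 := ded_25_2 (flp_c L134824) L126588 L134824
theorem L134827 : sm gg N11478 = N10809 := ded_27_2 (flp_c L128861) (flp_g L126585) L134824
theorem L134829 : sm gh N11478 = N10523 := ded_28_2 (flp_c L126635) (flp_h L126589) L134824
theorem L134831 : sm gi N11478 = N11478 := ded_29_2 (flp_c L134824) L126587 L134824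
theorem L134832 : sm gh N10518 = N11479 := rfl
theorem L134834 : sm gb N11479 = N11479 := ded_22_1 (flp_h L134832) L126593 L134832
theorem L134835 : sm ge N11479 = N11479 := ded_37_1 (flp_h L134832) L126596 L134832
theorem L134836 : sm gf N11479 = N10521 := ded_40_1 (flp_h L126619) (flp_f L126597) L134832
theorem L134838 : sm gg N11479 = N10519 := ded_42_1 (flp_h L126601) (flp_g L126599) L134832
theorem L134840 : sm gi N11479 = N10690 := ded_44_2 (flp_h L127997) (flp_i L74511) (flp_h L70237) L126591 L134832
theorem L134842 : sm gd N10519 = N11480 := rfl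
theorem L134844 : sm gb N11480 = N11480 := ded_18_1 (flp_d L134842) L126603 L134842
theorem L134845 : sm gf N11480 = N10520 := ded_31_2 (flp_d L126609) (flp_f L126605) L134842
theorem L134847 : sm gi N11480 = N10691 := ded_34_2 (flp_d L128005) (flp_i L126607) L134842
theorem L134849 : sm gh N11480 = N10808 := ded_33_2 (flp_d L128855) (flp_h L121694) (flp_d L120771) L126601 L134842
theorem L134851 : sm gc N10520 = N11481 := rfl
theorem L134853 : sm ge N11481 = N11481 := ded_25_2 (flp_c L134851) L126616 L134851
theorem L134854 : sm gg N11481 = N10523 := ded_27_2 (flp_c L126635) (flp_g L126612) L134851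
theorem L134856 : sm gh N11481 = N10809 := ded_28_2 (flp_c L128861) (flp_h L126617) L134851
theorem L134858 : sm gi N11481 = N10692 := ded_29_2 (flp_c L128011) (flp_i L126614) L134851
theorem L134860 : sm ge N10524 = N11482 := rfl
theorem L134862 : sm ga N11482 = N11482 := ded_12_1 (flp_e L134860) L126642 L134860
theorem L134863 : sm gb N11482 = N10528 := ded_19_1 (flp_e L126685) (flp_b L126648) L134860
theorem L134865 : sm gc N11482 = N10525 := ded_25_1 (flp_e L126651) L126640 L134860
theorem L134867 : sm gg N11482 = N11482 := ded_36_2 (flp_e L134860) L126645 L134860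
theorem L134868 : sm gi N11482 = N10644 := ded_38_2 (flp_e L127617) (flp_i L126646) L134860
theorem L134870 : sm gd N10528 = N11483 := rfl
theorem L134872 : sm ga N11483 = N10577 := ded_11_1 (flp_d L127137) (flp_a L126687) L134870
theorem L134874 : sm gg N11483 = N11483 := ded_32_2 (flp_d L134870) L126691 L134870
theorem L134875 : sm gc N11483 = N11483 := ded_24_1 (flp_d L134870) L126689 L71570 (flp_c L126689) L134870
theorem L134876 : sm ge N11483 = N11483 := ded_30_2 (flp_d L134870) (flp_e L126685) L71562 L126685 L134870
theorem L134877 : sm gf N10528 = N11484 := rfl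
theorem L134879 : sm ga N11484 = N10578 := ded_13_1 (flp_f L127143) (flp_a L126687) L134877
theorem L134881 : sm gc N11484 = N10530 := ded_26_1 (flp_f L126704) (flp_c L126689) L134877
theorem L134883 : sm gi N10528 = N11485 := rfl
theorem L134885 : sm ga N11485 = N10579 := ded_16_1 (flp_i L127148) (flp_a L126687) L134883
theorem L134887 : sm gb N11485 = N10644 := ded_23_1 (flp_i L134868) L134863 L134883
theorem L134889 : sm gc N11485 = N10531 := ded_29_1 (flp_i L126711) (flp_c L126689) L134883
theorem L134891 : sm ge N11485 = N10529 := ded_38_1 (flp_i L126692) L126685 L134883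
theorem L134893 : sm gg N11485 = N11485 := ded_43_1 (flp_i L134883) L126691 L134883
theorem L134894 : sm gh N10529 = N11486 := rfl
theorem L134896 : sm ga N11486 = N10580 := ded_15_1 (flp_h L127156) (flp_a L126694) L134894
theorem L134898 : sm gb N11486 = N10645 := ded_22_1 (flp_h L127623) (flp_b L126696) L134894
theorem L134900 : sm gc N11486 = N10532 := ded_28_1 (flp_h L126721) (flp_c L126698) L134894
theorem L134902 : sm gf N11486 = N10590 := ded_40_1 (flp_h L127224) (flp_f L126701) L134894
theorem L134904 : sm gg N11486 = N11486 := ded_42_1 (flp_h L134894) L126703 L134894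
theorem L134905 : sm gh N10531 = N11487 := rfl
theorem L134907 : sm ga N11487 = N10583 := ded_15_1 (flp_h L127175) (flp_a L126713) L134905
theorem L134909 : sm gb N11487 = N10533 := ded_22_1 (flp_h L126732) (flp_b L126715) L134905
theorem L134911 : sm ge N11487 = N10532 := ded_37_1 (flp_h L126721) (flp_e L126718) L134905
theorem L134913 : sm gg N11487 = N11487 := ded_42_1 (flp_h L134905) L126720 L134905
theorem L134914 : sm gd N10533 = N11488 := rfl
theorem L134916 : sm ga N11488 = N10534 := ded_11_1 (flp_d L126741) (flp_a L126734) L134914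
theorem L134918 : sm gg N11488 = N11488 := ded_32_2 (flp_d L134914) L126740 L134914
theorem L134919 : sm ge N11488 = N10564 := ded_30_2 (flp_d L127030) L72250 (flp_d L71679) (flp_e L126738) L134914
theorem L134921 : sm gh N11488 = N11488 := ded_33_2 (flp_d L134914) (flp_h L126732) L71670 L126732 L134914
theorem L134922 : sm gh N10535 = N11489 := rfl
theorem L134924 : sm ga N11489 = N10590 := ded_15_1 (flp_h L127224) (flp_a L126751) L134922
theorem L134926 : sm gb N11489 = N11489 := ded_22_1 (flp_h L134922) L126753 L134922
theorem L134927 : sm gc N11489 = N10537 := ded_28_1 (flp_h L126769) (flp_c L126754) L134922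
theorem L134929 : sm gf N11489 = N10580 := ded_40_1 (flp_h L127156) L126759 L134922
theorem L134931 : sm gg N11489 = N10536 := ded_42_1 (flp_h L126761) L126749 L134922
theorem L134933 : sm gd N10536 = N11490 := rfl
theorem L134935 : sm ga N11490 = N10591 := ded_11_1 (flp_d L127232) (flp_a L126763) L134933
theorem L134937 : sm gb N11490 = N11490 := ded_18_1 (flp_d L134933) L126765 L134933
theorem L134938 : sm gf N11490 = N11490 := ded_31_2 (flp_d L134933) L126768 L134933
theorem L134939 : sm gh N11490 = N11490 := ded_33_2 (flp_d L134933) (flp_h L126761) L71981 L126761 L134933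
theorem L134940 : sm gi N10536 = N11491 := rfl
theorem L134942 : sm ga N11491 = N10592 := ded_16_1 (flp_i L127238) (flp_a L126763) L134940
theorem L134944 : sm gb N11491 = N11491 := ded_23_1 (flp_i L134940) L126765 L134940
theorem L134945 : sm gc N11491 = N10539 := ded_29_1 (flp_i L126792) (flp_c L126766) L134940
theorem L134947 : sm gf N11491 = N11491 := ded_41_1 (flp_i L134940) L126768 L134940
theorem L134948 : sm gc N10538 = N11492 := rfl
theorem L134950 : sm ga N11492 = N10594 := ded_10_1 (flp_c L127251) (flp_a L126783) L134948
theorem L134952 : sm gf N11492 = N11492 := ded_26_2 (flp_c L134948) L126787 L134948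
theorem L134953 : sm gg N11492 = N10604 := ded_27_2 L127320 (flp_g L126788) L134948
theorem L134955 : sm gh N11492 = N10540 := ded_28_2 (flp_c L126799) (flp_h L126790) L134948
theorem L134957 : sm gb N11492 = N10656 := ded_17_1 L127706 L74308 (flp_c L118020) (flp_b L126785) L134948
theorem L134959 : sm ge N10538 = N11493 := rfl
theorem L134961 : sm ga N11493 = N10595 := ded_12_1 (flp_e L127257) (flp_a L126783) L134959
theorem L134963 : sm gb N11493 = N10556 := ded_19_1 (flp_e L126956) (flp_b L126785) L134959
theorem L134965 : sm gg N11493 = N10607 := ded_36_2 L127342 (flp_g L126788) L134959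
theorem L134967 : sm gh N11493 = N10541 := ded_37_2 (flp_e L126811) (flp_h L126790) L134959
theorem L134969 : sm ge N10540 = N11494 := rfl
theorem L134971 : sm ga N11494 = N10597 := ded_12_1 (flp_e L127270) (flp_a L126801) L134969
theorem L134973 : sm gb N11494 = N10655 := ded_19_1 L127699 (flp_b L126808) L134969
theorem L134975 : sm gc N11494 = N10541 := ded_25_1 (flp_e L126811) L126799 L134969
theorem L134977 : sm gg N11494 = N10603 := ded_36_2 L127314 (flp_g L126804) L134969
theorem L134979 : sm gi N11494 = N10599 := ded_38_2 (flp_e L127282) (flp_i L126806) L134969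
theorem L134981 : sm gf N10541 = N11495 := rfl
theorem L134983 : sm ga N11495 = N10598 := ded_13_1 (flp_f L127275) (flp_a L126813) L134981
theorem L134985 : sm gb N11495 = N10557 := ded_20_1 (flp_f L126966) (flp_b L126815) L134981
theorem L134987 : sm gd N11495 = N10546 := ded_31_1 (flp_f L126865) (flp_d L126821) L134981
theorem L134989 : sm gi N11495 = N10600 := ded_41_2 (flp_f L127290) (flp_i L126819) L134981
theorem L134991 : sm ge N11495 = N11495 := ded_35_1 (flp_f L134981) (flp_e L126811) L72023 L126811 L134981
theorem L134992 : sm ge N10542 = N11496 := rfl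
theorem L134994 : sm ga N11496 = N10599 := ded_12_1 (flp_e L127282) (flp_a L126825) L134992
theorem L134996 : sm gb N11496 = N11496 := ded_19_1 (flp_e L134992) L126832 L134992
theorem L134997 : sm gc N11496 = N10543 := ded_25_1 (flp_e L126834) L126823 L134992
theorem L134999 : sm gg N11496 = N10544 := ded_36_2 (flp_e L126846) (flp_g L126828) L134992
theorem L135001 : sm gi N11496 = N10597 := ded_38_2 (flp_e L127270) (flp_i L126830) L134992
theorem L135003 : sm gf N10543 = N11497 := rfl
theorem L135005 : sm ga N11497 = N10600 := ded_13_1 (flp_f L127290) (flp_a L126836) L135003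
theorem L135007 : sm gb N11497 = N10558 := ded_20_1 (flp_f L126977) (flp_b L126838) L135003
theorem L135009 : sm gd N11497 = N10606 := ded_31_1 L127336 (flp_d L126844) L135003
theorem L135011 : sm gi N11497 = N10598 := ded_41_2 (flp_f L127275) (flp_i L126842) L135003
theorem L135013 : sm ge N11497 = N11497 := ded_35_1 (flp_f L135003) (flp_e L126834) L72040 L126834 L135003
theorem L135014 : sm gd N10544 = N11498 := rfl
theorem L135016 : sm ga N11498 = N10601 := ded_11_1 (flp_d L127295) (flp_a L126848) L135014
theorem L135018 : sm gb N11498 = N11498 := ded_18_1 (flp_d L135014) L126850 L135014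
theorem L135019 : sm ge N11498 = N11498 := ded_30_2 (flp_d L135014) (flp_e L126846) L72060 L126846 L135014
theorem L135020 : sm gf N10544 = N11499 := rfl
theorem L135022 : sm ga N11499 = N10602 := ded_13_1 (flp_f L127300) (flp_a L126848) L135020
theorem L135024 : sm gb N11499 = N11499 := ded_20_1 (flp_f L135020) L126850 L135020
theorem L135025 : sm gc N11499 = N10546 := ded_26_1 (flp_f L126865) (flp_c L126851) L135020
theorem L135027 : sm ge N11499 = N10550 := ded_35_1 (flp_f L126905) (flp_e L72077) (flp_f L72057) L126846 L135020
theorem L135029 : sm gi N10544 = N11500 := rfl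
theorem L135031 : sm ga N11500 = N10603 := ded_16_1 (flp_i L127308) (flp_a L126848) L135029
theorem L135033 : sm gb N11500 = N11500 := ded_23_1 (flp_i L135029) L126850 L135029
theorem L135034 : sm gc N11500 = N10547 := ded_29_1 (flp_i L126873) (flp_c L126851) L135029
theorem L135036 : sm ge N11500 = N10545 := ded_38_1 (flp_i L126853) L126846 L135029
theorem L135038 : sm gg N11500 = N10597 := ded_43_1 (flp_i L135001) L134999 L135029
theorem L135040 : sm gh N10545 = N11501 := rfl
theorem L135042 : sm ga N11501 = N10604 := ded_15_1 (flp_h L127316) (flp_a L126855) L135040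
theorem L135044 : sm gb N11501 = N11501 := ded_22_1 (flp_h L135040) L126857 L135040
theorem L135045 : sm gc N11501 = N10548 := ded_28_1 (flp_h L126885) (flp_c L126858) L135040
theorem L135047 : sm gf N11501 = N10552 := ded_40_1 (flp_h L126922) (flp_f L126861) L135040
theorem L135049 : sm gg N11501 = N10594 := ded_42_1 L127254 (flp_g L126863) L135040
theorem L135051 : sm gg N10546 = N11502 := rfl
theorem L135053 : sm ga N11502 = N10605 := ded_14_1 (flp_g L127324) (flp_a L126867) L135051
theorem L135055 : sm gb N11502 = N10559 := ded_21_1 (flp_g L126987) (flp_b L126869) L135051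
theorem L135057 : sm ge N11502 = N10553 := ded_36_1 (flp_g L126930) (flp_e L126871) L135051
theorem L135059 : sm gi N10546 = N11503 := rfl
theorem L135061 : sm ga N11503 = N10606 := ded_16_1 (flp_i L127330) (flp_a L126867) L135059
theorem L135063 : sm gb N11503 = N10560 := ded_23_1 (flp_i L126994) (flp_b L126869) L135059
theorem L135065 : sm gd N11503 = N10600 := ded_34_1 (flp_i L134989) L134987 L135059
theorem L135067 : sm ge N11503 = N10554 := ded_38_1 (flp_i L126938) (flp_e L126871) L135059
theorem L135069 : sm gf N11503 = N10547 := ded_41_1 (flp_i L126873) L126865 L135059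
theorem L135071 : sm gh N10547 = N11504 := rfl
theorem L135073 : sm ga N11504 = N10607 := ded_15_1 (flp_h L127338) (flp_a L126875) L135071
theorem L135075 : sm gb N11504 = N10561 := ded_22_1 (flp_h L127005) (flp_b L126877) L135071
theorem L135077 : sm ge N11504 = N10548 := ded_37_1 (flp_h L126885) (flp_e L126881) L135071
theorem L135079 : sm gg N11504 = N10595 := ded_42_1 L127261 (flp_g L126883) L135071
theorem L135081 : sm gf N10549 = N11505 := rfl
theorem L135083 : sm ga N11505 = N10608 := ded_13_1 (flp_f L127344) (flp_a L126899) L135081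
theorem L135085 : sm gb N11505 = N11505 := ded_20_1 (flp_f L135081) L126901 L135081
theorem L135086 : sm gc N11505 = N11505 := ded_26_1 (flp_f L135081) L126903 L135081
theorem L135087 : sm gd N11505 = N10550 := ded_31_1 (flp_f L126905) L126897 L135081
theorem L135089 : sm gh N10549 = N11506 := rfl
theorem L135091 : sm ga N11506 = N10609 := ded_15_1 (flp_h L127351) (flp_a L126899) L135089
theorem L135093 : sm gb N11506 = N11506 := ded_22_1 (flp_h L135089) L126901 L135089
theorem L135094 : sm gc N11506 = N11506 := ded_28_1 (flp_h L135089) L126903 L135089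
theorem L135095 : sm ge N11506 = N11506 := ded_37_1 (flp_h L135089) L126904 L135089
theorem L135096 : sm gg N11506 = N11506 := ded_42_1 (flp_h L135089) L126902 L135089
theorem L135097 : sm gi N10549 = N11507 := rfl
theorem L135099 : sm ga N11507 = N10610 := ded_16_1 (flp_i L127358) (flp_a L126899) L135097
theorem L135101 : sm gb N11507 = N11507 := ded_23_1 (flp_i L135097) L126901 L135097
theorem L135102 : sm gc N11507 = N11507 := ded_29_1 (flp_i L135097) L126903 L135097
theorem L135103 : sm gd N11507 = N10551 := ded_34_1 (flp_i L126912) L126897 L135097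
theorem L135105 : sm ge N11507 = N11507 := ded_38_1 (flp_i L135097) L126904 L135097
theorem L135106 : sm gg N11507 = N11507 := ded_43_1 (flp_i L135097) L126902 L135097
theorem L135107 : sm gg N10550 = N11508 := rfl
theorem L135109 : sm ga N11508 = N10611 := ded_14_1 (flp_g L127367) (flp_a L126907) L135107
theorem L135111 : sm gb N11508 = N11508 := ded_21_1 (flp_g L135107) L126909 L135107
theorem L135112 : sm gc N11508 = N10553 := ded_27_1 (flp_g L126930) (flp_c L126910) L135107
theorem L135114 : sm gf N11508 = N11508 := ded_39_1 (flp_g L135107) (flp_f L126905) L72084 L126905 L135107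
theorem L135115 : sm gi N10550 = N11509 := rfl
theorem L135117 : sm ga N11509 = N10612 := ded_16_1 (flp_i L127374) (flp_a L126907) L135115
theorem L135119 : sm gb N11509 = N11509 := ded_23_1 (flp_i L135115) L126909 L135115
theorem L135120 : sm gc N11509 = N10554 := ded_29_1 (flp_i L126938) (flp_c L126910) L135115
theorem L135122 : sm gf N11509 = N10551 := ded_41_1 (flp_i L126912) L126905 L135115
theorem L135124 : sm gh N10551 = N11510 := rfl
theorem L135126 : sm ga N11510 = N10613 := ded_15_1 (flp_h L127382) (flp_a L126914) L135124
theorem L135128 : sm gb N11510 = N11510 := ded_22_1 (flp_h L135124) L126916 L135124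
theorem L135129 : sm gc N11510 = N10555 := ded_28_1 (flp_h L126947) (flp_c L126917) L135124
theorem L135131 : sm ge N11510 = N10552 := ded_37_1 (flp_h L126922) (flp_e L126919) L135124
theorem L135133 : sm gg N11510 = N11510 := ded_42_1 (flp_h L135124) L126921 L135124
theorem L135134 : sm gd N10552 = N11511 := rfl
theorem L135136 : sm ga N11511 = N10614 := ded_11_1 (flp_d L127391) (flp_a L126924) L135134
theorem L135138 : sm gb N11511 = N11511 := ded_18_1 (flp_d L135134) L126926 L135134
theorem L135139 : sm gg N11511 = N11511 := ded_32_2 (flp_d L135134) L126929 L135134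
theorem L135140 : sm gh N11511 = N11511 := ded_33_2 (flp_d L135134) (flp_h L126922) L72092 L126922 L135134
theorem L135141 : sm gi N10553 = N11512 := rfl
theorem L135143 : sm ga N11512 = N10615 := ded_16_1 (flp_i L127397) (flp_a L126932) L135141
theorem L135145 : sm gb N11512 = N10562 := ded_23_1 (flp_i L127014) (flp_b L126934) L135141
theorem L135147 : sm gd N11512 = N11512 := ded_34_1 (flp_i L135141) L126936 L135141
theorem L135148 : sm gf N11512 = N11512 := ded_41_1 (flp_i L135141) L126937 L135141
theorem L135149 : sm gg N11512 = N10554 := ded_43_1 (flp_i L126938) L126930 L135141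
theorem L135151 : sm gh N10554 = N11513 := rfl
theorem L135153 : sm ga N11513 = N10616 := ded_15_1 (flp_h L127405) (flp_a L126940) L135151
theorem L135155 : sm gb N11513 = N10563 := ded_22_1 (flp_h L127023) (flp_b L126942) L135151
theorem L135157 : sm gf N11513 = N10555 := ded_40_1 (flp_h L126947) (flp_f L126945) L135151
theorem L135159 : sm gd N10555 = N11514 := rfl
theorem L135161 : sm ga N11514 = N10617 := ded_11_1 (flp_d L127411) (flp_a L126949) L135159
theorem L135163 : sm gb N11514 = N10564 := ded_18_1 (flp_d L127030) (flp_b L126951) L135159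
theorem L135165 : sm gg N11514 = N11514 := ded_32_2 (flp_d L135159) L126955 L135159
theorem L135166 : sm gh N11514 = N11514 := ded_33_2 (flp_d L135159) (flp_h L126947) L72107 L126947 L135159
theorem L135167 : sm gf N10556 = N11515 := rfl
theorem L135169 : sm ga N11515 = N10565 := ded_13_1 (flp_f L127036) (flp_a L126958) L135167
theorem L135171 : sm gc N11515 = N10684 := ded_26_1 L127954 (flp_c L126960) L135167
theorem L135173 : sm gh N11515 = N10557 := ded_40_2 (flp_f L126966) (flp_h L126964) L135167
theorem L135175 : sm ge N11515 = N11515 := ded_35_1 (flp_f L135167) (flp_e L126956) L72137 L126956 L135167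
theorem L135176 : sm gg N10557 = N11516 := rfl
theorem L135178 : sm ga N11516 = N10566 := ded_14_1 (flp_g L127045) (flp_a L126968) L135176
theorem L135180 : sm gc N11516 = N10683 := ded_27_1 L127947 (flp_c L126970) L135176
theorem L135182 : sm gd N11516 = N10559 := ded_32_1 (flp_g L126987) (flp_d L126972) L135176
theorem L135184 : sm ge N11516 = N11516 := ded_36_1 (flp_g L135176) L126976 L135176
theorem L135185 : sm gi N11516 = N10621 := ded_43_2 (flp_g L127440) (flp_i L126974) L135176
theorem L135187 : sm gf N11516 = N10622 := ded_39_1 L127457 L73513 (flp_g L118032) L126966 L135176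
theorem L135189 : sm gg N10558 = N11517 := rfl
theorem L135191 : sm ga N11517 = N10567 := ded_14_1 (flp_g L127058) (flp_a L126979) L135189
theorem L135193 : sm gc N11517 = N11517 := ded_27_1 (flp_g L135189) L126981 L135189
theorem L135194 : sm gd N11517 = N10622 := ded_32_1 L127457 (flp_d L126982) L135189
theorem L135196 : sm ge N11517 = N11517 := ded_36_1 (flp_g L135189) L126986 L135189
theorem L135197 : sm gi N11517 = N10620 := ded_43_2 (flp_g L127432) (flp_i L126984) L135189
theorem L135199 : sm gf N11517 = N10559 := ded_39_1 (flp_g L126987) (flp_f L72209) (flp_g L72197) L126977 L135189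
theorem L135201 : sm gi N10559 = N11518 := rfl
theorem L135203 : sm ga N11518 = N10568 := ded_16_1 (flp_i L127070) (flp_a L126989) L135201
theorem L135205 : sm gc N11518 = N11518 := ded_29_1 (flp_i L135201) L126991 L135201
theorem L135206 : sm gd N11518 = N10621 := ded_34_1 (flp_i L135185) L135182 L135201
theorem L135208 : sm ge N11518 = N10562 := ded_38_1 (flp_i L127014) (flp_e L126992) L135201
theorem L135210 : sm gf N11518 = N10620 := ded_41_1 (flp_i L135197) L135199 L135201
theorem L135212 : sm gg N11518 = N10560 := ded_43_1 (flp_i L126994) L126987 L135201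
theorem L135214 : sm gh N10560 = N11519 := rfl
theorem L135216 : sm ga N11519 = N10569 := ded_15_1 (flp_h L127083) (flp_a L126996) L135214
theorem L135218 : sm gc N11519 = N11519 := ded_28_1 (flp_h L135214) L126998 L135214
theorem L135219 : sm ge N11519 = N10563 := ded_37_1 (flp_h L127023) (flp_e L127001) L135214
theorem L135221 : sm gf N11519 = N10561 := ded_40_1 (flp_h L127005) (flp_f L127003) L135214
theorem L135223 : sm gh N10562 = N11520 := rfl
theorem L135225 : sm ga N11520 = N10570 := ded_15_1 (flp_h L127092) (flp_a L127016) L135223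
theorem L135227 : sm gc N11520 = N11520 := ded_28_1 (flp_h L135223) L127018 L135223
theorem L135228 : sm gf N11520 = N11520 := ded_40_1 (flp_h L135223) L127020 L135223
theorem L135229 : sm gg N11520 = N10563 := ded_42_1 (flp_h L127023) (flp_g L127021) L135223
theorem L135231 : sm gd N10563 = N11521 := rfl
theorem L135233 : sm ga N11521 = N10571 := ded_11_1 (flp_d L127100) (flp_a L127025) L135231
theorem L135235 : sm gf N11521 = N10564 := ded_31_2 (flp_d L127030) (flp_f L127028) L135231
theorem L135237 : sm gh N11521 = N11521 := ded_33_2 (flp_d L135231) (flp_h L127023) L72242 L127023 L135231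
theorem L135238 : sm gc N10564 = N11522 := rfl
theorem L135240 : sm ga N11522 = N10572 := ded_10_1 (flp_c L127107) (flp_a L127032) L135238
theorem L135242 : sm gg N11522 = N11522 := ded_27_2 (flp_c L135238) L127034 L135238
theorem L135243 : sm gh N11522 = N11522 := ded_28_2 (flp_c L135238) L127035 L135238
theorem L135244 : sm gd N11522 = N11522 := ded_24_2 (flp_c L135238) (flp_d L127030) L72249 L127030 L135238
theorem L135245 : sm gg N10565 = N11523 := rfl
theorem L135247 : sm gb N11523 = N10628 := ded_21_1 (flp_g L127497) (flp_b L127038) L135245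
theorem L135249 : sm gc N11523 = N10690 := ded_27_1 L128003 (flp_c L127040) L135245
theorem L135251 : sm ge N11523 = N11523 := ded_36_1 (flp_g L135245) L127044 L135245
theorem L135252 : sm gh N11523 = N10566 := ded_42_2 (flp_g L127045) (flp_h L127042) L135245
theorem L135254 : sm gf N11523 = N10630 := ded_39_1 L127515 L73687 (flp_g L118148) L127036 L135245
theorem L135256 : sm gh N10568 = N11524 := rfl
theorem L135258 : sm gb N11524 = N10630 := ded_22_1 (flp_h L127509) (flp_b L127072) L135256
theorem L135260 : sm gc N11524 = N11524 := ded_28_1 (flp_h L135256) L127074 L135256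
theorem L135261 : sm ge N11524 = N10570 := ded_37_1 (flp_h L127092) (flp_e L127077) L135256
theorem L135263 : sm gf N11524 = N10628 := ded_40_1 L127501 (flp_f L127079) L135256
theorem L135265 : sm gg N11524 = N10569 := ded_42_1 (flp_h L127083) (flp_g L127081) L135256
theorem L135267 : sm gd N10573 = N11525 := rfl
theorem L135269 : sm ga N11525 = N10947 := ded_11_1 (flp_d L132907) L132899 L135267
theorem L135271 : sm gb N11525 = N10634 := ded_18_1 (flp_d L127532) (flp_b L127114) L135267
theorem L135273 : sm gf N11525 = N11525 := ded_31_2 (flp_d L135267) L127118 L135267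
theorem L135274 : sm gg N11525 = N10861 := ded_32_2 (flp_d L131618) L131612 L135267
theorem L135276 : sm gc N11525 = N10859 := ded_24_1 (flp_d L129349) (flp_c L123850) L123855 (flp_c L127116) L135267
theorem L135278 : sm gh N11525 = N11525 := ded_33_2 (flp_d L135267) (flp_h L127112) L72576 L127112 L135267
theorem L135279 : sm gi N10573 = N11526 := rfl
theorem L135281 : sm gb N11526 = N10635 := ded_23_1 (flp_i L127537) (flp_b L127114) L135279
theorem L135283 : sm gc N11526 = N10574 := ded_29_1 (flp_i L127119) (flp_c L127116) L135279
theorem L135285 : sm gf N11526 = N11526 := ded_41_1 (flp_i L135279) L127118 L135279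
theorem L135286 : sm gh N11526 = N10592 := ded_44_1 (flp_i L127238) (flp_h L73184) (flp_i L72572) L127112 L135279
theorem L135288 : sm gd N10575 = N11527 := rfl
theorem L135290 : sm ga N11527 = N10935 := ded_11_1 (flp_d L132825) L132819 L135288
theorem L135292 : sm gb N11527 = N11527 := ded_18_1 (flp_d L135288) L127128 L135288
theorem L135293 : sm gg N11527 = N10852 := ded_32_2 (flp_d L131543) L131538 L135288
theorem L135295 : sm gi N11527 = N11405 := ded_34_2 L134197 L131995 L135288
theorem L135297 : sm gc N11527 = N10853 := ded_24_1 L129294 (flp_c L123824) L123826 (flp_c L127129) L135288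
theorem L135299 : sm ge N11527 = N11527 := ded_30_2 (flp_d L135288) (flp_e L127126) L72645 L127126 L135288
theorem L135300 : sm gf N10575 = N11528 := rfl
theorem L135302 : sm gb N11528 = N11528 := ded_20_1 (flp_f L135300) L127128 L135300
theorem L135303 : sm gc N11528 = N10576 := ded_26_1 (flp_f L127131) (flp_c L127129) L135300
theorem L135305 : sm ge N11528 = N10578 := ded_35_1 (flp_f L127143) (flp_e L72658) (flp_f L72642) L127126 L135300
theorem L135307 : sm gf N10577 = N11529 := rfl
theorem L135309 : sm gb N11529 = N11529 := ded_20_1 (flp_f L135307) L127139 L135307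
theorem L135310 : sm gc N11529 = N11529 := ded_26_1 (flp_f L135307) L127141 L135307
theorem L135311 : sm gd N11529 = N10578 := ded_31_1 (flp_f L127143) L127137 L135307
theorem L135313 : sm gh N10577 = N11530 := rfl
theorem L135315 : sm gb N11530 = N11530 := ded_22_1 (flp_h L135313) L127139 L135313
theorem L135316 : sm gc N11530 = N11530 := ded_28_1 (flp_h L135313) L127141 L135313
theorem L135317 : sm ge N11530 = N11530 := ded_37_1 (flp_h L135313) L127142 L135313
theorem L135318 : sm gg N11530 = N11530 := ded_42_1 (flp_h L135313) L127140 L135313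
theorem L135319 : sm gi N10577 = N11531 := rfl
theorem L135321 : sm gb N11531 = N11531 := ded_23_1 (flp_i L135319) L127139 L135319
theorem L135322 : sm gc N11531 = N11531 := ded_29_1 (flp_i L135319) L127141 L135319
theorem L135323 : sm gd N11531 = N10579 := ded_34_1 (flp_i L127148) L127137 L135319
theorem L135325 : sm ge N11531 = N11531 := ded_38_1 (flp_i L135319) L127142 L135319
theorem L135326 : sm gg N11531 = N11531 := ded_43_1 (flp_i L135319) L127140 L135319
theorem L135327 : sm gg N10578 = N11532 := rfl
theorem L135329 : sm gb N11532 = N11532 := ded_21_1 (flp_g L135327) L127145 L135327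
theorem L135330 : sm gc N11532 = N10581 := ded_27_1 (flp_g L127162) (flp_c L127146) L135327
theorem L135332 : sm gf N11532 = N11532 := ded_39_1 (flp_g L135327) (flp_f L127143) L72663 L127143 L135327
theorem L135333 : sm gi N10578 = N11533 := rfl
theorem L135335 : sm gb N11533 = N11533 := ded_23_1 (flp_i L135333) L127145 L135333
theorem L135336 : sm gc N11533 = N10582 := ded_29_1 (flp_i L127168) (flp_c L127146) L135333
theorem L135338 : sm gf N11533 = N10579 := ded_41_1 (flp_i L127148) L127143 L135333
theorem L135340 : sm gh N10579 = N11534 := rfl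
theorem L135342 : sm gb N11534 = N11534 := ded_22_1 (flp_h L135340) L127150 L135340
theorem L135343 : sm gc N11534 = N10583 := ded_28_1 (flp_h L127175) (flp_c L127151) L135340
theorem L135345 : sm ge N11534 = N10580 := ded_37_1 (flp_h L127156) (flp_e L127153) L135340
theorem L135347 : sm gg N11534 = N11534 := ded_42_1 (flp_h L135340) L127155 L135340
theorem L135348 : sm gd N11510 = N11534 := ded_46_3 L135343 L127177 L72831 (flp_h L53356) (flp_f L53354) (flp_e L119451) L67019 L49006 L35977 (flp_a L104049) (flp_h L35146) L35144 L26801 L20281 (flp_c L20276) (flp_b L20234) (flp_a L27444) L27447 L20309 (flp_e L27180) (flp_d L27176) (flp_c L27138) (flp_b L37031) L37030 (flp_h L37028) (flp_f L35162) (flp_e L35155) L25805 (flp_c L26816) L26814 L19699 L19781 L19786 L111039 L12461 L9492 L7029 L5218 L5222 (flp_f L6334) (flp_e L8546) (flp_d L11427) (flp_c L15294) (flp_b L20801) (flp_a L28271) (flp_h L117521) L21120 L15487 L15485 (flp_c L15812) (flp_b L21489) L21488 L21495 (flp_f L29204) L29203 (flp_d L39841) (flp_c L54333) (flp_b L73289) (flp_a L126855) L135040 L135047 (flp_e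 L135131)
theorem L135350 : sm gh N11531 = N11507 := ded_33_4 L135103 L135124 L135348 (flp_h L135340) (flp_d L135323)
theorem L135352 : sm gi N11506 = N11530 := ded_44_4 (flp_h L135313) L135319 L135350 (flp_i L135097) L135089
theorem L135354 : sm gd N10580 = N11535 := rfl
theorem L135356 : sm gb N11535 = N11535 := ded_18_1 (flp_d L135354) L127158 L135354
theorem L135357 : sm gg N11535 = N11535 := ded_32_2 (flp_d L135354) L127161 L135354
theorem L135358 : sm gc N11535 = N10614 := ded_24_1 (flp_d L127391) L73340 (flp_d L72689) (flp_c L127159) L135354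
theorem L135360 : sm ge N11535 = N11511 := ded_30_2 (flp_d L135134) (flp_e L135131) L135348 L135345 L135354
theorem L135362 : sm gh N11535 = N11535 := ded_33_2 (flp_d L135354) (flp_h L127156) L72669 L127156 L135354
theorem L135363 : sm gi N10581 = N11536 := rfl
theorem L135365 : sm gb N11536 = N10584 := ded_23_1 (flp_i L127182) (flp_b L127164) L135363
theorem L135367 : sm gd N11536 = N11536 := ded_34_1 (flp_i L135363) L127166 L135363
theorem L135368 : sm gf N11536 = N11536 := ded_41_1 (flp_i L135363) L127167 L135363
theorem L135369 : sm gg N11536 = N10582 := ded_43_1 (flp_i L127168) L127162 L135363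
theorem L135371 : sm gh N10582 = N11537 := rfl
theorem L135373 : sm gb N11537 = N10585 := ded_22_1 (flp_h L127191) (flp_b L127170) L135371
theorem L135375 : sm gf N11537 = N10583 := ded_40_1 (flp_h L127175) (flp_f L127173) L135371
theorem L135377 : sm gd N10583 = N11538 := rfl
theorem L135379 : sm gb N11538 = N10586 := ded_18_1 (flp_d L127198) (flp_b L127177) L135377
theorem L135381 : sm gg N11538 = N11538 := ded_32_2 (flp_d L135377) L127181 L135377
theorem L135382 : sm gc N11538 = N11514 := ded_24_1 (flp_d L135159) (flp_c L135129) L135348 L135343 L135377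
theorem L135384 : sm ge N11538 = N10617 := ded_30_2 (flp_d L127411) L73360 (flp_d L72689) (flp_e L127179) L135377
theorem L135386 : sm gh N11538 = N11538 := ded_33_2 (flp_d L135377) (flp_h L127175) L72680 L127175 L135377
theorem L135387 : sm gh N10584 = N11539 := rfl
theorem L135389 : sm ga N11539 = N10587 := ded_15_1 (flp_h L127206) (flp_a L127184) L135387
theorem L135391 : sm gc N11539 = N11539 := ded_28_1 (flp_h L135387) L127186 L135387
theorem L135392 : sm gf N11539 = N11539 := ded_40_1 (flp_h L135387) L127188 L135387
theorem L135393 : sm gg N11539 = N10585 := ded_42_1 (flp_h L127191) (flp_g L127189) L135387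
theorem L135395 : sm gd N10585 = N11540 := rfl
theorem L135397 : sm ga N11540 = N10588 := ded_11_1 (flp_d L127212) (flp_a L127193) L135395
theorem L135399 : sm gf N11540 = N10586 := ded_31_2 (flp_d L127198) (flp_f L127196) L135395
theorem L135401 : sm gh N11540 = N11540 := ded_33_2 (flp_d L135395) (flp_h L127191) L72826 L127191 L135395
theorem L135402 : sm gc N10586 = N11541 := rfl
theorem L135404 : sm ga N11541 = N10589 := ded_10_1 (flp_c L127217) (flp_a L127200) L135402
theorem L135406 : sm ge N11541 = N10627 := ded_25_2 (flp_c L127489) (flp_e L127203) L135402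
theorem L135408 : sm gg N11541 = N11541 := ded_27_2 (flp_c L135402) L127202 L135402
theorem L135409 : sm gh N11541 = N11541 := ded_28_2 (flp_c L135402) L127205 L135402
theorem L135410 : sm gb N11541 = N11522 := ded_17_1 (flp_c L135238) (flp_b L135163) (flp_c L135382) L135379 L135402
theorem L135412 : sm gd N11541 = N11541 := ded_24_2 (flp_c L135402) (flp_d L127198) L72833 L127198 L135402
theorem L135413 : sm gd N10590 = N11542 := rfl
theorem L135415 : sm gb N11542 = N10646 := ded_18_1 (flp_d L127631) (flp_b L127226) L135413
theorem L135417 : sm gg N11542 = N10591 := ded_32_2 (flp_d L127232) (flp_g L127230) L135413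
theorem L135419 : sm gh N11542 = N11542 := ded_33_2 (flp_d L135413) (flp_h L127224) L73183 L127224 L135413
theorem L135420 : sm gi N10590 = N11543 := rfl
theorem L135422 : sm gb N11543 = N10647 := ded_23_1 (flp_i L127638) (flp_b L127226) L135420
theorem L135424 : sm gc N11543 = N10593 := ded_29_1 (flp_i L127245) (flp_c L127228) L135420
theorem L135426 : sm gg N11543 = N10592 := ded_43_1 (flp_i L127238) (flp_g L127230) L135420
theorem L135428 : sm gc N10591 = N11544 := rfl
theorem L135430 : sm gf N11544 = N11544 := ded_26_2 (flp_c L135428) L127236 L135428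
theorem L135431 : sm gh N11544 = N11544 := ded_28_2 (flp_c L135428) L127237 L135428
theorem L135432 : sm gb N11544 = N11544 := ded_17_1 (flp_c L135428) L127234 L74211 (flp_b L127234) L135428
theorem L135433 : sm gd N11544 = N10594 := ded_24_2 (flp_c L127251) (flp_d L73204) (flp_c L73188) L127232 L135428
theorem L135435 : sm ge N10591 = N11545 := rfl
theorem L135437 : sm gb N11545 = N10648 := ded_19_1 (flp_e L127645) (flp_b L127234) L135435
theorem L135439 : sm gh N11545 = N11545 := ded_37_2 (flp_e L135435) L127237 L135435
theorem L135440 : sm gi N10591 = N11546 := rfl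
theorem L135442 : sm gb N11546 = N10649 := ded_23_1 (flp_i L127650) (flp_b L127234) L135440
theorem L135444 : sm gd N11546 = N10592 := ded_34_1 (flp_i L127238) L127232 L135440
theorem L135446 : sm gf N11546 = N11546 := ded_41_1 (flp_i L135440) L127236 L135440
theorem L135447 : sm ge N10594 = N11547 := rfl
theorem L135449 : sm gb N11547 = N11547 := ded_19_1 (flp_e L135447) L127256 L135447
theorem L135450 : sm gc N11547 = N10595 := ded_25_1 (flp_e L127257) L127251 L135447
theorem L135452 : sm gh N11547 = N10597 := ded_37_2 (flp_e L127270) (flp_h L127254) L135447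
theorem L135454 : sm gi N10594 = N11548 := rfl
theorem L135456 : sm gb N11548 = N11548 := ded_23_1 (flp_i L135454) L127256 L135454
theorem L135457 : sm gc N11548 = N10596 := ded_29_1 (flp_i L127263) L127251 L135454
theorem L135459 : sm gf N11548 = N11548 := ded_41_1 (flp_i L135454) L127253 L135454
theorem L135460 : sm gf N10595 = N11549 := rfl
theorem L135462 : sm gb N11549 = N10618 := ded_20_1 (flp_f L127417) (flp_b L127259) L135460
theorem L135464 : sm gh N11549 = N10598 := ded_40_2 (flp_f L127275) (flp_h L127261) L135460
theorem L135466 : sm ge N11549 = N11549 := ded_35_1 (flp_f L135460) (flp_e L127257) L73208 L127257 L135460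
theorem L135467 : sm gi N10595 = N11550 := rfl
theorem L135469 : sm gb N11550 = N10619 := ded_23_1 (flp_i L127425) (flp_b L127259) L135467
theorem L135471 : sm ge N11550 = N10596 := ded_38_1 (flp_i L127263) L127257 L135467
theorem L135473 : sm gd N10597 = N11551 := rfl
theorem L135475 : sm gb N11551 = N11551 := ded_18_1 (flp_d L135473) L127272 L135473
theorem L135476 : sm gc N11551 = N10601 := ded_24_1 (flp_d L127295) L73285 (flp_d L73249) (flp_c L127273) L135473
theorem L135478 : sm ge N11551 = N11551 := ded_30_2 (flp_d L135473) (flp_e L127270) L73244 L127270 L135473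
theorem L135479 : sm gf N10597 = N11552 := rfl
theorem L135481 : sm gb N11552 = N11552 := ded_20_1 (flp_f L135479) L127272 L135479
theorem L135482 : sm gc N11552 = N10598 := ded_26_1 (flp_f L127275) (flp_c L127273) L135479
theorem L135484 : sm ge N11552 = N11552 := ded_35_1 (flp_f L135479) (flp_e L127270) L73242 L127270 L135479
theorem L135485 : sm gg N10598 = N11553 := rfl
theorem L135487 : sm gb N11553 = N10620 := ded_21_1 (flp_g L127432) (flp_b L127277) L135485
theorem L135489 : sm gd N11553 = N10605 := ded_32_1 (flp_g L127324) (flp_d L127279) L135485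
theorem L135491 : sm ge N11553 = N11553 := ded_36_1 (flp_g L135485) L127281 L135485
theorem L135492 : sm gd N10599 = N11554 := rfl
theorem L135494 : sm gb N11554 = N10653 := ded_18_1 (flp_d L127681) (flp_b L127284) L135492
theorem L135496 : sm gg N11554 = N10601 := ded_32_2 (flp_d L127295) (flp_g L127288) L135492
theorem L135498 : sm ge N11554 = N11554 := ded_30_2 (flp_d L135492) (flp_e L127282) L73265 L127282 L135492
theorem L135499 : sm gf N10599 = N11555 := rfl
theorem L135501 : sm gb N11555 = N10654 := ded_20_1 (flp_f L127688) (flp_b L127284) L135499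
theorem L135503 : sm gc N11555 = N10600 := ded_26_1 (flp_f L127290) (flp_c L127286) L135499
theorem L135505 : sm ge N11555 = N11555 := ded_35_1 (flp_f L135499) (flp_e L127282) L73260 L127282 L135499
theorem L135506 : sm gg N10600 = N11556 := rfl
theorem L135508 : sm gb N11556 = N10621 := ded_21_1 (flp_g L127440) (flp_b L127292) L135506
theorem L135510 : sm ge N11556 = N11556 := ded_36_1 (flp_g L135506) L127294 L135506
theorem L135511 : sm gf N11556 = N10605 := ded_39_1 (flp_g L127324) (flp_f L73296) (flp_g L73270) L127290 L135506
theorem L135513 : sm gf N10601 = N11557 := rfl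
theorem L135515 : sm gb N11557 = N10660 := ded_20_1 (flp_f L127738) (flp_b L127297) L135513
theorem L135517 : sm gd N11557 = N10602 := ded_31_1 (flp_f L127300) L127295 L135513
theorem L135519 : sm gh N10601 = N11558 := rfl
theorem L135521 : sm gb N11558 = N10661 := ded_22_1 (flp_h L127744) (flp_b L127297) L135519
theorem L135523 : sm ge N11558 = N11558 := ded_37_1 (flp_h L135519) L127299 L135519
theorem L135524 : sm gi N10601 = N11559 := rfl
theorem L135526 : sm gb N11559 = N10662 := ded_23_1 (flp_i L127749) (flp_b L127297) L135524
theorem L135528 : sm gd N11559 = N10603 := ded_34_1 (flp_i L127308) L127295 L135524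
theorem L135530 : sm ge N11559 = N11559 := ded_38_1 (flp_i L135524) L127299 L135524
theorem L135531 : sm gg N10602 = N11560 := rfl
theorem L135533 : sm gb N11560 = N10663 := ded_21_1 (flp_g L127756) (flp_b L127302) L135531
theorem L135535 : sm gc N11560 = N10605 := ded_27_1 (flp_g L127324) (flp_c L127304) L135531
theorem L135537 : sm ge N11560 = N10611 := ded_36_1 (flp_g L127367) (flp_e L127306) L135531
theorem L135539 : sm gi N10602 = N11561 := rfl
theorem L135541 : sm gb N11561 = N10664 := ded_23_1 (flp_i L127763) (flp_b L127302) L135539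
theorem L135543 : sm gc N11561 = N10606 := ded_29_1 (flp_i L127330) (flp_c L127304) L135539
theorem L135545 : sm ge N11561 = N10612 := ded_38_1 (flp_i L127374) (flp_e L127306) L135539
theorem L135547 : sm gf N11561 = N10603 := ded_41_1 (flp_i L127308) L127300 L135539
theorem L135549 : sm gh N10603 = N11562 := rfl
theorem L135551 : sm gb N11562 = N10665 := ded_22_1 (flp_h L127772) (flp_b L127310) L135549
theorem L135553 : sm gc N11562 = N10607 := ded_28_1 (flp_h L127338) (flp_c L127312) L135549
theorem L135555 : sm ge N11562 = N10604 := ded_37_1 (flp_h L127316) (flp_e L127314) L135549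
theorem L135557 : sm gd N10604 = N11563 := rfl
theorem L135559 : sm gb N11563 = N10666 := ded_18_1 (flp_d L127779) (flp_b L127318) L135557
theorem L135561 : sm gf N11563 = N10614 := ded_31_2 (flp_d L127391) (flp_f L127322) L135557
theorem L135563 : sm gh N11563 = N11563 := ded_33_2 (flp_d L135557) (flp_h L127316) L73293 L127316 L135557
theorem L135564 : sm gi N10605 = N11564 := rfl
theorem L135566 : sm gb N11564 = N10622 := ded_23_1 (flp_i L127449) (flp_b L127326) L135564
theorem L135568 : sm ge N11564 = N10615 := ded_38_1 (flp_i L127397) (flp_e L127328) L135564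
theorem L135570 : sm gg N11564 = N10606 := ded_43_1 (flp_i L127330) L127324 L135564
theorem L135572 : sm gh N10606 = N11565 := rfl
theorem L135574 : sm gb N11565 = N10623 := ded_22_1 (flp_h L127459) (flp_b L127332) L135572
theorem L135576 : sm ge N11565 = N10616 := ded_37_1 (flp_h L127405) (flp_e L127334) L135572
theorem L135578 : sm gf N11565 = N10607 := ded_40_1 (flp_h L127338) (flp_f L127336) L135572
theorem L135580 : sm gd N10607 = N11566 := rfl
theorem L135582 : sm gb N11566 = N10624 := ded_18_1 (flp_d L127469) (flp_b L127340) L135580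
theorem L135584 : sm ge N10608 = N11567 := rfl
theorem L135586 : sm gb N11567 = N10670 := ded_19_1 (flp_e L127812) (flp_b L127346) L135584
theorem L135588 : sm gc N11567 = N11567 := ded_25_1 (flp_e L135584) L127348 L135584
theorem L135589 : sm gf N11567 = N11567 := ded_35_2 (flp_e L135584) (flp_f L127344) L73320 L127344 L135584
theorem L135590 : sm gg N10608 = N11568 := rfl
theorem L135592 : sm gb N11568 = N10671 := ded_21_1 (flp_g L127818) (flp_b L127346) L135590
theorem L135594 : sm gc N11568 = N11568 := ded_27_1 (flp_g L135590) L127348 L135590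
theorem L135595 : sm gd N11568 = N10611 := ded_32_1 (flp_g L127367) (flp_d L127349) L135590
theorem L135597 : sm gf N11568 = N11568 := ded_39_1 (flp_g L135590) (flp_f L127344) L73318 L127344 L135590
theorem L135598 : sm gh N11567 = N11568 := ded_22_0 L135592 L127839 (flp_b L135586)
theorem L135600 : sm gh N10608 = N11569 := rfl
theorem L135602 : sm gb N11569 = N10672 := ded_22_1 (flp_h L127826) (flp_b L127346) L135600
theorem L135604 : sm gc N11569 = N11569 := ded_28_1 (flp_h L135600) L127348 L135600
theorem L135605 : sm ge N11569 = N11568 := ded_37_1 (flp_h L135598) (flp_e L135584) L135600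
theorem L135607 : sm gf N11569 = N10609 := ded_40_1 (flp_h L127351) L127344 L135600
theorem L135609 : sm gg N11569 = N11567 := ded_42_1 L135598 (flp_g L135590) L135600
theorem L135611 : sm gi N10608 = N11570 := rfl
theorem L135613 : sm gb N11570 = N10673 := ded_23_1 (flp_i L127845) (flp_b L127346) L135611
theorem L135615 : sm gc N11570 = N11570 := ded_29_1 (flp_i L135611) L127348 L135611
theorem L135616 : sm gd N11570 = N10612 := ded_34_1 (flp_i L127374) (flp_d L127349) L135611
theorem L135618 : sm gf N11570 = N10610 := ded_41_1 (flp_i L127358) L127344 L135611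
theorem L135620 : sm gi N10609 = N11571 := rfl
theorem L135622 : sm ga N11571 = N11530 := ded_16_1 (flp_i L135352) L135091 L135620
theorem L135624 : sm gb N11571 = N10674 := ded_23_1 (flp_i L127854) (flp_b L127353) L135620
theorem L135626 : sm gc N11571 = N11571 := ded_29_1 (flp_i L135620) L127355 L135620
theorem L135627 : sm ge N11571 = N11571 := ded_38_1 (flp_i L135620) L127356 L135620
theorem L135628 : sm gg N11571 = N11571 := ded_43_1 (flp_i L135620) L127357 L135620
theorem L135629 : sm gh N11483 = N11571 := ded_15_0 L135622 (flp_h L135313) (flp_a L134872)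
theorem L135631 : sm gh N10610 = N11572 := rfl
theorem L135633 : sm ga N11572 = N11531 := ded_15_1 L135350 L135099 L135631
theorem L135635 : sm gb N11572 = N10675 := ded_22_1 (flp_h L127861) (flp_b L127360) L135631
theorem L135637 : sm gc N11572 = N11572 := ded_28_1 (flp_h L135631) L127362 L135631
theorem L135638 : sm ge N11572 = N11572 := ded_37_1 (flp_h L135631) L127365 L135631
theorem L135639 : sm gg N11572 = N11572 := ded_42_1 (flp_h L135631) L127366 L135631
theorem L135640 : sm gi N11572 = N11483 := ded_44_2 L135629 (flp_i L135620) (flp_h L127351) L127358 L135631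
theorem L135642 : sm gd N11485 = N11572 := ded_11_0 L135633 L135323 (flp_a L134885)
theorem L135644 : sm gi N10611 = N11573 := rfl
theorem L135646 : sm gb N11573 = N10676 := ded_23_1 (flp_i L127870) (flp_b L127369) L135644
theorem L135648 : sm gc N11573 = N10615 := ded_29_1 (flp_i L127397) (flp_c L127371) L135644
theorem L135650 : sm gf N11573 = N11573 := ded_41_1 (flp_i L135644) L127373 L135644
theorem L135651 : sm gg N11573 = N10612 := ded_43_1 (flp_i L127374) L127367 L135644
theorem L135653 : sm gh N10612 = N11574 := rfl
theorem L135655 : sm gb N11574 = N10677 := ded_22_1 (flp_h L127878) (flp_b L127376) L135653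
theorem L135657 : sm gc N11574 = N10616 := ded_28_1 (flp_h L127405) (flp_c L127378) L135653
theorem L135659 : sm gf N11574 = N10613 := ded_40_1 (flp_h L127382) (flp_f L127380) L135653
theorem L135661 : sm gd N10613 = N11575 := rfl
theorem L135663 : sm ga N11575 = N11534 := ded_11_1 (flp_d L135348) L135126 L135661
theorem L135665 : sm gb N11575 = N10678 := ded_18_1 (flp_d L127885) (flp_b L127384) L135661
theorem L135667 : sm gg N11575 = N11575 := ded_32_2 (flp_d L135661) L127390 L135661
theorem L135668 : sm gh N11575 = N11485 := ded_33_2 L135642 (flp_h L135631) L127363 L127382 L135661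
theorem L135670 : sm gc N11575 = N11487 := ded_46_4 L134909 L126734 (flp_h L71849) (flp_f L118437) (flp_e L68127) L49777 L36459 L26744 (flp_a L109230) (flp_h L25782) L25779 L19669 (flp_d L14874) L10935 (flp_b L14840) (flp_a L20143) (flp_h L20141) L14769 (flp_e L14762) L10862 L7991 L6349 L6347 (flp_h L6204) (flp_f L6200) (flp_e L4563) L3379 (flp_c L4274) (flp_b L4267) (flp_a L4000) L4005 L3011 L3031 (flp_d L109939) L3776 L2795 L2149 (flp_h L2876) (flp_f L3462) (flp_e L4587) (flp_d L6137) (flp_c L8295) (flp_b L11236) (flp_a L15244) L15248 L15249 L15247 (flp_d L20744) (flp_c L28244) (flp_b L38521) L38519 L39171 L39176 (flp_e L118088) (flp_d L72073) (flp_c L126858) L126857 L126855 L127316 L127322 (flp_e L127388) L135661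
theorem L135672 : sm ge N11486 = N11575 := ded_46_2 (flp_d L135661) L127386 L73358 L53717 (flp_h L39439) (flp_f L39437) (flp_e L53846) (flp_d L118158) L72440 L72438 (flp_a L73473) (flp_h L125528) (flp_f L125522) (flp_e L67993) (flp_d L49668) L36364 (flp_b L104708) L27444 L20237 L14948 (flp_e L20025) (flp_d L20021) (flp_c L19985) L19984 (flp_a L27136) (flp_h L27134) (flp_f L25825) (flp_e L25817) L18997 L18995 (flp_b L14473) L14471 L14539 L14543 (flp_e L111569) L9185 L6781 L5204 L3873 L3877 (flp_f L3525) (flp_e L4717) (flp_d L6387) L6386 (flp_b L8600) (flp_a L11647) L15818 L15824 L15823 (flp_d L21111) (flp_c L28725) (flp_b L39173) (flp_a L52636) (flp_h L52634) L38524 (flp_e L52622) (flp_d L71988) (flp_c L126754) L126753 L126751 L127224 (flp_f L134902)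
theorem L135674 : sm ge N10614 = N11576 := rfl
theorem L135676 : sm ga N11576 = N11535 := ded_12_1 L135360 L135136 L135674
theorem L135678 : sm gb N11576 = N10679 := ded_19_1 (flp_e L127895) (flp_b L127393) L135674
theorem L135680 : sm gc N11576 = N11511 := ded_25_1 (flp_e L135360) L135358 L135674
theorem L135682 : sm gg N11576 = N11576 := ded_36_2 (flp_e L135674) L127395 L135674
theorem L135683 : sm gh N11576 = N11576 := ded_37_2 (flp_e L135674) L127396 L135674
theorem L135684 : sm gd N11576 = N11486 := ded_30_1 L135672 (flp_d L135661) L127388 L127391 L135674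
theorem L135686 : sm gf N11542 = N11576 := ded_20_0 L135678 (flp_f L127903) (flp_b L135415)
theorem L135688 : sm gh N10615 = N11577 := rfl
theorem L135690 : sm gb N11577 = N10625 := ded_22_1 (flp_h L127473) (flp_b L127399) L135688
theorem L135692 : sm gf N11577 = N11577 := ded_40_1 (flp_h L135688) L127402 L135688
theorem L135693 : sm gg N11577 = N10616 := ded_42_1 (flp_h L127405) (flp_g L127403) L135688
theorem L135695 : sm gd N10616 = N11578 := rfl
theorem L135697 : sm gb N11578 = N10626 := ded_18_1 (flp_d L127482) (flp_b L127407) L135695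
theorem L135699 : sm gf N11578 = N10617 := ded_31_2 (flp_d L127411) (flp_f L127409) L135695
theorem L135701 : sm gh N11578 = N11578 := ded_33_2 (flp_d L135695) (flp_h L127405) L73353 L127405 L135695
theorem L135702 : sm gc N10617 = N11579 := rfl
theorem L135704 : sm ga N11579 = N11538 := ded_10_1 L135382 L135161 L135702
theorem L135706 : sm ge N11579 = N11514 := ded_25_2 (flp_c L135382) L135384 L135702
theorem L135708 : sm gg N11579 = N11579 := ded_27_2 (flp_c L135702) L127415 L135702
theorem L135709 : sm gh N11579 = N11579 := ded_28_2 (flp_c L135702) L127416 L135702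
theorem L135710 : sm gd N11579 = N11487 := ded_24_2 (flp_c L135670) (flp_d L135661) L127386 L127411 L135702
theorem L135712 : sm gb N11488 = N11579 := ded_9_0 L135704 L135379 L127200 (flp_b L126743) (flp_a L134916)
theorem L135714 : sm gg N10618 = N11580 := rfl
theorem L135716 : sm ga N11580 = N10628 := ded_14_1 (flp_g L127497) (flp_a L127419) L135714
theorem L135718 : sm gc N11580 = N11580 := ded_27_1 (flp_g L135714) L127421 L135714
theorem L135719 : sm ge N11580 = N11580 := ded_36_1 (flp_g L135714) L127424 L135714
theorem L135720 : sm gh N11580 = N10620 := ded_42_2 (flp_g L127432) (flp_h L127422) L135714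
theorem L135722 : sm gi N10618 = N11581 := rfl
theorem L135724 : sm ga N11581 = N10629 := ded_16_1 (flp_i L127503) (flp_a L127419) L135722
theorem L135726 : sm gc N11581 = N11581 := ded_29_1 (flp_i L135722) L127421 L135722
theorem L135727 : sm ge N11581 = N11581 := ded_38_1 (flp_i L135722) L127424 L135722
theorem L135728 : sm gf N11581 = N10619 := ded_41_1 (flp_i L127425) L127417 L135722
theorem L135730 : sm gh N10622 = N11582 := rfl
theorem L135732 : sm ga N11582 = N10630 := ded_15_1 (flp_h L127509) (flp_a L127451) L135730
theorem L135734 : sm gc N11582 = N10686 := ded_28_1 (flp_h L127964) (flp_c L127453) L135730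
theorem L135736 : sm ge N11582 = N10625 := ded_37_1 (flp_h L127473) (flp_e L127455) L135730
theorem L135738 : sm gg N11582 = N10623 := ded_42_1 (flp_h L127459) (flp_g L127457) L135730
theorem L135740 : sm gd N10623 = N11583 := rfl
theorem L135742 : sm ga N11583 = N10631 := ded_11_1 (flp_d L127517) (flp_a L127461) L135740
theorem L135744 : sm gf N11583 = N10624 := ded_31_2 (flp_d L127469) (flp_f L127467) L135740
theorem L135746 : sm gc N10624 = N11584 := rfl
theorem L135748 : sm ga N11584 = N10632 := ded_10_1 (flp_c L127521) (flp_a L127471) L135746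
theorem L135750 : sm gd N11584 = N10688 := ded_24_2 (flp_c L127979) (flp_d L74482) (flp_c L73519) L127469 L135746
theorem L135752 : sm gb N10627 = N11585 := rfl
theorem L135754 : sm gd N11585 = N10689 := ded_18_2 (flp_b L127985) (flp_d L127495) L135752
theorem L135756 : sm ge N11585 = N11522 := ded_19_2 (flp_b L135410) L135406 L135752
theorem L135758 : sm gf N11585 = N11079 := ded_20_2 L131371 L129033 L135752
theorem L135760 : sm gg N11585 = N11585 := ded_21_2 (flp_b L135752) L127493 L135752
theorem L135761 : sm gh N11585 = N11585 := ded_22_2 (flp_b L135752) L127494 L135752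
theorem L135762 : sm ga N11585 = N11083 := ded_9_1 L131412 L123752 L121983 (flp_a L127491) L135752
theorem L135764 : sm gc N11585 = N11488 := ded_17_2 L135712 (flp_c L135702) L127413 L127489 L135752
theorem L135766 : sm gi N10628 = N11586 := rfl
theorem L135768 : sm gc N11586 = N11586 := ded_29_1 (flp_i L135766) L127499 L135766
theorem L135769 : sm ge N11586 = N11586 := ded_38_1 (flp_i L135766) L127500 L135766
theorem L135770 : sm gg N11586 = N10629 := ded_43_1 (flp_i L127503) L127497 L135766
theorem L135772 : sm gd N10633 = N11587 := rfl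
theorem L135774 : sm ga N11587 = N11587 := ded_11_1 (flp_d L135772) L127527 L135772
theorem L135775 : sm gb N11587 = N10861 := ded_18_1 (flp_d L131618) L131616 L135772
theorem L135777 : sm gf N11587 = N10817 := ded_31_2 (flp_d L131320) L131313 L135772
theorem L135779 : sm gg N11587 = N10634 := ded_32_2 (flp_d L127532) (flp_g L127530) L135772
theorem L135781 : sm gc N11587 = N10815 := ded_24_1 (flp_d L128904) (flp_c L123562) L123568 (flp_c L127528) L135772
theorem L135783 : sm gh N11587 = N11587 := ded_33_2 (flp_d L135772) (flp_h L127525) L73714 L127525 L135772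
theorem L135784 : sm gi N10633 = N11588 := rfl
theorem L135786 : sm ga N11588 = N11588 := ded_16_1 (flp_i L135784) L127527 L135784
theorem L135787 : sm gc N11588 = N10636 := ded_29_1 (flp_i L127545) (flp_c L127528) L135784
theorem L135789 : sm gg N11588 = N10635 := ded_43_1 (flp_i L127537) (flp_g L127530) L135784
theorem L135791 : sm gh N11588 = N10647 := ded_44_1 (flp_i L127638) (flp_h L74200) (flp_i L73715) L127525 L135784
theorem L135793 : sm gc N10634 = N11589 := rfl
theorem L135795 : sm ga N11589 = N11589 := ded_10_1 (flp_c L135793) L127534 L135793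
theorem L135796 : sm gf N11589 = N11589 := ded_26_2 (flp_c L135793) L127535 L135793
theorem L135797 : sm gg N11589 = N10815 := ded_27_2 (flp_c L135781) L135779 L135793
theorem L135799 : sm gh N11589 = N11589 := ded_28_2 (flp_c L135793) L127536 L135793
theorem L135800 : sm gb N11589 = N10821 := ded_17_1 L128964 (flp_b L129353) (flp_c L135276) L135271 L135793
theorem L135802 : sm gd N11589 = N10637 := ded_24_2 (flp_c L127554) (flp_d L73740) (flp_c L73720) L127532 L135793
theorem L135804 : sm ge N10634 = N11590 := rfl
theorem L135806 : sm ga N11590 = N11590 := ded_12_1 (flp_e L135804) L127534 L135804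
theorem L135807 : sm gh N11590 = N11590 := ded_37_2 (flp_e L135804) L127536 L135804
theorem L135808 : sm gi N10634 = N11591 := rfl
theorem L135810 : sm ga N11591 = N11591 := ded_16_1 (flp_i L135808) L127534 L135808
theorem L135811 : sm gd N11591 = N10635 := ded_34_1 (flp_i L127537) L127532 L135808
theorem L135813 : sm gf N11591 = N11591 := ded_41_1 (flp_i L135808) L127535 L135808
theorem L135814 : sm gi N10637 = N11592 := rfl
theorem L135816 : sm ga N11592 = N11592 := ded_16_1 (flp_i L135814) L127556 L135814
theorem L135817 : sm gb N11592 = N10822 := ded_23_1 (flp_i L128969) (flp_b L127562) L135814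
theorem L135819 : sm gc N11592 = N10639 := ded_29_1 (flp_i L127571) L127554 L135814
theorem L135821 : sm ge N11592 = N11447 := ded_38_1 L134554 (flp_e L127924) L135814
theorem L135823 : sm gf N11592 = N11592 := ded_41_1 (flp_i L135814) L127557 L135814
theorem L135824 : sm gg N11592 = N10816 := ded_43_1 (flp_i L128912) (flp_g L127558) L135814
theorem L135826 : sm gh N11592 = N11592 := ded_44_1 (flp_i L135814) L127560 L73780 (flp_h L127560) L135814
theorem L135827 : sm gi N10638 = N11593 := rfl
theorem L135829 : sm ga N11593 = N11593 := ded_16_1 (flp_i L135827) L127566 L135827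
theorem L135830 : sm gb N11593 = N10642 := ded_23_1 (flp_i L127600) (flp_b L127567) L135827
theorem L135832 : sm gc N11593 = N11447 := ded_29_1 L134554 L127922 L135827
theorem L135834 : sm ge N11593 = N10639 := ded_38_1 (flp_i L127571) L127564 L135827
theorem L135836 : sm gf N11593 = N11448 := ded_41_1 L134563 L127930 L135827
theorem L135838 : sm gh N11593 = N11593 := ded_44_1 (flp_i L135827) L127569 L73787 (flp_h L127569) L135827
theorem L135839 : sm gi N10641 = N11594 := rfl
theorem L135841 : sm ga N11594 = N10643 := ded_16_1 (flp_i L127607) (flp_a L127592) L135839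
theorem L135843 : sm gb N11594 = N11448 := ded_23_1 L134563 L127937 L135839
theorem L135845 : sm gc N11594 = N11466 := ded_29_1 L134729 L127995 L135839
theorem L135847 : sm gd N11594 = N10652 := ded_34_1 (flp_i L127674) (flp_d L127594) L135839
theorem L135849 : sm ge N11594 = N11594 := ded_38_1 (flp_i L135839) L127598 L135839
theorem L135850 : sm gf N11594 = N10642 := ded_41_1 (flp_i L127600) L127590 L135839
theorem L135852 : sm gg N11594 = N11594 := ded_43_1 (flp_i L135839) L127599 L135839
theorem L135853 : sm gh N11594 = N11594 := ded_44_1 (flp_i L135839) L127596 L73948 (flp_h L127596) L135839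
theorem L135854 : sm gi N10645 = N11595 := rfl
theorem L135856 : sm ga N11595 = N11595 := ded_16_1 (flp_i L135854) L127625 L135854
theorem L135857 : sm gc N11595 = N10651 := ded_29_1 (flp_i L127665) (flp_c L127626) L135854
theorem L135859 : sm gd N11595 = N11445 := ded_34_1 L134535 L127901 L135854
theorem L135861 : sm ge N11595 = N11444 := ded_38_1 L134528 (flp_e L127893) L135854
theorem L135863 : sm gf N11595 = N10647 := ded_41_1 (flp_i L127638) (flp_f L127628) L135854
theorem L135865 : sm gg N11595 = N11595 := ded_43_1 (flp_i L135854) L127630 L135854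
theorem L135866 : sm ge N10646 = N11596 := rfl
theorem L135868 : sm ga N11596 = N11596 := ded_12_1 (flp_e L135866) L127633 L135866
theorem L135869 : sm gc N11596 = N11596 := ded_25_1 (flp_e L135866) L127636 L135866
theorem L135870 : sm gg N11596 = N10648 := ded_36_2 (flp_e L127645) (flp_g L127634) L135866
theorem L135872 : sm gh N11596 = N11596 := ded_37_2 (flp_e L135866) L127637 L135866
theorem L135873 : sm gi N10646 = N11597 := rfl
theorem L135875 : sm ga N11597 = N11597 := ded_16_1 (flp_i L135873) L127633 L135873
theorem L135876 : sm gc N11597 = N11597 := ded_29_1 (flp_i L135873) L127636 L135873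
theorem L135877 : sm gd N11597 = N10647 := ded_34_1 (flp_i L127638) L127631 L135873
theorem L135879 : sm gf N11597 = N11445 := ded_41_1 L134535 (flp_f L127903) L135873
theorem L135881 : sm gg N11597 = N10649 := ded_43_1 (flp_i L127650) (flp_g L127634) L135873
theorem L135883 : sm gf N10648 = N11598 := rfl
theorem L135885 : sm ga N11598 = N11598 := ded_13_1 (flp_f L135883) L127647 L135883
theorem L135886 : sm gc N11598 = N11598 := ded_26_1 (flp_f L135883) L127648 L135883
theorem L135887 : sm gh N11598 = N11598 := ded_40_2 (flp_f L135883) L127649 L135883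
theorem L135888 : sm ge N11598 = N11598 := ded_35_1 (flp_f L135883) (flp_e L127645) L74210 L127645 L135883
theorem L135889 : sm gi N10648 = N11599 := rfl
theorem L135891 : sm ga N11599 = N11599 := ded_16_1 (flp_i L135889) L127647 L135889
theorem L135892 : sm gc N11599 = N11599 := ded_29_1 (flp_i L135889) L127648 L135889
theorem L135893 : sm ge N11599 = N10649 := ded_38_1 (flp_i L127650) L127645 L135889
theorem L135895 : sm gh N10649 = N11600 := rfl
theorem L135897 : sm ga N11600 = N11600 := ded_15_1 (flp_h L135895) L127652 L135895
theorem L135898 : sm gc N11600 = N11600 := ded_28_1 (flp_h L135895) L127653 L135895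
theorem L135899 : sm gf N11600 = N11600 := ded_40_1 (flp_h L135895) L127656 L135895
theorem L135900 : sm gi N11600 = N11600 := ded_44_2 (flp_h L135895) (flp_i L127650) L74212 L127650 L135895
theorem L135901 : sm gi N10650 = N11601 := rfl
theorem L135903 : sm ga N11601 = N11601 := ded_16_1 (flp_i L135901) L127659 L135901
theorem L135904 : sm gb N11601 = N10652 := ded_23_1 (flp_i L127674) (flp_b L127660) L135901
theorem L135906 : sm gc N11601 = N11444 := ded_29_1 L134528 L127891 L135901
theorem L135908 : sm gd N11601 = N11448 := ded_34_1 L134563 L127935 L135901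
theorem L135910 : sm ge N11601 = N10651 := ded_38_1 (flp_i L127665) (flp_e L127662) L135901
theorem L135912 : sm gg N11601 = N11601 := ded_43_1 (flp_i L135901) L127664 L135901
theorem L135913 : sm gf N10653 = N11602 := rfl
theorem L135915 : sm ga N11602 = N11602 := ded_13_1 (flp_f L135913) L127683 L135913
theorem L135916 : sm gc N11602 = N11602 := ded_26_1 (flp_f L135913) L127686 L135913
theorem L135917 : sm gd N11602 = N10654 := ded_31_1 (flp_f L127688) L127681 L135913
theorem L135919 : sm gh N10653 = N11603 := rfl
theorem L135921 : sm ga N11603 = N11603 := ded_15_1 (flp_h L135919) L127683 L135919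
theorem L135922 : sm gc N11603 = N11603 := ded_28_1 (flp_h L135919) L127686 L135919
theorem L135923 : sm ge N11603 = N11603 := ded_37_1 (flp_h L135919) L127687 L135919
theorem L135924 : sm gg N11603 = N10661 := ded_42_1 (flp_h L127744) (flp_g L127684) L135919
theorem L135926 : sm gi N10653 = N11604 := rfl
theorem L135928 : sm ga N11604 = N11604 := ded_16_1 (flp_i L135926) L127683 L135926
theorem L135929 : sm gc N11604 = N11604 := ded_29_1 (flp_i L135926) L127686 L135926
theorem L135930 : sm gd N11604 = N10655 := ded_34_1 (flp_i L127694) L127681 L135926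
theorem L135932 : sm ge N11604 = N11604 := ded_38_1 (flp_i L135926) L127687 L135926
theorem L135933 : sm gg N11604 = N10662 := ded_43_1 (flp_i L127749) (flp_g L127684) L135926
theorem L135935 : sm gg N10654 = N11605 := rfl
theorem L135937 : sm ga N11605 = N11605 := ded_14_1 (flp_g L135935) L127690 L135935
theorem L135938 : sm gc N11605 = N10657 := ded_27_1 (flp_g L127711) (flp_c L127691) L135935
theorem L135940 : sm ge N11605 = N11605 := ded_36_1 (flp_g L135935) L127693 L135935
theorem L135941 : sm gf N11605 = N10663 := ded_39_1 (flp_g L127756) (flp_f L74319) (flp_g L74277) L127688 L135935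
theorem L135943 : sm gi N10654 = N11606 := rfl
theorem L135945 : sm ga N11606 = N11606 := ded_16_1 (flp_i L135943) L127690 L135943
theorem L135946 : sm gc N11606 = N10658 := ded_29_1 (flp_i L127720) (flp_c L127691) L135943
theorem L135948 : sm ge N11606 = N11606 := ded_38_1 (flp_i L135943) L127693 L135943
theorem L135949 : sm gf N11606 = N10655 := ded_41_1 (flp_i L127694) L127688 L135943
theorem L135951 : sm gh N10655 = N11607 := rfl
theorem L135953 : sm ga N11607 = N11607 := ded_15_1 (flp_h L135951) L127696 L135951
theorem L135954 : sm gc N11607 = N10659 := ded_28_1 (flp_h L127729) (flp_c L127697) L135951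
theorem L135956 : sm ge N11607 = N10656 := ded_37_1 (flp_h L127703) (flp_e L127699) L135951
theorem L135958 : sm gg N11607 = N10665 := ded_42_1 (flp_h L127772) (flp_g L127701) L135951
theorem L135960 : sm gd N10656 = N11608 := rfl
theorem L135962 : sm ga N11608 = N11608 := ded_11_1 (flp_d L135960) L127705 L135960
theorem L135963 : sm gf N11608 = N11608 := ded_31_2 (flp_d L135960) L127708 L135960
theorem L135964 : sm gg N11608 = N10666 := ded_32_2 (flp_d L127779) (flp_g L127709) L135960
theorem L135966 : sm gc N11608 = N11608 := ded_24_1 (flp_d L135960) L127706 L74313 (flp_c L127706) L135960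
theorem L135967 : sm gh N11608 = N11608 := ded_33_2 (flp_d L135960) (flp_h L127703) L74284 L127703 L135960
theorem L135968 : sm gi N10657 = N11609 := rfl
theorem L135970 : sm ga N11609 = N11609 := ded_16_1 (flp_i L135968) L127713 L135968
theorem L135971 : sm gb N11609 = N10683 := ded_23_1 (flp_i L127939) (flp_b L127714) L135968
theorem L135973 : sm gd N11609 = N11609 := ded_34_1 (flp_i L135968) L127716 L135968
theorem L135974 : sm ge N11609 = N11609 := ded_38_1 (flp_i L135968) L127717 L135968
theorem L135975 : sm gf N11609 = N10667 := ded_41_1 (flp_i L127786) (flp_f L127718) L135968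
theorem L135977 : sm gg N11609 = N10658 := ded_43_1 (flp_i L127720) L127711 L135968
theorem L135979 : sm gh N10658 = N11610 := rfl
theorem L135981 : sm ga N11610 = N11610 := ded_15_1 (flp_h L135979) L127722 L135979
theorem L135982 : sm gb N11610 = N10684 := ded_22_1 (flp_h L127949) (flp_b L127723) L135979
theorem L135984 : sm ge N11610 = N11610 := ded_37_1 (flp_h L135979) L127726 L135979
theorem L135985 : sm gf N11610 = N10659 := ded_40_1 (flp_h L127729) (flp_f L127727) L135979
theorem L135987 : sm gd N10659 = N11611 := rfl
theorem L135989 : sm ga N11611 = N11611 := ded_11_1 (flp_d L135987) L127731 L135987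
theorem L135990 : sm gb N11611 = N10685 := ded_18_1 (flp_d L127956) (flp_b L127732) L135987
theorem L135992 : sm gg N11611 = N10669 := ded_32_2 (flp_d L127805) (flp_g L127736) L135987
theorem L135994 : sm ge N11611 = N11611 := ded_30_2 (flp_d L135987) L127734 L74313 (flp_e L127734) L135987
theorem L135995 : sm gh N11611 = N11611 := ded_33_2 (flp_d L135987) (flp_h L127729) L74300 L127729 L135987
theorem L135996 : sm ge N10660 = N11612 := rfl
theorem L135998 : sm ga N11612 = N11612 := ded_12_1 (flp_e L135996) L127740 L135996
theorem L135999 : sm gc N11612 = N11612 := ded_25_1 (flp_e L135996) L127741 L135996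
theorem L136000 : sm gd N11612 = N10670 := ded_30_1 (flp_e L127812) L74370 (flp_e L74324) (flp_d L127742) L135996
theorem L136002 : sm gf N11612 = N11612 := ded_35_2 (flp_e L135996) (flp_f L127738) L74318 L127738 L135996
theorem L136003 : sm gg N11438 = N11612 := ded_32_0 L136000 L127837 (flp_d L134485)
theorem L136005 : sm gh N11437 = N11612 := ded_33_0 L136000 (flp_h L127839) L127823 (flp_h L126268) (flp_d L134476)
theorem L136007 : sm gg N10660 = N11613 := rfl
theorem L136009 : sm ga N11613 = N11613 := ded_14_1 (flp_g L136007) L127740 L136007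
theorem L136010 : sm gc N11613 = N11613 := ded_27_1 (flp_g L136007) L127741 L136007
theorem L136011 : sm gd N11613 = N10663 := ded_32_1 (flp_g L127756) (flp_d L127742) L136007
theorem L136013 : sm ge N11613 = N11438 := ded_36_1 L136003 (flp_e L135996) L136007
theorem L136015 : sm gh N11436 = N11613 := ded_37_0 L136013 (flp_h L134479) L134468
theorem L136017 : sm gh N10660 = N11614 := rfl
theorem L136019 : sm ga N11614 = N11614 := ded_15_1 (flp_h L136017) L127740 L136017
theorem L136020 : sm gc N11614 = N11614 := ded_28_1 (flp_h L136017) L127741 L136017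
theorem L136021 : sm ge N11614 = N11437 := ded_37_1 L136005 (flp_e L135996) L136017
theorem L136023 : sm gf N11614 = N10661 := ded_40_1 (flp_h L127744) L127738 L136017
theorem L136025 : sm gg N11614 = N11436 := ded_42_1 L136015 (flp_g L136007) L136017
theorem L136027 : sm gi N10660 = N11615 := rfl
theorem L136029 : sm ga N11615 = N11615 := ded_16_1 (flp_i L136027) L127740 L136027
theorem L136030 : sm gc N11615 = N11615 := ded_29_1 (flp_i L136027) L127741 L136027
theorem L136031 : sm gd N11615 = N10664 := ded_34_1 (flp_i L127763) (flp_d L127742) L136027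
theorem L136033 : sm gf N11615 = N10662 := ded_41_1 (flp_i L127749) L127738 L136027
theorem L136035 : sm gi N10661 = N11616 := rfl
theorem L136037 : sm ga N11616 = N11616 := ded_16_1 (flp_i L136035) L127746 L136035
theorem L136038 : sm gc N11616 = N11616 := ded_29_1 (flp_i L136035) L127747 L136035
theorem L136039 : sm ge N11616 = N11616 := ded_38_1 (flp_i L136035) L127748 L136035
theorem L136040 : sm gh N10662 = N11617 := rfl
theorem L136042 : sm ga N11617 = N11617 := ded_15_1 (flp_h L136040) L127751 L136040
theorem L136043 : sm gc N11617 = N11617 := ded_28_1 (flp_h L136040) L127752 L136040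
theorem L136044 : sm ge N11617 = N11617 := ded_37_1 (flp_h L136040) L127755 L136040
theorem L136045 : sm gi N10663 = N11618 := rfl
theorem L136047 : sm ga N11618 = N11618 := ded_16_1 (flp_i L136045) L127758 L136045
theorem L136048 : sm gc N11618 = N10667 := ded_29_1 (flp_i L127786) (flp_c L127759) L136045
theorem L136050 : sm ge N11618 = N10676 := ded_38_1 (flp_i L127870) (flp_e L127761) L136045
theorem L136052 : sm gg N11618 = N10664 := ded_43_1 (flp_i L127763) L127756 L136045
theorem L136054 : sm gh N10664 = N11619 := rfl
theorem L136056 : sm ga N11619 = N11619 := ded_15_1 (flp_h L136054) L127765 L136054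
theorem L136057 : sm gc N11619 = N10668 := ded_28_1 (flp_h L127796) (flp_c L127766) L136054
theorem L136059 : sm ge N11619 = N10677 := ded_37_1 (flp_h L127878) (flp_e L127768) L136054
theorem L136061 : sm gf N11619 = N10665 := ded_40_1 (flp_h L127772) (flp_f L127770) L136054
theorem L136063 : sm gd N10665 = N11620 := rfl
theorem L136065 : sm ga N11620 = N11620 := ded_11_1 (flp_d L136063) L127774 L136063
theorem L136066 : sm ge N10666 = N11621 := rfl
theorem L136068 : sm ga N11621 = N11621 := ded_12_1 (flp_e L136066) L127781 L136066
theorem L136069 : sm gc N11621 = N11621 := ded_25_1 (flp_e L136066) L127784 L136066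
theorem L136070 : sm gh N11621 = N11621 := ded_37_2 (flp_e L136066) L127785 L136066
theorem L136071 : sm gf N11621 = N11596 := ded_35_2 (flp_e L135866) L127903 (flp_e L127895) (flp_f L127782) L136066
theorem L136073 : sm gh N10667 = N11622 := rfl
theorem L136075 : sm ga N11622 = N11622 := ded_15_1 (flp_h L136073) L127788 L136073
theorem L136076 : sm gb N11622 = N10686 := ded_22_1 (flp_h L127964) (flp_b L127789) L136073
theorem L136078 : sm ge N11622 = N10680 := ded_37_1 (flp_h L127905) (flp_e L127792) L136073
theorem L136080 : sm gg N11622 = N10668 := ded_42_1 (flp_h L127796) (flp_g L127794) L136073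
theorem L136082 : sm gd N10668 = N11623 := rfl
theorem L136084 : sm ga N11623 = N11623 := ded_11_1 (flp_d L136082) L127798 L136082
theorem L136085 : sm gb N11623 = N10687 := ded_18_1 (flp_d L127972) (flp_b L127799) L136082
theorem L136087 : sm gf N11623 = N10669 := ded_31_2 (flp_d L127805) (flp_f L127803) L136082
theorem L136089 : sm ge N11623 = N11589 := ded_30_2 L135802 L127924 (flp_d L127913) (flp_e L127801) L136082
theorem L136091 : sm gh N11623 = N11623 := ded_33_2 (flp_d L136082) (flp_h L127796) L74353 L127796 L136082
theorem L136092 : sm gc N11590 = N11623 := ded_25_3 L136089 (flp_c L135793) L135804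
theorem L136094 : sm gc N10669 = N11624 := rfl
theorem L136096 : sm ga N11624 = N11624 := ded_10_1 (flp_c L136094) L127807 L136094
theorem L136097 : sm ge N11624 = N11624 := ded_25_2 (flp_c L136094) L127810 L136094
theorem L136098 : sm gf N11624 = N11590 := ded_26_2 L136092 L136087 L136094
theorem L136100 : sm gh N11624 = N11624 := ded_28_2 (flp_c L136094) L127811 L136094
theorem L136101 : sm gi N10670 = N11625 := rfl
theorem L136103 : sm ga N11625 = N11625 := ded_16_1 (flp_i L136101) L127814 L136101
theorem L136104 : sm gc N11625 = N10693 := ded_29_1 (flp_i L128017) (flp_c L127815) L136101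
theorem L136106 : sm ge N11625 = N10673 := ded_38_1 (flp_i L127845) L127812 L136101
theorem L136108 : sm gf N11625 = N11625 := ded_41_1 (flp_i L136101) L127817 L136101
theorem L136109 : sm gi N10671 = N11626 := rfl
theorem L136111 : sm ga N11626 = N11626 := ded_16_1 (flp_i L136109) L127820 L136109
theorem L136112 : sm gc N11626 = N10694 := ded_29_1 (flp_i L128025) (flp_c L127821) L136109
theorem L136114 : sm gd N11626 = N10676 := ded_34_1 (flp_i L127870) (flp_d L127823) L136109
theorem L136116 : sm gf N11626 = N11626 := ded_41_1 (flp_i L136109) L127825 L136109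
theorem L136117 : sm gg N11626 = N10673 := ded_43_1 (flp_i L127845) L127818 L136109
theorem L136119 : sm gi N10672 = N11627 := rfl
theorem L136121 : sm ga N11627 = N11627 := ded_16_1 (flp_i L136119) L127828 L136119
theorem L136122 : sm gc N11627 = N10695 := ded_29_1 (flp_i L128034) (flp_c L127829) L136119
theorem L136124 : sm ge N11627 = N11626 := ded_38_1 (flp_i L136109) (flp_e L127833) L136119
theorem L136126 : sm gf N11627 = N10674 := ded_41_1 (flp_i L127854) (flp_f L127831) L136119
theorem L136128 : sm gg N11627 = N11625 := ded_43_1 (flp_i L136101) L127837 L136119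
theorem L136130 : sm gh N10673 = N11628 := rfl
theorem L136132 : sm ga N11628 = N11628 := ded_15_1 (flp_h L136130) L127847 L136130
theorem L136133 : sm gc N11628 = N10696 := ded_28_1 (flp_h L128045) (flp_c L127848) L136130
theorem L136135 : sm gf N11628 = N10675 := ded_40_1 (flp_h L127861) (flp_f L127852) L136130
theorem L136137 : sm gd N11396 = N11628 := ded_24_0 L136133 L128051 L125940 (flp_d L125932) (flp_c L134127)
theorem L136139 : sm gh N10674 = N11629 := rfl
theorem L136141 : sm ga N11629 = N11629 := ded_15_1 (flp_h L136139) L127856 L136139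
theorem L136142 : sm gb N11629 = N11483 := ded_22_1 L135629 L135624 L136139
theorem L136144 : sm gc N11629 = N10697 := ded_28_1 (flp_h L128053) (flp_c L127857) L136139
theorem L136146 : sm ge N11629 = N11629 := ded_37_1 (flp_h L136139) L127859 L136139
theorem L136147 : sm gg N11629 = N11629 := ded_42_1 (flp_h L136139) L127860 L136139
theorem L136148 : sm gi N11629 = N10675 := ded_44_2 (flp_h L127861) (flp_i L74379) L74372 L127854 L136139
theorem L136150 : sm gd N11482 = N11629 := ded_18_0 L136142 (flp_d L134870) (flp_b L134863)
theorem L136152 : sm gh N10676 = N11630 := rfl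
theorem L136154 : sm ga N11630 = N11630 := ded_15_1 (flp_h L136152) L127872 L136152
theorem L136155 : sm gc N11630 = N10680 := ded_28_1 (flp_h L127905) (flp_c L127873) L136152
theorem L136157 : sm gf N11630 = N11630 := ded_40_1 (flp_h L136152) L127875 L136152
theorem L136158 : sm gg N11630 = N10677 := ded_42_1 (flp_h L127878) (flp_g L127876) L136152
theorem L136160 : sm gd N10677 = N11631 := rfl
theorem L136162 : sm ga N11631 = N11631 := ded_11_1 (flp_d L136160) L127880 L136160
theorem L136163 : sm gf N11631 = N10678 := ded_31_2 (flp_d L127885) (flp_f L127883) L136160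
theorem L136165 : sm gc N11631 = N11394 := ded_24_1 L134111 (flp_c L127922) (flp_d L127913) (flp_c L127881) L136160
theorem L136167 : sm gh N11631 = N11396 := ded_33_2 L136137 (flp_h L136130) L127850 L127878 L136160
theorem L136169 : sm ge N11393 = N11631 := ded_46_2 (flp_d L136160) L127881 L74428 L54469 (flp_h L39988) L29323 L21583 L15868 L11695 L8616 L6401 L6406 (flp_f L8635) L8634 (flp_d L11449) (flp_c L15319) (flp_b L20823) (flp_a L28296) (flp_h L117434) (flp_f L119904) L28097 L119901 (flp_c L29157) (flp_b L39759) L39758 L39762 (flp_f L39756) L29138 (flp_d L27100) L112071 L27107 L19924 (flp_h L14661) (flp_f L10780) (flp_e L10331) L10338 (flp_c L10329) L7625 (flp_a L5845) L7890 (flp_f L10733) (flp_e L14571) (flp_d L108921) (flp_c L26383) (flp_b L35977) (flp_a L48954) L66978 L66983 L48962 L35902 (flp_c L48914) (flp_b L66826) L66824 (flp_h L49579) L36317 (flp_e L49571) (flp_d L67811) (flp_c L125212) L125210 L69184 L125983 (flp_f L134100)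
theorem L136171 : sm gh N10683 = N11632 := rfl
theorem L136173 : sm ga N11632 = N10690 := ded_15_1 (flp_h L127997) (flp_a L127941) L136171
theorem L136175 : sm ge N11632 = N11632 := ded_37_1 (flp_h L136171) L127944 L136171
theorem L136176 : sm gf N11632 = N10686 := ded_40_1 (flp_h L127964) (flp_f L127945) L136171
theorem L136178 : sm gg N11632 = N10684 := ded_42_1 (flp_h L127949) (flp_g L127947) L136171
theorem L136180 : sm gd N10684 = N11633 := rfl
theorem L136182 : sm ga N11633 = N10691 := ded_11_1 (flp_d L128005) (flp_a L127951) L136180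
theorem L136184 : sm gf N11633 = N10685 := ded_31_2 (flp_d L127956) (flp_f L127954) L136180
theorem L136186 : sm gh N11633 = N11633 := ded_33_2 (flp_d L136180) (flp_h L127949) L74453 L127949 L136180
theorem L136187 : sm gc N10685 = N11634 := rfl
theorem L136189 : sm ga N11634 = N10692 := ded_10_1 (flp_c L128011) (flp_a L127958) L136187
theorem L136191 : sm ge N11634 = N11634 := ded_25_2 (flp_c L136187) L127962 L136187
theorem L136192 : sm gg N11634 = N10688 := ded_27_2 (flp_c L127979) (flp_g L127960) L136187
theorem L136194 : sm gh N11634 = N11634 := ded_28_2 (flp_c L136187) L127963 L136187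
theorem L136195 : sm gb N10688 = N11635 := rfl
theorem L136197 : sm ge N11635 = N11635 := ded_19_2 (flp_b L136195) L127983 L136195
theorem L136198 : sm gh N11635 = N11635 := ded_22_2 (flp_b L136195) L127984 L136195
theorem L136199 : sm gh N10694 = N11636 := rfl
theorem L136201 : sm ga N11636 = N11636 := ded_15_1 (flp_h L136199) L128027 L136199
theorem L136202 : sm gb N11636 = N11636 := ded_22_1 (flp_h L136199) L128028 L136199
theorem L136203 : sm gf N11636 = N11636 := ded_40_1 (flp_h L136199) L128031 L136199
theorem L136204 : sm gg N11636 = N10696 := ded_42_1 (flp_h L128045) (flp_g L128032) L136199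
theorem L136206 : sm gd N11636 = N11052 := ded_33_1 (flp_h L131061) L128072 (flp_h L128061) (flp_d L128029) L136199
theorem L136208 : sm gi N11636 = N11051 := ded_44_2 (flp_h L131048) (flp_i L128017) L127843 L128025 L136199
theorem L136210 : sm gh N10695 = N11637 := rfl
theorem L136212 : sm ga N11637 = N11637 := ded_15_1 (flp_h L136210) L128036 L136210
theorem L136213 : sm gb N11637 = N11637 := ded_22_1 (flp_h L136210) L128037 L136210
theorem L136214 : sm ge N11637 = N11636 := ded_37_1 (flp_h L136199) (flp_e L128039) L136210
theorem L136216 : sm gf N11637 = N10697 := ded_40_1 (flp_h L128053) (flp_f L128041) L136210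
theorem L136218 : sm gg N11637 = N11051 := ded_42_1 (flp_h L131048) (flp_g L128043) L136210
theorem L136220 : sm gi N11637 = N10696 := ded_44_2 (flp_h L128045) (flp_i L74597) L74590 L128034 L136210
theorem L136222 : sm gd N11050 = N11637 := ded_30_5 L136214 L136206 L131056 L123281 L131028
theorem L136224 : sm gh N10700 = N11638 := rfl
theorem L136226 : sm ga N11638 = N10741 := ded_15_1 (flp_h L128384) (flp_a L128088) L136224
theorem L136228 : sm gb N11638 = N11638 := ded_22_1 (flp_h L136224) L128091 L136224
theorem L136229 : sm gc N11638 = N10701 := ded_28_1 (flp_h L128094) L128086 L136224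
theorem L136231 : sm ge N11638 = N11638 := ded_37_1 (flp_h L136224) L128090 L136224
theorem L136232 : sm gd N10701 = N11639 := rfl
theorem L136234 : sm ga N11639 = N10742 := ded_11_1 (flp_d L128391) (flp_a L128096) L136232
theorem L136236 : sm gb N11639 = N10712 := ded_18_1 (flp_d L128187) (flp_b L128098) L136232
theorem L136238 : sm gh N11639 = N10702 := ded_33_2 (flp_d L128101) (flp_h L121110) L121103 L128094 L136232
theorem L136240 : sm gi N10701 = N11640 := rfl
theorem L136242 : sm ga N11640 = N10743 := ded_16_1 (flp_i L128397) (flp_a L128096) L136240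
theorem L136244 : sm gb N11640 = N10713 := ded_23_1 (flp_i L128193) (flp_b L128098) L136240
theorem L136246 : sm ge N11640 = N11640 := ded_38_1 (flp_i L136240) L128100 L136240
theorem L136247 : sm gc N10702 = N11641 := rfl
theorem L136249 : sm ga N11641 = N10744 := ded_10_1 (flp_c L128402) (flp_a L128103) L136247
theorem L136251 : sm gd N11641 = N11149 := ded_24_2 (flp_c L132073) (flp_d L124272) (flp_c L121116) L128101 L136247
theorem L136253 : sm ge N10702 = N11642 := rfl
theorem L136255 : sm ga N11642 = N10745 := ded_12_1 (flp_e L128406) (flp_a L128103) L136253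
theorem L136257 : sm gb N11642 = N10715 := ded_19_1 (flp_e L128205) (flp_b L128105) L136253
theorem L136259 : sm gd N11642 = N10705 := ded_30_1 (flp_e L128127) (flp_d L121120) (flp_e L121118) L128101 L136253
theorem L136261 : sm gi N10702 = N11643 := rfl
theorem L136263 : sm ga N11643 = N10746 := ded_16_1 (flp_i L128412) (flp_a L128103) L136261
theorem L136265 : sm gb N11643 = N10716 := ded_23_1 (flp_i L128211) (flp_b L128105) L136261
theorem L136267 : sm gd N11643 = N10703 := ded_34_1 (flp_i L128107) L128101 L136261
theorem L136269 : sm ge N10704 = N11644 := rfl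
theorem L136271 : sm ga N11644 = N10747 := ded_12_1 (flp_e L128418) (flp_a L128119) L136269
theorem L136273 : sm gb N11644 = N11644 := ded_19_1 (flp_e L136269) L128124 L136269
theorem L136274 : sm gc N11644 = N10705 := ded_25_1 (flp_e L128127) L128117 L136269
theorem L136276 : sm gh N11644 = N11644 := ded_37_2 (flp_e L136269) L128123 L136269
theorem L136277 : sm gi N10704 = N11645 := rfl
theorem L136279 : sm ga N11645 = N10748 := ded_16_1 (flp_i L128425) (flp_a L128119) L136277
theorem L136281 : sm gb N11645 = N11645 := ded_23_1 (flp_i L136277) L128124 L136277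
theorem L136282 : sm gc N11645 = N10706 := ded_29_1 (flp_i L128134) L128117 L136277
theorem L136284 : sm gd N11645 = N11156 := ded_34_1 (flp_i L132135) (flp_d L128125) L136277
theorem L136286 : sm gf N11645 = N10708 := ded_41_1 (flp_i L128153) (flp_f L128121) L136277
theorem L136288 : sm gf N10705 = N11646 := rfl
theorem L136290 : sm ga N11646 = N10749 := ded_13_1 (flp_f L128435) (flp_a L128129) L136288
theorem L136292 : sm gb N11646 = N10717 := ded_20_1 (flp_f L128217) (flp_b L128131) L136288
theorem L136294 : sm gh N11646 = N11646 := ded_40_2 (flp_f L136288) L128133 L136288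
theorem L136295 : sm ge N11646 = N10709 := ded_35_1 (flp_f L128163) (flp_e L121148) (flp_f L121126) L128127 L136288
theorem L136297 : sm gi N10705 = N11647 := rfl
theorem L136299 : sm ga N11647 = N10750 := ded_16_1 (flp_i L128442) (flp_a L128129) L136297
theorem L136301 : sm gb N11647 = N10718 := ded_23_1 (flp_i L128225) (flp_b L128131) L136297
theorem L136303 : sm ge N11647 = N10706 := ded_38_1 (flp_i L128134) L128127 L136297
theorem L136305 : sm gh N10706 = N11648 := rfl
theorem L136307 : sm ga N11648 = N10751 := ded_15_1 (flp_h L128448) (flp_a L128136) L136305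
theorem L136309 : sm gb N11648 = N10719 := ded_22_1 (flp_h L128232) (flp_b L128138) L136305
theorem L136311 : sm gf N11648 = N10711 := ded_40_1 (flp_h L128179) (flp_f L128142) L136305
theorem L136313 : sm gi N11648 = N11648 := ded_44_2 (flp_h L136305) (flp_i L128134) L121128 L128134 L136305
theorem L136314 : sm gd N10707 = N11649 := rfl
theorem L136316 : sm ga N11649 = N10752 := ded_11_1 (flp_d L128455) (flp_a L128146) L136314
theorem L136318 : sm gb N11649 = N11649 := ded_18_1 (flp_d L136314) L128148 L136314
theorem L136319 : sm gg N11649 = N11649 := ded_32_2 (flp_d L136314) L128151 L136314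
theorem L136320 : sm ge N11649 = N11160 := ded_30_2 (flp_d L132176) (flp_e L124333) (flp_d L121146) L128144 L136314
theorem L136322 : sm gf N10707 = N11650 := rfl
theorem L136324 : sm ga N11650 = N10753 := ded_13_1 (flp_f L128462) (flp_a L128146) L136322
theorem L136326 : sm gb N11650 = N11650 := ded_20_1 (flp_f L136322) L128148 L136322
theorem L136327 : sm gc N11650 = N10709 := ded_26_1 (flp_f L128163) (flp_c L128149) L136322
theorem L136329 : sm gh N11650 = N11650 := ded_40_2 (flp_f L136322) L128152 L136322
theorem L136330 : sm gi N10707 = N11651 := rfl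
theorem L136332 : sm ga N11651 = N10754 := ded_16_1 (flp_i L128469) (flp_a L128146) L136330
theorem L136334 : sm gb N11651 = N11651 := ded_23_1 (flp_i L136330) L128148 L136330
theorem L136335 : sm gc N11651 = N10710 := ded_29_1 (flp_i L128170) (flp_c L128149) L136330
theorem L136337 : sm ge N11651 = N10708 := ded_38_1 (flp_i L128153) L128144 L136330
theorem L136339 : sm gg N11651 = N11651 := ded_43_1 (flp_i L136330) L128151 L136330
theorem L136340 : sm gh N10708 = N11652 := rfl
theorem L136342 : sm ga N11652 = N10755 := ded_15_1 (flp_h L128478) (flp_a L128155) L136340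
theorem L136344 : sm gb N11652 = N11652 := ded_22_1 (flp_h L136340) L128157 L136340
theorem L136345 : sm gc N11652 = N10711 := ded_28_1 (flp_h L128179) (flp_c L128158) L136340
theorem L136347 : sm gg N11652 = N11652 := ded_42_1 (flp_h L136340) L128162 L136340
theorem L136348 : sm gi N11652 = N11652 := ded_44_2 (flp_h L136340) (flp_i L128153) L121144 L128153 L136340
theorem L136349 : sm gg N10709 = N11653 := rfl
theorem L136351 : sm ga N11653 = N10756 := ded_14_1 (flp_g L128486) (flp_a L128165) L136349
theorem L136353 : sm gb N11653 = N10720 := ded_21_1 (flp_g L128240) (flp_b L128167) L136349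
theorem L136355 : sm gh N11653 = N11653 := ded_42_2 (flp_g L136349) L128169 L136349
theorem L136356 : sm gf N11653 = N11653 := ded_39_1 (flp_g L136349) (flp_f L128163) L121154 L128163 L136349
theorem L136357 : sm gi N10709 = N11654 := rfl
theorem L136359 : sm ga N11654 = N10757 := ded_16_1 (flp_i L128492) (flp_a L128165) L136357
theorem L136361 : sm gb N11654 = N10721 := ded_23_1 (flp_i L128247) (flp_b L128167) L136357
theorem L136363 : sm gf N11654 = N10710 := ded_41_1 (flp_i L128170) L128163 L136357
theorem L136365 : sm gh N10710 = N11655 := rfl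
theorem L136367 : sm ga N11655 = N10758 := ded_15_1 (flp_h L128498) (flp_a L128172) L136365
theorem L136369 : sm gb N11655 = N10722 := ded_22_1 (flp_h L128254) (flp_b L128174) L136365
theorem L136371 : sm ge N11655 = N10711 := ded_37_1 (flp_h L128179) (flp_e L128176) L136365
theorem L136373 : sm gg N11655 = N11655 := ded_42_1 (flp_h L136365) L128178 L136365
theorem L136374 : sm gi N11655 = N11655 := ded_44_2 (flp_h L136365) (flp_i L128170) L121155 L128170 L136365

end Cfsg.Agent.Helper28.FibA
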