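import Cfsg.Agent.Helper28.FibC0

/-!
# The Fi₂₂ presentation, cosets of the subgroup generated by b, …, i: the action of the generator a (helper28; generated)
-/

set_option autoImplicit false
set_option maxRecDepth 100000
set_option linter.unusedSimpArgs false
set_option linter.constructorNameAsVariable false

noncomputable section

namespace Cfsg.Agent.Helper28.FibA

open Cfsg.Spor Cfsg.Spor.Fi22 Cfsg.Agent.Helper28.CosetTable

theorem ce_a_0 : ∀ r, r < 64 → sm ga (Qf (0 + r)) = Qf (tab Gen.a (0 + r)) :=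
  edges_tab (sm ga) Qf (tab Gen.a) 0 [(0, 1), (1, 0), (2, 2), (3, 3), (4, 4), (5, 5), (6, 6), (7, 7), (8, 8), (9, 9), (10, 10), (11, 11), (12, 12), (13, 13), (14, 14), (15, 15), (16, 16), (17, 17), (18, 18), (19, 19), (20, 20), (21, 21), (22, 22), (23, 23), (24, 35), (25, 25), (26, 26), (27, 27), (28, 28), (29, 29), (30, 44), (31, 31), (32, 32), (33, 33), (34, 34), (35, 24), (36, 51), (37, 37), (38, 54), (39, 39), (40, 40), (41, 41), (42, 42), (43, 43), (44, 30), (45, 63), (46, 64), (47, 47), (48, 48), (49, 49), (50, 50), (51, 36), (52, 73), (53, 53), (54, 38), (55, 76), (56, 77), (57, 57), (58, 58), (59, 59), (60, 60), (61, 61), (62, 62), (63, 45)]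
    ⟨e3 q0 L8 q1, e3 q1 (flp_a L8) q0, e3 q2 L25 q2, e3 q3 L28 q3, e3 q4 L37 q4, e3 q5 L45 q5, e3 q6 L53 q6, e3 q7 L61 q7, e3 q8 L69 q8, e3 q9 L77 q9, e3 q10 L86 q10, e3 q11 L95 q11, e3 q12 L103 q12, e3 q13 L110 q13, e3 q14 L119 q14, e3 q15 L128 q15, e3 q16 L135 q16, e3 q17 L144 q17, e3 q18 L151 q18, e3 q19 L159 q19, e3 q20 L167 q20, e3 q21 L177 q21, e3 q22 L184 q22, e3 q23 L191 q23, e3 q24 L283 q35, e3 q25 L206 q25, e3 q26 L214 q26, e3 q27 L222 q27, e3 q28 L230 q28, e3 q29 L238 q29, e3 q30 L358 q44, e3 q31 L254 q31, e3 q32 L261 q32, e3 q33 L269 q33, e3 q34 L277 q34, e3 q35 (flp_a L283) q24, e3 q36 (flp_a L413) q51, e3 q37 L301 q37, e3 q38 L435 q54, e3 q39 L317 q39, e3 q40 L325 q40, e3 q41 L334 q41, e3 q42 L342 q42, e3 q43 L351 q43, e3 q44 (flp_a L358) q30, e3 q45 (flp_a L514) q63, e3 q46 (flp_a L522) q64, e3 q47 L383 q47, e3 q48 L389 q48, e3 q49 L397 q49, e3 q50 L405 q50, e3 q51 L413 q36, e3 q52 (flp_a L593) q73, e3 q53 L430 q53, e3 q54 (flp_a L435) q38, e3 q55 (flp_a L617) q76, e3 q56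 (flp_a L626) q77, e3 q57 L463 q57, e3 q58 L470 q58, e3 q59 L478 q59, e3 q60 L487 q60, e3 q61 L496 q61, e3 q62 L505 q62, e3 q63 L514 q45, trivial⟩ (by decide +kernel)

theorem ce_a_1 : ∀ r, r < 64 → sm ga (Qf (64 + r)) = Qf (tab Gen.a (64 + r)) :=
  edges_tab (sm ga) Qf (tab Gen.a) 64 [(64, 46), (65, 90), (66, 91), (67, 92), (68, 68), (69, 69), (70, 70), (71, 71), (72, 72), (73, 52), (74, 103), (75, 75), (76, 55), (77, 56), (78, 107), (79, 108), (80, 109), (81, 110), (82, 82), (83, 83), (84, 84), (85, 85), (86, 86), (87, 87), (88, 88), (89, 89), (90, 65), (91, 66), (92, 67), (93, 94), (94, 93), (95, 128), (96, 129), (97, 130), (98, 98), (99, 99), (100, 100), (101, 101), (102, 102), (103, 74), (104, 105), (105, 104), (106, 106), (107, 78), (108, 79), (109, 80), (110, 81), (111, 113), (112, 145), (113, 111), (114, 146), (115, 147), (116, 148), (117, 149), (118, 118), (119, 119), (120, 120), (121, 121), (122, 122), (123, 123), (124, 124), (125, 125), (126, 126), (127, 127)]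
    ⟨e3 q64 L522 q46, e3 q65 (flp_a L739) q90, e3 q66 (flp_a L746) q91, e3 q67 (flp_a L755) q92, e3 q68 L553 q68, e3 q69 L560 q69, e3 q70 L568 q70, e3 q71 L577 q71, e3 q72 L585 q72, e3 q73 L593 q52, e3 q74 (flp_a L839) q103, e3 q75 L609 q75, e3 q76 L617 q55, e3 q77 L626 q56, e3 q78 (flp_a L869) q107, e3 q79 (flp_a L877) q108, e3 q80 (flp_a L886) q109, e3 q81 (flp_a L896) q110, e3 q82 L669 q82, e3 q83 L676 q83, e3 q84 L684 q84, e3 q85 L693 q85, e3 q86 L702 q86, e3 q87 L712 q87, e3 q88 L721 q88, e3 q89 L730 q89, e3 q90 L739 q65, e3 q91 L746 q66, e3 q92 L755 q67, e3 q93 L775 q94, e3 q94 (flp_a L775) q93, e3 q95 (flp_a L1051) q128, e3 q96 (flp_a L1060) q129, e3 q97 (flp_a L1070) q130, e3 q98 L808 q98, e3 q99 L815 q99, e3 q100 L821 q100, e3 q101 L826 q101, e3 q102 L832 q102, e3 q103 L839 q74, e3 q104 (flp_a L107967) q105, e3 q105 L107967 q104, e3 q106 L862 q106, e3 q107 L869 q78, e3 q108 L877 q79, e3 q109 L886 q80, e3 q110 L896 q81, e3 q111 (flp_a L922) q113, e3 q112 (flp_a L1206) q145, e3 q113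 L922 q111, e3 q114 (flp_a L1214) q146, e3 q115 (flp_a L1224) q147, e3 q116 (flp_a L1234) q148, e3 q117 (flp_a L1245) q149, e3 q118 L971 q118, e3 q119 L978 q119, e3 q120 L986 q120, e3 q121 L995 q121, e3 q122 L1003 q122, e3 q123 L1010 q123, e3 q124 L1020 q124, e3 q125 L1026 q125, e3 q126 L1034 q126, e3 q127 L1043 q127, trivial⟩ (by decide +kernel)

theorem ce_a_2 : ∀ r, r < 64 → sm ga (Qf (128 + r)) = Qf (tab Gen.a (128 + r)) :=
  edges_tab (sm ga) Qf (tab Gen.a) 128 [(128, 95), (129, 96), (130, 97), (131, 132), (132, 131), (133, 174), (134, 175), (135, 143), (136, 176), (137, 137), (138, 138), (139, 139), (140, 140), (141, 141), (142, 191), (143, 135), (144, 144), (145, 112), (146, 114), (147, 115), (148, 116), (149, 117), (150, 153), (151, 155), (152, 193), (153, 150), (154, 194), (155, 151), (156, 195), (157, 196), (158, 197), (159, 192), (160, 198), (161, 161), (162, 162), (163, 163), (164, 164), (165, 165), (166, 166), (167, 167), (168, 168), (169, 169), (170, 170), (171, 171), (172,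 172), (173, 229), (174, 133), (175, 134), (176, 136), (177, 178), (178, 177), (179, 230), (180, 231), (181, 232), (182, 183), (183, 182), (184, 184), (185, 185), (186, 186), (187, 247), (188, 188), (189, 189), (190, 190), (191, 142)]
    ⟨e3 q128 L1051 q95, e3 q129 L1060 q96, e3 q130 L1070 q97, e3 q131 (flp_a L1087) q132, e3 q132 L1087 q131, e3 q133 (flp_a L1457) q174, e3 q134 (flp_a L1464) q175, e3 q135 (flp_a L107979) q143, e3 q136 (flp_a L1480) q176, e3 q137 L1124 q137, e3 q138 L1132 q138, e3 q139 L1138 q139, e3 q140 L1145 q140, e3 q141 L1151 q141, e3 q142 L1588 q191, e3 q143 L107979 q135, e3 q144 L1198 q144, e3 q145 L1206 q112, e3 q146 L1214 q114, e3 q147 L1224 q115, e3 q148 L1234 q116, e3 q149 L1245 q117, e3 q150 (flp_a L1280) q153, e3 q151 (flp_a L1301) q155, e3 q152 (flp_a L1645) q193, e3 q153 L1280 q150, e3 q154 (flp_a L1653) q194, e3 q155 L1301 q151, e3 q156 (flp_a L1663) q195, e3 q157 (flp_a L1671) q196, e3 q158 (flp_a L1682) q197, e3 q159 L108009 q192, e3 q160 (flp_a L1700) q198,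 e3 q161 L1354 q161, e3 q162 L1362 q162, e3 q163 L1371 q163, e3 q164 L1379 q164, e3 q165 L1386 q165, e3 q166 L1395 q166, e3 q167 L1402 q167, e3 q168 L1409 q168, e3 q169 L1417 q169, e3 q170 L1425 q170, e3 q171 L1432 q171, e3 q172 L1440 q172, e3 q173 L1962 q229, e3 q174 L1457 q133, e3 q175 L1464 q134, e3 q176 L1480 q136, e3 q177 (flp_a L1496) q178, e3 q178 L1496 q177, e3 q179 (flp_a L1973) q230, e3 q180 (flp_a L1981) q231, e3 q181 (flp_a L1988) q232, e3 q182 (flp_a L107993) q183, e3 q183 L107993 q182, e3 q184 L1542 q184, e3 q185 L1549 q185, e3 q186 L1556 q186, e3 q187 L2126 q247, e3 q188 L1568 q188, e3 q189 L1575 q189, e3 q190 L1582 q190, e3 q191 (flp_a L1588) q142, trivial⟩ (by decide +kernel)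

theorem ce_a_3 : ∀ r, r < 64 → sm ga (Qf (192 + r)) = Qf (tab Gen.a (192 + r)) :=
  edges_tab (sm ga) Qf (tab Gen.a) 192 [(192, 159), (193, 152), (194, 154), (195, 156), (196, 157), (197, 158), (198, 160), (199, 202), (200, 204), (201, 206), (202, 199), (203, 251), (204, 200), (205, 252), (206, 201), (207, 253), (208, 254), (209, 255), (210, 256), (211, 241), (212, 257), (213, 213), (214, 214), (215, 215), (216, 216), (217, 217), (218, 218), (219, 219), (220, 220), (221, 221), (222, 222), (223, 293), (224, 224), (225, 225), (226, 226), (227, 297), (228, 228), (229, 173), (230, 179), (231, 180), (232, 181), (233, 234), (234, 233), (235, 300), (236, 301), (237, 311), (238, 303), (239, 240), (240, 239), (241, 211), (242, 242), (243, 243), (244, 320), (245, 245), (246, 246), (247, 187), (248, 325), (249, 249), (250, 250), (251, 203), (252, 205), (253, 207), (254, 208), (255, 209)]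
    ⟨e3 q192 (flp_a L108009) q159, e3 q193 L1645 q152, e3 q194 L1653 q154, e3 q195 L1663 q156, e3 q196 L1671 q157, e3 q197 L1682 q158, e3 q198 L1700 q160, e3 q199 (flp_a L1737) q202, e3 q200 (flp_a L1758) q204, e3 q201 (flp_a L1777) q206, e3 q202 L1737 q199, e3 q203 (flp_a L2212) q251, e3 q204 L1758 q200, e3 q205 (flp_a L2222) q252, e3 q206 L1777 q201, e3 q207 (flp_a L2230) q253, e3 q208 (flp_a L2239) q254, e3 q209 (flp_a L2248) q255, e3 q210 (flp_a L2256) q256, e3 q211 (flp_a L108020) q241, e3 q212 (flp_a L2286) q257, e3 q213 L1837 q213, e3 q214 L1844 q214, e3 q215 L1852 q215, e3 q216 L1860 q216, e3 q217 L1869 q217, e3 q218 L1877 q218, e3 q219 L1885 q219, e3 q220 L1893 q220, e3 q221 L1901 q221, e3 q222 L1910 q222, e3 q223 L2585 q293, e3 q224 L1923 q224, e3 q225 L1932 q225, e3 q226 L1938 q226, e3 q227 L2616 q297, e3 q228 L1955 q228, e3 q229 (flp_a L1962) q173, e3 q230 L1973 q179, e3 q231 L1981 q180, e3 q232 L1988 q181, e3 q233 (flp_a L2029) q234, e3 q234 L2029 q233, e3 q235 (flp_a L2643)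 q300, e3 q236 (flp_a L2650) q301, e3 q237 L2767 q311, e3 q238 (flp_a L2664) q303, e3 q239 (flp_a L108164) q240, e3 q240 L108164 q239, e3 q241 L108020 q211, e3 q242 L2093 q242, e3 q243 L2101 q243, e3 q244 L2844 q320, e3 q245 L2114 q245, e3 q246 L2121 q246, e3 q247 (flp_a L2126) q187, e3 q248 (flp_a L2880) q325, e3 q249 L2141 q249, e3 q250 L2149 q250, e3 q251 L2212 q203, e3 q252 L2222 q205, e3 q253 L2230 q207, e3 q254 L2239 q208, e3 q255 L2248 q209, trivial⟩ (by decide +kernel)

theorem ce_a_4 : ∀ r, r < 64 → sm ga (Qf (256 + r)) = Qf (tab Gen.a (256 + r)) :=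
  edges_tab (sm ga) Qf (tab Gen.a) 256 [(256, 210), (257, 212), (258, 262), (259, 263), (260, 265), (261, 267), (262, 258), (263, 259), (264, 328), (265, 260), (266, 329), (267, 261), (268, 330), (269, 331), (270, 332), (271, 333), (272, 356), (273, 335), (274, 336), (275, 315), (276, 277), (277, 276), (278, 278), (279, 279), (280, 280), (281, 281), (282, 282), (283, 283), (284, 284), (285, 285), (286, 286), (287, 376), (288, 288), (289, 289), (290, 381), (291, 291), (292, 292), (293, 223), (294, 386), (295, 295), (296, 296), (297, 227), (298, 389), (299, 299), (300, 235), (301, 236), (302, 394), (303, 238), (304, 306), (305, 307), (306, 304), (307, 305), (308, 402), (309, 393), (310, 316), (311, 237), (312, 407), (313, 314), (314, 313), (315, 275), (316, 310), (317, 412), (318, 318), (319, 319)]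
    ⟨e3 q256 L2256 q210, e3 q257 L2286 q212, e3 q258 (flp_a L2329) q262, e3 q259 (flp_a L2340) q263, e3 q260 (flp_a L2360) q265, e3 q261 (flp_a L2382) q267, e3 q262 L2329 q258, e3 q263 L2340 q259, e3 q264 (flp_a L2972) q328, e3 q265 L2360 q260, e3 q266 (flp_a L2981) q329, e3 q267 L2382 q261, e3 q268 (flp_a L2991) q330, e3 q269 (flp_a L2999) q331, e3 q270 (flp_a L3009) q332, e3 q271 (flp_a L3018) q333, e3 q272 L3260 q356, e3 q273 (flp_a L3033) q335, e3 q274 (flp_a L3042) q336, e3 q275 (flp_a L108027) q315, e3 q276 L108000 q277, e3 q277 (flp_a L108000) q276, e3 q278 L2468 q278, e3 q279 L2477 q279, e3 q280 L2485 q280, e3 q281 L2495 q281, e3 q282 L2501 q282, e3 q283 L2510 q283, e3 q284 L2519 q284, e3 q285 L2525 q285, e3 q286 L2534 q286, e3 q287 L3425 q376, e3 q288 L2550 q288, e3 q289 L2559 q289, e3 q290 L3464 q381, e3 q291 L2573 q291, e3 q292 L2580 q292, e3 q293 (flp_a L2585) q223, e3 q294 (flp_a L3505) q386, e3 q295 L2603 q295, e3 q296 L2610 q296, e3 q297 (flp_a L2616) q227, e3 q298 (flp_a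 L3529) q389, e3 q299 L2636 q299, e3 q300 L2643 q235, e3 q301 L2650 q236, e3 q302 L3574 q394, e3 q303 L2664 q238, e3 q304 (flp_a L2728) q306, e3 q305 (flp_a L2738) q307, e3 q306 L2728 q304, e3 q307 L2738 q305, e3 q308 L3707 q402, e3 q309 (flp_a L3559) q393, e3 q310 (flp_a L108187) q316, e3 q311 (flp_a L2767) q237, e3 q312 (flp_a L3742) q407, e3 q313 L109792 q314, e3 q314 (flp_a L109792) q313, e3 q315 L108027 q275, e3 q316 L108187 q310, e3 q317 L3805 q412, e3 q318 L2830 q318, e3 q319 L2838 q319, trivial⟩ (by decide +kernel)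

theorem ce_a_5 : ∀ r, r < 64 → sm ga (Qf (320 + r)) = Qf (tab Gen.a (320 + r)) :=
  edges_tab (sm ga) Qf (tab Gen.a) 320 [(320, 244), (321, 417), (322, 322), (323, 323), (324, 324), (325, 248), (326, 422), (327, 327), (328, 264), (329, 266), (330, 268), (331, 269), (332, 270), (333, 271), (334, 433), (335, 273), (336, 274), (337, 342), (338, 343), (339, 345), (340, 348), (341, 349), (342, 337), (343, 338), (344, 424), (345, 339), (346, 425), (347, 426), (348, 340), (349, 341), (350, 455), (351, 428), (352, 429), (353, 460), (354, 431), (355, 432), (356, 272), (357, 465), (358, 411), (359, 435), (360, 361), (361, 360), (362, 406), (363, 363), (364, 364), (365, 365), (366, 366), (367, 367), (368, 368), (369, 369), (370, 484), (371, 371), (372, 372), (373, 489), (374, 374), (375, 375), (376, 287), (377, 494), (378, 378), (379, 379), (380, 380), (381, 290), (382, 499), (383, 383)]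
    ⟨e3 q320 (flp_a L2844) q244, e3 q321 (flp_a L3846) q417, e3 q322 L2859 q322, e3 q323 L2865 q323, e3 q324 L2873 q324, e3 q325 L2880 q248, e3 q326 (flp_a L3881) q422, e3 q327 L2894 q327, e3 q328 L2972 q264, e3 q329 L2981 q266, e3 q330 L2991 q268, e3 q331 L2999 q269, e3 q332 L3009 q270, e3 q333 L3018 q271, e3 q334 L4065 q433, e3 q335 L3033 q273, e3 q336 L3042 q274, e3 q337 (flp_a L3134) q342, e3 q338 (flp_a L3146) q343, e3 q339 (flp_a L3167) q345, e3 q340 (flp_a L3193) q348, e3 q341 (flp_a L3204) q349, e3 q342 L3134 q337, e3 q343 L3146 q338, e3 q344 (flp_a L3992) q424, e3 q345 L3167 q339, e3 q346 (flp_a L4000) q425, e3 q347 (flp_a L4009) q426, e3 q348 L3193 q340, e3 q349 L3204 q341, e3 q350 L4323 q455, e3 q351 (flp_a L4024) q428, e3 q352 (flp_a L4034) q429, e3 q353 L4361 q460, e3 q354 (flp_a L4050) q431, e3 q355 (flp_a L4058) q432, e3 q356 (flp_a L3260) q272, e3 q357 (flp_a L4402) q465, e3 q358 (flp_a L109937) q411, e3 q359 (flp_a L4094) q435, e3 q360 (flp_a L108132) q361, e3 q361 L108132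 q360, e3 q362 (flp_a L108033) q406, e3 q363 L3324 q363, e3 q364 L3334 q364, e3 q365 L3341 q365, e3 q366 L3348 q366, e3 q367 L3355 q367, e3 q368 L3362 q368, e3 q369 L3372 q369, e3 q370 L4554 q484, e3 q371 L3387 q371, e3 q372 L3395 q372, e3 q373 L4592 q489, e3 q374 L3410 q374, e3 q375 L3420 q375, e3 q376 (flp_a L3425) q287, e3 q377 (flp_a L4638) q494, e3 q378 L3443 q378, e3 q379 L3451 q379, e3 q380 L3458 q380, e3 q381 (flp_a L3464) q290, e3 q382 (flp_a L4677) q499, e3 q383 L3481 q383, trivial⟩ (by decide +kernel)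

theorem ce_a_6 : ∀ r, r < 64 → sm ga (Qf (384 + r)) = Qf (tab Gen.a (384 + r)) :=
  edges_tab (sm ga) Qf (tab Gen.a) 384 [(384, 384), (385, 385), (386, 294), (387, 505), (388, 388), (389, 298), (390, 507), (391, 391), (392, 511), (393, 309), (394, 302), (395, 514), (396, 515), (397, 400), (398, 401), (399, 519), (400, 397), (401, 398), (402, 308), (403, 524), (404, 513), (405, 410), (406, 362), (407, 312), (408, 530), (409, 531), (410, 405), (411, 358), (412, 317), (413, 534), (414, 414), (415, 415), (416, 416), (417, 321), (418, 540), (419, 541), (420, 420), (421, 421), (422, 326), (423, 547), (424, 344), (425, 346), (426, 347), (427, 553), (428, 351), (429, 352), (430, 557), (431, 354), (432, 355), (433, 334), (434, 561), (435, 359), (436, 443), (437, 444), (438, 447), (439, 448), (440, 569), (441, 453), (442, 454), (443, 436), (444, 437), (445, 548), (446, 549), (447, 438)]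
    ⟨e3 q384 L3489 q384, e3 q385 L3497 q385, e3 q386 L3505 q294, e3 q387 (flp_a L4723) q505, e3 q388 L3520 q388, e3 q389 L3529 q298, e3 q390 (flp_a L4738) q507, e3 q391 L3546 q391, e3 q392 L4766 q511, e3 q393 L3559 q309, e3 q394 (flp_a L3574) q302, e3 q395 (flp_a L4806) q514, e3 q396 L4909 q515, e3 q397 (flp_a L3689) q400, e3 q398 (flp_a L3698) q401, e3 q399 L4949 q519, e3 q400 L3689 q397, e3 q401 L3698 q398, e3 q402 (flp_a L3707) q308, e3 q403 (flp_a L5002) q524, e3 q404 (flp_a L4783) q513, e3 q405 (flp_a L109817) q410, e3 q406 L108033 q362, e3 q407 L3742 q312, e3 q408 (flp_a L5040) q530, e3 q409 (flp_a L5047) q531, e3 q410 L109817 q405, e3 q411 L109937 q358, e3 q412 (flp_a L3805) q317, e3 q413 (flp_a L5130) q534, e3 q414 L3822 q414, e3 q415 L3829 q415, e3 q416 L3838 q416, e3 q417 L3846 q321, e3 q418 (flp_a L5177) q540, e3 q419 (flp_a L5184) q541, e3 q420 L3866 q420, e3 q421 L3873 q421, e3 q422 L3881 q326, e3 q423 (flp_a L5225) q547, e3 q424 L3992 q344, e3 q425 L4000 q346, e3 q426 L4009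 q347, e3 q427 L5393 q553, e3 q428 L4024 q351, e3 q429 L4034 q352, e3 q430 L5436 q557, e3 q431 L4050 q354, e3 q432 L4058 q355, e3 q433 (flp_a L4065) q334, e3 q434 (flp_a L5482) q561, e3 q435 L4094 q359, e3 q436 (flp_a L4213) q443, e3 q437 (flp_a L4224) q444, e3 q438 (flp_a L4247) q447, e3 q439 (flp_a L4259) q448, e3 q440 L5650 q569, e3 q441 (flp_a L4304) q453, e3 q442 (flp_a L4315) q454, e3 q443 L4213 q436, e3 q444 L4224 q437, e3 q445 (flp_a L5353) q548, e3 q446 (flp_a L5360) q549, e3 q447 L4247 q438, trivial⟩ (by decide +kernel)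

theorem ce_a_7 : ∀ r, r < 64 → sm ga (Qf (448 + r)) = Qf (tab Gen.a (448 + r)) :=
  edges_tab (sm ga) Qf (tab Gen.a) 448 [(448, 439), (449, 583), (450, 551), (451, 552), (452, 588), (453, 441), (454, 442), (455, 350), (456, 593), (457, 555), (458, 556), (459, 472), (460, 353), (461, 599), (462, 559), (463, 560), (464, 471), (465, 357), (466, 605), (467, 606), (468, 470), (469, 529), (470, 468), (471, 464), (472, 459), (473, 523), (474, 474), (475, 475), (476, 476), (477, 477), (478, 620), (479, 479), (480, 480), (481, 625), (482, 482), (483, 483), (484, 370), (485, 630), (486, 486), (487, 487), (488, 488), (489, 373), (490, 636), (491, 491), (492, 492), (493, 493), (494, 377), (495, 642), (496, 643), (497, 497), (498, 498), (499, 382), (500, 649), (501, 650), (502, 502), (503, 503), (504, 504), (505, 387), (506, 658), (507, 390), (508, 659), (509, 660), (510, 510), (511, 392)]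
    ⟨e3 q448 L4259 q439, e3 q449 L5781 q583, e3 q450 (flp_a L5377) q551, e3 q451 (flp_a L5386) q552, e3 q452 L5819 q588, e3 q453 L4304 q441, e3 q454 L4315 q442, e3 q455 (flp_a L4323) q350, e3 q456 (flp_a L5877) q593, e3 q457 (flp_a L5413) q555, e3 q458 (flp_a L5420) q556, e3 q459 (flp_a L108108) q472, e3 q460 (flp_a L4361) q353, e3 q461 (flp_a L5921) q599, e3 q462 (flp_a L5455) q559, e3 q463 (flp_a L5463) q560, e3 q464 L107534 q471, e3 q465 L4402 q357, e3 q466 (flp_a L5964) q605, e3 q467 (flp_a L5973) q606, e3 q468 L109767 q470, e3 q469 (flp_a L109951) q529, e3 q470 (flp_a L109767) q468, e3 q471 (flp_a L107534) q464, e3 q472 L108108 q459, e3 q473 (flp_a L108049) q523, e3 q474 L4476 q474, e3 q475 L4486 q475, e3 q476 L4494 q476, e3 q477 L4502 q477, e3 q478 L6107 q620, e3 q479 L4516 q479, e3 q480 L4523 q480, e3 q481 L6142 q625, e3 q482 L4539 q482, e3 q483 L4548 q483, e3 q484 (flp_a L4554) q370, e3 q485 (flp_a L6188) q630, e3 q486 L4572 q486, e3 q487 L4577 q487, e3 q488 L4586 q488, e3 q489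 (flp_a L4592) q373, e3 q490 (flp_a L6232) q636, e3 q491 L4612 q491, e3 q492 L4621 q492, e3 q493 L4629 q493, e3 q494 L4638 q377, e3 q495 (flp_a L6285) q642, e3 q496 (flp_a L6294) q643, e3 q497 L4661 q497, e3 q498 L4668 q498, e3 q499 L4677 q382, e3 q500 (flp_a L6338) q649, e3 q501 (flp_a L6347) q650, e3 q502 L4699 q502, e3 q503 L4707 q503, e3 q504 L4714 q504, e3 q505 L4723 q387, e3 q506 (flp_a L6409) q658, e3 q507 L4738 q390, e3 q508 (flp_a L6418) q659, e3 q509 (flp_a L6426) q660, e3 q510 L4760 q510, e3 q511 (flp_a L4766) q392, trivial⟩ (by decide +kernel)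

theorem ce_a_8 : ∀ r, r < 64 → sm ga (Qf (512 + r)) = Qf (tab Gen.a (512 + r)) :=
  edges_tab (sm ga) Qf (tab Gen.a) 512 [(512, 663), (513, 404), (514, 395), (515, 396), (516, 665), (517, 521), (518, 522), (519, 399), (520, 670), (521, 517), (522, 518), (523, 473), (524, 403), (525, 676), (526, 677), (527, 528), (528, 527), (529, 469), (530, 408), (531, 409), (532, 683), (533, 684), (534, 413), (535, 685), (536, 686), (537, 537), (538, 538), (539, 539), (540, 418), (541, 419), (542, 694), (543, 695), (544, 696), (545, 545), (546, 546), (547, 423), (548, 445), (549, 446), (550, 704), (551, 450), (552, 451), (553, 427), (554, 708), (555, 457), (556, 458), (557, 430), (558, 712), (559, 462), (560, 463), (561, 434), (562, 717), (563, 574), (564, 575), (565, 576), (566, 723), (567, 581), (568, 582), (569, 440), (570, 728), (571, 590), (572, 591), (573, 592), (574, 563), (575, 564)]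
    ⟨e3 q512 (flp_a L6449) q663, e3 q513 L4783 q404, e3 q514 L4806 q395, e3 q515 (flp_a L4909) q396, e3 q516 (flp_a L6647) q665, e3 q517 (flp_a L4972) q521, e3 q518 (flp_a L4981) q522, e3 q519 (flp_a L4949) q399, e3 q520 (flp_a L6693) q670, e3 q521 L4972 q517, e3 q522 L4981 q518, e3 q523 L108049 q473, e3 q524 L5002 q403, e3 q525 (flp_a L6749) q676, e3 q526 (flp_a L6753) q677, e3 q527 (flp_a L108588) q528, e3 q528 L108588 q527, e3 q529 L109951 q469, e3 q530 L5040 q408, e3 q531 L5047 q409, e3 q532 (flp_a L6817) q683, e3 q533 (flp_a L6823) q684, e3 q534 L5130 q413, e3 q535 (flp_a L6924) q685, e3 q536 (flp_a L6932) q686, e3 q537 L5153 q537, e3 q538 L5161 q538, e3 q539 L5168 q539, e3 q540 L5177 q418, e3 q541 L5184 q419, e3 q542 (flp_a L6994) q694, e3 q543 (flp_a L7000) q695, e3 q544 (flp_a L7008) q696, e3 q545 L5211 q545, e3 q546 L5218 q546, e3 q547 L5225 q423, e3 q548 L5353 q445, e3 q549 L5360 q446, e3 q550 L7217 q704, e3 q551 L5377 q450, e3 q552 L5386 q451, e3 q553 (flp_a L5393) q427, e3 q554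 (flp_a L7262) q708, e3 q555 L5413 q457, e3 q556 L5420 q458, e3 q557 (flp_a L5436) q430, e3 q558 (flp_a L7312) q712, e3 q559 L5455 q462, e3 q560 L5463 q463, e3 q561 L5482 q434, e3 q562 (flp_a L7371) q717, e3 q563 (flp_a L5697) q574, e3 q564 (flp_a L5708) q575, e3 q565 (flp_a L5718) q576, e3 q566 L7568 q723, e3 q567 (flp_a L5762) q581, e3 q568 (flp_a L5772) q582, e3 q569 (flp_a L5650) q440, e3 q570 (flp_a L7615) q728, e3 q571 (flp_a L5845) q590, e3 q572 (flp_a L5856) q591, e3 q573 (flp_a L5865) q592, e3 q574 L5697 q563, e3 q575 L5708 q564, trivial⟩ (by decide +kernel)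

theorem ce_a_9 : ∀ r, r < 64 → sm ga (Qf (576 + r)) = Qf (tab Gen.a (576 + r)) :=
  edges_tab (sm ga) Qf (tab Gen.a) 576 [(576, 565), (577, 739), (578, 702), (579, 703), (580, 744), (581, 567), (582, 568), (583, 449), (584, 749), (585, 706), (586, 707), (587, 613), (588, 452), (589, 755), (590, 571), (591, 572), (592, 573), (593, 456), (594, 761), (595, 762), (596, 711), (597, 682), (598, 611), (599, 461), (600, 771), (601, 772), (602, 715), (603, 716), (604, 610), (605, 466), (606, 467), (607, 781), (608, 782), (609, 783), (610, 604), (611, 598), (612, 675), (613, 587), (614, 614), (615, 615), (616, 616), (617, 794), (618, 618), (619, 619), (620, 478), (621, 799), (622, 622), (623, 623), (624, 624), (625, 481), (626, 805), (627, 627), (628, 628), (629, 629), (630, 485), (631, 811), (632, 812), (633, 633), (634, 634), (635, 635), (636, 490), (637, 821), (638, 822), (639, 639)]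
    ⟨e3 q576 L5718 q565, e3 q577 L7716 q739, e3 q578 (flp_a L7202) q702, e3 q579 (flp_a L7210) q703, e3 q580 L7751 q744, e3 q581 L5762 q567, e3 q582 L5772 q568, e3 q583 (flp_a L5781) q449, e3 q584 (flp_a L7809) q749, e3 q585 (flp_a L7237) q706, e3 q586 (flp_a L7242) q707, e3 q587 L102094 q613, e3 q588 (flp_a L5819) q452, e3 q589 (flp_a L7851) q755, e3 q590 L5845 q571, e3 q591 L5856 q572, e3 q592 L5865 q573, e3 q593 L5877 q456, e3 q594 (flp_a L7913) q761, e3 q595 (flp_a L7919) q762, e3 q596 (flp_a L7286) q711, e3 q597 (flp_a L108754) q682, e3 q598 (flp_a L109750) q611, e3 q599 L5921 q461, e3 q600 (flp_a L7982) q771, e3 q601 (flp_a L7989) q772, e3 q602 (flp_a L7336) q715, e3 q603 (flp_a L7344) q716, e3 q604 L102084 q610, e3 q605 L5964 q466, e3 q606 L5973 q467, e3 q607 (flp_a L8054) q781, e3 q608 (flp_a L8062) q782, e3 q609 (flp_a L8070) q783, e3 q610 (flp_a L102084) q604, e3 q611 L109750 q598, e3 q612 (flp_a L109955) q675, e3 q613 (flp_a L102094) q587, e3 q614 L6062 q614, e3 q615 L6070 q615,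 e3 q616 L6078 q616, e3 q617 L8217 q794, e3 q618 L6093 q618, e3 q619 L6101 q619, e3 q620 (flp_a L6107) q478, e3 q621 (flp_a L8260) q799, e3 q622 L6122 q622, e3 q623 L6129 q623, e3 q624 L6136 q624, e3 q625 (flp_a L6142) q481, e3 q626 (flp_a L8302) q805, e3 q627 L6162 q627, e3 q628 L6169 q628, e3 q629 L6179 q629, e3 q630 L6188 q485, e3 q631 (flp_a L8352) q811, e3 q632 (flp_a L8359) q812, e3 q633 L6210 q633, e3 q634 L6215 q634, e3 q635 L6222 q635, e3 q636 L6232 q490, e3 q637 (flp_a L8421) q821, e3 q638 (flp_a L8431) q822, e3 q639 L6258 q639, trivial⟩ (by decide +kernel)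

theorem ce_a_10 : ∀ r, r < 64 → sm ga (Qf (640 + r)) = Qf (tab Gen.a (640 + r)) :=
  edges_tab (sm ga) Qf (tab Gen.a) 640 [(640, 640), (641, 641), (642, 495), (643, 496), (644, 830), (645, 831), (646, 832), (647, 647), (648, 648), (649, 500), (650, 501), (651, 837), (652, 838), (653, 839), (654, 840), (655, 655), (656, 656), (657, 657), (658, 506), (659, 508), (660, 509), (661, 849), (662, 850), (663, 512), (664, 853), (665, 516), (666, 855), (667, 856), (668, 673), (669, 674), (670, 520), (671, 862), (672, 863), (673, 668), (674, 669), (675, 612), (676, 525), (677, 526), (678, 869), (679, 870), (680, 871), (681, 872), (682, 597), (683, 532), (684, 533), (685, 535), (686, 536), (687, 876), (688, 877), (689, 878), (690, 879), (691, 691), (692, 692), (693, 693), (694, 542), (695, 543), (696, 544), (697, 889), (698, 890), (699, 891), (700, 700), (701, 896), (702, 578), (703, 579)]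
    ⟨e3 q640 L6266 q640, e3 q641 L6275 q641, e3 q642 L6285 q495, e3 q643 L6294 q496, e3 q644 (flp_a L8498) q830, e3 q645 (flp_a L8506) q831, e3 q646 (flp_a L8514) q832, e3 q647 L6323 q647, e3 q648 L6329 q648, e3 q649 L6338 q500, e3 q650 L6347 q501, e3 q651 (flp_a L8551) q837, e3 q652 (flp_a L8559) q838, e3 q653 (flp_a L8568) q839, e3 q654 (flp_a L8576) q840, e3 q655 L6385 q655, e3 q656 L6394 q656, e3 q657 L6401 q657, e3 q658 L6409 q506, e3 q659 L6418 q508, e3 q660 L6426 q509, e3 q661 (flp_a L8648) q849, e3 q662 (flp_a L8656) q850, e3 q663 L6449 q512, e3 q664 (flp_a L8680) q853, e3 q665 L6647 q516, e3 q666 (flp_a L8967) q855, e3 q667 (flp_a L8975) q856, e3 q668 (flp_a L6722) q673, e3 q669 (flp_a L6731) q674, e3 q670 L6693 q520, e3 q671 (flp_a L9045) q862, e3 q672 (flp_a L9055) q863, e3 q673 L6722 q668, e3 q674 L6731 q669, e3 q675 L109955 q612, e3 q676 L6749 q525, e3 q677 L6753 q526, e3 q678 (flp_a L9138) q869, e3 q679 (flp_a L9144) q870, e3 q680 (flp_a L9150) q871, e3 q681 (flp_a L9156)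 q872, e3 q682 L108754 q597, e3 q683 L6817 q532, e3 q684 L6823 q533, e3 q685 L6924 q535, e3 q686 L6932 q536, e3 q687 (flp_a L9359) q876, e3 q688 (flp_a L9366) q877, e3 q689 (flp_a L9375) q878, e3 q690 (flp_a L9383) q879, e3 q691 L6970 q691, e3 q692 L6978 q692, e3 q693 L6986 q693, e3 q694 L6994 q542, e3 q695 L7000 q543, e3 q696 L7008 q544, e3 q697 (flp_a L9461) q889, e3 q698 (flp_a L9468) q890, e3 q699 (flp_a L9476) q891, e3 q700 L7036 q700, e3 q701 L9709 q896, e3 q702 L7202 q578, e3 q703 L7210 q579, trivial⟩ (by decide +kernel)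

theorem ce_a_11 : ∀ r, r < 64 → sm ga (Qf (704 + r)) = Qf (tab Gen.a (704 + r)) :=
  edges_tab (sm ga) Qf (tab Gen.a) 704 [(704, 550), (705, 900), (706, 585), (707, 586), (708, 554), (709, 905), (710, 906), (711, 596), (712, 558), (713, 910), (714, 911), (715, 602), (716, 603), (717, 562), (718, 734), (719, 735), (720, 920), (721, 737), (722, 738), (723, 566), (724, 925), (725, 746), (726, 747), (727, 748), (728, 570), (729, 931), (730, 932), (731, 758), (732, 759), (733, 760), (734, 718), (735, 719), (736, 944), (737, 721), (738, 722), (739, 577), (740, 949), (741, 898), (742, 899), (743, 788), (744, 580), (745, 955), (746, 725), (747, 726), (748, 727), (749, 584), (750, 961), (751, 962), (752, 903), (753, 904), (754, 787), (755, 589), (756, 971), (757, 972), (758, 731), (759, 732), (760, 733), (761, 594), (762, 595), (763, 981), (764, 982), (765, 983), (766, 984), (767, 909)]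
    ⟨e3 q704 (flp_a L7217) q550, e3 q705 (flp_a L9751) q900, e3 q706 L7237 q585, e3 q707 L7242 q586, e3 q708 L7262 q554, e3 q709 (flp_a L9799) q905, e3 q710 (flp_a L9807) q906, e3 q711 L7286 q596, e3 q712 L7312 q558, e3 q713 (flp_a L9877) q910, e3 q714 (flp_a L9886) q911, e3 q715 L7336 q602, e3 q716 L7344 q603, e3 q717 L7371 q562, e3 q718 (flp_a L7667) q734, e3 q719 (flp_a L7677) q735, e3 q720 L10219 q920, e3 q721 (flp_a L7698) q737, e3 q722 (flp_a L7707) q738, e3 q723 (flp_a L7568) q566, e3 q724 (flp_a L10263) q925, e3 q725 (flp_a L7777) q746, e3 q726 (flp_a L7786) q747, e3 q727 (flp_a L7797) q748, e3 q728 L7615 q570, e3 q729 (flp_a L10313) q931, e3 q730 (flp_a L10323) q932, e3 q731 (flp_a L7883) q758, e3 q732 (flp_a L7892) q759, e3 q733 (flp_a L7902) q760, e3 q734 L7667 q718, e3 q735 L7677 q719, e3 q736 L10429 q944, e3 q737 L7698 q721, e3 q738 L7707 q722, e3 q739 (flp_a L7716) q577, e3 q740 (flp_a L10484) q949, e3 q741 (flp_a L9726) q898, e3 q742 (flp_a L9733) q899, e3 q743 L102015 q788,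 e3 q744 (flp_a L7751) q580, e3 q745 (flp_a L10524) q955, e3 q746 L7777 q725, e3 q747 L7786 q726, e3 q748 L7797 q727, e3 q749 L7809 q584, e3 q750 (flp_a L10584) q961, e3 q751 (flp_a L10589) q962, e3 q752 (flp_a L9775) q903, e3 q753 (flp_a L9781) q904, e3 q754 (flp_a L109261) q787, e3 q755 L7851 q589, e3 q756 (flp_a L10648) q971, e3 q757 (flp_a L10660) q972, e3 q758 L7883 q731, e3 q759 L7892 q732, e3 q760 L7902 q733, e3 q761 L7913 q594, e3 q762 L7919 q595, e3 q763 (flp_a L10750) q981, e3 q764 (flp_a L10758) q982, e3 q765 (flp_a L10764) q983, e3 q766 (flp_a L10772) q984, e3 q767 (flp_a L9845) q909, trivial⟩ (by decide +kernel)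

theorem ce_a_12 : ∀ r, r < 64 → sm ga (Qf (768 + r)) = Qf (tab Gen.a (768 + r)) :=
  edges_tab (sm ga) Qf (tab Gen.a) 768 [(768, 769), (769, 768), (770, 868), (771, 600), (772, 601), (773, 993), (774, 994), (775, 995), (776, 996), (777, 778), (778, 777), (779, 915), (780, 916), (781, 607), (782, 608), (783, 609), (784, 1006), (785, 1007), (786, 1008), (787, 754), (788, 743), (789, 789), (790, 790), (791, 1015), (792, 792), (793, 793), (794, 617), (795, 1020), (796, 796), (797, 797), (798, 798), (799, 621), (800, 1026), (801, 1027), (802, 802), (803, 803), (804, 804), (805, 626), (806, 1036), (807, 1037), (808, 808), (809, 809), (810, 810), (811, 631), (812, 632), (813, 1046), (814, 1047), (815, 1048), (816, 1049), (817, 817), (818, 818), (819, 819), (820, 820), (821, 637), (822, 638), (823, 1060), (824, 1061), (825, 1062), (826, 1063), (827, 827), (828, 828), (829, 829), (830, 644), (831, 645)]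
    ⟨e3 q768 (flp_a L108767) q769, e3 q769 L108767 q768, e3 q770 (flp_a L108718) q868, e3 q771 L7982 q600, e3 q772 L7989 q601, e3 q773 (flp_a L10851) q993, e3 q774 (flp_a L10860) q994, e3 q775 (flp_a L10867) q995, e3 q776 (flp_a L10873) q996, e3 q777 L99355 q778, e3 q778 (flp_a L99355) q777, e3 q779 (flp_a L9943) q915, e3 q780 (flp_a L9950) q916, e3 q781 L8054 q607, e3 q782 L8062 q608, e3 q783 L8070 q609, e3 q784 (flp_a L10953) q1006, e3 q785 (flp_a L10970) q1007, e3 q786 (flp_a L10977) q1008, e3 q787 L109261 q754, e3 q788 (flp_a L102015) q743, e3 q789 L8178 q789, e3 q790 L8187 q790, e3 q791 L11113 q1015, e3 q792 L8202 q792, e3 q793 L8211 q793, e3 q794 (flp_a L8217) q617, e3 q795 (flp_a L11155) q1020, e3 q796 L8234 q796, e3 q797 L8243 q797, e3 q798 L8251 q798, e3 q799 L8260 q621, e3 q800 (flp_a L11203) q1026, e3 q801 (flp_a L11210) q1027, e3 q802 L8279 q802, e3 q803 L8286 q803, e3 q804 L8294 q804, e3 q805 L8302 q626, e3 q806 (flp_a L11274) q1036, e3 q807 (flp_a L11283) q1037, e3 q808 L8328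 q808, e3 q809 L8335 q809, e3 q810 L8341 q810, e3 q811 L8352 q631, e3 q812 L8359 q632, e3 q813 (flp_a L11354) q1046, e3 q814 (flp_a L11360) q1047, e3 q815 (flp_a L11367) q1048, e3 q816 (flp_a L11376) q1049, e3 q817 L8395 q817, e3 q818 L8401 q818, e3 q819 L8407 q819, e3 q820 L8414 q820, e3 q821 L8421 q637, e3 q822 L8431 q638, e3 q823 (flp_a L11455) q1060, e3 q824 (flp_a L11464) q1061, e3 q825 (flp_a L11473) q1062, e3 q826 (flp_a L11483) q1063, e3 q827 L8473 q827, e3 q828 L8480 q828, e3 q829 L8490 q829, e3 q830 L8498 q644, e3 q831 L8506 q645, trivial⟩ (by decide +kernel)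

theorem ce_a_13 : ∀ r, r < 64 → sm ga (Qf (832 + r)) = Qf (tab Gen.a (832 + r)) :=
  edges_tab (sm ga) Qf (tab Gen.a) 832 [(832, 646), (833, 1073), (834, 1074), (835, 1075), (836, 836), (837, 651), (838, 652), (839, 653), (840, 654), (841, 1081), (842, 1082), (843, 1083), (844, 1084), (845, 1085), (846, 846), (847, 847), (848, 848), (849, 661), (850, 662), (851, 1094), (852, 1095), (853, 664), (854, 1098), (855, 666), (856, 667), (857, 1099), (858, 1100), (859, 1101), (860, 861), (861, 860), (862, 671), (863, 672), (864, 1106), (865, 1107), (866, 1108), (867, 1109), (868, 770), (869, 678), (870, 679), (871, 680), (872, 681), (873, 1114), (874, 1115), (875, 1116), (876, 687), (877, 688), (878, 689), (879, 690), (880, 1119), (881, 1120), (882, 1121), (883, 1122), (884, 1123), (885, 885), (886, 886), (887, 887), (888, 888), (889, 697), (890, 698), (891, 699), (892, 1135), (893, 1136), (894, 1137), (895, 895)]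
    ⟨e3 q832 L8514 q646, e3 q833 (flp_a L11568) q1073, e3 q834 (flp_a L11575) q1074, e3 q835 (flp_a L11582) q1075, e3 q836 L8544 q836, e3 q837 L8551 q651, e3 q838 L8559 q652, e3 q839 L8568 q653, e3 q840 L8576 q654, e3 q841 (flp_a L11630) q1081, e3 q842 (flp_a L11638) q1082, e3 q843 (flp_a L11647) q1083, e3 q844 (flp_a L11657) q1084, e3 q845 (flp_a L11665) q1085, e3 q846 L8624 q846, e3 q847 L8632 q847, e3 q848 L8644 q848, e3 q849 L8648 q661, e3 q850 L8656 q662, e3 q851 (flp_a L11736) q1094, e3 q852 (flp_a L11744) q1095, e3 q853 L8680 q664, e3 q854 (flp_a L11767) q1098, e3 q855 L8967 q666, e3 q856 L8975 q667, e3 q857 (flp_a L12171) q1099, e3 q858 (flp_a L12180) q1100, e3 q859 (flp_a L12188) q1101, e3 q860 (flp_a L108534) q861, e3 q861 L108534 q860, e3 q862 L9045 q671, e3 q863 L9055 q672, e3 q864 (flp_a L12281) q1106, e3 q865 (flp_a L12291) q1107, e3 q866 (flp_a L12301) q1108, e3 q867 (flp_a L12310) q1109, e3 q868 L108718 q770, e3 q869 L9138 q678, e3 q870 L9144 q679, e3 q871 L9150 q680, e3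 q872 L9156 q681, e3 q873 (flp_a L12413) q1114, e3 q874 (flp_a L12421) q1115, e3 q875 (flp_a L12433) q1116, e3 q876 L9359 q687, e3 q877 L9366 q688, e3 q878 L9375 q689, e3 q879 L9383 q690, e3 q880 (flp_a L12698) q1119, e3 q881 (flp_a L12706) q1120, e3 q882 (flp_a L12714) q1121, e3 q883 (flp_a L12723) q1122, e3 q884 (flp_a L12732) q1123, e3 q885 L9430 q885, e3 q886 L9439 q886, e3 q887 L9447 q887, e3 q888 L9457 q888, e3 q889 L9461 q697, e3 q890 L9468 q698, e3 q891 L9476 q699, e3 q892 (flp_a L12825) q1135, e3 q893 (flp_a L12833) q1136, e3 q894 (flp_a L12840) q1137, e3 q895 L9505 q895, trivial⟩ (by decide +kernel)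

theorem ce_a_14 : ∀ r, r < 64 → sm ga (Qf (896 + r)) = Qf (tab Gen.a (896 + r)) :=
  edges_tab (sm ga) Qf (tab Gen.a) 896 [(896, 701), (897, 1141), (898, 741), (899, 742), (900, 705), (901, 1146), (902, 1147), (903, 752), (904, 753), (905, 709), (906, 710), (907, 1154), (908, 1155), (909, 767), (910, 713), (911, 714), (912, 1158), (913, 1159), (914, 1160), (915, 779), (916, 780), (917, 1166), (918, 942), (919, 943), (920, 720), (921, 1171), (922, 946), (923, 947), (924, 948), (925, 724), (926, 1177), (927, 1178), (928, 958), (929, 959), (930, 960), (931, 729), (932, 730), (933, 1187), (934, 1188), (935, 1189), (936, 1190), (937, 977), (938, 978), (939, 979), (940, 980), (941, 1201), (942, 918), (943, 919), (944, 736), (945, 1206), (946, 922), (947, 923), (948, 924), (949, 740), (950, 1212), (951, 1213), (952, 1144), (953, 1145), (954, 1011), (955, 745), (956, 1222), (957, 1223), (958, 928), (959, 929)]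
    ⟨e3 q896 (flp_a L9709) q701, e3 q897 (flp_a L13133) q1141, e3 q898 L9726 q741, e3 q899 L9733 q742, e3 q900 L9751 q705, e3 q901 (flp_a L13179) q1146, e3 q902 (flp_a L13186) q1147, e3 q903 L9775 q752, e3 q904 L9781 q753, e3 q905 L9799 q709, e3 q906 L9807 q710, e3 q907 (flp_a L13252) q1154, e3 q908 (flp_a L13259) q1155, e3 q909 L9845 q767, e3 q910 L9877 q713, e3 q911 L9886 q714, e3 q912 (flp_a L13363) q1158, e3 q913 (flp_a L13371) q1159, e3 q914 (flp_a L13380) q1160, e3 q915 L9943 q779, e3 q916 L9950 q780, e3 q917 L13799 q1166, e3 q918 (flp_a L10410) q942, e3 q919 (flp_a L10420) q943, e3 q920 (flp_a L10219) q720, e3 q921 (flp_a L13842) q1171, e3 q922 (flp_a L10452) q946, e3 q923 (flp_a L10463) q947, e3 q924 (flp_a L10472) q948, e3 q925 L10263 q724, e3 q926 (flp_a L13890) q1177, e3 q927 (flp_a L13899) q1178, e3 q928 (flp_a L10556) q958, e3 q929 (flp_a L10564) q959, e3 q930 (flp_a L10572) q960, e3 q931 L10313 q729, e3 q932 L10323 q730, e3 q933 (flp_a L13972) q1187, e3 q934 (flp_a L13983)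 q1188, e3 q935 (flp_a L13991) q1189, e3 q936 (flp_a L14000) q1190, e3 q937 (flp_a L10710) q977, e3 q938 (flp_a L10719) q978, e3 q939 (flp_a L10730) q979, e3 q940 (flp_a L10738) q980, e3 q941 L14091 q1201, e3 q942 L10410 q918, e3 q943 L10420 q919, e3 q944 (flp_a L10429) q736, e3 q945 (flp_a L14145) q1206, e3 q946 L10452 q922, e3 q947 L10463 q923, e3 q948 L10472 q924, e3 q949 L10484 q740, e3 q950 (flp_a L14203) q1212, e3 q951 (flp_a L14208) q1213, e3 q952 (flp_a L13154) q1144, e3 q953 (flp_a L13162) q1145, e3 q954 (flp_a L102005) q1011, e3 q955 L10524 q745, e3 q956 (flp_a L14269) q1222, e3 q957 (flp_a L14280) q1223, e3 q958 L10556 q928, e3 q959 L10564 q929, trivial⟩ (by decide +kernel)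

theorem ce_a_15 : ∀ r, r < 64 → sm ga (Qf (960 + r)) = Qf (tab Gen.a (960 + r)) :=
  edges_tab (sm ga) Qf (tab Gen.a) 960 [(960, 930), (961, 750), (962, 751), (963, 1232), (964, 1233), (965, 1234), (966, 1235), (967, 1151), (968, 1010), (969, 1152), (970, 1153), (971, 756), (972, 757), (973, 1246), (974, 1247), (975, 1248), (976, 1249), (977, 937), (978, 938), (979, 939), (980, 940), (981, 763), (982, 764), (983, 765), (984, 766), (985, 1259), (986, 1260), (987, 1261), (988, 1262), (989, 1263), (990, 1264), (991, 992), (992, 991), (993, 773), (994, 774), (995, 775), (996, 776), (997, 1273), (998, 1274), (999, 1275), (1000, 1276), (1001, 1277), (1002, 1278), (1003, 1004), (1004, 1003), (1005, 1165), (1006, 784), (1007, 785), (1008, 786), (1009, 1290), (1010, 968), (1011, 954), (1012, 1294), (1013, 1013), (1014, 1014), (1015, 791), (1016, 1299), (1017, 1017), (1018, 1018), (1019, 1019), (1020, 795), (1021, 1305), (1022, 1306), (1023, 1023)]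
    ⟨e3 q960 L10572 q930, e3 q961 L10584 q750, e3 q962 L10589 q751, e3 q963 (flp_a L14366) q1232, e3 q964 (flp_a L14373) q1233, e3 q965 (flp_a L14379) q1234, e3 q966 (flp_a L14386) q1235, e3 q967 (flp_a L13224) q1151, e3 q968 L109285 q1010, e3 q969 (flp_a L13237) q1152, e3 q970 (flp_a L13245) q1153, e3 q971 L10648 q756, e3 q972 L10660 q757, e3 q973 (flp_a L14459) q1246, e3 q974 (flp_a L14471) q1247, e3 q975 (flp_a L14481) q1248, e3 q976 (flp_a L14492) q1249, e3 q977 L10710 q937, e3 q978 L10719 q938, e3 q979 L10730 q939, e3 q980 L10738 q940, e3 q981 L10750 q763, e3 q982 L10758 q764, e3 q983 L10764 q765, e3 q984 L10772 q766, e3 q985 (flp_a L14604) q1259, e3 q986 (flp_a L14612) q1260, e3 q987 (flp_a L14621) q1261, e3 q988 (flp_a L14625) q1262, e3 q989 (flp_a L14633) q1263, e3 q990 (flp_a L14641) q1264, e3 q991 (flp_a L109235) q992, e3 q992 L109235 q991, e3 q993 L10851 q773, e3 q994 L10860 q774, e3 q995 L10867 q775, e3 q996 L10873 q776, e3 q997 (flp_a L14747) q1273, e3 q998 (flp_a L14756) q1274,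 e3 q999 (flp_a L14764) q1275, e3 q1000 (flp_a L14772) q1276, e3 q1001 (flp_a L14780) q1277, e3 q1002 (flp_a L14786) q1278, e3 q1003 L109293 q1004, e3 q1004 (flp_a L109293) q1003, e3 q1005 (flp_a L13468) q1165, e3 q1006 L10953 q784, e3 q1007 L10970 q785, e3 q1008 L10977 q786, e3 q1009 (flp_a L14903) q1290, e3 q1010 (flp_a L109285) q968, e3 q1011 L102005 q954, e3 q1012 L15049 q1294, e3 q1013 L11099 q1013, e3 q1014 L11107 q1014, e3 q1015 (flp_a L11113) q791, e3 q1016 (flp_a L15094) q1299, e3 q1017 L11131 q1017, e3 q1018 L11137 q1018, e3 q1019 L11146 q1019, e3 q1020 L11155 q795, e3 q1021 (flp_a L15141) q1305, e3 q1022 (flp_a L15150) q1306, e3 q1023 L11178 q1023, trivial⟩ (by decide +kernel)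

theorem ce_a_16 : ∀ r, r < 64 → sm ga (Qf (1024 + r)) = Qf (tab Gen.a (1024 + r)) :=
  edges_tab (sm ga) Qf (tab Gen.a) 1024 [(1024, 1024), (1025, 1025), (1026, 800), (1027, 801), (1028, 1315), (1029, 1316), (1030, 1317), (1031, 1318), (1032, 1032), (1033, 1033), (1034, 1034), (1035, 1035), (1036, 806), (1037, 807), (1038, 1329), (1039, 1330), (1040, 1331), (1041, 1332), (1042, 1042), (1043, 1043), (1044, 1044), (1045, 1045), (1046, 813), (1047, 814), (1048, 815), (1049, 816), (1050, 1340), (1051, 1341), (1052, 1342), (1053, 1343), (1054, 1344), (1055, 1345), (1056, 1056), (1057, 1057), (1058, 1058), (1059, 1059), (1060, 823), (1061, 824), (1062, 825), (1063, 826), (1064, 1356), (1065, 1357), (1066, 1358), (1067, 1359), (1068, 1360), (1069, 1069), (1070, 1070), (1071, 1071), (1072, 1072), (1073, 833), (1074, 834), (1075, 835), (1076, 1369), (1077, 1370), (1078, 1371), (1079, 1079), (1080, 1080), (1081, 841), (1082, 842), (1083, 843), (1084, 844), (1085, 845), (1086, 1377), (1087, 1378)]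
    ⟨e3 q1024 L11187 q1024, e3 q1025 L11194 q1025, e3 q1026 L11203 q800, e3 q1027 L11210 q801, e3 q1028 (flp_a L15223) q1315, e3 q1029 (flp_a L15229) q1316, e3 q1030 (flp_a L15236) q1317, e3 q1031 (flp_a L15244) q1318, e3 q1032 L11243 q1032, e3 q1033 L11250 q1033, e3 q1034 L11258 q1034, e3 q1035 L11266 q1035, e3 q1036 L11274 q806, e3 q1037 L11283 q807, e3 q1038 (flp_a L15326) q1329, e3 q1039 (flp_a L15334) q1330, e3 q1040 (flp_a L15343) q1331, e3 q1041 (flp_a L15351) q1332, e3 q1042 L11324 q1042, e3 q1043 L11332 q1043, e3 q1044 L11340 q1044, e3 q1045 L11346 q1045, e3 q1046 L11354 q813, e3 q1047 L11360 q814, e3 q1048 L11367 q815, e3 q1049 L11376 q816, e3 q1050 (flp_a L15443) q1340, e3 q1051 (flp_a L15449) q1341, e3 q1052 (flp_a L15457) q1342, e3 q1053 (flp_a L15465) q1343, e3 q1054 (flp_a L15473) q1344, e3 q1055 (flp_a L15482) q1345, e3 q1056 L11426 q1056, e3 q1057 L11433 q1057, e3 q1058 L11440 q1058, e3 q1059 L11448 q1059, e3 q1060 L11455 q823, e3 q1061 L11464 q824, e3 q1062 L11473 q825,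 e3 q1063 L11483 q826, e3 q1064 (flp_a L15590) q1356, e3 q1065 (flp_a L15598) q1357, e3 q1066 (flp_a L15608) q1358, e3 q1067 (flp_a L15616) q1359, e3 q1068 (flp_a L15627) q1360, e3 q1069 L11534 q1069, e3 q1070 L11542 q1070, e3 q1071 L11550 q1071, e3 q1072 L11564 q1072, e3 q1073 L11568 q833, e3 q1074 L11575 q834, e3 q1075 L11582 q835, e3 q1076 (flp_a L15725) q1369, e3 q1077 (flp_a L15733) q1370, e3 q1078 (flp_a L15742) q1371, e3 q1079 L11614 q1079, e3 q1080 L11626 q1080, e3 q1081 L11630 q841, e3 q1082 L11638 q842, e3 q1083 L11647 q843, e3 q1084 L11657 q844, e3 q1085 L11665 q845, e3 q1086 (flp_a L15787) q1377, e3 q1087 (flp_a L15796) q1378, trivial⟩ (by decide +kernel)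

theorem ce_a_17 : ∀ r, r < 64 → sm ga (Qf (1088 + r)) = Qf (tab Gen.a (1088 + r)) :=
  edges_tab (sm ga) Qf (tab Gen.a) 1088 [(1088, 1379), (1089, 1380), (1090, 1381), (1091, 1382), (1092, 1092), (1093, 1093), (1094, 851), (1095, 852), (1096, 1391), (1097, 1392), (1098, 854), (1099, 857), (1100, 858), (1101, 859), (1102, 1398), (1103, 1399), (1104, 1400), (1105, 1401), (1106, 864), (1107, 865), (1108, 866), (1109, 867), (1110, 1406), (1111, 1407), (1112, 1408), (1113, 1113), (1114, 873), (1115, 874), (1116, 875), (1117, 1413), (1118, 1118), (1119, 880), (1120, 881), (1121, 882), (1122, 883), (1123, 884), (1124, 1416), (1125, 1417), (1126, 1418), (1127, 1419), (1128, 1420), (1129, 1421), (1130, 1422), (1131, 1131), (1132, 1132), (1133, 1133), (1134, 1134), (1135, 892), (1136, 893), (1137, 894), (1138, 1434), (1139, 1435), (1140, 1436), (1141, 897), (1142, 1439), (1143, 1440), (1144, 952), (1145, 953), (1146, 901), (1147, 902), (1148, 1447), (1149, 1448), (1150, 1449), (1151, 967)]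
    ⟨e3 q1088 (flp_a L15805) q1379, e3 q1089 (flp_a L15810) q1380, e3 q1090 (flp_a L15820) q1381, e3 q1091 (flp_a L15829) q1382, e3 q1092 L11719 q1092, e3 q1093 L11728 q1093, e3 q1094 L11736 q851, e3 q1095 L11744 q852, e3 q1096 (flp_a L15899) q1391, e3 q1097 (flp_a L15906) q1392, e3 q1098 L11767 q854, e3 q1099 L12171 q857, e3 q1100 L12180 q858, e3 q1101 L12188 q859, e3 q1102 (flp_a L16504) q1398, e3 q1103 (flp_a L16513) q1399, e3 q1104 (flp_a L16521) q1400, e3 q1105 (flp_a L16538) q1401, e3 q1106 L12281 q864, e3 q1107 L12291 q865, e3 q1108 L12301 q866, e3 q1109 L12310 q867, e3 q1110 (flp_a L16675) q1406, e3 q1111 (flp_a L16685) q1407, e3 q1112 (flp_a L16704) q1408, e3 q1113 L12410 q1113, e3 q1114 L12413 q873, e3 q1115 L12421 q874, e3 q1116 L12433 q875, e3 q1117 (flp_a L16874) q1413, e3 q1118 L12694 q1118, e3 q1119 L12698 q880, e3 q1120 L12706 q881, e3 q1121 L12714 q882, e3 q1122 L12723 q883, e3 q1123 L12732 q884, e3 q1124 (flp_a L17234) q1416, e3 q1125 (flp_a L17243) q1417, e3 q1126 (flp_a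 L17251) q1418, e3 q1127 (flp_a L17260) q1419, e3 q1128 (flp_a L17266) q1420, e3 q1129 (flp_a L17276) q1421, e3 q1130 (flp_a L17285) q1422, e3 q1131 L12794 q1131, e3 q1132 L12802 q1132, e3 q1133 L12811 q1133, e3 q1134 L12818 q1134, e3 q1135 L12825 q892, e3 q1136 L12833 q893, e3 q1137 L12840 q894, e3 q1138 (flp_a L17404) q1434, e3 q1139 (flp_a L17410) q1435, e3 q1140 (flp_a L17419) q1436, e3 q1141 L13133 q897, e3 q1142 (flp_a L17792) q1439, e3 q1143 (flp_a L17799) q1440, e3 q1144 L13154 q952, e3 q1145 L13162 q953, e3 q1146 L13179 q901, e3 q1147 L13186 q902, e3 q1148 (flp_a L17867) q1447, e3 q1149 (flp_a L17873) q1448, e3 q1150 (flp_a L17881) q1449, e3 q1151 L13224 q967, trivial⟩ (by decide +kernel)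

theorem ce_a_18 : ∀ r, r < 64 → sm ga (Qf (1152 + r)) = Qf (tab Gen.a (1152 + r)) :=
  edges_tab (sm ga) Qf (tab Gen.a) 1152 [(1152, 969), (1153, 970), (1154, 907), (1155, 908), (1156, 1458), (1157, 1459), (1158, 912), (1159, 913), (1160, 914), (1161, 1462), (1162, 1463), (1163, 1464), (1164, 1465), (1165, 1005), (1166, 917), (1167, 1470), (1168, 1203), (1169, 1204), (1170, 1205), (1171, 921), (1172, 1476), (1173, 1477), (1174, 1209), (1175, 1210), (1176, 1211), (1177, 926), (1178, 927), (1179, 1486), (1180, 1487), (1181, 1488), (1182, 1489), (1183, 1228), (1184, 1229), (1185, 1230), (1186, 1231), (1187, 933), (1188, 934), (1189, 935), (1190, 936), (1191, 1501), (1192, 1502), (1193, 1503), (1194, 1504), (1195, 1505), (1196, 1506), (1197, 1256), (1198, 1257), (1199, 1200), (1200, 1199), (1201, 941), (1202, 1519), (1203, 1168), (1204, 1169), (1205, 1170), (1206, 945), (1207, 1525), (1208, 1526), (1209, 1174), (1210, 1175), (1211, 1176), (1212, 950), (1213, 951), (1214, 1535), (1215, 1536)]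
    ⟨e3 q1152 L13237 q969, e3 q1153 L13245 q970, e3 q1154 L13252 q907, e3 q1155 L13259 q908, e3 q1156 (flp_a L17979) q1458, e3 q1157 (flp_a L17994) q1459, e3 q1158 L13363 q912, e3 q1159 L13371 q913, e3 q1160 L13380 q914, e3 q1161 (flp_a L18144) q1462, e3 q1162 (flp_a L18152) q1463, e3 q1163 (flp_a L18180) q1464, e3 q1164 (flp_a L18188) q1465, e3 q1165 L13468 q1005, e3 q1166 (flp_a L13799) q917, e3 q1167 (flp_a L18738) q1470, e3 q1168 (flp_a L14115) q1203, e3 q1169 (flp_a L14123) q1204, e3 q1170 (flp_a L14133) q1205, e3 q1171 L13842 q921, e3 q1172 (flp_a L18785) q1476, e3 q1173 (flp_a L18794) q1477, e3 q1174 (flp_a L14174) q1209, e3 q1175 (flp_a L14184) q1210, e3 q1176 (flp_a L14193) q1211, e3 q1177 L13890 q926, e3 q1178 L13899 q927, e3 q1179 (flp_a L18869) q1486, e3 q1180 (flp_a L18879) q1487, e3 q1181 (flp_a L18887) q1488, e3 q1182 (flp_a L18895) q1489, e3 q1183 (flp_a L14330) q1228, e3 q1184 (flp_a L14340) q1229, e3 q1185 (flp_a L14349) q1230, e3 q1186 (flp_a L14356) q1231, e3 q1187 L13972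 q933, e3 q1188 L13983 q934, e3 q1189 L13991 q935, e3 q1190 L14000 q936, e3 q1191 (flp_a L18993) q1501, e3 q1192 (flp_a L19002) q1502, e3 q1193 (flp_a L19012) q1503, e3 q1194 (flp_a L19020) q1504, e3 q1195 (flp_a L19030) q1505, e3 q1196 (flp_a L19037) q1506, e3 q1197 (flp_a L14559) q1256, e3 q1198 (flp_a L14568) q1257, e3 q1199 L108866 q1200, e3 q1200 (flp_a L108866) q1199, e3 q1201 (flp_a L14091) q941, e3 q1202 (flp_a L19167) q1519, e3 q1203 L14115 q1168, e3 q1204 L14123 q1169, e3 q1205 L14133 q1170, e3 q1206 L14145 q945, e3 q1207 (flp_a L19224) q1525, e3 q1208 (flp_a L19235) q1526, e3 q1209 L14174 q1174, e3 q1210 L14184 q1175, e3 q1211 L14193 q1176, e3 q1212 L14203 q950, e3 q1213 L14208 q951, e3 q1214 (flp_a L19323) q1535, e3 q1215 (flp_a L19330) q1536, trivial⟩ (by decide +kernel)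

theorem ce_a_19 : ∀ r, r < 64 → sm ga (Qf (1216 + r)) = Qf (tab Gen.a (1216 + r)) :=
  edges_tab (sm ga) Qf (tab Gen.a) 1216 [(1216, 1537), (1217, 1538), (1218, 1444), (1219, 1292), (1220, 1445), (1221, 1446), (1222, 956), (1223, 957), (1224, 1549), (1225, 1550), (1226, 1551), (1227, 1552), (1228, 1183), (1229, 1184), (1230, 1185), (1231, 1186), (1232, 963), (1233, 964), (1234, 965), (1235, 966), (1236, 1564), (1237, 1565), (1238, 1566), (1239, 1567), (1240, 1568), (1241, 1569), (1242, 1271), (1243, 1455), (1244, 1287), (1245, 1456), (1246, 973), (1247, 974), (1248, 975), (1249, 976), (1250, 1585), (1251, 1586), (1252, 1587), (1253, 1588), (1254, 1589), (1255, 1590), (1256, 1197), (1257, 1198), (1258, 1258), (1259, 985), (1260, 986), (1261, 987), (1262, 988), (1263, 989), (1264, 990), (1265, 1600), (1266, 1601), (1267, 1602), (1268, 1603), (1269, 1604), (1270, 1605), (1271, 1242), (1272, 1272), (1273, 997), (1274, 998), (1275, 999), (1276, 1000), (1277, 1001), (1278, 1002), (1279, 1613)]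
    ⟨e3 q1216 (flp_a L19336) q1537, e3 q1217 (flp_a L19342) q1538, e3 q1218 (flp_a L17834) q1444, e3 q1219 (flp_a L109270) q1292, e3 q1220 (flp_a L17850) q1445, e3 q1221 (flp_a L17859) q1446, e3 q1222 L14269 q956, e3 q1223 L14280 q957, e3 q1224 (flp_a L19419) q1549, e3 q1225 (flp_a L19430) q1550, e3 q1226 (flp_a L19440) q1551, e3 q1227 (flp_a L19450) q1552, e3 q1228 L14330 q1183, e3 q1229 L14340 q1184, e3 q1230 L14349 q1185, e3 q1231 L14356 q1186, e3 q1232 L14366 q963, e3 q1233 L14373 q964, e3 q1234 L14379 q965, e3 q1235 L14386 q966, e3 q1236 (flp_a L19555) q1564, e3 q1237 (flp_a L19563) q1565, e3 q1238 (flp_a L19570) q1566, e3 q1239 (flp_a L19576) q1567, e3 q1240 (flp_a L19583) q1568, e3 q1241 (flp_a L19591) q1569, e3 q1242 L109258 q1271, e3 q1243 (flp_a L17948) q1455, e3 q1244 L109308 q1287, e3 q1245 (flp_a L17963) q1456, e3 q1246 L14459 q973, e3 q1247 L14471 q974, e3 q1248 L14481 q975, e3 q1249 L14492 q976, e3 q1250 (flp_a L19699) q1585, e3 q1251 (flp_a L19709) q1586, e3 q1252 (flp_a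 L19719) q1587, e3 q1253 (flp_a L19729) q1588, e3 q1254 (flp_a L19741) q1589, e3 q1255 (flp_a L19750) q1590, e3 q1256 L14559 q1197, e3 q1257 L14568 q1198, e3 q1258 L14601 q1258, e3 q1259 L14604 q985, e3 q1260 L14612 q986, e3 q1261 L14621 q987, e3 q1262 L14625 q988, e3 q1263 L14633 q989, e3 q1264 L14641 q990, e3 q1265 (flp_a L19908) q1600, e3 q1266 (flp_a L19914) q1601, e3 q1267 (flp_a L19924) q1602, e3 q1268 (flp_a L19933) q1603, e3 q1269 (flp_a L19942) q1604, e3 q1270 (flp_a L19948) q1605, e3 q1271 (flp_a L109258) q1242, e3 q1272 L14744 q1272, e3 q1273 L14747 q997, e3 q1274 L14756 q998, e3 q1275 L14764 q999, e3 q1276 L14772 q1000, e3 q1277 L14780 q1001, e3 q1278 L14786 q1002, e3 q1279 (flp_a L20091) q1613, trivial⟩ (by decide +kernel)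

theorem ce_a_20 : ∀ r, r < 64 → sm ga (Qf (1280 + r)) = Qf (tab Gen.a (1280 + r)) :=
  edges_tab (sm ga) Qf (tab Gen.a) 1280 [(1280, 1614), (1281, 1615), (1282, 1616), (1283, 1617), (1284, 1618), (1285, 1619), (1286, 1620), (1287, 1244), (1288, 1289), (1289, 1288), (1290, 1009), (1291, 1632), (1292, 1219), (1293, 1635), (1294, 1012), (1295, 1636), (1296, 1296), (1297, 1297), (1298, 1298), (1299, 1016), (1300, 1639), (1301, 1640), (1302, 1302), (1303, 1303), (1304, 1304), (1305, 1021), (1306, 1022), (1307, 1645), (1308, 1646), (1309, 1647), (1310, 1648), (1311, 1311), (1312, 1312), (1313, 1313), (1314, 1314), (1315, 1028), (1316, 1029), (1317, 1030), (1318, 1031), (1319, 1656), (1320, 1657), (1321, 1658), (1322, 1659), (1323, 1660), (1324, 1661), (1325, 1325), (1326, 1326), (1327, 1327), (1328, 1328), (1329, 1038), (1330, 1039), (1331, 1040), (1332, 1041), (1333, 1672), (1334, 1673), (1335, 1674), (1336, 1675), (1337, 1676), (1338, 1677), (1339, 1655), (1340, 1050), (1341, 1051), (1342,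 1052), (1343, 1053)]
    ⟨e3 q1280 (flp_a L20100) q1614, e3 q1281 (flp_a L20110) q1615, e3 q1282 (flp_a L20118) q1616, e3 q1283 (flp_a L20125) q1617, e3 q1284 (flp_a L20143) q1618, e3 q1285 (flp_a L20150) q1619, e3 q1286 (flp_a L20157) q1620, e3 q1287 (flp_a L109308) q1244, e3 q1288 L99324 q1289, e3 q1289 (flp_a L99324) q1288, e3 q1290 L14903 q1009, e3 q1291 (flp_a L20307) q1632, e3 q1292 L109270 q1219, e3 q1293 L20453 q1635, e3 q1294 (flp_a L15049) q1012, e3 q1295 (flp_a L20475) q1636, e3 q1296 L15069 q1296, e3 q1297 L15077 q1297, e3 q1298 L15085 q1298, e3 q1299 L15094 q1016, e3 q1300 (flp_a L20524) q1639, e3 q1301 (flp_a L20531) q1640, e3 q1302 L15117 q1302, e3 q1303 L15124 q1303, e3 q1304 L15131 q1304, e3 q1305 L15141 q1021, e3 q1306 L15150 q1022, e3 q1307 (flp_a L20598) q1645, e3 q1308 (flp_a L20606) q1646, e3 q1309 (flp_a L20615) q1647, e3 q1310 (flp_a L20622) q1648, e3 q1311 L15188 q1311, e3 q1312 L15197 q1312, e3 q1313 L15207 q1313, e3 q1314 L15214 q1314, e3 q1315 L15223 q1028, e3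 q1316 L15229 q1029, e3 q1317 L15236 q1030, e3 q1318 L15244 q1031, e3 q1319 (flp_a L20720) q1656, e3 q1320 (flp_a L20726) q1657, e3 q1321 (flp_a L20734) q1658, e3 q1322 (flp_a L20741) q1659, e3 q1323 (flp_a L20749) q1660, e3 q1324 (flp_a L20757) q1661, e3 q1325 L15293 q1325, e3 q1326 L15301 q1326, e3 q1327 L15309 q1327, e3 q1328 L15318 q1328, e3 q1329 L15326 q1038, e3 q1330 L15334 q1039, e3 q1331 L15343 q1040, e3 q1332 L15351 q1041, e3 q1333 (flp_a L20878) q1672, e3 q1334 (flp_a L20886) q1673, e3 q1335 (flp_a L20894) q1674, e3 q1336 (flp_a L20904) q1675, e3 q1337 (flp_a L20914) q1676, e3 q1338 (flp_a L20922) q1677, e3 q1339 (flp_a L20715) q1655, e3 q1340 L15443 q1050, e3 q1341 L15449 q1051, e3 q1342 L15457 q1052, e3 q1343 L15465 q1053, trivial⟩ (by decide +kernel)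

theorem ce_a_21 : ∀ r, r < 64 → sm ga (Qf (1344 + r)) = Qf (tab Gen.a (1344 + r)) :=
  edges_tab (sm ga) Qf (tab Gen.a) 1344 [(1344, 1054), (1345, 1055), (1346, 1685), (1347, 1686), (1348, 1687), (1349, 1688), (1350, 1689), (1351, 1690), (1352, 1691), (1353, 1692), (1354, 1693), (1355, 1355), (1356, 1064), (1357, 1065), (1358, 1066), (1359, 1067), (1360, 1068), (1361, 1704), (1362, 1705), (1363, 1706), (1364, 1707), (1365, 1708), (1366, 1709), (1367, 1710), (1368, 1368), (1369, 1076), (1370, 1077), (1371, 1078), (1372, 1719), (1373, 1720), (1374, 1721), (1375, 1375), (1376, 1376), (1377, 1086), (1378, 1087), (1379, 1088), (1380, 1089), (1381, 1090), (1382, 1091), (1383, 1729), (1384, 1730), (1385, 1731), (1386, 1732), (1387, 1733), (1388, 1734), (1389, 1389), (1390, 1390), (1391, 1096), (1392, 1097), (1393, 1745), (1394, 1746), (1395, 1747), (1396, 1396), (1397, 1397), (1398, 1102), (1399, 1103), (1400, 1104), (1401, 1105), (1402, 1753), (1403, 1754), (1404, 1755), (1405, 1405), (1406,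 1110), (1407, 1111)]
    ⟨e3 q1344 L15473 q1054, e3 q1345 L15482 q1055, e3 q1346 (flp_a L21050) q1685, e3 q1347 (flp_a L21057) q1686, e3 q1348 (flp_a L21064) q1687, e3 q1349 (flp_a L21072) q1688, e3 q1350 (flp_a L21079) q1689, e3 q1351 (flp_a L21087) q1690, e3 q1352 (flp_a L21096) q1691, e3 q1353 (flp_a L21105) q1692, e3 q1354 (flp_a L21115) q1693, e3 q1355 L15586 q1355, e3 q1356 L15590 q1064, e3 q1357 L15598 q1065, e3 q1358 L15608 q1066, e3 q1359 L15616 q1067, e3 q1360 L15627 q1068, e3 q1361 (flp_a L21242) q1704, e3 q1362 (flp_a L21251) q1705, e3 q1363 (flp_a L21261) q1706, e3 q1364 (flp_a L21270) q1707, e3 q1365 (flp_a L21278) q1708, e3 q1366 (flp_a L21287) q1709, e3 q1367 (flp_a L21296) q1710, e3 q1368 L15718 q1368, e3 q1369 L15725 q1076, e3 q1370 L15733 q1077, e3 q1371 L15742 q1078, e3 q1372 (flp_a L21422) q1719, e3 q1373 (flp_a L21427) q1720, e3 q1374 (flp_a L21436) q1721, e3 q1375 L15770 q1375, e3 q1376 L15778 q1376, e3 q1377 L15787 q1086, e3 q1378 L15796 q1087, e3 q1379 L15805 q1088,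 e3 q1380 L15810 q1089, e3 q1381 L15820 q1090, e3 q1382 L15829 q1091, e3 q1383 (flp_a L21498) q1729, e3 q1384 (flp_a L21508) q1730, e3 q1385 (flp_a L21514) q1731, e3 q1386 (flp_a L21524) q1732, e3 q1387 (flp_a L21531) q1733, e3 q1388 (flp_a L21538) q1734, e3 q1389 L15882 q1389, e3 q1390 L15890 q1390, e3 q1391 L15899 q1096, e3 q1392 L15906 q1097, e3 q1393 (flp_a L21617) q1745, e3 q1394 (flp_a L21624) q1746, e3 q1395 (flp_a L21632) q1747, e3 q1396 L15937 q1396, e3 q1397 L16501 q1397, e3 q1398 L16504 q1102, e3 q1399 L16513 q1103, e3 q1400 L16521 q1104, e3 q1401 L16538 q1105, e3 q1402 (flp_a L22462) q1753, e3 q1403 (flp_a L22481) q1754, e3 q1404 (flp_a L22489) q1755, e3 q1405 L16670 q1405, e3 q1406 L16675 q1110, e3 q1407 L16685 q1111, trivial⟩ (by decide +kernel)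

theorem ce_a_22 : ∀ r, r < 64 → sm ga (Qf (1408 + r)) = Qf (tab Gen.a (1408 + r)) :=
  edges_tab (sm ga) Qf (tab Gen.a) 1408 [(1408, 1112), (1409, 1760), (1410, 1761), (1411, 1411), (1412, 1412), (1413, 1117), (1414, 1414), (1415, 1415), (1416, 1124), (1417, 1125), (1418, 1126), (1419, 1127), (1420, 1128), (1421, 1129), (1422, 1130), (1423, 1767), (1424, 1768), (1425, 1769), (1426, 1770), (1427, 1771), (1428, 1772), (1429, 1773), (1430, 1774), (1431, 1775), (1432, 1432), (1433, 1433), (1434, 1138), (1435, 1139), (1436, 1140), (1437, 1782), (1438, 1783), (1439, 1142), (1440, 1143), (1441, 1785), (1442, 1786), (1443, 1787), (1444, 1218), (1445, 1220), (1446, 1221), (1447, 1148), (1448, 1149), (1449, 1150), (1450, 1796), (1451, 1797), (1452, 1798), (1453, 1799), (1454, 1800), (1455, 1243), (1456, 1245), (1457, 1457), (1458, 1156), (1459, 1157), (1460, 1809), (1461, 1461), (1462, 1161), (1463, 1162), (1464, 1163), (1465, 1164), (1466, 1813), (1467, 1814), (1468, 1815), (1469, 1816), (1470,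 1167), (1471, 1821)]
    ⟨e3 q1408 L16704 q1112, e3 q1409 (flp_a L22706) q1760, e3 q1410 (flp_a L22724) q1761, e3 q1411 L16855 q1411, e3 q1412 L16862 q1412, e3 q1413 L16874 q1117, e3 q1414 L17218 q1414, e3 q1415 L17226 q1415, e3 q1416 L17234 q1124, e3 q1417 L17243 q1125, e3 q1418 L17251 q1126, e3 q1419 L17260 q1127, e3 q1420 L17266 q1128, e3 q1421 L17276 q1129, e3 q1422 L17285 q1130, e3 q1423 (flp_a L23434) q1767, e3 q1424 (flp_a L23442) q1768, e3 q1425 (flp_a L23452) q1769, e3 q1426 (flp_a L23462) q1770, e3 q1427 (flp_a L23471) q1771, e3 q1428 (flp_a L23479) q1772, e3 q1429 (flp_a L23486) q1773, e3 q1430 (flp_a L23495) q1774, e3 q1431 (flp_a L23505) q1775, e3 q1432 L17389 q1432, e3 q1433 L17397 q1433, e3 q1434 L17404 q1138, e3 q1435 L17410 q1139, e3 q1436 L17419 q1140, e3 q1437 (flp_a L23630) q1782, e3 q1438 (flp_a L23644) q1783, e3 q1439 L17792 q1142, e3 q1440 L17799 q1143, e3 q1441 (flp_a L24131) q1785, e3 q1442 (flp_a L24137) q1786, e3 q1443 (flp_a L24145) q1787, e3 q1444 L17834 q1218,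 e3 q1445 L17850 q1220, e3 q1446 L17859 q1221, e3 q1447 L17867 q1148, e3 q1448 L17873 q1149, e3 q1449 L17881 q1150, e3 q1450 (flp_a L24244) q1796, e3 q1451 (flp_a L24251) q1797, e3 q1452 (flp_a L24258) q1798, e3 q1453 (flp_a L24275) q1799, e3 q1454 (flp_a L24285) q1800, e3 q1455 L17948 q1243, e3 q1456 L17963 q1245, e3 q1457 L17974 q1457, e3 q1458 L17979 q1156, e3 q1459 L17994 q1157, e3 q1460 (flp_a L24407) q1809, e3 q1461 L18139 q1461, e3 q1462 L18144 q1161, e3 q1463 L18152 q1162, e3 q1464 L18180 q1163, e3 q1465 L18188 q1164, e3 q1466 (flp_a L24656) q1813, e3 q1467 (flp_a L24664) q1814, e3 q1468 (flp_a L24670) q1815, e3 q1469 (flp_a L24708) q1816, e3 q1470 L18738 q1167, e3 q1471 (flp_a L25438) q1821, trivial⟩ (by decide +kernel)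

theorem ce_a_23 : ∀ r, r < 64 → sm ga (Qf (1472 + r)) = Qf (tab Gen.a (1472 + r)) :=
  edges_tab (sm ga) Qf (tab Gen.a) 1472 [(1472, 1822), (1473, 1522), (1474, 1523), (1475, 1524), (1476, 1172), (1477, 1173), (1478, 1831), (1479, 1832), (1480, 1833), (1481, 1834), (1482, 1531), (1483, 1532), (1484, 1533), (1485, 1534), (1486, 1179), (1487, 1180), (1488, 1181), (1489, 1182), (1490, 1846), (1491, 1847), (1492, 1848), (1493, 1849), (1494, 1850), (1495, 1851), (1496, 1559), (1497, 1560), (1498, 1561), (1499, 1562), (1500, 1500), (1501, 1191), (1502, 1192), (1503, 1193), (1504, 1194), (1505, 1195), (1506, 1196), (1507, 1868), (1508, 1869), (1509, 1870), (1510, 1871), (1511, 1872), (1512, 1873), (1513, 1874), (1514, 1875), (1515, 1876), (1516, 1517), (1517, 1516), (1518, 1579), (1519, 1202), (1520, 1889), (1521, 1890), (1522, 1473), (1523, 1474), (1524, 1475), (1525, 1207), (1526, 1208), (1527, 1899), (1528, 1900), (1529, 1901), (1530, 1902), (1531, 1482), (1532, 1483), (1533, 1484), (1534,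 1485), (1535, 1214)]
    ⟨e3 q1472 (flp_a L25445) q1822, e3 q1473 (flp_a L19196) q1522, e3 q1474 (flp_a L19204) q1523, e3 q1475 (flp_a L19213) q1524, e3 q1476 L18785 q1172, e3 q1477 L18794 q1173, e3 q1478 (flp_a L25514) q1831, e3 q1479 (flp_a L25524) q1832, e3 q1480 (flp_a L25532) q1833, e3 q1481 (flp_a L25539) q1834, e3 q1482 (flp_a L19282) q1531, e3 q1483 (flp_a L19293) q1532, e3 q1484 (flp_a L19304) q1533, e3 q1485 (flp_a L19312) q1534, e3 q1486 L18869 q1179, e3 q1487 L18879 q1180, e3 q1488 L18887 q1181, e3 q1489 L18895 q1182, e3 q1490 (flp_a L25639) q1846, e3 q1491 (flp_a L25648) q1847, e3 q1492 (flp_a L25657) q1848, e3 q1493 (flp_a L25667) q1849, e3 q1494 (flp_a L25676) q1850, e3 q1495 (flp_a L25683) q1851, e3 q1496 (flp_a L19515) q1559, e3 q1497 (flp_a L19525) q1560, e3 q1498 (flp_a L19533) q1561, e3 q1499 (flp_a L19541) q1562, e3 q1500 L18990 q1500, e3 q1501 L18993 q1191, e3 q1502 L19002 q1192, e3 q1503 L19012 q1193, e3 q1504 L19020 q1194, e3 q1505 L19030 q1195, e3 q1506 L19037 q1196,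 e3 q1507 (flp_a L25819) q1868, e3 q1508 (flp_a L25829) q1869, e3 q1509 (flp_a L25840) q1870, e3 q1510 (flp_a L25848) q1871, e3 q1511 (flp_a L25857) q1872, e3 q1512 (flp_a L25869) q1873, e3 q1513 (flp_a L25877) q1874, e3 q1514 (flp_a L25885) q1875, e3 q1515 (flp_a L25894) q1876, e3 q1516 (flp_a L109071) q1517, e3 q1517 L109071 q1516, e3 q1518 L109230 q1579, e3 q1519 L19167 q1202, e3 q1520 (flp_a L26045) q1889, e3 q1521 (flp_a L26054) q1890, e3 q1522 L19196 q1473, e3 q1523 L19204 q1474, e3 q1524 L19213 q1475, e3 q1525 L19224 q1207, e3 q1526 L19235 q1208, e3 q1527 (flp_a L26136) q1899, e3 q1528 (flp_a L26147) q1900, e3 q1529 (flp_a L26157) q1901, e3 q1530 (flp_a L26166) q1902, e3 q1531 L19282 q1482, e3 q1532 L19293 q1483, e3 q1533 L19304 q1484, e3 q1534 L19312 q1485, e3 q1535 L19323 q1214, trivial⟩ (by decide +kernel)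

theorem ce_a_24 : ∀ r, r < 64 → sm ga (Qf (1536 + r)) = Qf (tab Gen.a (1536 + r)) :=
  edges_tab (sm ga) Qf (tab Gen.a) 1536 [(1536, 1215), (1537, 1216), (1538, 1217), (1539, 1914), (1540, 1915), (1541, 1916), (1542, 1917), (1543, 1918), (1544, 1919), (1545, 1610), (1546, 1793), (1547, 1630), (1548, 1794), (1549, 1224), (1550, 1225), (1551, 1226), (1552, 1227), (1553, 1935), (1554, 1936), (1555, 1937), (1556, 1938), (1557, 1939), (1558, 1940), (1559, 1496), (1560, 1497), (1561, 1498), (1562, 1499), (1563, 1913), (1564, 1236), (1565, 1237), (1566, 1238), (1567, 1239), (1568, 1240), (1569, 1241), (1570, 1956), (1571, 1957), (1572, 1958), (1573, 1959), (1574, 1960), (1575, 1961), (1576, 1962), (1577, 1963), (1578, 1964), (1579, 1518), (1580, 1581), (1581, 1580), (1582, 1807), (1583, 1631), (1584, 1584), (1585, 1250), (1586, 1251), (1587, 1252), (1588, 1253), (1589, 1254), (1590, 1255), (1591, 1983), (1592, 1984), (1593, 1985), (1594, 1986), (1595, 1987), (1596, 1988), (1597, 1989), (1598,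 1598), (1599, 1599)]
    ⟨e3 q1536 L19330 q1215, e3 q1537 L19336 q1216, e3 q1538 L19342 q1217, e3 q1539 (flp_a L26277) q1914, e3 q1540 (flp_a L26285) q1915, e3 q1541 (flp_a L26292) q1916, e3 q1542 (flp_a L26297) q1917, e3 q1543 (flp_a L26304) q1918, e3 q1544 (flp_a L26311) q1919, e3 q1545 (flp_a L109243) q1610, e3 q1546 (flp_a L24211) q1793, e3 q1547 (flp_a L109299) q1630, e3 q1548 (flp_a L24229) q1794, e3 q1549 L19419 q1224, e3 q1550 L19430 q1225, e3 q1551 L19440 q1226, e3 q1552 L19450 q1227, e3 q1553 (flp_a L26426) q1935, e3 q1554 (flp_a L26436) q1936, e3 q1555 (flp_a L26445) q1937, e3 q1556 (flp_a L26457) q1938, e3 q1557 (flp_a L26468) q1939, e3 q1558 (flp_a L26477) q1940, e3 q1559 L19515 q1496, e3 q1560 L19525 q1497, e3 q1561 L19533 q1498, e3 q1562 L19541 q1499, e3 q1563 (flp_a L26273) q1913, e3 q1564 L19555 q1236, e3 q1565 L19563 q1237, e3 q1566 L19570 q1238, e3 q1567 L19576 q1239, e3 q1568 L19583 q1240, e3 q1569 L19591 q1241, e3 q1570 (flp_a L26621) q1956, e3 q1571 (flp_a L26627)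 q1957, e3 q1572 (flp_a L26636) q1958, e3 q1573 (flp_a L26644) q1959, e3 q1574 (flp_a L26653) q1960, e3 q1575 (flp_a L26660) q1961, e3 q1576 (flp_a L26668) q1962, e3 q1577 (flp_a L26674) q1963, e3 q1578 (flp_a L26683) q1964, e3 q1579 (flp_a L109230) q1518, e3 q1580 (flp_a L109289) q1581, e3 q1581 L109289 q1580, e3 q1582 (flp_a L24375) q1807, e3 q1583 (flp_a L109332) q1631, e3 q1584 L19694 q1584, e3 q1585 L19699 q1250, e3 q1586 L19709 q1251, e3 q1587 L19719 q1252, e3 q1588 L19729 q1253, e3 q1589 L19741 q1254, e3 q1590 L19750 q1255, e3 q1591 (flp_a L26835) q1983, e3 q1592 (flp_a L26845) q1984, e3 q1593 (flp_a L26857) q1985, e3 q1594 (flp_a L26865) q1986, e3 q1595 (flp_a L26874) q1987, e3 q1596 (flp_a L26886) q1988, e3 q1597 (flp_a L26896) q1989, e3 q1598 L19893 q1598, e3 q1599 L19900 q1599, trivial⟩ (by decide +kernel)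

theorem ce_a_25 : ∀ r, r < 64 → sm ga (Qf (1600 + r)) = Qf (tab Gen.a (1600 + r)) :=
  edges_tab (sm ga) Qf (tab Gen.a) 1600 [(1600, 1265), (1601, 1266), (1602, 1267), (1603, 1268), (1604, 1269), (1605, 1270), (1606, 1999), (1607, 2000), (1608, 2001), (1609, 2002), (1610, 1545), (1611, 1611), (1612, 1612), (1613, 1279), (1614, 1280), (1615, 1281), (1616, 1282), (1617, 1283), (1618, 1284), (1619, 1285), (1620, 1286), (1621, 2013), (1622, 2014), (1623, 2015), (1624, 2016), (1625, 2017), (1626, 2018), (1627, 2019), (1628, 2020), (1629, 2021), (1630, 1547), (1631, 1583), (1632, 1291), (1633, 2035), (1634, 2037), (1635, 1293), (1636, 1295), (1637, 2038), (1638, 2039), (1639, 1300), (1640, 1301), (1641, 2041), (1642, 2042), (1643, 2043), (1644, 2044), (1645, 1307), (1646, 1308), (1647, 1309), (1648, 1310), (1649, 2048), (1650, 2049), (1651, 2050), (1652, 2051), (1653, 2052), (1654, 2053), (1655, 1339), (1656, 1319), (1657, 1320), (1658, 1321), (1659, 1322), (1660, 1323), (1661, 1324), (1662,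 2061), (1663, 2062)]
    ⟨e3 q1600 L19908 q1265, e3 q1601 L19914 q1266, e3 q1602 L19924 q1267, e3 q1603 L19933 q1268, e3 q1604 L19942 q1269, e3 q1605 L19948 q1270, e3 q1606 (flp_a L27122) q1999, e3 q1607 (flp_a L27128) q2000, e3 q1608 (flp_a L27136) q2001, e3 q1609 (flp_a L27178) q2002, e3 q1610 L109243 q1545, e3 q1611 L20076 q1611, e3 q1612 L20084 q1612, e3 q1613 L20091 q1279, e3 q1614 L20100 q1280, e3 q1615 L20110 q1281, e3 q1616 L20118 q1282, e3 q1617 L20125 q1283, e3 q1618 L20143 q1284, e3 q1619 L20150 q1285, e3 q1620 L20157 q1286, e3 q1621 (flp_a L27377) q2013, e3 q1622 (flp_a L27386) q2014, e3 q1623 (flp_a L27395) q2015, e3 q1624 (flp_a L27403) q2016, e3 q1625 (flp_a L27412) q2017, e3 q1626 (flp_a L27420) q2018, e3 q1627 (flp_a L27444) q2019, e3 q1628 (flp_a L27451) q2020, e3 q1629 (flp_a L27459) q2021, e3 q1630 L109299 q1547, e3 q1631 L109332 q1583, e3 q1632 L20307 q1291, e3 q1633 (flp_a L27657) q2035, e3 q1634 L27755 q2037, e3 q1635 (flp_a L20453) q1293, e3 q1636 L20475 q1295, e3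 q1637 (flp_a L27855) q2038, e3 q1638 (flp_a L27864) q2039, e3 q1639 L20524 q1300, e3 q1640 L20531 q1301, e3 q1641 (flp_a L27937) q2041, e3 q1642 (flp_a L27943) q2042, e3 q1643 (flp_a L27951) q2043, e3 q1644 (flp_a L27959) q2044, e3 q1645 L20598 q1307, e3 q1646 L20606 q1308, e3 q1647 L20615 q1309, e3 q1648 L20622 q1310, e3 q1649 (flp_a L28052) q2048, e3 q1650 (flp_a L28060) q2049, e3 q1651 (flp_a L28068) q2050, e3 q1652 (flp_a L28077) q2051, e3 q1653 (flp_a L28087) q2052, e3 q1654 (flp_a L28094) q2053, e3 q1655 L20715 q1339, e3 q1656 L20720 q1319, e3 q1657 L20726 q1320, e3 q1658 L20734 q1321, e3 q1659 L20741 q1322, e3 q1660 L20749 q1323, e3 q1661 L20757 q1324, e3 q1662 (flp_a L28235) q2061, e3 q1663 (flp_a L28242) q2062, trivial⟩ (by decide +kernel)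

theorem ce_a_26 : ∀ r, r < 64 → sm ga (Qf (1664 + r)) = Qf (tab Gen.a (1664 + r)) :=
  edges_tab (sm ga) Qf (tab Gen.a) 1664 [(1664, 2063), (1665, 2064), (1666, 2065), (1667, 2066), (1668, 2067), (1669, 2068), (1670, 2069), (1671, 2047), (1672, 1333), (1673, 1334), (1674, 1335), (1675, 1336), (1676, 1337), (1677, 1338), (1678, 2080), (1679, 2081), (1680, 2082), (1681, 2083), (1682, 2084), (1683, 2059), (1684, 2060), (1685, 1346), (1686, 1347), (1687, 1348), (1688, 1349), (1689, 1350), (1690, 1351), (1691, 1352), (1692, 1353), (1693, 1354), (1694, 2094), (1695, 2095), (1696, 2096), (1697, 2097), (1698, 2098), (1699, 2099), (1700, 2100), (1701, 2101), (1702, 1702), (1703, 1703), (1704, 1361), (1705, 1362), (1706, 1363), (1707, 1364), (1708, 1365), (1709, 1366), (1710, 1367), (1711, 2115), (1712, 2116), (1713, 2117), (1714, 2118), (1715, 2119), (1716, 2120), (1717, 1717), (1718, 1718), (1719, 1372), (1720, 1373), (1721, 1374), (1722, 2129), (1723, 2130), (1724, 2131), (1725, 1725), (1726,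 1726), (1727, 1727)]
    ⟨e3 q1664 (flp_a L28249) q2063, e3 q1665 (flp_a L28257) q2064, e3 q1666 (flp_a L28263) q2065, e3 q1667 (flp_a L28271) q2066, e3 q1668 (flp_a L28279) q2067, e3 q1669 (flp_a L28287) q2068, e3 q1670 (flp_a L28296) q2069, e3 q1671 (flp_a L28047) q2047, e3 q1672 L20878 q1333, e3 q1673 L20886 q1334, e3 q1674 L20894 q1335, e3 q1675 L20904 q1336, e3 q1676 L20914 q1337, e3 q1677 L20922 q1338, e3 q1678 (flp_a L28451) q2080, e3 q1679 (flp_a L28460) q2081, e3 q1680 (flp_a L28469) q2082, e3 q1681 (flp_a L28477) q2083, e3 q1682 (flp_a L28483) q2084, e3 q1683 (flp_a L28219) q2059, e3 q1684 (flp_a L28226) q2060, e3 q1685 L21050 q1346, e3 q1686 L21057 q1347, e3 q1687 L21064 q1348, e3 q1688 L21072 q1349, e3 q1689 L21079 q1350, e3 q1690 L21087 q1351, e3 q1691 L21096 q1352, e3 q1692 L21105 q1353, e3 q1693 L21115 q1354, e3 q1694 (flp_a L28699) q2094, e3 q1695 (flp_a L28706) q2095, e3 q1696 (flp_a L28714) q2096, e3 q1697 (flp_a L28723) q2097, e3 q1698 (flp_a L28732) q2098, e3 q1699 (flp_a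 L28740) q2099, e3 q1700 (flp_a L28748) q2100, e3 q1701 (flp_a L28756) q2101, e3 q1702 L21224 q1702, e3 q1703 L21232 q1703, e3 q1704 L21242 q1361, e3 q1705 L21251 q1362, e3 q1706 L21261 q1363, e3 q1707 L21270 q1364, e3 q1708 L21278 q1365, e3 q1709 L21287 q1366, e3 q1710 L21296 q1367, e3 q1711 (flp_a L28945) q2115, e3 q1712 (flp_a L28952) q2116, e3 q1713 (flp_a L28962) q2117, e3 q1714 (flp_a L28972) q2118, e3 q1715 (flp_a L28983) q2119, e3 q1716 (flp_a L28991) q2120, e3 q1717 L21405 q1717, e3 q1718 L21413 q1718, e3 q1719 L21422 q1372, e3 q1720 L21427 q1373, e3 q1721 L21436 q1374, e3 q1722 (flp_a L29143) q2129, e3 q1723 (flp_a L29149) q2130, e3 q1724 (flp_a L29155) q2131, e3 q1725 L21464 q1725, e3 q1726 L21473 q1726, e3 q1727 L21482 q1727, trivial⟩ (by decide +kernel)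

theorem ce_a_27 : ∀ r, r < 64 → sm ga (Qf (1728 + r)) = Qf (tab Gen.a (1728 + r)) :=
  edges_tab (sm ga) Qf (tab Gen.a) 1728 [(1728, 1728), (1729, 1383), (1730, 1384), (1731, 1385), (1732, 1386), (1733, 1387), (1734, 1388), (1735, 2141), (1736, 2142), (1737, 2143), (1738, 2144), (1739, 2145), (1740, 2146), (1741, 2147), (1742, 1742), (1743, 1743), (1744, 1744), (1745, 1393), (1746, 1394), (1747, 1395), (1748, 2161), (1749, 2162), (1750, 2163), (1751, 1751), (1752, 1752), (1753, 1402), (1754, 1403), (1755, 1404), (1756, 2170), (1757, 2171), (1758, 1758), (1759, 1759), (1760, 1409), (1761, 1410), (1762, 1762), (1763, 1763), (1764, 1764), (1765, 1765), (1766, 1766), (1767, 1423), (1768, 1424), (1769, 1425), (1770, 1426), (1771, 1427), (1772, 1428), (1773, 1429), (1774, 1430), (1775, 1431), (1776, 2181), (1777, 2182), (1778, 2183), (1779, 2184), (1780, 1780), (1781, 1781), (1782, 1437), (1783, 1438), (1784, 2189), (1785, 1441), (1786, 1442), (1787, 1443), (1788, 2192), (1789, 2193), (1790,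 2194), (1791, 2195)]
    ⟨e3 q1728 L21488 q1728, e3 q1729 L21498 q1383, e3 q1730 L21508 q1384, e3 q1731 L21514 q1385, e3 q1732 L21524 q1386, e3 q1733 L21531 q1387, e3 q1734 L21538 q1388, e3 q1735 (flp_a L29230) q2141, e3 q1736 (flp_a L29237) q2142, e3 q1737 (flp_a L29248) q2143, e3 q1738 (flp_a L29253) q2144, e3 q1739 (flp_a L29261) q2145, e3 q1740 (flp_a L29267) q2146, e3 q1741 (flp_a L29276) q2147, e3 q1742 L21593 q1742, e3 q1743 L21601 q1743, e3 q1744 L21608 q1744, e3 q1745 L21617 q1393, e3 q1746 L21624 q1394, e3 q1747 L21632 q1395, e3 q1748 (flp_a L29374) q2161, e3 q1749 (flp_a L29382) q2162, e3 q1750 (flp_a L29390) q2163, e3 q1751 L22447 q1751, e3 q1752 L22455 q1752, e3 q1753 L22462 q1402, e3 q1754 L22481 q1403, e3 q1755 L22489 q1404, e3 q1756 (flp_a L30552) q2170, e3 q1757 (flp_a L30590) q2171, e3 q1758 L22676 q1758, e3 q1759 L22687 q1759, e3 q1760 L22706 q1409, e3 q1761 L22724 q1410, e3 q1762 L22944 q1762, e3 q1763 L23402 q1763, e3 q1764 L23411 q1764, e3 q1765 L23419 q1765, e3 q1766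 L23428 q1766, e3 q1767 L23434 q1423, e3 q1768 L23442 q1424, e3 q1769 L23452 q1425, e3 q1770 L23462 q1426, e3 q1771 L23471 q1427, e3 q1772 L23479 q1428, e3 q1773 L23486 q1429, e3 q1774 L23495 q1430, e3 q1775 L23505 q1431, e3 q1776 (flp_a L31882) q2181, e3 q1777 (flp_a L31897) q2182, e3 q1778 (flp_a L31906) q2183, e3 q1779 (flp_a L31923) q2184, e3 q1780 L23615 q1780, e3 q1781 L23621 q1781, e3 q1782 L23630 q1437, e3 q1783 L23644 q1438, e3 q1784 (flp_a L32130) q2189, e3 q1785 L24131 q1441, e3 q1786 L24137 q1442, e3 q1787 L24145 q1443, e3 q1788 (flp_a L32796) q2192, e3 q1789 (flp_a L32803) q2193, e3 q1790 (flp_a L32810) q2194, e3 q1791 (flp_a L32826) q2195, trivial⟩ (by decide +kernel)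

theorem ce_a_28 : ∀ r, r < 64 → sm ga (Qf (1792 + r)) = Qf (tab Gen.a (1792 + r)) :=
  edges_tab (sm ga) Qf (tab Gen.a) 1792 [(1792, 2196), (1793, 1546), (1794, 1548), (1795, 2191), (1796, 1450), (1797, 1451), (1798, 1452), (1799, 1453), (1800, 1454), (1801, 2207), (1802, 2208), (1803, 2209), (1804, 2210), (1805, 2211), (1806, 2212), (1807, 1582), (1808, 1808), (1809, 1460), (1810, 2221), (1811, 1811), (1812, 1812), (1813, 1466), (1814, 1467), (1815, 1468), (1816, 1469), (1817, 2226), (1818, 2227), (1819, 2228), (1820, 2229), (1821, 1471), (1822, 1472), (1823, 2235), (1824, 2236), (1825, 2237), (1826, 2238), (1827, 1895), (1828, 1896), (1829, 1897), (1830, 1898), (1831, 1478), (1832, 1479), (1833, 1480), (1834, 1481), (1835, 2250), (1836, 2251), (1837, 2252), (1838, 2253), (1839, 2254), (1840, 2255), (1841, 1909), (1842, 1910), (1843, 1911), (1844, 1912), (1845, 2249), (1846, 1490), (1847, 1491), (1848, 1492), (1849, 1493), (1850, 1494), (1851, 1495), (1852, 2272), (1853, 2273), (1854,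 2274), (1855, 2275)]
    ⟨e3 q1792 (flp_a L32835) q2196, e3 q1793 L24211 q1546, e3 q1794 L24229 q1548, e3 q1795 (flp_a L32790) q2191, e3 q1796 L24244 q1450, e3 q1797 L24251 q1451, e3 q1798 L24258 q1452, e3 q1799 L24275 q1453, e3 q1800 L24285 q1454, e3 q1801 (flp_a L32963) q2207, e3 q1802 (flp_a L32977) q2208, e3 q1803 (flp_a L32985) q2209, e3 q1804 (flp_a L32993) q2210, e3 q1805 (flp_a L33010) q2211, e3 q1806 (flp_a L33029) q2212, e3 q1807 L24375 q1582, e3 q1808 L24390 q1808, e3 q1809 L24407 q1460, e3 q1810 (flp_a L33212) q2221, e3 q1811 L24621 q1811, e3 q1812 L24630 q1812, e3 q1813 L24656 q1466, e3 q1814 L24664 q1467, e3 q1815 L24670 q1468, e3 q1816 L24708 q1469, e3 q1817 (flp_a L33589) q2226, e3 q1818 (flp_a L33596) q2227, e3 q1819 (flp_a L33605) q2228, e3 q1820 (flp_a L33612) q2229, e3 q1821 L25438 q1471, e3 q1822 L25445 q1472, e3 q1823 (flp_a L34631) q2235, e3 q1824 (flp_a L34639) q2236, e3 q1825 (flp_a L34646) q2237, e3 q1826 (flp_a L34654) q2238, e3 q1827 (flp_a L26100) q1895, e3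 q1828 (flp_a L26108) q1896, e3 q1829 (flp_a L26117) q1897, e3 q1830 (flp_a L26126) q1898, e3 q1831 L25514 q1478, e3 q1832 L25524 q1479, e3 q1833 L25532 q1480, e3 q1834 L25539 q1481, e3 q1835 (flp_a L34749) q2250, e3 q1836 (flp_a L34758) q2251, e3 q1837 (flp_a L34767) q2252, e3 q1838 (flp_a L34776) q2253, e3 q1839 (flp_a L34785) q2254, e3 q1840 (flp_a L34791) q2255, e3 q1841 (flp_a L26230) q1909, e3 q1842 (flp_a L26241) q1910, e3 q1843 (flp_a L26251) q1911, e3 q1844 (flp_a L26260) q1912, e3 q1845 (flp_a L34745) q2249, e3 q1846 L25639 q1490, e3 q1847 L25648 q1491, e3 q1848 L25657 q1492, e3 q1849 L25667 q1493, e3 q1850 L25676 q1494, e3 q1851 L25683 q1495, e3 q1852 (flp_a L34933) q2272, e3 q1853 (flp_a L34943) q2273, e3 q1854 (flp_a L34953) q2274, e3 q1855 (flp_a L34961) q2275, trivial⟩ (by decide +kernel)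

theorem ce_a_29 : ∀ r, r < 64 → sm ga (Qf (1856 + r)) = Qf (tab Gen.a (1856 + r)) :=
  edges_tab (sm ga) Qf (tab Gen.a) 1856 [(1856, 2276), (1857, 2277), (1858, 2278), (1859, 2279), (1860, 2280), (1861, 1887), (1862, 1950), (1863, 1951), (1864, 1952), (1865, 1953), (1866, 1866), (1867, 1867), (1868, 1507), (1869, 1508), (1870, 1509), (1871, 1510), (1872, 1511), (1873, 1512), (1874, 1513), (1875, 1514), (1876, 1515), (1877, 2304), (1878, 2305), (1879, 2306), (1880, 2307), (1881, 2308), (1882, 2309), (1883, 2310), (1884, 2311), (1885, 2312), (1886, 2313), (1887, 1861), (1888, 1929), (1889, 1520), (1890, 1521), (1891, 2326), (1892, 2327), (1893, 2328), (1894, 2329), (1895, 1827), (1896, 1828), (1897, 1829), (1898, 1830), (1899, 1527), (1900, 1528), (1901, 1529), (1902, 1530), (1903, 2341), (1904, 2342), (1905, 2343), (1906, 2344), (1907, 2345), (1908, 2346), (1909, 1841), (1910, 1842), (1911, 1843), (1912, 1844), (1913, 1563), (1914, 1539), (1915, 1540), (1916, 1541), (1917, 1542), (1918,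 1543), (1919, 1544)]
    ⟨e3 q1856 (flp_a L34968) q2276, e3 q1857 (flp_a L34979) q2277, e3 q1858 (flp_a L34989) q2278, e3 q1859 (flp_a L34997) q2279, e3 q1860 (flp_a L35005) q2280, e3 q1861 L109091 q1887, e3 q1862 (flp_a L26573) q1950, e3 q1863 (flp_a L26581) q1951, e3 q1864 (flp_a L26590) q1952, e3 q1865 (flp_a L26600) q1953, e3 q1866 L25802 q1866, e3 q1867 L25810 q1867, e3 q1868 L25819 q1507, e3 q1869 L25829 q1508, e3 q1870 L25840 q1509, e3 q1871 L25848 q1510, e3 q1872 L25857 q1511, e3 q1873 L25869 q1512, e3 q1874 L25877 q1513, e3 q1875 L25885 q1514, e3 q1876 L25894 q1515, e3 q1877 (flp_a L35203) q2304, e3 q1878 (flp_a L35212) q2305, e3 q1879 (flp_a L35222) q2306, e3 q1880 (flp_a L35232) q2307, e3 q1881 (flp_a L35242) q2308, e3 q1882 (flp_a L35250) q2309, e3 q1883 (flp_a L35260) q2310, e3 q1884 (flp_a L35270) q2311, e3 q1885 (flp_a L35280) q2312, e3 q1886 (flp_a L35288) q2313, e3 q1887 (flp_a L109091) q1861, e3 q1888 L104049 q1929, e3 q1889 L26045 q1520, e3 q1890 L26054 q1521, e3 q1891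 (flp_a L35502) q2326, e3 q1892 (flp_a L35511) q2327, e3 q1893 (flp_a L35520) q2328, e3 q1894 (flp_a L35530) q2329, e3 q1895 L26100 q1827, e3 q1896 L26108 q1828, e3 q1897 L26117 q1829, e3 q1898 L26126 q1830, e3 q1899 L26136 q1527, e3 q1900 L26147 q1528, e3 q1901 L26157 q1529, e3 q1902 L26166 q1530, e3 q1903 (flp_a L35640) q2341, e3 q1904 (flp_a L35650) q2342, e3 q1905 (flp_a L35659) q2343, e3 q1906 (flp_a L35670) q2344, e3 q1907 (flp_a L35681) q2345, e3 q1908 (flp_a L35689) q2346, e3 q1909 L26230 q1841, e3 q1910 L26241 q1842, e3 q1911 L26251 q1843, e3 q1912 L26260 q1844, e3 q1913 L26273 q1563, e3 q1914 L26277 q1539, e3 q1915 L26285 q1540, e3 q1916 L26292 q1541, e3 q1917 L26297 q1542, e3 q1918 L26304 q1543, e3 q1919 L26311 q1544, trivial⟩ (by decide +kernel)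

theorem ce_a_30 : ∀ r, r < 64 → sm ga (Qf (1920 + r)) = Qf (tab Gen.a (1920 + r)) :=
  edges_tab (sm ga) Qf (tab Gen.a) 1920 [(1920, 2362), (1921, 2363), (1922, 2364), (1923, 2365), (1924, 2366), (1925, 2367), (1926, 2368), (1927, 2369), (1928, 2370), (1929, 1888), (1930, 1979), (1931, 2203), (1932, 2204), (1933, 2034), (1934, 2340), (1935, 1553), (1936, 1554), (1937, 1555), (1938, 1556), (1939, 1557), (1940, 1558), (1941, 2391), (1942, 2392), (1943, 2393), (1944, 2394), (1945, 2395), (1946, 2396), (1947, 2397), (1948, 2398), (1949, 2399), (1950, 1862), (1951, 1863), (1952, 1864), (1953, 1865), (1954, 2360), (1955, 2361), (1956, 1570), (1957, 1571), (1958, 1572), (1959, 1573), (1960, 1574), (1961, 1575), (1962, 1576), (1963, 1577), (1964, 1578), (1965, 2419), (1966, 2420), (1967, 2421), (1968, 2422), (1969, 2423), (1970, 2424), (1971, 2425), (1972, 2426), (1973, 2427), (1974, 2428), (1975, 2429), (1976, 2430), (1977, 2431), (1978, 1980), (1979, 1930), (1980, 1978), (1981, 1981), (1982,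 1982), (1983, 1591)]
    ⟨e3 q1920 (flp_a L35846) q2362, e3 q1921 (flp_a L35852) q2363, e3 q1922 (flp_a L35861) q2364, e3 q1923 (flp_a L35869) q2365, e3 q1924 (flp_a L35877) q2366, e3 q1925 (flp_a L35884) q2367, e3 q1926 (flp_a L35891) q2368, e3 q1927 (flp_a L35897) q2369, e3 q1928 (flp_a L35905) q2370, e3 q1929 (flp_a L104049) q1888, e3 q1930 L108974 q1979, e3 q1931 (flp_a L32925) q2203, e3 q1932 (flp_a L32931) q2204, e3 q1933 L103995 q2034, e3 q1934 (flp_a L35634) q2340, e3 q1935 L26426 q1553, e3 q1936 L26436 q1554, e3 q1937 L26445 q1555, e3 q1938 L26457 q1556, e3 q1939 L26468 q1557, e3 q1940 L26477 q1558, e3 q1941 (flp_a L36062) q2391, e3 q1942 (flp_a L36072) q2392, e3 q1943 (flp_a L36083) q2393, e3 q1944 (flp_a L36091) q2394, e3 q1945 (flp_a L36099) q2395, e3 q1946 (flp_a L36110) q2396, e3 q1947 (flp_a L36122) q2397, e3 q1948 (flp_a L36132) q2398, e3 q1949 (flp_a L36142) q2399, e3 q1950 L26573 q1862, e3 q1951 L26581 q1863, e3 q1952 L26590 q1864, e3 q1953 L26600 q1865, e3 q1954 (flp_a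 L35831) q2360, e3 q1955 (flp_a L35839) q2361, e3 q1956 L26621 q1570, e3 q1957 L26627 q1571, e3 q1958 L26636 q1572, e3 q1959 L26644 q1573, e3 q1960 L26653 q1574, e3 q1961 L26660 q1575, e3 q1962 L26668 q1576, e3 q1963 L26674 q1577, e3 q1964 L26683 q1578, e3 q1965 (flp_a L36338) q2419, e3 q1966 (flp_a L36346) q2420, e3 q1967 (flp_a L36354) q2421, e3 q1968 (flp_a L36362) q2422, e3 q1969 (flp_a L36371) q2423, e3 q1970 (flp_a L36381) q2424, e3 q1971 (flp_a L36389) q2425, e3 q1972 (flp_a L36398) q2426, e3 q1973 (flp_a L36407) q2427, e3 q1974 (flp_a L36414) q2428, e3 q1975 (flp_a L36422) q2429, e3 q1976 (flp_a L36430) q2430, e3 q1977 (flp_a L36436) q2431, e3 q1978 L109175 q1980, e3 q1979 (flp_a L108974) q1930, e3 q1980 (flp_a L109175) q1978, e3 q1981 L26813 q1981, e3 q1982 L26824 q1982, e3 q1983 L26835 q1591, trivial⟩ (by decide +kernel)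

theorem ce_a_31 : ∀ r, r < 64 → sm ga (Qf (1984 + r)) = Qf (tab Gen.a (1984 + r)) :=
  edges_tab (sm ga) Qf (tab Gen.a) 1984 [(1984, 1592), (1985, 1593), (1986, 1594), (1987, 1595), (1988, 1596), (1989, 1597), (1990, 2455), (1991, 2456), (1992, 2457), (1993, 2458), (1994, 2459), (1995, 1995), (1996, 1996), (1997, 1997), (1998, 1998), (1999, 1606), (2000, 1607), (2001, 1608), (2002, 1609), (2003, 2467), (2004, 2468), (2005, 2469), (2006, 2470), (2007, 2476), (2008, 2008), (2009, 2009), (2010, 2010), (2011, 2011), (2012, 2012), (2013, 1621), (2014, 1622), (2015, 1623), (2016, 1624), (2017, 1625), (2018, 1626), (2019, 1627), (2020, 1628), (2021, 1629), (2022, 2484), (2023, 2485), (2024, 2486), (2025, 2487), (2026, 2488), (2027, 2489), (2028, 2490), (2029, 2491), (2030, 2492), (2031, 2493), (2032, 2494), (2033, 2508), (2034, 1933), (2035, 1633), (2036, 2511), (2037, 1634), (2038, 1637), (2039, 1638), (2040, 2512), (2041, 1641), (2042, 1642), (2043, 1643), (2044, 1644), (2045, 2514), (2046,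 2515), (2047, 1671)]
    ⟨e3 q1984 L26845 q1592, e3 q1985 L26857 q1593, e3 q1986 L26865 q1594, e3 q1987 L26874 q1595, e3 q1988 L26886 q1596, e3 q1989 L26896 q1597, e3 q1990 (flp_a L36669) q2455, e3 q1991 (flp_a L36679) q2456, e3 q1992 (flp_a L36689) q2457, e3 q1993 (flp_a L36709) q2458, e3 q1994 (flp_a L36739) q2459, e3 q1995 L27092 q1995, e3 q1996 L27097 q1996, e3 q1997 L27106 q1997, e3 q1998 L27114 q1998, e3 q1999 L27122 q1606, e3 q2000 L27128 q1607, e3 q2001 L27136 q1608, e3 q2002 L27178 q1609, e3 q2003 (flp_a L37055) q2467, e3 q2004 (flp_a L37063) q2468, e3 q2005 (flp_a L37087) q2469, e3 q2006 (flp_a L37135) q2470, e3 q2007 L37292 q2476, e3 q2008 L27327 q2008, e3 q2009 L27335 q2009, e3 q2010 L27344 q2010, e3 q2011 L27351 q2011, e3 q2012 L27359 q2012, e3 q2013 L27377 q1621, e3 q2014 L27386 q1622, e3 q2015 L27395 q1623, e3 q2016 L27403 q1624, e3 q2017 L27412 q1625, e3 q2018 L27420 q1626, e3 q2019 L27444 q1627, e3 q2020 L27451 q1628, e3 q2021 L27459 q1629, e3 q2022 (flp_a L37397) q2484,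 e3 q2023 (flp_a L37403) q2485, e3 q2024 (flp_a L37413) q2486, e3 q2025 (flp_a L37422) q2487, e3 q2026 (flp_a L37432) q2488, e3 q2027 (flp_a L37438) q2489, e3 q2028 (flp_a L37446) q2490, e3 q2029 (flp_a L37453) q2491, e3 q2030 (flp_a L37461) q2492, e3 q2031 (flp_a L37494) q2493, e3 q2032 (flp_a L37501) q2494, e3 q2033 L37699 q2508, e3 q2034 (flp_a L103995) q1933, e3 q2035 L27657 q1633, e3 q2036 L37812 q2511, e3 q2037 (flp_a L27755) q1634, e3 q2038 L27855 q1637, e3 q2039 L27864 q1638, e3 q2040 (flp_a L38000) q2512, e3 q2041 L27937 q1641, e3 q2042 L27943 q1642, e3 q2043 L27951 q1643, e3 q2044 L27959 q1644, e3 q2045 (flp_a L38121) q2514, e3 q2046 (flp_a L38128) q2515, e3 q2047 L28047 q1671, trivial⟩ (by decide +kernel)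

theorem ce_a_32 : ∀ r, r < 64 → sm ga (Qf (2048 + r)) = Qf (tab Gen.a (2048 + r)) :=
  edges_tab (sm ga) Qf (tab Gen.a) 2048 [(2048, 1649), (2049, 1650), (2050, 1651), (2051, 1652), (2052, 1653), (2053, 1654), (2054, 2519), (2055, 2520), (2056, 2521), (2057, 2522), (2058, 2523), (2059, 1683), (2060, 1684), (2061, 1662), (2062, 1663), (2063, 1664), (2064, 1665), (2065, 1666), (2066, 1667), (2067, 1668), (2068, 1669), (2069, 1670), (2070, 2533), (2071, 2534), (2072, 2535), (2073, 2536), (2074, 2537), (2075, 2538), (2076, 2539), (2077, 2540), (2078, 2517), (2079, 2518), (2080, 1678), (2081, 1679), (2082, 1680), (2083, 1681), (2084, 1682), (2085, 2555), (2086, 2556), (2087, 2557), (2088, 2558), (2089, 2528), (2090, 2529), (2091, 2530), (2092, 2531), (2093, 2532), (2094, 1694), (2095, 1695), (2096, 1696), (2097, 1697), (2098, 1698), (2099, 1699), (2100, 1700), (2101, 1701), (2102, 2573), (2103, 2574), (2104, 2575), (2105, 2576), (2106, 2577), (2107, 2578), (2108, 2579), (2109, 2580), (2110,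 2581), (2111, 2111)]
    ⟨e3 q2048 L28052 q1649, e3 q2049 L28060 q1650, e3 q2050 L28068 q1651, e3 q2051 L28077 q1652, e3 q2052 L28087 q1653, e3 q2053 L28094 q1654, e3 q2054 (flp_a L38290) q2519, e3 q2055 (flp_a L38299) q2520, e3 q2056 (flp_a L38308) q2521, e3 q2057 (flp_a L38316) q2522, e3 q2058 (flp_a L38321) q2523, e3 q2059 L28219 q1683, e3 q2060 L28226 q1684, e3 q2061 L28235 q1662, e3 q2062 L28242 q1663, e3 q2063 L28249 q1664, e3 q2064 L28257 q1665, e3 q2065 L28263 q1666, e3 q2066 L28271 q1667, e3 q2067 L28279 q1668, e3 q2068 L28287 q1669, e3 q2069 L28296 q1670, e3 q2070 (flp_a L38552) q2533, e3 q2071 (flp_a L38558) q2534, e3 q2072 (flp_a L38566) q2535, e3 q2073 (flp_a L38575) q2536, e3 q2074 (flp_a L38584) q2537, e3 q2075 (flp_a L38591) q2538, e3 q2076 (flp_a L38599) q2539, e3 q2077 (flp_a L38606) q2540, e3 q2078 (flp_a L38272) q2517, e3 q2079 (flp_a L38281) q2518, e3 q2080 L28451 q1678, e3 q2081 L28460 q1679, e3 q2082 L28469 q1680, e3 q2083 L28477 q1681, e3 q2084 L28483 q1682, e3 q2085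 (flp_a L38861) q2555, e3 q2086 (flp_a L38898) q2556, e3 q2087 (flp_a L38915) q2557, e3 q2088 (flp_a L38922) q2558, e3 q2089 (flp_a L38511) q2528, e3 q2090 (flp_a L38519) q2529, e3 q2091 (flp_a L38527) q2530, e3 q2092 (flp_a L38536) q2531, e3 q2093 (flp_a L38543) q2532, e3 q2094 L28699 q1694, e3 q2095 L28706 q1695, e3 q2096 L28714 q1696, e3 q2097 L28723 q1697, e3 q2098 L28732 q1698, e3 q2099 L28740 q1699, e3 q2100 L28748 q1700, e3 q2101 L28756 q1701, e3 q2102 (flp_a L39213) q2573, e3 q2103 (flp_a L39221) q2574, e3 q2104 (flp_a L39246) q2575, e3 q2105 (flp_a L39261) q2576, e3 q2106 (flp_a L39279) q2577, e3 q2107 (flp_a L39285) q2578, e3 q2108 (flp_a L39295) q2579, e3 q2109 (flp_a L39302) q2580, e3 q2110 (flp_a L39312) q2581, e3 q2111 L28909 q2111, trivial⟩ (by decide +kernel)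

theorem ce_a_33 : ∀ r, r < 64 → sm ga (Qf (2112 + r)) = Qf (tab Gen.a (2112 + r)) :=
  edges_tab (sm ga) Qf (tab Gen.a) 2112 [(2112, 2112), (2113, 2113), (2114, 2114), (2115, 1711), (2116, 1712), (2117, 1713), (2118, 1714), (2119, 1715), (2120, 1716), (2121, 2600), (2122, 2601), (2123, 2602), (2124, 2603), (2125, 2604), (2126, 2605), (2127, 2127), (2128, 2128), (2129, 1722), (2130, 1723), (2131, 1724), (2132, 2616), (2133, 2617), (2134, 2618), (2135, 2135), (2136, 2136), (2137, 2137), (2138, 2138), (2139, 2139), (2140, 2140), (2141, 1735), (2142, 1736), (2143, 1737), (2144, 1738), (2145, 1739), (2146, 1740), (2147, 1741), (2148, 2632), (2149, 2633), (2150, 2634), (2151, 2635), (2152, 2636), (2153, 2637), (2154, 2638), (2155, 2639), (2156, 2156), (2157, 2157), (2158, 2158), (2159, 2159), (2160, 2160), (2161, 1748), (2162, 1749), (2163, 1750), (2164, 2656), (2165, 2657), (2166, 2658), (2167, 2167), (2168, 2168), (2169, 2169), (2170, 1756), (2171, 1757), (2172, 2172), (2173, 2173), (2174,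 2174), (2175, 2175)]
    ⟨e3 q2112 L28918 q2112, e3 q2113 L28928 q2113, e3 q2114 L28937 q2114, e3 q2115 L28945 q1711, e3 q2116 L28952 q1712, e3 q2117 L28962 q1713, e3 q2118 L28972 q1714, e3 q2119 L28983 q1715, e3 q2120 L28991 q1716, e3 q2121 (flp_a L39521) q2600, e3 q2122 (flp_a L39529) q2601, e3 q2123 (flp_a L39556) q2602, e3 q2124 (flp_a L39562) q2603, e3 q2125 (flp_a L39572) q2604, e3 q2126 (flp_a L39578) q2605, e3 q2127 L29128 q2127, e3 q2128 L29134 q2128, e3 q2129 L29143 q1722, e3 q2130 L29149 q1723, e3 q2131 L29155 q1724, e3 q2132 (flp_a L39768) q2616, e3 q2133 (flp_a L39775) q2617, e3 q2134 (flp_a L39782) q2618, e3 q2135 L29182 q2135, e3 q2136 L29192 q2136, e3 q2137 L29199 q2137, e3 q2138 L29209 q2138, e3 q2139 L29214 q2139, e3 q2140 L29222 q2140, e3 q2141 L29230 q1735, e3 q2142 L29237 q1736, e3 q2143 L29248 q1737, e3 q2144 L29253 q1738, e3 q2145 L29261 q1739, e3 q2146 L29267 q1740, e3 q2147 L29276 q1741, e3 q2148 (flp_a L39884) q2632, e3 q2149 (flp_a L39891) q2633, e3 q2150 (flp_a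 L39900) q2634, e3 q2151 (flp_a L39907) q2635, e3 q2152 (flp_a L39914) q2636, e3 q2153 (flp_a L39921) q2637, e3 q2154 (flp_a L39928) q2638, e3 q2155 (flp_a L39936) q2639, e3 q2156 L29333 q2156, e3 q2157 L29341 q2157, e3 q2158 L29350 q2158, e3 q2159 L29357 q2159, e3 q2160 L29365 q2160, e3 q2161 L29374 q1748, e3 q2162 L29382 q1749, e3 q2163 L29390 q1750, e3 q2164 (flp_a L40059) q2656, e3 q2165 (flp_a L40068) q2657, e3 q2166 (flp_a L40077) q2658, e3 q2167 L30512 q2167, e3 q2168 L30529 q2168, e3 q2169 L30536 q2169, e3 q2170 L30552 q1756, e3 q2171 L30590 q1757, e3 q2172 L30853 q2172, e3 q2173 L30873 q2173, e3 q2174 L31824 q2174, e3 q2175 L31832 q2175, trivial⟩ (by decide +kernel)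

theorem ce_a_34 : ∀ r, r < 64 → sm ga (Qf (2176 + r)) = Qf (tab Gen.a (2176 + r)) :=
  edges_tab (sm ga) Qf (tab Gen.a) 2176 [(2176, 2176), (2177, 2177), (2178, 2178), (2179, 2179), (2180, 2180), (2181, 1776), (2182, 1777), (2183, 1778), (2184, 1779), (2185, 2673), (2186, 2186), (2187, 2187), (2188, 2188), (2189, 1784), (2190, 2677), (2191, 1795), (2192, 1788), (2193, 1789), (2194, 1790), (2195, 1791), (2196, 1792), (2197, 2680), (2198, 2681), (2199, 2682), (2200, 2683), (2201, 2684), (2202, 2685), (2203, 1931), (2204, 1932), (2205, 2678), (2206, 2679), (2207, 1801), (2208, 1802), (2209, 1803), (2210, 1804), (2211, 1805), (2212, 1806), (2213, 2699), (2214, 2700), (2215, 2701), (2216, 2702), (2217, 2703), (2218, 2704), (2219, 2705), (2220, 2220), (2221, 1810), (2222, 2715), (2223, 2223), (2224, 2224), (2225, 2225), (2226, 1817), (2227, 1818), (2228, 1819), (2229, 1820), (2230, 2722), (2231, 2723), (2232, 2724), (2233, 2725), (2234, 2726), (2235, 1823), (2236, 1824), (2237, 1825), (2238,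 1826), (2239, 2734)]
    ⟨e3 q2176 L31842 q2176, e3 q2177 L31852 q2177, e3 q2178 L31861 q2178, e3 q2179 L31869 q2179, e3 q2180 L31875 q2180, e3 q2181 L31882 q1776, e3 q2182 L31897 q1777, e3 q2183 L31906 q1778, e3 q2184 L31923 q1779, e3 q2185 (flp_a L43445) q2673, e3 q2186 L32102 q2186, e3 q2187 L32108 q2187, e3 q2188 L32122 q2188, e3 q2189 L32130 q1784, e3 q2190 (flp_a L43754) q2677, e3 q2191 L32790 q1795, e3 q2192 L32796 q1788, e3 q2193 L32803 q1789, e3 q2194 L32810 q1790, e3 q2195 L32826 q1791, e3 q2196 L32835 q1792, e3 q2197 (flp_a L44649) q2680, e3 q2198 (flp_a L44663) q2681, e3 q2199 (flp_a L44671) q2682, e3 q2200 (flp_a L44678) q2683, e3 q2201 (flp_a L44694) q2684, e3 q2202 (flp_a L44712) q2685, e3 q2203 L32925 q1931, e3 q2204 L32931 q1932, e3 q2205 (flp_a L44631) q2678, e3 q2206 (flp_a L44640) q2679, e3 q2207 L32963 q1801, e3 q2208 L32977 q1802, e3 q2209 L32985 q1803, e3 q2210 L32993 q1804, e3 q2211 L33010 q1805, e3 q2212 L33029 q1806, e3 q2213 (flp_a L44894) q2699, e3 q2214 (flp_a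 L44909) q2700, e3 q2215 (flp_a L44926) q2701, e3 q2216 (flp_a L44935) q2702, e3 q2217 (flp_a L44943) q2703, e3 q2218 (flp_a L44951) q2704, e3 q2219 (flp_a L44989) q2705, e3 q2220 L33168 q2220, e3 q2221 L33212 q1810, e3 q2222 (flp_a L45262) q2715, e3 q2223 L33527 q2223, e3 q2224 L33536 q2224, e3 q2225 L33543 q2225, e3 q2226 L33589 q1817, e3 q2227 L33596 q1818, e3 q2228 L33605 q1819, e3 q2229 L33612 q1820, e3 q2230 (flp_a L45801) q2722, e3 q2231 (flp_a L45806) q2723, e3 q2232 (flp_a L45814) q2724, e3 q2233 (flp_a L45820) q2725, e3 q2234 (flp_a L45828) q2726, e3 q2235 L34631 q1823, e3 q2236 L34639 q1824, e3 q2237 L34646 q1825, e3 q2238 L34654 q1826, e3 q2239 (flp_a L47186) q2734, trivial⟩ (by decide +kernel)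

theorem ce_a_35 : ∀ r, r < 64 → sm ga (Qf (2240 + r)) = Qf (tab Gen.a (2240 + r)) :=
  edges_tab (sm ga) Qf (tab Gen.a) 2240 [(2240, 2735), (2241, 2736), (2242, 2737), (2243, 2738), (2244, 2739), (2245, 2336), (2246, 2337), (2247, 2338), (2248, 2339), (2249, 1845), (2250, 1835), (2251, 1836), (2252, 1837), (2253, 1838), (2254, 1839), (2255, 1840), (2256, 2756), (2257, 2757), (2258, 2758), (2259, 2759), (2260, 2760), (2261, 2761), (2262, 2762), (2263, 2763), (2264, 2764), (2265, 2324), (2266, 2356), (2267, 2357), (2268, 2358), (2269, 2359), (2270, 2754), (2271, 2755), (2272, 1852), (2273, 1853), (2274, 1854), (2275, 1855), (2276, 1856), (2277, 1857), (2278, 1858), (2279, 1859), (2280, 1860), (2281, 2788), (2282, 2789), (2283, 2790), (2284, 2791), (2285, 2792), (2286, 2793), (2287, 2794), (2288, 2795), (2289, 2796), (2290, 2797), (2291, 2798), (2292, 2799), (2293, 2800), (2294, 2295), (2295, 2294), (2296, 2412), (2297, 2384), (2298, 2413), (2299, 2299), (2300, 2300), (2301, 2301), (2302,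 2302), (2303, 2303)]
    ⟨e3 q2240 (flp_a L47194) q2735, e3 q2241 (flp_a L47202) q2736, e3 q2242 (flp_a L47209) q2737, e3 q2243 (flp_a L47217) q2738, e3 q2244 (flp_a L47225) q2739, e3 q2245 (flp_a L35590) q2336, e3 q2246 (flp_a L35599) q2337, e3 q2247 (flp_a L35607) q2338, e3 q2248 (flp_a L35617) q2339, e3 q2249 L34745 q1845, e3 q2250 L34749 q1835, e3 q2251 L34758 q1836, e3 q2252 L34767 q1837, e3 q2253 L34776 q1838, e3 q2254 L34785 q1839, e3 q2255 L34791 q1840, e3 q2256 (flp_a L47358) q2756, e3 q2257 (flp_a L47368) q2757, e3 q2258 (flp_a L47378) q2758, e3 q2259 (flp_a L47386) q2759, e3 q2260 (flp_a L47392) q2760, e3 q2261 (flp_a L47403) q2761, e3 q2262 (flp_a L47412) q2762, e3 q2263 (flp_a L47420) q2763, e3 q2264 (flp_a L47427) q2764, e3 q2265 (flp_a L109076) q2324, e3 q2266 (flp_a L35791) q2356, e3 q2267 (flp_a L35801) q2357, e3 q2268 (flp_a L35808) q2358, e3 q2269 (flp_a L35820) q2359, e3 q2270 (flp_a L47340) q2754, e3 q2271 (flp_a L47349) q2755, e3 q2272 L34933 q1852, e3 q2273 L34943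 q1853, e3 q2274 L34953 q1854, e3 q2275 L34961 q1855, e3 q2276 L34968 q1856, e3 q2277 L34979 q1857, e3 q2278 L34989 q1858, e3 q2279 L34997 q1859, e3 q2280 L35005 q1860, e3 q2281 (flp_a L47624) q2788, e3 q2282 (flp_a L47635) q2789, e3 q2283 (flp_a L47645) q2790, e3 q2284 (flp_a L47655) q2791, e3 q2285 (flp_a L47664) q2792, e3 q2286 (flp_a L47672) q2793, e3 q2287 (flp_a L47682) q2794, e3 q2288 (flp_a L47691) q2795, e3 q2289 (flp_a L47699) q2796, e3 q2290 (flp_a L47710) q2797, e3 q2291 (flp_a L47718) q2798, e3 q2292 (flp_a L47727) q2799, e3 q2293 (flp_a L47737) q2800, e3 q2294 L109112 q2295, e3 q2295 (flp_a L109112) q2294, e3 q2296 (flp_a L36281) q2412, e3 q2297 L109120 q2384, e3 q2298 (flp_a L36300) q2413, e3 q2299 L35157 q2299, e3 q2300 L35166 q2300, e3 q2301 L35176 q2301, e3 q2302 L35183 q2302, e3 q2303 L35192 q2303, trivial⟩ (by decide +kernel)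

theorem ce_a_36 : ∀ r, r < 64 → sm ga (Qf (2304 + r)) = Qf (tab Gen.a (2304 + r)) :=
  edges_tab (sm ga) Qf (tab Gen.a) 2304 [(2304, 1877), (2305, 1878), (2306, 1879), (2307, 1880), (2308, 1881), (2309, 1882), (2310, 1883), (2311, 1884), (2312, 1885), (2313, 1886), (2314, 2832), (2315, 2833), (2316, 2834), (2317, 2835), (2318, 2836), (2319, 2837), (2320, 2838), (2321, 2839), (2322, 2840), (2323, 2841), (2324, 2265), (2325, 2854), (2326, 1891), (2327, 1892), (2328, 1893), (2329, 1894), (2330, 2856), (2331, 2857), (2332, 2858), (2333, 2859), (2334, 2860), (2335, 2861), (2336, 2245), (2337, 2246), (2338, 2247), (2339, 2248), (2340, 1934), (2341, 1903), (2342, 1904), (2343, 1905), (2344, 1906), (2345, 1907), (2346, 1908), (2347, 2877), (2348, 2878), (2349, 2879), (2350, 2880), (2351, 2881), (2352, 2882), (2353, 2883), (2354, 2884), (2355, 2885), (2356, 2266), (2357, 2267), (2358, 2268), (2359, 2269), (2360, 1954), (2361, 1955), (2362, 1920), (2363, 1921), (2364, 1922), (2365, 1923), (2366,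 1924), (2367, 1925)]
    ⟨e3 q2304 L35203 q1877, e3 q2305 L35212 q1878, e3 q2306 L35222 q1879, e3 q2307 L35232 q1880, e3 q2308 L35242 q1881, e3 q2309 L35250 q1882, e3 q2310 L35260 q1883, e3 q2311 L35270 q1884, e3 q2312 L35280 q1885, e3 q2313 L35288 q1886, e3 q2314 (flp_a L48012) q2832, e3 q2315 (flp_a L48021) q2833, e3 q2316 (flp_a L48028) q2834, e3 q2317 (flp_a L48040) q2835, e3 q2318 (flp_a L48050) q2836, e3 q2319 (flp_a L48068) q2837, e3 q2320 (flp_a L48090) q2838, e3 q2321 (flp_a L48097) q2839, e3 q2322 (flp_a L48127) q2840, e3 q2323 (flp_a L48144) q2841, e3 q2324 L109076 q2265, e3 q2325 L48367 q2854, e3 q2326 L35502 q1891, e3 q2327 L35511 q1892, e3 q2328 L35520 q1893, e3 q2329 L35530 q1894, e3 q2330 (flp_a L48400) q2856, e3 q2331 (flp_a L48409) q2857, e3 q2332 (flp_a L48417) q2858, e3 q2333 (flp_a L48426) q2859, e3 q2334 (flp_a L48436) q2860, e3 q2335 (flp_a L48446) q2861, e3 q2336 L35590 q2245, e3 q2337 L35599 q2246, e3 q2338 L35607 q2247, e3 q2339 L35617 q2248, e3 q2340 L35634 q1934,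 e3 q2341 L35640 q1903, e3 q2342 L35650 q1904, e3 q2343 L35659 q1905, e3 q2344 L35670 q1906, e3 q2345 L35681 q1907, e3 q2346 L35689 q1908, e3 q2347 (flp_a L48598) q2877, e3 q2348 (flp_a L48608) q2878, e3 q2349 (flp_a L48619) q2879, e3 q2350 (flp_a L48627) q2880, e3 q2351 (flp_a L48634) q2881, e3 q2352 (flp_a L48645) q2882, e3 q2353 (flp_a L48656) q2883, e3 q2354 (flp_a L48666) q2884, e3 q2355 (flp_a L48675) q2885, e3 q2356 L35791 q2266, e3 q2357 L35801 q2267, e3 q2358 L35808 q2268, e3 q2359 L35820 q2269, e3 q2360 L35831 q1954, e3 q2361 L35839 q1955, e3 q2362 L35846 q1920, e3 q2363 L35852 q1921, e3 q2364 L35861 q1922, e3 q2365 L35869 q1923, e3 q2366 L35877 q1924, e3 q2367 L35884 q1925, trivial⟩ (by decide +kernel)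

theorem ce_a_37 : ∀ r, r < 64 → sm ga (Qf (2368 + r)) = Qf (tab Gen.a (2368 + r)) :=
  edges_tab (sm ga) Qf (tab Gen.a) 2368 [(2368, 1926), (2369, 1927), (2370, 1928), (2371, 2907), (2372, 2908), (2373, 2909), (2374, 2910), (2375, 2911), (2376, 2912), (2377, 2913), (2378, 2914), (2379, 2915), (2380, 2916), (2381, 2917), (2382, 2918), (2383, 2919), (2384, 2297), (2385, 2387), (2386, 2449), (2387, 2385), (2388, 2694), (2389, 2875), (2390, 2876), (2391, 1941), (2392, 1942), (2393, 1943), (2394, 1944), (2395, 1945), (2396, 1946), (2397, 1947), (2398, 1948), (2399, 1949), (2400, 2948), (2401, 2949), (2402, 2950), (2403, 2951), (2404, 2952), (2405, 2953), (2406, 2954), (2407, 2955), (2408, 2956), (2409, 2957), (2410, 2958), (2411, 2959), (2412, 2296), (2413, 2298), (2414, 2902), (2415, 2903), (2416, 2904), (2417, 2905), (2418, 2906), (2419, 1965), (2420, 1966), (2421, 1967), (2422, 1968), (2423, 1969), (2424, 1970), (2425, 1971), (2426, 1972), (2427, 1973), (2428, 1974), (2429, 1975), (2430,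 1976), (2431, 1977)]
    ⟨e3 q2368 L35891 q1926, e3 q2369 L35897 q1927, e3 q2370 L35905 q1928, e3 q2371 (flp_a L48889) q2907, e3 q2372 (flp_a L48896) q2908, e3 q2373 (flp_a L48904) q2909, e3 q2374 (flp_a L48912) q2910, e3 q2375 (flp_a L48921) q2911, e3 q2376 (flp_a L48930) q2912, e3 q2377 (flp_a L48938) q2913, e3 q2378 (flp_a L48946) q2914, e3 q2379 (flp_a L48954) q2915, e3 q2380 (flp_a L48960) q2916, e3 q2381 (flp_a L48968) q2917, e3 q2382 (flp_a L48974) q2918, e3 q2383 (flp_a L48980) q2919, e3 q2384 (flp_a L109120) q2297, e3 q2385 (flp_a L93117) q2387, e3 q2386 (flp_a L109165) q2449, e3 q2387 L93117 q2385, e3 q2388 (flp_a L44852) q2694, e3 q2389 (flp_a L48575) q2875, e3 q2390 (flp_a L48587) q2876, e3 q2391 L36062 q1941, e3 q2392 L36072 q1942, e3 q2393 L36083 q1943, e3 q2394 L36091 q1944, e3 q2395 L36099 q1945, e3 q2396 L36110 q1946, e3 q2397 L36122 q1947, e3 q2398 L36132 q1948, e3 q2399 L36142 q1949, e3 q2400 (flp_a L49216) q2948, e3 q2401 (flp_a L49228) q2949, e3 q2402 (flp_a L49238)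 q2950, e3 q2403 (flp_a L49248) q2951, e3 q2404 (flp_a L49257) q2952, e3 q2405 (flp_a L49266) q2953, e3 q2406 (flp_a L49276) q2954, e3 q2407 (flp_a L49286) q2955, e3 q2408 (flp_a L49307) q2956, e3 q2409 (flp_a L49317) q2957, e3 q2410 (flp_a L49328) q2958, e3 q2411 (flp_a L49340) q2959, e3 q2412 L36281 q2296, e3 q2413 L36300 q2298, e3 q2414 (flp_a L48850) q2902, e3 q2415 (flp_a L48856) q2903, e3 q2416 (flp_a L48865) q2904, e3 q2417 (flp_a L48873) q2905, e3 q2418 (flp_a L48882) q2906, e3 q2419 L36338 q1965, e3 q2420 L36346 q1966, e3 q2421 L36354 q1967, e3 q2422 L36362 q1968, e3 q2423 L36371 q1969, e3 q2424 L36381 q1970, e3 q2425 L36389 q1971, e3 q2426 L36398 q1972, e3 q2427 L36407 q1973, e3 q2428 L36414 q1974, e3 q2429 L36422 q1975, e3 q2430 L36430 q1976, e3 q2431 L36436 q1977, trivial⟩ (by decide +kernel)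

theorem ce_a_38 : ∀ r, r < 64 → sm ga (Qf (2432 + r)) = Qf (tab Gen.a (2432 + r)) :=
  edges_tab (sm ga) Qf (tab Gen.a) 2432 [(2432, 2984), (2433, 2985), (2434, 2986), (2435, 2987), (2436, 2988), (2437, 2989), (2438, 2990), (2439, 2991), (2440, 2992), (2441, 2993), (2442, 2994), (2443, 2995), (2444, 2996), (2445, 2997), (2446, 2998), (2447, 2999), (2448, 3019), (2449, 2386), (2450, 2450), (2451, 2451), (2452, 2452), (2453, 2453), (2454, 2454), (2455, 1990), (2456, 1991), (2457, 1992), (2458, 1993), (2459, 1994), (2460, 3027), (2461, 3028), (2462, 3029), (2463, 3030), (2464, 2464), (2465, 2465), (2466, 2466), (2467, 2003), (2468, 2004), (2469, 2005), (2470, 2006), (2471, 3039), (2472, 3040), (2473, 3041), (2474, 3042), (2475, 3048), (2476, 2007), (2477, 2477), (2478, 2478), (2479, 2479), (2480, 2480), (2481, 2481), (2482, 2482), (2483, 2483), (2484, 2022), (2485, 2023), (2486, 2024), (2487, 2025), (2488, 2026), (2489, 2027), (2490, 2028), (2491, 2029), (2492, 2030), (2493, 2031), (2494,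 2032), (2495, 3061)]
    ⟨e3 q2432 (flp_a L49623) q2984, e3 q2433 (flp_a L49633) q2985, e3 q2434 (flp_a L49641) q2986, e3 q2435 (flp_a L49648) q2987, e3 q2436 (flp_a L49658) q2988, e3 q2437 (flp_a L49662) q2989, e3 q2438 (flp_a L49670) q2990, e3 q2439 (flp_a L49681) q2991, e3 q2440 (flp_a L49690) q2992, e3 q2441 (flp_a L49698) q2993, e3 q2442 (flp_a L49708) q2994, e3 q2443 (flp_a L49716) q2995, e3 q2444 (flp_a L49725) q2996, e3 q2445 (flp_a L49751) q2997, e3 q2446 (flp_a L49759) q2998, e3 q2447 (flp_a L49767) q2999, e3 q2448 L49987 q3019, e3 q2449 L109165 q2386, e3 q2450 L36614 q2450, e3 q2451 L36625 q2451, e3 q2452 L36638 q2452, e3 q2453 L36647 q2453, e3 q2454 L36656 q2454, e3 q2455 L36669 q1990, e3 q2456 L36679 q1991, e3 q2457 L36689 q1992, e3 q2458 L36709 q1993, e3 q2459 L36739 q1994, e3 q2460 (flp_a L50104) q3027, e3 q2461 (flp_a L50114) q3028, e3 q2462 (flp_a L50144) q3029, e3 q2463 (flp_a L50185) q3030, e3 q2464 L37016 q2464, e3 q2465 L37023 q2465, e3 q2466 L37030 q2466, e3 q2467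 L37055 q2003, e3 q2468 L37063 q2004, e3 q2469 L37087 q2005, e3 q2470 L37135 q2006, e3 q2471 (flp_a L50605) q3039, e3 q2472 (flp_a L50613) q3040, e3 q2473 (flp_a L50620) q3041, e3 q2474 (flp_a L50653) q3042, e3 q2475 L50843 q3048, e3 q2476 (flp_a L37292) q2007, e3 q2477 L37321 q2477, e3 q2478 L37329 q2478, e3 q2479 L37337 q2479, e3 q2480 L37346 q2480, e3 q2481 L37354 q2481, e3 q2482 L37360 q2482, e3 q2483 L37369 q2483, e3 q2484 L37397 q2022, e3 q2485 L37403 q2023, e3 q2486 L37413 q2024, e3 q2487 L37422 q2025, e3 q2488 L37432 q2026, e3 q2489 L37438 q2027, e3 q2490 L37446 q2028, e3 q2491 L37453 q2029, e3 q2492 L37461 q2030, e3 q2493 L37494 q2031, e3 q2494 L37501 q2032, e3 q2495 (flp_a L51079) q3061, trivial⟩ (by decide +kernel)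

theorem ce_a_39 : ∀ r, r < 64 → sm ga (Qf (2496 + r)) = Qf (tab Gen.a (2496 + r)) :=
  edges_tab (sm ga) Qf (tab Gen.a) 2496 [(2496, 3062), (2497, 3063), (2498, 3064), (2499, 3065), (2500, 3066), (2501, 3067), (2502, 3068), (2503, 3069), (2504, 3070), (2505, 3071), (2506, 3089), (2507, 3073), (2508, 2033), (2509, 3091), (2510, 3092), (2511, 2036), (2512, 2040), (2513, 2513), (2514, 2045), (2515, 2046), (2516, 3096), (2517, 2078), (2518, 2079), (2519, 2054), (2520, 2055), (2521, 2056), (2522, 2057), (2523, 2058), (2524, 3103), (2525, 3104), (2526, 3105), (2527, 3106), (2528, 2089), (2529, 2090), (2530, 2091), (2531, 2092), (2532, 2093), (2533, 2070), (2534, 2071), (2535, 2072), (2536, 2073), (2537, 2074), (2538, 2075), (2539, 2076), (2540, 2077), (2541, 3119), (2542, 3120), (2543, 3121), (2544, 3122), (2545, 3123), (2546, 3124), (2547, 3125), (2548, 3126), (2549, 3127), (2550, 3098), (2551, 3099), (2552, 3100), (2553, 3101), (2554, 3102), (2555, 2085), (2556, 2086), (2557, 2087), (2558,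 2088), (2559, 3144)]
    ⟨e3 q2496 (flp_a L51087) q3062, e3 q2497 (flp_a L51094) q3063, e3 q2498 (flp_a L51101) q3064, e3 q2499 (flp_a L51109) q3065, e3 q2500 (flp_a L51118) q3066, e3 q2501 (flp_a L51126) q3067, e3 q2502 (flp_a L51132) q3068, e3 q2503 (flp_a L51141) q3069, e3 q2504 (flp_a L51149) q3070, e3 q2505 (flp_a L51156) q3071, e3 q2506 L51407 q3089, e3 q2507 (flp_a L51204) q3073, e3 q2508 (flp_a L37699) q2033, e3 q2509 (flp_a L51489) q3091, e3 q2510 L51552 q3092, e3 q2511 (flp_a L37812) q2036, e3 q2512 L38000 q2040, e3 q2513 L38117 q2513, e3 q2514 L38121 q2045, e3 q2515 L38128 q2046, e3 q2516 (flp_a L52076) q3096, e3 q2517 L38272 q2078, e3 q2518 L38281 q2079, e3 q2519 L38290 q2054, e3 q2520 L38299 q2055, e3 q2521 L38308 q2056, e3 q2522 L38316 q2057, e3 q2523 L38321 q2058, e3 q2524 (flp_a L52308) q3103, e3 q2525 (flp_a L52344) q3104, e3 q2526 (flp_a L52360) q3105, e3 q2527 (flp_a L52366) q3106, e3 q2528 L38511 q2089, e3 q2529 L38519 q2090, e3 q2530 L38527 q2091, e3 q2531 L38536 q2092,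 e3 q2532 L38543 q2093, e3 q2533 L38552 q2070, e3 q2534 L38558 q2071, e3 q2535 L38566 q2072, e3 q2536 L38575 q2073, e3 q2537 L38584 q2074, e3 q2538 L38591 q2075, e3 q2539 L38599 q2076, e3 q2540 L38606 q2077, e3 q2541 (flp_a L52687) q3119, e3 q2542 (flp_a L52694) q3120, e3 q2543 (flp_a L52718) q3121, e3 q2544 (flp_a L52732) q3122, e3 q2545 (flp_a L52749) q3123, e3 q2546 (flp_a L52754) q3124, e3 q2547 (flp_a L52763) q3125, e3 q2548 (flp_a L52769) q3126, e3 q2549 (flp_a L52778) q3127, e3 q2550 (flp_a L52261) q3098, e3 q2551 (flp_a L52271) q3099, e3 q2552 (flp_a L52281) q3100, e3 q2553 (flp_a L52290) q3101, e3 q2554 (flp_a L52297) q3102, e3 q2555 L38861 q2085, e3 q2556 L38898 q2086, e3 q2557 L38915 q2087, e3 q2558 L38922 q2088, e3 q2559 (flp_a L53107) q3144, trivial⟩ (by decide +kernel)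

theorem ce_a_40 : ∀ r, r < 64 → sm ga (Qf (2560 + r)) = Qf (tab Gen.a (2560 + r)) :=
  edges_tab (sm ga) Qf (tab Gen.a) 2560 [(2560, 3145), (2561, 3146), (2562, 3147), (2563, 3148), (2564, 3110), (2565, 3111), (2566, 3112), (2567, 3113), (2568, 3114), (2569, 3115), (2570, 3116), (2571, 3117), (2572, 3118), (2573, 2102), (2574, 2103), (2575, 2104), (2576, 2105), (2577, 2106), (2578, 2107), (2579, 2108), (2580, 2109), (2581, 2110), (2582, 3167), (2583, 3168), (2584, 3169), (2585, 3170), (2586, 3171), (2587, 3172), (2588, 3173), (2589, 3174), (2590, 3175), (2591, 3176), (2592, 3177), (2593, 2593), (2594, 2594), (2595, 2595), (2596, 2596), (2597, 2597), (2598, 2598), (2599, 2599), (2600, 2121), (2601, 2122), (2602, 2123), (2603, 2124), (2604, 2125), (2605, 2126), (2606, 3198), (2607, 3199), (2608, 3200), (2609, 3201), (2610, 3202), (2611, 3203), (2612, 2612), (2613, 2613), (2614, 2614), (2615, 2615), (2616, 2132), (2617, 2133), (2618, 2134), (2619, 3213), (2620, 3214), (2621, 3215), (2622,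 2622), (2623, 2623)]
    ⟨e3 q2560 (flp_a L53169) q3145, e3 q2561 (flp_a L53183) q3146, e3 q2562 (flp_a L53189) q3147, e3 q2563 (flp_a L53198) q3148, e3 q2564 (flp_a L52610) q3110, e3 q2565 (flp_a L52617) q3111, e3 q2566 (flp_a L52626) q3112, e3 q2567 (flp_a L52636) q3113, e3 q2568 (flp_a L52646) q3114, e3 q2569 (flp_a L52654) q3115, e3 q2570 (flp_a L52663) q3116, e3 q2571 (flp_a L52670) q3117, e3 q2572 (flp_a L52678) q3118, e3 q2573 L39213 q2102, e3 q2574 L39221 q2103, e3 q2575 L39246 q2104, e3 q2576 L39261 q2105, e3 q2577 L39279 q2106, e3 q2578 L39285 q2107, e3 q2579 L39295 q2108, e3 q2580 L39302 q2109, e3 q2581 L39312 q2110, e3 q2582 (flp_a L53592) q3167, e3 q2583 (flp_a L53600) q3168, e3 q2584 (flp_a L53608) q3169, e3 q2585 (flp_a L53642) q3170, e3 q2586 (flp_a L53657) q3171, e3 q2587 (flp_a L53676) q3172, e3 q2588 (flp_a L53684) q3173, e3 q2589 (flp_a L53692) q3174, e3 q2590 (flp_a L53700) q3175, e3 q2591 (flp_a L53708) q3176, e3 q2592 (flp_a L53717) q3177, e3 q2593 L39457 q2593, e3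 q2594 L39465 q2594, e3 q2595 L39475 q2595, e3 q2596 L39485 q2596, e3 q2597 L39496 q2597, e3 q2598 L39504 q2598, e3 q2599 L39512 q2599, e3 q2600 L39521 q2121, e3 q2601 L39529 q2122, e3 q2602 L39556 q2123, e3 q2603 L39562 q2124, e3 q2604 L39572 q2125, e3 q2605 L39578 q2126, e3 q2606 (flp_a L53976) q3198, e3 q2607 (flp_a L53982) q3199, e3 q2608 (flp_a L53989) q3200, e3 q2609 (flp_a L54023) q3201, e3 q2610 (flp_a L54030) q3202, e3 q2611 (flp_a L54038) q3203, e3 q2612 L39739 q2612, e3 q2613 L39744 q2613, e3 q2614 L39751 q2614, e3 q2615 L39758 q2615, e3 q2616 L39768 q2132, e3 q2617 L39775 q2133, e3 q2618 L39782 q2134, e3 q2619 (flp_a L54267) q3213, e3 q2620 (flp_a L54274) q3214, e3 q2621 (flp_a L54282) q3215, e3 q2622 L39807 q2622, e3 q2623 L39815 q2623, trivial⟩ (by decide +kernel)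

theorem ce_a_41 : ∀ r, r < 64 → sm ga (Qf (2624 + r)) = Qf (tab Gen.a (2624 + r)) :=
  edges_tab (sm ga) Qf (tab Gen.a) 2624 [(2624, 2624), (2625, 2625), (2626, 2626), (2627, 2627), (2628, 2628), (2629, 2629), (2630, 2630), (2631, 2631), (2632, 2148), (2633, 2149), (2634, 2150), (2635, 2151), (2636, 2152), (2637, 2153), (2638, 2154), (2639, 2155), (2640, 3233), (2641, 3234), (2642, 3235), (2643, 3236), (2644, 3237), (2645, 3238), (2646, 3239), (2647, 3240), (2648, 3241), (2649, 2649), (2650, 2650), (2651, 2651), (2652, 2652), (2653, 2653), (2654, 2654), (2655, 2655), (2656, 2164), (2657, 2165), (2658, 2166), (2659, 3261), (2660, 3262), (2661, 3263), (2662, 2662), (2663, 2663), (2664, 2664), (2665, 2665), (2666, 2666), (2667, 2667), (2668, 2668), (2669, 2669), (2670, 2670), (2671, 2671), (2672, 2672), (2673, 2185), (2674, 3270), (2675, 2675), (2676, 2676), (2677, 2190), (2678, 2205), (2679, 2206), (2680, 2197), (2681, 2198), (2682, 2199), (2683, 2200), (2684, 2201), (2685, 2202), (2686,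 3277), (2687, 3278)]
    ⟨e3 q2624 L39826 q2624, e3 q2625 L39832 q2625, e3 q2626 L39838 q2626, e3 q2627 L39847 q2627, e3 q2628 L39853 q2628, e3 q2629 L39860 q2629, e3 q2630 L39867 q2630, e3 q2631 L39877 q2631, e3 q2632 L39884 q2148, e3 q2633 L39891 q2149, e3 q2634 L39900 q2150, e3 q2635 L39907 q2151, e3 q2636 L39914 q2152, e3 q2637 L39921 q2153, e3 q2638 L39928 q2154, e3 q2639 L39936 q2155, e3 q2640 (flp_a L54415) q3233, e3 q2641 (flp_a L54421) q3234, e3 q2642 (flp_a L54430) q3235, e3 q2643 (flp_a L54438) q3236, e3 q2644 (flp_a L54445) q3237, e3 q2645 (flp_a L54454) q3238, e3 q2646 (flp_a L54460) q3239, e3 q2647 (flp_a L54469) q3240, e3 q2648 (flp_a L54475) q3241, e3 q2649 L40002 q2649, e3 q2650 L40008 q2650, e3 q2651 L40016 q2651, e3 q2652 L40025 q2652, e3 q2653 L40034 q2653, e3 q2654 L40042 q2654, e3 q2655 L40050 q2655, e3 q2656 L40059 q2164, e3 q2657 L40068 q2165, e3 q2658 L40077 q2166, e3 q2659 (flp_a L54627) q3261, e3 q2660 (flp_a L54637) q3262, e3 q2661 (flp_a L54644) q3263, e3 q2662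 L41613 q2662, e3 q2663 L41648 q2663, e3 q2664 L41665 q2664, e3 q2665 L42118 q2665, e3 q2666 L43359 q2666, e3 q2667 L43367 q2667, e3 q2668 L43382 q2668, e3 q2669 L43391 q2669, e3 q2670 L43409 q2670, e3 q2671 L43417 q2671, e3 q2672 L43431 q2672, e3 q2673 L43445 q2185, e3 q2674 (flp_a L59267) q3270, e3 q2675 L43717 q2675, e3 q2676 L43731 q2676, e3 q2677 L43754 q2190, e3 q2678 L44631 q2205, e3 q2679 L44640 q2206, e3 q2680 L44649 q2197, e3 q2681 L44663 q2198, e3 q2682 L44671 q2199, e3 q2683 L44678 q2200, e3 q2684 L44694 q2201, e3 q2685 L44712 q2202, e3 q2686 (flp_a L60890) q3277, e3 q2687 (flp_a L60904) q3278, trivial⟩ (by decide +kernel)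

theorem ce_a_42 : ∀ r, r < 64 → sm ga (Qf (2688 + r)) = Qf (tab Gen.a (2688 + r)) :=
  edges_tab (sm ga) Qf (tab Gen.a) 2688 [(2688, 3279), (2689, 3280), (2690, 3281), (2691, 3282), (2692, 3283), (2693, 3284), (2694, 2388), (2695, 3273), (2696, 3274), (2697, 3275), (2698, 3276), (2699, 2213), (2700, 2214), (2701, 2215), (2702, 2216), (2703, 2217), (2704, 2218), (2705, 2219), (2706, 3303), (2707, 3304), (2708, 3305), (2709, 3306), (2710, 3307), (2711, 3308), (2712, 3309), (2713, 3310), (2714, 2714), (2715, 2222), (2716, 3323), (2717, 2717), (2718, 2718), (2719, 2719), (2720, 2720), (2721, 2721), (2722, 2230), (2723, 2231), (2724, 2232), (2725, 2233), (2726, 2234), (2727, 3332), (2728, 3333), (2729, 3334), (2730, 3335), (2731, 3336), (2732, 3337), (2733, 2733), (2734, 2239), (2735, 2240), (2736, 2241), (2737, 2242), (2738, 2243), (2739, 2244), (2740, 3346), (2741, 3347), (2742, 3348), (2743, 3349), (2744, 3350), (2745, 3351), (2746, 3352), (2747, 3353), (2748, 3354), (2749, 2870), (2750,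 2871), (2751, 2872)]
    ⟨e3 q2688 (flp_a L60921) q3279, e3 q2689 (flp_a L60929) q3280, e3 q2690 (flp_a L60937) q3281, e3 q2691 (flp_a L60944) q3282, e3 q2692 (flp_a L60970) q3283, e3 q2693 (flp_a L60978) q3284, e3 q2694 L44852 q2388, e3 q2695 (flp_a L60845) q3273, e3 q2696 (flp_a L60863) q3274, e3 q2697 (flp_a L60873) q3275, e3 q2698 (flp_a L60881) q3276, e3 q2699 L44894 q2213, e3 q2700 L44909 q2214, e3 q2701 L44926 q2215, e3 q2702 L44935 q2216, e3 q2703 L44943 q2217, e3 q2704 L44951 q2218, e3 q2705 L44989 q2219, e3 q2706 (flp_a L61258) q3303, e3 q2707 (flp_a L61282) q3304, e3 q2708 (flp_a L61286) q3305, e3 q2709 (flp_a L61313) q3306, e3 q2710 (flp_a L61320) q3307, e3 q2711 (flp_a L61330) q3308, e3 q2712 (flp_a L61337) q3309, e3 q2713 (flp_a L61346) q3310, e3 q2714 L45183 q2714, e3 q2715 L45262 q2222, e3 q2716 (flp_a L61782) q3323, e3 q2717 L45690 q2717, e3 q2718 L45698 q2718, e3 q2719 L45708 q2719, e3 q2720 L45715 q2720, e3 q2721 L45723 q2721, e3 q2722 L45801 q2230, e3 q2723 L45806 q2231,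 e3 q2724 L45814 q2232, e3 q2725 L45820 q2233, e3 q2726 L45828 q2234, e3 q2727 (flp_a L62528) q3332, e3 q2728 (flp_a L62535) q3333, e3 q2729 (flp_a L62541) q3334, e3 q2730 (flp_a L62549) q3335, e3 q2731 (flp_a L62556) q3336, e3 q2732 (flp_a L62563) q3337, e3 q2733 L47183 q2733, e3 q2734 L47186 q2239, e3 q2735 L47194 q2240, e3 q2736 L47202 q2241, e3 q2737 L47209 q2242, e3 q2738 L47217 q2243, e3 q2739 L47225 q2244, e3 q2740 (flp_a L64430) q3346, e3 q2741 (flp_a L64438) q3347, e3 q2742 (flp_a L64447) q3348, e3 q2743 (flp_a L64455) q3349, e3 q2744 (flp_a L64463) q3350, e3 q2745 (flp_a L64472) q3351, e3 q2746 (flp_a L64480) q3352, e3 q2747 (flp_a L64487) q3353, e3 q2748 (flp_a L64496) q3354, e3 q2749 (flp_a L48529) q2870, e3 q2750 (flp_a L48538) q2871, e3 q2751 (flp_a L48547) q2872, trivial⟩ (by decide +kernel)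

theorem ce_a_43 : ∀ r, r < 64 → sm ga (Qf (2752 + r)) = Qf (tab Gen.a (2752 + r)) :=
  edges_tab (sm ga) Qf (tab Gen.a) 2752 [(2752, 2873), (2753, 2874), (2754, 2270), (2755, 2271), (2756, 2256), (2757, 2257), (2758, 2258), (2759, 2259), (2760, 2260), (2761, 2261), (2762, 2262), (2763, 2263), (2764, 2264), (2765, 3375), (2766, 3376), (2767, 3377), (2768, 3378), (2769, 3379), (2770, 3380), (2771, 3381), (2772, 3382), (2773, 3383), (2774, 3384), (2775, 3385), (2776, 3386), (2777, 3387), (2778, 2820), (2779, 2898), (2780, 2899), (2781, 2900), (2782, 2901), (2783, 3370), (2784, 3371), (2785, 3372), (2786, 3373), (2787, 3374), (2788, 2281), (2789, 2282), (2790, 2283), (2791, 2284), (2792, 2285), (2793, 2286), (2794, 2287), (2795, 2288), (2796, 2289), (2797, 2290), (2798, 2291), (2799, 2292), (2800, 2293), (2801, 3422), (2802, 3423), (2803, 3424), (2804, 3425), (2805, 3426), (2806, 3427), (2807, 3428), (2808, 3429), (2809, 3430), (2810, 3431), (2811, 3432), (2812, 3433), (2813, 3434), (2814,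 3435), (2815, 3436)]
    ⟨e3 q2752 (flp_a L48555) q2873, e3 q2753 (flp_a L48564) q2874, e3 q2754 L47340 q2270, e3 q2755 L47349 q2271, e3 q2756 L47358 q2256, e3 q2757 L47368 q2257, e3 q2758 L47378 q2258, e3 q2759 L47386 q2259, e3 q2760 L47392 q2260, e3 q2761 L47403 q2261, e3 q2762 L47412 q2262, e3 q2763 L47420 q2263, e3 q2764 L47427 q2264, e3 q2765 (flp_a L64693) q3375, e3 q2766 (flp_a L64703) q3376, e3 q2767 (flp_a L64713) q3377, e3 q2768 (flp_a L64723) q3378, e3 q2769 (flp_a L64732) q3379, e3 q2770 (flp_a L64739) q3380, e3 q2771 (flp_a L64749) q3381, e3 q2772 (flp_a L64757) q3382, e3 q2773 (flp_a L64764) q3383, e3 q2774 (flp_a L64774) q3384, e3 q2775 (flp_a L64782) q3385, e3 q2776 (flp_a L64789) q3386, e3 q2777 (flp_a L64799) q3387, e3 q2778 (flp_a L109102) q2820, e3 q2779 (flp_a L48814) q2898, e3 q2780 (flp_a L48821) q2899, e3 q2781 (flp_a L48833) q2900, e3 q2782 (flp_a L48842) q2901, e3 q2783 (flp_a L64646) q3370, e3 q2784 (flp_a L64656) q3371, e3 q2785 (flp_a L64666) q3372, e3 q2786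 (flp_a L64674) q3373, e3 q2787 (flp_a L64682) q3374, e3 q2788 L47624 q2281, e3 q2789 L47635 q2282, e3 q2790 L47645 q2283, e3 q2791 L47655 q2284, e3 q2792 L47664 q2285, e3 q2793 L47672 q2286, e3 q2794 L47682 q2287, e3 q2795 L47691 q2288, e3 q2796 L47699 q2289, e3 q2797 L47710 q2290, e3 q2798 L47718 q2291, e3 q2799 L47727 q2292, e3 q2800 L47737 q2293, e3 q2801 (flp_a L65080) q3422, e3 q2802 (flp_a L65091) q3423, e3 q2803 (flp_a L65100) q3424, e3 q2804 (flp_a L65111) q3425, e3 q2805 (flp_a L65121) q3426, e3 q2806 (flp_a L65127) q3427, e3 q2807 (flp_a L65139) q3428, e3 q2808 (flp_a L65148) q3429, e3 q2809 (flp_a L65159) q3430, e3 q2810 (flp_a L65165) q3431, e3 q2811 (flp_a L65174) q3432, e3 q2812 (flp_a L65182) q3433, e3 q2813 (flp_a L65192) q3434, e3 q2814 (flp_a L65201) q3435, e3 q2815 (flp_a L65210) q3436, trivial⟩ (by decide +kernel)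

theorem ce_a_44 : ∀ r, r < 64 → sm ga (Qf (2816 + r)) = Qf (tab Gen.a (2816 + r)) :=
  edges_tab (sm ga) Qf (tab Gen.a) 2816 [(2816, 3437), (2817, 3438), (2818, 3439), (2819, 2821), (2820, 2778), (2821, 2819), (2822, 3465), (2823, 2938), (2824, 2824), (2825, 2825), (2826, 2826), (2827, 2827), (2828, 2828), (2829, 2829), (2830, 2830), (2831, 2831), (2832, 2314), (2833, 2315), (2834, 2316), (2835, 2317), (2836, 2318), (2837, 2319), (2838, 2320), (2839, 2321), (2840, 2322), (2841, 2323), (2842, 3478), (2843, 3479), (2844, 3480), (2845, 3481), (2846, 3482), (2847, 3483), (2848, 3484), (2849, 3485), (2850, 3486), (2851, 3487), (2852, 3501), (2853, 3502), (2854, 2325), (2855, 2855), (2856, 2330), (2857, 2331), (2858, 2332), (2859, 2333), (2860, 2334), (2861, 2335), (2862, 3505), (2863, 3506), (2864, 3507), (2865, 3508), (2866, 3509), (2867, 3510), (2868, 3511), (2869, 3512), (2870, 2749), (2871, 2750), (2872, 2751), (2873, 2752), (2874, 2753), (2875, 2389), (2876, 2390), (2877, 2347), (2878,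 2348), (2879, 2349)]
    ⟨e3 q2816 (flp_a L65219) q3437, e3 q2817 (flp_a L65229) q3438, e3 q2818 (flp_a L65238) q3439, e3 q2819 (flp_a L109136) q2821, e3 q2820 L109102 q2778, e3 q2821 L109136 q2819, e3 q2822 L65481 q3465, e3 q2823 L109145 q2938, e3 q2824 L47940 q2824, e3 q2825 L47950 q2825, e3 q2826 L47959 q2826, e3 q2827 L47968 q2827, e3 q2828 L47977 q2828, e3 q2829 L47985 q2829, e3 q2830 L47994 q2830, e3 q2831 L48002 q2831, e3 q2832 L48012 q2314, e3 q2833 L48021 q2315, e3 q2834 L48028 q2316, e3 q2835 L48040 q2317, e3 q2836 L48050 q2318, e3 q2837 L48068 q2319, e3 q2838 L48090 q2320, e3 q2839 L48097 q2321, e3 q2840 L48127 q2322, e3 q2841 L48144 q2323, e3 q2842 (flp_a L65634) q3478, e3 q2843 (flp_a L65644) q3479, e3 q2844 (flp_a L65651) q3480, e3 q2845 (flp_a L65659) q3481, e3 q2846 (flp_a L65680) q3482, e3 q2847 (flp_a L65698) q3483, e3 q2848 (flp_a L65706) q3484, e3 q2849 (flp_a L65721) q3485, e3 q2850 (flp_a L65740) q3486, e3 q2851 (flp_a L65778) q3487, e3 q2852 L66026 q3501, e3 q2853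 L66089 q3502, e3 q2854 (flp_a L48367) q2325, e3 q2855 L48395 q2855, e3 q2856 L48400 q2330, e3 q2857 L48409 q2331, e3 q2858 L48417 q2332, e3 q2859 L48426 q2333, e3 q2860 L48436 q2334, e3 q2861 L48446 q2335, e3 q2862 (flp_a L66153) q3505, e3 q2863 (flp_a L66171) q3506, e3 q2864 (flp_a L66179) q3507, e3 q2865 (flp_a L66188) q3508, e3 q2866 (flp_a L66197) q3509, e3 q2867 (flp_a L66207) q3510, e3 q2868 (flp_a L66216) q3511, e3 q2869 (flp_a L66227) q3512, e3 q2870 L48529 q2749, e3 q2871 L48538 q2750, e3 q2872 L48547 q2751, e3 q2873 L48555 q2752, e3 q2874 L48564 q2753, e3 q2875 L48575 q2389, e3 q2876 L48587 q2390, e3 q2877 L48598 q2347, e3 q2878 L48608 q2348, e3 q2879 L48619 q2349, trivial⟩ (by decide +kernel)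

theorem ce_a_45 : ∀ r, r < 64 → sm ga (Qf (2880 + r)) = Qf (tab Gen.a (2880 + r)) :=
  edges_tab (sm ga) Qf (tab Gen.a) 2880 [(2880, 2350), (2881, 2351), (2882, 2352), (2883, 2353), (2884, 2354), (2885, 2355), (2886, 3532), (2887, 3533), (2888, 3534), (2889, 3535), (2890, 3536), (2891, 3537), (2892, 3538), (2893, 3539), (2894, 3540), (2895, 3541), (2896, 3542), (2897, 3543), (2898, 2779), (2899, 2780), (2900, 2781), (2901, 2782), (2902, 2414), (2903, 2415), (2904, 2416), (2905, 2417), (2906, 2418), (2907, 2371), (2908, 2372), (2909, 2373), (2910, 2374), (2911, 2375), (2912, 2376), (2913, 2377), (2914, 2378), (2915, 2379), (2916, 2380), (2917, 2381), (2918, 2382), (2919, 2383), (2920, 3571), (2921, 3572), (2922, 3573), (2923, 3574), (2924, 3575), (2925, 3576), (2926, 3577), (2927, 3578), (2928, 3579), (2929, 3580), (2930, 3581), (2931, 3582), (2932, 3583), (2933, 3584), (2934, 3585), (2935, 3586), (2936, 3587), (2937, 3588), (2938, 2823), (2939, 2941), (2940, 3614), (2941, 2939), (2942,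 3295), (2943, 3527)]
    ⟨e3 q2880 L48627 q2350, e3 q2881 L48634 q2351, e3 q2882 L48645 q2352, e3 q2883 L48656 q2353, e3 q2884 L48666 q2354, e3 q2885 L48675 q2355, e3 q2886 (flp_a L66449) q3532, e3 q2887 (flp_a L66460) q3533, e3 q2888 (flp_a L66470) q3534, e3 q2889 (flp_a L66480) q3535, e3 q2890 (flp_a L66489) q3536, e3 q2891 (flp_a L66497) q3537, e3 q2892 (flp_a L66507) q3538, e3 q2893 (flp_a L66516) q3539, e3 q2894 (flp_a L66535) q3540, e3 q2895 (flp_a L66545) q3541, e3 q2896 (flp_a L66554) q3542, e3 q2897 (flp_a L66566) q3543, e3 q2898 L48814 q2779, e3 q2899 L48821 q2780, e3 q2900 L48833 q2781, e3 q2901 L48842 q2782, e3 q2902 L48850 q2414, e3 q2903 L48856 q2415, e3 q2904 L48865 q2416, e3 q2905 L48873 q2417, e3 q2906 L48882 q2418, e3 q2907 L48889 q2371, e3 q2908 L48896 q2372, e3 q2909 L48904 q2373, e3 q2910 L48912 q2374, e3 q2911 L48921 q2375, e3 q2912 L48930 q2376, e3 q2913 L48938 q2377, e3 q2914 L48946 q2378, e3 q2915 L48954 q2379, e3 q2916 L48960 q2380, e3 q2917 L48968 q2381, e3 q2918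 L48974 q2382, e3 q2919 L48980 q2383, e3 q2920 (flp_a L66877) q3571, e3 q2921 (flp_a L66886) q3572, e3 q2922 (flp_a L66893) q3573, e3 q2923 (flp_a L66900) q3574, e3 q2924 (flp_a L66910) q3575, e3 q2925 (flp_a L66914) q3576, e3 q2926 (flp_a L66922) q3577, e3 q2927 (flp_a L66932) q3578, e3 q2928 (flp_a L66941) q3579, e3 q2929 (flp_a L66948) q3580, e3 q2930 (flp_a L66957) q3581, e3 q2931 (flp_a L66964) q3582, e3 q2932 (flp_a L66972) q3583, e3 q2933 (flp_a L66980) q3584, e3 q2934 (flp_a L66987) q3585, e3 q2935 (flp_a L66995) q3586, e3 q2936 (flp_a L67003) q3587, e3 q2937 (flp_a L67009) q3588, e3 q2938 (flp_a L109145) q2823, e3 q2939 L103999 q2941, e3 q2940 L67240 q3614, e3 q2941 (flp_a L103999) q2939, e3 q2942 (flp_a L61177) q3295, e3 q2943 (flp_a L66392) q3527, trivial⟩ (by decide +kernel)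

theorem ce_a_46 : ∀ r, r < 64 → sm ga (Qf (2944 + r)) = Qf (tab Gen.a (2944 + r)) :=
  edges_tab (sm ga) Qf (tab Gen.a) 2944 [(2944, 3528), (2945, 3529), (2946, 3530), (2947, 3531), (2948, 2400), (2949, 2401), (2950, 2402), (2951, 2403), (2952, 2404), (2953, 2405), (2954, 2406), (2955, 2407), (2956, 2408), (2957, 2409), (2958, 2410), (2959, 2411), (2960, 3626), (2961, 3627), (2962, 3628), (2963, 3629), (2964, 3630), (2965, 3631), (2966, 3632), (2967, 3633), (2968, 3634), (2969, 3635), (2970, 3636), (2971, 3637), (2972, 3638), (2973, 3639), (2974, 3640), (2975, 3562), (2976, 3563), (2977, 3564), (2978, 3565), (2979, 3566), (2980, 3567), (2981, 3568), (2982, 3569), (2983, 3570), (2984, 2432), (2985, 2433), (2986, 2434), (2987, 2435), (2988, 2436), (2989, 2437), (2990, 2438), (2991, 2439), (2992, 2440), (2993, 2441), (2994, 2442), (2995, 2443), (2996, 2444), (2997, 2445), (2998, 2446), (2999, 2447), (3000, 3673), (3001, 3674), (3002, 3675), (3003, 3676), (3004, 3677), (3005, 3678), (3006,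 3679), (3007, 3680)]
    ⟨e3 q2944 (flp_a L66404) q3528, e3 q2945 (flp_a L66417) q3529, e3 q2946 (flp_a L66427) q3530, e3 q2947 (flp_a L66436) q3531, e3 q2948 L49216 q2400, e3 q2949 L49228 q2401, e3 q2950 L49238 q2402, e3 q2951 L49248 q2403, e3 q2952 L49257 q2404, e3 q2953 L49266 q2405, e3 q2954 L49276 q2406, e3 q2955 L49286 q2407, e3 q2956 L49307 q2408, e3 q2957 L49317 q2409, e3 q2958 L49328 q2410, e3 q2959 L49340 q2411, e3 q2960 (flp_a L67342) q3626, e3 q2961 (flp_a L67354) q3627, e3 q2962 (flp_a L67375) q3628, e3 q2963 (flp_a L67385) q3629, e3 q2964 (flp_a L67391) q3630, e3 q2965 (flp_a L67403) q3631, e3 q2966 (flp_a L67413) q3632, e3 q2967 (flp_a L67424) q3633, e3 q2968 (flp_a L67431) q3634, e3 q2969 (flp_a L67440) q3635, e3 q2970 (flp_a L67449) q3636, e3 q2971 (flp_a L67459) q3637, e3 q2972 (flp_a L67491) q3638, e3 q2973 (flp_a L67503) q3639, e3 q2974 (flp_a L67512) q3640, e3 q2975 (flp_a L66800) q3562, e3 q2976 (flp_a L66808) q3563, e3 q2977 (flp_a L66816) q3564, e3 q2978 (flp_a L66824)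 q3565, e3 q2979 (flp_a L66833) q3566, e3 q2980 (flp_a L66843) q3567, e3 q2981 (flp_a L66851) q3568, e3 q2982 (flp_a L66859) q3569, e3 q2983 (flp_a L66868) q3570, e3 q2984 L49623 q2432, e3 q2985 L49633 q2433, e3 q2986 L49641 q2434, e3 q2987 L49648 q2435, e3 q2988 L49658 q2436, e3 q2989 L49662 q2437, e3 q2990 L49670 q2438, e3 q2991 L49681 q2439, e3 q2992 L49690 q2440, e3 q2993 L49698 q2441, e3 q2994 L49708 q2442, e3 q2995 L49716 q2443, e3 q2996 L49725 q2444, e3 q2997 L49751 q2445, e3 q2998 L49759 q2446, e3 q2999 L49767 q2447, e3 q3000 (flp_a L67920) q3673, e3 q3001 (flp_a L67928) q3674, e3 q3002 (flp_a L67938) q3675, e3 q3003 (flp_a L67944) q3676, e3 q3004 (flp_a L67961) q3677, e3 q3005 (flp_a L67967) q3678, e3 q3006 (flp_a L67977) q3679, e3 q3007 (flp_a L67983) q3680, trivial⟩ (by decide +kernel)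

theorem ce_a_47 : ∀ r, r < 64 → sm ga (Qf (3008 + r)) = Qf (tab Gen.a (3008 + r)) :=
  edges_tab (sm ga) Qf (tab Gen.a) 3008 [(3008, 3681), (3009, 3682), (3010, 3683), (3011, 3684), (3012, 3685), (3013, 3686), (3014, 3687), (3015, 3688), (3016, 3689), (3017, 3716), (3018, 3691), (3019, 2448), (3020, 3718), (3021, 3021), (3022, 3022), (3023, 3023), (3024, 3024), (3025, 3025), (3026, 3026), (3027, 2460), (3028, 2461), (3029, 2462), (3030, 2463), (3031, 3726), (3032, 3727), (3033, 3728), (3034, 3729), (3035, 3035), (3036, 3036), (3037, 3037), (3038, 3038), (3039, 2471), (3040, 2472), (3041, 2473), (3042, 2474), (3043, 3743), (3044, 3739), (3045, 3740), (3046, 3741), (3047, 3746), (3048, 2475), (3049, 3049), (3050, 3050), (3051, 3051), (3052, 3052), (3053, 3053), (3054, 3054), (3055, 3055), (3056, 3056), (3057, 3057), (3058, 3058), (3059, 3059), (3060, 3060), (3061, 2495), (3062, 2496), (3063, 2497), (3064, 2498), (3065, 2499), (3066, 2500), (3067, 2501), (3068, 2502), (3069, 2503), (3070,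 2504), (3071, 2505)]
    ⟨e3 q3008 (flp_a L67989) q3681, e3 q3009 (flp_a L67995) q3682, e3 q3010 (flp_a L68005) q3683, e3 q3011 (flp_a L68016) q3684, e3 q3012 (flp_a L68026) q3685, e3 q3013 (flp_a L68034) q3686, e3 q3014 (flp_a L68044) q3687, e3 q3015 (flp_a L68053) q3688, e3 q3016 (flp_a L68061) q3689, e3 q3017 L68346 q3716, e3 q3018 (flp_a L68113) q3691, e3 q3019 (flp_a L49987) q2448, e3 q3020 (flp_a L68431) q3718, e3 q3021 L50009 q3021, e3 q3022 L50020 q3022, e3 q3023 L50031 q3023, e3 q3024 L50053 q3024, e3 q3025 L50073 q3025, e3 q3026 L50094 q3026, e3 q3027 L50104 q2460, e3 q3028 L50114 q2461, e3 q3029 L50144 q2462, e3 q3030 L50185 q2463, e3 q3031 (flp_a L68628) q3726, e3 q3032 (flp_a L68636) q3727, e3 q3033 (flp_a L68644) q3728, e3 q3034 (flp_a L68692) q3729, e3 q3035 L50539 q3035, e3 q3036 L50544 q3036, e3 q3037 L50553 q3037, e3 q3038 L50576 q3038, e3 q3039 L50605 q2471, e3 q3040 L50613 q2472, e3 q3041 L50620 q2473, e3 q3042 L50653 q2474, e3 q3043 L69409 q3743, e3 q3044 (flp_a L69290)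 q3739, e3 q3045 (flp_a L69298) q3740, e3 q3046 (flp_a L69305) q3741, e3 q3047 L69522 q3746, e3 q3048 (flp_a L50843) q2475, e3 q3049 L50953 q3049, e3 q3050 L50960 q3050, e3 q3051 L50969 q3051, e3 q3052 L50979 q3052, e3 q3053 L50988 q3053, e3 q3054 L50995 q3054, e3 q3055 L51002 q3055, e3 q3056 L51011 q3056, e3 q3057 L51019 q3057, e3 q3058 L51025 q3058, e3 q3059 L51033 q3059, e3 q3060 L51042 q3060, e3 q3061 L51079 q2495, e3 q3062 L51087 q2496, e3 q3063 L51094 q2497, e3 q3064 L51101 q2498, e3 q3065 L51109 q2499, e3 q3066 L51118 q2500, e3 q3067 L51126 q2501, e3 q3068 L51132 q2502, e3 q3069 L51141 q2503, e3 q3070 L51149 q2504, e3 q3071 L51156 q2505, trivial⟩ (by decide +kernel)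

theorem ce_a_48 : ∀ r, r < 64 → sm ga (Qf (3072 + r)) = Qf (tab Gen.a (3072 + r)) :=
  edges_tab (sm ga) Qf (tab Gen.a) 3072 [(3072, 3780), (3073, 2507), (3074, 3782), (3075, 3766), (3076, 3767), (3077, 3768), (3078, 3769), (3079, 3770), (3080, 3771), (3081, 3772), (3082, 3773), (3083, 3774), (3084, 3775), (3085, 3776), (3086, 3777), (3087, 3778), (3088, 3779), (3089, 2506), (3090, 3800), (3091, 2509), (3092, 2510), (3093, 3093), (3094, 3094), (3095, 3095), (3096, 2516), (3097, 3802), (3098, 2550), (3099, 2551), (3100, 2552), (3101, 2553), (3102, 2554), (3103, 2524), (3104, 2525), (3105, 2526), (3106, 2527), (3107, 3808), (3108, 3809), (3109, 3810), (3110, 2564), (3111, 2565), (3112, 2566), (3113, 2567), (3114, 2568), (3115, 2569), (3116, 2570), (3117, 2571), (3118, 2572), (3119, 2541), (3120, 2542), (3121, 2543), (3122, 2544), (3123, 2545), (3124, 2546), (3125, 2547), (3126, 2548), (3127, 2549), (3128, 3825), (3129, 3826), (3130, 3827), (3131, 3828), (3132, 3829), (3133, 3830), (3134,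 3831), (3135, 3832)]
    ⟨e3 q3072 L70085 q3780, e3 q3073 L51204 q2507, e3 q3074 L70173 q3782, e3 q3075 (flp_a L69925) q3766, e3 q3076 (flp_a L69932) q3767, e3 q3077 (flp_a L69941) q3768, e3 q3078 (flp_a L69949) q3769, e3 q3079 (flp_a L69957) q3770, e3 q3080 (flp_a L69964) q3771, e3 q3081 (flp_a L69971) q3772, e3 q3082 (flp_a L69979) q3773, e3 q3083 (flp_a L69989) q3774, e3 q3084 (flp_a L69997) q3775, e3 q3085 (flp_a L70005) q3776, e3 q3086 (flp_a L70013) q3777, e3 q3087 (flp_a L70021) q3778, e3 q3088 (flp_a L70029) q3779, e3 q3089 (flp_a L51407) q2506, e3 q3090 (flp_a L70368) q3800, e3 q3091 L51489 q2509, e3 q3092 (flp_a L51552) q2510, e3 q3093 L51870 q3093, e3 q3094 L52039 q3094, e3 q3095 L52046 q3095, e3 q3096 L52076 q2516, e3 q3097 (flp_a L71260) q3802, e3 q3098 L52261 q2550, e3 q3099 L52271 q2551, e3 q3100 L52281 q2552, e3 q3101 L52290 q2553, e3 q3102 L52297 q2554, e3 q3103 L52308 q2524, e3 q3104 L52344 q2525, e3 q3105 L52360 q2526, e3 q3106 L52366 q2527, e3 q3107 (flp_a L71663) q3808,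 e3 q3108 (flp_a L71668) q3809, e3 q3109 (flp_a L71676) q3810, e3 q3110 L52610 q2564, e3 q3111 L52617 q2565, e3 q3112 L52626 q2566, e3 q3113 L52636 q2567, e3 q3114 L52646 q2568, e3 q3115 L52654 q2569, e3 q3116 L52663 q2570, e3 q3117 L52670 q2571, e3 q3118 L52678 q2572, e3 q3119 L52687 q2541, e3 q3120 L52694 q2542, e3 q3121 L52718 q2543, e3 q3122 L52732 q2544, e3 q3123 L52749 q2545, e3 q3124 L52754 q2546, e3 q3125 L52763 q2547, e3 q3126 L52769 q2548, e3 q3127 L52778 q2549, e3 q3128 (flp_a L72128) q3825, e3 q3129 (flp_a L72135) q3826, e3 q3130 (flp_a L72142) q3827, e3 q3131 (flp_a L72181) q3828, e3 q3132 (flp_a L72194) q3829, e3 q3133 (flp_a L72211) q3830, e3 q3134 (flp_a L72218) q3831, e3 q3135 (flp_a L72225) q3832, trivial⟩ (by decide +kernel)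

theorem ce_a_49 : ∀ r, r < 64 → sm ga (Qf (3136 + r)) = Qf (tab Gen.a (3136 + r)) :=
  edges_tab (sm ga) Qf (tab Gen.a) 3136 [(3136, 3833), (3137, 3834), (3138, 3835), (3139, 3803), (3140, 3804), (3141, 3805), (3142, 3806), (3143, 3807), (3144, 2559), (3145, 2560), (3146, 2561), (3147, 2562), (3148, 2563), (3149, 3854), (3150, 3855), (3151, 3856), (3152, 3857), (3153, 3858), (3154, 3812), (3155, 3813), (3156, 3814), (3157, 3815), (3158, 3816), (3159, 3817), (3160, 3818), (3161, 3819), (3162, 3820), (3163, 3821), (3164, 3822), (3165, 3823), (3166, 3824), (3167, 2582), (3168, 2583), (3169, 2584), (3170, 2585), (3171, 2586), (3172, 2587), (3173, 2588), (3174, 2589), (3175, 2590), (3176, 2591), (3177, 2592), (3178, 3883), (3179, 3884), (3180, 3885), (3181, 3886), (3182, 3887), (3183, 3888), (3184, 3889), (3185, 3890), (3186, 3891), (3187, 3892), (3188, 3893), (3189, 3189), (3190, 3190), (3191, 3191), (3192, 3192), (3193, 3193), (3194, 3194), (3195, 3195), (3196, 3196), (3197, 3197), (3198,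 2606), (3199, 2607)]
    ⟨e3 q3136 (flp_a L72232) q3833, e3 q3137 (flp_a L72239) q3834, e3 q3138 (flp_a L72247) q3835, e3 q3139 (flp_a L71500) q3803, e3 q3140 (flp_a L71540) q3804, e3 q3141 (flp_a L71559) q3805, e3 q3142 (flp_a L71565) q3806, e3 q3143 (flp_a L71573) q3807, e3 q3144 L53107 q2559, e3 q3145 L53169 q2560, e3 q3146 L53183 q2561, e3 q3147 L53189 q2562, e3 q3148 L53198 q2563, e3 q3149 (flp_a L72719) q3854, e3 q3150 (flp_a L72793) q3855, e3 q3151 (flp_a L72816) q3856, e3 q3152 (flp_a L72823) q3857, e3 q3153 (flp_a L72831) q3858, e3 q3154 (flp_a L71977) q3812, e3 q3155 (flp_a L71984) q3813, e3 q3156 (flp_a L71992) q3814, e3 q3157 (flp_a L72019) q3815, e3 q3158 (flp_a L72036) q3816, e3 q3159 (flp_a L72055) q3817, e3 q3160 (flp_a L72063) q3818, e3 q3161 (flp_a L72069) q3819, e3 q3162 (flp_a L72079) q3820, e3 q3163 (flp_a L72087) q3821, e3 q3164 (flp_a L72096) q3822, e3 q3165 (flp_a L72103) q3823, e3 q3166 (flp_a L72113) q3824, e3 q3167 L53592 q2582, e3 q3168 L53600 q2583, e3 q3169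 L53608 q2584, e3 q3170 L53642 q2585, e3 q3171 L53657 q2586, e3 q3172 L53676 q2587, e3 q3173 L53684 q2588, e3 q3174 L53692 q2589, e3 q3175 L53700 q2590, e3 q3176 L53708 q2591, e3 q3177 L53717 q2592, e3 q3178 (flp_a L73391) q3883, e3 q3179 (flp_a L73399) q3884, e3 q3180 (flp_a L73406) q3885, e3 q3181 (flp_a L73450) q3886, e3 q3182 (flp_a L73473) q3887, e3 q3183 (flp_a L73499) q3888, e3 q3184 (flp_a L73507) q3889, e3 q3185 (flp_a L73517) q3890, e3 q3186 (flp_a L73525) q3891, e3 q3187 (flp_a L73535) q3892, e3 q3188 (flp_a L73543) q3893, e3 q3189 L53876 q3189, e3 q3190 L53883 q3190, e3 q3191 L53892 q3191, e3 q3192 L53920 q3192, e3 q3193 L53927 q3193, e3 q3194 L53937 q3194, e3 q3195 L53945 q3195, e3 q3196 L53951 q3196, e3 q3197 L53960 q3197, e3 q3198 L53976 q2606, e3 q3199 L53982 q2607, trivial⟩ (by decide +kernel)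

theorem ce_a_50 : ∀ r, r < 64 → sm ga (Qf (3200 + r)) = Qf (tab Gen.a (3200 + r)) :=
  edges_tab (sm ga) Qf (tab Gen.a) 3200 [(3200, 2608), (3201, 2609), (3202, 2610), (3203, 2611), (3204, 3917), (3205, 3918), (3206, 3919), (3207, 3920), (3208, 3208), (3209, 3209), (3210, 3210), (3211, 3211), (3212, 3212), (3213, 2619), (3214, 2620), (3215, 2621), (3216, 3930), (3217, 3931), (3218, 3218), (3219, 3219), (3220, 3220), (3221, 3221), (3222, 3222), (3223, 3223), (3224, 3224), (3225, 3225), (3226, 3226), (3227, 3227), (3228, 3228), (3229, 3229), (3230, 3230), (3231, 3231), (3232, 3232), (3233, 2640), (3234, 2641), (3235, 2642), (3236, 2643), (3237, 2644), (3238, 2645), (3239, 2646), (3240, 2647), (3241, 2648), (3242, 3955), (3243, 3956), (3244, 3957), (3245, 3958), (3246, 3959), (3247, 3960), (3248, 3961), (3249, 3962), (3250, 3963), (3251, 3251), (3252, 3252), (3253, 3253), (3254, 3254), (3255, 3255), (3256, 3256), (3257, 3257), (3258, 3258), (3259, 3259), (3260, 3260), (3261, 2659), (3262,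 2660), (3263, 2661)]
    ⟨e3 q3200 L53989 q2608, e3 q3201 L54023 q2609, e3 q3202 L54030 q2610, e3 q3203 L54038 q2611, e3 q3204 (flp_a L73875) q3917, e3 q3205 (flp_a L73890) q3918, e3 q3206 (flp_a L73896) q3919, e3 q3207 (flp_a L73944) q3920, e3 q3208 L54232 q3208, e3 q3209 L54238 q3209, e3 q3210 L54244 q3210, e3 q3211 L54252 q3211, e3 q3212 L54260 q3212, e3 q3213 L54267 q2619, e3 q3214 L54274 q2620, e3 q3215 L54282 q2621, e3 q3216 (flp_a L74246) q3930, e3 q3217 (flp_a L74253) q3931, e3 q3218 L54302 q3218, e3 q3219 L54309 q3219, e3 q3220 L54317 q3220, e3 q3221 L54327 q3221, e3 q3222 L54332 q3222, e3 q3223 L54340 q3223, e3 q3224 L54348 q3224, e3 q3225 L54356 q3225, e3 q3226 L54364 q3226, e3 q3227 L54371 q3227, e3 q3228 L54376 q3228, e3 q3229 L54384 q3229, e3 q3230 L54390 q3230, e3 q3231 L54398 q3231, e3 q3232 L54407 q3232, e3 q3233 L54415 q2640, e3 q3234 L54421 q2641, e3 q3235 L54430 q2642, e3 q3236 L54438 q2643, e3 q3237 L54445 q2644, e3 q3238 L54454 q2645, e3 q3239 L54460 q2646, e3 q3240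 L54469 q2647, e3 q3241 L54475 q2648, e3 q3242 (flp_a L74443) q3955, e3 q3243 (flp_a L74451) q3956, e3 q3244 (flp_a L74459) q3957, e3 q3245 (flp_a L74467) q3958, e3 q3246 (flp_a L74476) q3959, e3 q3247 (flp_a L74484) q3960, e3 q3248 (flp_a L74490) q3961, e3 q3249 (flp_a L74497) q3962, e3 q3250 (flp_a L74505) q3963, e3 q3251 L54543 q3251, e3 q3252 L54549 q3252, e3 q3253 L54556 q3253, e3 q3254 L54564 q3254, e3 q3255 L54573 q3255, e3 q3256 L54582 q3256, e3 q3257 L54592 q3257, e3 q3258 L54601 q3258, e3 q3259 L54610 q3259, e3 q3260 L54619 q3260, e3 q3261 L54627 q2659, e3 q3262 L54637 q2660, e3 q3263 L54644 q2661, trivial⟩ (by decide +kernel)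

theorem ce_a_51 : ∀ r, r < 64 → sm ga (Qf (3264 + r)) = Qf (tab Gen.a (3264 + r)) :=
  edges_tab (sm ga) Qf (tab Gen.a) 3264 [(3264, 3264), (3265, 3265), (3266, 3266), (3267, 3267), (3268, 3268), (3269, 3269), (3270, 2674), (3271, 3271), (3272, 3272), (3273, 2695), (3274, 2696), (3275, 2697), (3276, 2698), (3277, 2686), (3278, 2687), (3279, 2688), (3280, 2689), (3281, 2690), (3282, 2691), (3283, 2692), (3284, 2693), (3285, 3994), (3286, 3995), (3287, 3996), (3288, 3997), (3289, 3998), (3290, 3999), (3291, 4000), (3292, 4001), (3293, 4002), (3294, 4003), (3295, 2942), (3296, 3987), (3297, 3988), (3298, 3989), (3299, 3990), (3300, 3991), (3301, 3992), (3302, 3993), (3303, 2706), (3304, 2707), (3305, 2708), (3306, 2709), (3307, 2710), (3308, 2711), (3309, 2712), (3310, 2713), (3311, 4029), (3312, 4030), (3313, 4031), (3314, 4032), (3315, 4033), (3316, 4034), (3317, 4035), (3318, 4036), (3319, 4037), (3320, 4038), (3321, 3321), (3322, 3322), (3323, 2716), (3324, 3324), (3325, 3325), (3326,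 3326), (3327, 3327)]
    ⟨e3 q3264 L56767 q3264, e3 q3265 L56847 q3265, e3 q3266 L59133 q3266, e3 q3267 L59149 q3267, e3 q3268 L59214 q3268, e3 q3269 L59245 q3269, e3 q3270 L59267 q2674, e3 q3271 L59617 q3271, e3 q3272 L59647 q3272, e3 q3273 L60845 q2695, e3 q3274 L60863 q2696, e3 q3275 L60873 q2697, e3 q3276 L60881 q2698, e3 q3277 L60890 q2686, e3 q3278 L60904 q2687, e3 q3279 L60921 q2688, e3 q3280 L60929 q2689, e3 q3281 L60937 q2690, e3 q3282 L60944 q2691, e3 q3283 L60970 q2692, e3 q3284 L60978 q2693, e3 q3285 (flp_a L121167) q3994, e3 q3286 (flp_a L121173) q3995, e3 q3287 (flp_a L121177) q3996, e3 q3288 (flp_a L121185) q3997, e3 q3289 (flp_a L121191) q3998, e3 q3290 (flp_a L121200) q3999, e3 q3291 (flp_a L121206) q4000, e3 q3292 (flp_a L121214) q4001, e3 q3293 (flp_a L121221) q4002, e3 q3294 (flp_a L121227) q4003, e3 q3295 L61177 q2942, e3 q3296 (flp_a L121105) q3987, e3 q3297 (flp_a L121112) q3988, e3 q3298 (flp_a L121122) q3989, e3 q3299 (flp_a L121131) q3990, e3 q3300 (flp_a L121141)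 q3991, e3 q3301 (flp_a L121150) q3992, e3 q3302 (flp_a L121158) q3993, e3 q3303 L61258 q2706, e3 q3304 L61282 q2707, e3 q3305 L61286 q2708, e3 q3306 L61313 q2709, e3 q3307 L61320 q2710, e3 q3308 L61330 q2711, e3 q3309 L61337 q2712, e3 q3310 L61346 q2713, e3 q3311 (flp_a L121402) q4029, e3 q3312 (flp_a L121408) q4030, e3 q3313 (flp_a L121415) q4031, e3 q3314 (flp_a L121421) q4032, e3 q3315 (flp_a L121427) q4033, e3 q3316 (flp_a L121436) q4034, e3 q3317 (flp_a L121444) q4035, e3 q3318 (flp_a L121453) q4036, e3 q3319 (flp_a L121461) q4037, e3 q3320 (flp_a L121469) q4038, e3 q3321 L61644 q3321, e3 q3322 L61658 q3322, e3 q3323 L61782 q2716, e3 q3324 L62368 q3324, e3 q3325 L62376 q3325, e3 q3326 L62382 q3326, e3 q3327 L62391 q3327, trivial⟩ (by decide +kernel)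

theorem ce_a_52 : ∀ r, r < 64 → sm ga (Qf (3328 + r)) = Qf (tab Gen.a (3328 + r)) :=
  edges_tab (sm ga) Qf (tab Gen.a) 3328 [(3328, 3328), (3329, 3329), (3330, 3330), (3331, 3331), (3332, 2727), (3333, 2728), (3334, 2729), (3335, 2730), (3336, 2731), (3337, 2732), (3338, 4064), (3339, 4065), (3340, 4066), (3341, 4067), (3342, 4068), (3343, 4069), (3344, 3344), (3345, 3345), (3346, 2740), (3347, 2741), (3348, 2742), (3349, 2743), (3350, 2744), (3351, 2745), (3352, 2746), (3353, 2747), (3354, 2748), (3355, 4080), (3356, 4081), (3357, 4082), (3358, 4083), (3359, 4084), (3360, 4085), (3361, 4086), (3362, 4087), (3363, 4088), (3364, 4089), (3365, 3522), (3366, 3523), (3367, 3524), (3368, 3525), (3369, 3526), (3370, 2783), (3371, 2784), (3372, 2785), (3373, 2786), (3374, 2787), (3375, 2765), (3376, 2766), (3377, 2767), (3378, 2768), (3379, 2769), (3380, 2770), (3381, 2771), (3382, 2772), (3383, 2773), (3384, 2774), (3385, 2775), (3386, 2776), (3387, 2777), (3388, 4118), (3389, 4119), (3390,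 4120), (3391, 4121)]
    ⟨e3 q3328 L62398 q3328, e3 q3329 L62406 q3329, e3 q3330 L62413 q3330, e3 q3331 L62422 q3331, e3 q3332 L62528 q2727, e3 q3333 L62535 q2728, e3 q3334 L62541 q2729, e3 q3335 L62549 q2730, e3 q3336 L62556 q2731, e3 q3337 L62563 q2732, e3 q3338 (flp_a L121644) q4064, e3 q3339 (flp_a L121651) q4065, e3 q3340 (flp_a L121659) q4066, e3 q3341 (flp_a L121666) q4067, e3 q3342 (flp_a L121674) q4068, e3 q3343 (flp_a L121681) q4069, e3 q3344 L64416 q3344, e3 q3345 L64423 q3345, e3 q3346 L64430 q2740, e3 q3347 L64438 q2741, e3 q3348 L64447 q2742, e3 q3349 L64455 q2743, e3 q3350 L64463 q2744, e3 q3351 L64472 q2745, e3 q3352 L64480 q2746, e3 q3353 L64487 q2747, e3 q3354 L64496 q2748, e3 q3355 (flp_a L121762) q4080, e3 q3356 (flp_a L121775) q4081, e3 q3357 (flp_a L121786) q4082, e3 q3358 (flp_a L121795) q4083, e3 q3359 (flp_a L121804) q4084, e3 q3360 (flp_a L121813) q4085, e3 q3361 (flp_a L121822) q4086, e3 q3362 (flp_a L121834) q4087, e3 q3363 (flp_a L121842) q4088, e3 q3364 (flp_a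 L121850) q4089, e3 q3365 (flp_a L66346) q3522, e3 q3366 (flp_a L66355) q3523, e3 q3367 (flp_a L66364) q3524, e3 q3368 (flp_a L66374) q3525, e3 q3369 (flp_a L66383) q3526, e3 q3370 L64646 q2783, e3 q3371 L64656 q2784, e3 q3372 L64666 q2785, e3 q3373 L64674 q2786, e3 q3374 L64682 q2787, e3 q3375 L64693 q2765, e3 q3376 L64703 q2766, e3 q3377 L64713 q2767, e3 q3378 L64723 q2768, e3 q3379 L64732 q2769, e3 q3380 L64739 q2770, e3 q3381 L64749 q2771, e3 q3382 L64757 q2772, e3 q3383 L64764 q2773, e3 q3384 L64774 q2774, e3 q3385 L64782 q2775, e3 q3386 L64789 q2776, e3 q3387 L64799 q2777, e3 q3388 (flp_a L122123) q4118, e3 q3389 (flp_a L122133) q4119, e3 q3390 (flp_a L122141) q4120, e3 q3391 (flp_a L122152) q4121, trivial⟩ (by decide +kernel)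

theorem ce_a_53 : ∀ r, r < 64 → sm ga (Qf (3392 + r)) = Qf (tab Gen.a (3392 + r)) :=
  edges_tab (sm ga) Qf (tab Gen.a) 3392 [(3392, 4122), (3393, 4123), (3394, 4124), (3395, 4125), (3396, 4126), (3397, 4127), (3398, 4128), (3399, 4129), (3400, 4130), (3401, 4131), (3402, 4132), (3403, 4133), (3404, 4134), (3405, 4135), (3406, 3408), (3407, 3464), (3408, 3406), (3409, 3558), (3410, 4166), (3411, 3560), (3412, 3561), (3413, 4109), (3414, 4110), (3415, 4111), (3416, 4112), (3417, 4113), (3418, 4114), (3419, 4115), (3420, 4116), (3421, 4117), (3422, 2801), (3423, 2802), (3424, 2803), (3425, 2804), (3426, 2805), (3427, 2806), (3428, 2807), (3429, 2808), (3430, 2809), (3431, 2810), (3432, 2811), (3433, 2812), (3434, 2813), (3435, 2814), (3436, 2815), (3437, 2816), (3438, 2817), (3439, 2818), (3440, 4186), (3441, 4187), (3442, 4188), (3443, 4189), (3444, 4190), (3445, 4191), (3446, 4192), (3447, 4193), (3448, 4194), (3449, 4195), (3450, 4196), (3451, 4197), (3452, 4198), (3453, 4199), (3454,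 4200), (3455, 4201)]
    ⟨e3 q3392 (flp_a L122162) q4122, e3 q3393 (flp_a L122168) q4123, e3 q3394 (flp_a L122180) q4124, e3 q3395 (flp_a L122188) q4125, e3 q3396 (flp_a L122199) q4126, e3 q3397 (flp_a L122204) q4127, e3 q3398 (flp_a L122212) q4128, e3 q3399 (flp_a L122219) q4129, e3 q3400 (flp_a L122228) q4130, e3 q3401 (flp_a L122236) q4131, e3 q3402 (flp_a L122245) q4132, e3 q3403 (flp_a L122252) q4133, e3 q3404 (flp_a L122262) q4134, e3 q3405 (flp_a L122269) q4135, e3 q3406 L103659 q3408, e3 q3407 (flp_a L109015) q3464, e3 q3408 (flp_a L103659) q3406, e3 q3409 (flp_a L66766) q3558, e3 q3410 L122534 q4166, e3 q3411 (flp_a L66781) q3560, e3 q3412 (flp_a L66791) q3561, e3 q3413 (flp_a L122039) q4109, e3 q3414 (flp_a L122050) q4110, e3 q3415 (flp_a L122060) q4111, e3 q3416 (flp_a L122070) q4112, e3 q3417 (flp_a L122079) q4113, e3 q3418 (flp_a L122088) q4114, e3 q3419 (flp_a L122098) q4115, e3 q3420 (flp_a L122104) q4116, e3 q3421 (flp_a L122114) q4117, e3 q3422 L65080 q2801, e3 q3423 L65091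 q2802, e3 q3424 L65100 q2803, e3 q3425 L65111 q2804, e3 q3426 L65121 q2805, e3 q3427 L65127 q2806, e3 q3428 L65139 q2807, e3 q3429 L65148 q2808, e3 q3430 L65159 q2809, e3 q3431 L65165 q2810, e3 q3432 L65174 q2811, e3 q3433 L65182 q2812, e3 q3434 L65192 q2813, e3 q3435 L65201 q2814, e3 q3436 L65210 q2815, e3 q3437 L65219 q2816, e3 q3438 L65229 q2817, e3 q3439 L65238 q2818, e3 q3440 (flp_a L122689) q4186, e3 q3441 (flp_a L122701) q4187, e3 q3442 (flp_a L122710) q4188, e3 q3443 (flp_a L122718) q4189, e3 q3444 (flp_a L122729) q4190, e3 q3445 (flp_a L122740) q4191, e3 q3446 (flp_a L122746) q4192, e3 q3447 (flp_a L122758) q4193, e3 q3448 (flp_a L122766) q4194, e3 q3449 (flp_a L122772) q4195, e3 q3450 (flp_a L122780) q4196, e3 q3451 (flp_a L122788) q4197, e3 q3452 (flp_a L122798) q4198, e3 q3453 (flp_a L122806) q4199, e3 q3454 (flp_a L122813) q4200, e3 q3455 (flp_a L122823) q4201, trivial⟩ (by decide +kernel)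

theorem ce_a_54 : ∀ r, r < 64 → sm ga (Qf (3456 + r)) = Qf (tab Gen.a (3456 + r)) :=
  edges_tab (sm ga) Qf (tab Gen.a) 3456 [(3456, 4202), (3457, 4203), (3458, 4204), (3459, 4205), (3460, 4206), (3461, 4238), (3462, 4208), (3463, 4240), (3464, 3407), (3465, 2822), (3466, 4242), (3467, 3467), (3468, 3468), (3469, 3469), (3470, 3470), (3471, 3471), (3472, 3472), (3473, 3473), (3474, 3474), (3475, 3475), (3476, 3476), (3477, 3477), (3478, 2842), (3479, 2843), (3480, 2844), (3481, 2845), (3482, 2846), (3483, 2847), (3484, 2848), (3485, 2849), (3486, 2850), (3487, 2851), (3488, 4269), (3489, 4257), (3490, 4258), (3491, 4259), (3492, 4260), (3493, 4261), (3494, 4262), (3495, 4263), (3496, 4264), (3497, 4265), (3498, 4279), (3499, 4267), (3500, 4280), (3501, 2852), (3502, 2853), (3503, 3503), (3504, 3504), (3505, 2862), (3506, 2863), (3507, 2864), (3508, 2865), (3509, 2866), (3510, 2867), (3511, 2868), (3512, 2869), (3513, 4285), (3514, 4286), (3515, 4287), (3516, 4288), (3517, 3983), (3518,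 4289), (3519, 4290)]
    ⟨e3 q3456 (flp_a L122832) q4202, e3 q3457 (flp_a L122841) q4203, e3 q3458 (flp_a L122850) q4204, e3 q3459 (flp_a L122863) q4205, e3 q3460 (flp_a L122874) q4206, e3 q3461 L123119 q4238, e3 q3462 (flp_a L122896) q4208, e3 q3463 L123137 q4240, e3 q3464 L109015 q3407, e3 q3465 (flp_a L65481) q2822, e3 q3466 (flp_a L123161) q4242, e3 q3467 L65506 q3467, e3 q3468 L65514 q3468, e3 q3469 L65524 q3469, e3 q3470 L65532 q3470, e3 q3471 L65543 q3471, e3 q3472 L65552 q3472, e3 q3473 L65570 q3473, e3 q3474 L65591 q3474, e3 q3475 L65598 q3475, e3 q3476 L65605 q3476, e3 q3477 L65614 q3477, e3 q3478 L65634 q2842, e3 q3479 L65644 q2843, e3 q3480 L65651 q2844, e3 q3481 L65659 q2845, e3 q3482 L65680 q2846, e3 q3483 L65698 q2847, e3 q3484 L65706 q2848, e3 q3485 L65721 q2849, e3 q3486 L65740 q2850, e3 q3487 L65778 q2851, e3 q3488 L123420 q4269, e3 q3489 (flp_a L123303) q4257, e3 q3490 (flp_a L123314) q4258, e3 q3491 (flp_a L123324) q4259, e3 q3492 (flp_a L123334) q4260, e3 q3493 (flp_a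 L123343) q4261, e3 q3494 (flp_a L123351) q4262, e3 q3495 (flp_a L123359) q4263, e3 q3496 (flp_a L123367) q4264, e3 q3497 (flp_a L123381) q4265, e3 q3498 L123520 q4279, e3 q3499 (flp_a L123401) q4267, e3 q3500 L123531 q4280, e3 q3501 (flp_a L66026) q2852, e3 q3502 (flp_a L66089) q2853, e3 q3503 L66134 q3503, e3 q3504 L66144 q3504, e3 q3505 L66153 q2862, e3 q3506 L66171 q2863, e3 q3507 L66179 q2864, e3 q3508 L66188 q2865, e3 q3509 L66197 q2866, e3 q3510 L66207 q2867, e3 q3511 L66216 q2868, e3 q3512 L66227 q2869, e3 q3513 (flp_a L123592) q4285, e3 q3514 (flp_a L123603) q4286, e3 q3515 (flp_a L123616) q4287, e3 q3516 (flp_a L123626) q4288, e3 q3517 (flp_a L121058) q3983, e3 q3518 (flp_a L123639) q4289, e3 q3519 (flp_a L123651) q4290, trivial⟩ (by decide +kernel)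

theorem ce_a_55 : ∀ r, r < 64 → sm ga (Qf (3520 + r)) = Qf (tab Gen.a (3520 + r)) :=
  edges_tab (sm ga) Qf (tab Gen.a) 3520 [(3520, 4291), (3521, 4292), (3522, 3365), (3523, 3366), (3524, 3367), (3525, 3368), (3526, 3369), (3527, 2943), (3528, 2944), (3529, 2945), (3530, 2946), (3531, 2947), (3532, 2886), (3533, 2887), (3534, 2888), (3535, 2889), (3536, 2890), (3537, 2891), (3538, 2892), (3539, 2893), (3540, 2894), (3541, 2895), (3542, 2896), (3543, 2897), (3544, 4315), (3545, 4316), (3546, 4317), (3547, 4318), (3548, 4319), (3549, 4320), (3550, 4321), (3551, 4322), (3552, 4323), (3553, 4324), (3554, 4325), (3555, 4326), (3556, 4327), (3557, 4328), (3558, 3409), (3559, 4345), (3560, 3411), (3561, 3412), (3562, 2975), (3563, 2976), (3564, 2977), (3565, 2978), (3566, 2979), (3567, 2980), (3568, 2981), (3569, 2982), (3570, 2983), (3571, 2920), (3572, 2921), (3573, 2922), (3574, 2923), (3575, 2924), (3576, 2925), (3577, 2926), (3578, 2927), (3579, 2928), (3580, 2929), (3581, 2930), (3582,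 2931), (3583, 2932)]
    ⟨e3 q3520 (flp_a L123661) q4291, e3 q3521 (flp_a L123671) q4292, e3 q3522 L66346 q3365, e3 q3523 L66355 q3366, e3 q3524 L66364 q3367, e3 q3525 L66374 q3368, e3 q3526 L66383 q3369, e3 q3527 L66392 q2943, e3 q3528 L66404 q2944, e3 q3529 L66417 q2945, e3 q3530 L66427 q2946, e3 q3531 L66436 q2947, e3 q3532 L66449 q2886, e3 q3533 L66460 q2887, e3 q3534 L66470 q2888, e3 q3535 L66480 q2889, e3 q3536 L66489 q2890, e3 q3537 L66497 q2891, e3 q3538 L66507 q2892, e3 q3539 L66516 q2893, e3 q3540 L66535 q2894, e3 q3541 L66545 q2895, e3 q3542 L66554 q2896, e3 q3543 L66566 q2897, e3 q3544 (flp_a L123912) q4315, e3 q3545 (flp_a L123923) q4316, e3 q3546 (flp_a L123933) q4317, e3 q3547 (flp_a L123939) q4318, e3 q3548 (flp_a L123951) q4319, e3 q3549 (flp_a L123964) q4320, e3 q3550 (flp_a L123974) q4321, e3 q3551 (flp_a L123988) q4322, e3 q3552 (flp_a L123996) q4323, e3 q3553 (flp_a L124005) q4324, e3 q3554 (flp_a L124018) q4325, e3 q3555 (flp_a L124027) q4326, e3 q3556 (flp_a L124039)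 q4327, e3 q3557 (flp_a L124046) q4328, e3 q3558 L66766 q3409, e3 q3559 L124200 q4345, e3 q3560 L66781 q3411, e3 q3561 L66791 q3412, e3 q3562 L66800 q2975, e3 q3563 L66808 q2976, e3 q3564 L66816 q2977, e3 q3565 L66824 q2978, e3 q3566 L66833 q2979, e3 q3567 L66843 q2980, e3 q3568 L66851 q2981, e3 q3569 L66859 q2982, e3 q3570 L66868 q2983, e3 q3571 L66877 q2920, e3 q3572 L66886 q2921, e3 q3573 L66893 q2922, e3 q3574 L66900 q2923, e3 q3575 L66910 q2924, e3 q3576 L66914 q2925, e3 q3577 L66922 q2926, e3 q3578 L66932 q2927, e3 q3579 L66941 q2928, e3 q3580 L66948 q2929, e3 q3581 L66957 q2930, e3 q3582 L66964 q2931, e3 q3583 L66972 q2932, trivial⟩ (by decide +kernel)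

theorem ce_a_56 : ∀ r, r < 64 → sm ga (Qf (3584 + r)) = Qf (tab Gen.a (3584 + r)) :=
  edges_tab (sm ga) Qf (tab Gen.a) 3584 [(3584, 2933), (3585, 2934), (3586, 2935), (3587, 2936), (3588, 2937), (3589, 4365), (3590, 4366), (3591, 4367), (3592, 4368), (3593, 4369), (3594, 4370), (3595, 4371), (3596, 4372), (3597, 4373), (3598, 4374), (3599, 4375), (3600, 4376), (3601, 4377), (3602, 4378), (3603, 4379), (3604, 4380), (3605, 4381), (3606, 4382), (3607, 4383), (3608, 4384), (3609, 4385), (3610, 4416), (3611, 4387), (3612, 4388), (3613, 3616), (3614, 2940), (3615, 4419), (3616, 3613), (3617, 4306), (3618, 4307), (3619, 4308), (3620, 4309), (3621, 4310), (3622, 4311), (3623, 4312), (3624, 4313), (3625, 4314), (3626, 2960), (3627, 2961), (3628, 2962), (3629, 2963), (3630, 2964), (3631, 2965), (3632, 2966), (3633, 2967), (3634, 2968), (3635, 2969), (3636, 2970), (3637, 2971), (3638, 2972), (3639, 2973), (3640, 2974), (3641, 4437), (3642, 4438), (3643, 4439), (3644, 4440), (3645, 4441), (3646,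 4442), (3647, 4443)]
    ⟨e3 q3584 L66980 q2933, e3 q3585 L66987 q2934, e3 q3586 L66995 q2935, e3 q3587 L67003 q2936, e3 q3588 L67009 q2937, e3 q3589 (flp_a L124379) q4365, e3 q3590 (flp_a L124390) q4366, e3 q3591 (flp_a L124399) q4367, e3 q3592 (flp_a L124405) q4368, e3 q3593 (flp_a L124412) q4369, e3 q3594 (flp_a L124421) q4370, e3 q3595 (flp_a L124427) q4371, e3 q3596 (flp_a L124437) q4372, e3 q3597 (flp_a L124443) q4373, e3 q3598 (flp_a L124449) q4374, e3 q3599 (flp_a L124455) q4375, e3 q3600 (flp_a L124464) q4376, e3 q3601 (flp_a L124476) q4377, e3 q3602 (flp_a L124485) q4378, e3 q3603 (flp_a L124492) q4379, e3 q3604 (flp_a L124505) q4380, e3 q3605 (flp_a L124513) q4381, e3 q3606 (flp_a L124520) q4382, e3 q3607 (flp_a L124530) q4383, e3 q3608 (flp_a L124539) q4384, e3 q3609 (flp_a L124547) q4385, e3 q3610 L124789 q4416, e3 q3611 (flp_a L124560) q4387, e3 q3612 (flp_a L124567) q4388, e3 q3613 (flp_a L120847) q3616, e3 q3614 (flp_a L67240) q2940, e3 q3615 (flp_a L124814) q4419, e3 q3616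 L120847 q3613, e3 q3617 (flp_a L123806) q4306, e3 q3618 (flp_a L123820) q4307, e3 q3619 (flp_a L123834) q4308, e3 q3620 (flp_a L123846) q4309, e3 q3621 (flp_a L123859) q4310, e3 q3622 (flp_a L123871) q4311, e3 q3623 (flp_a L123883) q4312, e3 q3624 (flp_a L123892) q4313, e3 q3625 (flp_a L123903) q4314, e3 q3626 L67342 q2960, e3 q3627 L67354 q2961, e3 q3628 L67375 q2962, e3 q3629 L67385 q2963, e3 q3630 L67391 q2964, e3 q3631 L67403 q2965, e3 q3632 L67413 q2966, e3 q3633 L67424 q2967, e3 q3634 L67431 q2968, e3 q3635 L67440 q2969, e3 q3636 L67449 q2970, e3 q3637 L67459 q2971, e3 q3638 L67491 q2972, e3 q3639 L67503 q2973, e3 q3640 L67512 q2974, e3 q3641 (flp_a L124980) q4437, e3 q3642 (flp_a L124988) q4438, e3 q3643 (flp_a L125000) q4439, e3 q3644 (flp_a L125006) q4440, e3 q3645 (flp_a L125018) q4441, e3 q3646 (flp_a L125026) q4442, e3 q3647 (flp_a L125032) q4443, trivial⟩ (by decide +kernel)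

theorem ce_a_57 : ∀ r, r < 64 → sm ga (Qf (3648 + r)) = Qf (tab Gen.a (3648 + r)) :=
  edges_tab (sm ga) Qf (tab Gen.a) 3648 [(3648, 4444), (3649, 4445), (3650, 4446), (3651, 4447), (3652, 4448), (3653, 4449), (3654, 4450), (3655, 4452), (3656, 4348), (3657, 4349), (3658, 4350), (3659, 4351), (3660, 4352), (3661, 4353), (3662, 4354), (3663, 4355), (3664, 4356), (3665, 4357), (3666, 4358), (3667, 4359), (3668, 4360), (3669, 4361), (3670, 4362), (3671, 4363), (3672, 4364), (3673, 3000), (3674, 3001), (3675, 3002), (3676, 3003), (3677, 3004), (3678, 3005), (3679, 3006), (3680, 3007), (3681, 3008), (3682, 3009), (3683, 3010), (3684, 3011), (3685, 3012), (3686, 3013), (3687, 3014), (3688, 3015), (3689, 3016), (3690, 4515), (3691, 3018), (3692, 4491), (3693, 4492), (3694, 4493), (3695, 4494), (3696, 4495), (3697, 4496), (3698, 4497), (3699, 4498), (3700, 4499), (3701, 4530), (3702, 4501), (3703, 4502), (3704, 4503), (3705, 4504), (3706, 4505), (3707, 4506), (3708, 4507), (3709, 4508), (3710,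 4509), (3711, 4510)]
    ⟨e3 q3648 (flp_a L125040) q4444, e3 q3649 (flp_a L125052) q4445, e3 q3650 (flp_a L125061) q4446, e3 q3651 (flp_a L125068) q4447, e3 q3652 (flp_a L125081) q4448, e3 q3653 (flp_a L125091) q4449, e3 q3654 (flp_a L125100) q4450, e3 q3655 (flp_a L125119) q4452, e3 q3656 (flp_a L124228) q4348, e3 q3657 (flp_a L124235) q4349, e3 q3658 (flp_a L124247) q4350, e3 q3659 (flp_a L124255) q4351, e3 q3660 (flp_a L124264) q4352, e3 q3661 (flp_a L124274) q4353, e3 q3662 (flp_a L124280) q4354, e3 q3663 (flp_a L124288) q4355, e3 q3664 (flp_a L124299) q4356, e3 q3665 (flp_a L124308) q4357, e3 q3666 (flp_a L124317) q4358, e3 q3667 (flp_a L124325) q4359, e3 q3668 (flp_a L124335) q4360, e3 q3669 (flp_a L124345) q4361, e3 q3670 (flp_a L124353) q4362, e3 q3671 (flp_a L124361) q4363, e3 q3672 (flp_a L124370) q4364, e3 q3673 L67920 q3000, e3 q3674 L67928 q3001, e3 q3675 L67938 q3002, e3 q3676 L67944 q3003, e3 q3677 L67961 q3004, e3 q3678 L67967 q3005, e3 q3679 L67977 q3006, e3 q3680 L67983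 q3007, e3 q3681 L67989 q3008, e3 q3682 L67995 q3009, e3 q3683 L68005 q3010, e3 q3684 L68016 q3011, e3 q3685 L68026 q3012, e3 q3686 L68034 q3013, e3 q3687 L68044 q3014, e3 q3688 L68053 q3015, e3 q3689 L68061 q3016, e3 q3690 L125610 q4515, e3 q3691 L68113 q3018, e3 q3692 (flp_a L125397) q4491, e3 q3693 (flp_a L125408) q4492, e3 q3694 (flp_a L125416) q4493, e3 q3695 (flp_a L125426) q4494, e3 q3696 (flp_a L125436) q4495, e3 q3697 (flp_a L125446) q4496, e3 q3698 (flp_a L125454) q4497, e3 q3699 (flp_a L125460) q4498, e3 q3700 (flp_a L125470) q4499, e3 q3701 L125731 q4530, e3 q3702 (flp_a L125486) q4501, e3 q3703 (flp_a L125496) q4502, e3 q3704 (flp_a L125506) q4503, e3 q3705 (flp_a L125512) q4504, e3 q3706 (flp_a L125520) q4505, e3 q3707 (flp_a L125524) q4506, e3 q3708 (flp_a L125533) q4507, e3 q3709 (flp_a L125543) q4508, e3 q3710 (flp_a L125556) q4509, e3 q3711 (flp_a L125566) q4510, trivial⟩ (by decide +kernel)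

theorem ce_a_58 : ∀ r, r < 64 → sm ga (Qf (3712 + r)) = Qf (tab Gen.a (3712 + r)) :=
  edges_tab (sm ga) Qf (tab Gen.a) 3712 [(3712, 4511), (3713, 4512), (3714, 4513), (3715, 4514), (3716, 3017), (3717, 4548), (3718, 3020), (3719, 3719), (3720, 3720), (3721, 3721), (3722, 3722), (3723, 3723), (3724, 3724), (3725, 3725), (3726, 3031), (3727, 3032), (3728, 3033), (3729, 3034), (3730, 4557), (3731, 4558), (3732, 4559), (3733, 3733), (3734, 3734), (3735, 3735), (3736, 3736), (3737, 3737), (3738, 3738), (3739, 3044), (3740, 3045), (3741, 3046), (3742, 4570), (3743, 3043), (3744, 4571), (3745, 4569), (3746, 3047), (3747, 3747), (3748, 3748), (3749, 3749), (3750, 3750), (3751, 3751), (3752, 3752), (3753, 3753), (3754, 3754), (3755, 3755), (3756, 3756), (3757, 3757), (3758, 3758), (3759, 3759), (3760, 3760), (3761, 3761), (3762, 3762), (3763, 3763), (3764, 3764), (3765, 4601), (3766, 3075), (3767, 3076), (3768, 3077), (3769, 3078), (3770, 3079), (3771, 3080), (3772, 3081), (3773, 3082), (3774,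 3083), (3775, 3084)]
    ⟨e3 q3712 (flp_a L125576) q4511, e3 q3713 (flp_a L125586) q4512, e3 q3714 (flp_a L125595) q4513, e3 q3715 (flp_a L125605) q4514, e3 q3716 (flp_a L68346) q3017, e3 q3717 (flp_a L125863) q4548, e3 q3718 L68431 q3020, e3 q3719 L68449 q3719, e3 q3720 L68460 q3720, e3 q3721 L68471 q3721, e3 q3722 L68504 q3722, e3 q3723 L68548 q3723, e3 q3724 L68558 q3724, e3 q3725 L68586 q3725, e3 q3726 L68628 q3031, e3 q3727 L68636 q3032, e3 q3728 L68644 q3033, e3 q3729 L68692 q3034, e3 q3730 (flp_a L125948) q4557, e3 q3731 (flp_a L125958) q4558, e3 q3732 (flp_a L125968) q4559, e3 q3733 L69184 q3733, e3 q3734 L69191 q3734, e3 q3735 L69205 q3735, e3 q3736 L69214 q3736, e3 q3737 L69222 q3737, e3 q3738 L69255 q3738, e3 q3739 L69290 q3044, e3 q3740 L69298 q3045, e3 q3741 L69305 q3046, e3 q3742 L126056 q4570, e3 q3743 (flp_a L69409) q3043, e3 q3744 L126065 q4571, e3 q3745 (flp_a L126049) q4569, e3 q3746 (flp_a L69522) q3047, e3 q3747 L69731 q3747, e3 q3748 L69736 q3748, e3 q3749 L69744 q3749,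 e3 q3750 L69752 q3750, e3 q3751 L69760 q3751, e3 q3752 L69769 q3752, e3 q3753 L69779 q3753, e3 q3754 L69786 q3754, e3 q3755 L69793 q3755, e3 q3756 L69802 q3756, e3 q3757 L69809 q3757, e3 q3758 L69819 q3758, e3 q3759 L69824 q3759, e3 q3760 L69831 q3760, e3 q3761 L69839 q3761, e3 q3762 L69847 q3762, e3 q3763 L69856 q3763, e3 q3764 L69864 q3764, e3 q3765 L126323 q4601, e3 q3766 L69925 q3075, e3 q3767 L69932 q3076, e3 q3768 L69941 q3077, e3 q3769 L69949 q3078, e3 q3770 L69957 q3079, e3 q3771 L69964 q3080, e3 q3772 L69971 q3081, e3 q3773 L69979 q3082, e3 q3774 L69989 q3083, e3 q3775 L69997 q3084, trivial⟩ (by decide +kernel)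

theorem ce_a_59 : ∀ r, r < 64 → sm ga (Qf (3776 + r)) = Qf (tab Gen.a (3776 + r)) :=
  edges_tab (sm ga) Qf (tab Gen.a) 3776 [(3776, 3085), (3777, 3086), (3778, 3087), (3779, 3088), (3780, 3072), (3781, 4619), (3782, 3074), (3783, 4620), (3784, 4621), (3785, 4604), (3786, 4605), (3787, 4606), (3788, 4607), (3789, 4608), (3790, 4609), (3791, 4610), (3792, 4611), (3793, 4612), (3794, 4613), (3795, 4614), (3796, 4615), (3797, 4616), (3798, 4617), (3799, 4618), (3800, 3090), (3801, 3801), (3802, 3097), (3803, 3139), (3804, 3140), (3805, 3141), (3806, 3142), (3807, 3143), (3808, 3107), (3809, 3108), (3810, 3109), (3811, 4646), (3812, 3154), (3813, 3155), (3814, 3156), (3815, 3157), (3816, 3158), (3817, 3159), (3818, 3160), (3819, 3161), (3820, 3162), (3821, 3163), (3822, 3164), (3823, 3165), (3824, 3166), (3825, 3128), (3826, 3129), (3827, 3130), (3828, 3131), (3829, 3132), (3830, 3133), (3831, 3134), (3832, 3135), (3833, 3136), (3834, 3137), (3835, 3138), (3836, 4669), (3837, 4670), (3838,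 4671), (3839, 4672)]
    ⟨e3 q3776 L70005 q3085, e3 q3777 L70013 q3086, e3 q3778 L70021 q3087, e3 q3779 L70029 q3088, e3 q3780 (flp_a L70085) q3072, e3 q3781 (flp_a L126489) q4619, e3 q3782 (flp_a L70173) q3074, e3 q3783 (flp_a L126500) q4620, e3 q3784 (flp_a L126508) q4621, e3 q3785 (flp_a L126351) q4604, e3 q3786 (flp_a L126359) q4605, e3 q3787 (flp_a L126369) q4606, e3 q3788 (flp_a L126379) q4607, e3 q3789 (flp_a L126389) q4608, e3 q3790 (flp_a L126398) q4609, e3 q3791 (flp_a L126407) q4610, e3 q3792 (flp_a L126418) q4611, e3 q3793 (flp_a L126427) q4612, e3 q3794 (flp_a L126437) q4613, e3 q3795 (flp_a L126445) q4614, e3 q3796 (flp_a L126455) q4615, e3 q3797 (flp_a L126462) q4616, e3 q3798 (flp_a L126471) q4617, e3 q3799 (flp_a L126480) q4618, e3 q3800 L70368 q3090, e3 q3801 L71197 q3801, e3 q3802 L71260 q3097, e3 q3803 L71500 q3139, e3 q3804 L71540 q3140, e3 q3805 L71559 q3141, e3 q3806 L71565 q3142, e3 q3807 L71573 q3143, e3 q3808 L71663 q3107, e3 q3809 L71668 q3108, e3 q3810 L71676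 q3109, e3 q3811 (flp_a L126734) q4646, e3 q3812 L71977 q3154, e3 q3813 L71984 q3155, e3 q3814 L71992 q3156, e3 q3815 L72019 q3157, e3 q3816 L72036 q3158, e3 q3817 L72055 q3159, e3 q3818 L72063 q3160, e3 q3819 L72069 q3161, e3 q3820 L72079 q3162, e3 q3821 L72087 q3163, e3 q3822 L72096 q3164, e3 q3823 L72103 q3165, e3 q3824 L72113 q3166, e3 q3825 L72128 q3128, e3 q3826 L72135 q3129, e3 q3827 L72142 q3130, e3 q3828 L72181 q3131, e3 q3829 L72194 q3132, e3 q3830 L72211 q3133, e3 q3831 L72218 q3134, e3 q3832 L72225 q3135, e3 q3833 L72232 q3136, e3 q3834 L72239 q3137, e3 q3835 L72247 q3138, e3 q3836 (flp_a L126958) q4669, e3 q3837 (flp_a L126968) q4670, e3 q3838 (flp_a L126979) q4671, e3 q3839 (flp_a L126989) q4672, trivial⟩ (by decide +kernel)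

theorem ce_a_60 : ∀ r, r < 64 → sm ga (Qf (3840 + r)) = Qf (tab Gen.a (3840 + r)) :=
  edges_tab (sm ga) Qf (tab Gen.a) 3840 [(3840, 4673), (3841, 4674), (3842, 4675), (3843, 4676), (3844, 4677), (3845, 4639), (3846, 4427), (3847, 4640), (3848, 4422), (3849, 4641), (3850, 4642), (3851, 4643), (3852, 4644), (3853, 4645), (3854, 3149), (3855, 3150), (3856, 3151), (3857, 3152), (3858, 3153), (3859, 4697), (3860, 4698), (3861, 4699), (3862, 4648), (3863, 4649), (3864, 4650), (3865, 4651), (3866, 4652), (3867, 4653), (3868, 4654), (3869, 4655), (3870, 4656), (3871, 4657), (3872, 4658), (3873, 4659), (3874, 4660), (3875, 4661), (3876, 4662), (3877, 4663), (3878, 4664), (3879, 4665), (3880, 4666), (3881, 4667), (3882, 4668), (3883, 3178), (3884, 3179), (3885, 3180), (3886, 3181), (3887, 3182), (3888, 3183), (3889, 3184), (3890, 3185), (3891, 3186), (3892, 3187), (3893, 3188), (3894, 4731), (3895, 4732), (3896, 4733), (3897, 4734), (3898, 4735), (3899, 4736), (3900, 4737), (3901, 4738), (3902,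 4739), (3903, 4740)]
    ⟨e3 q3840 (flp_a L126996) q4673, e3 q3841 (flp_a L127007) q4674, e3 q3842 (flp_a L127016) q4675, e3 q3843 (flp_a L127025) q4676, e3 q3844 (flp_a L127032) q4677, e3 q3845 (flp_a L126663) q4639, e3 q3846 (flp_a L124893) q4427, e3 q3847 (flp_a L126674) q4640, e3 q3848 (flp_a L124845) q4422, e3 q3849 (flp_a L126687) q4641, e3 q3850 (flp_a L126694) q4642, e3 q3851 (flp_a L126706) q4643, e3 q3852 (flp_a L126713) q4644, e3 q3853 (flp_a L126723) q4645, e3 q3854 L72719 q3149, e3 q3855 L72793 q3150, e3 q3856 L72816 q3151, e3 q3857 L72823 q3152, e3 q3858 L72831 q3153, e3 q3859 (flp_a L127184) q4697, e3 q3860 (flp_a L127193) q4698, e3 q3861 (flp_a L127200) q4699, e3 q3862 (flp_a L126751) q4648, e3 q3863 (flp_a L126763) q4649, e3 q3864 (flp_a L126771) q4650, e3 q3865 (flp_a L126783) q4651, e3 q3866 (flp_a L126794) q4652, e3 q3867 (flp_a L126801) q4653, e3 q3868 (flp_a L126813) q4654, e3 q3869 (flp_a L126825) q4655, e3 q3870 (flp_a L126836) q4656, e3 q3871 (flp_a L126848) q4657,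 e3 q3872 (flp_a L126855) q4658, e3 q3873 (flp_a L126867) q4659, e3 q3874 (flp_a L126875) q4660, e3 q3875 (flp_a L126887) q4661, e3 q3876 (flp_a L126899) q4662, e3 q3877 (flp_a L126907) q4663, e3 q3878 (flp_a L126914) q4664, e3 q3879 (flp_a L126924) q4665, e3 q3880 (flp_a L126932) q4666, e3 q3881 (flp_a L126940) q4667, e3 q3882 (flp_a L126949) q4668, e3 q3883 L73391 q3178, e3 q3884 L73399 q3179, e3 q3885 L73406 q3180, e3 q3886 L73450 q3181, e3 q3887 L73473 q3182, e3 q3888 L73499 q3183, e3 q3889 L73507 q3184, e3 q3890 L73517 q3185, e3 q3891 L73525 q3186, e3 q3892 L73535 q3187, e3 q3893 L73543 q3188, e3 q3894 (flp_a L127419) q4731, e3 q3895 (flp_a L127427) q4732, e3 q3896 (flp_a L127434) q4733, e3 q3897 (flp_a L127442) q4734, e3 q3898 (flp_a L127451) q4735, e3 q3899 (flp_a L127461) q4736, e3 q3900 (flp_a L127471) q4737, e3 q3901 (flp_a L127475) q4738, e3 q3902 (flp_a L127484) q4739, e3 q3903 (flp_a L127491) q4740, trivial⟩ (by decide +kernel)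

theorem ce_a_61 : ∀ r, r < 64 → sm ga (Qf (3904 + r)) = Qf (tab Gen.a (3904 + r)) :=
  edges_tab (sm ga) Qf (tab Gen.a) 3904 [(3904, 3904), (3905, 3905), (3906, 3906), (3907, 3907), (3908, 3908), (3909, 3909), (3910, 3910), (3911, 3911), (3912, 3912), (3913, 3913), (3914, 3914), (3915, 3915), (3916, 3916), (3917, 3204), (3918, 3205), (3919, 3206), (3920, 3207), (3921, 4754), (3922, 4755), (3923, 3923), (3924, 3924), (3925, 3925), (3926, 3926), (3927, 3927), (3928, 3928), (3929, 3929), (3930, 3216), (3931, 3217), (3932, 4765), (3933, 3933), (3934, 3934), (3935, 3935), (3936, 3936), (3937, 3937), (3938, 3938), (3939, 3939), (3940, 3940), (3941, 3941), (3942, 3942), (3943, 3943), (3944, 3944), (3945, 3945), (3946, 3946), (3947, 3947), (3948, 3948), (3949, 3949), (3950, 3950), (3951, 3951), (3952, 3952), (3953, 3953), (3954, 3954), (3955, 3242), (3956, 3243), (3957, 3244), (3958, 3245), (3959, 3246), (3960, 3247), (3961, 3248), (3962, 3249), (3963, 3250), (3964, 4796), (3965, 4797), (3966,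 4798), (3967, 4799)]
    ⟨e3 q3904 L73711 q3904, e3 q3905 L73719 q3905, e3 q3906 L73735 q3906, e3 q3907 L73742 q3907, e3 q3908 L73750 q3908, e3 q3909 L73778 q3909, e3 q3910 L73784 q3910, e3 q3911 L73792 q3911, e3 q3912 L73802 q3912, e3 q3913 L73810 q3913, e3 q3914 L73817 q3914, e3 q3915 L73825 q3915, e3 q3916 L73835 q3916, e3 q3917 L73875 q3204, e3 q3918 L73890 q3205, e3 q3919 L73896 q3206, e3 q3920 L73944 q3207, e3 q3921 (flp_a L127592) q4754, e3 q3922 (flp_a L127602) q4755, e3 q3923 L74195 q3923, e3 q3924 L74202 q3924, e3 q3925 L74209 q3925, e3 q3926 L74215 q3926, e3 q3927 L74221 q3927, e3 q3928 L74229 q3928, e3 q3929 L74238 q3929, e3 q3930 L74246 q3216, e3 q3931 L74253 q3217, e3 q3932 (flp_a L127676) q4765, e3 q3933 L74274 q3933, e3 q3934 L74281 q3934, e3 q3935 L74290 q3935, e3 q3936 L74297 q3936, e3 q3937 L74307 q3937, e3 q3938 L74316 q3938, e3 q3939 L74321 q3939, e3 q3940 L74328 q3940, e3 q3941 L74335 q3941, e3 q3942 L74342 q3942, e3 q3943 L74350 q3943, e3 q3944 L74360 q3944, e3 q3945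 L74367 q3945, e3 q3946 L74374 q3946, e3 q3947 L74381 q3947, e3 q3948 L74390 q3948, e3 q3949 L74396 q3949, e3 q3950 L74403 q3950, e3 q3951 L74411 q3951, e3 q3952 L74417 q3952, e3 q3953 L74427 q3953, e3 q3954 L74434 q3954, e3 q3955 L74443 q3242, e3 q3956 L74451 q3243, e3 q3957 L74459 q3244, e3 q3958 L74467 q3245, e3 q3959 L74476 q3246, e3 q3960 L74484 q3247, e3 q3961 L74490 q3248, e3 q3962 L74497 q3249, e3 q3963 L74505 q3250, e3 q3964 (flp_a L127941) q4796, e3 q3965 (flp_a L127951) q4797, e3 q3966 (flp_a L127958) q4798, e3 q3967 (flp_a L127966) q4799, trivial⟩ (by decide +kernel)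

theorem ce_a_62 : ∀ r, r < 64 → sm ga (Qf (3968 + r)) = Qf (tab Gen.a (3968 + r)) :=
  edges_tab (sm ga) Qf (tab Gen.a) 3968 [(3968, 4800), (3969, 4801), (3970, 3970), (3971, 3971), (3972, 3972), (3973, 3973), (3974, 3974), (3975, 3975), (3976, 3976), (3977, 3977), (3978, 3978), (3979, 3979), (3980, 3980), (3981, 3981), (3982, 3982), (3983, 3517), (3984, 3984), (3985, 3985), (3986, 3986), (3987, 3296), (3988, 3297), (3989, 3298), (3990, 3299), (3991, 3300), (3992, 3301), (3993, 3302), (3994, 3285), (3995, 3286), (3996, 3287), (3997, 3288), (3998, 3289), (3999, 3290), (4000, 3291), (4001, 3292), (4002, 3293), (4003, 3294), (4004, 4825), (4005, 4826), (4006, 4827), (4007, 4828), (4008, 4829), (4009, 4830), (4010, 4831), (4011, 4832), (4012, 4833), (4013, 4834), (4014, 4835), (4015, 4837), (4016, 4838), (4017, 4813), (4018, 4814), (4019, 4815), (4020, 4816), (4021, 4817), (4022, 4818), (4023, 4819), (4024, 4820), (4025, 4821), (4026, 4822), (4027, 4823), (4028, 4824), (4029, 3311), (4030,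 3312), (4031, 3313)]
    ⟨e3 q3968 (flp_a L127974) q4800, e3 q3969 (flp_a L127981) q4801, e3 q3970 L74579 q3970, e3 q3971 L74585 q3971, e3 q3972 L74592 q3972, e3 q3973 L74599 q3973, e3 q3974 L74607 q3974, e3 q3975 L74614 q3975, e3 q3976 L74620 q3976, e3 q3977 L74630 q3977, e3 q3978 L74640 q3978, e3 q3979 L74646 q3979, e3 q3980 L74654 q3980, e3 q3981 L74664 q3981, e3 q3982 L74672 q3982, e3 q3983 L121058 q3517, e3 q3984 L121074 q3984, e3 q3985 L121085 q3985, e3 q3986 L121094 q3986, e3 q3987 L121105 q3296, e3 q3988 L121112 q3297, e3 q3989 L121122 q3298, e3 q3990 L121131 q3299, e3 q3991 L121141 q3300, e3 q3992 L121150 q3301, e3 q3993 L121158 q3302, e3 q3994 L121167 q3285, e3 q3995 L121173 q3286, e3 q3996 L121177 q3287, e3 q3997 L121185 q3288, e3 q3998 L121191 q3289, e3 q3999 L121200 q3290, e3 q4000 L121206 q3291, e3 q4001 L121214 q3292, e3 q4002 L121221 q3293, e3 q4003 L121227 q3294, e3 q4004 (flp_a L128189) q4825, e3 q4005 (flp_a L128195) q4826, e3 q4006 (flp_a L128201) q4827, e3 q4007 (flp_a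 L128207) q4828, e3 q4008 (flp_a L128213) q4829, e3 q4009 (flp_a L128219) q4830, e3 q4010 (flp_a L128227) q4831, e3 q4011 (flp_a L128234) q4832, e3 q4012 (flp_a L128242) q4833, e3 q4013 (flp_a L128249) q4834, e3 q4014 (flp_a L128256) q4835, e3 q4015 (flp_a L128271) q4837, e3 q4016 (flp_a L128278) q4838, e3 q4017 (flp_a L128088) q4813, e3 q4018 (flp_a L128096) q4814, e3 q4019 (flp_a L128103) q4815, e3 q4020 (flp_a L128109) q4816, e3 q4021 (flp_a L128119) q4817, e3 q4022 (flp_a L128129) q4818, e3 q4023 (flp_a L128136) q4819, e3 q4024 (flp_a L128146) q4820, e3 q4025 (flp_a L128155) q4821, e3 q4026 (flp_a L128165) q4822, e3 q4027 (flp_a L128172) q4823, e3 q4028 (flp_a L128181) q4824, e3 q4029 L121402 q3311, e3 q4030 L121408 q3312, e3 q4031 L121415 q3313, trivial⟩ (by decide +kernel)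

theorem ce_a_63 : ∀ r, r < 64 → sm ga (Qf (4032 + r)) = Qf (tab Gen.a (4032 + r)) :=
  edges_tab (sm ga) Qf (tab Gen.a) 4032 [(4032, 3314), (4033, 3315), (4034, 3316), (4035, 3317), (4036, 3318), (4037, 3319), (4038, 3320), (4039, 4872), (4040, 4873), (4041, 4874), (4042, 4875), (4043, 4876), (4044, 4877), (4045, 4878), (4046, 4879), (4047, 4880), (4048, 4881), (4049, 4882), (4050, 4050), (4051, 4051), (4052, 4052), (4053, 4053), (4054, 4054), (4055, 4055), (4056, 4056), (4057, 4057), (4058, 4058), (4059, 4059), (4060, 4060), (4061, 4061), (4062, 4062), (4063, 4063), (4064, 3338), (4065, 3339), (4066, 3340), (4067, 3341), (4068, 3342), (4069, 3343), (4070, 4914), (4071, 4915), (4072, 4916), (4073, 4917), (4074, 4918), (4075, 4919), (4076, 4076), (4077, 4077), (4078, 4078), (4079, 4079), (4080, 3355), (4081, 3356), (4082, 3357), (4083, 3358), (4084, 3359), (4085, 3360), (4086, 3361), (4087, 3362), (4088, 3363), (4089, 3364), (4090, 4933), (4091, 4934), (4092, 4935), (4093, 4936), (4094,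 4937), (4095, 4938)]
    ⟨e3 q4032 L121421 q3314, e3 q4033 L121427 q3315, e3 q4034 L121436 q3316, e3 q4035 L121444 q3317, e3 q4036 L121453 q3318, e3 q4037 L121461 q3319, e3 q4038 L121469 q3320, e3 q4039 (flp_a L128508) q4872, e3 q4040 (flp_a L128515) q4873, e3 q4041 (flp_a L128521) q4874, e3 q4042 (flp_a L128527) q4875, e3 q4043 (flp_a L128535) q4876, e3 q4044 (flp_a L128539) q4877, e3 q4045 (flp_a L128548) q4878, e3 q4046 (flp_a L128558) q4879, e3 q4047 (flp_a L128567) q4880, e3 q4048 (flp_a L128576) q4881, e3 q4049 (flp_a L128585) q4882, e3 q4050 L121540 q4050, e3 q4051 L121546 q4051, e3 q4052 L121552 q4052, e3 q4053 L121558 q4053, e3 q4054 L121567 q4054, e3 q4055 L121575 q4055, e3 q4056 L121582 q4056, e3 q4057 L121591 q4057, e3 q4058 L121598 q4058, e3 q4059 L121604 q4059, e3 q4060 L121612 q4060, e3 q4061 L121619 q4061, e3 q4062 L121627 q4062, e3 q4063 L121635 q4063, e3 q4064 L121644 q3338, e3 q4065 L121651 q3339, e3 q4066 L121659 q3340, e3 q4067 L121666 q3341, e3 q4068 L121674 q3342,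 e3 q4069 L121681 q3343, e3 q4070 (flp_a L128802) q4914, e3 q4071 (flp_a L128810) q4915, e3 q4072 (flp_a L128819) q4916, e3 q4073 (flp_a L128825) q4917, e3 q4074 (flp_a L128833) q4918, e3 q4075 (flp_a L128841) q4919, e3 q4076 L121729 q4076, e3 q4077 L121740 q4077, e3 q4078 L121747 q4078, e3 q4079 L121754 q4079, e3 q4080 L121762 q3355, e3 q4081 L121775 q3356, e3 q4082 L121786 q3357, e3 q4083 L121795 q3358, e3 q4084 L121804 q3359, e3 q4085 L121813 q3360, e3 q4086 L121822 q3361, e3 q4087 L121834 q3362, e3 q4088 L121842 q3363, e3 q4089 L121850 q3364, e3 q4090 (flp_a L128945) q4933, e3 q4091 (flp_a L128959) q4934, e3 q4092 (flp_a L128971) q4935, e3 q4093 (flp_a L128983) q4936, e3 q4094 (flp_a L128994) q4937, e3 q4095 (flp_a L129004) q4938, trivial⟩ (by decide +kernel)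

theorem ce_a_64 : ∀ r, r < 64 → sm ga (Qf (4096 + r)) = Qf (tab Gen.a (4096 + r)) :=
  edges_tab (sm ga) Qf (tab Gen.a) 4096 [(4096, 4939), (4097, 4940), (4098, 4941), (4099, 4942), (4100, 4943), (4101, 4944), (4102, 4300), (4103, 4301), (4104, 4161), (4105, 4302), (4106, 4962), (4107, 4304), (4108, 4305), (4109, 3413), (4110, 3414), (4111, 3415), (4112, 3416), (4113, 3417), (4114, 3418), (4115, 3419), (4116, 3420), (4117, 3421), (4118, 3388), (4119, 3389), (4120, 3390), (4121, 3391), (4122, 3392), (4123, 3393), (4124, 3394), (4125, 3395), (4126, 3396), (4127, 3397), (4128, 3398), (4129, 3399), (4130, 3400), (4131, 3401), (4132, 3402), (4133, 3403), (4134, 3404), (4135, 3405), (4136, 4982), (4137, 4983), (4138, 4984), (4139, 4985), (4140, 4986), (4141, 4987), (4142, 4988), (4143, 4989), (4144, 4990), (4145, 4991), (4146, 4992), (4147, 4993), (4148, 4994), (4149, 4995), (4150, 4996), (4151, 4997), (4152, 4998), (4153, 4999), (4154, 5000), (4155, 5001), (4156, 5002), (4157, 5003), (4158,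 5038), (4159, 5005)]
    ⟨e3 q4096 (flp_a L129012) q4939, e3 q4097 (flp_a L129022) q4940, e3 q4098 (flp_a L129031) q4941, e3 q4099 (flp_a L129044) q4942, e3 q4100 (flp_a L129057) q4943, e3 q4101 (flp_a L129069) q4944, e3 q4102 (flp_a L123752) q4300, e3 q4103 (flp_a L123760) q4301, e3 q4104 (flp_a L122488) q4161, e3 q4105 (flp_a L123770) q4302, e3 q4106 L129255 q4962, e3 q4107 (flp_a L123787) q4304, e3 q4108 (flp_a L123797) q4305, e3 q4109 L122039 q3413, e3 q4110 L122050 q3414, e3 q4111 L122060 q3415, e3 q4112 L122070 q3416, e3 q4113 L122079 q3417, e3 q4114 L122088 q3418, e3 q4115 L122098 q3419, e3 q4116 L122104 q3420, e3 q4117 L122114 q3421, e3 q4118 L122123 q3388, e3 q4119 L122133 q3389, e3 q4120 L122141 q3390, e3 q4121 L122152 q3391, e3 q4122 L122162 q3392, e3 q4123 L122168 q3393, e3 q4124 L122180 q3394, e3 q4125 L122188 q3395, e3 q4126 L122199 q3396, e3 q4127 L122204 q3397, e3 q4128 L122212 q3398, e3 q4129 L122219 q3399, e3 q4130 L122228 q3400, e3 q4131 L122236 q3401, e3 q4132 L122245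 q3402, e3 q4133 L122252 q3403, e3 q4134 L122262 q3404, e3 q4135 L122269 q3405, e3 q4136 (flp_a L129441) q4982, e3 q4137 (flp_a L129454) q4983, e3 q4138 (flp_a L129462) q4984, e3 q4139 (flp_a L129470) q4985, e3 q4140 (flp_a L129480) q4986, e3 q4141 (flp_a L129491) q4987, e3 q4142 (flp_a L129497) q4988, e3 q4143 (flp_a L129509) q4989, e3 q4144 (flp_a L129517) q4990, e3 q4145 (flp_a L129523) q4991, e3 q4146 (flp_a L129531) q4992, e3 q4147 (flp_a L129542) q4993, e3 q4148 (flp_a L129551) q4994, e3 q4149 (flp_a L129558) q4995, e3 q4150 (flp_a L129564) q4996, e3 q4151 (flp_a L129573) q4997, e3 q4152 (flp_a L129581) q4998, e3 q4153 (flp_a L129589) q4999, e3 q4154 (flp_a L129597) q5000, e3 q4155 (flp_a L129606) q5001, e3 q4156 (flp_a L129617) q5002, e3 q4157 (flp_a L129626) q5003, e3 q4158 L129937 q5038, e3 q4159 (flp_a L129639) q5005, trivial⟩ (by decide +kernel)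

theorem ce_a_65 : ∀ r, r < 64 → sm ga (Qf (4160 + r)) = Qf (tab Gen.a (4160 + r)) :=
  edges_tab (sm ga) Qf (tab Gen.a) 4160 [(4160, 5006), (4161, 4104), (4162, 4164), (4163, 5043), (4164, 4162), (4165, 4344), (4166, 3410), (4167, 5046), (4168, 4347), (4169, 4965), (4170, 4966), (4171, 4967), (4172, 4968), (4173, 4969), (4174, 4970), (4175, 4971), (4176, 4972), (4177, 4973), (4178, 4974), (4179, 4975), (4180, 4976), (4181, 4977), (4182, 4978), (4183, 4979), (4184, 4980), (4185, 4981), (4186, 3440), (4187, 3441), (4188, 3442), (4189, 3443), (4190, 3444), (4191, 3445), (4192, 3446), (4193, 3447), (4194, 3448), (4195, 3449), (4196, 3450), (4197, 3451), (4198, 3452), (4199, 3453), (4200, 3454), (4201, 3455), (4202, 3456), (4203, 3457), (4204, 3458), (4205, 3459), (4206, 3460), (4207, 5104), (4208, 3462), (4209, 5075), (4210, 5076), (4211, 5077), (4212, 5078), (4213, 5079), (4214, 5080), (4215, 5081), (4216, 5082), (4217, 5083), (4218, 5084), (4219, 5085), (4220, 5086), (4221, 5126), (4222,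 5088), (4223, 5089)]
    ⟨e3 q4160 (flp_a L129647) q5006, e3 q4161 L122488 q4104, e3 q4162 (flp_a L122517) q4164, e3 q4163 L129981 q5043, e3 q4164 L122517 q4162, e3 q4165 (flp_a L124193) q4344, e3 q4166 (flp_a L122534) q3410, e3 q4167 (flp_a L130017) q5046, e3 q4168 (flp_a L124219) q4347, e3 q4169 (flp_a L129280) q4965, e3 q4170 (flp_a L129290) q4966, e3 q4171 (flp_a L129301) q4967, e3 q4172 (flp_a L129310) q4968, e3 q4173 (flp_a L129321) q4969, e3 q4174 (flp_a L129331) q4970, e3 q4175 (flp_a L129339) q4971, e3 q4176 (flp_a L129351) q4972, e3 q4177 (flp_a L129361) q4973, e3 q4178 (flp_a L129372) q4974, e3 q4179 (flp_a L129379) q4975, e3 q4180 (flp_a L129386) q4976, e3 q4181 (flp_a L129396) q4977, e3 q4182 (flp_a L129404) q4978, e3 q4183 (flp_a L129411) q4979, e3 q4184 (flp_a L129420) q4980, e3 q4185 (flp_a L129431) q4981, e3 q4186 L122689 q3440, e3 q4187 L122701 q3441, e3 q4188 L122710 q3442, e3 q4189 L122718 q3443, e3 q4190 L122729 q3444, e3 q4191 L122740 q3445, e3 q4192 L122746 q3446,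 e3 q4193 L122758 q3447, e3 q4194 L122766 q3448, e3 q4195 L122772 q3449, e3 q4196 L122780 q3450, e3 q4197 L122788 q3451, e3 q4198 L122798 q3452, e3 q4199 L122806 q3453, e3 q4200 L122813 q3454, e3 q4201 L122823 q3455, e3 q4202 L122832 q3456, e3 q4203 L122841 q3457, e3 q4204 L122850 q3458, e3 q4205 L122863 q3459, e3 q4206 L122874 q3460, e3 q4207 L130500 q5104, e3 q4208 L122896 q3462, e3 q4209 (flp_a L130236) q5075, e3 q4210 (flp_a L130248) q5076, e3 q4211 (flp_a L130258) q5077, e3 q4212 (flp_a L130266) q5078, e3 q4213 (flp_a L130277) q5079, e3 q4214 (flp_a L130287) q5080, e3 q4215 (flp_a L130294) q5081, e3 q4216 (flp_a L130302) q5082, e3 q4217 (flp_a L130312) q5083, e3 q4218 (flp_a L130325) q5084, e3 q4219 (flp_a L130335) q5085, e3 q4220 (flp_a L130343) q5086, e3 q4221 L130716 q5126, e3 q4222 (flp_a L130357) q5088, e3 q4223 (flp_a L130364) q5089, trivial⟩ (by decide +kernel)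

theorem ce_a_66 : ∀ r, r < 64 → sm ga (Qf (4224 + r)) = Qf (tab Gen.a (4224 + r)) :=
  edges_tab (sm ga) Qf (tab Gen.a) 4224 [(4224, 5090), (4225, 5091), (4226, 5092), (4227, 5093), (4228, 5094), (4229, 5095), (4230, 5096), (4231, 5097), (4232, 5098), (4233, 5099), (4234, 5100), (4235, 5101), (4236, 5144), (4237, 5103), (4238, 3461), (4239, 5146), (4240, 3463), (4241, 5147), (4242, 3466), (4243, 4243), (4244, 4244), (4245, 4245), (4246, 4246), (4247, 4247), (4248, 4248), (4249, 4249), (4250, 4250), (4251, 4251), (4252, 4252), (4253, 4253), (4254, 4254), (4255, 4255), (4256, 4256), (4257, 3489), (4258, 3490), (4259, 3491), (4260, 3492), (4261, 3493), (4262, 3494), (4263, 3495), (4264, 3496), (4265, 3497), (4266, 5176), (4267, 3499), (4268, 5178), (4269, 3488), (4270, 5166), (4271, 5167), (4272, 5168), (4273, 5169), (4274, 5170), (4275, 5182), (4276, 5172), (4277, 5173), (4278, 5174), (4279, 3498), (4280, 3500), (4281, 4281), (4282, 4282), (4283, 4283), (4284, 4284), (4285, 3513), (4286,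 3514), (4287, 3515)]
    ⟨e3 q4224 (flp_a L130374) q5090, e3 q4225 (flp_a L130382) q5091, e3 q4226 (flp_a L130390) q5092, e3 q4227 (flp_a L130398) q5093, e3 q4228 (flp_a L130405) q5094, e3 q4229 (flp_a L130414) q5095, e3 q4230 (flp_a L130425) q5096, e3 q4231 (flp_a L130433) q5097, e3 q4232 (flp_a L130442) q5098, e3 q4233 (flp_a L130450) q5099, e3 q4234 (flp_a L130460) q5100, e3 q4235 (flp_a L130468) q5101, e3 q4236 L130845 q5144, e3 q4237 (flp_a L130489) q5103, e3 q4238 (flp_a L123119) q3461, e3 q4239 (flp_a L130871) q5146, e3 q4240 (flp_a L123137) q3463, e3 q4241 (flp_a L130880) q5147, e3 q4242 L123161 q3466, e3 q4243 L123168 q4243, e3 q4244 L123176 q4244, e3 q4245 L123184 q4245, e3 q4246 L123195 q4246, e3 q4247 L123203 q4247, e3 q4248 L123212 q4248, e3 q4249 L123222 q4249, e3 q4250 L123233 q4250, e3 q4251 L123238 q4251, e3 q4252 L123246 q4252, e3 q4253 L123257 q4253, e3 q4254 L123269 q4254, e3 q4255 L123277 q4255, e3 q4256 L123291 q4256, e3 q4257 L123303 q3489, e3 q4258 L123314 q3490,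 e3 q4259 L123324 q3491, e3 q4260 L123334 q3492, e3 q4261 L123343 q3493, e3 q4262 L123351 q3494, e3 q4263 L123359 q3495, e3 q4264 L123367 q3496, e3 q4265 L123381 q3497, e3 q4266 L131172 q5176, e3 q4267 L123401 q3499, e3 q4268 L131194 q5178, e3 q4269 (flp_a L123420) q3488, e3 q4270 (flp_a L131065) q5166, e3 q4271 (flp_a L131076) q5167, e3 q4272 (flp_a L131088) q5168, e3 q4273 (flp_a L131100) q5169, e3 q4274 (flp_a L131113) q5170, e3 q4275 L131249 q5182, e3 q4276 (flp_a L131131) q5172, e3 q4277 (flp_a L131144) q5173, e3 q4278 (flp_a L131152) q5174, e3 q4279 (flp_a L123520) q3498, e3 q4280 (flp_a L123531) q3500, e3 q4281 L123546 q4281, e3 q4282 L123559 q4282, e3 q4283 L123572 q4283, e3 q4284 L123582 q4284, e3 q4285 L123592 q3513, e3 q4286 L123603 q3514, e3 q4287 L123616 q3515, trivial⟩ (by decide +kernel)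

theorem ce_a_67 : ∀ r, r < 64 → sm ga (Qf (4288 + r)) = Qf (tab Gen.a (4288 + r)) :=
  edges_tab (sm ga) Qf (tab Gen.a) 4288 [(4288, 3516), (4289, 3518), (4290, 3519), (4291, 3520), (4292, 3521), (4293, 5190), (4294, 5191), (4295, 4802), (4296, 5192), (4297, 5193), (4298, 5194), (4299, 5195), (4300, 4102), (4301, 4103), (4302, 4105), (4303, 5205), (4304, 4107), (4305, 4108), (4306, 3617), (4307, 3618), (4308, 3619), (4309, 3620), (4310, 3621), (4311, 3622), (4312, 3623), (4313, 3624), (4314, 3625), (4315, 3544), (4316, 3545), (4317, 3546), (4318, 3547), (4319, 3548), (4320, 3549), (4321, 3550), (4322, 3551), (4323, 3552), (4324, 3553), (4325, 3554), (4326, 3555), (4327, 3556), (4328, 3557), (4329, 5222), (4330, 5223), (4331, 5224), (4332, 5225), (4333, 5226), (4334, 5227), (4335, 5228), (4336, 5229), (4337, 5230), (4338, 5231), (4339, 5232), (4340, 5233), (4341, 5248), (4342, 5235), (4343, 5236), (4344, 4165), (4345, 3559), (4346, 5251), (4347, 4168), (4348, 3656), (4349, 3657), (4350,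 3658), (4351, 3659)]
    ⟨e3 q4288 L123626 q3516, e3 q4289 L123639 q3518, e3 q4290 L123651 q3519, e3 q4291 L123661 q3520, e3 q4292 L123671 q3521, e3 q4293 (flp_a L131345) q5190, e3 q4294 (flp_a L131357) q5191, e3 q4295 (flp_a L127993) q4802, e3 q4296 (flp_a L131369) q5192, e3 q4297 (flp_a L131380) q5193, e3 q4298 (flp_a L131393) q5194, e3 q4299 (flp_a L131401) q5195, e3 q4300 L123752 q4102, e3 q4301 L123760 q4103, e3 q4302 L123770 q4105, e3 q4303 L131503 q5205, e3 q4304 L123787 q4107, e3 q4305 L123797 q4108, e3 q4306 L123806 q3617, e3 q4307 L123820 q3618, e3 q4308 L123834 q3619, e3 q4309 L123846 q3620, e3 q4310 L123859 q3621, e3 q4311 L123871 q3622, e3 q4312 L123883 q3623, e3 q4313 L123892 q3624, e3 q4314 L123903 q3625, e3 q4315 L123912 q3544, e3 q4316 L123923 q3545, e3 q4317 L123933 q3546, e3 q4318 L123939 q3547, e3 q4319 L123951 q3548, e3 q4320 L123964 q3549, e3 q4321 L123974 q3550, e3 q4322 L123988 q3551, e3 q4323 L123996 q3552, e3 q4324 L124005 q3553, e3 q4325 L124018 q3554, e3 q4326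 L124027 q3555, e3 q4327 L124039 q3556, e3 q4328 L124046 q3557, e3 q4329 (flp_a L131698) q5222, e3 q4330 (flp_a L131710) q5223, e3 q4331 (flp_a L131723) q5224, e3 q4332 (flp_a L131733) q5225, e3 q4333 (flp_a L131745) q5226, e3 q4334 (flp_a L131753) q5227, e3 q4335 (flp_a L131763) q5228, e3 q4336 (flp_a L131771) q5229, e3 q4337 (flp_a L131783) q5230, e3 q4338 (flp_a L131791) q5231, e3 q4339 (flp_a L131802) q5232, e3 q4340 (flp_a L131809) q5233, e3 q4341 L131947 q5248, e3 q4342 (flp_a L131826) q5235, e3 q4343 (flp_a L131834) q5236, e3 q4344 L124193 q4165, e3 q4345 (flp_a L124200) q3559, e3 q4346 (flp_a L131971) q5251, e3 q4347 L124219 q4168, e3 q4348 L124228 q3656, e3 q4349 L124235 q3657, e3 q4350 L124247 q3658, e3 q4351 L124255 q3659, trivial⟩ (by decide +kernel)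

theorem ce_a_68 : ∀ r, r < 64 → sm ga (Qf (4352 + r)) = Qf (tab Gen.a (4352 + r)) :=
  edges_tab (sm ga) Qf (tab Gen.a) 4352 [(4352, 3660), (4353, 3661), (4354, 3662), (4355, 3663), (4356, 3664), (4357, 3665), (4358, 3666), (4359, 3667), (4360, 3668), (4361, 3669), (4362, 3670), (4363, 3671), (4364, 3672), (4365, 3589), (4366, 3590), (4367, 3591), (4368, 3592), (4369, 3593), (4370, 3594), (4371, 3595), (4372, 3596), (4373, 3597), (4374, 3598), (4375, 3599), (4376, 3600), (4377, 3601), (4378, 3602), (4379, 3603), (4380, 3604), (4381, 3605), (4382, 3606), (4383, 3607), (4384, 3608), (4385, 3609), (4386, 5308), (4387, 3611), (4388, 3612), (4389, 5280), (4390, 5281), (4391, 5282), (4392, 5283), (4393, 5284), (4394, 5285), (4395, 5286), (4396, 5287), (4397, 5288), (4398, 5289), (4399, 5290), (4400, 5328), (4401, 5292), (4402, 5293), (4403, 5294), (4404, 5295), (4405, 5296), (4406, 5297), (4407, 5298), (4408, 5299), (4409, 5300), (4410, 5301), (4411, 5302), (4412, 5303), (4413, 5304), (4414,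 5306), (4415, 5307)]
    ⟨e3 q4352 L124264 q3660, e3 q4353 L124274 q3661, e3 q4354 L124280 q3662, e3 q4355 L124288 q3663, e3 q4356 L124299 q3664, e3 q4357 L124308 q3665, e3 q4358 L124317 q3666, e3 q4359 L124325 q3667, e3 q4360 L124335 q3668, e3 q4361 L124345 q3669, e3 q4362 L124353 q3670, e3 q4363 L124361 q3671, e3 q4364 L124370 q3672, e3 q4365 L124379 q3589, e3 q4366 L124390 q3590, e3 q4367 L124399 q3591, e3 q4368 L124405 q3592, e3 q4369 L124412 q3593, e3 q4370 L124421 q3594, e3 q4371 L124427 q3595, e3 q4372 L124437 q3596, e3 q4373 L124443 q3597, e3 q4374 L124449 q3598, e3 q4375 L124455 q3599, e3 q4376 L124464 q3600, e3 q4377 L124476 q3601, e3 q4378 L124485 q3602, e3 q4379 L124492 q3603, e3 q4380 L124505 q3604, e3 q4381 L124513 q3605, e3 q4382 L124520 q3606, e3 q4383 L124530 q3607, e3 q4384 L124539 q3608, e3 q4385 L124547 q3609, e3 q4386 L132467 q5308, e3 q4387 L124560 q3611, e3 q4388 L124567 q3612, e3 q4389 (flp_a L132241) q5280, e3 q4390 (flp_a L132250) q5281, e3 q4391 (flp_a L132260)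 q5282, e3 q4392 (flp_a L132271) q5283, e3 q4393 (flp_a L132278) q5284, e3 q4394 (flp_a L132288) q5285, e3 q4395 (flp_a L132294) q5286, e3 q4396 (flp_a L132300) q5287, e3 q4397 (flp_a L132309) q5288, e3 q4398 (flp_a L132317) q5289, e3 q4399 (flp_a L132327) q5290, e3 q4400 L132636 q5328, e3 q4401 (flp_a L132339) q5292, e3 q4402 (flp_a L132346) q5293, e3 q4403 (flp_a L132354) q5294, e3 q4404 (flp_a L132360) q5295, e3 q4405 (flp_a L132368) q5296, e3 q4406 (flp_a L132372) q5297, e3 q4407 (flp_a L132380) q5298, e3 q4408 (flp_a L132391) q5299, e3 q4409 (flp_a L132400) q5300, e3 q4410 (flp_a L132409) q5301, e3 q4411 (flp_a L132420) q5302, e3 q4412 (flp_a L132428) q5303, e3 q4413 (flp_a L132437) q5304, e3 q4414 (flp_a L132452) q5306, e3 q4415 (flp_a L132461) q5307, trivial⟩ (by decide +kernel)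

theorem ce_a_69 : ∀ r, r < 64 → sm ga (Qf (4416 + r)) = Qf (tab Gen.a (4416 + r)) :=
  edges_tab (sm ga) Qf (tab Gen.a) 4416 [(4416, 3610), (4417, 5346), (4418, 5310), (4419, 3615), (4420, 5349), (4421, 5208), (4422, 3848), (4423, 5209), (4424, 5210), (4425, 5211), (4426, 5212), (4427, 3846), (4428, 5213), (4429, 5214), (4430, 5215), (4431, 5216), (4432, 5217), (4433, 5218), (4434, 5219), (4435, 5220), (4436, 5221), (4437, 3641), (4438, 3642), (4439, 3643), (4440, 3644), (4441, 3645), (4442, 3646), (4443, 3647), (4444, 3648), (4445, 3649), (4446, 3650), (4447, 3651), (4448, 3652), (4449, 3653), (4450, 3654), (4451, 5259), (4452, 3655), (4453, 5373), (4454, 5374), (4455, 5375), (4456, 5377), (4457, 5378), (4458, 5379), (4459, 5380), (4460, 5381), (4461, 5382), (4462, 5383), (4463, 5384), (4464, 5385), (4465, 5253), (4466, 5254), (4467, 5255), (4468, 5256), (4469, 5257), (4470, 5258), (4471, 5260), (4472, 5261), (4473, 5262), (4474, 5263), (4475, 5264), (4476, 5265), (4477, 5266), (4478,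 5267), (4479, 5268)]
    ⟨e3 q4416 (flp_a L124789) q3610, e3 q4417 (flp_a L132787) q5346, e3 q4418 (flp_a L132484) q5310, e3 q4419 L124814 q3615, e3 q4420 (flp_a L132809) q5349, e3 q4421 (flp_a L131532) q5208, e3 q4422 L124845 q3848, e3 q4423 (flp_a L131547) q5209, e3 q4424 (flp_a L131559) q5210, e3 q4425 (flp_a L131571) q5211, e3 q4426 (flp_a L131579) q5212, e3 q4427 L124893 q3846, e3 q4428 (flp_a L131593) q5213, e3 q4429 (flp_a L131608) q5214, e3 q4430 (flp_a L131622) q5215, e3 q4431 (flp_a L131632) q5216, e3 q4432 (flp_a L131646) q5217, e3 q4433 (flp_a L131655) q5218, e3 q4434 (flp_a L131664) q5219, e3 q4435 (flp_a L131674) q5220, e3 q4436 (flp_a L131685) q5221, e3 q4437 L124980 q3641, e3 q4438 L124988 q3642, e3 q4439 L125000 q3643, e3 q4440 L125006 q3644, e3 q4441 L125018 q3645, e3 q4442 L125026 q3646, e3 q4443 L125032 q3647, e3 q4444 L125040 q3648, e3 q4445 L125052 q3649, e3 q4446 L125061 q3650, e3 q4447 L125068 q3651, e3 q4448 L125081 q3652, e3 q4449 L125091 q3653, e3 q4450 L125100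 q3654, e3 q4451 (flp_a L132046) q5259, e3 q4452 L125119 q3655, e3 q4453 (flp_a L133025) q5373, e3 q4454 (flp_a L133035) q5374, e3 q4455 (flp_a L133043) q5375, e3 q4456 (flp_a L133057) q5377, e3 q4457 (flp_a L133064) q5378, e3 q4458 (flp_a L133074) q5379, e3 q4459 (flp_a L133082) q5380, e3 q4460 (flp_a L133090) q5381, e3 q4461 (flp_a L133098) q5382, e3 q4462 (flp_a L133107) q5383, e3 q4463 (flp_a L133117) q5384, e3 q4464 (flp_a L133126) q5385, e3 q4465 (flp_a L131988) q5253, e3 q4466 (flp_a L131999) q5254, e3 q4467 (flp_a L132008) q5255, e3 q4468 (flp_a L132020) q5256, e3 q4469 (flp_a L132030) q5257, e3 q4470 (flp_a L132038) q5258, e3 q4471 (flp_a L132057) q5260, e3 q4472 (flp_a L132065) q5261, e3 q4473 (flp_a L132075) q5262, e3 q4474 (flp_a L132079) q5263, e3 q4475 (flp_a L132087) q5264, e3 q4476 (flp_a L132095) q5265, e3 q4477 (flp_a L132105) q5266, e3 q4478 (flp_a L132115) q5267, e3 q4479 (flp_a L132128) q5268, trivial⟩ (by decide +kernel)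

theorem ce_a_70 : ∀ r, r < 64 → sm ga (Qf (4480 + r)) = Qf (tab Gen.a (4480 + r)) :=
  edges_tab (sm ga) Qf (tab Gen.a) 4480 [(4480, 5269), (4481, 5270), (4482, 5271), (4483, 5272), (4484, 5273), (4485, 5274), (4486, 5275), (4487, 5276), (4488, 5277), (4489, 5278), (4490, 5279), (4491, 3692), (4492, 3693), (4493, 3694), (4494, 3695), (4495, 3696), (4496, 3697), (4497, 3698), (4498, 3699), (4499, 3700), (4500, 5453), (4501, 3702), (4502, 3703), (4503, 3704), (4504, 3705), (4505, 3706), (4506, 3707), (4507, 3708), (4508, 3709), (4509, 3710), (4510, 3711), (4511, 3712), (4512, 3713), (4513, 3714), (4514, 3715), (4515, 3690), (4516, 5471), (4517, 5440), (4518, 5441), (4519, 5442), (4520, 5443), (4521, 5474), (4522, 5445), (4523, 5446), (4524, 5447), (4525, 5448), (4526, 5449), (4527, 5450), (4528, 5451), (4529, 5452), (4530, 3701), (4531, 5486), (4532, 5487), (4533, 5456), (4534, 5457), (4535, 5458), (4536, 5459), (4537, 5460), (4538, 5461), (4539, 5462), (4540, 5463), (4541, 5464), (4542,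 5465), (4543, 5466)]
    ⟨e3 q4480 (flp_a L132137) q5269, e3 q4481 (flp_a L132146) q5270, e3 q4482 (flp_a L132156) q5271, e3 q4483 (flp_a L132164) q5272, e3 q4484 (flp_a L132178) q5273, e3 q4485 (flp_a L132184) q5274, e3 q4486 (flp_a L132193) q5275, e3 q4487 (flp_a L132203) q5276, e3 q4488 (flp_a L132213) q5277, e3 q4489 (flp_a L132222) q5278, e3 q4490 (flp_a L132230) q5279, e3 q4491 L125397 q3692, e3 q4492 L125408 q3693, e3 q4493 L125416 q3694, e3 q4494 L125426 q3695, e3 q4495 L125436 q3696, e3 q4496 L125446 q3697, e3 q4497 L125454 q3698, e3 q4498 L125460 q3699, e3 q4499 L125470 q3700, e3 q4500 L133660 q5453, e3 q4501 L125486 q3702, e3 q4502 L125496 q3703, e3 q4503 L125506 q3704, e3 q4504 L125512 q3705, e3 q4505 L125520 q3706, e3 q4506 L125524 q3707, e3 q4507 L125533 q3708, e3 q4508 L125543 q3709, e3 q4509 L125556 q3710, e3 q4510 L125566 q3711, e3 q4511 L125576 q3712, e3 q4512 L125586 q3713, e3 q4513 L125595 q3714, e3 q4514 L125605 q3715, e3 q4515 (flp_a L125610) q3690, e3 q4516 (flp_a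 L133822) q5471, e3 q4517 (flp_a L133543) q5440, e3 q4518 (flp_a L133553) q5441, e3 q4519 (flp_a L133561) q5442, e3 q4520 (flp_a L133573) q5443, e3 q4521 L133850 q5474, e3 q4522 (flp_a L133591) q5445, e3 q4523 (flp_a L133602) q5446, e3 q4524 (flp_a L133612) q5447, e3 q4525 (flp_a L133620) q5448, e3 q4526 (flp_a L133628) q5449, e3 q4527 (flp_a L133634) q5450, e3 q4528 (flp_a L133642) q5451, e3 q4529 (flp_a L133654) q5452, e3 q4530 (flp_a L125731) q3701, e3 q4531 (flp_a L133943) q5486, e3 q4532 (flp_a L133951) q5487, e3 q4533 (flp_a L133686) q5456, e3 q4534 (flp_a L133694) q5457, e3 q4535 (flp_a L133706) q5458, e3 q4536 (flp_a L133714) q5459, e3 q4537 (flp_a L133720) q5460, e3 q4538 (flp_a L133728) q5461, e3 q4539 (flp_a L133734) q5462, e3 q4540 (flp_a L133745) q5463, e3 q4541 (flp_a L133754) q5464, e3 q4542 (flp_a L133766) q5465, e3 q4543 (flp_a L133776) q5466, trivial⟩ (by decide +kernel)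

theorem ce_a_71 : ∀ r, r < 64 → sm ga (Qf (4544 + r)) = Qf (tab Gen.a (4544 + r)) :=
  edges_tab (sm ga) Qf (tab Gen.a) 4544 [(4544, 5467), (4545, 5468), (4546, 5469), (4547, 5470), (4548, 3717), (4549, 4549), (4550, 4550), (4551, 4551), (4552, 4552), (4553, 4553), (4554, 4554), (4555, 4555), (4556, 4556), (4557, 3730), (4558, 3731), (4559, 3732), (4560, 5510), (4561, 4561), (4562, 4562), (4563, 4563), (4564, 4564), (4565, 4565), (4566, 4566), (4567, 5518), (4568, 5519), (4569, 3745), (4570, 3742), (4571, 3744), (4572, 5521), (4573, 5522), (4574, 4574), (4575, 4575), (4576, 4576), (4577, 4577), (4578, 4578), (4579, 4579), (4580, 4580), (4581, 4581), (4582, 4582), (4583, 4583), (4584, 4584), (4585, 4585), (4586, 4586), (4587, 4587), (4588, 4588), (4589, 4589), (4590, 4590), (4591, 4591), (4592, 4592), (4593, 4593), (4594, 4594), (4595, 4595), (4596, 4596), (4597, 4597), (4598, 4598), (4599, 4599), (4600, 4600), (4601, 3765), (4602, 5562), (4603, 5563), (4604, 3785), (4605, 3786), (4606,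 3787), (4607, 3788)]
    ⟨e3 q4544 (flp_a L133788) q5467, e3 q4545 (flp_a L133794) q5468, e3 q4546 (flp_a L133805) q5469, e3 q4547 (flp_a L133813) q5470, e3 q4548 L125863 q3717, e3 q4549 L125873 q4549, e3 q4550 L125884 q4550, e3 q4551 L125893 q4551, e3 q4552 L125902 q4552, e3 q4553 L125911 q4553, e3 q4554 L125922 q4554, e3 q4555 L125929 q4555, e3 q4556 L125938 q4556, e3 q4557 L125948 q3730, e3 q4558 L125958 q3731, e3 q4559 L125968 q3732, e3 q4560 (flp_a L134133) q5510, e3 q4561 L125985 q4561, e3 q4562 L125994 q4562, e3 q4563 L125997 q4563, e3 q4564 L126004 q4564, e3 q4565 L126015 q4565, e3 q4566 L126023 q4566, e3 q4567 L134193 q5518, e3 q4568 L134203 q5519, e3 q4569 L126049 q3745, e3 q4570 (flp_a L126056) q3742, e3 q4571 (flp_a L126065) q3744, e3 q4572 (flp_a L134221) q5521, e3 q4573 L134227 q5522, e3 q4574 L126093 q4574, e3 q4575 L126101 q4575, e3 q4576 L126109 q4576, e3 q4577 L126118 q4577, e3 q4578 L126129 q4578, e3 q4579 L126139 q4579, e3 q4580 L126148 q4580, e3 q4581 L126158 q4581,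 e3 q4582 L126168 q4582, e3 q4583 L126179 q4583, e3 q4584 L126190 q4584, e3 q4585 L126193 q4585, e3 q4586 L126202 q4586, e3 q4587 L126209 q4587, e3 q4588 L126218 q4588, e3 q4589 L126227 q4589, e3 q4590 L126236 q4590, e3 q4591 L126245 q4591, e3 q4592 L126251 q4592, e3 q4593 L126258 q4593, e3 q4594 L126265 q4594, e3 q4595 L126273 q4595, e3 q4596 L126280 q4596, e3 q4597 L126290 q4597, e3 q4598 L126297 q4598, e3 q4599 L126306 q4599, e3 q4600 L126315 q4600, e3 q4601 (flp_a L126323) q3765, e3 q4602 (flp_a L134567) q5562, e3 q4603 (flp_a L134576) q5563, e3 q4604 L126351 q3785, e3 q4605 L126359 q3786, e3 q4606 L126369 q3787, e3 q4607 L126379 q3788, trivial⟩ (by decide +kernel)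

theorem ce_a_72 : ∀ r, r < 64 → sm ga (Qf (4608 + r)) = Qf (tab Gen.a (4608 + r)) :=
  edges_tab (sm ga) Qf (tab Gen.a) 4608 [(4608, 3789), (4609, 3790), (4610, 3791), (4611, 3792), (4612, 3793), (4613, 3794), (4614, 3795), (4615, 3796), (4616, 3797), (4617, 3798), (4618, 3799), (4619, 3781), (4620, 3783), (4621, 3784), (4622, 5580), (4623, 5581), (4624, 5582), (4625, 5567), (4626, 5568), (4627, 5569), (4628, 5570), (4629, 5571), (4630, 5572), (4631, 5573), (4632, 5574), (4633, 5575), (4634, 5576), (4635, 5577), (4636, 5578), (4637, 4637), (4638, 4638), (4639, 3845), (4640, 3847), (4641, 3849), (4642, 3850), (4643, 3851), (4644, 3852), (4645, 3853), (4646, 3811), (4647, 5601), (4648, 3862), (4649, 3863), (4650, 3864), (4651, 3865), (4652, 3866), (4653, 3867), (4654, 3868), (4655, 3869), (4656, 3870), (4657, 3871), (4658, 3872), (4659, 3873), (4660, 3874), (4661, 3875), (4662, 3876), (4663, 3877), (4664, 3878), (4665, 3879), (4666, 3880), (4667, 3881), (4668, 3882), (4669, 3836), (4670,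 3837), (4671, 3838)]
    ⟨e3 q4608 L126389 q3789, e3 q4609 L126398 q3790, e3 q4610 L126407 q3791, e3 q4611 L126418 q3792, e3 q4612 L126427 q3793, e3 q4613 L126437 q3794, e3 q4614 L126445 q3795, e3 q4615 L126455 q3796, e3 q4616 L126462 q3797, e3 q4617 L126471 q3798, e3 q4618 L126480 q3799, e3 q4619 L126489 q3781, e3 q4620 L126500 q3783, e3 q4621 L126508 q3784, e3 q4622 (flp_a L134735) q5580, e3 q4623 (flp_a L134742) q5581, e3 q4624 (flp_a L134751) q5582, e3 q4625 (flp_a L134609) q5567, e3 q4626 (flp_a L134619) q5568, e3 q4627 (flp_a L134628) q5569, e3 q4628 (flp_a L134639) q5570, e3 q4629 (flp_a L134650) q5571, e3 q4630 (flp_a L134658) q5572, e3 q4631 (flp_a L134668) q5573, e3 q4632 (flp_a L134679) q5574, e3 q4633 (flp_a L134688) q5575, e3 q4634 (flp_a L134699) q5576, e3 q4635 (flp_a L134709) q5577, e3 q4636 (flp_a L134717) q5578, e3 q4637 L126642 q4637, e3 q4638 L126653 q4638, e3 q4639 L126663 q3845, e3 q4640 L126674 q3847, e3 q4641 L126687 q3849, e3 q4642 L126694 q3850, e3 q4643 L126706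 q3851, e3 q4644 L126713 q3852, e3 q4645 L126723 q3853, e3 q4646 L126734 q3811, e3 q4647 (flp_a L134916) q5601, e3 q4648 L126751 q3862, e3 q4649 L126763 q3863, e3 q4650 L126771 q3864, e3 q4651 L126783 q3865, e3 q4652 L126794 q3866, e3 q4653 L126801 q3867, e3 q4654 L126813 q3868, e3 q4655 L126825 q3869, e3 q4656 L126836 q3870, e3 q4657 L126848 q3871, e3 q4658 L126855 q3872, e3 q4659 L126867 q3873, e3 q4660 L126875 q3874, e3 q4661 L126887 q3875, e3 q4662 L126899 q3876, e3 q4663 L126907 q3877, e3 q4664 L126914 q3878, e3 q4665 L126924 q3879, e3 q4666 L126932 q3880, e3 q4667 L126940 q3881, e3 q4668 L126949 q3882, e3 q4669 L126958 q3836, e3 q4670 L126968 q3837, e3 q4671 L126979 q3838, trivial⟩ (by decide +kernel)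

theorem ce_a_73 : ∀ r, r < 64 → sm ga (Qf (4672 + r)) = Qf (tab Gen.a (4672 + r)) :=
  edges_tab (sm ga) Qf (tab Gen.a) 4672 [(4672, 3839), (4673, 3840), (4674, 3841), (4675, 3842), (4676, 3843), (4677, 3844), (4678, 5628), (4679, 5629), (4680, 5630), (4681, 5631), (4682, 5632), (4683, 5633), (4684, 5634), (4685, 5635), (4686, 5359), (4687, 5360), (4688, 5350), (4689, 5175), (4690, 5596), (4691, 5597), (4692, 5598), (4693, 5599), (4694, 5177), (4695, 5402), (4696, 5600), (4697, 3859), (4698, 3860), (4699, 3861), (4700, 5652), (4701, 5653), (4702, 5654), (4703, 5602), (4704, 5603), (4705, 5604), (4706, 5365), (4707, 5605), (4708, 5606), (4709, 5422), (4710, 5607), (4711, 5608), (4712, 5609), (4713, 5610), (4714, 5611), (4715, 5612), (4716, 5613), (4717, 5614), (4718, 5615), (4719, 5616), (4720, 5617), (4721, 5618), (4722, 5619), (4723, 5620), (4724, 5621), (4725, 5622), (4726, 5623), (4727, 5624), (4728, 5625), (4729, 5626), (4730, 5627), (4731, 3894), (4732, 3895), (4733, 3896), (4734,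 3897), (4735, 3898)]
    ⟨e3 q4672 L126989 q3839, e3 q4673 L126996 q3840, e3 q4674 L127007 q3841, e3 q4675 L127016 q3842, e3 q4676 L127025 q3843, e3 q4677 L127032 q3844, e3 q4678 (flp_a L135169) q5628, e3 q4679 (flp_a L135178) q5629, e3 q4680 (flp_a L135191) q5630, e3 q4681 (flp_a L135203) q5631, e3 q4682 (flp_a L135216) q5632, e3 q4683 (flp_a L135225) q5633, e3 q4684 (flp_a L135233) q5634, e3 q4685 (flp_a L135240) q5635, e3 q4686 (flp_a L132899) q5359, e3 q4687 (flp_a L132911) q5360, e3 q4688 (flp_a L132819) q5350, e3 q4689 (flp_a L131170) q5175, e3 q4690 (flp_a L134872) q5596, e3 q4691 (flp_a L134879) q5597, e3 q4692 (flp_a L134885) q5598, e3 q4693 (flp_a L134896) q5599, e3 q4694 (flp_a L131186) q5177, e3 q4695 (flp_a L133256) q5402, e3 q4696 (flp_a L134907) q5600, e3 q4697 L127184 q3859, e3 q4698 L127193 q3860, e3 q4699 L127200 q3861, e3 q4700 (flp_a L135389) q5652, e3 q4701 (flp_a L135397) q5653, e3 q4702 (flp_a L135404) q5654, e3 q4703 (flp_a L134924) q5602, e3 q4704 (flp_a L134935)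 q5603, e3 q4705 (flp_a L134942) q5604, e3 q4706 (flp_a L132954) q5365, e3 q4707 (flp_a L134950) q5605, e3 q4708 (flp_a L134961) q5606, e3 q4709 (flp_a L133397) q5422, e3 q4710 (flp_a L134971) q5607, e3 q4711 (flp_a L134983) q5608, e3 q4712 (flp_a L134994) q5609, e3 q4713 (flp_a L135005) q5610, e3 q4714 (flp_a L135016) q5611, e3 q4715 (flp_a L135022) q5612, e3 q4716 (flp_a L135031) q5613, e3 q4717 (flp_a L135042) q5614, e3 q4718 (flp_a L135053) q5615, e3 q4719 (flp_a L135061) q5616, e3 q4720 (flp_a L135073) q5617, e3 q4721 (flp_a L135083) q5618, e3 q4722 (flp_a L135091) q5619, e3 q4723 (flp_a L135099) q5620, e3 q4724 (flp_a L135109) q5621, e3 q4725 (flp_a L135117) q5622, e3 q4726 (flp_a L135126) q5623, e3 q4727 (flp_a L135136) q5624, e3 q4728 (flp_a L135143) q5625, e3 q4729 (flp_a L135153) q5626, e3 q4730 (flp_a L135161) q5627, e3 q4731 L127419 q3894, e3 q4732 L127427 q3895, e3 q4733 L127434 q3896, e3 q4734 L127442 q3897, e3 q4735 L127451 q3898, trivial⟩ (by decide +kernel)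

theorem ce_a_74 : ∀ r, r < 64 → sm ga (Qf (4736 + r)) = Qf (tab Gen.a (4736 + r)) :=
  edges_tab (sm ga) Qf (tab Gen.a) 4736 [(4736, 3899), (4737, 3900), (4738, 3901), (4739, 3902), (4740, 3903), (4741, 5693), (4742, 5694), (4743, 5695), (4744, 5696), (4745, 5697), (4746, 4746), (4747, 4747), (4748, 4748), (4749, 4749), (4750, 4750), (4751, 4751), (4752, 4752), (4753, 4753), (4754, 3921), (4755, 3922), (4756, 5707), (4757, 4757), (4758, 4758), (4759, 4759), (4760, 4760), (4761, 4761), (4762, 4762), (4763, 4763), (4764, 4764), (4765, 3932), (4766, 4766), (4767, 4767), (4768, 4768), (4769, 4769), (4770, 4770), (4771, 4771), (4772, 4772), (4773, 4773), (4774, 4774), (4775, 4775), (4776, 4776), (4777, 4777), (4778, 4778), (4779, 4779), (4780, 4780), (4781, 4781), (4782, 4782), (4783, 4783), (4784, 4784), (4785, 4785), (4786, 4786), (4787, 4787), (4788, 4788), (4789, 4789), (4790, 4790), (4791, 4791), (4792, 4792), (4793, 4793), (4794, 4794), (4795, 4795), (4796, 3964), (4797, 3965), (4798,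 3966), (4799, 3967)]
    ⟨e3 q4736 L127461 q3899, e3 q4737 L127471 q3900, e3 q4738 L127475 q3901, e3 q4739 L127484 q3902, e3 q4740 L127491 q3903, e3 q4741 (flp_a L135716) q5693, e3 q4742 (flp_a L135724) q5694, e3 q4743 (flp_a L135732) q5695, e3 q4744 (flp_a L135742) q5696, e3 q4745 (flp_a L135748) q5697, e3 q4746 L127527 q4746, e3 q4747 L127534 q4747, e3 q4748 L127539 q4748, e3 q4749 L127547 q4749, e3 q4750 L127556 q4750, e3 q4751 L127566 q4751, e3 q4752 L127573 q4752, e3 q4753 L127582 q4753, e3 q4754 L127592 q3921, e3 q4755 L127602 q3922, e3 q4756 (flp_a L135841) q5707, e3 q4757 L127619 q4757, e3 q4758 L127625 q4758, e3 q4759 L127633 q4759, e3 q4760 L127640 q4760, e3 q4761 L127647 q4761, e3 q4762 L127652 q4762, e3 q4763 L127659 q4763, e3 q4764 L127667 q4764, e3 q4765 L127676 q3932, e3 q4766 L127683 q4766, e3 q4767 L127690 q4767, e3 q4768 L127696 q4768, e3 q4769 L127705 q4769, e3 q4770 L127713 q4770, e3 q4771 L127722 q4771, e3 q4772 L127731 q4772, e3 q4773 L127740 q4773, e3 q4774 L127746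 q4774, e3 q4775 L127751 q4775, e3 q4776 L127758 q4776, e3 q4777 L127765 q4777, e3 q4778 L127774 q4778, e3 q4779 L127781 q4779, e3 q4780 L127788 q4780, e3 q4781 L127798 q4781, e3 q4782 L127807 q4782, e3 q4783 L127814 q4783, e3 q4784 L127820 q4784, e3 q4785 L127828 q4785, e3 q4786 L127847 q4786, e3 q4787 L127856 q4787, e3 q4788 L127863 q4788, e3 q4789 L127872 q4789, e3 q4790 L127880 q4790, e3 q4791 L127887 q4791, e3 q4792 L127897 q4792, e3 q4793 L127907 q4793, e3 q4794 L127915 q4794, e3 q4795 L127928 q4795, e3 q4796 L127941 q3964, e3 q4797 L127951 q3965, e3 q4798 L127958 q3966, e3 q4799 L127966 q3967, trivial⟩ (by decide +kernel)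

theorem ce_a_75 : ∀ r, r < 64 → sm ga (Qf (4800 + r)) = Qf (tab Gen.a (4800 + r)) :=
  edges_tab (sm ga) Qf (tab Gen.a) 4800 [(4800, 3968), (4801, 3969), (4802, 4295), (4803, 5745), (4804, 5746), (4805, 5747), (4806, 4806), (4807, 4807), (4808, 4808), (4809, 4809), (4810, 4810), (4811, 4811), (4812, 4812), (4813, 4017), (4814, 4018), (4815, 4019), (4816, 4020), (4817, 4021), (4818, 4022), (4819, 4023), (4820, 4024), (4821, 4025), (4822, 4026), (4823, 4027), (4824, 4028), (4825, 4004), (4826, 4005), (4827, 4006), (4828, 4007), (4829, 4008), (4830, 4009), (4831, 4010), (4832, 4011), (4833, 4012), (4834, 4013), (4835, 4014), (4836, 5305), (4837, 4015), (4838, 4016), (4839, 5769), (4840, 5770), (4841, 5771), (4842, 5773), (4843, 5774), (4844, 5775), (4845, 5776), (4846, 5777), (4847, 5778), (4848, 5779), (4849, 5780), (4850, 5781), (4851, 5782), (4852, 5783), (4853, 5785), (4854, 5751), (4855, 5752), (4856, 5753), (4857, 5754), (4858, 5755), (4859, 5756), (4860, 5757), (4861, 5758), (4862,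 5759), (4863, 5760)]
    ⟨e3 q4800 L127974 q3968, e3 q4801 L127981 q3969, e3 q4802 L127993 q4295, e3 q4803 (flp_a L136173) q5745, e3 q4804 (flp_a L136182) q5746, e3 q4805 (flp_a L136189) q5747, e3 q4806 L128019 q4806, e3 q4807 L128027 q4807, e3 q4808 L128036 q4808, e3 q4809 L128047 q4809, e3 q4810 L128055 q4810, e3 q4811 L128063 q4811, e3 q4812 L128076 q4812, e3 q4813 L128088 q4017, e3 q4814 L128096 q4018, e3 q4815 L128103 q4019, e3 q4816 L128109 q4020, e3 q4817 L128119 q4021, e3 q4818 L128129 q4022, e3 q4819 L128136 q4023, e3 q4820 L128146 q4024, e3 q4821 L128155 q4025, e3 q4822 L128165 q4026, e3 q4823 L128172 q4027, e3 q4824 L128181 q4028, e3 q4825 L128189 q4004, e3 q4826 L128195 q4005, e3 q4827 L128201 q4006, e3 q4828 L128207 q4007, e3 q4829 L128213 q4008, e3 q4830 L128219 q4009, e3 q4831 L128227 q4010, e3 q4832 L128234 q4011, e3 q4833 L128242 q4012, e3 q4834 L128249 q4013, e3 q4835 L128256 q4014, e3 q4836 (flp_a L132448) q5305, e3 q4837 L128271 q4015, e3 q4838 L128278 q4016, e3 q4839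 (flp_a L136377) q5769, e3 q4840 (flp_a L136384) q5770, e3 q4841 (flp_a L136391) q5771, e3 q4842 (flp_a L136401) q5773, e3 q4843 (flp_a L136408) q5774, e3 q4844 (flp_a L136416) q5775, e3 q4845 (flp_a L136422) q5776, e3 q4846 (flp_a L136430) q5777, e3 q4847 (flp_a L136434) q5778, e3 q4848 (flp_a L136442) q5779, e3 q4849 (flp_a L136451) q5780, e3 q4850 (flp_a L136459) q5781, e3 q4851 (flp_a L136467) q5782, e3 q4852 (flp_a L136475) q5783, e3 q4853 (flp_a L136488) q5785, e3 q4854 (flp_a L136226) q5751, e3 q4855 (flp_a L136234) q5752, e3 q4856 (flp_a L136242) q5753, e3 q4857 (flp_a L136249) q5754, e3 q4858 (flp_a L136255) q5755, e3 q4859 (flp_a L136263) q5756, e3 q4860 (flp_a L136271) q5757, e3 q4861 (flp_a L136279) q5758, e3 q4862 (flp_a L136290) q5759, e3 q4863 (flp_a L136299) q5760, trivial⟩ (by decide +kernel)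

theorem ce_a_76 : ∀ r, r < 64 → sm ga (Qf (4864 + r)) = Qf (tab Gen.a (4864 + r)) :=
  edges_tab (sm ga) Qf (tab Gen.a) 4864 [(4864, 5761), (4865, 5762), (4866, 5763), (4867, 5764), (4868, 5765), (4869, 5766), (4870, 5767), (4871, 5768), (4872, 4039), (4873, 4040), (4874, 4041), (4875, 4042), (4876, 4043), (4877, 4044), (4878, 4045), (4879, 4046), (4880, 4047), (4881, 4048), (4882, 4049), (4883, 5827), (4884, 5828), (4885, 5829), (4886, 5830), (4887, 5831), (4888, 5832), (4889, 5833), (4890, 5834), (4891, 5835), (4892, 5836), (4893, 5837), (4894, 5838), (4895, 4895), (4896, 4896), (4897, 4897), (4898, 4898), (4899, 4899), (4900, 4900), (4901, 4901), (4902, 4902), (4903, 4903), (4904, 4904), (4905, 4905), (4906, 4906), (4907, 4907), (4908, 4908), (4909, 4909), (4910, 4910), (4911, 4911), (4912, 4912), (4913, 4913), (4914, 4070), (4915, 4071), (4916, 4072), (4917, 4073), (4918, 4074), (4919, 4075), (4920, 5876), (4921, 5877), (4922, 5878), (4923, 5879), (4924, 5880), (4925, 5881), (4926,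 5891), (4927, 4927)]
    ⟨e3 q4864 (flp_a L136307) q5761, e3 q4865 (flp_a L136316) q5762, e3 q4866 (flp_a L136324) q5763, e3 q4867 (flp_a L136332) q5764, e3 q4868 (flp_a L136342) q5765, e3 q4869 (flp_a L136351) q5766, e3 q4870 (flp_a L136359) q5767, e3 q4871 (flp_a L136367) q5768, e3 q4872 L128508 q4039, e3 q4873 L128515 q4040, e3 q4874 L128521 q4041, e3 q4875 L128527 q4042, e3 q4876 L128535 q4043, e3 q4877 L128539 q4044, e3 q4878 L128548 q4045, e3 q4879 L128558 q4046, e3 q4880 L128567 q4047, e3 q4881 L128576 q4048, e3 q4882 L128585 q4049, e3 q4883 (flp_a L136776) q5827, e3 q4884 (flp_a L136783) q5828, e3 q4885 (flp_a L136790) q5829, e3 q4886 (flp_a L136796) q5830, e3 q4887 (flp_a L136802) q5831, e3 q4888 (flp_a L136810) q5832, e3 q4889 (flp_a L136816) q5833, e3 q4890 (flp_a L136826) q5834, e3 q4891 (flp_a L136837) q5835, e3 q4892 (flp_a L136842) q5836, e3 q4893 (flp_a L136852) q5837, e3 q4894 (flp_a L136859) q5838, e3 q4895 L128658 q4895, e3 q4896 L128663 q4896, e3 q4897 L128669 q4897,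 e3 q4898 L128674 q4898, e3 q4899 L128682 q4899, e3 q4900 L128689 q4900, e3 q4901 L128697 q4901, e3 q4902 L128705 q4902, e3 q4903 L128714 q4903, e3 q4904 L128722 q4904, e3 q4905 L128728 q4905, e3 q4906 L128736 q4906, e3 q4907 L128745 q4907, e3 q4908 L128752 q4908, e3 q4909 L128759 q4909, e3 q4910 L128768 q4910, e3 q4911 L128776 q4911, e3 q4912 L128785 q4912, e3 q4913 L128793 q4913, e3 q4914 L128802 q4070, e3 q4915 L128810 q4071, e3 q4916 L128819 q4072, e3 q4917 L128825 q4073, e3 q4918 L128833 q4074, e3 q4919 L128841 q4075, e3 q4920 (flp_a L137119) q5876, e3 q4921 (flp_a L137128) q5877, e3 q4922 (flp_a L137135) q5878, e3 q4923 (flp_a L137141) q5879, e3 q4924 (flp_a L137150) q5880, e3 q4925 (flp_a L137158) q5881, e3 q4926 L137220 q5891, e3 q4927 L128894 q4927, trivial⟩ (by decide +kernel)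

theorem ce_a_77 : ∀ r, r < 64 → sm ga (Qf (4928 + r)) = Qf (tab Gen.a (4928 + r)) :=
  edges_tab (sm ga) Qf (tab Gen.a) 4928 [(4928, 4928), (4929, 4929), (4930, 4930), (4931, 4931), (4932, 4932), (4933, 4090), (4934, 4091), (4935, 4092), (4936, 4093), (4937, 4094), (4938, 4095), (4939, 4096), (4940, 4097), (4941, 4098), (4942, 4099), (4943, 4100), (4944, 4101), (4945, 5900), (4946, 5901), (4947, 5902), (4948, 5903), (4949, 5904), (4950, 5905), (4951, 5906), (4952, 5907), (4953, 5918), (4954, 5909), (4955, 5910), (4956, 4957), (4957, 4956), (4958, 5203), (4959, 5924), (4960, 5041), (4961, 5204), (4962, 4106), (4963, 5927), (4964, 5207), (4965, 4169), (4966, 4170), (4967, 4171), (4968, 4172), (4969, 4173), (4970, 4174), (4971, 4175), (4972, 4176), (4973, 4177), (4974, 4178), (4975, 4179), (4976, 4180), (4977, 4181), (4978, 4182), (4979, 4183), (4980, 4184), (4981, 4185), (4982, 4136), (4983, 4137), (4984, 4138), (4985, 4139), (4986, 4140), (4987, 4141), (4988, 4142), (4989, 4143), (4990,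 4144), (4991, 4145)]
    ⟨e3 q4928 L128906 q4928, e3 q4929 L128914 q4929, e3 q4930 L128922 q4930, e3 q4931 L128929 q4931, e3 q4932 L128937 q4932, e3 q4933 L128945 q4090, e3 q4934 L128959 q4091, e3 q4935 L128971 q4092, e3 q4936 L128983 q4093, e3 q4937 L128994 q4094, e3 q4938 L129004 q4095, e3 q4939 L129012 q4096, e3 q4940 L129022 q4097, e3 q4941 L129031 q4098, e3 q4942 L129044 q4099, e3 q4943 L129057 q4100, e3 q4944 L129069 q4101, e3 q4945 (flp_a L137302) q5900, e3 q4946 (flp_a L137315) q5901, e3 q4947 (flp_a L137328) q5902, e3 q4948 (flp_a L137340) q5903, e3 q4949 (flp_a L137350) q5904, e3 q4950 (flp_a L137361) q5905, e3 q4951 (flp_a L137370) q5906, e3 q4952 (flp_a L137380) q5907, e3 q4953 L137515 q5918, e3 q4954 (flp_a L137404) q5909, e3 q4955 (flp_a L137417) q5910, e3 q4956 (flp_a L129206) q4957, e3 q4957 L129206 q4956, e3 q4958 (flp_a L131486) q5203, e3 q4959 L137591 q5924, e3 q4960 (flp_a L129961) q5041, e3 q4961 (flp_a L131495) q5204, e3 q4962 (flp_a L129255) q4106, e3 q4963 (flp_a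 L137627) q5927, e3 q4964 (flp_a L131522) q5207, e3 q4965 L129280 q4169, e3 q4966 L129290 q4170, e3 q4967 L129301 q4171, e3 q4968 L129310 q4172, e3 q4969 L129321 q4173, e3 q4970 L129331 q4174, e3 q4971 L129339 q4175, e3 q4972 L129351 q4176, e3 q4973 L129361 q4177, e3 q4974 L129372 q4178, e3 q4975 L129379 q4179, e3 q4976 L129386 q4180, e3 q4977 L129396 q4181, e3 q4978 L129404 q4182, e3 q4979 L129411 q4183, e3 q4980 L129420 q4184, e3 q4981 L129431 q4185, e3 q4982 L129441 q4136, e3 q4983 L129454 q4137, e3 q4984 L129462 q4138, e3 q4985 L129470 q4139, e3 q4986 L129480 q4140, e3 q4987 L129491 q4141, e3 q4988 L129497 q4142, e3 q4989 L129509 q4143, e3 q4990 L129517 q4144, e3 q4991 L129523 q4145, trivial⟩ (by decide +kernel)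

theorem ce_a_78 : ∀ r, r < 64 → sm ga (Qf (4992 + r)) = Qf (tab Gen.a (4992 + r)) :=
  edges_tab (sm ga) Qf (tab Gen.a) 4992 [(4992, 4146), (4993, 4147), (4994, 4148), (4995, 4149), (4996, 4150), (4997, 4151), (4998, 4152), (4999, 4153), (5000, 4154), (5001, 4155), (5002, 4156), (5003, 4157), (5004, 5986), (5005, 4159), (5006, 4160), (5007, 5955), (5008, 5956), (5009, 5957), (5010, 5958), (5011, 5959), (5012, 5960), (5013, 5961), (5014, 5962), (5015, 5963), (5016, 5964), (5017, 5965), (5018, 6007), (5019, 5967), (5020, 5968), (5021, 5969), (5022, 5970), (5023, 5971), (5024, 5972), (5025, 5973), (5026, 5974), (5027, 5975), (5028, 5976), (5029, 5977), (5030, 5978), (5031, 5979), (5032, 5980), (5033, 5981), (5034, 5982), (5035, 6026), (5036, 5984), (5037, 5985), (5038, 4158), (5039, 6029), (5040, 5988), (5041, 4960), (5042, 5045), (5043, 4163), (5044, 6033), (5045, 5042), (5046, 4167), (5047, 6035), (5048, 5640), (5049, 5930), (5050, 5931), (5051, 5932), (5052, 5933), (5053, 5934), (5054,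 5935), (5055, 5936)]
    ⟨e3 q4992 L129531 q4146, e3 q4993 L129542 q4147, e3 q4994 L129551 q4148, e3 q4995 L129558 q4149, e3 q4996 L129564 q4150, e3 q4997 L129573 q4151, e3 q4998 L129581 q4152, e3 q4999 L129589 q4153, e3 q5000 L129597 q4154, e3 q5001 L129606 q4155, e3 q5002 L129617 q4156, e3 q5003 L129626 q4157, e3 q5004 L138171 q5986, e3 q5005 L129639 q4159, e3 q5006 L129647 q4160, e3 q5007 (flp_a L137884) q5955, e3 q5008 (flp_a L137895) q5956, e3 q5009 (flp_a L137903) q5957, e3 q5010 (flp_a L137913) q5958, e3 q5011 (flp_a L137922) q5959, e3 q5012 (flp_a L137929) q5960, e3 q5013 (flp_a L137937) q5961, e3 q5014 (flp_a L137945) q5962, e3 q5015 (flp_a L137958) q5963, e3 q5016 (flp_a L137968) q5964, e3 q5017 (flp_a L137980) q5965, e3 q5018 L138401 q6007, e3 q5019 (flp_a L137994) q5967, e3 q5020 (flp_a L138004) q5968, e3 q5021 (flp_a L138014) q5969, e3 q5022 (flp_a L138022) q5970, e3 q5023 (flp_a L138030) q5971, e3 q5024 (flp_a L138038) q5972, e3 q5025 (flp_a L138050) q5973, e3 q5026 (flp_a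 L138060) q5974, e3 q5027 (flp_a L138071) q5975, e3 q5028 (flp_a L138079) q5976, e3 q5029 (flp_a L138086) q5977, e3 q5030 (flp_a L138095) q5978, e3 q5031 (flp_a L138102) q5979, e3 q5032 (flp_a L138112) q5980, e3 q5033 (flp_a L138123) q5981, e3 q5034 (flp_a L138137) q5982, e3 q5035 L138619 q6026, e3 q5036 (flp_a L138154) q5984, e3 q5037 (flp_a L138164) q5985, e3 q5038 (flp_a L129937) q4158, e3 q5039 (flp_a L138655) q6029, e3 q5040 (flp_a L138186) q5988, e3 q5041 L129961 q4960, e3 q5042 (flp_a L130004) q5045, e3 q5043 (flp_a L129981) q4163, e3 q5044 (flp_a L138696) q6033, e3 q5045 L130004 q5042, e3 q5046 L130017 q4167, e3 q5047 (flp_a L138719) q6035, e3 q5048 (flp_a L135290) q5640, e3 q5049 (flp_a L137649) q5930, e3 q5050 (flp_a L137659) q5931, e3 q5051 (flp_a L137673) q5932, e3 q5052 (flp_a L137682) q5933, e3 q5053 (flp_a L137692) q5934, e3 q5054 (flp_a L137703) q5935, e3 q5055 (flp_a L137714) q5936, trivial⟩ (by decide +kernel)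

theorem ce_a_79 : ∀ r, r < 64 → sm ga (Qf (5056 + r)) = Qf (tab Gen.a (5056 + r)) :=
  edges_tab (sm ga) Qf (tab Gen.a) 5056 [(5056, 5937), (5057, 5938), (5058, 5939), (5059, 5940), (5060, 5638), (5061, 5941), (5062, 5942), (5063, 5943), (5064, 5944), (5065, 5945), (5066, 5946), (5067, 5947), (5068, 5948), (5069, 5949), (5070, 5950), (5071, 5951), (5072, 5952), (5073, 5953), (5074, 5954), (5075, 4209), (5076, 4210), (5077, 4211), (5078, 4212), (5079, 4213), (5080, 4214), (5081, 4215), (5082, 4216), (5083, 4217), (5084, 4218), (5085, 4219), (5086, 4220), (5087, 6100), (5088, 4222), (5089, 4223), (5090, 4224), (5091, 4225), (5092, 4226), (5093, 4227), (5094, 4228), (5095, 4229), (5096, 4230), (5097, 4231), (5098, 4232), (5099, 4233), (5100, 4234), (5101, 4235), (5102, 6118), (5103, 4237), (5104, 4207), (5105, 6120), (5106, 6080), (5107, 6081), (5108, 6082), (5109, 6083), (5110, 6084), (5111, 6085), (5112, 6126), (5113, 6087), (5114, 6088), (5115, 6089), (5116, 6090), (5117, 6091), (5118,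 6092), (5119, 6093)]
    ⟨e3 q5056 (flp_a L137722) q5937, e3 q5057 (flp_a L137734) q5938, e3 q5058 (flp_a L137740) q5939, e3 q5059 (flp_a L137748) q5940, e3 q5060 (flp_a L135269) q5638, e3 q5061 (flp_a L137758) q5941, e3 q5062 (flp_a L137769) q5942, e3 q5063 (flp_a L137780) q5943, e3 q5064 (flp_a L137787) q5944, e3 q5065 (flp_a L137795) q5945, e3 q5066 (flp_a L137804) q5946, e3 q5067 (flp_a L137812) q5947, e3 q5068 (flp_a L137823) q5948, e3 q5069 (flp_a L137830) q5949, e3 q5070 (flp_a L137837) q5950, e3 q5071 (flp_a L137846) q5951, e3 q5072 (flp_a L137854) q5952, e3 q5073 (flp_a L137864) q5953, e3 q5074 (flp_a L137874) q5954, e3 q5075 L130236 q4209, e3 q5076 L130248 q4210, e3 q5077 L130258 q4211, e3 q5078 L130266 q4212, e3 q5079 L130277 q4213, e3 q5080 L130287 q4214, e3 q5081 L130294 q4215, e3 q5082 L130302 q4216, e3 q5083 L130312 q4217, e3 q5084 L130325 q4218, e3 q5085 L130335 q4219, e3 q5086 L130343 q4220, e3 q5087 L139283 q6100, e3 q5088 L130357 q4222, e3 q5089 L130364 q4223, e3 q5090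 L130374 q4224, e3 q5091 L130382 q4225, e3 q5092 L130390 q4226, e3 q5093 L130398 q4227, e3 q5094 L130405 q4228, e3 q5095 L130414 q4229, e3 q5096 L130425 q4230, e3 q5097 L130433 q4231, e3 q5098 L130442 q4232, e3 q5099 L130450 q4233, e3 q5100 L130460 q4234, e3 q5101 L130468 q4235, e3 q5102 L139436 q6118, e3 q5103 L130489 q4237, e3 q5104 (flp_a L130500) q4207, e3 q5105 (flp_a L139464) q6120, e3 q5106 (flp_a L139067) q6080, e3 q5107 (flp_a L139080) q6081, e3 q5108 (flp_a L139094) q6082, e3 q5109 (flp_a L139106) q6083, e3 q5110 (flp_a L139120) q6084, e3 q5111 (flp_a L139133) q6085, e3 q5112 L139531 q6126, e3 q5113 (flp_a L139149) q6087, e3 q5114 (flp_a L139161) q6088, e3 q5115 (flp_a L139171) q6089, e3 q5116 (flp_a L139180) q6090, e3 q5117 (flp_a L139187) q6091, e3 q5118 (flp_a L139197) q6092, e3 q5119 (flp_a L139210) q6093, trivial⟩ (by decide +kernel)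

theorem ce_a_80 : ∀ r, r < 64 → sm ga (Qf (5120 + r)) = Qf (tab Gen.a (5120 + r)) :=
  edges_tab (sm ga) Qf (tab Gen.a) 5120 [(5120, 6136), (5121, 6095), (5122, 6096), (5123, 6097), (5124, 6098), (5125, 6099), (5126, 4221), (5127, 6143), (5128, 6144), (5129, 6103), (5130, 6104), (5131, 6105), (5132, 6106), (5133, 6107), (5134, 6108), (5135, 6109), (5136, 6110), (5137, 6111), (5138, 6112), (5139, 6113), (5140, 6114), (5141, 6115), (5142, 6116), (5143, 6117), (5144, 4236), (5145, 6160), (5146, 4239), (5147, 4241), (5148, 5148), (5149, 5149), (5150, 5150), (5151, 5151), (5152, 5152), (5153, 5153), (5154, 5154), (5155, 5155), (5156, 5156), (5157, 5157), (5158, 5158), (5159, 5159), (5160, 5160), (5161, 6179), (5162, 5162), (5163, 5163), (5164, 5164), (5165, 5165), (5166, 4270), (5167, 4271), (5168, 4272), (5169, 4273), (5170, 4274), (5171, 6186), (5172, 4276), (5173, 4277), (5174, 4278), (5175, 4689), (5176, 4266), (5177, 4694), (5178, 4268), (5179, 6182), (5180, 6184), (5181, 6185), (5182,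 4275), (5183, 6190)]
    ⟨e3 q5120 L139636 q6136, e3 q5121 (flp_a L139230) q6095, e3 q5122 (flp_a L139243) q6096, e3 q5123 (flp_a L139255) q6097, e3 q5124 (flp_a L139267) q6098, e3 q5125 (flp_a L139277) q6099, e3 q5126 (flp_a L130716) q4221, e3 q5127 (flp_a L139717) q6143, e3 q5128 (flp_a L139726) q6144, e3 q5129 (flp_a L139306) q6103, e3 q5130 (flp_a L139315) q6104, e3 q5131 (flp_a L139324) q6105, e3 q5132 (flp_a L139332) q6106, e3 q5133 (flp_a L139340) q6107, e3 q5134 (flp_a L139350) q6108, e3 q5135 (flp_a L139356) q6109, e3 q5136 (flp_a L139365) q6110, e3 q5137 (flp_a L139373) q6111, e3 q5138 (flp_a L139383) q6112, e3 q5139 (flp_a L139392) q6113, e3 q5140 (flp_a L139402) q6114, e3 q5141 (flp_a L139409) q6115, e3 q5142 (flp_a L139418) q6116, e3 q5143 (flp_a L139427) q6117, e3 q5144 (flp_a L130845) q4236, e3 q5145 (flp_a L139863) q6160, e3 q5146 L130871 q4239, e3 q5147 L130880 q4241, e3 q5148 L130893 q5148, e3 q5149 L130902 q5149, e3 q5150 L130910 q5150, e3 q5151 L130915 q5151, e3 q5152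 L130925 q5152, e3 q5153 L130937 q5153, e3 q5154 L130948 q5154, e3 q5155 L130959 q5155, e3 q5156 L130969 q5156, e3 q5157 L130976 q5157, e3 q5158 L130985 q5158, e3 q5159 L130994 q5159, e3 q5160 L131005 q5160, e3 q5161 L140046 q6179, e3 q5162 L131024 q5162, e3 q5163 L131030 q5163, e3 q5164 L131043 q5164, e3 q5165 L131052 q5165, e3 q5166 L131065 q4270, e3 q5167 L131076 q4271, e3 q5168 L131088 q4272, e3 q5169 L131100 q4273, e3 q5170 L131113 q4274, e3 q5171 L140132 q6186, e3 q5172 L131131 q4276, e3 q5173 L131144 q4277, e3 q5174 L131152 q4278, e3 q5175 L131170 q4689, e3 q5176 (flp_a L131172) q4266, e3 q5177 L131186 q4694, e3 q5178 (flp_a L131194) q4268, e3 q5179 (flp_a L140080) q6182, e3 q5180 (flp_a L140105) q6184, e3 q5181 (flp_a L140119) q6185, e3 q5182 (flp_a L131249) q4275, e3 q5183 (flp_a L140178) q6190, trivial⟩ (by decide +kernel)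

theorem ce_a_81 : ∀ r, r < 64 → sm ga (Qf (5184 + r)) = Qf (tab Gen.a (5184 + r)) :=
  edges_tab (sm ga) Qf (tab Gen.a) 5184 [(5184, 6189), (5185, 5185), (5186, 5186), (5187, 5187), (5188, 5188), (5189, 5189), (5190, 4293), (5191, 4294), (5192, 4296), (5193, 4297), (5194, 4298), (5195, 4299), (5196, 5698), (5197, 5579), (5198, 6195), (5199, 6196), (5200, 6203), (5201, 6198), (5202, 6199), (5203, 4958), (5204, 4961), (5205, 4303), (5206, 6207), (5207, 4964), (5208, 4421), (5209, 4423), (5210, 4424), (5211, 4425), (5212, 4426), (5213, 4428), (5214, 4429), (5215, 4430), (5216, 4431), (5217, 4432), (5218, 4433), (5219, 4434), (5220, 4435), (5221, 4436), (5222, 4329), (5223, 4330), (5224, 4331), (5225, 4332), (5226, 4333), (5227, 4334), (5228, 4335), (5229, 4336), (5230, 4337), (5231, 4338), (5232, 4339), (5233, 4340), (5234, 6239), (5235, 4342), (5236, 4343), (5237, 6227), (5238, 6228), (5239, 6229), (5240, 6245), (5241, 6231), (5242, 6232), (5243, 6233), (5244, 6234), (5245, 6235), (5246,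 6237), (5247, 6238)]
    ⟨e3 q5184 (flp_a L140165) q6189, e3 q5185 L131286 q5185, e3 q5186 L131298 q5186, e3 q5187 L131312 q5187, e3 q5188 L131324 q5188, e3 q5189 L131333 q5189, e3 q5190 L131345 q4293, e3 q5191 L131357 q4294, e3 q5192 L131369 q4296, e3 q5193 L131380 q4297, e3 q5194 L131393 q4298, e3 q5195 L131401 q4299, e3 q5196 (flp_a L135762) q5698, e3 q5197 (flp_a L134731) q5579, e3 q5198 (flp_a L140237) q6195, e3 q5199 (flp_a L140250) q6196, e3 q5200 L140333 q6203, e3 q5201 (flp_a L140270) q6198, e3 q5202 (flp_a L140279) q6199, e3 q5203 L131486 q4958, e3 q5204 L131495 q4961, e3 q5205 (flp_a L131503) q4303, e3 q5206 (flp_a L140389) q6207, e3 q5207 L131522 q4964, e3 q5208 L131532 q4421, e3 q5209 L131547 q4423, e3 q5210 L131559 q4424, e3 q5211 L131571 q4425, e3 q5212 L131579 q4426, e3 q5213 L131593 q4428, e3 q5214 L131608 q4429, e3 q5215 L131622 q4430, e3 q5216 L131632 q4431, e3 q5217 L131646 q4432, e3 q5218 L131655 q4433, e3 q5219 L131664 q4434, e3 q5220 L131674 q4435, e3 q5221 L131685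 q4436, e3 q5222 L131698 q4329, e3 q5223 L131710 q4330, e3 q5224 L131723 q4331, e3 q5225 L131733 q4332, e3 q5226 L131745 q4333, e3 q5227 L131753 q4334, e3 q5228 L131763 q4335, e3 q5229 L131771 q4336, e3 q5230 L131783 q4337, e3 q5231 L131791 q4338, e3 q5232 L131802 q4339, e3 q5233 L131809 q4340, e3 q5234 L140737 q6239, e3 q5235 L131826 q4342, e3 q5236 L131834 q4343, e3 q5237 (flp_a L140622) q6227, e3 q5238 (flp_a L140634) q6228, e3 q5239 (flp_a L140646) q6229, e3 q5240 L140799 q6245, e3 q5241 (flp_a L140662) q6231, e3 q5242 (flp_a L140672) q6232, e3 q5243 (flp_a L140682) q6233, e3 q5244 (flp_a L140690) q6234, e3 q5245 (flp_a L140702) q6235, e3 q5246 (flp_a L140720) q6237, e3 q5247 (flp_a L140728) q6238, trivial⟩ (by decide +kernel)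

theorem ce_a_82 : ∀ r, r < 64 → sm ga (Qf (5248 + r)) = Qf (tab Gen.a (5248 + r)) :=
  edges_tab (sm ga) Qf (tab Gen.a) 5248 [(5248, 4341), (5249, 6250), (5250, 6241), (5251, 4346), (5252, 6253), (5253, 4465), (5254, 4466), (5255, 4467), (5256, 4468), (5257, 4469), (5258, 4470), (5259, 4451), (5260, 4471), (5261, 4472), (5262, 4473), (5263, 4474), (5264, 4475), (5265, 4476), (5266, 4477), (5267, 4478), (5268, 4479), (5269, 4480), (5270, 4481), (5271, 4482), (5272, 4483), (5273, 4484), (5274, 4485), (5275, 4486), (5276, 4487), (5277, 4488), (5278, 4489), (5279, 4490), (5280, 4389), (5281, 4390), (5282, 4391), (5283, 4392), (5284, 4393), (5285, 4394), (5286, 4395), (5287, 4396), (5288, 4397), (5289, 4398), (5290, 4399), (5291, 6314), (5292, 4401), (5293, 4402), (5294, 4403), (5295, 4404), (5296, 4405), (5297, 4406), (5298, 4407), (5299, 4408), (5300, 4409), (5301, 4410), (5302, 4411), (5303, 4412), (5304, 4413), (5305, 4836), (5306, 4414), (5307, 4415), (5308, 4386), (5309, 6333), (5310,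 4418), (5311, 6296)]
    ⟨e3 q5248 (flp_a L131947) q4341, e3 q5249 (flp_a L140848) q6250, e3 q5250 (flp_a L140756) q6241, e3 q5251 L131971 q4346, e3 q5252 (flp_a L140876) q6253, e3 q5253 L131988 q4465, e3 q5254 L131999 q4466, e3 q5255 L132008 q4467, e3 q5256 L132020 q4468, e3 q5257 L132030 q4469, e3 q5258 L132038 q4470, e3 q5259 L132046 q4451, e3 q5260 L132057 q4471, e3 q5261 L132065 q4472, e3 q5262 L132075 q4473, e3 q5263 L132079 q4474, e3 q5264 L132087 q4475, e3 q5265 L132095 q4476, e3 q5266 L132105 q4477, e3 q5267 L132115 q4478, e3 q5268 L132128 q4479, e3 q5269 L132137 q4480, e3 q5270 L132146 q4481, e3 q5271 L132156 q4482, e3 q5272 L132164 q4483, e3 q5273 L132178 q4484, e3 q5274 L132184 q4485, e3 q5275 L132193 q4486, e3 q5276 L132203 q4487, e3 q5277 L132213 q4488, e3 q5278 L132222 q4489, e3 q5279 L132230 q4490, e3 q5280 L132241 q4389, e3 q5281 L132250 q4390, e3 q5282 L132260 q4391, e3 q5283 L132271 q4392, e3 q5284 L132278 q4393, e3 q5285 L132288 q4394, e3 q5286 L132294 q4395, e3 q5287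 L132300 q4396, e3 q5288 L132309 q4397, e3 q5289 L132317 q4398, e3 q5290 L132327 q4399, e3 q5291 L141426 q6314, e3 q5292 L132339 q4401, e3 q5293 L132346 q4402, e3 q5294 L132354 q4403, e3 q5295 L132360 q4404, e3 q5296 L132368 q4405, e3 q5297 L132372 q4406, e3 q5298 L132380 q4407, e3 q5299 L132391 q4408, e3 q5300 L132400 q4409, e3 q5301 L132409 q4410, e3 q5302 L132420 q4411, e3 q5303 L132428 q4412, e3 q5304 L132437 q4413, e3 q5305 L132448 q4836, e3 q5306 L132452 q4414, e3 q5307 L132461 q4415, e3 q5308 (flp_a L132467) q4386, e3 q5309 (flp_a L141586) q6333, e3 q5310 L132484 q4418, e3 q5311 (flp_a L141274) q6296, trivial⟩ (by decide +kernel)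

theorem ce_a_83 : ∀ r, r < 64 → sm ga (Qf (5312 + r)) = Qf (tab Gen.a (5312 + r)) :=
  edges_tab (sm ga) Qf (tab Gen.a) 5312 [(5312, 6297), (5313, 6298), (5314, 6299), (5315, 6339), (5316, 6301), (5317, 6302), (5318, 6303), (5319, 6304), (5320, 6305), (5321, 6306), (5322, 6307), (5323, 6309), (5324, 6310), (5325, 6311), (5326, 6312), (5327, 6313), (5328, 4400), (5329, 6351), (5330, 6352), (5331, 6317), (5332, 6318), (5333, 6319), (5334, 6320), (5335, 6321), (5336, 6322), (5337, 6323), (5338, 6324), (5339, 6325), (5340, 6326), (5341, 6327), (5342, 6328), (5343, 6329), (5344, 6330), (5345, 6332), (5346, 4417), (5347, 6365), (5348, 6335), (5349, 4420), (5350, 4688), (5351, 6210), (5352, 6211), (5353, 6212), (5354, 6213), (5355, 6214), (5356, 6215), (5357, 6216), (5358, 6217), (5359, 4686), (5360, 4687), (5361, 6218), (5362, 6219), (5363, 6183), (5364, 6220), (5365, 4706), (5366, 6221), (5367, 6222), (5368, 6223), (5369, 6224), (5370, 6187), (5371, 6225), (5372, 6226), (5373, 4453), (5374,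 4454), (5375, 4455)]
    ⟨e3 q5312 (flp_a L141282) q6297, e3 q5313 (flp_a L141293) q6298, e3 q5314 (flp_a L141304) q6299, e3 q5315 L141637 q6339, e3 q5316 (flp_a L141319) q6301, e3 q5317 (flp_a L141331) q6302, e3 q5318 (flp_a L141338) q6303, e3 q5319 (flp_a L141346) q6304, e3 q5320 (flp_a L141356) q6305, e3 q5321 (flp_a L141362) q6306, e3 q5322 (flp_a L141367) q6307, e3 q5323 (flp_a L141383) q6309, e3 q5324 (flp_a L141394) q6310, e3 q5325 (flp_a L141404) q6311, e3 q5326 (flp_a L141412) q6312, e3 q5327 (flp_a L141422) q6313, e3 q5328 (flp_a L132636) q4400, e3 q5329 (flp_a L141745) q6351, e3 q5330 (flp_a L141754) q6352, e3 q5331 (flp_a L141447) q6317, e3 q5332 (flp_a L141454) q6318, e3 q5333 (flp_a L141463) q6319, e3 q5334 (flp_a L141469) q6320, e3 q5335 (flp_a L141475) q6321, e3 q5336 (flp_a L141483) q6322, e3 q5337 (flp_a L141489) q6323, e3 q5338 (flp_a L141499) q6324, e3 q5339 (flp_a L141509) q6325, e3 q5340 (flp_a L141518) q6326, e3 q5341 (flp_a L141529) q6327, e3 q5342 (flp_a L141541)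 q6328, e3 q5343 (flp_a L141551) q6329, e3 q5344 (flp_a L141559) q6330, e3 q5345 (flp_a L141576) q6332, e3 q5346 L132787 q4417, e3 q5347 (flp_a L141870) q6365, e3 q5348 (flp_a L141603) q6335, e3 q5349 L132809 q4420, e3 q5350 L132819 q4688, e3 q5351 (flp_a L140425) q6210, e3 q5352 (flp_a L140438) q6211, e3 q5353 (flp_a L140452) q6212, e3 q5354 (flp_a L140466) q6213, e3 q5355 (flp_a L140478) q6214, e3 q5356 (flp_a L140492) q6215, e3 q5357 (flp_a L140500) q6216, e3 q5358 (flp_a L140512) q6217, e3 q5359 L132899 q4686, e3 q5360 L132911 q4687, e3 q5361 (flp_a L140522) q6218, e3 q5362 (flp_a L140534) q6219, e3 q5363 (flp_a L140101) q6183, e3 q5364 (flp_a L140550) q6220, e3 q5365 L132954 q4706, e3 q5366 (flp_a L140562) q6221, e3 q5367 (flp_a L140571) q6222, e3 q5368 (flp_a L140579) q6223, e3 q5369 (flp_a L140588) q6224, e3 q5370 (flp_a L140146) q6187, e3 q5371 (flp_a L140601) q6225, e3 q5372 (flp_a L140611) q6226, e3 q5373 L133025 q4453, e3 q5374 L133035 q4454, e3 q5375 L133043 q4455, trivial⟩ (by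 decide +kernel)

theorem ce_a_84 : ∀ r, r < 64 → sm ga (Qf (5376 + r)) = Qf (tab Gen.a (5376 + r)) :=
  edges_tab (sm ga) Qf (tab Gen.a) 5376 [(5376, 6264), (5377, 4456), (5378, 4457), (5379, 4458), (5380, 4459), (5381, 4460), (5382, 4461), (5383, 4462), (5384, 4463), (5385, 4464), (5386, 6265), (5387, 6397), (5388, 6398), (5389, 6399), (5390, 6402), (5391, 6403), (5392, 6404), (5393, 6405), (5394, 6406), (5395, 6407), (5396, 6408), (5397, 6409), (5398, 6254), (5399, 6255), (5400, 6256), (5401, 6257), (5402, 4695), (5403, 6258), (5404, 6259), (5405, 6260), (5406, 6261), (5407, 6262), (5408, 6263), (5409, 6266), (5410, 6267), (5411, 6268), (5412, 6437), (5413, 6270), (5414, 6271), (5415, 6272), (5416, 6273), (5417, 6274), (5418, 6275), (5419, 6276), (5420, 6277), (5421, 6278), (5422, 4709), (5423, 6279), (5424, 6280), (5425, 6281), (5426, 6282), (5427, 6283), (5428, 6284), (5429, 6285), (5430, 6286), (5431, 6287), (5432, 6288), (5433, 6289), (5434, 6290), (5435, 6291), (5436, 6292), (5437,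 6293), (5438, 6294), (5439, 6295)]
    ⟨e3 q5376 (flp_a L140983) q6264, e3 q5377 L133057 q4456, e3 q5378 L133064 q4457, e3 q5379 L133074 q4458, e3 q5380 L133082 q4459, e3 q5381 L133090 q4460, e3 q5382 L133098 q4461, e3 q5383 L133107 q4462, e3 q5384 L133117 q4463, e3 q5385 L133126 q4464, e3 q5386 (flp_a L140991) q6265, e3 q5387 (flp_a L142147) q6397, e3 q5388 (flp_a L142157) q6398, e3 q5389 (flp_a L142167) q6399, e3 q5390 (flp_a L142188) q6402, e3 q5391 (flp_a L142197) q6403, e3 q5392 (flp_a L142206) q6404, e3 q5393 (flp_a L142214) q6405, e3 q5394 (flp_a L142224) q6406, e3 q5395 (flp_a L142230) q6407, e3 q5396 (flp_a L142240) q6408, e3 q5397 (flp_a L142250) q6409, e3 q5398 (flp_a L140885) q6254, e3 q5399 (flp_a L140898) q6255, e3 q5400 (flp_a L140909) q6256, e3 q5401 (flp_a L140914) q6257, e3 q5402 L133256 q4695, e3 q5403 (flp_a L140923) q6258, e3 q5404 (flp_a L140933) q6259, e3 q5405 (flp_a L140945) q6260, e3 q5406 (flp_a L140957) q6261, e3 q5407 (flp_a L140963) q6262, e3 q5408 (flp_a L140975)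 q6263, e3 q5409 (flp_a L141002) q6266, e3 q5410 (flp_a L141008) q6267, e3 q5411 (flp_a L141020) q6268, e3 q5412 L142465 q6437, e3 q5413 (flp_a L141034) q6270, e3 q5414 (flp_a L141040) q6271, e3 q5415 (flp_a L141046) q6272, e3 q5416 (flp_a L141054) q6273, e3 q5417 (flp_a L141064) q6274, e3 q5418 (flp_a L141070) q6275, e3 q5419 (flp_a L141081) q6276, e3 q5420 (flp_a L141093) q6277, e3 q5421 (flp_a L141102) q6278, e3 q5422 L133397 q4709, e3 q5423 (flp_a L141114) q6279, e3 q5424 (flp_a L141119) q6280, e3 q5425 (flp_a L141130) q6281, e3 q5426 (flp_a L141139) q6282, e3 q5427 (flp_a L141152) q6283, e3 q5428 (flp_a L141162) q6284, e3 q5429 (flp_a L141172) q6285, e3 q5430 (flp_a L141184) q6286, e3 q5431 (flp_a L141191) q6287, e3 q5432 (flp_a L141199) q6288, e3 q5433 (flp_a L141207) q6289, e3 q5434 (flp_a L141217) q6290, e3 q5435 (flp_a L141226) q6291, e3 q5436 (flp_a L141238) q6292, e3 q5437 (flp_a L141246) q6293, e3 q5438 (flp_a L141255) q6294, e3 q5439 (flp_a L141265) q6295, trivial⟩ (by decide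 +kernel)

theorem ce_a_85 : ∀ r, r < 64 → sm ga (Qf (5440 + r)) = Qf (tab Gen.a (5440 + r)) :=
  edges_tab (sm ga) Qf (tab Gen.a) 5440 [(5440, 4517), (5441, 4518), (5442, 4519), (5443, 4520), (5444, 6479), (5445, 4522), (5446, 4523), (5447, 4524), (5448, 4525), (5449, 4526), (5450, 4527), (5451, 4528), (5452, 4529), (5453, 4500), (5454, 6491), (5455, 6492), (5456, 4533), (5457, 4534), (5458, 4535), (5459, 4536), (5460, 4537), (5461, 4538), (5462, 4539), (5463, 4540), (5464, 4541), (5465, 4542), (5466, 4543), (5467, 4544), (5468, 4545), (5469, 4546), (5470, 4547), (5471, 4516), (5472, 6477), (5473, 6478), (5474, 4521), (5475, 6508), (5476, 6509), (5477, 6482), (5478, 6483), (5479, 6484), (5480, 6485), (5481, 6486), (5482, 6487), (5483, 6488), (5484, 6489), (5485, 6490), (5486, 4531), (5487, 4532), (5488, 6518), (5489, 6519), (5490, 6520), (5491, 6496), (5492, 6497), (5493, 6498), (5494, 6499), (5495, 6500), (5496, 6501), (5497, 6502), (5498, 6503), (5499, 6504), (5500, 6505), (5501, 6506),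 (5502, 5502), (5503, 5503)]
    ⟨e3 q5440 L133543 q4517, e3 q5441 L133553 q4518, e3 q5442 L133561 q4519, e3 q5443 L133573 q4520, e3 q5444 L142821 q6479, e3 q5445 L133591 q4522, e3 q5446 L133602 q4523, e3 q5447 L133612 q4524, e3 q5448 L133620 q4525, e3 q5449 L133628 q4526, e3 q5450 L133634 q4527, e3 q5451 L133642 q4528, e3 q5452 L133654 q4529, e3 q5453 (flp_a L133660) q4500, e3 q5454 (flp_a L142934) q6491, e3 q5455 (flp_a L142944) q6492, e3 q5456 L133686 q4533, e3 q5457 L133694 q4534, e3 q5458 L133706 q4535, e3 q5459 L133714 q4536, e3 q5460 L133720 q4537, e3 q5461 L133728 q4538, e3 q5462 L133734 q4539, e3 q5463 L133745 q4540, e3 q5464 L133754 q4541, e3 q5465 L133766 q4542, e3 q5466 L133776 q4543, e3 q5467 L133788 q4544, e3 q5468 L133794 q4545, e3 q5469 L133805 q4546, e3 q5470 L133813 q4547, e3 q5471 L133822 q4516, e3 q5472 (flp_a L142803) q6477, e3 q5473 (flp_a L142813) q6478, e3 q5474 (flp_a L133850) q4521, e3 q5475 (flp_a L143091) q6508, e3 q5476 (flp_a L143100) q6509, e3 q5477 (flp_a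 L142850) q6482, e3 q5478 (flp_a L142859) q6483, e3 q5479 (flp_a L142870) q6484, e3 q5480 (flp_a L142880) q6485, e3 q5481 (flp_a L142888) q6486, e3 q5482 (flp_a L142896) q6487, e3 q5483 (flp_a L142904) q6488, e3 q5484 (flp_a L142914) q6489, e3 q5485 (flp_a L142924) q6490, e3 q5486 L133943 q4531, e3 q5487 L133951 q4532, e3 q5488 (flp_a L143170) q6518, e3 q5489 (flp_a L143176) q6519, e3 q5490 (flp_a L143186) q6520, e3 q5491 (flp_a L142976) q6496, e3 q5492 (flp_a L142986) q6497, e3 q5493 (flp_a L142996) q6498, e3 q5494 (flp_a L143006) q6499, e3 q5495 (flp_a L143014) q6500, e3 q5496 (flp_a L143020) q6501, e3 q5497 (flp_a L143026) q6502, e3 q5498 (flp_a L143037) q6503, e3 q5499 (flp_a L143048) q6504, e3 q5500 (flp_a L143060) q6505, e3 q5501 (flp_a L143068) q6506, e3 q5502 L134061 q5502, e3 q5503 L134070 q5503, trivial⟩ (by decide +kernel)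

theorem ce_a_86 : ∀ r, r < 64 → sm ga (Qf (5504 + r)) = Qf (tab Gen.a (5504 + r)) :=
  edges_tab (sm ga) Qf (tab Gen.a) 5504 [(5504, 5504), (5505, 5505), (5506, 5506), (5507, 5507), (5508, 5508), (5509, 5509), (5510, 4560), (5511, 5511), (5512, 5512), (5513, 5513), (5514, 5514), (5515, 5515), (5516, 6545), (5517, 5517), (5518, 4567), (5519, 4568), (5520, 6547), (5521, 4572), (5522, 4573), (5523, 6548), (5524, 6549), (5525, 5525), (5526, 5526), (5527, 5527), (5528, 5528), (5529, 5529), (5530, 5530), (5531, 5531), (5532, 5532), (5533, 5533), (5534, 5534), (5535, 5535), (5536, 5536), (5537, 5537), (5538, 5538), (5539, 5539), (5540, 5540), (5541, 5541), (5542, 5542), (5543, 5543), (5544, 5544), (5545, 5545), (5546, 5546), (5547, 5547), (5548, 5548), (5549, 5549), (5550, 5550), (5551, 5551), (5552, 5552), (5553, 5553), (5554, 5554), (5555, 5555), (5556, 5556), (5557, 5557), (5558, 5558), (5559, 5559), (5560, 5560), (5561, 5561), (5562, 4602), (5563, 4603), (5564, 6595), (5565, 6596), (5566,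 6597), (5567, 4625)]
    ⟨e3 q5504 L134077 q5504, e3 q5505 L134088 q5505, e3 q5506 L134099 q5506, e3 q5507 L134106 q5507, e3 q5508 L134117 q5508, e3 q5509 L134126 q5509, e3 q5510 L134133 q4560, e3 q5511 L134143 q5511, e3 q5512 L134150 q5512, e3 q5513 L134159 q5513, e3 q5514 L134168 q5514, e3 q5515 L134173 q5515, e3 q5516 L143374 q6545, e3 q5517 L134187 q5517, e3 q5518 (flp_a L134193) q4567, e3 q5519 (flp_a L134203) q4568, e3 q5520 (flp_a L143395) q6547, e3 q5521 L134221 q4572, e3 q5522 (flp_a L134227) q4573, e3 q5523 (flp_a L143404) q6548, e3 q5524 (flp_a L143414) q6549, e3 q5525 L134260 q5525, e3 q5526 L134267 q5526, e3 q5527 L134274 q5527, e3 q5528 L134283 q5528, e3 q5529 L134292 q5529, e3 q5530 L134303 q5530, e3 q5531 L134313 q5531, e3 q5532 L134323 q5532, e3 q5533 L134332 q5533, e3 q5534 L134340 q5534, e3 q5535 L134349 q5535, e3 q5536 L134359 q5536, e3 q5537 L134371 q5537, e3 q5538 L134381 q5538, e3 q5539 L134392 q5539, e3 q5540 L134397 q5540, e3 q5541 L134402 q5541, e3 q5542 L134407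 q5542, e3 q5543 L134416 q5543, e3 q5544 L134425 q5544, e3 q5545 L134434 q5545, e3 q5546 L134442 q5546, e3 q5547 L134451 q5547, e3 q5548 L134462 q5548, e3 q5549 L134470 q5549, e3 q5550 L134474 q5550, e3 q5551 L134481 q5551, e3 q5552 L134489 q5552, e3 q5553 L134497 q5553, e3 q5554 L134504 q5554, e3 q5555 L134509 q5555, e3 q5556 L134517 q5556, e3 q5557 L134526 q5557, e3 q5558 L134532 q5558, e3 q5559 L134539 q5559, e3 q5560 L134549 q5560, e3 q5561 L134559 q5561, e3 q5562 L134567 q4602, e3 q5563 L134576 q4603, e3 q5564 (flp_a L143826) q6595, e3 q5565 (flp_a L143834) q6596, e3 q5566 (flp_a L143844) q6597, e3 q5567 L134609 q4625, trivial⟩ (by decide +kernel)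

theorem ce_a_87 : ∀ r, r < 64 → sm ga (Qf (5568 + r)) = Qf (tab Gen.a (5568 + r)) :=
  edges_tab (sm ga) Qf (tab Gen.a) 5568 [(5568, 4626), (5569, 4627), (5570, 4628), (5571, 4629), (5572, 4630), (5573, 4631), (5574, 4632), (5575, 4633), (5576, 4634), (5577, 4635), (5578, 4636), (5579, 5197), (5580, 4622), (5581, 4623), (5582, 4624), (5583, 6611), (5584, 6612), (5585, 6613), (5586, 6601), (5587, 6602), (5588, 6603), (5589, 6604), (5590, 6605), (5591, 6606), (5592, 6607), (5593, 6608), (5594, 6609), (5595, 5595), (5596, 4690), (5597, 4691), (5598, 4692), (5599, 4693), (5600, 4696), (5601, 4647), (5602, 4703), (5603, 4704), (5604, 4705), (5605, 4707), (5606, 4708), (5607, 4710), (5608, 4711), (5609, 4712), (5610, 4713), (5611, 4714), (5612, 4715), (5613, 4716), (5614, 4717), (5615, 4718), (5616, 4719), (5617, 4720), (5618, 4721), (5619, 4722), (5620, 4723), (5621, 4724), (5622, 4725), (5623, 4726), (5624, 4727), (5625, 4728), (5626, 4729), (5627, 4730), (5628, 4678), (5629, 4679), (5630,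 4680), (5631, 4681)]
    ⟨e3 q5568 L134619 q4626, e3 q5569 L134628 q4627, e3 q5570 L134639 q4628, e3 q5571 L134650 q4629, e3 q5572 L134658 q4630, e3 q5573 L134668 q4631, e3 q5574 L134679 q4632, e3 q5575 L134688 q4633, e3 q5576 L134699 q4634, e3 q5577 L134709 q4635, e3 q5578 L134717 q4636, e3 q5579 L134731 q5197, e3 q5580 L134735 q4622, e3 q5581 L134742 q4623, e3 q5582 L134751 q4624, e3 q5583 (flp_a L143972) q6611, e3 q5584 (flp_a L143981) q6612, e3 q5585 (flp_a L143989) q6613, e3 q5586 (flp_a L143878) q6601, e3 q5587 (flp_a L143889) q6602, e3 q5588 (flp_a L143899) q6603, e3 q5589 (flp_a L143906) q6604, e3 q5590 (flp_a L143916) q6605, e3 q5591 (flp_a L143925) q6606, e3 q5592 (flp_a L143935) q6607, e3 q5593 (flp_a L143946) q6608, e3 q5594 (flp_a L143956) q6609, e3 q5595 L134862 q5595, e3 q5596 L134872 q4690, e3 q5597 L134879 q4691, e3 q5598 L134885 q4692, e3 q5599 L134896 q4693, e3 q5600 L134907 q4696, e3 q5601 L134916 q4647, e3 q5602 L134924 q4703, e3 q5603 L134935 q4704, e3 q5604 L134942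 q4705, e3 q5605 L134950 q4707, e3 q5606 L134961 q4708, e3 q5607 L134971 q4710, e3 q5608 L134983 q4711, e3 q5609 L134994 q4712, e3 q5610 L135005 q4713, e3 q5611 L135016 q4714, e3 q5612 L135022 q4715, e3 q5613 L135031 q4716, e3 q5614 L135042 q4717, e3 q5615 L135053 q4718, e3 q5616 L135061 q4719, e3 q5617 L135073 q4720, e3 q5618 L135083 q4721, e3 q5619 L135091 q4722, e3 q5620 L135099 q4723, e3 q5621 L135109 q4724, e3 q5622 L135117 q4725, e3 q5623 L135126 q4726, e3 q5624 L135136 q4727, e3 q5625 L135143 q4728, e3 q5626 L135153 q4729, e3 q5627 L135161 q4730, e3 q5628 L135169 q4678, e3 q5629 L135178 q4679, e3 q5630 L135191 q4680, e3 q5631 L135203 q4681, trivial⟩ (by decide +kernel)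

theorem ce_a_88 : ∀ r, r < 64 → sm ga (Qf (5632 + r)) = Qf (tab Gen.a (5632 + r)) :=
  edges_tab (sm ga) Qf (tab Gen.a) 5632 [(5632, 4682), (5633, 4683), (5634, 4684), (5635, 4685), (5636, 6650), (5637, 6651), (5638, 5060), (5639, 6380), (5640, 5048), (5641, 6177), (5642, 6620), (5643, 5684), (5644, 5685), (5645, 6180), (5646, 6414), (5647, 5688), (5648, 5689), (5649, 6040), (5650, 6421), (5651, 5692), (5652, 4700), (5653, 4701), (5654, 4702), (5655, 6621), (5656, 6384), (5657, 6622), (5658, 6623), (5659, 6624), (5660, 6625), (5661, 6450), (5662, 6626), (5663, 6453), (5664, 6627), (5665, 6628), (5666, 6629), (5667, 6630), (5668, 6631), (5669, 6632), (5670, 6633), (5671, 6634), (5672, 6635), (5673, 6636), (5674, 6637), (5675, 6638), (5676, 6639), (5677, 6640), (5678, 6641), (5679, 6424), (5680, 6642), (5681, 6643), (5682, 6644), (5683, 6645), (5684, 5643), (5685, 5644), (5686, 6646), (5687, 6647), (5688, 5647), (5689, 5648), (5690, 6648), (5691, 6649), (5692, 5651), (5693, 4741), (5694,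 4742), (5695, 4743)]
    ⟨e3 q5632 L135216 q4682, e3 q5633 L135225 q4683, e3 q5634 L135233 q4684, e3 q5635 L135240 q4685, e3 q5636 (flp_a L144354) q6650, e3 q5637 (flp_a L144365) q6651, e3 q5638 L135269 q5060, e3 q5639 (flp_a L141983) q6380, e3 q5640 L135290 q5048, e3 q5641 L140031 q6177, e3 q5642 (flp_a L144047) q6620, e3 q5643 (flp_a L135622) q5684, e3 q5644 (flp_a L135633) q5685, e3 q5645 (flp_a L140059) q6180, e3 q5646 (flp_a L142293) q6414, e3 q5647 (flp_a L135663) q5688, e3 q5648 (flp_a L135676) q5689, e3 q5649 (flp_a L138762) q6040, e3 q5650 (flp_a L142345) q6421, e3 q5651 (flp_a L135704) q5692, e3 q5652 L135389 q4700, e3 q5653 L135397 q4701, e3 q5654 L135404 q4702, e3 q5655 (flp_a L144054) q6621, e3 q5656 (flp_a L142018) q6384, e3 q5657 (flp_a L144066) q6622, e3 q5658 (flp_a L144078) q6623, e3 q5659 (flp_a L144084) q6624, e3 q5660 (flp_a L144092) q6625, e3 q5661 (flp_a L142556) q6450, e3 q5662 (flp_a L144104) q6626, e3 q5663 (flp_a L142585) q6453, e3 q5664 (flp_a L144113) q6627,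 e3 q5665 (flp_a L144126) q6628, e3 q5666 (flp_a L144137) q6629, e3 q5667 (flp_a L144150) q6630, e3 q5668 (flp_a L144162) q6631, e3 q5669 (flp_a L144172) q6632, e3 q5670 (flp_a L144185) q6633, e3 q5671 (flp_a L144192) q6634, e3 q5672 (flp_a L144198) q6635, e3 q5673 (flp_a L144210) q6636, e3 q5674 (flp_a L144219) q6637, e3 q5675 (flp_a L144230) q6638, e3 q5676 (flp_a L144241) q6639, e3 q5677 (flp_a L144253) q6640, e3 q5678 (flp_a L144267) q6641, e3 q5679 (flp_a L142369) q6424, e3 q5680 (flp_a L144277) q6642, e3 q5681 (flp_a L144284) q6643, e3 q5682 (flp_a L144295) q6644, e3 q5683 (flp_a L144307) q6645, e3 q5684 L135622 q5643, e3 q5685 L135633 q5644, e3 q5686 (flp_a L144317) q6646, e3 q5687 (flp_a L144327) q6647, e3 q5688 L135663 q5647, e3 q5689 L135676 q5648, e3 q5690 (flp_a L144336) q6648, e3 q5691 (flp_a L144345) q6649, e3 q5692 L135704 q5651, e3 q5693 L135716 q4741, e3 q5694 L135724 q4742, e3 q5695 L135732 q4743, trivial⟩ (by decide +kernel)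

theorem ce_a_89 : ∀ r, r < 64 → sm ga (Qf (5696 + r)) = Qf (tab Gen.a (5696 + r)) :=
  edges_tab (sm ga) Qf (tab Gen.a) 5696 [(5696, 4744), (5697, 4745), (5698, 5196), (5699, 6702), (5700, 5700), (5701, 5701), (5702, 5702), (5703, 5703), (5704, 5704), (5705, 5705), (5706, 5706), (5707, 4756), (5708, 5708), (5709, 5709), (5710, 5710), (5711, 5711), (5712, 5712), (5713, 5713), (5714, 5714), (5715, 5715), (5716, 5716), (5717, 5717), (5718, 5718), (5719, 5719), (5720, 5720), (5721, 5721), (5722, 5722), (5723, 5723), (5724, 5724), (5725, 5725), (5726, 5726), (5727, 5727), (5728, 5728), (5729, 5729), (5730, 5730), (5731, 5731), (5732, 5732), (5733, 5733), (5734, 5734), (5735, 5735), (5736, 5736), (5737, 5737), (5738, 5738), (5739, 5739), (5740, 5740), (5741, 5741), (5742, 5742), (5743, 5743), (5744, 5744), (5745, 4803), (5746, 4804), (5747, 4805), (5748, 6060), (5749, 5749), (5750, 5750), (5751, 4854), (5752, 4855), (5753, 4856), (5754, 4857), (5755, 4858), (5756, 4859), (5757, 4860), (5758,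 4861), (5759, 4862)]
    ⟨e3 q5696 L135742 q4744, e3 q5697 L135748 q4745, e3 q5698 L135762 q5196, e3 q5699 (flp_a L144798) q6702, e3 q5700 L135774 q5700, e3 q5701 L135786 q5701, e3 q5702 L135795 q5702, e3 q5703 L135806 q5703, e3 q5704 L135810 q5704, e3 q5705 L135816 q5705, e3 q5706 L135829 q5706, e3 q5707 L135841 q4756, e3 q5708 L135856 q5708, e3 q5709 L135868 q5709, e3 q5710 L135875 q5710, e3 q5711 L135885 q5711, e3 q5712 L135891 q5712, e3 q5713 L135897 q5713, e3 q5714 L135903 q5714, e3 q5715 L135915 q5715, e3 q5716 L135921 q5716, e3 q5717 L135928 q5717, e3 q5718 L135937 q5718, e3 q5719 L135945 q5719, e3 q5720 L135953 q5720, e3 q5721 L135962 q5721, e3 q5722 L135970 q5722, e3 q5723 L135981 q5723, e3 q5724 L135989 q5724, e3 q5725 L135998 q5725, e3 q5726 L136009 q5726, e3 q5727 L136019 q5727, e3 q5728 L136029 q5728, e3 q5729 L136037 q5729, e3 q5730 L136042 q5730, e3 q5731 L136047 q5731, e3 q5732 L136056 q5732, e3 q5733 L136065 q5733, e3 q5734 L136068 q5734, e3 q5735 L136075 q5735, e3 q5736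 L136084 q5736, e3 q5737 L136096 q5737, e3 q5738 L136103 q5738, e3 q5739 L136111 q5739, e3 q5740 L136121 q5740, e3 q5741 L136132 q5741, e3 q5742 L136141 q5742, e3 q5743 L136154 q5743, e3 q5744 L136162 q5744, e3 q5745 L136173 q4803, e3 q5746 L136182 q4804, e3 q5747 L136189 q4805, e3 q5748 (flp_a L138915) q6060, e3 q5749 L136201 q5749, e3 q5750 L136212 q5750, e3 q5751 L136226 q4854, e3 q5752 L136234 q4855, e3 q5753 L136242 q4856, e3 q5754 L136249 q4857, e3 q5755 L136255 q4858, e3 q5756 L136263 q4859, e3 q5757 L136271 q4860, e3 q5758 L136279 q4861, e3 q5759 L136290 q4862, trivial⟩ (by decide +kernel)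

theorem ce_a_90 : ∀ r, r < 64 → sm ga (Qf (5760 + r)) = Qf (tab Gen.a (5760 + r)) :=
  edges_tab (sm ga) Qf (tab Gen.a) 5760 [(5760, 4863), (5761, 4864), (5762, 4865), (5763, 4866), (5764, 4867), (5765, 4868), (5766, 4869), (5767, 4870), (5768, 4871), (5769, 4839), (5770, 4840), (5771, 4841), (5772, 6308), (5773, 4842), (5774, 4843), (5775, 4844), (5776, 4845), (5777, 4846), (5778, 4847), (5779, 4848), (5780, 4849), (5781, 4850), (5782, 4851), (5783, 4852), (5784, 6331), (5785, 4853), (5786, 6771), (5787, 6772), (5788, 6773), (5789, 6776), (5790, 6777), (5791, 6778), (5792, 6779), (5793, 6780), (5794, 6781), (5795, 6782), (5796, 6783), (5797, 6784), (5798, 6785), (5799, 6787), (5800, 6742), (5801, 6743), (5802, 6744), (5803, 6745), (5804, 6746), (5805, 6748), (5806, 6749), (5807, 6750), (5808, 6751), (5809, 6752), (5810, 6753), (5811, 6754), (5812, 6755), (5813, 6756), (5814, 6757), (5815, 6758), (5816, 6759), (5817, 6760), (5818, 6761), (5819, 6762), (5820, 6763), (5821, 6764), (5822,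 6765), (5823, 6766)]
    ⟨e3 q5760 L136299 q4863, e3 q5761 L136307 q4864, e3 q5762 L136316 q4865, e3 q5763 L136324 q4866, e3 q5764 L136332 q4867, e3 q5765 L136342 q4868, e3 q5766 L136351 q4869, e3 q5767 L136359 q4870, e3 q5768 L136367 q4871, e3 q5769 L136377 q4839, e3 q5770 L136384 q4840, e3 q5771 L136391 q4841, e3 q5772 (flp_a L141379) q6308, e3 q5773 L136401 q4842, e3 q5774 L136408 q4843, e3 q5775 L136416 q4844, e3 q5776 L136422 q4845, e3 q5777 L136430 q4846, e3 q5778 L136434 q4847, e3 q5779 L136442 q4848, e3 q5780 L136451 q4849, e3 q5781 L136459 q4850, e3 q5782 L136467 q4851, e3 q5783 L136475 q4852, e3 q5784 (flp_a L141567) q6331, e3 q5785 L136488 q4853, e3 q5786 (flp_a L145406) q6771, e3 q5787 (flp_a L145413) q6772, e3 q5788 (flp_a L145420) q6773, e3 q5789 (flp_a L145437) q6776, e3 q5790 (flp_a L145446) q6777, e3 q5791 (flp_a L145452) q6778, e3 q5792 (flp_a L145460) q6779, e3 q5793 (flp_a L145466) q6780, e3 q5794 (flp_a L145475) q6781, e3 q5795 (flp_a L145485) q6782, e3 q5796 (flp_a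 L145490) q6783, e3 q5797 (flp_a L145499) q6784, e3 q5798 (flp_a L145506) q6785, e3 q5799 (flp_a L145525) q6787, e3 q5800 (flp_a L145149) q6742, e3 q5801 (flp_a L145156) q6743, e3 q5802 (flp_a L145164) q6744, e3 q5803 (flp_a L145170) q6745, e3 q5804 (flp_a L145179) q6746, e3 q5805 (flp_a L145193) q6748, e3 q5806 (flp_a L145199) q6749, e3 q5807 (flp_a L145207) q6750, e3 q5808 (flp_a L145215) q6751, e3 q5809 (flp_a L145225) q6752, e3 q5810 (flp_a L145231) q6753, e3 q5811 (flp_a L145238) q6754, e3 q5812 (flp_a L145248) q6755, e3 q5813 (flp_a L145257) q6756, e3 q5814 (flp_a L145267) q6757, e3 q5815 (flp_a L145276) q6758, e3 q5816 (flp_a L145286) q6759, e3 q5817 (flp_a L145295) q6760, e3 q5818 (flp_a L145302) q6761, e3 q5819 (flp_a L145315) q6762, e3 q5820 (flp_a L145329) q6763, e3 q5821 (flp_a L145338) q6764, e3 q5822 (flp_a L145347) q6765, e3 q5823 (flp_a L145360) q6766, trivial⟩ (by decide +kernel)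

theorem ce_a_91 : ∀ r, r < 64 → sm ga (Qf (5824 + r)) = Qf (tab Gen.a (5824 + r)) :=
  edges_tab (sm ga) Qf (tab Gen.a) 5824 [(5824, 6767), (5825, 6768), (5826, 6769), (5827, 4883), (5828, 4884), (5829, 4885), (5830, 4886), (5831, 4887), (5832, 4888), (5833, 4889), (5834, 4890), (5835, 4891), (5836, 4892), (5837, 4893), (5838, 4894), (5839, 6836), (5840, 6837), (5841, 6838), (5842, 6839), (5843, 6840), (5844, 6841), (5845, 6842), (5846, 6843), (5847, 6844), (5848, 6845), (5849, 6846), (5850, 6857), (5851, 5851), (5852, 5852), (5853, 5853), (5854, 5854), (5855, 5855), (5856, 5856), (5857, 5857), (5858, 5858), (5859, 5859), (5860, 5860), (5861, 5861), (5862, 5862), (5863, 5863), (5864, 5864), (5865, 5865), (5866, 5866), (5867, 5867), (5868, 5868), (5869, 5869), (5870, 5870), (5871, 5871), (5872, 5872), (5873, 5873), (5874, 5874), (5875, 5875), (5876, 4920), (5877, 4921), (5878, 4922), (5879, 4923), (5880, 4924), (5881, 4925), (5882, 6896), (5883, 6888), (5884, 6889), (5885, 6890), (5886,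 6897), (5887, 6892)]
    ⟨e3 q5824 (flp_a L145371) q6767, e3 q5825 (flp_a L145380) q6768, e3 q5826 (flp_a L145389) q6769, e3 q5827 L136776 q4883, e3 q5828 L136783 q4884, e3 q5829 L136790 q4885, e3 q5830 L136796 q4886, e3 q5831 L136802 q4887, e3 q5832 L136810 q4888, e3 q5833 L136816 q4889, e3 q5834 L136826 q4890, e3 q5835 L136837 q4891, e3 q5836 L136842 q4892, e3 q5837 L136852 q4893, e3 q5838 L136859 q4894, e3 q5839 (flp_a L145892) q6836, e3 q5840 (flp_a L145899) q6837, e3 q5841 (flp_a L145907) q6838, e3 q5842 (flp_a L145915) q6839, e3 q5843 (flp_a L145921) q6840, e3 q5844 (flp_a L145927) q6841, e3 q5845 (flp_a L145938) q6842, e3 q5846 (flp_a L145945) q6843, e3 q5847 (flp_a L145952) q6844, e3 q5848 (flp_a L145960) q6845, e3 q5849 (flp_a L145969) q6846, e3 q5850 L146033 q6857, e3 q5851 L136933 q5851, e3 q5852 L136939 q5852, e3 q5853 L136944 q5853, e3 q5854 L136949 q5854, e3 q5855 L136955 q5855, e3 q5856 L136962 q5856, e3 q5857 L136970 q5857, e3 q5858 L136979 q5858, e3 q5859 L136987 q5859,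 e3 q5860 L136996 q5860, e3 q5861 L137005 q5861, e3 q5862 L137015 q5862, e3 q5863 L137022 q5863, e3 q5864 L137028 q5864, e3 q5865 L137035 q5865, e3 q5866 L137042 q5866, e3 q5867 L137050 q5867, e3 q5868 L137058 q5868, e3 q5869 L137065 q5869, e3 q5870 L137073 q5870, e3 q5871 L137081 q5871, e3 q5872 L137086 q5872, e3 q5873 L137094 q5873, e3 q5874 L137103 q5874, e3 q5875 L137112 q5875, e3 q5876 L137119 q4920, e3 q5877 L137128 q4921, e3 q5878 L137135 q4922, e3 q5879 L137141 q4923, e3 q5880 L137150 q4924, e3 q5881 L137158 q4925, e3 q5882 L146370 q6896, e3 q5883 (flp_a L146296) q6888, e3 q5884 (flp_a L146303) q6889, e3 q5885 (flp_a L146310) q6890, e3 q5886 L146382 q6897, e3 q5887 (flp_a L146322) q6892, trivial⟩ (by decide +kernel)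

theorem ce_a_92 : ∀ r, r < 64 → sm ga (Qf (5888 + r)) = Qf (tab Gen.a (5888 + r)) :=
  edges_tab (sm ga) Qf (tab Gen.a) 5888 [(5888, 6893), (5889, 6899), (5890, 6895), (5891, 4926), (5892, 5892), (5893, 5893), (5894, 5894), (5895, 5895), (5896, 5896), (5897, 5897), (5898, 5898), (5899, 5899), (5900, 4945), (5901, 4946), (5902, 4947), (5903, 4948), (5904, 4949), (5905, 4950), (5906, 4951), (5907, 4952), (5908, 6912), (5909, 4954), (5910, 4955), (5911, 6906), (5912, 6907), (5913, 6908), (5914, 6909), (5915, 6910), (5916, 6887), (5917, 6911), (5918, 4953), (5919, 6915), (5920, 6914), (5921, 5922), (5922, 5921), (5923, 6206), (5924, 4959), (5925, 6917), (5926, 6032), (5927, 4963), (5928, 6919), (5929, 6209), (5930, 5049), (5931, 5050), (5932, 5051), (5933, 5052), (5934, 5053), (5935, 5054), (5936, 5055), (5937, 5056), (5938, 5057), (5939, 5058), (5940, 5059), (5941, 5061), (5942, 5062), (5943, 5063), (5944, 5064), (5945, 5065), (5946, 5066), (5947, 5067), (5948, 5068), (5949, 5069), (5950,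 5070), (5951, 5071)]
    ⟨e3 q5888 (flp_a L146331) q6893, e3 q5889 L146399 q6899, e3 q5890 (flp_a L146359) q6895, e3 q5891 (flp_a L137220) q4926, e3 q5892 L137229 q5892, e3 q5893 L137242 q5893, e3 q5894 L137252 q5894, e3 q5895 L137261 q5895, e3 q5896 L137270 q5896, e3 q5897 L137278 q5897, e3 q5898 L137285 q5898, e3 q5899 L137294 q5899, e3 q5900 L137302 q4945, e3 q5901 L137315 q4946, e3 q5902 L137328 q4947, e3 q5903 L137340 q4948, e3 q5904 L137350 q4949, e3 q5905 L137361 q4950, e3 q5906 L137370 q4951, e3 q5907 L137380 q4952, e3 q5908 L146559 q6912, e3 q5909 L137404 q4954, e3 q5910 L137417 q4955, e3 q5911 (flp_a L146474) q6906, e3 q5912 (flp_a L146487) q6907, e3 q5913 (flp_a L146503) q6908, e3 q5914 (flp_a L146518) q6909, e3 q5915 (flp_a L146532) q6910, e3 q5916 L146292 q6887, e3 q5917 (flp_a L146547) q6911, e3 q5918 (flp_a L137515) q4953, e3 q5919 (flp_a L146598) q6915, e3 q5920 (flp_a L146584) q6914, e3 q5921 (flp_a L137566) q5922, e3 q5922 L137566 q5921, e3 q5923 (flp_a L140376) q6206,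 e3 q5924 (flp_a L137591) q4959, e3 q5925 (flp_a L146625) q6917, e3 q5926 (flp_a L138679) q6032, e3 q5927 L137627 q4963, e3 q5928 (flp_a L146653) q6919, e3 q5929 (flp_a L140413) q6209, e3 q5930 L137649 q5049, e3 q5931 L137659 q5050, e3 q5932 L137673 q5051, e3 q5933 L137682 q5052, e3 q5934 L137692 q5053, e3 q5935 L137703 q5054, e3 q5936 L137714 q5055, e3 q5937 L137722 q5056, e3 q5938 L137734 q5057, e3 q5939 L137740 q5058, e3 q5940 L137748 q5059, e3 q5941 L137758 q5061, e3 q5942 L137769 q5062, e3 q5943 L137780 q5063, e3 q5944 L137787 q5064, e3 q5945 L137795 q5065, e3 q5946 L137804 q5066, e3 q5947 L137812 q5067, e3 q5948 L137823 q5068, e3 q5949 L137830 q5069, e3 q5950 L137837 q5070, e3 q5951 L137846 q5071, trivial⟩ (by decide +kernel)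

theorem ce_a_93 : ∀ r, r < 64 → sm ga (Qf (5952 + r)) = Qf (tab Gen.a (5952 + r)) :=
  edges_tab (sm ga) Qf (tab Gen.a) 5952 [(5952, 5072), (5953, 5073), (5954, 5074), (5955, 5007), (5956, 5008), (5957, 5009), (5958, 5010), (5959, 5011), (5960, 5012), (5961, 5013), (5962, 5014), (5963, 5015), (5964, 5016), (5965, 5017), (5966, 6971), (5967, 5019), (5968, 5020), (5969, 5021), (5970, 5022), (5971, 5023), (5972, 5024), (5973, 5025), (5974, 5026), (5975, 5027), (5976, 5028), (5977, 5029), (5978, 5030), (5979, 5031), (5980, 5032), (5981, 5033), (5982, 5034), (5983, 6990), (5984, 5036), (5985, 5037), (5986, 5004), (5987, 6993), (5988, 5040), (5989, 6953), (5990, 6954), (5991, 6955), (5992, 6956), (5993, 6957), (5994, 7000), (5995, 6959), (5996, 6960), (5997, 6961), (5998, 6962), (5999, 6963), (6000, 6964), (6001, 6965), (6002, 6966), (6003, 7009), (6004, 6968), (6005, 6969), (6006, 6970), (6007, 5018), (6008, 7013), (6009, 7014), (6010, 6974), (6011, 6975), (6012, 6976), (6013, 6977), (6014,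 6978), (6015, 6979)]
    ⟨e3 q5952 L137854 q5072, e3 q5953 L137864 q5073, e3 q5954 L137874 q5074, e3 q5955 L137884 q5007, e3 q5956 L137895 q5008, e3 q5957 L137903 q5009, e3 q5958 L137913 q5010, e3 q5959 L137922 q5011, e3 q5960 L137929 q5012, e3 q5961 L137937 q5013, e3 q5962 L137945 q5014, e3 q5963 L137958 q5015, e3 q5964 L137968 q5016, e3 q5965 L137980 q5017, e3 q5966 L147169 q6971, e3 q5967 L137994 q5019, e3 q5968 L138004 q5020, e3 q5969 L138014 q5021, e3 q5970 L138022 q5022, e3 q5971 L138030 q5023, e3 q5972 L138038 q5024, e3 q5973 L138050 q5025, e3 q5974 L138060 q5026, e3 q5975 L138071 q5027, e3 q5976 L138079 q5028, e3 q5977 L138086 q5029, e3 q5978 L138095 q5030, e3 q5979 L138102 q5031, e3 q5980 L138112 q5032, e3 q5981 L138123 q5033, e3 q5982 L138137 q5034, e3 q5983 L147382 q6990, e3 q5984 L138154 q5036, e3 q5985 L138164 q5037, e3 q5986 (flp_a L138171) q5004, e3 q5987 (flp_a L147418) q6993, e3 q5988 L138186 q5040, e3 q5989 (flp_a L146971) q6953, e3 q5990 (flp_a L146985) q6954, e3 q5991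 (flp_a L146998) q6955, e3 q5992 (flp_a L147011) q6956, e3 q5993 (flp_a L147024) q6957, e3 q5994 L147490 q7000, e3 q5995 (flp_a L147039) q6959, e3 q5996 (flp_a L147053) q6960, e3 q5997 (flp_a L147062) q6961, e3 q5998 (flp_a L147075) q6962, e3 q5999 (flp_a L147082) q6963, e3 q6000 (flp_a L147092) q6964, e3 q6001 (flp_a L147106) q6965, e3 q6002 (flp_a L147119) q6966, e3 q6003 L147596 q7009, e3 q6004 (flp_a L147137) q6968, e3 q6005 (flp_a L147149) q6969, e3 q6006 (flp_a L147163) q6970, e3 q6007 (flp_a L138401) q5018, e3 q6008 (flp_a L147646) q7013, e3 q6009 (flp_a L147660) q7014, e3 q6010 (flp_a L147195) q6974, e3 q6011 (flp_a L147209) q6975, e3 q6012 (flp_a L147221) q6976, e3 q6013 (flp_a L147229) q6977, e3 q6014 (flp_a L147243) q6978, e3 q6015 (flp_a L147253) q6979, trivial⟩ (by decide +kernel)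

theorem ce_a_94 : ∀ r, r < 64 → sm ga (Qf (6016 + r)) = Qf (tab Gen.a (6016 + r)) :=
  edges_tab (sm ga) Qf (tab Gen.a) 6016 [(6016, 6980), (6017, 6981), (6018, 6982), (6019, 6983), (6020, 6984), (6021, 6985), (6022, 6847), (6023, 6987), (6024, 6988), (6025, 6989), (6026, 5035), (6027, 7027), (6028, 6992), (6029, 5039), (6030, 7029), (6031, 6995), (6032, 5926), (6033, 5044), (6034, 7032), (6035, 5047), (6036, 6654), (6037, 6655), (6038, 6920), (6039, 6921), (6040, 5649), (6041, 6922), (6042, 6923), (6043, 6924), (6044, 6925), (6045, 6926), (6046, 6927), (6047, 6928), (6048, 6929), (6049, 6930), (6050, 6931), (6051, 6932), (6052, 7061), (6053, 6934), (6054, 6935), (6055, 6936), (6056, 6937), (6057, 6938), (6058, 6652), (6059, 6653), (6060, 5748), (6061, 6939), (6062, 6940), (6063, 6941), (6064, 6942), (6065, 6943), (6066, 6944), (6067, 6945), (6068, 6946), (6069, 6947), (6070, 6948), (6071, 6827), (6072, 6828), (6073, 6949), (6074, 6950), (6075, 6831), (6076, 6832), (6077, 6951), (6078,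 6952), (6079, 6835)]
    ⟨e3 q6016 (flp_a L147259) q6980, e3 q6017 (flp_a L147272) q6981, e3 q6018 (flp_a L147286) q6982, e3 q6019 (flp_a L147299) q6983, e3 q6020 (flp_a L147306) q6984, e3 q6021 (flp_a L147318) q6985, e3 q6022 L145984 q6847, e3 q6023 (flp_a L147338) q6987, e3 q6024 (flp_a L147352) q6988, e3 q6025 (flp_a L147369) q6989, e3 q6026 (flp_a L138619) q5035, e3 q6027 (flp_a L147802) q7027, e3 q6028 (flp_a L147405) q6992, e3 q6029 L138655 q5039, e3 q6030 (flp_a L147825) q7029, e3 q6031 (flp_a L147433) q6995, e3 q6032 L138679 q5926, e3 q6033 L138696 q5044, e3 q6034 (flp_a L147858) q7032, e3 q6035 L138719 q5047, e3 q6036 (flp_a L144400) q6654, e3 q6037 (flp_a L144413) q6655, e3 q6038 (flp_a L146663) q6920, e3 q6039 (flp_a L146670) q6921, e3 q6040 L138762 q5649, e3 q6041 (flp_a L146682) q6922, e3 q6042 (flp_a L146694) q6923, e3 q6043 (flp_a L146704) q6924, e3 q6044 (flp_a L146715) q6925, e3 q6045 (flp_a L146723) q6926, e3 q6046 (flp_a L146732) q6927, e3 q6047 (flp_a L146742) q6928,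 e3 q6048 (flp_a L146752) q6929, e3 q6049 (flp_a L146765) q6930, e3 q6050 (flp_a L146771) q6931, e3 q6051 (flp_a L146783) q6932, e3 q6052 L148115 q7061, e3 q6053 (flp_a L146799) q6934, e3 q6054 (flp_a L146805) q6935, e3 q6055 (flp_a L146813) q6936, e3 q6056 (flp_a L146823) q6937, e3 q6057 (flp_a L146833) q6938, e3 q6058 (flp_a L144376) q6652, e3 q6059 (flp_a L144387) q6653, e3 q6060 L138915 q5748, e3 q6061 (flp_a L146843) q6939, e3 q6062 (flp_a L146855) q6940, e3 q6063 (flp_a L146867) q6941, e3 q6064 (flp_a L146871) q6942, e3 q6065 (flp_a L146880) q6943, e3 q6066 (flp_a L146888) q6944, e3 q6067 (flp_a L146897) q6945, e3 q6068 (flp_a L146908) q6946, e3 q6069 (flp_a L146918) q6947, e3 q6070 (flp_a L146927) q6948, e3 q6071 (flp_a L145788) q6827, e3 q6072 (flp_a L145802) q6828, e3 q6073 (flp_a L146935) q6949, e3 q6074 (flp_a L146943) q6950, e3 q6075 (flp_a L145835) q6831, e3 q6076 (flp_a L145849) q6832, e3 q6077 (flp_a L146951) q6951, e3 q6078 (flp_a L146962) q6952, e3 q6079 (flp_a L145878)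 q6835, trivial⟩ (by decide +kernel)

theorem ce_a_95 : ∀ r, r < 64 → sm ga (Qf (6080 + r)) = Qf (tab Gen.a (6080 + r)) :=
  edges_tab (sm ga) Qf (tab Gen.a) 6080 [(6080, 5106), (6081, 5107), (6082, 5108), (6083, 5109), (6084, 5110), (6085, 5111), (6086, 7102), (6087, 5113), (6088, 5114), (6089, 5115), (6090, 5116), (6091, 5117), (6092, 5118), (6093, 5119), (6094, 7113), (6095, 5121), (6096, 5122), (6097, 5123), (6098, 5124), (6099, 5125), (6100, 5087), (6101, 7121), (6102, 7122), (6103, 5129), (6104, 5130), (6105, 5131), (6106, 5132), (6107, 5133), (6108, 5134), (6109, 5135), (6110, 5136), (6111, 5137), (6112, 5138), (6113, 5139), (6114, 5140), (6115, 5141), (6116, 5142), (6117, 5143), (6118, 5102), (6119, 7138), (6120, 5105), (6121, 7096), (6122, 7097), (6123, 7099), (6124, 7100), (6125, 7101), (6126, 5112), (6127, 7142), (6128, 7105), (6129, 7106), (6130, 7107), (6131, 7108), (6132, 7109), (6133, 7110), (6134, 7111), (6135, 7112), (6136, 5120), (6137, 7150), (6138, 7116), (6139, 7117),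 (6140, 7118), (6141, 7119), (6142, 7120), (6143, 5127)]
    ⟨e3 q6080 L139067 q5106, e3 q6081 L139080 q5107, e3 q6082 L139094 q5108, e3 q6083 L139106 q5109, e3 q6084 L139120 q5110, e3 q6085 L139133 q5111, e3 q6086 L148455 q7102, e3 q6087 L139149 q5113, e3 q6088 L139161 q5114, e3 q6089 L139171 q5115, e3 q6090 L139180 q5116, e3 q6091 L139187 q5117, e3 q6092 L139197 q5118, e3 q6093 L139210 q5119, e3 q6094 L148580 q7113, e3 q6095 L139230 q5121, e3 q6096 L139243 q5122, e3 q6097 L139255 q5123, e3 q6098 L139267 q5124, e3 q6099 L139277 q5125, e3 q6100 (flp_a L139283) q5087, e3 q6101 (flp_a L148678) q7121, e3 q6102 (flp_a L148689) q7122, e3 q6103 L139306 q5129, e3 q6104 L139315 q5130, e3 q6105 L139324 q5131, e3 q6106 L139332 q5132, e3 q6107 L139340 q5133, e3 q6108 L139350 q5134, e3 q6109 L139356 q5135, e3 q6110 L139365 q5136, e3 q6111 L139373 q5137, e3 q6112 L139383 q5138, e3 q6113 L139392 q5139, e3 q6114 L139402 q5140, e3 q6115 L139409 q5141, e3 q6116 L139418 q5142, e3 q6117 L139427 q5143, e3 q6118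 (flp_a L139436) q5102, e3 q6119 (flp_a L148836) q7138, e3 q6120 L139464 q5105, e3 q6121 (flp_a L148377) q7096, e3 q6122 (flp_a L148392) q7097, e3 q6123 (flp_a L148420) q7099, e3 q6124 (flp_a L148434) q7100, e3 q6125 (flp_a L148447) q7101, e3 q6126 (flp_a L139531) q5112, e3 q6127 (flp_a L148893) q7142, e3 q6128 (flp_a L148491) q7105, e3 q6129 (flp_a L148505) q7106, e3 q6130 (flp_a L148517) q7107, e3 q6131 (flp_a L148527) q7108, e3 q6132 (flp_a L148540) q7109, e3 q6133 (flp_a L148549) q7110, e3 q6134 (flp_a L148557) q7111, e3 q6135 (flp_a L148570) q7112, e3 q6136 (flp_a L139636) q5120, e3 q6137 (flp_a L148983) q7150, e3 q6138 (flp_a L148619) q7116, e3 q6139 (flp_a L148632) q7117, e3 q6140 (flp_a L148644) q7118, e3 q6141 (flp_a L148658) q7119, e3 q6142 (flp_a L148670) q7120, e3 q6143 L139717 q5127, trivial⟩ (by decide +kernel)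

theorem ce_a_96 : ∀ r, r < 64 → sm ga (Qf (6144 + r)) = Qf (tab Gen.a (6144 + r)) :=
  edges_tab (sm ga) Qf (tab Gen.a) 6144 [(6144, 5128), (6145, 7156), (6146, 7157), (6147, 7158), (6148, 7126), (6149, 7127), (6150, 7128), (6151, 7129), (6152, 7130), (6153, 7131), (6154, 7132), (6155, 7133), (6156, 7134), (6157, 7135), (6158, 7136), (6159, 7137), (6160, 5145), (6161, 6161), (6162, 6162), (6163, 6163), (6164, 6164), (6165, 6165), (6166, 6166), (6167, 6167), (6168, 6168), (6169, 6169), (6170, 6170), (6171, 6171), (6172, 6172), (6173, 7187), (6174, 6174), (6175, 6175), (6176, 6176), (6177, 5641), (6178, 6178), (6179, 5161), (6180, 5645), (6181, 6181), (6182, 5179), (6183, 5363), (6184, 5180), (6185, 5181), (6186, 5171), (6187, 5370), (6188, 7194), (6189, 5184), (6190, 5183), (6191, 6191), (6192, 6192), (6193, 6193), (6194, 6194), (6195, 5198), (6196, 5199), (6197, 7198), (6198, 5201), (6199, 5202), (6200, 6507), (6201, 7196), (6202, 7197), (6203, 5200), (6204, 7201), (6205, 7200), (6206,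 5923), (6207, 5206)]
    ⟨e3 q6144 L139726 q5128, e3 q6145 (flp_a L149057) q7156, e3 q6146 (flp_a L149070) q7157, e3 q6147 (flp_a L149079) q7158, e3 q6148 (flp_a L148719) q7126, e3 q6149 (flp_a L148732) q7127, e3 q6150 (flp_a L148743) q7128, e3 q6151 (flp_a L148751) q7129, e3 q6152 (flp_a L148761) q7130, e3 q6153 (flp_a L148769) q7131, e3 q6154 (flp_a L148777) q7132, e3 q6155 (flp_a L148789) q7133, e3 q6156 (flp_a L148800) q7134, e3 q6157 (flp_a L148809) q7135, e3 q6158 (flp_a L148821) q7136, e3 q6159 (flp_a L148828) q7137, e3 q6160 L139863 q5145, e3 q6161 L139876 q6161, e3 q6162 L139886 q6162, e3 q6163 L139895 q6163, e3 q6164 L139900 q6164, e3 q6165 L139910 q6165, e3 q6166 L139917 q6166, e3 q6167 L139921 q6167, e3 q6168 L139928 q6168, e3 q6169 L139940 q6169, e3 q6170 L139953 q6170, e3 q6171 L139962 q6171, e3 q6172 L139974 q6172, e3 q6173 L149344 q7187, e3 q6174 L139995 q6174, e3 q6175 L140003 q6175, e3 q6176 L140010 q6176, e3 q6177 (flp_a L140031) q5641, e3 q6178 L140035 q6178, e3 q6179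 (flp_a L140046) q5161, e3 q6180 L140059 q5645, e3 q6181 L140070 q6181, e3 q6182 L140080 q5179, e3 q6183 L140101 q5363, e3 q6184 L140105 q5180, e3 q6185 L140119 q5181, e3 q6186 (flp_a L140132) q5171, e3 q6187 L140146 q5370, e3 q6188 (flp_a L149425) q7194, e3 q6189 L140165 q5184, e3 q6190 L140178 q5183, e3 q6191 L140189 q6191, e3 q6192 L140202 q6192, e3 q6193 L140212 q6193, e3 q6194 L140226 q6194, e3 q6195 L140237 q5198, e3 q6196 L140250 q5199, e3 q6197 L149480 q7198, e3 q6198 L140270 q5201, e3 q6199 L140279 q5202, e3 q6200 (flp_a L143085) q6507, e3 q6201 (flp_a L149450) q7196, e3 q6202 (flp_a L149466) q7197, e3 q6203 (flp_a L140333) q5200, e3 q6204 (flp_a L149519) q7201, e3 q6205 (flp_a L149505) q7200, e3 q6206 L140376 q5923, e3 q6207 L140389 q5206, trivial⟩ (by decide +kernel)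

theorem ce_a_97 : ∀ r, r < 64 → sm ga (Qf (6208 + r)) = Qf (tab Gen.a (6208 + r)) :=
  edges_tab (sm ga) Qf (tab Gen.a) 6208 [(6208, 7202), (6209, 5929), (6210, 5351), (6211, 5352), (6212, 5353), (6213, 5354), (6214, 5355), (6215, 5356), (6216, 5357), (6217, 5358), (6218, 5361), (6219, 5362), (6220, 5364), (6221, 5366), (6222, 5367), (6223, 5368), (6224, 5369), (6225, 5371), (6226, 5372), (6227, 5237), (6228, 5238), (6229, 5239), (6230, 7223), (6231, 5241), (6232, 5242), (6233, 5243), (6234, 5244), (6235, 5245), (6236, 6986), (6237, 5246), (6238, 5247), (6239, 5234), (6240, 7229), (6241, 5250), (6242, 7219), (6243, 7221), (6244, 7222), (6245, 5240), (6246, 7233), (6247, 7225), (6248, 7226), (6249, 7228), (6250, 5249), (6251, 7237), (6252, 7231), (6253, 5252), (6254, 5398), (6255, 5399), (6256, 5400), (6257, 5401), (6258, 5403), (6259, 5404), (6260, 5405), (6261, 5406), (6262, 5407), (6263, 5408), (6264, 5376), (6265, 5386), (6266, 5409), (6267, 5410), (6268, 5411), (6269, 7265), (6270,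 5413), (6271, 5414)]
    ⟨e3 q6208 (flp_a L149534) q7202, e3 q6209 L140413 q5929, e3 q6210 L140425 q5351, e3 q6211 L140438 q5352, e3 q6212 L140452 q5353, e3 q6213 L140466 q5354, e3 q6214 L140478 q5355, e3 q6215 L140492 q5356, e3 q6216 L140500 q5357, e3 q6217 L140512 q5358, e3 q6218 L140522 q5361, e3 q6219 L140534 q5362, e3 q6220 L140550 q5364, e3 q6221 L140562 q5366, e3 q6222 L140571 q5367, e3 q6223 L140579 q5368, e3 q6224 L140588 q5369, e3 q6225 L140601 q5371, e3 q6226 L140611 q5372, e3 q6227 L140622 q5237, e3 q6228 L140634 q5238, e3 q6229 L140646 q5239, e3 q6230 L149778 q7223, e3 q6231 L140662 q5241, e3 q6232 L140672 q5242, e3 q6233 L140682 q5243, e3 q6234 L140690 q5244, e3 q6235 L140702 q5245, e3 q6236 (flp_a L147334) q6986, e3 q6237 L140720 q5246, e3 q6238 L140728 q5247, e3 q6239 (flp_a L140737) q5234, e3 q6240 (flp_a L149835) q7229, e3 q6241 L140756 q5250, e3 q6242 (flp_a L149732) q7219, e3 q6243 (flp_a L149756) q7221, e3 q6244 (flp_a L149768) q7222, e3 q6245 (flp_a L140799) q5240,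 e3 q6246 (flp_a L149873) q7233, e3 q6247 (flp_a L149796) q7225, e3 q6248 (flp_a L149804) q7226, e3 q6249 (flp_a L149824) q7228, e3 q6250 L140848 q5249, e3 q6251 (flp_a L149910) q7237, e3 q6252 (flp_a L149854) q7231, e3 q6253 L140876 q5252, e3 q6254 L140885 q5398, e3 q6255 L140898 q5399, e3 q6256 L140909 q5400, e3 q6257 L140914 q5401, e3 q6258 L140923 q5403, e3 q6259 L140933 q5404, e3 q6260 L140945 q5405, e3 q6261 L140957 q5406, e3 q6262 L140963 q5407, e3 q6263 L140975 q5408, e3 q6264 L140983 q5376, e3 q6265 L140991 q5386, e3 q6266 L141002 q5409, e3 q6267 L141008 q5410, e3 q6268 L141020 q5411, e3 q6269 L150171 q7265, e3 q6270 L141034 q5413, e3 q6271 L141040 q5414, trivial⟩ (by decide +kernel)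

theorem ce_a_98 : ∀ r, r < 64 → sm ga (Qf (6272 + r)) = Qf (tab Gen.a (6272 + r)) :=
  edges_tab (sm ga) Qf (tab Gen.a) 6272 [(6272, 5415), (6273, 5416), (6274, 5417), (6275, 5418), (6276, 5419), (6277, 5420), (6278, 5421), (6279, 5423), (6280, 5424), (6281, 5425), (6282, 5426), (6283, 5427), (6284, 5428), (6285, 5429), (6286, 5430), (6287, 5431), (6288, 5432), (6289, 5433), (6290, 5434), (6291, 5435), (6292, 5436), (6293, 5437), (6294, 5438), (6295, 5439), (6296, 5311), (6297, 5312), (6298, 5313), (6299, 5314), (6300, 7302), (6301, 5316), (6302, 5317), (6303, 5318), (6304, 5319), (6305, 5320), (6306, 5321), (6307, 5322), (6308, 5772), (6309, 5323), (6310, 5324), (6311, 5325), (6312, 5326), (6313, 5327), (6314, 5291), (6315, 7317), (6316, 7318), (6317, 5331), (6318, 5332), (6319, 5333), (6320, 5334), (6321, 5335), (6322, 5336), (6323, 5337), (6324, 5338), (6325, 5339), (6326, 5340), (6327, 5341), (6328, 5342), (6329, 5343), (6330, 5344), (6331, 5784), (6332, 5345), (6333, 5309), (6334,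 7333), (6335, 5348)]
    ⟨e3 q6272 L141046 q5415, e3 q6273 L141054 q5416, e3 q6274 L141064 q5417, e3 q6275 L141070 q5418, e3 q6276 L141081 q5419, e3 q6277 L141093 q5420, e3 q6278 L141102 q5421, e3 q6279 L141114 q5423, e3 q6280 L141119 q5424, e3 q6281 L141130 q5425, e3 q6282 L141139 q5426, e3 q6283 L141152 q5427, e3 q6284 L141162 q5428, e3 q6285 L141172 q5429, e3 q6286 L141184 q5430, e3 q6287 L141191 q5431, e3 q6288 L141199 q5432, e3 q6289 L141207 q5433, e3 q6290 L141217 q5434, e3 q6291 L141226 q5435, e3 q6292 L141238 q5436, e3 q6293 L141246 q5437, e3 q6294 L141255 q5438, e3 q6295 L141265 q5439, e3 q6296 L141274 q5311, e3 q6297 L141282 q5312, e3 q6298 L141293 q5313, e3 q6299 L141304 q5314, e3 q6300 L150515 q7302, e3 q6301 L141319 q5316, e3 q6302 L141331 q5317, e3 q6303 L141338 q5318, e3 q6304 L141346 q5319, e3 q6305 L141356 q5320, e3 q6306 L141362 q5321, e3 q6307 L141367 q5322, e3 q6308 L141379 q5772, e3 q6309 L141383 q5323, e3 q6310 L141394 q5324, e3 q6311 L141404 q5325, e3 q6312 L141412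 q5326, e3 q6313 L141422 q5327, e3 q6314 (flp_a L141426) q5291, e3 q6315 (flp_a L150654) q7317, e3 q6316 (flp_a L150663) q7318, e3 q6317 L141447 q5331, e3 q6318 L141454 q5332, e3 q6319 L141463 q5333, e3 q6320 L141469 q5334, e3 q6321 L141475 q5335, e3 q6322 L141483 q5336, e3 q6323 L141489 q5337, e3 q6324 L141499 q5338, e3 q6325 L141509 q5339, e3 q6326 L141518 q5340, e3 q6327 L141529 q5341, e3 q6328 L141541 q5342, e3 q6329 L141551 q5343, e3 q6330 L141559 q5344, e3 q6331 L141567 q5784, e3 q6332 L141576 q5345, e3 q6333 L141586 q5309, e3 q6334 (flp_a L150792) q7333, e3 q6335 L141603 q5348, trivial⟩ (by decide +kernel)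

theorem ce_a_99 : ∀ r, r < 64 → sm ga (Qf (6336 + r)) = Qf (tab Gen.a (6336 + r)) :=
  edges_tab (sm ga) Qf (tab Gen.a) 6336 [(6336, 7298), (6337, 7300), (6338, 7301), (6339, 5315), (6340, 7338), (6341, 7305), (6342, 7306), (6343, 7307), (6344, 7308), (6345, 7309), (6346, 7310), (6347, 7313), (6348, 7314), (6349, 7315), (6350, 7316), (6351, 5329), (6352, 5330), (6353, 7347), (6354, 7348), (6355, 7322), (6356, 7323), (6357, 7324), (6358, 7325), (6359, 7326), (6360, 7327), (6361, 7328), (6362, 7329), (6363, 7330), (6364, 7332), (6365, 5347), (6366, 7357), (6367, 7335), (6368, 7203), (6369, 7204), (6370, 7205), (6371, 7206), (6372, 7207), (6373, 7208), (6374, 7256), (6375, 7210), (6376, 7211), (6377, 7098), (6378, 7212), (6379, 7213), (6380, 5639), (6381, 7214), (6382, 7183), (6383, 7215), (6384, 5656), (6385, 7193), (6386, 7216), (6387, 6468), (6388, 6469), (6389, 7188), (6390, 7217), (6391, 6472), (6392, 6473), (6393, 7195), (6394, 7218), (6395, 6476), (6396, 7246), (6397, 5387), (6398,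 5388), (6399, 5389)]
    ⟨e3 q6336 (flp_a L150475) q7298, e3 q6337 (flp_a L150494) q7300, e3 q6338 (flp_a L150505) q7301, e3 q6339 (flp_a L141637) q5315, e3 q6340 (flp_a L150837) q7338, e3 q6341 (flp_a L150541) q7305, e3 q6342 (flp_a L150553) q7306, e3 q6343 (flp_a L150561) q7307, e3 q6344 (flp_a L150569) q7308, e3 q6345 (flp_a L150581) q7309, e3 q6346 (flp_a L150588) q7310, e3 q6347 (flp_a L150615) q7313, e3 q6348 (flp_a L150626) q7314, e3 q6349 (flp_a L150634) q7315, e3 q6350 (flp_a L150642) q7316, e3 q6351 L141745 q5329, e3 q6352 L141754 q5330, e3 q6353 (flp_a L150919) q7347, e3 q6354 (flp_a L150930) q7348, e3 q6355 (flp_a L150689) q7322, e3 q6356 (flp_a L150698) q7323, e3 q6357 (flp_a L150706) q7324, e3 q6358 (flp_a L150712) q7325, e3 q6359 (flp_a L150720) q7326, e3 q6360 (flp_a L150726) q7327, e3 q6361 (flp_a L150740) q7328, e3 q6362 (flp_a L150752) q7329, e3 q6363 (flp_a L150765) q7330, e3 q6364 (flp_a L150785) q7332, e3 q6365 L141870 q5347, e3 q6366 (flp_a L151003) q7357, e3 q6367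 (flp_a L150809) q7335, e3 q6368 (flp_a L149550) q7203, e3 q6369 (flp_a L149563) q7204, e3 q6370 (flp_a L149578) q7205, e3 q6371 (flp_a L149590) q7206, e3 q6372 (flp_a L149604) q7207, e3 q6373 (flp_a L149616) q7208, e3 q6374 (flp_a L150092) q7256, e3 q6375 (flp_a L149636) q7210, e3 q6376 (flp_a L149646) q7211, e3 q6377 (flp_a L148416) q7098, e3 q6378 (flp_a L149656) q7212, e3 q6379 (flp_a L149668) q7213, e3 q6380 L141983 q5639, e3 q6381 (flp_a L149678) q7214, e3 q6382 (flp_a L149302) q7183, e3 q6383 (flp_a L149690) q7215, e3 q6384 L142018 q5656, e3 q6385 (flp_a L149411) q7193, e3 q6386 (flp_a L149704) q7216, e3 q6387 (flp_a L142704) q6468, e3 q6388 (flp_a L142715) q6469, e3 q6389 (flp_a L149359) q7188, e3 q6390 (flp_a L149712) q7217, e3 q6391 (flp_a L142745) q6472, e3 q6392 (flp_a L142760) q6473, e3 q6393 (flp_a L149437) q7195, e3 q6394 (flp_a L149720) q7218, e3 q6395 (flp_a L142790) q6476, e3 q6396 (flp_a L149996) q7246, e3 q6397 L142147 q5387, e3 q6398 L142157 q5388, e3 q6399 L142167 q5389,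 trivial⟩ (by decide +kernel)

theorem ce_a_100 : ∀ r, r < 64 → sm ga (Qf (6400 + r)) = Qf (tab Gen.a (6400 + r)) :=
  edges_tab (sm ga) Qf (tab Gen.a) 6400 [(6400, 7257), (6401, 7258), (6402, 5390), (6403, 5391), (6404, 5392), (6405, 5393), (6406, 5394), (6407, 5395), (6408, 5396), (6409, 5397), (6410, 7388), (6411, 7392), (6412, 7393), (6413, 7394), (6414, 5646), (6415, 7240), (6416, 7241), (6417, 7242), (6418, 7243), (6419, 7244), (6420, 7245), (6421, 5650), (6422, 7247), (6423, 7248), (6424, 5679), (6425, 7249), (6426, 7412), (6427, 7251), (6428, 7252), (6429, 7253), (6430, 7254), (6431, 7255), (6432, 7260), (6433, 7261), (6434, 7262), (6435, 7263), (6436, 7264), (6437, 5412), (6438, 7429), (6439, 7430), (6440, 7268), (6441, 7269), (6442, 7270), (6443, 7271), (6444, 7272), (6445, 7273), (6446, 7274), (6447, 7275), (6448, 7276), (6449, 7277), (6450, 5661), (6451, 7278), (6452, 7279), (6453, 5663), (6454, 7280), (6455, 7281), (6456, 7282), (6457, 7283), (6458, 7284), (6459, 7285), (6460,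 7286), (6461, 7287), (6462, 7288), (6463, 7289)]
    ⟨e3 q6400 (flp_a L150100) q7257, e3 q6401 (flp_a L150107) q7258, e3 q6402 L142188 q5390, e3 q6403 L142197 q5391, e3 q6404 L142206 q5392, e3 q6405 L142214 q5393, e3 q6406 L142224 q5394, e3 q6407 L142230 q5395, e3 q6408 L142240 q5396, e3 q6409 L142250 q5397, e3 q6410 (flp_a L151266) q7388, e3 q6411 (flp_a L151296) q7392, e3 q6412 (flp_a L151307) q7393, e3 q6413 (flp_a L151315) q7394, e3 q6414 L142293 q5646, e3 q6415 (flp_a L149945) q7240, e3 q6416 (flp_a L149956) q7241, e3 q6417 (flp_a L149963) q7242, e3 q6418 (flp_a L149976) q7243, e3 q6419 (flp_a L149982) q7244, e3 q6420 (flp_a L149989) q7245, e3 q6421 L142345 q5650, e3 q6422 (flp_a L150006) q7247, e3 q6423 (flp_a L150018) q7248, e3 q6424 L142369 q5679, e3 q6425 (flp_a L150028) q7249, e3 q6426 L151448 q7412, e3 q6427 (flp_a L150046) q7251, e3 q6428 (flp_a L150056) q7252, e3 q6429 (flp_a L150062) q7253, e3 q6430 (flp_a L150072) q7254, e3 q6431 (flp_a L150084) q7255, e3 q6432 (flp_a L150125)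 q7260, e3 q6433 (flp_a L150135) q7261, e3 q6434 (flp_a L150143) q7262, e3 q6435 (flp_a L150153) q7263, e3 q6436 (flp_a L150165) q7264, e3 q6437 (flp_a L142465) q5412, e3 q6438 (flp_a L151578) q7429, e3 q6439 (flp_a L151586) q7430, e3 q6440 (flp_a L150195) q7268, e3 q6441 (flp_a L150201) q7269, e3 q6442 (flp_a L150207) q7270, e3 q6443 (flp_a L150215) q7271, e3 q6444 (flp_a L150221) q7272, e3 q6445 (flp_a L150229) q7273, e3 q6446 (flp_a L150239) q7274, e3 q6447 (flp_a L150247) q7275, e3 q6448 (flp_a L150254) q7276, e3 q6449 (flp_a L150264) q7277, e3 q6450 L142556 q5661, e3 q6451 (flp_a L150277) q7278, e3 q6452 (flp_a L150288) q7279, e3 q6453 L142585 q5663, e3 q6454 (flp_a L150299) q7280, e3 q6455 (flp_a L150306) q7281, e3 q6456 (flp_a L150313) q7282, e3 q6457 (flp_a L150320) q7283, e3 q6458 (flp_a L150331) q7284, e3 q6459 (flp_a L150342) q7285, e3 q6460 (flp_a L150355) q7286, e3 q6461 (flp_a L150368) q7287, e3 q6462 (flp_a L150378) q7288, e3 q6463 (flp_a L150390) q7289, trivial⟩ (by decide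 +kernel)

theorem ce_a_101 : ∀ r, r < 64 → sm ga (Qf (6464 + r)) = Qf (tab Gen.a (6464 + r)) :=
  edges_tab (sm ga) Qf (tab Gen.a) 6464 [(6464, 7290), (6465, 7291), (6466, 7292), (6467, 7293), (6468, 6387), (6469, 6388), (6470, 7294), (6471, 7295), (6472, 6391), (6473, 6392), (6474, 7296), (6475, 7297), (6476, 6395), (6477, 5472), (6478, 5473), (6479, 5444), (6480, 7474), (6481, 7475), (6482, 5477), (6483, 5478), (6484, 5479), (6485, 5480), (6486, 5481), (6487, 5482), (6488, 5483), (6489, 5484), (6490, 5485), (6491, 5454), (6492, 5455), (6493, 7485), (6494, 7486), (6495, 7487), (6496, 5491), (6497, 5492), (6498, 5493), (6499, 5494), (6500, 5495), (6501, 5496), (6502, 5497), (6503, 5498), (6504, 5499), (6505, 5500), (6506, 5501), (6507, 6200), (6508, 5475), (6509, 5476), (6510, 7499), (6511, 7500), (6512, 7479), (6513, 7480), (6514, 7481), (6515, 7482), (6516, 7483), (6517, 7484), (6518, 5488), (6519, 5489), (6520, 5490), (6521, 7506), (6522, 7507), (6523, 7491), (6524, 7492), (6525, 7493),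 (6526, 7494), (6527, 7495)]
    ⟨e3 q6464 (flp_a L150402) q7290, e3 q6465 (flp_a L150407) q7291, e3 q6466 (flp_a L150415) q7292, e3 q6467 (flp_a L150424) q7293, e3 q6468 L142704 q6387, e3 q6469 L142715 q6388, e3 q6470 (flp_a L150433) q7294, e3 q6471 (flp_a L150443) q7295, e3 q6472 L142745 q6391, e3 q6473 L142760 q6392, e3 q6474 (flp_a L150454) q7296, e3 q6475 (flp_a L150465) q7297, e3 q6476 L142790 q6395, e3 q6477 L142803 q5472, e3 q6478 L142813 q5473, e3 q6479 (flp_a L142821) q5444, e3 q6480 (flp_a L151955) q7474, e3 q6481 (flp_a L151966) q7475, e3 q6482 L142850 q5477, e3 q6483 L142859 q5478, e3 q6484 L142870 q5479, e3 q6485 L142880 q5480, e3 q6486 L142888 q5481, e3 q6487 L142896 q5482, e3 q6488 L142904 q5483, e3 q6489 L142914 q5484, e3 q6490 L142924 q5485, e3 q6491 L142934 q5454, e3 q6492 L142944 q5455, e3 q6493 (flp_a L152057) q7485, e3 q6494 (flp_a L152065) q7486, e3 q6495 (flp_a L152077) q7487, e3 q6496 L142976 q5491, e3 q6497 L142986 q5492, e3 q6498 L142996 q5493, e3 q6499 L143006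 q5494, e3 q6500 L143014 q5495, e3 q6501 L143020 q5496, e3 q6502 L143026 q5497, e3 q6503 L143037 q5498, e3 q6504 L143048 q5499, e3 q6505 L143060 q5500, e3 q6506 L143068 q5501, e3 q6507 L143085 q6200, e3 q6508 L143091 q5475, e3 q6509 L143100 q5476, e3 q6510 (flp_a L152176) q7499, e3 q6511 (flp_a L152185) q7500, e3 q6512 (flp_a L152000) q7479, e3 q6513 (flp_a L152009) q7480, e3 q6514 (flp_a L152021) q7481, e3 q6515 (flp_a L152029) q7482, e3 q6516 (flp_a L152037) q7483, e3 q6517 (flp_a L152049) q7484, e3 q6518 L143170 q5488, e3 q6519 L143176 q5489, e3 q6520 L143186 q5490, e3 q6521 (flp_a L152232) q7506, e3 q6522 (flp_a L152240) q7507, e3 q6523 (flp_a L152109) q7491, e3 q6524 (flp_a L152121) q7492, e3 q6525 (flp_a L152129) q7493, e3 q6526 (flp_a L152137) q7494, e3 q6527 (flp_a L152143) q7495, trivial⟩ (by decide +kernel)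

theorem ce_a_102 : ∀ r, r < 64 → sm ga (Qf (6528 + r)) = Qf (tab Gen.a (6528 + r)) :=
  edges_tab (sm ga) Qf (tab Gen.a) 6528 [(6528, 7496), (6529, 7497), (6530, 6530), (6531, 6531), (6532, 6532), (6533, 6533), (6534, 6534), (6535, 6535), (6536, 6536), (6537, 6537), (6538, 6538), (6539, 7520), (6540, 6540), (6541, 6541), (6542, 6542), (6543, 6543), (6544, 6544), (6545, 5516), (6546, 7529), (6547, 5520), (6548, 5523), (6549, 5524), (6550, 7530), (6551, 7531), (6552, 7532), (6553, 7533), (6554, 6554), (6555, 6555), (6556, 6556), (6557, 6557), (6558, 6558), (6559, 6559), (6560, 6560), (6561, 6561), (6562, 6562), (6563, 6563), (6564, 6564), (6565, 6565), (6566, 6566), (6567, 6567), (6568, 6568), (6569, 6569), (6570, 6570), (6571, 6571), (6572, 6572), (6573, 6573), (6574, 6574), (6575, 6575), (6576, 6576), (6577, 6577), (6578, 6578), (6579, 6579), (6580, 6580), (6581, 6581), (6582, 6582), (6583, 6583), (6584, 6584), (6585, 6585), (6586, 6586), (6587, 6587), (6588, 6588), (6589, 6589), (6590,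 6590), (6591, 6591)]
    ⟨e3 q6528 (flp_a L152151) q7496, e3 q6529 (flp_a L152157) q7497, e3 q6530 L143257 q6530, e3 q6531 L143264 q6531, e3 q6532 L143275 q6532, e3 q6533 L143284 q6533, e3 q6534 L143291 q6534, e3 q6535 L143298 q6535, e3 q6536 L143305 q6536, e3 q6537 L143316 q6537, e3 q6538 L143325 q6538, e3 q6539 L152343 q7520, e3 q6540 L143342 q6540, e3 q6541 L143352 q6541, e3 q6542 L143361 q6542, e3 q6543 L143366 q6543, e3 q6544 L143373 q6544, e3 q6545 (flp_a L143374) q5516, e3 q6546 (flp_a L152417) q7529, e3 q6547 L143395 q5520, e3 q6548 L143404 q5523, e3 q6549 L143414 q5524, e3 q6550 (flp_a L152427) q7530, e3 q6551 (flp_a L152436) q7531, e3 q6552 (flp_a L152445) q7532, e3 q6553 (flp_a L152456) q7533, e3 q6554 L143462 q6554, e3 q6555 L143469 q6555, e3 q6556 L143477 q6556, e3 q6557 L143486 q6557, e3 q6558 L143495 q6558, e3 q6559 L143503 q6559, e3 q6560 L143513 q6560, e3 q6561 L143521 q6561, e3 q6562 L143533 q6562, e3 q6563 L143542 q6563, e3 q6564 L143553 q6564, e3 q6565 L143560 q6565,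 e3 q6566 L143571 q6566, e3 q6567 L143582 q6567, e3 q6568 L143592 q6568, e3 q6569 L143600 q6569, e3 q6570 L143611 q6570, e3 q6571 L143622 q6571, e3 q6572 L143634 q6572, e3 q6573 L143644 q6573, e3 q6574 L143656 q6574, e3 q6575 L143661 q6575, e3 q6576 L143668 q6576, e3 q6577 L143679 q6577, e3 q6578 L143686 q6578, e3 q6579 L143691 q6579, e3 q6580 L143694 q6580, e3 q6581 L143703 q6581, e3 q6582 L143714 q6582, e3 q6583 L143719 q6583, e3 q6584 L143725 q6584, e3 q6585 L143736 q6585, e3 q6586 L143745 q6586, e3 q6587 L143751 q6587, e3 q6588 L143757 q6588, e3 q6589 L143766 q6589, e3 q6590 L143774 q6590, e3 q6591 L143780 q6591, trivial⟩ (by decide +kernel)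

theorem ce_a_103 : ∀ r, r < 64 → sm ga (Qf (6592 + r)) = Qf (tab Gen.a (6592 + r)) :=
  edges_tab (sm ga) Qf (tab Gen.a) 6592 [(6592, 6592), (6593, 6593), (6594, 6594), (6595, 5564), (6596, 5565), (6597, 5566), (6598, 7583), (6599, 7584), (6600, 7585), (6601, 5586), (6602, 5587), (6603, 5588), (6604, 5589), (6605, 5590), (6606, 5591), (6607, 5592), (6608, 5593), (6609, 5594), (6610, 7076), (6611, 5583), (6612, 5584), (6613, 5585), (6614, 7594), (6615, 7595), (6616, 7596), (6617, 7589), (6618, 7590), (6619, 7591), (6620, 5642), (6621, 5655), (6622, 5657), (6623, 5658), (6624, 5659), (6625, 5660), (6626, 5662), (6627, 5664), (6628, 5665), (6629, 5666), (6630, 5667), (6631, 5668), (6632, 5669), (6633, 5670), (6634, 5671), (6635, 5672), (6636, 5673), (6637, 5674), (6638, 5675), (6639, 5676), (6640, 5677), (6641, 5678), (6642, 5680), (6643, 5681), (6644, 5682), (6645, 5683), (6646, 5686), (6647, 5687), (6648, 5690), (6649, 5691), (6650, 5636), (6651, 5637), (6652, 6058), (6653, 6059), (6654,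 6036), (6655, 6037)]
    ⟨e3 q6592 L143791 q6592, e3 q6593 L143805 q6593, e3 q6594 L143815 q6594, e3 q6595 L143826 q5564, e3 q6596 L143834 q5565, e3 q6597 L143844 q5566, e3 q6598 (flp_a L152933) q7583, e3 q6599 (flp_a L152943) q7584, e3 q6600 (flp_a L152952) q7585, e3 q6601 L143878 q5586, e3 q6602 L143889 q5587, e3 q6603 L143899 q5588, e3 q6604 L143906 q5589, e3 q6605 L143916 q5590, e3 q6606 L143925 q5591, e3 q6607 L143935 q5592, e3 q6608 L143946 q5593, e3 q6609 L143956 q5594, e3 q6610 (flp_a L148225) q7076, e3 q6611 L143972 q5583, e3 q6612 L143981 q5584, e3 q6613 L143989 q5585, e3 q6614 (flp_a L153032) q7594, e3 q6615 (flp_a L153042) q7595, e3 q6616 (flp_a L153051) q7596, e3 q6617 (flp_a L152987) q7589, e3 q6618 (flp_a L152999) q7590, e3 q6619 (flp_a L153006) q7591, e3 q6620 L144047 q5642, e3 q6621 L144054 q5655, e3 q6622 L144066 q5657, e3 q6623 L144078 q5658, e3 q6624 L144084 q5659, e3 q6625 L144092 q5660, e3 q6626 L144104 q5662, e3 q6627 L144113 q5664, e3 q6628 L144126 q5665, e3 q6629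 L144137 q5666, e3 q6630 L144150 q5667, e3 q6631 L144162 q5668, e3 q6632 L144172 q5669, e3 q6633 L144185 q5670, e3 q6634 L144192 q5671, e3 q6635 L144198 q5672, e3 q6636 L144210 q5673, e3 q6637 L144219 q5674, e3 q6638 L144230 q5675, e3 q6639 L144241 q5676, e3 q6640 L144253 q5677, e3 q6641 L144267 q5678, e3 q6642 L144277 q5680, e3 q6643 L144284 q5681, e3 q6644 L144295 q5682, e3 q6645 L144307 q5683, e3 q6646 L144317 q5686, e3 q6647 L144327 q5687, e3 q6648 L144336 q5690, e3 q6649 L144345 q5691, e3 q6650 L144354 q5636, e3 q6651 L144365 q5637, e3 q6652 L144376 q6058, e3 q6653 L144387 q6059, e3 q6654 L144400 q6036, e3 q6655 L144413 q6037, trivial⟩ (by decide +kernel)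

theorem ce_a_104 : ∀ r, r < 64 → sm ga (Qf (6656 + r)) = Qf (tab Gen.a (6656 + r)) :=
  edges_tab (sm ga) Qf (tab Gen.a) 6656 [(6656, 7600), (6657, 7192), (6658, 6697), (6659, 6698), (6660, 7033), (6661, 6700), (6662, 7040), (6663, 6701), (6664, 7601), (6665, 7378), (6666, 7602), (6667, 7451), (6668, 7603), (6669, 7604), (6670, 7605), (6671, 7606), (6672, 7607), (6673, 7450), (6674, 7608), (6675, 7453), (6676, 7609), (6677, 7610), (6678, 7611), (6679, 7612), (6680, 7613), (6681, 7614), (6682, 7615), (6683, 7616), (6684, 7617), (6685, 7618), (6686, 7619), (6687, 7620), (6688, 7621), (6689, 7622), (6690, 7623), (6691, 7624), (6692, 7625), (6693, 7410), (6694, 7408), (6695, 7626), (6696, 7627), (6697, 6658), (6698, 6659), (6699, 7628), (6700, 6661), (6701, 6663), (6702, 5699), (6703, 7058), (6704, 6704), (6705, 6705), (6706, 6706), (6707, 6707), (6708, 6708), (6709, 6709), (6710, 6710), (6711, 6711), (6712, 6712), (6713, 6713), (6714, 6714), (6715, 6715), (6716, 6716), (6717, 6717), (6718,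 6718), (6719, 6719)]
    ⟨e3 q6656 (flp_a L153084) q7600, e3 q6657 (flp_a L149397) q7192, e3 q6658 (flp_a L144732) q6697, e3 q6659 (flp_a L144747) q6698, e3 q6660 (flp_a L147871) q7033, e3 q6661 (flp_a L144769) q6700, e3 q6662 (flp_a L147930) q7040, e3 q6663 (flp_a L144783) q6701, e3 q6664 (flp_a L153100) q7601, e3 q6665 (flp_a L151166) q7378, e3 q6666 (flp_a L153110) q7602, e3 q6667 (flp_a L151740) q7451, e3 q6668 (flp_a L153121) q7603, e3 q6669 (flp_a L153128) q7604, e3 q6670 (flp_a L153135) q7605, e3 q6671 (flp_a L153148) q7606, e3 q6672 (flp_a L153156) q7607, e3 q6673 (flp_a L151726) q7450, e3 q6674 (flp_a L153167) q7608, e3 q6675 (flp_a L151762) q7453, e3 q6676 (flp_a L153178) q7609, e3 q6677 (flp_a L153190) q7610, e3 q6678 (flp_a L153201) q7611, e3 q6679 (flp_a L153214) q7612, e3 q6680 (flp_a L153225) q7613, e3 q6681 (flp_a L153235) q7614, e3 q6682 (flp_a L153247) q7615, e3 q6683 (flp_a L153259) q7616, e3 q6684 (flp_a L153270) q7617, e3 q6685 (flp_a L153281) q7618, e3 q6686 (flp_a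 L153292) q7619, e3 q6687 (flp_a L153298) q7620, e3 q6688 (flp_a L153308) q7621, e3 q6689 (flp_a L153321) q7622, e3 q6690 (flp_a L153332) q7623, e3 q6691 (flp_a L153339) q7624, e3 q6692 (flp_a L153351) q7625, e3 q6693 (flp_a L151432) q7410, e3 q6694 (flp_a L151412) q7408, e3 q6695 (flp_a L153363) q7626, e3 q6696 (flp_a L153376) q7627, e3 q6697 L144732 q6658, e3 q6698 L144747 q6659, e3 q6699 (flp_a L153391) q7628, e3 q6700 L144769 q6661, e3 q6701 L144783 q6663, e3 q6702 L144798 q5699, e3 q6703 (flp_a L148087) q7058, e3 q6704 L144810 q6704, e3 q6705 L144820 q6705, e3 q6706 L144833 q6706, e3 q6707 L144847 q6707, e3 q6708 L144856 q6708, e3 q6709 L144863 q6709, e3 q6710 L144873 q6710, e3 q6711 L144882 q6711, e3 q6712 L144888 q6712, e3 q6713 L144895 q6713, e3 q6714 L144902 q6714, e3 q6715 L144912 q6715, e3 q6716 L144924 q6716, e3 q6717 L144934 q6717, e3 q6718 L144942 q6718, e3 q6719 L144949 q6719, trivial⟩ (by decide +kernel)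

theorem ce_a_105 : ∀ r, r < 64 → sm ga (Qf (6720 + r)) = Qf (tab Gen.a (6720 + r)) :=
  edges_tab (sm ga) Qf (tab Gen.a) 6720 [(6720, 6720), (6721, 6721), (6722, 6722), (6723, 6723), (6724, 6724), (6725, 6725), (6726, 6726), (6727, 6727), (6728, 6728), (6729, 6729), (6730, 6730), (6731, 6731), (6732, 6732), (6733, 6733), (6734, 6734), (6735, 6735), (6736, 6736), (6737, 7072), (6738, 6738), (6739, 6739), (6740, 6740), (6741, 7075), (6742, 5800), (6743, 5801), (6744, 5802), (6745, 5803), (6746, 5804), (6747, 7259), (6748, 5805), (6749, 5806), (6750, 5807), (6751, 5808), (6752, 5809), (6753, 5810), (6754, 5811), (6755, 5812), (6756, 5813), (6757, 5814), (6758, 5815), (6759, 5816), (6760, 5817), (6761, 5818), (6762, 5819), (6763, 5820), (6764, 5821), (6765, 5822), (6766, 5823), (6767, 5824), (6768, 5825), (6769, 5826), (6770, 7299), (6771, 5786), (6772, 5787), (6773, 5788), (6774, 7311), (6775, 7312), (6776, 5789), (6777, 5790), (6778, 5791), (6779, 5792), (6780, 5793), (6781, 5794), (6782,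 5795), (6783, 5796)]
    ⟨e3 q6720 L144956 q6720, e3 q6721 L144966 q6721, e3 q6722 L144974 q6722, e3 q6723 L144979 q6723, e3 q6724 L144988 q6724, e3 q6725 L144998 q6725, e3 q6726 L145006 q6726, e3 q6727 L145013 q6727, e3 q6728 L145024 q6728, e3 q6729 L145034 q6729, e3 q6730 L145044 q6730, e3 q6731 L145050 q6731, e3 q6732 L145057 q6732, e3 q6733 L145062 q6733, e3 q6734 L145071 q6734, e3 q6735 L145080 q6735, e3 q6736 L145087 q6736, e3 q6737 (flp_a L148188) q7072, e3 q6738 L145102 q6738, e3 q6739 L145114 q6739, e3 q6740 L145131 q6740, e3 q6741 (flp_a L148215) q7075, e3 q6742 L145149 q5800, e3 q6743 L145156 q5801, e3 q6744 L145164 q5802, e3 q6745 L145170 q5803, e3 q6746 L145179 q5804, e3 q6747 (flp_a L150119) q7259, e3 q6748 L145193 q5805, e3 q6749 L145199 q5806, e3 q6750 L145207 q5807, e3 q6751 L145215 q5808, e3 q6752 L145225 q5809, e3 q6753 L145231 q5810, e3 q6754 L145238 q5811, e3 q6755 L145248 q5812, e3 q6756 L145257 q5813, e3 q6757 L145267 q5814, e3 q6758 L145276 q5815, e3 q6759 L145286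 q5816, e3 q6760 L145295 q5817, e3 q6761 L145302 q5818, e3 q6762 L145315 q5819, e3 q6763 L145329 q5820, e3 q6764 L145338 q5821, e3 q6765 L145347 q5822, e3 q6766 L145360 q5823, e3 q6767 L145371 q5824, e3 q6768 L145380 q5825, e3 q6769 L145389 q5826, e3 q6770 (flp_a L150490) q7299, e3 q6771 L145406 q5786, e3 q6772 L145413 q5787, e3 q6773 L145420 q5788, e3 q6774 (flp_a L150594) q7311, e3 q6775 (flp_a L150605) q7312, e3 q6776 L145437 q5789, e3 q6777 L145446 q5790, e3 q6778 L145452 q5791, e3 q6779 L145460 q5792, e3 q6780 L145466 q5793, e3 q6781 L145475 q5794, e3 q6782 L145485 q5795, e3 q6783 L145490 q5796, trivial⟩ (by decide +kernel)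

theorem ce_a_106 : ∀ r, r < 64 → sm ga (Qf (6784 + r)) = Qf (tab Gen.a (6784 + r)) :=
  edges_tab (sm ga) Qf (tab Gen.a) 6784 [(6784, 5797), (6785, 5798), (6786, 7331), (6787, 5799), (6788, 7731), (6789, 7732), (6790, 7735), (6791, 7736), (6792, 7737), (6793, 7738), (6794, 7739), (6795, 7740), (6796, 7741), (6797, 7743), (6798, 7696), (6799, 7697), (6800, 7698), (6801, 7700), (6802, 7701), (6803, 7114), (6804, 7702), (6805, 7703), (6806, 7706), (6807, 7707), (6808, 7708), (6809, 7709), (6810, 7103), (6811, 7710), (6812, 7711), (6813, 7712), (6814, 7713), (6815, 7714), (6816, 7715), (6817, 7716), (6818, 7717), (6819, 7718), (6820, 7719), (6821, 7720), (6822, 7721), (6823, 7722), (6824, 7723), (6825, 7724), (6826, 7725), (6827, 6071), (6828, 6072), (6829, 7726), (6830, 7727), (6831, 6075), (6832, 6076), (6833, 7728), (6834, 7729), (6835, 6079), (6836, 5839), (6837, 5840), (6838, 5841), (6839, 5842), (6840, 5843), (6841, 5844), (6842, 5845), (6843, 5846), (6844, 5847), (6845, 5848), (6846,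 5849), (6847, 6022)]
    ⟨e3 q6784 L145499 q5797, e3 q6785 L145506 q5798, e3 q6786 (flp_a L150775) q7331, e3 q6787 L145525 q5799, e3 q6788 (flp_a L154305) q7731, e3 q6789 (flp_a L154313) q7732, e3 q6790 (flp_a L154332) q7735, e3 q6791 (flp_a L154340) q7736, e3 q6792 (flp_a L154346) q7737, e3 q6793 (flp_a L154352) q7738, e3 q6794 (flp_a L154358) q7739, e3 q6795 (flp_a L154368) q7740, e3 q6796 (flp_a L154375) q7741, e3 q6797 (flp_a L154386) q7743, e3 q6798 (flp_a L153998) q7696, e3 q6799 (flp_a L154006) q7697, e3 q6800 (flp_a L154014) q7698, e3 q6801 (flp_a L154027) q7700, e3 q6802 (flp_a L154035) q7701, e3 q6803 (flp_a L148596) q7114, e3 q6804 (flp_a L154041) q7702, e3 q6805 (flp_a L154050) q7703, e3 q6806 (flp_a L154072) q7706, e3 q6807 (flp_a L154080) q7707, e3 q6808 (flp_a L154086) q7708, e3 q6809 (flp_a L154094) q7709, e3 q6810 (flp_a L148471) q7103, e3 q6811 (flp_a L154100) q7710, e3 q6812 (flp_a L154110) q7711, e3 q6813 (flp_a L154118) q7712, e3 q6814 (flp_a L154125) q7713, e3 q6815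 (flp_a L154133) q7714, e3 q6816 (flp_a L154142) q7715, e3 q6817 (flp_a L154152) q7716, e3 q6818 (flp_a L154163) q7717, e3 q6819 (flp_a L154173) q7718, e3 q6820 (flp_a L154187) q7719, e3 q6821 (flp_a L154197) q7720, e3 q6822 (flp_a L154208) q7721, e3 q6823 (flp_a L154215) q7722, e3 q6824 (flp_a L154222) q7723, e3 q6825 (flp_a L154230) q7724, e3 q6826 (flp_a L154242) q7725, e3 q6827 L145788 q6071, e3 q6828 L145802 q6072, e3 q6829 (flp_a L154255) q7726, e3 q6830 (flp_a L154265) q7727, e3 q6831 L145835 q6075, e3 q6832 L145849 q6076, e3 q6833 (flp_a L154277) q7728, e3 q6834 (flp_a L154287) q7729, e3 q6835 L145878 q6079, e3 q6836 L145892 q5839, e3 q6837 L145899 q5840, e3 q6838 L145907 q5841, e3 q6839 L145915 q5842, e3 q6840 L145921 q5843, e3 q6841 L145927 q5844, e3 q6842 L145938 q5845, e3 q6843 L145945 q5846, e3 q6844 L145952 q5847, e3 q6845 L145960 q5848, e3 q6846 L145969 q5849, e3 q6847 (flp_a L145984) q6022, trivial⟩ (by decide +kernel)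

theorem ce_a_107 : ∀ r, r < 64 → sm ga (Qf (6848 + r)) = Qf (tab Gen.a (6848 + r)) :=
  edges_tab (sm ga) Qf (tab Gen.a) 6848 [(6848, 7794), (6849, 7795), (6850, 7796), (6851, 7797), (6852, 7798), (6853, 7799), (6854, 7800), (6855, 7801), (6856, 7809), (6857, 5850), (6858, 6858), (6859, 6859), (6860, 6860), (6861, 6861), (6862, 6862), (6863, 6863), (6864, 6864), (6865, 6865), (6866, 6866), (6867, 6867), (6868, 6868), (6869, 6869), (6870, 6870), (6871, 6871), (6872, 6872), (6873, 6873), (6874, 6874), (6875, 6875), (6876, 6876), (6877, 6877), (6878, 6878), (6879, 6879), (6880, 6880), (6881, 6881), (6882, 6882), (6883, 6883), (6884, 6884), (6885, 6885), (6886, 6886), (6887, 5916), (6888, 5883), (6889, 5884), (6890, 5885), (6891, 7835), (6892, 5887), (6893, 5888), (6894, 6898), (6895, 5890), (6896, 5882), (6897, 5886), (6898, 6894), (6899, 5889), (6900, 6900), (6901, 6901), (6902, 6902), (6903, 6903), (6904, 6904), (6905, 6905), (6906, 5911), (6907, 5912), (6908, 5913), (6909, 5914), (6910,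 5915), (6911, 5917)]
    ⟨e3 q6848 (flp_a L154748) q7794, e3 q6849 (flp_a L154756) q7795, e3 q6850 (flp_a L154763) q7796, e3 q6851 (flp_a L154769) q7797, e3 q6852 (flp_a L154777) q7798, e3 q6853 (flp_a L154783) q7799, e3 q6854 (flp_a L154790) q7800, e3 q6855 (flp_a L154799) q7801, e3 q6856 L154853 q7809, e3 q6857 (flp_a L146033) q5850, e3 q6858 L146051 q6858, e3 q6859 L146061 q6859, e3 q6860 L146067 q6860, e3 q6861 L146072 q6861, e3 q6862 L146079 q6862, e3 q6863 L146084 q6863, e3 q6864 L146090 q6864, e3 q6865 L146097 q6865, e3 q6866 L146103 q6866, e3 q6867 L146108 q6867, e3 q6868 L146117 q6868, e3 q6869 L146127 q6869, e3 q6870 L146131 q6870, e3 q6871 L146138 q6871, e3 q6872 L146148 q6872, e3 q6873 L146156 q6873, e3 q6874 L146161 q6874, e3 q6875 L146169 q6875, e3 q6876 L146178 q6876, e3 q6877 L146185 q6877, e3 q6878 L146191 q6878, e3 q6879 L146204 q6879, e3 q6880 L146218 q6880, e3 q6881 L146227 q6881, e3 q6882 L146233 q6882, e3 q6883 L146246 q6883, e3 q6884 L146259 q6884, e3 q6885 L146269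 q6885, e3 q6886 L146276 q6886, e3 q6887 (flp_a L146292) q5916, e3 q6888 L146296 q5883, e3 q6889 L146303 q5884, e3 q6890 L146310 q5885, e3 q6891 L155061 q7835, e3 q6892 L146322 q5887, e3 q6893 L146331 q5888, e3 q6894 (flp_a L146389) q6898, e3 q6895 L146359 q5890, e3 q6896 (flp_a L146370) q5882, e3 q6897 (flp_a L146382) q5886, e3 q6898 L146389 q6894, e3 q6899 (flp_a L146399) q5889, e3 q6900 L146416 q6900, e3 q6901 L146428 q6901, e3 q6902 L146439 q6902, e3 q6903 L146448 q6903, e3 q6904 L146456 q6904, e3 q6905 L146466 q6905, e3 q6906 L146474 q5911, e3 q6907 L146487 q5912, e3 q6908 L146503 q5913, e3 q6909 L146518 q5914, e3 q6910 L146532 q5915, e3 q6911 L146547 q5917, trivial⟩ (by decide +kernel)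

theorem ce_a_108 : ∀ r, r < 64 → sm ga (Qf (6912 + r)) = Qf (tab Gen.a (6912 + r)) :=
  edges_tab (sm ga) Qf (tab Gen.a) 6912 [(6912, 5908), (6913, 7840), (6914, 5920), (6915, 5919), (6916, 7842), (6917, 5925), (6918, 7803), (6919, 5928), (6920, 6038), (6921, 6039), (6922, 6041), (6923, 6042), (6924, 6043), (6925, 6044), (6926, 6045), (6927, 6046), (6928, 6047), (6929, 6048), (6930, 6049), (6931, 6050), (6932, 6051), (6933, 7865), (6934, 6053), (6935, 6054), (6936, 6055), (6937, 6056), (6938, 6057), (6939, 6061), (6940, 6062), (6941, 6063), (6942, 6064), (6943, 6065), (6944, 6066), (6945, 6067), (6946, 6068), (6947, 6069), (6948, 6070), (6949, 6073), (6950, 6074), (6951, 6077), (6952, 6078), (6953, 5989), (6954, 5990), (6955, 5991), (6956, 5992), (6957, 5993), (6958, 7894), (6959, 5995), (6960, 5996), (6961, 5997), (6962, 5998), (6963, 5999), (6964, 6000), (6965, 6001), (6966, 6002), (6967, 7905), (6968, 6004), (6969, 6005), (6970, 6006), (6971, 5966), (6972, 7909), (6973, 7910), (6974,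 6010), (6975, 6011)]
    ⟨e3 q6912 (flp_a L146559) q5908, e3 q6913 (flp_a L155122) q7840, e3 q6914 L146584 q5920, e3 q6915 L146598 q5919, e3 q6916 (flp_a L155147) q7842, e3 q6917 L146625 q5925, e3 q6918 (flp_a L154822) q7803, e3 q6919 L146653 q5928, e3 q6920 L146663 q6038, e3 q6921 L146670 q6039, e3 q6922 L146682 q6041, e3 q6923 L146694 q6042, e3 q6924 L146704 q6043, e3 q6925 L146715 q6044, e3 q6926 L146723 q6045, e3 q6927 L146732 q6046, e3 q6928 L146742 q6047, e3 q6929 L146752 q6048, e3 q6930 L146765 q6049, e3 q6931 L146771 q6050, e3 q6932 L146783 q6051, e3 q6933 L155388 q7865, e3 q6934 L146799 q6053, e3 q6935 L146805 q6054, e3 q6936 L146813 q6055, e3 q6937 L146823 q6056, e3 q6938 L146833 q6057, e3 q6939 L146843 q6061, e3 q6940 L146855 q6062, e3 q6941 L146867 q6063, e3 q6942 L146871 q6064, e3 q6943 L146880 q6065, e3 q6944 L146888 q6066, e3 q6945 L146897 q6067, e3 q6946 L146908 q6068, e3 q6947 L146918 q6069, e3 q6948 L146927 q6070, e3 q6949 L146935 q6073, e3 q6950 L146943 q6074, e3 q6951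 L146951 q6077, e3 q6952 L146962 q6078, e3 q6953 L146971 q5989, e3 q6954 L146985 q5990, e3 q6955 L146998 q5991, e3 q6956 L147011 q5992, e3 q6957 L147024 q5993, e3 q6958 L155679 q7894, e3 q6959 L147039 q5995, e3 q6960 L147053 q5996, e3 q6961 L147062 q5997, e3 q6962 L147075 q5998, e3 q6963 L147082 q5999, e3 q6964 L147092 q6000, e3 q6965 L147106 q6001, e3 q6966 L147119 q6002, e3 q6967 L155809 q7905, e3 q6968 L147137 q6004, e3 q6969 L147149 q6005, e3 q6970 L147163 q6006, e3 q6971 (flp_a L147169) q5966, e3 q6972 (flp_a L155857) q7909, e3 q6973 (flp_a L155871) q7910, e3 q6974 L147195 q6010, e3 q6975 L147209 q6011, trivial⟩ (by decide +kernel)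

theorem ce_a_109 : ∀ r, r < 64 → sm ga (Qf (6976 + r)) = Qf (tab Gen.a (6976 + r)) :=
  edges_tab (sm ga) Qf (tab Gen.a) 6976 [(6976, 6012), (6977, 6013), (6978, 6014), (6979, 6015), (6980, 6016), (6981, 6017), (6982, 6018), (6983, 6019), (6984, 6020), (6985, 6021), (6986, 6236), (6987, 6023), (6988, 6024), (6989, 6025), (6990, 5983), (6991, 7925), (6992, 6028), (6993, 5987), (6994, 7928), (6995, 6031), (6996, 7889), (6997, 7891), (6998, 7892), (6999, 7893), (7000, 5994), (7001, 7934), (7002, 7897), (7003, 7898), (7004, 7899), (7005, 7900), (7006, 7902), (7007, 7903), (7008, 7904), (7009, 6003), (7010, 7942), (7011, 7907), (7012, 7908), (7013, 6008), (7014, 6009), (7015, 7946), (7016, 7947), (7017, 7914), (7018, 7915), (7019, 7916), (7020, 7917), (7021, 7918), (7022, 7919), (7023, 7920), (7024, 7921), (7025, 7922), (7026, 7923), (7027, 6027), (7028, 7927), (7029, 6030), (7030, 7957), (7031, 7930), (7032, 6034), (7033, 6660), (7034, 7631), (7035, 7375), (7036, 7632), (7037, 7843), (7038,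 7844), (7039, 7845)]
    ⟨e3 q6976 L147221 q6012, e3 q6977 L147229 q6013, e3 q6978 L147243 q6014, e3 q6979 L147253 q6015, e3 q6980 L147259 q6016, e3 q6981 L147272 q6017, e3 q6982 L147286 q6018, e3 q6983 L147299 q6019, e3 q6984 L147306 q6020, e3 q6985 L147318 q6021, e3 q6986 L147334 q6236, e3 q6987 L147338 q6023, e3 q6988 L147352 q6024, e3 q6989 L147369 q6025, e3 q6990 (flp_a L147382) q5983, e3 q6991 (flp_a L156041) q7925, e3 q6992 L147405 q6028, e3 q6993 L147418 q5987, e3 q6994 (flp_a L156079) q7928, e3 q6995 L147433 q6031, e3 q6996 (flp_a L155618) q7889, e3 q6997 (flp_a L155645) q7891, e3 q6998 (flp_a L155658) q7892, e3 q6999 (flp_a L155671) q7893, e3 q7000 (flp_a L147490) q5994, e3 q7001 (flp_a L156152) q7934, e3 q7002 (flp_a L155715) q7897, e3 q7003 (flp_a L155729) q7898, e3 q7004 (flp_a L155739) q7899, e3 q7005 (flp_a L155752) q7900, e3 q7006 (flp_a L155774) q7902, e3 q7007 (flp_a L155788) q7903, e3 q7008 (flp_a L155801) q7904, e3 q7009 (flp_a L147596) q6003, e3 q7010 (flp_a L156257)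 q7942, e3 q7011 (flp_a L155835) q7907, e3 q7012 (flp_a L155845) q7908, e3 q7013 L147646 q6008, e3 q7014 L147660 q6009, e3 q7015 (flp_a L156311) q7946, e3 q7016 (flp_a L156325) q7947, e3 q7017 (flp_a L155911) q7914, e3 q7018 (flp_a L155925) q7915, e3 q7019 (flp_a L155937) q7916, e3 q7020 (flp_a L155947) q7917, e3 q7021 (flp_a L155961) q7918, e3 q7022 (flp_a L155969) q7919, e3 q7023 (flp_a L155977) q7920, e3 q7024 (flp_a L155990) q7921, e3 q7025 (flp_a L156001) q7922, e3 q7026 (flp_a L156014) q7923, e3 q7027 L147802 q6027, e3 q7028 (flp_a L156066) q7927, e3 q7029 L147825 q6030, e3 q7030 (flp_a L156457) q7957, e3 q7031 (flp_a L156095) q7930, e3 q7032 L147858 q6034, e3 q7033 L147871 q6660, e3 q7034 (flp_a L153429) q7631, e3 q7035 (flp_a L151139) q7375, e3 q7036 (flp_a L153440) q7632, e3 q7037 (flp_a L155161) q7843, e3 q7038 (flp_a L155169) q7844, e3 q7039 (flp_a L155179) q7845, trivial⟩ (by decide +kernel)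

theorem ce_a_110 : ∀ r, r < 64 → sm ga (Qf (7040 + r)) = Qf (tab Gen.a (7040 + r)) :=
  edges_tab (sm ga) Qf (tab Gen.a) 7040 [(7040, 6662), (7041, 7846), (7042, 7847), (7043, 7848), (7044, 7849), (7045, 7850), (7046, 7976), (7047, 7852), (7048, 7853), (7049, 7854), (7050, 7855), (7051, 7856), (7052, 7857), (7053, 7858), (7054, 7859), (7055, 7990), (7056, 7861), (7057, 7862), (7058, 6703), (7059, 7863), (7060, 7864), (7061, 6052), (7062, 8000), (7063, 8001), (7064, 7868), (7065, 7869), (7066, 7870), (7067, 7871), (7068, 7872), (7069, 7873), (7070, 7874), (7071, 7359), (7072, 6737), (7073, 7629), (7074, 7630), (7075, 6741), (7076, 6610), (7077, 7875), (7078, 7876), (7079, 7877), (7080, 7878), (7081, 7879), (7082, 7880), (7083, 7881), (7084, 7635), (7085, 7882), (7086, 7883), (7087, 7884), (7088, 7885), (7089, 7886), (7090, 7787), (7091, 7788), (7092, 7887), (7093, 7790), (7094, 7888), (7095, 7792), (7096, 6121), (7097, 6122), (7098, 6377), (7099, 6123), (7100, 6124), (7101, 6125), (7102,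 6086), (7103, 6810)]
    ⟨e3 q7040 L147930 q6662, e3 q7041 (flp_a L155188) q7846, e3 q7042 (flp_a L155202) q7847, e3 q7043 (flp_a L155216) q7848, e3 q7044 (flp_a L155224) q7849, e3 q7045 (flp_a L155237) q7850, e3 q7046 L156636 q7976, e3 q7047 (flp_a L155255) q7852, e3 q7048 (flp_a L155263) q7853, e3 q7049 (flp_a L155271) q7854, e3 q7050 (flp_a L155284) q7855, e3 q7051 (flp_a L155293) q7856, e3 q7052 (flp_a L155305) q7857, e3 q7053 (flp_a L155313) q7858, e3 q7054 (flp_a L155326) q7859, e3 q7055 L156766 q7990, e3 q7056 (flp_a L155346) q7861, e3 q7057 (flp_a L155358) q7862, e3 q7058 L148087 q6703, e3 q7059 (flp_a L155366) q7863, e3 q7060 (flp_a L155380) q7864, e3 q7061 (flp_a L148115) q6052, e3 q7062 (flp_a L156874) q8000, e3 q7063 (flp_a L156884) q8001, e3 q7064 (flp_a L155414) q7868, e3 q7065 (flp_a L155420) q7869, e3 q7066 (flp_a L155428) q7870, e3 q7067 (flp_a L155436) q7871, e3 q7068 (flp_a L155444) q7872, e3 q7069 (flp_a L155458) q7873, e3 q7070 (flp_a L155470) q7874, e3 q7071 (flp_a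 L151018) q7359, e3 q7072 L148188 q6737, e3 q7073 (flp_a L153401) q7629, e3 q7074 (flp_a L153415) q7630, e3 q7075 L148215 q6741, e3 q7076 L148225 q6610, e3 q7077 (flp_a L155478) q7875, e3 q7078 (flp_a L155491) q7876, e3 q7079 (flp_a L155497) q7877, e3 q7080 (flp_a L155508) q7878, e3 q7081 (flp_a L155514) q7879, e3 q7082 (flp_a L155527) q7880, e3 q7083 (flp_a L155537) q7881, e3 q7084 (flp_a L153474) q7635, e3 q7085 (flp_a L155546) q7882, e3 q7086 (flp_a L155560) q7883, e3 q7087 (flp_a L155573) q7884, e3 q7088 (flp_a L155582) q7885, e3 q7089 (flp_a L155588) q7886, e3 q7090 (flp_a L154672) q7787, e3 q7091 (flp_a L154685) q7788, e3 q7092 (flp_a L155597) q7887, e3 q7093 (flp_a L154709) q7790, e3 q7094 (flp_a L155606) q7888, e3 q7095 (flp_a L154730) q7792, e3 q7096 L148377 q6121, e3 q7097 L148392 q6122, e3 q7098 L148416 q6377, e3 q7099 L148420 q6123, e3 q7100 L148434 q6124, e3 q7101 L148447 q6125, e3 q7102 (flp_a L148455) q6086, e3 q7103 L148471 q6810, trivial⟩ (by decide +kernel)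

theorem ce_a_111 : ∀ r, r < 64 → sm ga (Qf (7104 + r)) = Qf (tab Gen.a (7104 + r)) :=
  edges_tab (sm ga) Qf (tab Gen.a) 7104 [(7104, 8044), (7105, 6128), (7106, 6129), (7107, 6130), (7108, 6131), (7109, 6132), (7110, 6133), (7111, 6134), (7112, 6135), (7113, 6094), (7114, 6803), (7115, 8054), (7116, 6138), (7117, 6139), (7118, 6140), (7119, 6141), (7120, 6142), (7121, 6101), (7122, 6102), (7123, 8061), (7124, 8062), (7125, 8063), (7126, 6148), (7127, 6149), (7128, 6150), (7129, 6151), (7130, 6152), (7131, 6153), (7132, 6154), (7133, 6155), (7134, 6156), (7135, 6157), (7136, 6158), (7137, 6159), (7138, 6119), (7139, 8040), (7140, 8042), (7141, 8043), (7142, 6127), (7143, 8078), (7144, 8048), (7145, 8049), (7146, 8050), (7147, 8051), (7148, 8052), (7149, 8053), (7150, 6137), (7151, 8085), (7152, 8057), (7153, 8058), (7154, 8059), (7155, 8060), (7156, 6145), (7157, 6146), (7158, 6147), (7159, 8090), (7160, 8091), (7161, 8067), (7162, 8068), (7163, 8069), (7164, 8070), (7165, 8071), (7166,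 8072), (7167, 8073)]
    ⟨e3 q7104 (flp_a L157238) q8044, e3 q7105 L148491 q6128, e3 q7106 L148505 q6129, e3 q7107 L148517 q6130, e3 q7108 L148527 q6131, e3 q7109 L148540 q6132, e3 q7110 L148549 q6133, e3 q7111 L148557 q6134, e3 q7112 L148570 q6135, e3 q7113 (flp_a L148580) q6094, e3 q7114 L148596 q6803, e3 q7115 (flp_a L157358) q8054, e3 q7116 L148619 q6138, e3 q7117 L148632 q6139, e3 q7118 L148644 q6140, e3 q7119 L148658 q6141, e3 q7120 L148670 q6142, e3 q7121 L148678 q6101, e3 q7122 L148689 q6102, e3 q7123 (flp_a L157445) q8061, e3 q7124 (flp_a L157458) q8062, e3 q7125 (flp_a L157469) q8063, e3 q7126 L148719 q6148, e3 q7127 L148732 q6149, e3 q7128 L148743 q6150, e3 q7129 L148751 q6151, e3 q7130 L148761 q6152, e3 q7131 L148769 q6153, e3 q7132 L148777 q6154, e3 q7133 L148789 q6155, e3 q7134 L148800 q6156, e3 q7135 L148809 q6157, e3 q7136 L148821 q6158, e3 q7137 L148828 q6159, e3 q7138 L148836 q6119, e3 q7139 (flp_a L157178) q8040, e3 q7140 (flp_a L157208) q8042, e3 q7141 (flp_a L157224)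 q8043, e3 q7142 L148893 q6127, e3 q7143 (flp_a L157605) q8078, e3 q7144 (flp_a L157286) q8048, e3 q7145 (flp_a L157300) q8049, e3 q7146 (flp_a L157312) q8050, e3 q7147 (flp_a L157325) q8051, e3 q7148 (flp_a L157335) q8052, e3 q7149 (flp_a L157344) q8053, e3 q7150 L148983 q6137, e3 q7151 (flp_a L157688) q8085, e3 q7152 (flp_a L157395) q8057, e3 q7153 (flp_a L157409) q8058, e3 q7154 (flp_a L157423) q8059, e3 q7155 (flp_a L157435) q8060, e3 q7156 L149057 q6145, e3 q7157 L149070 q6146, e3 q7158 L149079 q6147, e3 q7159 (flp_a L157751) q8090, e3 q7160 (flp_a L157764) q8091, e3 q7161 (flp_a L157505) q8067, e3 q7162 (flp_a L157518) q8068, e3 q7163 (flp_a L157528) q8069, e3 q7164 (flp_a L157533) q8070, e3 q7165 (flp_a L157541) q8071, e3 q7166 (flp_a L157549) q8072, e3 q7167 (flp_a L157557) q8073, trivial⟩ (by decide +kernel)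

theorem ce_a_112 : ∀ r, r < 64 → sm ga (Qf (7168 + r)) = Qf (tab Gen.a (7168 + r)) :=
  edges_tab (sm ga) Qf (tab Gen.a) 7168 [(7168, 8074), (7169, 8075), (7170, 8101), (7171, 7171), (7172, 7172), (7173, 7173), (7174, 7174), (7175, 7175), (7176, 8109), (7177, 7177), (7178, 7178), (7179, 7179), (7180, 7180), (7181, 7181), (7182, 7182), (7183, 6382), (7184, 7184), (7185, 7185), (7186, 7186), (7187, 6173), (7188, 6389), (7189, 8118), (7190, 7190), (7191, 7191), (7192, 6657), (7193, 6385), (7194, 6188), (7195, 6393), (7196, 6201), (7197, 6202), (7198, 6197), (7199, 8121), (7200, 6205), (7201, 6204), (7202, 6208), (7203, 6368), (7204, 6369), (7205, 6370), (7206, 6371), (7207, 6372), (7208, 6373), (7209, 8130), (7210, 6375), (7211, 6376), (7212, 6378), (7213, 6379), (7214, 6381), (7215, 6383), (7216, 6386), (7217, 6390), (7218, 6394), (7219, 6242), (7220, 7901), (7221, 6243), (7222, 6244), (7223, 6230), (7224, 8140), (7225, 6247), (7226, 6248), (7227, 7924), (7228, 6249), (7229, 6240), (7230,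 8145), (7231, 6252)]
    ⟨e3 q7168 (flp_a L157566) q8074, e3 q7169 (flp_a L157576) q8075, e3 q7170 L157867 q8101, e3 q7171 L149187 q7171, e3 q7172 L149196 q7172, e3 q7173 L149207 q7173, e3 q7174 L149218 q7174, e3 q7175 L149224 q7175, e3 q7176 L157939 q8109, e3 q7177 L149237 q7177, e3 q7178 L149248 q7178, e3 q7179 L149257 q7179, e3 q7180 L149267 q7180, e3 q7181 L149273 q7181, e3 q7182 L149280 q7182, e3 q7183 L149302 q6382, e3 q7184 L149308 q7184, e3 q7185 L149321 q7185, e3 q7186 L149332 q7186, e3 q7187 (flp_a L149344) q6173, e3 q7188 L149359 q6389, e3 q7189 (flp_a L158027) q8118, e3 q7190 L149380 q7190, e3 q7191 L149389 q7191, e3 q7192 L149397 q6657, e3 q7193 L149411 q6385, e3 q7194 L149425 q6188, e3 q7195 L149437 q6393, e3 q7196 L149450 q6201, e3 q7197 L149466 q6202, e3 q7198 (flp_a L149480) q6197, e3 q7199 (flp_a L158068) q8121, e3 q7200 L149505 q6205, e3 q7201 L149519 q6204, e3 q7202 L149534 q6208, e3 q7203 L149550 q6368, e3 q7204 L149563 q6369, e3 q7205 L149578 q6370, e3 q7206 L149590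 q6371, e3 q7207 L149604 q6372, e3 q7208 L149616 q6373, e3 q7209 L158192 q8130, e3 q7210 L149636 q6375, e3 q7211 L149646 q6376, e3 q7212 L149656 q6378, e3 q7213 L149668 q6379, e3 q7214 L149678 q6381, e3 q7215 L149690 q6383, e3 q7216 L149704 q6386, e3 q7217 L149712 q6390, e3 q7218 L149720 q6394, e3 q7219 L149732 q6242, e3 q7220 (flp_a L155770) q7901, e3 q7221 L149756 q6243, e3 q7222 L149768 q6244, e3 q7223 (flp_a L149778) q6230, e3 q7224 (flp_a L158306) q8140, e3 q7225 L149796 q6247, e3 q7226 L149804 q6248, e3 q7227 (flp_a L156027) q7924, e3 q7228 L149824 q6249, e3 q7229 L149835 q6240, e3 q7230 (flp_a L158356) q8145, e3 q7231 L149854 q6252, trivial⟩ (by decide +kernel)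

theorem ce_a_113 : ∀ r, r < 64 → sm ga (Qf (7232 + r)) = Qf (tab Gen.a (7232 + r)) :=
  edges_tab (sm ga) Qf (tab Gen.a) 7232 [(7232, 8139), (7233, 6246), (7234, 8149), (7235, 8142), (7236, 8144), (7237, 6251), (7238, 8151), (7239, 8147), (7240, 6415), (7241, 6416), (7242, 6417), (7243, 6418), (7244, 6419), (7245, 6420), (7246, 6396), (7247, 6422), (7248, 6423), (7249, 6425), (7250, 8168), (7251, 6427), (7252, 6428), (7253, 6429), (7254, 6430), (7255, 6431), (7256, 6374), (7257, 6400), (7258, 6401), (7259, 6747), (7260, 6432), (7261, 6433), (7262, 6434), (7263, 6435), (7264, 6436), (7265, 6269), (7266, 8189), (7267, 8190), (7268, 6440), (7269, 6441), (7270, 6442), (7271, 6443), (7272, 6444), (7273, 6445), (7274, 6446), (7275, 6447), (7276, 6448), (7277, 6449), (7278, 6451), (7279, 6452), (7280, 6454), (7281, 6455), (7282, 6456), (7283, 6457), (7284, 6458), (7285, 6459), (7286, 6460), (7287, 6461), (7288, 6462), (7289, 6463), (7290, 6464), (7291, 6465), (7292, 6466), (7293, 6467), (7294,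 6470), (7295, 6471)]
    ⟨e3 q7232 (flp_a L158294) q8139, e3 q7233 L149873 q6246, e3 q7234 (flp_a L158403) q8149, e3 q7235 (flp_a L158322) q8142, e3 q7236 (flp_a L158345) q8144, e3 q7237 L149910 q6251, e3 q7238 (flp_a L158423) q8151, e3 q7239 (flp_a L158378) q8147, e3 q7240 L149945 q6415, e3 q7241 L149956 q6416, e3 q7242 L149963 q6417, e3 q7243 L149976 q6418, e3 q7244 L149982 q6419, e3 q7245 L149989 q6420, e3 q7246 L149996 q6396, e3 q7247 L150006 q6422, e3 q7248 L150018 q6423, e3 q7249 L150028 q6425, e3 q7250 L158574 q8168, e3 q7251 L150046 q6427, e3 q7252 L150056 q6428, e3 q7253 L150062 q6429, e3 q7254 L150072 q6430, e3 q7255 L150084 q6431, e3 q7256 L150092 q6374, e3 q7257 L150100 q6400, e3 q7258 L150107 q6401, e3 q7259 L150119 q6747, e3 q7260 L150125 q6432, e3 q7261 L150135 q6433, e3 q7262 L150143 q6434, e3 q7263 L150153 q6435, e3 q7264 L150165 q6436, e3 q7265 (flp_a L150171) q6269, e3 q7266 (flp_a L158773) q8189, e3 q7267 (flp_a L158783) q8190, e3 q7268 L150195 q6440, e3 q7269 L150201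 q6441, e3 q7270 L150207 q6442, e3 q7271 L150215 q6443, e3 q7272 L150221 q6444, e3 q7273 L150229 q6445, e3 q7274 L150239 q6446, e3 q7275 L150247 q6447, e3 q7276 L150254 q6448, e3 q7277 L150264 q6449, e3 q7278 L150277 q6451, e3 q7279 L150288 q6452, e3 q7280 L150299 q6454, e3 q7281 L150306 q6455, e3 q7282 L150313 q6456, e3 q7283 L150320 q6457, e3 q7284 L150331 q6458, e3 q7285 L150342 q6459, e3 q7286 L150355 q6460, e3 q7287 L150368 q6461, e3 q7288 L150378 q6462, e3 q7289 L150390 q6463, e3 q7290 L150402 q6464, e3 q7291 L150407 q6465, e3 q7292 L150415 q6466, e3 q7293 L150424 q6467, e3 q7294 L150433 q6470, e3 q7295 L150443 q6471, trivial⟩ (by decide +kernel)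

theorem ce_a_114 : ∀ r, r < 64 → sm ga (Qf (7296 + r)) = Qf (tab Gen.a (7296 + r)) :=
  edges_tab (sm ga) Qf (tab Gen.a) 7296 [(7296, 6474), (7297, 6475), (7298, 6336), (7299, 6770), (7300, 6337), (7301, 6338), (7302, 6300), (7303, 7997), (7304, 8230), (7305, 6341), (7306, 6342), (7307, 6343), (7308, 6344), (7309, 6345), (7310, 6346), (7311, 6774), (7312, 6775), (7313, 6347), (7314, 6348), (7315, 6349), (7316, 6350), (7317, 6315), (7318, 6316), (7319, 7983), (7320, 8242), (7321, 8243), (7322, 6355), (7323, 6356), (7324, 6357), (7325, 6358), (7326, 6359), (7327, 6360), (7328, 6361), (7329, 6362), (7330, 6363), (7331, 6786), (7332, 6364), (7333, 6334), (7334, 8254), (7335, 6367), (7336, 8227), (7337, 8229), (7338, 6340), (7339, 8258), (7340, 8233), (7341, 8234), (7342, 8235), (7343, 8236), (7344, 8239), (7345, 8240), (7346, 8241), (7347, 6353), (7348, 6354), (7349, 8263), (7350, 8264), (7351, 8247), (7352, 8248), (7353, 8249), (7354, 8250), (7355, 8251), (7356, 8253), (7357, 6366), (7358,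 8123), (7359, 7071)]
    ⟨e3 q7296 L150454 q6474, e3 q7297 L150465 q6475, e3 q7298 L150475 q6336, e3 q7299 L150490 q6770, e3 q7300 L150494 q6337, e3 q7301 L150505 q6338, e3 q7302 (flp_a L150515) q6300, e3 q7303 (flp_a L156840) q7997, e3 q7304 (flp_a L159154) q8230, e3 q7305 L150541 q6341, e3 q7306 L150553 q6342, e3 q7307 L150561 q6343, e3 q7308 L150569 q6344, e3 q7309 L150581 q6345, e3 q7310 L150588 q6346, e3 q7311 L150594 q6774, e3 q7312 L150605 q6775, e3 q7313 L150615 q6347, e3 q7314 L150626 q6348, e3 q7315 L150634 q6349, e3 q7316 L150642 q6350, e3 q7317 L150654 q6315, e3 q7318 L150663 q6316, e3 q7319 (flp_a L156695) q7983, e3 q7320 (flp_a L159265) q8242, e3 q7321 (flp_a L159276) q8243, e3 q7322 L150689 q6355, e3 q7323 L150698 q6356, e3 q7324 L150706 q6357, e3 q7325 L150712 q6358, e3 q7326 L150720 q6359, e3 q7327 L150726 q6360, e3 q7328 L150740 q6361, e3 q7329 L150752 q6362, e3 q7330 L150765 q6363, e3 q7331 L150775 q6786, e3 q7332 L150785 q6364, e3 q7333 L150792 q6334, e3 q7334 (flp_a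 L159365) q8254, e3 q7335 L150809 q6367, e3 q7336 (flp_a L159121) q8227, e3 q7337 (flp_a L159142) q8229, e3 q7338 L150837 q6340, e3 q7339 (flp_a L159394) q8258, e3 q7340 (flp_a L159179) q8233, e3 q7341 (flp_a L159193) q8234, e3 q7342 (flp_a L159200) q8235, e3 q7343 (flp_a L159210) q8236, e3 q7344 (flp_a L159235) q8239, e3 q7345 (flp_a L159247) q8240, e3 q7346 (flp_a L159255) q8241, e3 q7347 L150919 q6353, e3 q7348 L150930 q6354, e3 q7349 (flp_a L159445) q8263, e3 q7350 (flp_a L159455) q8264, e3 q7351 (flp_a L159303) q8247, e3 q7352 (flp_a L159311) q8248, e3 q7353 (flp_a L159320) q8249, e3 q7354 (flp_a L159326) q8250, e3 q7355 (flp_a L159332) q8251, e3 q7356 (flp_a L159353) q8253, e3 q7357 L151003 q6366, e3 q7358 (flp_a L158101) q8123, e3 q7359 L151018 q7071, trivial⟩ (by decide +kernel)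

theorem ce_a_115 : ∀ r, r < 64 → sm ga (Qf (7360 + r)) = Qf (tab Gen.a (7360 + r)) :=
  edges_tab (sm ga) Qf (tab Gen.a) 7360 [(7360, 8124), (7361, 8163), (7362, 8125), (7363, 8126), (7364, 8128), (7365, 8129), (7366, 8177), (7367, 8178), (7368, 8132), (7369, 7971), (7370, 8133), (7371, 8134), (7372, 8041), (7373, 8135), (7374, 8103), (7375, 7035), (7376, 8136), (7377, 8117), (7378, 6665), (7379, 8137), (7380, 8119), (7381, 7469), (7382, 7470), (7383, 8120), (7384, 7472), (7385, 7968), (7386, 7473), (7387, 8164), (7388, 6410), (7389, 7890), (7390, 8179), (7391, 8180), (7392, 6411), (7393, 6412), (7394, 6413), (7395, 8301), (7396, 8302), (7397, 8152), (7398, 8153), (7399, 8154), (7400, 8155), (7401, 8156), (7402, 8309), (7403, 8158), (7404, 8159), (7405, 8160), (7406, 8161), (7407, 8162), (7408, 6694), (7409, 8166), (7410, 6693), (7411, 8167), (7412, 6426), (7413, 8322), (7414, 8323), (7415, 8171), (7416, 8172), (7417, 8173), (7418, 8174), (7419, 7911), (7420, 8175), (7421, 8176), (7422,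 8183), (7423, 8184)]
    ⟨e3 q7360 (flp_a L158115) q8124, e3 q7361 (flp_a L158522) q8163, e3 q7362 (flp_a L158128) q8125, e3 q7363 (flp_a L158140) q8126, e3 q7364 (flp_a L158168) q8128, e3 q7365 (flp_a L158180) q8129, e3 q7366 (flp_a L158660) q8177, e3 q7367 (flp_a L158666) q8178, e3 q7368 (flp_a L158214) q8132, e3 q7369 L156593 q7971, e3 q7370 (flp_a L158226) q8133, e3 q7371 (flp_a L158236) q8134, e3 q7372 (flp_a L157194) q8041, e3 q7373 (flp_a L158244) q8135, e3 q7374 L157896 q8103, e3 q7375 L151139 q7035, e3 q7376 (flp_a L158258) q8136, e3 q7377 (flp_a L158011) q8117, e3 q7378 L151166 q6665, e3 q7379 (flp_a L158270) q8137, e3 q7380 (flp_a L158040) q8119, e3 q7381 (flp_a L151888) q7469, e3 q7382 (flp_a L151900) q7470, e3 q7383 (flp_a L158055) q8120, e3 q7384 (flp_a L151923) q7472, e3 q7385 (flp_a L156546) q7968, e3 q7386 (flp_a L151939) q7473, e3 q7387 (flp_a L158530) q8164, e3 q7388 L151266 q6410, e3 q7389 (flp_a L155641) q7890, e3 q7390 (flp_a L158676) q8179, e3 q7391 (flp_a L158685)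 q8180, e3 q7392 L151296 q6411, e3 q7393 L151307 q6412, e3 q7394 L151315 q6413, e3 q7395 (flp_a L159802) q8301, e3 q7396 (flp_a L159812) q8302, e3 q7397 (flp_a L158434) q8152, e3 q7398 (flp_a L158443) q8153, e3 q7399 (flp_a L158456) q8154, e3 q7400 (flp_a L158464) q8155, e3 q7401 (flp_a L158473) q8156, e3 q7402 L159862 q8309, e3 q7403 (flp_a L158487) q8158, e3 q7404 (flp_a L158493) q8159, e3 q7405 (flp_a L158501) q8160, e3 q7406 (flp_a L158508) q8161, e3 q7407 (flp_a L158517) q8162, e3 q7408 L151412 q6694, e3 q7409 (flp_a L158552) q8166, e3 q7410 L151432 q6693, e3 q7411 (flp_a L158562) q8167, e3 q7412 (flp_a L151448) q6426, e3 q7413 (flp_a L159964) q8322, e3 q7414 (flp_a L159974) q8323, e3 q7415 (flp_a L158602) q8171, e3 q7416 (flp_a L158610) q8172, e3 q7417 (flp_a L158618) q8173, e3 q7418 (flp_a L158628) q8174, e3 q7419 (flp_a L155881) q7911, e3 q7420 (flp_a L158636) q8175, e3 q7421 (flp_a L158646) q8176, e3 q7422 (flp_a L158715) q8183, e3 q7423 (flp_a L158723) q8184, trivial⟩ (by decide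 +kernel)

theorem ce_a_116 : ∀ r, r < 64 → sm ga (Qf (7424 + r)) = Qf (tab Gen.a (7424 + r)) :=
  edges_tab (sm ga) Qf (tab Gen.a) 7424 [(7424, 8185), (7425, 8186), (7426, 7895), (7427, 8187), (7428, 8188), (7429, 6438), (7430, 6439), (7431, 8346), (7432, 8347), (7433, 8348), (7434, 8349), (7435, 8195), (7436, 8196), (7437, 8197), (7438, 8198), (7439, 8199), (7440, 8200), (7441, 8201), (7442, 8202), (7443, 8203), (7444, 8204), (7445, 8205), (7446, 8206), (7447, 8207), (7448, 8208), (7449, 8209), (7450, 6673), (7451, 6667), (7452, 8210), (7453, 6675), (7454, 8211), (7455, 8212), (7456, 8213), (7457, 8214), (7458, 8215), (7459, 8216), (7460, 8217), (7461, 8218), (7462, 8219), (7463, 8220), (7464, 8221), (7465, 8222), (7466, 8223), (7467, 8224), (7468, 8225), (7469, 7381), (7470, 7382), (7471, 8226), (7472, 7384), (7473, 7386), (7474, 6480), (7475, 6481), (7476, 8064), (7477, 8396), (7478, 8397), (7479, 6512), (7480, 6513), (7481, 6514), (7482, 6515), (7483, 6516), (7484, 6517), (7485, 6493),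 (7486, 6494), (7487, 6495)]
    ⟨e3 q7424 (flp_a L158731) q8185, e3 q7425 (flp_a L158741) q8186, e3 q7426 (flp_a L155694) q7895, e3 q7427 (flp_a L158749) q8187, e3 q7428 (flp_a L158759) q8188, e3 q7429 L151578 q6438, e3 q7430 L151586 q6439, e3 q7431 (flp_a L160149) q8346, e3 q7432 (flp_a L160159) q8347, e3 q7433 (flp_a L160165) q8348, e3 q7434 (flp_a L160175) q8349, e3 q7435 (flp_a L158820) q8195, e3 q7436 (flp_a L158828) q8196, e3 q7437 (flp_a L158834) q8197, e3 q7438 (flp_a L158842) q8198, e3 q7439 (flp_a L158848) q8199, e3 q7440 (flp_a L158856) q8200, e3 q7441 (flp_a L158864) q8201, e3 q7442 (flp_a L158868) q8202, e3 q7443 (flp_a L158878) q8203, e3 q7444 (flp_a L158886) q8204, e3 q7445 (flp_a L158900) q8205, e3 q7446 (flp_a L158907) q8206, e3 q7447 (flp_a L158916) q8207, e3 q7448 (flp_a L158925) q8208, e3 q7449 (flp_a L158937) q8209, e3 q7450 L151726 q6673, e3 q7451 L151740 q6667, e3 q7452 (flp_a L158949) q8210, e3 q7453 L151762 q6675, e3 q7454 (flp_a L158962) q8211, e3 q7455 (flp_a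 L158969) q8212, e3 q7456 (flp_a L158978) q8213, e3 q7457 (flp_a L158991) q8214, e3 q7458 (flp_a L159000) q8215, e3 q7459 (flp_a L159007) q8216, e3 q7460 (flp_a L159012) q8217, e3 q7461 (flp_a L159023) q8218, e3 q7462 (flp_a L159036) q8219, e3 q7463 (flp_a L159045) q8220, e3 q7464 (flp_a L159056) q8221, e3 q7465 (flp_a L159070) q8222, e3 q7466 (flp_a L159080) q8223, e3 q7467 (flp_a L159092) q8224, e3 q7468 (flp_a L159099) q8225, e3 q7469 L151888 q7381, e3 q7470 L151900 q7382, e3 q7471 (flp_a L159109) q8226, e3 q7472 L151923 q7384, e3 q7473 L151939 q7386, e3 q7474 L151955 q6480, e3 q7475 L151966 q6481, e3 q7476 (flp_a L157477) q8064, e3 q7477 (flp_a L160569) q8396, e3 q7478 (flp_a L160580) q8397, e3 q7479 L152000 q6512, e3 q7480 L152009 q6513, e3 q7481 L152021 q6514, e3 q7482 L152029 q6515, e3 q7483 L152037 q6516, e3 q7484 L152049 q6517, e3 q7485 L152057 q6493, e3 q7486 L152065 q6494, e3 q7487 L152077 q6495, trivial⟩ (by decide +kernel)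

theorem ce_a_117 : ∀ r, r < 64 → sm ga (Qf (7488 + r)) = Qf (tab Gen.a (7488 + r)) :=
  edges_tab (sm ga) Qf (tab Gen.a) 7488 [(7488, 8045), (7489, 8404), (7490, 8405), (7491, 6523), (7492, 6524), (7493, 6525), (7494, 6526), (7495, 6527), (7496, 6528), (7497, 6529), (7498, 7998), (7499, 6510), (7500, 6511), (7501, 8413), (7502, 8400), (7503, 8401), (7504, 8402), (7505, 8403), (7506, 6521), (7507, 6522), (7508, 8416), (7509, 8417), (7510, 8409), (7511, 8410), (7512, 8411), (7513, 7513), (7514, 7514), (7515, 7515), (7516, 7516), (7517, 7517), (7518, 7518), (7519, 7519), (7520, 6539), (7521, 8426), (7522, 8427), (7523, 7523), (7524, 7524), (7525, 7525), (7526, 7526), (7527, 7527), (7528, 7528), (7529, 6546), (7530, 6550), (7531, 6551), (7532, 6552), (7533, 6553), (7534, 8437), (7535, 8438), (7536, 8439), (7537, 8440), (7538, 8441), (7539, 8442), (7540, 7639), (7541, 7541), (7542, 7542), (7543, 7543), (7544, 7544), (7545, 7545), (7546, 7546), (7547, 7547), (7548, 7548), (7549, 7549), (7550,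 7550), (7551, 7551)]
    ⟨e3 q7488 (flp_a L157252) q8045, e3 q7489 (flp_a L160644) q8404, e3 q7490 (flp_a L160654) q8405, e3 q7491 L152109 q6523, e3 q7492 L152121 q6524, e3 q7493 L152129 q6525, e3 q7494 L152137 q6526, e3 q7495 L152143 q6527, e3 q7496 L152151 q6528, e3 q7497 L152157 q6529, e3 q7498 (flp_a L156854) q7998, e3 q7499 L152176 q6510, e3 q7500 L152185 q6511, e3 q7501 (flp_a L160720) q8413, e3 q7502 (flp_a L160607) q8400, e3 q7503 (flp_a L160617) q8401, e3 q7504 (flp_a L160626) q8402, e3 q7505 (flp_a L160634) q8403, e3 q7506 L152232 q6521, e3 q7507 L152240 q6522, e3 q7508 (flp_a L160746) q8416, e3 q7509 (flp_a L160752) q8417, e3 q7510 (flp_a L160688) q8409, e3 q7511 (flp_a L160698) q8410, e3 q7512 (flp_a L160706) q8411, e3 q7513 L152284 q7513, e3 q7514 L152295 q7514, e3 q7515 L152302 q7515, e3 q7516 L152311 q7516, e3 q7517 L152318 q7517, e3 q7518 L152327 q7518, e3 q7519 L152338 q7519, e3 q7520 (flp_a L152343) q6539, e3 q7521 (flp_a L160830) q8426, e3 q7522 (flp_a L160840) q8427,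 e3 q7523 L152371 q7523, e3 q7524 L152381 q7524, e3 q7525 L152391 q7525, e3 q7526 L152400 q7526, e3 q7527 L152405 q7527, e3 q7528 L152412 q7528, e3 q7529 L152417 q6546, e3 q7530 L152427 q6550, e3 q7531 L152436 q6551, e3 q7532 L152445 q6552, e3 q7533 L152456 q6553, e3 q7534 (flp_a L160925) q8437, e3 q7535 (flp_a L160932) q8438, e3 q7536 (flp_a L160942) q8439, e3 q7537 (flp_a L160953) q8440, e3 q7538 (flp_a L160964) q8441, e3 q7539 (flp_a L160974) q8442, e3 q7540 (flp_a L153508) q7639, e3 q7541 L152532 q7541, e3 q7542 L152538 q7542, e3 q7543 L152549 q7543, e3 q7544 L152561 q7544, e3 q7545 L152570 q7545, e3 q7546 L152578 q7546, e3 q7547 L152585 q7547, e3 q7548 L152595 q7548, e3 q7549 L152604 q7549, e3 q7550 L152610 q7550, e3 q7551 L152617 q7551, trivial⟩ (by decide +kernel)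

theorem ce_a_118 : ∀ r, r < 64 → sm ga (Qf (7552 + r)) = Qf (tab Gen.a (7552 + r)) :=
  edges_tab (sm ga) Qf (tab Gen.a) 7552 [(7552, 7552), (7553, 7553), (7554, 7554), (7555, 7555), (7556, 7556), (7557, 7557), (7558, 7558), (7559, 7559), (7560, 7560), (7561, 7561), (7562, 7562), (7563, 7563), (7564, 7564), (7565, 7565), (7566, 7566), (7567, 7567), (7568, 7568), (7569, 7569), (7570, 7570), (7571, 7571), (7572, 7572), (7573, 7573), (7574, 7574), (7575, 7575), (7576, 7576), (7577, 8019), (7578, 7578), (7579, 7579), (7580, 7580), (7581, 7581), (7582, 7582), (7583, 6598), (7584, 6599), (7585, 6600), (7586, 8487), (7587, 8488), (7588, 8489), (7589, 6617), (7590, 6618), (7591, 6619), (7592, 8022), (7593, 8021), (7594, 6614), (7595, 6615), (7596, 6616), (7597, 8495), (7598, 8496), (7599, 8493), (7600, 6656), (7601, 6664), (7602, 6666), (7603, 6668), (7604, 6669), (7605, 6670), (7606, 6671), (7607, 6672), (7608, 6674), (7609, 6676), (7610, 6677), (7611, 6678), (7612, 6679), (7613, 6680), (7614,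 6681), (7615, 6682)]
    ⟨e3 q7552 L152628 q7552, e3 q7553 L152638 q7553, e3 q7554 L152647 q7554, e3 q7555 L152659 q7555, e3 q7556 L152672 q7556, e3 q7557 L152685 q7557, e3 q7558 L152694 q7558, e3 q7559 L152705 q7559, e3 q7560 L152714 q7560, e3 q7561 L152724 q7561, e3 q7562 L152734 q7562, e3 q7563 L152741 q7563, e3 q7564 L152751 q7564, e3 q7565 L152763 q7565, e3 q7566 L152774 q7566, e3 q7567 L152784 q7567, e3 q7568 L152791 q7568, e3 q7569 L152798 q7569, e3 q7570 L152809 q7570, e3 q7571 L152814 q7571, e3 q7572 L152819 q7572, e3 q7573 L152824 q7573, e3 q7574 L152835 q7574, e3 q7575 L152846 q7575, e3 q7576 L152855 q7576, e3 q7577 (flp_a L157014) q8019, e3 q7578 L152871 q7578, e3 q7579 L152877 q7579, e3 q7580 L152888 q7580, e3 q7581 L152902 q7581, e3 q7582 L152919 q7582, e3 q7583 L152933 q6598, e3 q7584 L152943 q6599, e3 q7585 L152952 q6600, e3 q7586 (flp_a L161390) q8487, e3 q7587 (flp_a L161401) q8488, e3 q7588 (flp_a L161411) q8489, e3 q7589 L152987 q6617, e3 q7590 L152999 q6618, e3 q7591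 L153006 q6619, e3 q7592 (flp_a L157047) q8022, e3 q7593 (flp_a L157034) q8021, e3 q7594 L153032 q6614, e3 q7595 L153042 q6615, e3 q7596 L153051 q6616, e3 q7597 (flp_a L161459) q8495, e3 q7598 (flp_a L161470) q8496, e3 q7599 (flp_a L161442) q8493, e3 q7600 L153084 q6656, e3 q7601 L153100 q6664, e3 q7602 L153110 q6666, e3 q7603 L153121 q6668, e3 q7604 L153128 q6669, e3 q7605 L153135 q6670, e3 q7606 L153148 q6671, e3 q7607 L153156 q6672, e3 q7608 L153167 q6674, e3 q7609 L153178 q6676, e3 q7610 L153190 q6677, e3 q7611 L153201 q6678, e3 q7612 L153214 q6679, e3 q7613 L153225 q6680, e3 q7614 L153235 q6681, e3 q7615 L153247 q6682, trivial⟩ (by decide +kernel)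

theorem ce_a_119 : ∀ r, r < 64 → sm ga (Qf (7616 + r)) = Qf (tab Gen.a (7616 + r)) :=
  edges_tab (sm ga) Qf (tab Gen.a) 7616 [(7616, 6683), (7617, 6684), (7618, 6685), (7619, 6686), (7620, 6687), (7621, 6688), (7622, 6689), (7623, 6690), (7624, 6691), (7625, 6692), (7626, 6695), (7627, 6696), (7628, 6699), (7629, 7073), (7630, 7074), (7631, 7034), (7632, 7036), (7633, 7669), (7634, 8291), (7635, 7084), (7636, 8497), (7637, 7640), (7638, 8379), (7639, 7540), (7640, 7637), (7641, 8498), (7642, 8499), (7643, 8500), (7644, 8501), (7645, 8378), (7646, 8502), (7647, 8377), (7648, 8380), (7649, 8503), (7650, 8504), (7651, 8505), (7652, 8506), (7653, 8507), (7654, 8508), (7655, 8509), (7656, 8510), (7657, 8295), (7658, 8293), (7659, 8511), (7660, 8292), (7661, 8512), (7662, 8513), (7663, 8514), (7664, 8515), (7665, 8319), (7666, 8516), (7667, 8320), (7668, 7994), (7669, 7633), (7670, 7670), (7671, 7671), (7672, 7672), (7673, 7673), (7674, 7674), (7675, 7675), (7676, 7676), (7677, 7677), (7678,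 7678), (7679, 7679)]
    ⟨e3 q7616 L153259 q6683, e3 q7617 L153270 q6684, e3 q7618 L153281 q6685, e3 q7619 L153292 q6686, e3 q7620 L153298 q6687, e3 q7621 L153308 q6688, e3 q7622 L153321 q6689, e3 q7623 L153332 q6690, e3 q7624 L153339 q6691, e3 q7625 L153351 q6692, e3 q7626 L153363 q6695, e3 q7627 L153376 q6696, e3 q7628 L153391 q6699, e3 q7629 L153401 q7073, e3 q7630 L153415 q7074, e3 q7631 L153429 q7034, e3 q7632 L153440 q7036, e3 q7633 (flp_a L153749) q7669, e3 q7634 (flp_a L159683) q8291, e3 q7635 L153474 q7084, e3 q7636 (flp_a L161477) q8497, e3 q7637 (flp_a L153519) q7640, e3 q7638 (flp_a L160408) q8379, e3 q7639 L153508 q7540, e3 q7640 L153519 q7637, e3 q7641 (flp_a L161489) q8498, e3 q7642 (flp_a L161497) q8499, e3 q7643 (flp_a L161509) q8500, e3 q7644 (flp_a L161517) q8501, e3 q7645 (flp_a L160398) q8378, e3 q7646 (flp_a L161527) q8502, e3 q7647 (flp_a L160385) q8377, e3 q7648 (flp_a L160420) q8380, e3 q7649 (flp_a L161540) q8503, e3 q7650 (flp_a L161556) q8504, e3 q7651 (flp_a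 L161574) q8505, e3 q7652 (flp_a L161588) q8506, e3 q7653 (flp_a L161601) q8507, e3 q7654 (flp_a L161616) q8508, e3 q7655 (flp_a L161633) q8509, e3 q7656 (flp_a L161646) q8510, e3 q7657 (flp_a L159739) q8295, e3 q7658 (flp_a L159711) q8293, e3 q7659 (flp_a L161658) q8511, e3 q7660 (flp_a L159698) q8292, e3 q7661 (flp_a L161669) q8512, e3 q7662 (flp_a L161681) q8513, e3 q7663 (flp_a L161690) q8514, e3 q7664 (flp_a L161703) q8515, e3 q7665 (flp_a L159934) q8319, e3 q7666 (flp_a L161712) q8516, e3 q7667 (flp_a L159944) q8320, e3 q7668 (flp_a L156814) q7994, e3 q7669 L153749 q7633, e3 q7670 L153764 q7670, e3 q7671 L153774 q7671, e3 q7672 L153785 q7672, e3 q7673 L153799 q7673, e3 q7674 L153813 q7674, e3 q7675 L153823 q7675, e3 q7676 L153834 q7676, e3 q7677 L153843 q7677, e3 q7678 L153851 q7678, e3 q7679 L153855 q7679, trivial⟩ (by decide +kernel)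

theorem ce_a_120 : ∀ r, r < 64 → sm ga (Qf (7680 + r)) = Qf (tab Gen.a (7680 + r)) :=
  edges_tab (sm ga) Qf (tab Gen.a) 7680 [(7680, 7680), (7681, 7681), (7682, 7682), (7683, 7683), (7684, 7684), (7685, 7685), (7686, 7686), (7687, 7687), (7688, 7688), (7689, 7689), (7690, 8018), (7691, 7691), (7692, 7692), (7693, 7693), (7694, 7694), (7695, 8016), (7696, 6798), (7697, 6799), (7698, 6800), (7699, 8165), (7700, 6801), (7701, 6802), (7702, 6804), (7703, 6805), (7704, 8181), (7705, 8182), (7706, 6806), (7707, 6807), (7708, 6808), (7709, 6809), (7710, 6811), (7711, 6812), (7712, 6813), (7713, 6814), (7714, 6815), (7715, 6816), (7716, 6817), (7717, 6818), (7718, 6819), (7719, 6820), (7720, 6821), (7721, 6822), (7722, 6823), (7723, 6824), (7724, 6825), (7725, 6826), (7726, 6829), (7727, 6830), (7728, 6833), (7729, 6834), (7730, 8228), (7731, 6788), (7732, 6789), (7733, 8237), (7734, 8238), (7735, 6790), (7736, 6791), (7737, 6792), (7738, 6793), (7739, 6794), (7740, 6795), (7741, 6796), (7742,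 8252), (7743, 6797)]
    ⟨e3 q7680 L153865 q7680, e3 q7681 L153877 q7681, e3 q7682 L153887 q7682, e3 q7683 L153893 q7683, e3 q7684 L153902 q7684, e3 q7685 L153909 q7685, e3 q7686 L153919 q7686, e3 q7687 L153924 q7687, e3 q7688 L153931 q7688, e3 q7689 L153940 q7689, e3 q7690 (flp_a L157003) q8018, e3 q7691 L153956 q7691, e3 q7692 L153966 q7692, e3 q7693 L153978 q7693, e3 q7694 L153983 q7694, e3 q7695 (flp_a L156989) q8016, e3 q7696 L153998 q6798, e3 q7697 L154006 q6799, e3 q7698 L154014 q6800, e3 q7699 (flp_a L158546) q8165, e3 q7700 L154027 q6801, e3 q7701 L154035 q6802, e3 q7702 L154041 q6804, e3 q7703 L154050 q6805, e3 q7704 (flp_a L158693) q8181, e3 q7705 (flp_a L158705) q8182, e3 q7706 L154072 q6806, e3 q7707 L154080 q6807, e3 q7708 L154086 q6808, e3 q7709 L154094 q6809, e3 q7710 L154100 q6811, e3 q7711 L154110 q6812, e3 q7712 L154118 q6813, e3 q7713 L154125 q6814, e3 q7714 L154133 q6815, e3 q7715 L154142 q6816, e3 q7716 L154152 q6817, e3 q7717 L154163 q6818, e3 q7718 L154173 q6819,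 e3 q7719 L154187 q6820, e3 q7720 L154197 q6821, e3 q7721 L154208 q6822, e3 q7722 L154215 q6823, e3 q7723 L154222 q6824, e3 q7724 L154230 q6825, e3 q7725 L154242 q6826, e3 q7726 L154255 q6829, e3 q7727 L154265 q6830, e3 q7728 L154277 q6833, e3 q7729 L154287 q6834, e3 q7730 (flp_a L159131) q8228, e3 q7731 L154305 q6788, e3 q7732 L154313 q6789, e3 q7733 (flp_a L159216) q8237, e3 q7734 (flp_a L159227) q8238, e3 q7735 L154332 q6790, e3 q7736 L154340 q6791, e3 q7737 L154346 q6792, e3 q7738 L154352 q6793, e3 q7739 L154358 q6794, e3 q7740 L154368 q6795, e3 q7741 L154375 q6796, e3 q7742 (flp_a L159344) q8252, e3 q7743 L154386 q6797, trivial⟩ (by decide +kernel)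

theorem ce_a_121 : ∀ r, r < 64 → sm ga (Qf (7744 + r)) = Qf (tab Gen.a (7744 + r)) :=
  edges_tab (sm ga) Qf (tab Gen.a) 7744 [(7744, 8598), (7745, 8599), (7746, 8602), (7747, 8603), (7748, 8604), (7749, 8605), (7750, 8609), (7751, 8560), (7752, 8561), (7753, 8562), (7754, 8563), (7755, 8564), (7756, 8566), (7757, 7991), (7758, 8567), (7759, 8568), (7760, 8055), (7761, 8569), (7762, 8573), (7763, 8574), (7764, 8575), (7765, 7977), (7766, 8576), (7767, 8577), (7768, 8578), (7769, 8046), (7770, 8579), (7771, 8580), (7772, 8581), (7773, 8582), (7774, 8583), (7775, 8584), (7776, 8585), (7777, 8586), (7778, 8587), (7779, 8588), (7780, 8589), (7781, 8590), (7782, 8591), (7783, 8592), (7784, 8593), (7785, 8594), (7786, 8595), (7787, 7090), (7788, 7091), (7789, 8596), (7790, 7093), (7791, 8122), (7792, 7095), (7793, 8143), (7794, 6848), (7795, 6849), (7796, 6850), (7797, 6851), (7798, 6852), (7799, 6853), (7800, 6854), (7801, 6855), (7802, 8669), (7803, 6918), (7804, 8663), (7805, 8664), (7806,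 8665), (7807, 8666)]
    ⟨e3 q7744 (flp_a L162447) q8598, e3 q7745 (flp_a L162454) q8599, e3 q7746 (flp_a L162473) q8602, e3 q7747 (flp_a L162478) q8603, e3 q7748 (flp_a L162484) q8604, e3 q7749 (flp_a L162492) q8605, e3 q7750 (flp_a L162513) q8609, e3 q7751 (flp_a L162122) q8560, e3 q7752 (flp_a L162130) q8561, e3 q7753 (flp_a L162138) q8562, e3 q7754 (flp_a L162148) q8563, e3 q7755 (flp_a L162156) q8564, e3 q7756 (flp_a L162169) q8566, e3 q7757 (flp_a L156782) q7991, e3 q7758 (flp_a L162174) q8567, e3 q7759 (flp_a L162182) q8568, e3 q7760 (flp_a L157372) q8055, e3 q7761 (flp_a L162190) q8569, e3 q7762 (flp_a L162221) q8573, e3 q7763 (flp_a L162229) q8574, e3 q7764 (flp_a L162237) q8575, e3 q7765 (flp_a L156650) q7977, e3 q7766 (flp_a L162247) q8576, e3 q7767 (flp_a L162255) q8577, e3 q7768 (flp_a L162263) q8578, e3 q7769 (flp_a L157266) q8046, e3 q7770 (flp_a L162269) q8579, e3 q7771 (flp_a L162277) q8580, e3 q7772 (flp_a L162285) q8581, e3 q7773 (flp_a L162294) q8582, e3 q7774 (flp_a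 L162301) q8583, e3 q7775 (flp_a L162309) q8584, e3 q7776 (flp_a L162318) q8585, e3 q7777 (flp_a L162326) q8586, e3 q7778 (flp_a L162333) q8587, e3 q7779 (flp_a L162344) q8588, e3 q7780 (flp_a L162356) q8589, e3 q7781 (flp_a L162362) q8590, e3 q7782 (flp_a L162376) q8591, e3 q7783 (flp_a L162387) q8592, e3 q7784 (flp_a L162396) q8593, e3 q7785 (flp_a L162401) q8594, e3 q7786 (flp_a L162414) q8595, e3 q7787 L154672 q7090, e3 q7788 L154685 q7091, e3 q7789 (flp_a L162428) q8596, e3 q7790 L154709 q7093, e3 q7791 (flp_a L158085) q8122, e3 q7792 L154730 q7095, e3 q7793 (flp_a L158332) q8143, e3 q7794 L154748 q6848, e3 q7795 L154756 q6849, e3 q7796 L154763 q6850, e3 q7797 L154769 q6851, e3 q7798 L154777 q6852, e3 q7799 L154783 q6853, e3 q7800 L154790 q6854, e3 q7801 L154799 q6855, e3 q7802 L162950 q8669, e3 q7803 L154822 q6918, e3 q7804 (flp_a L162910) q8663, e3 q7805 (flp_a L162919) q8664, e3 q7806 (flp_a L162927) q8665, e3 q7807 (flp_a L162935) q8666, trivial⟩ (by decide +kernel)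

theorem ce_a_122 : ∀ r, r < 64 → sm ga (Qf (7808 + r)) = Qf (tab Gen.a (7808 + r)) :=
  edges_tab (sm ga) Qf (tab Gen.a) 7808 [(7808, 8670), (7809, 6856), (7810, 7810), (7811, 7811), (7812, 7812), (7813, 7813), (7814, 7814), (7815, 7815), (7816, 7816), (7817, 7817), (7818, 7818), (7819, 7819), (7820, 7820), (7821, 7821), (7822, 7822), (7823, 7823), (7824, 7824), (7825, 7825), (7826, 8687), (7827, 7827), (7828, 7828), (7829, 7829), (7830, 7830), (7831, 7831), (7832, 7832), (7833, 7833), (7834, 8034), (7835, 6891), (7836, 7836), (7837, 7837), (7838, 7838), (7839, 7839), (7840, 6913), (7841, 8661), (7842, 6916), (7843, 7037), (7844, 7038), (7845, 7039), (7846, 7041), (7847, 7042), (7848, 7043), (7849, 7044), (7850, 7045), (7851, 8703), (7852, 7047), (7853, 7048), (7854, 7049), (7855, 7050), (7856, 7051), (7857, 7052), (7858, 7053), (7859, 7054), (7860, 8717), (7861, 7056), (7862, 7057), (7863, 7059), (7864, 7060), (7865, 6933), (7866, 8722), (7867, 8723), (7868, 7064), (7869, 7065), (7870,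 7066), (7871, 7067)]
    ⟨e3 q7808 L162957 q8670, e3 q7809 (flp_a L154853) q6856, e3 q7810 L154860 q7810, e3 q7811 L154870 q7811, e3 q7812 L154880 q7812, e3 q7813 L154887 q7813, e3 q7814 L154896 q7814, e3 q7815 L154903 q7815, e3 q7816 L154909 q7816, e3 q7817 L154914 q7817, e3 q7818 L154921 q7818, e3 q7819 L154926 q7819, e3 q7820 L154936 q7820, e3 q7821 L154942 q7821, e3 q7822 L154948 q7822, e3 q7823 L154954 q7823, e3 q7824 L154962 q7824, e3 q7825 L154968 q7825, e3 q7826 L163081 q8687, e3 q7827 L154983 q7827, e3 q7828 L154991 q7828, e3 q7829 L154998 q7829, e3 q7830 L155010 q7830, e3 q7831 L155023 q7831, e3 q7832 L155034 q7832, e3 q7833 L155050 q7833, e3 q7834 (flp_a L157127) q8034, e3 q7835 (flp_a L155061) q6891, e3 q7836 L155069 q7836, e3 q7837 L155084 q7837, e3 q7838 L155098 q7838, e3 q7839 L155109 q7839, e3 q7840 L155122 q6913, e3 q7841 (flp_a L162879) q8661, e3 q7842 L155147 q6916, e3 q7843 L155161 q7037, e3 q7844 L155169 q7038, e3 q7845 L155179 q7039, e3 q7846 L155188 q7041, e3 q7847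 L155202 q7042, e3 q7848 L155216 q7043, e3 q7849 L155224 q7044, e3 q7850 L155237 q7045, e3 q7851 L163254 q8703, e3 q7852 L155255 q7047, e3 q7853 L155263 q7048, e3 q7854 L155271 q7049, e3 q7855 L155284 q7050, e3 q7856 L155293 q7051, e3 q7857 L155305 q7052, e3 q7858 L155313 q7053, e3 q7859 L155326 q7054, e3 q7860 L163413 q8717, e3 q7861 L155346 q7056, e3 q7862 L155358 q7057, e3 q7863 L155366 q7059, e3 q7864 L155380 q7060, e3 q7865 (flp_a L155388) q6933, e3 q7866 (flp_a L163475) q8722, e3 q7867 (flp_a L163489) q8723, e3 q7868 L155414 q7064, e3 q7869 L155420 q7065, e3 q7870 L155428 q7066, e3 q7871 L155436 q7067, trivial⟩ (by decide +kernel)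

theorem ce_a_123 : ∀ r, r < 64 → sm ga (Qf (7872 + r)) = Qf (tab Gen.a (7872 + r)) :=
  edges_tab (sm ga) Qf (tab Gen.a) 7872 [(7872, 7068), (7873, 7069), (7874, 7070), (7875, 7077), (7876, 7078), (7877, 7079), (7878, 7080), (7879, 7081), (7880, 7082), (7881, 7083), (7882, 7085), (7883, 7086), (7884, 7087), (7885, 7088), (7886, 7089), (7887, 7092), (7888, 7094), (7889, 6996), (7890, 7389), (7891, 6997), (7892, 6998), (7893, 6999), (7894, 6958), (7895, 7426), (7896, 8753), (7897, 7002), (7898, 7003), (7899, 7004), (7900, 7005), (7901, 7220), (7902, 7006), (7903, 7007), (7904, 7008), (7905, 6967), (7906, 8763), (7907, 7011), (7908, 7012), (7909, 6972), (7910, 6973), (7911, 7419), (7912, 8767), (7913, 8768), (7914, 7017), (7915, 7018), (7916, 7019), (7917, 7020), (7918, 7021), (7919, 7022), (7920, 7023), (7921, 7024), (7922, 7025), (7923, 7026), (7924, 7227), (7925, 6991), (7926, 8662), (7927, 7028), (7928, 6994), (7929, 8780), (7930, 7031), (7931, 8749), (7932, 8751), (7933, 8752), (7934,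 7001), (7935, 8785)]
    ⟨e3 q7872 L155444 q7068, e3 q7873 L155458 q7069, e3 q7874 L155470 q7070, e3 q7875 L155478 q7077, e3 q7876 L155491 q7078, e3 q7877 L155497 q7079, e3 q7878 L155508 q7080, e3 q7879 L155514 q7081, e3 q7880 L155527 q7082, e3 q7881 L155537 q7083, e3 q7882 L155546 q7085, e3 q7883 L155560 q7086, e3 q7884 L155573 q7087, e3 q7885 L155582 q7088, e3 q7886 L155588 q7089, e3 q7887 L155597 q7092, e3 q7888 L155606 q7094, e3 q7889 L155618 q6996, e3 q7890 L155641 q7389, e3 q7891 L155645 q6997, e3 q7892 L155658 q6998, e3 q7893 L155671 q6999, e3 q7894 (flp_a L155679) q6958, e3 q7895 L155694 q7426, e3 q7896 (flp_a L163796) q8753, e3 q7897 L155715 q7002, e3 q7898 L155729 q7003, e3 q7899 L155739 q7004, e3 q7900 L155752 q7005, e3 q7901 L155770 q7220, e3 q7902 L155774 q7006, e3 q7903 L155788 q7007, e3 q7904 L155801 q7008, e3 q7905 (flp_a L155809) q6967, e3 q7906 (flp_a L163925) q8763, e3 q7907 L155835 q7011, e3 q7908 L155845 q7012, e3 q7909 L155857 q6972, e3 q7910 L155871 q6973, e3 q7911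 L155881 q7419, e3 q7912 (flp_a L163975) q8767, e3 q7913 (flp_a L163989) q8768, e3 q7914 L155911 q7017, e3 q7915 L155925 q7018, e3 q7916 L155937 q7019, e3 q7917 L155947 q7020, e3 q7918 L155961 q7021, e3 q7919 L155969 q7022, e3 q7920 L155977 q7023, e3 q7921 L155990 q7024, e3 q7922 L156001 q7025, e3 q7923 L156014 q7026, e3 q7924 L156027 q7227, e3 q7925 L156041 q6991, e3 q7926 (flp_a L162895) q8662, e3 q7927 L156066 q7028, e3 q7928 L156079 q6994, e3 q7929 (flp_a L164136) q8780, e3 q7930 L156095 q7031, e3 q7931 (flp_a L163739) q8749, e3 q7932 (flp_a L163768) q8751, e3 q7933 (flp_a L163782) q8752, e3 q7934 L156152 q7001, e3 q7935 (flp_a L164197) q8785, trivial⟩ (by decide +kernel)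

theorem ce_a_124 : ∀ r, r < 64 → sm ga (Qf (7936 + r)) = Qf (tab Gen.a (7936 + r)) :=
  edges_tab (sm ga) Qf (tab Gen.a) 7936 [(7936, 8756), (7937, 8757), (7938, 8758), (7939, 8759), (7940, 8761), (7941, 8762), (7942, 7010), (7943, 8791), (7944, 8765), (7945, 8766), (7946, 7015), (7947, 7016), (7948, 8793), (7949, 8794), (7950, 8772), (7951, 8773), (7952, 8774), (7953, 8775), (7954, 8776), (7955, 8777), (7956, 8796), (7957, 7030), (7958, 8287), (7959, 8518), (7960, 8280), (7961, 8289), (7962, 8802), (7963, 8691), (7964, 8692), (7965, 8693), (7966, 8694), (7967, 8695), (7968, 7385), (7969, 8696), (7970, 8697), (7971, 7369), (7972, 8699), (7973, 8700), (7974, 8701), (7975, 8702), (7976, 7046), (7977, 7765), (7978, 8819), (7979, 8706), (7980, 8707), (7981, 8708), (7982, 8709), (7983, 7319), (7984, 8710), (7985, 8711), (7986, 8713), (7987, 8714), (7988, 8715), (7989, 8716), (7990, 7055), (7991, 7757), (7992, 8838), (7993, 8268), (7994, 7668), (7995, 8719), (7996, 8720), (7997, 7303), (7998,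 7498), (7999, 8721)]
    ⟨e3 q7936 (flp_a L163831) q8756, e3 q7937 (flp_a L163847) q8757, e3 q7938 (flp_a L163858) q8758, e3 q7939 (flp_a L163872) q8759, e3 q7940 (flp_a L163895) q8761, e3 q7941 (flp_a L163911) q8762, e3 q7942 L156257 q7010, e3 q7943 (flp_a L164286) q8791, e3 q7944 (flp_a L163947) q8765, e3 q7945 (flp_a L163961) q8766, e3 q7946 L156311 q7015, e3 q7947 L156325 q7016, e3 q7948 (flp_a L164316) q8793, e3 q7949 (flp_a L164332) q8794, e3 q7950 (flp_a L164029) q8772, e3 q7951 (flp_a L164045) q8773, e3 q7952 (flp_a L164059) q8774, e3 q7953 (flp_a L164075) q8775, e3 q7954 (flp_a L164087) q8776, e3 q7955 (flp_a L164101) q8777, e3 q7956 L164358 q8796, e3 q7957 L156457 q7030, e3 q7958 (flp_a L159649) q8287, e3 q7959 (flp_a L161738) q8518, e3 q7960 (flp_a L159592) q8280, e3 q7961 (flp_a L159667) q8289, e3 q7962 L164423 q8802, e3 q7963 (flp_a L163118) q8691, e3 q7964 (flp_a L163128) q8692, e3 q7965 (flp_a L163138) q8693, e3 q7966 (flp_a L163148) q8694, e3 q7967 (flp_a L163158) q8695,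 e3 q7968 L156546 q7385, e3 q7969 (flp_a L163167) q8696, e3 q7970 (flp_a L163181) q8697, e3 q7971 (flp_a L156593) q7369, e3 q7972 (flp_a L163209) q8699, e3 q7973 (flp_a L163223) q8700, e3 q7974 (flp_a L163231) q8701, e3 q7975 (flp_a L163244) q8702, e3 q7976 (flp_a L156636) q7046, e3 q7977 L156650 q7765, e3 q7978 (flp_a L164587) q8819, e3 q7979 (flp_a L163292) q8706, e3 q7980 (flp_a L163297) q8707, e3 q7981 (flp_a L163311) q8708, e3 q7982 (flp_a L163319) q8709, e3 q7983 L156695 q7319, e3 q7984 (flp_a L163329) q8710, e3 q7985 (flp_a L163342) q8711, e3 q7986 (flp_a L163366) q8713, e3 q7987 (flp_a L163380) q8714, e3 q7988 (flp_a L163390) q8715, e3 q7989 (flp_a L163403) q8716, e3 q7990 (flp_a L156766) q7055, e3 q7991 L156782 q7757, e3 q7992 (flp_a L164775) q8838, e3 q7993 (flp_a L159491) q8268, e3 q7994 L156814 q7668, e3 q7995 (flp_a L163441) q8719, e3 q7996 (flp_a L163455) q8720, e3 q7997 L156840 q7303, e3 q7998 L156854 q7498, e3 q7999 (flp_a L163463) q8721, trivial⟩ (by decide +kernel)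

theorem ce_a_125 : ∀ r, r < 64 → sm ga (Qf (8000 + r)) = Qf (tab Gen.a (8000 + r)) :=
  edges_tab (sm ga) Qf (tab Gen.a) 8000 [(8000, 7062), (8001, 7063), (8002, 8851), (8003, 8852), (8004, 8853), (8005, 8854), (8006, 8728), (8007, 8729), (8008, 8730), (8009, 8731), (8010, 8732), (8011, 8733), (8012, 8734), (8013, 8735), (8014, 8736), (8015, 8737), (8016, 7695), (8017, 8270), (8018, 7690), (8019, 7577), (8020, 8517), (8021, 7593), (8022, 7592), (8023, 8738), (8024, 8739), (8025, 8740), (8026, 8741), (8027, 8742), (8028, 8743), (8029, 8744), (8030, 8745), (8031, 8660), (8032, 8746), (8033, 8519), (8034, 7834), (8035, 8747), (8036, 8748), (8037, 8657), (8038, 8658), (8039, 8659), (8040, 7139), (8041, 7372), (8042, 7140), (8043, 7141), (8044, 7104), (8045, 7488), (8046, 7769), (8047, 8897), (8048, 7144), (8049, 7145), (8050, 7146), (8051, 7147), (8052, 7148), (8053, 7149), (8054, 7115), (8055, 7760), (8056, 8906), (8057, 7152), (8058, 7153), (8059, 7154), (8060, 7155), (8061, 7123), (8062,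 7124), (8063, 7125)]
    ⟨e3 q8000 L156874 q7062, e3 q8001 L156884 q7063, e3 q8002 (flp_a L164920) q8851, e3 q8003 (flp_a L164927) q8852, e3 q8004 (flp_a L164941) q8853, e3 q8005 (flp_a L164951) q8854, e3 q8006 (flp_a L163539) q8728, e3 q8007 (flp_a L163547) q8729, e3 q8008 (flp_a L163557) q8730, e3 q8009 (flp_a L163565) q8731, e3 q8010 (flp_a L163579) q8732, e3 q8011 (flp_a L163589) q8733, e3 q8012 (flp_a L163597) q8734, e3 q8013 (flp_a L163605) q8735, e3 q8014 (flp_a L163619) q8736, e3 q8015 (flp_a L163629) q8737, e3 q8016 L156989 q7695, e3 q8017 (flp_a L159511) q8270, e3 q8018 L157003 q7690, e3 q8019 L157014 q7577, e3 q8020 (flp_a L161723) q8517, e3 q8021 L157034 q7593, e3 q8022 L157047 q7592, e3 q8023 (flp_a L163639) q8738, e3 q8024 (flp_a L163652) q8739, e3 q8025 (flp_a L163658) q8740, e3 q8026 (flp_a L163668) q8741, e3 q8027 (flp_a L163677) q8742, e3 q8028 (flp_a L163685) q8743, e3 q8029 (flp_a L163696) q8744, e3 q8030 (flp_a L163700) q8745, e3 q8031 (flp_a L162866) q8660, e3 q8032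 (flp_a L163716) q8746, e3 q8033 (flp_a L161753) q8519, e3 q8034 L157127 q7834, e3 q8035 (flp_a L163721) q8747, e3 q8036 (flp_a L163732) q8748, e3 q8037 (flp_a L162823) q8657, e3 q8038 (flp_a L162837) q8658, e3 q8039 (flp_a L162852) q8659, e3 q8040 L157178 q7139, e3 q8041 L157194 q7372, e3 q8042 L157208 q7140, e3 q8043 L157224 q7141, e3 q8044 L157238 q7104, e3 q8045 L157252 q7488, e3 q8046 L157266 q7769, e3 q8047 (flp_a L165275) q8897, e3 q8048 L157286 q7144, e3 q8049 L157300 q7145, e3 q8050 L157312 q7146, e3 q8051 L157325 q7147, e3 q8052 L157335 q7148, e3 q8053 L157344 q7149, e3 q8054 L157358 q7115, e3 q8055 L157372 q7760, e3 q8056 (flp_a L165392) q8906, e3 q8057 L157395 q7152, e3 q8058 L157409 q7153, e3 q8059 L157423 q7154, e3 q8060 L157435 q7155, e3 q8061 L157445 q7123, e3 q8062 L157458 q7124, e3 q8063 L157469 q7125, trivial⟩ (by decide +kernel)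

theorem ce_a_126 : ∀ r, r < 64 → sm ga (Qf (8064 + r)) = Qf (tab Gen.a (8064 + r)) :=
  edges_tab (sm ga) Qf (tab Gen.a) 8064 [(8064, 7476), (8065, 8912), (8066, 8913), (8067, 7161), (8068, 7162), (8069, 7163), (8070, 7164), (8071, 7165), (8072, 7166), (8073, 7167), (8074, 7168), (8075, 7169), (8076, 8926), (8077, 8896), (8078, 7143), (8079, 8900), (8080, 8901), (8081, 8902), (8082, 8903), (8083, 8904), (8084, 8905), (8085, 7151), (8086, 8908), (8087, 8909), (8088, 8910), (8089, 8911), (8090, 7159), (8091, 7160), (8092, 8933), (8093, 8934), (8094, 8917), (8095, 8918), (8096, 8919), (8097, 8920), (8098, 8937), (8099, 8922), (8100, 8923), (8101, 7170), (8102, 8102), (8103, 7374), (8104, 8104), (8105, 8105), (8106, 8106), (8107, 8107), (8108, 8108), (8109, 7176), (8110, 8945), (8111, 8946), (8112, 8112), (8113, 8113), (8114, 8114), (8115, 8115), (8116, 8116), (8117, 7377), (8118, 7189), (8119, 7380), (8120, 7383), (8121, 7199), (8122, 7791), (8123, 7358), (8124, 7360), (8125, 7362), (8126,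 7363), (8127, 8712)]
    ⟨e3 q8064 L157477 q7476, e3 q8065 (flp_a L165473) q8912, e3 q8066 (flp_a L165486) q8913, e3 q8067 L157505 q7161, e3 q8068 L157518 q7162, e3 q8069 L157528 q7163, e3 q8070 L157533 q7164, e3 q8071 L157541 q7165, e3 q8072 L157549 q7166, e3 q8073 L157557 q7167, e3 q8074 L157566 q7168, e3 q8075 L157576 q7169, e3 q8076 L165616 q8926, e3 q8077 (flp_a L165262) q8896, e3 q8078 L157605 q7143, e3 q8079 (flp_a L165315) q8900, e3 q8080 (flp_a L165329) q8901, e3 q8081 (flp_a L165343) q8902, e3 q8082 (flp_a L165357) q8903, e3 q8083 (flp_a L165366) q8904, e3 q8084 (flp_a L165377) q8905, e3 q8085 L157688 q7151, e3 q8086 (flp_a L165422) q8908, e3 q8087 (flp_a L165435) q8909, e3 q8088 (flp_a L165451) q8910, e3 q8089 (flp_a L165463) q8911, e3 q8090 L157751 q7159, e3 q8091 L157764 q7160, e3 q8092 (flp_a L165720) q8933, e3 q8093 (flp_a L165734) q8934, e3 q8094 (flp_a L165524) q8917, e3 q8095 (flp_a L165538) q8918, e3 q8096 (flp_a L165545) q8919, e3 q8097 (flp_a L165556) q8920, e3 q8098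 L165771 q8937, e3 q8099 (flp_a L165574) q8922, e3 q8100 (flp_a L165586) q8923, e3 q8101 (flp_a L157867) q7170, e3 q8102 L157877 q8102, e3 q8103 (flp_a L157896) q7374, e3 q8104 L157900 q8104, e3 q8105 L157911 q8105, e3 q8106 L157922 q8106, e3 q8107 L157926 q8107, e3 q8108 L157934 q8108, e3 q8109 (flp_a L157939) q7176, e3 q8110 (flp_a L165863) q8945, e3 q8111 (flp_a L165876) q8946, e3 q8112 L157968 q8112, e3 q8113 L157979 q8113, e3 q8114 L157986 q8114, e3 q8115 L157996 q8115, e3 q8116 L158006 q8116, e3 q8117 L158011 q7377, e3 q8118 L158027 q7189, e3 q8119 L158040 q7380, e3 q8120 L158055 q7383, e3 q8121 L158068 q7199, e3 q8122 L158085 q7791, e3 q8123 L158101 q7358, e3 q8124 L158115 q7360, e3 q8125 L158128 q7362, e3 q8126 L158140 q7363, e3 q8127 (flp_a L163358) q8712, trivial⟩ (by decide +kernel)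

theorem ce_a_127 : ∀ r, r < 64 → sm ga (Qf (8128 + r)) = Qf (tab Gen.a (8128 + r)) :=
  edges_tab (sm ga) Qf (tab Gen.a) 8128 [(8128, 7364), (8129, 7365), (8130, 7209), (8131, 8958), (8132, 7368), (8133, 7370), (8134, 7371), (8135, 7373), (8136, 7376), (8137, 7379), (8138, 8760), (8139, 7232), (8140, 7224), (8141, 8966), (8142, 7235), (8143, 7793), (8144, 7236), (8145, 7230), (8146, 8969), (8147, 7239), (8148, 8965), (8149, 7234), (8150, 8972), (8151, 7238), (8152, 7397), (8153, 7398), (8154, 7399), (8155, 7400), (8156, 7401), (8157, 8980), (8158, 7403), (8159, 7404), (8160, 7405), (8161, 7406), (8162, 7407), (8163, 7361), (8164, 7387), (8165, 7699), (8166, 7409), (8167, 7411), (8168, 7250), (8169, 8844), (8170, 8993), (8171, 7415), (8172, 7416), (8173, 7417), (8174, 7418), (8175, 7420), (8176, 7421), (8177, 7366), (8178, 7367), (8179, 7390), (8180, 7391), (8181, 7704), (8182, 7705), (8183, 7422), (8184, 7423), (8185, 7424), (8186, 7425), (8187, 7427), (8188, 7428), (8189, 7266), (8190,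 7267), (8191, 9018)]
    ⟨e3 q8128 L158168 q7364, e3 q8129 L158180 q7365, e3 q8130 (flp_a L158192) q7209, e3 q8131 (flp_a L166010) q8958, e3 q8132 L158214 q7368, e3 q8133 L158226 q7370, e3 q8134 L158236 q7371, e3 q8135 L158244 q7373, e3 q8136 L158258 q7376, e3 q8137 L158270 q7379, e3 q8138 (flp_a L163881) q8760, e3 q8139 L158294 q7232, e3 q8140 L158306 q7224, e3 q8141 (flp_a L166102) q8966, e3 q8142 L158322 q7235, e3 q8143 L158332 q7793, e3 q8144 L158345 q7236, e3 q8145 L158356 q7230, e3 q8146 (flp_a L166129) q8969, e3 q8147 L158378 q7239, e3 q8148 (flp_a L166088) q8965, e3 q8149 L158403 q7234, e3 q8150 (flp_a L166162) q8972, e3 q8151 L158423 q7238, e3 q8152 L158434 q7397, e3 q8153 L158443 q7398, e3 q8154 L158456 q7399, e3 q8155 L158464 q7400, e3 q8156 L158473 q7401, e3 q8157 L166240 q8980, e3 q8158 L158487 q7403, e3 q8159 L158493 q7404, e3 q8160 L158501 q7405, e3 q8161 L158508 q7406, e3 q8162 L158517 q7407, e3 q8163 L158522 q7361, e3 q8164 L158530 q7387, e3 q8165 L158546 q7699, e3 q8166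 L158552 q7409, e3 q8167 L158562 q7411, e3 q8168 (flp_a L158574) q7250, e3 q8169 (flp_a L164844) q8844, e3 q8170 (flp_a L166355) q8993, e3 q8171 L158602 q7415, e3 q8172 L158610 q7416, e3 q8173 L158618 q7417, e3 q8174 L158628 q7418, e3 q8175 L158636 q7420, e3 q8176 L158646 q7421, e3 q8177 L158660 q7366, e3 q8178 L158666 q7367, e3 q8179 L158676 q7390, e3 q8180 L158685 q7391, e3 q8181 L158693 q7704, e3 q8182 L158705 q7705, e3 q8183 L158715 q7422, e3 q8184 L158723 q7423, e3 q8185 L158731 q7424, e3 q8186 L158741 q7425, e3 q8187 L158749 q7427, e3 q8188 L158759 q7428, e3 q8189 L158773 q7266, e3 q8190 L158783 q7267, e3 q8191 (flp_a L166585) q9018, trivial⟩ (by decide +kernel)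

theorem ce_a_128 : ∀ r, r < 64 → sm ga (Qf (8192 + r)) = Qf (tab Gen.a (8192 + r)) :=
  edges_tab (sm ga) Qf (tab Gen.a) 8192 [(8192, 8827), (8193, 9019), (8194, 9020), (8195, 7435), (8196, 7436), (8197, 7437), (8198, 7438), (8199, 7439), (8200, 7440), (8201, 7441), (8202, 7442), (8203, 7443), (8204, 7444), (8205, 7445), (8206, 7446), (8207, 7447), (8208, 7448), (8209, 7449), (8210, 7452), (8211, 7454), (8212, 7455), (8213, 7456), (8214, 7457), (8215, 7458), (8216, 7459), (8217, 7460), (8218, 7461), (8219, 7462), (8220, 7463), (8221, 7464), (8222, 7465), (8223, 7466), (8224, 7467), (8225, 7468), (8226, 7471), (8227, 7336), (8228, 7730), (8229, 7337), (8230, 7304), (8231, 8848), (8232, 9060), (8233, 7340), (8234, 7341), (8235, 7342), (8236, 7343), (8237, 7733), (8238, 7734), (8239, 7344), (8240, 7345), (8241, 7346), (8242, 7320), (8243, 7321), (8244, 8831), (8245, 9068), (8246, 9069), (8247, 7351), (8248, 7352), (8249, 7353), (8250, 7354), (8251, 7355), (8252, 7742), (8253, 7356), (8254,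 7334), (8255, 9077)]
    ⟨e3 q8192 (flp_a L164660) q8827, e3 q8193 (flp_a L166596) q9019, e3 q8194 (flp_a L166608) q9020, e3 q8195 L158820 q7435, e3 q8196 L158828 q7436, e3 q8197 L158834 q7437, e3 q8198 L158842 q7438, e3 q8199 L158848 q7439, e3 q8200 L158856 q7440, e3 q8201 L158864 q7441, e3 q8202 L158868 q7442, e3 q8203 L158878 q7443, e3 q8204 L158886 q7444, e3 q8205 L158900 q7445, e3 q8206 L158907 q7446, e3 q8207 L158916 q7447, e3 q8208 L158925 q7448, e3 q8209 L158937 q7449, e3 q8210 L158949 q7452, e3 q8211 L158962 q7454, e3 q8212 L158969 q7455, e3 q8213 L158978 q7456, e3 q8214 L158991 q7457, e3 q8215 L159000 q7458, e3 q8216 L159007 q7459, e3 q8217 L159012 q7460, e3 q8218 L159023 q7461, e3 q8219 L159036 q7462, e3 q8220 L159045 q7463, e3 q8221 L159056 q7464, e3 q8222 L159070 q7465, e3 q8223 L159080 q7466, e3 q8224 L159092 q7467, e3 q8225 L159099 q7468, e3 q8226 L159109 q7471, e3 q8227 L159121 q7336, e3 q8228 L159131 q7730, e3 q8229 L159142 q7337, e3 q8230 L159154 q7304, e3 q8231 (flp_a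 L164884) q8848, e3 q8232 (flp_a L166980) q9060, e3 q8233 L159179 q7340, e3 q8234 L159193 q7341, e3 q8235 L159200 q7342, e3 q8236 L159210 q7343, e3 q8237 L159216 q7733, e3 q8238 L159227 q7734, e3 q8239 L159235 q7344, e3 q8240 L159247 q7345, e3 q8241 L159255 q7346, e3 q8242 L159265 q7320, e3 q8243 L159276 q7321, e3 q8244 (flp_a L164698) q8831, e3 q8245 (flp_a L167063) q9068, e3 q8246 (flp_a L167073) q9069, e3 q8247 L159303 q7351, e3 q8248 L159311 q7352, e3 q8249 L159320 q7353, e3 q8250 L159326 q7354, e3 q8251 L159332 q7355, e3 q8252 L159344 q7742, e3 q8253 L159353 q7356, e3 q8254 L159365 q7334, e3 q8255 (flp_a L167136) q9077, trivial⟩ (by decide +kernel)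

theorem ce_a_129 : ∀ r, r < 64 → sm ga (Qf (8256 + r)) = Qf (tab Gen.a (8256 + r)) :=
  edges_tab (sm ga) Qf (tab Gen.a) 8256 [(8256, 8925), (8257, 9059), (8258, 7339), (8259, 9079), (8260, 9063), (8261, 9066), (8262, 9067), (8263, 7349), (8264, 7350), (8265, 9080), (8266, 9074), (8267, 8973), (8268, 7993), (8269, 8953), (8270, 8017), (8271, 8954), (8272, 8989), (8273, 8955), (8274, 8957), (8275, 9004), (8276, 8698), (8277, 9005), (8278, 9006), (8279, 8799), (8280, 7960), (8281, 8960), (8282, 8814), (8283, 8961), (8284, 8962), (8285, 8895), (8286, 8939), (8287, 7958), (8288, 8940), (8289, 7961), (8290, 8963), (8291, 7634), (8292, 7660), (8293, 7658), (8294, 8393), (8295, 7657), (8296, 8394), (8297, 8395), (8298, 8990), (8299, 8750), (8300, 9007), (8301, 7395), (8302, 7396), (8303, 9110), (8304, 8974), (8305, 8976), (8306, 8977), (8307, 8978), (8308, 8979), (8309, 7402), (8310, 9116), (8311, 9117), (8312, 8983), (8313, 8984), (8314, 8985), (8315, 8986), (8316, 8520), (8317, 8987), (8318,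 8988), (8319, 7665)]
    ⟨e3 q8256 (flp_a L165614) q8925, e3 q8257 (flp_a L166969) q9059, e3 q8258 L159394 q7339, e3 q8259 (flp_a L167150) q9079, e3 q8260 (flp_a L167009) q9063, e3 q8261 (flp_a L167040) q9066, e3 q8262 (flp_a L167051) q9067, e3 q8263 L159445 q7349, e3 q8264 L159455 q7350, e3 q8265 (flp_a L167159) q9080, e3 q8266 (flp_a L167106) q9074, e3 q8267 (flp_a L166174) q8973, e3 q8268 L159491 q7993, e3 q8269 (flp_a L165943) q8953, e3 q8270 L159511 q8017, e3 q8271 (flp_a L165957) q8954, e3 q8272 (flp_a L166311) q8989, e3 q8273 (flp_a L165972) q8955, e3 q8274 (flp_a L165998) q8957, e3 q8275 (flp_a L166457) q9004, e3 q8276 (flp_a L163201) q8698, e3 q8277 (flp_a L166464) q9005, e3 q8278 (flp_a L166472) q9006, e3 q8279 L164405 q8799, e3 q8280 L159592 q7960, e3 q8281 (flp_a L166030) q8960, e3 q8282 (flp_a L164532) q8814, e3 q8283 (flp_a L166042) q8961, e3 q8284 (flp_a L166054) q8962, e3 q8285 (flp_a L165246) q8895, e3 q8286 (flp_a L165792) q8939, e3 q8287 L159649 q7958, e3 q8288 (flp_a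 L165806) q8940, e3 q8289 L159667 q7961, e3 q8290 (flp_a L166064) q8963, e3 q8291 L159683 q7634, e3 q8292 L159698 q7660, e3 q8293 L159711 q7658, e3 q8294 (flp_a L160529) q8393, e3 q8295 L159739 q7657, e3 q8296 (flp_a L160539) q8394, e3 q8297 (flp_a L160552) q8395, e3 q8298 (flp_a L166319) q8990, e3 q8299 (flp_a L163755) q8750, e3 q8300 (flp_a L166480) q9007, e3 q8301 L159802 q7395, e3 q8302 L159812 q7396, e3 q8303 (flp_a L167436) q9110, e3 q8304 (flp_a L166184) q8974, e3 q8305 (flp_a L166202) q8976, e3 q8306 (flp_a L166212) q8977, e3 q8307 (flp_a L166222) q8978, e3 q8308 (flp_a L166233) q8979, e3 q8309 (flp_a L159862) q7402, e3 q8310 (flp_a L167491) q9116, e3 q8311 (flp_a L167501) q9117, e3 q8312 (flp_a L166265) q8983, e3 q8313 (flp_a L166275) q8984, e3 q8314 (flp_a L166281) q8985, e3 q8315 (flp_a L166289) q8986, e3 q8316 (flp_a L161766) q8520, e3 q8317 (flp_a L166295) q8987, e3 q8318 (flp_a L166304) q8988, e3 q8319 L159934 q7665, trivial⟩ (by decide +kernel)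

theorem ce_a_130 : ∀ r, r < 64 → sm ga (Qf (8320 + r)) = Qf (tab Gen.a (8320 + r)) :=
  edges_tab (sm ga) Qf (tab Gen.a) 8320 [(8320, 7667), (8321, 8992), (8322, 7413), (8323, 7414), (8324, 9135), (8325, 8858), (8326, 9136), (8327, 9137), (8328, 8997), (8329, 8998), (8330, 8999), (8331, 8725), (8332, 9000), (8333, 9001), (8334, 9002), (8335, 8769), (8336, 9003), (8337, 9011), (8338, 9012), (8339, 9013), (8340, 8704), (8341, 9014), (8342, 9015), (8343, 9016), (8344, 8754), (8345, 9017), (8346, 7431), (8347, 7432), (8348, 7433), (8349, 7434), (8350, 9166), (8351, 9167), (8352, 9168), (8353, 8821), (8354, 9169), (8355, 9170), (8356, 9171), (8357, 9027), (8358, 9028), (8359, 9029), (8360, 9030), (8361, 9031), (8362, 9032), (8363, 9033), (8364, 9034), (8365, 9035), (8366, 9036), (8367, 9037), (8368, 9038), (8369, 9039), (8370, 9040), (8371, 9041), (8372, 9042), (8373, 9043), (8374, 9044), (8375, 9045), (8376, 9046), (8377, 7647), (8378, 7645), (8379, 7638), (8380, 7648), (8381, 9047), (8382,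 9048), (8383, 9049)]
    ⟨e3 q8320 L159944 q7667, e3 q8321 (flp_a L166343) q8992, e3 q8322 L159964 q7413, e3 q8323 L159974 q7414, e3 q8324 (flp_a L167650) q9135, e3 q8325 (flp_a L164978) q8858, e3 q8326 (flp_a L167657) q9136, e3 q8327 (flp_a L167667) q9137, e3 q8328 (flp_a L166391) q8997, e3 q8329 (flp_a L166399) q8998, e3 q8330 (flp_a L166409) q8999, e3 q8331 (flp_a L163507) q8725, e3 q8332 (flp_a L166419) q9000, e3 q8333 (flp_a L166427) q9001, e3 q8334 (flp_a L166439) q9002, e3 q8335 (flp_a L163997) q8769, e3 q8336 (flp_a L166445) q9003, e3 q8337 (flp_a L166519) q9011, e3 q8338 (flp_a L166527) q9012, e3 q8339 (flp_a L166537) q9013, e3 q8340 (flp_a L163270) q8704, e3 q8341 (flp_a L166547) q9014, e3 q8342 (flp_a L166555) q9015, e3 q8343 (flp_a L166567) q9016, e3 q8344 (flp_a L163809) q8754, e3 q8345 (flp_a L166573) q9017, e3 q8346 L160149 q7431, e3 q8347 L160159 q7432, e3 q8348 L160165 q7433, e3 q8349 L160175 q7434, e3 q8350 (flp_a L167908) q9166, e3 q8351 (flp_a L167916) q9167, e3 q8352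 (flp_a L167926) q9168, e3 q8353 (flp_a L164609) q8821, e3 q8354 (flp_a L167938) q9169, e3 q8355 (flp_a L167946) q9170, e3 q8356 (flp_a L167956) q9171, e3 q8357 (flp_a L166657) q9027, e3 q8358 (flp_a L166663) q9028, e3 q8359 (flp_a L166673) q9029, e3 q8360 (flp_a L166685) q9030, e3 q8361 (flp_a L166695) q9031, e3 q8362 (flp_a L166701) q9032, e3 q8363 (flp_a L166707) q9033, e3 q8364 (flp_a L166715) q9034, e3 q8365 (flp_a L166723) q9035, e3 q8366 (flp_a L166727) q9036, e3 q8367 (flp_a L166731) q9037, e3 q8368 (flp_a L166739) q9038, e3 q8369 (flp_a L166751) q9039, e3 q8370 (flp_a L166765) q9040, e3 q8371 (flp_a L166775) q9041, e3 q8372 (flp_a L166788) q9042, e3 q8373 (flp_a L166801) q9043, e3 q8374 (flp_a L166810) q9044, e3 q8375 (flp_a L166819) q9045, e3 q8376 (flp_a L166828) q9046, e3 q8377 L160385 q7647, e3 q8378 L160398 q7645, e3 q8379 L160408 q7638, e3 q8380 L160420 q7648, e3 q8381 (flp_a L166842) q9047, e3 q8382 (flp_a L166851) q9048, e3 q8383 (flp_a L166860) q9049, trivial⟩ (by decide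 +kernel)

theorem ce_a_131 : ∀ r, r < 64 → sm ga (Qf (8384 + r)) = Qf (tab Gen.a (8384 + r)) :=
  edges_tab (sm ga) Qf (tab Gen.a) 8384 [(8384, 9050), (8385, 9051), (8386, 9052), (8387, 9053), (8388, 9054), (8389, 9055), (8390, 9056), (8391, 9057), (8392, 8845), (8393, 8294), (8394, 8296), (8395, 8297), (8396, 7477), (8397, 7478), (8398, 8914), (8399, 9216), (8400, 7502), (8401, 7503), (8402, 7504), (8403, 7505), (8404, 7489), (8405, 7490), (8406, 8898), (8407, 9220), (8408, 9221), (8409, 7510), (8410, 7511), (8411, 7512), (8412, 8849), (8413, 7501), (8414, 9227), (8415, 9219), (8416, 7508), (8417, 7509), (8418, 9229), (8419, 9225), (8420, 8420), (8421, 8421), (8422, 8422), (8423, 8423), (8424, 8424), (8425, 8425), (8426, 7521), (8427, 7522), (8428, 9234), (8429, 9235), (8430, 9236), (8431, 8431), (8432, 8432), (8433, 8433), (8434, 8434), (8435, 8435), (8436, 8436), (8437, 7534), (8438, 7535), (8439, 7536), (8440, 7537), (8441, 7538), (8442, 7539), (8443, 9246), (8444, 9247), (8445, 9248),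 (8446, 9249), (8447, 9250)]
    ⟨e3 q8384 (flp_a L166873) q9050, e3 q8385 (flp_a L166880) q9051, e3 q8386 (flp_a L166887) q9052, e3 q8387 (flp_a L166896) q9053, e3 q8388 (flp_a L166911) q9054, e3 q8389 (flp_a L166922) q9055, e3 q8390 (flp_a L166934) q9056, e3 q8391 (flp_a L166947) q9057, e3 q8392 (flp_a L164858) q8845, e3 q8393 L160529 q8294, e3 q8394 L160539 q8296, e3 q8395 L160552 q8297, e3 q8396 L160569 q7477, e3 q8397 L160580 q7478, e3 q8398 (flp_a L165498) q8914, e3 q8399 (flp_a L168334) q9216, e3 q8400 L160607 q7502, e3 q8401 L160617 q7503, e3 q8402 L160626 q7504, e3 q8403 L160634 q7505, e3 q8404 L160644 q7489, e3 q8405 L160654 q7490, e3 q8406 (flp_a L165289) q8898, e3 q8407 (flp_a L168372) q9220, e3 q8408 (flp_a L168380) q9221, e3 q8409 L160688 q7510, e3 q8410 L160698 q7511, e3 q8411 L160706 q7512, e3 q8412 (flp_a L164898) q8849, e3 q8413 L160720 q7501, e3 q8414 (flp_a L168430) q9227, e3 q8415 (flp_a L168363) q9219, e3 q8416 L160746 q7508, e3 q8417 L160752 q7509, e3 q8418 (flp_a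 L168454) q9229, e3 q8419 (flp_a L168412) q9225, e3 q8420 L160776 q8420, e3 q8421 L160785 q8421, e3 q8422 L160796 q8422, e3 q8423 L160805 q8423, e3 q8424 L160814 q8424, e3 q8425 L160821 q8425, e3 q8426 L160830 q7521, e3 q8427 L160840 q7522, e3 q8428 (flp_a L168502) q9234, e3 q8429 (flp_a L168514) q9235, e3 q8430 (flp_a L168524) q9236, e3 q8431 L160875 q8431, e3 q8432 L160887 q8432, e3 q8433 L160897 q8433, e3 q8434 L160908 q8434, e3 q8435 L160915 q8435, e3 q8436 L160920 q8436, e3 q8437 L160925 q7534, e3 q8438 L160932 q7535, e3 q8439 L160942 q7536, e3 q8440 L160953 q7537, e3 q8441 L160964 q7538, e3 q8442 L160974 q7539, e3 q8443 (flp_a L168615) q9246, e3 q8444 (flp_a L168623) q9247, e3 q8445 (flp_a L168634) q9248, e3 q8446 (flp_a L168646) q9249, e3 q8447 (flp_a L168655) q9250, trivial⟩ (by decide +kernel)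

theorem ce_a_132 : ∀ r, r < 64 → sm ga (Qf (8448 + r)) = Qf (tab Gen.a (8448 + r)) :=
  edges_tab (sm ga) Qf (tab Gen.a) 8448 [(8448, 9251), (8449, 9252), (8450, 9253), (8451, 9254), (8452, 8524), (8453, 8453), (8454, 8454), (8455, 8455), (8456, 8456), (8457, 8457), (8458, 8458), (8459, 8459), (8460, 8460), (8461, 8461), (8462, 8462), (8463, 8463), (8464, 8879), (8465, 8465), (8466, 8466), (8467, 8467), (8468, 8468), (8469, 8469), (8470, 8470), (8471, 8471), (8472, 8472), (8473, 8473), (8474, 8474), (8475, 8475), (8476, 8878), (8477, 8477), (8478, 8478), (8479, 8479), (8480, 8480), (8481, 8481), (8482, 8482), (8483, 8483), (8484, 8484), (8485, 8876), (8486, 8486), (8487, 7586), (8488, 7587), (8489, 7588), (8490, 9291), (8491, 9292), (8492, 9293), (8493, 7599), (8494, 8881), (8495, 7597), (8496, 7598), (8497, 7636), (8498, 7641), (8499, 7642), (8500, 7643), (8501, 7644), (8502, 7646), (8503, 7649), (8504, 7650), (8505, 7651), (8506, 7652), (8507, 7653), (8508, 7654), (8509, 7655), (8510,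 7656), (8511, 7659)]
    ⟨e3 q8448 (flp_a L168665) q9251, e3 q8449 (flp_a L168674) q9252, e3 q8450 (flp_a L168686) q9253, e3 q8451 (flp_a L168697) q9254, e3 q8452 (flp_a L161798) q8524, e3 q8453 L161076 q8453, e3 q8454 L161084 q8454, e3 q8455 L161095 q8455, e3 q8456 L161107 q8456, e3 q8457 L161114 q8457, e3 q8458 L161123 q8458, e3 q8459 L161130 q8459, e3 q8460 L161141 q8460, e3 q8461 L161147 q8461, e3 q8462 L161155 q8462, e3 q8463 L161163 q8463, e3 q8464 (flp_a L165131) q8879, e3 q8465 L161183 q8465, e3 q8466 L161195 q8466, e3 q8467 L161208 q8467, e3 q8468 L161221 q8468, e3 q8469 L161228 q8469, e3 q8470 L161239 q8470, e3 q8471 L161246 q8471, e3 q8472 L161258 q8472, e3 q8473 L161265 q8473, e3 q8474 L161274 q8474, e3 q8475 L161285 q8475, e3 q8476 (flp_a L165117) q8878, e3 q8477 L161305 q8477, e3 q8478 L161310 q8478, e3 q8479 L161317 q8479, e3 q8480 L161328 q8480, e3 q8481 L161339 q8481, e3 q8482 L161346 q8482, e3 q8483 L161353 q8483, e3 q8484 L161360 q8484, e3 q8485 (flp_a L165103) q8876,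 e3 q8486 L161379 q8486, e3 q8487 L161390 q7586, e3 q8488 L161401 q7587, e3 q8489 L161411 q7588, e3 q8490 (flp_a L169051) q9291, e3 q8491 (flp_a L169063) q9292, e3 q8492 (flp_a L169072) q9293, e3 q8493 L161442 q7599, e3 q8494 (flp_a L165150) q8881, e3 q8495 L161459 q7597, e3 q8496 L161470 q7598, e3 q8497 L161477 q7636, e3 q8498 L161489 q7641, e3 q8499 L161497 q7642, e3 q8500 L161509 q7643, e3 q8501 L161517 q7644, e3 q8502 L161527 q7646, e3 q8503 L161540 q7649, e3 q8504 L161556 q7650, e3 q8505 L161574 q7651, e3 q8506 L161588 q7652, e3 q8507 L161601 q7653, e3 q8508 L161616 q7654, e3 q8509 L161633 q7655, e3 q8510 L161646 q7656, e3 q8511 L161658 q7659, trivial⟩ (by decide +kernel)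

theorem ce_a_133 : ∀ r, r < 64 → sm ga (Qf (8512 + r)) = Qf (tab Gen.a (8512 + r)) :=
  edges_tab (sm ga) Qf (tab Gen.a) 8512 [(8512, 7661), (8513, 7662), (8514, 7663), (8515, 7664), (8516, 7666), (8517, 8020), (8518, 7959), (8519, 8033), (8520, 8316), (8521, 9237), (8522, 9203), (8523, 8525), (8524, 8452), (8525, 8523), (8526, 9297), (8527, 9298), (8528, 9299), (8529, 9300), (8530, 9301), (8531, 9202), (8532, 9302), (8533, 9200), (8534, 9201), (8535, 9303), (8536, 9304), (8537, 9107), (8538, 9305), (8539, 9133), (8540, 9102), (8541, 9132), (8542, 8842), (8543, 9112), (8544, 8544), (8545, 8545), (8546, 8546), (8547, 8547), (8548, 8548), (8549, 8549), (8550, 8550), (8551, 8551), (8552, 8552), (8553, 8553), (8554, 8554), (8555, 8555), (8556, 8556), (8557, 8557), (8558, 8875), (8559, 8975), (8560, 7751), (8561, 7752), (8562, 7753), (8563, 7754), (8564, 7755), (8565, 8991), (8566, 7756), (8567, 7758), (8568, 7759), (8569, 7761), (8570, 9008), (8571, 9009), (8572, 9010), (8573, 7762), (8574,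 7763), (8575, 7764)]
    ⟨e3 q8512 L161669 q7661, e3 q8513 L161681 q7662, e3 q8514 L161690 q7663, e3 q8515 L161703 q7664, e3 q8516 L161712 q7666, e3 q8517 L161723 q8020, e3 q8518 L161738 q7959, e3 q8519 L161753 q8033, e3 q8520 L161766 q8316, e3 q8521 (flp_a L168535) q9237, e3 q8522 (flp_a L168212) q9203, e3 q8523 (flp_a L161808) q8525, e3 q8524 L161798 q8452, e3 q8525 L161808 q8523, e3 q8526 (flp_a L169099) q9297, e3 q8527 (flp_a L169110) q9298, e3 q8528 (flp_a L169120) q9299, e3 q8529 (flp_a L169133) q9300, e3 q8530 (flp_a L169147) q9301, e3 q8531 (flp_a L168202) q9202, e3 q8532 (flp_a L169161) q9302, e3 q8533 (flp_a L168177) q9200, e3 q8534 (flp_a L168187) q9201, e3 q8535 (flp_a L169171) q9303, e3 q8536 (flp_a L169187) q9304, e3 q8537 (flp_a L167408) q9107, e3 q8538 (flp_a L169202) q9305, e3 q8539 (flp_a L167630) q9133, e3 q8540 (flp_a L167359) q9102, e3 q8541 (flp_a L167618) q9132, e3 q8542 (flp_a L164826) q8842, e3 q8543 (flp_a L167451) q9112, e3 q8544 L161960 q8544, e3 q8545 L161975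 q8545, e3 q8546 L161989 q8546, e3 q8547 L161999 q8547, e3 q8548 L162007 q8548, e3 q8549 L162013 q8549, e3 q8550 L162020 q8550, e3 q8551 L162035 q8551, e3 q8552 L162049 q8552, e3 q8553 L162061 q8553, e3 q8554 L162068 q8554, e3 q8555 L162075 q8555, e3 q8556 L162086 q8556, e3 q8557 L162097 q8557, e3 q8558 (flp_a L165094) q8875, e3 q8559 (flp_a L166197) q8975, e3 q8560 L162122 q7751, e3 q8561 L162130 q7752, e3 q8562 L162138 q7753, e3 q8563 L162148 q7754, e3 q8564 L162156 q7755, e3 q8565 (flp_a L166331) q8991, e3 q8566 L162169 q7756, e3 q8567 L162174 q7758, e3 q8568 L162182 q7759, e3 q8569 L162190 q7761, e3 q8570 (flp_a L166488) q9008, e3 q8571 (flp_a L166497) q9009, e3 q8572 (flp_a L166509) q9010, e3 q8573 L162221 q7762, e3 q8574 L162229 q7763, e3 q8575 L162237 q7764, trivial⟩ (by decide +kernel)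

theorem ce_a_134 : ∀ r, r < 64 → sm ga (Qf (8576 + r)) = Qf (tab Gen.a (8576 + r)) :=
  edges_tab (sm ga) Qf (tab Gen.a) 8576 [(8576, 7766), (8577, 7767), (8578, 7768), (8579, 7770), (8580, 7771), (8581, 7772), (8582, 7773), (8583, 7774), (8584, 7775), (8585, 7776), (8586, 7777), (8587, 7778), (8588, 7779), (8589, 7780), (8590, 7781), (8591, 7782), (8592, 7783), (8593, 7784), (8594, 7785), (8595, 7786), (8596, 7789), (8597, 9058), (8598, 7744), (8599, 7745), (8600, 9064), (8601, 9065), (8602, 7746), (8603, 7747), (8604, 7748), (8605, 7749), (8606, 9379), (8607, 9075), (8608, 9076), (8609, 7750), (8610, 9370), (8611, 9371), (8612, 9375), (8613, 9376), (8614, 9377), (8615, 9331), (8616, 9332), (8617, 9333), (8618, 9334), (8619, 9309), (8620, 9335), (8621, 9336), (8622, 8839), (8623, 9338), (8624, 9339), (8625, 8840), (8626, 9340), (8627, 9341), (8628, 8907), (8629, 9342), (8630, 9347), (8631, 8820), (8632, 9348), (8633, 9349), (8634, 9350), (8635, 9351), (8636, 8822), (8637, 9352), (8638,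 9353), (8639, 9354)]
    ⟨e3 q8576 L162247 q7766, e3 q8577 L162255 q7767, e3 q8578 L162263 q7768, e3 q8579 L162269 q7770, e3 q8580 L162277 q7771, e3 q8581 L162285 q7772, e3 q8582 L162294 q7773, e3 q8583 L162301 q7774, e3 q8584 L162309 q7775, e3 q8585 L162318 q7776, e3 q8586 L162326 q7777, e3 q8587 L162333 q7778, e3 q8588 L162344 q7779, e3 q8589 L162356 q7780, e3 q8590 L162362 q7781, e3 q8591 L162376 q7782, e3 q8592 L162387 q7783, e3 q8593 L162396 q7784, e3 q8594 L162401 q7785, e3 q8595 L162414 q7786, e3 q8596 L162428 q7789, e3 q8597 (flp_a L166957) q9058, e3 q8598 L162447 q7744, e3 q8599 L162454 q7745, e3 q8600 (flp_a L167018) q9064, e3 q8601 (flp_a L167030) q9065, e3 q8602 L162473 q7746, e3 q8603 L162478 q7747, e3 q8604 L162484 q7748, e3 q8605 L162492 q7749, e3 q8606 L169809 q9379, e3 q8607 (flp_a L167117) q9075, e3 q8608 (flp_a L167124) q9076, e3 q8609 L162513 q7750, e3 q8610 (flp_a L169756) q9370, e3 q8611 (flp_a L169763) q9371, e3 q8612 (flp_a L169785) q9375, e3 q8613 (flp_a L169792)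 q9376, e3 q8614 (flp_a L169799) q9377, e3 q8615 (flp_a L169434) q9331, e3 q8616 (flp_a L169443) q9332, e3 q8617 (flp_a L169457) q9333, e3 q8618 (flp_a L169465) q9334, e3 q8619 (flp_a L169249) q9309, e3 q8620 (flp_a L169473) q9335, e3 q8621 (flp_a L169483) q9336, e3 q8622 (flp_a L164789) q8839, e3 q8623 (flp_a L169500) q9338, e3 q8624 (flp_a L169507) q9339, e3 q8625 (flp_a L164802) q8840, e3 q8626 (flp_a L169514) q9340, e3 q8627 (flp_a L169524) q9341, e3 q8628 (flp_a L165408) q8907, e3 q8629 (flp_a L169530) q9342, e3 q8630 (flp_a L169569) q9347, e3 q8631 (flp_a L164599) q8820, e3 q8632 (flp_a L169577) q9348, e3 q8633 (flp_a L169585) q9349, e3 q8634 (flp_a L169595) q9350, e3 q8635 (flp_a L169603) q9351, e3 q8636 (flp_a L164623) q8822, e3 q8637 (flp_a L169611) q9352, e3 q8638 (flp_a L169619) q9353, e3 q8639 (flp_a L169623) q9354, trivial⟩ (by decide +kernel)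

theorem ce_a_135 : ∀ r, r < 64 → sm ga (Qf (8640 + r)) = Qf (tab Gen.a (8640 + r)) :=
  edges_tab (sm ga) Qf (tab Gen.a) 8640 [(8640, 8899), (8641, 9355), (8642, 9356), (8643, 9357), (8644, 9358), (8645, 9359), (8646, 9360), (8647, 9361), (8648, 9362), (8649, 9363), (8650, 9364), (8651, 9365), (8652, 9366), (8653, 8971), (8654, 9367), (8655, 8968), (8656, 9431), (8657, 8037), (8658, 8038), (8659, 8039), (8660, 8031), (8661, 7841), (8662, 7926), (8663, 7804), (8664, 7805), (8665, 7806), (8666, 7807), (8667, 9435), (8668, 8782), (8669, 7802), (8670, 7808), (8671, 8671), (8672, 8672), (8673, 8673), (8674, 8674), (8675, 8675), (8676, 8676), (8677, 8677), (8678, 8678), (8679, 8679), (8680, 8680), (8681, 8681), (8682, 8682), (8683, 8683), (8684, 9449), (8685, 8685), (8686, 8889), (8687, 7826), (8688, 8688), (8689, 8689), (8690, 9451), (8691, 7963), (8692, 7964), (8693, 7965), (8694, 7966), (8695, 7967), (8696, 7969), (8697, 7970), (8698, 8276), (8699, 7972), (8700, 7973), (8701, 7974), (8702,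 7975), (8703, 7851)]
    ⟨e3 q8640 (flp_a L165303) q8899, e3 q8641 (flp_a L169629) q9355, e3 q8642 (flp_a L169639) q9356, e3 q8643 (flp_a L169645) q9357, e3 q8644 (flp_a L169656) q9358, e3 q8645 (flp_a L169665) q9359, e3 q8646 (flp_a L169673) q9360, e3 q8647 (flp_a L169680) q9361, e3 q8648 (flp_a L169689) q9362, e3 q8649 (flp_a L169696) q9363, e3 q8650 (flp_a L169708) q9364, e3 q8651 (flp_a L169718) q9365, e3 q8652 (flp_a L169725) q9366, e3 q8653 (flp_a L166151) q8971, e3 q8654 (flp_a L169737) q9367, e3 q8655 (flp_a L166118) q8968, e3 q8656 L170167 q9431, e3 q8657 L162823 q8037, e3 q8658 L162837 q8038, e3 q8659 L162852 q8039, e3 q8660 L162866 q8031, e3 q8661 L162879 q7841, e3 q8662 L162895 q7926, e3 q8663 L162910 q7804, e3 q8664 L162919 q7805, e3 q8665 L162927 q7806, e3 q8666 L162935 q7807, e3 q8667 L170203 q9435, e3 q8668 (flp_a L164154) q8782, e3 q8669 (flp_a L162950) q7802, e3 q8670 (flp_a L162957) q7808, e3 q8671 L162963 q8671, e3 q8672 L162973 q8672, e3 q8673 L162984 q8673, e3 q8674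 L162990 q8674, e3 q8675 L162997 q8675, e3 q8676 L163002 q8676, e3 q8677 L163009 q8677, e3 q8678 L163016 q8678, e3 q8679 L163022 q8679, e3 q8680 L163027 q8680, e3 q8681 L163034 q8681, e3 q8682 L163040 q8682, e3 q8683 L163050 q8683, e3 q8684 L170312 q9449, e3 q8685 L163065 q8685, e3 q8686 (flp_a L165203) q8889, e3 q8687 (flp_a L163081) q7826, e3 q8688 L163090 q8688, e3 q8689 L163095 q8689, e3 q8690 L170324 q9451, e3 q8691 L163118 q7963, e3 q8692 L163128 q7964, e3 q8693 L163138 q7965, e3 q8694 L163148 q7966, e3 q8695 L163158 q7967, e3 q8696 L163167 q7969, e3 q8697 L163181 q7970, e3 q8698 L163201 q8276, e3 q8699 L163209 q7972, e3 q8700 L163223 q7973, e3 q8701 L163231 q7974, e3 q8702 L163244 q7975, e3 q8703 (flp_a L163254) q7851, trivial⟩ (by decide +kernel)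

theorem ce_a_136 : ∀ r, r < 64 → sm ga (Qf (8704 + r)) = Qf (tab Gen.a (8704 + r)) :=
  edges_tab (sm ga) Qf (tab Gen.a) 8704 [(8704, 8340), (8705, 9467), (8706, 7979), (8707, 7980), (8708, 7981), (8709, 7982), (8710, 7984), (8711, 7985), (8712, 8127), (8713, 7986), (8714, 7987), (8715, 7988), (8716, 7989), (8717, 7860), (8718, 9483), (8719, 7995), (8720, 7996), (8721, 7999), (8722, 7866), (8723, 7867), (8724, 9488), (8725, 8331), (8726, 9489), (8727, 9490), (8728, 8006), (8729, 8007), (8730, 8008), (8731, 8009), (8732, 8010), (8733, 8011), (8734, 8012), (8735, 8013), (8736, 8014), (8737, 8015), (8738, 8023), (8739, 8024), (8740, 8025), (8741, 8026), (8742, 8027), (8743, 8028), (8744, 8029), (8745, 8030), (8746, 8032), (8747, 8035), (8748, 8036), (8749, 7931), (8750, 8299), (8751, 7932), (8752, 7933), (8753, 7896), (8754, 8344), (8755, 9522), (8756, 7936), (8757, 7937), (8758, 7938), (8759, 7939), (8760, 8138), (8761, 7940), (8762, 7941), (8763, 7906), (8764, 9530), (8765, 7944), (8766,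 7945), (8767, 7912)]
    ⟨e3 q8704 L163270 q8340, e3 q8705 (flp_a L170530) q9467, e3 q8706 L163292 q7979, e3 q8707 L163297 q7980, e3 q8708 L163311 q7981, e3 q8709 L163319 q7982, e3 q8710 L163329 q7984, e3 q8711 L163342 q7985, e3 q8712 L163358 q8127, e3 q8713 L163366 q7986, e3 q8714 L163380 q7987, e3 q8715 L163390 q7988, e3 q8716 L163403 q7989, e3 q8717 (flp_a L163413) q7860, e3 q8718 (flp_a L170726) q9483, e3 q8719 L163441 q7995, e3 q8720 L163455 q7996, e3 q8721 L163463 q7999, e3 q8722 L163475 q7866, e3 q8723 L163489 q7867, e3 q8724 (flp_a L170788) q9488, e3 q8725 L163507 q8331, e3 q8726 (flp_a L170804) q9489, e3 q8727 (flp_a L170818) q9490, e3 q8728 L163539 q8006, e3 q8729 L163547 q8007, e3 q8730 L163557 q8008, e3 q8731 L163565 q8009, e3 q8732 L163579 q8010, e3 q8733 L163589 q8011, e3 q8734 L163597 q8012, e3 q8735 L163605 q8013, e3 q8736 L163619 q8014, e3 q8737 L163629 q8015, e3 q8738 L163639 q8023, e3 q8739 L163652 q8024, e3 q8740 L163658 q8025, e3 q8741 L163668 q8026, e3 q8742 L163677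 q8027, e3 q8743 L163685 q8028, e3 q8744 L163696 q8029, e3 q8745 L163700 q8030, e3 q8746 L163716 q8032, e3 q8747 L163721 q8035, e3 q8748 L163732 q8036, e3 q8749 L163739 q7931, e3 q8750 L163755 q8299, e3 q8751 L163768 q7932, e3 q8752 L163782 q7933, e3 q8753 L163796 q7896, e3 q8754 L163809 q8344, e3 q8755 (flp_a L171157) q9522, e3 q8756 L163831 q7936, e3 q8757 L163847 q7937, e3 q8758 L163858 q7938, e3 q8759 L163872 q7939, e3 q8760 L163881 q8138, e3 q8761 L163895 q7940, e3 q8762 L163911 q7941, e3 q8763 L163925 q7906, e3 q8764 (flp_a L171272) q9530, e3 q8765 L163947 q7944, e3 q8766 L163961 q7945, e3 q8767 L163975 q7912, trivial⟩ (by decide +kernel)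

theorem ce_a_137 : ∀ r, r < 64 → sm ga (Qf (8768 + r)) = Qf (tab Gen.a (8768 + r)) :=
  edges_tab (sm ga) Qf (tab Gen.a) 8768 [(8768, 7913), (8769, 8335), (8770, 9532), (8771, 9533), (8772, 7950), (8773, 7951), (8774, 7952), (8775, 7953), (8776, 7954), (8777, 7955), (8778, 9539), (8779, 9433), (8780, 7929), (8781, 9541), (8782, 8668), (8783, 9520), (8784, 9521), (8785, 7935), (8786, 9543), (8787, 9525), (8788, 9526), (8789, 9527), (8790, 9529), (8791, 7943), (8792, 9537), (8793, 7948), (8794, 7949), (8795, 9544), (8796, 7956), (8797, 9095), (8798, 9104), (8799, 8279), (8800, 9097), (8801, 9106), (8802, 7962), (8803, 9549), (8804, 9550), (8805, 9454), (8806, 9455), (8807, 9456), (8808, 9457), (8809, 9308), (8810, 9458), (8811, 9459), (8812, 9460), (8813, 9461), (8814, 8282), (8815, 9463), (8816, 9464), (8817, 9465), (8818, 9466), (8819, 7978), (8820, 8631), (8821, 8353), (8822, 8636), (8823, 9569), (8824, 9471), (8825, 9472), (8826, 9473), (8827, 8192), (8828, 9474), (8829, 9475), (8830,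 9476), (8831, 8244)]
    ⟨e3 q8768 L163989 q7913, e3 q8769 L163997 q8335, e3 q8770 (flp_a L171298) q9532, e3 q8771 (flp_a L171314) q9533, e3 q8772 L164029 q7950, e3 q8773 L164045 q7951, e3 q8774 L164059 q7952, e3 q8775 L164075 q7953, e3 q8776 L164087 q7954, e3 q8777 L164101 q7955, e3 q8778 L171390 q9539, e3 q8779 (flp_a L170186) q9433, e3 q8780 L164136 q7929, e3 q8781 (flp_a L171416) q9541, e3 q8782 L164154 q8668, e3 q8783 (flp_a L171127) q9520, e3 q8784 (flp_a L171142) q9521, e3 q8785 L164197 q7935, e3 q8786 (flp_a L171440) q9543, e3 q8787 (flp_a L171196) q9525, e3 q8788 (flp_a L171211) q9526, e3 q8789 (flp_a L171226) q9527, e3 q8790 (flp_a L171257) q9529, e3 q8791 L164286 q7943, e3 q8792 (flp_a L171364) q9537, e3 q8793 L164316 q7948, e3 q8794 L164332 q7949, e3 q8795 L171453 q9544, e3 q8796 (flp_a L164358) q7956, e3 q8797 (flp_a L167303) q9095, e3 q8798 (flp_a L167381) q9104, e3 q8799 (flp_a L164405) q8279, e3 q8800 (flp_a L167325) q9097, e3 q8801 (flp_a L167397) q9106, e3 q8802 (flp_a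 L164423) q7962, e3 q8803 (flp_a L171515) q9549, e3 q8804 (flp_a L171531) q9550, e3 q8805 (flp_a L170365) q9454, e3 q8806 (flp_a L170380) q9455, e3 q8807 (flp_a L170394) q9456, e3 q8808 (flp_a L170404) q9457, e3 q8809 (flp_a L169237) q9308, e3 q8810 (flp_a L170412) q9458, e3 q8811 (flp_a L170422) q9459, e3 q8812 (flp_a L170433) q9460, e3 q8813 (flp_a L170447) q9461, e3 q8814 L164532 q8282, e3 q8815 (flp_a L170477) q9463, e3 q8816 (flp_a L170492) q9464, e3 q8817 (flp_a L170506) q9465, e3 q8818 (flp_a L170516) q9466, e3 q8819 L164587 q7978, e3 q8820 L164599 q8631, e3 q8821 L164609 q8353, e3 q8822 L164623 q8636, e3 q8823 (flp_a L171735) q9569, e3 q8824 (flp_a L170584) q9471, e3 q8825 (flp_a L170595) q9472, e3 q8826 (flp_a L170608) q9473, e3 q8827 L164660 q8192, e3 q8828 (flp_a L170615) q9474, e3 q8829 (flp_a L170629) q9475, e3 q8830 (flp_a L170639) q9476, e3 q8831 L164698 q8244, trivial⟩ (by decide +kernel)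

theorem ce_a_138 : ∀ r, r < 64 → sm ga (Qf (8832 + r)) = Qf (tab Gen.a (8832 + r)) :=
  edges_tab (sm ga) Qf (tab Gen.a) 8832 [(8832, 9477), (8833, 9478), (8834, 9391), (8835, 9480), (8836, 9481), (8837, 9482), (8838, 7992), (8839, 8622), (8840, 8625), (8841, 9593), (8842, 8542), (8843, 9082), (8844, 8169), (8845, 8392), (8846, 9485), (8847, 9486), (8848, 8231), (8849, 8412), (8850, 9487), (8851, 8002), (8852, 8003), (8853, 8004), (8854, 8005), (8855, 9607), (8856, 9608), (8857, 9609), (8858, 8325), (8859, 9610), (8860, 9611), (8861, 9612), (8862, 9497), (8863, 9498), (8864, 9499), (8865, 9500), (8866, 9501), (8867, 9502), (8868, 9503), (8869, 9504), (8870, 9505), (8871, 9506), (8872, 9507), (8873, 9508), (8874, 9509), (8875, 8558), (8876, 8485), (8877, 9084), (8878, 8476), (8879, 8464), (8880, 9306), (8881, 8494), (8882, 9510), (8883, 9432), (8884, 9511), (8885, 9512), (8886, 9513), (8887, 9514), (8888, 9515), (8889, 8686), (8890, 9425), (8891, 9516), (8892, 9307), (8893, 9517), (8894,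 9656), (8895, 8285)]
    ⟨e3 q8832 (flp_a L170649) q9477, e3 q8833 (flp_a L170663) q9478, e3 q8834 (flp_a L169913) q9391, e3 q8835 (flp_a L170688) q9480, e3 q8836 (flp_a L170702) q9481, e3 q8837 (flp_a L170712) q9482, e3 q8838 L164775 q7992, e3 q8839 L164789 q8622, e3 q8840 L164802 q8625, e3 q8841 (flp_a L171979) q9593, e3 q8842 L164826 q8542, e3 q8843 (flp_a L167178) q9082, e3 q8844 L164844 q8169, e3 q8845 L164858 q8392, e3 q8846 (flp_a L170752) q9485, e3 q8847 (flp_a L170766) q9486, e3 q8848 L164884 q8231, e3 q8849 L164898 q8412, e3 q8850 (flp_a L170774) q9487, e3 q8851 L164920 q8002, e3 q8852 L164927 q8003, e3 q8853 L164941 q8004, e3 q8854 L164951 q8005, e3 q8855 (flp_a L172142) q9607, e3 q8856 (flp_a L172153) q9608, e3 q8857 (flp_a L172166) q9609, e3 q8858 L164978 q8325, e3 q8859 (flp_a L172175) q9610, e3 q8860 (flp_a L172189) q9611, e3 q8861 (flp_a L172201) q9612, e3 q8862 (flp_a L170894) q9497, e3 q8863 (flp_a L170906) q9498, e3 q8864 (flp_a L170918) q9499, e3 q8865 (flp_a L170930)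 q9500, e3 q8866 (flp_a L170940) q9501, e3 q8867 (flp_a L170950) q9502, e3 q8868 (flp_a L170956) q9503, e3 q8869 (flp_a L170970) q9504, e3 q8870 (flp_a L170980) q9505, e3 q8871 (flp_a L170984) q9506, e3 q8872 (flp_a L170990) q9507, e3 q8873 (flp_a L171006) q9508, e3 q8874 (flp_a L171018) q9509, e3 q8875 L165094 q8558, e3 q8876 L165103 q8485, e3 q8877 (flp_a L167198) q9084, e3 q8878 L165117 q8476, e3 q8879 L165131 q8464, e3 q8880 (flp_a L169211) q9306, e3 q8881 L165150 q8494, e3 q8882 (flp_a L171026) q9510, e3 q8883 (flp_a L170174) q9432, e3 q8884 (flp_a L171039) q9511, e3 q8885 (flp_a L171051) q9512, e3 q8886 (flp_a L171060) q9513, e3 q8887 (flp_a L171066) q9514, e3 q8888 (flp_a L171078) q9515, e3 q8889 L165203 q8686, e3 q8890 (flp_a L170129) q9425, e3 q8891 (flp_a L171084) q9516, e3 q8892 (flp_a L169224) q9307, e3 q8893 (flp_a L171091) q9517, e3 q8894 L172521 q9656, e3 q8895 L165246 q8285, trivial⟩ (by decide +kernel)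

theorem ce_a_139 : ∀ r, r < 64 → sm ga (Qf (8896 + r)) = Qf (tab Gen.a (8896 + r)) :=
  edges_tab (sm ga) Qf (tab Gen.a) 8896 [(8896, 8077), (8897, 8047), (8898, 8406), (8899, 8640), (8900, 8079), (8901, 8080), (8902, 8081), (8903, 8082), (8904, 8083), (8905, 8084), (8906, 8056), (8907, 8628), (8908, 8086), (8909, 8087), (8910, 8088), (8911, 8089), (8912, 8065), (8913, 8066), (8914, 8398), (8915, 9667), (8916, 9668), (8917, 8094), (8918, 8095), (8919, 8096), (8920, 8097), (8921, 9677), (8922, 8099), (8923, 8100), (8924, 9642), (8925, 8256), (8926, 8076), (8927, 9657), (8928, 9660), (8929, 9673), (8930, 9663), (8931, 9664), (8932, 9665), (8933, 8092), (8934, 8093), (8935, 9672), (8936, 9674), (8937, 8098), (8938, 8938), (8939, 8286), (8940, 8288), (8941, 8941), (8942, 8942), (8943, 8943), (8944, 8944), (8945, 8110), (8946, 8111), (8947, 9682), (8948, 9683), (8949, 8949), (8950, 8950), (8951, 8951), (8952, 8952), (8953, 8269), (8954, 8271), (8955, 8273), (8956, 9479), (8957, 8274), (8958,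 8131), (8959, 9692)]
    ⟨e3 q8896 L165262 q8077, e3 q8897 L165275 q8047, e3 q8898 L165289 q8406, e3 q8899 L165303 q8640, e3 q8900 L165315 q8079, e3 q8901 L165329 q8080, e3 q8902 L165343 q8081, e3 q8903 L165357 q8082, e3 q8904 L165366 q8083, e3 q8905 L165377 q8084, e3 q8906 L165392 q8056, e3 q8907 L165408 q8628, e3 q8908 L165422 q8086, e3 q8909 L165435 q8087, e3 q8910 L165451 q8088, e3 q8911 L165463 q8089, e3 q8912 L165473 q8065, e3 q8913 L165486 q8066, e3 q8914 L165498 q8398, e3 q8915 (flp_a L172669) q9667, e3 q8916 (flp_a L172683) q9668, e3 q8917 L165524 q8094, e3 q8918 L165538 q8095, e3 q8919 L165545 q8096, e3 q8920 L165556 q8097, e3 q8921 L172782 q9677, e3 q8922 L165574 q8099, e3 q8923 L165586 q8100, e3 q8924 (flp_a L172420) q9642, e3 q8925 L165614 q8256, e3 q8926 (flp_a L165616) q8076, e3 q8927 (flp_a L172532) q9657, e3 q8928 (flp_a L172575) q9660, e3 q8929 (flp_a L172733) q9673, e3 q8930 (flp_a L172614) q9663, e3 q8931 (flp_a L172629) q9664, e3 q8932 (flp_a L172645) q9665, e3 q8933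 L165720 q8092, e3 q8934 L165734 q8093, e3 q8935 (flp_a L172718) q9672, e3 q8936 (flp_a L172748) q9674, e3 q8937 (flp_a L165771) q8098, e3 q8938 L165781 q8938, e3 q8939 L165792 q8286, e3 q8940 L165806 q8288, e3 q8941 L165818 q8941, e3 q8942 L165835 q8942, e3 q8943 L165848 q8943, e3 q8944 L165856 q8944, e3 q8945 L165863 q8110, e3 q8946 L165876 q8111, e3 q8947 (flp_a L172835) q9682, e3 q8948 (flp_a L172848) q9683, e3 q8949 L165903 q8949, e3 q8950 L165916 q8950, e3 q8951 L165926 q8951, e3 q8952 L165937 q8952, e3 q8953 L165943 q8269, e3 q8954 L165957 q8271, e3 q8955 L165972 q8273, e3 q8956 (flp_a L170674) q9479, e3 q8957 L165998 q8274, e3 q8958 L166010 q8131, e3 q8959 (flp_a L172956) q9692, trivial⟩ (by decide +kernel)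

theorem ce_a_140 : ∀ r, r < 64 → sm ga (Qf (8960 + r)) = Qf (tab Gen.a (8960 + r)) :=
  edges_tab (sm ga) Qf (tab Gen.a) 8960 [(8960, 8281), (8961, 8283), (8962, 8284), (8963, 8290), (8964, 9528), (8965, 8148), (8966, 8141), (8967, 9698), (8968, 8655), (8969, 8146), (8970, 9701), (8971, 8653), (8972, 8150), (8973, 8267), (8974, 8304), (8975, 8559), (8976, 8305), (8977, 8306), (8978, 8307), (8979, 8308), (8980, 8157), (8981, 9709), (8982, 9710), (8983, 8312), (8984, 8313), (8985, 8314), (8986, 8315), (8987, 8317), (8988, 8318), (8989, 8272), (8990, 8298), (8991, 8565), (8992, 8321), (8993, 8170), (8994, 9597), (8995, 9600), (8996, 9724), (8997, 8328), (8998, 8329), (8999, 8330), (9000, 8332), (9001, 8333), (9002, 8334), (9003, 8336), (9004, 8275), (9005, 8277), (9006, 8278), (9007, 8300), (9008, 8570), (9009, 8571), (9010, 8572), (9011, 8337), (9012, 8338), (9013, 8339), (9014, 8341), (9015, 8342), (9016, 8343), (9017, 8345), (9018, 8191), (9019, 8193), (9020, 8194), (9021, 9577), (9022,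 9749), (9023, 9750)]
    ⟨e3 q8960 L166030 q8281, e3 q8961 L166042 q8283, e3 q8962 L166054 q8284, e3 q8963 L166064 q8290, e3 q8964 (flp_a L171241) q9528, e3 q8965 L166088 q8148, e3 q8966 L166102 q8141, e3 q8967 (flp_a L173018) q9698, e3 q8968 L166118 q8655, e3 q8969 L166129 q8146, e3 q8970 (flp_a L173053) q9701, e3 q8971 L166151 q8653, e3 q8972 L166162 q8150, e3 q8973 L166174 q8267, e3 q8974 L166184 q8304, e3 q8975 L166197 q8559, e3 q8976 L166202 q8305, e3 q8977 L166212 q8306, e3 q8978 L166222 q8307, e3 q8979 L166233 q8308, e3 q8980 (flp_a L166240) q8157, e3 q8981 (flp_a L173140) q9709, e3 q8982 (flp_a L173153) q9710, e3 q8983 L166265 q8312, e3 q8984 L166275 q8313, e3 q8985 L166281 q8314, e3 q8986 L166289 q8315, e3 q8987 L166295 q8317, e3 q8988 L166304 q8318, e3 q8989 L166311 q8272, e3 q8990 L166319 q8298, e3 q8991 L166331 q8565, e3 q8992 L166343 q8321, e3 q8993 L166355 q8170, e3 q8994 (flp_a L172036) q9597, e3 q8995 (flp_a L172066) q9600, e3 q8996 (flp_a L173289) q9724, e3 q8997 L166391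 q8328, e3 q8998 L166399 q8329, e3 q8999 L166409 q8330, e3 q9000 L166419 q8332, e3 q9001 L166427 q8333, e3 q9002 L166439 q8334, e3 q9003 L166445 q8336, e3 q9004 L166457 q8275, e3 q9005 L166464 q8277, e3 q9006 L166472 q8278, e3 q9007 L166480 q8300, e3 q9008 L166488 q8570, e3 q9009 L166497 q8571, e3 q9010 L166509 q8572, e3 q9011 L166519 q8337, e3 q9012 L166527 q8338, e3 q9013 L166537 q8339, e3 q9014 L166547 q8341, e3 q9015 L166555 q8342, e3 q9016 L166567 q8343, e3 q9017 L166573 q8345, e3 q9018 L166585 q8191, e3 q9019 L166596 q8193, e3 q9020 L166608 q8194, e3 q9021 (flp_a L171828) q9577, e3 q9022 (flp_a L173534) q9749, e3 q9023 (flp_a L173547) q9750, trivial⟩ (by decide +kernel)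

theorem ce_a_141 : ∀ r, r < 64 → sm ga (Qf (9024 + r)) = Qf (tab Gen.a (9024 + r)) :=
  edges_tab (sm ga) Qf (tab Gen.a) 9024 [(9024, 9582), (9025, 9751), (9026, 9752), (9027, 8357), (9028, 8358), (9029, 8359), (9030, 8360), (9031, 8361), (9032, 8362), (9033, 8363), (9034, 8364), (9035, 8365), (9036, 8366), (9037, 8367), (9038, 8368), (9039, 8369), (9040, 8370), (9041, 8371), (9042, 8372), (9043, 8373), (9044, 8374), (9045, 8375), (9046, 8376), (9047, 8381), (9048, 8382), (9049, 8383), (9050, 8384), (9051, 8385), (9052, 8386), (9053, 8387), (9054, 8388), (9055, 8389), (9056, 8390), (9057, 8391), (9058, 8597), (9059, 8257), (9060, 8232), (9061, 9604), (9062, 9790), (9063, 8260), (9064, 8600), (9065, 8601), (9066, 8261), (9067, 8262), (9068, 8245), (9069, 8246), (9070, 9586), (9071, 9795), (9072, 9796), (9073, 9676), (9074, 8266), (9075, 8607), (9076, 8608), (9077, 8255), (9078, 9655), (9079, 8259), (9080, 8265), (9081, 9703), (9082, 8843), (9083, 9688), (9084, 8877), (9085, 9721), (9086,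 9689), (9087, 9691)]
    ⟨e3 q9024 (flp_a L171867) q9582, e3 q9025 (flp_a L173560) q9751, e3 q9026 (flp_a L173572) q9752, e3 q9027 L166657 q8357, e3 q9028 L166663 q8358, e3 q9029 L166673 q8359, e3 q9030 L166685 q8360, e3 q9031 L166695 q8361, e3 q9032 L166701 q8362, e3 q9033 L166707 q8363, e3 q9034 L166715 q8364, e3 q9035 L166723 q8365, e3 q9036 L166727 q8366, e3 q9037 L166731 q8367, e3 q9038 L166739 q8368, e3 q9039 L166751 q8369, e3 q9040 L166765 q8370, e3 q9041 L166775 q8371, e3 q9042 L166788 q8372, e3 q9043 L166801 q8373, e3 q9044 L166810 q8374, e3 q9045 L166819 q8375, e3 q9046 L166828 q8376, e3 q9047 L166842 q8381, e3 q9048 L166851 q8382, e3 q9049 L166860 q8383, e3 q9050 L166873 q8384, e3 q9051 L166880 q8385, e3 q9052 L166887 q8386, e3 q9053 L166896 q8387, e3 q9054 L166911 q8388, e3 q9055 L166922 q8389, e3 q9056 L166934 q8390, e3 q9057 L166947 q8391, e3 q9058 L166957 q8597, e3 q9059 L166969 q8257, e3 q9060 L166980 q8232, e3 q9061 (flp_a L172104) q9604, e3 q9062 (flp_a L173931) q9790,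 e3 q9063 L167009 q8260, e3 q9064 L167018 q8600, e3 q9065 L167030 q8601, e3 q9066 L167040 q8261, e3 q9067 L167051 q8262, e3 q9068 L167063 q8245, e3 q9069 L167073 q8246, e3 q9070 (flp_a L171901) q9586, e3 q9071 (flp_a L173978) q9795, e3 q9072 (flp_a L173989) q9796, e3 q9073 (flp_a L172780) q9676, e3 q9074 L167106 q8266, e3 q9075 L167117 q8607, e3 q9076 L167124 q8608, e3 q9077 L167136 q8255, e3 q9078 L172519 q9655, e3 q9079 L167150 q8259, e3 q9080 L167159 q8265, e3 q9081 (flp_a L173077) q9703, e3 q9082 L167178 q8843, e3 q9083 (flp_a L172906) q9688, e3 q9084 L167198 q8877, e3 q9085 (flp_a L173255) q9721, e3 q9086 (flp_a L172920) q9689, e3 q9087 (flp_a L172944) q9691, trivial⟩ (by decide +kernel)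

theorem ce_a_142 : ∀ r, r < 64 → sm ga (Qf (9088 + r)) = Qf (tab Gen.a (9088 + r)) :=
  edges_tab (sm ga) Qf (tab Gen.a) 9088 [(9088, 9089), (9089, 9088), (9090, 9736), (9091, 9462), (9092, 9737), (9093, 9738), (9094, 9492), (9095, 8797), (9096, 9547), (9097, 8800), (9098, 9694), (9099, 9564), (9100, 9695), (9101, 9696), (9102, 8540), (9103, 9215), (9104, 8798), (9105, 9679), (9106, 8801), (9107, 8537), (9108, 9519), (9109, 9739), (9110, 8303), (9111, 9704), (9112, 8543), (9113, 9706), (9114, 9707), (9115, 9708), (9116, 8310), (9117, 8311), (9118, 9831), (9119, 9827), (9120, 9832), (9121, 9833), (9122, 9125), (9123, 9714), (9124, 9715), (9125, 9122), (9126, 9716), (9127, 9717), (9128, 9718), (9129, 9310), (9130, 9719), (9131, 9720), (9132, 8541), (9133, 8539), (9134, 9723), (9135, 8324), (9136, 8326), (9137, 8327), (9138, 9614), (9139, 9854), (9140, 9855), (9141, 9619), (9142, 9856), (9143, 9857), (9144, 9728), (9145, 9491), (9146, 9729), (9147, 9730), (9148, 9731), (9149, 9732), (9150,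 9494), (9151, 9733)]
    ⟨e3 q9088 (flp_a L167245) q9089, e3 q9089 L167245 q9088, e3 q9090 (flp_a L173411) q9736, e3 q9091 (flp_a L170463) q9462, e3 q9092 (flp_a L173420) q9737, e3 q9093 (flp_a L173428) q9738, e3 q9094 (flp_a L170840) q9492, e3 q9095 L167303 q8797, e3 q9096 (flp_a L171495) q9547, e3 q9097 L167325 q8800, e3 q9098 (flp_a L172974) q9694, e3 q9099 (flp_a L171673) q9564, e3 q9100 (flp_a L172986) q9695, e3 q9101 (flp_a L172996) q9696, e3 q9102 L167359 q8540, e3 q9103 (flp_a L168322) q9215, e3 q9104 L167381 q8798, e3 q9105 (flp_a L172806) q9679, e3 q9106 L167397 q8801, e3 q9107 L167408 q8537, e3 q9108 (flp_a L171113) q9519, e3 q9109 (flp_a L173436) q9739, e3 q9110 L167436 q8303, e3 q9111 (flp_a L173087) q9704, e3 q9112 L167451 q8543, e3 q9113 (flp_a L173109) q9706, e3 q9114 (flp_a L173121) q9707, e3 q9115 (flp_a L173129) q9708, e3 q9116 L167491 q8310, e3 q9117 L167501 q8311, e3 q9118 (flp_a L174295) q9831, e3 q9119 (flp_a L174249) q9827, e3 q9120 (flp_a L174304) q9832, e3 q9121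 (flp_a L174314) q9833, e3 q9122 (flp_a L167572) q9125, e3 q9123 (flp_a L173187) q9714, e3 q9124 (flp_a L173203) q9715, e3 q9125 L167572 q9122, e3 q9126 (flp_a L173215) q9716, e3 q9127 (flp_a L173223) q9717, e3 q9128 (flp_a L173231) q9718, e3 q9129 (flp_a L169261) q9310, e3 q9130 (flp_a L173237) q9719, e3 q9131 (flp_a L173244) q9720, e3 q9132 L167618 q8541, e3 q9133 L167630 q8539, e3 q9134 (flp_a L173279) q9723, e3 q9135 L167650 q8324, e3 q9136 L167657 q8326, e3 q9137 L167667 q8327, e3 q9138 (flp_a L172218) q9614, e3 q9139 (flp_a L174507) q9854, e3 q9140 (flp_a L174520) q9855, e3 q9141 (flp_a L172259) q9619, e3 q9142 (flp_a L174529) q9856, e3 q9143 (flp_a L174541) q9857, e3 q9144 (flp_a L173329) q9728, e3 q9145 (flp_a L170828) q9491, e3 q9146 (flp_a L173341) q9729, e3 q9147 (flp_a L173357) q9730, e3 q9148 (flp_a L173367) q9731, e3 q9149 (flp_a L173377) q9732, e3 q9150 (flp_a L170864) q9494, e3 q9151 (flp_a L173385) q9733, trivial⟩ (by decide +kernel)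

theorem ce_a_143 : ∀ r, r < 64 → sm ga (Qf (9152 + r)) = Qf (tab Gen.a (9152 + r)) :=
  edges_tab (sm ga) Qf (tab Gen.a) 9152 [(9152, 9734), (9153, 9735), (9154, 9534), (9155, 9571), (9156, 9468), (9157, 9551), (9158, 9743), (9159, 9744), (9160, 9745), (9161, 9469), (9162, 9746), (9163, 9747), (9164, 9748), (9165, 9523), (9166, 8350), (9167, 8351), (9168, 8352), (9169, 8354), (9170, 8355), (9171, 8356), (9172, 9886), (9173, 9570), (9174, 9887), (9175, 9888), (9176, 9889), (9177, 9890), (9178, 9573), (9179, 9891), (9180, 9892), (9181, 9893), (9182, 9762), (9183, 9763), (9184, 9764), (9185, 9765), (9186, 9766), (9187, 9767), (9188, 9768), (9189, 9769), (9190, 9770), (9191, 9771), (9192, 9772), (9193, 9773), (9194, 9601), (9195, 9774), (9196, 9775), (9197, 9776), (9198, 9777), (9199, 9778), (9200, 8533), (9201, 8534), (9202, 8531), (9203, 8522), (9204, 9779), (9205, 9780), (9206, 9781), (9207, 9782), (9208, 9783), (9209, 9784), (9210, 9785), (9211, 9786), (9212, 9787), (9213, 9598), (9214,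 9788), (9215, 9103)]
    ⟨e3 q9152 (flp_a L173395) q9734, e3 q9153 (flp_a L173405) q9735, e3 q9154 (flp_a L171326) q9534, e3 q9155 (flp_a L171761) q9571, e3 q9156 (flp_a L170544) q9468, e3 q9157 (flp_a L171543) q9551, e3 q9158 (flp_a L173480) q9743, e3 q9159 (flp_a L173490) q9744, e3 q9160 (flp_a L173500) q9745, e3 q9161 (flp_a L170560) q9469, e3 q9162 (flp_a L173508) q9746, e3 q9163 (flp_a L173518) q9747, e3 q9164 (flp_a L173528) q9748, e3 q9165 (flp_a L171171) q9523, e3 q9166 L167908 q8350, e3 q9167 L167916 q8351, e3 q9168 L167926 q8352, e3 q9169 L167938 q8354, e3 q9170 L167946 q8355, e3 q9171 L167956 q8356, e3 q9172 (flp_a L174786) q9886, e3 q9173 (flp_a L171749) q9570, e3 q9174 (flp_a L174800) q9887, e3 q9175 (flp_a L174816) q9888, e3 q9176 (flp_a L174826) q9889, e3 q9177 (flp_a L174836) q9890, e3 q9178 (flp_a L171787) q9573, e3 q9179 (flp_a L174846) q9891, e3 q9180 (flp_a L174854) q9892, e3 q9181 (flp_a L174860) q9893, e3 q9182 (flp_a L173649) q9762, e3 q9183 (flp_a L173657) q9763,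 e3 q9184 (flp_a L173667) q9764, e3 q9185 (flp_a L173679) q9765, e3 q9186 (flp_a L173687) q9766, e3 q9187 (flp_a L173695) q9767, e3 q9188 (flp_a L173701) q9768, e3 q9189 (flp_a L173709) q9769, e3 q9190 (flp_a L173715) q9770, e3 q9191 (flp_a L173727) q9771, e3 q9192 (flp_a L173733) q9772, e3 q9193 (flp_a L173737) q9773, e3 q9194 (flp_a L172080) q9601, e3 q9195 (flp_a L173749) q9774, e3 q9196 (flp_a L173759) q9775, e3 q9197 (flp_a L173772) q9776, e3 q9198 (flp_a L173785) q9777, e3 q9199 (flp_a L173794) q9778, e3 q9200 L168177 q8533, e3 q9201 L168187 q8534, e3 q9202 L168202 q8531, e3 q9203 L168212 q8522, e3 q9204 (flp_a L173805) q9779, e3 q9205 (flp_a L173812) q9780, e3 q9206 (flp_a L173821) q9781, e3 q9207 (flp_a L173834) q9782, e3 q9208 (flp_a L173845) q9783, e3 q9209 (flp_a L173856) q9784, e3 q9210 (flp_a L173866) q9785, e3 q9211 (flp_a L173877) q9786, e3 q9212 (flp_a L173890) q9787, e3 q9213 (flp_a L172048) q9598, e3 q9214 (flp_a L173904) q9788, e3 q9215 L168322 q9103, trivial⟩ (by decide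 +kernel)

theorem ce_a_144 : ∀ r, r < 64 → sm ga (Qf (9216 + r)) = Qf (tab Gen.a (9216 + r)) :=
  edges_tab (sm ga) Qf (tab Gen.a) 9216 [(9216, 8399), (9217, 9669), (9218, 9935), (9219, 8415), (9220, 8407), (9221, 8408), (9222, 9658), (9223, 9939), (9224, 9940), (9225, 8419), (9226, 9605), (9227, 8414), (9228, 9938), (9229, 8418), (9230, 9230), (9231, 9231), (9232, 9232), (9233, 9233), (9234, 8428), (9235, 8429), (9236, 8430), (9237, 8521), (9238, 9947), (9239, 9948), (9240, 9240), (9241, 9241), (9242, 9242), (9243, 9243), (9244, 9244), (9245, 9245), (9246, 8443), (9247, 8444), (9248, 8445), (9249, 8446), (9250, 8447), (9251, 8448), (9252, 8449), (9253, 8450), (9254, 8451), (9255, 9957), (9256, 9958), (9257, 9959), (9258, 9960), (9259, 9961), (9260, 9962), (9261, 9963), (9262, 9964), (9263, 9965), (9264, 9314), (9265, 9313), (9266, 9266), (9267, 9267), (9268, 9268), (9269, 9269), (9270, 9270), (9271, 9271), (9272, 9272), (9273, 9273), (9274, 9639), (9275, 9275), (9276, 9276), (9277, 9277),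 (9278, 9278), (9279, 9279)]
    ⟨e3 q9216 L168334 q8399, e3 q9217 (flp_a L172694) q9669, e3 q9218 (flp_a L175211) q9935, e3 q9219 L168363 q8415, e3 q9220 L168372 q8407, e3 q9221 L168380 q8408, e3 q9222 (flp_a L172547) q9658, e3 q9223 (flp_a L175253) q9939, e3 q9224 (flp_a L175263) q9940, e3 q9225 L168412 q8419, e3 q9226 (flp_a L172120) q9605, e3 q9227 L168430 q8414, e3 q9228 (flp_a L175238) q9938, e3 q9229 L168454 q8418, e3 q9230 L168462 q9230, e3 q9231 L168473 q9231, e3 q9232 L168484 q9232, e3 q9233 L168493 q9233, e3 q9234 L168502 q8428, e3 q9235 L168514 q8429, e3 q9236 L168524 q8430, e3 q9237 L168535 q8521, e3 q9238 (flp_a L175332) q9947, e3 q9239 (flp_a L175344) q9948, e3 q9240 L168567 q9240, e3 q9241 L168579 q9241, e3 q9242 L168590 q9242, e3 q9243 L168598 q9243, e3 q9244 L168603 q9244, e3 q9245 L168610 q9245, e3 q9246 L168615 q8443, e3 q9247 L168623 q8444, e3 q9248 L168634 q8445, e3 q9249 L168646 q8446, e3 q9250 L168655 q8447, e3 q9251 L168665 q8448, e3 q9252 L168674 q8449, e3 q9253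 L168686 q8450, e3 q9254 L168697 q8451, e3 q9255 (flp_a L175431) q9957, e3 q9256 (flp_a L175441) q9958, e3 q9257 (flp_a L175452) q9959, e3 q9258 (flp_a L175464) q9960, e3 q9259 (flp_a L175471) q9961, e3 q9260 (flp_a L175482) q9962, e3 q9261 (flp_a L175491) q9963, e3 q9262 (flp_a L175504) q9964, e3 q9263 (flp_a L175512) q9965, e3 q9264 (flp_a L169296) q9314, e3 q9265 (flp_a L169283) q9313, e3 q9266 L168804 q9266, e3 q9267 L168811 q9267, e3 q9268 L168822 q9268, e3 q9269 L168835 q9269, e3 q9270 L168846 q9270, e3 q9271 L168854 q9271, e3 q9272 L168865 q9272, e3 q9273 L168872 q9273, e3 q9274 (flp_a L172394) q9639, e3 q9275 L168887 q9275, e3 q9276 L168896 q9276, e3 q9277 L168904 q9277, e3 q9278 L168917 q9278, e3 q9279 L168930 q9279, trivial⟩ (by decide +kernel)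

theorem ce_a_145 : ∀ r, r < 64 → sm ga (Qf (9280 + r)) = Qf (tab Gen.a (9280 + r)) :=
  edges_tab (sm ga) Qf (tab Gen.a) 9280 [(9280, 9280), (9281, 9281), (9282, 9282), (9283, 9283), (9284, 9284), (9285, 9285), (9286, 9286), (9287, 9636), (9288, 9288), (9289, 9289), (9290, 9637), (9291, 8490), (9292, 8491), (9293, 8492), (9294, 9990), (9295, 9678), (9296, 9641), (9297, 8526), (9298, 8527), (9299, 8528), (9300, 8529), (9301, 8530), (9302, 8532), (9303, 8535), (9304, 8536), (9305, 8538), (9306, 8880), (9307, 8892), (9308, 8809), (9309, 8619), (9310, 9129), (9311, 9949), (9312, 9924), (9313, 9265), (9314, 9264), (9315, 9992), (9316, 9993), (9317, 9926), (9318, 9925), (9319, 9994), (9320, 9922), (9321, 9923), (9322, 9852), (9323, 9323), (9324, 9324), (9325, 9325), (9326, 9326), (9327, 10012), (9328, 9328), (9329, 9381), (9330, 9705), (9331, 8615), (9332, 8616), (9333, 8617), (9334, 8618), (9335, 8620), (9336, 8621), (9337, 9722), (9338, 8623), (9339, 8624), (9340, 8626), (9341, 8627), (9342,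 8629), (9343, 9554)]
    ⟨e3 q9280 L168943 q9280, e3 q9281 L168950 q9281, e3 q9282 L168959 q9282, e3 q9283 L168968 q9283, e3 q9284 L168979 q9284, e3 q9285 L168992 q9285, e3 q9286 L169003 q9286, e3 q9287 (flp_a L172369) q9636, e3 q9288 L169021 q9288, e3 q9289 L169032 q9289, e3 q9290 (flp_a L172380) q9637, e3 q9291 L169051 q8490, e3 q9292 L169063 q8491, e3 q9293 L169072 q8492, e3 q9294 (flp_a L175761) q9990, e3 q9295 (flp_a L172802) q9678, e3 q9296 (flp_a L172411) q9641, e3 q9297 L169099 q8526, e3 q9298 L169110 q8527, e3 q9299 L169120 q8528, e3 q9300 L169133 q8529, e3 q9301 L169147 q8530, e3 q9302 L169161 q8532, e3 q9303 L169171 q8535, e3 q9304 L169187 q8536, e3 q9305 L169202 q8538, e3 q9306 L169211 q8880, e3 q9307 L169224 q8892, e3 q9308 L169237 q8809, e3 q9309 L169249 q8619, e3 q9310 L169261 q9129, e3 q9311 (flp_a L175355) q9949, e3 q9312 (flp_a L175094) q9924, e3 q9313 L169283 q9265, e3 q9314 L169296 q9264, e3 q9315 (flp_a L175777) q9992, e3 q9316 (flp_a L175785) q9993, e3 q9317 (flp_a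 L175120) q9926, e3 q9318 (flp_a L175106) q9925, e3 q9319 (flp_a L175796) q9994, e3 q9320 (flp_a L175072) q9922, e3 q9321 (flp_a L175082) q9923, e3 q9322 (flp_a L174487) q9852, e3 q9323 L169356 q9323, e3 q9324 L169370 q9324, e3 q9325 L169381 q9325, e3 q9326 L169390 q9326, e3 q9327 L175971 q10012, e3 q9328 L169407 q9328, e3 q9329 (flp_a L169824) q9381, e3 q9330 (flp_a L173098) q9705, e3 q9331 L169434 q8615, e3 q9332 L169443 q8616, e3 q9333 L169457 q8617, e3 q9334 L169465 q8618, e3 q9335 L169473 q8620, e3 q9336 L169483 q8621, e3 q9337 (flp_a L173265) q9722, e3 q9338 L169500 q8623, e3 q9339 L169507 q8624, e3 q9340 L169514 q8626, e3 q9341 L169524 q8627, e3 q9342 L169530 q8629, e3 q9343 (flp_a L171577) q9554, trivial⟩ (by decide +kernel)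

theorem ce_a_146 : ∀ r, r < 64 → sm ga (Qf (9344 + r)) = Qf (tab Gen.a (9344 + r)) :=
  edges_tab (sm ga) Qf (tab Gen.a) 9344 [(9344, 9740), (9345, 9741), (9346, 9742), (9347, 8630), (9348, 8632), (9349, 8633), (9350, 8634), (9351, 8635), (9352, 8637), (9353, 8638), (9354, 8639), (9355, 8641), (9356, 8642), (9357, 8643), (9358, 8644), (9359, 8645), (9360, 8646), (9361, 8647), (9362, 8648), (9363, 8649), (9364, 8650), (9365, 8651), (9366, 8652), (9367, 8654), (9368, 10054), (9369, 9789), (9370, 8610), (9371, 8611), (9372, 9792), (9373, 9793), (9374, 9794), (9375, 8612), (9376, 8613), (9377, 8614), (9378, 10061), (9379, 8606), (9380, 9800), (9381, 9329), (9382, 9711), (9383, 10015), (9384, 9841), (9385, 10016), (9386, 10017), (9387, 10018), (9388, 9998), (9389, 10019), (9390, 10020), (9391, 8834), (9392, 9452), (9393, 9594), (9394, 10022), (9395, 10023), (9396, 9595), (9397, 10024), (9398, 10025), (9399, 9662), (9400, 10026), (9401, 10032), (9402, 9572), (9403, 10033), (9404, 10034), (9405,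 10035), (9406, 10036), (9407, 9574)]
    ⟨e3 q9344 (flp_a L173447) q9740, e3 q9345 (flp_a L173458) q9741, e3 q9346 (flp_a L173472) q9742, e3 q9347 L169569 q8630, e3 q9348 L169577 q8632, e3 q9349 L169585 q8633, e3 q9350 L169595 q8634, e3 q9351 L169603 q8635, e3 q9352 L169611 q8637, e3 q9353 L169619 q8638, e3 q9354 L169623 q8639, e3 q9355 L169629 q8641, e3 q9356 L169639 q8642, e3 q9357 L169645 q8643, e3 q9358 L169656 q8644, e3 q9359 L169665 q8645, e3 q9360 L169673 q8646, e3 q9361 L169680 q8647, e3 q9362 L169689 q8648, e3 q9363 L169696 q8649, e3 q9364 L169708 q8650, e3 q9365 L169718 q8651, e3 q9366 L169725 q8652, e3 q9367 L169737 q8654, e3 q9368 L176308 q10054, e3 q9369 (flp_a L173920) q9789, e3 q9370 L169756 q8610, e3 q9371 L169763 q8611, e3 q9372 (flp_a L173947) q9792, e3 q9373 (flp_a L173958) q9793, e3 q9374 (flp_a L173966) q9794, e3 q9375 L169785 q8612, e3 q9376 L169792 q8613, e3 q9377 L169799 q8614, e3 q9378 (flp_a L176352) q10061, e3 q9379 (flp_a L169809) q8606, e3 q9380 (flp_a L174019)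 q9800, e3 q9381 L169824 q9329, e3 q9382 (flp_a L173164) q9711, e3 q9383 (flp_a L175994) q10015, e3 q9384 (flp_a L174407) q9841, e3 q9385 (flp_a L176005) q10016, e3 q9386 (flp_a L176019) q10017, e3 q9387 (flp_a L176029) q10018, e3 q9388 (flp_a L175848) q9998, e3 q9389 (flp_a L176037) q10019, e3 q9390 (flp_a L176048) q10020, e3 q9391 L169913 q8834, e3 q9392 (flp_a L170341) q9452, e3 q9393 (flp_a L171993) q9594, e3 q9394 (flp_a L176062) q10022, e3 q9395 (flp_a L176069) q10023, e3 q9396 (flp_a L172008) q9595, e3 q9397 (flp_a L176074) q10024, e3 q9398 (flp_a L176080) q10025, e3 q9399 (flp_a L172599) q9662, e3 q9400 (flp_a L176086) q10026, e3 q9401 (flp_a L176123) q10032, e3 q9402 (flp_a L171775) q9572, e3 q9403 (flp_a L176135) q10033, e3 q9404 (flp_a L176143) q10034, e3 q9405 (flp_a L176151) q10035, e3 q9406 (flp_a L176161) q10036, e3 q9407 (flp_a L171801) q9574, trivial⟩ (by decide +kernel)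

theorem ce_a_147 : ∀ r, r < 64 → sm ga (Qf (9408 + r)) = Qf (tab Gen.a (9408 + r)) :=
  edges_tab (sm ga) Qf (tab Gen.a) 9408 [(9408, 10037), (9409, 10038), (9410, 10039), (9411, 10040), (9412, 9659), (9413, 10041), (9414, 9697), (9415, 10101), (9416, 10043), (9417, 10044), (9418, 10045), (9419, 10046), (9420, 10047), (9421, 10048), (9422, 10049), (9423, 10050), (9424, 10051), (9425, 8890), (9426, 10114), (9427, 10053), (9428, 9702), (9429, 9542), (9430, 9700), (9431, 8656), (9432, 8883), (9433, 8779), (9434, 9536), (9435, 8667), (9436, 9436), (9437, 9437), (9438, 9438), (9439, 9439), (9440, 9440), (9441, 9441), (9442, 9442), (9443, 9443), (9444, 9444), (9445, 9445), (9446, 10128), (9447, 9447), (9448, 9651), (9449, 8684), (9450, 10130), (9451, 8690), (9452, 9392), (9453, 10131), (9454, 8805), (9455, 8806), (9456, 8807), (9457, 8808), (9458, 8810), (9459, 8811), (9460, 8812), (9461, 8813), (9462, 9091), (9463, 8815), (9464, 8816), (9465, 8817), (9466, 8818), (9467, 8705), (9468, 9156),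 (9469, 9161), (9470, 10146), (9471, 8824)]
    ⟨e3 q9408 (flp_a L176167) q10037, e3 q9409 (flp_a L176173) q10038, e3 q9410 (flp_a L176179) q10039, e3 q9411 (flp_a L176185) q10040, e3 q9412 (flp_a L172561) q9659, e3 q9413 (flp_a L176191) q10041, e3 q9414 (flp_a L173004) q9697, e3 q9415 L176611 q10101, e3 q9416 (flp_a L176205) q10043, e3 q9417 (flp_a L176216) q10044, e3 q9418 (flp_a L176223) q10045, e3 q9419 (flp_a L176232) q10046, e3 q9420 (flp_a L176243) q10047, e3 q9421 (flp_a L176251) q10048, e3 q9422 (flp_a L176257) q10049, e3 q9423 (flp_a L176270) q10050, e3 q9424 (flp_a L176280) q10051, e3 q9425 L170129 q8890, e3 q9426 L176725 q10114, e3 q9427 (flp_a L176297) q10053, e3 q9428 (flp_a L173066) q9702, e3 q9429 (flp_a L171427) q9542, e3 q9430 (flp_a L173040) q9700, e3 q9431 (flp_a L170167) q8656, e3 q9432 L170174 q8883, e3 q9433 L170186 q8779, e3 q9434 (flp_a L171350) q9536, e3 q9435 (flp_a L170203) q8667, e3 q9436 L170211 q9436, e3 q9437 L170222 q9437, e3 q9438 L170230 q9438, e3 q9439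 L170236 q9439, e3 q9440 L170243 q9440, e3 q9441 L170250 q9441, e3 q9442 L170258 q9442, e3 q9443 L170267 q9443, e3 q9444 L170276 q9444, e3 q9445 L170282 q9445, e3 q9446 L176874 q10128, e3 q9447 L170296 q9447, e3 q9448 (flp_a L172480) q9651, e3 q9449 (flp_a L170312) q8684, e3 q9450 (flp_a L176887) q10130, e3 q9451 (flp_a L170324) q8690, e3 q9452 L170341 q9392, e3 q9453 (flp_a L176894) q10131, e3 q9454 L170365 q8805, e3 q9455 L170380 q8806, e3 q9456 L170394 q8807, e3 q9457 L170404 q8808, e3 q9458 L170412 q8810, e3 q9459 L170422 q8811, e3 q9460 L170433 q8812, e3 q9461 L170447 q8813, e3 q9462 L170463 q9091, e3 q9463 L170477 q8815, e3 q9464 L170492 q8816, e3 q9465 L170506 q8817, e3 q9466 L170516 q8818, e3 q9467 L170530 q8705, e3 q9468 L170544 q9156, e3 q9469 L170560 q9161, e3 q9470 (flp_a L177093) q10146, e3 q9471 L170584 q8824, trivial⟩ (by decide +kernel)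

theorem ce_a_148 : ∀ r, r < 64 → sm ga (Qf (9472 + r)) = Qf (tab Gen.a (9472 + r)) :=
  edges_tab (sm ga) Qf (tab Gen.a) 9472 [(9472, 8825), (9473, 8826), (9474, 8828), (9475, 8829), (9476, 8830), (9477, 8832), (9478, 8833), (9479, 8956), (9480, 8835), (9481, 8836), (9482, 8837), (9483, 8718), (9484, 10162), (9485, 8846), (9486, 8847), (9487, 8850), (9488, 8724), (9489, 8726), (9490, 8727), (9491, 9145), (9492, 9094), (9493, 10167), (9494, 9150), (9495, 10168), (9496, 10169), (9497, 8862), (9498, 8863), (9499, 8864), (9500, 8865), (9501, 8866), (9502, 8867), (9503, 8868), (9504, 8869), (9505, 8870), (9506, 8871), (9507, 8872), (9508, 8873), (9509, 8874), (9510, 8882), (9511, 8884), (9512, 8885), (9513, 8886), (9514, 8887), (9515, 8888), (9516, 8891), (9517, 8893), (9518, 10193), (9519, 9108), (9520, 8783), (9521, 8784), (9522, 8755), (9523, 9165), (9524, 10195), (9525, 8787), (9526, 8788), (9527, 8789), (9528, 8964), (9529, 8790), (9530, 8764), (9531, 10118), (9532, 8770), (9533, 8771),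 (9534, 9154), (9535, 10200)]
    ⟨e3 q9472 L170595 q8825, e3 q9473 L170608 q8826, e3 q9474 L170615 q8828, e3 q9475 L170629 q8829, e3 q9476 L170639 q8830, e3 q9477 L170649 q8832, e3 q9478 L170663 q8833, e3 q9479 L170674 q8956, e3 q9480 L170688 q8835, e3 q9481 L170702 q8836, e3 q9482 L170712 q8837, e3 q9483 L170726 q8718, e3 q9484 (flp_a L177291) q10162, e3 q9485 L170752 q8846, e3 q9486 L170766 q8847, e3 q9487 L170774 q8850, e3 q9488 L170788 q8724, e3 q9489 L170804 q8726, e3 q9490 L170818 q8727, e3 q9491 L170828 q9145, e3 q9492 L170840 q9094, e3 q9493 (flp_a L177345) q10167, e3 q9494 L170864 q9150, e3 q9495 (flp_a L177361) q10168, e3 q9496 (flp_a L177377) q10169, e3 q9497 L170894 q8862, e3 q9498 L170906 q8863, e3 q9499 L170918 q8864, e3 q9500 L170930 q8865, e3 q9501 L170940 q8866, e3 q9502 L170950 q8867, e3 q9503 L170956 q8868, e3 q9504 L170970 q8869, e3 q9505 L170980 q8870, e3 q9506 L170984 q8871, e3 q9507 L170990 q8872, e3 q9508 L171006 q8873, e3 q9509 L171018 q8874, e3 q9510 L171026 q8882,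 e3 q9511 L171039 q8884, e3 q9512 L171051 q8885, e3 q9513 L171060 q8886, e3 q9514 L171066 q8887, e3 q9515 L171078 q8888, e3 q9516 L171084 q8891, e3 q9517 L171091 q8893, e3 q9518 L177611 q10193, e3 q9519 L171113 q9108, e3 q9520 L171127 q8783, e3 q9521 L171142 q8784, e3 q9522 L171157 q8755, e3 q9523 L171171 q9165, e3 q9524 (flp_a L177641) q10195, e3 q9525 L171196 q8787, e3 q9526 L171211 q8788, e3 q9527 L171226 q8789, e3 q9528 L171241 q8964, e3 q9529 L171257 q8790, e3 q9530 L171272 q8764, e3 q9531 (flp_a L176768) q10118, e3 q9532 L171298 q8770, e3 q9533 L171314 q8771, e3 q9534 L171326 q9154, e3 q9535 (flp_a L177707) q10200, trivial⟩ (by decide +kernel)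

theorem ce_a_149 : ∀ r, r < 64 → sm ga (Qf (9536 + r)) = Qf (tab Gen.a (9536 + r)) :=
  edges_tab (sm ga) Qf (tab Gen.a) 9536 [(9536, 9434), (9537, 8792), (9538, 10202), (9539, 8778), (9540, 10116), (9541, 8781), (9542, 9429), (9543, 8786), (9544, 8795), (9545, 9816), (9546, 9824), (9547, 9096), (9548, 9818), (9549, 8803), (9550, 8804), (9551, 9157), (9552, 10207), (9553, 10208), (9554, 9343), (9555, 10134), (9556, 9840), (9557, 10135), (9558, 10136), (9559, 10137), (9560, 9997), (9561, 10138), (9562, 10139), (9563, 10140), (9564, 9099), (9565, 10142), (9566, 10143), (9567, 10144), (9568, 10145), (9569, 8823), (9570, 9173), (9571, 9155), (9572, 9402), (9573, 9178), (9574, 9407), (9575, 10227), (9576, 9754), (9577, 9021), (9578, 9753), (9579, 10150), (9580, 10151), (9581, 10152), (9582, 9024), (9583, 10153), (9584, 10154), (9585, 10155), (9586, 9070), (9587, 10156), (9588, 10157), (9589, 10074), (9590, 10159), (9591, 10160), (9592, 10161), (9593, 8841), (9594, 9393), (9595, 9396), (9596,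 10251), (9597, 8994), (9598, 9213), (9599, 9803)]
    ⟨e3 q9536 L171350 q9434, e3 q9537 L171364 q8792, e3 q9538 L177731 q10202, e3 q9539 (flp_a L171390) q8778, e3 q9540 (flp_a L176741) q10116, e3 q9541 L171416 q8781, e3 q9542 L171427 q9429, e3 q9543 L171440 q8786, e3 q9544 (flp_a L171453) q8795, e3 q9545 (flp_a L174165) q9816, e3 q9546 (flp_a L174226) q9824, e3 q9547 L171495 q9096, e3 q9548 (flp_a L174185) q9818, e3 q9549 L171515 q8803, e3 q9550 L171531 q8804, e3 q9551 L171543 q9157, e3 q9552 (flp_a L177796) q10207, e3 q9553 (flp_a L177812) q10208, e3 q9554 L171577 q9343, e3 q9555 (flp_a L176931) q10134, e3 q9556 (flp_a L174393) q9840, e3 q9557 (flp_a L176946) q10135, e3 q9558 (flp_a L176960) q10136, e3 q9559 (flp_a L176972) q10137, e3 q9560 (flp_a L175836) q9997, e3 q9561 (flp_a L176982) q10138, e3 q9562 (flp_a L176993) q10139, e3 q9563 (flp_a L177005) q10140, e3 q9564 L171673 q9099, e3 q9565 (flp_a L177037) q10142, e3 q9566 (flp_a L177052) q10143, e3 q9567 (flp_a L177068) q10144, e3 q9568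 (flp_a L177078) q10145, e3 q9569 L171735 q8823, e3 q9570 L171749 q9173, e3 q9571 L171761 q9155, e3 q9572 L171775 q9402, e3 q9573 L171787 q9178, e3 q9574 L171801 q9407, e3 q9575 (flp_a L178000) q10227, e3 q9576 (flp_a L173595) q9754, e3 q9577 L171828 q9021, e3 q9578 (flp_a L173582) q9753, e3 q9579 (flp_a L177149) q10150, e3 q9580 (flp_a L177162) q10151, e3 q9581 (flp_a L177175) q10152, e3 q9582 L171867 q9024, e3 q9583 (flp_a L177180) q10153, e3 q9584 (flp_a L177196) q10154, e3 q9585 (flp_a L177202) q10155, e3 q9586 L171901 q9070, e3 q9587 (flp_a L177210) q10156, e3 q9588 (flp_a L177225) q10157, e3 q9589 (flp_a L176456) q10074, e3 q9590 (flp_a L177250) q10159, e3 q9591 (flp_a L177266) q10160, e3 q9592 (flp_a L177276) q10161, e3 q9593 L171979 q8841, e3 q9594 L171993 q9393, e3 q9595 L172008 q9396, e3 q9596 (flp_a L178225) q10251, e3 q9597 L172036 q8994, e3 q9598 L172048 q9213, e3 q9599 (flp_a L174046) q9803, trivial⟩ (by decide +kernel)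

theorem ce_a_150 : ∀ r, r < 64 → sm ga (Qf (9600 + r)) = Qf (tab Gen.a (9600 + r)) :=
  edges_tab (sm ga) Qf (tab Gen.a) 9600 [(9600, 8995), (9601, 9194), (9602, 10164), (9603, 10165), (9604, 9061), (9605, 9226), (9606, 10166), (9607, 8855), (9608, 8856), (9609, 8857), (9610, 8859), (9611, 8860), (9612, 8861), (9613, 9615), (9614, 9138), (9615, 9613), (9616, 10266), (9617, 10267), (9618, 10268), (9619, 9141), (9620, 10269), (9621, 10270), (9622, 10271), (9623, 10117), (9624, 10176), (9625, 10177), (9626, 10178), (9627, 10179), (9628, 10180), (9629, 10181), (9630, 10182), (9631, 10183), (9632, 10184), (9633, 10185), (9634, 10186), (9635, 10298), (9636, 9287), (9637, 9290), (9638, 9805), (9639, 9274), (9640, 9995), (9641, 9296), (9642, 8924), (9643, 10306), (9644, 10102), (9645, 10188), (9646, 10189), (9647, 10106), (9648, 10190), (9649, 10191), (9650, 9830), (9651, 9448), (9652, 10113), (9653, 10315), (9654, 9996), (9655, 9078), (9656, 8894), (9657, 8927), (9658, 9222), (9659, 9412), (9660,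 8928), (9661, 10320), (9662, 9399), (9663, 8930)]
    ⟨e3 q9600 L172066 q8995, e3 q9601 L172080 q9194, e3 q9602 (flp_a L177313) q10164, e3 q9603 (flp_a L177323) q10165, e3 q9604 L172104 q9061, e3 q9605 L172120 q9226, e3 q9606 (flp_a L177331) q10166, e3 q9607 L172142 q8855, e3 q9608 L172153 q8856, e3 q9609 L172166 q8857, e3 q9610 L172175 q8859, e3 q9611 L172189 q8860, e3 q9612 L172201 q8861, e3 q9613 (flp_a L172229) q9615, e3 q9614 L172218 q9138, e3 q9615 L172229 q9613, e3 q9616 (flp_a L178384) q10266, e3 q9617 (flp_a L178397) q10267, e3 q9618 (flp_a L178410) q10268, e3 q9619 L172259 q9141, e3 q9620 (flp_a L178417) q10269, e3 q9621 (flp_a L178433) q10270, e3 q9622 (flp_a L178441) q10271, e3 q9623 (flp_a L176756) q10117, e3 q9624 (flp_a L177443) q10176, e3 q9625 (flp_a L177457) q10177, e3 q9626 (flp_a L177469) q10178, e3 q9627 (flp_a L177477) q10179, e3 q9628 (flp_a L177489) q10180, e3 q9629 (flp_a L177495) q10181, e3 q9630 (flp_a L177511) q10182, e3 q9631 (flp_a L177517) q10183, e3 q9632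 (flp_a L177523) q10184, e3 q9633 (flp_a L177529) q10185, e3 q9634 (flp_a L177537) q10186, e3 q9635 L178624 q10298, e3 q9636 L172369 q9287, e3 q9637 L172380 q9290, e3 q9638 (flp_a L174068) q9805, e3 q9639 L172394 q9274, e3 q9640 (flp_a L175810) q9995, e3 q9641 L172411 q9296, e3 q9642 L172420 q8924, e3 q9643 (flp_a L178705) q10306, e3 q9644 (flp_a L176619) q10102, e3 q9645 (flp_a L177561) q10188, e3 q9646 (flp_a L177573) q10189, e3 q9647 (flp_a L176654) q10106, e3 q9648 (flp_a L177583) q10190, e3 q9649 (flp_a L177596) q10191, e3 q9650 (flp_a L174281) q9830, e3 q9651 L172480 q9448, e3 q9652 (flp_a L176712) q10113, e3 q9653 L178781 q10315, e3 q9654 (flp_a L175825) q9996, e3 q9655 (flp_a L172519) q9078, e3 q9656 (flp_a L172521) q8894, e3 q9657 L172532 q8927, e3 q9658 L172547 q9222, e3 q9659 L172561 q9412, e3 q9660 L172575 q8928, e3 q9661 L178841 q10320, e3 q9662 L172599 q9399, e3 q9663 L172614 q8930, trivial⟩ (by decide +kernel)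

theorem ce_a_151 : ∀ r, r < 64 → sm ga (Qf (9664 + r)) = Qf (tab Gen.a (9664 + r)) :=
  edges_tab (sm ga) Qf (tab Gen.a) 9664 [(9664, 8931), (9665, 8932), (9666, 10264), (9667, 8915), (9668, 8916), (9669, 9217), (9670, 10198), (9671, 10324), (9672, 8935), (9673, 8929), (9674, 8936), (9675, 10319), (9676, 9073), (9677, 8921), (9678, 9295), (9679, 9105), (9680, 9680), (9681, 9681), (9682, 8947), (9683, 8948), (9684, 10329), (9685, 9685), (9686, 9686), (9687, 9687), (9688, 9083), (9689, 9086), (9690, 10158), (9691, 9087), (9692, 8959), (9693, 10336), (9694, 9098), (9695, 9100), (9696, 9101), (9697, 9414), (9698, 8967), (9699, 10343), (9700, 9430), (9701, 8970), (9702, 9428), (9703, 9081), (9704, 9111), (9705, 9330), (9706, 9113), (9707, 9114), (9708, 9115), (9709, 8981), (9710, 8982), (9711, 9382), (9712, 10349), (9713, 10350), (9714, 9123), (9715, 9124), (9716, 9126), (9717, 9127), (9718, 9128), (9719, 9130), (9720, 9131), (9721, 9085), (9722, 9337), (9723, 9134), (9724, 8996), (9725, 10255),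 (9726, 10258), (9727, 10364)]
    ⟨e3 q9664 L172629 q8931, e3 q9665 L172645 q8932, e3 q9666 (flp_a L178358) q10264, e3 q9667 L172669 q8915, e3 q9668 L172683 q8916, e3 q9669 L172694 q9217, e3 q9670 (flp_a L177691) q10198, e3 q9671 (flp_a L178902) q10324, e3 q9672 L172718 q8935, e3 q9673 L172733 q8929, e3 q9674 L172748 q8936, e3 q9675 (flp_a L178839) q10319, e3 q9676 L172780 q9073, e3 q9677 (flp_a L172782) q8921, e3 q9678 L172802 q9295, e3 q9679 L172806 q9105, e3 q9680 L172820 q9680, e3 q9681 L172827 q9681, e3 q9682 L172835 q8947, e3 q9683 L172848 q8948, e3 q9684 (flp_a L178955) q10329, e3 q9685 L172869 q9685, e3 q9686 L172882 q9686, e3 q9687 L172894 q9687, e3 q9688 L172906 q9083, e3 q9689 L172920 q9086, e3 q9690 (flp_a L177234) q10158, e3 q9691 L172944 q9087, e3 q9692 L172956 q8959, e3 q9693 (flp_a L179045) q10336, e3 q9694 L172974 q9098, e3 q9695 L172986 q9100, e3 q9696 L172996 q9101, e3 q9697 L173004 q9414, e3 q9698 L173018 q8967, e3 q9699 (flp_a L179119) q10343, e3 q9700 L173040 q9430,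 e3 q9701 L173053 q8970, e3 q9702 L173066 q9428, e3 q9703 L173077 q9081, e3 q9704 L173087 q9111, e3 q9705 L173098 q9330, e3 q9706 L173109 q9113, e3 q9707 L173121 q9114, e3 q9708 L173129 q9115, e3 q9709 L173140 q8981, e3 q9710 L173153 q8982, e3 q9711 L173164 q9382, e3 q9712 (flp_a L179183) q10349, e3 q9713 (flp_a L179196) q10350, e3 q9714 L173187 q9123, e3 q9715 L173203 q9124, e3 q9716 L173215 q9126, e3 q9717 L173223 q9127, e3 q9718 L173231 q9128, e3 q9719 L173237 q9130, e3 q9720 L173244 q9131, e3 q9721 L173255 q9085, e3 q9722 L173265 q9337, e3 q9723 L173279 q9134, e3 q9724 L173289 q8996, e3 q9725 (flp_a L178274) q10255, e3 q9726 (flp_a L178304) q10258, e3 q9727 (flp_a L179326) q10364, trivial⟩ (by decide +kernel)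

theorem ce_a_152 : ∀ r, r < 64 → sm ga (Qf (9728 + r)) = Qf (tab Gen.a (9728 + r)) :=
  edges_tab (sm ga) Qf (tab Gen.a) 9728 [(9728, 9144), (9729, 9146), (9730, 9147), (9731, 9148), (9732, 9149), (9733, 9151), (9734, 9152), (9735, 9153), (9736, 9090), (9737, 9092), (9738, 9093), (9739, 9109), (9740, 9344), (9741, 9345), (9742, 9346), (9743, 9158), (9744, 9159), (9745, 9160), (9746, 9162), (9747, 9163), (9748, 9164), (9749, 9022), (9750, 9023), (9751, 9025), (9752, 9026), (9753, 9578), (9754, 9576), (9755, 10235), (9756, 10391), (9757, 10392), (9758, 10240), (9759, 10393), (9760, 10394), (9761, 10395), (9762, 9182), (9763, 9183), (9764, 9184), (9765, 9185), (9766, 9186), (9767, 9187), (9768, 9188), (9769, 9189), (9770, 9190), (9771, 9191), (9772, 9192), (9773, 9193), (9774, 9195), (9775, 9196), (9776, 9197), (9777, 9198), (9778, 9199), (9779, 9204), (9780, 9205), (9781, 9206), (9782, 9207), (9783, 9208), (9784, 9209), (9785, 9210), (9786, 9211), (9787, 9212), (9788, 9214), (9789, 9369),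 (9790, 9062), (9791, 10428)]
    ⟨e3 q9728 L173329 q9144, e3 q9729 L173341 q9146, e3 q9730 L173357 q9147, e3 q9731 L173367 q9148, e3 q9732 L173377 q9149, e3 q9733 L173385 q9151, e3 q9734 L173395 q9152, e3 q9735 L173405 q9153, e3 q9736 L173411 q9090, e3 q9737 L173420 q9092, e3 q9738 L173428 q9093, e3 q9739 L173436 q9109, e3 q9740 L173447 q9344, e3 q9741 L173458 q9345, e3 q9742 L173472 q9346, e3 q9743 L173480 q9158, e3 q9744 L173490 q9159, e3 q9745 L173500 q9160, e3 q9746 L173508 q9162, e3 q9747 L173518 q9163, e3 q9748 L173528 q9164, e3 q9749 L173534 q9022, e3 q9750 L173547 q9023, e3 q9751 L173560 q9025, e3 q9752 L173572 q9026, e3 q9753 L173582 q9578, e3 q9754 L173595 q9576, e3 q9755 (flp_a L178087) q10235, e3 q9756 (flp_a L179565) q10391, e3 q9757 (flp_a L179578) q10392, e3 q9758 (flp_a L178125) q10240, e3 q9759 (flp_a L179589) q10393, e3 q9760 (flp_a L179597) q10394, e3 q9761 (flp_a L179607) q10395, e3 q9762 L173649 q9182, e3 q9763 L173657 q9183, e3 q9764 L173667 q9184, e3 q9765 L173679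 q9185, e3 q9766 L173687 q9186, e3 q9767 L173695 q9187, e3 q9768 L173701 q9188, e3 q9769 L173709 q9189, e3 q9770 L173715 q9190, e3 q9771 L173727 q9191, e3 q9772 L173733 q9192, e3 q9773 L173737 q9193, e3 q9774 L173749 q9195, e3 q9775 L173759 q9196, e3 q9776 L173772 q9197, e3 q9777 L173785 q9198, e3 q9778 L173794 q9199, e3 q9779 L173805 q9204, e3 q9780 L173812 q9205, e3 q9781 L173821 q9206, e3 q9782 L173834 q9207, e3 q9783 L173845 q9208, e3 q9784 L173856 q9209, e3 q9785 L173866 q9210, e3 q9786 L173877 q9211, e3 q9787 L173890 q9212, e3 q9788 L173904 q9214, e3 q9789 L173920 q9369, e3 q9790 L173931 q9062, e3 q9791 (flp_a L179921) q10428, trivial⟩ (by decide +kernel)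

theorem ce_a_153 : ∀ r, r < 64 → sm ga (Qf (9792 + r)) = Qf (tab Gen.a (9792 + r)) :=
  edges_tab (sm ga) Qf (tab Gen.a) 9792 [(9792, 9372), (9793, 9373), (9794, 9374), (9795, 9071), (9796, 9072), (9797, 10197), (9798, 10431), (9799, 10297), (9800, 9380), (9801, 10314), (9802, 10345), (9803, 9599), (9804, 10332), (9805, 9638), (9806, 10361), (9807, 10333), (9808, 10335), (9809, 9810), (9810, 9809), (9811, 10377), (9812, 10141), (9813, 10378), (9814, 10379), (9815, 9934), (9816, 9545), (9817, 10205), (9818, 9548), (9819, 10339), (9820, 10222), (9821, 10340), (9822, 10341), (9823, 9927), (9824, 9546), (9825, 10194), (9826, 10380), (9827, 9119), (9828, 10347), (9829, 10348), (9830, 9650), (9831, 9118), (9832, 9120), (9833, 9121), (9834, 9835), (9835, 9834), (9836, 10463), (9837, 10459), (9838, 10464), (9839, 10465), (9840, 9556), (9841, 9384), (9842, 9845), (9843, 10354), (9844, 10355), (9845, 9842), (9846, 10356), (9847, 10357), (9848, 10358), (9849, 9999), (9850, 10359), (9851, 10360),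 (9852, 9322), (9853, 10363), (9854, 9139), (9855, 9140)]
    ⟨e3 q9792 L173947 q9372, e3 q9793 L173958 q9373, e3 q9794 L173966 q9374, e3 q9795 L173978 q9071, e3 q9796 L173989 q9072, e3 q9797 (flp_a L177665) q10197, e3 q9798 (flp_a L179955) q10431, e3 q9799 L178622 q10297, e3 q9800 L174019 q9380, e3 q9801 L178779 q10314, e3 q9802 (flp_a L179144) q10345, e3 q9803 L174046 q9599, e3 q9804 (flp_a L178995) q10332, e3 q9805 L174068 q9638, e3 q9806 (flp_a L179294) q10361, e3 q9807 (flp_a L179009) q10333, e3 q9808 (flp_a L179031) q10335, e3 q9809 (flp_a L174113) q9810, e3 q9810 L174113 q9809, e3 q9811 (flp_a L179450) q10377, e3 q9812 (flp_a L177021) q10141, e3 q9813 (flp_a L179457) q10378, e3 q9814 (flp_a L179461) q10379, e3 q9815 (flp_a L175199) q9934, e3 q9816 L174165 q9545, e3 q9817 (flp_a L177774) q10205, e3 q9818 L174185 q9548, e3 q9819 (flp_a L179071) q10339, e3 q9820 (flp_a L177948) q10222, e3 q9821 (flp_a L179083) q10340, e3 q9822 (flp_a L179095) q10341, e3 q9823 (flp_a L175133) q9927, e3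 q9824 L174226 q9546, e3 q9825 (flp_a L177626) q10194, e3 q9826 (flp_a L179467) q10380, e3 q9827 L174249 q9119, e3 q9828 (flp_a L179163) q10347, e3 q9829 (flp_a L179173) q10348, e3 q9830 L174281 q9650, e3 q9831 L174295 q9118, e3 q9832 L174304 q9120, e3 q9833 L174314 q9121, e3 q9834 (flp_a L174335) q9835, e3 q9835 L174335 q9834, e3 q9836 (flp_a L180211) q10463, e3 q9837 (flp_a L180171) q10459, e3 q9838 (flp_a L180222) q10464, e3 q9839 (flp_a L180234) q10465, e3 q9840 L174393 q9556, e3 q9841 L174407 q9384, e3 q9842 (flp_a L174445) q9845, e3 q9843 (flp_a L179231) q10354, e3 q9844 (flp_a L179247) q10355, e3 q9845 L174445 q9842, e3 q9846 (flp_a L179257) q10356, e3 q9847 (flp_a L179265) q10357, e3 q9848 (flp_a L179269) q10358, e3 q9849 (flp_a L175860) q9999, e3 q9850 (flp_a L179275) q10359, e3 q9851 (flp_a L179284) q10360, e3 q9852 L174487 q9322, e3 q9853 (flp_a L179314) q10363, e3 q9854 L174507 q9139, e3 q9855 L174520 q9140, trivial⟩ (by decide +kernel)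

theorem ce_a_154 : ∀ r, r < 64 → sm ga (Qf (9856 + r)) = Qf (tab Gen.a (9856 + r)) :=
  edges_tab (sm ga) Qf (tab Gen.a) 9856 [(9856, 9142), (9857, 9143), (9858, 9859), (9859, 9858), (9860, 10273), (9861, 10487), (9862, 10488), (9863, 10278), (9864, 10489), (9865, 10490), (9866, 10369), (9867, 10170), (9868, 10370), (9869, 10371), (9870, 10372), (9871, 10373), (9872, 10172), (9873, 10374), (9874, 10375), (9875, 10376), (9876, 10229), (9877, 10147), (9878, 10209), (9879, 10385), (9880, 10386), (9881, 10387), (9882, 10148), (9883, 10388), (9884, 10389), (9885, 10390), (9886, 9172), (9887, 9174), (9888, 9175), (9889, 9176), (9890, 9177), (9891, 9179), (9892, 9180), (9893, 9181), (9894, 10520), (9895, 10228), (9896, 10521), (9897, 10522), (9898, 10523), (9899, 10524), (9900, 10231), (9901, 10525), (9902, 10526), (9903, 10527), (9904, 10528), (9905, 10406), (9906, 10407), (9907, 10408), (9908, 10409), (9909, 10410), (9910, 10411), (9911, 10412), (9912, 10413), (9913, 10414), (9914, 10415),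 (9915, 10259), (9916, 10416), (9917, 10417), (9918, 10418), (9919, 10419)]
    ⟨e3 q9856 L174529 q9142, e3 q9857 L174541 q9143, e3 q9858 (flp_a L174560) q9859, e3 q9859 L174560 q9858, e3 q9860 (flp_a L178456) q10273, e3 q9861 (flp_a L180421) q10487, e3 q9862 (flp_a L180434) q10488, e3 q9863 (flp_a L178500) q10278, e3 q9864 (flp_a L180441) q10489, e3 q9865 (flp_a L180449) q10490, e3 q9866 (flp_a L179366) q10369, e3 q9867 (flp_a L177385) q10170, e3 q9868 (flp_a L179378) q10370, e3 q9869 (flp_a L179394) q10371, e3 q9870 (flp_a L179402) q10372, e3 q9871 (flp_a L179412) q10373, e3 q9872 (flp_a L177407) q10172, e3 q9873 (flp_a L179422) q10374, e3 q9874 (flp_a L179432) q10375, e3 q9875 (flp_a L179444) q10376, e3 q9876 (flp_a L178024) q10229, e3 q9877 (flp_a L177109) q10147, e3 q9878 (flp_a L177822) q10209, e3 q9879 (flp_a L179511) q10385, e3 q9880 (flp_a L179519) q10386, e3 q9881 (flp_a L179529) q10387, e3 q9882 (flp_a L177125) q10148, e3 q9883 (flp_a L179539) q10388, e3 q9884 (flp_a L179549)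 q10389, e3 q9885 (flp_a L179561) q10390, e3 q9886 L174786 q9172, e3 q9887 L174800 q9174, e3 q9888 L174816 q9175, e3 q9889 L174826 q9176, e3 q9890 L174836 q9177, e3 q9891 L174846 q9179, e3 q9892 L174854 q9180, e3 q9893 L174860 q9181, e3 q9894 (flp_a L180695) q10520, e3 q9895 (flp_a L178010) q10228, e3 q9896 (flp_a L180709) q10521, e3 q9897 (flp_a L180725) q10522, e3 q9898 (flp_a L180733) q10523, e3 q9899 (flp_a L180745) q10524, e3 q9900 (flp_a L178048) q10231, e3 q9901 (flp_a L180753) q10525, e3 q9902 (flp_a L180759) q10526, e3 q9903 (flp_a L180767) q10527, e3 q9904 (flp_a L180775) q10528, e3 q9905 (flp_a L179693) q10406, e3 q9906 (flp_a L179701) q10407, e3 q9907 (flp_a L179711) q10408, e3 q9908 (flp_a L179725) q10409, e3 q9909 (flp_a L179733) q10410, e3 q9910 (flp_a L179739) q10411, e3 q9911 (flp_a L179751) q10412, e3 q9912 (flp_a L179757) q10413, e3 q9913 (flp_a L179763) q10414, e3 q9914 (flp_a L179775) q10415, e3 q9915 (flp_a L178320) q10259, e3 q9916 (flp_a L179779) q10416, e3 q9917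 (flp_a L179793) q10417, e3 q9918 (flp_a L179799) q10418, e3 q9919 (flp_a L179803) q10419, trivial⟩ (by decide +kernel)

theorem ce_a_155 : ∀ r, r < 64 → sm ga (Qf (9920 + r)) = Qf (tab Gen.a (9920 + r)) :=
  edges_tab (sm ga) Qf (tab Gen.a) 9920 [(9920, 10420), (9921, 10421), (9922, 9320), (9923, 9321), (9924, 9312), (9925, 9318), (9926, 9317), (9927, 9823), (9928, 10422), (9929, 10423), (9930, 10424), (9931, 10425), (9932, 10256), (9933, 10426), (9934, 9815), (9935, 9218), (9936, 10325), (9937, 10566), (9938, 9228), (9939, 9223), (9940, 9224), (9941, 10569), (9942, 10323), (9943, 10263), (9944, 9944), (9945, 9945), (9946, 9946), (9947, 9238), (9948, 9239), (9949, 9311), (9950, 10311), (9951, 9951), (9952, 9952), (9953, 9953), (9954, 9954), (9955, 9955), (9956, 10575), (9957, 9255), (9958, 9256), (9959, 9257), (9960, 9258), (9961, 9259), (9962, 9260), (9963, 9261), (9964, 9262), (9965, 9263), (9966, 10576), (9967, 10577), (9968, 10578), (9969, 10579), (9970, 10580), (9971, 10581), (9972,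 10001), (9973, 10582), (9974, 10583), (9975, 10302), (9976, 10003), (9977, 10002), (9978, 9978), (9979, 9979), (9980, 9980), (9981, 10300), (9982, 9982), (9983, 10303)]
    ⟨e3 q9920 (flp_a L179814) q10420, e3 q9921 (flp_a L179829) q10421, e3 q9922 L175072 q9320, e3 q9923 L175082 q9321, e3 q9924 L175094 q9312, e3 q9925 L175106 q9318, e3 q9926 L175120 q9317, e3 q9927 L175133 q9823, e3 q9928 (flp_a L179844) q10422, e3 q9929 (flp_a L179859) q10423, e3 q9930 (flp_a L179871) q10424, e3 q9931 (flp_a L179883) q10425, e3 q9932 (flp_a L178288) q10256, e3 q9933 (flp_a L179896) q10426, e3 q9934 L175199 q9815, e3 q9935 L175211 q9218, e3 q9936 (flp_a L178911) q10325, e3 q9937 (flp_a L181068) q10566, e3 q9938 L175238 q9228, e3 q9939 L175253 q9223, e3 q9940 L175263 q9224, e3 q9941 (flp_a L181099) q10569, e3 q9942 (flp_a L178898) q10323, e3 q9943 (flp_a L178346) q10263, e3 q9944 L175293 q9944, e3 q9945 L175306 q9945, e3 q9946 L175321 q9946, e3 q9947 L175332 q9238, e3 q9948 L175344 q9239, e3 q9949 L175355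 q9311, e3 q9950 (flp_a L178748) q10311, e3 q9951 L175377 q9951, e3 q9952 L175390 q9952, e3 q9953 L175400 q9953, e3 q9954 L175409 q9954, e3 q9955 L175418 q9955, e3 q9956 L181151 q10575, e3 q9957 L175431 q9255, e3 q9958 L175441 q9256, e3 q9959 L175452 q9257, e3 q9960 L175464 q9258, e3 q9961 L175471 q9259, e3 q9962 L175482 q9260, e3 q9963 L175491 q9261, e3 q9964 L175504 q9262, e3 q9965 L175512 q9263, e3 q9966 (flp_a L181158) q10576, e3 q9967 (flp_a L181167) q10577, e3 q9968 (flp_a L181178) q10578, e3 q9969 (flp_a L181191) q10579, e3 q9970 (flp_a L181202) q10580, e3 q9971 (flp_a L181212) q10581, e3 q9972 (flp_a L175876) q10001, e3 q9973 (flp_a L181220) q10582, e3 q9974 (flp_a L181230) q10583, e3 q9975 (flp_a L178664) q10302, e3 q9976 (flp_a L175895) q10003, e3 q9977 (flp_a L175885) q10002, e3 q9978 L175627 q9978, e3 q9979 L175637 q9979, e3 q9980 L175652 q9980, e3 q9981 (flp_a L178647) q10300, e3 q9982 L175672 q9982, e3 q9983 (flp_a L178675) q10303, trivial⟩ (by decide +kernel)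

theorem ce_a_156 : ∀ r, r < 64 → sm ga (Qf (9984 + r)) = Qf (tab Gen.a (9984 + r)) :=
  edges_tab (sm ga) Qf (tab Gen.a) 9984 [(9984, 9984), (9985, 9985), (9986, 9986), (9987, 9987), (9988, 9988), (9989, 10299), (9990, 9294), (9991, 10305), (9992, 9315), (9993, 9316), (9994, 9319), (9995, 9640), (9996, 9654), (9997, 9560), (9998, 9388), (9999, 9849), (10000, 10563), (10001, 9972), (10002, 9977), (10003, 9976), (10004, 10595), (10005, 10596), (10006, 10609), (10007, 10562), (10008, 10560), (10009, 10561), (10010, 10611), (10011, 10605), (10012, 9327), (10013, 10064), (10014, 10346), (10015, 9383), (10016, 9385), (10017, 9386), (10018, 9387), (10019, 9389), (10020, 9390), (10021, 10362), (10022, 9394), (10023, 9395), (10024, 9397), (10025, 9398), (10026, 9400), (10027, 10212), (10028, 10381), (10029, 10382), (10030, 10383), (10031, 10384), (10032, 9401), (10033, 9403), (10034, 9404), (10035, 9405), (10036, 9406), (10037, 9408), (10038, 9409), (10039, 9410), (10040, 9411), (10041, 9413),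 (10042, 10646), (10043, 9416), (10044, 9417), (10045, 9418), (10046, 9419), (10047, 9420)]
    ⟨e3 q9984 L175691 q9984, e3 q9985 L175701 q9985, e3 q9986 L175716 q9986, e3 q9987 L175727 q9987, e3 q9988 L175740 q9988, e3 q9989 (flp_a L178636) q10299, e3 q9990 L175761 q9294, e3 q9991 (flp_a L178697) q10305, e3 q9992 L175777 q9315, e3 q9993 L175785 q9316, e3 q9994 L175796 q9319, e3 q9995 L175810 q9640, e3 q9996 L175825 q9654, e3 q9997 L175836 q9560, e3 q9998 L175848 q9388, e3 q9999 L175860 q9849, e3 q10000 (flp_a L181036) q10563, e3 q10001 L175876 q9972, e3 q10002 L175885 q9977, e3 q10003 L175895 q9976, e3 q10004 (flp_a L181344) q10595, e3 q10005 (flp_a L181353) q10596, e3 q10006 L181486 q10609, e3 q10007 (flp_a L181022) q10562, e3 q10008 (flp_a L180990) q10560, e3 q10009 (flp_a L181006) q10561, e3 q10010 L181501 q10611, e3 q10011 (flp_a L181449) q10605, e3 q10012 (flp_a L175971) q9327, e3 q10013 (flp_a L176371) q10064, e3 q10014 (flp_a L179154) q10346, e3 q10015 L175994 q9383, e3 q10016 L176005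 q9385, e3 q10017 L176019 q9386, e3 q10018 L176029 q9387, e3 q10019 L176037 q9389, e3 q10020 L176048 q9390, e3 q10021 (flp_a L179304) q10362, e3 q10022 L176062 q9394, e3 q10023 L176069 q9395, e3 q10024 L176074 q9397, e3 q10025 L176080 q9398, e3 q10026 L176086 q9400, e3 q10027 (flp_a L177858) q10212, e3 q10028 (flp_a L179476) q10381, e3 q10029 (flp_a L179485) q10382, e3 q10030 (flp_a L179495) q10383, e3 q10031 (flp_a L179503) q10384, e3 q10032 L176123 q9401, e3 q10033 L176135 q9403, e3 q10034 L176143 q9404, e3 q10035 L176151 q9405, e3 q10036 L176161 q9406, e3 q10037 L176167 q9408, e3 q10038 L176173 q9409, e3 q10039 L176179 q9410, e3 q10040 L176185 q9411, e3 q10041 L176191 q9413, e3 q10042 L181758 q10646, e3 q10043 L176205 q9416, e3 q10044 L176216 q9417, e3 q10045 L176223 q9418, e3 q10046 L176232 q9419, e3 q10047 L176243 q9420, trivial⟩ (by decide +kernel)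

theorem ce_a_157 : ∀ r, r < 64 → sm ga (Qf (10048 + r)) = Qf (tab Gen.a (10048 + r)) :=
  edges_tab (sm ga) Qf (tab Gen.a) 10048 [(10048, 9421), (10049, 9422), (10050, 9423), (10051, 9424), (10052, 10654), (10053, 9427), (10054, 9368), (10055, 10427), (10056, 10322), (10057, 10327), (10058, 10429), (10059, 10317), (10060, 10430), (10061, 9378), (10062, 10568), (10063, 10434), (10064, 10013), (10065, 10351), (10066, 10614), (10067, 10473), (10068, 10615), (10069, 10616), (10070, 10617), (10071, 10600), (10072, 10618), (10073, 10619), (10074, 9589), (10075, 10132), (10076, 10252), (10077, 10622), (10078, 10623), (10079, 10253), (10080, 10624), (10081, 10625), (10082, 10626), (10083, 10321), (10084, 10634), (10085, 10230), (10086, 10635), (10087, 10636), (10088, 10637), (10089, 10638), (10090, 10639), (10091, 10232), (10092, 10640), (10093, 10641), (10094, 10699), (10095, 10643), (10096, 10644), (10097, 10645), (10098, 10318), (10099, 10201), (10100, 10342), (10101, 9415), (10102, 9644),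 (10103, 10647), (10104, 10648), (10105, 10649), (10106, 9647), (10107, 10650), (10108, 10651), (10109, 10712), (10110, 10653), (10111, 10344)]
    ⟨e3 q10048 L176251 q9421, e3 q10049 L176257 q9422, e3 q10050 L176270 q9423, e3 q10051 L176280 q9424, e3 q10052 L181839 q10654, e3 q10053 L176297 q9427, e3 q10054 (flp_a L176308) q9368, e3 q10055 (flp_a L179910) q10427, e3 q10056 (flp_a L178882) q10322, e3 q10057 (flp_a L178931) q10327, e3 q10058 (flp_a L179930) q10429, e3 q10059 (flp_a L178810) q10317, e3 q10060 (flp_a L179941) q10430, e3 q10061 L176352 q9378, e3 q10062 (flp_a L181084) q10568, e3 q10063 (flp_a L179975) q10434, e3 q10064 L176371 q10013, e3 q10065 (flp_a L179207) q10351, e3 q10066 (flp_a L181531) q10614, e3 q10067 (flp_a L180325) q10473, e3 q10068 (flp_a L181540) q10615, e3 q10069 (flp_a L181554) q10616, e3 q10070 (flp_a L181560) q10617, e3 q10071 (flp_a L181396) q10600, e3 q10072 (flp_a L181568) q10618, e3 q10073 (flp_a L181578) q10619, e3 q10074 L176456 q9589, e3 q10075 (flp_a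 L176909) q10132, e3 q10076 (flp_a L178239) q10252, e3 q10077 (flp_a L181597) q10622, e3 q10078 (flp_a L181604) q10623, e3 q10079 (flp_a L178252) q10253, e3 q10080 (flp_a L181610) q10624, e3 q10081 (flp_a L181618) q10625, e3 q10082 (flp_a L181626) q10626, e3 q10083 (flp_a L178858) q10321, e3 q10084 (flp_a L181676) q10634, e3 q10085 (flp_a L178038) q10230, e3 q10086 (flp_a L181686) q10635, e3 q10087 (flp_a L181696) q10636, e3 q10088 (flp_a L181704) q10637, e3 q10089 (flp_a L181710) q10638, e3 q10090 (flp_a L181718) q10639, e3 q10091 (flp_a L178064) q10232, e3 q10092 (flp_a L181726) q10640, e3 q10093 (flp_a L181734) q10641, e3 q10094 L182132 q10699, e3 q10095 (flp_a L181742) q10643, e3 q10096 (flp_a L181748) q10644, e3 q10097 (flp_a L181754) q10645, e3 q10098 (flp_a L178814) q10318, e3 q10099 (flp_a L177719) q10201, e3 q10100 (flp_a L179105) q10342, e3 q10101 (flp_a L176611) q9415, e3 q10102 L176619 q9644, e3 q10103 (flp_a L181770) q10647, e3 q10104 (flp_a L181781) q10648, e3 q10105 (flp_a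 L181793) q10649, e3 q10106 L176654 q9647, e3 q10107 (flp_a L181803) q10650, e3 q10108 (flp_a L181810) q10651, e3 q10109 L182226 q10712, e3 q10110 (flp_a L181829) q10653, e3 q10111 (flp_a L179131) q10344, trivial⟩ (by decide +kernel)

theorem ce_a_158 : ∀ r, r < 64 → sm ga (Qf (10112 + r)) = Qf (tab Gen.a (10112 + r)) :=
  edges_tab (sm ga) Qf (tab Gen.a) 10112 [(10112, 10203), (10113, 9652), (10114, 9426), (10115, 10715), (10116, 9540), (10117, 9623), (10118, 9531), (10119, 10119), (10120, 10120), (10121, 10121), (10122, 10718), (10123, 10123), (10124, 10124), (10125, 10307), (10126, 10720), (10127, 10127), (10128, 9446), (10129, 10722), (10130, 9450), (10131, 9453), (10132, 10075), (10133, 10723), (10134, 9555), (10135, 9557), (10136, 9558), (10137, 9559), (10138, 9561), (10139, 9562), (10140, 9563), (10141, 9812), (10142, 9565), (10143, 9566), (10144, 9567), (10145, 9568), (10146, 9470), (10147, 9877), (10148, 9882), (10149, 10738), (10150, 9579), (10151, 9580), (10152, 9581), (10153,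 9583), (10154, 9584), (10155, 9585), (10156, 9587), (10157, 9588), (10158, 9690), (10159, 9590), (10160, 9591), (10161, 9592), (10162, 9484), (10163, 10756), (10164, 9602), (10165, 9603), (10166, 9606), (10167, 9493), (10168, 9495), (10169, 9496), (10170, 9867), (10171, 10762), (10172, 9872), (10173, 10763), (10174, 10764), (10175, 10765)]
    ⟨e3 q10112 (flp_a L177749) q10203, e3 q10113 L176712 q9652, e3 q10114 (flp_a L176725) q9426, e3 q10115 (flp_a L182246) q10715, e3 q10116 L176741 q9540, e3 q10117 L176756 q9623, e3 q10118 L176768 q9531, e3 q10119 L176784 q10119, e3 q10120 L176794 q10120, e3 q10121 L176806 q10121, e3 q10122 L182280 q10718, e3 q10123 L176823 q10123, e3 q10124 L176835 q10124, e3 q10125 (flp_a L178718) q10307, e3 q10126 L182301 q10720, e3 q10127 L176864 q10127, e3 q10128 (flp_a L176874) q9446, e3 q10129 (flp_a L182324) q10722, e3 q10130 L176887 q9450, e3 q10131 L176894 q9453, e3 q10132 L176909 q10075, e3 q10133 (flp_a L182331) q10723, e3 q10134 L176931 q9555, e3 q10135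 L176946 q9557, e3 q10136 L176960 q9558, e3 q10137 L176972 q9559, e3 q10138 L176982 q9561, e3 q10139 L176993 q9562, e3 q10140 L177005 q9563, e3 q10141 L177021 q9812, e3 q10142 L177037 q9565, e3 q10143 L177052 q9566, e3 q10144 L177068 q9567, e3 q10145 L177078 q9568, e3 q10146 L177093 q9470, e3 q10147 L177109 q9877, e3 q10148 L177125 q9882, e3 q10149 (flp_a L182515) q10738, e3 q10150 L177149 q9579, e3 q10151 L177162 q9580, e3 q10152 L177175 q9581, e3 q10153 L177180 q9583, e3 q10154 L177196 q9584, e3 q10155 L177202 q9585, e3 q10156 L177210 q9587, e3 q10157 L177225 q9588, e3 q10158 L177234 q9690, e3 q10159 L177250 q9590, e3 q10160 L177266 q9591, e3 q10161 L177276 q9592, e3 q10162 L177291 q9484, e3 q10163 (flp_a L182720) q10756, e3 q10164 L177313 q9602, e3 q10165 L177323 q9603, e3 q10166 L177331 q9606, e3 q10167 L177345 q9493, e3 q10168 L177361 q9495, e3 q10169 L177377 q9496, e3 q10170 L177385 q9867, e3 q10171 (flp_a L182780) q10762, e3 q10172 L177407 q9872, e3 q10173 (flp_a L182796) q10763,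 e3 q10174 (flp_a L182810) q10764, e3 q10175 (flp_a L182820) q10765, trivial⟩ (by decide +kernel)

theorem ce_a_159 : ∀ r, r < 64 → sm ga (Qf (10176 + r)) = Qf (tab Gen.a (10176 + r)) :=
  edges_tab (sm ga) Qf (tab Gen.a) 10176 [(10176, 9624), (10177, 9625), (10178, 9626), (10179, 9627), (10180, 9628), (10181, 9629), (10182, 9630), (10183, 9631), (10184, 9632), (10185, 9633), (10186, 9634), (10187, 10785), (10188, 9645), (10189, 9646), (10190, 9648), (10191, 9649), (10192, 10788), (10193, 9518), (10194, 9825), (10195, 9524), (10196, 10790), (10197, 9797), (10198, 9670), (10199, 10716), (10200, 9535), (10201, 10099), (10202, 9538), (10203, 10112), (10204, 10451), (10205, 9817), (10206, 10453), (10207, 9552), (10208, 9553), (10209, 9878), (10210, 10797), (10211, 10798), (10212, 10027), (10213, 10726), (10214, 10472), (10215, 10727), (10216, 10728), (10217, 10729), (10218, 10599), (10219, 10730), (10220, 10731), (10221, 10732), (10222, 9820), (10223, 10734), (10224, 10735), (10225, 10736),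 (10226, 10737), (10227, 9575), (10228, 9895), (10229, 9876), (10230, 10085), (10231, 9900), (10232, 10091), (10233, 10819), (10234, 10397), (10235, 9755), (10236, 10396), (10237, 10743), (10238, 10744), (10239, 10745)]
    ⟨e3 q10176 L177443 q9624, e3 q10177 L177457 q9625, e3 q10178 L177469 q9626, e3 q10179 L177477 q9627, e3 q10180 L177489 q9628, e3 q10181 L177495 q9629, e3 q10182 L177511 q9630, e3 q10183 L177517 q9631, e3 q10184 L177523 q9632, e3 q10185 L177529 q9633, e3 q10186 L177537 q9634, e3 q10187 L183004 q10785, e3 q10188 L177561 q9645, e3 q10189 L177573 q9646, e3 q10190 L177583 q9648, e3 q10191 L177596 q9649, e3 q10192 L183041 q10788, e3 q10193 (flp_a L177611) q9518, e3 q10194 L177626 q9825, e3 q10195 L177641 q9524, e3 q10196 (flp_a L183071) q10790, e3 q10197 L177665 q9797, e3 q10198 L177691 q9670, e3 q10199 (flp_a L182253) q10716, e3 q10200 L177707 q9535, e3 q10201 L177719 q10099, e3 q10202 (flp_a L177731) q9538, e3 q10203 L177749 q10112, e3 q10204 (flp_a L180114) q10451, e3 q10205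 L177774 q9817, e3 q10206 (flp_a L180134) q10453, e3 q10207 L177796 q9552, e3 q10208 L177812 q9553, e3 q10209 L177822 q9878, e3 q10210 (flp_a L183161) q10797, e3 q10211 (flp_a L183177) q10798, e3 q10212 L177858 q10027, e3 q10213 (flp_a L182369) q10726, e3 q10214 (flp_a L180311) q10472, e3 q10215 (flp_a L182384) q10727, e3 q10216 (flp_a L182398) q10728, e3 q10217 (flp_a L182406) q10729, e3 q10218 (flp_a L181383) q10599, e3 q10219 (flp_a L182414) q10730, e3 q10220 (flp_a L182426) q10731, e3 q10221 (flp_a L182437) q10732, e3 q10222 L177948 q9820, e3 q10223 (flp_a L182463) q10734, e3 q10224 (flp_a L182478) q10735, e3 q10225 (flp_a L182490) q10736, e3 q10226 (flp_a L182500) q10737, e3 q10227 L178000 q9575, e3 q10228 L178010 q9895, e3 q10229 L178024 q9876, e3 q10230 L178038 q10085, e3 q10231 L178048 q9900, e3 q10232 L178064 q10091, e3 q10233 (flp_a L183384) q10819, e3 q10234 (flp_a L179630) q10397, e3 q10235 L178087 q9755, e3 q10236 (flp_a L179617) q10396, e3 q10237 (flp_a L182573) q10743, e3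 q10238 (flp_a L182584) q10744, e3 q10239 (flp_a L182597) q10745, trivial⟩ (by decide +kernel)

theorem ce_a_160 : ∀ r, r < 64 → sm ga (Qf (10240 + r)) = Qf (tab Gen.a (10240 + r)) :=
  edges_tab (sm ga) Qf (tab Gen.a) 10240 [(10240, 9758), (10241, 10746), (10242, 10747), (10243, 10748), (10244, 10749), (10245, 10750), (10246, 10842), (10247, 10673), (10248, 10753), (10249, 10754), (10250, 10755), (10251, 9596), (10252, 10076), (10253, 10079), (10254, 10847), (10255, 9725), (10256, 9932), (10257, 10437), (10258, 9726), (10259, 9915), (10260, 10759), (10261, 10760), (10262, 10761), (10263, 9943), (10264, 9666), (10265, 10864), (10266, 9616), (10267, 9617), (10268, 9618), (10269, 9620), (10270, 9621), (10271, 9622), (10272, 10274), (10273, 9860), (10274, 10272), (10275, 10865), (10276, 10866), (10277, 10867), (10278, 9863), (10279, 10868), (10280, 10869), (10281, 10870), (10282, 10871), (10283, 10704), (10284, 10772), (10285, 10773), (10286, 10774), (10287, 10775), (10288, 10776), (10289,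 10777), (10290, 10778), (10291, 10779), (10292, 10780), (10293, 10900), (10294, 10782), (10295, 10783), (10296, 10784), (10297, 9799), (10298, 9635), (10299, 9989), (10300, 9981), (10301, 10439), (10302, 9975), (10303, 9983)]
    ⟨e3 q10240 L178125 q9758, e3 q10241 (flp_a L182603) q10746, e3 q10242 (flp_a L182615) q10747, e3 q10243 (flp_a L182623) q10748, e3 q10244 (flp_a L182631) q10749, e3 q10245 (flp_a L182641) q10750, e3 q10246 L183593 q10842, e3 q10247 (flp_a L181983) q10673, e3 q10248 (flp_a L182685) q10753, e3 q10249 (flp_a L182697) q10754, e3 q10250 (flp_a L182705) q10755, e3 q10251 L178225 q9596, e3 q10252 L178239 q10076, e3 q10253 L178252 q10079, e3 q10254 (flp_a L183652) q10847, e3 q10255 L178274 q9725, e3 q10256 L178288 q9932, e3 q10257 (flp_a L180002) q10437, e3 q10258 L178304 q9726, e3 q10259 L178320 q9915, e3 q10260 (flp_a L182752) q10759, e3 q10261 (flp_a L182764) q10760, e3 q10262 (flp_a L182774) q10761, e3 q10263 L178346 q9943, e3 q10264 L178358 q9666, e3 q10265 (flp_a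 L183824) q10864, e3 q10266 L178384 q9616, e3 q10267 L178397 q9617, e3 q10268 L178410 q9618, e3 q10269 L178417 q9620, e3 q10270 L178433 q9621, e3 q10271 L178441 q9622, e3 q10272 (flp_a L178469) q10274, e3 q10273 L178456 q9860, e3 q10274 L178469 q10272, e3 q10275 (flp_a L183840) q10865, e3 q10276 (flp_a L183851) q10866, e3 q10277 (flp_a L183864) q10867, e3 q10278 L178500 q9863, e3 q10279 (flp_a L183872) q10868, e3 q10280 (flp_a L183884) q10869, e3 q10281 (flp_a L183894) q10870, e3 q10282 (flp_a L183904) q10871, e3 q10283 (flp_a L182152) q10704, e3 q10284 (flp_a L182886) q10772, e3 q10285 (flp_a L182898) q10773, e3 q10286 (flp_a L182912) q10774, e3 q10287 (flp_a L182920) q10775, e3 q10288 (flp_a L182928) q10776, e3 q10289 (flp_a L182936) q10777, e3 q10290 (flp_a L182942) q10778, e3 q10291 (flp_a L182956) q10779, e3 q10292 (flp_a L182968) q10780, e3 q10293 L184096 q10900, e3 q10294 (flp_a L182984) q10782, e3 q10295 (flp_a L182992) q10783, e3 q10296 (flp_a L182998) q10784, e3 q10297 (flp_a L178622)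 q9799, e3 q10298 (flp_a L178624) q9635, e3 q10299 L178636 q9989, e3 q10300 L178647 q9981, e3 q10301 (flp_a L180020) q10439, e3 q10302 L178664 q9975, e3 q10303 L178675 q9983, trivial⟩ (by decide +kernel)

theorem ce_a_161 : ∀ r, r < 64 → sm ga (Qf (10304 + r)) = Qf (tab Gen.a (10304 + r)) :=
  edges_tab (sm ga) Qf (tab Gen.a) 10304 [(10304, 10909), (10305, 9991), (10306, 9643), (10307, 10125), (10308, 10707), (10309, 10709), (10310, 10786), (10311, 9950), (10312, 10914), (10313, 10462), (10314, 9801), (10315, 9653), (10316, 10917), (10317, 10059), (10318, 10098), (10319, 9675), (10320, 9661), (10321, 10083), (10322, 10056), (10323, 9942), (10324, 9671), (10325, 9936), (10326, 10751), (10327, 10057), (10328, 10841), (10329, 9684), (10330, 10330), (10331, 10921), (10332, 9804), (10333, 9807), (10334, 10752), (10335, 9808), (10336, 9693), (10337, 10927), (10338, 10928), (10339, 9819), (10340, 9821), (10341, 9822), (10342, 10100), (10343, 9699), (10344, 10111), (10345, 9802), (10346, 10014),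 (10347, 9828), (10348, 9829), (10349, 9712), (10350, 9713), (10351, 10065), (10352, 10939), (10353, 10940), (10354, 9843), (10355, 9844), (10356, 9846), (10357, 9847), (10358, 9848), (10359, 9850), (10360, 9851), (10361, 9806), (10362, 10021), (10363, 9853), (10364, 9727), (10365, 10852), (10366, 10856), (10367, 10958)]
    ⟨e3 q10304 L184165 q10909, e3 q10305 L178697 q9991, e3 q10306 L178705 q9643, e3 q10307 L178718 q10125, e3 q10308 (flp_a L182175) q10707, e3 q10309 (flp_a L182198) q10709, e3 q10310 (flp_a L183022) q10786, e3 q10311 L178748 q9950, e3 q10312 L184212 q10914, e3 q10313 (flp_a L180199) q10462, e3 q10314 (flp_a L178779) q9801, e3 q10315 (flp_a L178781) q9653, e3 q10316 (flp_a L184232) q10917, e3 q10317 L178810 q10059, e3 q10318 L178814 q10098, e3 q10319 L178839 q9675, e3 q10320 (flp_a L178841) q9661, e3 q10321 L178858 q10083, e3 q10322 L178882 q10056, e3 q10323 L178898 q9942, e3 q10324 L178902 q9671, e3 q10325 L178911 q9936, e3 q10326 L182667 q10751, e3 q10327 L178931 q10057,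 e3 q10328 (flp_a L183589) q10841, e3 q10329 L178955 q9684, e3 q10330 L178970 q10330, e3 q10331 L184283 q10921, e3 q10332 L178995 q9804, e3 q10333 L179009 q9807, e3 q10334 (flp_a L182671) q10752, e3 q10335 L179031 q9808, e3 q10336 L179045 q9693, e3 q10337 (flp_a L184361) q10927, e3 q10338 (flp_a L184373) q10928, e3 q10339 L179071 q9819, e3 q10340 L179083 q9821, e3 q10341 L179095 q9822, e3 q10342 L179105 q10100, e3 q10343 L179119 q9699, e3 q10344 L179131 q10111, e3 q10345 L179144 q9802, e3 q10346 L179154 q10014, e3 q10347 L179163 q9828, e3 q10348 L179173 q9829, e3 q10349 L179183 q9712, e3 q10350 L179196 q9713, e3 q10351 L179207 q10065, e3 q10352 (flp_a L184485) q10939, e3 q10353 (flp_a L184500) q10940, e3 q10354 L179231 q9843, e3 q10355 L179247 q9844, e3 q10356 L179257 q9846, e3 q10357 L179265 q9847, e3 q10358 L179269 q9848, e3 q10359 L179275 q9850, e3 q10360 L179284 q9851, e3 q10361 L179294 q9806, e3 q10362 L179304 q10021, e3 q10363 L179314 q9853, e3 q10364 L179326 q9727, e3 q10365 (flp_a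 L183712) q10852, e3 q10366 (flp_a L183748) q10856, e3 q10367 (flp_a L184658) q10958, trivial⟩ (by decide +kernel)

theorem ce_a_162 : ∀ r, r < 64 → sm ga (Qf (10368 + r)) = Qf (tab Gen.a (10368 + r)) :=
  edges_tab (sm ga) Qf (tab Gen.a) 10368 [(10368, 10959), (10369, 9866), (10370, 9868), (10371, 9869), (10372, 9870), (10373, 9871), (10374, 9873), (10375, 9874), (10376, 9875), (10377, 9811), (10378, 9813), (10379, 9814), (10380, 9826), (10381, 10028), (10382, 10029), (10383, 10030), (10384, 10031), (10385, 9879), (10386, 9880), (10387, 9881), (10388, 9883), (10389, 9884), (10390, 9885), (10391, 9756), (10392, 9757), (10393, 9759), (10394, 9760), (10395, 9761), (10396, 10236), (10397, 10234), (10398, 10828), (10399, 10987), (10400, 10988), (10401, 10834), (10402, 10989), (10403, 10990), (10404, 10991), (10405, 10992), (10406, 9905), (10407, 9906), (10408, 9907), (10409, 9908), (10410, 9909), (10411, 9910), (10412, 9911), (10413, 9912), (10414, 9913), (10415, 9914), (10416, 9916), (10417,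 9917), (10418, 9918), (10419, 9919), (10420, 9920), (10421, 9921), (10422, 9928), (10423, 9929), (10424, 9930), (10425, 9931), (10426, 9933), (10427, 10055), (10428, 9791), (10429, 10058), (10430, 10060), (10431, 9798)]
    ⟨e3 q10368 (flp_a L184668) q10959, e3 q10369 L179366 q9866, e3 q10370 L179378 q9868, e3 q10371 L179394 q9869, e3 q10372 L179402 q9870, e3 q10373 L179412 q9871, e3 q10374 L179422 q9873, e3 q10375 L179432 q9874, e3 q10376 L179444 q9875, e3 q10377 L179450 q9811, e3 q10378 L179457 q9813, e3 q10379 L179461 q9814, e3 q10380 L179467 q9826, e3 q10381 L179476 q10028, e3 q10382 L179485 q10029, e3 q10383 L179495 q10030, e3 q10384 L179503 q10031, e3 q10385 L179511 q9879, e3 q10386 L179519 q9880, e3 q10387 L179529 q9881, e3 q10388 L179539 q9883, e3 q10389 L179549 q9884, e3 q10390 L179561 q9885, e3 q10391 L179565 q9756, e3 q10392 L179578 q9757, e3 q10393 L179589 q9759, e3 q10394 L179597 q9760, e3 q10395 L179607 q9761, e3 q10396 L179617 q10236, e3 q10397 L179630 q10234, e3 q10398 (flp_a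 L183479) q10828, e3 q10399 (flp_a L184930) q10987, e3 q10400 (flp_a L184945) q10988, e3 q10401 (flp_a L183524) q10834, e3 q10402 (flp_a L184955) q10989, e3 q10403 (flp_a L184965) q10990, e3 q10404 (flp_a L184975) q10991, e3 q10405 (flp_a L184985) q10992, e3 q10406 L179693 q9905, e3 q10407 L179701 q9906, e3 q10408 L179711 q9907, e3 q10409 L179725 q9908, e3 q10410 L179733 q9909, e3 q10411 L179739 q9910, e3 q10412 L179751 q9911, e3 q10413 L179757 q9912, e3 q10414 L179763 q9913, e3 q10415 L179775 q9914, e3 q10416 L179779 q9916, e3 q10417 L179793 q9917, e3 q10418 L179799 q9918, e3 q10419 L179803 q9919, e3 q10420 L179814 q9920, e3 q10421 L179829 q9921, e3 q10422 L179844 q9928, e3 q10423 L179859 q9929, e3 q10424 L179871 q9930, e3 q10425 L179883 q9931, e3 q10426 L179896 q9933, e3 q10427 L179910 q10055, e3 q10428 L179921 q9791, e3 q10429 L179930 q10058, e3 q10430 L179941 q10060, e3 q10431 L179955 q9798, trivial⟩ (by decide +kernel)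

theorem ce_a_163 : ∀ r, r < 64 → sm ga (Qf (10432 + r)) = Qf (tab Gen.a (10432 + r)) :=
  edges_tab (sm ga) Qf (tab Gen.a) 10432 [(10432, 10791), (10433, 10897), (10434, 10063), (10435, 10911), (10436, 10935), (10437, 10257), (10438, 10922), (10439, 10301), (10440, 10954), (10441, 10923), (10442, 10926), (10443, 10444), (10444, 10443), (10445, 10972), (10446, 10733), (10447, 10973), (10448, 10974), (10449, 10975), (10450, 10564), (10451, 10204), (10452, 10795), (10453, 10206), (10454, 10931), (10455, 10813), (10456, 10932), (10457, 10933), (10458, 10789), (10459, 9837), (10460, 10937), (10461, 10938), (10462, 10313), (10463, 9836), (10464, 9838), (10465, 9839), (10466, 10467), (10467, 10466), (10468, 11054), (10469, 11021), (10470, 11055), (10471, 11056), (10472, 10214), (10473, 10067), (10474, 10477), (10475, 10945), (10476, 10946), (10477, 10474), (10478, 10947), (10479, 10948), (10480, 10949), (10481, 10950), (10482, 10601), (10483, 10951), (10484, 10952), (10485, 11080), (10486, 10957),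 (10487, 9861), (10488, 9862), (10489, 9864), (10490, 9865), (10491, 10492), (10492, 10491), (10493, 10873), (10494, 11082), (10495, 11083)]
    ⟨e3 q10432 (flp_a L183086) q10791, e3 q10433 (flp_a L184084) q10897, e3 q10434 L179975 q10063, e3 q10435 L184193 q10911, e3 q10436 (flp_a L184443) q10935, e3 q10437 L180002 q10257, e3 q10438 (flp_a L184297) q10922, e3 q10439 L180020 q10301, e3 q10440 (flp_a L184616) q10954, e3 q10441 (flp_a L184311) q10923, e3 q10442 (flp_a L184349) q10926, e3 q10443 (flp_a L180061) q10444, e3 q10444 L180061 q10443, e3 q10445 (flp_a L184798) q10972, e3 q10446 (flp_a L182451) q10733, e3 q10447 (flp_a L184804) q10973, e3 q10448 (flp_a L184812) q10974, e3 q10449 (flp_a L184818) q10975, e3 q10450 (flp_a L181050) q10564, e3 q10451 L180114 q10204, e3 q10452 (flp_a L183137) q10795, e3 q10453 L180134 q10206, e3 q10454 (flp_a L184397) q10931, e3 q10455 (flp_a L183319) q10813, e3 q10456 (flp_a L184411) q10932, e3 q10457 (flp_a L184421) q10933, e3 q10458 (flp_a L183056) q10789,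 e3 q10459 L180171 q9837, e3 q10460 (flp_a L184465) q10937, e3 q10461 (flp_a L184475) q10938, e3 q10462 L180199 q10313, e3 q10463 L180211 q9836, e3 q10464 L180222 q9838, e3 q10465 L180234 q9839, e3 q10466 (flp_a L180257) q10467, e3 q10467 L180257 q10466, e3 q10468 (flp_a L185504) q11054, e3 q10469 (flp_a L185220) q11021, e3 q10470 (flp_a L185513) q11055, e3 q10471 (flp_a L185521) q11056, e3 q10472 L180311 q10214, e3 q10473 L180325 q10067, e3 q10474 (flp_a L180361) q10477, e3 q10475 (flp_a L184540) q10945, e3 q10476 (flp_a L184556) q10946, e3 q10477 L180361 q10474, e3 q10478 (flp_a L184564) q10947, e3 q10479 (flp_a L184570) q10948, e3 q10480 (flp_a L184578) q10949, e3 q10481 (flp_a L184584) q10950, e3 q10482 (flp_a L181409) q10601, e3 q10483 (flp_a L184590) q10951, e3 q10484 (flp_a L184598) q10952, e3 q10485 L185715 q11080, e3 q10486 (flp_a L184648) q10957, e3 q10487 L180421 q9861, e3 q10488 L180434 q9862, e3 q10489 L180441 q9864, e3 q10490 L180449 q9865, e3 q10491 (flp_a L180468) q10492,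 e3 q10492 L180468 q10491, e3 q10493 (flp_a L183921) q10873, e3 q10494 (flp_a L185731) q11082, e3 q10495 (flp_a L185744) q11083, trivial⟩ (by decide +kernel)

theorem ce_a_164 : ∀ r, r < 64 → sm ga (Qf (10496 + r)) = Qf (tab Gen.a (10496 + r)) :=
  edges_tab (sm ga) Qf (tab Gen.a) 10496 [(10496, 10879), (10497, 11084), (10498, 11085), (10499, 11086), (10500, 10964), (10501, 10766), (10502, 10965), (10503, 10966), (10504, 10967), (10505, 10968), (10506, 10768), (10507, 10969), (10508, 10970), (10509, 10971), (10510, 10821), (10511, 10739), (10512, 10799), (10513, 10981), (10514, 10982), (10515, 10983), (10516, 10740), (10517, 10984), (10518, 10985), (10519, 10986), (10520, 9894), (10521, 9896), (10522, 9897), (10523, 9898), (10524, 9899), (10525, 9901), (10526, 9902), (10527, 9903), (10528, 9904), (10529, 11116), (10530, 10820), (10531, 11117), (10532, 11118), (10533, 11119), (10534, 11120), (10535, 11121), (10536, 10823), (10537, 11122), (10538, 11123), (10539, 10857), (10540, 11125), (10541,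 11126), (10542, 11127), (10543, 11006), (10544, 11007), (10545, 11008), (10546, 11009), (10547, 11010), (10548, 11011), (10549, 11012), (10550, 10853), (10551, 11013), (10552, 11014), (10553, 11015), (10554, 11016), (10555, 11017), (10556, 10858), (10557, 11018), (10558, 11019), (10559, 11020)]
    ⟨e3 q10496 (flp_a L183970) q10879, e3 q10497 (flp_a L185752) q11084, e3 q10498 (flp_a L185762) q11085, e3 q10499 (flp_a L185772) q11086, e3 q10500 (flp_a L184712) q10964, e3 q10501 (flp_a L182826) q10766, e3 q10502 (flp_a L184726) q10965, e3 q10503 (flp_a L184742) q10966, e3 q10504 (flp_a L184752) q10967, e3 q10505 (flp_a L184764) q10968, e3 q10506 (flp_a L182850) q10768, e3 q10507 (flp_a L184774) q10969, e3 q10508 (flp_a L184782) q10970, e3 q10509 (flp_a L184792) q10971, e3 q10510 (flp_a L183406) q10821, e3 q10511 (flp_a L182527) q10739, e3 q10512 (flp_a L183187) q10799, e3 q10513 (flp_a L184874) q10981, e3 q10514 (flp_a L184884) q10982, e3 q10515 (flp_a L184896) q10983, e3 q10516 (flp_a L182543)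 q10740, e3 q10517 (flp_a L184906) q10984, e3 q10518 (flp_a L184914) q10985, e3 q10519 (flp_a L184924) q10986, e3 q10520 L180695 q9894, e3 q10521 L180709 q9896, e3 q10522 L180725 q9897, e3 q10523 L180733 q9898, e3 q10524 L180745 q9899, e3 q10525 L180753 q9901, e3 q10526 L180759 q9902, e3 q10527 L180767 q9903, e3 q10528 L180775 q9904, e3 q10529 (flp_a L186003) q11116, e3 q10530 (flp_a L183394) q10820, e3 q10531 (flp_a L186017) q11117, e3 q10532 (flp_a L186033) q11118, e3 q10533 (flp_a L186041) q11119, e3 q10534 (flp_a L186049) q11120, e3 q10535 (flp_a L186059) q11121, e3 q10536 (flp_a L183430) q10823, e3 q10537 (flp_a L186069) q11122, e3 q10538 (flp_a L186077) q11123, e3 q10539 (flp_a L183762) q10857, e3 q10540 (flp_a L186087) q11125, e3 q10541 (flp_a L186095) q11126, e3 q10542 (flp_a L186101) q11127, e3 q10543 (flp_a L185088) q11006, e3 q10544 (flp_a L185092) q11007, e3 q10545 (flp_a L185102) q11008, e3 q10546 (flp_a L185112) q11009, e3 q10547 (flp_a L185124) q11010, e3 q10548 (flp_a L185130)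 q11011, e3 q10549 (flp_a L185144) q11012, e3 q10550 (flp_a L183724) q10853, e3 q10551 (flp_a L185150) q11013, e3 q10552 (flp_a L185162) q11014, e3 q10553 (flp_a L185168) q11015, e3 q10554 (flp_a L185174) q11016, e3 q10555 (flp_a L185184) q11017, e3 q10556 (flp_a L183774) q10858, e3 q10557 (flp_a L185190) q11018, e3 q10558 (flp_a L185202) q11019, e3 q10559 (flp_a L185208) q11020, trivial⟩ (by decide +kernel)

theorem ce_a_165 : ∀ r, r < 64 → sm ga (Qf (10560 + r)) = Qf (tab Gen.a (10560 + r)) :=
  edges_tab (sm ga) Qf (tab Gen.a) 10560 [(10560, 10008), (10561, 10009), (10562, 10007), (10563, 10000), (10564, 10450), (10565, 11022), (10566, 9937), (10567, 10919), (10568, 10062), (10569, 9941), (10570, 10863), (10571, 11163), (10572, 10913), (10573, 11165), (10574, 11166), (10575, 9956), (10576, 9966), (10577, 9967), (10578, 9968), (10579, 9969), (10580, 9970), (10581, 9971), (10582, 9973), (10583, 9974), (10584, 10907), (10585, 11167), (10586, 11168), (10587, 11169), (10588, 11170), (10589,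 10602), (10590, 10904), (10591, 10603), (10592, 10908), (10593, 10604), (10594, 10905), (10595, 10004), (10596, 10005), (10597, 11178), (10598, 11179), (10599, 10218), (10600, 10071), (10601, 10482), (10602, 10589), (10603, 10591), (10604, 10593), (10605, 10011), (10606, 11186), (10607, 11185), (10608, 11177), (10609, 10006), (10610, 10719), (10611, 10010), (10612, 10661), (10613, 10936), (10614, 10066), (10615, 10068), (10616, 10069), (10617, 10070), (10618, 10072), (10619, 10073), (10620, 10955), (10621, 10956), (10622, 10077), (10623, 10078)]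
    ⟨e3 q10560 L180990 q10008, e3 q10561 L181006 q10009, e3 q10562 L181022 q10007, e3 q10563 L181036 q10000, e3 q10564 L181050 q10450, e3 q10565 (flp_a L185236) q11022, e3 q10566 L181068 q9937, e3 q10567 (flp_a L184255) q10919, e3 q10568 L181084 q10062, e3 q10569 L181099 q9941, e3 q10570 (flp_a L183816) q10863, e3 q10571 L186353 q11163, e3 q10572 (flp_a L184203) q10913, e3 q10573 L186373 q11165, e3 q10574 L186383 q11166, e3 q10575 (flp_a L181151) q9956, e3 q10576 L181158 q9966, e3 q10577 L181167 q9967, e3 q10578 L181178 q9968, e3 q10579 L181191 q9969, e3 q10580 L181202 q9970, e3 q10581 L181212 q9971, e3 q10582 L181220 q9973, e3 q10583 L181230 q9974, e3 q10584 (flp_a L184153) q10907, e3 q10585 (flp_a L186396) q11167, e3 q10586 (flp_a L186408) q11168, e3 q10587 (flp_a L186423) q11169, e3 q10588 (flp_a L186433) q11170, e3 q10589 (flp_a L181420) q10602, e3 q10590 (flp_a L184120) q10904, e3 q10591 (flp_a L181430) q10603, e3 q10592 (flp_a L184158) q10908, e3 q10593 (flp_a L181438) q10604, e3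 q10594 (flp_a L184130) q10905, e3 q10595 L181344 q10004, e3 q10596 L181353 q10005, e3 q10597 L186508 q11178, e3 q10598 L186520 q11179, e3 q10599 L181383 q10218, e3 q10600 L181396 q10071, e3 q10601 L181409 q10482, e3 q10602 L181420 q10589, e3 q10603 L181430 q10591, e3 q10604 L181438 q10593, e3 q10605 L181449 q10011, e3 q10606 L186592 q11186, e3 q10607 (flp_a L186583) q11185, e3 q10608 (flp_a L186501) q11177, e3 q10609 (flp_a L181486) q10006, e3 q10610 L182299 q10719, e3 q10611 (flp_a L181501) q10010, e3 q10612 (flp_a L181887) q10661, e3 q10613 (flp_a L184455) q10936, e3 q10614 L181531 q10066, e3 q10615 L181540 q10068, e3 q10616 L181554 q10069, e3 q10617 L181560 q10070, e3 q10618 L181568 q10072, e3 q10619 L181578 q10073, e3 q10620 (flp_a L184624) q10955, e3 q10621 (flp_a L184636) q10956, e3 q10622 L181597 q10077, e3 q10623 L181604 q10078, trivial⟩ (by decide +kernel)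

theorem ce_a_166 : ∀ r, r < 64 → sm ga (Qf (10624 + r)) = Qf (tab Gen.a (10624 + r)) :=
  edges_tab (sm ga) Qf (tab Gen.a) 10624 [(10624, 10080), (10625, 10081), (10626, 10082), (10627, 10920), (10628, 10802), (10629, 10976), (10630, 10977), (10631, 10978), (10632, 10979), (10633, 10980), (10634, 10084), (10635, 10086), (10636, 10087), (10637, 10088), (10638, 10089), (10639, 10090), (10640, 10092), (10641, 10093), (10642, 11228), (10643, 10095), (10644, 10096), (10645, 10097), (10646, 10042), (10647, 10103), (10648, 10104), (10649, 10105), (10650, 10107), (10651, 10108), (10652, 11235), (10653, 10110), (10654, 10052), (10655, 11238), (10656, 10918), (10657, 11162), (10658, 10818), (10659, 11023), (10660, 11025), (10661, 10612), (10662, 10941), (10663, 11191), (10664, 11065), (10665, 11192), (10666, 11193), (10667, 11194), (10668, 11195), (10669, 11180), (10670, 11196), (10671, 11197), (10672, 11257), (10673, 10247), (10674, 10724), (10675, 10848), (10676, 11201), (10677, 11202), (10678,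 11203), (10679, 10849), (10680, 10850), (10681, 11205), (10682, 11206), (10683, 11207), (10684, 11217), (10685, 10822), (10686, 11218), (10687, 11219)]
    ⟨e3 q10624 L181610 q10080, e3 q10625 L181618 q10081, e3 q10626 L181626 q10082, e3 q10627 (flp_a L184270) q10920, e3 q10628 (flp_a L183219) q10802, e3 q10629 (flp_a L184826) q10976, e3 q10630 (flp_a L184836) q10977, e3 q10631 (flp_a L184848) q10978, e3 q10632 (flp_a L184860) q10979, e3 q10633 (flp_a L184868) q10980, e3 q10634 L181676 q10084, e3 q10635 L181686 q10086, e3 q10636 L181696 q10087, e3 q10637 L181704 q10088, e3 q10638 L181710 q10089, e3 q10639 L181718 q10090, e3 q10640 L181726 q10092, e3 q10641 L181734 q10093, e3 q10642 L186895 q11228, e3 q10643 L181742 q10095, e3 q10644 L181748 q10096, e3 q10645 L181754 q10097, e3 q10646 (flp_a L181758) q10042, e3 q10647 L181770 q10103, e3 q10648 L181781 q10104, e3 q10649 L181793 q10105, e3 q10650 L181803 q10107, e3 q10651 L181810 q10108, e3 q10652 L186949 q11235, e3 q10653 L181829 q10110,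 e3 q10654 (flp_a L181839) q10052, e3 q10655 (flp_a L186983) q11238, e3 q10656 (flp_a L184249) q10918, e3 q10657 (flp_a L186349) q11162, e3 q10658 L183380 q10818, e3 q10659 (flp_a L185248) q11023, e3 q10660 (flp_a L185262) q11025, e3 q10661 L181887 q10612, e3 q10662 (flp_a L184512) q10941, e3 q10663 (flp_a L186632) q11191, e3 q10664 (flp_a L185615) q11065, e3 q10665 (flp_a L186640) q11192, e3 q10666 (flp_a L186652) q11193, e3 q10667 (flp_a L186660) q11194, e3 q10668 (flp_a L186668) q11195, e3 q10669 (flp_a L186535) q11180, e3 q10670 (flp_a L186676) q11196, e3 q10671 (flp_a L186685) q11197, e3 q10672 L187125 q11257, e3 q10673 L181983 q10247, e3 q10674 (flp_a L182346) q10724, e3 q10675 (flp_a L183666) q10848, e3 q10676 (flp_a L186713) q11201, e3 q10677 (flp_a L186721) q11202, e3 q10678 (flp_a L186728) q11203, e3 q10679 (flp_a L183678) q10849, e3 q10680 (flp_a L183690) q10850, e3 q10681 (flp_a L186740) q11205, e3 q10682 (flp_a L186748) q11206, e3 q10683 (flp_a L186756) q11207, e3 q10684 (flp_a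 L186813) q11217, e3 q10685 (flp_a L183420) q10822, e3 q10686 (flp_a L186823) q11218, e3 q10687 (flp_a L186831) q11219, trivial⟩ (by decide +kernel)

theorem ce_a_167 : ∀ r, r < 64 → sm ga (Qf (10688 + r)) = Qf (tab Gen.a (10688 + r)) :=
  edges_tab (sm ga) Qf (tab Gen.a) 10688 [(10688, 11220), (10689, 11221), (10690, 11222), (10691, 11282), (10692, 11224), (10693, 11225), (10694, 10824), (10695, 10825), (10696, 10792), (10697, 11226), (10698, 11227), (10699, 10094), (10700, 11293), (10701, 11230), (10702, 11231), (10703, 10924), (10704, 10283), (10705, 10934), (10706, 11232), (10707, 10308), (10708, 10793), (10709, 10309), (10710, 11300), (10711, 11234), (10712, 10109), (10713, 11303), (10714, 11237), (10715, 10115), (10716, 10199), (10717, 11305), (10718, 10122), (10719, 10610), (10720, 10126), (10721, 11306), (10722, 10129), (10723, 10133), (10724, 10674), (10725, 11307), (10726, 10213), (10727, 10215), (10728, 10216), (10729, 10217), (10730, 10219), (10731, 10220), (10732, 10221), (10733,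 10446), (10734, 10223), (10735, 10224), (10736, 10225), (10737, 10226), (10738, 10149), (10739, 10511), (10740, 10516), (10741, 11326), (10742, 11327), (10743, 10237), (10744, 10238), (10745, 10239), (10746, 10241), (10747, 10242), (10748, 10243), (10749, 10244), (10750, 10245), (10751, 10326)]
    ⟨e3 q10688 (flp_a L186841) q11220, e3 q10689 (flp_a L186847) q11221, e3 q10690 (flp_a L186855) q11222, e3 q10691 L187288 q11282, e3 q10692 (flp_a L186869) q11224, e3 q10693 (flp_a L186877) q11225, e3 q10694 (flp_a L183442) q10824, e3 q10695 (flp_a L183454) q10825, e3 q10696 (flp_a L183101) q10792, e3 q10697 (flp_a L186885) q11226, e3 q10698 (flp_a L186891) q11227, e3 q10699 (flp_a L182132) q10094, e3 q10700 (flp_a L187346) q11293, e3 q10701 (flp_a L186909) q11230, e3 q10702 (flp_a L186915) q11231, e3 q10703 (flp_a L184323) q10924, e3 q10704 L182152 q10283, e3 q10705 (flp_a L184431) q10934, e3 q10706 (flp_a L186921) q11232, e3 q10707 L182175 q10308, e3 q10708 (flp_a L183113) q10793, e3 q10709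 L182198 q10309, e3 q10710 L187414 q11300, e3 q10711 (flp_a L186938) q11234, e3 q10712 (flp_a L182226) q10109, e3 q10713 (flp_a L187444) q11303, e3 q10714 (flp_a L186971) q11237, e3 q10715 L182246 q10115, e3 q10716 L182253 q10199, e3 q10717 L187454 q11305, e3 q10718 (flp_a L182280) q10122, e3 q10719 (flp_a L182299) q10610, e3 q10720 (flp_a L182301) q10126, e3 q10721 (flp_a L187470) q11306, e3 q10722 L182324 q10129, e3 q10723 L182331 q10133, e3 q10724 L182346 q10674, e3 q10725 (flp_a L187482) q11307, e3 q10726 L182369 q10213, e3 q10727 L182384 q10215, e3 q10728 L182398 q10216, e3 q10729 L182406 q10217, e3 q10730 L182414 q10219, e3 q10731 L182426 q10220, e3 q10732 L182437 q10221, e3 q10733 L182451 q10446, e3 q10734 L182463 q10223, e3 q10735 L182478 q10224, e3 q10736 L182490 q10225, e3 q10737 L182500 q10226, e3 q10738 L182515 q10149, e3 q10739 L182527 q10511, e3 q10740 L182543 q10516, e3 q10741 (flp_a L187704) q11326, e3 q10742 (flp_a L187718) q11327, e3 q10743 L182573 q10237, e3 q10744 L182584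 q10238, e3 q10745 L182597 q10239, e3 q10746 L182603 q10241, e3 q10747 L182615 q10242, e3 q10748 L182623 q10243, e3 q10749 L182631 q10244, e3 q10750 L182641 q10245, e3 q10751 (flp_a L182667) q10326, trivial⟩ (by decide +kernel)

theorem ce_a_168 : ∀ r, r < 64 → sm ga (Qf (10752 + r)) = Qf (tab Gen.a (10752 + r)) :=
  edges_tab (sm ga) Qf (tab Gen.a) 10752 [(10752, 10334), (10753, 10248), (10754, 10249), (10755, 10250), (10756, 10163), (10757, 11296), (10758, 11346), (10759, 10260), (10760, 10261), (10761, 10262), (10762, 10171), (10763, 10173), (10764, 10174), (10765, 10175), (10766, 10501), (10767, 11352), (10768, 10506), (10769, 11353), (10770, 11354), (10771, 11355), (10772, 10284), (10773, 10285), (10774, 10286), (10775, 10287), (10776, 10288), (10777, 10289), (10778, 10290), (10779, 10291), (10780, 10292), (10781, 11374), (10782, 10294), (10783, 10295), (10784, 10296), (10785, 10187), (10786, 10310), (10787, 11378), (10788, 10192), (10789, 10458), (10790, 10196), (10791, 10432), (10792,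 10696), (10793, 10708), (10794, 11044), (10795, 10452), (10796, 11046), (10797, 10210), (10798, 10211), (10799, 10512), (10800, 11384), (10801, 11385), (10802, 10628), (10803, 11311), (10804, 11064), (10805, 11312), (10806, 11313), (10807, 11314), (10808, 11315), (10809, 11316), (10810, 11317), (10811, 11400), (10812, 11319), (10813, 10455), (10814, 11322), (10815, 11323)]
    ⟨e3 q10752 L182671 q10334, e3 q10753 L182685 q10248, e3 q10754 L182697 q10249, e3 q10755 L182705 q10250, e3 q10756 L182720 q10163, e3 q10757 (flp_a L187358) q11296, e3 q10758 (flp_a L187929) q11346, e3 q10759 L182752 q10260, e3 q10760 L182764 q10261, e3 q10761 L182774 q10262, e3 q10762 L182780 q10171, e3 q10763 L182796 q10173, e3 q10764 L182810 q10174, e3 q10765 L182820 q10175, e3 q10766 L182826 q10501, e3 q10767 (flp_a L187989) q11352, e3 q10768 L182850 q10506, e3 q10769 (flp_a L188005) q11353, e3 q10770 (flp_a L188019) q11354, e3 q10771 (flp_a L188029) q11355, e3 q10772 L182886 q10284, e3 q10773 L182898 q10285,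 e3 q10774 L182912 q10286, e3 q10775 L182920 q10287, e3 q10776 L182928 q10288, e3 q10777 L182936 q10289, e3 q10778 L182942 q10290, e3 q10779 L182956 q10291, e3 q10780 L182968 q10292, e3 q10781 L188217 q11374, e3 q10782 L182984 q10294, e3 q10783 L182992 q10295, e3 q10784 L182998 q10296, e3 q10785 (flp_a L183004) q10187, e3 q10786 L183022 q10310, e3 q10787 L188255 q11378, e3 q10788 (flp_a L183041) q10192, e3 q10789 L183056 q10458, e3 q10790 L183071 q10196, e3 q10791 L183086 q10432, e3 q10792 L183101 q10696, e3 q10793 L183113 q10708, e3 q10794 (flp_a L185420) q11044, e3 q10795 L183137 q10452, e3 q10796 (flp_a L185440) q11046, e3 q10797 L183161 q10210, e3 q10798 L183177 q10211, e3 q10799 L183187 q10512, e3 q10800 (flp_a L188329) q11384, e3 q10801 (flp_a L188345) q11385, e3 q10802 L183219 q10628, e3 q10803 (flp_a L187525) q11311, e3 q10804 (flp_a L185601) q11064, e3 q10805 (flp_a L187539) q11312, e3 q10806 (flp_a L187551) q11313, e3 q10807 (flp_a L187561) q11314, e3 q10808 (flp_a L187571) q11315,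 e3 q10809 (flp_a L187581) q11316, e3 q10810 (flp_a L187592) q11317, e3 q10811 L188483 q11400, e3 q10812 (flp_a L187616) q11319, e3 q10813 L183319 q10455, e3 q10814 (flp_a L187656) q11322, e3 q10815 (flp_a L187670) q11323, trivial⟩ (by decide +kernel)

theorem ce_a_169 : ∀ r, r < 64 → sm ga (Qf (10816 + r)) = Qf (tab Gen.a (10816 + r)) :=
  edges_tab (sm ga) Qf (tab Gen.a) 10816 [(10816, 11324), (10817, 11325), (10818, 10658), (10819, 10233), (10820, 10530), (10821, 10510), (10822, 10685), (10823, 10536), (10824, 10694), (10825, 10695), (10826, 11409), (10827, 10994), (10828, 10398), (10829, 10993), (10830, 11332), (10831, 11333), (10832, 11334), (10833, 11335), (10834, 10401), (10835, 11336), (10836, 11337), (10837, 11432), (10838, 11339), (10839, 11340), (10840, 11341), (10841, 10328), (10842, 10246), (10843, 11258), (10844, 11343), (10845, 11344), (10846, 11345), (10847, 10254), (10848, 10675), (10849, 10679), (10850, 10680), (10851, 11441), (10852, 10365), (10853, 10550), (10854, 11028),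 (10855, 11029), (10856, 10366), (10857, 10539), (10858, 10556), (10859, 11458), (10860, 11349), (10861, 11350), (10862, 11351), (10863, 10570), (10864, 10265), (10865, 10275), (10866, 10276), (10867, 10277), (10868, 10279), (10869, 10280), (10870, 10281), (10871, 10282), (10872, 10874), (10873, 10493), (10874, 10872), (10875, 11462), (10876, 11463), (10877, 11464), (10878, 11465), (10879, 10496)]
    ⟨e3 q10816 (flp_a L187684) q11324, e3 q10817 (flp_a L187696) q11325, e3 q10818 (flp_a L183380) q10658, e3 q10819 L183384 q10233, e3 q10820 L183394 q10530, e3 q10821 L183406 q10510, e3 q10822 L183420 q10685, e3 q10823 L183430 q10536, e3 q10824 L183442 q10694, e3 q10825 L183454 q10695, e3 q10826 (flp_a L188581) q11409, e3 q10827 (flp_a L185006) q10994, e3 q10828 L183479 q10398, e3 q10829 (flp_a L184993) q10993, e3 q10830 (flp_a L187776) q11332, e3 q10831 (flp_a L187788) q11333, e3 q10832 (flp_a L187800) q11334, e3 q10833 (flp_a L187807) q11335, e3 q10834 L183524 q10401, e3 q10835 (flp_a L187813)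 q11336, e3 q10836 (flp_a L187827) q11337, e3 q10837 L188788 q11432, e3 q10838 (flp_a L187853) q11339, e3 q10839 (flp_a L187863) q11340, e3 q10840 (flp_a L187871) q11341, e3 q10841 L183589 q10328, e3 q10842 (flp_a L183593) q10246, e3 q10843 (flp_a L187134) q11258, e3 q10844 (flp_a L187895) q11343, e3 q10845 (flp_a L187909) q11344, e3 q10846 (flp_a L187921) q11345, e3 q10847 L183652 q10254, e3 q10848 L183666 q10675, e3 q10849 L183678 q10679, e3 q10850 L183690 q10680, e3 q10851 (flp_a L188883) q11441, e3 q10852 L183712 q10365, e3 q10853 L183724 q10550, e3 q10854 (flp_a L185287) q11028, e3 q10855 (flp_a L185299) q11029, e3 q10856 L183748 q10366, e3 q10857 L183762 q10539, e3 q10858 L183774 q10556, e3 q10859 L189072 q11458, e3 q10860 (flp_a L187959) q11349, e3 q10861 (flp_a L187971) q11350, e3 q10862 (flp_a L187981) q11351, e3 q10863 L183816 q10570, e3 q10864 L183824 q10265, e3 q10865 L183840 q10275, e3 q10866 L183851 q10276, e3 q10867 L183864 q10277, e3 q10868 L183872 q10279, e3 q10869 L183884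 q10280, e3 q10870 L183894 q10281, e3 q10871 L183904 q10282, e3 q10872 (flp_a L183932) q10874, e3 q10873 L183921 q10493, e3 q10874 L183932 q10872, e3 q10875 (flp_a L189108) q11462, e3 q10876 (flp_a L189120) q11463, e3 q10877 (flp_a L189132) q11464, e3 q10878 (flp_a L189141) q11465, e3 q10879 L183970 q10496, trivial⟩ (by decide +kernel)

theorem ce_a_170 : ∀ r, r < 64 → sm ga (Qf (10880 + r)) = Qf (tab Gen.a (10880 + r)) :=
  edges_tab (sm ga) Qf (tab Gen.a) 10880 [(10880, 11338), (10881, 11466), (10882, 11429), (10883, 11467), (10884, 11468), (10885, 11469), (10886, 11270), (10887, 11363), (10888, 11364), (10889, 11299), (10890, 11365), (10891, 11366), (10892, 11367), (10893, 11497), (10894, 11369), (10895, 11370), (10896, 11371), (10897, 10433), (10898, 11372), (10899, 11373), (10900, 10293), (10901, 11506), (10902, 11376), (10903, 11377), (10904, 10590), (10905, 10594), (10906, 11511), (10907, 10584), (10908, 10592), (10909, 10304), (10910, 11298), (10911, 10435), (10912, 11513), (10913,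 10572), (10914, 10312), (10915, 11516), (10916, 11050), (10917, 10316), (10918, 10656), (10919, 10567), (10920, 10627), (10921, 10331), (10922, 10438), (10923, 10441), (10924, 10703), (10925, 11342), (10926, 10442), (10927, 10337), (10928, 10338), (10929, 11524), (10930, 11525), (10931, 10454), (10932, 10456), (10933, 10457), (10934, 10705), (10935, 10436), (10936, 10613), (10937, 10460), (10938, 10461), (10939, 10352), (10940, 10353), (10941, 10662), (10942, 11536), (10943, 11537)]
    ⟨e3 q10880 L187849 q11338, e3 q10881 (flp_a L189149) q11466, e3 q10882 (flp_a L188770) q11429, e3 q10883 (flp_a L189161) q11467, e3 q10884 (flp_a L189171) q11468, e3 q10885 (flp_a L189179) q11469, e3 q10886 (flp_a L187212) q11270, e3 q10887 (flp_a L188111) q11363, e3 q10888 (flp_a L188125) q11364, e3 q10889 (flp_a L187402) q11299, e3 q10890 (flp_a L188135) q11365, e3 q10891 (flp_a L188141) q11366, e3 q10892 (flp_a L188151) q11367, e3 q10893 L189380 q11497, e3 q10894 (flp_a L188173) q11369, e3 q10895 (flp_a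 L188181) q11370, e3 q10896 (flp_a L188187) q11371, e3 q10897 L184084 q10433, e3 q10898 (flp_a L188201) q11372, e3 q10899 (flp_a L188211) q11373, e3 q10900 (flp_a L184096) q10293, e3 q10901 (flp_a L189438) q11506, e3 q10902 (flp_a L188243) q11376, e3 q10903 (flp_a L188251) q11377, e3 q10904 L184120 q10590, e3 q10905 L184130 q10594, e3 q10906 L189475 q11511, e3 q10907 L184153 q10584, e3 q10908 L184158 q10592, e3 q10909 (flp_a L184165) q10304, e3 q10910 (flp_a L187387) q11298, e3 q10911 (flp_a L184193) q10435, e3 q10912 L189498 q11513, e3 q10913 L184203 q10572, e3 q10914 (flp_a L184212) q10312, e3 q10915 (flp_a L189528) q11516, e3 q10916 (flp_a L185468) q11050, e3 q10917 L184232 q10316, e3 q10918 L184249 q10656, e3 q10919 L184255 q10567, e3 q10920 L184270 q10627, e3 q10921 (flp_a L184283) q10331, e3 q10922 L184297 q10438, e3 q10923 L184311 q10441, e3 q10924 L184323 q10703, e3 q10925 (flp_a L187881) q11342, e3 q10926 L184349 q10442, e3 q10927 L184361 q10337, e3 q10928 L184373 q10338, e3 q10929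 (flp_a L189623) q11524, e3 q10930 (flp_a L189635) q11525, e3 q10931 L184397 q10454, e3 q10932 L184411 q10456, e3 q10933 L184421 q10457, e3 q10934 L184431 q10705, e3 q10935 L184443 q10436, e3 q10936 L184455 q10613, e3 q10937 L184465 q10460, e3 q10938 L184475 q10461, e3 q10939 L184485 q10352, e3 q10940 L184500 q10353, e3 q10941 L184512 q10662, e3 q10942 (flp_a L189751) q11536, e3 q10943 (flp_a L189763) q11537, trivial⟩ (by decide +kernel)

theorem ce_a_171 : ∀ r, r < 64 → sm ga (Qf (10944 + r)) = Qf (tab Gen.a (10944 + r)) :=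
  edges_tab (sm ga) Qf (tab Gen.a) 10944 [(10944, 11538), (10945, 10475), (10946, 10476), (10947, 10478), (10948, 10479), (10949, 10480), (10950, 10481), (10951, 10483), (10952, 10484), (10953, 11554), (10954, 10440), (10955, 10620), (10956, 10621), (10957, 10486), (10958, 10367), (10959, 10368), (10960, 11448), (10961, 11454), (10962, 11559), (10963, 11560), (10964, 10500), (10965, 10502), (10966, 10503), (10967, 10504), (10968, 10505), (10969, 10507), (10970, 10508), (10971, 10509), (10972, 10445), (10973, 10447), (10974, 10448), (10975, 10449), (10976, 10629), (10977, 10630), (10978, 10631), (10979, 10632), (10980, 10633), (10981, 10513), (10982, 10514), (10983, 10515), (10984, 10517), (10985, 10518), (10986, 10519), (10987, 10399), (10988, 10400), (10989, 10402), (10990, 10403), (10991, 10404), (10992, 10405), (10993, 10829), (10994, 10827), (10995, 11419), (10996, 11589), (10997, 11590), (10998, 11591), (10999, 11379), (11000, 11428), (11001, 11592), (11002, 11593), (11003, 11503),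 (11004, 11594), (11005, 11595), (11006, 10543), (11007, 10544)]
    ⟨e3 q10944 (flp_a L189774) q11538, e3 q10945 L184540 q10475, e3 q10946 L184556 q10476, e3 q10947 L184564 q10478, e3 q10948 L184570 q10479, e3 q10949 L184578 q10480, e3 q10950 L184584 q10481, e3 q10951 L184590 q10483, e3 q10952 L184598 q10484, e3 q10953 L189896 q11554, e3 q10954 L184616 q10440, e3 q10955 L184624 q10620, e3 q10956 L184636 q10621, e3 q10957 L184648 q10486, e3 q10958 L184658 q10367, e3 q10959 L184668 q10368, e3 q10960 (flp_a L188970) q11448, e3 q10961 (flp_a L189024) q11454, e3 q10962 (flp_a L189953) q11559, e3 q10963 (flp_a L189963) q11560, e3 q10964 L184712 q10500, e3 q10965 L184726 q10502, e3 q10966 L184742 q10503, e3 q10967 L184752 q10504, e3 q10968 L184764 q10505, e3 q10969 L184774 q10507, e3 q10970 L184782 q10508, e3 q10971 L184792 q10509, e3 q10972 L184798 q10445, e3 q10973 L184804 q10447, e3 q10974 L184812 q10448, e3 q10975 L184818 q10449, e3 q10976 L184826 q10629, e3 q10977 L184836 q10630, e3 q10978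 L184848 q10631, e3 q10979 L184860 q10632, e3 q10980 L184868 q10633, e3 q10981 L184874 q10513, e3 q10982 L184884 q10514, e3 q10983 L184896 q10515, e3 q10984 L184906 q10517, e3 q10985 L184914 q10518, e3 q10986 L184924 q10519, e3 q10987 L184930 q10399, e3 q10988 L184945 q10400, e3 q10989 L184955 q10402, e3 q10990 L184965 q10403, e3 q10991 L184975 q10404, e3 q10992 L184985 q10405, e3 q10993 L184993 q10829, e3 q10994 L185006 q10827, e3 q10995 (flp_a L188685) q11419, e3 q10996 (flp_a L190235) q11589, e3 q10997 (flp_a L190247) q11590, e3 q10998 (flp_a L190256) q11591, e3 q10999 (flp_a L188269) q11379, e3 q11000 (flp_a L188750) q11428, e3 q11001 (flp_a L190268) q11592, e3 q11002 (flp_a L190278) q11593, e3 q11003 (flp_a L189416) q11503, e3 q11004 (flp_a L190286) q11594, e3 q11005 (flp_a L190294) q11595, e3 q11006 L185088 q10543, e3 q11007 L185092 q10544, trivial⟩ (by decide +kernel)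

theorem ce_a_172 : ∀ r, r < 64 → sm ga (Qf (11008 + r)) = Qf (tab Gen.a (11008 + r)) :=
  edges_tab (sm ga) Qf (tab Gen.a) 11008 [(11008, 10545), (11009, 10546), (11010, 10547), (11011, 10548), (11012, 10549), (11013, 10551), (11014, 10552), (11015, 10553), (11016, 10554), (11017, 10555), (11018, 10557), (11019, 10558), (11020, 10559), (11021, 10469), (11022, 10565), (11023, 10659), (11024, 11491), (11025, 10660), (11026, 11512), (11027, 11531), (11028, 10854), (11029, 10855), (11030, 11519), (11031, 11555), (11032, 11520), (11033, 11523), (11034, 11035), (11035, 11034), (11036, 11572), (11037, 11573), (11038, 11320), (11039, 11321), (11040, 11574), (11041, 11575), (11042, 11576), (11043, 11144), (11044, 10794), (11045, 11382), (11046, 10796), (11047, 11528), (11048, 11402), (11049, 11529), (11050, 10916), (11051, 11534), (11052, 11535), (11053, 11654), (11054, 10468), (11055, 10470), (11056, 10471), (11057, 11058), (11058, 11057), (11059, 11655), (11060, 11625), (11061, 11515), (11062,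 11656), (11063, 11657), (11064, 10804), (11065, 10664), (11066, 11070), (11067, 11544), (11068, 11175), (11069, 11545), (11070, 11066), (11071, 11546)]
    ⟨e3 q11008 L185102 q10545, e3 q11009 L185112 q10546, e3 q11010 L185124 q10547, e3 q11011 L185130 q10548, e3 q11012 L185144 q10549, e3 q11013 L185150 q10551, e3 q11014 L185162 q10552, e3 q11015 L185168 q10553, e3 q11016 L185174 q10554, e3 q11017 L185184 q10555, e3 q11018 L185190 q10557, e3 q11019 L185202 q10558, e3 q11020 L185208 q10559, e3 q11021 L185220 q10469, e3 q11022 L185236 q10565, e3 q11023 L185248 q10659, e3 q11024 (flp_a L189350) q11491, e3 q11025 L185262 q10660, e3 q11026 L189496 q11512, e3 q11027 (flp_a L189700) q11531, e3 q11028 L185287 q10854, e3 q11029 L185299 q10855, e3 q11030 (flp_a L189555) q11519, e3 q11031 (flp_a L189909) q11555, e3 q11032 (flp_a L189569) q11520, e3 q11033 (flp_a L189609) q11523, e3 q11034 (flp_a L185355) q11035, e3 q11035 L185355 q11034, e3 q11036 (flp_a L190079) q11572, e3 q11037 (flp_a L190086)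 q11573, e3 q11038 (flp_a L187630) q11320, e3 q11039 (flp_a L187644) q11321, e3 q11040 (flp_a L190094) q11574, e3 q11041 (flp_a L190104) q11575, e3 q11042 (flp_a L190110) q11576, e3 q11043 (flp_a L186235) q11144, e3 q11044 L185420 q10794, e3 q11045 (flp_a L188309) q11382, e3 q11046 L185440 q10796, e3 q11047 (flp_a L189663) q11528, e3 q11048 (flp_a L188508) q11402, e3 q11049 (flp_a L189675) q11529, e3 q11050 L185468 q10916, e3 q11051 (flp_a L189731) q11534, e3 q11052 (flp_a L189743) q11535, e3 q11053 L190802 q11654, e3 q11054 L185504 q10468, e3 q11055 L185513 q10470, e3 q11056 L185521 q10471, e3 q11057 (flp_a L185544) q11058, e3 q11058 L185544 q11057, e3 q11059 (flp_a L190818) q11655, e3 q11060 (flp_a L190544) q11625, e3 q11061 (flp_a L189518) q11515, e3 q11062 (flp_a L190826) q11656, e3 q11063 (flp_a L190836) q11657, e3 q11064 L185601 q10804, e3 q11065 L185615 q10664, e3 q11066 (flp_a L185655) q11070, e3 q11067 (flp_a L189817) q11544, e3 q11068 (flp_a L186483) q11175, e3 q11069 (flp_a L189831)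 q11545, e3 q11070 L185655 q11066, e3 q11071 (flp_a L189841) q11546, trivial⟩ (by decide +kernel)

theorem ce_a_173 : ∀ r, r < 64 → sm ga (Qf (11072 + r)) = Qf (tab Gen.a (11072 + r)) :=
  edges_tab (sm ga) Qf (tab Gen.a) 11072 [(11072, 11547), (11073, 11681), (11074, 11549), (11075, 11550), (11076, 11551), (11077, 11181), (11078, 11685), (11079, 11553), (11080, 10485), (11081, 11558), (11082, 10494), (11083, 10495), (11084, 10497), (11085, 10498), (11086, 10499), (11087, 11088), (11088, 11087), (11089, 11471), (11090, 11687), (11091, 11688), (11092, 11689), (11093, 11480), (11094, 11481), (11095, 11691), (11096, 11692), (11097, 11693), (11098, 11565), (11099, 11356), (11100, 11566), (11101, 11567), (11102, 11568), (11103, 11569), (11104, 11358), (11105, 11570), (11106, 11571), (11107, 11411), (11108, 11328), (11109, 11386), (11110, 11584), (11111, 11585), (11112, 11586), (11113, 11329), (11114, 11587), (11115, 11588), (11116, 10529), (11117, 10531), (11118, 10532), (11119, 10533), (11120,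 10534), (11121, 10535), (11122, 10537), (11123, 10538), (11124, 11455), (11125, 10540), (11126, 10541), (11127, 10542), (11128, 11724), (11129, 11410), (11130, 11725), (11131, 11726), (11132, 11727), (11133, 11728), (11134, 11729), (11135, 11449)]
    ⟨e3 q11072 (flp_a L189849) q11547, e3 q11073 L191037 q11681, e3 q11074 (flp_a L189859) q11549, e3 q11075 (flp_a L189869) q11550, e3 q11076 (flp_a L189875) q11551, e3 q11077 (flp_a L186547) q11181, e3 q11078 L191053 q11685, e3 q11079 (flp_a L189888) q11553, e3 q11080 (flp_a L185715) q10485, e3 q11081 (flp_a L189941) q11558, e3 q11082 L185731 q10494, e3 q11083 L185744 q10495, e3 q11084 L185752 q10497, e3 q11085 L185762 q10498, e3 q11086 L185772 q10499, e3 q11087 (flp_a L185791) q11088, e3 q11088 L185791 q11087, e3 q11089 (flp_a L189195) q11471, e3 q11090 (flp_a L191073) q11687, e3 q11091 (flp_a L191085) q11688, e3 q11092 (flp_a L191094) q11689, e3 q11093 (flp_a L189260) q11480, e3 q11094 (flp_a L189274) q11481, e3 q11095 (flp_a L191116) q11691,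 e3 q11096 (flp_a L191126) q11692, e3 q11097 (flp_a L191134) q11693, e3 q11098 (flp_a L190003) q11565, e3 q11099 (flp_a L188037) q11356, e3 q11100 (flp_a L190013) q11566, e3 q11101 (flp_a L190029) q11567, e3 q11102 (flp_a L190037) q11568, e3 q11103 (flp_a L190049) q11569, e3 q11104 (flp_a L188063) q11358, e3 q11105 (flp_a L190057) q11570, e3 q11106 (flp_a L190067) q11571, e3 q11107 (flp_a L188603) q11411, e3 q11108 (flp_a L187730) q11328, e3 q11109 (flp_a L188353) q11386, e3 q11110 (flp_a L190185) q11584, e3 q11111 (flp_a L190193) q11585, e3 q11112 (flp_a L190205) q11586, e3 q11113 (flp_a L187746) q11329, e3 q11114 (flp_a L190213) q11587, e3 q11115 (flp_a L190223) q11588, e3 q11116 L186003 q10529, e3 q11117 L186017 q10531, e3 q11118 L186033 q10532, e3 q11119 L186041 q10533, e3 q11120 L186049 q10534, e3 q11121 L186059 q10535, e3 q11122 L186069 q10537, e3 q11123 L186077 q10538, e3 q11124 (flp_a L189046) q11455, e3 q11125 L186087 q10540, e3 q11126 L186095 q10541, e3 q11127 L186101 q10542, e3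 q11128 (flp_a L191378) q11724, e3 q11129 (flp_a L188591) q11410, e3 q11130 (flp_a L191390) q11725, e3 q11131 (flp_a L191404) q11726, e3 q11132 (flp_a L191414) q11727, e3 q11133 (flp_a L191420) q11728, e3 q11134 (flp_a L191430) q11729, e3 q11135 (flp_a L188984) q11449, trivial⟩ (by decide +kernel)

theorem ce_a_174 : ∀ r, r < 64 → sm ga (Qf (11136 + r)) = Qf (tab Gen.a (11136 + r)) :=
  edges_tab (sm ga) Qf (tab Gen.a) 11136 [(11136, 11731), (11137, 11732), (11138, 11414), (11139, 11733), (11140, 11734), (11141, 11456), (11142, 11736), (11143, 11737), (11144, 11043), (11145, 11611), (11146, 11612), (11147, 11613), (11148, 11614), (11149, 11615), (11150, 11616), (11151, 11617), (11152, 11450), (11153, 11618), (11154, 11619), (11155, 11620), (11156, 11621), (11157, 11622), (11158, 11623), (11159, 11457), (11160, 11624), (11161, 11530), (11162, 10657), (11163, 10571), (11164, 11769), (11165, 10573), (11166, 10574), (11167, 10585), (11168, 10586), (11169, 10587), (11170, 10588), (11171, 11509),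 (11172, 11770), (11173, 11182), (11174, 11510), (11175, 11068), (11176, 11774), (11177, 10608), (11178, 10597), (11179, 10598), (11180, 10669), (11181, 11077), (11182, 11173), (11183, 11779), (11184, 11775), (11185, 10607), (11186, 10606), (11187, 11297), (11188, 11243), (11189, 11532), (11190, 11533), (11191, 10663), (11192, 10665), (11193, 10666), (11194, 10667), (11195, 10668), (11196, 10670), (11197, 10671), (11198, 11794), (11199, 11556)]
    ⟨e3 q11136 (flp_a L191448) q11731, e3 q11137 (flp_a L191460) q11732, e3 q11138 (flp_a L188637) q11414, e3 q11139 (flp_a L191468) q11733, e3 q11140 (flp_a L191474) q11734, e3 q11141 (flp_a L189052) q11456, e3 q11142 (flp_a L191488) q11736, e3 q11143 (flp_a L191494) q11737, e3 q11144 L186235 q11043, e3 q11145 (flp_a L190414) q11611, e3 q11146 (flp_a L190420) q11612, e3 q11147 (flp_a L190430) q11613, e3 q11148 (flp_a L190440) q11614, e3 q11149 (flp_a L190452) q11615, e3 q11150 (flp_a L190460) q11616, e3 q11151 (flp_a L190474) q11617, e3 q11152 (flp_a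 L188996) q11450, e3 q11153 (flp_a L190480) q11618, e3 q11154 (flp_a L190492) q11619, e3 q11155 (flp_a L190502) q11620, e3 q11156 (flp_a L190508) q11621, e3 q11157 (flp_a L190512) q11622, e3 q11158 (flp_a L190524) q11623, e3 q11159 (flp_a L189062) q11457, e3 q11160 (flp_a L190530) q11624, e3 q11161 (flp_a L189687) q11530, e3 q11162 L186349 q10657, e3 q11163 (flp_a L186353) q10571, e3 q11164 L191734 q11769, e3 q11165 (flp_a L186373) q10573, e3 q11166 (flp_a L186383) q10574, e3 q11167 L186396 q10585, e3 q11168 L186408 q10586, e3 q11169 L186423 q10587, e3 q11170 L186433 q10588, e3 q11171 (flp_a L189462) q11509, e3 q11172 (flp_a L191745) q11770, e3 q11173 (flp_a L186557) q11182, e3 q11174 (flp_a L189467) q11510, e3 q11175 L186483 q11068, e3 q11176 L191786 q11774, e3 q11177 L186501 q10608, e3 q11178 (flp_a L186508) q10597, e3 q11179 (flp_a L186520) q10598, e3 q11180 L186535 q10669, e3 q11181 L186547 q11077, e3 q11182 L186557 q11173, e3 q11183 L191840 q11779, e3 q11184 (flp_a L191800) q11775,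 e3 q11185 L186583 q10607, e3 q11186 (flp_a L186592) q10606, e3 q11187 L187381 q11297, e3 q11188 (flp_a L187017) q11243, e3 q11189 (flp_a L189710) q11532, e3 q11190 (flp_a L189721) q11533, e3 q11191 L186632 q10663, e3 q11192 L186640 q10665, e3 q11193 L186652 q10666, e3 q11194 L186660 q10667, e3 q11195 L186668 q10668, e3 q11196 L186676 q10670, e3 q11197 L186685 q10671, e3 q11198 L191966 q11794, e3 q11199 (flp_a L189919) q11556, trivial⟩ (by decide +kernel)

theorem ce_a_175 : ∀ r, r < 64 → sm ga (Qf (11200 + r)) = Qf (tab Gen.a (11200 + r)) :=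
  edges_tab (sm ga) Qf (tab Gen.a) 11200 [(11200, 11557), (11201, 10676), (11202, 10677), (11203, 10678), (11204, 11518), (11205, 10681), (11206, 10682), (11207, 10683), (11208, 11389), (11209, 11577), (11210, 11578), (11211, 11690), (11212, 11579), (11213, 11580), (11214, 11581), (11215, 11582), (11216, 11583), (11217, 10684), (11218, 10686), (11219, 10687), (11220, 10688), (11221, 10689), (11222, 10690), (11223, 11826), (11224, 10692), (11225, 10693), (11226, 10697), (11227, 10698), (11228, 10642), (11229, 11833), (11230, 10701), (11231, 10702), (11232, 10706), (11233, 11836), (11234, 10711), (11235, 10652), (11236, 11839), (11237, 10714), (11238, 10655), (11239, 11444), (11240, 11405), (11241, 11626), (11242, 11628), (11243, 11188), (11244, 11539), (11245, 11784), (11246, 11785), (11247, 11668), (11248, 11786), (11249, 11787), (11250, 11856), (11251, 11789), (11252, 11790), (11253, 11791), (11254, 11776), (11255, 11860), (11256, 11793), (11257, 10672), (11258, 10843), (11259, 11308),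 (11260, 11442), (11261, 11443), (11262, 11798), (11263, 11799)]
    ⟨e3 q11200 (flp_a L189931) q11557, e3 q11201 L186713 q10676, e3 q11202 L186721 q10677, e3 q11203 L186728 q10678, e3 q11204 (flp_a L189541) q11518, e3 q11205 L186740 q10681, e3 q11206 L186748 q10682, e3 q11207 L186756 q10683, e3 q11208 (flp_a L188387) q11389, e3 q11209 (flp_a L190118) q11577, e3 q11210 (flp_a L190129) q11578, e3 q11211 (flp_a L191110) q11690, e3 q11212 (flp_a L190139) q11579, e3 q11213 (flp_a L190151) q11580, e3 q11214 (flp_a L190161) q11581, e3 q11215 (flp_a L190171) q11582, e3 q11216 (flp_a L190177) q11583, e3 q11217 L186813 q10684, e3 q11218 L186823 q10686, e3 q11219 L186831 q10687, e3 q11220 L186841 q10688, e3 q11221 L186847 q10689, e3 q11222 L186855 q10690, e3 q11223 L192188 q11826, e3 q11224 L186869 q10692, e3 q11225 L186877 q10693, e3 q11226 L186885 q10697, e3 q11227 L186891 q10698, e3 q11228 (flp_a L186895) q10642, e3 q11229 (flp_a L192248) q11833, e3 q11230 L186909 q10701, e3 q11231 L186915 q10702,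 e3 q11232 L186921 q10706, e3 q11233 L192262 q11836, e3 q11234 L186938 q10711, e3 q11235 (flp_a L186949) q10652, e3 q11236 (flp_a L192298) q11839, e3 q11237 L186971 q10714, e3 q11238 L186983 q10655, e3 q11239 (flp_a L188928) q11444, e3 q11240 L188549 q11405, e3 q11241 (flp_a L190556) q11626, e3 q11242 (flp_a L190572) q11628, e3 q11243 L187017 q11188, e3 q11244 (flp_a L189786) q11539, e3 q11245 (flp_a L191880) q11784, e3 q11246 (flp_a L191889) q11785, e3 q11247 (flp_a L190945) q11668, e3 q11248 (flp_a L191897) q11786, e3 q11249 (flp_a L191909) q11787, e3 q11250 L192440 q11856, e3 q11251 (flp_a L191927) q11789, e3 q11252 (flp_a L191935) q11790, e3 q11253 (flp_a L191943) q11791, e3 q11254 (flp_a L191814) q11776, e3 q11255 L192464 q11860, e3 q11256 (flp_a L191959) q11793, e3 q11257 (flp_a L187125) q10672, e3 q11258 L187134 q10843, e3 q11259 (flp_a L187496) q11308, e3 q11260 (flp_a L188897) q11442, e3 q11261 (flp_a L188908) q11443, e3 q11262 (flp_a L191994) q11798, e3 q11263 (flp_a L192003) q11799,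 trivial⟩ (by decide +kernel)

theorem ce_a_176 : ∀ r, r < 64 → sm ga (Qf (11264 + r)) = Qf (tab Gen.a (11264 + r)) :=
  edges_tab (sm ga) Qf (tab Gen.a) 11264 [(11264, 11801), (11265, 11802), (11266, 11445), (11267, 11446), (11268, 11804), (11269, 11805), (11270, 10886), (11271, 11818), (11272, 11412), (11273, 11413), (11274, 11819), (11275, 11820), (11276, 11380), (11277, 11821), (11278, 11822), (11279, 11887), (11280, 11824), (11281, 11825), (11282, 10691), (11283, 11892), (11284, 11828), (11285, 11829), (11286, 11830), (11287, 11415), (11288, 11416), (11289, 11360), (11290, 11521), (11291, 11831), (11292, 11832), (11293, 10700), (11294, 11903), (11295, 11835), (11296, 10757), (11297, 11187), (11298, 10910), (11299, 10889), (11300, 10710), (11301, 11906), (11302, 11838), (11303, 10713), (11304, 11909), (11305, 10717), (11306, 10721), (11307, 10725), (11308, 11259), (11309, 11910), (11310, 11911), (11311, 10803), (11312, 10805), (11313, 10806), (11314, 10807), (11315, 10808), (11316, 10809),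 (11317, 10810), (11318, 11926), (11319, 10812), (11320, 11038), (11321, 11039), (11322, 10814), (11323, 10815), (11324, 10816), (11325, 10817), (11326, 10741), (11327, 10742)]
    ⟨e3 q11264 (flp_a L192016) q11801, e3 q11265 (flp_a L192024) q11802, e3 q11266 (flp_a L188934) q11445, e3 q11267 (flp_a L188946) q11446, e3 q11268 (flp_a L192036) q11804, e3 q11269 (flp_a L192044) q11805, e3 q11270 L187212 q10886, e3 q11271 (flp_a L192124) q11818, e3 q11272 (flp_a L188615) q11412, e3 q11273 (flp_a L188627) q11413, e3 q11274 (flp_a L192134) q11819, e3 q11275 (flp_a L192144) q11820, e3 q11276 (flp_a L188283) q11380, e3 q11277 (flp_a L192150) q11821, e3 q11278 (flp_a L192160) q11822, e3 q11279 L192674 q11887, e3 q11280 (flp_a L192174) q11824, e3 q11281 (flp_a L192182) q11825, e3 q11282 (flp_a L187288) q10691, e3 q11283 (flp_a L192712) q11892, e3 q11284 (flp_a L192206) q11828, e3 q11285 (flp_a L192218) q11829, e3 q11286 (flp_a L192226) q11830, e3 q11287 (flp_a L188649) q11415, e3 q11288 (flp_a L188663)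 q11416, e3 q11289 (flp_a L188085) q11360, e3 q11290 (flp_a L189583) q11521, e3 q11291 (flp_a L192234) q11831, e3 q11292 (flp_a L192242) q11832, e3 q11293 L187346 q10700, e3 q11294 (flp_a L192782) q11903, e3 q11295 (flp_a L192258) q11835, e3 q11296 L187358 q10757, e3 q11297 (flp_a L187381) q11187, e3 q11298 L187387 q10910, e3 q11299 L187402 q10889, e3 q11300 (flp_a L187414) q10710, e3 q11301 (flp_a L192804) q11906, e3 q11302 (flp_a L192286) q11838, e3 q11303 L187444 q10713, e3 q11304 (flp_a L192832) q11909, e3 q11305 (flp_a L187454) q10717, e3 q11306 L187470 q10721, e3 q11307 L187482 q10725, e3 q11308 L187496 q11259, e3 q11309 (flp_a L192836) q11910, e3 q11310 (flp_a L192851) q11911, e3 q11311 L187525 q10803, e3 q11312 L187539 q10805, e3 q11313 L187551 q10806, e3 q11314 L187561 q10807, e3 q11315 L187571 q10808, e3 q11316 L187581 q10809, e3 q11317 L187592 q10810, e3 q11318 L193022 q11926, e3 q11319 L187616 q10812, e3 q11320 L187630 q11038, e3 q11321 L187644 q11039, e3 q11322 L187656 q10814,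 e3 q11323 L187670 q10815, e3 q11324 L187684 q10816, e3 q11325 L187696 q10817, e3 q11326 L187704 q10741, e3 q11327 L187718 q10742, trivial⟩ (by decide +kernel)

theorem ce_a_177 : ∀ r, r < 64 → sm ga (Qf (11328 + r)) = Qf (tab Gen.a (11328 + r)) :=
  edges_tab (sm ga) Qf (tab Gen.a) 11328 [(11328, 11108), (11329, 11113), (11330, 11935), (11331, 11936), (11332, 10830), (11333, 10831), (11334, 10832), (11335, 10833), (11336, 10835), (11337, 10836), (11338, 10880), (11339, 10838), (11340, 10839), (11341, 10840), (11342, 10925), (11343, 10844), (11344, 10845), (11345, 10846), (11346, 10758), (11347, 11901), (11348, 11958), (11349, 10860), (11350, 10861), (11351, 10862), (11352, 10767), (11353, 10769), (11354, 10770), (11355, 10771), (11356, 11099), (11357, 11963), (11358, 11104), (11359, 11964), (11360, 11289), (11361, 11965), (11362, 11966), (11363, 10887), (11364, 10888), (11365, 10890), (11366, 10891), (11367, 10892), (11368, 11979), (11369, 10894), (11370, 10895), (11371, 10896), (11372,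 10898), (11373, 10899), (11374, 10781), (11375, 11986), (11376, 10902), (11377, 10903), (11378, 10787), (11379, 10999), (11380, 11276), (11381, 11645), (11382, 11045), (11383, 11647), (11384, 10800), (11385, 10801), (11386, 11109), (11387, 11993), (11388, 11994), (11389, 11208), (11390, 11916), (11391, 11917)]
    ⟨e3 q11328 L187730 q11108, e3 q11329 L187746 q11113, e3 q11330 (flp_a L193143) q11935, e3 q11331 (flp_a L193157) q11936, e3 q11332 L187776 q10830, e3 q11333 L187788 q10831, e3 q11334 L187800 q10832, e3 q11335 L187807 q10833, e3 q11336 L187813 q10835, e3 q11337 L187827 q10836, e3 q11338 (flp_a L187849) q10880, e3 q11339 L187853 q10838, e3 q11340 L187863 q10839, e3 q11341 L187871 q10840, e3 q11342 L187881 q10925, e3 q11343 L187895 q10844, e3 q11344 L187909 q10845, e3 q11345 L187921 q10846, e3 q11346 L187929 q10758, e3 q11347 (flp_a L192760) q11901, e3 q11348 (flp_a L193414) q11958, e3 q11349 L187959 q10860, e3 q11350 L187971 q10861, e3 q11351 L187981 q10862, e3 q11352 L187989 q10767,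 e3 q11353 L188005 q10769, e3 q11354 L188019 q10770, e3 q11355 L188029 q10771, e3 q11356 L188037 q11099, e3 q11357 (flp_a L193470) q11963, e3 q11358 L188063 q11104, e3 q11359 (flp_a L193486) q11964, e3 q11360 L188085 q11289, e3 q11361 (flp_a L193500) q11965, e3 q11362 (flp_a L193512) q11966, e3 q11363 L188111 q10887, e3 q11364 L188125 q10888, e3 q11365 L188135 q10890, e3 q11366 L188141 q10891, e3 q11367 L188151 q10892, e3 q11368 L193646 q11979, e3 q11369 L188173 q10894, e3 q11370 L188181 q10895, e3 q11371 L188187 q10896, e3 q11372 L188201 q10898, e3 q11373 L188211 q10899, e3 q11374 (flp_a L188217) q10781, e3 q11375 (flp_a L193718) q11986, e3 q11376 L188243 q10902, e3 q11377 L188251 q10903, e3 q11378 (flp_a L188255) q10787, e3 q11379 L188269 q10999, e3 q11380 L188283 q11276, e3 q11381 (flp_a L190728) q11645, e3 q11382 L188309 q11045, e3 q11383 (flp_a L190748) q11647, e3 q11384 L188329 q10800, e3 q11385 L188345 q10801, e3 q11386 L188353 q11109, e3 q11387 (flp_a L193797) q11993, e3 q11388 (flp_a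 L193813) q11994, e3 q11389 L188387 q11208, e3 q11390 (flp_a L192908) q11916, e3 q11391 (flp_a L192921) q11917, trivial⟩ (by decide +kernel)

theorem ce_a_178 : ∀ r, r < 64 → sm ga (Qf (11392 + r)) = Qf (tab Gen.a (11392 + r)) :=
  edges_tab (sm ga) Qf (tab Gen.a) 11392 [(11392, 11667), (11393, 11918), (11394, 11919), (11395, 12006), (11396, 11921), (11397, 11922), (11398, 11923), (11399, 11925), (11400, 10811), (11401, 11927), (11402, 11048), (11403, 11930), (11404, 11931), (11405, 11240), (11406, 11932), (11407, 11933), (11408, 11934), (11409, 10826), (11410, 11129), (11411, 11107), (11412, 11272), (11413, 11273), (11414, 11138), (11415, 11287), (11416, 11288), (11417, 12019), (11418, 11597), (11419, 10995), (11420, 11596), (11421, 11942), (11422, 11943), (11423, 11944), (11424, 11945), (11425, 12039), (11426, 11947), (11427, 11948), (11428, 11000), (11429, 10882), (11430, 11949), (11431, 11950), (11432, 10837), (11433, 12048), (11434, 11952), (11435, 11953), (11436, 11862), (11437, 11863),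 (11438, 11955), (11439, 11956), (11440, 11957), (11441, 10851), (11442, 11260), (11443, 11261), (11444, 11239), (11445, 11266), (11446, 11267), (11447, 12055), (11448, 10960), (11449, 11135), (11450, 11152), (11451, 12066), (11452, 11630), (11453, 11631), (11454, 10961), (11455, 11124)]
    ⟨e3 q11392 (flp_a L190933) q11667, e3 q11393 (flp_a L192935) q11918, e3 q11394 (flp_a L192949) q11919, e3 q11395 L193939 q12006, e3 q11396 (flp_a L192969) q11921, e3 q11397 (flp_a L192981) q11922, e3 q11398 (flp_a L192989) q11923, e3 q11399 (flp_a L193011) q11925, e3 q11400 (flp_a L188483) q10811, e3 q11401 (flp_a L193038) q11927, e3 q11402 L188508 q11048, e3 q11403 (flp_a L193078) q11930, e3 q11404 (flp_a L193093) q11931, e3 q11405 (flp_a L188549) q11240, e3 q11406 (flp_a L193107) q11932, e3 q11407 (flp_a L193121) q11933, e3 q11408 (flp_a L193133) q11934, e3 q11409 L188581 q10826, e3 q11410 L188591 q11129, e3 q11411 L188603 q11107, e3 q11412 L188615 q11272, e3 q11413 L188627 q11273, e3 q11414 L188637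 q11138, e3 q11415 L188649 q11287, e3 q11416 L188663 q11288, e3 q11417 (flp_a L194078) q12019, e3 q11418 (flp_a L190316) q11597, e3 q11419 L188685 q10995, e3 q11420 (flp_a L190304) q11596, e3 q11421 (flp_a L193231) q11942, e3 q11422 (flp_a L193244) q11943, e3 q11423 (flp_a L193254) q11944, e3 q11424 (flp_a L193265) q11945, e3 q11425 L194278 q12039, e3 q11426 (flp_a L193292) q11947, e3 q11427 (flp_a L193300) q11948, e3 q11428 L188750 q11000, e3 q11429 L188770 q10882, e3 q11430 (flp_a L193306) q11949, e3 q11431 (flp_a L193320) q11950, e3 q11432 (flp_a L188788) q10837, e3 q11433 (flp_a L194358) q12048, e3 q11434 (flp_a L193346) q11952, e3 q11435 (flp_a L193356) q11953, e3 q11436 (flp_a L192489) q11862, e3 q11437 (flp_a L192502) q11863, e3 q11438 (flp_a L193378) q11955, e3 q11439 (flp_a L193392) q11956, e3 q11440 (flp_a L193404) q11957, e3 q11441 L188883 q10851, e3 q11442 L188897 q11260, e3 q11443 L188908 q11261, e3 q11444 L188928 q11239, e3 q11445 L188934 q11266, e3 q11446 L188946 q11267, e3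 q11447 (flp_a L194436) q12055, e3 q11448 L188970 q10960, e3 q11449 L188984 q11135, e3 q11450 L188996 q11152, e3 q11451 L194571 q12066, e3 q11452 (flp_a L190596) q11630, e3 q11453 (flp_a L190610) q11631, e3 q11454 L189024 q10961, e3 q11455 L189046 q11124, trivial⟩ (by decide +kernel)

theorem ce_a_179 : ∀ r, r < 64 → sm ga (Qf (11456 + r)) = Qf (tab Gen.a (11456 + r)) :=
  edges_tab (sm ga) Qf (tab Gen.a) 11456 [(11456, 11141), (11457, 11159), (11458, 10859), (11459, 12072), (11460, 11961), (11461, 11962), (11462, 10875), (11463, 10876), (11464, 10877), (11465, 10878), (11466, 10881), (11467, 10883), (11468, 10884), (11469, 10885), (11470, 11472), (11471, 11089), (11472, 11470), (11473, 11946), (11474, 12077), (11475, 12078), (11476, 12079), (11477, 12033), (11478, 12080), (11479, 12081), (11480, 11093), (11481, 11094), (11482, 11951), (11483, 12082), (11484, 12045), (11485, 12083), (11486, 12084), (11487, 11876), (11488, 11974), (11489, 11905), (11490, 11975), (11491, 11024), (11492, 11884),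 (11493, 11976), (11494, 12115), (11495, 11977), (11496, 11978), (11497, 10893), (11498, 12120), (11499, 11651), (11500, 11981), (11501, 11982), (11502, 11983), (11503, 11003), (11504, 11984), (11505, 11985), (11506, 10901), (11507, 12128), (11508, 11988), (11509, 11171), (11510, 11174), (11511, 10906), (11512, 11026), (11513, 10912), (11514, 12131), (11515, 11061), (11516, 10915), (11517, 12134), (11518, 11204), (11519, 11030)]
    ⟨e3 q11456 L189052 q11141, e3 q11457 L189062 q11159, e3 q11458 (flp_a L189072) q10859, e3 q11459 (flp_a L194635) q12072, e3 q11460 (flp_a L193446) q11961, e3 q11461 (flp_a L193458) q11962, e3 q11462 L189108 q10875, e3 q11463 L189120 q10876, e3 q11464 L189132 q10877, e3 q11465 L189141 q10878, e3 q11466 L189149 q10881, e3 q11467 L189161 q10883, e3 q11468 L189171 q10884, e3 q11469 L189179 q10885, e3 q11470 (flp_a L189207) q11472, e3 q11471 L189195 q11089, e3 q11472 L189207 q11470, e3 q11473 L193288 q11946, e3 q11474 (flp_a L194685) q12077, e3 q11475 (flp_a L194695)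 q12078, e3 q11476 (flp_a L194706) q12079, e3 q11477 (flp_a L194239) q12033, e3 q11478 (flp_a L194720) q12080, e3 q11479 (flp_a L194730) q12081, e3 q11480 L189260 q11093, e3 q11481 L189274 q11094, e3 q11482 (flp_a L193332) q11951, e3 q11483 (flp_a L194736) q12082, e3 q11484 (flp_a L194328) q12045, e3 q11485 (flp_a L194748) q12083, e3 q11486 (flp_a L194756) q12084, e3 q11487 (flp_a L192588) q11876, e3 q11488 (flp_a L193598) q11974, e3 q11489 (flp_a L192790) q11905, e3 q11490 (flp_a L193610) q11975, e3 q11491 L189350 q11024, e3 q11492 (flp_a L192648) q11884, e3 q11493 (flp_a L193620) q11976, e3 q11494 L195013 q12115, e3 q11495 (flp_a L193628) q11977, e3 q11496 (flp_a L193640) q11978, e3 q11497 (flp_a L189380) q10893, e3 q11498 (flp_a L195051) q12120, e3 q11499 (flp_a L190780) q11651, e3 q11500 (flp_a L193672) q11981, e3 q11501 (flp_a L193680) q11982, e3 q11502 (flp_a L193686) q11983, e3 q11503 L189416 q11003, e3 q11504 (flp_a L193700) q11984, e3 q11505 (flp_a L193710) q11985, e3 q11506 L189438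 q10901, e3 q11507 (flp_a L195105) q12128, e3 q11508 (flp_a L193742) q11988, e3 q11509 L189462 q11171, e3 q11510 L189467 q11174, e3 q11511 (flp_a L189475) q10906, e3 q11512 (flp_a L189496) q11026, e3 q11513 (flp_a L189498) q10912, e3 q11514 (flp_a L195125) q12131, e3 q11515 L189518 q11061, e3 q11516 L189528 q10915, e3 q11517 (flp_a L195156) q12134, e3 q11518 L189541 q11204, e3 q11519 L189555 q11030, trivial⟩ (by decide +kernel)

theorem ce_a_180 : ∀ r, r < 64 → sm ga (Qf (11520 + r)) = Qf (tab Gen.a (11520 + r)) :=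
  edges_tab (sm ga) Qf (tab Gen.a) 11520 [(11520, 11032), (11521, 11290), (11522, 11954), (11523, 11033), (11524, 10929), (11525, 10930), (11526, 12140), (11527, 12141), (11528, 11047), (11529, 11049), (11530, 11161), (11531, 11027), (11532, 11189), (11533, 11190), (11534, 11051), (11535, 11052), (11536, 10942), (11537, 10943), (11538, 10944), (11539, 11244), (11540, 12149), (11541, 12150), (11542, 12151), (11543, 12152), (11544, 11067), (11545, 11069), (11546, 11071), (11547, 11072), (11548, 12166), (11549, 11074), (11550, 11075), (11551, 11076), (11552, 12170), (11553, 11079), (11554, 10953), (11555, 11031), (11556, 11199), (11557, 11200), (11558, 11081), (11559, 10962), (11560, 10963), (11561, 12062), (11562, 12070), (11563, 12176), (11564, 12177), (11565, 11098), (11566, 11100), (11567, 11101), (11568, 11102), (11569, 11103), (11570, 11105), (11571, 11106), (11572, 11036), (11573, 11037), (11574, 11040), (11575, 11041), (11576, 11042), (11577, 11209), (11578, 11210), (11579, 11212),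 (11580, 11213), (11581, 11214), (11582, 11215), (11583, 11216)]
    ⟨e3 q11520 L189569 q11032, e3 q11521 L189583 q11290, e3 q11522 (flp_a L193364) q11954, e3 q11523 L189609 q11033, e3 q11524 L189623 q10929, e3 q11525 L189635 q10930, e3 q11526 (flp_a L195226) q12140, e3 q11527 (flp_a L195238) q12141, e3 q11528 L189663 q11047, e3 q11529 L189675 q11049, e3 q11530 L189687 q11161, e3 q11531 L189700 q11027, e3 q11532 L189710 q11189, e3 q11533 L189721 q11190, e3 q11534 L189731 q11051, e3 q11535 L189743 q11052, e3 q11536 L189751 q10942, e3 q11537 L189763 q10943, e3 q11538 L189774 q10944, e3 q11539 L189786 q11244, e3 q11540 (flp_a L195324) q12149, e3 q11541 (flp_a L195335) q12150, e3 q11542 (flp_a L195347) q12151, e3 q11543 (flp_a L195359) q12152, e3 q11544 L189817 q11067, e3 q11545 L189831 q11069, e3 q11546 L189841 q11071, e3 q11547 L189849 q11072, e3 q11548 L195466 q12166, e3 q11549 L189859 q11074, e3 q11550 L189869 q11075, e3 q11551 L189875 q11076, e3 q11552 L195498 q12170, e3 q11553 L189888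 q11079, e3 q11554 (flp_a L189896) q10953, e3 q11555 L189909 q11031, e3 q11556 L189919 q11199, e3 q11557 L189931 q11200, e3 q11558 L189941 q11081, e3 q11559 L189953 q10962, e3 q11560 L189963 q10963, e3 q11561 (flp_a L194527) q12062, e3 q11562 (flp_a L194607) q12070, e3 q11563 (flp_a L195562) q12176, e3 q11564 (flp_a L195570) q12177, e3 q11565 L190003 q11098, e3 q11566 L190013 q11100, e3 q11567 L190029 q11101, e3 q11568 L190037 q11102, e3 q11569 L190049 q11103, e3 q11570 L190057 q11105, e3 q11571 L190067 q11106, e3 q11572 L190079 q11036, e3 q11573 L190086 q11037, e3 q11574 L190094 q11040, e3 q11575 L190104 q11041, e3 q11576 L190110 q11042, e3 q11577 L190118 q11209, e3 q11578 L190129 q11210, e3 q11579 L190139 q11212, e3 q11580 L190151 q11213, e3 q11581 L190161 q11214, e3 q11582 L190171 q11215, e3 q11583 L190177 q11216, trivial⟩ (by decide +kernel)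

theorem ce_a_181 : ∀ r, r < 64 → sm ga (Qf (11584 + r)) = Qf (tab Gen.a (11584 + r)) :=
  edges_tab (sm ga) Qf (tab Gen.a) 11584 [(11584, 11110), (11585, 11111), (11586, 11112), (11587, 11114), (11588, 11115), (11589, 10996), (11590, 10997), (11591, 10998), (11592, 11001), (11593, 11002), (11594, 11004), (11595, 11005), (11596, 11420), (11597, 11418), (11598, 11989), (11599, 12030), (11600, 12202), (11601, 12203), (11602, 12204), (11603, 12205), (11604, 11939), (11605, 12044), (11606, 12206), (11607, 12207), (11608, 12126), (11609, 12112), (11610, 12208), (11611, 11145), (11612, 11146), (11613, 11147), (11614, 11148), (11615, 11149), (11616, 11150), (11617, 11151), (11618, 11153), (11619, 11154), (11620, 11155), (11621, 11156), (11622, 11157), (11623, 11158), (11624, 11160), (11625, 11060), (11626, 11241), (11627, 12109), (11628, 11242), (11629, 12144), (11630, 11452), (11631, 11453), (11632, 12137), (11633, 12173), (11634, 11636), (11635, 11637), (11636, 11634), (11637, 11635), (11638,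 12187), (11639, 12188), (11640, 11928), (11641, 11929), (11642, 12189), (11643, 12190), (11644, 11755), (11645, 11381), (11646, 11991), (11647, 11383)]
    ⟨e3 q11584 L190185 q11110, e3 q11585 L190193 q11111, e3 q11586 L190205 q11112, e3 q11587 L190213 q11114, e3 q11588 L190223 q11115, e3 q11589 L190235 q10996, e3 q11590 L190247 q10997, e3 q11591 L190256 q10998, e3 q11592 L190268 q11001, e3 q11593 L190278 q11002, e3 q11594 L190286 q11004, e3 q11595 L190294 q11005, e3 q11596 L190304 q11420, e3 q11597 L190316 q11418, e3 q11598 (flp_a L193750) q11989, e3 q11599 (flp_a L194199) q12030, e3 q11600 (flp_a L195816) q12202, e3 q11601 (flp_a L195829) q12203, e3 q11602 (flp_a L195841) q12204, e3 q11603 (flp_a L195851) q12205, e3 q11604 (flp_a L193199) q11939, e3 q11605 (flp_a L194316) q12044, e3 q11606 (flp_a L195861) q12206, e3 q11607 (flp_a L195869) q12207, e3 q11608 (flp_a L195089) q12126, e3 q11609 (flp_a L194991) q12112, e3 q11610 (flp_a L195879) q12208, e3 q11611 L190414 q11145, e3 q11612 L190420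 q11146, e3 q11613 L190430 q11147, e3 q11614 L190440 q11148, e3 q11615 L190452 q11149, e3 q11616 L190460 q11150, e3 q11617 L190474 q11151, e3 q11618 L190480 q11153, e3 q11619 L190492 q11154, e3 q11620 L190502 q11155, e3 q11621 L190508 q11156, e3 q11622 L190512 q11157, e3 q11623 L190524 q11158, e3 q11624 L190530 q11160, e3 q11625 L190544 q11060, e3 q11626 L190556 q11241, e3 q11627 (flp_a L194975) q12109, e3 q11628 L190572 q11242, e3 q11629 (flp_a L195272) q12144, e3 q11630 L190596 q11452, e3 q11631 L190610 q11453, e3 q11632 (flp_a L195184) q12137, e3 q11633 (flp_a L195530) q12173, e3 q11634 (flp_a L190655) q11636, e3 q11635 (flp_a L190670) q11637, e3 q11636 L190655 q11634, e3 q11637 L190670 q11635, e3 q11638 (flp_a L195672) q12187, e3 q11639 (flp_a L195680) q12188, e3 q11640 (flp_a L193052) q11928, e3 q11641 (flp_a L193066) q11929, e3 q11642 (flp_a L195688) q12189, e3 q11643 (flp_a L195698) q12190, e3 q11644 (flp_a L191642) q11755, e3 q11645 L190728 q11381, e3 q11646 (flp_a L193775) q11991,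 e3 q11647 L190748 q11383, trivial⟩ (by decide +kernel)

theorem ce_a_182 : ∀ r, r < 64 → sm ga (Qf (11648 + r)) = Qf (tab Gen.a (11648 + r)) :=
  edges_tab (sm ga) Qf (tab Gen.a) 11648 [(11648, 12143), (11649, 12012), (11650, 12256), (11651, 11499), (11652, 12147), (11653, 12148), (11654, 11053), (11655, 11059), (11656, 11062), (11657, 11063), (11658, 11659), (11659, 11658), (11660, 12133), (11661, 12260), (11662, 12231), (11663, 12270), (11664, 12117), (11665, 12261), (11666, 12262), (11667, 11392), (11668, 11247), (11669, 11676), (11670, 11677), (11671, 11772), (11672, 12161), (11673, 12283), (11674, 11747), (11675, 12162), (11676, 11669), (11677, 11670), (11678, 12289), (11679, 12164), (11680, 12165), (11681, 11073), (11682, 12294), (11683, 12168), (11684, 12169), (11685, 11078), (11686, 12172), (11687, 11090), (11688, 11091), (11689, 11092), (11690, 11211), (11691, 11095), (11692, 11096), (11693, 11097), (11694, 11695), (11695, 11694), (11696, 12087), (11697, 12088), (11698, 12297),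 (11699, 12298), (11700, 12300), (11701, 12301), (11702, 12100), (11703, 12101), (11704, 12303), (11705, 12304), (11706, 11880), (11707, 12181), (11708, 11967), (11709, 12182), (11710, 12183), (11711, 12184)]
    ⟨e3 q11648 (flp_a L195258) q12143, e3 q11649 (flp_a L193997) q12012, e3 q11650 L196317 q12256, e3 q11651 L190780 q11499, e3 q11652 (flp_a L195304) q12147, e3 q11653 (flp_a L195314) q12148, e3 q11654 (flp_a L190802) q11053, e3 q11655 L190818 q11059, e3 q11656 L190826 q11062, e3 q11657 L190836 q11063, e3 q11658 (flp_a L190858) q11659, e3 q11659 L190858 q11658, e3 q11660 (flp_a L195145) q12133, e3 q11661 (flp_a L196359) q12260, e3 q11662 (flp_a L196076) q12231, e3 q11663 L196459 q12270, e3 q11664 (flp_a L195029) q12117, e3 q11665 (flp_a L196369) q12261, e3 q11666 (flp_a L196377) q12262, e3 q11667 L190933 q11392, e3 q11668 L190945 q11247, e3 q11669 (flp_a L191005) q11676, e3 q11670 (flp_a L191017) q11677, e3 q11671 (flp_a L191768) q11772, e3 q11672 (flp_a L195426) q12161, e3 q11673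 L196577 q12283, e3 q11674 (flp_a L191584) q11747, e3 q11675 (flp_a L195440) q12162, e3 q11676 L191005 q11669, e3 q11677 L191017 q11670, e3 q11678 L196621 q12289, e3 q11679 (flp_a L195456) q12164, e3 q11680 (flp_a L195462) q12165, e3 q11681 (flp_a L191037) q11073, e3 q11682 (flp_a L196655) q12294, e3 q11683 (flp_a L195486) q12168, e3 q11684 (flp_a L195494) q12169, e3 q11685 (flp_a L191053) q11078, e3 q11686 (flp_a L195524) q12172, e3 q11687 L191073 q11090, e3 q11688 L191085 q11091, e3 q11689 L191094 q11092, e3 q11690 L191110 q11211, e3 q11691 L191116 q11095, e3 q11692 L191126 q11096, e3 q11693 L191134 q11097, e3 q11694 (flp_a L191152) q11695, e3 q11695 L191152 q11694, e3 q11696 (flp_a L194789) q12087, e3 q11697 (flp_a L194802) q12088, e3 q11698 (flp_a L196667) q12297, e3 q11699 (flp_a L196678) q12298, e3 q11700 (flp_a L196705) q12300, e3 q11701 (flp_a L196715) q12301, e3 q11702 (flp_a L194889) q12100, e3 q11703 (flp_a L194903) q12101, e3 q11704 (flp_a L196735) q12303, e3 q11705 (flp_a L196743)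 q12304, e3 q11706 L192624 q11880, e3 q11707 (flp_a L195606) q12181, e3 q11708 (flp_a L193520) q11967, e3 q11709 (flp_a L195616) q12182, e3 q11710 (flp_a L195632) q12183, e3 q11711 (flp_a L195642) q12184, trivial⟩ (by decide +kernel)

theorem ce_a_183 : ∀ r, r < 64 → sm ga (Qf (11712 + r)) = Qf (tab Gen.a (11712 + r)) :=
  edges_tab (sm ga) Qf (tab Gen.a) 11712 [(11712, 12185), (11713, 11969), (11714, 12186), (11715, 12021), (11716, 12022), (11717, 11937), (11718, 11995), (11719, 12198), (11720, 12199), (11721, 12200), (11722, 11938), (11723, 12201), (11724, 11128), (11725, 11130), (11726, 11131), (11727, 11132), (11728, 11133), (11729, 11134), (11730, 12063), (11731, 11136), (11732, 11137), (11733, 11139), (11734, 11140), (11735, 12071), (11736, 11142), (11737, 11143), (11738, 12332), (11739, 12333), (11740, 12020), (11741, 12334), (11742, 12335), (11743, 12336), (11744, 12338), (11745, 12339), (11746, 12064), (11747, 11674), (11748, 12341), (11749, 12342), (11750, 12025), (11751, 12343),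 (11752, 12344), (11753, 12073), (11754, 12346), (11755, 11644), (11756, 12226), (11757, 12227), (11758, 12228), (11759, 12229), (11760, 12230), (11761, 12232), (11762, 12233), (11763, 12065), (11764, 12234), (11765, 12235), (11766, 12236), (11767, 12237), (11768, 12074), (11769, 11164), (11770, 11172), (11771, 11924), (11772, 11671), (11773, 12130), (11774, 11176), (11775, 11184)]
    ⟨e3 q11712 (flp_a L195652) q12185, e3 q11713 (flp_a L193542) q11969, e3 q11714 (flp_a L195662) q12186, e3 q11715 (flp_a L194100) q12021, e3 q11716 (flp_a L194114) q12022, e3 q11717 (flp_a L193169) q11937, e3 q11718 (flp_a L193821) q11995, e3 q11719 (flp_a L195776) q12198, e3 q11720 (flp_a L195786) q12199, e3 q11721 (flp_a L195796) q12200, e3 q11722 (flp_a L193185) q11938, e3 q11723 (flp_a L195806) q12201, e3 q11724 L191378 q11128, e3 q11725 L191390 q11130, e3 q11726 L191404 q11131, e3 q11727 L191414 q11132, e3 q11728 L191420 q11133, e3 q11729 L191430 q11134, e3 q11730 (flp_a L194547) q12063, e3 q11731 L191448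 q11136, e3 q11732 L191460 q11137, e3 q11733 L191468 q11139, e3 q11734 L191474 q11140, e3 q11735 (flp_a L194621) q12071, e3 q11736 L191488 q11142, e3 q11737 L191494 q11143, e3 q11738 (flp_a L196977) q12332, e3 q11739 (flp_a L196993) q12333, e3 q11740 (flp_a L194090) q12020, e3 q11741 (flp_a L197005) q12334, e3 q11742 (flp_a L197019) q12335, e3 q11743 (flp_a L197029) q12336, e3 q11744 (flp_a L197045) q12338, e3 q11745 (flp_a L197057) q12339, e3 q11746 (flp_a L194553) q12064, e3 q11747 L191584 q11674, e3 q11748 (flp_a L197075) q12341, e3 q11749 (flp_a L197085) q12342, e3 q11750 (flp_a L194150) q12025, e3 q11751 (flp_a L197095) q12343, e3 q11752 (flp_a L197103) q12344, e3 q11753 (flp_a L194649) q12073, e3 q11754 (flp_a L197115) q12346, e3 q11755 L191642 q11644, e3 q11756 (flp_a L196030) q12226, e3 q11757 (flp_a L196036) q12227, e3 q11758 (flp_a L196044) q12228, e3 q11759 (flp_a L196054) q12229, e3 q11760 (flp_a L196068) q12230, e3 q11761 (flp_a L196088) q12232, e3 q11762 (flp_a L196100) q12233,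 e3 q11763 (flp_a L194563) q12065, e3 q11764 (flp_a L196106) q12234, e3 q11765 (flp_a L196118) q12235, e3 q11766 (flp_a L196130) q12236, e3 q11767 (flp_a L196136) q12237, e3 q11768 (flp_a L194659) q12074, e3 q11769 (flp_a L191734) q11164, e3 q11770 L191745 q11172, e3 q11771 (flp_a L193006) q11924, e3 q11772 L191768 q11671, e3 q11773 (flp_a L195119) q12130, e3 q11774 (flp_a L191786) q11176, e3 q11775 L191800 q11184, trivial⟩ (by decide +kernel)

theorem ce_a_184 : ∀ r, r < 64 → sm ga (Qf (11776 + r)) = Qf (tab Gen.a (11776 + r)) :=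
  edges_tab (sm ga) Qf (tab Gen.a) 11776 [(11776, 11254), (11777, 12171), (11778, 12372), (11779, 11183), (11780, 11844), (11781, 11845), (11782, 12145), (11783, 12146), (11784, 11245), (11785, 11246), (11786, 11248), (11787, 11249), (11788, 12385), (11789, 11251), (11790, 11252), (11791, 11253), (11792, 12389), (11793, 11256), (11794, 11198), (11795, 12059), (11796, 12174), (11797, 12175), (11798, 11262), (11799, 11263), (11800, 12136), (11801, 11264), (11802, 11265), (11803, 12102), (11804, 11268), (11805, 11269), (11806, 11998), (11807, 11999), (11808, 12299), (11809, 12191), (11810, 12192), (11811, 12302), (11812, 12016), (11813, 12193), (11814, 12194), (11815, 12195), (11816, 12196), (11817, 12197), (11818, 11271), (11819, 11274), (11820, 11275), (11821, 11277), (11822, 11278), (11823, 12424), (11824, 11280), (11825, 11281), (11826, 11223), (11827, 12429), (11828, 11284), (11829, 11285), (11830, 11286), (11831, 11291), (11832, 11292), (11833, 11229), (11834, 12415), (11835, 11295),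 (11836, 11233), (11837, 12436), (11838, 11302), (11839, 11236)]
    ⟨e3 q11776 L191814 q11254, e3 q11777 (flp_a L195511) q12171, e3 q11778 L197345 q12372, e3 q11779 (flp_a L191840) q11183, e3 q11780 (flp_a L192335) q11844, e3 q11781 (flp_a L192346) q11845, e3 q11782 (flp_a L195284) q12145, e3 q11783 (flp_a L195296) q12146, e3 q11784 L191880 q11245, e3 q11785 L191889 q11246, e3 q11786 L191897 q11248, e3 q11787 L191909 q11249, e3 q11788 L197458 q12385, e3 q11789 L191927 q11251, e3 q11790 L191935 q11252, e3 q11791 L191943 q11253, e3 q11792 L197488 q12389, e3 q11793 L191959 q11256, e3 q11794 (flp_a L191966) q11198, e3 q11795 (flp_a L194487) q12059, e3 q11796 (flp_a L195540) q12174, e3 q11797 (flp_a L195550) q12175, e3 q11798 L191994 q11262, e3 q11799 L192003 q11263, e3 q11800 (flp_a L195171) q12136, e3 q11801 L192016 q11264, e3 q11802 L192024 q11265, e3 q11803 (flp_a L194915) q12102, e3 q11804 L192036 q11268, e3 q11805 L192044 q11269, e3 q11806 (flp_a L193857) q11998, e3 q11807 (flp_a L193872)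 q11999, e3 q11808 (flp_a L196699) q12299, e3 q11809 (flp_a L195704) q12191, e3 q11810 (flp_a L195716) q12192, e3 q11811 (flp_a L196721) q12302, e3 q11812 (flp_a L194042) q12016, e3 q11813 (flp_a L195724) q12193, e3 q11814 (flp_a L195734) q12194, e3 q11815 (flp_a L195746) q12195, e3 q11816 (flp_a L195756) q12196, e3 q11817 (flp_a L195768) q12197, e3 q11818 L192124 q11271, e3 q11819 L192134 q11274, e3 q11820 L192144 q11275, e3 q11821 L192150 q11277, e3 q11822 L192160 q11278, e3 q11823 L197748 q12424, e3 q11824 L192174 q11280, e3 q11825 L192182 q11281, e3 q11826 (flp_a L192188) q11223, e3 q11827 (flp_a L197794) q12429, e3 q11828 L192206 q11284, e3 q11829 L192218 q11285, e3 q11830 L192226 q11286, e3 q11831 L192234 q11291, e3 q11832 L192242 q11292, e3 q11833 L192248 q11229, e3 q11834 (flp_a L197674) q12415, e3 q11835 L192258 q11295, e3 q11836 (flp_a L192262) q11233, e3 q11837 (flp_a L197850) q12436, e3 q11838 L192286 q11302, e3 q11839 L192298 q11236, trivial⟩ (by decide +kernel)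

theorem ce_a_185 : ∀ r, r < 64 → sm ga (Qf (11840 + r)) = Qf (tab Gen.a (11840 + r)) :=
  edges_tab (sm ga) Qf (tab Gen.a) 11840 [(11840, 12438), (11841, 12056), (11842, 12013), (11843, 12238), (11844, 11780), (11845, 11781), (11846, 12153), (11847, 12154), (11848, 12446), (11849, 12380), (11850, 12381), (11851, 12275), (11852, 12276), (11853, 12453), (11854, 12383), (11855, 12384), (11856, 11250), (11857, 12458), (11858, 12387), (11859, 12388), (11860, 11255), (11861, 12391), (11862, 11436), (11863, 11437), (11864, 11912), (11865, 11913), (11866, 12057), (11867, 12058), (11868, 12396), (11869, 12397), (11870, 12399), (11871, 12400), (11872, 12401), (11873, 12060), (11874, 12061), (11875, 12403), (11876, 11487), (11877, 12419), (11878, 12023), (11879, 12024), (11880, 11706), (11881, 12420), (11882, 12421), (11883, 11972), (11884, 11492), (11885, 12422), (11886, 12423), (11887, 11279), (11888, 12485), (11889, 12426), (11890, 12427), (11891, 12428), (11892, 11283), (11893, 12491), (11894,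 12492), (11895, 12432), (11896, 12433), (11897, 12026), (11898, 12027), (11899, 11971), (11900, 12138), (11901, 11347), (11902, 12434), (11903, 11294)]
    ⟨e3 q11840 (flp_a L197874) q12438, e3 q11841 (flp_a L194459) q12056, e3 q11842 L194022 q12013, e3 q11843 (flp_a L196148) q12238, e3 q11844 L192335 q11780, e3 q11845 L192346 q11781, e3 q11846 (flp_a L195369) q12153, e3 q11847 (flp_a L195382) q12154, e3 q11848 L197945 q12446, e3 q11849 (flp_a L197406) q12380, e3 q11850 (flp_a L197414) q12381, e3 q11851 (flp_a L196509) q12275, e3 q11852 (flp_a L196523) q12276, e3 q11853 L197997 q12453, e3 q11854 (flp_a L197436) q12383, e3 q11855 (flp_a L197446) q12384, e3 q11856 (flp_a L192440) q11250, e3 q11857 (flp_a L198051) q12458, e3 q11858 (flp_a L197474) q12387, e3 q11859 (flp_a L197482) q12388, e3 q11860 (flp_a L192464) q11255, e3 q11861 (flp_a L197516) q12391, e3 q11862 L192489 q11436, e3 q11863 L192502 q11437, e3 q11864 (flp_a L192865) q11912, e3 q11865 (flp_a L192878) q11913, e3 q11866 (flp_a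 L194465) q12057, e3 q11867 (flp_a L194475) q12058, e3 q11868 (flp_a L197547) q12396, e3 q11869 (flp_a L197557) q12397, e3 q11870 (flp_a L197571) q12399, e3 q11871 (flp_a L197576) q12400, e3 q11872 (flp_a L197584) q12401, e3 q11873 (flp_a L194501) q12060, e3 q11874 (flp_a L194513) q12061, e3 q11875 (flp_a L197596) q12403, e3 q11876 L192588 q11487, e3 q11877 (flp_a L197700) q12419, e3 q11878 (flp_a L194128) q12023, e3 q11879 (flp_a L194142) q12024, e3 q11880 (flp_a L192624) q11706, e3 q11881 (flp_a L197712) q12420, e3 q11882 (flp_a L197722) q12421, e3 q11883 (flp_a L193578) q11972, e3 q11884 L192648 q11492, e3 q11885 (flp_a L197730) q12422, e3 q11886 (flp_a L197742) q12423, e3 q11887 (flp_a L192674) q11279, e3 q11888 (flp_a L198265) q12485, e3 q11889 (flp_a L197766) q12426, e3 q11890 (flp_a L197778) q12427, e3 q11891 (flp_a L197786) q12428, e3 q11892 L192712 q11283, e3 q11893 (flp_a L198311) q12491, e3 q11894 (flp_a L198317) q12492, e3 q11895 (flp_a L197818) q12432, e3 q11896 (flp_a L197830)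 q12433, e3 q11897 (flp_a L194162) q12026, e3 q11898 (flp_a L194174) q12027, e3 q11899 (flp_a L193566) q11971, e3 q11900 (flp_a L195200) q12138, e3 q11901 L192760 q11347, e3 q11902 (flp_a L197838) q12434, e3 q11903 L192782 q11294, trivial⟩ (by decide +kernel)

theorem ce_a_186 : ∀ r, r < 64 → sm ga (Qf (11904 + r)) = Qf (tab Gen.a (11904 + r)) :=
  edges_tab (sm ga) Qf (tab Gen.a) 11904 [(11904, 12500), (11905, 11489), (11906, 11301), (11907, 12501), (11908, 12264), (11909, 11304), (11910, 11309), (11911, 11310), (11912, 11864), (11913, 11865), (11914, 12503), (11915, 12504), (11916, 11390), (11917, 11391), (11918, 11393), (11919, 11394), (11920, 12517), (11921, 11396), (11922, 11397), (11923, 11398), (11924, 11771), (11925, 11399), (11926, 11318), (11927, 11401), (11928, 11640), (11929, 11641), (11930, 11403), (11931, 11404), (11932, 11406), (11933, 11407), (11934, 11408), (11935, 11330), (11936, 11331), (11937, 11717), (11938, 11722), (11939, 11604), (11940, 12529), (11941, 12530), (11942,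 11421), (11943, 11422), (11944, 11423), (11945, 11424), (11946, 11473), (11947, 11426), (11948, 11427), (11949, 11430), (11950, 11431), (11951, 11482), (11952, 11434), (11953, 11435), (11954, 11522), (11955, 11438), (11956, 11439), (11957, 11440), (11958, 11348), (11959, 12499), (11960, 12551), (11961, 11460), (11962, 11461), (11963, 11357), (11964, 11359), (11965, 11361), (11966, 11362), (11967, 11708)]
    ⟨e3 q11904 (flp_a L198373) q12500, e3 q11905 L192790 q11489, e3 q11906 L192804 q11301, e3 q11907 (flp_a L198377) q12501, e3 q11908 (flp_a L196399) q12264, e3 q11909 L192832 q11304, e3 q11910 L192836 q11309, e3 q11911 L192851 q11310, e3 q11912 L192865 q11864, e3 q11913 L192878 q11865, e3 q11914 (flp_a L198396) q12503, e3 q11915 (flp_a L198410) q12504, e3 q11916 L192908 q11390, e3 q11917 L192921 q11391, e3 q11918 L192935 q11393, e3 q11919 L192949 q11394, e3 q11920 L198569 q12517, e3 q11921 L192969 q11396, e3 q11922 L192981 q11397, e3 q11923 L192989 q11398, e3 q11924 L193006 q11771, e3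 q11925 L193011 q11399, e3 q11926 (flp_a L193022) q11318, e3 q11927 L193038 q11401, e3 q11928 L193052 q11640, e3 q11929 L193066 q11641, e3 q11930 L193078 q11403, e3 q11931 L193093 q11404, e3 q11932 L193107 q11406, e3 q11933 L193121 q11407, e3 q11934 L193133 q11408, e3 q11935 L193143 q11330, e3 q11936 L193157 q11331, e3 q11937 L193169 q11717, e3 q11938 L193185 q11722, e3 q11939 L193199 q11604, e3 q11940 (flp_a L198729) q12529, e3 q11941 (flp_a L198743) q12530, e3 q11942 L193231 q11421, e3 q11943 L193244 q11422, e3 q11944 L193254 q11423, e3 q11945 L193265 q11424, e3 q11946 (flp_a L193288) q11473, e3 q11947 L193292 q11426, e3 q11948 L193300 q11427, e3 q11949 L193306 q11430, e3 q11950 L193320 q11431, e3 q11951 L193332 q11482, e3 q11952 L193346 q11434, e3 q11953 L193356 q11435, e3 q11954 L193364 q11522, e3 q11955 L193378 q11438, e3 q11956 L193392 q11439, e3 q11957 L193404 q11440, e3 q11958 L193414 q11348, e3 q11959 (flp_a L198357) q12499, e3 q11960 (flp_a L199000) q12551, e3 q11961 L193446 q11460,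 e3 q11962 L193458 q11461, e3 q11963 L193470 q11357, e3 q11964 L193486 q11359, e3 q11965 L193500 q11361, e3 q11966 L193512 q11362, e3 q11967 L193520 q11708, trivial⟩ (by decide +kernel)

theorem ce_a_187 : ∀ r, r < 64 → sm ga (Qf (11968 + r)) = Qf (tab Gen.a (11968 + r)) :=
  edges_tab (sm ga) Qf (tab Gen.a) 11968 [(11968, 12554), (11969, 11713), (11970, 12555), (11971, 11899), (11972, 11883), (11973, 12556), (11974, 11488), (11975, 11490), (11976, 11493), (11977, 11495), (11978, 11496), (11979, 11368), (11980, 12567), (11981, 11500), (11982, 11501), (11983, 11502), (11984, 11504), (11985, 11505), (11986, 11375), (11987, 12572), (11988, 11508), (11989, 11598), (11990, 12253), (11991, 11646), (11992, 12255), (11993, 11387), (11994, 11388), (11995, 11718), (11996, 12576), (11997, 12577), (11998, 11806), (11999, 11807), (12000, 12305), (12001, 12512), (12002, 12513), (12003, 12274), (12004, 12515), (12005, 12516), (12006, 11395), (12007, 12590), (12008, 12519), (12009, 12520), (12010, 12521),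 (12011, 12522), (12012, 11649), (12013, 11842), (12014, 12525), (12015, 12526), (12016, 11812), (12017, 12527), (12018, 12528), (12019, 11417), (12020, 11740), (12021, 11715), (12022, 11716), (12023, 11878), (12024, 11879), (12025, 11750), (12026, 11897), (12027, 11898), (12028, 12211), (12029, 12212), (12030, 11599), (12031, 12209)]
    ⟨e3 q11968 (flp_a L199042) q12554, e3 q11969 L193542 q11713, e3 q11970 (flp_a L199058) q12555, e3 q11971 L193566 q11899, e3 q11972 L193578 q11883, e3 q11973 (flp_a L199074) q12556, e3 q11974 L193598 q11488, e3 q11975 L193610 q11490, e3 q11976 L193620 q11493, e3 q11977 L193628 q11495, e3 q11978 L193640 q11496, e3 q11979 (flp_a L193646) q11368, e3 q11980 (flp_a L199204) q12567, e3 q11981 L193672 q11500, e3 q11982 L193680 q11501, e3 q11983 L193686 q11502, e3 q11984 L193700 q11504, e3 q11985 L193710 q11505, e3 q11986 L193718 q11375, e3 q11987 (flp_a L199262) q12572, e3 q11988 L193742 q11508, e3 q11989 L193750 q11598, e3 q11990 (flp_a L196287) q12253, e3 q11991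 L193775 q11646, e3 q11992 (flp_a L196307) q12255, e3 q11993 L193797 q11387, e3 q11994 L193813 q11388, e3 q11995 L193821 q11718, e3 q11996 (flp_a L199318) q12576, e3 q11997 (flp_a L199334) q12577, e3 q11998 L193857 q11806, e3 q11999 L193872 q11807, e3 q12000 (flp_a L196753) q12305, e3 q12001 (flp_a L198503) q12512, e3 q12002 (flp_a L198515) q12513, e3 q12003 (flp_a L196497) q12274, e3 q12004 (flp_a L198545) q12515, e3 q12005 (flp_a L198557) q12516, e3 q12006 (flp_a L193939) q11395, e3 q12007 (flp_a L199471) q12590, e3 q12008 (flp_a L198597) q12519, e3 q12009 (flp_a L198607) q12520, e3 q12010 (flp_a L198617) q12521, e3 q12011 (flp_a L198629) q12522, e3 q12012 L193997 q11649, e3 q12013 (flp_a L194022) q11842, e3 q12014 (flp_a L198673) q12525, e3 q12015 (flp_a L198687) q12526, e3 q12016 L194042 q11812, e3 q12017 (flp_a L198701) q12527, e3 q12018 (flp_a L198715) q12528, e3 q12019 L194078 q11417, e3 q12020 L194090 q11740, e3 q12021 L194100 q11715, e3 q12022 L194114 q11716, e3 q12023 L194128 q11878,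 e3 q12024 L194142 q11879, e3 q12025 L194150 q11750, e3 q12026 L194162 q11897, e3 q12027 L194174 q11898, e3 q12028 (flp_a L195914) q12211, e3 q12029 (flp_a L195929) q12212, e3 q12030 L194199 q11599, e3 q12031 (flp_a L195889) q12209, trivial⟩ (by decide +kernel)

theorem ce_a_188 : ∀ r, r < 64 → sm ga (Qf (12032 + r)) = Qf (tab Gen.a (12032 + r)) :=
  edges_tab (sm ga) Qf (tab Gen.a) 12032 [(12032, 12210), (12033, 11477), (12034, 12536), (12035, 12537), (12036, 12617), (12037, 12538), (12038, 12539), (12039, 11425), (12040, 12622), (12041, 12541), (12042, 12542), (12043, 12543), (12044, 11605), (12045, 11484), (12046, 12544), (12047, 12545), (12048, 11433), (12049, 12630), (12050, 12547), (12051, 12461), (12052, 12462), (12053, 12549), (12054, 12550), (12055, 11447), (12056, 11841), (12057, 11866), (12058, 11867), (12059, 11795), (12060, 11873), (12061, 11874), (12062, 11561), (12063, 11730), (12064, 11746), (12065, 11763), (12066, 11451), (12067, 12647), (12068, 12240), (12069, 12241), (12070,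 11562), (12071, 11735), (12072, 11459), (12073, 11753), (12074, 11768), (12075, 12652), (12076, 12553), (12077, 11474), (12078, 11475), (12079, 11476), (12080, 11478), (12081, 11479), (12082, 11483), (12083, 11485), (12084, 11486), (12085, 12089), (12086, 12090), (12087, 11696), (12088, 11697), (12089, 12085), (12090, 12086), (12091, 12540), (12092, 12655), (12093, 12610), (12094, 12656), (12095, 12657)]
    ⟨e3 q12032 (flp_a L195902) q12210, e3 q12033 L194239 q11477, e3 q12034 (flp_a L198825) q12536, e3 q12035 (flp_a L198837) q12537, e3 q12036 L199751 q12617, e3 q12037 (flp_a L198847) q12538, e3 q12038 (flp_a L198859) q12539, e3 q12039 (flp_a L194278) q11425, e3 q12040 (flp_a L199797) q12622, e3 q12041 (flp_a L198883) q12541, e3 q12042 (flp_a L198890) q12542, e3 q12043 (flp_a L198898) q12543, e3 q12044 L194316 q11605, e3 q12045 L194328 q11484, e3 q12046 (flp_a L198904) q12544, e3 q12047 (flp_a L198918) q12545, e3 q12048 L194358 q11433, e3 q12049 (flp_a L199872) q12630, e3 q12050 (flp_a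 L198946) q12547, e3 q12051 (flp_a L198069) q12461, e3 q12052 (flp_a L198081) q12462, e3 q12053 (flp_a L198972) q12549, e3 q12054 (flp_a L198986) q12550, e3 q12055 L194436 q11447, e3 q12056 L194459 q11841, e3 q12057 L194465 q11866, e3 q12058 L194475 q11867, e3 q12059 L194487 q11795, e3 q12060 L194501 q11873, e3 q12061 L194513 q11874, e3 q12062 L194527 q11561, e3 q12063 L194547 q11730, e3 q12064 L194553 q11746, e3 q12065 L194563 q11763, e3 q12066 (flp_a L194571) q11451, e3 q12067 (flp_a L200072) q12647, e3 q12068 (flp_a L196170) q12240, e3 q12069 (flp_a L196182) q12241, e3 q12070 L194607 q11562, e3 q12071 L194621 q11735, e3 q12072 L194635 q11459, e3 q12073 L194649 q11753, e3 q12074 L194659 q11768, e3 q12075 (flp_a L200128) q12652, e3 q12076 (flp_a L199028) q12553, e3 q12077 L194685 q11474, e3 q12078 L194695 q11475, e3 q12079 L194706 q11476, e3 q12080 L194720 q11478, e3 q12081 L194730 q11479, e3 q12082 L194736 q11483, e3 q12083 L194748 q11485, e3 q12084 L194756 q11486, e3 q12085 (flp_a L194812)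 q12089, e3 q12086 (flp_a L194821) q12090, e3 q12087 L194789 q11696, e3 q12088 L194802 q11697, e3 q12089 L194812 q12085, e3 q12090 L194821 q12086, e3 q12091 (flp_a L198871) q12540, e3 q12092 (flp_a L200162) q12655, e3 q12093 (flp_a L199698) q12610, e3 q12094 (flp_a L200172) q12656, e3 q12095 (flp_a L200184) q12657, trivial⟩ (by decide +kernel)

theorem ce_a_189 : ∀ r, r < 64 → sm ga (Qf (12096 + r)) = Qf (tab Gen.a (12096 + r)) :=
  edges_tab (sm ga) Qf (tab Gen.a) 12096 [(12096, 12613), (12097, 12658), (12098, 12659), (12099, 12660), (12100, 11702), (12101, 11703), (12102, 11803), (12103, 12546), (12104, 12661), (12105, 12628), (12106, 12662), (12107, 12474), (12108, 12562), (12109, 11627), (12110, 12479), (12111, 12563), (12112, 11609), (12113, 12483), (12114, 12564), (12115, 11494), (12116, 12693), (12117, 11664), (12118, 12565), (12119, 12566), (12120, 11498), (12121, 12699), (12122, 12700), (12123, 12258), (12124, 12569), (12125, 12570), (12126, 11608), (12127, 12571), (12128, 11507),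 (12129, 12706), (12130, 11773), (12131, 11514), (12132, 12707), (12133, 11660), (12134, 11517), (12135, 12710), (12136, 11800), (12137, 11632), (12138, 11900), (12139, 12548), (12140, 11526), (12141, 11527), (12142, 12713), (12143, 11648), (12144, 11629), (12145, 11782), (12146, 11783), (12147, 11652), (12148, 11653), (12149, 11540), (12150, 11541), (12151, 11542), (12152, 11543), (12153, 11846), (12154, 11847), (12155, 12726), (12156, 12719), (12157, 12720), (12158, 12721), (12159, 12722)]
    ⟨e3 q12096 (flp_a L199724) q12613, e3 q12097 (flp_a L200196) q12658, e3 q12098 (flp_a L200203) q12659, e3 q12099 (flp_a L200211) q12660, e3 q12100 L194889 q11702, e3 q12101 L194903 q11703, e3 q12102 L194915 q11803, e3 q12103 (flp_a L198932) q12546, e3 q12104 (flp_a L200219) q12661, e3 q12105 (flp_a L199850) q12628, e3 q12106 (flp_a L200233) q12662, e3 q12107 (flp_a L198163) q12474, e3 q12108 (flp_a L199152) q12562, e3 q12109 L194975 q11627, e3 q12110 (flp_a L198205) q12479, e3 q12111 (flp_a L199164)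 q12563, e3 q12112 L194991 q11609, e3 q12113 (flp_a L198243) q12483, e3 q12114 (flp_a L199176) q12564, e3 q12115 (flp_a L195013) q11494, e3 q12116 (flp_a L200504) q12693, e3 q12117 L195029 q11664, e3 q12118 (flp_a L199184) q12565, e3 q12119 (flp_a L199194) q12566, e3 q12120 L195051 q11498, e3 q12121 (flp_a L200554) q12699, e3 q12122 (flp_a L200562) q12700, e3 q12123 (flp_a L196341) q12258, e3 q12124 (flp_a L199226) q12569, e3 q12125 (flp_a L199234) q12570, e3 q12126 L195089 q11608, e3 q12127 (flp_a L199250) q12571, e3 q12128 L195105 q11507, e3 q12129 (flp_a L200610) q12706, e3 q12130 L195119 q11773, e3 q12131 L195125 q11514, e3 q12132 (flp_a L200618) q12707, e3 q12133 L195145 q11660, e3 q12134 L195156 q11517, e3 q12135 (flp_a L200648) q12710, e3 q12136 L195171 q11800, e3 q12137 L195184 q11632, e3 q12138 L195200 q11900, e3 q12139 (flp_a L198956) q12548, e3 q12140 L195226 q11526, e3 q12141 L195238 q11527, e3 q12142 (flp_a L200688) q12713, e3 q12143 L195258 q11648, e3 q12144 L195272 q11629,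 e3 q12145 L195284 q11782, e3 q12146 L195296 q11783, e3 q12147 L195304 q11652, e3 q12148 L195314 q11653, e3 q12149 L195324 q11540, e3 q12150 L195335 q11541, e3 q12151 L195347 q11542, e3 q12152 L195359 q11543, e3 q12153 L195369 q11846, e3 q12154 L195382 q11847, e3 q12155 L200830 q12726, e3 q12156 (flp_a L200755) q12719, e3 q12157 (flp_a L200765) q12720, e3 q12158 (flp_a L200777) q12721, e3 q12159 (flp_a L200786) q12722, trivial⟩ (by decide +kernel)

theorem ce_a_190 : ∀ r, r < 64 → sm ga (Qf (12160 + r)) = Qf (tab Gen.a (12160 + r)) :=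
  edges_tab (sm ga) Qf (tab Gen.a) 12160 [(12160, 12723), (12161, 11672), (12162, 11675), (12163, 12735), (12164, 11679), (12165, 11680), (12166, 11548), (12167, 12740), (12168, 11683), (12169, 11684), (12170, 11552), (12171, 11777), (12172, 11686), (12173, 11633), (12174, 11796), (12175, 11797), (12176, 11563), (12177, 11564), (12178, 12642), (12179, 12650), (12180, 12745), (12181, 11707), (12182, 11709), (12183, 11710), (12184, 11711), (12185, 11712), (12186, 11714), (12187, 11638), (12188, 11639), (12189, 11642), (12190, 11643), (12191, 11809), (12192, 11810), (12193, 11813), (12194, 11814), (12195, 11815), (12196, 11816), (12197, 11817), (12198, 11719), (12199, 11720), (12200, 11721), (12201, 11723), (12202, 11600), (12203, 11601), (12204, 11602), (12205, 11603), (12206, 11606), (12207, 11607), (12208, 11610), (12209, 12031), (12210, 12032), (12211, 12028), (12212, 12029), (12213, 12534), (12214, 12609), (12215, 12764), (12216, 12765), (12217, 12766), (12218, 12767), (12219, 12768),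 (12220, 12533), (12221, 12627), (12222, 12769), (12223, 12705)]
    ⟨e3 q12160 (flp_a L200796) q12723, e3 q12161 L195426 q11672, e3 q12162 L195440 q11675, e3 q12163 L200898 q12735, e3 q12164 L195456 q11679, e3 q12165 L195462 q11680, e3 q12166 (flp_a L195466) q11548, e3 q12167 (flp_a L200936) q12740, e3 q12168 L195486 q11683, e3 q12169 L195494 q11684, e3 q12170 (flp_a L195498) q11552, e3 q12171 L195511 q11777, e3 q12172 L195524 q11686, e3 q12173 L195530 q11633, e3 q12174 L195540 q11796, e3 q12175 L195550 q11797, e3 q12176 L195562 q11563, e3 q12177 L195570 q11564, e3 q12178 (flp_a L200020) q12642, e3 q12179 (flp_a L200098) q12650, e3 q12180 (flp_a L200988) q12745, e3 q12181 L195606 q11707, e3 q12182 L195616 q11709, e3 q12183 L195632 q11710, e3 q12184 L195642 q11711, e3 q12185 L195652 q11712, e3 q12186 L195662 q11714, e3 q12187 L195672 q11638, e3 q12188 L195680 q11639, e3 q12189 L195688 q11642, e3 q12190 L195698 q11643, e3 q12191 L195704 q11809, e3 q12192 L195716 q11810, e3 q12193 L195724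 q11813, e3 q12194 L195734 q11814, e3 q12195 L195746 q11815, e3 q12196 L195756 q11816, e3 q12197 L195768 q11817, e3 q12198 L195776 q11719, e3 q12199 L195786 q11720, e3 q12200 L195796 q11721, e3 q12201 L195806 q11723, e3 q12202 L195816 q11600, e3 q12203 L195829 q11601, e3 q12204 L195841 q11602, e3 q12205 L195851 q11603, e3 q12206 L195861 q11606, e3 q12207 L195869 q11607, e3 q12208 L195879 q11610, e3 q12209 L195889 q12031, e3 q12210 L195902 q12032, e3 q12211 L195914 q12028, e3 q12212 L195929 q12029, e3 q12213 (flp_a L198803) q12534, e3 q12214 (flp_a L199677) q12609, e3 q12215 (flp_a L201190) q12764, e3 q12216 (flp_a L201202) q12765, e3 q12217 (flp_a L201214) q12766, e3 q12218 (flp_a L201223) q12767, e3 q12219 (flp_a L201231) q12768, e3 q12220 (flp_a L198789) q12533, e3 q12221 (flp_a L199836) q12627, e3 q12222 (flp_a L201243) q12769, e3 q12223 (flp_a L200598) q12705, trivial⟩ (by decide +kernel)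

theorem ce_a_191 : ∀ r, r < 64 → sm ga (Qf (12224 + r)) = Qf (tab Gen.a (12224 + r)) :=
  edges_tab (sm ga) Qf (tab Gen.a) 12224 [(12224, 12691), (12225, 12688), (12226, 11756), (12227, 11757), (12228, 11758), (12229, 11759), (12230, 11760), (12231, 11662), (12232, 11761), (12233, 11762), (12234, 11764), (12235, 11765), (12236, 11766), (12237, 11767), (12238, 11843), (12239, 12714), (12240, 12068), (12241, 12069), (12242, 12244), (12243, 12245), (12244, 12242), (12245, 12243), (12246, 12751), (12247, 12752), (12248, 12753), (12249, 12523), (12250, 12524), (12251, 12754), (12252, 12363), (12253, 11990), (12254, 12575), (12255, 11992), (12256, 11650), (12257, 12804), (12258, 12123), (12259, 12718), (12260, 11661), (12261, 11665), (12262, 11666), (12263, 12265), (12264, 11908), (12265, 12263), (12266, 12813), (12267, 12697), (12268, 12807), (12269, 12789), (12270, 11663), (12271, 12819), (12272, 12696), (12273, 12808), (12274, 12003), (12275, 11851), (12276, 11852), (12277, 12743), (12278,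 12287), (12279, 12288), (12280, 12830), (12281, 12353), (12282, 12733), (12283, 11673), (12284, 12834), (12285, 12358), (12286, 12734), (12287, 12278)]
    ⟨e3 q12224 (flp_a L200486) q12691, e3 q12225 (flp_a L200462) q12688, e3 q12226 L196030 q11756, e3 q12227 L196036 q11757, e3 q12228 L196044 q11758, e3 q12229 L196054 q11759, e3 q12230 L196068 q11760, e3 q12231 L196076 q11662, e3 q12232 L196088 q11761, e3 q12233 L196100 q11762, e3 q12234 L196106 q11764, e3 q12235 L196118 q11765, e3 q12236 L196130 q11766, e3 q12237 L196136 q11767, e3 q12238 L196148 q11843, e3 q12239 (flp_a L200702) q12714, e3 q12240 L196170 q12068, e3 q12241 L196182 q12069, e3 q12242 (flp_a L196212) q12244, e3 q12243 (flp_a L196226) q12245, e3 q12244 L196212 q12242, e3 q12245 L196226 q12243, e3 q12246 (flp_a L201056) q12751, e3 q12247 (flp_a L201065) q12752, e3 q12248 (flp_a L201073) q12753, e3 q12249 (flp_a L198645) q12523, e3 q12250 (flp_a L198659) q12524, e3 q12251 (flp_a L201081) q12754, e3 q12252 (flp_a L197271) q12363,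 e3 q12253 L196287 q11990, e3 q12254 (flp_a L199302) q12575, e3 q12255 L196307 q11992, e3 q12256 (flp_a L196317) q11650, e3 q12257 (flp_a L201595) q12804, e3 q12258 L196341 q12123, e3 q12259 (flp_a L200743) q12718, e3 q12260 L196359 q11661, e3 q12261 L196369 q11665, e3 q12262 L196377 q11666, e3 q12263 (flp_a L196412) q12265, e3 q12264 L196399 q11908, e3 q12265 L196412 q12263, e3 q12266 L201694 q12813, e3 q12267 (flp_a L200536) q12697, e3 q12268 (flp_a L201629) q12807, e3 q12269 (flp_a L201427) q12789, e3 q12270 (flp_a L196459) q11663, e3 q12271 (flp_a L201748) q12819, e3 q12272 (flp_a L200526) q12696, e3 q12273 (flp_a L201637) q12808, e3 q12274 L196497 q12003, e3 q12275 L196509 q11851, e3 q12276 L196523 q11852, e3 q12277 (flp_a L200964) q12743, e3 q12278 (flp_a L196605) q12287, e3 q12279 (flp_a L196615) q12288, e3 q12280 L201856 q12830, e3 q12281 (flp_a L197183) q12353, e3 q12282 (flp_a L200876) q12733, e3 q12283 (flp_a L196577) q11673, e3 q12284 (flp_a L201884) q12834, e3 q12285 (flp_a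 L197231) q12358, e3 q12286 (flp_a L200890) q12734, e3 q12287 L196605 q12278, trivial⟩ (by decide +kernel)

theorem ce_a_192 : ∀ r, r < 64 → sm ga (Qf (12288 + r)) = Qf (tab Gen.a (12288 + r)) :=
  edges_tab (sm ga) Qf (tab Gen.a) 12288 [(12288, 12279), (12289, 11678), (12290, 12827), (12291, 12737), (12292, 12738), (12293, 12739), (12294, 11682), (12295, 12842), (12296, 12742), (12297, 11698), (12298, 11699), (12299, 11808), (12300, 11700), (12301, 11701), (12302, 11811), (12303, 11704), (12304, 11705), (12305, 12000), (12306, 12307), (12307, 12306), (12308, 12665), (12309, 12666), (12310, 12845), (12311, 12846), (12312, 12848), (12313, 12849), (12314, 12850), (12315, 12680), (12316, 12681), (12317, 12852), (12318, 12478), (12319, 12747), (12320, 12557), (12321, 12748), (12322, 12749), (12323, 12750), (12324, 12559), (12325, 12601), (12326, 12602), (12327, 12531), (12328, 12578), (12329, 12762), (12330, 12763), (12331, 12532), (12332, 11738), (12333, 11739), (12334, 11741), (12335, 11742),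 (12336, 11743), (12337, 12514), (12338, 11744), (12339, 11745), (12340, 12643), (12341, 11748), (12342, 11749), (12343, 11751), (12344, 11752), (12345, 12651), (12346, 11754), (12347, 12873), (12348, 12874), (12349, 12600), (12350, 12875), (12351, 12876)]
    ⟨e3 q12288 L196615 q12279, e3 q12289 (flp_a L196621) q11678, e3 q12290 (flp_a L201834) q12827, e3 q12291 (flp_a L200916) q12737, e3 q12292 (flp_a L200922) q12738, e3 q12293 (flp_a L200930) q12739, e3 q12294 L196655 q11682, e3 q12295 (flp_a L201946) q12842, e3 q12296 (flp_a L200954) q12742, e3 q12297 L196667 q11698, e3 q12298 L196678 q11699, e3 q12299 L196699 q11808, e3 q12300 L196705 q11700, e3 q12301 L196715 q11701, e3 q12302 L196721 q11811, e3 q12303 L196735 q11704, e3 q12304 L196743 q11705, e3 q12305 L196753 q12000, e3 q12306 (flp_a L196776) q12307, e3 q12307 L196776 q12306, e3 q12308 (flp_a L200267) q12665, e3 q12309 (flp_a L200279) q12666, e3 q12310 (flp_a L201969) q12845, e3 q12311 (flp_a L201981) q12846, e3 q12312 (flp_a L202005)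 q12848, e3 q12313 (flp_a L202012) q12849, e3 q12314 (flp_a L202020) q12850, e3 q12315 (flp_a L200380) q12680, e3 q12316 (flp_a L200394) q12681, e3 q12317 (flp_a L202042) q12852, e3 q12318 (flp_a L198193) q12478, e3 q12319 (flp_a L201008) q12747, e3 q12320 (flp_a L199086) q12557, e3 q12321 (flp_a L201018) q12748, e3 q12322 (flp_a L201034) q12749, e3 q12323 (flp_a L201044) q12750, e3 q12324 (flp_a L199110) q12559, e3 q12325 (flp_a L199585) q12601, e3 q12326 (flp_a L199601) q12602, e3 q12327 (flp_a L198757) q12531, e3 q12328 (flp_a L199344) q12578, e3 q12329 (flp_a L201168) q12762, e3 q12330 (flp_a L201178) q12763, e3 q12331 (flp_a L198773) q12532, e3 q12332 L196977 q11738, e3 q12333 L196993 q11739, e3 q12334 L197005 q11741, e3 q12335 L197019 q11742, e3 q12336 L197029 q11743, e3 q12337 (flp_a L198539) q12514, e3 q12338 L197045 q11744, e3 q12339 L197057 q11745, e3 q12340 (flp_a L200032) q12643, e3 q12341 L197075 q11748, e3 q12342 L197085 q11749, e3 q12343 L197095 q11751, e3 q12344 L197103 q11752,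 e3 q12345 (flp_a L200114) q12651, e3 q12346 L197115 q11754, e3 q12347 (flp_a L202230) q12873, e3 q12348 (flp_a L202246) q12874, e3 q12349 (flp_a L199575) q12600, e3 q12350 (flp_a L202260) q12875, e3 q12351 (flp_a L202274) q12876, trivial⟩ (by decide +kernel)

theorem ce_a_193 : ∀ r, r < 64 → sm ga (Qf (12352 + r)) = Qf (tab Gen.a (12352 + r)) :=
  edges_tab (sm ga) Qf (tab Gen.a) 12352 [(12352, 12877), (12353, 12281), (12354, 12879), (12355, 12880), (12356, 12644), (12357, 12645), (12358, 12285), (12359, 12882), (12360, 12605), (12361, 12883), (12362, 12653), (12363, 12252), (12364, 12785), (12365, 12786), (12366, 12787), (12367, 12788), (12368, 12790), (12369, 12646), (12370, 12791), (12371, 12390), (12372, 11778), (12373, 12896), (12374, 12441), (12375, 12442), (12376, 12715), (12377, 12716), (12378, 12717), (12379, 12904), (12380, 11849), (12381, 11850), (12382, 12909), (12383, 11854), (12384, 11855), (12385, 11788), (12386, 12914), (12387, 11858), (12388, 11859), (12389, 11792), (12390,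 12371), (12391, 11861), (12392, 12640), (12393, 12636), (12394, 12744), (12395, 12711), (12396, 11868), (12397, 11869), (12398, 12683), (12399, 11870), (12400, 11871), (12401, 11872), (12402, 12682), (12403, 11875), (12404, 12844), (12405, 12580), (12406, 12581), (12407, 12847), (12408, 12755), (12409, 12756), (12410, 12757), (12411, 12851), (12412, 12598), (12413, 12594), (12414, 12758), (12415, 11834)]
    ⟨e3 q12352 (flp_a L202286) q12877, e3 q12353 L197183 q12281, e3 q12354 (flp_a L202304) q12879, e3 q12355 (flp_a L202314) q12880, e3 q12356 (flp_a L200044) q12644, e3 q12357 (flp_a L200052) q12645, e3 q12358 L197231 q12285, e3 q12359 (flp_a L202332) q12882, e3 q12360 (flp_a L199635) q12605, e3 q12361 (flp_a L202344) q12883, e3 q12362 (flp_a L200142) q12653, e3 q12363 L197271 q12252, e3 q12364 (flp_a L201385) q12785, e3 q12365 (flp_a L201391) q12786, e3 q12366 (flp_a L201401) q12787, e3 q12367 (flp_a L201413) q12788, e3 q12368 (flp_a L201439) q12790, e3 q12369 (flp_a L200062) q12646,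 e3 q12370 (flp_a L201453) q12791, e3 q12371 (flp_a L197502) q12390, e3 q12372 (flp_a L197345) q11778, e3 q12373 L202480 q12896, e3 q12374 (flp_a L197900) q12441, e3 q12375 (flp_a L197910) q12442, e3 q12376 (flp_a L200714) q12715, e3 q12377 (flp_a L200723) q12716, e3 q12378 (flp_a L200733) q12717, e3 q12379 L202537 q12904, e3 q12380 L197406 q11849, e3 q12381 L197414 q11850, e3 q12382 L202579 q12909, e3 q12383 L197436 q11854, e3 q12384 L197446 q11855, e3 q12385 (flp_a L197458) q11788, e3 q12386 (flp_a L202641) q12914, e3 q12387 L197474 q11858, e3 q12388 L197482 q11859, e3 q12389 (flp_a L197488) q11792, e3 q12390 L197502 q12371, e3 q12391 L197516 q11861, e3 q12392 (flp_a L199992) q12640, e3 q12393 (flp_a L199945) q12636, e3 q12394 (flp_a L200976) q12744, e3 q12395 (flp_a L200657) q12711, e3 q12396 L197547 q11868, e3 q12397 L197557 q11869, e3 q12398 (flp_a L200422) q12683, e3 q12399 L197571 q11870, e3 q12400 L197576 q11871, e3 q12401 L197584 q11872, e3 q12402 (flp_a L200408) q12682, e3 q12403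 L197596 q11875, e3 q12404 (flp_a L201963) q12844, e3 q12405 (flp_a L199372) q12580, e3 q12406 (flp_a L199386) q12581, e3 q12407 (flp_a L201993) q12847, e3 q12408 (flp_a L201091) q12755, e3 q12409 (flp_a L201100) q12756, e3 q12410 (flp_a L201110) q12757, e3 q12411 (flp_a L202028) q12851, e3 q12412 (flp_a L199549) q12598, e3 q12413 (flp_a L199512) q12594, e3 q12414 (flp_a L201120) q12758, e3 q12415 L197674 q11834, trivial⟩ (by decide +kernel)

theorem ce_a_194 : ∀ r, r < 64 → sm ga (Qf (12416 + r)) = Qf (tab Gen.a (12416 + r)) :=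
  edges_tab (sm ga) Qf (tab Gen.a) 12416 [(12416, 12759), (12417, 12760), (12418, 12761), (12419, 11877), (12420, 11881), (12421, 11882), (12422, 11885), (12423, 11886), (12424, 11823), (12425, 12951), (12426, 11889), (12427, 11890), (12428, 11891), (12429, 11827), (12430, 12956), (12431, 12944), (12432, 11895), (12433, 11896), (12434, 11902), (12435, 12943), (12436, 11837), (12437, 12960), (12438, 11840), (12439, 12505), (12440, 12511), (12441, 12374), (12442, 12375), (12443, 12964), (12444, 12724), (12445, 12725), (12446, 11848), (12447, 12969), (12448, 12906), (12449, 12907), (12450, 12908), (12451, 12824), (12452, 12825), (12453, 11853), (12454, 12976), (12455, 12911), (12456, 12912), (12457, 12913), (12458, 11857), (12459, 12980), (12460, 12916), (12461, 12051), (12462, 12052), (12463, 12506), (12464, 12507), (12465, 12637), (12466, 12638), (12467, 12639), (12468, 12922), (12469, 12923), (12470, 12924), (12471, 12927), (12472, 12928), (12473, 12641), (12474, 12107), (12475, 12947),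 (12476, 12603), (12477, 12604), (12478, 12318), (12479, 12110)]
    ⟨e3 q12416 (flp_a L201132) q12759, e3 q12417 (flp_a L201144) q12760, e3 q12418 (flp_a L201156) q12761, e3 q12419 L197700 q11877, e3 q12420 L197712 q11881, e3 q12421 L197722 q11882, e3 q12422 L197730 q11885, e3 q12423 L197742 q11886, e3 q12424 (flp_a L197748) q11823, e3 q12425 (flp_a L202920) q12951, e3 q12426 L197766 q11889, e3 q12427 L197778 q11890, e3 q12428 L197786 q11891, e3 q12429 L197794 q11827, e3 q12430 (flp_a L202964) q12956, e3 q12431 (flp_a L202852) q12944, e3 q12432 L197818 q11895, e3 q12433 L197830 q11896, e3 q12434 L197838 q11902, e3 q12435 (flp_a L202844) q12943, e3 q12436 L197850 q11837, e3 q12437 (flp_a L203006) q12960, e3 q12438 L197874 q11840, e3 q12439 (flp_a L198433) q12505, e3 q12440 (flp_a L198497) q12511, e3 q12441 L197900 q12374, e3 q12442 L197910 q12375, e3 q12443 L203049 q12964, e3 q12444 (flp_a L200808) q12724, e3 q12445 (flp_a L200820) q12725, e3 q12446 (flp_a L197945) q11848, e3 q12447 (flp_a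 L203093) q12969, e3 q12448 (flp_a L202554) q12906, e3 q12449 (flp_a L202561) q12907, e3 q12450 (flp_a L202571) q12908, e3 q12451 (flp_a L201800) q12824, e3 q12452 (flp_a L201812) q12825, e3 q12453 (flp_a L197997) q11853, e3 q12454 (flp_a L203150) q12976, e3 q12455 (flp_a L202605) q12911, e3 q12456 (flp_a L202615) q12912, e3 q12457 (flp_a L202627) q12913, e3 q12458 L198051 q11857, e3 q12459 (flp_a L203192) q12980, e3 q12460 (flp_a L202655) q12916, e3 q12461 L198069 q12051, e3 q12462 L198081 q12052, e3 q12463 (flp_a L198439) q12506, e3 q12464 (flp_a L198451) q12507, e3 q12465 (flp_a L199957) q12637, e3 q12466 (flp_a L199968) q12638, e3 q12467 (flp_a L199978) q12639, e3 q12468 (flp_a L202701) q12922, e3 q12469 (flp_a L202708) q12923, e3 q12470 (flp_a L202718) q12924, e3 q12471 (flp_a L202737) q12927, e3 q12472 (flp_a L202743) q12928, e3 q12473 (flp_a L200006) q12641, e3 q12474 L198163 q12107, e3 q12475 (flp_a L202876) q12947, e3 q12476 (flp_a L199613) q12603, e3 q12477 (flp_a L199625) q12604,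 e3 q12478 L198193 q12318, e3 q12479 L198205 q12110, trivial⟩ (by decide +kernel)

theorem ce_a_195 : ∀ r, r < 64 → sm ga (Qf (12480 + r)) = Qf (tab Gen.a (12480 + r)) :=
  edges_tab (sm ga) Qf (tab Gen.a) 12480 [(12480, 12948), (12481, 12949), (12482, 12561), (12483, 12113), (12484, 12950), (12485, 11888), (12486, 13002), (12487, 13003), (12488, 12954), (12489, 12811), (12490, 12955), (12491, 11893), (12492, 11894), (12493, 13009), (12494, 13010), (12495, 12959), (12496, 12606), (12497, 12560), (12498, 12712), (12499, 11959), (12500, 11904), (12501, 11907), (12502, 13013), (12503, 11914), (12504, 11915), (12505, 12439), (12506, 12463), (12507, 12464), (12508, 13014), (12509, 13015), (12510, 13016), (12511, 12440), (12512, 12001), (12513, 12002), (12514, 12337), (12515, 12004), (12516, 12005), (12517, 11920), (12518, 13032), (12519, 12008), (12520, 12009), (12521, 12010), (12522, 12011), (12523, 12249), (12524, 12250), (12525, 12014), (12526, 12015), (12527, 12017), (12528, 12018), (12529,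 11940), (12530, 11941), (12531, 12327), (12532, 12331), (12533, 12220), (12534, 12213), (12535, 13041), (12536, 12034), (12537, 12035), (12538, 12037), (12539, 12038), (12540, 12091), (12541, 12041), (12542, 12042), (12543, 12043)]
    ⟨e3 q12480 (flp_a L202888) q12948, e3 q12481 (flp_a L202900) q12949, e3 q12482 (flp_a L199140) q12561, e3 q12483 L198243 q12113, e3 q12484 (flp_a L202908) q12950, e3 q12485 L198265 q11888, e3 q12486 (flp_a L203386) q13002, e3 q12487 (flp_a L203396) q13003, e3 q12488 (flp_a L202944) q12954, e3 q12489 (flp_a L201670) q12811, e3 q12490 (flp_a L202956) q12955, e3 q12491 L198311 q11893, e3 q12492 L198317 q11894, e3 q12493 (flp_a L203450) q13009, e3 q12494 (flp_a L203456) q13010, e3 q12495 (flp_a L202992) q12959, e3 q12496 (flp_a L199649) q12606, e3 q12497 (flp_a L199126) q12560, e3 q12498 (flp_a L200672) q12712, e3 q12499 L198357 q11959, e3 q12500 L198373 q11904, e3 q12501 L198377 q11907, e3 q12502 (flp_a L203486) q13013, e3 q12503 L198396 q11914, e3 q12504 L198410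 q11915, e3 q12505 L198433 q12439, e3 q12506 L198439 q12463, e3 q12507 L198451 q12464, e3 q12508 (flp_a L203495) q13014, e3 q12509 (flp_a L203510) q13015, e3 q12510 (flp_a L203524) q13016, e3 q12511 L198497 q12440, e3 q12512 L198503 q12001, e3 q12513 L198515 q12002, e3 q12514 L198539 q12337, e3 q12515 L198545 q12004, e3 q12516 L198557 q12005, e3 q12517 (flp_a L198569) q11920, e3 q12518 (flp_a L203727) q13032, e3 q12519 L198597 q12008, e3 q12520 L198607 q12009, e3 q12521 L198617 q12010, e3 q12522 L198629 q12011, e3 q12523 L198645 q12249, e3 q12524 L198659 q12250, e3 q12525 L198673 q12014, e3 q12526 L198687 q12015, e3 q12527 L198701 q12017, e3 q12528 L198715 q12018, e3 q12529 L198729 q11940, e3 q12530 L198743 q11941, e3 q12531 L198757 q12327, e3 q12532 L198773 q12331, e3 q12533 L198789 q12220, e3 q12534 L198803 q12213, e3 q12535 (flp_a L203855) q13041, e3 q12536 L198825 q12034, e3 q12537 L198837 q12035, e3 q12538 L198847 q12037, e3 q12539 L198859 q12038, e3 q12540 L198871 q12091, e3 q12541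 L198883 q12041, e3 q12542 L198890 q12042, e3 q12543 L198898 q12043, trivial⟩ (by decide +kernel)

theorem ce_a_196 : ∀ r, r < 64 → sm ga (Qf (12544 + r)) = Qf (tab Gen.a (12544 + r)) :=
  edges_tab (sm ga) Qf (tab Gen.a) 12544 [(12544, 12046), (12545, 12047), (12546, 12103), (12547, 12050), (12548, 12139), (12549, 12053), (12550, 12054), (12551, 11960), (12552, 13012), (12553, 12076), (12554, 11968), (12555, 11970), (12556, 11973), (12557, 12320), (12558, 13058), (12559, 12324), (12560, 12497), (12561, 12482), (12562, 12108), (12563, 12111), (12564, 12114), (12565, 12118), (12566, 12119), (12567, 11980), (12568, 13064), (12569, 12124), (12570, 12125), (12571, 12127), (12572, 11987), (12573, 13066), (12574, 12803), (12575, 12254), (12576, 11996), (12577, 11997), (12578, 12328), (12579, 13067), (12580, 12405), (12581, 12406), (12582, 12853), (12583, 13025), (12584, 13026), (12585, 13027), (12586, 12822), (12587, 13029), (12588, 13030), (12589, 13031), (12590, 12007), (12591, 13080), (12592,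 13034), (12593, 13035), (12594, 12413), (12595, 13037), (12596, 13038), (12597, 13039), (12598, 12412), (12599, 13040), (12600, 12349), (12601, 12325), (12602, 12326), (12603, 12476), (12604, 12477), (12605, 12360), (12606, 12496), (12607, 12772)]
    ⟨e3 q12544 L198904 q12046, e3 q12545 L198918 q12047, e3 q12546 L198932 q12103, e3 q12547 L198946 q12050, e3 q12548 L198956 q12139, e3 q12549 L198972 q12053, e3 q12550 L198986 q12054, e3 q12551 L199000 q11960, e3 q12552 (flp_a L203468) q13012, e3 q12553 L199028 q12076, e3 q12554 L199042 q11968, e3 q12555 L199058 q11970, e3 q12556 L199074 q11973, e3 q12557 L199086 q12320, e3 q12558 (flp_a L204076) q13058, e3 q12559 L199110 q12324, e3 q12560 L199126 q12497, e3 q12561 L199140 q12482, e3 q12562 L199152 q12108, e3 q12563 L199164 q12111, e3 q12564 L199176 q12114, e3 q12565 L199184 q12118, e3 q12566 L199194 q12119, e3 q12567 L199204 q11980, e3 q12568 (flp_a L204162) q13064, e3 q12569 L199226 q12124, e3 q12570 L199234 q12125, e3 q12571 L199250 q12127,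 e3 q12572 L199262 q11987, e3 q12573 (flp_a L204186) q13066, e3 q12574 (flp_a L201579) q12803, e3 q12575 L199302 q12254, e3 q12576 L199318 q11996, e3 q12577 L199334 q11997, e3 q12578 L199344 q12328, e3 q12579 (flp_a L204202) q13067, e3 q12580 L199372 q12405, e3 q12581 L199386 q12406, e3 q12582 (flp_a L202052) q12853, e3 q12583 (flp_a L203634) q13025, e3 q12584 (flp_a L203647) q13026, e3 q12585 (flp_a L203659) q13027, e3 q12586 (flp_a L201774) q12822, e3 q12587 (flp_a L203689) q13029, e3 q12588 (flp_a L203701) q13030, e3 q12589 (flp_a L203713) q13031, e3 q12590 L199471 q12007, e3 q12591 (flp_a L204362) q13080, e3 q12592 (flp_a L203751) q13034, e3 q12593 (flp_a L203763) q13035, e3 q12594 L199512 q12413, e3 q12595 (flp_a L203794) q13037, e3 q12596 (flp_a L203809) q13038, e3 q12597 (flp_a L203823) q13039, e3 q12598 L199549 q12412, e3 q12599 (flp_a L203839) q13040, e3 q12600 L199575 q12349, e3 q12601 L199585 q12325, e3 q12602 L199601 q12326, e3 q12603 L199613 q12476, e3 q12604 L199625 q12477,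 e3 q12605 L199635 q12360, e3 q12606 L199649 q12496, e3 q12607 (flp_a L201279) q12772, trivial⟩ (by decide +kernel)

theorem ce_a_197 : ∀ r, r < 64 → sm ga (Qf (12608 + r)) = Qf (tab Gen.a (12608 + r)) :=
  edges_tab (sm ga) Qf (tab Gen.a) 12608 [(12608, 12773), (12609, 12214), (12610, 12093), (12611, 12770), (12612, 12771), (12613, 12096), (12614, 13045), (12615, 13046), (12616, 13047), (12617, 12036), (12618, 13103), (12619, 13048), (12620, 13049), (12621, 13050), (12622, 12040), (12623, 13109), (12624, 13110), (12625, 13053), (12626, 13054), (12627, 12221), (12628, 12105), (12629, 13055), (12630, 12049), (12631, 13116), (12632, 12982), (12633, 12983), (12634, 12984), (12635, 13057), (12636, 12393), (12637, 12465), (12638, 12466), (12639, 12467), (12640, 12392), (12641, 12473), (12642, 12178), (12643, 12340), (12644, 12356), (12645, 12357), (12646, 12369), (12647, 12067), (12648, 13128), (12649, 12792), (12650, 12179), (12651, 12345), (12652, 12075), (12653, 12362), (12654, 13131), (12655,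 12092), (12656, 12094), (12657, 12095), (12658, 12097), (12659, 12098), (12660, 12099), (12661, 12104), (12662, 12106), (12663, 12667), (12664, 12668), (12665, 12308), (12666, 12309), (12667, 12663), (12668, 12664), (12669, 13051), (12670, 13052), (12671, 13132)]
    ⟨e3 q12608 (flp_a L201293) q12773, e3 q12609 L199677 q12214, e3 q12610 L199698 q12093, e3 q12611 (flp_a L201253) q12770, e3 q12612 (flp_a L201265) q12771, e3 q12613 L199724 q12096, e3 q12614 (flp_a L203917) q13045, e3 q12615 (flp_a L203928) q13046, e3 q12616 (flp_a L203940) q13047, e3 q12617 (flp_a L199751) q12036, e3 q12618 (flp_a L204614) q13103, e3 q12619 (flp_a L203952) q13048, e3 q12620 (flp_a L203965) q13049, e3 q12621 (flp_a L203975) q13050, e3 q12622 L199797 q12040, e3 q12623 (flp_a L204672) q13109, e3 q12624 (flp_a L204685) q13110, e3 q12625 (flp_a L204012) q13053, e3 q12626 (flp_a L204020) q13054, e3 q12627 L199836 q12221, e3 q12628 L199850 q12105, e3 q12629 (flp_a L204028) q13055, e3 q12630 L199872 q12049, e3 q12631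 (flp_a L204740) q13116, e3 q12632 (flp_a L203204) q12982, e3 q12633 (flp_a L203217) q12983, e3 q12634 (flp_a L203229) q12984, e3 q12635 (flp_a L204060) q13057, e3 q12636 L199945 q12393, e3 q12637 L199957 q12465, e3 q12638 L199968 q12466, e3 q12639 L199978 q12467, e3 q12640 L199992 q12392, e3 q12641 L200006 q12473, e3 q12642 L200020 q12178, e3 q12643 L200032 q12340, e3 q12644 L200044 q12356, e3 q12645 L200052 q12357, e3 q12646 L200062 q12369, e3 q12647 L200072 q12067, e3 q12648 (flp_a L204885) q13128, e3 q12649 (flp_a L201467) q12792, e3 q12650 L200098 q12179, e3 q12651 L200114 q12345, e3 q12652 L200128 q12075, e3 q12653 L200142 q12362, e3 q12654 (flp_a L204921) q13131, e3 q12655 L200162 q12092, e3 q12656 L200172 q12094, e3 q12657 L200184 q12095, e3 q12658 L200196 q12097, e3 q12659 L200203 q12098, e3 q12660 L200211 q12099, e3 q12661 L200219 q12104, e3 q12662 L200233 q12106, e3 q12663 (flp_a L200289) q12667, e3 q12664 (flp_a L200297) q12668, e3 q12665 L200267 q12308, e3 q12666 L200279 q12309,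 e3 q12667 L200289 q12663, e3 q12668 L200297 q12664, e3 q12669 (flp_a L203989) q13051, e3 q12670 (flp_a L204000) q13052, e3 q12671 (flp_a L204937) q13132, trivial⟩ (by decide +kernel)

theorem ce_a_198 : ∀ r, r < 64 → sm ga (Qf (12672 + r)) = Qf (tab Gen.a (12672 + r)) :=
  edges_tab (sm ga) Qf (tab Gen.a) 12672 [(12672, 13095), (12673, 13133), (12674, 13134), (12675, 13135), (12676, 13099), (12677, 13100), (12678, 13136), (12679, 13137), (12680, 12315), (12681, 12316), (12682, 12402), (12683, 12398), (12684, 13056), (12685, 13115), (12686, 12995), (12687, 13061), (12688, 12225), (12689, 12998), (12690, 13062), (12691, 12224), (12692, 13001), (12693, 12116), (12694, 13166), (12695, 13167), (12696, 12272), (12697, 12267), (12698, 13063), (12699, 12121), (12700, 12122), (12701, 13174), (12702, 13175), (12703, 13176), (12704, 12806), (12705, 12223), (12706, 12129), (12707, 12132), (12708, 13179), (12709, 13180), (12710, 12135), (12711, 12395), (12712, 12498), (12713, 12142), (12714, 12239),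 (12715, 12376), (12716, 12377), (12717, 12378), (12718, 12259), (12719, 12156), (12720, 12157), (12721, 12158), (12722, 12159), (12723, 12160), (12724, 12444), (12725, 12445), (12726, 12155), (12727, 13191), (12728, 13183), (12729, 13184), (12730, 13185), (12731, 13186), (12732, 13187), (12733, 12282), (12734, 12286), (12735, 12163)]
    ⟨e3 q12672 (flp_a L204532) q13095, e3 q12673 (flp_a L204949) q13133, e3 q12674 (flp_a L204960) q13134, e3 q12675 (flp_a L204970) q13135, e3 q12676 (flp_a L204579) q13099, e3 q12677 (flp_a L204590) q13100, e3 q12678 (flp_a L204984) q13136, e3 q12679 (flp_a L204990) q13137, e3 q12680 L200380 q12315, e3 q12681 L200394 q12316, e3 q12682 L200408 q12402, e3 q12683 L200422 q12398, e3 q12684 (flp_a L204044) q13056, e3 q12685 (flp_a L204724) q13115, e3 q12686 (flp_a L203304) q12995, e3 q12687 (flp_a L204124) q13061, e3 q12688 L200462 q12225, e3 q12689 (flp_a L203338) q12998, e3 q12690 (flp_a L204138) q13062, e3 q12691 L200486 q12224, e3 q12692 (flp_a L203370) q13001,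 e3 q12693 L200504 q12116, e3 q12694 (flp_a L205275) q13166, e3 q12695 (flp_a L205287) q13167, e3 q12696 L200526 q12272, e3 q12697 L200536 q12267, e3 q12698 (flp_a L204150) q13063, e3 q12699 L200554 q12121, e3 q12700 L200562 q12122, e3 q12701 (flp_a L205351) q13174, e3 q12702 (flp_a L205359) q13175, e3 q12703 (flp_a L205367) q13176, e3 q12704 (flp_a L201617) q12806, e3 q12705 L200598 q12223, e3 q12706 L200610 q12129, e3 q12707 L200618 q12132, e3 q12708 (flp_a L205393) q13179, e3 q12709 (flp_a L205408) q13180, e3 q12710 L200648 q12135, e3 q12711 L200657 q12395, e3 q12712 L200672 q12498, e3 q12713 L200688 q12142, e3 q12714 L200702 q12239, e3 q12715 L200714 q12376, e3 q12716 L200723 q12377, e3 q12717 L200733 q12378, e3 q12718 L200743 q12259, e3 q12719 L200755 q12156, e3 q12720 L200765 q12157, e3 q12721 L200777 q12158, e3 q12722 L200786 q12159, e3 q12723 L200796 q12160, e3 q12724 L200808 q12444, e3 q12725 L200820 q12445, e3 q12726 (flp_a L200830) q12155, e3 q12727 (flp_a L205533) q13191, e3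 q12728 (flp_a L205441) q13183, e3 q12729 (flp_a L205452) q13184, e3 q12730 (flp_a L205462) q13185, e3 q12731 (flp_a L205476) q13186, e3 q12732 (flp_a L205484) q13187, e3 q12733 L200876 q12282, e3 q12734 L200890 q12286, e3 q12735 (flp_a L200898) q12163, trivial⟩ (by decide +kernel)

theorem ce_a_199 : ∀ r, r < 64 → sm ga (Qf (12736 + r)) = Qf (tab Gen.a (12736 + r)) :=
  edges_tab (sm ga) Qf (tab Gen.a) 12736 [(12736, 13199), (12737, 12291), (12738, 12292), (12739, 12293), (12740, 12167), (12741, 13204), (12742, 12296), (12743, 12277), (12744, 12394), (12745, 12180), (12746, 13124), (12747, 12319), (12748, 12321), (12749, 12322), (12750, 12323), (12751, 12246), (12752, 12247), (12753, 12248), (12754, 12251), (12755, 12408), (12756, 12409), (12757, 12410), (12758, 12414), (12759, 12416), (12760, 12417), (12761, 12418), (12762, 12329), (12763, 12330), (12764, 12215), (12765, 12216), (12766, 12217), (12767, 12218), (12768, 12219), (12769, 12222), (12770, 12611), (12771, 12612), (12772, 12607),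 (12773, 12608), (12774, 13022), (12775, 13044), (12776, 13094), (12777, 13214), (12778, 13215), (12779, 13216), (12780, 13217), (12781, 13218), (12782, 13043), (12783, 13165), (12784, 13163), (12785, 12364), (12786, 12365), (12787, 12366), (12788, 12367), (12789, 12269), (12790, 12368), (12791, 12370), (12792, 12649), (12793, 12796), (12794, 12797), (12795, 12798), (12796, 12793), (12797, 12794), (12798, 12795), (12799, 13208)]
    ⟨e3 q12736 (flp_a L205595) q13199, e3 q12737 L200916 q12291, e3 q12738 L200922 q12292, e3 q12739 L200930 q12293, e3 q12740 L200936 q12167, e3 q12741 (flp_a L205641) q13204, e3 q12742 L200954 q12296, e3 q12743 L200964 q12277, e3 q12744 L200976 q12394, e3 q12745 L200988 q12180, e3 q12746 (flp_a L204841) q13124, e3 q12747 L201008 q12319, e3 q12748 L201018 q12321, e3 q12749 L201034 q12322, e3 q12750 L201044 q12323, e3 q12751 L201056 q12246, e3 q12752 L201065 q12247, e3 q12753 L201073 q12248, e3 q12754 L201081 q12251, e3 q12755 L201091 q12408, e3 q12756 L201100 q12409,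 e3 q12757 L201110 q12410, e3 q12758 L201120 q12414, e3 q12759 L201132 q12416, e3 q12760 L201144 q12417, e3 q12761 L201156 q12418, e3 q12762 L201168 q12329, e3 q12763 L201178 q12330, e3 q12764 L201190 q12215, e3 q12765 L201202 q12216, e3 q12766 L201214 q12217, e3 q12767 L201223 q12218, e3 q12768 L201231 q12219, e3 q12769 L201243 q12222, e3 q12770 L201253 q12611, e3 q12771 L201265 q12612, e3 q12772 L201279 q12607, e3 q12773 L201293 q12608, e3 q12774 (flp_a L203599) q13022, e3 q12775 (flp_a L203905) q13044, e3 q12776 (flp_a L204518) q13094, e3 q12777 (flp_a L205753) q13214, e3 q12778 (flp_a L205764) q13215, e3 q12779 (flp_a L205776) q13216, e3 q12780 (flp_a L205790) q13217, e3 q12781 (flp_a L205798) q13218, e3 q12782 (flp_a L203889) q13043, e3 q12783 (flp_a L205263) q13165, e3 q12784 (flp_a L205245) q13163, e3 q12785 L201385 q12364, e3 q12786 L201391 q12365, e3 q12787 L201401 q12366, e3 q12788 L201413 q12367, e3 q12789 L201427 q12269, e3 q12790 L201439 q12368, e3 q12791 L201453 q12370, e3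 q12792 L201467 q12649, e3 q12793 (flp_a L201506) q12796, e3 q12794 (flp_a L201521) q12797, e3 q12795 (flp_a L201535) q12798, e3 q12796 L201506 q12793, e3 q12797 L201521 q12794, e3 q12798 L201535 q12795, e3 q12799 (flp_a L205689) q13208, trivial⟩ (by decide +kernel)

theorem ce_a_200 : ∀ r, r < 64 → sm ga (Qf (12800 + r)) = Qf (tab Gen.a (12800 + r)) :=
  edges_tab (sm ga) Qf (tab Gen.a) 12800 [(12800, 13209), (12801, 13036), (12802, 12895), (12803, 12574), (12804, 12257), (12805, 13240), (12806, 12704), (12807, 12268), (12808, 12273), (12809, 12812), (12810, 13244), (12811, 12489), (12812, 12809), (12813, 12266), (12814, 13249), (12815, 13107), (12816, 13173), (12817, 13242), (12818, 13233), (12819, 12271), (12820, 13254), (12821, 13172), (12822, 12586), (12823, 12917), (12824, 12451), (12825, 12452), (12826, 13200), (12827, 12290), (12828, 12837), (12829, 12838), (12830, 12280), (12831, 13263), (12832, 12890), (12833, 13198), (12834, 12284), (12835, 13266), (12836, 12894), (12837, 12828),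 (12838, 12829), (12839, 13261), (12840, 13202), (12841, 13203), (12842, 12295), (12843, 13271), (12844, 12404), (12845, 12310), (12846, 12311), (12847, 12407), (12848, 12312), (12849, 12313), (12850, 12314), (12851, 12411), (12852, 12317), (12853, 12582), (12854, 12855), (12855, 12854), (12856, 13141), (12857, 13142), (12858, 13143), (12859, 13273), (12860, 13274), (12861, 13275), (12862, 13278), (12863, 13279)]
    ⟨e3 q12800 (flp_a L205699) q13209, e3 q12801 (flp_a L203778) q13036, e3 q12802 (flp_a L202468) q12895, e3 q12803 L201579 q12574, e3 q12804 L201595 q12257, e3 q12805 (flp_a L206021) q13240, e3 q12806 L201617 q12704, e3 q12807 L201629 q12268, e3 q12808 L201637 q12273, e3 q12809 (flp_a L201682) q12812, e3 q12810 L206065 q13244, e3 q12811 L201670 q12489, e3 q12812 L201682 q12809, e3 q12813 (flp_a L201694) q12266, e3 q12814 (flp_a L206135) q13249, e3 q12815 (flp_a L204651) q13107, e3 q12816 (flp_a L205341) q13173, e3 q12817 (flp_a L206045) q13242, e3 q12818 (flp_a L205950) q13233,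 e3 q12819 L201748 q12271, e3 q12820 (flp_a L206178) q13254, e3 q12821 (flp_a L205329) q13172, e3 q12822 L201774 q12586, e3 q12823 (flp_a L202663) q12917, e3 q12824 L201800 q12451, e3 q12825 L201812 q12452, e3 q12826 (flp_a L205605) q13200, e3 q12827 L201834 q12290, e3 q12828 (flp_a L201906) q12837, e3 q12829 (flp_a L201916) q12838, e3 q12830 (flp_a L201856) q12280, e3 q12831 (flp_a L206276) q13263, e3 q12832 (flp_a L202416) q12890, e3 q12833 (flp_a L205579) q13198, e3 q12834 L201884 q12284, e3 q12835 (flp_a L206298) q13266, e3 q12836 (flp_a L202456) q12894, e3 q12837 L201906 q12828, e3 q12838 L201916 q12829, e3 q12839 (flp_a L206258) q13261, e3 q12840 (flp_a L205625) q13202, e3 q12841 (flp_a L205633) q13203, e3 q12842 L201946 q12295, e3 q12843 (flp_a L206342) q13271, e3 q12844 L201963 q12404, e3 q12845 L201969 q12310, e3 q12846 L201981 q12311, e3 q12847 L201993 q12407, e3 q12848 L202005 q12312, e3 q12849 L202012 q12313, e3 q12850 L202020 q12314, e3 q12851 L202028 q12411, e3 q12852 L202042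 q12317, e3 q12853 L202052 q12582, e3 q12854 (flp_a L202074) q12855, e3 q12855 L202074 q12854, e3 q12856 (flp_a L205035) q13141, e3 q12857 (flp_a L205048) q13142, e3 q12858 (flp_a L205060) q13143, e3 q12859 (flp_a L206360) q13273, e3 q12860 (flp_a L206373) q13274, e3 q12861 (flp_a L206383) q13275, e3 q12862 (flp_a L206420) q13278, e3 q12863 (flp_a L206426) q13279, trivial⟩ (by decide +kernel)

theorem ce_a_201 : ∀ r, r < 64 → sm ga (Qf (12864 + r)) = Qf (tab Gen.a (12864 + r)) :=
  edges_tab (sm ga) Qf (tab Gen.a) 12864 [(12864, 13159), (12865, 12997), (12866, 13206), (12867, 13059), (12868, 13207), (12869, 13088), (12870, 13089), (12871, 13042), (12872, 13068), (12873, 12347), (12874, 12348), (12875, 12350), (12876, 12351), (12877, 12352), (12878, 13028), (12879, 12354), (12880, 12355), (12881, 13125), (12882, 12359), (12883, 12361), (12884, 13130), (12885, 13293), (12886, 13294), (12887, 13087), (12888, 13295), (12889, 13296), (12890, 12832), (12891, 13298), (12892, 13126), (12893, 13127),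 (12894, 12836), (12895, 12802), (12896, 12373), (12897, 13303), (12898, 12961), (12899, 12962), (12900, 12963), (12901, 13181), (12902, 13119), (12903, 13182), (12904, 12379), (12905, 13313), (12906, 12448), (12907, 12449), (12908, 12450), (12909, 12382), (12910, 13318), (12911, 12455), (12912, 12456), (12913, 12457), (12914, 12386), (12915, 13323), (12916, 12460), (12917, 12823), (12918, 13123), (12919, 13120), (12920, 13017), (12921, 13162), (12922, 12468), (12923, 12469), (12924, 12470), (12925, 13148), (12926, 13161), (12927, 12471)]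
    ⟨e3 q12864 (flp_a L205187) q13159, e3 q12865 (flp_a L203324) q12997, e3 q12866 (flp_a L205659) q13206, e3 q12867 (flp_a L204094) q13059, e3 q12868 (flp_a L205671) q13207, e3 q12869 (flp_a L204453) q13088, e3 q12870 (flp_a L204467) q13089, e3 q12871 (flp_a L203871) q13042, e3 q12872 (flp_a L204220) q13068, e3 q12873 L202230 q12347, e3 q12874 L202246 q12348, e3 q12875 L202260 q12350, e3 q12876 L202274 q12351, e3 q12877 L202286 q12352, e3 q12878 (flp_a L203675) q13028, e3 q12879 L202304 q12354, e3 q12880 L202314 q12355, e3 q12881 (flp_a L204855) q13125, e3 q12882 L202332 q12359, e3 q12883 L202344 q12361, e3 q12884 (flp_a L204905) q13130, e3 q12885 (flp_a L206556) q13293, e3 q12886 (flp_a L206572) q13294, e3 q12887 (flp_a L204441) q13087, e3 q12888 (flp_a L206586) q13295, e3 q12889 (flp_a L206602) q13296, e3 q12890 L202416 q12832, e3 q12891 (flp_a L206622) q13298, e3 q12892 (flp_a L204867) q13126, e3 q12893 (flp_a L204873) q13127, e3 q12894 L202456 q12836, e3 q12895 L202468 q12802, e3 q12896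 (flp_a L202480) q12373, e3 q12897 (flp_a L206682) q13303, e3 q12898 (flp_a L203018) q12961, e3 q12899 (flp_a L203027) q12962, e3 q12900 (flp_a L203037) q12963, e3 q12901 (flp_a L205421) q13181, e3 q12902 (flp_a L204780) q13119, e3 q12903 (flp_a L205429) q13182, e3 q12904 (flp_a L202537) q12379, e3 q12905 (flp_a L206756) q13313, e3 q12906 L202554 q12448, e3 q12907 L202561 q12449, e3 q12908 L202571 q12450, e3 q12909 (flp_a L202579) q12382, e3 q12910 (flp_a L206795) q13318, e3 q12911 L202605 q12455, e3 q12912 L202615 q12456, e3 q12913 L202627 q12457, e3 q12914 L202641 q12386, e3 q12915 (flp_a L206855) q13323, e3 q12916 L202655 q12460, e3 q12917 L202663 q12823, e3 q12918 (flp_a L204825) q13123, e3 q12919 (flp_a L204791) q13120, e3 q12920 (flp_a L203540) q13017, e3 q12921 (flp_a L205231) q13162, e3 q12922 L202701 q12468, e3 q12923 L202708 q12469, e3 q12924 L202718 q12470, e3 q12925 (flp_a L205107) q13148, e3 q12926 (flp_a L205219) q13161, e3 q12927 L202737 q12471, trivial⟩ (by decide +kernel)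

theorem ce_a_202 : ∀ r, r < 64 → sm ga (Qf (12928 + r)) = Qf (tab Gen.a (12928 + r)) :=
  edges_tab (sm ga) Qf (tab Gen.a) 12928 [(12928, 12472), (12929, 13160), (12930, 13272), (12931, 13069), (12932, 13070), (12933, 13071), (12934, 13276), (12935, 13277), (12936, 13210), (12937, 13082), (12938, 13211), (12939, 13280), (12940, 13086), (12941, 13083), (12942, 13024), (12943, 12435), (12944, 12431), (12945, 13212), (12946, 13213), (12947, 12475), (12948, 12480), (12949, 12481), (12950, 12484), (12951, 12425), (12952, 13354), (12953, 13351), (12954, 12488), (12955, 12490), (12956, 12430), (12957, 13350), (12958, 13349), (12959, 12495), (12960, 12437), (12961, 12898), (12962, 12899), (12963, 12900), (12964, 12443), (12965, 13361), (12966, 13188), (12967, 13189), (12968, 13190), (12969, 12447), (12970, 13366), (12971, 13367), (12972, 13316), (12973, 13317), (12974, 13258), (12975, 13259), (12976, 12454), (12977, 13373), (12978, 13321), (12979, 13322), (12980, 12459), (12981, 13376), (12982,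 12632), (12983, 12633), (12984, 12634), (12985, 13018), (12986, 13019), (12987, 13020), (12988, 13121), (12989, 13122), (12990, 13329), (12991, 13246)]
    ⟨e3 q12928 L202743 q12472, e3 q12929 (flp_a L205203) q13160, e3 q12930 (flp_a L206346) q13272, e3 q12931 (flp_a L204238) q13069, e3 q12932 (flp_a L204249) q13070, e3 q12933 (flp_a L204263) q13071, e3 q12934 (flp_a L206397) q13276, e3 q12935 (flp_a L206408) q13277, e3 q12936 (flp_a L205707) q13210, e3 q12937 (flp_a L204386) q13082, e3 q12938 (flp_a L205715) q13211, e3 q12939 (flp_a L206436) q13280, e3 q12940 (flp_a L204425) q13086, e3 q12941 (flp_a L204397) q13083, e3 q12942 (flp_a L203620) q13024, e3 q12943 L202844 q12435, e3 q12944 L202852 q12431, e3 q12945 (flp_a L205727) q13212, e3 q12946 (flp_a L205741) q13213, e3 q12947 L202876 q12475, e3 q12948 L202888 q12480, e3 q12949 L202900 q12481, e3 q12950 L202908 q12484, e3 q12951 L202920 q12425, e3 q12952 (flp_a L207088) q13354, e3 q12953 (flp_a L207058) q13351, e3 q12954 L202944 q12488,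 e3 q12955 L202956 q12490, e3 q12956 L202964 q12430, e3 q12957 (flp_a L207046) q13350, e3 q12958 (flp_a L207036) q13349, e3 q12959 L202992 q12495, e3 q12960 L203006 q12437, e3 q12961 L203018 q12898, e3 q12962 L203027 q12899, e3 q12963 L203037 q12900, e3 q12964 (flp_a L203049) q12443, e3 q12965 (flp_a L207162) q13361, e3 q12966 (flp_a L205496) q13188, e3 q12967 (flp_a L205509) q13189, e3 q12968 (flp_a L205521) q13190, e3 q12969 L203093 q12447, e3 q12970 (flp_a L207207) q13366, e3 q12971 (flp_a L207218) q13367, e3 q12972 (flp_a L206777) q13316, e3 q12973 (flp_a L206785) q13317, e3 q12974 (flp_a L206222) q13258, e3 q12975 (flp_a L206234) q13259, e3 q12976 L203150 q12454, e3 q12977 (flp_a L207265) q13373, e3 q12978 (flp_a L206833) q13321, e3 q12979 (flp_a L206843) q13322, e3 q12980 L203192 q12459, e3 q12981 (flp_a L207301) q13376, e3 q12982 L203204 q12632, e3 q12983 L203217 q12633, e3 q12984 L203229 q12634, e3 q12985 (flp_a L203554) q13018, e3 q12986 (flp_a L203565) q13019, e3 q12987 (flp_a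 L203577) q13020, e3 q12988 (flp_a L204803) q13121, e3 q12989 (flp_a L204813) q13122, e3 q12990 (flp_a L206896) q13329, e3 q12991 (flp_a L206094) q13246, trivial⟩ (by decide +kernel)

theorem ce_a_203 : ∀ r, r < 64 → sm ga (Qf (12992 + r)) = Qf (tab Gen.a (12992 + r)) :=
  edges_tab (sm ga) Qf (tab Gen.a) 12992 [(12992, 13330), (12993, 13334), (12994, 13335), (12995, 12686), (12996, 13090), (12997, 12865), (12998, 12689), (12999, 13353), (13000, 13060), (13001, 12692), (13002, 12486), (13003, 12487), (13004, 13389), (13005, 13390), (13006, 13391), (13007, 13357), (13008, 13247), (13009, 12493), (13010, 12494), (13011, 13395), (13012, 12552), (13013, 12502), (13014, 12508), (13015, 12509), (13016, 12510), (13017, 12920), (13018, 12985), (13019, 12986), (13020, 12987), (13021, 13396), (13022, 12774), (13023, 13397), (13024, 12942), (13025, 12583), (13026, 12584), (13027, 12585), (13028, 12878), (13029, 12587), (13030, 12588), (13031, 12589), (13032, 12518), (13033, 13413), (13034, 12592),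 (13035, 12593), (13036, 12801), (13037, 12595), (13038, 12596), (13039, 12597), (13040, 12599), (13041, 12535), (13042, 12871), (13043, 12782), (13044, 12775), (13045, 12614), (13046, 12615), (13047, 12616), (13048, 12619), (13049, 12620), (13050, 12621), (13051, 12669), (13052, 12670), (13053, 12625), (13054, 12626), (13055, 12629)]
    ⟨e3 q12992 (flp_a L206904) q13330, e3 q12993 (flp_a L206935) q13334, e3 q12994 (flp_a L206940) q13335, e3 q12995 L203304 q12686, e3 q12996 (flp_a L204481) q13090, e3 q12997 L203324 q12865, e3 q12998 L203338 q12689, e3 q12999 (flp_a L207076) q13353, e3 q13000 (flp_a L204110) q13060, e3 q13001 L203370 q12692, e3 q13002 L203386 q12486, e3 q13003 L203396 q12487, e3 q13004 (flp_a L207409) q13389, e3 q13005 (flp_a L207421) q13390, e3 q13006 (flp_a L207429) q13391, e3 q13007 (flp_a L207116) q13357, e3 q13008 (flp_a L206107) q13247, e3 q13009 L203450 q12493, e3 q13010 L203456 q12494, e3 q13011 (flp_a L207469) q13395, e3 q13012 L203468 q12552, e3 q13013 L203486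 q12502, e3 q13014 L203495 q12508, e3 q13015 L203510 q12509, e3 q13016 L203524 q12510, e3 q13017 L203540 q12920, e3 q13018 L203554 q12985, e3 q13019 L203565 q12986, e3 q13020 L203577 q12987, e3 q13021 (flp_a L207475) q13396, e3 q13022 L203599 q12774, e3 q13023 (flp_a L207489) q13397, e3 q13024 L203620 q12942, e3 q13025 L203634 q12583, e3 q13026 L203647 q12584, e3 q13027 L203659 q12585, e3 q13028 L203675 q12878, e3 q13029 L203689 q12587, e3 q13030 L203701 q12588, e3 q13031 L203713 q12589, e3 q13032 L203727 q12518, e3 q13033 (flp_a L207688) q13413, e3 q13034 L203751 q12592, e3 q13035 L203763 q12593, e3 q13036 L203778 q12801, e3 q13037 L203794 q12595, e3 q13038 L203809 q12596, e3 q13039 L203823 q12597, e3 q13040 L203839 q12599, e3 q13041 L203855 q12535, e3 q13042 L203871 q12871, e3 q13043 L203889 q12782, e3 q13044 L203905 q12775, e3 q13045 L203917 q12614, e3 q13046 L203928 q12615, e3 q13047 L203940 q12616, e3 q13048 L203952 q12619, e3 q13049 L203965 q12620, e3 q13050 L203975 q12621, e3 q13051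 L203989 q12669, e3 q13052 L204000 q12670, e3 q13053 L204012 q12625, e3 q13054 L204020 q12626, e3 q13055 L204028 q12629, trivial⟩ (by decide +kernel)

theorem ce_a_204 : ∀ r, r < 64 → sm ga (Qf (13056 + r)) = Qf (tab Gen.a (13056 + r)) :=
  edges_tab (sm ga) Qf (tab Gen.a) 13056 [(13056, 12684), (13057, 12635), (13058, 12558), (13059, 12867), (13060, 13000), (13061, 12687), (13062, 12690), (13063, 12698), (13064, 12568), (13065, 13426), (13066, 12573), (13067, 12579), (13068, 12872), (13069, 12931), (13070, 12932), (13071, 12933), (13072, 13281), (13073, 13282), (13074, 13407), (13075, 13408), (13076, 13256), (13077, 13410), (13078, 13411), (13079, 13412), (13080, 12591), (13081, 13436), (13082, 12937), (13083, 12941), (13084, 13415), (13085, 13416), (13086, 12940), (13087, 12887), (13088, 12869), (13089, 12870), (13090, 12996), (13091, 13222), (13092, 13223), (13093, 13224), (13094, 12776), (13095, 12672), (13096, 13219), (13097, 13220), (13098, 13221), (13099, 12676), (13100, 12677), (13101,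 13418), (13102, 13419), (13103, 12618), (13104, 13453), (13105, 13454), (13106, 13420), (13107, 12815), (13108, 13421), (13109, 12623), (13110, 12624), (13111, 13461), (13112, 13462), (13113, 13424), (13114, 13425), (13115, 12685), (13116, 12631), (13117, 13377), (13118, 13378), (13119, 12902)]
    ⟨e3 q13056 L204044 q12684, e3 q13057 L204060 q12635, e3 q13058 L204076 q12558, e3 q13059 L204094 q12867, e3 q13060 L204110 q13000, e3 q13061 L204124 q12687, e3 q13062 L204138 q12690, e3 q13063 L204150 q12698, e3 q13064 L204162 q12568, e3 q13065 (flp_a L207845) q13426, e3 q13066 L204186 q12573, e3 q13067 L204202 q12579, e3 q13068 L204220 q12872, e3 q13069 L204238 q12931, e3 q13070 L204249 q12932, e3 q13071 L204263 q12933, e3 q13072 (flp_a L206452) q13281, e3 q13073 (flp_a L206463) q13282, e3 q13074 (flp_a L207606) q13407, e3 q13075 (flp_a L207618) q13408, e3 q13076 (flp_a L206196) q13256, e3 q13077 (flp_a L207646) q13410, e3 q13078 (flp_a L207658) q13411, e3 q13079 (flp_a L207674) q13412, e3 q13080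 L204362 q12591, e3 q13081 (flp_a L207961) q13436, e3 q13082 L204386 q12937, e3 q13083 L204397 q12941, e3 q13084 (flp_a L207714) q13415, e3 q13085 (flp_a L207728) q13416, e3 q13086 L204425 q12940, e3 q13087 L204441 q12887, e3 q13088 L204453 q12869, e3 q13089 L204467 q12870, e3 q13090 L204481 q12996, e3 q13091 (flp_a L205849) q13222, e3 q13092 (flp_a L205864) q13223, e3 q13093 (flp_a L205878) q13224, e3 q13094 L204518 q12776, e3 q13095 L204532 q12672, e3 q13096 (flp_a L205808) q13219, e3 q13097 (flp_a L205821) q13220, e3 q13098 (flp_a L205835) q13221, e3 q13099 L204579 q12676, e3 q13100 L204590 q12677, e3 q13101 (flp_a L207758) q13418, e3 q13102 (flp_a L207768) q13419, e3 q13103 L204614 q12618, e3 q13104 (flp_a L208139) q13453, e3 q13105 (flp_a L208152) q13454, e3 q13106 (flp_a L207782) q13420, e3 q13107 L204651 q12815, e3 q13108 (flp_a L207794) q13421, e3 q13109 L204672 q12623, e3 q13110 L204685 q12624, e3 q13111 (flp_a L208218) q13461, e3 q13112 (flp_a L208230) q13462, e3 q13113 (flp_a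 L207830) q13424, e3 q13114 (flp_a L207837) q13425, e3 q13115 L204724 q12685, e3 q13116 L204740 q12631, e3 q13117 (flp_a L207307) q13377, e3 q13118 (flp_a L207319) q13378, e3 q13119 L204780 q12902, trivial⟩ (by decide +kernel)

theorem ce_a_205 : ∀ r, r < 64 → sm ga (Qf (13120 + r)) = Qf (tab Gen.a (13120 + r)) :=
  edges_tab (sm ga) Qf (tab Gen.a) 13120 [(13120, 12919), (13121, 12988), (13122, 12989), (13123, 12918), (13124, 12746), (13125, 12881), (13126, 12892), (13127, 12893), (13128, 12648), (13129, 13474), (13130, 12884), (13131, 12654), (13132, 12671), (13133, 12673), (13134, 12674), (13135, 12675), (13136, 12678), (13137, 12679), (13138, 13144), (13139, 13145), (13140, 13146), (13141, 12856), (13142, 12857), (13143, 12858), (13144, 13138), (13145, 13139), (13146, 13140), (13147, 13422), (13148, 12925), (13149, 13423), (13150, 13444), (13151, 13445), (13152, 13475), (13153, 13476), (13154, 13448), (13155, 13449), (13156, 13450), (13157, 13477), (13158, 13478), (13159, 12864), (13160,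 12929), (13161, 12926), (13162, 12921), (13163, 12784), (13164, 13388), (13165, 12783), (13166, 12694), (13167, 12695), (13168, 13501), (13169, 13502), (13170, 13503), (13171, 13504), (13172, 12821), (13173, 12816), (13174, 12701), (13175, 12702), (13176, 12703), (13177, 13509), (13178, 13510), (13179, 12708), (13180, 12709), (13181, 12901), (13182, 12903), (13183, 12728)]
    ⟨e3 q13120 L204791 q12919, e3 q13121 L204803 q12988, e3 q13122 L204813 q12989, e3 q13123 L204825 q12918, e3 q13124 L204841 q12746, e3 q13125 L204855 q12881, e3 q13126 L204867 q12892, e3 q13127 L204873 q12893, e3 q13128 L204885 q12648, e3 q13129 (flp_a L208357) q13474, e3 q13130 L204905 q12884, e3 q13131 L204921 q12654, e3 q13132 L204937 q12671, e3 q13133 L204949 q12673, e3 q13134 L204960 q12674, e3 q13135 L204970 q12675, e3 q13136 L204984 q12678, e3 q13137 L204990 q12679, e3 q13138 (flp_a L205072) q13144, e3 q13139 (flp_a L205081) q13145, e3 q13140 (flp_a L205091) q13146, e3 q13141 L205035 q12856, e3 q13142 L205048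 q12857, e3 q13143 L205060 q12858, e3 q13144 L205072 q13138, e3 q13145 L205081 q13139, e3 q13146 L205091 q13140, e3 q13147 (flp_a L207806) q13422, e3 q13148 L205107 q12925, e3 q13149 (flp_a L207816) q13423, e3 q13150 (flp_a L208046) q13444, e3 q13151 (flp_a L208059) q13445, e3 q13152 (flp_a L208371) q13475, e3 q13153 (flp_a L208381) q13476, e3 q13154 (flp_a L208095) q13448, e3 q13155 (flp_a L208106) q13449, e3 q13156 (flp_a L208116) q13450, e3 q13157 (flp_a L208393) q13477, e3 q13158 (flp_a L208398) q13478, e3 q13159 L205187 q12864, e3 q13160 L205203 q12929, e3 q13161 L205219 q12926, e3 q13162 L205231 q12921, e3 q13163 L205245 q12784, e3 q13164 (flp_a L207393) q13388, e3 q13165 L205263 q12783, e3 q13166 L205275 q12694, e3 q13167 L205287 q12695, e3 q13168 (flp_a L208615) q13501, e3 q13169 (flp_a L208629) q13502, e3 q13170 (flp_a L208639) q13503, e3 q13171 (flp_a L208653) q13504, e3 q13172 L205329 q12821, e3 q13173 L205341 q12816, e3 q13174 L205351 q12701, e3 q13175 L205359 q12702, e3 q13176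 L205367 q12703, e3 q13177 (flp_a L208701) q13509, e3 q13178 (flp_a L208711) q13510, e3 q13179 L205393 q12708, e3 q13180 L205408 q12709, e3 q13181 L205421 q12901, e3 q13182 L205429 q12903, e3 q13183 L205441 q12728, trivial⟩ (by decide +kernel)

theorem ce_a_206 : ∀ r, r < 64 → sm ga (Qf (13184 + r)) = Qf (tab Gen.a (13184 + r)) :=
  edges_tab (sm ga) Qf (tab Gen.a) 13184 [(13184, 12729), (13185, 12730), (13186, 12731), (13187, 12732), (13188, 12966), (13189, 12967), (13190, 12968), (13191, 12727), (13192, 13307), (13193, 13520), (13194, 13514), (13195, 13515), (13196, 13516), (13197, 13517), (13198, 12833), (13199, 12736), (13200, 12826), (13201, 13526), (13202, 12840), (13203, 12841), (13204, 12741), (13205, 13530), (13206, 12866), (13207, 12868), (13208, 12799), (13209, 12800), (13210, 12936), (13211, 12938), (13212, 12945), (13213, 12946), (13214, 12777), (13215, 12778), (13216, 12779), (13217, 12780), (13218, 12781), (13219, 13096), (13220, 13097), (13221, 13098), (13222, 13091), (13223,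 13092), (13224, 13093), (13225, 13404), (13226, 13417), (13227, 13536), (13228, 13537), (13229, 13538), (13230, 13539), (13231, 13540), (13232, 13500), (13233, 12818), (13234, 13236), (13235, 13237), (13236, 13234), (13237, 13235), (13238, 13531), (13239, 13532), (13240, 12805), (13241, 13556), (13242, 12817), (13243, 13248), (13244, 12810), (13245, 13557), (13246, 12991), (13247, 13008)]
    ⟨e3 q13184 L205452 q12729, e3 q13185 L205462 q12730, e3 q13186 L205476 q12731, e3 q13187 L205484 q12732, e3 q13188 L205496 q12966, e3 q13189 L205509 q12967, e3 q13190 L205521 q12968, e3 q13191 L205533 q12727, e3 q13192 (flp_a L206715) q13307, e3 q13193 (flp_a L208811) q13520, e3 q13194 (flp_a L208746) q13514, e3 q13195 (flp_a L208756) q13515, e3 q13196 (flp_a L208768) q13516, e3 q13197 (flp_a L208775) q13517, e3 q13198 L205579 q12833, e3 q13199 L205595 q12736, e3 q13200 L205605 q12826, e3 q13201 (flp_a L208854) q13526, e3 q13202 L205625 q12840, e3 q13203 L205633 q12841, e3 q13204 L205641 q12741, e3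 q13205 (flp_a L208894) q13530, e3 q13206 L205659 q12866, e3 q13207 L205671 q12868, e3 q13208 L205689 q12799, e3 q13209 L205699 q12800, e3 q13210 L205707 q12936, e3 q13211 L205715 q12938, e3 q13212 L205727 q12945, e3 q13213 L205741 q12946, e3 q13214 L205753 q12777, e3 q13215 L205764 q12778, e3 q13216 L205776 q12779, e3 q13217 L205790 q12780, e3 q13218 L205798 q12781, e3 q13219 L205808 q13096, e3 q13220 L205821 q13097, e3 q13221 L205835 q13098, e3 q13222 L205849 q13091, e3 q13223 L205864 q13092, e3 q13224 L205878 q13093, e3 q13225 (flp_a L207569) q13404, e3 q13226 (flp_a L207744) q13417, e3 q13227 (flp_a L208956) q13536, e3 q13228 (flp_a L208966) q13537, e3 q13229 (flp_a L208977) q13538, e3 q13230 (flp_a L208991) q13539, e3 q13231 (flp_a L208998) q13540, e3 q13232 (flp_a L208603) q13500, e3 q13233 L205950 q12818, e3 q13234 (flp_a L205980) q13236, e3 q13235 (flp_a L205994) q13237, e3 q13236 L205980 q13234, e3 q13237 L205994 q13235, e3 q13238 (flp_a L208906) q13531, e3 q13239 (flp_a L208915)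 q13532, e3 q13240 L206021 q12805, e3 q13241 (flp_a L209158) q13556, e3 q13242 L206045 q12817, e3 q13243 (flp_a L206119) q13248, e3 q13244 (flp_a L206065) q12810, e3 q13245 (flp_a L209172) q13557, e3 q13246 L206094 q12991, e3 q13247 L206107 q13008, trivial⟩ (by decide +kernel)

theorem ce_a_207 : ∀ r, r < 64 → sm ga (Qf (13248 + r)) = Qf (tab Gen.a (13248 + r)) :=
  edges_tab (sm ga) Qf (tab Gen.a) 13248 [(13248, 13243), (13249, 12814), (13250, 13331), (13251, 13562), (13252, 13460), (13253, 13508), (13254, 12820), (13255, 13567), (13256, 13076), (13257, 13319), (13258, 12974), (13259, 12975), (13260, 13527), (13261, 12839), (13262, 13268), (13263, 12831), (13264, 13572), (13265, 13301), (13266, 12835), (13267, 13574), (13268, 13262), (13269, 13571), (13270, 13529), (13271, 12843), (13272, 12930), (13273, 12859), (13274, 12860), (13275, 12861), (13276, 12934), (13277, 12935), (13278, 12862), (13279, 12863), (13280, 12939), (13281, 13072), (13282, 13073), (13283, 13284), (13284, 13283), (13285,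 13481), (13286, 13482), (13287, 13577), (13288, 13578), (13289, 13581), (13290, 13582), (13291, 13387), (13292, 13441), (13293, 12885), (13294, 12886), (13295, 12888), (13296, 12889), (13297, 13409), (13298, 12891), (13299, 13472), (13300, 13590), (13301, 13265), (13302, 13473), (13303, 12897), (13304, 13592), (13305, 13593), (13306, 13359), (13307, 13192), (13308, 13360), (13309, 13512), (13310, 13513), (13311, 13468)]
    ⟨e3 q13248 L206119 q13243, e3 q13249 L206135 q12814, e3 q13250 (flp_a L206914) q13331, e3 q13251 (flp_a L209237) q13562, e3 q13252 (flp_a L208206) q13460, e3 q13253 (flp_a L208689) q13508, e3 q13254 L206178 q12820, e3 q13255 (flp_a L209278) q13567, e3 q13256 L206196 q13076, e3 q13257 (flp_a L206809) q13319, e3 q13258 L206222 q12974, e3 q13259 L206234 q12975, e3 q13260 (flp_a L208866) q13527, e3 q13261 L206258 q12839, e3 q13262 (flp_a L206314) q13268, e3 q13263 L206276 q12831, e3 q13264 (flp_a L209334) q13572, e3 q13265 (flp_a L206658) q13301, e3 q13266 L206298 q12835,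 e3 q13267 (flp_a L209350) q13574, e3 q13268 L206314 q13262, e3 q13269 (flp_a L209324) q13571, e3 q13270 (flp_a L208886) q13529, e3 q13271 L206342 q12843, e3 q13272 L206346 q12930, e3 q13273 L206360 q12859, e3 q13274 L206373 q12860, e3 q13275 L206383 q12861, e3 q13276 L206397 q12934, e3 q13277 L206408 q12935, e3 q13278 L206420 q12862, e3 q13279 L206426 q12863, e3 q13280 L206436 q12939, e3 q13281 L206452 q13072, e3 q13282 L206463 q13073, e3 q13283 (flp_a L206487) q13284, e3 q13284 L206487 q13283, e3 q13285 (flp_a L208430) q13481, e3 q13286 (flp_a L208442) q13482, e3 q13287 (flp_a L209387) q13577, e3 q13288 (flp_a L209399) q13578, e3 q13289 (flp_a L209435) q13581, e3 q13290 (flp_a L209440) q13582, e3 q13291 (flp_a L207379) q13387, e3 q13292 (flp_a L208012) q13441, e3 q13293 L206556 q12885, e3 q13294 L206572 q12886, e3 q13295 L206586 q12888, e3 q13296 L206602 q12889, e3 q13297 (flp_a L207632) q13409, e3 q13298 L206622 q12891, e3 q13299 (flp_a L208335) q13472, e3 q13300 (flp_a L209498) q13590,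 e3 q13301 L206658 q13265, e3 q13302 (flp_a L208349) q13473, e3 q13303 L206682 q12897, e3 q13304 (flp_a L209526) q13592, e3 q13305 (flp_a L209539) q13593, e3 q13306 (flp_a L207142) q13359, e3 q13307 L206715 q13192, e3 q13308 (flp_a L207150) q13360, e3 q13309 (flp_a L208729) q13512, e3 q13310 (flp_a L208736) q13513, e3 q13311 (flp_a L208288) q13468, trivial⟩ (by decide +kernel)

theorem ce_a_208 : ∀ r, r < 64 → sm ga (Qf (13312 + r)) = Qf (tab Gen.a (13312 + r)) :=
  edges_tab (sm ga) Qf (tab Gen.a) 13312 [(13312, 13398), (13313, 12905), (13314, 13604), (13315, 13605), (13316, 12972), (13317, 12973), (13318, 12910), (13319, 13257), (13320, 13611), (13321, 12978), (13322, 12979), (13323, 12915), (13324, 13615), (13325, 13469), (13326, 13399), (13327, 13488), (13328, 13499), (13329, 12990), (13330, 12992), (13331, 13250), (13332, 13487), (13333, 13498), (13334, 12993), (13335, 12994), (13336, 13575), (13337, 13576), (13338, 13427), (13339, 13428), (13340, 13429), (13341, 13579), (13342, 13580),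 (13343, 13533), (13344, 13534), (13345, 13437), (13346, 13405), (13347, 13438), (13348, 13406), (13349, 12958), (13350, 12957), (13351, 12953), (13352, 13535), (13353, 12999), (13354, 12952), (13355, 13641), (13356, 13640), (13357, 13007), (13358, 13639), (13359, 13306), (13360, 13308), (13361, 12965), (13362, 13627), (13363, 13645), (13364, 13518), (13365, 13519), (13366, 12970), (13367, 12971), (13368, 13650), (13369, 13651), (13370, 13609), (13371, 13610), (13372, 13569), (13373, 12977), (13374, 13655), (13375, 13614)]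
    ⟨e3 q13312 (flp_a L207505) q13398, e3 q13313 L206756 q12905, e3 q13314 (flp_a L209632) q13604, e3 q13315 (flp_a L209645) q13605, e3 q13316 L206777 q12972, e3 q13317 L206785 q12973, e3 q13318 L206795 q12910, e3 q13319 L206809 q13257, e3 q13320 (flp_a L209701) q13611, e3 q13321 L206833 q12978, e3 q13322 L206843 q12979, e3 q13323 L206855 q12915, e3 q13324 (flp_a L209751) q13615, e3 q13325 (flp_a L208298) q13469, e3 q13326 (flp_a L207518) q13399, e3 q13327 (flp_a L208495) q13488, e3 q13328 (flp_a L208589) q13499, e3 q13329 L206896 q12990, e3 q13330 L206904 q12992, e3 q13331 L206914 q13250, e3 q13332 (flp_a L208485) q13487, e3 q13333 (flp_a L208575) q13498, e3 q13334 L206935 q12993, e3 q13335 L206940 q12994, e3 q13336 (flp_a L209360) q13575, e3 q13337 (flp_a L209373) q13576, e3 q13338 (flp_a L207859) q13427, e3 q13339 (flp_a L207869) q13428, e3 q13340 (flp_a L207882) q13429, e3 q13341 (flp_a L209411) q13579, e3 q13342 (flp_a L209421) q13580, e3 q13343 (flp_a L208925) q13533, e3 q13344 (flp_a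 L208932) q13534, e3 q13345 (flp_a L207973) q13437, e3 q13346 (flp_a L207579) q13405, e3 q13347 (flp_a L207983) q13438, e3 q13348 (flp_a L207592) q13406, e3 q13349 L207036 q12958, e3 q13350 L207046 q12957, e3 q13351 L207058 q12953, e3 q13352 (flp_a L208942) q13535, e3 q13353 L207076 q12999, e3 q13354 L207088 q12952, e3 q13355 (flp_a L209964) q13641, e3 q13356 (flp_a L209954) q13640, e3 q13357 L207116 q13007, e3 q13358 (flp_a L209940) q13639, e3 q13359 L207142 q13306, e3 q13360 L207150 q13308, e3 q13361 L207162 q12965, e3 q13362 (flp_a L209846) q13627, e3 q13363 (flp_a L210007) q13645, e3 q13364 (flp_a L208785) q13518, e3 q13365 (flp_a L208797) q13519, e3 q13366 L207207 q12970, e3 q13367 L207218 q12971, e3 q13368 (flp_a L210052) q13650, e3 q13369 (flp_a L210062) q13651, e3 q13370 (flp_a L209684) q13609, e3 q13371 (flp_a L209693) q13610, e3 q13372 (flp_a L209300) q13569, e3 q13373 L207265 q12977, e3 q13374 (flp_a L210091) q13655, e3 q13375 (flp_a L209741) q13614, trivial⟩ (by decide +kernel)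

theorem ce_a_209 : ∀ r, r < 64 → sm ga (Qf (13376 + r)) = Qf (tab Gen.a (13376 + r)) :=
  edges_tab (sm ga) Qf (tab Gen.a) 13376 [(13376, 12981), (13377, 13117), (13378, 13118), (13379, 13400), (13380, 13401), (13381, 13470), (13382, 13471), (13383, 13620), (13384, 13621), (13385, 13560), (13386, 13625), (13387, 13291), (13388, 13164), (13389, 13004), (13390, 13005), (13391, 13006), (13392, 13665), (13393, 13666), (13394, 13561), (13395, 13011), (13396, 13021), (13397, 13023), (13398, 13312), (13399, 13326), (13400, 13379), (13401, 13380), (13402, 13668), (13403, 13669), (13404, 13225), (13405, 13346), (13406, 13348), (13407, 13074), (13408, 13075), (13409, 13297), (13410, 13077), (13411, 13078), (13412, 13079), (13413, 13033), (13414, 13684), (13415, 13084), (13416, 13085), (13417, 13226), (13418, 13101), (13419, 13102), (13420, 13106), (13421, 13108), (13422, 13147), (13423, 13149), (13424, 13113), (13425, 13114), (13426, 13065), (13427, 13338), (13428, 13339), (13429, 13340), (13430,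 13583), (13431, 13584), (13432, 13679), (13433, 13680), (13434, 13682), (13435, 13683), (13436, 13081), (13437, 13345), (13438, 13347), (13439, 13685)]
    ⟨e3 q13376 L207301 q12981, e3 q13377 L207307 q13117, e3 q13378 L207319 q13118, e3 q13379 (flp_a L207532) q13400, e3 q13380 (flp_a L207542) q13401, e3 q13381 (flp_a L208312) q13470, e3 q13382 (flp_a L208323) q13471, e3 q13383 (flp_a L209796) q13620, e3 q13384 (flp_a L209803) q13621, e3 q13385 (flp_a L209211) q13560, e3 q13386 (flp_a L209832) q13625, e3 q13387 L207379 q13291, e3 q13388 L207393 q13164, e3 q13389 L207409 q13004, e3 q13390 L207421 q13005, e3 q13391 L207429 q13006, e3 q13392 (flp_a L210173) q13665, e3 q13393 (flp_a L210185) q13666, e3 q13394 (flp_a L209223) q13561, e3 q13395 L207469 q13011, e3 q13396 L207475 q13021, e3 q13397 L207489 q13023, e3 q13398 L207505 q13312, e3 q13399 L207518 q13326, e3 q13400 L207532 q13379, e3 q13401 L207542 q13380, e3 q13402 (flp_a L210205) q13668, e3 q13403 (flp_a L210220) q13669, e3 q13404 L207569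 q13225, e3 q13405 L207579 q13346, e3 q13406 L207592 q13348, e3 q13407 L207606 q13074, e3 q13408 L207618 q13075, e3 q13409 L207632 q13297, e3 q13410 L207646 q13077, e3 q13411 L207658 q13078, e3 q13412 L207674 q13079, e3 q13413 L207688 q13033, e3 q13414 (flp_a L210419) q13684, e3 q13415 L207714 q13084, e3 q13416 L207728 q13085, e3 q13417 L207744 q13226, e3 q13418 L207758 q13101, e3 q13419 L207768 q13102, e3 q13420 L207782 q13106, e3 q13421 L207794 q13108, e3 q13422 L207806 q13147, e3 q13423 L207816 q13149, e3 q13424 L207830 q13113, e3 q13425 L207837 q13114, e3 q13426 L207845 q13065, e3 q13427 L207859 q13338, e3 q13428 L207869 q13339, e3 q13429 L207882 q13340, e3 q13430 (flp_a L209448) q13583, e3 q13431 (flp_a L209458) q13584, e3 q13432 (flp_a L210346) q13679, e3 q13433 (flp_a L210359) q13680, e3 q13434 (flp_a L210389) q13682, e3 q13435 (flp_a L210403) q13683, e3 q13436 L207961 q13081, e3 q13437 L207973 q13345, e3 q13438 L207983 q13347, e3 q13439 (flp_a L210437) q13685, trivial⟩ (by decide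 +kernel)

theorem ce_a_210 : ∀ r, r < 64 → sm ga (Qf (13440 + r)) = Qf (tab Gen.a (13440 + r)) :=
  edges_tab (sm ga) Qf (tab Gen.a) 13440 [(13440, 13686), (13441, 13292), (13442, 13543), (13443, 13544), (13444, 13150), (13445, 13151), (13446, 13541), (13447, 13542), (13448, 13154), (13449, 13155), (13450, 13156), (13451, 13687), (13452, 13688), (13453, 13104), (13454, 13105), (13455, 13714), (13456, 13606), (13457, 13715), (13458, 13689), (13459, 13690), (13460, 13252), (13461, 13111), (13462, 13112), (13463, 13722), (13464, 13723), (13465, 13693), (13466, 13656), (13467, 13657), (13468, 13311), (13469, 13325), (13470, 13381), (13471, 13382), (13472, 13299), (13473, 13302), (13474, 13129), (13475, 13152), (13476, 13153), (13477, 13157), (13478, 13158), (13479, 13483), (13480, 13484), (13481, 13285), (13482, 13286), (13483, 13479), (13484, 13480), (13485, 13691), (13486, 13692), (13487, 13332), (13488, 13327), (13489, 13595), (13490, 13706), (13491, 13707), (13492, 13730), (13493, 13731),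 (13494, 13710), (13495, 13711), (13496, 13712), (13497, 13732), (13498, 13333), (13499, 13328), (13500, 13232), (13501, 13168), (13502, 13169), (13503, 13170)]
    ⟨e3 q13440 (flp_a L210452) q13686, e3 q13441 L208012 q13292, e3 q13442 (flp_a L209036) q13543, e3 q13443 (flp_a L209050) q13544, e3 q13444 L208046 q13150, e3 q13445 L208059 q13151, e3 q13446 (flp_a L209008) q13541, e3 q13447 (flp_a L209022) q13542, e3 q13448 L208095 q13154, e3 q13449 L208106 q13155, e3 q13450 L208116 q13156, e3 q13451 (flp_a L210468) q13687, e3 q13452 (flp_a L210479) q13688, e3 q13453 L208139 q13104, e3 q13454 L208152 q13105, e3 q13455 (flp_a L210765) q13714, e3 q13456 (flp_a L209655) q13606, e3 q13457 (flp_a L210777) q13715, e3 q13458 (flp_a L210491) q13689, e3 q13459 (flp_a L210502) q13690, e3 q13460 L208206 q13252, e3 q13461 L208218 q13111, e3 q13462 L208230 q13112, e3 q13463 (flp_a L210849) q13722, e3 q13464 (flp_a L210862) q13723, e3 q13465 (flp_a L210539) q13693, e3 q13466 (flp_a L210105) q13656, e3 q13467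 (flp_a L210118) q13657, e3 q13468 L208288 q13311, e3 q13469 L208298 q13325, e3 q13470 L208312 q13381, e3 q13471 L208323 q13382, e3 q13472 L208335 q13299, e3 q13473 L208349 q13302, e3 q13474 L208357 q13129, e3 q13475 L208371 q13152, e3 q13476 L208381 q13153, e3 q13477 L208393 q13157, e3 q13478 L208398 q13158, e3 q13479 (flp_a L208456) q13483, e3 q13480 (flp_a L208466) q13484, e3 q13481 L208430 q13285, e3 q13482 L208442 q13286, e3 q13483 L208456 q13479, e3 q13484 L208466 q13480, e3 q13485 (flp_a L210516) q13691, e3 q13486 (flp_a L210527) q13692, e3 q13487 L208485 q13332, e3 q13488 L208495 q13327, e3 q13489 (flp_a L209557) q13595, e3 q13490 (flp_a L210675) q13706, e3 q13491 (flp_a L210687) q13707, e3 q13492 (flp_a L210936) q13730, e3 q13493 (flp_a L210945) q13731, e3 q13494 (flp_a L210726) q13710, e3 q13495 (flp_a L210736) q13711, e3 q13496 (flp_a L210747) q13712, e3 q13497 (flp_a L210957) q13732, e3 q13498 L208575 q13333, e3 q13499 L208589 q13328, e3 q13500 L208603 q13232, e3 q13501 L208615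 q13168, e3 q13502 L208629 q13169, e3 q13503 L208639 q13170, trivial⟩ (by decide +kernel)

theorem ce_a_211 : ∀ r, r < 64 → sm ga (Qf (13504 + r)) = Qf (tab Gen.a (13504 + r)) :=
  edges_tab (sm ga) Qf (tab Gen.a) 13504 [(13504, 13171), (13505, 13752), (13506, 13753), (13507, 13754), (13508, 13253), (13509, 13177), (13510, 13178), (13511, 13757), (13512, 13309), (13513, 13310), (13514, 13194), (13515, 13195), (13516, 13196), (13517, 13197), (13518, 13364), (13519, 13365), (13520, 13193), (13521, 13599), (13522, 13764), (13523, 13759), (13524, 13760), (13525, 13761), (13526, 13201), (13527, 13260), (13528, 13769), (13529, 13270), (13530, 13205), (13531, 13238), (13532, 13239), (13533, 13343), (13534, 13344), (13535, 13352), (13536, 13227), (13537, 13228), (13538, 13229), (13539, 13230), (13540, 13231), (13541, 13446), (13542, 13447), (13543, 13442), (13544, 13443), (13545, 13675), (13546, 13676), (13547, 13773), (13548, 13774), (13549, 13775), (13550, 13776), (13551, 13553), (13552, 13554),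 (13553, 13551), (13554, 13552), (13555, 13771), (13556, 13241), (13557, 13245), (13558, 13617), (13559, 13789), (13560, 13385), (13561, 13394), (13562, 13251), (13563, 13622), (13564, 13794), (13565, 13720), (13566, 13721), (13567, 13255)]
    ⟨e3 q13504 L208653 q13171, e3 q13505 (flp_a L211152) q13752, e3 q13506 (flp_a L211166) q13753, e3 q13507 (flp_a L211178) q13754, e3 q13508 L208689 q13253, e3 q13509 L208701 q13177, e3 q13510 L208711 q13178, e3 q13511 (flp_a L211212) q13757, e3 q13512 L208729 q13309, e3 q13513 L208736 q13310, e3 q13514 L208746 q13194, e3 q13515 L208756 q13195, e3 q13516 L208768 q13196, e3 q13517 L208775 q13197, e3 q13518 L208785 q13364, e3 q13519 L208797 q13365, e3 q13520 L208811 q13193, e3 q13521 (flp_a L209595) q13599, e3 q13522 (flp_a L211288) q13764, e3 q13523 (flp_a L211230) q13759, e3 q13524 (flp_a L211241) q13760, e3 q13525 (flp_a L211253) q13761, e3 q13526 L208854 q13201, e3 q13527 L208866 q13260, e3 q13528 (flp_a L211328) q13769, e3 q13529 L208886 q13270,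 e3 q13530 L208894 q13205, e3 q13531 L208906 q13238, e3 q13532 L208915 q13239, e3 q13533 L208925 q13343, e3 q13534 L208932 q13344, e3 q13535 L208942 q13352, e3 q13536 L208956 q13227, e3 q13537 L208966 q13228, e3 q13538 L208977 q13229, e3 q13539 L208991 q13230, e3 q13540 L208998 q13231, e3 q13541 L209008 q13446, e3 q13542 L209022 q13447, e3 q13543 L209036 q13442, e3 q13544 L209050 q13443, e3 q13545 (flp_a L210295) q13675, e3 q13546 (flp_a L210306) q13676, e3 q13547 (flp_a L211372) q13773, e3 q13548 (flp_a L211383) q13774, e3 q13549 (flp_a L211395) q13775, e3 q13550 (flp_a L211405) q13776, e3 q13551 (flp_a L209121) q13553, e3 q13552 (flp_a L209136) q13554, e3 q13553 L209121 q13551, e3 q13554 L209136 q13552, e3 q13555 (flp_a L211354) q13771, e3 q13556 L209158 q13241, e3 q13557 L209172 q13245, e3 q13558 (flp_a L209767) q13617, e3 q13559 (flp_a L211538) q13789, e3 q13560 L209211 q13385, e3 q13561 L209223 q13394, e3 q13562 L209237 q13251, e3 q13563 (flp_a L209811) q13622, e3 q13564 (flp_a L211605)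 q13794, e3 q13565 (flp_a L210824) q13720, e3 q13566 (flp_a L210835) q13721, e3 q13567 L209278 q13255, trivial⟩ (by decide +kernel)

theorem ce_a_212 : ∀ r, r < 64 → sm ga (Qf (13568 + r)) = Qf (tab Gen.a (13568 + r)) :=
  edges_tab (sm ga) Qf (tab Gen.a) 13568 [(13568, 13612), (13569, 13372), (13570, 13770), (13571, 13269), (13572, 13264), (13573, 13799), (13574, 13267), (13575, 13336), (13576, 13337), (13577, 13287), (13578, 13288), (13579, 13341), (13580, 13342), (13581, 13289), (13582, 13290), (13583, 13430), (13584, 13431), (13585, 13735), (13586, 13736), (13587, 13802), (13588, 13803), (13589, 13806), (13590, 13300), (13591, 13681), (13592, 13304), (13593, 13305), (13594, 13812), (13595, 13489), (13596, 13813), (13597, 13643), (13598, 13644), (13599, 13521), (13600, 13758), (13601, 13727), (13602, 13728), (13603, 13670), (13604, 13314), (13605, 13315), (13606, 13456), (13607, 13824), (13608, 13825), (13609, 13370), (13610, 13371), (13611, 13320), (13612, 13568), (13613, 13830), (13614,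 13375), (13615, 13324), (13616, 13671), (13617, 13558), (13618, 13742), (13619, 13751), (13620, 13383), (13621, 13384), (13622, 13563), (13623, 13740), (13624, 13741), (13625, 13386), (13626, 13800), (13627, 13362), (13628, 13801), (13629, 13694), (13630, 13695), (13631, 13696)]
    ⟨e3 q13568 (flp_a L209717) q13612, e3 q13569 L209300 q13372, e3 q13570 (flp_a L211340) q13770, e3 q13571 L209324 q13269, e3 q13572 L209334 q13264, e3 q13573 (flp_a L211658) q13799, e3 q13574 L209350 q13267, e3 q13575 L209360 q13336, e3 q13576 L209373 q13337, e3 q13577 L209387 q13287, e3 q13578 L209399 q13288, e3 q13579 L209411 q13341, e3 q13580 L209421 q13342, e3 q13581 L209435 q13289, e3 q13582 L209440 q13290, e3 q13583 L209448 q13430, e3 q13584 L209458 q13431, e3 q13585 (flp_a L210986) q13735, e3 q13586 (flp_a L210999) q13736, e3 q13587 (flp_a L211696) q13802, e3 q13588 (flp_a L211707) q13803, e3 q13589 (flp_a L211744) q13806, e3 q13590 L209498 q13300, e3 q13591 (flp_a L210373) q13681, e3 q13592 L209526 q13304,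 e3 q13593 L209539 q13305, e3 q13594 (flp_a L211790) q13812, e3 q13595 L209557 q13489, e3 q13596 (flp_a L211804) q13813, e3 q13597 (flp_a L209988) q13643, e3 q13598 (flp_a L209997) q13644, e3 q13599 L209595 q13521, e3 q13600 (flp_a L211222) q13758, e3 q13601 (flp_a L210901) q13727, e3 q13602 (flp_a L210912) q13728, e3 q13603 (flp_a L210236) q13670, e3 q13604 L209632 q13314, e3 q13605 L209645 q13315, e3 q13606 L209655 q13456, e3 q13607 (flp_a L211900) q13824, e3 q13608 (flp_a L211914) q13825, e3 q13609 L209684 q13370, e3 q13610 L209693 q13371, e3 q13611 L209701 q13320, e3 q13612 L209717 q13568, e3 q13613 (flp_a L211961) q13830, e3 q13614 L209741 q13375, e3 q13615 L209751 q13324, e3 q13616 (flp_a L210248) q13671, e3 q13617 L209767 q13558, e3 q13618 (flp_a L211063) q13742, e3 q13619 (flp_a L211136) q13751, e3 q13620 L209796 q13383, e3 q13621 L209803 q13384, e3 q13622 L209811 q13563, e3 q13623 (flp_a L211040) q13740, e3 q13624 (flp_a L211051) q13741, e3 q13625 L209832 q13386, e3 q13626 (flp_a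 L211668) q13800, e3 q13627 L209846 q13362, e3 q13628 (flp_a L211680) q13801, e3 q13629 (flp_a L210547) q13694, e3 q13630 (flp_a L210558) q13695, e3 q13631 (flp_a L210570) q13696, trivial⟩ (by decide +kernel)

theorem ce_a_213 : ∀ r, r < 64 → sm ga (Qf (13632 + r)) = Qf (tab Gen.a (13632 + r)) :=
  edges_tab (sm ga) Qf (tab Gen.a) 13632 [(13632, 13804), (13633, 13805), (13634, 13772), (13635, 13701), (13636, 13702), (13637, 13677), (13638, 13678), (13639, 13358), (13640, 13356), (13641, 13355), (13642, 13851), (13643, 13597), (13644, 13598), (13645, 13363), (13646, 13842), (13647, 13853), (13648, 13762), (13649, 13763), (13650, 13368), (13651, 13369), (13652, 13857), (13653, 13858), (13654, 13829), (13655, 13374), (13656, 13466), (13657, 13467), (13658, 13672), (13659, 13673), (13660, 13729), (13661, 13835), (13662, 13792), (13663, 13793), (13664, 13839), (13665, 13392), (13666, 13393), (13667, 13866), (13668, 13402), (13669, 13403), (13670, 13603), (13671, 13616), (13672, 13658), (13673,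 13659), (13674, 13867), (13675, 13545), (13676, 13546), (13677, 13637), (13678, 13638), (13679, 13432), (13680, 13433), (13681, 13591), (13682, 13434), (13683, 13435), (13684, 13414), (13685, 13439), (13686, 13440), (13687, 13451), (13688, 13452), (13689, 13458), (13690, 13459), (13691, 13485), (13692, 13486), (13693, 13465), (13694, 13629), (13695, 13630)]
    ⟨e3 q13632 (flp_a L211721) q13804, e3 q13633 (flp_a L211732) q13805, e3 q13634 (flp_a L211364) q13772, e3 q13635 (flp_a L210625) q13701, e3 q13636 (flp_a L210636) q13702, e3 q13637 (flp_a L210318) q13677, e3 q13638 (flp_a L210330) q13678, e3 q13639 L209940 q13358, e3 q13640 L209954 q13356, e3 q13641 L209964 q13355, e3 q13642 (flp_a L212148) q13851, e3 q13643 L209988 q13597, e3 q13644 L209997 q13598, e3 q13645 L210007 q13363, e3 q13646 (flp_a L212073) q13842, e3 q13647 (flp_a L212172) q13853, e3 q13648 (flp_a L211261) q13762, e3 q13649 (flp_a L211274) q13763, e3 q13650 L210052 q13368, e3 q13651 L210062 q13369, e3 q13652 (flp_a L212209)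 q13857, e3 q13653 (flp_a L212218) q13858, e3 q13654 (flp_a L211951) q13829, e3 q13655 L210091 q13374, e3 q13656 L210105 q13466, e3 q13657 L210118 q13467, e3 q13658 (flp_a L210264) q13672, e3 q13659 (flp_a L210275) q13673, e3 q13660 (flp_a L210924) q13729, e3 q13661 (flp_a L212020) q13835, e3 q13662 (flp_a L211578) q13792, e3 q13663 (flp_a L211591) q13793, e3 q13664 (flp_a L212053) q13839, e3 q13665 L210173 q13392, e3 q13666 L210185 q13393, e3 q13667 (flp_a L212283) q13866, e3 q13668 L210205 q13402, e3 q13669 L210220 q13403, e3 q13670 L210236 q13603, e3 q13671 L210248 q13616, e3 q13672 L210264 q13658, e3 q13673 L210275 q13659, e3 q13674 (flp_a L212293) q13867, e3 q13675 L210295 q13545, e3 q13676 L210306 q13546, e3 q13677 L210318 q13637, e3 q13678 L210330 q13638, e3 q13679 L210346 q13432, e3 q13680 L210359 q13433, e3 q13681 L210373 q13591, e3 q13682 L210389 q13434, e3 q13683 L210403 q13435, e3 q13684 L210419 q13414, e3 q13685 L210437 q13439, e3 q13686 L210452 q13440, e3 q13687 L210468 q13451,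 e3 q13688 L210479 q13452, e3 q13689 L210491 q13458, e3 q13690 L210502 q13459, e3 q13691 L210516 q13485, e3 q13692 L210527 q13486, e3 q13693 L210539 q13465, e3 q13694 L210547 q13629, e3 q13695 L210558 q13630, trivial⟩ (by decide +kernel)

theorem ce_a_214 : ∀ r, r < 64 → sm ga (Qf (13696 + r)) = Qf (tab Gen.a (13696 + r)) :=
  edges_tab (sm ga) Qf (tab Gen.a) 13696 [(13696, 13631), (13697, 13807), (13698, 13808), (13699, 13875), (13700, 13876), (13701, 13635), (13702, 13636), (13703, 13877), (13704, 13779), (13705, 13780), (13706, 13490), (13707, 13491), (13708, 13777), (13709, 13778), (13710, 13494), (13711, 13495), (13712, 13496), (13713, 13878), (13714, 13455), (13715, 13457), (13716, 13897), (13717, 13898), (13718, 13826), (13719, 13879), (13720, 13565), (13721, 13566), (13722, 13463), (13723, 13464), (13724, 13904), (13725, 13881), (13726, 13861), (13727, 13601), (13728, 13602), (13729, 13660), (13730, 13492), (13731, 13493), (13732, 13497), (13733, 13737), (13734, 13738), (13735, 13585),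 (13736, 13586), (13737, 13733), (13738, 13734), (13739, 13880), (13740, 13623), (13741, 13624), (13742, 13618), (13743, 13816), (13744, 13890), (13745, 13891), (13746, 13909), (13747, 13893), (13748, 13894), (13749, 13895), (13750, 13910), (13751, 13619), (13752, 13505), (13753, 13506), (13754, 13507), (13755, 13924), (13756, 13925), (13757, 13511), (13758, 13600), (13759, 13523)]
    ⟨e3 q13696 L210570 q13631, e3 q13697 (flp_a L211750) q13807, e3 q13698 (flp_a L211761) q13808, e3 q13699 (flp_a L212394) q13875, e3 q13700 (flp_a L212408) q13876, e3 q13701 L210625 q13635, e3 q13702 L210636 q13636, e3 q13703 (flp_a L212426) q13877, e3 q13704 (flp_a L211442) q13779, e3 q13705 (flp_a L211457) q13780, e3 q13706 L210675 q13490, e3 q13707 L210687 q13491, e3 q13708 (flp_a L211413) q13777, e3 q13709 (flp_a L211428) q13778, e3 q13710 L210726 q13494, e3 q13711 L210736 q13495, e3 q13712 L210747 q13496, e3 q13713 (flp_a L212442) q13878, e3 q13714 L210765 q13455, e3 q13715 L210777 q13457, e3 q13716 (flp_a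 L212653) q13897, e3 q13717 (flp_a L212666) q13898, e3 q13718 (flp_a L211924) q13826, e3 q13719 (flp_a L212454) q13879, e3 q13720 L210824 q13565, e3 q13721 L210835 q13566, e3 q13722 L210849 q13463, e3 q13723 L210862 q13464, e3 q13724 (flp_a L212726) q13904, e3 q13725 (flp_a L212478) q13881, e3 q13726 (flp_a L212243) q13861, e3 q13727 L210901 q13601, e3 q13728 L210912 q13602, e3 q13729 L210924 q13660, e3 q13730 L210936 q13492, e3 q13731 L210945 q13493, e3 q13732 L210957 q13497, e3 q13733 (flp_a L211013) q13737, e3 q13734 (flp_a L211024) q13738, e3 q13735 L210986 q13585, e3 q13736 L210999 q13586, e3 q13737 L211013 q13733, e3 q13738 L211024 q13734, e3 q13739 (flp_a L212466) q13880, e3 q13740 L211040 q13623, e3 q13741 L211051 q13624, e3 q13742 L211063 q13618, e3 q13743 (flp_a L211829) q13816, e3 q13744 (flp_a L212574) q13890, e3 q13745 (flp_a L212587) q13891, e3 q13746 (flp_a L212785) q13909, e3 q13747 (flp_a L212613) q13893, e3 q13748 (flp_a L212624) q13894, e3 q13749 (flp_a L212636) q13895,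 e3 q13750 (flp_a L212795) q13910, e3 q13751 L211136 q13619, e3 q13752 L211152 q13505, e3 q13753 L211166 q13506, e3 q13754 L211178 q13507, e3 q13755 (flp_a L212935) q13924, e3 q13756 (flp_a L212951) q13925, e3 q13757 L211212 q13511, e3 q13758 L211222 q13600, e3 q13759 L211230 q13523, trivial⟩ (by decide +kernel)

theorem ce_a_215 : ∀ r, r < 64 → sm ga (Qf (13760 + r)) = Qf (tab Gen.a (13760 + r)) :=
  edges_tab (sm ga) Qf (tab Gen.a) 13760 [(13760, 13524), (13761, 13525), (13762, 13648), (13763, 13649), (13764, 13522), (13765, 13818), (13766, 13819), (13767, 13927), (13768, 13928), (13769, 13528), (13770, 13570), (13771, 13555), (13772, 13634), (13773, 13547), (13774, 13548), (13775, 13549), (13776, 13550), (13777, 13708), (13778, 13709), (13779, 13704), (13780, 13705), (13781, 13872), (13782, 13934), (13783, 13935), (13784, 13936), (13785, 13937), (13786, 13787), (13787, 13786), (13788, 13932), (13789, 13559), (13790, 13832), (13791, 13945), (13792, 13662), (13793, 13663), (13794, 13564),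 (13795, 13836), (13796, 13837), (13797, 13903), (13798, 13831), (13799, 13573), (13800, 13626), (13801, 13628), (13802, 13587), (13803, 13588), (13804, 13632), (13805, 13633), (13806, 13589), (13807, 13697), (13808, 13698), (13809, 13912), (13810, 13953), (13811, 13955), (13812, 13594), (13813, 13596), (13814, 13959), (13815, 13960), (13816, 13743), (13817, 13852), (13818, 13765), (13819, 13766), (13820, 13926), (13821, 13907), (13822, 13868), (13823, 13869)]
    ⟨e3 q13760 L211241 q13524, e3 q13761 L211253 q13525, e3 q13762 L211261 q13648, e3 q13763 L211274 q13649, e3 q13764 L211288 q13522, e3 q13765 (flp_a L211851) q13818, e3 q13766 (flp_a L211860) q13819, e3 q13767 (flp_a L212974) q13927, e3 q13768 (flp_a L212986) q13928, e3 q13769 L211328 q13528, e3 q13770 L211340 q13570, e3 q13771 L211354 q13555, e3 q13772 L211364 q13634, e3 q13773 L211372 q13547, e3 q13774 L211383 q13548, e3 q13775 L211395 q13549, e3 q13776 L211405 q13550, e3 q13777 L211413 q13708, e3 q13778 L211428 q13709, e3 q13779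 L211442 q13704, e3 q13780 L211457 q13705, e3 q13781 (flp_a L212355) q13872, e3 q13782 (flp_a L213042) q13934, e3 q13783 (flp_a L213054) q13935, e3 q13784 (flp_a L213065) q13936, e3 q13785 (flp_a L213077) q13937, e3 q13786 (flp_a L211517) q13787, e3 q13787 L211517 q13786, e3 q13788 (flp_a L213024) q13932, e3 q13789 L211538 q13559, e3 q13790 (flp_a L211991) q13832, e3 q13791 (flp_a L213164) q13945, e3 q13792 L211578 q13662, e3 q13793 L211591 q13663, e3 q13794 L211605 q13564, e3 q13795 (flp_a L212028) q13836, e3 q13796 (flp_a L212037) q13837, e3 q13797 (flp_a L212714) q13903, e3 q13798 (flp_a L211977) q13831, e3 q13799 L211658 q13573, e3 q13800 L211668 q13626, e3 q13801 L211680 q13628, e3 q13802 L211696 q13587, e3 q13803 L211707 q13588, e3 q13804 L211721 q13632, e3 q13805 L211732 q13633, e3 q13806 L211744 q13589, e3 q13807 L211750 q13697, e3 q13808 L211761 q13698, e3 q13809 (flp_a L212814) q13912, e3 q13810 (flp_a L213267) q13953, e3 q13811 (flp_a L213291) q13955, e3 q13812 L211790 q13594,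 e3 q13813 L211804 q13596, e3 q13814 (flp_a L213322) q13959, e3 q13815 (flp_a L213335) q13960, e3 q13816 L211829 q13743, e3 q13817 (flp_a L212162) q13852, e3 q13818 L211851 q13765, e3 q13819 L211860 q13766, e3 q13820 (flp_a L212965) q13926, e3 q13821 (flp_a L212760) q13907, e3 q13822 (flp_a L212309) q13868, e3 q13823 (flp_a L212322) q13869, trivial⟩ (by decide +kernel)

theorem ce_a_216 : ∀ r, r < 64 → sm ga (Qf (13824 + r)) = Qf (tab Gen.a (13824 + r)) :=
  edges_tab (sm ga) Qf (tab Gen.a) 13824 [(13824, 13607), (13825, 13608), (13826, 13718), (13827, 13968), (13828, 13969), (13829, 13654), (13830, 13613), (13831, 13798), (13832, 13790), (13833, 13916), (13834, 13917), (13835, 13661), (13836, 13795), (13837, 13796), (13838, 13915), (13839, 13664), (13840, 13951), (13841, 13952), (13842, 13646), (13843, 13882), (13844, 13883), (13845, 13884), (13846, 13954), (13847, 13933), (13848, 13887), (13849, 13873), (13850, 13874), (13851, 13642), (13852, 13817), (13853, 13647), (13854, 13981), (13855,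 13982), (13856, 13929), (13857, 13652), (13858, 13653), (13859, 13991), (13860, 13973), (13861, 13726), (13862, 13870), (13863, 13908), (13864, 13977), (13865, 13948), (13866, 13667), (13867, 13674), (13868, 13822), (13869, 13823), (13870, 13862), (13871, 13996), (13872, 13781), (13873, 13849), (13874, 13850), (13875, 13699), (13876, 13700), (13877, 13703), (13878, 13713), (13879, 13719), (13880, 13739), (13881, 13725), (13882, 13843), (13883, 13844), (13884, 13845), (13885, 13956), (13886, 14001), (13887, 13848)]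
    ⟨e3 q13824 L211900 q13607, e3 q13825 L211914 q13608, e3 q13826 L211924 q13718, e3 q13827 (flp_a L213418) q13968, e3 q13828 (flp_a L213433) q13969, e3 q13829 L211951 q13654, e3 q13830 L211961 q13613, e3 q13831 L211977 q13798, e3 q13832 L211991 q13790, e3 q13833 (flp_a L212857) q13916, e3 q13834 (flp_a L212868) q13917, e3 q13835 L212020 q13661, e3 q13836 L212028 q13795, e3 q13837 L212037 q13796, e3 q13838 (flp_a L212845) q13915, e3 q13839 L212053 q13664, e3 q13840 (flp_a L213240) q13951, e3 q13841 (flp_a L213253) q13952, e3 q13842 L212073 q13646, e3 q13843 (flp_a L212485) q13882, e3 q13844 (flp_a L212497) q13883, e3 q13845 (flp_a L212510) q13884, e3 q13846 (flp_a L213279) q13954, e3 q13847 (flp_a L213033) q13933, e3 q13848 (flp_a L212543) q13887, e3 q13849 (flp_a L212367) q13873, e3 q13850 (flp_a L212380) q13874, e3 q13851 L212148 q13642, e3 q13852 L212162 q13817, e3 q13853 L212172 q13647, e3 q13854 (flp_a L213560) q13981, e3 q13855 (flp_a L213575) q13982, e3 q13856 (flp_a L212995) q13929,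 e3 q13857 L212209 q13652, e3 q13858 L212218 q13653, e3 q13859 (flp_a L213658) q13991, e3 q13860 (flp_a L213484) q13973, e3 q13861 L212243 q13726, e3 q13862 (flp_a L212336) q13870, e3 q13863 (flp_a L212772) q13908, e3 q13864 (flp_a L213530) q13977, e3 q13865 (flp_a L213207) q13948, e3 q13866 L212283 q13667, e3 q13867 L212293 q13674, e3 q13868 L212309 q13822, e3 q13869 L212322 q13823, e3 q13870 L212336 q13862, e3 q13871 (flp_a L213704) q13996, e3 q13872 L212355 q13781, e3 q13873 L212367 q13849, e3 q13874 L212380 q13850, e3 q13875 L212394 q13699, e3 q13876 L212408 q13700, e3 q13877 L212426 q13703, e3 q13878 L212442 q13713, e3 q13879 L212454 q13719, e3 q13880 L212466 q13739, e3 q13881 L212478 q13725, e3 q13882 L212485 q13843, e3 q13883 L212497 q13844, e3 q13884 L212510 q13845, e3 q13885 (flp_a L213298) q13956, e3 q13886 (flp_a L213775) q14001, e3 q13887 L212543 q13848, trivial⟩ (by decide +kernel)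

theorem ce_a_217 : ∀ r, r < 64 → sm ga (Qf (13888 + r)) = Qf (tab Gen.a (13888 + r)) :=
  edges_tab (sm ga) Qf (tab Gen.a) 13888 [(13888, 14002), (13889, 13939), (13890, 13744), (13891, 13745), (13892, 13938), (13893, 13747), (13894, 13748), (13895, 13749), (13896, 14003), (13897, 13716), (13898, 13717), (13899, 14015), (13900, 13970), (13901, 13971), (13902, 14004), (13903, 13797), (13904, 13724), (13905, 14019), (13906, 13993), (13907, 13821), (13908, 13863), (13909, 13746), (13910, 13750), (13911, 13913), (13912, 13809), (13913, 13911), (13914, 14005), (13915, 13838), (13916, 13833), (13917, 13834), (13918, 13962), (13919, 13963), (13920, 14011), (13921, 14021), (13922, 14013), (13923, 14014), (13924, 13755), (13925, 13756), (13926, 13820), (13927, 13767), (13928, 13768), (13929, 13856), (13930, 13965), (13931, 14030), (13932, 13788), (13933, 13847), (13934, 13782), (13935, 13783), (13936, 13784), (13937, 13785), (13938, 13892), (13939, 13889), (13940, 13999), (13941, 14033), (13942,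 14034), (13943, 13944), (13944, 13943), (13945, 13791), (13946, 13974), (13947, 13975), (13948, 13865), (13949, 13978), (13950, 14018), (13951, 13840)]
    ⟨e3 q13888 (flp_a L213790) q14002, e3 q13889 (flp_a L213102) q13939, e3 q13890 L212574 q13744, e3 q13891 L212587 q13745, e3 q13892 (flp_a L213086) q13938, e3 q13893 L212613 q13747, e3 q13894 L212624 q13748, e3 q13895 L212636 q13749, e3 q13896 (flp_a L213807) q14003, e3 q13897 L212653 q13716, e3 q13898 L212666 q13717, e3 q13899 (flp_a L213958) q14015, e3 q13900 (flp_a L213447) q13970, e3 q13901 (flp_a L213460) q13971, e3 q13902 (flp_a L213820) q14004, e3 q13903 L212714 q13797, e3 q13904 L212726 q13724, e3 q13905 (flp_a L214002) q14019, e3 q13906 (flp_a L213675) q13993, e3 q13907 L212760 q13821, e3 q13908 L212772 q13863, e3 q13909 L212785 q13746, e3 q13910 L212795 q13750, e3 q13911 (flp_a L212828) q13913, e3 q13912 L212814 q13809, e3 q13913 L212828 q13911, e3 q13914 (flp_a L213833) q14005, e3 q13915 L212845 q13838, e3 q13916 L212857 q13833,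 e3 q13917 L212868 q13834, e3 q13918 (flp_a L213357) q13962, e3 q13919 (flp_a L213370) q13963, e3 q13920 (flp_a L213906) q14011, e3 q13921 (flp_a L214030) q14021, e3 q13922 (flp_a L213933) q14013, e3 q13923 (flp_a L213945) q14014, e3 q13924 L212935 q13755, e3 q13925 L212951 q13756, e3 q13926 L212965 q13820, e3 q13927 L212974 q13767, e3 q13928 L212986 q13768, e3 q13929 L212995 q13856, e3 q13930 (flp_a L213393) q13965, e3 q13931 (flp_a L214135) q14030, e3 q13932 L213024 q13788, e3 q13933 L213033 q13847, e3 q13934 L213042 q13782, e3 q13935 L213054 q13783, e3 q13936 L213065 q13784, e3 q13937 L213077 q13785, e3 q13938 L213086 q13892, e3 q13939 L213102 q13889, e3 q13940 (flp_a L213748) q13999, e3 q13941 (flp_a L214174) q14033, e3 q13942 (flp_a L214187) q14034, e3 q13943 (flp_a L213147) q13944, e3 q13944 L213147 q13943, e3 q13945 L213164 q13791, e3 q13946 (flp_a L213493) q13974, e3 q13947 (flp_a L213508) q13975, e3 q13948 L213207 q13865, e3 q13949 (flp_a L213537) q13978, e3 q13950 (flp_a L213989)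 q14018, e3 q13951 L213240 q13840, trivial⟩ (by decide +kernel)

theorem ce_a_218 : ∀ r, r < 64 → sm ga (Qf (13952 + r)) = Qf (tab Gen.a (13952 + r)) :=
  edges_tab (sm ga) Qf (tab Gen.a) 13952 [(13952, 13841), (13953, 13810), (13954, 13846), (13955, 13811), (13956, 13885), (13957, 14023), (13958, 14042), (13959, 13814), (13960, 13815), (13961, 14045), (13962, 13918), (13963, 13919), (13964, 13988), (13965, 13930), (13966, 14020), (13967, 13997), (13968, 13827), (13969, 13828), (13970, 13900), (13971, 13901), (13972, 14050), (13973, 13860), (13974, 13946), (13975, 13947), (13976, 14026), (13977, 13864), (13978, 13949), (13979, 14025), (13980, 14041), (13981, 13854), (13982, 13855), (13983, 14006), (13984, 14007), (13985, 14043), (13986, 14009), (13987, 14000), (13988, 13964), (13989, 14057), (13990, 14031), (13991, 13859), (13992, 14061), (13993, 13906), (13994, 13998), (13995, 14039), (13996, 13871), (13997, 13967), (13998, 13994), (13999, 13940), (14000, 13987), (14001, 13886), (14002,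 13888), (14003, 13896), (14004, 13902), (14005, 13914), (14006, 13983), (14007, 13984), (14008, 14044), (14009, 13986), (14010, 14036), (14011, 13920), (14012, 14035), (14013, 13922), (14014, 13923), (14015, 13899)]
    ⟨e3 q13952 L213253 q13841, e3 q13953 L213267 q13810, e3 q13954 L213279 q13846, e3 q13955 L213291 q13811, e3 q13956 L213298 q13885, e3 q13957 (flp_a L214054) q14023, e3 q13958 (flp_a L214294) q14042, e3 q13959 L213322 q13814, e3 q13960 L213335 q13815, e3 q13961 (flp_a L214333) q14045, e3 q13962 L213357 q13918, e3 q13963 L213370 q13919, e3 q13964 (flp_a L213630) q13988, e3 q13965 L213393 q13930, e3 q13966 (flp_a L214017) q14020, e3 q13967 (flp_a L213721) q13997, e3 q13968 L213418 q13827, e3 q13969 L213433 q13828, e3 q13970 L213447 q13900, e3 q13971 L213460 q13901, e3 q13972 (flp_a L214386) q14050, e3 q13973 L213484 q13860, e3 q13974 L213493 q13946, e3 q13975 L213508 q13947, e3 q13976 (flp_a L214093) q14026, e3 q13977 L213530 q13864, e3 q13978 L213537 q13949, e3 q13979 (flp_a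 L214080) q14025, e3 q13980 (flp_a L214280) q14041, e3 q13981 L213560 q13854, e3 q13982 L213575 q13855, e3 q13983 (flp_a L213846) q14006, e3 q13984 (flp_a L213859) q14007, e3 q13985 (flp_a L214307) q14043, e3 q13986 (flp_a L213884) q14009, e3 q13987 (flp_a L213761) q14000, e3 q13988 L213630 q13964, e3 q13989 (flp_a L214462) q14057, e3 q13990 (flp_a L214148) q14031, e3 q13991 L213658 q13859, e3 q13992 (flp_a L214505) q14061, e3 q13993 L213675 q13906, e3 q13994 (flp_a L213735) q13998, e3 q13995 (flp_a L214252) q14039, e3 q13996 L213704 q13871, e3 q13997 L213721 q13967, e3 q13998 L213735 q13994, e3 q13999 L213748 q13940, e3 q14000 L213761 q13987, e3 q14001 L213775 q13886, e3 q14002 L213790 q13888, e3 q14003 L213807 q13896, e3 q14004 L213820 q13902, e3 q14005 L213833 q13914, e3 q14006 L213846 q13983, e3 q14007 L213859 q13984, e3 q14008 (flp_a L214320) q14044, e3 q14009 L213884 q13986, e3 q14010 (flp_a L214214) q14036, e3 q14011 L213906 q13920, e3 q14012 (flp_a L214199) q14035, e3 q14013 L213933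 q13922, e3 q14014 L213945 q13923, e3 q14015 L213958 q13899, trivial⟩ (by decide +kernel)

theorem ce_a_219 : ∀ r, r < 64 → sm ga (Qf (14016 + r)) = Qf (tab Gen.a (14016 + r)) :=
  edges_tab (sm ga) Qf (tab Gen.a) 14016 [(14016, 14067), (14017, 14051), (14018, 13950), (14019, 13905), (14020, 13966), (14021, 13921), (14022, 14024), (14023, 13957), (14024, 14022), (14025, 13979), (14026, 13976), (14027, 14047), (14028, 14065), (14029, 14066), (14030, 13931), (14031, 13990), (14032, 14048), (14033, 13941), (14034, 13942), (14035, 14012), (14036, 14010), (14037, 14071), (14038, 14053), (14039, 13995), (14040, 14055), (14041, 13980), (14042, 13958), (14043, 13985), (14044, 14008), (14045, 13961), (14046, 14074), (14047, 14027), (14048, 14032), (14049, 14062), (14050, 13972), (14051, 14017), (14052, 14076), (14053, 14038), (14054, 14069), (14055, 14040), (14056, 14073), (14057, 13989), (14058, 14064), (14059, 14063), (14060, 14079), (14061, 13992), (14062, 14049), (14063, 14059), (14064, 14058),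 (14065, 14028), (14066, 14029), (14067, 14016), (14068, 14077), (14069, 14054), (14070, 14075), (14071, 14037), (14072, 14078), (14073, 14056), (14074, 14046), (14075, 14070), (14076, 14052), (14077, 14068), (14078, 14072), (14079, 14060)]
    ⟨e3 q14016 (flp_a L214589) q14067, e3 q14017 (flp_a L214402) q14051, e3 q14018 L213989 q13950, e3 q14019 L214002 q13905, e3 q14020 L214017 q13966, e3 q14021 L214030 q13921, e3 q14022 (flp_a L214069) q14024, e3 q14023 L214054 q13957, e3 q14024 L214069 q14022, e3 q14025 L214080 q13979, e3 q14026 L214093 q13976, e3 q14027 (flp_a L214354) q14047, e3 q14028 (flp_a L214561) q14065, e3 q14029 (flp_a L214576) q14066, e3 q14030 L214135 q13931, e3 q14031 L214148 q13990, e3 q14032 (flp_a L214368) q14048, e3 q14033 L214174 q13941, e3 q14034 L214187 q13942, e3 q14035 L214199 q14012, e3 q14036 L214214 q14010, e3 q14037 (flp_a L214641) q14071, e3 q14038 (flp_a L214423) q14053, e3 q14039 L214252 q13995, e3 q14040 (flp_a L214446) q14055, e3 q14041 L214280 q13980,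 e3 q14042 L214294 q13958, e3 q14043 L214307 q13985, e3 q14044 L214320 q14008, e3 q14045 L214333 q13961, e3 q14046 (flp_a L214684) q14074, e3 q14047 L214354 q14027, e3 q14048 L214368 q14032, e3 q14049 (flp_a L214516) q14062, e3 q14050 L214386 q13972, e3 q14051 L214402 q14017, e3 q14052 (flp_a L214712) q14076, e3 q14053 L214423 q14038, e3 q14054 (flp_a L214615) q14069, e3 q14055 L214446 q14040, e3 q14056 (flp_a L214669) q14073, e3 q14057 L214462 q13989, e3 q14058 (flp_a L214546) q14064, e3 q14059 (flp_a L214531) q14063, e3 q14060 (flp_a L214757) q14079, e3 q14061 L214505 q13992, e3 q14062 L214516 q14049, e3 q14063 L214531 q14059, e3 q14064 L214546 q14058, e3 q14065 L214561 q14028, e3 q14066 L214576 q14029, e3 q14067 L214589 q14016, e3 q14068 (flp_a L214727) q14077, e3 q14069 L214615 q14054, e3 q14070 (flp_a L214697) q14075, e3 q14071 L214641 q14037, e3 q14072 (flp_a L214742) q14078, e3 q14073 L214669 q14056, e3 q14074 L214684 q14046, e3 q14075 L214697 q14070, e3 q14076 L214712 q14052, e3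 q14077 L214727 q14068, e3 q14078 L214742 q14072, e3 q14079 L214757 q14060, trivial⟩ (by decide +kernel)

theorem cl_a : ∀ i, i < 14080 → sm ga (Qf i) = Qf (tab Gen.a i) :=
  all_of_chunks (fun i => sm ga (Qf i) = Qf (tab Gen.a i)) 220 0
    ⟨ce_a_0, ce_a_1, ce_a_2, ce_a_3, ce_a_4, ce_a_5, ce_a_6, ce_a_7, ce_a_8, ce_a_9, ce_a_10, ce_a_11, ce_a_12, ce_a_13, ce_a_14, ce_a_15, ce_a_16, ce_a_17, ce_a_18, ce_a_19, ce_a_20, ce_a_21, ce_a_22, ce_a_23, ce_a_24, ce_a_25, ce_a_26, ce_a_27, ce_a_28, ce_a_29, ce_a_30, ce_a_31, ce_a_32, ce_a_33, ce_a_34, ce_a_35, ce_a_36, ce_a_37, ce_a_38, ce_a_39, ce_a_40, ce_a_41, ce_a_42, ce_a_43, ce_a_44, ce_a_45, ce_a_46, ce_a_47, ce_a_48, ce_a_49, ce_a_50, ce_a_51, ce_a_52, ce_a_53, ce_a_54, ce_a_55, ce_a_56, ce_a_57, ce_a_58, ce_a_59, ce_a_60, ce_a_61, ce_a_62, ce_a_63, ce_a_64, ce_a_65, ce_a_66, ce_a_67, ce_a_68, ce_a_69, ce_a_70, ce_a_71, ce_a_72, ce_a_73, ce_a_74, ce_a_75, ce_a_76, ce_a_77, ce_a_78, ce_a_79, ce_a_80, ce_a_81, ce_a_82, ce_a_83, ce_a_84, ce_a_85,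 ce_a_86, ce_a_87, ce_a_88, ce_a_89, ce_a_90, ce_a_91, ce_a_92, ce_a_93, ce_a_94, ce_a_95, ce_a_96, ce_a_97, ce_a_98, ce_a_99, ce_a_100, ce_a_101, ce_a_102, ce_a_103, ce_a_104, ce_a_105, ce_a_106, ce_a_107, ce_a_108, ce_a_109, ce_a_110, ce_a_111, ce_a_112, ce_a_113, ce_a_114, ce_a_115, ce_a_116, ce_a_117, ce_a_118, ce_a_119, ce_a_120, ce_a_121, ce_a_122, ce_a_123, ce_a_124, ce_a_125, ce_a_126, ce_a_127, ce_a_128, ce_a_129, ce_a_130, ce_a_131, ce_a_132, ce_a_133, ce_a_134, ce_a_135, ce_a_136, ce_a_137, ce_a_138, ce_a_139, ce_a_140, ce_a_141, ce_a_142, ce_a_143, ce_a_144, ce_a_145, ce_a_146, ce_a_147, ce_a_148, ce_a_149, ce_a_150, ce_a_151, ce_a_152, ce_a_153, ce_a_154, ce_a_155, ce_a_156, ce_a_157, ce_a_158, ce_a_159, ce_a_160, ce_a_161, ce_a_162, ce_a_163, ce_a_164, ce_a_165, ce_a_166, ce_a_167, ce_a_168, ce_a_169, ce_a_170, ce_a_171, ce_a_172, ce_a_173, ce_a_174, ce_a_175, ce_a_176, ce_a_177, ce_a_178, ce_a_179, ce_a_180, ce_a_181, ce_a_182, ce_a_183, ce_a_184, ce_a_185, ce_a_186, ce_a_187,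 ce_a_188, ce_a_189, ce_a_190, ce_a_191, ce_a_192, ce_a_193, ce_a_194, ce_a_195, ce_a_196, ce_a_197, ce_a_198, ce_a_199, ce_a_200, ce_a_201, ce_a_202, ce_a_203, ce_a_204, ce_a_205, ce_a_206, ce_a_207, ce_a_208, ce_a_209, ce_a_210, ce_a_211, ce_a_212, ce_a_213, ce_a_214, ce_a_215, ce_a_216, ce_a_217, ce_a_218, ce_a_219, trivial⟩
    (fun r hr => absurd hr (Nat.not_lt_zero r))


end Cfsg.Agent.Helper28.FibA
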