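import Cfsg.Agent.Helper28.FibC0

/-!
# The Fi₂₂ presentation, cosets of the subgroup generated by b, …, i: the action of the generator b (helper28; generated)
-/

set_option autoImplicit false
set_option maxRecDepth 100000
set_option linter.unusedSimpArgs false
set_option linter.constructorNameAsVariable false

noncomputable section

namespace Cfsg.Agent.Helper28.FibA

open Cfsg.Spor Cfsg.Spor.Fi22 Cfsg.Agent.Helper28.CosetTable

theorem ce_b_0 : ∀ r, r < 64 → sm gb (Qf (0 + r)) = Qf (tab Gen.b (0 + r)) :=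
  edges_tab (sm gb) Qf (tab Gen.b) 0 [(0, 0), (1, 2), (2, 1), (3, 3), (4, 4), (5, 5), (6, 6), (7, 7), (8, 8), (9, 9), (10, 10), (11, 11), (12, 12), (13, 13), (14, 14), (15, 15), (16, 16), (17, 24), (18, 18), (19, 19), (20, 20), (21, 30), (22, 22), (23, 23), (24, 17), (25, 36), (26, 26), (27, 38), (28, 28), (29, 29), (30, 21), (31, 45), (32, 46), (33, 33), (34, 34), (35, 35), (36, 25), (37, 52), (38, 27), (39, 55), (40, 56), (41, 41), (42, 42), (43, 43), (44, 44), (45, 31), (46, 32), (47, 65), (48, 66), (49, 67), (50, 50), (51, 51), (52, 37), (53, 74), (54, 54), (55, 39), (56, 40), (57, 78), (58, 79), (59, 80), (60, 81), (61, 61), (62, 62), (63, 63)]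
    ⟨e3 q0 L0 q0, e3 q1 L17 q2, e3 q2 (flp_b L17) q1, e3 q3 L34 q3, e3 q4 L38 q4, e3 q5 L46 q5, e3 q6 L54 q6, e3 q7 L62 q7, e3 q8 L70 q8, e3 q9 L78 q9, e3 q10 L87 q10, e3 q11 L96 q11, e3 q12 L104 q12, e3 q13 L111 q13, e3 q14 L120 q14, e3 q15 L129 q15, e3 q16 L136 q16, e3 q17 L197 q24, e3 q18 L152 q18, e3 q19 L160 q19, e3 q20 L168 q20, e3 q21 L245 q30, e3 q22 L185 q22, e3 q23 L192 q23, e3 q24 (flp_b L197) q17, e3 q25 (flp_b L293) q36, e3 q26 L215 q26, e3 q27 L307 q38, e3 q28 L231 q28, e3 q29 L239 q29, e3 q30 (flp_b L245) q21, e3 q31 (flp_b L368) q45, e3 q32 (flp_b L375) q46, e3 q33 L270 q33, e3 q34 L278 q34, e3 q35 L290 q35, e3 q36 L293 q25, e3 q37 (flp_b L422) q52, e3 q38 (flp_b L307) q27, e3 q39 (flp_b L446) q55, e3 q40 (flp_b L454) q56, e3 q41 L335 q41, e3 q42 L343 q42, e3 q43 L352 q43, e3 q44 L365 q44, e3 q45 L368 q31, e3 q46 L375 q32, e3 q47 (flp_b L531) q65, e3 q48 (flp_b L537) q66, e3 q49 (flp_b L545) q67, e3 q50 L406 q50, e3 q51 L415 q51, e3 q52 L422 q37, e3 q53 (flp_b L602) q74,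 e3 q54 L443 q54, e3 q55 L446 q39, e3 q56 L454 q40, e3 q57 (flp_b L636) q78, e3 q58 (flp_b L643) q79, e3 q59 (flp_b L651) q80, e3 q60 (flp_b L660) q81, e3 q61 L497 q61, e3 q62 L506 q62, e3 q63 L516 q63, trivial⟩ (by decide +kernel)

theorem ce_b_1 : ∀ r, r < 64 → sm gb (Qf (64 + r)) = Qf (tab Gen.b (64 + r)) :=
  edges_tab (sm gb) Qf (tab Gen.b) 64 [(64, 64), (65, 47), (66, 48), (67, 49), (68, 94), (69, 95), (70, 96), (71, 97), (72, 72), (73, 73), (74, 53), (75, 105), (76, 76), (77, 77), (78, 57), (79, 58), (80, 59), (81, 60), (82, 112), (83, 113), (84, 114), (85, 115), (86, 116), (87, 117), (88, 88), (89, 89), (90, 90), (91, 91), (92, 92), (93, 93), (94, 68), (95, 69), (96, 70), (97, 71), (98, 132), (99, 133), (100, 134), (101, 136), (102, 142), (103, 103), (104, 104), (105, 75), (106, 143), (107, 107), (108, 108), (109, 109), (110, 110), (111, 111), (112, 82), (113, 83), (114, 84), (115, 85), (116, 86), (117, 87), (118, 152), (119, 153), (120, 154), (121, 155), (122, 156), (123, 157),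 (124, 158), (125, 160), (126, 126), (127, 173)]
    ⟨e3 q64 L524 q64, e3 q65 L531 q47, e3 q66 L537 q48, e3 q67 L545 q49, e3 q68 (flp_b L770) q94, e3 q69 (flp_b L783) q95, e3 q70 (flp_b L791) q96, e3 q71 (flp_b L800) q97, e3 q72 L586 q72, e3 q73 L595 q73, e3 q74 L602 q53, e3 q75 (flp_b L854) q105, e3 q76 L619 q76, e3 q77 L628 q77, e3 q78 L636 q57, e3 q79 L643 q58, e3 q80 L651 q59, e3 q81 L660 q60, e3 q82 (flp_b L915) q112, e3 q83 (flp_b L924) q113, e3 q84 (flp_b L934) q114, e3 q85 (flp_b L943) q115, e3 q86 (flp_b L952) q116, e3 q87 (flp_b L962) q117, e3 q88 L722 q88, e3 q89 L731 q89, e3 q90 L741 q90, e3 q91 L748 q91, e3 q92 L757 q92, e3 q93 L766 q93, e3 q94 L770 q68, e3 q95 L783 q69, e3 q96 L791 q70, e3 q97 L800 q71, e3 q98 (flp_b L1089) q132, e3 q99 (flp_b L1098) q133, e3 q100 (flp_b L1104) q134, e3 q101 (flp_b L1118) q136, e3 q102 L1157 q142, e3 q103 L841 q103, e3 q104 L850 q104, e3 q105 L854 q75, e3 q106 (flp_b L1191) q143, e3 q107 L871 q107, e3 q108 L879 q108, e3 q109 L888 q109, e3 q110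 L898 q110, e3 q111 L909 q111, e3 q112 L915 q82, e3 q113 L924 q83, e3 q114 L934 q84, e3 q115 L943 q85, e3 q116 L952 q86, e3 q117 L962 q87, e3 q118 (flp_b L1273) q152, e3 q119 (flp_b L1282) q153, e3 q120 (flp_b L1292) q154, e3 q121 (flp_b L1303) q155, e3 q122 (flp_b L1313) q156, e3 q123 (flp_b L1320) q157, e3 q124 (flp_b L1330) q158, e3 q125 (flp_b L1346) q160, e3 q126 L1035 q126, e3 q127 L1447 q173, trivial⟩ (by decide +kernel)

theorem ce_b_2 : ∀ r, r < 64 → sm gb (Qf (128 + r)) = Qf (tab Gen.b (128 + r)) :=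
  edges_tab (sm gb) Qf (tab Gen.b) 128 [(128, 128), (129, 129), (130, 130), (131, 131), (132, 98), (133, 99), (134, 100), (135, 135), (136, 101), (137, 178), (138, 179), (139, 187), (140, 181), (141, 183), (142, 102), (143, 106), (144, 192), (145, 145), (146, 146), (147, 147), (148, 148), (149, 149), (150, 150), (151, 151), (152, 118), (153, 119), (154, 120), (155, 121), (156, 122), (157, 123), (158, 124), (159, 159), (160, 125), (161, 202), (162, 203), (163, 204), (164, 205), (165, 206), (166, 207), (167, 208), (168, 223), (169, 210), (170, 212), (171, 227), (172, 172), (173, 127), (174, 174), (175, 175), (176, 176), (177, 177), (178, 137), (179, 138), (180, 237), (181, 140), (182, 182), (183, 141), (184, 234), (185, 244), (186, 236), (187, 139), (188, 248), (189, 239), (190, 241), (191, 191)]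
    ⟨e3 q128 L1053 q128, e3 q129 L1062 q129, e3 q130 L1072 q130, e3 q131 L1079 q131, e3 q132 L1089 q98, e3 q133 L1098 q99, e3 q134 L1104 q100, e3 q135 L1114 q135, e3 q136 L1118 q101, e3 q137 (flp_b L1498) q178, e3 q138 (flp_b L1508) q179, e3 q139 L1560 q187, e3 q140 (flp_b L1520) q181, e3 q141 (flp_b L1534) q183, e3 q142 (flp_b L1157) q102, e3 q143 L1191 q106, e3 q144 (flp_b L1637) q192, e3 q145 L1208 q145, e3 q146 L1216 q146, e3 q147 L1226 q147, e3 q148 L1236 q148, e3 q149 L1247 q149, e3 q150 L1255 q150, e3 q151 L1264 q151, e3 q152 L1273 q118, e3 q153 L1282 q119, e3 q154 L1292 q120, e3 q155 L1303 q121, e3 q156 L1313 q122, e3 q157 L1320 q123, e3 q158 L1330 q124, e3 q159 L1342 q159, e3 q160 L1346 q125, e3 q161 (flp_b L1739) q202, e3 q162 (flp_b L1749) q203, e3 q163 (flp_b L1760) q204, e3 q164 (flp_b L1770) q205, e3 q165 (flp_b L1779) q206, e3 q166 (flp_b L1790) q207, e3 q167 (flp_b L1798) q208, e3 q168 L1914 q223, e3 q169 (flp_b L1812) q210, e3 q170 (flp_b L1830) q212, e3 q171 L1945 q227,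 e3 q172 L1441 q172, e3 q173 (flp_b L1447) q127, e3 q174 L1459 q174, e3 q175 L1466 q175, e3 q176 L1482 q176, e3 q177 L1487 q177, e3 q178 L1498 q137, e3 q179 L1508 q138, e3 q180 L2049 q237, e3 q181 L1520 q140, e3 q182 L1527 q182, e3 q183 L1534 q141, e3 q184 (flp_b L2031) q234, e3 q185 L2106 q244, e3 q186 (flp_b L2044) q236, e3 q187 (flp_b L1560) q139, e3 q188 (flp_b L2135) q248, e3 q189 (flp_b L2063) q239, e3 q190 (flp_b L2085) q241, e3 q191 L1595 q191, trivial⟩ (by decide +kernel)

theorem ce_b_3 : ∀ r, r < 64 → sm gb (Qf (192 + r)) = Qf (tab Gen.b (192 + r)) :=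
  edges_tab (sm gb) Qf (tab Gen.b) 192 [(192, 144), (193, 193), (194, 194), (195, 195), (196, 196), (197, 197), (198, 198), (199, 199), (200, 200), (201, 201), (202, 161), (203, 162), (204, 163), (205, 164), (206, 165), (207, 166), (208, 167), (209, 272), (210, 169), (211, 211), (212, 170), (213, 262), (214, 263), (215, 264), (216, 265), (217, 266), (218, 267), (219, 287), (220, 269), (221, 290), (222, 271), (223, 168), (224, 294), (225, 274), (226, 277), (227, 171), (228, 298), (229, 229), (230, 230), (231, 302), (232, 232), (233, 233), (234, 184), (235, 308), (236, 186), (237, 180), (238, 312), (239, 189), (240, 240), (241, 190), (242, 317), (243, 307), (244, 185), (245, 321), (246, 310), (247, 247), (248, 188), (249, 326), (250, 315), (251, 251), (252, 252), (253, 253), (254, 254), (255, 334)]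
    ⟨e3 q192 L1637 q144, e3 q193 L1647 q193, e3 q194 L1655 q194, e3 q195 L1665 q195, e3 q196 L1673 q196, e3 q197 L1684 q197, e3 q198 L1702 q198, e3 q199 L1709 q199, e3 q200 L1718 q200, e3 q201 L1727 q201, e3 q202 L1739 q161, e3 q203 L1749 q162, e3 q204 L1760 q163, e3 q205 L1770 q164, e3 q206 L1779 q165, e3 q207 L1790 q166, e3 q208 L1798 q167, e3 q209 L2420 q272, e3 q210 L1812 q169, e3 q211 L1821 q211, e3 q212 L1830 q170, e3 q213 (flp_b L2331) q262, e3 q214 (flp_b L2342) q263, e3 q215 (flp_b L2352) q264, e3 q216 (flp_b L2362) q265, e3 q217 (flp_b L2373) q266, e3 q218 (flp_b L2384) q267, e3 q219 L2541 q287, e3 q220 (flp_b L2399) q269, e3 q221 L2563 q290, e3 q222 (flp_b L2415) q271, e3 q223 (flp_b L1914) q168, e3 q224 (flp_b L2595) q294, e3 q225 (flp_b L2437) q274, e3 q226 (flp_b L2459) q277, e3 q227 (flp_b L1945) q171, e3 q228 (flp_b L2627) q298, e3 q229 L1970 q229, e3 q230 L1975 q230, e3 q231 L2656 q302, e3 q232 L1990 q232, e3 q233 L2022 q233, e3 q234 L2031 q184, e3 q235 L2746 q308, e3 q236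 L2044 q186, e3 q237 (flp_b L2049) q180, e3 q238 (flp_b L2776) q312, e3 q239 L2063 q189, e3 q240 L2071 q240, e3 q241 L2085 q190, e3 q242 L2821 q317, e3 q243 (flp_b L2740) q307, e3 q244 (flp_b L2106) q185, e3 q245 (flp_b L2853) q321, e3 q246 (flp_b L2761) q310, e3 q247 L2132 q247, e3 q248 L2135 q188, e3 q249 (flp_b L2887) q326, e3 q250 (flp_b L2795) q315, e3 q251 L2214 q251, e3 q252 L2224 q252, e3 q253 L2232 q253, e3 q254 L2241 q254, e3 q255 L3024 q334, trivial⟩ (by decide +kernel)

theorem ce_b_4 : ∀ r, r < 64 → sm gb (Qf (256 + r)) = Qf (tab Gen.b (256 + r)) :=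
  edges_tab (sm gb) Qf (tab Gen.b) 256 [(256, 256), (257, 257), (258, 258), (259, 259), (260, 260), (261, 261), (262, 213), (263, 214), (264, 215), (265, 216), (266, 217), (267, 218), (268, 350), (269, 220), (270, 353), (271, 222), (272, 209), (273, 357), (274, 225), (275, 275), (276, 276), (277, 226), (278, 278), (279, 342), (280, 343), (281, 344), (282, 345), (283, 370), (284, 347), (285, 373), (286, 349), (287, 219), (288, 377), (289, 352), (290, 221), (291, 382), (292, 355), (293, 293), (294, 224), (295, 387), (296, 360), (297, 297), (298, 228), (299, 390), (300, 392), (301, 301), (302, 231), (303, 395), (304, 396), (305, 305), (306, 399), (307, 243), (308, 235), (309, 403), (310, 246), (311, 394), (312, 238), (313, 408), (314, 409), (315, 250), (316, 316), (317, 242), (318, 413), (319, 401)]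
    ⟨e3 q256 L2258 q256, e3 q257 L2288 q257, e3 q258 L2294 q258, e3 q259 L2302 q259, e3 q260 L2311 q260, e3 q261 L2321 q261, e3 q262 L2331 q213, e3 q263 L2342 q214, e3 q264 L2352 q215, e3 q265 L2362 q216, e3 q266 L2373 q217, e3 q267 L2384 q218, e3 q268 L3214 q350, e3 q269 L2399 q220, e3 q270 L3237 q353, e3 q271 L2415 q222, e3 q272 (flp_b L2420) q209, e3 q273 (flp_b L3270) q357, e3 q274 L2437 q225, e3 q275 L2444 q275, e3 q276 L2451 q276, e3 q277 L2459 q226, e3 q278 L2473 q278, e3 q279 (flp_b L3136) q342, e3 q280 (flp_b L3148) q343, e3 q281 (flp_b L3160) q344, e3 q282 (flp_b L3169) q345, e3 q283 L3377 q370, e3 q284 (flp_b L3186) q347, e3 q285 L3400 q373, e3 q286 (flp_b L3206) q349, e3 q287 (flp_b L2541) q219, e3 q288 (flp_b L3435) q377, e3 q289 (flp_b L3232) q352, e3 q290 (flp_b L2563) q221, e3 q291 (flp_b L3475) q382, e3 q292 (flp_b L3254) q355, e3 q293 L2592 q293, e3 q294 L2595 q224, e3 q295 (flp_b L3514) q387, e3 q296 (flp_b L3292) q360, e3 q297 L2624 q297, e3 q298 L2627 q228, e3 q299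 (flp_b L3539) q390, e3 q300 L3551 q392, e3 q301 L2652 q301, e3 q302 (flp_b L2656) q231, e3 q303 (flp_b L3584) q395, e3 q304 L3653 q396, e3 q305 L2721 q305, e3 q306 L3677 q399, e3 q307 L2740 q243, e3 q308 (flp_b L2746) q235, e3 q309 (flp_b L3716) q403, e3 q310 L2761 q246, e3 q311 (flp_b L3580) q394, e3 q312 L2776 q238, e3 q313 (flp_b L3749) q408, e3 q314 (flp_b L3756) q409, e3 q315 L2795 q250, e3 q316 L2809 q316, e3 q317 (flp_b L2821) q242, e3 q318 (flp_b L3815) q413, e3 q319 (flp_b L3700) q401, trivial⟩ (by decide +kernel)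

theorem ce_b_5 : ∀ r, r < 64 → sm gb (Qf (320 + r)) = Qf (tab Gen.b (320 + r)) :=
  edges_tab (sm gb) Qf (tab Gen.b) 320 [(320, 320), (321, 245), (322, 418), (323, 419), (324, 406), (325, 325), (326, 249), (327, 423), (328, 328), (329, 329), (330, 427), (331, 331), (332, 430), (333, 333), (334, 255), (335, 434), (336, 336), (337, 337), (338, 338), (339, 339), (340, 440), (341, 341), (342, 279), (343, 280), (344, 281), (345, 282), (346, 449), (347, 284), (348, 452), (349, 286), (350, 268), (351, 456), (352, 289), (353, 270), (354, 461), (355, 292), (356, 433), (357, 273), (358, 466), (359, 467), (360, 296), (361, 361), (362, 362), (363, 363), (364, 443), (365, 444), (366, 478), (367, 446), (368, 481), (369, 448), (370, 283), (371, 485), (372, 451), (373, 285), (374, 490), (375, 454), (376, 376), (377, 288), (378, 495), (379, 496), (380, 459), (381, 381), (382, 291), (383, 500)]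
    ⟨e3 q320 L2850 q320, e3 q321 L2853 q245, e3 q322 (flp_b L3853) q418, e3 q323 (flp_b L3859) q419, e3 q324 (flp_b L3734) q406, e3 q325 L2882 q325, e3 q326 L2887 q249, e3 q327 (flp_b L3889) q423, e3 q328 L2974 q328, e3 q329 L2983 q329, e3 q330 L4015 q427, e3 q331 L3001 q331, e3 q332 L4040 q430, e3 q333 L3020 q333, e3 q334 (flp_b L3024) q255, e3 q335 (flp_b L4076) q434, e3 q336 L3044 q336, e3 q337 L3087 q337, e3 q338 L3096 q338, e3 q339 L3107 q339, e3 q340 L4185 q440, e3 q341 L3125 q341, e3 q342 L3136 q279, e3 q343 L3148 q280, e3 q344 L3160 q281, e3 q345 L3169 q282, e3 q346 L4267 q449, e3 q347 L3186 q284, e3 q348 L4291 q452, e3 q349 L3206 q286, e3 q350 (flp_b L3214) q268, e3 q351 (flp_b L4333) q456, e3 q352 L3232 q289, e3 q353 (flp_b L3237) q270, e3 q354 (flp_b L4372) q461, e3 q355 L3254 q292, e3 q356 (flp_b L4072) q433, e3 q357 L3270 q273, e3 q358 (flp_b L4411) q466, e3 q359 (flp_b L4420) q467, e3 q360 L3292 q296, e3 q361 L3301 q361, e3 q362 L3307 q362, e3 q363 L3325 q363, e3 q364 (flp_b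 L4215) q443, e3 q365 (flp_b L4226) q444, e3 q366 L4508 q478, e3 q367 (flp_b L4239) q446, e3 q368 L4528 q481, e3 q369 (flp_b L4261) q448, e3 q370 (flp_b L3377) q283, e3 q371 (flp_b L4565) q485, e3 q372 (flp_b L4285) q451, e3 q373 (flp_b L3400) q285, e3 q374 (flp_b L4603) q490, e3 q375 (flp_b L4317) q454, e3 q376 L3432 q376, e3 q377 L3435 q288, e3 q378 (flp_b L4647) q495, e3 q379 (flp_b L4655) q496, e3 q380 (flp_b L4354) q459, e3 q381 L3472 q381, e3 q382 L3475 q291, e3 q383 (flp_b L4684) q500, trivial⟩ (by decide +kernel)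

theorem ce_b_6 : ∀ r, r < 64 → sm gb (Qf (384 + r)) = Qf (tab Gen.b (384 + r)) :=
  edges_tab (sm gb) Qf (tab Gen.b) 384 [(384, 501), (385, 464), (386, 386), (387, 295), (388, 506), (389, 389), (390, 299), (391, 509), (392, 300), (393, 512), (394, 311), (395, 303), (396, 304), (397, 516), (398, 398), (399, 306), (400, 520), (401, 319), (402, 511), (403, 309), (404, 525), (405, 526), (406, 324), (407, 514), (408, 313), (409, 314), (410, 532), (411, 533), (412, 412), (413, 318), (414, 535), (415, 536), (416, 523), (417, 417), (418, 322), (419, 323), (420, 543), (421, 544), (422, 422), (423, 327), (424, 424), (425, 550), (426, 426), (427, 330), (428, 554), (429, 429), (430, 332), (431, 558), (432, 432), (433, 356), (434, 335), (435, 562), (436, 436), (437, 437), (438, 566), (439, 439), (440, 340), (441, 570), (442, 442), (443, 364), (444, 365), (445, 577), (446, 367), (447, 580)]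
    ⟨e3 q384 (flp_b L4692) q501, e3 q385 (flp_b L4393) q464, e3 q386 L3507 q386, e3 q387 L3514 q295, e3 q388 (flp_b L4730) q506, e3 q389 L3531 q389, e3 q390 L3539 q299, e3 q391 (flp_b L4753) q509, e3 q392 (flp_b L3551) q300, e3 q393 (flp_b L4776) q512, e3 q394 L3580 q311, e3 q395 L3584 q303, e3 q396 (flp_b L3653) q304, e3 q397 (flp_b L4920) q516, e3 q398 L3671 q398, e3 q399 (flp_b L3677) q306, e3 q400 (flp_b L4963) q520, e3 q401 L3700 q319, e3 q402 (flp_b L4772) q511, e3 q403 L3716 q309, e3 q404 (flp_b L5010) q525, e3 q405 (flp_b L5014) q526, e3 q406 L3734 q324, e3 q407 (flp_b L4808) q514, e3 q408 L3749 q313, e3 q409 L3756 q314, e3 q410 (flp_b L5063) q532, e3 q411 (flp_b L5069) q533, e3 q412 L3812 q412, e3 q413 L3815 q318, e3 q414 (flp_b L5138) q535, e3 q415 (flp_b L5145) q536, e3 q416 (flp_b L4993) q523, e3 q417 L3848 q417, e3 q418 L3853 q322, e3 q419 L3859 q323, e3 q420 (flp_b L5197) q543, e3 q421 (flp_b L5204) q544, e3 q422 L3883 q422, e3 q423 L3889 q327, e3 q424 L3994 q424, e3 q425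 L5367 q550, e3 q426 L4011 q426, e3 q427 (flp_b L4015) q330, e3 q428 (flp_b L5404) q554, e3 q429 L4036 q429, e3 q430 (flp_b L4040) q332, e3 q431 (flp_b L5448) q558, e3 q432 L4060 q432, e3 q433 L4072 q356, e3 q434 L4076 q335, e3 q435 (flp_b L5500) q562, e3 q436 L4155 q436, e3 q437 L4163 q437, e3 q438 L5623 q566, e3 q439 L4180 q439, e3 q440 (flp_b L4185) q340, e3 q441 (flp_b L5662) q570, e3 q442 L4206 q442, e3 q443 L4215 q364, e3 q444 L4226 q365, e3 q445 L5727 q577, e3 q446 L4239 q367, e3 q447 L5748 q580, trivial⟩ (by decide +kernel)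

theorem ce_b_7 : ∀ r, r < 64 → sm gb (Qf (448 + r)) = Qf (tab Gen.b (448 + r)) :=
  edges_tab (sm gb) Qf (tab Gen.b) 448 [(448, 369), (449, 346), (450, 584), (451, 372), (452, 348), (453, 589), (454, 375), (455, 553), (456, 351), (457, 594), (458, 595), (459, 380), (460, 557), (461, 354), (462, 600), (463, 601), (464, 385), (465, 561), (466, 358), (467, 359), (468, 607), (469, 608), (470, 609), (471, 471), (472, 472), (473, 473), (474, 474), (475, 574), (476, 617), (477, 576), (478, 366), (479, 621), (480, 579), (481, 368), (482, 626), (483, 582), (484, 484), (485, 371), (486, 631), (487, 632), (488, 587), (489, 489), (490, 374), (491, 637), (492, 638), (493, 592), (494, 494), (495, 378), (496, 379), (497, 645), (498, 646), (499, 499), (500, 383), (501, 384), (502, 652), (503, 653), (504, 654), (505, 505), (506, 388), (507, 507), (508, 508), (509, 391), (510, 662), (511, 402)]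
    ⟨e3 q448 L4261 q369, e3 q449 (flp_b L4267) q346, e3 q450 (flp_b L5792) q584, e3 q451 L4285 q372, e3 q452 (flp_b L4291) q348, e3 q453 (flp_b L5834) q589, e3 q454 L4317 q375, e3 q455 (flp_b L5400) q553, e3 q456 L4333 q351, e3 q457 (flp_b L5887) q594, e3 q458 (flp_b L5893) q595, e3 q459 L4354 q380, e3 q460 (flp_b L5444) q557, e3 q461 L4372 q354, e3 q462 (flp_b L5929) q600, e3 q463 (flp_b L5936) q601, e3 q464 L4393 q385, e3 q465 (flp_b L5484) q561, e3 q466 L4411 q358, e3 q467 L4420 q359, e3 q468 (flp_b L5980) q607, e3 q469 (flp_b L5988) q608, e3 q470 (flp_b L5996) q609, e3 q471 L4448 q471, e3 q472 L4462 q472, e3 q473 L4468 q473, e3 q474 L4477 q474, e3 q475 (flp_b L5699) q574, e3 q476 L6084 q617, e3 q477 (flp_b L5720) q576, e3 q478 (flp_b L4508) q366, e3 q479 (flp_b L6116) q621, e3 q480 (flp_b L5742) q579, e3 q481 (flp_b L4528) q368, e3 q482 (flp_b L6154) q626, e3 q483 (flp_b L5774) q582, e3 q484 L4562 q484, e3 q485 L4565 q371, e3 q486 (flp_b L6196) q631, e3 q487 (flp_b L6202) q632, e3 q488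 (flp_b L5812) q587, e3 q489 L4600 q489, e3 q490 L4603 q374, e3 q491 (flp_b L6242) q637, e3 q492 (flp_b L6251) q638, e3 q493 (flp_b L5867) q592, e3 q494 L4640 q494, e3 q495 L4647 q378, e3 q496 L4655 q379, e3 q497 (flp_b L6308) q645, e3 q498 (flp_b L6315) q646, e3 q499 L4679 q499, e3 q500 L4684 q383, e3 q501 L4692 q384, e3 q502 (flp_b L6362) q652, e3 q503 (flp_b L6370) q653, e3 q504 (flp_b L6377) q654, e3 q505 L4725 q505, e3 q506 L4730 q388, e3 q507 L4740 q507, e3 q508 L4749 q508, e3 q509 L4753 q391, e3 q510 (flp_b L6441) q662, e3 q511 L4772 q402, trivial⟩ (by decide +kernel)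

theorem ce_b_8 : ∀ r, r < 64 → sm gb (Qf (512 + r)) = Qf (tab Gen.b (512 + r)) :=
  edges_tab (sm gb) Qf (tab Gen.b) 512 [(512, 393), (513, 664), (514, 407), (515, 519), (516, 397), (517, 666), (518, 667), (519, 515), (520, 400), (521, 671), (522, 672), (523, 416), (524, 663), (525, 404), (526, 405), (527, 679), (528, 680), (529, 681), (530, 531), (531, 530), (532, 410), (533, 411), (534, 534), (535, 414), (536, 415), (537, 688), (538, 689), (539, 690), (540, 540), (541, 541), (542, 542), (543, 420), (544, 421), (545, 698), (546, 699), (547, 547), (548, 701), (549, 549), (550, 425), (551, 705), (552, 552), (553, 455), (554, 428), (555, 709), (556, 710), (557, 460), (558, 431), (559, 713), (560, 714), (561, 465), (562, 435), (563, 563), (564, 720), (565, 565), (566, 438), (567, 724), (568, 568), (569, 588), (570, 441), (571, 729), (572, 730), (573, 573), (574, 475), (575, 736)]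
    ⟨e3 q512 L4776 q393, e3 q513 (flp_b L6458) q664, e3 q514 L4808 q407, e3 q515 (flp_b L4959) q519, e3 q516 L4920 q397, e3 q517 (flp_b L6655) q666, e3 q518 (flp_b L6663) q667, e3 q519 L4959 q515, e3 q520 L4963 q400, e3 q521 (flp_b L6704) q671, e3 q522 (flp_b L6712) q672, e3 q523 L4993 q416, e3 q524 (flp_b L6451) q663, e3 q525 L5010 q404, e3 q526 L5014 q405, e3 q527 (flp_b L6767) q679, e3 q528 (flp_b L6773) q680, e3 q529 (flp_b L6779) q681, e3 q530 L109799 q531, e3 q531 (flp_b L109799) q530, e3 q532 L5063 q410, e3 q533 L5069 q411, e3 q534 L5132 q534, e3 q535 L5138 q414, e3 q536 L5145 q415, e3 q537 (flp_b L6947) q688, e3 q538 (flp_b L6955) q689, e3 q539 (flp_b L6962) q690, e3 q540 L5179 q540, e3 q541 L5186 q541, e3 q542 L5194 q542, e3 q543 L5197 q420, e3 q544 L5204 q421, e3 q545 (flp_b L7022) q698, e3 q546 (flp_b L7029) q699, e3 q547 L5227 q547, e3 q548 L7194 q701, e3 q549 L5362 q549, e3 q550 (flp_b L5367) q425, e3 q551 (flp_b L7229) q705, e3 q552 L5388 q552, e3 q553 L5400 q455, e3 q554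 L5404 q428, e3 q555 (flp_b L7273) q709, e3 q556 (flp_b L7279) q710, e3 q557 L5444 q460, e3 q558 L5448 q431, e3 q559 (flp_b L7321) q713, e3 q560 (flp_b L7328) q714, e3 q561 L5484 q465, e3 q562 L5500 q435, e3 q563 L5601 q563, e3 q564 L7544 q720, e3 q565 L5617 q565, e3 q566 (flp_b L5623) q438, e3 q567 (flp_b L7581) q724, e3 q568 L5644 q568, e3 q569 (flp_b L5830) q588, e3 q570 L5662 q441, e3 q571 (flp_b L7625) q729, e3 q572 (flp_b L7635) q730, e3 q573 L5688 q573, e3 q574 L5699 q475, e3 q575 L7686 q736, trivial⟩ (by decide +kernel)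

theorem ce_b_9 : ∀ r, r < 64 → sm gb (Qf (576 + r)) = Qf (tab Gen.b (576 + r)) :=
  edges_tab (sm gb) Qf (tab Gen.b) 576 [(576, 477), (577, 445), (578, 740), (579, 480), (580, 447), (581, 745), (582, 483), (583, 704), (584, 450), (585, 750), (586, 751), (587, 488), (588, 569), (589, 453), (590, 756), (591, 757), (592, 493), (593, 708), (594, 457), (595, 458), (596, 764), (597, 765), (598, 766), (599, 712), (600, 462), (601, 463), (602, 774), (603, 775), (604, 776), (605, 684), (606, 717), (607, 468), (608, 469), (609, 470), (610, 784), (611, 785), (612, 786), (613, 613), (614, 614), (615, 791), (616, 735), (617, 476), (618, 795), (619, 738), (620, 620), (621, 479), (622, 800), (623, 801), (624, 743), (625, 625), (626, 482), (627, 806), (628, 807), (629, 748), (630, 630), (631, 486), (632, 487), (633, 814), (634, 815), (635, 816), (636, 636), (637, 491), (638, 492), (639, 824)]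
    ⟨e3 q576 L5720 q477, e3 q577 (flp_b L5727) q445, e3 q578 (flp_b L7725) q740, e3 q579 L5742 q480, e3 q580 (flp_b L5748) q447, e3 q581 (flp_b L7767) q745, e3 q582 L5774 q483, e3 q583 (flp_b L7225) q704, e3 q584 L5792 q450, e3 q585 (flp_b L7818) q750, e3 q586 (flp_b L7823) q751, e3 q587 L5812 q488, e3 q588 L5830 q569, e3 q589 L5834 q453, e3 q590 (flp_b L7864) q756, e3 q591 (flp_b L7874) q757, e3 q592 L5867 q493, e3 q593 (flp_b L7264) q708, e3 q594 L5887 q457, e3 q595 L5893 q458, e3 q596 (flp_b L7934) q764, e3 q597 (flp_b L7940) q765, e3 q598 (flp_b L7948) q766, e3 q599 (flp_b L7314) q712, e3 q600 L5929 q462, e3 q601 L5936 q463, e3 q602 (flp_b L8006) q774, e3 q603 (flp_b L8013) q775, e3 q604 (flp_b L8019) q776, e3 q605 (flp_b L109944) q684, e3 q606 (flp_b L7373) q717, e3 q607 L5980 q468, e3 q608 L5988 q469, e3 q609 L5996 q470, e3 q610 (flp_b L8079) q784, e3 q611 (flp_b L8096) q785, e3 q612 (flp_b L8103) q786, e3 q613 L6041 q613, e3 q614 L6063 q614, e3 q615 L8193 q791, e3 q616 (flp_b L7679)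 q735, e3 q617 (flp_b L6084) q476, e3 q618 (flp_b L8227) q795, e3 q619 (flp_b L7709) q738, e3 q620 L6113 q620, e3 q621 L6116 q479, e3 q622 (flp_b L8267) q800, e3 q623 (flp_b L8273) q801, e3 q624 (flp_b L7744) q743, e3 q625 L6151 q625, e3 q626 L6154 q482, e3 q627 (flp_b L8311) q806, e3 q628 (flp_b L8319) q807, e3 q629 (flp_b L7799) q748, e3 q630 L6190 q630, e3 q631 L6196 q486, e3 q632 L6202 q487, e3 q633 (flp_b L8372) q814, e3 q634 (flp_b L8378) q815, e3 q635 (flp_b L8386) q816, e3 q636 L6234 q636, e3 q637 L6242 q491, e3 q638 L6251 q492, e3 q639 (flp_b L8447) q824, trivial⟩ (by decide +kernel)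

theorem ce_b_10 : ∀ r, r < 64 → sm gb (Qf (640 + r)) = Qf (tab Gen.b (640 + r)) :=
  edges_tab (sm gb) Qf (tab Gen.b) 640 [(640, 825), (641, 826), (642, 642), (643, 643), (644, 644), (645, 497), (646, 498), (647, 834), (648, 835), (649, 649), (650, 650), (651, 651), (652, 502), (653, 503), (654, 504), (655, 843), (656, 844), (657, 845), (658, 658), (659, 848), (660, 660), (661, 661), (662, 510), (663, 524), (664, 513), (665, 670), (666, 517), (667, 518), (668, 858), (669, 859), (670, 665), (671, 521), (672, 522), (673, 865), (674, 866), (675, 867), (676, 853), (677, 683), (678, 678), (679, 527), (680, 528), (681, 529), (682, 875), (683, 677), (684, 605), (685, 685), (686, 686), (687, 687), (688, 537), (689, 538), (690, 539), (691, 882), (692, 883), (693, 884), (694, 888), (695, 695), (696, 696), (697, 697), (698, 545), (699, 546), (700, 894), (701, 548), (702, 897), (703, 703)]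
    ⟨e3 q640 (flp_b L8455) q825, e3 q641 (flp_b L8464) q826, e3 q642 L6287 q642, e3 q643 L6296 q643, e3 q644 L6305 q644, e3 q645 L6308 q497, e3 q646 L6315 q498, e3 q647 (flp_b L8529) q834, e3 q648 (flp_b L8535) q835, e3 q649 L6340 q649, e3 q650 L6349 q650, e3 q651 L6359 q651, e3 q652 L6362 q502, e3 q653 L6370 q503, e3 q654 L6377 q504, e3 q655 (flp_b L8600) q843, e3 q656 (flp_b L8609) q844, e3 q657 (flp_b L8616) q845, e3 q658 L6411 q658, e3 q659 L8638 q848, e3 q660 L6428 q660, e3 q661 L6434 q661, e3 q662 L6441 q510, e3 q663 L6451 q524, e3 q664 L6458 q513, e3 q665 (flp_b L6695) q670, e3 q666 L6655 q517, e3 q667 L6663 q518, e3 q668 (flp_b L8992) q858, e3 q669 (flp_b L9000) q859, e3 q670 L6695 q665, e3 q671 L6704 q521, e3 q672 L6712 q522, e3 q673 (flp_b L9076) q865, e3 q674 (flp_b L9084) q866, e3 q675 (flp_b L9091) q867, e3 q676 (flp_b L8682) q853, e3 q677 L111579 q683, e3 q678 L6762 q678, e3 q679 L6767 q527, e3 q680 L6773 q528, e3 q681 L6779 q529, e3 q682 (flp_b L9183) q875, e3 q683 (flp_b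 L111579) q677, e3 q684 L109944 q605, e3 q685 L6926 q685, e3 q686 L6934 q686, e3 q687 L6944 q687, e3 q688 L6947 q537, e3 q689 L6955 q538, e3 q690 L6962 q539, e3 q691 (flp_b L9406) q882, e3 q692 (flp_b L9414) q883, e3 q693 (flp_b L9422) q884, e3 q694 L9453 q888, e3 q695 L7002 q695, e3 q696 L7010 q696, e3 q697 L7016 q697, e3 q698 L7022 q545, e3 q699 L7029 q546, e3 q700 (flp_b L9497) q894, e3 q701 (flp_b L7194) q548, e3 q702 (flp_b L9719) q897, e3 q703 L7212 q703, trivial⟩ (by decide +kernel)

theorem ce_b_11 : ∀ r, r < 64 → sm gb (Qf (704 + r)) = Qf (tab Gen.b (704 + r)) :=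
  edges_tab (sm gb) Qf (tab Gen.b) 704 [(704, 583), (705, 551), (706, 901), (707, 902), (708, 593), (709, 555), (710, 556), (711, 908), (712, 599), (713, 559), (714, 560), (715, 913), (716, 914), (717, 606), (718, 917), (719, 719), (720, 564), (721, 921), (722, 722), (723, 744), (724, 567), (725, 926), (726, 927), (727, 727), (728, 755), (729, 571), (730, 572), (731, 934), (732, 935), (733, 936), (734, 941), (735, 616), (736, 575), (737, 945), (738, 619), (739, 896), (740, 578), (741, 950), (742, 951), (743, 624), (744, 723), (745, 581), (746, 956), (747, 957), (748, 629), (749, 900), (750, 585), (751, 586), (752, 964), (753, 965), (754, 966), (755, 728), (756, 590), (757, 591), (758, 974), (759, 975), (760, 976), (761, 905), (762, 906), (763, 763), (764, 596), (765, 597), (766, 598), (767, 987)]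
    ⟨e3 q704 L7225 q583, e3 q705 L7229 q551, e3 q706 (flp_b L9761) q901, e3 q707 (flp_b L9766) q902, e3 q708 L7264 q593, e3 q709 L7273 q555, e3 q710 L7279 q556, e3 q711 (flp_b L9822) q908, e3 q712 L7314 q599, e3 q713 L7321 q559, e3 q714 L7328 q560, e3 q715 (flp_b L9903) q913, e3 q716 (flp_b L9910) q914, e3 q717 L7373 q606, e3 q718 L10194 q917, e3 q719 L7538 q719, e3 q720 (flp_b L7544) q564, e3 q721 (flp_b L10230) q921, e3 q722 L7562 q722, e3 q723 (flp_b L7763) q744, e3 q724 L7581 q567, e3 q725 (flp_b L10272) q926, e3 q726 (flp_b L10281) q927, e3 q727 L7606 q727, e3 q728 (flp_b L7853) q755, e3 q729 L7625 q571, e3 q730 L7635 q572, e3 q731 (flp_b L10341) q934, e3 q732 (flp_b L10349) q935, e3 q733 (flp_b L10358) q936, e3 q734 L10398 q941, e3 q735 L7679 q616, e3 q736 (flp_b L7686) q575, e3 q737 (flp_b L10443) q945, e3 q738 L7709 q619, e3 q739 (flp_b L9715) q896, e3 q740 L7725 q578, e3 q741 (flp_b L10492) q950, e3 q742 (flp_b L10497) q951, e3 q743 L7744 q624, e3 q744 L7763 q723, e3 q745 L7767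 q581, e3 q746 (flp_b L10536) q956, e3 q747 (flp_b L10545) q957, e3 q748 L7799 q629, e3 q749 (flp_b L9753) q900, e3 q750 L7818 q585, e3 q751 L7823 q586, e3 q752 (flp_b L10604) q964, e3 q753 (flp_b L10610) q965, e3 q754 (flp_b L10617) q966, e3 q755 L7853 q728, e3 q756 L7864 q590, e3 q757 L7874 q591, e3 q758 (flp_b L10682) q974, e3 q759 (flp_b L10690) q975, e3 q760 (flp_b L10699) q976, e3 q761 (flp_b L9801) q905, e3 q762 (flp_b L9809) q906, e3 q763 L7929 q763, e3 q764 L7934 q596, e3 q765 L7940 q597, e3 q766 L7948 q598, e3 q767 (flp_b L10797) q987, trivial⟩ (by decide +kernel)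

theorem ce_b_12 : ∀ r, r < 64 → sm gb (Qf (768 + r)) = Qf (tab Gen.b (768 + r)) :=
  edges_tab (sm gb) Qf (tab Gen.b) 768 [(768, 988), (769, 989), (770, 990), (771, 910), (772, 911), (773, 773), (774, 602), (775, 603), (776, 604), (777, 999), (778, 1000), (779, 1001), (780, 1002), (781, 783), (782, 872), (783, 781), (784, 610), (785, 611), (786, 612), (787, 1009), (788, 788), (789, 1012), (790, 790), (791, 615), (792, 1016), (793, 943), (794, 794), (795, 618), (796, 1021), (797, 1022), (798, 948), (799, 799), (800, 622), (801, 623), (802, 1029), (803, 1030), (804, 1031), (805, 805), (806, 627), (807, 628), (808, 1039), (809, 1040), (810, 1041), (811, 811), (812, 812), (813, 1028), (814, 633), (815, 634), (816, 635), (817, 1052), (818, 1053), (819, 1054), (820, 1055), (821, 821), (822, 822), (823, 823), (824, 639), (825, 640), (826, 641), (827, 1066), (828, 1067), (829, 1068), (830, 1072), (831, 831)]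
    ⟨e3 q768 (flp_b L10801) q988, e3 q769 (flp_b L10809) q989, e3 q770 (flp_b L10817) q990, e3 q771 (flp_b L9879) q910, e3 q772 (flp_b L9888) q911, e3 q773 L8001 q773, e3 q774 L8006 q602, e3 q775 L8013 q603, e3 q776 L8019 q604, e3 q777 (flp_b L10898) q999, e3 q778 (flp_b L10906) q1000, e3 q779 (flp_b L10914) q1001, e3 q780 (flp_b L10920) q1002, e3 q781 L109773 q783, e3 q782 (flp_b L111559) q872, e3 q783 (flp_b L109773) q781, e3 q784 L8079 q610, e3 q785 L8096 q611, e3 q786 L8103 q612, e3 q787 (flp_b L10994) q1009, e3 q788 L8156 q788, e3 q789 L11088 q1012, e3 q790 L8188 q790, e3 q791 (flp_b L8193) q615, e3 q792 (flp_b L11123) q1016, e3 q793 (flp_b L10422) q943, e3 q794 L8224 q794, e3 q795 L8227 q618, e3 q796 (flp_b L11163) q1021, e3 q797 (flp_b L11171) q1022, e3 q798 (flp_b L10474) q948, e3 q799 L8262 q799, e3 q800 L8267 q622, e3 q801 L8273 q623, e3 q802 (flp_b L11223) q1029, e3 q803 (flp_b L11229) q1030, e3 q804 (flp_b L11236) q1031, e3 q805 L8304 q805, e3 q806 L8311 q627, e3 q807 L8319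 q628, e3 q808 (flp_b L11299) q1039, e3 q809 (flp_b L11307) q1040, e3 q810 (flp_b L11314) q1041, e3 q811 L8354 q811, e3 q812 L8361 q812, e3 q813 (flp_b L11219) q1028, e3 q814 L8372 q633, e3 q815 L8378 q634, e3 q816 L8386 q635, e3 q817 (flp_b L11396) q1052, e3 q818 (flp_b L11403) q1053, e3 q819 (flp_b L11410) q1054, e3 q820 (flp_b L11418) q1055, e3 q821 L8423 q821, e3 q822 L8433 q822, e3 q823 L8444 q823, e3 q824 L8447 q639, e3 q825 L8455 q640, e3 q826 L8464 q641, e3 q827 (flp_b L11509) q1066, e3 q828 (flp_b L11516) q1067, e3 q829 (flp_b L11526) q1068, e3 q830 L11558 q1072, e3 q831 L8508 q831, trivial⟩ (by decide +kernel)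

theorem ce_b_13 : ∀ r, r < 64 → sm gb (Qf (832 + r)) = Qf (tab Gen.b (832 + r)) :=
  edges_tab (sm gb) Qf (tab Gen.b) 832 [(832, 832), (833, 833), (834, 647), (835, 648), (836, 1078), (837, 1080), (838, 838), (839, 839), (840, 840), (841, 841), (842, 842), (843, 655), (844, 656), (845, 657), (846, 1090), (847, 1091), (848, 659), (849, 1093), (850, 850), (851, 851), (852, 852), (853, 676), (854, 854), (855, 862), (856, 863), (857, 857), (858, 668), (859, 669), (860, 1104), (861, 1105), (862, 855), (863, 856), (864, 864), (865, 673), (866, 674), (867, 675), (868, 1112), (869, 1113), (870, 871), (871, 870), (872, 782), (873, 873), (874, 874), (875, 682), (876, 1118), (877, 877), (878, 878), (879, 879), (880, 880), (881, 881), (882, 691), (883, 692), (884, 693), (885, 1128), (886, 1129), (887, 1130), (888, 694), (889, 1134), (890, 890), (891, 891), (892, 892), (893, 893), (894, 700), (895, 1140)]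
    ⟨e3 q832 L8516 q832, e3 q833 L8523 q833, e3 q834 L8529 q647, e3 q835 L8535 q648, e3 q836 (flp_b L11607) q1078, e3 q837 L11620 q1080, e3 q838 L8561 q838, e3 q839 L8570 q839, e3 q840 L8578 q840, e3 q841 L8585 q841, e3 q842 L8592 q842, e3 q843 L8600 q655, e3 q844 L8609 q656, e3 q845 L8616 q657, e3 q846 (flp_b L11703) q1090, e3 q847 (flp_b L11711) q1091, e3 q848 (flp_b L8638) q659, e3 q849 (flp_b L11729) q1093, e3 q850 L8658 q850, e3 q851 L8665 q851, e3 q852 L8672 q852, e3 q853 L8682 q676, e3 q854 L8696 q854, e3 q855 (flp_b L9047) q862, e3 q856 (flp_b L9057) q863, e3 q857 L8988 q857, e3 q858 L8992 q668, e3 q859 L9000 q669, e3 q860 (flp_b L12219) q1104, e3 q861 (flp_b L12236) q1105, e3 q862 L9047 q855, e3 q863 L9057 q856, e3 q864 L9071 q864, e3 q865 L9076 q673, e3 q866 L9084 q674, e3 q867 L9091 q675, e3 q868 (flp_b L12347) q1112, e3 q869 L12406 q1113, e3 q870 (flp_b L111671) q871, e3 q871 L111671 q870, e3 q872 L111559 q782, e3 q873 L9165 q873, e3 q874 L9172 q874, e3 q875 L9183 q682, e3 q876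 L12689 q1118, e3 q877 L9368 q877, e3 q878 L9377 q878, e3 q879 L9385 q879, e3 q880 L9392 q880, e3 q881 L9399 q881, e3 q882 L9406 q691, e3 q883 L9414 q692, e3 q884 L9422 q693, e3 q885 (flp_b L12769) q1128, e3 q886 (flp_b L12778) q1129, e3 q887 (flp_b L12786) q1130, e3 q888 (flp_b L9453) q694, e3 q889 (flp_b L12819) q1134, e3 q890 L9470 q890, e3 q891 L9478 q891, e3 q892 L9484 q892, e3 q893 L9491 q893, e3 q894 L9497 q700, e3 q895 (flp_b L12862) q1140, trivial⟩ (by decide +kernel)

theorem ce_b_14 : ∀ r, r < 64 → sm gb (Qf (896 + r)) = Qf (tab Gen.b (896 + r)) :=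
  edges_tab (sm gb) Qf (tab Gen.b) 896 [(896, 739), (897, 702), (898, 1142), (899, 1143), (900, 749), (901, 706), (902, 707), (903, 1149), (904, 1150), (905, 761), (906, 762), (907, 907), (908, 711), (909, 1157), (910, 771), (911, 772), (912, 912), (913, 715), (914, 716), (915, 1163), (916, 1164), (917, 718), (918, 1167), (919, 919), (920, 944), (921, 721), (922, 1172), (923, 1173), (924, 924), (925, 955), (926, 725), (927, 726), (928, 1180), (929, 1181), (930, 1182), (931, 971), (932, 972), (933, 933), (934, 731), (935, 732), (936, 733), (937, 1193), (938, 1194), (939, 1195), (940, 1196), (941, 734), (942, 1202), (943, 793), (944, 920), (945, 737), (946, 1207), (947, 1208), (948, 798), (949, 1141), (950, 741), (951, 742), (952, 1215), (953, 1216), (954, 1217), (955, 925), (956, 746), (957, 747), (958, 1225), (959, 1226)]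
    ⟨e3 q896 L9715 q739, e3 q897 L9719 q702, e3 q898 (flp_b L13142) q1142, e3 q899 (flp_b L13147) q1143, e3 q900 L9753 q749, e3 q901 L9761 q706, e3 q902 L9766 q707, e3 q903 (flp_b L13201) q1149, e3 q904 (flp_b L13207) q1150, e3 q905 L9801 q761, e3 q906 L9809 q762, e3 q907 L9818 q907, e3 q908 L9822 q711, e3 q909 (flp_b L13301) q1157, e3 q910 L9879 q771, e3 q911 L9888 q772, e3 q912 L9899 q912, e3 q913 L9903 q715, e3 q914 L9910 q716, e3 q915 (flp_b L13429) q1163, e3 q916 (flp_b L13435) q1164, e3 q917 (flp_b L10194) q718, e3 q918 (flp_b L13810) q1167, e3 q919 L10213 q919, e3 q920 (flp_b L10439) q944, e3 q921 L10230 q721, e3 q922 (flp_b L13850) q1172, e3 q923 (flp_b L13859) q1173, e3 q924 L10254 q924, e3 q925 (flp_b L10526) q955, e3 q926 L10272 q725, e3 q927 L10281 q726, e3 q928 (flp_b L13917) q1180, e3 q929 (flp_b L13925) q1181, e3 q930 (flp_b L13933) q1182, e3 q931 (flp_b L10650) q971, e3 q932 (flp_b L10662) q972, e3 q933 L10337 q933, e3 q934 L10341 q731, e3 q935 L10349 q732, e3 q936 L10358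 q733, e3 q937 (flp_b L14027) q1193, e3 q938 (flp_b L14035) q1194, e3 q939 (flp_b L14045) q1195, e3 q940 (flp_b L14052) q1196, e3 q941 (flp_b L10398) q734, e3 q942 (flp_b L14105) q1202, e3 q943 L10422 q793, e3 q944 L10439 q920, e3 q945 L10443 q737, e3 q946 (flp_b L14156) q1207, e3 q947 (flp_b L14165) q1208, e3 q948 L10474 q798, e3 q949 (flp_b L13135) q1141, e3 q950 L10492 q741, e3 q951 L10497 q742, e3 q952 (flp_b L14223) q1215, e3 q953 (flp_b L14229) q1216, e3 q954 (flp_b L14235) q1217, e3 q955 L10526 q925, e3 q956 L10536 q746, e3 q957 L10545 q747, e3 q958 (flp_b L14302) q1225, e3 q959 (flp_b L14310) q1226, trivial⟩ (by decide +kernel)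

theorem ce_b_15 : ∀ r, r < 64 → sm gb (Qf (960 + r)) = Qf (tab Gen.b (960 + r)) :=
  edges_tab (sm gb) Qf (tab Gen.b) 960 [(960, 1227), (961, 1146), (962, 1147), (963, 1214), (964, 752), (965, 753), (966, 754), (967, 1238), (968, 1239), (969, 1240), (970, 1241), (971, 931), (972, 932), (973, 973), (974, 758), (975, 759), (976, 760), (977, 1252), (978, 1253), (979, 1254), (980, 1255), (981, 1258), (982, 1155), (983, 1116), (984, 1007), (985, 985), (986, 986), (987, 767), (988, 768), (989, 769), (990, 770), (991, 1269), (992, 1270), (993, 1272), (994, 1159), (995, 1160), (996, 1006), (997, 997), (998, 998), (999, 777), (1000, 778), (1001, 779), (1002, 780), (1003, 1284), (1004, 1285), (1005, 1286), (1006, 996), (1007, 984), (1008, 1109), (1009, 787), (1010, 1291), (1011, 1293), (1012, 789), (1013, 1295), (1014, 1014), (1015, 1015), (1016, 792), (1017, 1300), (1018, 1301), (1019, 1205), (1020, 1020), (1021, 796), (1022, 797), (1023, 1308)]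
    ⟨e3 q960 (flp_b L14318) q1227, e3 q961 (flp_b L13181) q1146, e3 q962 (flp_b L13188) q1147, e3 q963 (flp_b L14217) q1214, e3 q964 L10604 q752, e3 q965 L10610 q753, e3 q966 L10617 q754, e3 q967 (flp_b L14408) q1238, e3 q968 (flp_b L14414) q1239, e3 q969 (flp_b L14421) q1240, e3 q970 (flp_b L14429) q1241, e3 q971 L10650 q931, e3 q972 L10662 q932, e3 q973 L10677 q973, e3 q974 L10682 q758, e3 q975 L10690 q759, e3 q976 L10699 q760, e3 q977 (flp_b L14523) q1252, e3 q978 (flp_b L14531) q1253, e3 q979 (flp_b L14541) q1254, e3 q980 (flp_b L14548) q1255, e3 q981 L14595 q1258, e3 q982 (flp_b L13261) q1155, e3 q983 L111689 q1116, e3 q984 (flp_b L111424) q1007, e3 q985 L10782 q985, e3 q986 L10789 q986, e3 q987 L10797 q767, e3 q988 L10801 q768, e3 q989 L10809 q769, e3 q990 L10817 q770, e3 q991 (flp_b L14679) q1269, e3 q992 (flp_b L14685) q1270, e3 q993 L14737 q1272, e3 q994 (flp_b L13373) q1159, e3 q995 (flp_b L13382) q1160, e3 q996 L104814 q1006, e3 q997 L10883 q997, e3 q998 L10891 q998, e3 q999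 L10898 q777, e3 q1000 L10906 q778, e3 q1001 L10914 q779, e3 q1002 L10920 q780, e3 q1003 (flp_b L14840) q1284, e3 q1004 (flp_b L14847) q1285, e3 q1005 (flp_b L14854) q1286, e3 q1006 (flp_b L104814) q996, e3 q1007 L111424 q984, e3 q1008 (flp_b L111521) q1109, e3 q1009 L10994 q787, e3 q1010 (flp_b L14946) q1291, e3 q1011 L15030 q1293, e3 q1012 (flp_b L11088) q789, e3 q1013 (flp_b L15061) q1295, e3 q1014 L11108 q1014, e3 q1015 L11120 q1015, e3 q1016 L11123 q792, e3 q1017 (flp_b L15103) q1300, e3 q1018 (flp_b L15109) q1301, e3 q1019 (flp_b L14135) q1205, e3 q1020 L11157 q1020, e3 q1021 L11163 q796, e3 q1022 L11171 q797, e3 q1023 (flp_b L15166) q1308, trivial⟩ (by decide +kernel)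

theorem ce_b_16 : ∀ r, r < 64 → sm gb (Qf (1024 + r)) = Qf (tab Gen.b (1024 + r)) :=
  edges_tab (sm gb) Qf (tab Gen.b) 1024 [(1024, 1309), (1025, 1310), (1026, 1026), (1027, 1027), (1028, 813), (1029, 802), (1030, 803), (1031, 804), (1032, 1321), (1033, 1322), (1034, 1323), (1035, 1324), (1036, 1036), (1037, 1037), (1038, 1307), (1039, 808), (1040, 809), (1041, 810), (1042, 1335), (1043, 1336), (1044, 1337), (1045, 1338), (1046, 1339), (1047, 1047), (1048, 1048), (1049, 1049), (1050, 1319), (1051, 1320), (1052, 817), (1053, 818), (1054, 819), (1055, 820), (1056, 1351), (1057, 1352), (1058, 1353), (1059, 1354), (1060, 1355), (1061, 1061), (1062, 1062), (1063, 1063), (1064, 1064), (1065, 1065), (1066, 827), (1067, 828), (1068, 829), (1069, 1365), (1070, 1366), (1071, 1367), (1072, 830), (1073, 1368), (1074, 1074), (1075, 1075), (1076, 1076), (1077, 1077), (1078, 836), (1079, 1374), (1080, 837), (1081, 1375), (1082, 1376), (1083, 1083), (1084, 1084), (1085, 1085), (1086, 1086), (1087, 1087)]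
    ⟨e3 q1024 (flp_b L15174) q1309, e3 q1025 (flp_b L15180) q1310, e3 q1026 L11205 q1026, e3 q1027 L11212 q1027, e3 q1028 L11219 q813, e3 q1029 L11223 q802, e3 q1030 L11229 q803, e3 q1031 L11236 q804, e3 q1032 (flp_b L15266) q1321, e3 q1033 (flp_b L15272) q1322, e3 q1034 (flp_b L15279) q1323, e3 q1035 (flp_b L15286) q1324, e3 q1036 L11276 q1036, e3 q1037 L11285 q1037, e3 q1038 (flp_b L15162) q1307, e3 q1039 L11299 q808, e3 q1040 L11307 q809, e3 q1041 L11314 q810, e3 q1042 (flp_b L15374) q1335, e3 q1043 (flp_b L15383) q1336, e3 q1044 (flp_b L15392) q1337, e3 q1045 (flp_b L15399) q1338, e3 q1046 L15436 q1339, e3 q1047 L11362 q1047, e3 q1048 L11369 q1048, e3 q1049 L11378 q1049, e3 q1050 (flp_b L15252) q1319, e3 q1051 (flp_b L15258) q1320, e3 q1052 L11396 q817, e3 q1053 L11403 q818, e3 q1054 L11410 q819, e3 q1055 L11418 q820, e3 q1056 (flp_b L15518) q1351, e3 q1057 (flp_b L15526) q1352, e3 q1058 (flp_b L15534) q1353, e3 q1059 (flp_b L15543) q1354, e3 q1060 L15579 q1355, e3 q1061 L11466 q1061,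 e3 q1062 L11475 q1062, e3 q1063 L11485 q1063, e3 q1064 L11493 q1064, e3 q1065 L11500 q1065, e3 q1066 L11509 q827, e3 q1067 L11516 q828, e3 q1068 L11526 q829, e3 q1069 (flp_b L15668) q1365, e3 q1070 (flp_b L15676) q1366, e3 q1071 (flp_b L15684) q1367, e3 q1072 (flp_b L11558) q830, e3 q1073 (flp_b L15719) q1368, e3 q1074 L11577 q1074, e3 q1075 L11584 q1075, e3 q1076 L11592 q1076, e3 q1077 L11599 q1077, e3 q1078 L11607 q836, e3 q1079 (flp_b L15762) q1374, e3 q1080 (flp_b L11620) q837, e3 q1081 (flp_b L15771) q1375, e3 q1082 (flp_b L15779) q1376, e3 q1083 L11649 q1083, e3 q1084 L11659 q1084, e3 q1085 L11667 q1085, e3 q1086 L11674 q1086, e3 q1087 L11682 q1087, trivial⟩ (by decide +kernel)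

theorem ce_b_17 : ∀ r, r < 64 → sm gb (Qf (1088 + r)) = Qf (tab Gen.b (1088 + r)) :=
  edges_tab (sm gb) Qf (tab Gen.b) 1088 [(1088, 1088), (1089, 1089), (1090, 846), (1091, 847), (1092, 1388), (1093, 849), (1094, 1389), (1095, 1390), (1096, 1096), (1097, 1097), (1098, 1396), (1099, 1397), (1100, 1107), (1101, 1108), (1102, 1102), (1103, 1103), (1104, 860), (1105, 861), (1106, 1405), (1107, 1100), (1108, 1101), (1109, 1008), (1110, 1110), (1111, 1111), (1112, 868), (1113, 869), (1114, 1411), (1115, 1412), (1116, 983), (1117, 1117), (1118, 876), (1119, 1414), (1120, 1415), (1121, 1121), (1122, 1122), (1123, 1123), (1124, 1124), (1125, 1125), (1126, 1126), (1127, 1127), (1128, 885), (1129, 886), (1130, 887), (1131, 1429), (1132, 1430), (1133, 1431), (1134, 889), (1135, 1432), (1136, 1433), (1137, 1137), (1138, 1138), (1139, 1139), (1140, 895), (1141, 949), (1142, 898), (1143, 899), (1144, 1442), (1145, 1443), (1146, 961), (1147, 962), (1148, 1441), (1149, 903), (1150, 904), (1151, 1452)]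
    ⟨e3 q1088 L11690 q1088, e3 q1089 L11694 q1089, e3 q1090 L11703 q846, e3 q1091 L11711 q847, e3 q1092 (flp_b L15873) q1388, e3 q1093 L11729 q849, e3 q1094 (flp_b L15883) q1389, e3 q1095 (flp_b L15891) q1390, e3 q1096 L11753 q1096, e3 q1097 L11759 q1097, e3 q1098 L15934 q1396, e3 q1099 L16494 q1397, e3 q1100 (flp_b L12293) q1107, e3 q1101 (flp_b L12303) q1108, e3 q1102 L12204 q1102, e3 q1103 L12212 q1103, e3 q1104 L12219 q860, e3 q1105 L12236 q861, e3 q1106 L16662 q1405, e3 q1107 L12293 q1100, e3 q1108 L12303 q1101, e3 q1109 L111521 q1008, e3 q1110 L12322 q1110, e3 q1111 L12331 q1111, e3 q1112 L12347 q868, e3 q1113 (flp_b L12406) q869, e3 q1114 (flp_b L16856) q1411, e3 q1115 (flp_b L16863) q1412, e3 q1116 (flp_b L111689) q983, e3 q1117 L12458 q1117, e3 q1118 (flp_b L12689) q876, e3 q1119 (flp_b L17219) q1414, e3 q1120 (flp_b L17227) q1415, e3 q1121 L12716 q1121, e3 q1122 L12725 q1122, e3 q1123 L12734 q1123, e3 q1124 L12741 q1124, e3 q1125 L12749 q1125, e3 q1126 L12756 q1126, e3 q1127 L12764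 q1127, e3 q1128 L12769 q885, e3 q1129 L12778 q886, e3 q1130 L12786 q887, e3 q1131 (flp_b L17340) q1429, e3 q1132 (flp_b L17348) q1430, e3 q1133 (flp_b L17357) q1431, e3 q1134 L12819 q889, e3 q1135 (flp_b L17390) q1432, e3 q1136 (flp_b L17398) q1433, e3 q1137 L12842 q1137, e3 q1138 L12849 q1138, e3 q1139 L12854 q1139, e3 q1140 L12862 q895, e3 q1141 L13135 q949, e3 q1142 L13142 q898, e3 q1143 L13147 q899, e3 q1144 (flp_b L17814) q1442, e3 q1145 (flp_b L17820) q1443, e3 q1146 L13181 q961, e3 q1147 L13188 q962, e3 q1148 (flp_b L17809) q1441, e3 q1149 L13201 q903, e3 q1150 L13207 q904, e3 q1151 (flp_b L17912) q1452, trivial⟩ (by decide +kernel)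

theorem ce_b_18 : ∀ r, r < 64 → sm gb (Qf (1152 + r)) = Qf (tab Gen.b (1152 + r)) :=
  edges_tab (sm gb) Qf (tab Gen.b) 1152 [(1152, 1453), (1153, 1454), (1154, 1457), (1155, 982), (1156, 1156), (1157, 909), (1158, 1461), (1159, 994), (1160, 995), (1161, 1161), (1162, 1162), (1163, 915), (1164, 916), (1165, 1469), (1166, 1201), (1167, 918), (1168, 1471), (1169, 1472), (1170, 1170), (1171, 1206), (1172, 922), (1173, 923), (1174, 1479), (1175, 1480), (1176, 1481), (1177, 1222), (1178, 1223), (1179, 1478), (1180, 928), (1181, 929), (1182, 930), (1183, 1492), (1184, 1493), (1185, 1494), (1186, 1495), (1187, 1500), (1188, 1247), (1189, 1248), (1190, 1249), (1191, 1191), (1192, 1192), (1193, 937), (1194, 938), (1195, 939), (1196, 940), (1197, 1512), (1198, 1513), (1199, 1514), (1200, 1515), (1201, 1166), (1202, 942), (1203, 1520), (1204, 1521), (1205, 1019), (1206, 1171), (1207, 946), (1208, 947), (1209, 1528), (1210, 1529), (1211, 1530), (1212, 1439), (1213, 1440), (1214, 963), (1215, 952)]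
    ⟨e3 q1152 (flp_b L17925) q1453, e3 q1153 (flp_b L17933) q1454, e3 q1154 L17969 q1457, e3 q1155 L13261 q982, e3 q1156 L13288 q1156, e3 q1157 L13301 q909, e3 q1158 L18133 q1461, e3 q1159 L13373 q994, e3 q1160 L13382 q995, e3 q1161 L13399 q1161, e3 q1162 L13406 q1162, e3 q1163 L13429 q915, e3 q1164 L13435 q916, e3 q1165 (flp_b L18255) q1469, e3 q1166 (flp_b L14101) q1201, e3 q1167 L13810 q918, e3 q1168 (flp_b L18747) q1471, e3 q1169 (flp_b L18754) q1472, e3 q1170 L13833 q1170, e3 q1171 (flp_b L14147) q1206, e3 q1172 L13850 q922, e3 q1173 L13859 q923, e3 q1174 (flp_b L18812) q1479, e3 q1175 (flp_b L18820) q1480, e3 q1176 (flp_b L18827) q1481, e3 q1177 (flp_b L14271) q1222, e3 q1178 (flp_b L14282) q1223, e3 q1179 (flp_b L18807) q1478, e3 q1180 L13917 q928, e3 q1181 L13925 q929, e3 q1182 L13933 q930, e3 q1183 (flp_b L18920) q1492, e3 q1184 (flp_b L18930) q1493, e3 q1185 (flp_b L18939) q1494, e3 q1186 (flp_b L18946) q1495, e3 q1187 L18981 q1500, e3 q1188 (flp_b L14473) q1247, e3 q1189 (flp_b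 L14483) q1248, e3 q1190 (flp_b L14494) q1249, e3 q1191 L14010 q1191, e3 q1192 L14018 q1192, e3 q1193 L14027 q937, e3 q1194 L14035 q938, e3 q1195 L14045 q939, e3 q1196 L14052 q940, e3 q1197 (flp_b L19093) q1512, e3 q1198 (flp_b L19101) q1513, e3 q1199 (flp_b L19109) q1514, e3 q1200 (flp_b L19118) q1515, e3 q1201 L14101 q1166, e3 q1202 L14105 q942, e3 q1203 (flp_b L19179) q1520, e3 q1204 (flp_b L19186) q1521, e3 q1205 L14135 q1019, e3 q1206 L14147 q1171, e3 q1207 L14156 q946, e3 q1208 L14165 q947, e3 q1209 (flp_b L19257) q1528, e3 q1210 (flp_b L19265) q1529, e3 q1211 (flp_b L19272) q1530, e3 q1212 (flp_b L17794) q1439, e3 q1213 (flp_b L17801) q1440, e3 q1214 L14217 q963, e3 q1215 L14223 q952, trivial⟩ (by decide +kernel)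

theorem ce_b_19 : ∀ r, r < 64 → sm gb (Qf (1216 + r)) = Qf (tab Gen.b (1216 + r)) :=
  edges_tab (sm gb) Qf (tab Gen.b) 1216 [(1216, 953), (1217, 954), (1218, 1541), (1219, 1542), (1220, 1543), (1221, 1544), (1222, 1177), (1223, 1178), (1224, 1527), (1225, 958), (1226, 959), (1227, 960), (1228, 1555), (1229, 1556), (1230, 1557), (1231, 1558), (1232, 1563), (1233, 1448), (1234, 1449), (1235, 1290), (1236, 1539), (1237, 1540), (1238, 967), (1239, 968), (1240, 969), (1241, 970), (1242, 1575), (1243, 1576), (1244, 1577), (1245, 1578), (1246, 1584), (1247, 1188), (1248, 1189), (1249, 1190), (1250, 1250), (1251, 1251), (1252, 977), (1253, 978), (1254, 979), (1255, 980), (1256, 1596), (1257, 1597), (1258, 981), (1259, 1598), (1260, 1599), (1261, 1459), (1262, 1263), (1263, 1262), (1264, 1408), (1265, 1265), (1266, 1266), (1267, 1267), (1268, 1268), (1269, 991), (1270, 992), (1271, 1609), (1272, 993), (1273, 1611), (1274, 1612), (1275, 1276), (1276, 1275), (1277, 1464), (1278, 1465), (1279, 1279)]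
    ⟨e3 q1216 L14229 q953, e3 q1217 L14235 q954, e3 q1218 (flp_b L19366) q1541, e3 q1219 (flp_b L19371) q1542, e3 q1220 (flp_b L19378) q1543, e3 q1221 (flp_b L19385) q1544, e3 q1222 L14271 q1177, e3 q1223 L14282 q1178, e3 q1224 (flp_b L19251) q1527, e3 q1225 L14302 q958, e3 q1226 L14310 q959, e3 q1227 L14318 q960, e3 q1228 (flp_b L19479) q1555, e3 q1229 (flp_b L19489) q1556, e3 q1230 (flp_b L19498) q1557, e3 q1231 (flp_b L19505) q1558, e3 q1232 L19548 q1563, e3 q1233 (flp_b L17875) q1448, e3 q1234 (flp_b L17883) q1449, e3 q1235 L104830 q1290, e3 q1236 (flp_b L19351) q1539, e3 q1237 (flp_b L19359) q1540, e3 q1238 L14408 q967, e3 q1239 L14414 q968, e3 q1240 L14421 q969, e3 q1241 L14429 q970, e3 q1242 (flp_b L19627) q1575, e3 q1243 (flp_b L19635) q1576, e3 q1244 (flp_b L19641) q1577, e3 q1245 (flp_b L19650) q1578, e3 q1246 L19684 q1584, e3 q1247 L14473 q1188, e3 q1248 L14483 q1189, e3 q1249 L14494 q1190, e3 q1250 L14505 q1250, e3 q1251 L14514 q1251, e3 q1252 L14523 q977, e3 q1253 L14531 q978,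 e3 q1254 L14541 q979, e3 q1255 L14548 q980, e3 q1256 (flp_b L19809) q1596, e3 q1257 (flp_b L19817) q1597, e3 q1258 (flp_b L14595) q981, e3 q1259 (flp_b L19894) q1598, e3 q1260 (flp_b L19901) q1599, e3 q1261 (flp_b L17996) q1459, e3 q1262 L111551 q1263, e3 q1263 (flp_b L111551) q1262, e3 q1264 L111533 q1408, e3 q1265 L14649 q1265, e3 q1266 L14654 q1266, e3 q1267 L14663 q1267, e3 q1268 L14671 q1268, e3 q1269 L14679 q991, e3 q1270 L14685 q992, e3 q1271 (flp_b L20023) q1609, e3 q1272 (flp_b L14737) q993, e3 q1273 (flp_b L20077) q1611, e3 q1274 (flp_b L20085) q1612, e3 q1275 (flp_b L99251) q1276, e3 q1276 L99251 q1275, e3 q1277 (flp_b L18182) q1464, e3 q1278 (flp_b L18190) q1465, e3 q1279 L14793 q1279, trivial⟩ (by decide +kernel)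

theorem ce_b_20 : ∀ r, r < 64 → sm gb (Qf (1280 + r)) = Qf (tab Gen.b (1280 + r)) :=
  edges_tab (sm gb) Qf (tab Gen.b) 1280 [(1280, 1280), (1281, 1281), (1282, 1282), (1283, 1283), (1284, 1003), (1285, 1004), (1286, 1005), (1287, 1627), (1288, 1628), (1289, 1629), (1290, 1235), (1291, 1010), (1292, 1634), (1293, 1011), (1294, 1294), (1295, 1013), (1296, 1637), (1297, 1638), (1298, 1298), (1299, 1299), (1300, 1017), (1301, 1018), (1302, 1642), (1303, 1643), (1304, 1644), (1305, 1305), (1306, 1306), (1307, 1038), (1308, 1023), (1309, 1024), (1310, 1025), (1311, 1651), (1312, 1652), (1313, 1653), (1314, 1654), (1315, 1655), (1316, 1316), (1317, 1317), (1318, 1318), (1319, 1050), (1320, 1051), (1321, 1032), (1322, 1033), (1323, 1034), (1324, 1035), (1325, 1667), (1326, 1668), (1327, 1669), (1328, 1670), (1329, 1671), (1330, 1330), (1331, 1331), (1332, 1332), (1333, 1649), (1334, 1650), (1335, 1042), (1336, 1043), (1337, 1044), (1338, 1045), (1339, 1046), (1340, 1683), (1341, 1684), (1342,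 1342), (1343, 1343)]
    ⟨e3 q1280 L14801 q1280, e3 q1281 L14810 q1281, e3 q1282 L14817 q1282, e3 q1283 L14823 q1283, e3 q1284 L14840 q1003, e3 q1285 L14847 q1004, e3 q1286 L14854 q1005, e3 q1287 (flp_b L20234) q1627, e3 q1288 (flp_b L20241) q1628, e3 q1289 (flp_b L20249) q1629, e3 q1290 (flp_b L104830) q1235, e3 q1291 L14946 q1010, e3 q1292 L20393 q1634, e3 q1293 (flp_b L15030) q1011, e3 q1294 L15058 q1294, e3 q1295 L15061 q1013, e3 q1296 (flp_b L20484) q1637, e3 q1297 (flp_b L20492) q1638, e3 q1298 L15086 q1298, e3 q1299 L15096 q1299, e3 q1300 L15103 q1017, e3 q1301 L15109 q1018, e3 q1302 (flp_b L20545) q1642, e3 q1303 (flp_b L20552) q1643, e3 q1304 (flp_b L20559) q1644, e3 q1305 L15143 q1305, e3 q1306 L15152 q1306, e3 q1307 L15162 q1038, e3 q1308 L15166 q1023, e3 q1309 L15174 q1024, e3 q1310 L15180 q1025, e3 q1311 (flp_b L20647) q1651, e3 q1312 (flp_b L20655) q1652, e3 q1313 (flp_b L20664) q1653, e3 q1314 (flp_b L20670) q1654, e3 q1315 L20711 q1655, e3 q1316 L15231 q1316, e3 q1317 L15238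 q1317, e3 q1318 L15246 q1318, e3 q1319 L15252 q1050, e3 q1320 L15258 q1051, e3 q1321 L15266 q1032, e3 q1322 L15272 q1033, e3 q1323 L15279 q1034, e3 q1324 L15286 q1035, e3 q1325 (flp_b L20801) q1667, e3 q1326 (flp_b L20808) q1668, e3 q1327 (flp_b L20815) q1669, e3 q1328 (flp_b L20823) q1670, e3 q1329 L20869 q1671, e3 q1330 L15336 q1330, e3 q1331 L15345 q1331, e3 q1332 L15353 q1332, e3 q1333 (flp_b L20631) q1649, e3 q1334 (flp_b L20639) q1650, e3 q1335 L15374 q1042, e3 q1336 L15383 q1043, e3 q1337 L15392 q1044, e3 q1338 L15399 q1045, e3 q1339 (flp_b L15436) q1046, e3 q1340 (flp_b L21038) q1683, e3 q1341 (flp_b L21043) q1684, e3 q1342 L15459 q1342, e3 q1343 L15467 q1343, trivial⟩ (by decide +kernel)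

theorem ce_b_21 : ∀ r, r < 64 → sm gb (Qf (1344 + r)) = Qf (tab Gen.b (1344 + r)) :=
  edges_tab (sm gb) Qf (tab Gen.b) 1344 [(1344, 1344), (1345, 1345), (1346, 1662), (1347, 1663), (1348, 1664), (1349, 1665), (1350, 1666), (1351, 1056), (1352, 1057), (1353, 1058), (1354, 1059), (1355, 1060), (1356, 1702), (1357, 1703), (1358, 1358), (1359, 1359), (1360, 1360), (1361, 1361), (1362, 1362), (1363, 1363), (1364, 1364), (1365, 1069), (1366, 1070), (1367, 1071), (1368, 1073), (1369, 1717), (1370, 1718), (1371, 1371), (1372, 1372), (1373, 1373), (1374, 1079), (1375, 1081), (1376, 1082), (1377, 1725), (1378, 1726), (1379, 1727), (1380, 1728), (1381, 1381), (1382, 1382), (1383, 1383), (1384, 1384), (1385, 1385), (1386, 1386), (1387, 1387), (1388, 1092), (1389, 1094), (1390, 1095), (1391, 1743), (1392, 1744), (1393, 1393), (1394, 1394), (1395, 1395), (1396, 1098), (1397, 1099), (1398, 1751), (1399, 1752), (1400, 1401), (1401, 1400), (1402, 1402), (1403, 1403), (1404, 1404), (1405, 1106), (1406,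 1758), (1407, 1759)]
    ⟨e3 q1344 L15475 q1344, e3 q1345 L15484 q1345, e3 q1346 (flp_b L20765) q1662, e3 q1347 (flp_b L20772) q1663, e3 q1348 (flp_b L20779) q1664, e3 q1349 (flp_b L20787) q1665, e3 q1350 (flp_b L20793) q1666, e3 q1351 L15518 q1056, e3 q1352 L15526 q1057, e3 q1353 L15534 q1058, e3 q1354 L15543 q1059, e3 q1355 (flp_b L15579) q1060, e3 q1356 (flp_b L21225) q1702, e3 q1357 (flp_b L21233) q1703, e3 q1358 L15610 q1358, e3 q1359 L15618 q1359, e3 q1360 L15629 q1360, e3 q1361 L15636 q1361, e3 q1362 L15644 q1362, e3 q1363 L15653 q1363, e3 q1364 L15661 q1364, e3 q1365 L15668 q1069, e3 q1366 L15676 q1070, e3 q1367 L15684 q1071, e3 q1368 L15719 q1073, e3 q1369 (flp_b L21406) q1717, e3 q1370 (flp_b L21414) q1718, e3 q1371 L15744 q1371, e3 q1372 L15750 q1372, e3 q1373 L15754 q1373, e3 q1374 L15762 q1079, e3 q1375 L15771 q1081, e3 q1376 L15779 q1082, e3 q1377 (flp_b L21465) q1725, e3 q1378 (flp_b L21474) q1726, e3 q1379 (flp_b L21483) q1727, e3 q1380 (flp_b L21489) q1728, e3 q1381 L15822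 q1381, e3 q1382 L15831 q1382, e3 q1383 L15838 q1383, e3 q1384 L15847 q1384, e3 q1385 L15852 q1385, e3 q1386 L15861 q1386, e3 q1387 L15867 q1387, e3 q1388 L15873 q1092, e3 q1389 L15883 q1094, e3 q1390 L15891 q1095, e3 q1391 (flp_b L21602) q1743, e3 q1392 (flp_b L21609) q1744, e3 q1393 L15915 q1393, e3 q1394 L15921 q1394, e3 q1395 L15928 q1395, e3 q1396 (flp_b L15934) q1098, e3 q1397 (flp_b L16494) q1099, e3 q1398 (flp_b L22448) q1751, e3 q1399 (flp_b L22456) q1752, e3 q1400 L111627 q1401, e3 q1401 (flp_b L111627) q1400, e3 q1402 L16554 q1402, e3 q1403 L16571 q1403, e3 q1404 L16578 q1404, e3 q1405 (flp_b L16662) q1106, e3 q1406 (flp_b L22677) q1758, e3 q1407 (flp_b L22688) q1759, trivial⟩ (by decide +kernel)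

theorem ce_b_22 : ∀ r, r < 64 → sm gb (Qf (1408 + r)) = Qf (tab Gen.b (1408 + r)) :=
  edges_tab (sm gb) Qf (tab Gen.b) 1408 [(1408, 1264), (1409, 1409), (1410, 1410), (1411, 1114), (1412, 1115), (1413, 1762), (1414, 1119), (1415, 1120), (1416, 1763), (1417, 1764), (1418, 1765), (1419, 1766), (1420, 1420), (1421, 1421), (1422, 1422), (1423, 1423), (1424, 1424), (1425, 1425), (1426, 1426), (1427, 1427), (1428, 1428), (1429, 1131), (1430, 1132), (1431, 1133), (1432, 1135), (1433, 1136), (1434, 1780), (1435, 1781), (1436, 1436), (1437, 1437), (1438, 1438), (1439, 1212), (1440, 1213), (1441, 1148), (1442, 1144), (1443, 1145), (1444, 1790), (1445, 1791), (1446, 1792), (1447, 1795), (1448, 1233), (1449, 1234), (1450, 1788), (1451, 1789), (1452, 1151), (1453, 1152), (1454, 1153), (1455, 1805), (1456, 1806), (1457, 1154), (1458, 1808), (1459, 1261), (1460, 1460), (1461, 1158), (1462, 1811), (1463, 1812), (1464, 1277), (1465, 1278), (1466, 1466), (1467, 1467), (1468, 1468), (1469, 1165), (1470,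 1519), (1471, 1168)]
    ⟨e3 q1408 (flp_b L111533) q1264, e3 q1409 L16743 q1409, e3 q1410 L16759 q1410, e3 q1411 L16856 q1114, e3 q1412 L16863 q1115, e3 q1413 (flp_b L22945) q1762, e3 q1414 L17219 q1119, e3 q1415 L17227 q1120, e3 q1416 (flp_b L23403) q1763, e3 q1417 (flp_b L23412) q1764, e3 q1418 (flp_b L23420) q1765, e3 q1419 (flp_b L23429) q1766, e3 q1420 L17268 q1420, e3 q1421 L17278 q1421, e3 q1422 L17287 q1422, e3 q1423 L17294 q1423, e3 q1424 L17301 q1424, e3 q1425 L17310 q1425, e3 q1426 L17319 q1426, e3 q1427 L17327 q1427, e3 q1428 L17334 q1428, e3 q1429 L17340 q1131, e3 q1430 L17348 q1132, e3 q1431 L17357 q1133, e3 q1432 L17390 q1135, e3 q1433 L17398 q1136, e3 q1434 (flp_b L23616) q1780, e3 q1435 (flp_b L23622) q1781, e3 q1436 L17421 q1436, e3 q1437 L17427 q1437, e3 q1438 L17439 q1438, e3 q1439 L17794 q1212, e3 q1440 L17801 q1213, e3 q1441 L17809 q1148, e3 q1442 L17814 q1144, e3 q1443 L17820 q1145, e3 q1444 (flp_b L24177) q1790, e3 q1445 (flp_b L24189) q1791, e3 q1446 (flp_b L24196)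 q1792, e3 q1447 L24236 q1795, e3 q1448 L17875 q1233, e3 q1449 L17883 q1234, e3 q1450 (flp_b L24163) q1788, e3 q1451 (flp_b L24170) q1789, e3 q1452 L17912 q1151, e3 q1453 L17925 q1152, e3 q1454 L17933 q1153, e3 q1455 (flp_b L24329) q1805, e3 q1456 (flp_b L24344) q1806, e3 q1457 (flp_b L17969) q1154, e3 q1458 (flp_b L24391) q1808, e3 q1459 L17996 q1261, e3 q1460 L18030 q1460, e3 q1461 (flp_b L18133) q1158, e3 q1462 (flp_b L24622) q1811, e3 q1463 (flp_b L24631) q1812, e3 q1464 L18182 q1277, e3 q1465 L18190 q1278, e3 q1466 L18212 q1466, e3 q1467 L18219 q1467, e3 q1468 L18224 q1468, e3 q1469 L18255 q1165, e3 q1470 (flp_b L19169) q1519, e3 q1471 L18747 q1168, trivial⟩ (by decide +kernel)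

theorem ce_b_23 : ∀ r, r < 64 → sm gb (Qf (1472 + r)) = Qf (tab Gen.b (1472 + r)) :=
  edges_tab (sm gb) Qf (tab Gen.b) 1472 [(1472, 1169), (1473, 1824), (1474, 1825), (1475, 1826), (1476, 1525), (1477, 1526), (1478, 1179), (1479, 1174), (1480, 1175), (1481, 1176), (1482, 1837), (1483, 1838), (1484, 1839), (1485, 1840), (1486, 1845), (1487, 1550), (1488, 1551), (1489, 1552), (1490, 1835), (1491, 1836), (1492, 1183), (1493, 1184), (1494, 1185), (1495, 1186), (1496, 1857), (1497, 1858), (1498, 1859), (1499, 1860), (1500, 1187), (1501, 1866), (1502, 1867), (1503, 1587), (1504, 1588), (1505, 1589), (1506, 1590), (1507, 1507), (1508, 1508), (1509, 1509), (1510, 1510), (1511, 1511), (1512, 1197), (1513, 1198), (1514, 1199), (1515, 1200), (1516, 1884), (1517, 1885), (1518, 1886), (1519, 1470), (1520, 1203), (1521, 1204), (1522, 1892), (1523, 1893), (1524, 1894), (1525, 1476), (1526, 1477), (1527, 1224), (1528, 1209), (1529, 1210), (1530, 1211), (1531, 1905), (1532, 1906), (1533, 1907), (1534,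 1908), (1535, 1913)]
    ⟨e3 q1472 L18754 q1169, e3 q1473 (flp_b L25461) q1824, e3 q1474 (flp_b L25468) q1825, e3 q1475 (flp_b L25476) q1826, e3 q1476 (flp_b L19226) q1525, e3 q1477 (flp_b L19237) q1526, e3 q1478 L18807 q1179, e3 q1479 L18812 q1174, e3 q1480 L18820 q1175, e3 q1481 L18827 q1176, e3 q1482 (flp_b L25566) q1837, e3 q1483 (flp_b L25575) q1838, e3 q1484 (flp_b L25584) q1839, e3 q1485 (flp_b L25590) q1840, e3 q1486 L25629 q1845, e3 q1487 (flp_b L19432) q1550, e3 q1488 (flp_b L19442) q1551, e3 q1489 (flp_b L19452) q1552, e3 q1490 (flp_b L25548) q1835, e3 q1491 (flp_b L25557) q1836, e3 q1492 L18920 q1183, e3 q1493 L18930 q1184, e3 q1494 L18939 q1185, e3 q1495 L18946 q1186, e3 q1496 (flp_b L25729) q1857, e3 q1497 (flp_b L25739) q1858, e3 q1498 (flp_b L25747) q1859, e3 q1499 (flp_b L25755) q1860, e3 q1500 (flp_b L18981) q1187, e3 q1501 (flp_b L25803) q1866, e3 q1502 (flp_b L25811) q1867, e3 q1503 (flp_b L19721) q1587, e3 q1504 (flp_b L19731) q1588, e3 q1505 (flp_b L19743) q1589, e3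 q1506 (flp_b L19752) q1590, e3 q1507 L19048 q1507, e3 q1508 L19057 q1508, e3 q1509 L19067 q1509, e3 q1510 L19074 q1510, e3 q1511 L19082 q1511, e3 q1512 L19093 q1197, e3 q1513 L19101 q1198, e3 q1514 L19109 q1199, e3 q1515 L19118 q1200, e3 q1516 (flp_b L25963) q1884, e3 q1517 (flp_b L25973) q1885, e3 q1518 (flp_b L25981) q1886, e3 q1519 L19169 q1470, e3 q1520 L19179 q1203, e3 q1521 L19186 q1204, e3 q1522 (flp_b L26074) q1892, e3 q1523 (flp_b L26081) q1893, e3 q1524 (flp_b L26089) q1894, e3 q1525 L19226 q1476, e3 q1526 L19237 q1477, e3 q1527 L19251 q1224, e3 q1528 L19257 q1209, e3 q1529 L19265 q1210, e3 q1530 L19272 q1211, e3 q1531 (flp_b L26197) q1905, e3 q1532 (flp_b L26206) q1906, e3 q1533 (flp_b L26215) q1907, e3 q1534 (flp_b L26221) q1908, e3 q1535 L26268 q1913, trivial⟩ (by decide +kernel)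

theorem ce_b_24 : ∀ r, r < 64 → sm gb (Qf (1536 + r)) = Qf (tab Gen.b (1536 + r)) :=
  edges_tab (sm gb) Qf (tab Gen.b) 1536 [(1536, 1786), (1537, 1787), (1538, 1635), (1539, 1236), (1540, 1237), (1541, 1218), (1542, 1219), (1543, 1220), (1544, 1221), (1545, 1925), (1546, 1926), (1547, 1927), (1548, 1928), (1549, 1934), (1550, 1487), (1551, 1488), (1552, 1489), (1553, 1903), (1554, 1904), (1555, 1228), (1556, 1229), (1557, 1230), (1558, 1231), (1559, 1946), (1560, 1947), (1561, 1948), (1562, 1949), (1563, 1232), (1564, 1954), (1565, 1955), (1566, 1798), (1567, 1632), (1568, 1799), (1569, 1800), (1570, 1920), (1571, 1921), (1572, 1922), (1573, 1923), (1574, 1924), (1575, 1242), (1576, 1243), (1577, 1244), (1578, 1245), (1579, 1973), (1580, 1974), (1581, 1975), (1582, 1976), (1583, 1977), (1584, 1246), (1585, 1981), (1586, 1982), (1587, 1503), (1588, 1504), (1589, 1505), (1590, 1506), (1591, 1591), (1592, 1592), (1593, 1593), (1594, 1594), (1595, 1595), (1596, 1256), (1597, 1257), (1598,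 1259), (1599, 1260)]
    ⟨e3 q1536 (flp_b L24139) q1786, e3 q1537 (flp_b L24147) q1787, e3 q1538 (flp_b L103178) q1635, e3 q1539 L19351 q1236, e3 q1540 L19359 q1237, e3 q1541 L19366 q1218, e3 q1542 L19371 q1219, e3 q1543 L19378 q1220, e3 q1544 L19385 q1221, e3 q1545 (flp_b L26355) q1925, e3 q1546 (flp_b L26362) q1926, e3 q1547 (flp_b L26368) q1927, e3 q1548 (flp_b L26376) q1928, e3 q1549 L26413 q1934, e3 q1550 L19432 q1487, e3 q1551 L19442 q1488, e3 q1552 L19452 q1489, e3 q1553 (flp_b L26178) q1903, e3 q1554 (flp_b L26188) q1904, e3 q1555 L19479 q1228, e3 q1556 L19489 q1229, e3 q1557 L19498 q1230, e3 q1558 L19505 q1231, e3 q1559 (flp_b L26527) q1946, e3 q1560 (flp_b L26537) q1947, e3 q1561 (flp_b L26545) q1948, e3 q1562 (flp_b L26553) q1949, e3 q1563 (flp_b L19548) q1232, e3 q1564 (flp_b L26610) q1954, e3 q1565 (flp_b L26616) q1955, e3 q1566 (flp_b L24260) q1798, e3 q1567 (flp_b L104677) q1632, e3 q1568 (flp_b L24277) q1799, e3 q1569 (flp_b L24287) q1800, e3 q1570 (flp_b L26317) q1920,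 e3 q1571 (flp_b L26323) q1921, e3 q1572 (flp_b L26332) q1922, e3 q1573 (flp_b L26340) q1923, e3 q1574 (flp_b L26348) q1924, e3 q1575 L19627 q1242, e3 q1576 L19635 q1243, e3 q1577 L19641 q1244, e3 q1578 L19650 q1245, e3 q1579 (flp_b L26744) q1973, e3 q1580 (flp_b L26751) q1974, e3 q1581 (flp_b L26759) q1975, e3 q1582 (flp_b L26767) q1976, e3 q1583 (flp_b L26773) q1977, e3 q1584 (flp_b L19684) q1246, e3 q1585 (flp_b L26814) q1981, e3 q1586 (flp_b L26825) q1982, e3 q1587 L19721 q1503, e3 q1588 L19731 q1504, e3 q1589 L19743 q1505, e3 q1590 L19752 q1506, e3 q1591 L19763 q1591, e3 q1592 L19772 q1592, e3 q1593 L19783 q1593, e3 q1594 L19790 q1594, e3 q1595 L19798 q1595, e3 q1596 L19809 q1256, e3 q1597 L19817 q1257, e3 q1598 L19894 q1259, e3 q1599 L19901 q1260, trivial⟩ (by decide +kernel)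

theorem ce_b_25 : ∀ r, r < 64 → sm gb (Qf (1600 + r)) = Qf (tab Gen.b (1600 + r)) :=
  edges_tab (sm gb) Qf (tab Gen.b) 1600 [(1600, 1995), (1601, 1996), (1602, 1997), (1603, 1998), (1604, 1605), (1605, 1604), (1606, 1606), (1607, 1607), (1608, 1608), (1609, 1271), (1610, 2007), (1611, 1273), (1612, 1274), (1613, 2008), (1614, 2009), (1615, 2010), (1616, 2011), (1617, 2012), (1618, 1619), (1619, 1618), (1620, 1816), (1621, 1621), (1622, 1622), (1623, 1623), (1624, 1624), (1625, 1625), (1626, 1626), (1627, 1287), (1628, 1288), (1629, 1289), (1630, 2033), (1631, 2032), (1632, 1567), (1633, 2036), (1634, 1292), (1635, 1538), (1636, 1636), (1637, 1296), (1638, 1297), (1639, 1639), (1640, 1640), (1641, 1641), (1642, 1302), (1643, 1303), (1644, 1304), (1645, 2047), (1646, 1646), (1647, 1647), (1648, 1648), (1649, 1333), (1650, 1334), (1651, 1311), (1652, 1312), (1653, 1313), (1654, 1314), (1655, 1315), (1656, 2059), (1657, 2060), (1658, 1658), (1659, 1659), (1660, 1660), (1661, 1661), (1662,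 1346), (1663, 1347)]
    ⟨e3 q1600 (flp_b L27093) q1995, e3 q1601 (flp_b L27098) q1996, e3 q1602 (flp_b L27107) q1997, e3 q1603 (flp_b L27115) q1998, e3 q1604 L111412 q1605, e3 q1605 (flp_b L111412) q1604, e3 q1606 L19972 q1606, e3 q1607 L19977 q1607, e3 q1608 L19984 q1608, e3 q1609 L20023 q1271, e3 q1610 L27309 q2007, e3 q1611 L20077 q1273, e3 q1612 L20085 q1274, e3 q1613 (flp_b L27328) q2008, e3 q1614 (flp_b L27336) q2009, e3 q1615 (flp_b L27345) q2010, e3 q1616 (flp_b L27352) q2011, e3 q1617 (flp_b L27360) q2012, e3 q1618 (flp_b L104699) q1619, e3 q1619 L104699 q1618, e3 q1620 (flp_b L24710) q1816, e3 q1621 L20173 q1621, e3 q1622 L20181 q1622, e3 q1623 L20189 q1623, e3 q1624 L20196 q1624, e3 q1625 L20204 q1625, e3 q1626 L20211 q1626, e3 q1627 L20234 q1287, e3 q1628 L20241 q1288, e3 q1629 L20249 q1289, e3 q1630 L27611 q2033, e3 q1631 (flp_b L27578) q2032, e3 q1632 L104677 q1567, e3 q1633 L27699 q2036, e3 q1634 (flp_b L20393) q1292, e3 q1635 L103178 q1538, e3 q1636 L20477 q1636, e3 q1637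 L20484 q1296, e3 q1638 L20492 q1297, e3 q1639 L20526 q1639, e3 q1640 L20533 q1640, e3 q1641 L20542 q1641, e3 q1642 L20545 q1302, e3 q1643 L20552 q1303, e3 q1644 L20559 q1304, e3 q1645 L28041 q2047, e3 q1646 L20608 q1646, e3 q1647 L20617 q1647, e3 q1648 L20624 q1648, e3 q1649 L20631 q1333, e3 q1650 L20639 q1334, e3 q1651 L20647 q1311, e3 q1652 L20655 q1312, e3 q1653 L20664 q1313, e3 q1654 L20670 q1314, e3 q1655 (flp_b L20711) q1315, e3 q1656 (flp_b L28221) q2059, e3 q1657 (flp_b L28228) q2060, e3 q1658 L20736 q1658, e3 q1659 L20743 q1659, e3 q1660 L20751 q1660, e3 q1661 L20759 q1661, e3 q1662 L20765 q1346, e3 q1663 L20772 q1347, trivial⟩ (by decide +kernel)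

theorem ce_b_26 : ∀ r, r < 64 → sm gb (Qf (1664 + r)) = Qf (tab Gen.b (1664 + r)) :=
  edges_tab (sm gb) Qf (tab Gen.b) 1664 [(1664, 1348), (1665, 1349), (1666, 1350), (1667, 1325), (1668, 1326), (1669, 1327), (1670, 1328), (1671, 1329), (1672, 2078), (1673, 2079), (1674, 1674), (1675, 1675), (1676, 1676), (1677, 1677), (1678, 2054), (1679, 2055), (1680, 2056), (1681, 2057), (1682, 2058), (1683, 1340), (1684, 1341), (1685, 2089), (1686, 2090), (1687, 2091), (1688, 2092), (1689, 2093), (1690, 1690), (1691, 1691), (1692, 1692), (1693, 1693), (1694, 2070), (1695, 2071), (1696, 2072), (1697, 2073), (1698, 2074), (1699, 2075), (1700, 2076), (1701, 2077), (1702, 1356), (1703, 1357), (1704, 2111), (1705, 2112), (1706, 2113), (1707, 2114), (1708, 1708), (1709, 1709), (1710, 1710), (1711, 1711), (1712, 1712), (1713, 1713), (1714, 1714), (1715, 1715), (1716, 1716), (1717, 1369), (1718, 1370), (1719, 2127), (1720, 2128), (1721, 1721), (1722, 1722), (1723, 1723), (1724, 1724), (1725, 1377), (1726,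 1378), (1727, 1379)]
    ⟨e3 q1664 L20779 q1348, e3 q1665 L20787 q1349, e3 q1666 L20793 q1350, e3 q1667 L20801 q1325, e3 q1668 L20808 q1326, e3 q1669 L20815 q1327, e3 q1670 L20823 q1328, e3 q1671 (flp_b L20869) q1329, e3 q1672 (flp_b L28437) q2078, e3 q1673 (flp_b L28444) q2079, e3 q1674 L20896 q1674, e3 q1675 L20906 q1675, e3 q1676 L20916 q1676, e3 q1677 L20924 q1677, e3 q1678 (flp_b L28103) q2054, e3 q1679 (flp_b L28112) q2055, e3 q1680 (flp_b L28121) q2056, e3 q1681 (flp_b L28129) q2057, e3 q1682 (flp_b L28134) q2058, e3 q1683 L21038 q1340, e3 q1684 L21043 q1341, e3 q1685 (flp_b L28668) q2089, e3 q1686 (flp_b L28674) q2090, e3 q1687 (flp_b L28680) q2091, e3 q1688 (flp_b L28687) q2092, e3 q1689 (flp_b L28692) q2093, e3 q1690 L21089 q1690, e3 q1691 L21098 q1691, e3 q1692 L21107 q1692, e3 q1693 L21117 q1693, e3 q1694 (flp_b L28304) q2070, e3 q1695 (flp_b L28310) q2071, e3 q1696 (flp_b L28318) q2072, e3 q1697 (flp_b L28327) q2073, e3 q1698 (flp_b L28336) q2074, e3 q1699 (flp_b L28343) q2075,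 e3 q1700 (flp_b L28351) q2076, e3 q1701 (flp_b L28358) q2077, e3 q1702 L21225 q1356, e3 q1703 L21233 q1357, e3 q1704 (flp_b L28910) q2111, e3 q1705 (flp_b L28919) q2112, e3 q1706 (flp_b L28929) q2113, e3 q1707 (flp_b L28938) q2114, e3 q1708 L21280 q1708, e3 q1709 L21289 q1709, e3 q1710 L21298 q1710, e3 q1711 L21307 q1711, e3 q1712 L21313 q1712, e3 q1713 L21322 q1713, e3 q1714 L21331 q1714, e3 q1715 L21341 q1715, e3 q1716 L21348 q1716, e3 q1717 L21406 q1369, e3 q1718 L21414 q1370, e3 q1719 (flp_b L29129) q2127, e3 q1720 (flp_b L29135) q2128, e3 q1721 L21438 q1721, e3 q1722 L21445 q1722, e3 q1723 L21450 q1723, e3 q1724 L21455 q1724, e3 q1725 L21465 q1377, e3 q1726 L21474 q1378, e3 q1727 L21483 q1379, trivial⟩ (by decide +kernel)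

theorem ce_b_27 : ∀ r, r < 64 → sm gb (Qf (1728 + r)) = Qf (tab Gen.b (1728 + r)) :=
  edges_tab (sm gb) Qf (tab Gen.b) 1728 [(1728, 1380), (1729, 2135), (1730, 2136), (1731, 2137), (1732, 2139), (1733, 2140), (1734, 1734), (1735, 1735), (1736, 1736), (1737, 1737), (1738, 1738), (1739, 1739), (1740, 1740), (1741, 1741), (1742, 1742), (1743, 1391), (1744, 1392), (1745, 2158), (1746, 2159), (1747, 2160), (1748, 1748), (1749, 1749), (1750, 1750), (1751, 1398), (1752, 1399), (1753, 2167), (1754, 2168), (1755, 2169), (1756, 1756), (1757, 1757), (1758, 1406), (1759, 1407), (1760, 2172), (1761, 2173), (1762, 1413), (1763, 1416), (1764, 1417), (1765, 1418), (1766, 1419), (1767, 2174), (1768, 2175), (1769, 2176), (1770, 2177), (1771, 2178), (1772, 2180), (1773, 1773), (1774, 1774), (1775, 1775), (1776, 1776), (1777, 1777), (1778, 1778), (1779, 1779), (1780, 1434), (1781, 1435), (1782, 2187), (1783, 2188), (1784, 1784), (1785, 2191), (1786, 1536), (1787, 1537), (1788, 1450), (1789, 1451), (1790,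 1444), (1791, 1445)]
    ⟨e3 q1728 L21489 q1380, e3 q1729 (flp_b L29183) q2135, e3 q1730 (flp_b L29193) q2136, e3 q1731 (flp_b L29200) q2137, e3 q1732 (flp_b L29215) q2139, e3 q1733 (flp_b L29223) q2140, e3 q1734 L21540 q1734, e3 q1735 L21548 q1735, e3 q1736 L21554 q1736, e3 q1737 L21564 q1737, e3 q1738 L21568 q1738, e3 q1739 L21575 q1739, e3 q1740 L21580 q1740, e3 q1741 L21588 q1741, e3 q1742 L21597 q1742, e3 q1743 L21602 q1391, e3 q1744 L21609 q1392, e3 q1745 (flp_b L29351) q2158, e3 q1746 (flp_b L29358) q2159, e3 q1747 (flp_b L29366) q2160, e3 q1748 L21641 q1748, e3 q1749 L21648 q1749, e3 q1750 L21655 q1750, e3 q1751 L22448 q1398, e3 q1752 L22456 q1399, e3 q1753 (flp_b L30513) q2167, e3 q1754 (flp_b L30530) q2168, e3 q1755 (flp_b L30537) q2169, e3 q1756 L22539 q1756, e3 q1757 L22573 q1757, e3 q1758 L22677 q1406, e3 q1759 L22688 q1407, e3 q1760 (flp_b L30854) q2172, e3 q1761 (flp_b L30874) q2173, e3 q1762 L22945 q1413, e3 q1763 L23403 q1416, e3 q1764 L23412 q1417, e3 q1765 L23420 q1418,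 e3 q1766 L23429 q1419, e3 q1767 (flp_b L31825) q2174, e3 q1768 (flp_b L31833) q2175, e3 q1769 (flp_b L31843) q2176, e3 q1770 (flp_b L31853) q2177, e3 q1771 (flp_b L31862) q2178, e3 q1772 (flp_b L31876) q2180, e3 q1773 L23488 q1773, e3 q1774 L23497 q1774, e3 q1775 L23507 q1775, e3 q1776 L23514 q1776, e3 q1777 L23527 q1777, e3 q1778 L23535 q1778, e3 q1779 L23550 q1779, e3 q1780 L23616 q1434, e3 q1781 L23622 q1435, e3 q1782 (flp_b L32109) q2187, e3 q1783 (flp_b L32123) q2188, e3 q1784 L23652 q1784, e3 q1785 L32786 q2191, e3 q1786 L24139 q1536, e3 q1787 L24147 q1537, e3 q1788 L24163 q1450, e3 q1789 L24170 q1451, e3 q1790 L24177 q1444, e3 q1791 L24189 q1445, trivial⟩ (by decide +kernel)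

theorem ce_b_28 : ∀ r, r < 64 → sm gb (Qf (1792 + r)) = Qf (tab Gen.b (1792 + r)) :=
  edges_tab (sm gb) Qf (tab Gen.b) 1792 [(1792, 1446), (1793, 2201), (1794, 2202), (1795, 1447), (1796, 2205), (1797, 2206), (1798, 1566), (1799, 1568), (1800, 1569), (1801, 2197), (1802, 2198), (1803, 2199), (1804, 2200), (1805, 1455), (1806, 1456), (1807, 2219), (1808, 1458), (1809, 2220), (1810, 1810), (1811, 1462), (1812, 1463), (1813, 2223), (1814, 2224), (1815, 2225), (1816, 1620), (1817, 1817), (1818, 1818), (1819, 1819), (1820, 1820), (1821, 1889), (1822, 1890), (1823, 1823), (1824, 1473), (1825, 1474), (1826, 1475), (1827, 2241), (1828, 2242), (1829, 2243), (1830, 2244), (1831, 2249), (1832, 1900), (1833, 1901), (1834, 1902), (1835, 1490), (1836, 1491), (1837, 1482), (1838, 1483), (1839, 1484), (1840, 1485), (1841, 2261), (1842, 2262), (1843, 2263), (1844, 2264), (1845, 1486), (1846, 2270), (1847, 2271), (1848, 1937), (1849, 1938), (1850, 1939), (1851, 1940), (1852, 2256), (1853, 2257), (1854,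 2258), (1855, 2259)]
    ⟨e3 q1792 L24196 q1446, e3 q1793 (flp_b L32886) q2201, e3 q1794 (flp_b L32900) q2202, e3 q1795 (flp_b L24236) q1447, e3 q1796 (flp_b L32949) q2205, e3 q1797 (flp_b L32956) q2206, e3 q1798 L24260 q1566, e3 q1799 L24277 q1568, e3 q1800 L24287 q1569, e3 q1801 (flp_b L32843) q2197, e3 q1802 (flp_b L32857) q2198, e3 q1803 (flp_b L32865) q2199, e3 q1804 (flp_b L32872) q2200, e3 q1805 L24329 q1455, e3 q1806 L24344 q1456, e3 q1807 (flp_b L33112) q2219, e3 q1808 L24391 q1458, e3 q1809 (flp_b L33169) q2220, e3 q1810 L24485 q1810, e3 q1811 L24622 q1462, e3 q1812 L24631 q1463, e3 q1813 (flp_b L33528) q2223, e3 q1814 (flp_b L33537) q2224, e3 q1815 (flp_b L33544) q2225, e3 q1816 L24710 q1620, e3 q1817 L24749 q1817, e3 q1818 L24755 q1818, e3 q1819 L24763 q1819, e3 q1820 L24769 q1820, e3 q1821 (flp_b L26047) q1889, e3 q1822 (flp_b L26056) q1890, e3 q1823 L25457 q1823, e3 q1824 L25461 q1473, e3 q1825 L25468 q1474, e3 q1826 L25476 q1475, e3 q1827 (flp_b L34678) q2241, e3 q1828 (flp_b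 L34685) q2242, e3 q1829 (flp_b L34693) q2243, e3 q1830 (flp_b L34701) q2244, e3 q1831 L34737 q2249, e3 q1832 (flp_b L26149) q1900, e3 q1833 (flp_b L26159) q1901, e3 q1834 (flp_b L26168) q1902, e3 q1835 L25548 q1490, e3 q1836 L25557 q1491, e3 q1837 L25566 q1482, e3 q1838 L25575 q1483, e3 q1839 L25584 q1484, e3 q1840 L25590 q1485, e3 q1841 (flp_b L34845) q2261, e3 q1842 (flp_b L34854) q2262, e3 q1843 (flp_b L34862) q2263, e3 q1844 (flp_b L34869) q2264, e3 q1845 (flp_b L25629) q1486, e3 q1846 (flp_b L34919) q2270, e3 q1847 (flp_b L34926) q2271, e3 q1848 (flp_b L26447) q1937, e3 q1849 (flp_b L26459) q1938, e3 q1850 (flp_b L26470) q1939, e3 q1851 (flp_b L26479) q1940, e3 q1852 (flp_b L34800) q2256, e3 q1853 (flp_b L34810) q2257, e3 q1854 (flp_b L34820) q2258, e3 q1855 (flp_b L34828) q2259, trivial⟩ (by decide +kernel)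

theorem ce_b_29 : ∀ r, r < 64 → sm gb (Qf (1856 + r)) = Qf (tab Gen.b (1856 + r)) :=
  edges_tab (sm gb) Qf (tab Gen.b) 1856 [(1856, 2260), (1857, 1496), (1858, 1497), (1859, 1498), (1860, 1499), (1861, 2289), (1862, 2290), (1863, 2291), (1864, 2292), (1865, 2293), (1866, 1501), (1867, 1502), (1868, 2299), (1869, 2300), (1870, 2301), (1871, 2302), (1872, 2303), (1873, 1988), (1874, 1989), (1875, 1876), (1876, 1875), (1877, 1877), (1878, 1878), (1879, 1879), (1880, 1880), (1881, 1881), (1882, 1882), (1883, 1883), (1884, 1516), (1885, 1517), (1886, 1518), (1887, 2322), (1888, 2325), (1889, 1821), (1890, 1822), (1891, 1891), (1892, 1522), (1893, 1523), (1894, 1524), (1895, 2332), (1896, 2333), (1897, 2334), (1898, 2335), (1899, 2340), (1900, 1832), (1901, 1833), (1902, 1834), (1903, 1553), (1904, 1554), (1905, 1531), (1906, 1532), (1907, 1533), (1908, 1534), (1909, 2352), (1910, 2353), (1911, 2354), (1912, 2355), (1913, 1535), (1914, 2360), (1915, 2361), (1916, 2194), (1917, 2037), (1918,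 2195), (1919, 2196)]
    ⟨e3 q1856 (flp_b L34834) q2260, e3 q1857 L25729 q1496, e3 q1858 L25739 q1497, e3 q1859 L25747 q1498, e3 q1860 L25755 q1499, e3 q1861 (flp_b L35073) q2289, e3 q1862 (flp_b L35084) q2290, e3 q1863 (flp_b L35092) q2291, e3 q1864 (flp_b L35101) q2292, e3 q1865 (flp_b L35111) q2293, e3 q1866 L25803 q1501, e3 q1867 L25811 q1502, e3 q1868 (flp_b L35158) q2299, e3 q1869 (flp_b L35167) q2300, e3 q1870 (flp_b L35177) q2301, e3 q1871 (flp_b L35184) q2302, e3 q1872 (flp_b L35193) q2303, e3 q1873 (flp_b L26888) q1988, e3 q1874 (flp_b L26898) q1989, e3 q1875 (flp_b L111497) q1876, e3 q1876 L111497 q1875, e3 q1877 L25903 q1877, e3 q1878 L25911 q1878, e3 q1879 L25920 q1879, e3 q1880 L25929 q1880, e3 q1881 L25938 q1881, e3 q1882 L25945 q1882, e3 q1883 L25954 q1883, e3 q1884 L25963 q1516, e3 q1885 L25973 q1517, e3 q1886 L25981 q1518, e3 q1887 (flp_b L35420) q2322, e3 q1888 L35479 q2325, e3 q1889 L26047 q1821, e3 q1890 L26056 q1822, e3 q1891 L26069 q1891, e3 q1892 L26074 q1522, e3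 q1893 L26081 q1523, e3 q1894 L26089 q1524, e3 q1895 (flp_b L35558) q2332, e3 q1896 (flp_b L35565) q2333, e3 q1897 (flp_b L35573) q2334, e3 q1898 (flp_b L35581) q2335, e3 q1899 L35625 q2340, e3 q1900 L26149 q1832, e3 q1901 L26159 q1833, e3 q1902 L26168 q1834, e3 q1903 L26178 q1553, e3 q1904 L26188 q1554, e3 q1905 L26197 q1531, e3 q1906 L26206 q1532, e3 q1907 L26215 q1533, e3 q1908 L26221 q1534, e3 q1909 (flp_b L35747) q2352, e3 q1910 (flp_b L35756) q2353, e3 q1911 (flp_b L35764) q2354, e3 q1912 (flp_b L35771) q2355, e3 q1913 (flp_b L26268) q1535, e3 q1914 (flp_b L35833) q2360, e3 q1915 (flp_b L35841) q2361, e3 q1916 (flp_b L32812) q2194, e3 q1917 (flp_b L103161) q2037, e3 q1918 (flp_b L32828) q2195, e3 q1919 (flp_b L32837) q2196, trivial⟩ (by decide +kernel)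

theorem ce_b_30 : ∀ r, r < 64 → sm gb (Qf (1920 + r)) = Qf (tab Gen.b (1920 + r)) :=
  edges_tab (sm gb) Qf (tab Gen.b) 1920 [(1920, 1570), (1921, 1571), (1922, 1572), (1923, 1573), (1924, 1574), (1925, 1545), (1926, 1546), (1927, 1547), (1928, 1548), (1929, 2379), (1930, 2380), (1931, 2381), (1932, 2382), (1933, 2383), (1934, 1549), (1935, 2389), (1936, 2390), (1937, 1848), (1938, 1849), (1939, 1850), (1940, 1851), (1941, 2347), (1942, 2348), (1943, 2349), (1944, 2350), (1945, 2351), (1946, 1559), (1947, 1560), (1948, 1561), (1949, 1562), (1950, 2408), (1951, 2409), (1952, 2410), (1953, 2411), (1954, 1564), (1955, 1565), (1956, 2414), (1957, 2415), (1958, 2416), (1959, 2417), (1960, 2418), (1961, 2002), (1962, 2211), (1963, 2019), (1964, 2212), (1965, 2371), (1966, 2372), (1967, 2373), (1968, 2374), (1969, 2375), (1970, 2376), (1971, 2377), (1972, 2378), (1973, 1579), (1974, 1580), (1975, 1581), (1976, 1582), (1977, 1583), (1978, 2445), (1979, 2448), (1980, 2447), (1981, 1585), (1982,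 1586), (1983, 2450)]
    ⟨e3 q1920 L26317 q1570, e3 q1921 L26323 q1571, e3 q1922 L26332 q1572, e3 q1923 L26340 q1573, e3 q1924 L26348 q1574, e3 q1925 L26355 q1545, e3 q1926 L26362 q1546, e3 q1927 L26368 q1547, e3 q1928 L26376 q1548, e3 q1929 (flp_b L35977) q2379, e3 q1930 (flp_b L35983) q2380, e3 q1931 (flp_b L35991) q2381, e3 q1932 (flp_b L35997) q2382, e3 q1933 (flp_b L36003) q2383, e3 q1934 (flp_b L26413) q1549, e3 q1935 (flp_b L36043) q2389, e3 q1936 (flp_b L36053) q2390, e3 q1937 L26447 q1848, e3 q1938 L26459 q1849, e3 q1939 L26470 q1850, e3 q1940 L26479 q1851, e3 q1941 (flp_b L35700) q2347, e3 q1942 (flp_b L35710) q2348, e3 q1943 (flp_b L35721) q2349, e3 q1944 (flp_b L35729) q2350, e3 q1945 (flp_b L35736) q2351, e3 q1946 L26527 q1559, e3 q1947 L26537 q1560, e3 q1948 L26545 q1561, e3 q1949 L26553 q1562, e3 q1950 (flp_b L36226) q2408, e3 q1951 (flp_b L36234) q2409, e3 q1952 (flp_b L36243) q2410, e3 q1953 (flp_b L36253) q2411, e3 q1954 L26610 q1564, e3 q1955 L26616 q1565, e3 q1956 (flp_b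 L36309) q2414, e3 q1957 (flp_b L36313) q2415, e3 q1958 (flp_b L36320) q2416, e3 q1959 (flp_b L36326) q2417, e3 q1960 (flp_b L36333) q2418, e3 q1961 (flp_b L111400) q2002, e3 q1962 (flp_b L33012) q2211, e3 q1963 (flp_b L104708) q2019, e3 q1964 (flp_b L33031) q2212, e3 q1965 (flp_b L35912) q2371, e3 q1966 (flp_b L35919) q2372, e3 q1967 (flp_b L35927) q2373, e3 q1968 (flp_b L35935) q2374, e3 q1969 (flp_b L35944) q2375, e3 q1970 (flp_b L35953) q2376, e3 q1971 (flp_b L35961) q2377, e3 q1972 (flp_b L35969) q2378, e3 q1973 L26744 q1579, e3 q1974 L26751 q1580, e3 q1975 L26759 q1581, e3 q1976 L26767 q1582, e3 q1977 L26773 q1583, e3 q1978 (flp_b L36547) q2445, e3 q1979 L36594 q2448, e3 q1980 (flp_b L36561) q2447, e3 q1981 L26814 q1585, e3 q1982 L26825 q1586, e3 q1983 (flp_b L36615) q2450, trivial⟩ (by decide +kernel)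

theorem ce_b_31 : ∀ r, r < 64 → sm gb (Qf (1984 + r)) = Qf (tab Gen.b (1984 + r)) :=
  edges_tab (sm gb) Qf (tab Gen.b) 1984 [(1984, 2451), (1985, 2452), (1986, 2453), (1987, 2454), (1988, 1873), (1989, 1874), (1990, 1990), (1991, 1991), (1992, 1992), (1993, 1993), (1994, 1994), (1995, 1600), (1996, 1601), (1997, 1602), (1998, 1603), (1999, 2464), (2000, 2465), (2001, 2466), (2002, 1961), (2003, 2003), (2004, 2004), (2005, 2005), (2006, 2475), (2007, 1610), (2008, 1613), (2009, 1614), (2010, 1615), (2011, 1616), (2012, 1617), (2013, 2477), (2014, 2478), (2015, 2479), (2016, 2480), (2017, 2482), (2018, 2483), (2019, 1963), (2020, 2021), (2021, 2020), (2022, 2022), (2023, 2023), (2024, 2024), (2025, 2025), (2026, 2026), (2027, 2027), (2028, 2028), (2029, 2029), (2030, 2030), (2031, 2506), (2032, 1631), (2033, 1630), (2034, 2509), (2035, 2510), (2036, 1633), (2037, 1917), (2038, 2038), (2039, 2039), (2040, 2040), (2041, 2513), (2042, 2042), (2043, 2043), (2044, 2044), (2045, 2045), (2046,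 2046), (2047, 1645)]
    ⟨e3 q1984 (flp_b L36626) q2451, e3 q1985 (flp_b L36639) q2452, e3 q1986 (flp_b L36648) q2453, e3 q1987 (flp_b L36657) q2454, e3 q1988 L26888 q1873, e3 q1989 L26898 q1874, e3 q1990 L26928 q1990, e3 q1991 L26937 q1991, e3 q1992 L26946 q1992, e3 q1993 L26964 q1993, e3 q1994 L26991 q1994, e3 q1995 L27093 q1600, e3 q1996 L27098 q1601, e3 q1997 L27107 q1602, e3 q1998 L27115 q1603, e3 q1999 (flp_b L37017) q2464, e3 q2000 (flp_b L37024) q2465, e3 q2001 (flp_b L37031) q2466, e3 q2002 L111400 q1961, e3 q2003 L27200 q2003, e3 q2004 L27207 q2004, e3 q2005 L27228 q2005, e3 q2006 L37235 q2475, e3 q2007 (flp_b L27309) q1610, e3 q2008 L27328 q1613, e3 q2009 L27336 q1614, e3 q2010 L27345 q1615, e3 q2011 L27352 q1616, e3 q2012 L27360 q1617, e3 q2013 (flp_b L37322) q2477, e3 q2014 (flp_b L37330) q2478, e3 q2015 (flp_b L37338) q2479, e3 q2016 (flp_b L37347) q2480, e3 q2017 (flp_b L37361) q2482, e3 q2018 (flp_b L37370) q2483, e3 q2019 L104708 q1963, e3 q2020 (flp_b L104724) q2021, e3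 q2021 L104724 q2020, e3 q2022 L27485 q2022, e3 q2023 L27490 q2023, e3 q2024 L27499 q2024, e3 q2025 L27507 q2025, e3 q2026 L27516 q2026, e3 q2027 L27521 q2027, e3 q2028 L27528 q2028, e3 q2029 L27534 q2029, e3 q2030 L27541 q2030, e3 q2031 L37637 q2506, e3 q2032 L27578 q1631, e3 q2033 (flp_b L27611) q1630, e3 q2034 (flp_b L37707) q2509, e3 q2035 L37751 q2510, e3 q2036 (flp_b L27699) q1633, e3 q2037 L103161 q1917, e3 q2038 L27857 q2038, e3 q2039 L27866 q2039, e3 q2040 L27877 q2040, e3 q2041 L38113 q2513, e3 q2042 L27945 q2042, e3 q2043 L27953 q2043, e3 q2044 L27961 q2044, e3 q2045 L27969 q2045, e3 q2046 L27975 q2046, e3 q2047 (flp_b L28041) q1645, trivial⟩ (by decide +kernel)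

theorem ce_b_32 : ∀ r, r < 64 → sm gb (Qf (2048 + r)) = Qf (tab Gen.b (2048 + r)) :=
  edges_tab (sm gb) Qf (tab Gen.b) 2048 [(2048, 2517), (2049, 2518), (2050, 2050), (2051, 2051), (2052, 2052), (2053, 2053), (2054, 1678), (2055, 1679), (2056, 1680), (2057, 1681), (2058, 1682), (2059, 1656), (2060, 1657), (2061, 2528), (2062, 2529), (2063, 2530), (2064, 2531), (2065, 2532), (2066, 2066), (2067, 2067), (2068, 2068), (2069, 2069), (2070, 1694), (2071, 1695), (2072, 1696), (2073, 1697), (2074, 1698), (2075, 1699), (2076, 1700), (2077, 1701), (2078, 1672), (2079, 1673), (2080, 2550), (2081, 2551), (2082, 2552), (2083, 2553), (2084, 2554), (2085, 2524), (2086, 2525), (2087, 2526), (2088, 2527), (2089, 1685), (2090, 1686), (2091, 1687), (2092, 1688), (2093, 1689), (2094, 2564), (2095, 2565), (2096, 2566), (2097, 2567), (2098, 2568), (2099, 2569), (2100, 2571), (2101, 2572), (2102, 2541), (2103, 2542), (2104, 2543), (2105, 2544), (2106, 2545), (2107, 2546), (2108, 2547), (2109, 2548), (2110,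 2549), (2111, 1704)]
    ⟨e3 q2048 (flp_b L38274) q2517, e3 q2049 (flp_b L38283) q2518, e3 q2050 L28070 q2050, e3 q2051 L28079 q2051, e3 q2052 L28089 q2052, e3 q2053 L28096 q2053, e3 q2054 L28103 q1678, e3 q2055 L28112 q1679, e3 q2056 L28121 q1680, e3 q2057 L28129 q1681, e3 q2058 L28134 q1682, e3 q2059 L28221 q1656, e3 q2060 L28228 q1657, e3 q2061 (flp_b L38513) q2528, e3 q2062 (flp_b L38521) q2529, e3 q2063 (flp_b L38529) q2530, e3 q2064 (flp_b L38538) q2531, e3 q2065 (flp_b L38545) q2532, e3 q2066 L28273 q2066, e3 q2067 L28281 q2067, e3 q2068 L28289 q2068, e3 q2069 L28298 q2069, e3 q2070 L28304 q1694, e3 q2071 L28310 q1695, e3 q2072 L28318 q1696, e3 q2073 L28327 q1697, e3 q2074 L28336 q1698, e3 q2075 L28343 q1699, e3 q2076 L28351 q1700, e3 q2077 L28358 q1701, e3 q2078 L28437 q1672, e3 q2079 L28444 q1673, e3 q2080 (flp_b L38824) q2550, e3 q2081 (flp_b L38832) q2551, e3 q2082 (flp_b L38840) q2552, e3 q2083 (flp_b L38847) q2553, e3 q2084 (flp_b L38852) q2554, e3 q2085 (flp_b L38366) q2524,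 e3 q2086 (flp_b L38402) q2525, e3 q2087 (flp_b L38418) q2526, e3 q2088 (flp_b L38424) q2527, e3 q2089 L28668 q1685, e3 q2090 L28674 q1686, e3 q2091 L28680 q1687, e3 q2092 L28687 q1688, e3 q2093 L28692 q1689, e3 q2094 (flp_b L39153) q2564, e3 q2095 (flp_b L39158) q2565, e3 q2096 (flp_b L39165) q2566, e3 q2097 (flp_b L39173) q2567, e3 q2098 (flp_b L39181) q2568, e3 q2099 (flp_b L39187) q2569, e3 q2100 (flp_b L39200) q2571, e3 q2101 (flp_b L39206) q2572, e3 q2102 (flp_b L38656) q2541, e3 q2103 (flp_b L38663) q2542, e3 q2104 (flp_b L38687) q2543, e3 q2105 (flp_b L38701) q2544, e3 q2106 (flp_b L38718) q2545, e3 q2107 (flp_b L38723) q2546, e3 q2108 (flp_b L38732) q2547, e3 q2109 (flp_b L38738) q2548, e3 q2110 (flp_b L38747) q2549, e3 q2111 L28910 q1704, trivial⟩ (by decide +kernel)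

theorem ce_b_33 : ∀ r, r < 64 → sm gb (Qf (2112 + r)) = Qf (tab Gen.b (2112 + r)) :=
  edges_tab (sm gb) Qf (tab Gen.b) 2112 [(2112, 1705), (2113, 1706), (2114, 1707), (2115, 2593), (2116, 2594), (2117, 2595), (2118, 2596), (2119, 2597), (2120, 2599), (2121, 2121), (2122, 2122), (2123, 2123), (2124, 2124), (2125, 2125), (2126, 2126), (2127, 1719), (2128, 1720), (2129, 2613), (2130, 2614), (2131, 2615), (2132, 2132), (2133, 2133), (2134, 2134), (2135, 1729), (2136, 1730), (2137, 1731), (2138, 2570), (2139, 1732), (2140, 1733), (2141, 2622), (2142, 2623), (2143, 2625), (2144, 2626), (2145, 2629), (2146, 2630), (2147, 2631), (2148, 2148), (2149, 2149), (2150, 2150), (2151, 2151), (2152, 2152), (2153, 2153), (2154, 2154), (2155, 2155), (2156, 2156), (2157, 2157), (2158, 1745), (2159, 1746), (2160, 1747), (2161, 2653), (2162, 2654), (2163, 2655), (2164, 2164), (2165, 2165), (2166, 2166), (2167, 1753), (2168, 1754), (2169, 1755), (2170, 2662), (2171, 2663), (2172, 1760), (2173, 1761), (2174,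 1767), (2175, 1768)]
    ⟨e3 q2112 L28919 q1705, e3 q2113 L28929 q1706, e3 q2114 L28938 q1707, e3 q2115 (flp_b L39458) q2593, e3 q2116 (flp_b L39466) q2594, e3 q2117 (flp_b L39476) q2595, e3 q2118 (flp_b L39486) q2596, e3 q2119 (flp_b L39497) q2597, e3 q2120 (flp_b L39513) q2599, e3 q2121 L29028 q2121, e3 q2122 L29035 q2122, e3 q2123 L29059 q2123, e3 q2124 L29064 q2124, e3 q2125 L29073 q2125, e3 q2126 L29078 q2126, e3 q2127 L29129 q1719, e3 q2128 L29135 q1720, e3 q2129 (flp_b L39745) q2613, e3 q2130 (flp_b L39752) q2614, e3 q2131 (flp_b L39759) q2615, e3 q2132 L29165 q2132, e3 q2133 L29171 q2133, e3 q2134 L29177 q2134, e3 q2135 L29183 q1729, e3 q2136 L29193 q1730, e3 q2137 L29200 q1731, e3 q2138 (flp_b L39195) q2570, e3 q2139 L29215 q1732, e3 q2140 L29223 q1733, e3 q2141 (flp_b L39808) q2622, e3 q2142 (flp_b L39816) q2623, e3 q2143 (flp_b L39833) q2625, e3 q2144 (flp_b L39839) q2626, e3 q2145 (flp_b L39861) q2629, e3 q2146 (flp_b L39868) q2630, e3 q2147 (flp_b L39878) q2631, e3 q2148 L29282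 q2148, e3 q2149 L29288 q2149, e3 q2150 L29296 q2150, e3 q2151 L29302 q2151, e3 q2152 L29308 q2152, e3 q2153 L29314 q2153, e3 q2154 L29320 q2154, e3 q2155 L29327 q2155, e3 q2156 L29334 q2156, e3 q2157 L29342 q2157, e3 q2158 L29351 q1745, e3 q2159 L29358 q1746, e3 q2160 L29366 q1747, e3 q2161 (flp_b L40035) q2653, e3 q2162 (flp_b L40043) q2654, e3 q2163 (flp_b L40051) q2655, e3 q2164 L29399 q2164, e3 q2165 L29407 q2165, e3 q2166 L29415 q2166, e3 q2167 L30513 q1753, e3 q2168 L30530 q1754, e3 q2169 L30537 q1755, e3 q2170 (flp_b L41614) q2662, e3 q2171 (flp_b L41649) q2663, e3 q2172 L30854 q1760, e3 q2173 L30874 q1761, e3 q2174 L31825 q1767, e3 q2175 L31833 q1768, trivial⟩ (by decide +kernel)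

theorem ce_b_34 : ∀ r, r < 64 → sm gb (Qf (2176 + r)) = Qf (tab Gen.b (2176 + r)) :=
  edges_tab (sm gb) Qf (tab Gen.b) 2176 [(2176, 1769), (2177, 1770), (2178, 1771), (2179, 2179), (2180, 1772), (2181, 2667), (2182, 2668), (2183, 2669), (2184, 2670), (2185, 2185), (2186, 2186), (2187, 1782), (2188, 1783), (2189, 2676), (2190, 2190), (2191, 1785), (2192, 2678), (2193, 2679), (2194, 1916), (2195, 1918), (2196, 1919), (2197, 1801), (2198, 1802), (2199, 1803), (2200, 1804), (2201, 1793), (2202, 1794), (2203, 2692), (2204, 2693), (2205, 1796), (2206, 1797), (2207, 2695), (2208, 2696), (2209, 2697), (2210, 2698), (2211, 1962), (2212, 1964), (2213, 2686), (2214, 2687), (2215, 2688), (2216, 2689), (2217, 2690), (2218, 2691), (2219, 1807), (2220, 1809), (2221, 2714), (2222, 2222), (2223, 1813), (2224, 1814), (2225, 1815), (2226, 2717), (2227, 2718), (2228, 2720), (2229, 2721), (2230, 2230), (2231, 2231), (2232, 2232), (2233, 2233), (2234, 2234), (2235, 2733), (2236, 2327), (2237, 2328), (2238,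 2329), (2239, 2239)]
    ⟨e3 q2176 L31843 q1769, e3 q2177 L31853 q1770, e3 q2178 L31862 q1771, e3 q2179 L31871 q2179, e3 q2180 L31876 q1772, e3 q2181 (flp_b L43368) q2667, e3 q2182 (flp_b L43383) q2668, e3 q2183 (flp_b L43392) q2669, e3 q2184 (flp_b L43410) q2670, e3 q2185 L31971 q2185, e3 q2186 L32104 q2186, e3 q2187 L32109 q1782, e3 q2188 L32123 q1783, e3 q2189 (flp_b L43732) q2676, e3 q2190 L32153 q2190, e3 q2191 (flp_b L32786) q1785, e3 q2192 (flp_b L44633) q2678, e3 q2193 (flp_b L44642) q2679, e3 q2194 L32812 q1916, e3 q2195 L32828 q1918, e3 q2196 L32837 q1919, e3 q2197 L32843 q1801, e3 q2198 L32857 q1802, e3 q2199 L32865 q1803, e3 q2200 L32872 q1804, e3 q2201 L32886 q1793, e3 q2202 L32900 q1794, e3 q2203 (flp_b L44797) q2692, e3 q2204 (flp_b L44803) q2693, e3 q2205 L32949 q1796, e3 q2206 L32956 q1797, e3 q2207 (flp_b L44859) q2695, e3 q2208 (flp_b L44873) q2696, e3 q2209 (flp_b L44881) q2697, e3 q2210 (flp_b L44887) q2698, e3 q2211 L33012 q1962, e3 q2212 L33031 q1964, e3 q2213 (flp_b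 L44721) q2686, e3 q2214 (flp_b L44735) q2687, e3 q2215 (flp_b L44752) q2688, e3 q2216 (flp_b L44760) q2689, e3 q2217 (flp_b L44768) q2690, e3 q2218 (flp_b L44775) q2691, e3 q2219 L33112 q1807, e3 q2220 L33169 q1809, e3 q2221 (flp_b L45184) q2714, e3 q2222 L33331 q2222, e3 q2223 L33528 q1813, e3 q2224 L33537 q1814, e3 q2225 L33544 q1815, e3 q2226 (flp_b L45691) q2717, e3 q2227 (flp_b L45699) q2718, e3 q2228 (flp_b L45716) q2720, e3 q2229 (flp_b L45724) q2721, e3 q2230 L33731 q2230, e3 q2231 L33735 q2231, e3 q2232 L33742 q2232, e3 q2233 L33747 q2233, e3 q2234 L33754 q2234, e3 q2235 L47177 q2733, e3 q2236 (flp_b L35513) q2327, e3 q2237 (flp_b L35522) q2328, e3 q2238 (flp_b L35532) q2329, e3 q2239 L34664 q2239, trivial⟩ (by decide +kernel)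

theorem ce_b_35 : ∀ r, r < 64 → sm gb (Qf (2240 + r)) = Qf (tab Gen.b (2240 + r)) :=
  edges_tab (sm gb) Qf (tab Gen.b) 2240 [(2240, 2240), (2241, 1827), (2242, 1828), (2243, 1829), (2244, 1830), (2245, 2745), (2246, 2746), (2247, 2747), (2248, 2748), (2249, 1831), (2250, 2754), (2251, 2755), (2252, 2343), (2253, 2344), (2254, 2345), (2255, 2346), (2256, 1852), (2257, 1853), (2258, 1854), (2259, 1855), (2260, 1856), (2261, 1841), (2262, 1842), (2263, 1843), (2264, 1844), (2265, 2773), (2266, 2774), (2267, 2775), (2268, 2776), (2269, 2777), (2270, 1846), (2271, 1847), (2272, 2783), (2273, 2784), (2274, 2785), (2275, 2786), (2276, 2787), (2277, 2396), (2278, 2397), (2279, 2398), (2280, 2399), (2281, 2765), (2282, 2766), (2283, 2767), (2284, 2768), (2285, 2769), (2286, 2770), (2287, 2771), (2288, 2772), (2289, 1861), (2290, 1862), (2291, 1863), (2292, 1864), (2293, 1865), (2294, 2814), (2295, 2815), (2296, 2816), (2297, 2822), (2298, 2818), (2299, 1868), (2300, 1869), (2301, 1870), (2302,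 1871), (2303, 1872)]
    ⟨e3 q2240 L34671 q2240, e3 q2241 L34678 q1827, e3 q2242 L34685 q1828, e3 q2243 L34693 q1829, e3 q2244 L34701 q1830, e3 q2245 (flp_b L47271) q2745, e3 q2246 (flp_b L47279) q2746, e3 q2247 (flp_b L47286) q2747, e3 q2248 (flp_b L47295) q2748, e3 q2249 (flp_b L34737) q1831, e3 q2250 (flp_b L47342) q2754, e3 q2251 (flp_b L47351) q2755, e3 q2252 (flp_b L35661) q2343, e3 q2253 (flp_b L35672) q2344, e3 q2254 (flp_b L35683) q2345, e3 q2255 (flp_b L35691) q2346, e3 q2256 L34800 q1852, e3 q2257 L34810 q1853, e3 q2258 L34820 q1854, e3 q2259 L34828 q1855, e3 q2260 L34834 q1856, e3 q2261 L34845 q1841, e3 q2262 L34854 q1842, e3 q2263 L34862 q1843, e3 q2264 L34869 q1844, e3 q2265 (flp_b L47506) q2773, e3 q2266 (flp_b L47516) q2774, e3 q2267 (flp_b L47524) q2775, e3 q2268 (flp_b L47531) q2776, e3 q2269 (flp_b L47541) q2777, e3 q2270 L34919 q1846, e3 q2271 L34926 q1847, e3 q2272 (flp_b L47587) q2783, e3 q2273 (flp_b L47595) q2784, e3 q2274 (flp_b L47603) q2785, e3 q2275 (flp_b L47609)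 q2786, e3 q2276 (flp_b L47615) q2787, e3 q2277 (flp_b L36112) q2396, e3 q2278 (flp_b L36124) q2397, e3 q2279 (flp_b L36134) q2398, e3 q2280 (flp_b L36144) q2399, e3 q2281 (flp_b L47435) q2765, e3 q2282 (flp_b L47445) q2766, e3 q2283 (flp_b L47455) q2767, e3 q2284 (flp_b L47465) q2768, e3 q2285 (flp_b L47474) q2769, e3 q2286 (flp_b L47481) q2770, e3 q2287 (flp_b L47491) q2771, e3 q2288 (flp_b L47499) q2772, e3 q2289 L35073 q1861, e3 q2290 L35084 q1862, e3 q2291 L35092 q1863, e3 q2292 L35101 q1864, e3 q2293 L35111 q1865, e3 q2294 (flp_b L47842) q2814, e3 q2295 (flp_b L47851) q2815, e3 q2296 (flp_b L47860) q2816, e3 q2297 L47915 q2822, e3 q2298 (flp_b L47877) q2818, e3 q2299 L35158 q1868, e3 q2300 L35167 q1869, e3 q2301 L35177 q1870, e3 q2302 L35184 q1871, e3 q2303 L35193 q1872, trivial⟩ (by decide +kernel)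

theorem ce_b_36 : ∀ r, r < 64 → sm gb (Qf (2304 + r)) = Qf (tab Gen.b (2304 + r)) :=
  edges_tab (sm gb) Qf (tab Gen.b) 2304 [(2304, 2824), (2305, 2825), (2306, 2826), (2307, 2827), (2308, 2828), (2309, 2829), (2310, 2831), (2311, 2312), (2312, 2311), (2313, 2427), (2314, 2314), (2315, 2315), (2316, 2316), (2317, 2317), (2318, 2318), (2319, 2319), (2320, 2320), (2321, 2321), (2322, 1887), (2323, 2852), (2324, 2853), (2325, 1888), (2326, 2855), (2327, 2236), (2328, 2237), (2329, 2238), (2330, 2330), (2331, 2331), (2332, 1895), (2333, 1896), (2334, 1897), (2335, 1898), (2336, 2866), (2337, 2867), (2338, 2868), (2339, 2869), (2340, 1899), (2341, 2875), (2342, 2876), (2343, 2252), (2344, 2253), (2345, 2254), (2346, 2255), (2347, 1941), (2348, 1942), (2349, 1943), (2350, 1944), (2351, 1945), (2352, 1909), (2353, 1910), (2354, 1911), (2355, 1912), (2356, 2894), (2357, 2895), (2358, 2896), (2359, 2897), (2360, 1914), (2361, 1915), (2362, 2902), (2363, 2903), (2364, 2904), (2365, 2905), (2366,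 2906), (2367, 2476)]
    ⟨e3 q2304 (flp_b L47941) q2824, e3 q2305 (flp_b L47951) q2825, e3 q2306 (flp_b L47960) q2826, e3 q2307 (flp_b L47969) q2827, e3 q2308 (flp_b L47978) q2828, e3 q2309 (flp_b L47986) q2829, e3 q2310 (flp_b L48003) q2831, e3 q2311 L111368 q2312, e3 q2312 (flp_b L111368) q2311, e3 q2313 (flp_b L104659) q2427, e3 q2314 L35316 q2314, e3 q2315 L35324 q2315, e3 q2316 L35330 q2316, e3 q2317 L35341 q2317, e3 q2318 L35350 q2318, e3 q2319 L35366 q2319, e3 q2320 L35386 q2320, e3 q2321 L35392 q2321, e3 q2322 L35420 q1887, e3 q2323 L48301 q2852, e3 q2324 L48346 q2853, e3 q2325 (flp_b L35479) q1888, e3 q2326 L48388 q2855, e3 q2327 L35513 q2236, e3 q2328 L35522 q2237, e3 q2329 L35532 q2238, e3 q2330 L35543 q2330, e3 q2331 L35551 q2331, e3 q2332 L35558 q1895, e3 q2333 L35565 q1896, e3 q2334 L35573 q1897, e3 q2335 L35581 q1898, e3 q2336 (flp_b L48496) q2866, e3 q2337 (flp_b L48504) q2867, e3 q2338 (flp_b L48511) q2868, e3 q2339 (flp_b L48520) q2869, e3 q2340 (flp_b L35625) q1899, e3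 q2341 (flp_b L48577) q2875, e3 q2342 (flp_b L48589) q2876, e3 q2343 L35661 q2252, e3 q2344 L35672 q2253, e3 q2345 L35683 q2254, e3 q2346 L35691 q2255, e3 q2347 L35700 q1941, e3 q2348 L35710 q1942, e3 q2349 L35721 q1943, e3 q2350 L35729 q1944, e3 q2351 L35736 q1945, e3 q2352 L35747 q1909, e3 q2353 L35756 q1910, e3 q2354 L35764 q1911, e3 q2355 L35771 q1912, e3 q2356 (flp_b L48769) q2894, e3 q2357 (flp_b L48777) q2895, e3 q2358 (flp_b L48784) q2896, e3 q2359 (flp_b L48794) q2897, e3 q2360 L35833 q1914, e3 q2361 L35841 q1915, e3 q2362 (flp_b L48852) q2902, e3 q2363 (flp_b L48858) q2903, e3 q2364 (flp_b L48867) q2904, e3 q2365 (flp_b L48875) q2905, e3 q2366 (flp_b L48884) q2906, e3 q2367 (flp_b L104074) q2476, trivial⟩ (by decide +kernel)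

theorem ce_b_37 : ∀ r, r < 64 → sm gb (Qf (2368 + r)) = Qf (tab Gen.b (2368 + r)) :=
  edges_tab (sm gb) Qf (tab Gen.b) 2368 [(2368, 2684), (2369, 2508), (2370, 2685), (2371, 1965), (2372, 1966), (2373, 1967), (2374, 1968), (2375, 1969), (2376, 1970), (2377, 1971), (2378, 1972), (2379, 1929), (2380, 1930), (2381, 1931), (2382, 1932), (2383, 1933), (2384, 2933), (2385, 2934), (2386, 2935), (2387, 2940), (2388, 2937), (2389, 1935), (2390, 1936), (2391, 2943), (2392, 2944), (2393, 2945), (2394, 2946), (2395, 2947), (2396, 2277), (2397, 2278), (2398, 2279), (2399, 2280), (2400, 2886), (2401, 2887), (2402, 2888), (2403, 2889), (2404, 2890), (2405, 2891), (2406, 2892), (2407, 2893), (2408, 1950), (2409, 1951), (2410, 1952), (2411, 1953), (2412, 2972), (2413, 2974), (2414, 1956), (2415, 1957), (2416, 1958), (2417, 1959), (2418, 1960), (2419, 2975), (2420, 2976), (2421, 2977), (2422, 2978), (2423, 2979), (2424, 2980), (2425, 2982), (2426, 2983), (2427, 2313), (2428, 2429), (2429, 2428), (2430,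 2705), (2431, 2494)]
    ⟨e3 q2368 (flp_b L44696) q2684, e3 q2369 L103089 q2508, e3 q2370 (flp_b L44714) q2685, e3 q2371 L35912 q1965, e3 q2372 L35919 q1966, e3 q2373 L35927 q1967, e3 q2374 L35935 q1968, e3 q2375 L35944 q1969, e3 q2376 L35953 q1970, e3 q2377 L35961 q1971, e3 q2378 L35969 q1972, e3 q2379 L35977 q1929, e3 q2380 L35983 q1930, e3 q2381 L35991 q1931, e3 q2382 L35997 q1932, e3 q2383 L36003 q1933, e3 q2384 (flp_b L49091) q2933, e3 q2385 (flp_b L49098) q2934, e3 q2386 (flp_b L49106) q2935, e3 q2387 L49150 q2940, e3 q2388 (flp_b L49118) q2937, e3 q2389 L36043 q1935, e3 q2390 L36053 q1936, e3 q2391 (flp_b L49169) q2943, e3 q2392 (flp_b L49179) q2944, e3 q2393 (flp_b L49190) q2945, e3 q2394 (flp_b L49198) q2946, e3 q2395 (flp_b L49205) q2947, e3 q2396 L36112 q2277, e3 q2397 L36124 q2278, e3 q2398 L36134 q2279, e3 q2399 L36144 q2280, e3 q2400 (flp_b L48685) q2886, e3 q2401 (flp_b L48696) q2887, e3 q2402 (flp_b L48706) q2888, e3 q2403 (flp_b L48716) q2889, e3 q2404 (flp_b L48725) q2890,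 e3 q2405 (flp_b L48733) q2891, e3 q2406 (flp_b L48743) q2892, e3 q2407 (flp_b L48752) q2893, e3 q2408 L36226 q1950, e3 q2409 L36234 q1951, e3 q2410 L36243 q1952, e3 q2411 L36253 q1953, e3 q2412 (flp_b L49471) q2972, e3 q2413 (flp_b L49488) q2974, e3 q2414 L36309 q1956, e3 q2415 L36313 q1957, e3 q2416 L36320 q1958, e3 q2417 L36326 q1959, e3 q2418 L36333 q1960, e3 q2419 (flp_b L49563) q2975, e3 q2420 (flp_b L49569) q2976, e3 q2421 (flp_b L49575) q2977, e3 q2422 (flp_b L49581) q2978, e3 q2423 (flp_b L49588) q2979, e3 q2424 (flp_b L49596) q2980, e3 q2425 (flp_b L49609) q2982, e3 q2426 (flp_b L49616) q2983, e3 q2427 L104659 q2313, e3 q2428 L104692 q2429, e3 q2429 (flp_b L104692) q2428, e3 q2430 (flp_b L44991) q2705, e3 q2431 (flp_b L104731) q2494, trivial⟩ (by decide +kernel)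

theorem ce_b_38 : ∀ r, r < 64 → sm gb (Qf (2432 + r)) = Qf (tab Gen.b (2432 + r)) :=
  edges_tab (sm gb) Qf (tab Gen.b) 2432 [(2432, 2920), (2433, 2921), (2434, 2922), (2435, 2923), (2436, 2924), (2437, 2925), (2438, 2926), (2439, 2927), (2440, 2928), (2441, 2929), (2442, 2930), (2443, 2931), (2444, 2932), (2445, 1978), (2446, 3017), (2447, 1980), (2448, 1979), (2449, 3020), (2450, 1983), (2451, 1984), (2452, 1985), (2453, 1986), (2454, 1987), (2455, 3021), (2456, 3022), (2457, 3023), (2458, 3024), (2459, 3026), (2460, 2460), (2461, 2461), (2462, 2462), (2463, 2463), (2464, 1999), (2465, 2000), (2466, 2001), (2467, 3036), (2468, 3037), (2469, 3038), (2470, 3043), (2471, 2471), (2472, 2472), (2473, 2473), (2474, 3047), (2475, 2006), (2476, 2367), (2477, 2013), (2478, 2014), (2479, 2015), (2480, 2016), (2481, 2981), (2482, 2017), (2483, 2018), (2484, 3049), (2485, 3050), (2486, 3051), (2487, 3052), (2488, 3054), (2489, 3055), (2490, 3058), (2491, 3059), (2492, 3060), (2493, 3072), (2494,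 2431), (2495, 3074)]
    ⟨e3 q2432 (flp_b L48988) q2920, e3 q2433 (flp_b L48997) q2921, e3 q2434 (flp_b L49004) q2922, e3 q2435 (flp_b L49011) q2923, e3 q2436 (flp_b L49021) q2924, e3 q2437 (flp_b L49025) q2925, e3 q2438 (flp_b L49033) q2926, e3 q2439 (flp_b L49043) q2927, e3 q2440 (flp_b L49052) q2928, e3 q2441 (flp_b L49059) q2929, e3 q2442 (flp_b L49068) q2930, e3 q2443 (flp_b L49075) q2931, e3 q2444 (flp_b L49083) q2932, e3 q2445 L36547 q1978, e3 q2446 L49922 q3017, e3 q2447 L36561 q1980, e3 q2448 (flp_b L36594) q1979, e3 q2449 (flp_b L49995) q3020, e3 q2450 L36615 q1983, e3 q2451 L36626 q1984, e3 q2452 L36639 q1985, e3 q2453 L36648 q1986, e3 q2454 L36657 q1987, e3 q2455 (flp_b L50010) q3021, e3 q2456 (flp_b L50021) q3022, e3 q2457 (flp_b L50032) q3023, e3 q2458 (flp_b L50054) q3024, e3 q2459 (flp_b L50095) q3026, e3 q2460 L36805 q2460, e3 q2461 L36814 q2461, e3 q2462 L36841 q2462, e3 q2463 L36878 q2463, e3 q2464 L37017 q1999, e3 q2465 L37024 q2000, e3 q2466 L37031 q2001, e3 q2467 (flp_b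 L50545) q3036, e3 q2468 (flp_b L50554) q3037, e3 q2469 (flp_b L50577) q3038, e3 q2470 L50697 q3043, e3 q2471 L37154 q2471, e3 q2472 L37161 q2472, e3 q2473 L37167 q2473, e3 q2474 L50782 q3047, e3 q2475 (flp_b L37235) q2006, e3 q2476 L104074 q2367, e3 q2477 L37322 q2013, e3 q2478 L37330 q2014, e3 q2479 L37338 q2015, e3 q2480 L37347 q2016, e3 q2481 (flp_b L49605) q2981, e3 q2482 L37361 q2017, e3 q2483 L37370 q2018, e3 q2484 (flp_b L50954) q3049, e3 q2485 (flp_b L50961) q3050, e3 q2486 (flp_b L50970) q3051, e3 q2487 (flp_b L50980) q3052, e3 q2488 (flp_b L50996) q3054, e3 q2489 (flp_b L51003) q3055, e3 q2490 (flp_b L51026) q3058, e3 q2491 (flp_b L51034) q3059, e3 q2492 (flp_b L51043) q3060, e3 q2493 L51197 q3072, e3 q2494 L104731 q2431, e3 q2495 L51256 q3074, trivial⟩ (by decide +kernel)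

theorem ce_b_39 : ∀ r, r < 64 → sm gb (Qf (2496 + r)) = Qf (tab Gen.b (2496 + r)) :=
  edges_tab (sm gb) Qf (tab Gen.b) 2496 [(2496, 2496), (2497, 2497), (2498, 2498), (2499, 2499), (2500, 2500), (2501, 2501), (2502, 2502), (2503, 2503), (2504, 2504), (2505, 2505), (2506, 2031), (2507, 3090), (2508, 2369), (2509, 2034), (2510, 2035), (2511, 3092), (2512, 3093), (2513, 2041), (2514, 3094), (2515, 3095), (2516, 2516), (2517, 2048), (2518, 2049), (2519, 3098), (2520, 3099), (2521, 3100), (2522, 3101), (2523, 3102), (2524, 2085), (2525, 2086), (2526, 2087), (2527, 2088), (2528, 2061), (2529, 2062), (2530, 2063), (2531, 2064), (2532, 2065), (2533, 3110), (2534, 3111), (2535, 3112), (2536, 3113), (2537, 3114), (2538, 3115), (2539, 3117), (2540, 3118), (2541, 2102), (2542, 2103), (2543, 2104), (2544, 2105), (2545, 2106), (2546, 2107), (2547, 2108), (2548, 2109), (2549, 2110), (2550, 2080), (2551, 2081), (2552, 2082), (2553, 2083), (2554, 2084), (2555, 3139), (2556, 3140), (2557, 3142), (2558,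 3143), (2559, 2965)]
    ⟨e3 q2496 L37539 q2496, e3 q2497 L37545 q2497, e3 q2498 L37551 q2498, e3 q2499 L37558 q2499, e3 q2500 L37566 q2500, e3 q2501 L37573 q2501, e3 q2502 L37578 q2502, e3 q2503 L37586 q2503, e3 q2504 L37593 q2504, e3 q2505 L37599 q2505, e3 q2506 (flp_b L37637) q2031, e3 q2507 (flp_b L51416) q3090, e3 q2508 (flp_b L103089) q2369, e3 q2509 L37707 q2034, e3 q2510 (flp_b L37751) q2035, e3 q2511 (flp_b L51556) q3092, e3 q2512 L51863 q3093, e3 q2513 (flp_b L38113) q2041, e3 q2514 (flp_b L52040) q3094, e3 q2515 (flp_b L52047) q3095, e3 q2516 L38189 q2516, e3 q2517 L38274 q2048, e3 q2518 L38283 q2049, e3 q2519 (flp_b L52263) q3098, e3 q2520 (flp_b L52273) q3099, e3 q2521 (flp_b L52283) q3100, e3 q2522 (flp_b L52292) q3101, e3 q2523 (flp_b L52299) q3102, e3 q2524 L38366 q2085, e3 q2525 L38402 q2086, e3 q2526 L38418 q2087, e3 q2527 L38424 q2088, e3 q2528 L38513 q2061, e3 q2529 L38521 q2062, e3 q2530 L38529 q2063, e3 q2531 L38538 q2064, e3 q2532 L38545 q2065, e3 q2533 (flp_b L52612)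 q3110, e3 q2534 (flp_b L52619) q3111, e3 q2535 (flp_b L52628) q3112, e3 q2536 (flp_b L52638) q3113, e3 q2537 (flp_b L52648) q3114, e3 q2538 (flp_b L52656) q3115, e3 q2539 (flp_b L52672) q3117, e3 q2540 (flp_b L52680) q3118, e3 q2541 L38656 q2102, e3 q2542 L38663 q2103, e3 q2543 L38687 q2104, e3 q2544 L38701 q2105, e3 q2545 L38718 q2106, e3 q2546 L38723 q2107, e3 q2547 L38732 q2108, e3 q2548 L38738 q2109, e3 q2549 L38747 q2110, e3 q2550 L38824 q2080, e3 q2551 L38832 q2081, e3 q2552 L38840 q2082, e3 q2553 L38847 q2083, e3 q2554 L38852 q2084, e3 q2555 (flp_b L53032) q3139, e3 q2556 (flp_b L53064) q3140, e3 q2557 (flp_b L53084) q3142, e3 q2558 (flp_b L53090) q3143, e3 q2559 L119610 q2965, trivial⟩ (by decide +kernel)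

theorem ce_b_40 : ∀ r, r < 64 → sm gb (Qf (2560 + r)) = Qf (tab Gen.b (2560 + r)) :=
  edges_tab (sm gb) Qf (tab Gen.b) 2560 [(2560, 2960), (2561, 3107), (2562, 3108), (2563, 3109), (2564, 2094), (2565, 2095), (2566, 2096), (2567, 2097), (2568, 2098), (2569, 2099), (2570, 2138), (2571, 2100), (2572, 2101), (2573, 3155), (2574, 3156), (2575, 3157), (2576, 3158), (2577, 3160), (2578, 3161), (2579, 3164), (2580, 3165), (2581, 3166), (2582, 3128), (2583, 3129), (2584, 3130), (2585, 3131), (2586, 3132), (2587, 3133), (2588, 3134), (2589, 3135), (2590, 3136), (2591, 3137), (2592, 3138), (2593, 2115), (2594, 2116), (2595, 2117), (2596, 2118), (2597, 2119), (2598, 2598), (2599, 2120), (2600, 3190), (2601, 3191), (2602, 3192), (2603, 3193), (2604, 3195), (2605, 3197), (2606, 2606), (2607, 2607), (2608, 2608), (2609, 2609), (2610, 2610), (2611, 2611), (2612, 3154), (2613, 2129), (2614, 2130), (2615, 2131), (2616, 3210), (2617, 3211), (2618, 3212), (2619, 2619), (2620, 2620), (2621, 2621), (2622,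 2141), (2623, 2142)]
    ⟨e3 q2560 L119462 q2960, e3 q2561 (flp_b L52500) q3107, e3 q2562 (flp_b L52505) q3108, e3 q2563 (flp_b L52513) q3109, e3 q2564 L39153 q2094, e3 q2565 L39158 q2095, e3 q2566 L39165 q2096, e3 q2567 L39173 q2097, e3 q2568 L39181 q2098, e3 q2569 L39187 q2099, e3 q2570 L39195 q2138, e3 q2571 L39200 q2100, e3 q2572 L39206 q2101, e3 q2573 (flp_b L53476) q3155, e3 q2574 (flp_b L53482) q3156, e3 q2575 (flp_b L53503) q3157, e3 q2576 (flp_b L53516) q3158, e3 q2577 (flp_b L53538) q3160, e3 q2578 (flp_b L53542) q3161, e3 q2579 (flp_b L53565) q3164, e3 q2580 (flp_b L53570) q3165, e3 q2581 (flp_b L53578) q3166, e3 q2582 (flp_b L52835) q3128, e3 q2583 (flp_b L52842) q3129, e3 q2584 (flp_b L52849) q3130, e3 q2585 (flp_b L52887) q3131, e3 q2586 (flp_b L52900) q3132, e3 q2587 (flp_b L52917) q3133, e3 q2588 (flp_b L52924) q3134, e3 q2589 (flp_b L52931) q3135, e3 q2590 (flp_b L52938) q3136, e3 q2591 (flp_b L52945) q3137, e3 q2592 (flp_b L52953) q3138, e3 q2593 L39458 q2115, e3 q2594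 L39466 q2116, e3 q2595 L39476 q2117, e3 q2596 L39486 q2118, e3 q2597 L39497 q2119, e3 q2598 L39508 q2598, e3 q2599 L39513 q2120, e3 q2600 (flp_b L53884) q3190, e3 q2601 (flp_b L53893) q3191, e3 q2602 (flp_b L53921) q3192, e3 q2603 (flp_b L53928) q3193, e3 q2604 (flp_b L53946) q3195, e3 q2605 (flp_b L53961) q3197, e3 q2606 L39620 q2606, e3 q2607 L39625 q2607, e3 q2608 L39631 q2608, e3 q2609 L39660 q2609, e3 q2610 L39666 q2610, e3 q2611 L39673 q2611, e3 q2612 (flp_b L53471) q3154, e3 q2613 L39745 q2129, e3 q2614 L39752 q2130, e3 q2615 L39759 q2131, e3 q2616 (flp_b L54245) q3210, e3 q2617 (flp_b L54253) q3211, e3 q2618 (flp_b L54261) q3212, e3 q2619 L39788 q2619, e3 q2620 L39794 q2620, e3 q2621 L39801 q2621, e3 q2622 L39808 q2141, e3 q2623 L39816 q2142, trivial⟩ (by decide +kernel)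

theorem ce_b_41 : ∀ r, r < 64 → sm gb (Qf (2624 + r)) = Qf (tab Gen.b (2624 + r)) :=
  edges_tab (sm gb) Qf (tab Gen.b) 2624 [(2624, 3159), (2625, 2143), (2626, 2144), (2627, 3162), (2628, 3163), (2629, 2145), (2630, 2146), (2631, 2147), (2632, 3219), (2633, 3220), (2634, 3223), (2635, 3224), (2636, 3225), (2637, 3230), (2638, 3231), (2639, 3232), (2640, 2640), (2641, 2641), (2642, 2642), (2643, 2643), (2644, 2644), (2645, 2645), (2646, 2646), (2647, 2647), (2648, 2648), (2649, 2649), (2650, 2650), (2651, 2651), (2652, 2652), (2653, 2161), (2654, 2162), (2655, 2163), (2656, 3258), (2657, 3259), (2658, 3260), (2659, 2659), (2660, 2660), (2661, 2749), (2662, 2170), (2663, 2171), (2664, 2664), (2665, 2665), (2666, 2666), (2667, 2181), (2668, 2182), (2669, 2183), (2670, 2184), (2671, 2671), (2672, 2672), (2673, 3267), (2674, 2674), (2675, 2675), (2676, 2189), (2677, 3272), (2678, 2192), (2679, 2193), (2680, 3273), (2681, 3274), (2682, 3275), (2683, 3276), (2684, 2368), (2685, 2370), (2686,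 2213), (2687, 2214)]
    ⟨e3 q2624 (flp_b L53533) q3159, e3 q2625 L39833 q2143, e3 q2626 L39839 q2144, e3 q2627 (flp_b L53550) q3162, e3 q2628 (flp_b L53557) q3163, e3 q2629 L39861 q2145, e3 q2630 L39868 q2146, e3 q2631 L39878 q2147, e3 q2632 (flp_b L54310) q3219, e3 q2633 (flp_b L54318) q3220, e3 q2634 (flp_b L54341) q3223, e3 q2635 (flp_b L54349) q3224, e3 q2636 (flp_b L54357) q3225, e3 q2637 (flp_b L54391) q3230, e3 q2638 (flp_b L54399) q3231, e3 q2639 (flp_b L54408) q3232, e3 q2640 L39943 q2640, e3 q2641 L39948 q2641, e3 q2642 L39956 q2642, e3 q2643 L39963 q2643, e3 q2644 L39969 q2644, e3 q2645 L39977 q2645, e3 q2646 L39982 q2646, e3 q2647 L39990 q2647, e3 q2648 L39995 q2648, e3 q2649 L40003 q2649, e3 q2650 L40009 q2650, e3 q2651 L40017 q2651, e3 q2652 L40026 q2652, e3 q2653 L40035 q2161, e3 q2654 L40043 q2162, e3 q2655 L40051 q2163, e3 q2656 (flp_b L54602) q3258, e3 q2657 (flp_b L54611) q3259, e3 q2658 (flp_b L54620) q3260, e3 q2659 L40084 q2659, e3 q2660 L40093 q2660, e3 q2661 (flp_b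 L120995) q2749, e3 q2662 L41614 q2170, e3 q2663 L41649 q2171, e3 q2664 L41668 q2664, e3 q2665 L42121 q2665, e3 q2666 L43363 q2666, e3 q2667 L43368 q2181, e3 q2668 L43383 q2182, e3 q2669 L43392 q2183, e3 q2670 L43410 q2184, e3 q2671 L43421 q2671, e3 q2672 L43432 q2672, e3 q2673 (flp_b L59150) q3267, e3 q2674 L43558 q2674, e3 q2675 L43718 q2675, e3 q2676 L43732 q2189, e3 q2677 (flp_b L59648) q3272, e3 q2678 L44633 q2192, e3 q2679 L44642 q2193, e3 q2680 (flp_b L60847) q3273, e3 q2681 (flp_b L60865) q3274, e3 q2682 (flp_b L60875) q3275, e3 q2683 (flp_b L60883) q3276, e3 q2684 L44696 q2368, e3 q2685 L44714 q2370, e3 q2686 L44721 q2213, e3 q2687 L44735 q2214, trivial⟩ (by decide +kernel)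

theorem ce_b_42 : ∀ r, r < 64 → sm gb (Qf (2688 + r)) = Qf (tab Gen.b (2688 + r)) :=
  edges_tab (sm gb) Qf (tab Gen.b) 2688 [(2688, 2215), (2689, 2216), (2690, 2217), (2691, 2218), (2692, 2203), (2693, 2204), (2694, 3294), (2695, 2207), (2696, 2208), (2697, 2209), (2698, 2210), (2699, 3296), (2700, 3297), (2701, 3298), (2702, 3299), (2703, 3301), (2704, 3302), (2705, 2430), (2706, 3285), (2707, 3286), (2708, 3287), (2709, 3288), (2710, 3289), (2711, 3290), (2712, 3291), (2713, 3292), (2714, 2221), (2715, 3322), (2716, 2716), (2717, 2226), (2718, 2227), (2719, 3300), (2720, 2228), (2721, 2229), (2722, 3325), (2723, 3326), (2724, 3329), (2725, 3330), (2726, 3331), (2727, 2727), (2728, 2728), (2729, 2729), (2730, 2730), (2731, 2731), (2732, 2732), (2733, 2235), (2734, 3344), (2735, 3345), (2736, 2858), (2737, 2859), (2738, 2860), (2739, 2861), (2740, 2740), (2741, 2741), (2742, 2742), (2743, 2743), (2744, 2744), (2745, 2245), (2746, 2246), (2747, 2247), (2748, 2248), (2749, 2661), (2750,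 3361), (2751, 3362)]
    ⟨e3 q2688 L44752 q2215, e3 q2689 L44760 q2216, e3 q2690 L44768 q2217, e3 q2691 L44775 q2218, e3 q2692 L44797 q2203, e3 q2693 L44803 q2204, e3 q2694 (flp_b L61120) q3294, e3 q2695 L44859 q2207, e3 q2696 L44873 q2208, e3 q2697 L44881 q2209, e3 q2698 L44887 q2210, e3 q2699 (flp_b L61183) q3296, e3 q2700 (flp_b L61196) q3297, e3 q2701 (flp_b L61213) q3298, e3 q2702 (flp_b L61220) q3299, e3 q2703 (flp_b L61236) q3301, e3 q2704 (flp_b L61242) q3302, e3 q2705 L44991 q2430, e3 q2706 (flp_b L61004) q3285, e3 q2707 (flp_b L61027) q3286, e3 q2708 (flp_b L61031) q3287, e3 q2709 (flp_b L61057) q3288, e3 q2710 (flp_b L61063) q3289, e3 q2711 (flp_b L61072) q3290, e3 q2712 (flp_b L61078) q3291, e3 q2713 (flp_b L61086) q3292, e3 q2714 L45184 q2221, e3 q2715 (flp_b L61659) q3322, e3 q2716 L45423 q2716, e3 q2717 L45691 q2226, e3 q2718 L45699 q2227, e3 q2719 (flp_b L61230) q3300, e3 q2720 L45716 q2228, e3 q2721 L45724 q2229, e3 q2722 (flp_b L62377) q3325, e3 q2723 (flp_b L62383) q3326,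 e3 q2724 (flp_b L62407) q3329, e3 q2725 (flp_b L62414) q3330, e3 q2726 (flp_b L62423) q3331, e3 q2727 L45967 q2727, e3 q2728 L45973 q2728, e3 q2729 L45978 q2729, e3 q2730 L45985 q2730, e3 q2731 L45991 q2731, e3 q2732 L45997 q2732, e3 q2733 (flp_b L47177) q2235, e3 q2734 (flp_b L64417) q3344, e3 q2735 (flp_b L64424) q3345, e3 q2736 (flp_b L48419) q2858, e3 q2737 (flp_b L48428) q2859, e3 q2738 (flp_b L48438) q2860, e3 q2739 (flp_b L48448) q2861, e3 q2740 L47234 q2740, e3 q2741 L47241 q2741, e3 q2742 L47249 q2742, e3 q2743 L47256 q2743, e3 q2744 L47263 q2744, e3 q2745 L47271 q2245, e3 q2746 L47279 q2246, e3 q2747 L47286 q2247, e3 q2748 L47295 q2248, e3 q2749 L120995 q2661, e3 q2750 (flp_b L64576) q3361, e3 q2751 (flp_b L64584) q3362, trivial⟩ (by decide +kernel)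

theorem ce_b_43 : ∀ r, r < 64 → sm gb (Qf (2752 + r)) = Qf (tab Gen.b (2752 + r)) :=
  edges_tab (sm gb) Qf (tab Gen.b) 2752 [(2752, 3363), (2753, 3364), (2754, 2250), (2755, 2251), (2756, 3370), (2757, 3371), (2758, 3372), (2759, 3373), (2760, 3374), (2761, 2882), (2762, 2883), (2763, 2884), (2764, 2885), (2765, 2281), (2766, 2282), (2767, 2283), (2768, 2284), (2769, 2285), (2770, 2286), (2771, 2287), (2772, 2288), (2773, 2265), (2774, 2266), (2775, 2267), (2776, 2268), (2777, 2269), (2778, 3401), (2779, 3402), (2780, 3403), (2781, 3410), (2782, 3405), (2783, 2272), (2784, 2273), (2785, 2274), (2786, 2275), (2787, 2276), (2788, 3413), (2789, 3414), (2790, 3415), (2791, 3416), (2792, 3417), (2793, 3418), (2794, 3420), (2795, 3421), (2796, 2840), (2797, 2956), (2798, 2957), (2799, 2958), (2800, 2959), (2801, 3388), (2802, 3389), (2803, 3390), (2804, 3391), (2805, 3392), (2806, 3393), (2807, 3394), (2808, 3395), (2809, 3396), (2810, 3397), (2811, 3398), (2812, 3399), (2813, 3400), (2814,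 2294), (2815, 2295)]
    ⟨e3 q2752 (flp_b L64592) q3363, e3 q2753 (flp_b L64600) q3364, e3 q2754 L47342 q2250, e3 q2755 L47351 q2251, e3 q2756 (flp_b L64648) q3370, e3 q2757 (flp_b L64658) q3371, e3 q2758 (flp_b L64668) q3372, e3 q2759 (flp_b L64676) q3373, e3 q2760 (flp_b L64684) q3374, e3 q2761 (flp_b L48647) q2882, e3 q2762 (flp_b L48658) q2883, e3 q2763 (flp_b L48668) q2884, e3 q2764 (flp_b L48677) q2885, e3 q2765 L47435 q2281, e3 q2766 L47445 q2282, e3 q2767 L47455 q2283, e3 q2768 L47465 q2284, e3 q2769 L47474 q2285, e3 q2770 L47481 q2286, e3 q2771 L47491 q2287, e3 q2772 L47499 q2288, e3 q2773 L47506 q2265, e3 q2774 L47516 q2266, e3 q2775 L47524 q2267, e3 q2776 L47531 q2268, e3 q2777 L47541 q2269, e3 q2778 (flp_b L64921) q3401, e3 q2779 (flp_b L64930) q3402, e3 q2780 (flp_b L64937) q3403, e3 q2781 L64989 q3410, e3 q2782 (flp_b L64952) q3405, e3 q2783 L47587 q2272, e3 q2784 L47595 q2273, e3 q2785 L47603 q2274, e3 q2786 L47609 q2275, e3 q2787 L47615 q2276, e3 q2788 (flp_b L65013) q3413,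 e3 q2789 (flp_b L65022) q3414, e3 q2790 (flp_b L65030) q3415, e3 q2791 (flp_b L65038) q3416, e3 q2792 (flp_b L65045) q3417, e3 q2793 (flp_b L65052) q3418, e3 q2794 (flp_b L65065) q3420, e3 q2795 (flp_b L65073) q3421, e3 q2796 L104644 q2840, e3 q2797 (flp_b L49309) q2956, e3 q2798 (flp_b L49319) q2957, e3 q2799 (flp_b L49330) q2958, e3 q2800 (flp_b L49342) q2959, e3 q2801 (flp_b L64808) q3388, e3 q2802 (flp_b L64818) q3389, e3 q2803 (flp_b L64826) q3390, e3 q2804 (flp_b L64837) q3391, e3 q2805 (flp_b L64847) q3392, e3 q2806 (flp_b L64853) q3393, e3 q2807 (flp_b L64865) q3394, e3 q2808 (flp_b L64873) q3395, e3 q2809 (flp_b L64884) q3396, e3 q2810 (flp_b L64889) q3397, e3 q2811 (flp_b L64897) q3398, e3 q2812 (flp_b L64904) q3399, e3 q2813 (flp_b L64913) q3400, e3 q2814 L47842 q2294, e3 q2815 L47851 q2295, trivial⟩ (by decide +kernel)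

theorem ce_b_44 : ∀ r, r < 64 → sm gb (Qf (2816 + r)) = Qf (tab Gen.b (2816 + r)) :=
  edges_tab (sm gb) Qf (tab Gen.b) 2816 [(2816, 2296), (2817, 3461), (2818, 2298), (2819, 3458), (2820, 3463), (2821, 3460), (2822, 2297), (2823, 3466), (2824, 2304), (2825, 2305), (2826, 2306), (2827, 2307), (2828, 2308), (2829, 2309), (2830, 2830), (2831, 2310), (2832, 3468), (2833, 3469), (2834, 3470), (2835, 3471), (2836, 3472), (2837, 3473), (2838, 3475), (2839, 3476), (2840, 2796), (2841, 3488), (2842, 2842), (2843, 2843), (2844, 2844), (2845, 2845), (2846, 2846), (2847, 3498), (2848, 2848), (2849, 2849), (2850, 2850), (2851, 3500), (2852, 2323), (2853, 2324), (2854, 2915), (2855, 2326), (2856, 3503), (2857, 3504), (2858, 2736), (2859, 2737), (2860, 2738), (2861, 2739), (2862, 2862), (2863, 2863), (2864, 2864), (2865, 2865), (2866, 2336), (2867, 2337), (2868, 2338), (2869, 2339), (2870, 3517), (2871, 3518), (2872, 3519), (2873, 3520), (2874, 3521), (2875, 2341), (2876, 2342), (2877, 3527), (2878,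 3528), (2879, 3529)]
    ⟨e3 q2816 L47860 q2296, e3 q2817 L65407 q3461, e3 q2818 L47877 q2298, e3 q2819 (flp_b L65382) q3458, e3 q2820 L65458 q3463, e3 q2821 (flp_b L65400) q3460, e3 q2822 (flp_b L47915) q2297, e3 q2823 (flp_b L65490) q3466, e3 q2824 L47941 q2304, e3 q2825 L47951 q2305, e3 q2826 L47960 q2306, e3 q2827 L47969 q2307, e3 q2828 L47978 q2308, e3 q2829 L47986 q2309, e3 q2830 L47999 q2830, e3 q2831 L48003 q2310, e3 q2832 (flp_b L65515) q3468, e3 q2833 (flp_b L65525) q3469, e3 q2834 (flp_b L65533) q3470, e3 q2835 (flp_b L65544) q3471, e3 q2836 (flp_b L65553) q3472, e3 q2837 (flp_b L65571) q3473, e3 q2838 (flp_b L65599) q3475, e3 q2839 (flp_b L65606) q3476, e3 q2840 (flp_b L104644) q2796, e3 q2841 L65792 q3488, e3 q2842 L48160 q2842, e3 q2843 L48169 q2843, e3 q2844 L48175 q2844, e3 q2845 L48182 q2845, e3 q2846 L48201 q2846, e3 q2847 L65907 q3498, e3 q2848 L48223 q2848, e3 q2849 L48236 q2849, e3 q2850 L48253 q2850, e3 q2851 L66003 q3500, e3 q2852 (flp_b L48301) q2323, e3 q2853 (flp_b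 L48346) q2324, e3 q2854 L104059 q2915, e3 q2855 (flp_b L48388) q2326, e3 q2856 (flp_b L66135) q3503, e3 q2857 (flp_b L66145) q3504, e3 q2858 L48419 q2736, e3 q2859 L48428 q2737, e3 q2860 L48438 q2738, e3 q2861 L48448 q2739, e3 q2862 L48457 q2862, e3 q2863 L48473 q2863, e3 q2864 L48480 q2864, e3 q2865 L48488 q2865, e3 q2866 L48496 q2336, e3 q2867 L48504 q2337, e3 q2868 L48511 q2338, e3 q2869 L48520 q2339, e3 q2870 (flp_b L66304) q3517, e3 q2871 (flp_b L66312) q3518, e3 q2872 (flp_b L66320) q3519, e3 q2873 (flp_b L66328) q3520, e3 q2874 (flp_b L66336) q3521, e3 q2875 L48577 q2341, e3 q2876 L48589 q2342, e3 q2877 (flp_b L66394) q3527, e3 q2878 (flp_b L66406) q3528, e3 q2879 (flp_b L66419) q3529, trivial⟩ (by decide +kernel)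

theorem ce_b_45 : ∀ r, r < 64 → sm gb (Qf (2880 + r)) = Qf (tab Gen.b (2880 + r)) :=
  edges_tab (sm gb) Qf (tab Gen.b) 2880 [(2880, 3530), (2881, 3531), (2882, 2761), (2883, 2762), (2884, 2763), (2885, 2764), (2886, 2400), (2887, 2401), (2888, 2402), (2889, 2403), (2890, 2404), (2891, 2405), (2892, 2406), (2893, 2407), (2894, 2356), (2895, 2357), (2896, 2358), (2897, 2359), (2898, 3554), (2899, 3555), (2900, 3559), (2901, 3557), (2902, 2362), (2903, 2363), (2904, 2364), (2905, 2365), (2906, 2366), (2907, 3562), (2908, 3563), (2909, 3564), (2910, 3565), (2911, 3566), (2912, 3567), (2913, 3569), (2914, 3570), (2915, 2854), (2916, 3019), (2917, 3283), (2918, 3284), (2919, 3091), (2920, 2432), (2921, 2433), (2922, 2434), (2923, 2435), (2924, 2436), (2925, 2437), (2926, 2438), (2927, 2439), (2928, 2440), (2929, 2441), (2930, 2442), (2931, 2443), (2932, 2444), (2933, 2384), (2934, 2385), (2935, 2386), (2936, 3610), (2937, 2388), (2938, 3607), (2939, 3609), (2940, 2387), (2941, 3615), (2942,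 3612), (2943, 2391)]
    ⟨e3 q2880 (flp_b L66429) q3530, e3 q2881 (flp_b L66438) q3531, e3 q2882 L48647 q2761, e3 q2883 L48658 q2762, e3 q2884 L48668 q2763, e3 q2885 L48677 q2764, e3 q2886 L48685 q2400, e3 q2887 L48696 q2401, e3 q2888 L48706 q2402, e3 q2889 L48716 q2403, e3 q2890 L48725 q2404, e3 q2891 L48733 q2405, e3 q2892 L48743 q2406, e3 q2893 L48752 q2407, e3 q2894 L48769 q2356, e3 q2895 L48777 q2357, e3 q2896 L48784 q2358, e3 q2897 L48794 q2359, e3 q2898 (flp_b L66705) q3554, e3 q2899 (flp_b L66712) q3555, e3 q2900 L66772 q3559, e3 q2901 (flp_b L66727) q3557, e3 q2902 L48852 q2362, e3 q2903 L48858 q2363, e3 q2904 L48867 q2364, e3 q2905 L48875 q2365, e3 q2906 L48884 q2366, e3 q2907 (flp_b L66802) q3562, e3 q2908 (flp_b L66810) q3563, e3 q2909 (flp_b L66818) q3564, e3 q2910 (flp_b L66826) q3565, e3 q2911 (flp_b L66835) q3566, e3 q2912 (flp_b L66845) q3567, e3 q2913 (flp_b L66861) q3569, e3 q2914 (flp_b L66870) q3570, e3 q2915 (flp_b L104059) q2854, e3 q2916 (flp_b L104114) q3019, e3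 q2917 (flp_b L60972) q3283, e3 q2918 (flp_b L60980) q3284, e3 q2919 L102910 q3091, e3 q2920 L48988 q2432, e3 q2921 L48997 q2433, e3 q2922 L49004 q2434, e3 q2923 L49011 q2435, e3 q2924 L49021 q2436, e3 q2925 L49025 q2437, e3 q2926 L49033 q2438, e3 q2927 L49043 q2439, e3 q2928 L49052 q2440, e3 q2929 L49059 q2441, e3 q2930 L49068 q2442, e3 q2931 L49075 q2443, e3 q2932 L49083 q2444, e3 q2933 L49091 q2384, e3 q2934 L49098 q2385, e3 q2935 L49106 q2386, e3 q2936 L67182 q3610, e3 q2937 L49118 q2388, e3 q2938 (flp_b L67162) q3607, e3 q2939 (flp_b L67175) q3609, e3 q2940 (flp_b L49150) q2387, e3 q2941 (flp_b L67248) q3615, e3 q2942 (flp_b L67195) q3612, e3 q2943 L49169 q2391, trivial⟩ (by decide +kernel)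

theorem ce_b_46 : ∀ r, r < 64 → sm gb (Qf (2944 + r)) = Qf (tab Gen.b (2944 + r)) :=
  edges_tab (sm gb) Qf (tab Gen.b) 2944 [(2944, 2392), (2945, 2393), (2946, 2394), (2947, 2395), (2948, 3617), (2949, 3618), (2950, 3619), (2951, 3620), (2952, 3621), (2953, 3622), (2954, 3624), (2955, 3625), (2956, 2797), (2957, 2798), (2958, 2799), (2959, 2800), (2960, 2560), (2961, 3544), (2962, 3545), (2963, 3546), (2964, 3547), (2965, 2559), (2966, 3548), (2967, 3549), (2968, 3550), (2969, 3551), (2970, 3552), (2971, 3553), (2972, 2412), (2973, 3593), (2974, 2413), (2975, 2419), (2976, 2420), (2977, 2421), (2978, 2422), (2979, 2423), (2980, 2424), (2981, 2481), (2982, 2425), (2983, 2426), (2984, 3657), (2985, 3658), (2986, 3659), (2987, 3660), (2988, 3661), (2989, 3662), (2990, 3663), (2991, 3664), (2992, 3666), (2993, 3667), (2994, 3670), (2995, 3671), (2996, 3672), (2997, 2999), (2998, 3690), (2999, 2997), (3000, 3589), (3001, 3590), (3002, 3591), (3003, 3592), (3004, 3594), (3005, 3595), (3006,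 3701), (3007, 3597)]
    ⟨e3 q2944 L49179 q2392, e3 q2945 L49190 q2393, e3 q2946 L49198 q2394, e3 q2947 L49205 q2395, e3 q2948 (flp_b L67261) q3617, e3 q2949 (flp_b L67271) q3618, e3 q2950 (flp_b L67281) q3619, e3 q2951 (flp_b L67291) q3620, e3 q2952 (flp_b L67300) q3621, e3 q2953 (flp_b L67308) q3622, e3 q2954 (flp_b L67326) q3624, e3 q2955 (flp_b L67335) q3625, e3 q2956 L49309 q2797, e3 q2957 L49319 q2798, e3 q2958 L49330 q2799, e3 q2959 L49342 q2800, e3 q2960 (flp_b L119462) q2560, e3 q2961 (flp_b L66588) q3544, e3 q2962 (flp_b L66608) q3545, e3 q2963 (flp_b L66618) q3546, e3 q2964 (flp_b L66624) q3547, e3 q2965 (flp_b L119610) q2559, e3 q2966 (flp_b L66645) q3548, e3 q2967 (flp_b L66656) q3549, e3 q2968 (flp_b L66662) q3550, e3 q2969 (flp_b L66670) q3551, e3 q2970 (flp_b L66678) q3552, e3 q2971 (flp_b L66687) q3553, e3 q2972 L49471 q2412, e3 q2973 L103603 q3593, e3 q2974 L49488 q2413, e3 q2975 L49563 q2419, e3 q2976 L49569 q2420, e3 q2977 L49575 q2421, e3 q2978 L49581 q2422, e3 q2979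 L49588 q2423, e3 q2980 L49596 q2424, e3 q2981 L49605 q2481, e3 q2982 L49609 q2425, e3 q2983 L49616 q2426, e3 q2984 (flp_b L67809) q3657, e3 q2985 (flp_b L67817) q3658, e3 q2986 (flp_b L67823) q3659, e3 q2987 (flp_b L67828) q3660, e3 q2988 (flp_b L67836) q3661, e3 q2989 (flp_b L67840) q3662, e3 q2990 (flp_b L67846) q3663, e3 q2991 (flp_b L67855) q3664, e3 q2992 (flp_b L67870) q3666, e3 q2993 (flp_b L67876) q3667, e3 q2994 (flp_b L67900) q3670, e3 q2995 (flp_b L67906) q3671, e3 q2996 (flp_b L67913) q3672, e3 q2997 L104718 q2999, e3 q2998 L68105 q3690, e3 q2999 (flp_b L104718) q2997, e3 q3000 (flp_b L67016) q3589, e3 q3001 (flp_b L67023) q3590, e3 q3002 (flp_b L67032) q3591, e3 q3003 (flp_b L67038) q3592, e3 q3004 (flp_b L67054) q3594, e3 q3005 (flp_b L67060) q3595, e3 q3006 L68199 q3701, e3 q3007 (flp_b L67074) q3597, trivial⟩ (by decide +kernel)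

theorem ce_b_47 : ∀ r, r < 64 → sm gb (Qf (3008 + r)) = Qf (tab Gen.b (3008 + r)) :=
  edges_tab (sm gb) Qf (tab Gen.b) 3008 [(3008, 3598), (3009, 3599), (3010, 3600), (3011, 3601), (3012, 3602), (3013, 3603), (3014, 3604), (3015, 3605), (3016, 3606), (3017, 2446), (3018, 3717), (3019, 2916), (3020, 2449), (3021, 2455), (3022, 2456), (3023, 2457), (3024, 2458), (3025, 3025), (3026, 2459), (3027, 3720), (3028, 3721), (3029, 3722), (3030, 3724), (3031, 3031), (3032, 3032), (3033, 3033), (3034, 3034), (3035, 3656), (3036, 2467), (3037, 2468), (3038, 2469), (3039, 3735), (3040, 3736), (3041, 3737), (3042, 3742), (3043, 2470), (3044, 3044), (3045, 3744), (3046, 3046), (3047, 2474), (3048, 3743), (3049, 2484), (3050, 2485), (3051, 2486), (3052, 2487), (3053, 3665), (3054, 2488), (3055, 2489), (3056, 3668), (3057, 3669), (3058, 2490), (3059, 2491), (3060, 2492), (3061, 3765), (3062, 3748), (3063, 3749), (3064, 3751), (3065, 3752), (3066, 3755), (3067, 3756), (3068, 3757), (3069, 3762), (3070,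 3763), (3071, 3764)]
    ⟨e3 q3008 (flp_b L67080) q3598, e3 q3009 (flp_b L67086) q3599, e3 q3010 (flp_b L67095) q3600, e3 q3011 (flp_b L67105) q3601, e3 q3012 (flp_b L67114) q3602, e3 q3013 (flp_b L67121) q3603, e3 q3014 (flp_b L67130) q3604, e3 q3015 (flp_b L67138) q3605, e3 q3016 (flp_b L67145) q3606, e3 q3017 (flp_b L49922) q2446, e3 q3018 (flp_b L68356) q3717, e3 q3019 L104114 q2916, e3 q3020 L49995 q2449, e3 q3021 L50010 q2455, e3 q3022 L50021 q2456, e3 q3023 L50032 q2457, e3 q3024 L50054 q2458, e3 q3025 L50078 q3025, e3 q3026 L50095 q2459, e3 q3027 (flp_b L68461) q3720, e3 q3028 (flp_b L68472) q3721, e3 q3029 (flp_b L68505) q3722, e3 q3030 (flp_b L68559) q3724, e3 q3031 L50283 q3031, e3 q3032 L50290 q3032, e3 q3033 L50297 q3033, e3 q3034 L50339 q3034, e3 q3035 (flp_b L67805) q3656, e3 q3036 L50545 q2467, e3 q3037 L50554 q2468, e3 q3038 L50577 q2469, e3 q3039 (flp_b L69206) q3735, e3 q3040 (flp_b L69215) q3736, e3 q3041 (flp_b L69223) q3737, e3 q3042 L69344 q3742, e3 q3043 (flp_b L50697)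 q2470, e3 q3044 L50737 q3044, e3 q3045 L69463 q3744, e3 q3046 L50749 q3046, e3 q3047 (flp_b L50782) q2474, e3 q3048 (flp_b L69413) q3743, e3 q3049 L50954 q2484, e3 q3050 L50961 q2485, e3 q3051 L50970 q2486, e3 q3052 L50980 q2487, e3 q3053 (flp_b L67866) q3665, e3 q3054 L50996 q2488, e3 q3055 L51003 q2489, e3 q3056 (flp_b L67884) q3668, e3 q3057 (flp_b L67893) q3669, e3 q3058 L51026 q2490, e3 q3059 L51034 q2491, e3 q3060 L51043 q2492, e3 q3061 L69917 q3765, e3 q3062 (flp_b L69737) q3748, e3 q3063 (flp_b L69745) q3749, e3 q3064 (flp_b L69761) q3751, e3 q3065 (flp_b L69770) q3752, e3 q3066 (flp_b L69794) q3755, e3 q3067 (flp_b L69803) q3756, e3 q3068 (flp_b L69810) q3757, e3 q3069 (flp_b L69848) q3762, e3 q3070 (flp_b L69857) q3763, e3 q3071 (flp_b L69865) q3764, trivial⟩ (by decide +kernel)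

theorem ce_b_48 : ∀ r, r < 64 → sm gb (Qf (3072 + r)) = Qf (tab Gen.b (3072 + r)) :=
  edges_tab (sm gb) Qf (tab Gen.b) 3072 [(3072, 2493), (3073, 3781), (3074, 2495), (3075, 3783), (3076, 3784), (3077, 3077), (3078, 3078), (3079, 3079), (3080, 3080), (3081, 3081), (3082, 3082), (3083, 3083), (3084, 3084), (3085, 3085), (3086, 3086), (3087, 3087), (3088, 3088), (3089, 3780), (3090, 2507), (3091, 2919), (3092, 2511), (3093, 2512), (3094, 2514), (3095, 2515), (3096, 3801), (3097, 3097), (3098, 2519), (3099, 2520), (3100, 2521), (3101, 2522), (3102, 2523), (3103, 3803), (3104, 3804), (3105, 3806), (3106, 3807), (3107, 2561), (3108, 2562), (3109, 2563), (3110, 2533), (3111, 2534), (3112, 2535), (3113, 2536), (3114, 2537), (3115, 2538), (3116, 3116), (3117, 2539), (3118, 2540), (3119, 3813), (3120, 3814), (3121, 3815), (3122, 3816), (3123, 3818), (3124, 3819), (3125, 3822), (3126, 3823), (3127, 3824), (3128, 2582), (3129, 2583), (3130, 2584), (3131, 2585), (3132, 2586), (3133, 2587), (3134,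 2588), (3135, 2589)]
    ⟨e3 q3072 (flp_b L51197) q2493, e3 q3073 (flp_b L70094) q3781, e3 q3074 (flp_b L51256) q2495, e3 q3075 (flp_b L70182) q3783, e3 q3076 (flp_b L70188) q3784, e3 q3077 L51277 q3077, e3 q3078 L51284 q3078, e3 q3079 L51291 q3079, e3 q3080 L51297 q3080, e3 q3081 L51303 q3081, e3 q3082 L51310 q3082, e3 q3083 L51319 q3083, e3 q3084 L51326 q3084, e3 q3085 L51333 q3085, e3 q3086 L51340 q3086, e3 q3087 L51347 q3087, e3 q3088 L51354 q3088, e3 q3089 (flp_b L70090) q3780, e3 q3090 L51416 q2507, e3 q3091 (flp_b L102910) q2919, e3 q3092 L51556 q2511, e3 q3093 (flp_b L51863) q2512, e3 q3094 L52040 q2514, e3 q3095 L52047 q2515, e3 q3096 (flp_b L71198) q3801, e3 q3097 L52170 q3097, e3 q3098 L52263 q2519, e3 q3099 L52273 q2520, e3 q3100 L52283 q2521, e3 q3101 L52292 q2522, e3 q3102 L52299 q2523, e3 q3103 (flp_b L71502) q3803, e3 q3104 (flp_b L71542) q3804, e3 q3105 (flp_b L71567) q3806, e3 q3106 (flp_b L71575) q3807, e3 q3107 L52500 q2561, e3 q3108 L52505 q2562, e3 q3109 L52513 q2563,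 e3 q3110 L52612 q2533, e3 q3111 L52619 q2534, e3 q3112 L52628 q2535, e3 q3113 L52638 q2536, e3 q3114 L52648 q2537, e3 q3115 L52656 q2538, e3 q3116 L52666 q3116, e3 q3117 L52672 q2539, e3 q3118 L52680 q2540, e3 q3119 (flp_b L71986) q3813, e3 q3120 (flp_b L71994) q3814, e3 q3121 (flp_b L72021) q3815, e3 q3122 (flp_b L72038) q3816, e3 q3123 (flp_b L72065) q3818, e3 q3124 (flp_b L72071) q3819, e3 q3125 (flp_b L72098) q3822, e3 q3126 (flp_b L72105) q3823, e3 q3127 (flp_b L72115) q3824, e3 q3128 L52835 q2582, e3 q3129 L52842 q2583, e3 q3130 L52849 q2584, e3 q3131 L52887 q2585, e3 q3132 L52900 q2586, e3 q3133 L52917 q2587, e3 q3134 L52924 q2588, e3 q3135 L52931 q2589, trivial⟩ (by decide +kernel)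

theorem ce_b_49 : ∀ r, r < 64 → sm gb (Qf (3136 + r)) = Qf (tab Gen.b (3136 + r)) :=
  edges_tab (sm gb) Qf (tab Gen.b) 3136 [(3136, 2590), (3137, 2591), (3138, 2592), (3139, 2555), (3140, 2556), (3141, 3141), (3142, 2557), (3143, 2558), (3144, 3846), (3145, 3848), (3146, 3851), (3147, 3852), (3148, 3853), (3149, 3648), (3150, 3496), (3151, 3499), (3152, 3692), (3153, 3811), (3154, 2612), (3155, 2573), (3156, 2574), (3157, 2575), (3158, 2576), (3159, 2624), (3160, 2577), (3161, 2578), (3162, 2627), (3163, 2628), (3164, 2579), (3165, 2580), (3166, 2581), (3167, 3864), (3168, 3865), (3169, 3866), (3170, 3868), (3171, 3870), (3172, 3873), (3173, 3874), (3174, 3875), (3175, 3880), (3176, 3881), (3177, 3882), (3178, 3651), (3179, 3836), (3180, 3709), (3181, 3837), (3182, 3838), (3183, 3839), (3184, 3840), (3185, 3841), (3186, 3842), (3187, 3843), (3188, 3844), (3189, 3845), (3190, 2600), (3191, 2601), (3192, 2602), (3193, 2603), (3194, 3194), (3195, 2604), (3196, 3196), (3197, 2605), (3198,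 3906), (3199, 3907)]
    ⟨e3 q3136 L52938 q2590, e3 q3137 L52945 q2591, e3 q3138 L52953 q2592, e3 q3139 L53032 q2555, e3 q3140 L53064 q2556, e3 q3141 L53080 q3141, e3 q3142 L53084 q2557, e3 q3143 L53090 q2558, e3 q3144 (flp_b L72587) q3846, e3 q3145 (flp_b L72648) q3848, e3 q3146 (flp_b L72673) q3851, e3 q3147 (flp_b L72678) q3852, e3 q3148 (flp_b L72686) q3853, e3 q3149 (flp_b L116414) q3648, e3 q3150 (flp_b L119457) q3496, e3 q3151 (flp_b L120886) q3499, e3 q3152 (flp_b L118434) q3692, e3 q3153 (flp_b L71851) q3811, e3 q3154 L53471 q2612, e3 q3155 L53476 q2573, e3 q3156 L53482 q2574, e3 q3157 L53503 q2575, e3 q3158 L53516 q2576, e3 q3159 L53533 q2624, e3 q3160 L53538 q2577, e3 q3161 L53542 q2578, e3 q3162 L53550 q2627, e3 q3163 L53557 q2628, e3 q3164 L53565 q2579, e3 q3165 L53570 q2580, e3 q3166 L53578 q2581, e3 q3167 (flp_b L73200) q3864, e3 q3168 (flp_b L73206) q3865, e3 q3169 (flp_b L73213) q3866, e3 q3170 (flp_b L73247) q3868, e3 q3171 (flp_b L73268) q3870, e3 q3172 (flp_b L73298)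 q3873, e3 q3173 (flp_b L73304) q3874, e3 q3174 (flp_b L73310) q3875, e3 q3175 (flp_b L73345) q3880, e3 q3176 (flp_b L73351) q3881, e3 q3177 (flp_b L73358) q3882, e3 q3178 (flp_b L116479) q3651, e3 q3179 (flp_b L72351) q3836, e3 q3180 (flp_b L119569) q3709, e3 q3181 (flp_b L72418) q3837, e3 q3182 (flp_b L72438) q3838, e3 q3183 (flp_b L72461) q3839, e3 q3184 (flp_b L72468) q3840, e3 q3185 (flp_b L72477) q3841, e3 q3186 (flp_b L72484) q3842, e3 q3187 (flp_b L72493) q3843, e3 q3188 (flp_b L72500) q3844, e3 q3189 (flp_b L72574) q3845, e3 q3190 L53884 q2600, e3 q3191 L53893 q2601, e3 q3192 L53921 q2602, e3 q3193 L53928 q2603, e3 q3194 L53941 q3194, e3 q3195 L53946 q2604, e3 q3196 L53952 q3196, e3 q3197 L53961 q2605, e3 q3198 (flp_b L73736) q3906, e3 q3199 (flp_b L73743) q3907, trivial⟩ (by decide +kernel)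

theorem ce_b_50 : ∀ r, r < 64 → sm gb (Qf (3200 + r)) = Qf (tab Gen.b (3200 + r)) :=
  edges_tab (sm gb) Qf (tab Gen.b) 3200 [(3200, 3908), (3201, 3910), (3202, 3912), (3203, 3914), (3204, 3204), (3205, 3205), (3206, 3206), (3207, 3207), (3208, 3862), (3209, 3863), (3210, 2616), (3211, 2617), (3212, 2618), (3213, 3927), (3214, 3928), (3215, 3929), (3216, 3216), (3217, 3217), (3218, 3869), (3219, 2632), (3220, 2633), (3221, 3871), (3222, 3872), (3223, 2634), (3224, 2635), (3225, 2636), (3226, 3876), (3227, 3877), (3228, 3878), (3229, 3879), (3230, 2637), (3231, 2638), (3232, 2639), (3233, 3935), (3234, 3936), (3235, 3937), (3236, 3942), (3237, 3943), (3238, 3944), (3239, 3952), (3240, 3953), (3241, 3954), (3242, 3242), (3243, 3243), (3244, 3244), (3245, 3245), (3246, 3246), (3247, 3247), (3248, 3248), (3249, 3249), (3250, 3365), (3251, 3251), (3252, 3252), (3253, 3253), (3254, 3254), (3255, 3255), (3256, 3256), (3257, 3257), (3258, 2656), (3259, 2657), (3260, 2658), (3261, 3980), (3262,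 3981), (3263, 3983)]
    ⟨e3 q3200 (flp_b L73751) q3908, e3 q3201 (flp_b L73785) q3910, e3 q3202 (flp_b L73803) q3912, e3 q3203 (flp_b L73818) q3914, e3 q3204 L54099 q3204, e3 q3205 L54111 q3205, e3 q3206 L54116 q3206, e3 q3207 L54158 q3207, e3 q3208 (flp_b L73179) q3862, e3 q3209 (flp_b L73186) q3863, e3 q3210 L54245 q2616, e3 q3211 L54253 q2617, e3 q3212 L54261 q2618, e3 q3213 (flp_b L74222) q3927, e3 q3214 (flp_b L74230) q3928, e3 q3215 (flp_b L74239) q3929, e3 q3216 L54289 q3216, e3 q3217 L54295 q3217, e3 q3218 (flp_b L73263) q3869, e3 q3219 L54310 q2632, e3 q3220 L54318 q2633, e3 q3221 (flp_b L73283) q3871, e3 q3222 (flp_b L73289) q3872, e3 q3223 L54341 q2634, e3 q3224 L54349 q2635, e3 q3225 L54357 q2636, e3 q3226 (flp_b L73316) q3876, e3 q3227 (flp_b L73323) q3877, e3 q3228 (flp_b L73329) q3878, e3 q3229 (flp_b L73338) q3879, e3 q3230 L54391 q2637, e3 q3231 L54399 q2638, e3 q3232 L54408 q2639, e3 q3233 (flp_b L74291) q3935, e3 q3234 (flp_b L74298) q3936, e3 q3235 (flp_b L74308) q3937,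 e3 q3236 (flp_b L74343) q3942, e3 q3237 (flp_b L74351) q3943, e3 q3238 (flp_b L74361) q3944, e3 q3239 (flp_b L74418) q3952, e3 q3240 (flp_b L74428) q3953, e3 q3241 (flp_b L74435) q3954, e3 q3242 L54483 q3242, e3 q3243 L54490 q3243, e3 q3244 L54497 q3244, e3 q3245 L54504 q3245, e3 q3246 L54512 q3246, e3 q3247 L54519 q3247, e3 q3248 L54524 q3248, e3 q3249 L54530 q3249, e3 q3250 (flp_b L121006) q3365, e3 q3251 L54544 q3251, e3 q3252 L54550 q3252, e3 q3253 L54557 q3253, e3 q3254 L54565 q3254, e3 q3255 L54574 q3255, e3 q3256 L54583 q3256, e3 q3257 L54593 q3257, e3 q3258 L54602 q2656, e3 q3259 L54611 q2657, e3 q3260 L54620 q2658, e3 q3261 (flp_b L74655) q3980, e3 q3262 (flp_b L74665) q3981, e3 q3263 L74699 q3983, trivial⟩ (by decide +kernel)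

theorem ce_b_51 : ∀ r, r < 64 → sm gb (Qf (3264 + r)) = Qf (tab Gen.b (3264 + r)) :=
  edges_tab (sm gb) Qf (tab Gen.b) 3264 [(3264, 3264), (3265, 3265), (3266, 3266), (3267, 2673), (3268, 3268), (3269, 3269), (3270, 3985), (3271, 3271), (3272, 2677), (3273, 2680), (3274, 2681), (3275, 2682), (3276, 2683), (3277, 3987), (3278, 3988), (3279, 3989), (3280, 3990), (3281, 3992), (3282, 3993), (3283, 2917), (3284, 2918), (3285, 2706), (3286, 2707), (3287, 2708), (3288, 2709), (3289, 2710), (3290, 2711), (3291, 2712), (3292, 2713), (3293, 3608), (3294, 2694), (3295, 4016), (3296, 2699), (3297, 2700), (3298, 2701), (3299, 2702), (3300, 2719), (3301, 2703), (3302, 2704), (3303, 4018), (3304, 4019), (3305, 4020), (3306, 4022), (3307, 4023), (3308, 4026), (3309, 4027), (3310, 4028), (3311, 4004), (3312, 4005), (3313, 4007), (3314, 4008), (3315, 4009), (3316, 4010), (3317, 4011), (3318, 4012), (3319, 4013), (3320, 4014), (3321, 4017), (3322, 2715), (3323, 4051), (3324, 4021), (3325, 2722), (3326,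 2723), (3327, 4024)]
    ⟨e3 q3264 L56773 q3264, e3 q3265 L56851 q3265, e3 q3266 L59134 q3266, e3 q3267 L59150 q2673, e3 q3268 L59218 q3268, e3 q3269 L59246 q3269, e3 q3270 (flp_b L121086) q3985, e3 q3271 L59618 q3271, e3 q3272 L59648 q2677, e3 q3273 L60847 q2680, e3 q3274 L60865 q2681, e3 q3275 L60875 q2682, e3 q3276 L60883 q2683, e3 q3277 (flp_b L121107) q3987, e3 q3278 (flp_b L121114) q3988, e3 q3279 (flp_b L121124) q3989, e3 q3280 (flp_b L121133) q3990, e3 q3281 (flp_b L121152) q3992, e3 q3282 (flp_b L121160) q3993, e3 q3283 L60972 q2917, e3 q3284 L60980 q2918, e3 q3285 L61004 q2706, e3 q3286 L61027 q2707, e3 q3287 L61031 q2708, e3 q3288 L61057 q2709, e3 q3289 L61063 q2710, e3 q3290 L61072 q2711, e3 q3291 L61078 q2712, e3 q3292 L61086 q2713, e3 q3293 (flp_b L120747) q3608, e3 q3294 L61120 q2694, e3 q3295 (flp_b L121315) q4016, e3 q3296 L61183 q2699, e3 q3297 L61196 q2700, e3 q3298 L61213 q2701, e3 q3299 L61220 q2702, e3 q3300 L61230 q2719, e3 q3301 L61236 q2703, e3 q3302 L61242 q2704,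 e3 q3303 (flp_b L121328) q4018, e3 q3304 (flp_b L121333) q4019, e3 q3305 (flp_b L121337) q4020, e3 q3306 (flp_b L121354) q4022, e3 q3307 (flp_b L121359) q4023, e3 q3308 (flp_b L121384) q4026, e3 q3309 (flp_b L121389) q4027, e3 q3310 (flp_b L121396) q4028, e3 q3311 (flp_b L121236) q4004, e3 q3312 (flp_b L121242) q4005, e3 q3313 (flp_b L121252) q4007, e3 q3314 (flp_b L121258) q4008, e3 q3315 (flp_b L121264) q4009, e3 q3316 (flp_b L121272) q4010, e3 q3317 (flp_b L121279) q4011, e3 q3318 (flp_b L121287) q4012, e3 q3319 (flp_b L121294) q4013, e3 q3320 (flp_b L121301) q4014, e3 q3321 (flp_b L121322) q4017, e3 q3322 L61659 q2715, e3 q3323 (flp_b L121547) q4051, e3 q3324 (flp_b L121348) q4021, e3 q3325 L62377 q2722, e3 q3326 L62383 q2723, e3 q3327 (flp_b L121367) q4024, trivial⟩ (by decide +kernel)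

theorem ce_b_52 : ∀ r, r < 64 → sm gb (Qf (3328 + r)) = Qf (tab Gen.b (3328 + r)) :=
  edges_tab (sm gb) Qf (tab Gen.b) 3328 [(3328, 4025), (3329, 2724), (3330, 2725), (3331, 2726), (3332, 4054), (3333, 4055), (3334, 4056), (3335, 4061), (3336, 4062), (3337, 4063), (3338, 3338), (3339, 3339), (3340, 3340), (3341, 3341), (3342, 3342), (3343, 3343), (3344, 2734), (3345, 2735), (3346, 4076), (3347, 3909), (3348, 4077), (3349, 4078), (3350, 4079), (3351, 3509), (3352, 3510), (3353, 3511), (3354, 3512), (3355, 3355), (3356, 3356), (3357, 3357), (3358, 3358), (3359, 3359), (3360, 3360), (3361, 2750), (3362, 2751), (3363, 2752), (3364, 2753), (3365, 3250), (3366, 4098), (3367, 4099), (3368, 4106), (3369, 4101), (3370, 2756), (3371, 2757), (3372, 2758), (3373, 2759), (3374, 2760), (3375, 4109), (3376, 4110), (3377, 4111), (3378, 4112), (3379, 4113), (3380, 4114), (3381, 4116), (3382, 4117), (3383, 3502), (3384, 3540), (3385, 3541), (3386, 3542), (3387, 3543), (3388, 2801), (3389, 2802), (3390,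 2803), (3391, 2804)]
    ⟨e3 q3328 (flp_b L121375) q4025, e3 q3329 L62407 q2724, e3 q3330 L62414 q2725, e3 q3331 L62423 q2726, e3 q3332 (flp_b L121568) q4054, e3 q3333 (flp_b L121576) q4055, e3 q3334 (flp_b L121583) q4056, e3 q3335 (flp_b L121620) q4061, e3 q3336 (flp_b L121628) q4062, e3 q3337 (flp_b L121636) q4063, e3 q3338 L62778 q3338, e3 q3339 L62784 q3339, e3 q3340 L62791 q3340, e3 q3341 L62797 q3341, e3 q3342 L62804 q3342, e3 q3343 L62810 q3343, e3 q3344 L64417 q2734, e3 q3345 L64424 q2735, e3 q3346 (flp_b L121730) q4076, e3 q3347 (flp_b L121048) q3909, e3 q3348 (flp_b L121741) q4077, e3 q3349 (flp_b L121748) q4078, e3 q3350 (flp_b L121755) q4079, e3 q3351 (flp_b L66199) q3509, e3 q3352 (flp_b L66209) q3510, e3 q3353 (flp_b L66218) q3511, e3 q3354 (flp_b L66229) q3512, e3 q3355 L64520 q3355, e3 q3356 L64528 q3356, e3 q3357 L64536 q3357, e3 q3358 L64544 q3358, e3 q3359 L64552 q3359, e3 q3360 L64560 q3360, e3 q3361 L64576 q2750, e3 q3362 L64584 q2751, e3 q3363 L64592 q2752, e3 q3364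 L64600 q2753, e3 q3365 L121006 q3250, e3 q3366 (flp_b L121938) q4098, e3 q3367 (flp_b L121951) q4099, e3 q3368 L122015 q4106, e3 q3369 (flp_b L121974) q4101, e3 q3370 L64648 q2756, e3 q3371 L64658 q2757, e3 q3372 L64668 q2758, e3 q3373 L64676 q2759, e3 q3374 L64684 q2760, e3 q3375 (flp_b L122041) q4109, e3 q3376 (flp_b L122052) q4110, e3 q3377 (flp_b L122062) q4111, e3 q3378 (flp_b L122072) q4112, e3 q3379 (flp_b L122081) q4113, e3 q3380 (flp_b L122090) q4114, e3 q3381 (flp_b L122106) q4116, e3 q3382 (flp_b L122116) q4117, e3 q3383 (flp_b L103139) q3502, e3 q3384 (flp_b L66537) q3540, e3 q3385 (flp_b L66547) q3541, e3 q3386 (flp_b L66556) q3542, e3 q3387 (flp_b L66568) q3543, e3 q3388 L64808 q2801, e3 q3389 L64818 q2802, e3 q3390 L64826 q2803, e3 q3391 L64837 q2804, trivial⟩ (by decide +kernel)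

theorem ce_b_53 : ∀ r, r < 64 → sm gb (Qf (3392 + r)) = Qf (tab Gen.b (3392 + r)) :=
  edges_tab (sm gb) Qf (tab Gen.b) 3392 [(3392, 2805), (3393, 2806), (3394, 2807), (3395, 2808), (3396, 2809), (3397, 2810), (3398, 2811), (3399, 2812), (3400, 2813), (3401, 2778), (3402, 2779), (3403, 2780), (3404, 4158), (3405, 2782), (3406, 4154), (3407, 4155), (3408, 4163), (3409, 4157), (3410, 2781), (3411, 4167), (3412, 4160), (3413, 2788), (3414, 2789), (3415, 2790), (3416, 2791), (3417, 2792), (3418, 2793), (3419, 3419), (3420, 2794), (3421, 2795), (3422, 4170), (3423, 4171), (3424, 4172), (3425, 4173), (3426, 4174), (3427, 4175), (3428, 4176), (3429, 4177), (3430, 4179), (3431, 4180), (3432, 4183), (3433, 4184), (3434, 4185), (3435, 3436), (3436, 3435), (3437, 3638), (3438, 4207), (3439, 3640), (3440, 4136), (3441, 4137), (3442, 4138), (3443, 4139), (3444, 4140), (3445, 4141), (3446, 4142), (3447, 4221), (3448, 4144), (3449, 4145), (3450, 4146), (3451, 4147), (3452, 4148), (3453, 4149), (3454,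 4150), (3455, 4151)]
    ⟨e3 q3392 L64847 q2805, e3 q3393 L64853 q2806, e3 q3394 L64865 q2807, e3 q3395 L64873 q2808, e3 q3396 L64884 q2809, e3 q3397 L64889 q2810, e3 q3398 L64897 q2811, e3 q3399 L64904 q2812, e3 q3400 L64913 q2813, e3 q3401 L64921 q2778, e3 q3402 L64930 q2779, e3 q3403 L64937 q2780, e3 q3404 L122464 q4158, e3 q3405 L64952 q2782, e3 q3406 (flp_b L122431) q4154, e3 q3407 (flp_b L122440) q4155, e3 q3408 L122506 q4163, e3 q3409 (flp_b L122458) q4157, e3 q3410 (flp_b L64989) q2781, e3 q3411 (flp_b L122543) q4167, e3 q3412 (flp_b L122479) q4160, e3 q3413 L65013 q2788, e3 q3414 L65022 q2789, e3 q3415 L65030 q2790, e3 q3416 L65038 q2791, e3 q3417 L65045 q2792, e3 q3418 L65052 q2793, e3 q3419 L65062 q3419, e3 q3420 L65065 q2794, e3 q3421 L65073 q2795, e3 q3422 (flp_b L122567) q4170, e3 q3423 (flp_b L122576) q4171, e3 q3424 (flp_b L122583) q4172, e3 q3425 (flp_b L122592) q4173, e3 q3426 (flp_b L122600) q4174, e3 q3427 (flp_b L122606) q4175, e3 q3428 (flp_b L122616) q4176, e3 q3429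 (flp_b L122624) q4177, e3 q3430 (flp_b L122639) q4179, e3 q3431 (flp_b L122644) q4180, e3 q3432 (flp_b L122665) q4183, e3 q3433 (flp_b L122672) q4184, e3 q3434 (flp_b L122681) q4185, e3 q3435 L104620 q3436, e3 q3436 (flp_b L104620) q3435, e3 q3437 (flp_b L67493) q3638, e3 q3438 L122887 q4207, e3 q3439 (flp_b L67514) q3640, e3 q3440 (flp_b L122277) q4136, e3 q3441 (flp_b L122290) q4137, e3 q3442 (flp_b L122298) q4138, e3 q3443 (flp_b L122306) q4139, e3 q3444 (flp_b L122316) q4140, e3 q3445 (flp_b L122327) q4141, e3 q3446 (flp_b L122333) q4142, e3 q3447 L122996 q4221, e3 q3448 (flp_b L122351) q4144, e3 q3449 (flp_b L122357) q4145, e3 q3450 (flp_b L122365) q4146, e3 q3451 (flp_b L122376) q4147, e3 q3452 (flp_b L122385) q4148, e3 q3453 (flp_b L122392) q4149, e3 q3454 (flp_b L122398) q4150, e3 q3455 (flp_b L122407) q4151, trivial⟩ (by decide +kernel)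

theorem ce_b_54 : ∀ r, r < 64 → sm gb (Qf (3456 + r)) = Qf (tab Gen.b (3456 + r)) :=
  edges_tab (sm gb) Qf (tab Gen.b) 3456 [(3456, 4152), (3457, 4153), (3458, 2819), (3459, 4236), (3460, 2821), (3461, 2817), (3462, 4239), (3463, 2820), (3464, 4241), (3465, 3584), (3466, 2823), (3467, 4169), (3468, 2832), (3469, 2833), (3470, 2834), (3471, 2835), (3472, 2836), (3473, 2837), (3474, 3474), (3475, 2838), (3476, 2839), (3477, 3477), (3478, 4245), (3479, 4246), (3480, 4247), (3481, 4248), (3482, 4249), (3483, 4266), (3484, 4251), (3485, 4253), (3486, 4256), (3487, 4268), (3488, 2841), (3489, 3489), (3490, 3490), (3491, 3491), (3492, 3492), (3493, 4275), (3494, 3494), (3495, 3495), (3496, 3150), (3497, 3497), (3498, 2847), (3499, 3151), (3500, 2851), (3501, 4269), (3502, 3383), (3503, 2856), (3504, 2857), (3505, 4281), (3506, 4282), (3507, 4283), (3508, 4284), (3509, 3351), (3510, 3352), (3511, 3353), (3512, 3354), (3513, 3513), (3514, 3514), (3515, 3515), (3516, 3516), (3517, 2870), (3518,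 2871), (3519, 2872)]
    ⟨e3 q3456 (flp_b L122415) q4152, e3 q3457 (flp_b L122423) q4153, e3 q3458 L65382 q2819, e3 q3459 L123097 q4236, e3 q3460 L65400 q2821, e3 q3461 (flp_b L65407) q2817, e3 q3462 (flp_b L123130) q4239, e3 q3463 (flp_b L65458) q2820, e3 q3464 (flp_b L123150) q4241, e3 q3465 (flp_b L103612) q3584, e3 q3466 L65490 q2823, e3 q3467 (flp_b L122563) q4169, e3 q3468 L65515 q2832, e3 q3469 L65525 q2833, e3 q3470 L65533 q2834, e3 q3471 L65544 q2835, e3 q3472 L65553 q2836, e3 q3473 L65571 q2837, e3 q3474 L65595 q3474, e3 q3475 L65599 q2838, e3 q3476 L65606 q2839, e3 q3477 L65615 q3477, e3 q3478 (flp_b L123185) q4245, e3 q3479 (flp_b L123196) q4246, e3 q3480 (flp_b L123204) q4247, e3 q3481 (flp_b L123213) q4248, e3 q3482 (flp_b L123223) q4249, e3 q3483 L123393 q4266, e3 q3484 (flp_b L123239) q4251, e3 q3485 (flp_b L123258) q4253, e3 q3486 (flp_b L123292) q4256, e3 q3487 L123409 q4268, e3 q3488 (flp_b L65792) q2841, e3 q3489 L65817 q3489, e3 q3490 L65827 q3490, e3 q3491 L65834 q3491,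 e3 q3492 L65841 q3492, e3 q3493 L123483 q4275, e3 q3494 L65855 q3494, e3 q3495 L65862 q3495, e3 q3496 L119457 q3150, e3 q3497 L65895 q3497, e3 q3498 (flp_b L65907) q2847, e3 q3499 L120886 q3151, e3 q3500 (flp_b L66003) q2851, e3 q3501 (flp_b L123425) q4269, e3 q3502 L103139 q3383, e3 q3503 L66135 q2856, e3 q3504 L66145 q2857, e3 q3505 (flp_b L123547) q4281, e3 q3506 (flp_b L123560) q4282, e3 q3507 (flp_b L123573) q4283, e3 q3508 (flp_b L123583) q4284, e3 q3509 L66199 q3351, e3 q3510 L66209 q3352, e3 q3511 L66218 q3353, e3 q3512 L66229 q3354, e3 q3513 L66254 q3513, e3 q3514 L66279 q3514, e3 q3515 L66287 q3515, e3 q3516 L66296 q3516, e3 q3517 L66304 q2870, e3 q3518 L66312 q2871, e3 q3519 L66320 q2872, trivial⟩ (by decide +kernel)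

theorem ce_b_55 : ∀ r, r < 64 → sm gb (Qf (3520 + r)) = Qf (tab Gen.b (3520 + r)) :=
  edges_tab (sm gb) Qf (tab Gen.b) 3520 [(3520, 2873), (3521, 2874), (3522, 4295), (3523, 4296), (3524, 4297), (3525, 4303), (3526, 4299), (3527, 2877), (3528, 2878), (3529, 2879), (3530, 2880), (3531, 2881), (3532, 4306), (3533, 4307), (3534, 4308), (3535, 4309), (3536, 4310), (3537, 4311), (3538, 4313), (3539, 4314), (3540, 3384), (3541, 3385), (3542, 3386), (3543, 3387), (3544, 2961), (3545, 2962), (3546, 2963), (3547, 2964), (3548, 2966), (3549, 2967), (3550, 2968), (3551, 2969), (3552, 2970), (3553, 2971), (3554, 2898), (3555, 2899), (3556, 4341), (3557, 2901), (3558, 4340), (3559, 2900), (3560, 4346), (3561, 4343), (3562, 2907), (3563, 2908), (3564, 2909), (3565, 2910), (3566, 2911), (3567, 2912), (3568, 3568), (3569, 2913), (3570, 2914), (3571, 4349), (3572, 4350), (3573, 4351), (3574, 4352), (3575, 4353), (3576, 4354), (3577, 4355), (3578, 4356), (3579, 4358), (3580, 4359), (3581, 4362), (3582,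 4363), (3583, 4364)]
    ⟨e3 q3520 L66328 q2873, e3 q3521 L66336 q2874, e3 q3522 (flp_b L123707) q4295, e3 q3523 (flp_b L123717) q4296, e3 q3524 (flp_b L123726) q4297, e3 q3525 L123778 q4303, e3 q3526 (flp_b L123743) q4299, e3 q3527 L66394 q2877, e3 q3528 L66406 q2878, e3 q3529 L66419 q2879, e3 q3530 L66429 q2880, e3 q3531 L66438 q2881, e3 q3532 (flp_b L123808) q4306, e3 q3533 (flp_b L123822) q4307, e3 q3534 (flp_b L123836) q4308, e3 q3535 (flp_b L123848) q4309, e3 q3536 (flp_b L123861) q4310, e3 q3537 (flp_b L123873) q4311, e3 q3538 (flp_b L123894) q4313, e3 q3539 (flp_b L123905) q4314, e3 q3540 L66537 q3384, e3 q3541 L66547 q3385, e3 q3542 L66556 q3386, e3 q3543 L66568 q3387, e3 q3544 L66588 q2961, e3 q3545 L66608 q2962, e3 q3546 L66618 q2963, e3 q3547 L66624 q2964, e3 q3548 L66645 q2966, e3 q3549 L66656 q2967, e3 q3550 L66662 q2968, e3 q3551 L66670 q2969, e3 q3552 L66678 q2970, e3 q3553 L66687 q2971, e3 q3554 L66705 q2898, e3 q3555 L66712 q2899, e3 q3556 L124169 q4341, e3 q3557 L66727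 q2901, e3 q3558 (flp_b L124163) q4340, e3 q3559 (flp_b L66772) q2900, e3 q3560 (flp_b L124211) q4346, e3 q3561 (flp_b L124184) q4343, e3 q3562 L66802 q2907, e3 q3563 L66810 q2908, e3 q3564 L66818 q2909, e3 q3565 L66826 q2910, e3 q3566 L66835 q2911, e3 q3567 L66845 q2912, e3 q3568 L66856 q3568, e3 q3569 L66861 q2913, e3 q3570 L66870 q2914, e3 q3571 (flp_b L124237) q4349, e3 q3572 (flp_b L124249) q4350, e3 q3573 (flp_b L124257) q4351, e3 q3574 (flp_b L124266) q4352, e3 q3575 (flp_b L124276) q4353, e3 q3576 (flp_b L124282) q4354, e3 q3577 (flp_b L124290) q4355, e3 q3578 (flp_b L124301) q4356, e3 q3579 (flp_b L124319) q4358, e3 q3580 (flp_b L124327) q4359, e3 q3581 (flp_b L124355) q4362, e3 q3582 (flp_b L124363) q4363, e3 q3583 (flp_b L124372) q4364, trivial⟩ (by decide +kernel)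

theorem ce_b_56 : ∀ r, r < 64 → sm gb (Qf (3584 + r)) = Qf (tab Gen.b (3584 + r)) :=
  edges_tab (sm gb) Qf (tab Gen.b) 3584 [(3584, 3465), (3585, 3614), (3586, 3718), (3587, 4386), (3588, 4003), (3589, 3000), (3590, 3001), (3591, 3002), (3592, 3003), (3593, 2973), (3594, 3004), (3595, 3005), (3596, 4400), (3597, 3007), (3598, 3008), (3599, 3009), (3600, 3010), (3601, 3011), (3602, 3012), (3603, 3013), (3604, 3014), (3605, 3015), (3606, 3016), (3607, 2938), (3608, 3293), (3609, 2939), (3610, 2936), (3611, 4417), (3612, 2942), (3613, 4415), (3614, 3585), (3615, 2941), (3616, 4420), (3617, 2948), (3618, 2949), (3619, 2950), (3620, 2951), (3621, 2952), (3622, 2953), (3623, 3623), (3624, 2954), (3625, 2955), (3626, 4422), (3627, 4423), (3628, 4424), (3629, 4425), (3630, 4426), (3631, 4427), (3632, 4428), (3633, 4430), (3634, 4431), (3635, 4434), (3636, 4435), (3637, 4436), (3638, 3437), (3639, 4451), (3640, 3439), (3641, 4329), (3642, 4330), (3643, 4331), (3644, 4332), (3645, 4395), (3646,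 4334), (3647, 4335)]
    ⟨e3 q3584 L103612 q3465, e3 q3585 L120753 q3614, e3 q3586 (flp_b L120841) q3718, e3 q3587 L124554 q4386, e3 q3588 (flp_b L121229) q4003, e3 q3589 L67016 q3000, e3 q3590 L67023 q3001, e3 q3591 L67032 q3002, e3 q3592 L67038 q3003, e3 q3593 (flp_b L103603) q2973, e3 q3594 L67054 q3004, e3 q3595 L67060 q3005, e3 q3596 L124663 q4400, e3 q3597 L67074 q3007, e3 q3598 L67080 q3008, e3 q3599 L67086 q3009, e3 q3600 L67095 q3010, e3 q3601 L67105 q3011, e3 q3602 L67114 q3012, e3 q3603 L67121 q3013, e3 q3604 L67130 q3014, e3 q3605 L67138 q3015, e3 q3606 L67145 q3016, e3 q3607 L67162 q2938, e3 q3608 L120747 q3293, e3 q3609 L67175 q2939, e3 q3610 (flp_b L67182) q2936, e3 q3611 (flp_b L124799) q4417, e3 q3612 L67195 q2942, e3 q3613 (flp_b L124783) q4415, e3 q3614 (flp_b L120753) q3585, e3 q3615 L67248 q2941, e3 q3616 (flp_b L124825) q4420, e3 q3617 L67261 q2948, e3 q3618 L67271 q2949, e3 q3619 L67281 q2950, e3 q3620 L67291 q2951, e3 q3621 L67300 q2952, e3 q3622 L67308 q2953, e3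 q3623 L67321 q3623, e3 q3624 L67326 q2954, e3 q3625 L67335 q2955, e3 q3626 (flp_b L124847) q4422, e3 q3627 (flp_b L124857) q4423, e3 q3628 (flp_b L124865) q4424, e3 q3629 (flp_b L124875) q4425, e3 q3630 (flp_b L124881) q4426, e3 q3631 (flp_b L124895) q4427, e3 q3632 (flp_b L124904) q4428, e3 q3633 (flp_b L124924) q4430, e3 q3634 (flp_b L124930) q4431, e3 q3635 (flp_b L124954) q4434, e3 q3636 (flp_b L124962) q4435, e3 q3637 (flp_b L124971) q4436, e3 q3638 L67493 q3437, e3 q3639 L125108 q4451, e3 q3640 L67514 q3439, e3 q3641 (flp_b L124056) q4329, e3 q3642 (flp_b L124068) q4330, e3 q3643 (flp_b L124081) q4331, e3 q3644 (flp_b L124091) q4332, e3 q3645 (flp_b L124624) q4395, e3 q3646 (flp_b L124109) q4334, e3 q3647 (flp_b L124119) q4335, trivial⟩ (by decide +kernel)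

theorem ce_b_57 : ∀ r, r < 64 → sm gb (Qf (3648 + r)) = Qf (tab Gen.b (3648 + r)) :=
  edges_tab (sm gb) Qf (tab Gen.b) 3648 [(3648, 3149), (3649, 4272), (3650, 4336), (3651, 3178), (3652, 4276), (3653, 4337), (3654, 4338), (3655, 4396), (3656, 3035), (3657, 2984), (3658, 2985), (3659, 2986), (3660, 2987), (3661, 2988), (3662, 2989), (3663, 2990), (3664, 2991), (3665, 3053), (3666, 2992), (3667, 2993), (3668, 3056), (3669, 3057), (3670, 2994), (3671, 2995), (3672, 2996), (3673, 4467), (3674, 4468), (3675, 4469), (3676, 4470), (3677, 4471), (3678, 4472), (3679, 4500), (3680, 4474), (3681, 4475), (3682, 4477), (3683, 4478), (3684, 4481), (3685, 4482), (3686, 4483), (3687, 4488), (3688, 4489), (3689, 4490), (3690, 2998), (3691, 4516), (3692, 3152), (3693, 4389), (3694, 4390), (3695, 4391), (3696, 4521), (3697, 4393), (3698, 4394), (3699, 4398), (3700, 4399), (3701, 3006), (3702, 4531), (3703, 4532), (3704, 4403), (3705, 4404), (3706, 4405), (3707, 4406), (3708, 4407), (3709, 3180), (3710,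 4408), (3711, 4409)]
    ⟨e3 q3648 L116414 q3149, e3 q3649 (flp_b L123456) q4272, e3 q3650 (flp_b L124127) q4336, e3 q3651 L116479 q3178, e3 q3652 (flp_b L123496) q4276, e3 q3653 (flp_b L124139) q4337, e3 q3654 (flp_b L124147) q4338, e3 q3655 (flp_b L124630) q4396, e3 q3656 L67805 q3035, e3 q3657 L67809 q2984, e3 q3658 L67817 q2985, e3 q3659 L67823 q2986, e3 q3660 L67828 q2987, e3 q3661 L67836 q2988, e3 q3662 L67840 q2989, e3 q3663 L67846 q2990, e3 q3664 L67855 q2991, e3 q3665 L67866 q3053, e3 q3666 L67870 q2992, e3 q3667 L67876 q2993, e3 q3668 L67884 q3056, e3 q3669 L67893 q3057, e3 q3670 L67900 q2994, e3 q3671 L67906 q2995, e3 q3672 L67913 q2996, e3 q3673 (flp_b L125226) q4467, e3 q3674 (flp_b L125232) q4468, e3 q3675 (flp_b L125240) q4469, e3 q3676 (flp_b L125246) q4470, e3 q3677 (flp_b L125252) q4471, e3 q3678 (flp_b L125258) q4472, e3 q3679 L125478 q4500, e3 q3680 (flp_b L125268) q4474, e3 q3681 (flp_b L125274) q4475, e3 q3682 (flp_b L125289) q4477, e3 q3683 (flp_b L125297) q4478,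 e3 q3684 (flp_b L125322) q4481, e3 q3685 (flp_b L125330) q4482, e3 q3686 (flp_b L125336) q4483, e3 q3687 (flp_b L125375) q4488, e3 q3688 (flp_b L125382) q4489, e3 q3689 (flp_b L125388) q4490, e3 q3690 (flp_b L68105) q2998, e3 q3691 (flp_b L125624) q4516, e3 q3692 L118434 q3152, e3 q3693 (flp_b L124573) q4389, e3 q3694 (flp_b L124582) q4390, e3 q3695 (flp_b L124592) q4391, e3 q3696 L125668 q4521, e3 q3697 (flp_b L124608) q4393, e3 q3698 (flp_b L124618) q4394, e3 q3699 (flp_b L124647) q4398, e3 q3700 (flp_b L124657) q4399, e3 q3701 (flp_b L68199) q3006, e3 q3702 (flp_b L125739) q4531, e3 q3703 (flp_b L125747) q4532, e3 q3704 (flp_b L124684) q4403, e3 q3705 (flp_b L124690) q4404, e3 q3706 (flp_b L124698) q4405, e3 q3707 (flp_b L124702) q4406, e3 q3708 (flp_b L124710) q4407, e3 q3709 L119569 q3180, e3 q3710 (flp_b L124721) q4408, e3 q3711 (flp_b L124730) q4409, trivial⟩ (by decide +kernel)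

theorem ce_b_58 : ∀ r, r < 64 → sm gb (Qf (3712 + r)) = Qf (tab Gen.b (3712 + r)) :=
  edges_tab (sm gb) Qf (tab Gen.b) 3712 [(3712, 4410), (3713, 4411), (3714, 4412), (3715, 4413), (3716, 4515), (3717, 3018), (3718, 3586), (3719, 4421), (3720, 3027), (3721, 3028), (3722, 3029), (3723, 3723), (3724, 3030), (3725, 3725), (3726, 4551), (3727, 4552), (3728, 4553), (3729, 4555), (3730, 3730), (3731, 3731), (3732, 3732), (3733, 4465), (3734, 4466), (3735, 3039), (3736, 3040), (3737, 3041), (3738, 4567), (3739, 4564), (3740, 4568), (3741, 4566), (3742, 3042), (3743, 3048), (3744, 3045), (3745, 4572), (3746, 4570), (3747, 4573), (3748, 3062), (3749, 3063), (3750, 4476), (3751, 3064), (3752, 3065), (3753, 4479), (3754, 4480), (3755, 3066), (3756, 3067), (3757, 3068), (3758, 4484), (3759, 4485), (3760, 4486), (3761, 4487), (3762, 3069), (3763, 3070), (3764, 3071), (3765, 3061), (3766, 4602), (3767, 4603), (3768, 4576), (3769, 4577), (3770, 4578), (3771, 4581), (3772, 4582), (3773, 4583), (3774,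 4588), (3775, 4589)]
    ⟨e3 q3712 (flp_b L124739) q4410, e3 q3713 (flp_b L124750) q4411, e3 q3714 (flp_b L124758) q4412, e3 q3715 (flp_b L124767) q4413, e3 q3716 (flp_b L125620) q4515, e3 q3717 L68356 q3018, e3 q3718 L120841 q3586, e3 q3719 (flp_b L124839) q4421, e3 q3720 L68461 q3027, e3 q3721 L68472 q3028, e3 q3722 L68505 q3029, e3 q3723 L68553 q3723, e3 q3724 L68559 q3030, e3 q3725 L68587 q3725, e3 q3726 (flp_b L125894) q4551, e3 q3727 (flp_b L125903) q4552, e3 q3728 (flp_b L125912) q4553, e3 q3729 (flp_b L125930) q4555, e3 q3730 L68859 q3730, e3 q3731 L68874 q3731, e3 q3732 L68881 q3732, e3 q3733 (flp_b L125210) q4465, e3 q3734 (flp_b L125218) q4466, e3 q3735 L69206 q3039, e3 q3736 L69215 q3040, e3 q3737 L69223 q3041, e3 q3738 L126031 q4567, e3 q3739 (flp_b L126005) q4564, e3 q3740 L126040 q4568, e3 q3741 (flp_b L126024) q4566, e3 q3742 (flp_b L69344) q3042, e3 q3743 L69413 q3048, e3 q3744 (flp_b L69463) q3045, e3 q3745 (flp_b L126075) q4572, e3 q3746 (flp_b L126063) q4570, e3 q3747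 L126081 q4573, e3 q3748 L69737 q3062, e3 q3749 L69745 q3063, e3 q3750 (flp_b L125285) q4476, e3 q3751 L69761 q3064, e3 q3752 L69770 q3065, e3 q3753 (flp_b L125306) q4479, e3 q3754 (flp_b L125314) q4480, e3 q3755 L69794 q3066, e3 q3756 L69803 q3067, e3 q3757 L69810 q3068, e3 q3758 (flp_b L125344) q4484, e3 q3759 (flp_b L125349) q4485, e3 q3760 (flp_b L125357) q4486, e3 q3761 (flp_b L125366) q4487, e3 q3762 L69848 q3069, e3 q3763 L69857 q3070, e3 q3764 L69865 q3071, e3 q3765 (flp_b L69917) q3061, e3 q3766 (flp_b L126335) q4602, e3 q3767 (flp_b L126342) q4603, e3 q3768 (flp_b L126110) q4576, e3 q3769 (flp_b L126119) q4577, e3 q3770 (flp_b L126130) q4578, e3 q3771 (flp_b L126159) q4581, e3 q3772 (flp_b L126169) q4582, e3 q3773 (flp_b L126180) q4583, e3 q3774 (flp_b L126219) q4588, e3 q3775 (flp_b L126228) q4589, trivial⟩ (by decide +kernel)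

theorem ce_b_59 : ∀ r, r < 64 → sm gb (Qf (3776 + r)) = Qf (tab Gen.b (3776 + r)) :=
  edges_tab (sm gb) Qf (tab Gen.b) 3776 [(3776, 4590), (3777, 4598), (3778, 4599), (3779, 4600), (3780, 3089), (3781, 3073), (3782, 4601), (3783, 3075), (3784, 3076), (3785, 4622), (3786, 4623), (3787, 4624), (3788, 3788), (3789, 3789), (3790, 3790), (3791, 3791), (3792, 3792), (3793, 3793), (3794, 3794), (3795, 3795), (3796, 3796), (3797, 3797), (3798, 3798), (3799, 4103), (3800, 4619), (3801, 3096), (3802, 4638), (3803, 3103), (3804, 3104), (3805, 4637), (3806, 3105), (3807, 3106), (3808, 4643), (3809, 4644), (3810, 4645), (3811, 3153), (3812, 3812), (3813, 3119), (3814, 3120), (3815, 3121), (3816, 3122), (3817, 3817), (3818, 3123), (3819, 3124), (3820, 3820), (3821, 3821), (3822, 3125), (3823, 3126), (3824, 3127), (3825, 4650), (3826, 4651), (3827, 4652), (3828, 4654), (3829, 4656), (3830, 4659), (3831, 4660), (3832, 4661), (3833, 4666), (3834, 4667), (3835, 4668), (3836, 3179), (3837, 3181), (3838,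 3182), (3839, 3183)]
    ⟨e3 q3776 (flp_b L126237) q4590, e3 q3777 (flp_b L126298) q4598, e3 q3778 (flp_b L126307) q4599, e3 q3779 (flp_b L126316) q4600, e3 q3780 L70090 q3089, e3 q3781 L70094 q3073, e3 q3782 (flp_b L126331) q4601, e3 q3783 L70182 q3075, e3 q3784 L70188 q3076, e3 q3785 (flp_b L126518) q4622, e3 q3786 (flp_b L126525) q4623, e3 q3787 (flp_b L126534) q4624, e3 q3788 L70214 q3788, e3 q3789 L70221 q3789, e3 q3790 L70229 q3790, e3 q3791 L70235 q3791, e3 q3792 L70243 q3792, e3 q3793 L70249 q3793, e3 q3794 L70258 q3794, e3 q3795 L70265 q3795, e3 q3796 L70274 q3796, e3 q3797 L70280 q3797, e3 q3798 L70288 q3798, e3 q3799 (flp_b L121991) q4103, e3 q3800 (flp_b L126491) q4619, e3 q3801 L71198 q3096, e3 q3802 (flp_b L126654) q4638, e3 q3803 L71502 q3103, e3 q3804 L71542 q3104, e3 q3805 (flp_b L126648) q4637, e3 q3806 L71567 q3105, e3 q3807 L71575 q3106, e3 q3808 (flp_b L126708) q4643, e3 q3809 (flp_b L126715) q4644, e3 q3810 (flp_b L126725) q4645, e3 q3811 L71851 q3153, e3 q3812 L71980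 q3812, e3 q3813 L71986 q3119, e3 q3814 L71994 q3120, e3 q3815 L72021 q3121, e3 q3816 L72038 q3122, e3 q3817 L72059 q3817, e3 q3818 L72065 q3123, e3 q3819 L72071 q3124, e3 q3820 L72081 q3820, e3 q3821 L72089 q3821, e3 q3822 L72098 q3125, e3 q3823 L72105 q3126, e3 q3824 L72115 q3127, e3 q3825 (flp_b L126773) q4650, e3 q3826 (flp_b L126785) q4651, e3 q3827 (flp_b L126796) q4652, e3 q3828 (flp_b L126815) q4654, e3 q3829 (flp_b L126838) q4656, e3 q3830 (flp_b L126869) q4659, e3 q3831 (flp_b L126877) q4660, e3 q3832 (flp_b L126889) q4661, e3 q3833 (flp_b L126934) q4666, e3 q3834 (flp_b L126942) q4667, e3 q3835 (flp_b L126951) q4668, e3 q3836 L72351 q3179, e3 q3837 L72418 q3181, e3 q3838 L72438 q3182, e3 q3839 L72461 q3183, trivial⟩ (by decide +kernel)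

theorem ce_b_60 : ∀ r, r < 64 → sm gb (Qf (3840 + r)) = Qf (tab Gen.b (3840 + r)) :=
  edges_tab (sm gb) Qf (tab Gen.b) 3840 [(3840, 3184), (3841, 3185), (3842, 3186), (3843, 3187), (3844, 3188), (3845, 3189), (3846, 3144), (3847, 3847), (3848, 3145), (3849, 3849), (3850, 3850), (3851, 3146), (3852, 3147), (3853, 3148), (3854, 4687), (3855, 4689), (3856, 4694), (3857, 4695), (3858, 4696), (3859, 4209), (3860, 4517), (3861, 4647), (3862, 3208), (3863, 3209), (3864, 3167), (3865, 3168), (3866, 3169), (3867, 3867), (3868, 3170), (3869, 3218), (3870, 3171), (3871, 3221), (3872, 3222), (3873, 3172), (3874, 3173), (3875, 3174), (3876, 3226), (3877, 3227), (3878, 3228), (3879, 3229), (3880, 3175), (3881, 3176), (3882, 3177), (3883, 4706), (3884, 4708), (3885, 4709), (3886, 4711), (3887, 4713), (3888, 4718), (3889, 4719), (3890, 4720), (3891, 4728), (3892, 4729), (3893, 4730), (3894, 4678), (3895, 4541), (3896, 4679), (3897, 4680), (3898, 4681), (3899, 4682), (3900, 4519), (3901, 4683), (3902,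 4684), (3903, 4102)]
    ⟨e3 q3840 L72468 q3184, e3 q3841 L72477 q3185, e3 q3842 L72484 q3186, e3 q3843 L72493 q3187, e3 q3844 L72500 q3188, e3 q3845 L72574 q3189, e3 q3846 L72587 q3144, e3 q3847 L72644 q3847, e3 q3848 L72648 q3145, e3 q3849 L72660 q3849, e3 q3850 L72666 q3850, e3 q3851 L72673 q3146, e3 q3852 L72678 q3147, e3 q3853 L72686 q3148, e3 q3854 (flp_b L127121) q4687, e3 q3855 (flp_b L127133) q4689, e3 q3856 (flp_b L127164) q4694, e3 q3857 (flp_b L127170) q4695, e3 q3858 (flp_b L127177) q4696, e3 q3859 (flp_b L122905) q4209, e3 q3860 (flp_b L125634) q4517, e3 q3861 (flp_b L126743) q4647, e3 q3862 L73179 q3208, e3 q3863 L73186 q3209, e3 q3864 L73200 q3167, e3 q3865 L73206 q3168, e3 q3866 L73213 q3169, e3 q3867 L73243 q3867, e3 q3868 L73247 q3170, e3 q3869 L73263 q3218, e3 q3870 L73268 q3171, e3 q3871 L73283 q3221, e3 q3872 L73289 q3222, e3 q3873 L73298 q3172, e3 q3874 L73304 q3173, e3 q3875 L73310 q3174, e3 q3876 L73316 q3226, e3 q3877 L73323 q3227, e3 q3878 L73329 q3228, e3 q3879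 L73338 q3229, e3 q3880 L73345 q3175, e3 q3881 L73351 q3176, e3 q3882 L73358 q3177, e3 q3883 (flp_b L127247) q4706, e3 q3884 (flp_b L127259) q4708, e3 q3885 (flp_b L127265) q4709, e3 q3886 (flp_b L127277) q4711, e3 q3887 (flp_b L127292) q4713, e3 q3888 (flp_b L127326) q4718, e3 q3889 (flp_b L127332) q4719, e3 q3890 (flp_b L127340) q4720, e3 q3891 (flp_b L127399) q4728, e3 q3892 (flp_b L127407) q4729, e3 q3893 (flp_b L127413) q4730, e3 q3894 (flp_b L127038) q4678, e3 q3895 (flp_b L125807) q4541, e3 q3896 (flp_b L127047) q4679, e3 q3897 (flp_b L127060) q4680, e3 q3898 (flp_b L127072) q4681, e3 q3899 (flp_b L127085) q4682, e3 q3900 (flp_b L125650) q4519, e3 q3901 (flp_b L127094) q4683, e3 q3902 (flp_b L127102) q4684, e3 q3903 (flp_b L121983) q4102, trivial⟩ (by decide +kernel)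

theorem ce_b_61 : ∀ r, r < 64 → sm gb (Qf (3904 + r)) = Qf (tab Gen.b (3904 + r)) :=
  edges_tab (sm gb) Qf (tab Gen.b) 3904 [(3904, 4640), (3905, 4686), (3906, 3198), (3907, 3199), (3908, 3200), (3909, 3347), (3910, 3201), (3911, 3911), (3912, 3202), (3913, 3913), (3914, 3203), (3915, 3915), (3916, 3916), (3917, 4749), (3918, 4751), (3919, 4752), (3920, 3982), (3921, 3921), (3922, 3922), (3923, 4642), (3924, 4703), (3925, 4704), (3926, 4705), (3927, 3213), (3928, 3214), (3929, 3215), (3930, 4763), (3931, 4764), (3932, 3932), (3933, 4712), (3934, 4653), (3935, 3233), (3936, 3234), (3937, 3235), (3938, 4714), (3939, 4715), (3940, 4716), (3941, 4717), (3942, 3236), (3943, 3237), (3944, 3238), (3945, 4721), (3946, 4722), (3947, 4723), (3948, 4724), (3949, 4725), (3950, 4726), (3951, 4727), (3952, 3239), (3953, 3240), (3954, 3241), (3955, 4770), (3956, 4771), (3957, 4772), (3958, 4780), (3959, 4781), (3960, 4782), (3961, 4793), (3962, 4794), (3963, 4802), (3964, 3964), (3965, 3965), (3966,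 3966), (3967, 3967)]
    ⟨e3 q3904 (flp_b L126682) q4640, e3 q3905 (flp_b L127114) q4686, e3 q3906 L73736 q3198, e3 q3907 L73743 q3199, e3 q3908 L73751 q3200, e3 q3909 L121048 q3347, e3 q3910 L73785 q3201, e3 q3911 L73798 q3911, e3 q3912 L73803 q3202, e3 q3913 L73811 q3913, e3 q3914 L73818 q3203, e3 q3915 L73826 q3915, e3 q3916 L73836 q3916, e3 q3917 (flp_b L127548) q4749, e3 q3918 (flp_b L127567) q4751, e3 q3919 (flp_b L127574) q4752, e3 q3920 (flp_b L121066) q3982, e3 q3921 L74062 q3921, e3 q3922 L74068 q3922, e3 q3923 (flp_b L126696) q4642, e3 q3924 (flp_b L127226) q4703, e3 q3925 (flp_b L127234) q4704, e3 q3926 (flp_b L127240) q4705, e3 q3927 L74222 q3213, e3 q3928 L74230 q3214, e3 q3929 L74239 q3215, e3 q3930 (flp_b L127660) q4763, e3 q3931 (flp_b L127668) q4764, e3 q3932 L74268 q3932, e3 q3933 (flp_b L127284) q4712, e3 q3934 (flp_b L126808) q4653, e3 q3935 L74291 q3233, e3 q3936 L74298 q3234, e3 q3937 L74308 q3235, e3 q3938 (flp_b L127297) q4714, e3 q3939 (flp_b L127302) q4715, e3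 q3940 (flp_b L127310) q4716, e3 q3941 (flp_b L127318) q4717, e3 q3942 L74343 q3236, e3 q3943 L74351 q3237, e3 q3944 L74361 q3238, e3 q3945 (flp_b L127346) q4721, e3 q3946 (flp_b L127353) q4722, e3 q3947 (flp_b L127360) q4723, e3 q3948 (flp_b L127369) q4724, e3 q3949 (flp_b L127376) q4725, e3 q3950 (flp_b L127384) q4726, e3 q3951 (flp_b L127393) q4727, e3 q3952 L74418 q3239, e3 q3953 L74428 q3240, e3 q3954 L74435 q3241, e3 q3955 (flp_b L127714) q4770, e3 q3956 (flp_b L127723) q4771, e3 q3957 (flp_b L127732) q4772, e3 q3958 (flp_b L127789) q4780, e3 q3959 (flp_b L127799) q4781, e3 q3960 (flp_b L127808) q4782, e3 q3961 (flp_b L127908) q4793, e3 q3962 (flp_b L127916) q4794, e3 q3963 L127985 q4802, e3 q3964 L74513 q3964, e3 q3965 L74522 q3965, e3 q3966 L74528 q3966, e3 q3967 L74535 q3967, trivial⟩ (by decide +kernel)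

theorem ce_b_62 : ∀ r, r < 64 → sm gb (Qf (3968 + r)) = Qf (tab Gen.b (3968 + r)) :=
  edges_tab (sm gb) Qf (tab Gen.b) 3968 [(3968, 3968), (3969, 4227), (3970, 3970), (3971, 3971), (3972, 3972), (3973, 3973), (3974, 3974), (3975, 3975), (3976, 3976), (3977, 3977), (3978, 3978), (3979, 3979), (3980, 3261), (3981, 3262), (3982, 3920), (3983, 3263), (3984, 3984), (3985, 3270), (3986, 3986), (3987, 3277), (3988, 3278), (3989, 3279), (3990, 3280), (3991, 3991), (3992, 3281), (3993, 3282), (3994, 4814), (3995, 4815), (3996, 4816), (3997, 4818), (3998, 4819), (3999, 4822), (4000, 4823), (4001, 4824), (4002, 4836), (4003, 3588), (4004, 3311), (4005, 3312), (4006, 4397), (4007, 3313), (4008, 3314), (4009, 3315), (4010, 3316), (4011, 3317), (4012, 3318), (4013, 3319), (4014, 3320), (4015, 4414), (4016, 3295), (4017, 3321), (4018, 3303), (4019, 3304), (4020, 3305), (4021, 3324), (4022, 3306), (4023, 3307), (4024, 3327), (4025, 3328), (4026, 3308), (4027, 3309), (4028, 3310), (4029, 4855), (4030,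 4856), (4031, 4858)]
    ⟨e3 q3968 L74542 q3968, e3 q3969 (flp_b L123035) q4227, e3 q3970 L74580 q3970, e3 q3971 L74586 q3971, e3 q3972 L74593 q3972, e3 q3973 L74600 q3973, e3 q3974 L74608 q3974, e3 q3975 L74615 q3975, e3 q3976 L74621 q3976, e3 q3977 L74631 q3977, e3 q3978 L74641 q3978, e3 q3979 L74647 q3979, e3 q3980 L74655 q3261, e3 q3981 L74665 q3262, e3 q3982 L121066 q3920, e3 q3983 (flp_b L74699) q3263, e3 q3984 L121075 q3984, e3 q3985 L121086 q3270, e3 q3986 L121095 q3986, e3 q3987 L121107 q3277, e3 q3988 L121114 q3278, e3 q3989 L121124 q3279, e3 q3990 L121133 q3280, e3 q3991 L121145 q3991, e3 q3992 L121152 q3281, e3 q3993 L121160 q3282, e3 q3994 (flp_b L128098) q4814, e3 q3995 (flp_b L128105) q4815, e3 q3996 (flp_b L128111) q4816, e3 q3997 (flp_b L128131) q4818, e3 q3998 (flp_b L128138) q4819, e3 q3999 (flp_b L128167) q4822, e3 q4000 (flp_b L128174) q4823, e3 q4001 (flp_b L128183) q4824, e3 q4002 L128263 q4836, e3 q4003 L121229 q3588, e3 q4004 L121236 q3311, e3 q4005 L121242 q3312,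 e3 q4006 (flp_b L124641) q4397, e3 q4007 L121252 q3313, e3 q4008 L121258 q3314, e3 q4009 L121264 q3315, e3 q4010 L121272 q3316, e3 q4011 L121279 q3317, e3 q4012 L121287 q3318, e3 q4013 L121294 q3319, e3 q4014 L121301 q3320, e3 q4015 (flp_b L124774) q4414, e3 q4016 L121315 q3295, e3 q4017 L121322 q3321, e3 q4018 L121328 q3303, e3 q4019 L121333 q3304, e3 q4020 L121337 q3305, e3 q4021 L121348 q3324, e3 q4022 L121354 q3306, e3 q4023 L121359 q3307, e3 q4024 L121367 q3327, e3 q4025 L121375 q3328, e3 q4026 L121384 q3308, e3 q4027 L121389 q3309, e3 q4028 L121396 q3310, e3 q4029 (flp_b L128393) q4855, e3 q4030 (flp_b L128399) q4856, e3 q4031 (flp_b L128408) q4858, trivial⟩ (by decide +kernel)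

theorem ce_b_63 : ∀ r, r < 64 → sm gb (Qf (4032 + r)) = Qf (tab Gen.b (4032 + r)) :=
  edges_tab (sm gb) Qf (tab Gen.b) 4032 [(4032, 4859), (4033, 4862), (4034, 4863), (4035, 4864), (4036, 4869), (4037, 4870), (4038, 4871), (4039, 4840), (4040, 4841), (4041, 4844), (4042, 4845), (4043, 4846), (4044, 4847), (4045, 4848), (4046, 4849), (4047, 4850), (4048, 4851), (4049, 4852), (4050, 4854), (4051, 3323), (4052, 4860), (4053, 4861), (4054, 3332), (4055, 3333), (4056, 3334), (4057, 4865), (4058, 4866), (4059, 4867), (4060, 4868), (4061, 3335), (4062, 3336), (4063, 3337), (4064, 4901), (4065, 4902), (4066, 4903), (4067, 4911), (4068, 4912), (4069, 4913), (4070, 4070), (4071, 4071), (4072, 4072), (4073, 4073), (4074, 4074), (4075, 4926), (4076, 3346), (4077, 3348), (4078, 3349), (4079, 3350), (4080, 4927), (4081, 4750), (4082, 4928), (4083, 4929), (4084, 4931), (4085, 4932), (4086, 4289), (4087, 4290), (4088, 4291), (4089, 4292), (4090, 4090), (4091, 4091), (4092, 4092), (4093, 4093), (4094,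 4094), (4095, 4095)]
    ⟨e3 q4032 (flp_b L128414) q4859, e3 q4033 (flp_b L128437) q4862, e3 q4034 (flp_b L128444) q4863, e3 q4035 (flp_b L128450) q4864, e3 q4036 (flp_b L128488) q4869, e3 q4037 (flp_b L128494) q4870, e3 q4038 (flp_b L128500) q4871, e3 q4039 (flp_b L128291) q4840, e3 q4040 (flp_b L128298) q4841, e3 q4041 (flp_b L128315) q4844, e3 q4042 (flp_b L128321) q4845, e3 q4043 (flp_b L128329) q4846, e3 q4044 (flp_b L128333) q4847, e3 q4045 (flp_b L128341) q4848, e3 q4046 (flp_b L128350) q4849, e3 q4047 (flp_b L128358) q4850, e3 q4048 (flp_b L128366) q4851, e3 q4049 (flp_b L128374) q4852, e3 q4050 (flp_b L128386) q4854, e3 q4051 L121547 q3323, e3 q4052 (flp_b L128420) q4860, e3 q4053 (flp_b L128427) q4861, e3 q4054 L121568 q3332, e3 q4055 L121576 q3333, e3 q4056 L121583 q3334, e3 q4057 (flp_b L128457) q4865, e3 q4058 (flp_b L128464) q4866, e3 q4059 (flp_b L128471) q4867, e3 q4060 (flp_b L128480) q4868, e3 q4061 L121620 q3335, e3 q4062 L121628 q3336, e3 q4063 L121636 q3337, e3 q4064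 (flp_b L128698) q4901, e3 q4065 (flp_b L128706) q4902, e3 q4066 (flp_b L128715) q4903, e3 q4067 (flp_b L128777) q4911, e3 q4068 (flp_b L128786) q4912, e3 q4069 (flp_b L128794) q4913, e3 q4070 L121689 q4070, e3 q4071 L121696 q4071, e3 q4072 L121704 q4072, e3 q4073 L121709 q4073, e3 q4074 L121716 q4074, e3 q4075 L128885 q4926, e3 q4076 L121730 q3346, e3 q4077 L121741 q3348, e3 q4078 L121748 q3349, e3 q4079 L121755 q3350, e3 q4080 (flp_b L128895) q4927, e3 q4081 (flp_b L127562) q4750, e3 q4082 (flp_b L128907) q4928, e3 q4083 (flp_b L128915) q4929, e3 q4084 (flp_b L128930) q4931, e3 q4085 (flp_b L128938) q4932, e3 q4086 (flp_b L123641) q4289, e3 q4087 (flp_b L123653) q4290, e3 q4088 (flp_b L123663) q4291, e3 q4089 (flp_b L123673) q4292, e3 q4090 L121860 q4090, e3 q4091 L121873 q4091, e3 q4092 L121884 q4092, e3 q4093 L121895 q4093, e3 q4094 L121905 q4094, e3 q4095 L121914 q4095, trivial⟩ (by decide +kernel)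

theorem ce_b_64 : ∀ r, r < 64 → sm gb (Qf (4096 + r)) = Qf (tab Gen.b (4096 + r)) :=
  edges_tab (sm gb) Qf (tab Gen.b) 4096 [(4096, 4096), (4097, 4097), (4098, 3366), (4099, 3367), (4100, 4953), (4101, 3369), (4102, 3903), (4103, 3799), (4104, 4959), (4105, 4952), (4106, 3368), (4107, 4963), (4108, 4955), (4109, 3375), (4110, 3376), (4111, 3377), (4112, 3378), (4113, 3379), (4114, 3380), (4115, 4930), (4116, 3381), (4117, 3382), (4118, 4966), (4119, 4967), (4120, 4968), (4121, 4969), (4122, 4970), (4123, 4971), (4124, 4972), (4125, 4973), (4126, 4975), (4127, 4976), (4128, 4979), (4129, 4980), (4130, 4981), (4131, 4240), (4132, 4325), (4133, 4326), (4134, 5004), (4135, 4328), (4136, 3440), (4137, 3441), (4138, 3442), (4139, 3443), (4140, 3444), (4141, 3445), (4142, 3446), (4143, 5018), (4144, 3448), (4145, 3449), (4146, 3450), (4147, 3451), (4148, 3452), (4149, 3453), (4150, 3454), (4151, 3455), (4152, 3456), (4153, 3457), (4154, 3406), (4155, 3407), (4156, 5035), (4157, 3409), (4158,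 3404), (4159, 5039)]
    ⟨e3 q4096 L121921 q4096, e3 q4097 L121930 q4097, e3 q4098 L121938 q3366, e3 q4099 L121951 q3367, e3 q4100 L129161 q4953, e3 q4101 L121974 q3369, e3 q4102 L121983 q3903, e3 q4103 L121991 q3799, e3 q4104 L129226 q4959, e3 q4105 (flp_b L129149) q4952, e3 q4106 (flp_b L122015) q3368, e3 q4107 (flp_b L129264) q4963, e3 q4108 (flp_b L129186) q4955, e3 q4109 L122041 q3375, e3 q4110 L122052 q3376, e3 q4111 L122062 q3377, e3 q4112 L122072 q3378, e3 q4113 L122081 q3379, e3 q4114 L122090 q3380, e3 q4115 (flp_b L128925) q4930, e3 q4116 L122106 q3381, e3 q4117 L122116 q3382, e3 q4118 (flp_b L129292) q4966, e3 q4119 (flp_b L129303) q4967, e3 q4120 (flp_b L129312) q4968, e3 q4121 (flp_b L129323) q4969, e3 q4122 (flp_b L129333) q4970, e3 q4123 (flp_b L129341) q4971, e3 q4124 (flp_b L129353) q4972, e3 q4125 (flp_b L129363) q4973, e3 q4126 (flp_b L129381) q4975, e3 q4127 (flp_b L129388) q4976, e3 q4128 (flp_b L129413) q4979, e3 q4129 (flp_b L129422) q4980, e3 q4130 (flp_b L129433)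 q4981, e3 q4131 (flp_b L123146) q4240, e3 q4132 (flp_b L124020) q4325, e3 q4133 (flp_b L124029) q4326, e3 q4134 L129632 q5004, e3 q4135 (flp_b L124048) q4328, e3 q4136 L122277 q3440, e3 q4137 L122290 q3441, e3 q4138 L122298 q3442, e3 q4139 L122306 q3443, e3 q4140 L122316 q3444, e3 q4141 L122327 q3445, e3 q4142 L122333 q3446, e3 q4143 L129754 q5018, e3 q4144 L122351 q3448, e3 q4145 L122357 q3449, e3 q4146 L122365 q3450, e3 q4147 L122376 q3451, e3 q4148 L122385 q3452, e3 q4149 L122392 q3453, e3 q4150 L122398 q3454, e3 q4151 L122407 q3455, e3 q4152 L122415 q3456, e3 q4153 L122423 q3457, e3 q4154 L122431 q3406, e3 q4155 L122440 q3407, e3 q4156 L129909 q5035, e3 q4157 L122458 q3409, e3 q4158 (flp_b L122464) q3404, e3 q4159 (flp_b L129946) q5039, trivial⟩ (by decide +kernel)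

theorem ce_b_65 : ∀ r, r < 64 → sm gb (Qf (4160 + r)) = Qf (tab Gen.b (4160 + r)) :=
  edges_tab (sm gb) Qf (tab Gen.b) 4160 [(4160, 3412), (4161, 5033), (4162, 5034), (4163, 3408), (4164, 5044), (4165, 5037), (4166, 4345), (4167, 3411), (4168, 5047), (4169, 3467), (4170, 3422), (4171, 3423), (4172, 3424), (4173, 3425), (4174, 3426), (4175, 3427), (4176, 3428), (4177, 3429), (4178, 4178), (4179, 3430), (4180, 3431), (4181, 4181), (4182, 4182), (4183, 3432), (4184, 3433), (4185, 3434), (4186, 5050), (4187, 5051), (4188, 5052), (4189, 5053), (4190, 5054), (4191, 5055), (4192, 5056), (4193, 5087), (4194, 5058), (4195, 5059), (4196, 5061), (4197, 5062), (4198, 5065), (4199, 5066), (4200, 5067), (4201, 5072), (4202, 5073), (4203, 5074), (4204, 4206), (4205, 5102), (4206, 4204), (4207, 3438), (4208, 5105), (4209, 3859), (4210, 5007), (4211, 5008), (4212, 5009), (4213, 5112), (4214, 5011), (4215, 5012), (4216, 5013), (4217, 5014), (4218, 5120), (4219, 5016), (4220, 5017), (4221, 3447), (4222,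 5127), (4223, 5128)]
    ⟨e3 q4160 L122479 q3412, e3 q4161 (flp_b L129889) q5033, e3 q4162 (flp_b L129901) q5034, e3 q4163 (flp_b L122506) q3408, e3 q4164 (flp_b L129994) q5044, e3 q4165 (flp_b L129930) q5037, e3 q4166 (flp_b L124207) q4345, e3 q4167 L122543 q3411, e3 q4168 (flp_b L130025) q5047, e3 q4169 L122563 q3467, e3 q4170 L122567 q3422, e3 q4171 L122576 q3423, e3 q4172 L122583 q3424, e3 q4173 L122592 q3425, e3 q4174 L122600 q3426, e3 q4175 L122606 q3427, e3 q4176 L122616 q3428, e3 q4177 L122624 q3429, e3 q4178 L122636 q4178, e3 q4179 L122639 q3430, e3 q4180 L122644 q3431, e3 q4181 L122652 q4181, e3 q4182 L122659 q4182, e3 q4183 L122665 q3432, e3 q4184 L122672 q3433, e3 q4185 L122681 q3434, e3 q4186 (flp_b L130050) q5050, e3 q4187 (flp_b L130060) q5051, e3 q4188 (flp_b L130067) q5052, e3 q4189 (flp_b L130075) q5053, e3 q4190 (flp_b L130084) q5054, e3 q4191 (flp_b L130093) q5055, e3 q4192 (flp_b L130099) q5056, e3 q4193 L130349 q5087, e3 q4194 (flp_b L130113) q5058, e3 q4195 (flp_b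 L130119) q5059, e3 q4196 (flp_b L130134) q5061, e3 q4197 (flp_b L130141) q5062, e3 q4198 (flp_b L130163) q5065, e3 q4199 (flp_b L130170) q5066, e3 q4200 (flp_b L130176) q5067, e3 q4201 (flp_b L130212) q5072, e3 q4202 (flp_b L130220) q5073, e3 q4203 (flp_b L130228) q5074, e3 q4204 (flp_b L122876) q4206, e3 q4205 L130476 q5102, e3 q4206 L122876 q4204, e3 q4207 (flp_b L122887) q3438, e3 q4208 (flp_b L130511) q5105, e3 q4209 L122905 q3859, e3 q4210 (flp_b L129656) q5007, e3 q4211 (flp_b L129667) q5008, e3 q4212 (flp_b L129675) q5009, e3 q4213 L130582 q5112, e3 q4214 (flp_b L129692) q5011, e3 q4215 (flp_b L129699) q5012, e3 q4216 (flp_b L129707) q5013, e3 q4217 (flp_b L129715) q5014, e3 q4218 L130655 q5120, e3 q4219 (flp_b L129736) q5016, e3 q4220 (flp_b L129748) q5017, e3 q4221 (flp_b L122996) q3447, e3 q4222 (flp_b L130724) q5127, e3 q4223 (flp_b L130733) q5128, trivial⟩ (by decide +kernel)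

theorem ce_b_66 : ∀ r, r < 64 → sm gb (Qf (4224 + r)) = Qf (tab Gen.b (4224 + r)) :=
  edges_tab (sm gb) Qf (tab Gen.b) 4224 [(4224, 5021), (4225, 5022), (4226, 5023), (4227, 3969), (4228, 5024), (4229, 5025), (4230, 5026), (4231, 5027), (4232, 5028), (4233, 5029), (4234, 5030), (4235, 5031), (4236, 3459), (4237, 5145), (4238, 5104), (4239, 3462), (4240, 4131), (4241, 3464), (4242, 4383), (4243, 5048), (4244, 5049), (4245, 3478), (4246, 3479), (4247, 3480), (4248, 3481), (4249, 3482), (4250, 5161), (4251, 3484), (4252, 4252), (4253, 3485), (4254, 4254), (4255, 4255), (4256, 3486), (4257, 5152), (4258, 5153), (4259, 5154), (4260, 5155), (4261, 5171), (4262, 5157), (4263, 5158), (4264, 5175), (4265, 5160), (4266, 3483), (4267, 5177), (4268, 3487), (4269, 3501), (4270, 4270), (4271, 4271), (4272, 3649), (4273, 4273), (4274, 4274), (4275, 3493), (4276, 3652), (4277, 5183), (4278, 4278), (4279, 5176), (4280, 5178), (4281, 3505), (4282, 3506), (4283, 3507), (4284, 3508), (4285, 5185), (4286,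 5186), (4287, 5188)]
    ⟨e3 q4224 (flp_b L129780) q5021, e3 q4225 (flp_b L129788) q5022, e3 q4226 (flp_b L129796) q5023, e3 q4227 L123035 q3969, e3 q4228 (flp_b L129804) q5024, e3 q4229 (flp_b L129816) q5025, e3 q4230 (flp_b L129826) q5026, e3 q4231 (flp_b L129837) q5027, e3 q4232 (flp_b L129845) q5028, e3 q4233 (flp_b L129852) q5029, e3 q4234 (flp_b L129861) q5030, e3 q4235 (flp_b L129868) q5031, e3 q4236 (flp_b L123097) q3459, e3 q4237 (flp_b L130858) q5145, e3 q4238 (flp_b L130507) q5104, e3 q4239 L123130 q3462, e3 q4240 L123146 q4131, e3 q4241 L123150 q3464, e3 q4242 (flp_b L124532) q4383, e3 q4243 (flp_b L130032) q5048, e3 q4244 (flp_b L130041) q5049, e3 q4245 L123185 q3478, e3 q4246 L123196 q3479, e3 q4247 L123204 q3480, e3 q4248 L123213 q3481, e3 q4249 L123223 q3482, e3 q4250 L131016 q5161, e3 q4251 L123239 q3484, e3 q4252 L123254 q4252, e3 q4253 L123258 q3485, e3 q4254 L123270 q4254, e3 q4255 L123278 q4255, e3 q4256 L123292 q3486, e3 q4257 (flp_b L130926) q5152, e3 q4258 (flp_b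 L130938) q5153, e3 q4259 (flp_b L130949) q5154, e3 q4260 (flp_b L130960) q5155, e3 q4261 L131123 q5171, e3 q4262 (flp_b L130977) q5157, e3 q4263 (flp_b L130986) q5158, e3 q4264 L131158 q5175, e3 q4265 (flp_b L131006) q5160, e3 q4266 (flp_b L123393) q3483, e3 q4267 (flp_b L131188) q5177, e3 q4268 (flp_b L123409) q3487, e3 q4269 L123425 q3501, e3 q4270 L123429 q4270, e3 q4271 L123439 q4271, e3 q4272 L123456 q3649, e3 q4273 L123462 q4273, e3 q4274 L123474 q4274, e3 q4275 (flp_b L123483) q3493, e3 q4276 L123496 q3652, e3 q4277 (flp_b L131262) q5183, e3 q4278 L123515 q4278, e3 q4279 (flp_b L131180) q5176, e3 q4280 (flp_b L131207) q5178, e3 q4281 L123547 q3505, e3 q4282 L123560 q3506, e3 q4283 L123573 q3507, e3 q4284 L123583 q3508, e3 q4285 (flp_b L131287) q5185, e3 q4286 (flp_b L131299) q5186, e3 q4287 (flp_b L131325) q5188, trivial⟩ (by decide +kernel)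

theorem ce_b_67 : ∀ r, r < 64 → sm gb (Qf (4288 + r)) = Qf (tab Gen.b (4288 + r)) :=
  edges_tab (sm gb) Qf (tab Gen.b) 4288 [(4288, 5189), (4289, 4086), (4290, 4087), (4291, 4088), (4292, 4089), (4293, 4293), (4294, 4294), (4295, 3522), (4296, 3523), (4297, 3524), (4298, 5200), (4299, 3526), (4300, 5196), (4301, 5197), (4302, 5199), (4303, 3525), (4304, 5206), (4305, 5202), (4306, 3532), (4307, 3533), (4308, 3534), (4309, 3535), (4310, 3536), (4311, 3537), (4312, 5187), (4313, 3538), (4314, 3539), (4315, 5209), (4316, 5210), (4317, 5211), (4318, 5212), (4319, 5213), (4320, 5215), (4321, 5216), (4322, 5219), (4323, 5220), (4324, 5221), (4325, 4132), (4326, 4133), (4327, 5234), (4328, 4135), (4329, 3641), (4330, 3642), (4331, 3643), (4332, 3644), (4333, 5240), (4334, 3646), (4335, 3647), (4336, 3650), (4337, 3653), (4338, 3654), (4339, 5032), (4340, 3558), (4341, 3556), (4342, 5249), (4343, 3561), (4344, 5247), (4345, 4166), (4346, 3560), (4347, 5252), (4348, 4348), (4349, 3571), (4350,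 3572), (4351, 3573)]
    ⟨e3 q4288 (flp_b L131334) q5189, e3 q4289 L123641 q4086, e3 q4290 L123653 q4087, e3 q4291 L123663 q4088, e3 q4292 L123673 q4089, e3 q4293 L123685 q4293, e3 q4294 L123696 q4294, e3 q4295 L123707 q3522, e3 q4296 L123717 q3523, e3 q4297 L123726 q3524, e3 q4298 L131456 q5200, e3 q4299 L123743 q3526, e3 q4300 (flp_b L131412) q5196, e3 q4301 (flp_b L131424) q5197, e3 q4302 (flp_b L131448) q5199, e3 q4303 (flp_b L123778) q3525, e3 q4304 (flp_b L131514) q5206, e3 q4305 (flp_b L131477) q5202, e3 q4306 L123808 q3532, e3 q4307 L123822 q3533, e3 q4308 L123836 q3534, e3 q4309 L123848 q3535, e3 q4310 L123861 q3536, e3 q4311 L123873 q3537, e3 q4312 (flp_b L131318) q5187, e3 q4313 L123894 q3538, e3 q4314 L123905 q3539, e3 q4315 (flp_b L131549) q5209, e3 q4316 (flp_b L131561) q5210, e3 q4317 (flp_b L131573) q5211, e3 q4318 (flp_b L131581) q5212, e3 q4319 (flp_b L131595) q5213, e3 q4320 (flp_b L131624) q5215, e3 q4321 (flp_b L131634) q5216, e3 q4322 (flp_b L131666) q5219, e3 q4323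 (flp_b L131676) q5220, e3 q4324 (flp_b L131687) q5221, e3 q4325 L124020 q4132, e3 q4326 L124029 q4133, e3 q4327 L131817 q5234, e3 q4328 L124048 q4135, e3 q4329 L124056 q3641, e3 q4330 L124068 q3642, e3 q4331 L124081 q3643, e3 q4332 L124091 q3644, e3 q4333 L131875 q5240, e3 q4334 L124109 q3646, e3 q4335 L124119 q3647, e3 q4336 L124127 q3650, e3 q4337 L124139 q3653, e3 q4338 L124147 q3654, e3 q4339 (flp_b L129883) q5032, e3 q4340 L124163 q3558, e3 q4341 (flp_b L124169) q3556, e3 q4342 (flp_b L131956) q5249, e3 q4343 L124184 q3561, e3 q4344 (flp_b L131940) q5247, e3 q4345 L124207 q4166, e3 q4346 L124211 q3560, e3 q4347 (flp_b L131981) q5252, e3 q4348 L124232 q4348, e3 q4349 L124237 q3571, e3 q4350 L124249 q3572, e3 q4351 L124257 q3573, trivial⟩ (by decide +kernel)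

theorem ce_b_68 : ∀ r, r < 64 → sm gb (Qf (4352 + r)) = Qf (tab Gen.b (4352 + r)) :=
  edges_tab (sm gb) Qf (tab Gen.b) 4352 [(4352, 3574), (4353, 3575), (4354, 3576), (4355, 3577), (4356, 3578), (4357, 4357), (4358, 3579), (4359, 3580), (4360, 4360), (4361, 4361), (4362, 3581), (4363, 3582), (4364, 3583), (4365, 5255), (4366, 5256), (4367, 5257), (4368, 5258), (4369, 5259), (4370, 5260), (4371, 5261), (4372, 5291), (4373, 5263), (4374, 5264), (4375, 5266), (4376, 5267), (4377, 5270), (4378, 5271), (4379, 5272), (4380, 5277), (4381, 5278), (4382, 5279), (4383, 4242), (4384, 5305), (4385, 4419), (4386, 3587), (4387, 5309), (4388, 4838), (4389, 3693), (4390, 3694), (4391, 3695), (4392, 5315), (4393, 3697), (4394, 3698), (4395, 3645), (4396, 3655), (4397, 4006), (4398, 3699), (4399, 3700), (4400, 3596), (4401, 5329), (4402, 5330), (4403, 3704), (4404, 3705), (4405, 3706), (4406, 3707), (4407, 3708), (4408, 3710), (4409, 3711), (4410, 3712), (4411, 3713), (4412, 3714), (4413, 3715), (4414,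 4015), (4415, 3613)]
    ⟨e3 q4352 L124266 q3574, e3 q4353 L124276 q3575, e3 q4354 L124282 q3576, e3 q4355 L124290 q3577, e3 q4356 L124301 q3578, e3 q4357 L124314 q4357, e3 q4358 L124319 q3579, e3 q4359 L124327 q3580, e3 q4360 L124337 q4360, e3 q4361 L124347 q4361, e3 q4362 L124355 q3581, e3 q4363 L124363 q3582, e3 q4364 L124372 q3583, e3 q4365 (flp_b L132010) q5255, e3 q4366 (flp_b L132022) q5256, e3 q4367 (flp_b L132032) q5257, e3 q4368 (flp_b L132040) q5258, e3 q4369 (flp_b L132048) q5259, e3 q4370 (flp_b L132059) q5260, e3 q4371 (flp_b L132067) q5261, e3 q4372 L132333 q5291, e3 q4373 (flp_b L132081) q5263, e3 q4374 (flp_b L132089) q5264, e3 q4375 (flp_b L132107) q5266, e3 q4376 (flp_b L132117) q5267, e3 q4377 (flp_b L132148) q5270, e3 q4378 (flp_b L132158) q5271, e3 q4379 (flp_b L132166) q5272, e3 q4380 (flp_b L132215) q5277, e3 q4381 (flp_b L132224) q5278, e3 q4382 (flp_b L132232) q5279, e3 q4383 L124532 q4242, e3 q4384 L132442 q5305, e3 q4385 (flp_b L124816) q4419, e3 q4386 (flp_b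 L124554) q3587, e3 q4387 (flp_b L132479) q5309, e3 q4388 (flp_b L128280) q4838, e3 q4389 L124573 q3693, e3 q4390 L124582 q3694, e3 q4391 L124592 q3695, e3 q4392 L132530 q5315, e3 q4393 L124608 q3697, e3 q4394 L124618 q3698, e3 q4395 L124624 q3645, e3 q4396 L124630 q3655, e3 q4397 L124641 q4006, e3 q4398 L124647 q3699, e3 q4399 L124657 q3700, e3 q4400 (flp_b L124663) q3596, e3 q4401 (flp_b L132646) q5329, e3 q4402 (flp_b L132655) q5330, e3 q4403 L124684 q3704, e3 q4404 L124690 q3705, e3 q4405 L124698 q3706, e3 q4406 L124702 q3707, e3 q4407 L124710 q3708, e3 q4408 L124721 q3710, e3 q4409 L124730 q3711, e3 q4410 L124739 q3712, e3 q4411 L124750 q3713, e3 q4412 L124758 q3714, e3 q4413 L124767 q3715, e3 q4414 L124774 q4015, e3 q4415 L124783 q3613, trivial⟩ (by decide +kernel)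

theorem ce_b_69 : ∀ r, r < 64 → sm gb (Qf (4416 + r)) = Qf (tab Gen.b (4416 + r)) :=
  edges_tab (sm gb) Qf (tab Gen.b) 4416 [(4416, 5308), (4417, 3611), (4418, 5347), (4419, 4385), (4420, 3616), (4421, 3719), (4422, 3626), (4423, 3627), (4424, 3628), (4425, 3629), (4426, 3630), (4427, 3631), (4428, 3632), (4429, 4429), (4430, 3633), (4431, 3634), (4432, 4432), (4433, 4433), (4434, 3635), (4435, 3636), (4436, 3637), (4437, 5352), (4438, 5353), (4439, 5354), (4440, 5355), (4441, 5376), (4442, 5357), (4443, 5358), (4444, 5360), (4445, 5363), (4446, 5364), (4447, 5365), (4448, 5370), (4449, 5371), (4450, 5372), (4451, 3639), (4452, 5386), (4453, 5311), (4454, 5237), (4455, 5239), (4456, 5321), (4457, 5322), (4458, 5109), (4459, 5242), (4460, 5243), (4461, 5180), (4462, 5184), (4463, 5244), (4464, 5245), (4465, 3733), (4466, 3734), (4467, 3673), (4468, 3674), (4469, 3675), (4470, 3676), (4471, 3677), (4472, 3678), (4473, 5412), (4474, 3680), (4475, 3681), (4476, 3750), (4477, 3682), (4478,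 3683), (4479, 3753)]
    ⟨e3 q4416 (flp_b L132475) q5308, e3 q4417 L124799 q3611, e3 q4418 (flp_b L132796) q5347, e3 q4419 L124816 q4385, e3 q4420 L124825 q3616, e3 q4421 L124839 q3719, e3 q4422 L124847 q3626, e3 q4423 L124857 q3627, e3 q4424 L124865 q3628, e3 q4425 L124875 q3629, e3 q4426 L124881 q3630, e3 q4427 L124895 q3631, e3 q4428 L124904 q3632, e3 q4429 L124919 q4429, e3 q4430 L124924 q3633, e3 q4431 L124930 q3634, e3 q4432 L124938 q4432, e3 q4433 L124946 q4433, e3 q4434 L124954 q3635, e3 q4435 L124962 q3636, e3 q4436 L124971 q3637, e3 q4437 (flp_b L132843) q5352, e3 q4438 (flp_b L132851) q5353, e3 q4439 (flp_b L132861) q5354, e3 q4440 (flp_b L132867) q5355, e3 q4441 L133049 q5376, e3 q4442 (flp_b L132885) q5357, e3 q4443 (flp_b L132891) q5358, e3 q4444 (flp_b L132913) q5360, e3 q4445 (flp_b L132940) q5363, e3 q4446 (flp_b L132948) q5364, e3 q4447 (flp_b L132956) q5365, e3 q4448 (flp_b L132999) q5370, e3 q4449 (flp_b L133008) q5371, e3 q4450 (flp_b L133016) q5372, e3 q4451 (flp_b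 L125108) q3639, e3 q4452 (flp_b L133137) q5386, e3 q4453 (flp_b L132492) q5311, e3 q4454 (flp_b L131845) q5237, e3 q4455 (flp_b L131867) q5239, e3 q4456 (flp_b L132580) q5321, e3 q4457 (flp_b L132585) q5322, e3 q4458 L130561 q5109, e3 q4459 (flp_b L131893) q5242, e3 q4460 (flp_b L131903) q5243, e3 q4461 (flp_b L131223) q5180, e3 q4462 (flp_b L131273) q5184, e3 q4463 (flp_b L131911) q5244, e3 q4464 (flp_b L131923) q5245, e3 q4465 L125210 q3733, e3 q4466 L125218 q3734, e3 q4467 L125226 q3673, e3 q4468 L125232 q3674, e3 q4469 L125240 q3675, e3 q4470 L125246 q3676, e3 q4471 L125252 q3677, e3 q4472 L125258 q3678, e3 q4473 L133327 q5412, e3 q4474 L125268 q3680, e3 q4475 L125274 q3681, e3 q4476 L125285 q3750, e3 q4477 L125289 q3682, e3 q4478 L125297 q3683, e3 q4479 L125306 q3753, trivial⟩ (by decide +kernel)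

theorem ce_b_70 : ∀ r, r < 64 → sm gb (Qf (4480 + r)) = Qf (tab Gen.b (4480 + r)) :=
  edges_tab (sm gb) Qf (tab Gen.b) 4480 [(4480, 3754), (4481, 3684), (4482, 3685), (4483, 3686), (4484, 3758), (4485, 3759), (4486, 3760), (4487, 3761), (4488, 3687), (4489, 3688), (4490, 3689), (4491, 5402), (4492, 5403), (4493, 5404), (4494, 5405), (4495, 5444), (4496, 5407), (4497, 5408), (4498, 5410), (4499, 5411), (4500, 3679), (4501, 5454), (4502, 5455), (4503, 5415), (4504, 5416), (4505, 5417), (4506, 5420), (4507, 5421), (4508, 5422), (4509, 5427), (4510, 5428), (4511, 5429), (4512, 5437), (4513, 5438), (4514, 5439), (4515, 3716), (4516, 3691), (4517, 3860), (4518, 5312), (4519, 3900), (4520, 5314), (4521, 3696), (4522, 5475), (4523, 5476), (4524, 5318), (4525, 5319), (4526, 5320), (4527, 5325), (4528, 5326), (4529, 5327), (4530, 5453), (4531, 3702), (4532, 3703), (4533, 5488), (4534, 5489), (4535, 5490), (4536, 5334), (4537, 5335), (4538, 5336), (4539, 5337), (4540, 5338), (4541, 3895), (4542,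 5339), (4543, 5340)]
    ⟨e3 q4480 L125314 q3754, e3 q4481 L125322 q3684, e3 q4482 L125330 q3685, e3 q4483 L125336 q3686, e3 q4484 L125344 q3758, e3 q4485 L125349 q3759, e3 q4486 L125357 q3760, e3 q4487 L125366 q3761, e3 q4488 L125375 q3687, e3 q4489 L125382 q3688, e3 q4490 L125388 q3689, e3 q4491 (flp_b L133258) q5402, e3 q4492 (flp_b L133267) q5403, e3 q4493 (flp_b L133273) q5404, e3 q4494 (flp_b L133281) q5405, e3 q4495 L133581 q5444, e3 q4496 (flp_b L133293) q5407, e3 q4497 (flp_b L133301) q5408, e3 q4498 (flp_b L133313) q5410, e3 q4499 (flp_b L133321) q5411, e3 q4500 (flp_b L125478) q3679, e3 q4501 (flp_b L133670) q5454, e3 q4502 (flp_b L133678) q5455, e3 q4503 (flp_b L133345) q5415, e3 q4504 (flp_b L133351) q5416, e3 q4505 (flp_b L133359) q5417, e3 q4506 (flp_b L133382) q5420, e3 q4507 (flp_b L133389) q5421, e3 q4508 (flp_b L133399) q5422, e3 q4509 (flp_b L133442) q5427, e3 q4510 (flp_b L133450) q5428, e3 q4511 (flp_b L133458) q5429, e3 q4512 (flp_b L133521) q5437, e3 q4513 (flp_b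 L133528) q5438, e3 q4514 (flp_b L133536) q5439, e3 q4515 L125620 q3716, e3 q4516 L125624 q3691, e3 q4517 L125634 q3860, e3 q4518 (flp_b L132500) q5312, e3 q4519 L125650 q3900, e3 q4520 (flp_b L132522) q5314, e3 q4521 (flp_b L125668) q3696, e3 q4522 (flp_b L133860) q5475, e3 q4523 (flp_b L133869) q5476, e3 q4524 (flp_b L132556) q5318, e3 q4525 (flp_b L132564) q5319, e3 q4526 (flp_b L132574) q5320, e3 q4527 (flp_b L132614) q5325, e3 q4528 (flp_b L132622) q5326, e3 q4529 (flp_b L132632) q5327, e3 q4530 (flp_b L133666) q5453, e3 q4531 L125739 q3702, e3 q4532 L125747 q3703, e3 q4533 (flp_b L133959) q5488, e3 q4534 (flp_b L133965) q5489, e3 q4535 (flp_b L133975) q5490, e3 q4536 (flp_b L132681) q5334, e3 q4537 (flp_b L132687) q5335, e3 q4538 (flp_b L132695) q5336, e3 q4539 (flp_b L132701) q5337, e3 q4540 (flp_b L132711) q5338, e3 q4541 L125807 q3895, e3 q4542 (flp_b L132721) q5339, e3 q4543 (flp_b L132730) q5340, trivial⟩ (by decide +kernel)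

theorem ce_b_71 : ∀ r, r < 64 → sm gb (Qf (4544 + r)) = Qf (tab Gen.b (4544 + r)) :=
  edges_tab (sm gb) Qf (tab Gen.b) 4544 [(4544, 5341), (4545, 5342), (4546, 5343), (4547, 4958), (4548, 5471), (4549, 5350), (4550, 5351), (4551, 3726), (4552, 3727), (4553, 3728), (4554, 5398), (4555, 3729), (4556, 4556), (4557, 5505), (4558, 5507), (4559, 5508), (4560, 4560), (4561, 5399), (4562, 5400), (4563, 5401), (4564, 3739), (4565, 5516), (4566, 3741), (4567, 3738), (4568, 3740), (4569, 5520), (4570, 3746), (4571, 5519), (4572, 3745), (4573, 3747), (4574, 5523), (4575, 5524), (4576, 3768), (4577, 3769), (4578, 3770), (4579, 5418), (4580, 5419), (4581, 3771), (4582, 3772), (4583, 3773), (4584, 5423), (4585, 5424), (4586, 5425), (4587, 5426), (4588, 3774), (4589, 3775), (4590, 3776), (4591, 5430), (4592, 5431), (4593, 5432), (4594, 5433), (4595, 5434), (4596, 5435), (4597, 5436), (4598, 3777), (4599, 3778), (4600, 3779), (4601, 3782), (4602, 3766), (4603, 3767), (4604, 5564), (4605, 5565), (4606,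 5566), (4607, 5529)]
    ⟨e3 q4544 (flp_b L132741) q5341, e3 q4545 (flp_b L132753) q5342, e3 q4546 (flp_b L132763) q5343, e3 q4547 (flp_b L129219) q4958, e3 q4548 (flp_b L133824) q5471, e3 q4549 (flp_b L132821) q5350, e3 q4550 (flp_b L132833) q5351, e3 q4551 L125894 q3726, e3 q4552 L125903 q3727, e3 q4553 L125912 q3728, e3 q4554 (flp_b L133226) q5398, e3 q4555 L125930 q3729, e3 q4556 L125939 q4556, e3 q4557 (flp_b L134089) q5505, e3 q4558 (flp_b L134107) q5507, e3 q4559 (flp_b L134118) q5508, e3 q4560 L125976 q4560, e3 q4561 (flp_b L133234) q5399, e3 q4562 (flp_b L133244) q5400, e3 q4563 (flp_b L133248) q5401, e3 q4564 L126005 q3739, e3 q4565 L134176 q5516, e3 q4566 L126024 q3741, e3 q4567 (flp_b L126031) q3738, e3 q4568 (flp_b L126040) q3740, e3 q4569 (flp_b L134214) q5520, e3 q4570 L126063 q3746, e3 q4571 (flp_b L134210) q5519, e3 q4572 L126075 q3745, e3 q4573 (flp_b L126081) q3747, e3 q4574 (flp_b L134240) q5523, e3 q4575 (flp_b L134249) q5524, e3 q4576 L126110 q3768, e3 q4577 L126119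 q3769, e3 q4578 L126130 q3770, e3 q4579 (flp_b L133363) q5418, e3 q4580 (flp_b L133373) q5419, e3 q4581 L126159 q3771, e3 q4582 L126169 q3772, e3 q4583 L126180 q3773, e3 q4584 (flp_b L133410) q5423, e3 q4585 (flp_b L133414) q5424, e3 q4586 (flp_b L133424) q5425, e3 q4587 (flp_b L133432) q5426, e3 q4588 L126219 q3774, e3 q4589 L126228 q3775, e3 q4590 L126237 q3776, e3 q4591 (flp_b L133466) q5430, e3 q4592 (flp_b L133472) q5431, e3 q4593 (flp_b L133479) q5432, e3 q4594 (flp_b L133486) q5433, e3 q4595 (flp_b L133495) q5434, e3 q4596 (flp_b L133503) q5435, e3 q4597 (flp_b L133514) q5436, e3 q4598 L126298 q3777, e3 q4599 L126307 q3778, e3 q4600 L126316 q3779, e3 q4601 L126331 q3782, e3 q4602 L126335 q3766, e3 q4603 L126342 q3767, e3 q4604 (flp_b L134587) q5564, e3 q4605 (flp_b L134593) q5565, e3 q4606 (flp_b L134601) q5566, e3 q4607 (flp_b L134293) q5529, trivial⟩ (by decide +kernel)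

theorem ce_b_72 : ∀ r, r < 64 → sm gb (Qf (4608 + r)) = Qf (tab Gen.b (4608 + r)) :=
  edges_tab (sm gb) Qf (tab Gen.b) 4608 [(4608, 5530), (4609, 5531), (4610, 5536), (4611, 5537), (4612, 5538), (4613, 5546), (4614, 5547), (4615, 5548), (4616, 5559), (4617, 5560), (4618, 5579), (4619, 3800), (4620, 5562), (4621, 5563), (4622, 3785), (4623, 3786), (4624, 3787), (4625, 5583), (4626, 5584), (4627, 5585), (4628, 4628), (4629, 4629), (4630, 4630), (4631, 4631), (4632, 4632), (4633, 4633), (4634, 4634), (4635, 4635), (4636, 5136), (4637, 3805), (4638, 3802), (4639, 4639), (4640, 3904), (4641, 5595), (4642, 3923), (4643, 3808), (4644, 3809), (4645, 3810), (4646, 5600), (4647, 3861), (4648, 4648), (4649, 4649), (4650, 3825), (4651, 3826), (4652, 3827), (4653, 3934), (4654, 3828), (4655, 4655), (4656, 3829), (4657, 4657), (4658, 4658), (4659, 3830), (4660, 3831), (4661, 3832), (4662, 4662), (4663, 4663), (4664, 4664), (4665, 4665), (4666, 3833), (4667, 3834), (4668, 3835), (4669, 5606), (4670,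 5608), (4671, 5610)]
    ⟨e3 q4608 (flp_b L134304) q5530, e3 q4609 (flp_b L134314) q5531, e3 q4610 (flp_b L134360) q5536, e3 q4611 (flp_b L134372) q5537, e3 q4612 (flp_b L134382) q5538, e3 q4613 (flp_b L134443) q5546, e3 q4614 (flp_b L134452) q5547, e3 q4615 (flp_b L134463) q5548, e3 q4616 (flp_b L134540) q5559, e3 q4617 (flp_b L134550) q5560, e3 q4618 L134722 q5579, e3 q4619 L126491 q3800, e3 q4620 (flp_b L134569) q5562, e3 q4621 (flp_b L134578) q5563, e3 q4622 L126518 q3785, e3 q4623 L126525 q3786, e3 q4624 L126534 q3787, e3 q4625 (flp_b L134760) q5583, e3 q4626 (flp_b L134769) q5584, e3 q4627 (flp_b L134777) q5585, e3 q4628 L126567 q4628, e3 q4629 L126577 q4629, e3 q4630 L126584 q4630, e3 q4631 L126593 q4631, e3 q4632 L126603 q4632, e3 q4633 L126611 q4633, e3 q4634 L126621 q4634, e3 q4635 L126630 q4635, e3 q4636 (flp_b L130788) q5136, e3 q4637 L126648 q3805, e3 q4638 L126654 q3802, e3 q4639 L126670 q4639, e3 q4640 L126682 q3904, e3 q4641 (flp_b L134863) q5595, e3 q4642 L126696 q3923,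 e3 q4643 L126708 q3808, e3 q4644 L126715 q3809, e3 q4645 L126725 q3810, e3 q4646 (flp_b L134909) q5600, e3 q4647 L126743 q3861, e3 q4648 L126753 q4648, e3 q4649 L126765 q4649, e3 q4650 L126773 q3825, e3 q4651 L126785 q3826, e3 q4652 L126796 q3827, e3 q4653 L126808 q3934, e3 q4654 L126815 q3828, e3 q4655 L126832 q4655, e3 q4656 L126838 q3829, e3 q4657 L126850 q4657, e3 q4658 L126857 q4658, e3 q4659 L126869 q3830, e3 q4660 L126877 q3831, e3 q4661 L126889 q3832, e3 q4662 L126901 q4662, e3 q4663 L126909 q4663, e3 q4664 L126916 q4664, e3 q4665 L126926 q4665, e3 q4666 L126934 q3833, e3 q4667 L126942 q3834, e3 q4668 L126951 q3835, e3 q4669 (flp_b L134963) q5606, e3 q4670 (flp_b L134985) q5608, e3 q4671 (flp_b L135007) q5610, trivial⟩ (by decide +kernel)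

theorem ce_b_73 : ∀ r, r < 64 → sm gb (Qf (4672 + r)) = Qf (tab Gen.b (4672 + r)) :=
  edges_tab (sm gb) Qf (tab Gen.b) 4672 [(4672, 5615), (4673, 5616), (4674, 5617), (4675, 5625), (4676, 5626), (4677, 5627), (4678, 3894), (4679, 3896), (4680, 3897), (4681, 3898), (4682, 3899), (4683, 3901), (4684, 3902), (4685, 4956), (4686, 3905), (4687, 3854), (4688, 4688), (4689, 3855), (4690, 4690), (4691, 4691), (4692, 4692), (4693, 4693), (4694, 3856), (4695, 3857), (4696, 3858), (4697, 5649), (4698, 5650), (4699, 5651), (4700, 5106), (4701, 5198), (4702, 4957), (4703, 3924), (4704, 3925), (4705, 3926), (4706, 3883), (4707, 4707), (4708, 3884), (4709, 3885), (4710, 4710), (4711, 3886), (4712, 3933), (4713, 3887), (4714, 3938), (4715, 3939), (4716, 3940), (4717, 3941), (4718, 3888), (4719, 3889), (4720, 3890), (4721, 3945), (4722, 3946), (4723, 3947), (4724, 3948), (4725, 3949), (4726, 3950), (4727, 3951), (4728, 3891), (4729, 3892), (4730, 3893), (4731, 5662), (4732, 5663), (4733, 5666), (4734,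 5669), (4735, 5677)]
    ⟨e3 q4672 (flp_b L135055) q5615, e3 q4673 (flp_b L135063) q5616, e3 q4674 (flp_b L135075) q5617, e3 q4675 (flp_b L135145) q5625, e3 q4676 (flp_b L135155) q5626, e3 q4677 (flp_b L135163) q5627, e3 q4678 L127038 q3894, e3 q4679 L127047 q3896, e3 q4680 L127060 q3897, e3 q4681 L127072 q3898, e3 q4682 L127085 q3899, e3 q4683 L127094 q3901, e3 q4684 L127102 q3902, e3 q4685 (flp_b L129199) q4956, e3 q4686 L127114 q3905, e3 q4687 L127121 q3854, e3 q4688 L127128 q4688, e3 q4689 L127133 q3855, e3 q4690 L127139 q4690, e3 q4691 L127145 q4691, e3 q4692 L127150 q4692, e3 q4693 L127158 q4693, e3 q4694 L127164 q3856, e3 q4695 L127170 q3857, e3 q4696 L127177 q3858, e3 q4697 (flp_b L135365) q5649, e3 q4698 (flp_b L135373) q5650, e3 q4699 (flp_b L135379) q5651, e3 q4700 (flp_b L130518) q5106, e3 q4701 (flp_b L131442) q5198, e3 q4702 (flp_b L129208) q4957, e3 q4703 L127226 q3924, e3 q4704 L127234 q3925, e3 q4705 L127240 q3926, e3 q4706 L127247 q3883, e3 q4707 L127256 q4707, e3 q4708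 L127259 q3884, e3 q4709 L127265 q3885, e3 q4710 L127272 q4710, e3 q4711 L127277 q3886, e3 q4712 L127284 q3933, e3 q4713 L127292 q3887, e3 q4714 L127297 q3938, e3 q4715 L127302 q3939, e3 q4716 L127310 q3940, e3 q4717 L127318 q3941, e3 q4718 L127326 q3888, e3 q4719 L127332 q3889, e3 q4720 L127340 q3890, e3 q4721 L127346 q3945, e3 q4722 L127353 q3946, e3 q4723 L127360 q3947, e3 q4724 L127369 q3948, e3 q4725 L127376 q3949, e3 q4726 L127384 q3950, e3 q4727 L127393 q3951, e3 q4728 L127399 q3891, e3 q4729 L127407 q3892, e3 q4730 L127413 q3893, e3 q4731 (flp_b L135462) q5662, e3 q4732 (flp_b L135469) q5663, e3 q4733 (flp_b L135487) q5666, e3 q4734 (flp_b L135508) q5669, e3 q4735 (flp_b L135566) q5677, trivial⟩ (by decide +kernel)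

theorem ce_b_74 : ∀ r, r < 64 → sm gb (Qf (4736 + r)) = Qf (tab Gen.b (4736 + r)) :=
  edges_tab (sm gb) Qf (tab Gen.b) 4736 [(4736, 5678), (4737, 5679), (4738, 5690), (4739, 5691), (4740, 5698), (4741, 5636), (4742, 5498), (4743, 5637), (4744, 5472), (4745, 5123), (4746, 5214), (4747, 5638), (4748, 5639), (4749, 3917), (4750, 4081), (4751, 3918), (4752, 3919), (4753, 4753), (4754, 4795), (4755, 5706), (4756, 4756), (4757, 5598), (4758, 5599), (4759, 5655), (4760, 5656), (4761, 5658), (4762, 5659), (4763, 3930), (4764, 3931), (4765, 5714), (4766, 5667), (4767, 5668), (4768, 5607), (4769, 5605), (4770, 3955), (4771, 3956), (4772, 3957), (4773, 5670), (4774, 5671), (4775, 5672), (4776, 5673), (4777, 5674), (4778, 5675), (4779, 5676), (4780, 3958), (4781, 3959), (4782, 3960), (4783, 5680), (4784, 5681), (4785, 5682), (4786, 5683), (4787, 5684), (4788, 5685), (4789, 5686), (4790, 5687), (4791, 5688), (4792, 5689), (4793, 3961), (4794, 3962), (4795, 4754), (4796, 5722), (4797, 5723), (4798,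 5724), (4799, 5735)]
    ⟨e3 q4736 (flp_b L135574) q5678, e3 q4737 (flp_b L135582) q5679, e3 q4738 (flp_b L135690) q5690, e3 q4739 (flp_b L135697) q5691, e3 q4740 L135752 q5698, e3 q4741 (flp_b L135247) q5636, e3 q4742 (flp_b L134028) q5498, e3 q4743 (flp_b L135258) q5637, e3 q4744 (flp_b L133834) q5472, e3 q4745 (flp_b L130692) q5123, e3 q4746 (flp_b L131616) q5214, e3 q4747 (flp_b L135271) q5638, e3 q4748 (flp_b L135281) q5639, e3 q4749 L127548 q3917, e3 q4750 L127562 q4081, e3 q4751 L127567 q3918, e3 q4752 L127574 q3919, e3 q4753 L127583 q4753, e3 q4754 (flp_b L127937) q4795, e3 q4755 (flp_b L135830) q5706, e3 q4756 L127609 q4756, e3 q4757 (flp_b L134887) q5598, e3 q4758 (flp_b L134898) q5599, e3 q4759 (flp_b L135415) q5655, e3 q4760 (flp_b L135422) q5656, e3 q4761 (flp_b L135437) q5658, e3 q4762 (flp_b L135442) q5659, e3 q4763 L127660 q3930, e3 q4764 L127668 q3931, e3 q4765 (flp_b L135904) q5714, e3 q4766 (flp_b L135494) q5667, e3 q4767 (flp_b L135501) q5668, e3 q4768 (flp_b L134973)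 q5607, e3 q4769 (flp_b L134957) q5605, e3 q4770 L127714 q3955, e3 q4771 L127723 q3956, e3 q4772 L127732 q3957, e3 q4773 (flp_b L135515) q5670, e3 q4774 (flp_b L135521) q5671, e3 q4775 (flp_b L135526) q5672, e3 q4776 (flp_b L135533) q5673, e3 q4777 (flp_b L135541) q5674, e3 q4778 (flp_b L135551) q5675, e3 q4779 (flp_b L135559) q5676, e3 q4780 L127789 q3958, e3 q4781 L127799 q3959, e3 q4782 L127808 q3960, e3 q4783 (flp_b L135586) q5680, e3 q4784 (flp_b L135592) q5681, e3 q4785 (flp_b L135602) q5682, e3 q4786 (flp_b L135613) q5683, e3 q4787 (flp_b L135624) q5684, e3 q4788 (flp_b L135635) q5685, e3 q4789 (flp_b L135646) q5686, e3 q4790 (flp_b L135655) q5687, e3 q4791 (flp_b L135665) q5688, e3 q4792 (flp_b L135678) q5689, e3 q4793 L127908 q3961, e3 q4794 L127916 q3962, e3 q4795 L127937 q4754, e3 q4796 (flp_b L135971) q5722, e3 q4797 (flp_b L135982) q5723, e3 q4798 (flp_b L135990) q5724, e3 q4799 (flp_b L136076) q5735, trivial⟩ (by decide +kernel)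

theorem ce_b_75 : ∀ r, r < 64 → sm gb (Qf (4800 + r)) = Qf (tab Gen.b (4800 + r)) :=
  edges_tab (sm gb) Qf (tab Gen.b) 4800 [(4800, 5736), (4801, 5748), (4802, 3963), (4803, 4803), (4804, 4804), (4805, 5135), (4806, 4806), (4807, 4807), (4808, 4808), (4809, 4809), (4810, 4810), (4811, 4811), (4812, 4812), (4813, 4813), (4814, 3994), (4815, 3995), (4816, 3996), (4817, 4817), (4818, 3997), (4819, 3998), (4820, 4820), (4821, 4821), (4822, 3999), (4823, 4000), (4824, 4001), (4825, 5752), (4826, 5753), (4827, 5772), (4828, 5755), (4829, 5756), (4830, 5759), (4831, 5760), (4832, 5761), (4833, 5766), (4834, 5767), (4835, 5768), (4836, 4002), (4837, 5784), (4838, 4388), (4839, 5313), (4840, 4039), (4841, 4040), (4842, 5323), (4843, 5324), (4844, 4041), (4845, 4042), (4846, 4043), (4847, 4044), (4848, 4045), (4849, 4046), (4850, 4047), (4851, 4048), (4852, 4049), (4853, 5345), (4854, 4050), (4855, 4029), (4856, 4030), (4857, 5409), (4858, 4031), (4859, 4032), (4860, 4052), (4861, 4053), (4862,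 4033), (4863, 4034)]
    ⟨e3 q4800 (flp_b L136085) q5736, e3 q4801 L136195 q5748, e3 q4802 (flp_b L127985) q3963, e3 q4803 L127999 q4803, e3 q4804 L128007 q4804, e3 q4805 (flp_b L130779) q5135, e3 q4806 L128020 q4806, e3 q4807 L128028 q4807, e3 q4808 L128037 q4808, e3 q4809 L128048 q4809, e3 q4810 L128056 q4810, e3 q4811 L128064 q4811, e3 q4812 L128077 q4812, e3 q4813 L128091 q4813, e3 q4814 L128098 q3994, e3 q4815 L128105 q3995, e3 q4816 L128111 q3996, e3 q4817 L128124 q4817, e3 q4818 L128131 q3997, e3 q4819 L128138 q3998, e3 q4820 L128148 q4820, e3 q4821 L128157 q4821, e3 q4822 L128167 q3999, e3 q4823 L128174 q4000, e3 q4824 L128183 q4001, e3 q4825 (flp_b L136236) q5752, e3 q4826 (flp_b L136244) q5753, e3 q4827 L136395 q5772, e3 q4828 (flp_b L136257) q5755, e3 q4829 (flp_b L136265) q5756, e3 q4830 (flp_b L136292) q5759, e3 q4831 (flp_b L136301) q5760, e3 q4832 (flp_b L136309) q5761, e3 q4833 (flp_b L136353) q5766, e3 q4834 (flp_b L136361) q5767, e3 q4835 (flp_b L136369) q5768, e3 q4836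 (flp_b L128263) q4002, e3 q4837 (flp_b L136481) q5784, e3 q4838 L128280 q4388, e3 q4839 (flp_b L132517) q5313, e3 q4840 L128291 q4039, e3 q4841 L128298 q4040, e3 q4842 (flp_b L132593) q5323, e3 q4843 (flp_b L132604) q5324, e3 q4844 L128315 q4041, e3 q4845 L128321 q4042, e3 q4846 L128329 q4043, e3 q4847 L128333 q4044, e3 q4848 L128341 q4045, e3 q4849 L128350 q4046, e3 q4850 L128358 q4047, e3 q4851 L128366 q4048, e3 q4852 L128374 q4049, e3 q4853 (flp_b L132777) q5345, e3 q4854 L128386 q4050, e3 q4855 L128393 q4029, e3 q4856 L128399 q4030, e3 q4857 (flp_b L133309) q5409, e3 q4858 L128408 q4031, e3 q4859 L128414 q4032, e3 q4860 L128420 q4052, e3 q4861 L128427 q4053, e3 q4862 L128437 q4033, e3 q4863 L128444 q4034, trivial⟩ (by decide +kernel)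

theorem ce_b_76 : ∀ r, r < 64 → sm gb (Qf (4864 + r)) = Qf (tab Gen.b (4864 + r)) :=
  edges_tab (sm gb) Qf (tab Gen.b) 4864 [(4864, 4035), (4865, 4057), (4866, 4058), (4867, 4059), (4868, 4060), (4869, 4036), (4870, 4037), (4871, 4038), (4872, 5803), (4873, 5804), (4874, 5807), (4875, 5808), (4876, 5809), (4877, 5814), (4878, 5815), (4879, 5816), (4880, 5824), (4881, 5825), (4882, 5826), (4883, 5121), (4884, 5787), (4885, 5788), (4886, 5113), (4887, 5791), (4888, 5792), (4889, 5793), (4890, 5794), (4891, 5795), (4892, 5796), (4893, 5797), (4894, 5850), (4895, 5800), (4896, 5801), (4897, 5810), (4898, 5811), (4899, 5812), (4900, 5813), (4901, 4064), (4902, 4065), (4903, 4066), (4904, 5817), (4905, 5818), (4906, 5819), (4907, 5820), (4908, 5821), (4909, 5822), (4910, 5823), (4911, 4067), (4912, 4068), (4913, 4069), (4914, 5860), (4915, 5861), (4916, 5862), (4917, 5873), (4918, 5874), (4919, 5882), (4920, 4920), (4921, 4921), (4922, 5886), (4923, 4923), (4924, 5889), (4925, 4925), (4926,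 4075), (4927, 4080)]
    ⟨e3 q4864 L128450 q4035, e3 q4865 L128457 q4057, e3 q4866 L128464 q4058, e3 q4867 L128471 q4059, e3 q4868 L128480 q4060, e3 q4869 L128488 q4036, e3 q4870 L128494 q4037, e3 q4871 L128500 q4038, e3 q4872 (flp_b L136604) q5803, e3 q4873 (flp_b L136611) q5804, e3 q4874 (flp_b L136627) q5807, e3 q4875 (flp_b L136633) q5808, e3 q4876 (flp_b L136641) q5809, e3 q4877 (flp_b L136677) q5814, e3 q4878 (flp_b L136684) q5815, e3 q4879 (flp_b L136692) q5816, e3 q4880 (flp_b L136756) q5824, e3 q4881 (flp_b L136763) q5825, e3 q4882 (flp_b L136770) q5826, e3 q4883 (flp_b L130669) q5121, e3 q4884 (flp_b L136501) q5787, e3 q4885 (flp_b L136508) q5788, e3 q4886 (flp_b L130596) q5113, e3 q4887 (flp_b L136525) q5791, e3 q4888 (flp_b L136533) q5792, e3 q4889 (flp_b L136539) q5793, e3 q4890 (flp_b L136548) q5794, e3 q4891 (flp_b L136558) q5795, e3 q4892 (flp_b L136563) q5796, e3 q4893 (flp_b L136572) q5797, e3 q4894 L136925 q5850, e3 q4895 (flp_b L136587) q5800, e3 q4896 (flp_b L136593)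 q5801, e3 q4897 (flp_b L136645) q5810, e3 q4898 (flp_b L136651) q5811, e3 q4899 (flp_b L136660) q5812, e3 q4900 (flp_b L136668) q5813, e3 q4901 L128698 q4064, e3 q4902 L128706 q4065, e3 q4903 L128715 q4066, e3 q4904 (flp_b L136699) q5817, e3 q4905 (flp_b L136705) q5818, e3 q4906 (flp_b L136713) q5819, e3 q4907 (flp_b L136722) q5820, e3 q4908 (flp_b L136730) q5821, e3 q4909 (flp_b L136738) q5822, e3 q4910 (flp_b L136748) q5823, e3 q4911 L128777 q4067, e3 q4912 L128786 q4068, e3 q4913 L128794 q4069, e3 q4914 (flp_b L136997) q5860, e3 q4915 (flp_b L137006) q5861, e3 q4916 (flp_b L137016) q5862, e3 q4917 (flp_b L137095) q5873, e3 q4918 (flp_b L137104) q5874, e3 q4919 L137163 q5882, e3 q4920 L128849 q4920, e3 q4921 L128857 q4921, e3 q4922 L137187 q5886, e3 q4923 L128867 q4923, e3 q4924 L137206 q5889, e3 q4925 L128881 q4925, e3 q4926 (flp_b L128885) q4075, e3 q4927 L128895 q4080, trivial⟩ (by decide +kernel)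

theorem ce_b_77 : ∀ r, r < 64 → sm gb (Qf (4928 + r)) = Qf (tab Gen.b (4928 + r)) :=
  edges_tab (sm gb) Qf (tab Gen.b) 4928 [(4928, 4082), (4929, 4083), (4930, 4115), (4931, 4084), (4932, 4085), (4933, 5892), (4934, 5702), (4935, 5705), (4936, 5893), (4937, 5894), (4938, 5897), (4939, 5898), (4940, 5899), (4941, 5192), (4942, 5193), (4943, 5908), (4944, 5195), (4945, 4945), (4946, 4946), (4947, 4947), (4948, 4948), (4949, 4949), (4950, 4950), (4951, 4951), (4952, 4105), (4953, 4100), (4954, 5919), (4955, 4108), (4956, 4685), (4957, 4702), (4958, 4547), (4959, 4104), (4960, 5925), (4961, 5917), (4962, 5205), (4963, 4107), (4964, 5928), (4965, 4965), (4966, 4118), (4967, 4119), (4968, 4120), (4969, 4121), (4970, 4122), (4971, 4123), (4972, 4124), (4973, 4125), (4974, 5700), (4975, 4126), (4976, 4127), (4977, 5895), (4978, 5896), (4979, 4128), (4980, 4129), (4981, 4130), (4982, 5931), (4983, 5932), (4984, 5933), (4985, 5934), (4986, 5935), (4987, 5936), (4988, 5937), (4989, 5966), (4990,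 5939), (4991, 5940)]
    ⟨e3 q4928 L128907 q4082, e3 q4929 L128915 q4083, e3 q4930 L128925 q4115, e3 q4931 L128930 q4084, e3 q4932 L128938 q4085, e3 q4933 (flp_b L137230) q5892, e3 q4934 (flp_b L135800) q5702, e3 q4935 (flp_b L135817) q5705, e3 q4936 (flp_b L137243) q5893, e3 q4937 (flp_b L137253) q5894, e3 q4938 (flp_b L137279) q5897, e3 q4939 (flp_b L137286) q5898, e3 q4940 (flp_b L137295) q5899, e3 q4941 (flp_b L131371) q5192, e3 q4942 (flp_b L131382) q5193, e3 q4943 L137392 q5908, e3 q4944 (flp_b L131403) q5195, e3 q4945 L129078 q4945, e3 q4946 L129090 q4946, e3 q4947 L129102 q4947, e3 q4948 L129113 q4948, e3 q4949 L129122 q4949, e3 q4950 L129132 q4950, e3 q4951 L129140 q4951, e3 q4952 L129149 q4105, e3 q4953 (flp_b L129161) q4100, e3 q4954 (flp_b L137529) q5919, e3 q4955 L129186 q4108, e3 q4956 L129199 q4685, e3 q4957 L129208 q4702, e3 q4958 L129219 q4547, e3 q4959 (flp_b L129226) q4104, e3 q4960 (flp_b L137605) q5925, e3 q4961 (flp_b L137503) q5917, e3 q4962 (flp_b L131510) q5205,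 e3 q4963 L129264 q4107, e3 q4964 (flp_b L137635) q5928, e3 q4965 L129287 q4965, e3 q4966 L129292 q4118, e3 q4967 L129303 q4119, e3 q4968 L129312 q4120, e3 q4969 L129323 q4121, e3 q4970 L129333 q4122, e3 q4971 L129341 q4123, e3 q4972 L129353 q4124, e3 q4973 L129363 q4125, e3 q4974 (flp_b L135775) q5700, e3 q4975 L129381 q4126, e3 q4976 L129388 q4127, e3 q4977 (flp_b L137262) q5895, e3 q4978 (flp_b L137271) q5896, e3 q4979 L129413 q4128, e3 q4980 L129422 q4129, e3 q4981 L129433 q4130, e3 q4982 (flp_b L137661) q5931, e3 q4983 (flp_b L137675) q5932, e3 q4984 (flp_b L137684) q5933, e3 q4985 (flp_b L137694) q5934, e3 q4986 (flp_b L137705) q5935, e3 q4987 (flp_b L137716) q5936, e3 q4988 (flp_b L137724) q5937, e3 q4989 L137986 q5966, e3 q4990 (flp_b L137742) q5939, e3 q4991 (flp_b L137750) q5940, trivial⟩ (by decide +kernel)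

theorem ce_b_78 : ∀ r, r < 64 → sm gb (Qf (4992 + r)) = Qf (tab Gen.b (4992 + r)) :=
  edges_tab (sm gb) Qf (tab Gen.b) 4992 [(4992, 5941), (4993, 5942), (4994, 5945), (4995, 5946), (4996, 5947), (4997, 5952), (4998, 5953), (4999, 5954), (5000, 5043), (5001, 5147), (5002, 5983), (5003, 5233), (5004, 4134), (5005, 5987), (5006, 5236), (5007, 4210), (5008, 4211), (5009, 4212), (5010, 5994), (5011, 4214), (5012, 4215), (5013, 4216), (5014, 4217), (5015, 6003), (5016, 4219), (5017, 4220), (5018, 4143), (5019, 6008), (5020, 6009), (5021, 4224), (5022, 4225), (5023, 4226), (5024, 4228), (5025, 4229), (5026, 4230), (5027, 4231), (5028, 4232), (5029, 4233), (5030, 4234), (5031, 4235), (5032, 4339), (5033, 4161), (5034, 4162), (5035, 4156), (5036, 6027), (5037, 4165), (5038, 5986), (5039, 4159), (5040, 6030), (5041, 6024), (5042, 6025), (5043, 5000), (5044, 4164), (5045, 6034), (5046, 5251), (5047, 4168), (5048, 4243), (5049, 4244), (5050, 4186), (5051, 4187), (5052, 4188), (5053, 4189), (5054,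 4190), (5055, 4191)]
    ⟨e3 q4992 (flp_b L137760) q5941, e3 q4993 (flp_b L137771) q5942, e3 q4994 (flp_b L137797) q5945, e3 q4995 (flp_b L137806) q5946, e3 q4996 (flp_b L137814) q5947, e3 q4997 (flp_b L137856) q5952, e3 q4998 (flp_b L137866) q5953, e3 q4999 (flp_b L137876) q5954, e3 q5000 (flp_b L129990) q5043, e3 q5001 (flp_b L130882) q5147, e3 q5002 L138145 q5983, e3 q5003 (flp_b L131811) q5233, e3 q5004 (flp_b L129632) q4134, e3 q5005 (flp_b L138180) q5987, e3 q5006 (flp_b L131836) q5236, e3 q5007 L129656 q4210, e3 q5008 L129667 q4211, e3 q5009 L129675 q4212, e3 q5010 L138254 q5994, e3 q5011 L129692 q4214, e3 q5012 L129699 q4215, e3 q5013 L129707 q4216, e3 q5014 L129715 q4217, e3 q5015 L138355 q6003, e3 q5016 L129736 q4219, e3 q5017 L129748 q4220, e3 q5018 (flp_b L129754) q4143, e3 q5019 (flp_b L138411) q6008, e3 q5020 (flp_b L138425) q6009, e3 q5021 L129780 q4224, e3 q5022 L129788 q4225, e3 q5023 L129796 q4226, e3 q5024 L129804 q4228, e3 q5025 L129816 q4229, e3 q5026 L129826 q4230,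 e3 q5027 L129837 q4231, e3 q5028 L129845 q4232, e3 q5029 L129852 q4233, e3 q5030 L129861 q4234, e3 q5031 L129868 q4235, e3 q5032 L129883 q4339, e3 q5033 L129889 q4161, e3 q5034 L129901 q4162, e3 q5035 (flp_b L129909) q4156, e3 q5036 (flp_b L138632) q6027, e3 q5037 L129930 q4165, e3 q5038 (flp_b L138176) q5986, e3 q5039 L129946 q4159, e3 q5040 (flp_b L138663) q6030, e3 q5041 (flp_b L138585) q6024, e3 q5042 (flp_b L138600) q6025, e3 q5043 L129990 q5000, e3 q5044 L129994 q4164, e3 q5045 (flp_b L138708) q6034, e3 q5046 (flp_b L131973) q5251, e3 q5047 L130025 q4168, e3 q5048 L130032 q4243, e3 q5049 L130041 q4244, e3 q5050 L130050 q4186, e3 q5051 L130060 q4187, e3 q5052 L130067 q4188, e3 q5053 L130075 q4189, e3 q5054 L130084 q4190, e3 q5055 L130093 q4191, trivial⟩ (by decide +kernel)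

theorem ce_b_79 : ∀ r, r < 64 → sm gb (Qf (5056 + r)) = Qf (tab Gen.b (5056 + r)) :=
  edges_tab (sm gb) Qf (tab Gen.b) 5056 [(5056, 4192), (5057, 6052), (5058, 4194), (5059, 4195), (5060, 5060), (5061, 4196), (5062, 4197), (5063, 5063), (5064, 5064), (5065, 4198), (5066, 4199), (5067, 4200), (5068, 5068), (5069, 5069), (5070, 5070), (5071, 5071), (5072, 4201), (5073, 4202), (5074, 4203), (5075, 6040), (5076, 6041), (5077, 6042), (5078, 6043), (5079, 6086), (5080, 6045), (5081, 6046), (5082, 6047), (5083, 6048), (5084, 6094), (5085, 6050), (5086, 6051), (5087, 4193), (5088, 6101), (5089, 6102), (5090, 6055), (5091, 6056), (5092, 6057), (5093, 6060), (5094, 6061), (5095, 6062), (5096, 6067), (5097, 6068), (5098, 6069), (5099, 6077), (5100, 6078), (5101, 6079), (5102, 4205), (5103, 6119), (5104, 4238), (5105, 4208), (5106, 4700), (5107, 5989), (5108, 5990), (5109, 4458), (5110, 5992), (5111, 5993), (5112, 4213), (5113, 4886), (5114, 6127), (5115, 5997), (5116, 5998), (5117, 5999), (5118,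 6001), (5119, 6002)]
    ⟨e3 q5056 L130099 q4192, e3 q5057 L138857 q6052, e3 q5058 L130113 q4194, e3 q5059 L130119 q4195, e3 q5060 L130131 q5060, e3 q5061 L130134 q4196, e3 q5062 L130141 q4197, e3 q5063 L130150 q5063, e3 q5064 L130156 q5064, e3 q5065 L130163 q4198, e3 q5066 L130170 q4199, e3 q5067 L130176 q4200, e3 q5068 L130185 q5068, e3 q5069 L130191 q5069, e3 q5070 L130197 q5070, e3 q5071 L130205 q5071, e3 q5072 L130212 q4201, e3 q5073 L130220 q4202, e3 q5074 L130228 q4203, e3 q5075 (flp_b L138764) q6040, e3 q5076 (flp_b L138774) q6041, e3 q5077 (flp_b L138782) q6042, e3 q5078 (flp_b L138790) q6043, e3 q5079 L139139 q6086, e3 q5080 (flp_b L138805) q6045, e3 q5081 (flp_b L138812) q6046, e3 q5082 (flp_b L138820) q6047, e3 q5083 (flp_b L138828) q6048, e3 q5084 L139220 q6094, e3 q5085 (flp_b L138843) q6050, e3 q5086 (flp_b L138851) q6051, e3 q5087 (flp_b L130349) q4193, e3 q5088 (flp_b L139293) q6101, e3 q5089 (flp_b L139298) q6102, e3 q5090 (flp_b L138875) q6055, e3 q5091 (flp_b L138883)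 q6056, e3 q5092 (flp_b L138891) q6057, e3 q5093 (flp_b L138917) q6060, e3 q5094 (flp_b L138923) q6061, e3 q5095 (flp_b L138931) q6062, e3 q5096 (flp_b L138967) q6067, e3 q5097 (flp_b L138974) q6068, e3 q5098 (flp_b L138982) q6069, e3 q5099 (flp_b L139041) q6077, e3 q5100 (flp_b L139050) q6078, e3 q5101 (flp_b L139057) q6079, e3 q5102 (flp_b L130476) q4205, e3 q5103 (flp_b L139451) q6119, e3 q5104 L130507 q4238, e3 q5105 L130511 q4208, e3 q5106 L130518 q4700, e3 q5107 (flp_b L138195) q5989, e3 q5108 (flp_b L138209) q5990, e3 q5109 (flp_b L130561) q4458, e3 q5110 (flp_b L138235) q5992, e3 q5111 (flp_b L138248) q5993, e3 q5112 (flp_b L130582) q4213, e3 q5113 L130596 q4886, e3 q5114 (flp_b L139545) q6127, e3 q5115 (flp_b L138290) q5997, e3 q5116 (flp_b L138303) q5998, e3 q5117 (flp_b L138310) q5999, e3 q5118 (flp_b L138334) q6001, e3 q5119 (flp_b L138347) q6002, trivial⟩ (by decide +kernel)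

theorem ce_b_80 : ∀ r, r < 64 → sm gb (Qf (5120 + r)) = Qf (tab Gen.b (5120 + r)) :=
  edges_tab (sm gb) Qf (tab Gen.b) 5120 [(5120, 4218), (5121, 4883), (5122, 6137), (5123, 4745), (5124, 6005), (5125, 6006), (5126, 6100), (5127, 4222), (5128, 4223), (5129, 6145), (5130, 6146), (5131, 6147), (5132, 6013), (5133, 6014), (5134, 6015), (5135, 4805), (5136, 4636), (5137, 6016), (5138, 6017), (5139, 6018), (5140, 6019), (5141, 6020), (5142, 6021), (5143, 5923), (5144, 6118), (5145, 4237), (5146, 6120), (5147, 5001), (5148, 6036), (5149, 6037), (5150, 6038), (5151, 6039), (5152, 4257), (5153, 4258), (5154, 4259), (5155, 4260), (5156, 6173), (5157, 4262), (5158, 4263), (5159, 6177), (5160, 4265), (5161, 4250), (5162, 6180), (5163, 5163), (5164, 5164), (5165, 5165), (5166, 6168), (5167, 6169), (5168, 6183), (5169, 6171), (5170, 6172), (5171, 4261), (5172, 6187), (5173, 6188), (5174, 6176), (5175, 4264), (5176, 4279), (5177, 4267), (5178, 4280), (5179, 5179), (5180, 4461), (5181, 5181), (5182,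 6186), (5183, 4277)]
    ⟨e3 q5120 (flp_b L130655) q4218, e3 q5121 L130669 q4883, e3 q5122 (flp_b L139650) q6137, e3 q5123 L130692 q4745, e3 q5124 (flp_b L138381) q6005, e3 q5125 (flp_b L138395) q6006, e3 q5126 (flp_b L139289) q6100, e3 q5127 L130724 q4222, e3 q5128 L130733 q4223, e3 q5129 (flp_b L139734) q6145, e3 q5130 (flp_b L139747) q6146, e3 q5131 (flp_b L139756) q6147, e3 q5132 (flp_b L138465) q6013, e3 q5133 (flp_b L138479) q6014, e3 q5134 (flp_b L138489) q6015, e3 q5135 L130779 q4805, e3 q5136 L130788 q4636, e3 q5137 (flp_b L138495) q6016, e3 q5138 (flp_b L138508) q6017, e3 q5139 (flp_b L138522) q6018, e3 q5140 (flp_b L138535) q6019, e3 q5141 (flp_b L138542) q6020, e3 q5142 (flp_b L138554) q6021, e3 q5143 (flp_b L137582) q5923, e3 q5144 (flp_b L139447) q6118, e3 q5145 L130858 q4237, e3 q5146 (flp_b L139466) q6120, e3 q5147 L130882 q5001, e3 q5148 (flp_b L138726) q6036, e3 q5149 (flp_b L138736) q6037, e3 q5150 (flp_b L138745) q6038, e3 q5151 (flp_b L138751) q6039, e3 q5152 L130926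 q4257, e3 q5153 L130938 q4258, e3 q5154 L130949 q4259, e3 q5155 L130960 q4260, e3 q5156 L139985 q6173, e3 q5157 L130977 q4262, e3 q5158 L130986 q4263, e3 q5159 L140017 q6177, e3 q5160 L131006 q4265, e3 q5161 (flp_b L131016) q4250, e3 q5162 (flp_b L140061) q6180, e3 q5163 L131031 q5163, e3 q5164 L131044 q5164, e3 q5165 L131053 q5165, e3 q5166 (flp_b L139929) q6168, e3 q5167 (flp_b L139941) q6169, e3 q5168 L140091 q6183, e3 q5169 (flp_b L139963) q6171, e3 q5170 (flp_b L139975) q6172, e3 q5171 (flp_b L131123) q4261, e3 q5172 (flp_b L140148) q6187, e3 q5173 (flp_b L140159) q6188, e3 q5174 (flp_b L140011) q6176, e3 q5175 (flp_b L131158) q4264, e3 q5176 L131180 q4279, e3 q5177 L131188 q4267, e3 q5178 L131207 q4280, e3 q5179 L131211 q5179, e3 q5180 L131223 q4461, e3 q5181 L131237 q5181, e3 q5182 (flp_b L140140) q6186, e3 q5183 L131262 q4277, trivial⟩ (by decide +kernel)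

theorem ce_b_81 : ∀ r, r < 64 → sm gb (Qf (5184 + r)) = Qf (tab Gen.b (5184 + r)) :=
  edges_tab (sm gb) Qf (tab Gen.b) 5184 [(5184, 4462), (5185, 4285), (5186, 4286), (5187, 4312), (5188, 4287), (5189, 4288), (5190, 6191), (5191, 6194), (5192, 4941), (5193, 4942), (5194, 6197), (5195, 4944), (5196, 4300), (5197, 4301), (5198, 4701), (5199, 4302), (5200, 4298), (5201, 6204), (5202, 4305), (5203, 6200), (5204, 6202), (5205, 4962), (5206, 4304), (5207, 6208), (5208, 5208), (5209, 4315), (5210, 4316), (5211, 4317), (5212, 4318), (5213, 4319), (5214, 4746), (5215, 4320), (5216, 4321), (5217, 6192), (5218, 6193), (5219, 4322), (5220, 4323), (5221, 4324), (5222, 6211), (5223, 6212), (5224, 6213), (5225, 6214), (5226, 6230), (5227, 6216), (5228, 6217), (5229, 6220), (5230, 6225), (5231, 6226), (5232, 6236), (5233, 5003), (5234, 4327), (5235, 6240), (5236, 5006), (5237, 4454), (5238, 6000), (5239, 4455), (5240, 4333), (5241, 6246), (5242, 4459), (5243, 4460), (5244, 4463), (5245, 4464), (5246,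 6023), (5247, 4344)]
    ⟨e3 q5184 L131273 q4462, e3 q5185 L131287 q4285, e3 q5186 L131299 q4286, e3 q5187 L131318 q4312, e3 q5188 L131325 q4287, e3 q5189 L131334 q4288, e3 q5190 (flp_b L140190) q6191, e3 q5191 (flp_b L140227) q6194, e3 q5192 L131371 q4941, e3 q5193 L131382 q4942, e3 q5194 L140260 q6197, e3 q5195 L131403 q4944, e3 q5196 L131412 q4300, e3 q5197 L131424 q4301, e3 q5198 L131442 q4701, e3 q5199 L131448 q4302, e3 q5200 (flp_b L131456) q4298, e3 q5201 (flp_b L140347) q6204, e3 q5202 L131477 q4305, e3 q5203 (flp_b L140290) q6200, e3 q5204 (flp_b L140321) q6202, e3 q5205 L131510 q4962, e3 q5206 L131514 q4304, e3 q5207 (flp_b L140399) q6208, e3 q5208 L131542 q5208, e3 q5209 L131549 q4315, e3 q5210 L131561 q4316, e3 q5211 L131573 q4317, e3 q5212 L131581 q4318, e3 q5213 L131595 q4319, e3 q5214 L131616 q4746, e3 q5215 L131624 q4320, e3 q5216 L131634 q4321, e3 q5217 (flp_b L140203) q6192, e3 q5218 (flp_b L140213) q6193, e3 q5219 L131666 q4322, e3 q5220 L131676 q4323, e3 q5221 L131687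 q4324, e3 q5222 (flp_b L140440) q6211, e3 q5223 (flp_b L140454) q6212, e3 q5224 (flp_b L140468) q6213, e3 q5225 (flp_b L140480) q6214, e3 q5226 L140654 q6230, e3 q5227 (flp_b L140502) q6216, e3 q5228 (flp_b L140514) q6217, e3 q5229 (flp_b L140552) q6220, e3 q5230 (flp_b L140603) q6225, e3 q5231 (flp_b L140613) q6226, e3 q5232 L140711 q6236, e3 q5233 L131811 q5003, e3 q5234 (flp_b L131817) q4327, e3 q5235 (flp_b L140748) q6240, e3 q5236 L131836 q5006, e3 q5237 L131845 q4454, e3 q5238 (flp_b L138326) q6000, e3 q5239 L131867 q4455, e3 q5240 (flp_b L131875) q4333, e3 q5241 (flp_b L140809) q6246, e3 q5242 L131893 q4459, e3 q5243 L131903 q4460, e3 q5244 L131911 q4463, e3 q5245 L131923 q4464, e3 q5246 (flp_b L138571) q6023, e3 q5247 L131940 q4344, trivial⟩ (by decide +kernel)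

theorem ce_b_82 : ∀ r, r < 64 → sm gb (Qf (5248 + r)) = Qf (tab Gen.b (5248 + r)) :=
  edges_tab (sm gb) Qf (tab Gen.b) 5248 [(5248, 6239), (5249, 4342), (5250, 6251), (5251, 5046), (5252, 4347), (5253, 5253), (5254, 5254), (5255, 4365), (5256, 4366), (5257, 4367), (5258, 4368), (5259, 4369), (5260, 4370), (5261, 4371), (5262, 6269), (5263, 4373), (5264, 4374), (5265, 5265), (5266, 4375), (5267, 4376), (5268, 5268), (5269, 5269), (5270, 4377), (5271, 4378), (5272, 4379), (5273, 5273), (5274, 5274), (5275, 5275), (5276, 5276), (5277, 4380), (5278, 4381), (5279, 4382), (5280, 6258), (5281, 6259), (5282, 6260), (5283, 6300), (5284, 6262), (5285, 6263), (5286, 6264), (5287, 6265), (5288, 6308), (5289, 6267), (5290, 6268), (5291, 4372), (5292, 6315), (5293, 6316), (5294, 6272), (5295, 6273), (5296, 6274), (5297, 6277), (5298, 6278), (5299, 6283), (5300, 6284), (5301, 6285), (5302, 6293), (5303, 6294), (5304, 6295), (5305, 4384), (5306, 6331), (5307, 5349), (5308, 4416), (5309, 4387), (5310,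 6334), (5311, 4453)]
    ⟨e3 q5248 (flp_b L140744) q6239, e3 q5249 L131956 q4342, e3 q5250 (flp_b L140856) q6251, e3 q5251 L131973 q5046, e3 q5252 L131981 q4347, e3 q5253 L131990 q5253, e3 q5254 L132001 q5254, e3 q5255 L132010 q4365, e3 q5256 L132022 q4366, e3 q5257 L132032 q4367, e3 q5258 L132040 q4368, e3 q5259 L132048 q4369, e3 q5260 L132059 q4370, e3 q5261 L132067 q4371, e3 q5262 L141028 q6269, e3 q5263 L132081 q4373, e3 q5264 L132089 q4374, e3 q5265 L132102 q5265, e3 q5266 L132107 q4375, e3 q5267 L132117 q4376, e3 q5268 L132130 q5268, e3 q5269 L132139 q5269, e3 q5270 L132148 q4377, e3 q5271 L132158 q4378, e3 q5272 L132166 q4379, e3 q5273 L132180 q5273, e3 q5274 L132186 q5274, e3 q5275 L132195 q5275, e3 q5276 L132205 q5276, e3 q5277 L132215 q4380, e3 q5278 L132224 q4381, e3 q5279 L132232 q4382, e3 q5280 (flp_b L140925) q6258, e3 q5281 (flp_b L140935) q6259, e3 q5282 (flp_b L140947) q6260, e3 q5283 L141312 q6300, e3 q5284 (flp_b L140965) q6262, e3 q5285 (flp_b L140977) q6263, e3 q5286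 (flp_b L140985) q6264, e3 q5287 (flp_b L140993) q6265, e3 q5288 L141373 q6308, e3 q5289 (flp_b L141010) q6267, e3 q5290 (flp_b L141022) q6268, e3 q5291 (flp_b L132333) q4372, e3 q5292 (flp_b L141436) q6315, e3 q5293 (flp_b L141441) q6316, e3 q5294 (flp_b L141048) q6272, e3 q5295 (flp_b L141056) q6273, e3 q5296 (flp_b L141066) q6274, e3 q5297 (flp_b L141095) q6277, e3 q5298 (flp_b L141104) q6278, e3 q5299 (flp_b L141154) q6283, e3 q5300 (flp_b L141164) q6284, e3 q5301 (flp_b L141174) q6285, e3 q5302 (flp_b L141248) q6293, e3 q5303 (flp_b L141257) q6294, e3 q5304 (flp_b L141267) q6295, e3 q5305 (flp_b L132442) q4384, e3 q5306 (flp_b L141569) q6331, e3 q5307 (flp_b L132811) q5349, e3 q5308 L132475 q4416, e3 q5309 L132479 q4387, e3 q5310 (flp_b L141597) q6334, e3 q5311 L132492 q4453, trivial⟩ (by decide +kernel)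

theorem ce_b_83 : ∀ r, r < 64 → sm gb (Qf (5312 + r)) = Qf (tab Gen.b (5312 + r)) :=
  edges_tab (sm gb) Qf (tab Gen.b) 5312 [(5312, 4518), (5313, 4839), (5314, 4520), (5315, 4392), (5316, 6140), (5317, 6340), (5318, 4524), (5319, 4525), (5320, 4526), (5321, 4456), (5322, 4457), (5323, 4842), (5324, 4843), (5325, 4527), (5326, 4528), (5327, 4529), (5328, 6314), (5329, 4401), (5330, 4402), (5331, 6131), (5332, 6353), (5333, 6354), (5334, 4536), (5335, 4537), (5336, 4538), (5337, 4539), (5338, 4540), (5339, 4542), (5340, 4543), (5341, 4544), (5342, 4545), (5343, 4546), (5344, 5921), (5345, 4853), (5346, 6333), (5347, 4418), (5348, 6366), (5349, 5307), (5350, 4549), (5351, 4550), (5352, 4437), (5353, 4438), (5354, 4439), (5355, 4440), (5356, 6374), (5357, 4442), (5358, 4443), (5359, 5359), (5360, 4444), (5361, 5361), (5362, 5362), (5363, 4445), (5364, 4446), (5365, 4447), (5366, 5366), (5367, 5367), (5368, 5368), (5369, 5369), (5370, 4448), (5371, 4449), (5372, 4450), (5373, 6396), (5374,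 6371), (5375, 6373)]
    ⟨e3 q5312 L132500 q4518, e3 q5313 L132517 q4839, e3 q5314 L132522 q4520, e3 q5315 (flp_b L132530) q4392, e3 q5316 (flp_b L139685) q6140, e3 q5317 (flp_b L141648) q6340, e3 q5318 L132556 q4524, e3 q5319 L132564 q4525, e3 q5320 L132574 q4526, e3 q5321 L132580 q4456, e3 q5322 L132585 q4457, e3 q5323 L132593 q4842, e3 q5324 L132604 q4843, e3 q5325 L132614 q4527, e3 q5326 L132622 q4528, e3 q5327 L132632 q4529, e3 q5328 (flp_b L141432) q6314, e3 q5329 L132646 q4401, e3 q5330 L132655 q4402, e3 q5331 (flp_b L139591) q6131, e3 q5332 (flp_b L141764) q6353, e3 q5333 (flp_b L141775) q6354, e3 q5334 L132681 q4536, e3 q5335 L132687 q4537, e3 q5336 L132695 q4538, e3 q5337 L132701 q4539, e3 q5338 L132711 q4540, e3 q5339 L132721 q4542, e3 q5340 L132730 q4543, e3 q5341 L132741 q4544, e3 q5342 L132753 q4545, e3 q5343 L132763 q4546, e3 q5344 (flp_b L137554) q5921, e3 q5345 L132777 q4853, e3 q5346 (flp_b L141588) q6333, e3 q5347 L132796 q4418, e3 q5348 (flp_b L141880) q6366, e3 q5349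 L132811 q5307, e3 q5350 L132821 q4549, e3 q5351 L132833 q4550, e3 q5352 L132843 q4437, e3 q5353 L132851 q4438, e3 q5354 L132861 q4439, e3 q5355 L132867 q4440, e3 q5356 L141937 q6374, e3 q5357 L132885 q4442, e3 q5358 L132891 q4443, e3 q5359 L132906 q5359, e3 q5360 L132913 q4444, e3 q5361 L132924 q5361, e3 q5362 L132931 q5362, e3 q5363 L132940 q4445, e3 q5364 L132948 q4446, e3 q5365 L132956 q4447, e3 q5366 L132968 q5366, e3 q5367 L132976 q5367, e3 q5368 L132983 q5368, e3 q5369 L132991 q5369, e3 q5370 L132999 q4448, e3 q5371 L133008 q4449, e3 q5372 L133016 q4450, e3 q5373 L142137 q6396, e3 q5374 (flp_b L141917) q6371, e3 q5375 (flp_b L141931) q6373, trivial⟩ (by decide +kernel)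

theorem ce_b_84 : ∀ r, r < 64 → sm gb (Qf (5376 + r)) = Qf (tab Gen.b (5376 + r)) :=
  edges_tab (sm gb) Qf (tab Gen.b) 5376 [(5376, 4441), (5377, 6400), (5378, 6401), (5379, 6377), (5380, 6378), (5381, 6379), (5382, 6385), (5383, 6393), (5384, 6394), (5385, 6395), (5386, 4452), (5387, 6336), (5388, 6242), (5389, 6244), (5390, 5991), (5391, 6345), (5392, 6346), (5393, 6123), (5394, 6248), (5395, 6121), (5396, 6201), (5397, 5922), (5398, 4554), (5399, 4561), (5400, 4562), (5401, 4563), (5402, 4491), (5403, 4492), (5404, 4493), (5405, 4494), (5406, 6426), (5407, 4496), (5408, 4497), (5409, 4857), (5410, 4498), (5411, 4499), (5412, 4473), (5413, 6438), (5414, 6439), (5415, 4503), (5416, 4504), (5417, 4505), (5418, 4579), (5419, 4580), (5420, 4506), (5421, 4507), (5422, 4508), (5423, 4584), (5424, 4585), (5425, 4586), (5426, 4587), (5427, 4509), (5428, 4510), (5429, 4511), (5430, 4591), (5431, 4592), (5432, 4593), (5433, 4594), (5434, 4595), (5435, 4596), (5436, 4597), (5437, 4512), (5438,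 4513), (5439, 4514)]
    ⟨e3 q5376 (flp_b L133049) q4441, e3 q5377 (flp_b L142175) q6400, e3 q5378 (flp_b L142180) q6401, e3 q5379 (flp_b L141959) q6377, e3 q5380 (flp_b L141967) q6378, e3 q5381 (flp_b L141975) q6379, e3 q5382 (flp_b L142031) q6385, e3 q5383 (flp_b L142109) q6393, e3 q5384 (flp_b L142118) q6394, e3 q5385 (flp_b L142126) q6395, e3 q5386 L133137 q4452, e3 q5387 (flp_b L141608) q6336, e3 q5388 (flp_b L140765) q6242, e3 q5389 (flp_b L140789) q6244, e3 q5390 (flp_b L138228) q5991, e3 q5391 (flp_b L141693) q6345, e3 q5392 (flp_b L141700) q6346, e3 q5393 (flp_b L139500) q6123, e3 q5394 (flp_b L140825) q6248, e3 q5395 (flp_b L139473) q6121, e3 q5396 (flp_b L140305) q6201, e3 q5397 (flp_b L137568) q5922, e3 q5398 L133226 q4554, e3 q5399 L133234 q4561, e3 q5400 L133244 q4562, e3 q5401 L133248 q4563, e3 q5402 L133258 q4491, e3 q5403 L133267 q4492, e3 q5404 L133273 q4493, e3 q5405 L133281 q4494, e3 q5406 L142387 q6426, e3 q5407 L133293 q4496, e3 q5408 L133301 q4497, e3 q5409 L133309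 q4857, e3 q5410 L133313 q4498, e3 q5411 L133321 q4499, e3 q5412 (flp_b L133327) q4473, e3 q5413 (flp_b L142475) q6438, e3 q5414 (flp_b L142483) q6439, e3 q5415 L133345 q4503, e3 q5416 L133351 q4504, e3 q5417 L133359 q4505, e3 q5418 L133363 q4579, e3 q5419 L133373 q4580, e3 q5420 L133382 q4506, e3 q5421 L133389 q4507, e3 q5422 L133399 q4508, e3 q5423 L133410 q4584, e3 q5424 L133414 q4585, e3 q5425 L133424 q4586, e3 q5426 L133432 q4587, e3 q5427 L133442 q4509, e3 q5428 L133450 q4510, e3 q5429 L133458 q4511, e3 q5430 L133466 q4591, e3 q5431 L133472 q4592, e3 q5432 L133479 q4593, e3 q5433 L133486 q4594, e3 q5434 L133495 q4595, e3 q5435 L133503 q4596, e3 q5436 L133514 q4597, e3 q5437 L133521 q4512, e3 q5438 L133528 q4513, e3 q5439 L133536 q4514, trivial⟩ (by decide +kernel)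

theorem ce_b_85 : ∀ r, r < 64 → sm gb (Qf (5440 + r)) = Qf (tab Gen.b (5440 + r)) :=
  edges_tab (sm gb) Qf (tab Gen.b) 5440 [(5440, 6421), (5441, 6422), (5442, 6424), (5443, 6425), (5444, 4495), (5445, 6480), (5446, 6481), (5447, 6429), (5448, 6430), (5449, 6431), (5450, 6434), (5451, 6435), (5452, 6436), (5453, 4530), (5454, 4501), (5455, 4502), (5456, 6493), (5457, 6494), (5458, 6495), (5459, 6444), (5460, 6445), (5461, 6446), (5462, 6451), (5463, 6452), (5464, 6453), (5465, 6461), (5466, 6462), (5467, 6463), (5468, 6474), (5469, 6475), (5470, 6507), (5471, 4548), (5472, 4744), (5473, 6338), (5474, 6479), (5475, 4522), (5476, 4523), (5477, 6148), (5478, 6510), (5479, 6511), (5480, 6010), (5481, 6343), (5482, 6344), (5483, 5995), (5484, 6349), (5485, 6350), (5486, 6491), (5487, 6492), (5488, 4533), (5489, 4534), (5490, 4535), (5491, 6128), (5492, 6521), (5493, 6522), (5494, 6358), (5495, 6359), (5496, 6360), (5497, 6361), (5498, 4742), (5499, 6362), (5500, 6363), (5501, 6141), (5502,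 6218), (5503, 6368)]
    ⟨e3 q5440 (flp_b L142347) q6421, e3 q5441 (flp_b L142355) q6422, e3 q5442 (flp_b L142371) q6424, e3 q5443 (flp_b L142381) q6425, e3 q5444 (flp_b L133581) q4495, e3 q5445 (flp_b L142833) q6480, e3 q5446 (flp_b L142842) q6481, e3 q5447 (flp_b L142407) q6429, e3 q5448 (flp_b L142415) q6430, e3 q5449 (flp_b L142423) q6431, e3 q5450 (flp_b L142445) q6434, e3 q5451 (flp_b L142451) q6435, e3 q5452 (flp_b L142461) q6436, e3 q5453 L133666 q4530, e3 q5454 L133670 q4501, e3 q5455 L133678 q4502, e3 q5456 (flp_b L142954) q6493, e3 q5457 (flp_b L142960) q6494, e3 q5458 (flp_b L142970) q6495, e3 q5459 (flp_b L142511) q6444, e3 q5460 (flp_b L142517) q6445, e3 q5461 (flp_b L142525) q6446, e3 q5462 (flp_b L142569) q6451, e3 q5463 (flp_b L142578) q6452, e3 q5464 (flp_b L142587) q6453, e3 q5465 (flp_b L142653) q6461, e3 q5466 (flp_b L142661) q6462, e3 q5467 (flp_b L142671) q6463, e3 q5468 (flp_b L142773) q6474, e3 q5469 (flp_b L142782) q6475, e3 q5470 L143074 q6507, e3 q5471 L133824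 q4548, e3 q5472 L133834 q4744, e3 q5473 (flp_b L141627) q6338, e3 q5474 (flp_b L142829) q6479, e3 q5475 L133860 q4522, e3 q5476 L133869 q4523, e3 q5477 (flp_b L139762) q6148, e3 q5478 (flp_b L143108) q6510, e3 q5479 (flp_b L143117) q6511, e3 q5480 (flp_b L138435) q6010, e3 q5481 (flp_b L141673) q6343, e3 q5482 (flp_b L141681) q6344, e3 q5483 (flp_b L138269) q5995, e3 q5484 (flp_b L141725) q6349, e3 q5485 (flp_b L141733) q6350, e3 q5486 (flp_b L142936) q6491, e3 q5487 (flp_b L142946) q6492, e3 q5488 L133959 q4533, e3 q5489 L133965 q4534, e3 q5490 L133975 q4535, e3 q5491 (flp_b L139557) q6128, e3 q5492 (flp_b L143192) q6521, e3 q5493 (flp_b L143200) q6522, e3 q5494 (flp_b L141800) q6358, e3 q5495 (flp_b L141808) q6359, e3 q5496 (flp_b L141814) q6360, e3 q5497 (flp_b L141828) q6361, e3 q5498 L134028 q4742, e3 q5499 (flp_b L141840) q6362, e3 q5500 (flp_b L141853) q6363, e3 q5501 (flp_b L139699) q6141, e3 q5502 (flp_b L140524) q6218, e3 q5503 (flp_b L141891) q6368, trivial⟩ (by decide +kernel)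

theorem ce_b_86 : ∀ r, r < 64 → sm gb (Qf (5504 + r)) = Qf (tab Gen.b (5504 + r)) :=
  edges_tab (sm gb) Qf (tab Gen.b) 5504 [(5504, 6369), (5505, 4557), (5506, 6415), (5507, 4558), (5508, 4559), (5509, 6414), (5510, 6536), (5511, 6416), (5512, 6417), (5513, 6539), (5514, 6419), (5515, 6420), (5516, 4565), (5517, 6546), (5518, 5518), (5519, 4571), (5520, 4569), (5521, 6547), (5522, 5522), (5523, 4574), (5524, 4575), (5525, 6550), (5526, 6551), (5527, 6552), (5528, 6553), (5529, 4607), (5530, 4608), (5531, 4609), (5532, 6447), (5533, 6448), (5534, 6449), (5535, 6450), (5536, 4610), (5537, 4611), (5538, 4612), (5539, 6454), (5540, 6455), (5541, 6456), (5542, 6457), (5543, 6458), (5544, 6459), (5545, 6460), (5546, 4613), (5547, 4614), (5548, 4615), (5549, 6464), (5550, 6465), (5551, 6466), (5552, 6467), (5553, 6468), (5554, 6469), (5555, 6470), (5556, 6471), (5557, 6472), (5558, 6473), (5559, 4616), (5560, 4617), (5561, 5707), (5562, 4620), (5563, 4621), (5564, 4604), (5565, 4605), (5566,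 4606), (5567, 6598)]
    ⟨e3 q5504 (flp_b L141899) q6369, e3 q5505 L134089 q4557, e3 q5506 (flp_b L142305) q6415, e3 q5507 L134107 q4558, e3 q5508 L134118 q4559, e3 q5509 (flp_b L142295) q6414, e3 q5510 (flp_b L143306) q6536, e3 q5511 (flp_b L142313) q6416, e3 q5512 (flp_b L142319) q6417, e3 q5513 L143332 q6539, e3 q5514 (flp_b L142333) q6419, e3 q5515 (flp_b L142339) q6420, e3 q5516 (flp_b L134176) q4565, e3 q5517 (flp_b L143386) q6546, e3 q5518 L134202 q5518, e3 q5519 L134210 q4571, e3 q5520 L134214 q4569, e3 q5521 (flp_b L143397) q6547, e3 q5522 L134237 q5522, e3 q5523 L134240 q4574, e3 q5524 L134249 q4575, e3 q5525 (flp_b L143426) q6550, e3 q5526 (flp_b L143434) q6551, e3 q5527 (flp_b L143442) q6552, e3 q5528 (flp_b L143452) q6553, e3 q5529 L134293 q4607, e3 q5530 L134304 q4608, e3 q5531 L134314 q4609, e3 q5532 (flp_b L142531) q6447, e3 q5533 (flp_b L142537) q6448, e3 q5534 (flp_b L142546) q6449, e3 q5535 (flp_b L142558) q6450, e3 q5536 L134360 q4610, e3 q5537 L134372 q4611, e3 q5538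 L134382 q4612, e3 q5539 (flp_b L142597) q6454, e3 q5540 (flp_b L142603) q6455, e3 q5541 (flp_b L142609) q6456, e3 q5542 (flp_b L142615) q6457, e3 q5543 (flp_b L142625) q6458, e3 q5544 (flp_b L142635) q6459, e3 q5545 (flp_b L142645) q6460, e3 q5546 L134443 q4613, e3 q5547 L134452 q4614, e3 q5548 L134463 q4615, e3 q5549 (flp_b L142677) q6464, e3 q5550 (flp_b L142681) q6465, e3 q5551 (flp_b L142688) q6466, e3 q5552 (flp_b L142696) q6467, e3 q5553 (flp_b L142706) q6468, e3 q5554 (flp_b L142717) q6469, e3 q5555 (flp_b L142726) q6470, e3 q5556 (flp_b L142735) q6471, e3 q5557 (flp_b L142747) q6472, e3 q5558 (flp_b L142762) q6473, e3 q5559 L134540 q4616, e3 q5560 L134550 q4617, e3 q5561 (flp_b L135843) q5707, e3 q5562 L134569 q4620, e3 q5563 L134578 q4621, e3 q5564 L134587 q4604, e3 q5565 L134593 q4605, e3 q5566 L134601 q4606, e3 q5567 (flp_b L143854) q6598, trivial⟩ (by decide +kernel)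

theorem ce_b_87 : ∀ r, r < 64 → sm gb (Qf (5568 + r)) = Qf (tab Gen.b (5568 + r)) :=
  edges_tab (sm gb) Qf (tab Gen.b) 5568 [(5568, 6599), (5569, 6600), (5570, 6561), (5571, 6562), (5572, 6563), (5573, 6571), (5574, 6572), (5575, 6573), (5576, 6584), (5577, 6585), (5578, 6610), (5579, 4618), (5580, 6595), (5581, 6596), (5582, 6597), (5583, 4625), (5584, 4626), (5585, 4627), (5586, 6614), (5587, 6615), (5588, 6616), (5589, 5589), (5590, 5590), (5591, 6155), (5592, 5592), (5593, 5593), (5594, 6154), (5595, 4641), (5596, 5742), (5597, 6178), (5598, 4757), (5599, 4758), (5600, 4646), (5601, 5692), (5602, 5602), (5603, 5603), (5604, 5604), (5605, 4769), (5606, 4669), (5607, 4768), (5608, 4670), (5609, 5609), (5610, 4671), (5611, 5611), (5612, 5612), (5613, 5613), (5614, 5614), (5615, 4672), (5616, 4673), (5617, 4674), (5618, 5618), (5619, 5619), (5620, 5620), (5621, 5621), (5622, 5622), (5623, 5623), (5624, 5624), (5625, 4675), (5626, 4676), (5627, 4677), (5628, 6626), (5629, 6629), (5630,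 6632), (5631, 6640)]
    ⟨e3 q5568 (flp_b L143862) q6599, e3 q5569 (flp_b L143869) q6600, e3 q5570 (flp_b L143522) q6561, e3 q5571 (flp_b L143534) q6562, e3 q5572 (flp_b L143543) q6563, e3 q5573 (flp_b L143623) q6571, e3 q5574 (flp_b L143635) q6572, e3 q5575 (flp_b L143645) q6573, e3 q5576 (flp_b L143726) q6584, e3 q5577 (flp_b L143737) q6585, e3 q5578 L143965 q6610, e3 q5579 (flp_b L134722) q4618, e3 q5580 (flp_b L143828) q6595, e3 q5581 (flp_b L143836) q6596, e3 q5582 (flp_b L143846) q6597, e3 q5583 L134760 q4625, e3 q5584 L134769 q4626, e3 q5585 L134777 q4627, e3 q5586 (flp_b L143999) q6614, e3 q5587 (flp_b L144009) q6615, e3 q5588 (flp_b L144018) q6616, e3 q5589 L134809 q5589, e3 q5590 L134818 q5590, e3 q5591 (flp_b L139822) q6155, e3 q5592 L134834 q5592, e3 q5593 L134844 q5593, e3 q5594 (flp_b L139810) q6154, e3 q5595 L134863 q4641, e3 q5596 (flp_b L136142) q5742, e3 q5597 (flp_b L140036) q6178, e3 q5598 L134887 q4757, e3 q5599 L134898 q4758, e3 q5600 L134909 q4646, e3 q5601 L135712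 q5692, e3 q5602 L134926 q5602, e3 q5603 L134937 q5603, e3 q5604 L134944 q5604, e3 q5605 L134957 q4769, e3 q5606 L134963 q4669, e3 q5607 L134973 q4768, e3 q5608 L134985 q4670, e3 q5609 L134996 q5609, e3 q5610 L135007 q4671, e3 q5611 L135018 q5611, e3 q5612 L135024 q5612, e3 q5613 L135033 q5613, e3 q5614 L135044 q5614, e3 q5615 L135055 q4672, e3 q5616 L135063 q4673, e3 q5617 L135075 q4674, e3 q5618 L135085 q5618, e3 q5619 L135093 q5619, e3 q5620 L135101 q5620, e3 q5621 L135111 q5621, e3 q5622 L135119 q5622, e3 q5623 L135128 q5623, e3 q5624 L135138 q5624, e3 q5625 L135145 q4675, e3 q5626 L135155 q4676, e3 q5627 L135163 q4677, e3 q5628 (flp_b L144106) q6626, e3 q5629 (flp_b L144139) q6629, e3 q5630 (flp_b L144174) q6632, e3 q5631 (flp_b L144255) q6640, trivial⟩ (by decide +kernel)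

theorem ce_b_88 : ∀ r, r < 64 → sm gb (Qf (5632 + r)) = Qf (tab Gen.b (5632 + r)) :=
  edges_tab (sm gb) Qf (tab Gen.b) 5632 [(5632, 6641), (5633, 6648), (5634, 6649), (5635, 5654), (5636, 4741), (5637, 4743), (5638, 4747), (5639, 4748), (5640, 5640), (5641, 5641), (5642, 5642), (5643, 5643), (5644, 5644), (5645, 5645), (5646, 5646), (5647, 5647), (5648, 5648), (5649, 4697), (5650, 4698), (5651, 4699), (5652, 6662), (5653, 6663), (5654, 5635), (5655, 4759), (5656, 4760), (5657, 5657), (5658, 4761), (5659, 4762), (5660, 5660), (5661, 5661), (5662, 4731), (5663, 4732), (5664, 5664), (5665, 5665), (5666, 4733), (5667, 4766), (5668, 4767), (5669, 4734), (5670, 4773), (5671, 4774), (5672, 4775), (5673, 4776), (5674, 4777), (5675, 4778), (5676, 4779), (5677, 4735), (5678, 4736), (5679, 4737), (5680, 4783), (5681, 4784), (5682, 4785), (5683, 4786), (5684, 4787), (5685, 4788), (5686, 4789), (5687, 4790), (5688, 4791), (5689, 4792), (5690, 4738), (5691, 4739), (5692, 5601), (5693, 6674), (5694,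 6675), (5695, 6692)]
    ⟨e3 q5632 (flp_b L144269) q6641, e3 q5633 (flp_b L144338) q6648, e3 q5634 (flp_b L144347) q6649, e3 q5635 (flp_b L135410) q5654, e3 q5636 L135247 q4741, e3 q5637 L135258 q4743, e3 q5638 L135271 q4747, e3 q5639 L135281 q4748, e3 q5640 L135292 q5640, e3 q5641 L135302 q5641, e3 q5642 L135309 q5642, e3 q5643 L135315 q5643, e3 q5644 L135321 q5644, e3 q5645 L135329 q5645, e3 q5646 L135335 q5646, e3 q5647 L135342 q5647, e3 q5648 L135356 q5648, e3 q5649 L135365 q4697, e3 q5650 L135373 q4698, e3 q5651 L135379 q4699, e3 q5652 (flp_b L144480) q6662, e3 q5653 (flp_b L144487) q6663, e3 q5654 L135410 q5635, e3 q5655 L135415 q4759, e3 q5656 L135422 q4760, e3 q5657 L135432 q5657, e3 q5658 L135437 q4761, e3 q5659 L135442 q4762, e3 q5660 L135449 q5660, e3 q5661 L135456 q5661, e3 q5662 L135462 q4731, e3 q5663 L135469 q4732, e3 q5664 L135475 q5664, e3 q5665 L135481 q5665, e3 q5666 L135487 q4733, e3 q5667 L135494 q4766, e3 q5668 L135501 q4767, e3 q5669 L135508 q4734, e3 q5670 L135515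 q4773, e3 q5671 L135521 q4774, e3 q5672 L135526 q4775, e3 q5673 L135533 q4776, e3 q5674 L135541 q4777, e3 q5675 L135551 q4778, e3 q5676 L135559 q4779, e3 q5677 L135566 q4735, e3 q5678 L135574 q4736, e3 q5679 L135582 q4737, e3 q5680 L135586 q4783, e3 q5681 L135592 q4784, e3 q5682 L135602 q4785, e3 q5683 L135613 q4786, e3 q5684 L135624 q4787, e3 q5685 L135635 q4788, e3 q5686 L135646 q4789, e3 q5687 L135655 q4790, e3 q5688 L135665 q4791, e3 q5689 L135678 q4792, e3 q5690 L135690 q4738, e3 q5691 L135697 q4739, e3 q5692 (flp_b L135712) q5601, e3 q5693 (flp_b L144563) q6674, e3 q5694 (flp_b L144570) q6675, e3 q5695 (flp_b L144698) q6692, trivial⟩ (by decide +kernel)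

theorem ce_b_89 : ∀ r, r < 64 → sm gb (Qf (5696 + r)) = Qf (tab Gen.b (5696 + r)) :=
  edges_tab (sm gb) Qf (tab Gen.b) 5696 [(5696, 6693), (5697, 6703), (5698, 4740), (5699, 6529), (5700, 4974), (5701, 6219), (5702, 4934), (5703, 6652), (5704, 6653), (5705, 4935), (5706, 4755), (5707, 5561), (5708, 6224), (5709, 6664), (5710, 6665), (5711, 6668), (5712, 6669), (5713, 6670), (5714, 4765), (5715, 6679), (5716, 6680), (5717, 6627), (5718, 6681), (5719, 6628), (5720, 6625), (5721, 6622), (5722, 4796), (5723, 4797), (5724, 4798), (5725, 6682), (5726, 6683), (5727, 6684), (5728, 6685), (5729, 6686), (5730, 6687), (5731, 6688), (5732, 6689), (5733, 6690), (5734, 6691), (5735, 4799), (5736, 4800), (5737, 6737), (5738, 6695), (5739, 6696), (5740, 6697), (5741, 6698), (5742, 5596), (5743, 6699), (5744, 6700), (5745, 6724), (5746, 6725), (5747, 6741), (5748, 4801), (5749, 5749), (5750, 5750), (5751, 5751), (5752, 4825), (5753, 4826), (5754, 6747), (5755, 4828), (5756, 4829), (5757, 5757), (5758,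 5758), (5759, 4830)]
    ⟨e3 q5696 (flp_b L144706) q6693, e3 q5697 L144804 q6703, e3 q5698 (flp_b L135752) q4740, e3 q5699 (flp_b L143244) q6529, e3 q5700 L135775 q4974, e3 q5701 (flp_b L140536) q6219, e3 q5702 L135800 q4934, e3 q5703 (flp_b L144378) q6652, e3 q5704 (flp_b L144389) q6653, e3 q5705 L135817 q4935, e3 q5706 L135830 q4755, e3 q5707 L135843 q5561, e3 q5708 (flp_b L140590) q6224, e3 q5709 (flp_b L144496) q6664, e3 q5710 (flp_b L144503) q6665, e3 q5711 (flp_b L144527) q6668, e3 q5712 (flp_b L144533) q6669, e3 q5713 (flp_b L144539) q6670, e3 q5714 L135904 q4765, e3 q5715 (flp_b L144596) q6679, e3 q5716 (flp_b L144602) q6680, e3 q5717 (flp_b L144115) q6627, e3 q5718 (flp_b L144609) q6681, e3 q5719 (flp_b L144128) q6628, e3 q5720 (flp_b L144094) q6625, e3 q5721 L144074 q6622, e3 q5722 L135971 q4796, e3 q5723 L135982 q4797, e3 q5724 L135990 q4798, e3 q5725 (flp_b L144618) q6682, e3 q5726 (flp_b L144629) q6683, e3 q5727 (flp_b L144639) q6684, e3 q5728 (flp_b L144649) q6685, e3 q5729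 (flp_b L144657) q6686, e3 q5730 (flp_b L144662) q6687, e3 q5731 (flp_b L144667) q6688, e3 q5732 (flp_b L144677) q6689, e3 q5733 (flp_b L144687) q6690, e3 q5734 (flp_b L144691) q6691, e3 q5735 L136076 q4799, e3 q5736 L136085 q4800, e3 q5737 L145092 q6737, e3 q5738 (flp_b L144714) q6695, e3 q5739 (flp_b L144722) q6696, e3 q5740 (flp_b L144734) q6697, e3 q5741 (flp_b L144749) q6698, e3 q5742 L136142 q5596, e3 q5743 (flp_b L144760) q6699, e3 q5744 (flp_b L144771) q6700, e3 q5745 (flp_b L144989) q6724, e3 q5746 (flp_b L144999) q6725, e3 q5747 L145141 q6741, e3 q5748 (flp_b L136195) q4801, e3 q5749 L136202 q5749, e3 q5750 L136213 q5750, e3 q5751 L136228 q5751, e3 q5752 L136236 q4825, e3 q5753 L136244 q4826, e3 q5754 L145185 q6747, e3 q5755 L136257 q4828, e3 q5756 L136265 q4829, e3 q5757 L136273 q5757, e3 q5758 L136281 q5758, e3 q5759 L136292 q4830, trivial⟩ (by decide +kernel)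

theorem ce_b_90 : ∀ r, r < 64 → sm gb (Qf (5760 + r)) = Qf (tab Gen.b (5760 + r)) :=
  edges_tab (sm gb) Qf (tab Gen.b) 5760 [(5760, 4831), (5761, 4832), (5762, 5762), (5763, 5763), (5764, 5764), (5765, 5765), (5766, 4833), (5767, 4834), (5768, 4835), (5769, 6770), (5770, 6745), (5771, 6746), (5772, 4827), (5773, 6774), (5774, 6775), (5775, 6750), (5776, 6751), (5777, 6752), (5778, 6757), (5779, 6758), (5780, 6759), (5781, 6767), (5782, 6768), (5783, 6769), (5784, 4837), (5785, 6786), (5786, 6337), (5787, 4884), (5788, 4885), (5789, 6347), (5790, 6348), (5791, 4887), (5792, 4888), (5793, 4889), (5794, 4890), (5795, 4891), (5796, 4892), (5797, 4893), (5798, 6206), (5799, 6364), (5800, 4895), (5801, 4896), (5802, 6423), (5803, 4872), (5804, 4873), (5805, 6432), (5806, 6433), (5807, 4874), (5808, 4875), (5809, 4876), (5810, 4897), (5811, 4898), (5812, 4899), (5813, 4900), (5814, 4877), (5815, 4878), (5816, 4879), (5817, 4904), (5818, 4905), (5819, 4906), (5820, 4907), (5821, 4908), (5822,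 4909), (5823, 4910)]
    ⟨e3 q5760 L136301 q4831, e3 q5761 L136309 q4832, e3 q5762 L136318 q5762, e3 q5763 L136326 q5763, e3 q5764 L136334 q5764, e3 q5765 L136344 q5765, e3 q5766 L136353 q4833, e3 q5767 L136361 q4834, e3 q5768 L136369 q4835, e3 q5769 L145399 q6770, e3 q5770 (flp_b L145172) q6745, e3 q5771 (flp_b L145181) q6746, e3 q5772 (flp_b L136395) q4827, e3 q5773 (flp_b L145426) q6774, e3 q5774 (flp_b L145431) q6775, e3 q5775 (flp_b L145209) q6750, e3 q5776 (flp_b L145217) q6751, e3 q5777 (flp_b L145227) q6752, e3 q5778 (flp_b L145269) q6757, e3 q5779 (flp_b L145278) q6758, e3 q5780 (flp_b L145288) q6759, e3 q5781 (flp_b L145373) q6767, e3 q5782 (flp_b L145382) q6768, e3 q5783 (flp_b L145391) q6769, e3 q5784 L136481 q4837, e3 q5785 (flp_b L145517) q6786, e3 q5786 (flp_b L141616) q6337, e3 q5787 L136501 q4884, e3 q5788 L136508 q4885, e3 q5789 (flp_b L141706) q6347, e3 q5790 (flp_b L141717) q6348, e3 q5791 L136525 q4887, e3 q5792 L136533 q4888, e3 q5793 L136539 q4889, e3 q5794 L136548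 q4890, e3 q5795 L136558 q4891, e3 q5796 L136563 q4892, e3 q5797 L136572 q4893, e3 q5798 (flp_b L140378) q6206, e3 q5799 (flp_b L141863) q6364, e3 q5800 L136587 q4895, e3 q5801 L136593 q4896, e3 q5802 (flp_b L142365) q6423, e3 q5803 L136604 q4872, e3 q5804 L136611 q4873, e3 q5805 (flp_b L142429) q6432, e3 q5806 (flp_b L142437) q6433, e3 q5807 L136627 q4874, e3 q5808 L136633 q4875, e3 q5809 L136641 q4876, e3 q5810 L136645 q4897, e3 q5811 L136651 q4898, e3 q5812 L136660 q4899, e3 q5813 L136668 q4900, e3 q5814 L136677 q4877, e3 q5815 L136684 q4878, e3 q5816 L136692 q4879, e3 q5817 L136699 q4904, e3 q5818 L136705 q4905, e3 q5819 L136713 q4906, e3 q5820 L136722 q4907, e3 q5821 L136730 q4908, e3 q5822 L136738 q4909, e3 q5823 L136748 q4910, trivial⟩ (by decide +kernel)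

theorem ce_b_91 : ∀ r, r < 64 → sm gb (Qf (5824 + r)) = Qf (tab Gen.b (5824 + r)) :=
  edges_tab (sm gb) Qf (tab Gen.b) 5824 [(5824, 4880), (5825, 4881), (5826, 4882), (5827, 6803), (5828, 6804), (5829, 6805), (5830, 6810), (5831, 6811), (5832, 6812), (5833, 6820), (5834, 6821), (5835, 6822), (5836, 6833), (5837, 6834), (5838, 6847), (5839, 6138), (5840, 6789), (5841, 6129), (5842, 6792), (5843, 6793), (5844, 6794), (5845, 6795), (5846, 6856), (5847, 6205), (5848, 6032), (5849, 6249), (5850, 4894), (5851, 6799), (5852, 6800), (5853, 6813), (5854, 6814), (5855, 6815), (5856, 6816), (5857, 6817), (5858, 6818), (5859, 6819), (5860, 4914), (5861, 4915), (5862, 4916), (5863, 6823), (5864, 6824), (5865, 6825), (5866, 6826), (5867, 6827), (5868, 6828), (5869, 6829), (5870, 6830), (5871, 6831), (5872, 6832), (5873, 4917), (5874, 4918), (5875, 6887), (5876, 6871), (5877, 6872), (5878, 6891), (5879, 6884), (5880, 6894), (5881, 6886), (5882, 4919), (5883, 5883), (5884, 6157), (5885, 5885), (5886,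 4922), (5887, 6209)]
    ⟨e3 q5824 L136756 q4880, e3 q5825 L136763 q4881, e3 q5826 L136770 q4882, e3 q5827 (flp_b L145620) q6803, e3 q5828 (flp_b L145627) q6804, e3 q5829 (flp_b L145634) q6805, e3 q5830 (flp_b L145660) q6810, e3 q5831 (flp_b L145666) q6811, e3 q5832 (flp_b L145674) q6812, e3 q5833 (flp_b L145738) q6820, e3 q5834 (flp_b L145746) q6821, e3 q5835 (flp_b L145755) q6822, e3 q5836 (flp_b L145863) q6833, e3 q5837 (flp_b L145871) q6834, e3 q5838 L145972 q6847, e3 q5839 (flp_b L139662) q6138, e3 q5840 (flp_b L145536) q6789, e3 q5841 (flp_b L139571) q6129, e3 q5842 (flp_b L145554) q6792, e3 q5843 (flp_b L145560) q6793, e3 q5844 (flp_b L145566) q6794, e3 q5845 (flp_b L145576) q6795, e3 q5846 L146028 q6856, e3 q5847 (flp_b L140362) q6205, e3 q5848 (flp_b L138681) q6032, e3 q5849 (flp_b L140837) q6249, e3 q5850 (flp_b L136925) q4894, e3 q5851 (flp_b L145597) q6799, e3 q5852 (flp_b L145604) q6800, e3 q5853 (flp_b L145680) q6813, e3 q5854 (flp_b L145686) q6814, e3 q5855 (flp_b L145693)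 q6815, e3 q5856 (flp_b L145701) q6816, e3 q5857 (flp_b L145710) q6817, e3 q5858 (flp_b L145720) q6818, e3 q5859 (flp_b L145729) q6819, e3 q5860 L136997 q4914, e3 q5861 L137006 q4915, e3 q5862 L137016 q4916, e3 q5863 (flp_b L145760) q6823, e3 q5864 (flp_b L145766) q6824, e3 q5865 (flp_b L145773) q6825, e3 q5866 (flp_b L145780) q6826, e3 q5867 (flp_b L145790) q6827, e3 q5868 (flp_b L145804) q6828, e3 q5869 (flp_b L145817) q6829, e3 q5870 (flp_b L145826) q6830, e3 q5871 (flp_b L145837) q6831, e3 q5872 (flp_b L145851) q6832, e3 q5873 L137095 q4917, e3 q5874 L137104 q4918, e3 q5875 L146282 q6887, e3 q5876 (flp_b L146139) q6871, e3 q5877 (flp_b L146149) q6872, e3 q5878 L146316 q6891, e3 q5879 (flp_b L146260) q6884, e3 q5880 L146347 q6894, e3 q5881 (flp_b L146277) q6886, e3 q5882 (flp_b L137163) q4919, e3 q5883 L137171 q5883, e3 q5884 (flp_b L139840) q6157, e3 q5885 L137182 q5885, e3 q5886 (flp_b L137187) q4922, e3 q5887 (flp_b L140415) q6209, trivial⟩ (by decide +kernel)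

theorem ce_b_92 : ∀ r, r < 64 → sm gb (Qf (5888 + r)) = Qf (tab Gen.b (5888 + r)) :=
  edges_tab (sm gb) Qf (tab Gen.b) 5888 [(5888, 5888), (5889, 4924), (5890, 5929), (5891, 6896), (5892, 4933), (5893, 4936), (5894, 4937), (5895, 4977), (5896, 4978), (5897, 4938), (5898, 4939), (5899, 4940), (5900, 6706), (5901, 6900), (5902, 6901), (5903, 6902), (5904, 6904), (5905, 6905), (5906, 6882), (5907, 6196), (5908, 4943), (5909, 6913), (5910, 6199), (5911, 5911), (5912, 5912), (5913, 5913), (5914, 5914), (5915, 5915), (5916, 5916), (5917, 4961), (5918, 6912), (5919, 4954), (5920, 6916), (5921, 5344), (5922, 5397), (5923, 5143), (5924, 5981), (5925, 4960), (5926, 6918), (5927, 6207), (5928, 4964), (5929, 5890), (5930, 5930), (5931, 4982), (5932, 4983), (5933, 4984), (5934, 4985), (5935, 4986), (5936, 4987), (5937, 4988), (5938, 6933), (5939, 4990), (5940, 4991), (5941, 4992), (5942, 4993), (5943, 6704), (5944, 6705), (5945, 4994), (5946, 4995), (5947, 4996), (5948, 6878), (5949, 6903), (5950,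 6879), (5951, 6883)]
    ⟨e3 q5888 L137201 q5888, e3 q5889 (flp_b L137206) q4924, e3 q5890 (flp_b L138615) q5929, e3 q5891 (flp_b L146380) q6896, e3 q5892 L137230 q4933, e3 q5893 L137243 q4936, e3 q5894 L137253 q4937, e3 q5895 L137262 q4977, e3 q5896 L137271 q4978, e3 q5897 L137279 q4938, e3 q5898 L137286 q4939, e3 q5899 L137295 q4940, e3 q5900 (flp_b L144834) q6706, e3 q5901 (flp_b L146417) q6900, e3 q5902 (flp_b L146429) q6901, e3 q5903 (flp_b L146440) q6902, e3 q5904 (flp_b L146457) q6904, e3 q5905 (flp_b L146467) q6905, e3 q5906 (flp_b L146238) q6882, e3 q5907 (flp_b L140252) q6196, e3 q5908 (flp_b L137392) q4943, e3 q5909 (flp_b L146573) q6913, e3 q5910 (flp_b L140281) q6199, e3 q5911 L137426 q5911, e3 q5912 L137438 q5912, e3 q5913 L137453 q5913, e3 q5914 L137467 q5914, e3 q5915 L137480 q5915, e3 q5916 L137494 q5916, e3 q5917 L137503 q4961, e3 q5918 (flp_b L146569) q6912, e3 q5919 L137529 q4954, e3 q5920 (flp_b L146611) q6916, e3 q5921 L137554 q5344, e3 q5922 L137568 q5397, e3 q5923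 L137582 q5143, e3 q5924 (flp_b L138125) q5981, e3 q5925 L137605 q4960, e3 q5926 (flp_b L146638) q6918, e3 q5927 (flp_b L140391) q6207, e3 q5928 L137635 q4964, e3 q5929 L138615 q5890, e3 q5930 L137651 q5930, e3 q5931 L137661 q4982, e3 q5932 L137675 q4983, e3 q5933 L137684 q4984, e3 q5934 L137694 q4985, e3 q5935 L137705 q4986, e3 q5936 L137716 q4987, e3 q5937 L137724 q4988, e3 q5938 L146791 q6933, e3 q5939 L137742 q4990, e3 q5940 L137750 q4991, e3 q5941 L137760 q4992, e3 q5942 L137771 q4993, e3 q5943 (flp_b L144811) q6704, e3 q5944 (flp_b L144821) q6705, e3 q5945 L137797 q4994, e3 q5946 L137806 q4995, e3 q5947 L137814 q4996, e3 q5948 (flp_b L146192) q6878, e3 q5949 (flp_b L146449) q6903, e3 q5950 (flp_b L146205) q6879, e3 q5951 (flp_b L146247) q6883, trivial⟩ (by decide +kernel)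

theorem ce_b_93 : ∀ r, r < 64 → sm gb (Qf (5952 + r)) = Qf (tab Gen.b (5952 + r)) :=
  edges_tab (sm gb) Qf (tab Gen.b) 5952 [(5952, 4997), (5953, 4998), (5954, 4999), (5955, 6922), (5956, 6923), (5957, 6924), (5958, 6958), (5959, 6926), (5960, 6927), (5961, 6928), (5962, 6929), (5963, 6967), (5964, 6931), (5965, 6932), (5966, 4989), (5967, 6972), (5968, 6973), (5969, 6936), (5970, 6937), (5971, 6938), (5972, 6939), (5973, 6940), (5974, 6945), (5975, 6946), (5976, 6947), (5977, 6951), (5978, 6952), (5979, 6835), (5980, 6986), (5981, 5924), (5982, 6033), (5983, 5002), (5984, 6991), (5985, 6238), (5986, 5038), (5987, 5005), (5988, 6994), (5989, 5107), (5990, 5108), (5991, 5390), (5992, 5110), (5993, 5111), (5994, 5010), (5995, 5483), (5996, 7001), (5997, 5115), (5998, 5116), (5999, 5117), (6000, 5238), (6001, 5118), (6002, 5119), (6003, 5015), (6004, 7010), (6005, 5124), (6006, 5125), (6007, 6971), (6008, 5019), (6009, 5020), (6010, 5480), (6011, 7015), (6012, 7016), (6013, 5132), (6014,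 5133), (6015, 5134)]
    ⟨e3 q5952 L137856 q4997, e3 q5953 L137866 q4998, e3 q5954 L137876 q4999, e3 q5955 (flp_b L146684) q6922, e3 q5956 (flp_b L146696) q6923, e3 q5957 (flp_b L146706) q6924, e3 q5958 L147030 q6958, e3 q5959 (flp_b L146725) q6926, e3 q5960 (flp_b L146734) q6927, e3 q5961 (flp_b L146744) q6928, e3 q5962 (flp_b L146754) q6929, e3 q5963 L147127 q6967, e3 q5964 (flp_b L146773) q6931, e3 q5965 (flp_b L146785) q6932, e3 q5966 (flp_b L137986) q4989, e3 q5967 (flp_b L147179) q6972, e3 q5968 (flp_b L147187) q6973, e3 q5969 (flp_b L146815) q6936, e3 q5970 (flp_b L146825) q6937, e3 q5971 (flp_b L146835) q6938, e3 q5972 (flp_b L146845) q6939, e3 q5973 (flp_b L146857) q6940, e3 q5974 (flp_b L146899) q6945, e3 q5975 (flp_b L146910) q6946, e3 q5976 (flp_b L146920) q6947, e3 q5977 (flp_b L146953) q6951, e3 q5978 (flp_b L146964) q6952, e3 q5979 L145888 q6835, e3 q5980 L147325 q6986, e3 q5981 L138125 q5924, e3 q5982 (flp_b L138698) q6033, e3 q5983 (flp_b L138145) q5002, e3 q5984 (flp_b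 L147397) q6991, e3 q5985 (flp_b L140730) q6238, e3 q5986 L138176 q5038, e3 q5987 L138180 q5005, e3 q5988 (flp_b L147426) q6994, e3 q5989 L138195 q5107, e3 q5990 L138209 q5108, e3 q5991 L138228 q5390, e3 q5992 L138235 q5110, e3 q5993 L138248 q5111, e3 q5994 (flp_b L138254) q5010, e3 q5995 L138269 q5483, e3 q5996 (flp_b L147505) q7001, e3 q5997 L138290 q5115, e3 q5998 L138303 q5116, e3 q5999 L138310 q5117, e3 q6000 L138326 q5238, e3 q6001 L138334 q5118, e3 q6002 L138347 q5119, e3 q6003 (flp_b L138355) q5015, e3 q6004 (flp_b L147612) q7010, e3 q6005 L138381 q5124, e3 q6006 L138395 q5125, e3 q6007 (flp_b L147175) q6971, e3 q6008 L138411 q5019, e3 q6009 L138425 q5020, e3 q6010 L138435 q5480, e3 q6011 (flp_b L147670) q7015, e3 q6012 (flp_b L147684) q7016, e3 q6013 L138465 q5132, e3 q6014 L138479 q5133, e3 q6015 L138489 q5134, trivial⟩ (by decide +kernel)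

theorem ce_b_94 : ∀ r, r < 64 → sm gb (Qf (6016 + r)) = Qf (tab Gen.b (6016 + r)) :=
  edges_tab (sm gb) Qf (tab Gen.b) 6016 [(6016, 5137), (6017, 5138), (6018, 5139), (6019, 5140), (6020, 5141), (6021, 5142), (6022, 6857), (6023, 5246), (6024, 5041), (6025, 5042), (6026, 6990), (6027, 5036), (6028, 7026), (6029, 6993), (6030, 5040), (6031, 7030), (6032, 5848), (6033, 5982), (6034, 5045), (6035, 6253), (6036, 5148), (6037, 5149), (6038, 5150), (6039, 5151), (6040, 5075), (6041, 5076), (6042, 5077), (6043, 5078), (6044, 7046), (6045, 5080), (6046, 5081), (6047, 5082), (6048, 5083), (6049, 7055), (6050, 5085), (6051, 5086), (6052, 5057), (6053, 7062), (6054, 7063), (6055, 5090), (6056, 5091), (6057, 5092), (6058, 6058), (6059, 6059), (6060, 5093), (6061, 5094), (6062, 5095), (6063, 6063), (6064, 6064), (6065, 6065), (6066, 6066), (6067, 5096), (6068, 5097), (6069, 5098), (6070, 6070), (6071, 6071), (6072, 6072), (6073, 6073), (6074, 6074), (6075, 6075), (6076, 6076), (6077, 5099), (6078,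 5100), (6079, 5101)]
    ⟨e3 q6016 L138495 q5137, e3 q6017 L138508 q5138, e3 q6018 L138522 q5139, e3 q6019 L138535 q5140, e3 q6020 L138542 q5141, e3 q6021 L138554 q5142, e3 q6022 (flp_b L146047) q6857, e3 q6023 L138571 q5246, e3 q6024 L138585 q5041, e3 q6025 L138600 q5042, e3 q6026 (flp_b L147393) q6990, e3 q6027 L138632 q5036, e3 q6028 (flp_b L147789) q7026, e3 q6029 (flp_b L147420) q6993, e3 q6030 L138663 q5040, e3 q6031 (flp_b L147834) q7030, e3 q6032 L138681 q5848, e3 q6033 L138698 q5982, e3 q6034 L138708 q5045, e3 q6035 (flp_b L140878) q6253, e3 q6036 L138726 q5148, e3 q6037 L138736 q5149, e3 q6038 L138745 q5150, e3 q6039 L138751 q5151, e3 q6040 L138764 q5075, e3 q6041 L138774 q5076, e3 q6042 L138782 q5077, e3 q6043 L138790 q5078, e3 q6044 L147988 q7046, e3 q6045 L138805 q5080, e3 q6046 L138812 q5081, e3 q6047 L138820 q5082, e3 q6048 L138828 q5083, e3 q6049 L148063 q7055, e3 q6050 L138843 q5085, e3 q6051 L138851 q5086, e3 q6052 (flp_b L138857) q5057, e3 q6053 (flp_b L148123) q7062,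 e3 q6054 (flp_b L148129) q7063, e3 q6055 L138875 q5090, e3 q6056 L138883 q5091, e3 q6057 L138891 q5092, e3 q6058 L138899 q6058, e3 q6059 L138907 q6059, e3 q6060 L138917 q5093, e3 q6061 L138923 q5094, e3 q6062 L138931 q5095, e3 q6063 L138941 q6063, e3 q6064 L138944 q6064, e3 q6065 L138952 q6065, e3 q6066 L138959 q6066, e3 q6067 L138967 q5096, e3 q6068 L138974 q5097, e3 q6069 L138982 q5098, e3 q6070 L138989 q6070, e3 q6071 L138996 q6071, e3 q6072 L139003 q6072, e3 q6073 L139011 q6073, e3 q6074 L139018 q6074, e3 q6075 L139025 q6075, e3 q6076 L139034 q6076, e3 q6077 L139041 q5099, e3 q6078 L139050 q5100, e3 q6079 L139057 q5101, trivial⟩ (by decide +kernel)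

theorem ce_b_95 : ∀ r, r < 64 → sm gb (Qf (6080 + r)) = Qf (tab Gen.b (6080 + r)) :=
  edges_tab (sm gb) Qf (tab Gen.b) 6080 [(6080, 7040), (6081, 7041), (6082, 7042), (6083, 7098), (6084, 7044), (6085, 7045), (6086, 5079), (6087, 7103), (6088, 7104), (6089, 7049), (6090, 7050), (6091, 7051), (6092, 7053), (6093, 7054), (6094, 5084), (6095, 7114), (6096, 7115), (6097, 7058), (6098, 7059), (6099, 7060), (6100, 5126), (6101, 5088), (6102, 5089), (6103, 7123), (6104, 7124), (6105, 7125), (6106, 7068), (6107, 7069), (6108, 7070), (6109, 7075), (6110, 7076), (6111, 7077), (6112, 7085), (6113, 7086), (6114, 7087), (6115, 7094), (6116, 7095), (6117, 6785), (6118, 5144), (6119, 5103), (6120, 5146), (6121, 5395), (6122, 6996), (6123, 5393), (6124, 6998), (6125, 6999), (6126, 7102), (6127, 5114), (6128, 5491), (6129, 5841), (6130, 7143), (6131, 5331), (6132, 7004), (6133, 7005), (6134, 7007), (6135, 7008), (6136, 7113), (6137, 5122), (6138, 5839), (6139, 7151), (6140, 5316), (6141, 5501), (6142,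 7012), (6143, 7121)]
    ⟨e3 q6080 (flp_b L147932) q7040, e3 q6081 (flp_b L147943) q7041, e3 q6082 (flp_b L147955) q7042, e3 q6083 L148404 q7098, e3 q6084 (flp_b L147971) q7044, e3 q6085 (flp_b L147982) q7045, e3 q6086 (flp_b L139139) q5079, e3 q6087 (flp_b L148473) q7103, e3 q6088 (flp_b L148483) q7104, e3 q6089 (flp_b L148010) q7049, e3 q6090 (flp_b L148019) q7050, e3 q6091 (flp_b L148026) q7051, e3 q6092 (flp_b L148044) q7053, e3 q6093 (flp_b L148055) q7054, e3 q6094 (flp_b L139220) q5084, e3 q6095 (flp_b L148598) q7114, e3 q6096 (flp_b L148609) q7115, e3 q6097 (flp_b L148089) q7058, e3 q6098 (flp_b L148099) q7059, e3 q6099 (flp_b L148109) q7060, e3 q6100 L139289 q5126, e3 q6101 L139293 q5088, e3 q6102 L139298 q5089, e3 q6103 (flp_b L148699) q7123, e3 q6104 (flp_b L148706) q7124, e3 q6105 (flp_b L148713) q7125, e3 q6106 (flp_b L148159) q7068, e3 q6107 (flp_b L148167) q7069, e3 q6108 (flp_b L148177) q7070, e3 q6109 (flp_b L148217) q7075, e3 q6110 (flp_b L148227) q7076, e3 q6111 (flp_b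 L148234) q7077, e3 q6112 (flp_b L148290) q7085, e3 q6113 (flp_b L148298) q7086, e3 q6114 (flp_b L148307) q7087, e3 q6115 (flp_b L148360) q7094, e3 q6116 (flp_b L148368) q7095, e3 q6117 (flp_b L145512) q6785, e3 q6118 L139447 q5144, e3 q6119 L139451 q5103, e3 q6120 L139466 q5146, e3 q6121 L139473 q5395, e3 q6122 (flp_b L147442) q6996, e3 q6123 L139500 q5393, e3 q6124 (flp_b L147469) q6998, e3 q6125 (flp_b L147482) q6999, e3 q6126 (flp_b L148465) q7102, e3 q6127 L139545 q5114, e3 q6128 L139557 q5491, e3 q6129 L139571 q5841, e3 q6130 (flp_b L148905) q7143, e3 q6131 L139591 q5331, e3 q6132 (flp_b L147540) q7004, e3 q6133 (flp_b L147553) q7005, e3 q6134 (flp_b L147575) q7007, e3 q6135 (flp_b L147588) q7008, e3 q6136 (flp_b L148590) q7113, e3 q6137 L139650 q5122, e3 q6138 L139662 q5839, e3 q6139 (flp_b L148995) q7151, e3 q6140 L139685 q5316, e3 q6141 L139699 q5501, e3 q6142 (flp_b L147634) q7012, e3 q6143 (flp_b L148680) q7121, trivial⟩ (by decide +kernel)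

theorem ce_b_96 : ∀ r, r < 64 → sm gb (Qf (6144 + r)) = Qf (tab Gen.b (6144 + r)) :=
  edges_tab (sm gb) Qf (tab Gen.b) 6144 [(6144, 7122), (6145, 5129), (6146, 5130), (6147, 5131), (6148, 5477), (6149, 7159), (6150, 7160), (6151, 7020), (6152, 7021), (6153, 7022), (6154, 5594), (6155, 5591), (6156, 7023), (6157, 5884), (6158, 7024), (6159, 7170), (6160, 7138), (6161, 7033), (6162, 7034), (6163, 7035), (6164, 7036), (6165, 7176), (6166, 7038), (6167, 7039), (6168, 5166), (6169, 5167), (6170, 7183), (6171, 5169), (6172, 5170), (6173, 5156), (6174, 7188), (6175, 7189), (6176, 5174), (6177, 5159), (6178, 5597), (6179, 6179), (6180, 5162), (6181, 7192), (6182, 7182), (6183, 5168), (6184, 7193), (6185, 7186), (6186, 5182), (6187, 5172), (6188, 5173), (6189, 7195), (6190, 7194), (6191, 5190), (6192, 5217), (6193, 5218), (6194, 5191), (6195, 6701), (6196, 5907), (6197, 5194), (6198, 7199), (6199, 5910), (6200, 5203), (6201, 5396), (6202, 5204), (6203, 7198), (6204, 5201), (6205, 5847), (6206,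 5798), (6207, 5927)]
    ⟨e3 q6144 (flp_b L148691) q7122, e3 q6145 L139734 q5129, e3 q6146 L139747 q5130, e3 q6147 L139756 q5131, e3 q6148 L139762 q5477, e3 q6149 (flp_b L149085) q7159, e3 q6150 (flp_b L149098) q7160, e3 q6151 (flp_b L147724) q7020, e3 q6152 (flp_b L147738) q7021, e3 q6153 (flp_b L147746) q7022, e3 q6154 L139810 q5594, e3 q6155 L139822 q5591, e3 q6156 (flp_b L147754) q7023, e3 q6157 L139840 q5884, e3 q6158 (flp_b L147767) q7024, e3 q6159 L149177 q7170, e3 q6160 (flp_b L148838) q7138, e3 q6161 (flp_b L147873) q7033, e3 q6162 (flp_b L147884) q7034, e3 q6163 (flp_b L147894) q7035, e3 q6164 (flp_b L147900) q7036, e3 q6165 L149229 q7176, e3 q6166 (flp_b L147917) q7038, e3 q6167 (flp_b L147922) q7039, e3 q6168 L139929 q5166, e3 q6169 L139941 q5167, e3 q6170 L149292 q7183, e3 q6171 L139963 q5169, e3 q6172 L139975 q5170, e3 q6173 (flp_b L139985) q5156, e3 q6174 (flp_b L149361) q7188, e3 q6175 (flp_b L149372) q7189, e3 q6176 L140011 q5174, e3 q6177 (flp_b L140017) q5159, e3 q6178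 L140036 q5597, e3 q6179 L140054 q6179, e3 q6180 L140061 q5162, e3 q6181 (flp_b L149399) q7192, e3 q6182 (flp_b L149281) q7182, e3 q6183 (flp_b L140091) q5168, e3 q6184 (flp_b L149413) q7193, e3 q6185 (flp_b L149333) q7186, e3 q6186 L140140 q5182, e3 q6187 L140148 q5172, e3 q6188 L140159 q5173, e3 q6189 (flp_b L149439) q7195, e3 q6190 (flp_b L149427) q7194, e3 q6191 L140190 q5190, e3 q6192 L140203 q5217, e3 q6193 L140213 q5218, e3 q6194 L140227 q5191, e3 q6195 (flp_b L144792) q6701, e3 q6196 L140252 q5907, e3 q6197 (flp_b L140260) q5194, e3 q6198 (flp_b L149496) q7199, e3 q6199 L140281 q5910, e3 q6200 L140290 q5203, e3 q6201 L140305 q5396, e3 q6202 L140321 q5204, e3 q6203 (flp_b L149492) q7198, e3 q6204 L140347 q5201, e3 q6205 L140362 q5847, e3 q6206 L140378 q5798, e3 q6207 L140391 q5927, trivial⟩ (by decide +kernel)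

theorem ce_b_97 : ∀ r, r < 64 → sm gb (Qf (6208 + r)) = Qf (tab Gen.b (6208 + r)) :=
  edges_tab (sm gb) Qf (tab Gen.b) 6208 [(6208, 5207), (6209, 5887), (6210, 6210), (6211, 5222), (6212, 5223), (6213, 5224), (6214, 5225), (6215, 7209), (6216, 5227), (6217, 5228), (6218, 5502), (6219, 5701), (6220, 5229), (6221, 6591), (6222, 7184), (6223, 6592), (6224, 5708), (6225, 5230), (6226, 5231), (6227, 7206), (6228, 7220), (6229, 7208), (6230, 5226), (6231, 7224), (6232, 7212), (6233, 7213), (6234, 7218), (6235, 6476), (6236, 5232), (6237, 7227), (6238, 5985), (6239, 5248), (6240, 5235), (6241, 7230), (6242, 5388), (6243, 7006), (6244, 5389), (6245, 7223), (6246, 5241), (6247, 7234), (6248, 5394), (6249, 5849), (6250, 7229), (6251, 5250), (6252, 7238), (6253, 6035), (6254, 6254), (6255, 6255), (6256, 6256), (6257, 6257), (6258, 5280), (6259, 5281), (6260, 5282), (6261, 7250), (6262, 5284), (6263, 5285), (6264, 5286), (6265, 5287), (6266, 7259), (6267, 5289), (6268, 5290), (6269, 5262), (6270,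 7266), (6271, 7267)]
    ⟨e3 q6208 L140399 q5207, e3 q6209 L140415 q5887, e3 q6210 L140427 q6210, e3 q6211 L140440 q5222, e3 q6212 L140454 q5223, e3 q6213 L140468 q5224, e3 q6214 L140480 q5225, e3 q6215 L149626 q7209, e3 q6216 L140502 q5227, e3 q6217 L140514 q5228, e3 q6218 L140524 q5502, e3 q6219 L140536 q5701, e3 q6220 L140552 q5229, e3 q6221 (flp_b L143781) q6591, e3 q6222 (flp_b L149309) q7184, e3 q6223 (flp_b L143792) q6592, e3 q6224 L140590 q5708, e3 q6225 L140603 q5230, e3 q6226 L140613 q5231, e3 q6227 (flp_b L149592) q7206, e3 q6228 L149744 q7220, e3 q6229 (flp_b L149618) q7208, e3 q6230 (flp_b L140654) q5226, e3 q6231 (flp_b L149788) q7224, e3 q6232 (flp_b L149658) q7212, e3 q6233 (flp_b L149670) q7213, e3 q6234 (flp_b L149722) q7218, e3 q6235 L142799 q6476, e3 q6236 (flp_b L140711) q5232, e3 q6237 (flp_b L149816) q7227, e3 q6238 L140730 q5985, e3 q6239 L140744 q5248, e3 q6240 L140748 q5235, e3 q6241 (flp_b L149845) q7230, e3 q6242 L140765 q5388, e3 q6243 (flp_b L147561) q7006,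 e3 q6244 L140789 q5389, e3 q6245 (flp_b L149784) q7223, e3 q6246 L140809 q5241, e3 q6247 (flp_b L149883) q7234, e3 q6248 L140825 q5394, e3 q6249 L140837 q5849, e3 q6250 (flp_b L149837) q7229, e3 q6251 L140856 q5250, e3 q6252 (flp_b L149923) q7238, e3 q6253 L140878 q6035, e3 q6254 L140887 q6254, e3 q6255 L140900 q6255, e3 q6256 L140911 q6256, e3 q6257 L140916 q6257, e3 q6258 L140925 q5280, e3 q6259 L140935 q5281, e3 q6260 L140947 q5282, e3 q6261 L150038 q7250, e3 q6262 L140965 q5284, e3 q6263 L140977 q5285, e3 q6264 L140985 q5286, e3 q6265 L140993 q5287, e3 q6266 L150115 q7259, e3 q6267 L141010 q5289, e3 q6268 L141022 q5290, e3 q6269 (flp_b L141028) q5262, e3 q6270 (flp_b L150183) q7266, e3 q6271 (flp_b L150189) q7267, trivial⟩ (by decide +kernel)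

theorem ce_b_98 : ∀ r, r < 64 → sm gb (Qf (6272 + r)) = Qf (tab Gen.b (6272 + r)) :=
  edges_tab (sm gb) Qf (tab Gen.b) 6272 [(6272, 5294), (6273, 5295), (6274, 5296), (6275, 6275), (6276, 6276), (6277, 5297), (6278, 5298), (6279, 6279), (6280, 6280), (6281, 6281), (6282, 6282), (6283, 5299), (6284, 5300), (6285, 5301), (6286, 6286), (6287, 6287), (6288, 6288), (6289, 6289), (6290, 6290), (6291, 6291), (6292, 6292), (6293, 5302), (6294, 5303), (6295, 5304), (6296, 7246), (6297, 7247), (6298, 7299), (6299, 7249), (6300, 5283), (6301, 7303), (6302, 7304), (6303, 7253), (6304, 7254), (6305, 7255), (6306, 7257), (6307, 7258), (6308, 5288), (6309, 7311), (6310, 7312), (6311, 7262), (6312, 7263), (6313, 7264), (6314, 5328), (6315, 5292), (6316, 5293), (6317, 7319), (6318, 7320), (6319, 7321), (6320, 7272), (6321, 7273), (6322, 7274), (6323, 7278), (6324, 7279), (6325, 7287), (6326, 7288), (6327, 7289), (6328, 7296), (6329, 7297), (6330, 6409), (6331, 5306), (6332, 7331), (6333, 5346), (6334,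 5310), (6335, 7334)]
    ⟨e3 q6272 L141048 q5294, e3 q6273 L141056 q5295, e3 q6274 L141066 q5296, e3 q6275 L141072 q6275, e3 q6276 L141083 q6276, e3 q6277 L141095 q5297, e3 q6278 L141104 q5298, e3 q6279 L141116 q6279, e3 q6280 L141121 q6280, e3 q6281 L141132 q6281, e3 q6282 L141141 q6282, e3 q6283 L141154 q5299, e3 q6284 L141164 q5300, e3 q6285 L141174 q5301, e3 q6286 L141186 q6286, e3 q6287 L141193 q6287, e3 q6288 L141201 q6288, e3 q6289 L141209 q6289, e3 q6290 L141219 q6290, e3 q6291 L141228 q6291, e3 q6292 L141240 q6292, e3 q6293 L141248 q5302, e3 q6294 L141257 q5303, e3 q6295 L141267 q5304, e3 q6296 (flp_b L149998) q7246, e3 q6297 (flp_b L150008) q7247, e3 q6298 L150481 q7299, e3 q6299 (flp_b L150030) q7249, e3 q6300 (flp_b L141312) q5283, e3 q6301 (flp_b L150526) q7303, e3 q6302 (flp_b L150536) q7304, e3 q6303 (flp_b L150064) q7253, e3 q6304 (flp_b L150074) q7254, e3 q6305 (flp_b L150086) q7255, e3 q6306 (flp_b L150102) q7257, e3 q6307 (flp_b L150109) q7258, e3 q6308 (flp_b L141373)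 q5288, e3 q6309 (flp_b L150596) q7311, e3 q6310 (flp_b L150607) q7312, e3 q6311 (flp_b L150145) q7262, e3 q6312 (flp_b L150155) q7263, e3 q6313 (flp_b L150167) q7264, e3 q6314 L141432 q5328, e3 q6315 L141436 q5292, e3 q6316 L141441 q5293, e3 q6317 (flp_b L150673) q7319, e3 q6318 (flp_b L150678) q7320, e3 q6319 (flp_b L150685) q7321, e3 q6320 (flp_b L150223) q7272, e3 q6321 (flp_b L150231) q7273, e3 q6322 (flp_b L150241) q7274, e3 q6323 (flp_b L150279) q7278, e3 q6324 (flp_b L150290) q7279, e3 q6325 (flp_b L150370) q7287, e3 q6326 (flp_b L150380) q7288, e3 q6327 (flp_b L150392) q7289, e3 q6328 (flp_b L150456) q7296, e3 q6329 (flp_b L150467) q7297, e3 q6330 (flp_b L142259) q6409, e3 q6331 L141569 q5306, e3 q6332 (flp_b L150777) q7331, e3 q6333 L141588 q5346, e3 q6334 L141597 q5310, e3 q6335 (flp_b L150804) q7334, trivial⟩ (by decide +kernel)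

theorem ce_b_99 : ∀ r, r < 64 → sm gb (Qf (6336 + r)) = Qf (tab Gen.b (6336 + r)) :=
  edges_tab (sm gb) Qf (tab Gen.b) 6336 [(6336, 5387), (6337, 5786), (6338, 5473), (6339, 7302), (6340, 5317), (6341, 7153), (6342, 7339), (6343, 5481), (6344, 5482), (6345, 5391), (6346, 5392), (6347, 5789), (6348, 5790), (6349, 5484), (6350, 5485), (6351, 7317), (6352, 7318), (6353, 5332), (6354, 5333), (6355, 7146), (6356, 7349), (6357, 7350), (6358, 5494), (6359, 5495), (6360, 5496), (6361, 5497), (6362, 5499), (6363, 5500), (6364, 5799), (6365, 7333), (6366, 5348), (6367, 7169), (6368, 5503), (6369, 5504), (6370, 7361), (6371, 5374), (6372, 7052), (6373, 5375), (6374, 5356), (6375, 7366), (6376, 7367), (6377, 5379), (6378, 5380), (6379, 5381), (6380, 6380), (6381, 6381), (6382, 6382), (6383, 6383), (6384, 6384), (6385, 5382), (6386, 6386), (6387, 6387), (6388, 6388), (6389, 6389), (6390, 6390), (6391, 6391), (6392, 6392), (6393, 5383), (6394, 5384), (6395, 5385), (6396, 5373), (6397, 7387), (6398,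 7363), (6399, 7365)]
    ⟨e3 q6336 L141608 q5387, e3 q6337 L141616 q5786, e3 q6338 L141627 q5473, e3 q6339 (flp_b L150522) q7302, e3 q6340 L141648 q5317, e3 q6341 (flp_b L149023) q7153, e3 q6342 (flp_b L150846) q7339, e3 q6343 L141673 q5481, e3 q6344 L141681 q5482, e3 q6345 L141693 q5391, e3 q6346 L141700 q5392, e3 q6347 L141706 q5789, e3 q6348 L141717 q5790, e3 q6349 L141725 q5484, e3 q6350 L141733 q5485, e3 q6351 (flp_b L150656) q7317, e3 q6352 (flp_b L150665) q7318, e3 q6353 L141764 q5332, e3 q6354 L141775 q5333, e3 q6355 (flp_b L148943) q7146, e3 q6356 (flp_b L150938) q7349, e3 q6357 (flp_b L150948) q7350, e3 q6358 L141800 q5494, e3 q6359 L141808 q5495, e3 q6360 L141814 q5496, e3 q6361 L141828 q5497, e3 q6362 L141840 q5499, e3 q6363 L141853 q5500, e3 q6364 L141863 q5799, e3 q6365 (flp_b L150794) q7333, e3 q6366 L141880 q5348, e3 q6367 L149175 q7169, e3 q6368 L141891 q5503, e3 q6369 L141899 q5504, e3 q6370 L151036 q7361, e3 q6371 L141917 q5374, e3 q6372 (flp_b L148040) q7052, e3 q6373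 L141931 q5375, e3 q6374 (flp_b L141937) q5356, e3 q6375 (flp_b L151078) q7366, e3 q6376 (flp_b L151084) q7367, e3 q6377 L141959 q5379, e3 q6378 L141967 q5380, e3 q6379 L141975 q5381, e3 q6380 L141985 q6380, e3 q6381 L141997 q6381, e3 q6382 L142002 q6382, e3 q6383 L142011 q6383, e3 q6384 L142020 q6384, e3 q6385 L142031 q5382, e3 q6386 L142039 q6386, e3 q6387 L142046 q6387, e3 q6388 L142058 q6388, e3 q6389 L142070 q6389, e3 q6390 L142078 q6390, e3 q6391 L142085 q6391, e3 q6392 L142097 q6392, e3 q6393 L142109 q5383, e3 q6394 L142118 q5384, e3 q6395 L142126 q5385, e3 q6396 (flp_b L142137) q5373, e3 q6397 (flp_b L151258) q7387, e3 q6398 (flp_b L151052) q7363, e3 q6399 (flp_b L151070) q7365, trivial⟩ (by decide +kernel)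

theorem ce_b_100 : ∀ r, r < 64 → sm gb (Qf (6400 + r)) = Qf (tab Gen.b (6400 + r)) :=
  edges_tab (sm gb) Qf (tab Gen.b) 6400 [(6400, 5377), (6401, 5378), (6402, 7389), (6403, 7390), (6404, 7391), (6405, 7372), (6406, 7373), (6407, 7385), (6408, 7386), (6409, 6330), (6410, 7336), (6411, 6997), (6412, 7343), (6413, 7140), (6414, 5509), (6415, 5506), (6416, 5511), (6417, 5512), (6418, 7402), (6419, 5514), (6420, 5515), (6421, 5440), (6422, 5441), (6423, 5802), (6424, 5442), (6425, 5443), (6426, 5406), (6427, 7413), (6428, 7414), (6429, 5447), (6430, 5448), (6431, 5449), (6432, 5805), (6433, 5806), (6434, 5450), (6435, 5451), (6436, 5452), (6437, 7265), (6438, 5413), (6439, 5414), (6440, 7431), (6441, 7432), (6442, 7433), (6443, 7434), (6444, 5459), (6445, 5460), (6446, 5461), (6447, 5532), (6448, 5533), (6449, 5534), (6450, 5535), (6451, 5462), (6452, 5463), (6453, 5464), (6454, 5539), (6455, 5540), (6456, 5541), (6457, 5542), (6458, 5543), (6459, 5544), (6460, 5545), (6461, 5465), (6462,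 5466), (6463, 5467)]
    ⟨e3 q6400 L142175 q5377, e3 q6401 L142180 q5378, e3 q6402 (flp_b L151276) q7389, e3 q6403 (flp_b L151283) q7390, e3 q6404 (flp_b L151290) q7391, e3 q6405 (flp_b L151118) q7372, e3 q6406 (flp_b L151128) q7373, e3 q6407 (flp_b L151237) q7385, e3 q6408 (flp_b L151246) q7386, e3 q6409 L142259 q6330, e3 q6410 (flp_b L150815) q7336, e3 q6411 (flp_b L147456) q6997, e3 q6412 (flp_b L150883) q7343, e3 q6413 (flp_b L148865) q7140, e3 q6414 L142295 q5509, e3 q6415 L142305 q5506, e3 q6416 L142313 q5511, e3 q6417 L142319 q5512, e3 q6418 L151372 q7402, e3 q6419 L142333 q5514, e3 q6420 L142339 q5515, e3 q6421 L142347 q5440, e3 q6422 L142355 q5441, e3 q6423 L142365 q5802, e3 q6424 L142371 q5442, e3 q6425 L142381 q5443, e3 q6426 (flp_b L142387) q5406, e3 q6427 (flp_b L151458) q7413, e3 q6428 (flp_b L151468) q7414, e3 q6429 L142407 q5447, e3 q6430 L142415 q5448, e3 q6431 L142423 q5449, e3 q6432 L142429 q5805, e3 q6433 L142437 q5806, e3 q6434 L142445 q5450, e3 q6435 L142451 q5451,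 e3 q6436 L142461 q5452, e3 q6437 (flp_b L150179) q7265, e3 q6438 L142475 q5413, e3 q6439 L142483 q5414, e3 q6440 (flp_b L151596) q7431, e3 q6441 (flp_b L151606) q7432, e3 q6442 (flp_b L151612) q7433, e3 q6443 (flp_b L151622) q7434, e3 q6444 L142511 q5459, e3 q6445 L142517 q5460, e3 q6446 L142525 q5461, e3 q6447 L142531 q5532, e3 q6448 L142537 q5533, e3 q6449 L142546 q5534, e3 q6450 L142558 q5535, e3 q6451 L142569 q5462, e3 q6452 L142578 q5463, e3 q6453 L142587 q5464, e3 q6454 L142597 q5539, e3 q6455 L142603 q5540, e3 q6456 L142609 q5541, e3 q6457 L142615 q5542, e3 q6458 L142625 q5543, e3 q6459 L142635 q5544, e3 q6460 L142645 q5545, e3 q6461 L142653 q5465, e3 q6462 L142661 q5466, e3 q6463 L142671 q5467, trivial⟩ (by decide +kernel)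

theorem ce_b_101 : ∀ r, r < 64 → sm gb (Qf (6464 + r)) = Qf (tab Gen.b (6464 + r)) :=
  edges_tab (sm gb) Qf (tab Gen.b) 6464 [(6464, 5549), (6465, 5550), (6466, 5551), (6467, 5552), (6468, 5553), (6469, 5554), (6470, 5555), (6471, 5556), (6472, 5557), (6473, 5558), (6474, 5468), (6475, 5469), (6476, 6235), (6477, 7410), (6478, 7411), (6479, 5474), (6480, 5445), (6481, 5446), (6482, 7476), (6483, 7477), (6484, 7478), (6485, 7419), (6486, 7420), (6487, 7421), (6488, 7426), (6489, 7427), (6490, 7428), (6491, 5486), (6492, 5487), (6493, 5456), (6494, 5457), (6495, 5458), (6496, 7488), (6497, 7489), (6498, 7490), (6499, 7442), (6500, 7443), (6501, 7444), (6502, 7452), (6503, 7453), (6504, 7464), (6505, 7465), (6506, 7498), (6507, 5470), (6508, 7474), (6509, 7475), (6510, 5478), (6511, 5479), (6512, 7161), (6513, 7501), (6514, 7017), (6515, 7342), (6516, 7002), (6517, 7346), (6518, 7485), (6519, 7486), (6520, 7487), (6521, 5492), (6522, 5493), (6523, 7144), (6524, 7508), (6525, 7509), (6526,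 7354), (6527, 7355)]
    ⟨e3 q6464 L142677 q5549, e3 q6465 L142681 q5550, e3 q6466 L142688 q5551, e3 q6467 L142696 q5552, e3 q6468 L142706 q5553, e3 q6469 L142717 q5554, e3 q6470 L142726 q5555, e3 q6471 L142735 q5556, e3 q6472 L142747 q5557, e3 q6473 L142762 q5558, e3 q6474 L142773 q5468, e3 q6475 L142782 q5469, e3 q6476 (flp_b L142799) q6235, e3 q6477 (flp_b L151434) q7410, e3 q6478 (flp_b L151442) q7411, e3 q6479 L142829 q5474, e3 q6480 L142833 q5445, e3 q6481 L142842 q5446, e3 q6482 (flp_b L151976) q7476, e3 q6483 (flp_b L151983) q7477, e3 q6484 (flp_b L151992) q7478, e3 q6485 (flp_b L151498) q7419, e3 q6486 (flp_b L151506) q7420, e3 q6487 (flp_b L151514) q7421, e3 q6488 (flp_b L151554) q7426, e3 q6489 (flp_b L151562) q7427, e3 q6490 (flp_b L151570) q7428, e3 q6491 L142936 q5486, e3 q6492 L142946 q5487, e3 q6493 L142954 q5456, e3 q6494 L142960 q5457, e3 q6495 L142970 q5458, e3 q6496 (flp_b L152085) q7488, e3 q6497 (flp_b L152093) q7489, e3 q6498 (flp_b L152101) q7490, e3 q6499 (flp_b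 L151664) q7442, e3 q6500 (flp_b L151672) q7443, e3 q6501 (flp_b L151678) q7444, e3 q6502 (flp_b L151753) q7452, e3 q6503 (flp_b L151764) q7453, e3 q6504 (flp_b L151851) q7464, e3 q6505 (flp_b L151861) q7465, e3 q6506 L152168 q7498, e3 q6507 (flp_b L143074) q5470, e3 q6508 (flp_b L151957) q7474, e3 q6509 (flp_b L151968) q7475, e3 q6510 L143108 q5478, e3 q6511 L143117 q5479, e3 q6512 (flp_b L149108) q7161, e3 q6513 (flp_b L152193) q7501, e3 q6514 (flp_b L147692) q7017, e3 q6515 (flp_b L150873) q7342, e3 q6516 (flp_b L147518) q7002, e3 q6517 (flp_b L150909) q7346, e3 q6518 (flp_b L152059) q7485, e3 q6519 (flp_b L152067) q7486, e3 q6520 (flp_b L152079) q7487, e3 q6521 L143192 q5492, e3 q6522 L143200 q5493, e3 q6523 (flp_b L148917) q7144, e3 q6524 (flp_b L152248) q7508, e3 q6525 (flp_b L152254) q7509, e3 q6526 (flp_b L150973) q7354, e3 q6527 (flp_b L150979) q7355, trivial⟩ (by decide +kernel)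

theorem ce_b_102 : ∀ r, r < 64 → sm gb (Qf (6528 + r)) = Qf (tab Gen.b (6528 + r)) :=
  edges_tab (sm gb) Qf (tab Gen.b) 6528 [(6528, 7154), (6529, 5699), (6530, 7214), (6531, 7215), (6532, 7397), (6533, 7359), (6534, 7360), (6535, 7398), (6536, 5510), (6537, 7400), (6538, 7401), (6539, 5513), (6540, 7521), (6541, 7522), (6542, 7405), (6543, 7406), (6544, 7407), (6545, 6545), (6546, 5517), (6547, 5521), (6548, 6548), (6549, 6549), (6550, 5525), (6551, 5526), (6552, 5527), (6553, 5528), (6554, 7534), (6555, 7535), (6556, 7536), (6557, 7537), (6558, 7538), (6559, 7539), (6560, 7540), (6561, 5570), (6562, 5571), (6563, 5572), (6564, 7445), (6565, 7446), (6566, 7447), (6567, 7448), (6568, 7449), (6569, 7450), (6570, 7451), (6571, 5573), (6572, 5574), (6573, 5575), (6574, 7454), (6575, 7455), (6576, 7456), (6577, 7457), (6578, 7458), (6579, 7459), (6580, 7460), (6581, 7461), (6582, 7462), (6583, 7463), (6584, 5576), (6585, 5577), (6586, 7577), (6587, 7467), (6588, 7468), (6589, 7469), (6590,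 7470), (6591, 6221)]
    ⟨e3 q6528 (flp_b L149037) q7154, e3 q6529 L143244 q5699, e3 q6530 (flp_b L149680) q7214, e3 q6531 (flp_b L149692) q7215, e3 q6532 (flp_b L151334) q7397, e3 q6533 (flp_b L151020) q7359, e3 q6534 (flp_b L151030) q7360, e3 q6535 (flp_b L151342) q7398, e3 q6536 L143306 q5510, e3 q6537 (flp_b L151358) q7400, e3 q6538 (flp_b L151366) q7401, e3 q6539 (flp_b L143332) q5513, e3 q6540 (flp_b L152354) q7521, e3 q6541 (flp_b L152363) q7522, e3 q6542 (flp_b L151394) q7405, e3 q6543 (flp_b L151400) q7406, e3 q6544 (flp_b L151408) q7407, e3 q6545 L143383 q6545, e3 q6546 L143386 q5517, e3 q6547 L143397 q5521, e3 q6548 L143406 q6548, e3 q6549 L143416 q6549, e3 q6550 L143426 q5525, e3 q6551 L143434 q5526, e3 q6552 L143442 q5527, e3 q6553 L143452 q5528, e3 q6554 (flp_b L152467) q7534, e3 q6555 (flp_b L152473) q7535, e3 q6556 (flp_b L152482) q7536, e3 q6557 (flp_b L152492) q7537, e3 q6558 (flp_b L152502) q7538, e3 q6559 (flp_b L152511) q7539, e3 q6560 (flp_b L152522) q7540, e3 q6561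 L143522 q5570, e3 q6562 L143534 q5571, e3 q6563 L143543 q5572, e3 q6564 (flp_b L151684) q7445, e3 q6565 (flp_b L151690) q7446, e3 q6566 (flp_b L151698) q7447, e3 q6567 (flp_b L151706) q7448, e3 q6568 (flp_b L151717) q7449, e3 q6569 (flp_b L151728) q7450, e3 q6570 (flp_b L151742) q7451, e3 q6571 L143623 q5573, e3 q6572 L143635 q5574, e3 q6573 L143645 q5575, e3 q6574 (flp_b L151773) q7454, e3 q6575 (flp_b L151779) q7455, e3 q6576 (flp_b L151787) q7456, e3 q6577 (flp_b L151799) q7457, e3 q6578 (flp_b L151807) q7458, e3 q6579 (flp_b L151813) q7459, e3 q6580 (flp_b L151817) q7460, e3 q6581 (flp_b L151827) q7461, e3 q6582 (flp_b L151839) q7462, e3 q6583 (flp_b L151845) q7463, e3 q6584 L143726 q5576, e3 q6585 L143737 q5577, e3 q6586 L152862 q7577, e3 q6587 (flp_b L151873) q7467, e3 q6588 (flp_b L151879) q7468, e3 q6589 (flp_b L151890) q7469, e3 q6590 (flp_b L151902) q7470, e3 q6591 L143781 q6221, trivial⟩ (by decide +kernel)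

theorem ce_b_103 : ∀ r, r < 64 → sm gb (Qf (6592 + r)) = Qf (tab Gen.b (6592 + r)) :=
  edges_tab (sm gb) Qf (tab Gen.b) 6592 [(6592, 6223), (6593, 7471), (6594, 7472), (6595, 5580), (6596, 5581), (6597, 5582), (6598, 5567), (6599, 5568), (6600, 5569), (6601, 7586), (6602, 7587), (6603, 7588), (6604, 7551), (6605, 7552), (6606, 7592), (6607, 7564), (6608, 7565), (6609, 7593), (6610, 5578), (6611, 7583), (6612, 7584), (6613, 7585), (6614, 5586), (6615, 5587), (6616, 5588), (6617, 7597), (6618, 7598), (6619, 7167), (6620, 6739), (6621, 6621), (6622, 5721), (6623, 6623), (6624, 6624), (6625, 5720), (6626, 5628), (6627, 5717), (6628, 5719), (6629, 5629), (6630, 6630), (6631, 6631), (6632, 5630), (6633, 6633), (6634, 6634), (6635, 6635), (6636, 6636), (6637, 6637), (6638, 6638), (6639, 6639), (6640, 5631), (6641, 5632), (6642, 6642), (6643, 6643), (6644, 6644), (6645, 6645), (6646, 6646), (6647, 6647), (6648, 5633), (6649, 5634), (6650, 7608), (6651, 7625), (6652, 5703), (6653, 5704), (6654,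 6654), (6655, 6655)]
    ⟨e3 q6592 L143792 q6223, e3 q6593 (flp_b L151912) q7471, e3 q6594 (flp_b L151925) q7472, e3 q6595 L143828 q5580, e3 q6596 L143836 q5581, e3 q6597 L143846 q5582, e3 q6598 L143854 q5567, e3 q6599 L143862 q5568, e3 q6600 L143869 q5569, e3 q6601 (flp_b L152963) q7586, e3 q6602 (flp_b L152972) q7587, e3 q6603 (flp_b L152980) q7588, e3 q6604 (flp_b L152618) q7551, e3 q6605 (flp_b L152629) q7552, e3 q6606 L153013 q7592, e3 q6607 (flp_b L152752) q7564, e3 q6608 (flp_b L152764) q7565, e3 q6609 L153021 q7593, e3 q6610 (flp_b L143965) q5578, e3 q6611 (flp_b L152935) q7583, e3 q6612 (flp_b L152945) q7584, e3 q6613 (flp_b L152954) q7585, e3 q6614 L143999 q5586, e3 q6615 L144009 q5587, e3 q6616 L144018 q5588, e3 q6617 (flp_b L153058) q7597, e3 q6618 (flp_b L153069) q7598, e3 q6619 (flp_b L149150) q7167, e3 q6620 (flp_b L145115) q6739, e3 q6621 L144056 q6621, e3 q6622 (flp_b L144074) q5721, e3 q6623 L144080 q6623, e3 q6624 L144086 q6624, e3 q6625 L144094 q5720, e3 q6626 L144106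 q5628, e3 q6627 L144115 q5717, e3 q6628 L144128 q5719, e3 q6629 L144139 q5629, e3 q6630 L144152 q6630, e3 q6631 L144164 q6631, e3 q6632 L144174 q5630, e3 q6633 L144187 q6633, e3 q6634 L144194 q6634, e3 q6635 L144200 q6635, e3 q6636 L144212 q6636, e3 q6637 L144221 q6637, e3 q6638 L144232 q6638, e3 q6639 L144243 q6639, e3 q6640 L144255 q5631, e3 q6641 L144269 q5632, e3 q6642 L144279 q6642, e3 q6643 L144286 q6643, e3 q6644 L144297 q6644, e3 q6645 L144309 q6645, e3 q6646 L144319 q6646, e3 q6647 L144329 q6647, e3 q6648 L144338 q5633, e3 q6649 L144347 q5634, e3 q6650 (flp_b L153169) q7608, e3 q6651 (flp_b L153353) q7625, e3 q6652 L144378 q5703, e3 q6653 L144389 q5704, e3 q6654 L144402 q6654, e3 q6655 L144415 q6655, trivial⟩ (by decide +kernel)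

theorem ce_b_104 : ∀ r, r < 64 → sm gb (Qf (6656 + r)) = Qf (tab Gen.b (6656 + r)) :=
  edges_tab (sm gb) Qf (tab Gen.b) 6656 [(6656, 6656), (6657, 6657), (6658, 6658), (6659, 6659), (6660, 6660), (6661, 6661), (6662, 5652), (6663, 5653), (6664, 5709), (6665, 5710), (6666, 6666), (6667, 6667), (6668, 5711), (6669, 5712), (6670, 5713), (6671, 6671), (6672, 6672), (6673, 6673), (6674, 5693), (6675, 5694), (6676, 6676), (6677, 6677), (6678, 6678), (6679, 5715), (6680, 5716), (6681, 5718), (6682, 5725), (6683, 5726), (6684, 5727), (6685, 5728), (6686, 5729), (6687, 5730), (6688, 5731), (6689, 5732), (6690, 5733), (6691, 5734), (6692, 5695), (6693, 5696), (6694, 7668), (6695, 5738), (6696, 5739), (6697, 5740), (6698, 5741), (6699, 5743), (6700, 5744), (6701, 6195), (6702, 7648), (6703, 5697), (6704, 5943), (6705, 5944), (6706, 5900), (6707, 7629), (6708, 7630), (6709, 7634), (6710, 7635), (6711, 7640), (6712, 7641), (6713, 7642), (6714, 7653), (6715, 7654), (6716, 7655), (6717, 7609), (6718,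 7656), (6719, 7610)]
    ⟨e3 q6656 L144423 q6656, e3 q6657 L144428 q6657, e3 q6658 L144435 q6658, e3 q6659 L144443 q6659, e3 q6660 L144459 q6660, e3 q6661 L144471 q6661, e3 q6662 L144480 q5652, e3 q6663 L144487 q5653, e3 q6664 L144496 q5709, e3 q6665 L144503 q5710, e3 q6666 L144513 q6666, e3 q6667 L144519 q6667, e3 q6668 L144527 q5711, e3 q6669 L144533 q5712, e3 q6670 L144539 q5713, e3 q6671 L144545 q6671, e3 q6672 L144548 q6672, e3 q6673 L144556 q6673, e3 q6674 L144563 q5693, e3 q6675 L144570 q5694, e3 q6676 L144577 q6676, e3 q6677 L144584 q6677, e3 q6678 L144590 q6678, e3 q6679 L144596 q5715, e3 q6680 L144602 q5716, e3 q6681 L144609 q5718, e3 q6682 L144618 q5725, e3 q6683 L144629 q5726, e3 q6684 L144639 q5727, e3 q6685 L144649 q5728, e3 q6686 L144657 q5729, e3 q6687 L144662 q5730, e3 q6688 L144667 q5731, e3 q6689 L144677 q5732, e3 q6690 L144687 q5733, e3 q6691 L144691 q5734, e3 q6692 L144698 q5695, e3 q6693 L144706 q5696, e3 q6694 L153743 q7668, e3 q6695 L144714 q5738, e3 q6696 L144722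 q5739, e3 q6697 L144734 q5740, e3 q6698 L144749 q5741, e3 q6699 L144760 q5743, e3 q6700 L144771 q5744, e3 q6701 L144792 q6195, e3 q6702 (flp_b L153576) q7648, e3 q6703 (flp_b L144804) q5697, e3 q6704 L144811 q5943, e3 q6705 L144821 q5944, e3 q6706 L144834 q5900, e3 q6707 (flp_b L153403) q7629, e3 q6708 (flp_b L153417) q7630, e3 q6709 (flp_b L153464) q7634, e3 q6710 (flp_b L153476) q7635, e3 q6711 (flp_b L153521) q7640, e3 q6712 (flp_b L153531) q7641, e3 q6713 (flp_b L153538) q7642, e3 q6714 (flp_b L153622) q7653, e3 q6715 (flp_b L153632) q7654, e3 q6716 (flp_b L153644) q7655, e3 q6717 (flp_b L153180) q7609, e3 q6718 (flp_b L153654) q7656, e3 q6719 (flp_b L153192) q7610, trivial⟩ (by decide +kernel)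

theorem ce_b_105 : ∀ r, r < 64 → sm gb (Qf (6720 + r)) = Qf (tab Gen.b (6720 + r)) :=
  edges_tab (sm gb) Qf (tab Gen.b) 6720 [(6720, 7611), (6721, 7607), (6722, 7606), (6723, 7602), (6724, 5745), (6725, 5746), (6726, 7690), (6727, 7657), (6728, 7658), (6729, 7659), (6730, 7660), (6731, 7661), (6732, 7662), (6733, 7663), (6734, 7664), (6735, 7695), (6736, 7666), (6737, 5737), (6738, 7600), (6739, 6620), (6740, 7669), (6741, 5747), (6742, 6742), (6743, 6743), (6744, 7699), (6745, 5770), (6746, 5771), (6747, 5754), (6748, 7704), (6749, 7705), (6750, 5775), (6751, 5776), (6752, 5777), (6753, 6753), (6754, 6754), (6755, 6755), (6756, 6756), (6757, 5778), (6758, 5779), (6759, 5780), (6760, 6760), (6761, 6761), (6762, 6762), (6763, 6763), (6764, 6764), (6765, 6765), (6766, 6766), (6767, 5781), (6768, 5782), (6769, 5783), (6770, 5769), (6771, 7730), (6772, 7702), (6773, 7703), (6774, 5773), (6775, 5774), (6776, 7733), (6777, 7734), (6778, 7710), (6779, 7711), (6780, 7719), (6781, 7720), (6782,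 7721), (6783, 7728)]
    ⟨e3 q6720 (flp_b L153203) q7611, e3 q6721 (flp_b L153158) q7607, e3 q6722 (flp_b L153150) q7606, e3 q6723 (flp_b L153112) q7602, e3 q6724 L144989 q5745, e3 q6725 L144999 q5746, e3 q6726 L153946 q7690, e3 q6727 (flp_b L153661) q7657, e3 q6728 (flp_b L153672) q7658, e3 q6729 (flp_b L153682) q7659, e3 q6730 (flp_b L153692) q7660, e3 q6731 (flp_b L153698) q7661, e3 q6732 (flp_b L153705) q7662, e3 q6733 (flp_b L153711) q7663, e3 q6734 (flp_b L153721) q7664, e3 q6735 L153990 q7695, e3 q6736 (flp_b L153733) q7666, e3 q6737 (flp_b L145092) q5737, e3 q6738 (flp_b L153086) q7600, e3 q6739 L145115 q6620, e3 q6740 (flp_b L153751) q7669, e3 q6741 (flp_b L145141) q5747, e3 q6742 L145151 q6742, e3 q6743 L145158 q6743, e3 q6744 L154019 q7699, e3 q6745 L145172 q5770, e3 q6746 L145181 q5771, e3 q6747 (flp_b L145185) q5754, e3 q6748 (flp_b L154058) q7704, e3 q6749 (flp_b L154064) q7705, e3 q6750 L145209 q5775, e3 q6751 L145217 q5776, e3 q6752 L145227 q5777, e3 q6753 L145233 q6753,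 e3 q6754 L145240 q6754, e3 q6755 L145250 q6755, e3 q6756 L145259 q6756, e3 q6757 L145269 q5778, e3 q6758 L145278 q5779, e3 q6759 L145288 q5780, e3 q6760 L145297 q6760, e3 q6761 L145304 q6761, e3 q6762 L145317 q6762, e3 q6763 L145331 q6763, e3 q6764 L145340 q6764, e3 q6765 L145349 q6765, e3 q6766 L145362 q6766, e3 q6767 L145373 q5781, e3 q6768 L145382 q5782, e3 q6769 L145391 q5783, e3 q6770 (flp_b L145399) q5769, e3 q6771 (flp_b L154300) q7730, e3 q6772 (flp_b L154043) q7702, e3 q6773 (flp_b L154052) q7703, e3 q6774 L145426 q5773, e3 q6775 L145431 q5774, e3 q6776 (flp_b L154321) q7733, e3 q6777 (flp_b L154328) q7734, e3 q6778 (flp_b L154102) q7710, e3 q6779 (flp_b L154112) q7711, e3 q6780 (flp_b L154189) q7719, e3 q6781 (flp_b L154199) q7720, e3 q6782 (flp_b L154210) q7721, e3 q6783 (flp_b L154279) q7728, trivial⟩ (by decide +kernel)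

theorem ce_b_106 : ∀ r, r < 64 → sm gb (Qf (6784 + r)) = Qf (tab Gen.b (6784 + r)) :=
  edges_tab (sm gb) Qf (tab Gen.b) 6784 [(6784, 7729), (6785, 6117), (6786, 5785), (6787, 7742), (6788, 7337), (6789, 5840), (6790, 7344), (6791, 7345), (6792, 5842), (6793, 5843), (6794, 5844), (6795, 5845), (6796, 7750), (6797, 7356), (6798, 7399), (6799, 5851), (6800, 5852), (6801, 7408), (6802, 7409), (6803, 5827), (6804, 5828), (6805, 5829), (6806, 7422), (6807, 7423), (6808, 7424), (6809, 7425), (6810, 5830), (6811, 5831), (6812, 5832), (6813, 5853), (6814, 5854), (6815, 5855), (6816, 5856), (6817, 5857), (6818, 5858), (6819, 5859), (6820, 5833), (6821, 5834), (6822, 5835), (6823, 5863), (6824, 5864), (6825, 5865), (6826, 5866), (6827, 5867), (6828, 5868), (6829, 5869), (6830, 5870), (6831, 5871), (6832, 5872), (6833, 5836), (6834, 5837), (6835, 5979), (6836, 7760), (6837, 7761), (6838, 7769), (6839, 7770), (6840, 7771), (6841, 7782), (6842, 7783), (6843, 7802), (6844, 7791), (6845, 7803), (6846,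 7793), (6847, 5838)]
    ⟨e3 q6784 (flp_b L154289) q7729, e3 q6785 L145512 q6117, e3 q6786 L145517 q5785, e3 q6787 (flp_b L154381) q7742, e3 q6788 (flp_b L150825) q7337, e3 q6789 L145536 q5840, e3 q6790 (flp_b L150889) q7344, e3 q6791 (flp_b L150901) q7345, e3 q6792 L145554 q5842, e3 q6793 L145560 q5843, e3 q6794 L145566 q5844, e3 q6795 L145576 q5845, e3 q6796 L154421 q7750, e3 q6797 (flp_b L150991) q7356, e3 q6798 (flp_b L151352) q7399, e3 q6799 L145597 q5851, e3 q6800 L145604 q5852, e3 q6801 (flp_b L151414) q7408, e3 q6802 (flp_b L151424) q7409, e3 q6803 L145620 q5827, e3 q6804 L145627 q5828, e3 q6805 L145634 q5829, e3 q6806 (flp_b L151522) q7422, e3 q6807 (flp_b L151530) q7423, e3 q6808 (flp_b L151536) q7424, e3 q6809 (flp_b L151546) q7425, e3 q6810 L145660 q5830, e3 q6811 L145666 q5831, e3 q6812 L145674 q5832, e3 q6813 L145680 q5853, e3 q6814 L145686 q5854, e3 q6815 L145693 q5855, e3 q6816 L145701 q5856, e3 q6817 L145710 q5857, e3 q6818 L145720 q5858, e3 q6819 L145729 q5859, e3 q6820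 L145738 q5833, e3 q6821 L145746 q5834, e3 q6822 L145755 q5835, e3 q6823 L145760 q5863, e3 q6824 L145766 q5864, e3 q6825 L145773 q5865, e3 q6826 L145780 q5866, e3 q6827 L145790 q5867, e3 q6828 L145804 q5868, e3 q6829 L145817 q5869, e3 q6830 L145826 q5870, e3 q6831 L145837 q5871, e3 q6832 L145851 q5872, e3 q6833 L145863 q5836, e3 q6834 L145871 q5837, e3 q6835 (flp_b L145888) q5979, e3 q6836 (flp_b L154486) q7760, e3 q6837 (flp_b L154493) q7761, e3 q6838 (flp_b L154541) q7769, e3 q6839 (flp_b L154549) q7770, e3 q6840 (flp_b L154555) q7771, e3 q6841 (flp_b L154636) q7782, e3 q6842 (flp_b L154645) q7783, e3 q6843 L154804 q7802, e3 q6844 (flp_b L154722) q7791, e3 q6845 L154809 q7803, e3 q6846 (flp_b L154743) q7793, e3 q6847 (flp_b L145972) q5838, trivial⟩ (by decide +kernel)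

theorem ce_b_107 : ∀ r, r < 64 → sm gb (Qf (6848 + r)) = Qf (tab Gen.b (6848 + r)) :=
  edges_tab (sm gb) Qf (tab Gen.b) 6848 [(6848, 7152), (6849, 7745), (6850, 7145), (6851, 7748), (6852, 7808), (6853, 7239), (6854, 7031), (6855, 7236), (6856, 5846), (6857, 6022), (6858, 7753), (6859, 7754), (6860, 7755), (6861, 7772), (6862, 7773), (6863, 7774), (6864, 7775), (6865, 7776), (6866, 7777), (6867, 7778), (6868, 7779), (6869, 7780), (6870, 7781), (6871, 5876), (6872, 5877), (6873, 7826), (6874, 7785), (6875, 7786), (6876, 7787), (6877, 7788), (6878, 5948), (6879, 5950), (6880, 7789), (6881, 7790), (6882, 5906), (6883, 5951), (6884, 5879), (6885, 6893), (6886, 5881), (6887, 5875), (6888, 7823), (6889, 7834), (6890, 7825), (6891, 5878), (6892, 6895), (6893, 6885), (6894, 5880), (6895, 6892), (6896, 5891), (6897, 7835), (6898, 6899), (6899, 6898), (6900, 5901), (6901, 5902), (6902, 5903), (6903, 5949), (6904, 5904), (6905, 5905), (6906, 7673), (6907, 7836), (6908, 7837), (6909, 7839), (6910,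 7832), (6911, 7197)]
    ⟨e3 q6848 (flp_b L149009) q7152, e3 q6849 (flp_b L154397) q7745, e3 q6850 (flp_b L148931) q7145, e3 q6851 (flp_b L154411) q7748, e3 q6852 L154849 q7808, e3 q6853 (flp_b L149934) q7239, e3 q6854 (flp_b L147845) q7031, e3 q6855 (flp_b L149899) q7236, e3 q6856 (flp_b L146028) q5846, e3 q6857 L146047 q6022, e3 q6858 (flp_b L154443) q7753, e3 q6859 (flp_b L154452) q7754, e3 q6860 (flp_b L154459) q7755, e3 q6861 (flp_b L154561) q7772, e3 q6862 (flp_b L154569) q7773, e3 q6863 (flp_b L154575) q7774, e3 q6864 (flp_b L154582) q7775, e3 q6865 (flp_b L154590) q7776, e3 q6866 (flp_b L154597) q7777, e3 q6867 (flp_b L154603) q7778, e3 q6868 (flp_b L154613) q7779, e3 q6869 (flp_b L154624) q7780, e3 q6870 (flp_b L154629) q7781, e3 q6871 L146139 q5876, e3 q6872 L146149 q5877, e3 q6873 L154975 q7826, e3 q6874 (flp_b L154655) q7785, e3 q6875 (flp_b L154663) q7786, e3 q6876 (flp_b L154674) q7787, e3 q6877 (flp_b L154687) q7788, e3 q6878 L146192 q5948, e3 q6879 L146205 q5950, e3 q6880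 (flp_b L154699) q7789, e3 q6881 (flp_b L154711) q7790, e3 q6882 L146238 q5906, e3 q6883 L146247 q5951, e3 q6884 L146260 q5879, e3 q6885 (flp_b L146339) q6893, e3 q6886 L146277 q5881, e3 q6887 (flp_b L146282) q5875, e3 q6888 (flp_b L154955) q7823, e3 q6889 L155056 q7834, e3 q6890 (flp_b L154969) q7825, e3 q6891 (flp_b L146316) q5878, e3 q6892 (flp_b L146361) q6895, e3 q6893 L146339 q6885, e3 q6894 (flp_b L146347) q5880, e3 q6895 L146361 q6892, e3 q6896 L146380 q5891, e3 q6897 (flp_b L155065) q7835, e3 q6898 (flp_b L146412) q6899, e3 q6899 L146412 q6898, e3 q6900 L146417 q5901, e3 q6901 L146429 q5902, e3 q6902 L146440 q5903, e3 q6903 L146449 q5949, e3 q6904 L146457 q5904, e3 q6905 L146467 q5905, e3 q6906 (flp_b L153800) q7673, e3 q6907 (flp_b L155070) q7836, e3 q6908 (flp_b L155085) q7837, e3 q6909 (flp_b L155110) q7839, e3 q6910 (flp_b L155042) q7832, e3 q6911 (flp_b L149468) q7197, trivial⟩ (by decide +kernel)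

theorem ce_b_108 : ∀ r, r < 64 → sm gb (Qf (6912 + r)) = Qf (tab Gen.b (6912 + r)) :=
  edges_tab (sm gb) Qf (tab Gen.b) 6912 [(6912, 5918), (6913, 5909), (6914, 7841), (6915, 7840), (6916, 5920), (6917, 6988), (6918, 5926), (6919, 7202), (6920, 6920), (6921, 6921), (6922, 5955), (6923, 5956), (6924, 5957), (6925, 7851), (6926, 5959), (6927, 5960), (6928, 5961), (6929, 5962), (6930, 7860), (6931, 5964), (6932, 5965), (6933, 5938), (6934, 7866), (6935, 7867), (6936, 5969), (6937, 5970), (6938, 5971), (6939, 5972), (6940, 5973), (6941, 7513), (6942, 7670), (6943, 7671), (6944, 7672), (6945, 5974), (6946, 5975), (6947, 5976), (6948, 7829), (6949, 7838), (6950, 7830), (6951, 5977), (6952, 5978), (6953, 7846), (6954, 7847), (6955, 7890), (6956, 7849), (6957, 7850), (6958, 5958), (6959, 7895), (6960, 7896), (6961, 7854), (6962, 7855), (6963, 7856), (6964, 7901), (6965, 7858), (6966, 7859), (6967, 5963), (6968, 7906), (6969, 7863), (6970, 7864), (6971, 6007), (6972, 5967), (6973, 5968), (6974,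 7911), (6975, 7912)]
    ⟨e3 q6912 L146569 q5918, e3 q6913 L146573 q5909, e3 q6914 (flp_b L155135) q7841, e3 q6915 (flp_b L155124) q7840, e3 q6916 L146611 q5920, e3 q6917 (flp_b L147354) q6988, e3 q6918 L146638 q5926, e3 q6919 (flp_b L149536) q7202, e3 q6920 L146665 q6920, e3 q6921 L146672 q6921, e3 q6922 L146684 q5955, e3 q6923 L146696 q5956, e3 q6924 L146706 q5957, e3 q6925 L155245 q7851, e3 q6926 L146725 q5959, e3 q6927 L146734 q5960, e3 q6928 L146744 q5961, e3 q6929 L146754 q5962, e3 q6930 L155336 q7860, e3 q6931 L146773 q5964, e3 q6932 L146785 q5965, e3 q6933 (flp_b L146791) q5938, e3 q6934 (flp_b L155398) q7866, e3 q6935 (flp_b L155406) q7867, e3 q6936 L146815 q5969, e3 q6937 L146825 q5970, e3 q6938 L146835 q5971, e3 q6939 L146845 q5972, e3 q6940 L146857 q5973, e3 q6941 (flp_b L152285) q7513, e3 q6942 (flp_b L153765) q7670, e3 q6943 (flp_b L153775) q7671, e3 q6944 (flp_b L153786) q7672, e3 q6945 L146899 q5974, e3 q6946 L146910 q5975, e3 q6947 L146920 q5976, e3 q6948 (flp_b L154999)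 q7829, e3 q6949 (flp_b L155099) q7838, e3 q6950 (flp_b L155011) q7830, e3 q6951 L146953 q5977, e3 q6952 L146964 q5978, e3 q6953 (flp_b L155190) q7846, e3 q6954 (flp_b L155204) q7847, e3 q6955 L155630 q7890, e3 q6956 (flp_b L155226) q7849, e3 q6957 (flp_b L155239) q7850, e3 q6958 (flp_b L147030) q5958, e3 q6959 (flp_b L155696) q7895, e3 q6960 (flp_b L155708) q7896, e3 q6961 (flp_b L155273) q7854, e3 q6962 (flp_b L155286) q7855, e3 q6963 (flp_b L155295) q7856, e3 q6964 L155758 q7901, e3 q6965 (flp_b L155315) q7858, e3 q6966 (flp_b L155328) q7859, e3 q6967 (flp_b L147127) q5963, e3 q6968 (flp_b L155825) q7906, e3 q6969 (flp_b L155368) q7863, e3 q6970 (flp_b L155382) q7864, e3 q6971 L147175 q6007, e3 q6972 L147179 q5967, e3 q6973 L147187 q5968, e3 q6974 (flp_b L155883) q7911, e3 q6975 (flp_b L155895) q7912, trivial⟩ (by decide +kernel)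

theorem ce_b_109 : ∀ r, r < 64 → sm gb (Qf (6976 + r)) = Qf (tab Gen.b (6976 + r)) :=
  edges_tab (sm gb) Qf (tab Gen.b) 6976 [(6976, 7913), (6977, 7872), (6978, 7873), (6979, 7874), (6980, 7875), (6981, 7882), (6982, 7883), (6983, 7884), (6984, 7888), (6985, 7792), (6986, 5980), (6987, 7924), (6988, 6917), (6989, 7032), (6990, 6026), (6991, 5984), (6992, 7926), (6993, 6029), (6994, 5988), (6995, 7929), (6996, 6122), (6997, 6411), (6998, 6124), (6999, 6125), (7000, 7894), (7001, 5996), (7002, 6516), (7003, 7935), (7004, 6132), (7005, 6133), (7006, 6243), (7007, 6134), (7008, 6135), (7009, 7905), (7010, 6004), (7011, 7943), (7012, 6142), (7013, 7909), (7014, 7910), (7015, 6011), (7016, 6012), (7017, 6514), (7018, 7948), (7019, 7949), (7020, 6151), (7021, 6152), (7022, 6153), (7023, 6156), (7024, 6158), (7025, 7956), (7026, 6028), (7027, 7925), (7028, 7955), (7029, 7928), (7030, 6031), (7031, 6854), (7032, 6989), (7033, 6161), (7034, 6162), (7035, 6163), (7036, 6164), (7037, 7962), (7038,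 6166), (7039, 6167)]
    ⟨e3 q6976 (flp_b L155905) q7913, e3 q6977 (flp_b L155446) q7872, e3 q6978 (flp_b L155460) q7873, e3 q6979 (flp_b L155472) q7874, e3 q6980 (flp_b L155480) q7875, e3 q6981 (flp_b L155548) q7882, e3 q6982 (flp_b L155562) q7883, e3 q6983 (flp_b L155575) q7884, e3 q6984 (flp_b L155608) q7888, e3 q6985 L154739 q7792, e3 q6986 (flp_b L147325) q5980, e3 q6987 (flp_b L156029) q7924, e3 q6988 L147354 q6917, e3 q6989 (flp_b L147860) q7032, e3 q6990 L147393 q6026, e3 q6991 L147397 q5984, e3 q6992 (flp_b L156055) q7926, e3 q6993 L147420 q6029, e3 q6994 L147426 q5988, e3 q6995 (flp_b L156088) q7929, e3 q6996 L147442 q6122, e3 q6997 L147456 q6411, e3 q6998 L147469 q6124, e3 q6999 L147482 q6125, e3 q7000 (flp_b L155688) q7894, e3 q7001 L147505 q5996, e3 q7002 L147518 q6516, e3 q7003 (flp_b L156165) q7935, e3 q7004 L147540 q6132, e3 q7005 L147553 q6133, e3 q7006 L147561 q6243, e3 q7007 L147575 q6134, e3 q7008 L147588 q6135, e3 q7009 (flp_b L155821) q7905, e3 q7010 L147612 q6004,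 e3 q7011 (flp_b L156271) q7943, e3 q7012 L147634 q6142, e3 q7013 (flp_b L155859) q7909, e3 q7014 (flp_b L155873) q7910, e3 q7015 L147670 q6011, e3 q7016 L147684 q6012, e3 q7017 L147692 q6514, e3 q7018 (flp_b L156333) q7948, e3 q7019 (flp_b L156349) q7949, e3 q7020 L147724 q6151, e3 q7021 L147738 q6152, e3 q7022 L147746 q6153, e3 q7023 L147754 q6156, e3 q7024 L147767 q6158, e3 q7025 L156442 q7956, e3 q7026 L147789 q6028, e3 q7027 (flp_b L156043) q7925, e3 q7028 (flp_b L156431) q7955, e3 q7029 (flp_b L156081) q7928, e3 q7030 L147834 q6031, e3 q7031 L147845 q6854, e3 q7032 L147860 q6989, e3 q7033 L147873 q6161, e3 q7034 L147884 q6162, e3 q7035 L147894 q6163, e3 q7036 L147900 q6164, e3 q7037 L156500 q7962, e3 q7038 L147917 q6166, e3 q7039 L147922 q6167, trivial⟩ (by decide +kernel)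

theorem ce_b_110 : ∀ r, r < 64 → sm gb (Qf (7040 + r)) = Qf (tab Gen.b (7040 + r)) :=
  edges_tab (sm gb) Qf (tab Gen.b) 7040 [(7040, 6080), (7041, 6081), (7042, 6082), (7043, 7971), (7044, 6084), (7045, 6085), (7046, 6044), (7047, 7977), (7048, 7978), (7049, 6089), (7050, 6090), (7051, 6091), (7052, 6372), (7053, 6092), (7054, 6093), (7055, 6049), (7056, 7991), (7057, 7992), (7058, 6097), (7059, 6098), (7060, 6099), (7061, 7865), (7062, 6053), (7063, 6054), (7064, 8002), (7065, 8003), (7066, 8004), (7067, 8005), (7068, 6106), (7069, 6107), (7070, 6108), (7071, 7071), (7072, 7072), (7073, 7073), (7074, 7074), (7075, 6109), (7076, 6110), (7077, 6111), (7078, 7078), (7079, 7079), (7080, 7080), (7081, 7081), (7082, 7082), (7083, 7083), (7084, 7084), (7085, 6112), (7086, 6113), (7087, 6114), (7088, 7088), (7089, 7089), (7090, 7090), (7091, 7091), (7092, 7092), (7093, 7093), (7094, 6115), (7095, 6116), (7096, 7968), (7097, 7970), (7098, 6083), (7099, 8041), (7100, 7974), (7101, 7975), (7102,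 6126), (7103, 6087)]
    ⟨e3 q7040 L147932 q6080, e3 q7041 L147943 q6081, e3 q7042 L147955 q6082, e3 q7043 L156583 q7971, e3 q7044 L147971 q6084, e3 q7045 L147982 q6085, e3 q7046 (flp_b L147988) q6044, e3 q7047 (flp_b L156652) q7977, e3 q7048 (flp_b L156662) q7978, e3 q7049 L148010 q6089, e3 q7050 L148019 q6090, e3 q7051 L148026 q6091, e3 q7052 L148040 q6372, e3 q7053 L148044 q6092, e3 q7054 L148055 q6093, e3 q7055 (flp_b L148063) q6049, e3 q7056 (flp_b L156784) q7991, e3 q7057 (flp_b L156796) q7992, e3 q7058 L148089 q6097, e3 q7059 L148099 q6098, e3 q7060 L148109 q6099, e3 q7061 (flp_b L155394) q7865, e3 q7062 L148123 q6053, e3 q7063 L148129 q6054, e3 q7064 (flp_b L156892) q8002, e3 q7065 (flp_b L156897) q8003, e3 q7066 (flp_b L156905) q8004, e3 q7067 (flp_b L156913) q8005, e3 q7068 L148159 q6106, e3 q7069 L148167 q6107, e3 q7070 L148177 q6108, e3 q7071 L148183 q7071, e3 q7072 L148190 q7072, e3 q7073 L148197 q7073, e3 q7074 L148206 q7074, e3 q7075 L148217 q6109, e3 q7076 L148227 q6110,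 e3 q7077 L148234 q6111, e3 q7078 L148243 q7078, e3 q7079 L148248 q7079, e3 q7080 L148252 q7080, e3 q7081 L148257 q7081, e3 q7082 L148265 q7082, e3 q7083 L148274 q7083, e3 q7084 L148282 q7084, e3 q7085 L148290 q6112, e3 q7086 L148298 q6113, e3 q7087 L148307 q6114, e3 q7088 L148314 q7088, e3 q7089 L148319 q7089, e3 q7090 L148327 q7090, e3 q7091 L148335 q7091, e3 q7092 L148344 q7092, e3 q7093 L148352 q7093, e3 q7094 L148360 q6115, e3 q7095 L148368 q6116, e3 q7096 (flp_b L156548) q7968, e3 q7097 (flp_b L156573) q7970, e3 q7098 (flp_b L148404) q6083, e3 q7099 (flp_b L157196) q8041, e3 q7100 (flp_b L156617) q7974, e3 q7101 (flp_b L156628) q7975, e3 q7102 L148465 q6126, e3 q7103 L148473 q6087, trivial⟩ (by decide +kernel)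

theorem ce_b_111 : ∀ r, r < 64 → sm gb (Qf (7104 + r)) = Qf (tab Gen.b (7104 + r)) :=
  edges_tab (sm gb) Qf (tab Gen.b) 7104 [(7104, 6088), (7105, 8045), (7106, 8046), (7107, 8047), (7108, 7983), (7109, 7984), (7110, 7985), (7111, 7988), (7112, 7989), (7113, 6136), (7114, 6095), (7115, 6096), (7116, 8055), (7117, 8056), (7118, 7997), (7119, 7998), (7120, 7999), (7121, 6143), (7122, 6144), (7123, 6103), (7124, 6104), (7125, 6105), (7126, 8064), (7127, 8065), (7128, 8066), (7129, 8013), (7130, 8014), (7131, 8015), (7132, 8021), (7133, 8022), (7134, 8023), (7135, 8034), (7136, 8035), (7137, 8076), (7138, 6160), (7139, 7931), (7140, 6413), (7141, 7933), (7142, 8044), (7143, 6130), (7144, 6523), (7145, 6850), (7146, 6355), (7147, 7938), (7148, 7939), (7149, 7941), (7150, 8054), (7151, 6139), (7152, 6848), (7153, 6341), (7154, 6528), (7155, 7945), (7156, 8061), (7157, 8062), (7158, 8063), (7159, 6149), (7160, 6150), (7161, 6512), (7162, 8092), (7163, 8093), (7164, 7952), (7165, 7953), (7166,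 8098), (7167, 6619)]
    ⟨e3 q7104 L148483 q6088, e3 q7105 (flp_b L157254) q8045, e3 q7106 (flp_b L157268) q8046, e3 q7107 (flp_b L157278) q8047, e3 q7108 (flp_b L156697) q7983, e3 q7109 (flp_b L156708) q7984, e3 q7110 (flp_b L156717) q7985, e3 q7111 (flp_b L156747) q7988, e3 q7112 (flp_b L156758) q7989, e3 q7113 L148590 q6136, e3 q7114 L148598 q6095, e3 q7115 L148609 q6096, e3 q7116 (flp_b L157374) q8055, e3 q7117 (flp_b L157385) q8056, e3 q7118 (flp_b L156842) q7997, e3 q7119 (flp_b L156856) q7998, e3 q7120 (flp_b L156866) q7999, e3 q7121 L148680 q6143, e3 q7122 L148691 q6144, e3 q7123 L148699 q6103, e3 q7124 L148706 q6104, e3 q7125 L148713 q6105, e3 q7126 (flp_b L157479) q8064, e3 q7127 (flp_b L157490) q8065, e3 q7128 (flp_b L157499) q8066, e3 q7129 (flp_b L156963) q8013, e3 q7130 (flp_b L156973) q8014, e3 q7131 (flp_b L156981) q8015, e3 q7132 (flp_b L157036) q8021, e3 q7133 (flp_b L157049) q8022, e3 q7134 (flp_b L157059) q8023, e3 q7135 (flp_b L157129) q8034, e3 q7136 (flp_b L157140)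 q8035, e3 q7137 L157586 q8076, e3 q7138 L148838 q6160, e3 q7139 (flp_b L156108) q7931, e3 q7140 L148865 q6413, e3 q7141 (flp_b L156138) q7933, e3 q7142 (flp_b L157240) q8044, e3 q7143 L148905 q6130, e3 q7144 L148917 q6523, e3 q7145 L148931 q6850, e3 q7146 L148943 q6355, e3 q7147 (flp_b L156204) q7938, e3 q7148 (flp_b L156218) q7939, e3 q7149 (flp_b L156243) q7941, e3 q7150 (flp_b L157360) q8054, e3 q7151 L148995 q6139, e3 q7152 L149009 q6848, e3 q7153 L149023 q6341, e3 q7154 L149037 q6528, e3 q7155 (flp_b L156297) q7945, e3 q7156 (flp_b L157447) q8061, e3 q7157 (flp_b L157460) q8062, e3 q7158 (flp_b L157471) q8063, e3 q7159 L149085 q6149, e3 q7160 L149098 q6150, e3 q7161 L149108 q6512, e3 q7162 (flp_b L157774) q8092, e3 q7163 (flp_b L157788) q8093, e3 q7164 (flp_b L156391) q7952, e3 q7165 (flp_b L156407) q7953, e3 q7166 L157835 q8098, e3 q7167 L149150 q6619, trivial⟩ (by decide +kernel)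

theorem ce_b_112 : ∀ r, r < 64 → sm gb (Qf (7168 + r)) = Qf (tab Gen.b (7168 + r)) :=
  edges_tab (sm gb) Qf (tab Gen.b) 7168 [(7168, 8100), (7169, 6367), (7170, 6159), (7171, 7958), (7172, 7959), (7173, 8103), (7174, 7877), (7175, 7961), (7176, 6165), (7177, 8110), (7178, 8111), (7179, 7965), (7180, 7966), (7181, 7967), (7182, 6182), (7183, 6170), (7184, 6222), (7185, 8117), (7186, 6185), (7187, 7187), (7188, 6174), (7189, 6175), (7190, 8119), (7191, 8120), (7192, 6181), (7193, 6184), (7194, 6190), (7195, 6189), (7196, 7473), (7197, 6911), (7198, 6203), (7199, 6198), (7200, 8122), (7201, 8121), (7202, 6919), (7203, 7203), (7204, 7204), (7205, 7986), (7206, 6227), (7207, 8127), (7208, 6229), (7209, 6215), (7210, 7969), (7211, 8131), (7212, 6232), (7213, 6233), (7214, 6530), (7215, 6531), (7216, 7580), (7217, 7581), (7218, 6234), (7219, 8126), (7220, 6228), (7221, 8138), (7222, 8129), (7223, 6245), (7224, 6231), (7225, 8141), (7226, 8135), (7227, 6237), (7228, 8143), (7229, 6250), (7230,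 6241), (7231, 8146)]
    ⟨e3 q7168 (flp_b L157857) q8100, e3 q7169 (flp_b L149175) q6367, e3 q7170 (flp_b L149177) q6159, e3 q7171 (flp_b L156468) q7958, e3 q7172 (flp_b L156476) q7959, e3 q7173 L157886 q8103, e3 q7174 (flp_b L155499) q7877, e3 q7175 (flp_b L156494) q7961, e3 q7176 (flp_b L149229) q6165, e3 q7177 (flp_b L157950) q8110, e3 q7178 (flp_b L157960) q8111, e3 q7179 (flp_b L156522) q7965, e3 q7180 (flp_b L156531) q7966, e3 q7181 (flp_b L156538) q7967, e3 q7182 L149281 q6182, e3 q7183 (flp_b L149292) q6170, e3 q7184 L149309 q6222, e3 q7185 (flp_b L158013) q8117, e3 q7186 L149333 q6185, e3 q7187 L149354 q7187, e3 q7188 L149361 q6174, e3 q7189 L149372 q6175, e3 q7190 (flp_b L158042) q8119, e3 q7191 (flp_b L158057) q8120, e3 q7192 L149399 q6181, e3 q7193 L149413 q6184, e3 q7194 L149427 q6190, e3 q7195 L149439 q6189, e3 q7196 (flp_b L151949) q7473, e3 q7197 L149468 q6911, e3 q7198 L149492 q6203, e3 q7199 L149496 q6198, e3 q7200 (flp_b L158087) q8122, e3 q7201 (flp_b L158070) q8121,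 e3 q7202 L149536 q6919, e3 q7203 L149552 q7203, e3 q7204 L149565 q7204, e3 q7205 (flp_b L156725) q7986, e3 q7206 L149592 q6227, e3 q7207 L158154 q8127, e3 q7208 L149618 q6229, e3 q7209 (flp_b L149626) q6215, e3 q7210 (flp_b L156569) q7969, e3 q7211 (flp_b L158204) q8131, e3 q7212 L149658 q6232, e3 q7213 L149670 q6233, e3 q7214 L149680 q6530, e3 q7215 L149692 q6531, e3 q7216 (flp_b L152889) q7580, e3 q7217 (flp_b L152903) q7581, e3 q7218 L149722 q6234, e3 q7219 (flp_b L158142) q8126, e3 q7220 (flp_b L149744) q6228, e3 q7221 (flp_b L158284) q8138, e3 q7222 (flp_b L158182) q8129, e3 q7223 L149784 q6245, e3 q7224 L149788 q6231, e3 q7225 (flp_b L158316) q8141, e3 q7226 (flp_b L158246) q8135, e3 q7227 L149816 q6237, e3 q7228 (flp_b L158334) q8143, e3 q7229 L149837 q6250, e3 q7230 L149845 q6241, e3 q7231 (flp_b L158371) q8146, trivial⟩ (by decide +kernel)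

theorem ce_b_113 : ∀ r, r < 64 → sm gb (Qf (7232 + r)) = Qf (tab Gen.b (7232 + r)) :=
  edges_tab (sm gb) Qf (tab Gen.b) 7232 [(7232, 7940), (7233, 8140), (7234, 6247), (7235, 8150), (7236, 6855), (7237, 8145), (7238, 6252), (7239, 6853), (7240, 7240), (7241, 7241), (7242, 7242), (7243, 8157), (7244, 7244), (7245, 7245), (7246, 6296), (7247, 6297), (7248, 8165), (7249, 6299), (7250, 6261), (7251, 8169), (7252, 8170), (7253, 6303), (7254, 6304), (7255, 6305), (7256, 8130), (7257, 6306), (7258, 6307), (7259, 6266), (7260, 8181), (7261, 8182), (7262, 6311), (7263, 6312), (7264, 6313), (7265, 6437), (7266, 6270), (7267, 6271), (7268, 8191), (7269, 8192), (7270, 8193), (7271, 8194), (7272, 6320), (7273, 6321), (7274, 6322), (7275, 7275), (7276, 7276), (7277, 7277), (7278, 6323), (7279, 6324), (7280, 7280), (7281, 7281), (7282, 7282), (7283, 7283), (7284, 7284), (7285, 7285), (7286, 7286), (7287, 6325), (7288, 6326), (7289, 6327), (7290, 7290), (7291, 7291), (7292, 7292), (7293, 7293), (7294,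 7294), (7295, 7295)]
    ⟨e3 q7232 (flp_b L156227) q7940, e3 q7233 (flp_b L158308) q8140, e3 q7234 L149883 q6247, e3 q7235 (flp_b L158411) q8150, e3 q7236 L149899 q6855, e3 q7237 (flp_b L158358) q8145, e3 q7238 L149923 q6252, e3 q7239 L149934 q6853, e3 q7240 L149947 q7240, e3 q7241 L149958 q7241, e3 q7242 L149965 q7242, e3 q7243 L158480 q8157, e3 q7244 L149984 q7244, e3 q7245 L149991 q7245, e3 q7246 L149998 q6296, e3 q7247 L150008 q6297, e3 q7248 L158538 q8165, e3 q7249 L150030 q6299, e3 q7250 (flp_b L150038) q6261, e3 q7251 (flp_b L158586) q8169, e3 q7252 (flp_b L158596) q8170, e3 q7253 L150064 q6303, e3 q7254 L150074 q6304, e3 q7255 L150086 q6305, e3 q7256 (flp_b L158200) q8130, e3 q7257 L150102 q6306, e3 q7258 L150109 q6307, e3 q7259 (flp_b L150115) q6266, e3 q7260 (flp_b L158695) q8181, e3 q7261 (flp_b L158707) q8182, e3 q7262 L150145 q6311, e3 q7263 L150155 q6312, e3 q7264 L150167 q6313, e3 q7265 L150179 q6437, e3 q7266 L150183 q6270, e3 q7267 L150189 q6271, e3 q7268 (flp_b L158795)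 q8191, e3 q7269 (flp_b L158800) q8192, e3 q7270 (flp_b L158806) q8193, e3 q7271 (flp_b L158814) q8194, e3 q7272 L150223 q6320, e3 q7273 L150231 q6321, e3 q7274 L150241 q6322, e3 q7275 L150249 q7275, e3 q7276 L150256 q7276, e3 q7277 L150266 q7277, e3 q7278 L150279 q6323, e3 q7279 L150290 q6324, e3 q7280 L150301 q7280, e3 q7281 L150308 q7281, e3 q7282 L150315 q7282, e3 q7283 L150322 q7283, e3 q7284 L150333 q7284, e3 q7285 L150344 q7285, e3 q7286 L150357 q7286, e3 q7287 L150370 q6325, e3 q7288 L150380 q6326, e3 q7289 L150392 q6327, e3 q7290 L150404 q7290, e3 q7291 L150409 q7291, e3 q7292 L150417 q7292, e3 q7293 L150426 q7293, e3 q7294 L150435 q7294, e3 q7295 L150445 q7295, trivial⟩ (by decide +kernel)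

theorem ce_b_114 : ∀ r, r < 64 → sm gb (Qf (7296 + r)) = Qf (tab Gen.b (7296 + r)) :=
  edges_tab (sm gb) Qf (tab Gen.b) 7296 [(7296, 6328), (7297, 6329), (7298, 8164), (7299, 6298), (7300, 8228), (7301, 8167), (7302, 6339), (7303, 6301), (7304, 6302), (7305, 8231), (7306, 8232), (7307, 8175), (7308, 8176), (7309, 8179), (7310, 8180), (7311, 6309), (7312, 6310), (7313, 8237), (7314, 8238), (7315, 8187), (7316, 8188), (7317, 6351), (7318, 6352), (7319, 6317), (7320, 6318), (7321, 6319), (7322, 8244), (7323, 8245), (7324, 8246), (7325, 8202), (7326, 8203), (7327, 8204), (7328, 8210), (7329, 8221), (7330, 8222), (7331, 6332), (7332, 8252), (7333, 6365), (7334, 6335), (7335, 8256), (7336, 6410), (7337, 6788), (7338, 8230), (7339, 6342), (7340, 8087), (7341, 8259), (7342, 6515), (7343, 6412), (7344, 6790), (7345, 6791), (7346, 6517), (7347, 8242), (7348, 8243), (7349, 6356), (7350, 6357), (7351, 8081), (7352, 8265), (7353, 8097), (7354, 6526), (7355, 6527), (7356, 6797), (7357, 8254), (7358,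 8267), (7359, 6533)]
    ⟨e3 q7296 L150456 q6328, e3 q7297 L150467 q6329, e3 q7298 (flp_b L158532) q8164, e3 q7299 (flp_b L150481) q6298, e3 q7300 (flp_b L159133) q8228, e3 q7301 (flp_b L158564) q8167, e3 q7302 L150522 q6339, e3 q7303 L150526 q6301, e3 q7304 L150536 q6302, e3 q7305 (flp_b L159163) q8231, e3 q7306 (flp_b L159173) q8232, e3 q7307 (flp_b L158638) q8175, e3 q7308 (flp_b L158648) q8176, e3 q7309 (flp_b L158678) q8179, e3 q7310 (flp_b L158687) q8180, e3 q7311 L150596 q6309, e3 q7312 L150607 q6310, e3 q7313 (flp_b L159218) q8237, e3 q7314 (flp_b L159229) q8238, e3 q7315 (flp_b L158751) q8187, e3 q7316 (flp_b L158761) q8188, e3 q7317 L150656 q6351, e3 q7318 L150665 q6352, e3 q7319 L150673 q6317, e3 q7320 L150678 q6318, e3 q7321 L150685 q6319, e3 q7322 (flp_b L159284) q8244, e3 q7323 (flp_b L159291) q8245, e3 q7324 (flp_b L159297) q8246, e3 q7325 (flp_b L158870) q8202, e3 q7326 (flp_b L158880) q8203, e3 q7327 (flp_b L158888) q8204, e3 q7328 (flp_b L158951) q8210, e3 q7329 (flp_b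 L159058) q8221, e3 q7330 (flp_b L159072) q8222, e3 q7331 L150777 q6332, e3 q7332 (flp_b L159346) q8252, e3 q7333 L150794 q6365, e3 q7334 L150804 q6335, e3 q7335 (flp_b L159377) q8256, e3 q7336 L150815 q6410, e3 q7337 L150825 q6788, e3 q7338 (flp_b L159156) q8230, e3 q7339 L150846 q6342, e3 q7340 (flp_b L157715) q8087, e3 q7341 (flp_b L159404) q8259, e3 q7342 L150873 q6515, e3 q7343 L150883 q6412, e3 q7344 L150889 q6790, e3 q7345 L150901 q6791, e3 q7346 L150909 q6517, e3 q7347 (flp_b L159267) q8242, e3 q7348 (flp_b L159278) q8243, e3 q7349 L150938 q6356, e3 q7350 L150948 q6357, e3 q7351 (flp_b L157645) q8081, e3 q7352 (flp_b L159463) q8265, e3 q7353 (flp_b L157833) q8097, e3 q7354 L150973 q6526, e3 q7355 L150979 q6527, e3 q7356 L150991 q6797, e3 q7357 (flp_b L159367) q8254, e3 q7358 L159479 q8267, e3 q7359 L151020 q6533, trivial⟩ (by decide +kernel)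

theorem ce_b_115 : ∀ r, r < 64 → sm gb (Qf (7360 + r)) = Qf (tab Gen.b (7360 + r)) :=
  edges_tab (sm gb) Qf (tab Gen.b) 7360 [(7360, 6534), (7361, 6370), (7362, 8272), (7363, 6398), (7364, 7987), (7365, 6399), (7366, 6375), (7367, 6376), (7368, 8275), (7369, 8276), (7370, 8277), (7371, 8278), (7372, 6405), (7373, 6406), (7374, 7374), (7375, 7375), (7376, 7376), (7377, 7377), (7378, 7378), (7379, 7379), (7380, 7380), (7381, 7381), (7382, 7382), (7383, 7383), (7384, 7384), (7385, 6407), (7386, 6408), (7387, 6397), (7388, 8298), (7389, 6402), (7390, 6403), (7391, 6404), (7392, 8299), (7393, 8300), (7394, 8285), (7395, 7932), (7396, 8260), (7397, 6532), (7398, 6535), (7399, 6798), (7400, 6537), (7401, 6538), (7402, 6418), (7403, 8310), (7404, 8311), (7405, 6542), (7406, 6543), (7407, 6544), (7408, 6801), (7409, 6802), (7410, 6477), (7411, 6478), (7412, 8168), (7413, 6427), (7414, 6428), (7415, 8324), (7416, 8325), (7417, 8326), (7418, 8327), (7419, 6485), (7420, 6486), (7421, 6487), (7422,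 6806), (7423, 6807)]
    ⟨e3 q7360 L151030 q6534, e3 q7361 (flp_b L151036) q6370, e3 q7362 (flp_b L159533) q8272, e3 q7363 L151052 q6398, e3 q7364 (flp_b L156737) q7987, e3 q7365 L151070 q6399, e3 q7366 L151078 q6375, e3 q7367 L151084 q6376, e3 q7368 (flp_b L159555) q8275, e3 q7369 (flp_b L159562) q8276, e3 q7370 (flp_b L159570) q8277, e3 q7371 (flp_b L159578) q8278, e3 q7372 L151118 q6405, e3 q7373 L151128 q6406, e3 q7374 L151134 q7374, e3 q7375 L151141 q7375, e3 q7376 L151150 q7376, e3 q7377 L151157 q7377, e3 q7378 L151168 q7378, e3 q7379 L151181 q7379, e3 q7380 L151188 q7380, e3 q7381 L151196 q7381, e3 q7382 L151207 q7382, e3 q7383 L151218 q7383, e3 q7384 L151226 q7384, e3 q7385 L151237 q6407, e3 q7386 L151246 q6408, e3 q7387 L151258 q6397, e3 q7388 (flp_b L159779) q8298, e3 q7389 L151276 q6402, e3 q7390 L151283 q6403, e3 q7391 L151290 q6404, e3 q7392 (flp_b L159787) q8299, e3 q7393 (flp_b L159796) q8300, e3 q7394 (flp_b L159634) q8285, e3 q7395 (flp_b L156124) q7932, e3 q7396 (flp_b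 L159413) q8260, e3 q7397 L151334 q6532, e3 q7398 L151342 q6535, e3 q7399 L151352 q6798, e3 q7400 L151358 q6537, e3 q7401 L151366 q6538, e3 q7402 (flp_b L151372) q6418, e3 q7403 (flp_b L159874) q8310, e3 q7404 (flp_b L159884) q8311, e3 q7405 L151394 q6542, e3 q7406 L151400 q6543, e3 q7407 L151408 q6544, e3 q7408 L151414 q6801, e3 q7409 L151424 q6802, e3 q7410 L151434 q6477, e3 q7411 L151442 q6478, e3 q7412 (flp_b L158582) q8168, e3 q7413 L151458 q6427, e3 q7414 L151468 q6428, e3 q7415 (flp_b L159982) q8324, e3 q7416 (flp_b L159989) q8325, e3 q7417 (flp_b L159997) q8326, e3 q7418 (flp_b L160007) q8327, e3 q7419 L151498 q6485, e3 q7420 L151506 q6486, e3 q7421 L151514 q6487, e3 q7422 L151522 q6806, e3 q7423 L151530 q6807, trivial⟩ (by decide +kernel)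

theorem ce_b_116 : ∀ r, r < 64 → sm gb (Qf (7424 + r)) = Qf (tab Gen.b (7424 + r)) :=
  edges_tab (sm gb) Qf (tab Gen.b) 7424 [(7424, 6808), (7425, 6809), (7426, 6488), (7427, 6489), (7428, 6490), (7429, 8189), (7430, 8190), (7431, 6440), (7432, 6441), (7433, 6442), (7434, 6443), (7435, 8350), (7436, 8351), (7437, 8352), (7438, 8353), (7439, 8354), (7440, 8355), (7441, 8356), (7442, 6499), (7443, 6500), (7444, 6501), (7445, 6564), (7446, 6565), (7447, 6566), (7448, 6567), (7449, 6568), (7450, 6569), (7451, 6570), (7452, 6502), (7453, 6503), (7454, 6574), (7455, 6575), (7456, 6576), (7457, 6577), (7458, 6578), (7459, 6579), (7460, 6580), (7461, 6581), (7462, 6582), (7463, 6583), (7464, 6504), (7465, 6505), (7466, 8392), (7467, 6587), (7468, 6588), (7469, 6589), (7470, 6590), (7471, 6593), (7472, 6594), (7473, 7196), (7474, 6508), (7475, 6509), (7476, 6482), (7477, 6483), (7478, 6484), (7479, 8398), (7480, 8399), (7481, 8335), (7482, 8336), (7483, 8344), (7484, 8345), (7485, 6518), (7486,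 6519), (7487, 6520)]
    ⟨e3 q7424 L151536 q6808, e3 q7425 L151546 q6809, e3 q7426 L151554 q6488, e3 q7427 L151562 q6489, e3 q7428 L151570 q6490, e3 q7429 (flp_b L158775) q8189, e3 q7430 (flp_b L158785) q8190, e3 q7431 L151596 q6440, e3 q7432 L151606 q6441, e3 q7433 L151612 q6442, e3 q7434 L151622 q6443, e3 q7435 (flp_b L160183) q8350, e3 q7436 (flp_b L160191) q8351, e3 q7437 (flp_b L160201) q8352, e3 q7438 (flp_b L160213) q8353, e3 q7439 (flp_b L160221) q8354, e3 q7440 (flp_b L160229) q8355, e3 q7441 (flp_b L160239) q8356, e3 q7442 L151664 q6499, e3 q7443 L151672 q6500, e3 q7444 L151678 q6501, e3 q7445 L151684 q6564, e3 q7446 L151690 q6565, e3 q7447 L151698 q6566, e3 q7448 L151706 q6567, e3 q7449 L151717 q6568, e3 q7450 L151728 q6569, e3 q7451 L151742 q6570, e3 q7452 L151753 q6502, e3 q7453 L151764 q6503, e3 q7454 L151773 q6574, e3 q7455 L151779 q6575, e3 q7456 L151787 q6576, e3 q7457 L151799 q6577, e3 q7458 L151807 q6578, e3 q7459 L151813 q6579, e3 q7460 L151817 q6580, e3 q7461 L151827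 q6581, e3 q7462 L151839 q6582, e3 q7463 L151845 q6583, e3 q7464 L151851 q6504, e3 q7465 L151861 q6505, e3 q7466 L160521 q8392, e3 q7467 L151873 q6587, e3 q7468 L151879 q6588, e3 q7469 L151890 q6589, e3 q7470 L151902 q6590, e3 q7471 L151912 q6593, e3 q7472 L151925 q6594, e3 q7473 L151949 q7196, e3 q7474 L151957 q6508, e3 q7475 L151968 q6509, e3 q7476 L151976 q6482, e3 q7477 L151983 q6483, e3 q7478 L151992 q6484, e3 q7479 (flp_b L160590) q8398, e3 q7480 (flp_b L160597) q8399, e3 q7481 (flp_b L160059) q8335, e3 q7482 (flp_b L160067) q8336, e3 q7483 (flp_b L160133) q8344, e3 q7484 (flp_b L160143) q8345, e3 q7485 L152059 q6518, e3 q7486 L152067 q6519, e3 q7487 L152079 q6520, trivial⟩ (by decide +kernel)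

theorem ce_b_117 : ∀ r, r < 64 → sm gb (Qf (7488 + r)) = Qf (tab Gen.b (7488 + r)) :=
  edges_tab (sm gb) Qf (tab Gen.b) 7488 [(7488, 6496), (7489, 6497), (7490, 6498), (7491, 8406), (7492, 8407), (7493, 8408), (7494, 8367), (7495, 8368), (7496, 8412), (7497, 8380), (7498, 6506), (7499, 8396), (7500, 8397), (7501, 6513), (7502, 8094), (7503, 8414), (7504, 7950), (7505, 7936), (7506, 8404), (7507, 8405), (7508, 6524), (7509, 6525), (7510, 8079), (7511, 8418), (7512, 8088), (7513, 6941), (7514, 8136), (7515, 8304), (7516, 8270), (7517, 8271), (7518, 8307), (7519, 8308), (7520, 7520), (7521, 6540), (7522, 6541), (7523, 8428), (7524, 8429), (7525, 8430), (7526, 8316), (7527, 8317), (7528, 8318), (7529, 7529), (7530, 7530), (7531, 7531), (7532, 7532), (7533, 7533), (7534, 6554), (7535, 6555), (7536, 6556), (7537, 6557), (7538, 6558), (7539, 6559), (7540, 6560), (7541, 8443), (7542, 8444), (7543, 8445), (7544, 8446), (7545, 8447), (7546, 8448), (7547, 8449), (7548, 8450), (7549, 8451), (7550,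 8452), (7551, 6604)]
    ⟨e3 q7488 L152085 q6496, e3 q7489 L152093 q6497, e3 q7490 L152101 q6498, e3 q7491 (flp_b L160664) q8406, e3 q7492 (flp_b L160674) q8407, e3 q7493 (flp_b L160680) q8408, e3 q7494 (flp_b L160301) q8367, e3 q7495 (flp_b L160307) q8368, e3 q7496 L160714 q8412, e3 q7497 (flp_b L160422) q8380, e3 q7498 (flp_b L152168) q6506, e3 q7499 (flp_b L160571) q8396, e3 q7500 (flp_b L160582) q8397, e3 q7501 L152193 q6513, e3 q7502 (flp_b L157797) q8094, e3 q7503 (flp_b L160730) q8414, e3 q7504 (flp_b L156361) q7950, e3 q7505 (flp_b L156179) q7936, e3 q7506 (flp_b L160646) q8404, e3 q7507 (flp_b L160656) q8405, e3 q7508 L152248 q6524, e3 q7509 L152254 q6525, e3 q7510 (flp_b L157617) q8079, e3 q7511 (flp_b L160760) q8418, e3 q7512 (flp_b L157731) q8088, e3 q7513 L152285 q6941, e3 q7514 (flp_b L158260) q8136, e3 q7515 (flp_b L159822) q8304, e3 q7516 (flp_b L159513) q8270, e3 q7517 (flp_b L159523) q8271, e3 q7518 (flp_b L159848) q8307, e3 q7519 (flp_b L159858) q8308, e3 q7520 L152351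 q7520, e3 q7521 L152354 q6540, e3 q7522 L152363 q6541, e3 q7523 (flp_b L160849) q8428, e3 q7524 (flp_b L160858) q8429, e3 q7525 (flp_b L160867) q8430, e3 q7526 (flp_b L159914) q8316, e3 q7527 (flp_b L159920) q8317, e3 q7528 (flp_b L159928) q8318, e3 q7529 L152419 q7529, e3 q7530 L152429 q7530, e3 q7531 L152438 q7531, e3 q7532 L152447 q7532, e3 q7533 L152458 q7533, e3 q7534 L152467 q6554, e3 q7535 L152473 q6555, e3 q7536 L152482 q6556, e3 q7537 L152492 q6557, e3 q7538 L152502 q6558, e3 q7539 L152511 q6559, e3 q7540 L152522 q6560, e3 q7541 (flp_b L160986) q8443, e3 q7542 (flp_b L160993) q8444, e3 q7543 (flp_b L161003) q8445, e3 q7544 (flp_b L161014) q8446, e3 q7545 (flp_b L161022) q8447, e3 q7546 (flp_b L161031) q8448, e3 q7547 (flp_b L161039) q8449, e3 q7548 (flp_b L161050) q8450, e3 q7549 (flp_b L161060) q8451, e3 q7550 (flp_b L161067) q8452, e3 q7551 L152618 q6604, trivial⟩ (by decide +kernel)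

theorem ce_b_118 : ∀ r, r < 64 → sm gb (Qf (7552 + r)) = Qf (tab Gen.b (7552 + r)) :=
  edges_tab (sm gb) Qf (tab Gen.b) 7552 [(7552, 6605), (7553, 8464), (7554, 8370), (7555, 8371), (7556, 8372), (7557, 8373), (7558, 8374), (7559, 8375), (7560, 8376), (7561, 8377), (7562, 8378), (7563, 8379), (7564, 6607), (7565, 6608), (7566, 8476), (7567, 8381), (7568, 8382), (7569, 8383), (7570, 8384), (7571, 8385), (7572, 8386), (7573, 8387), (7574, 8388), (7575, 8485), (7576, 8390), (7577, 6586), (7578, 8393), (7579, 8394), (7580, 7216), (7581, 7217), (7582, 8395), (7583, 6611), (7584, 6612), (7585, 6613), (7586, 6601), (7587, 6602), (7588, 6603), (7589, 8490), (7590, 8491), (7591, 8494), (7592, 6606), (7593, 6609), (7594, 8487), (7595, 8488), (7596, 8489), (7597, 6617), (7598, 6618), (7599, 8099), (7600, 6738), (7601, 7601), (7602, 6723), (7603, 7603), (7604, 7604), (7605, 7605), (7606, 6722), (7607, 6721), (7608, 6650), (7609, 6717), (7610, 6719), (7611, 6720), (7612, 7612), (7613, 7613), (7614,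 7614), (7615, 7615)]
    ⟨e3 q7552 L152629 q6605, e3 q7553 L161171 q8464, e3 q7554 (flp_b L160319) q8370, e3 q7555 (flp_b L160328) q8371, e3 q7556 (flp_b L160340) q8372, e3 q7557 (flp_b L160352) q8373, e3 q7558 (flp_b L160360) q8374, e3 q7559 (flp_b L160368) q8375, e3 q7560 (flp_b L160374) q8376, e3 q7561 (flp_b L160387) q8377, e3 q7562 (flp_b L160400) q8378, e3 q7563 (flp_b L160410) q8379, e3 q7564 L152752 q6607, e3 q7565 L152764 q6608, e3 q7566 L161292 q8476, e3 q7567 (flp_b L160433) q8381, e3 q7568 (flp_b L160441) q8382, e3 q7569 (flp_b L160449) q8383, e3 q7570 (flp_b L160461) q8384, e3 q7571 (flp_b L160467) q8385, e3 q7572 (flp_b L160473) q8386, e3 q7573 (flp_b L160479) q8387, e3 q7574 (flp_b L160491) q8388, e3 q7575 L161369 q8485, e3 q7576 (flp_b L160507) q8390, e3 q7577 (flp_b L152862) q6586, e3 q7578 (flp_b L160531) q8393, e3 q7579 (flp_b L160541) q8394, e3 q7580 L152889 q7216, e3 q7581 L152903 q7217, e3 q7582 (flp_b L160554) q8395, e3 q7583 L152935 q6611, e3 q7584 L152945 q6612,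 e3 q7585 L152954 q6613, e3 q7586 L152963 q6601, e3 q7587 L152972 q6602, e3 q7588 L152980 q6603, e3 q7589 (flp_b L161420) q8490, e3 q7590 (flp_b L161430) q8491, e3 q7591 L161450 q8494, e3 q7592 (flp_b L153013) q6606, e3 q7593 (flp_b L153021) q6609, e3 q7594 (flp_b L161392) q8487, e3 q7595 (flp_b L161403) q8488, e3 q7596 (flp_b L161413) q8489, e3 q7597 L153058 q6617, e3 q7598 L153069 q6618, e3 q7599 (flp_b L157850) q8099, e3 q7600 L153086 q6738, e3 q7601 L153102 q7601, e3 q7602 L153112 q6723, e3 q7603 L153123 q7603, e3 q7604 L153130 q7604, e3 q7605 L153137 q7605, e3 q7606 L153150 q6722, e3 q7607 L153158 q6721, e3 q7608 L153169 q6650, e3 q7609 L153180 q6717, e3 q7610 L153192 q6719, e3 q7611 L153203 q6720, e3 q7612 L153216 q7612, e3 q7613 L153227 q7613, e3 q7614 L153237 q7614, e3 q7615 L153249 q7615, trivial⟩ (by decide +kernel)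

theorem ce_b_119 : ∀ r, r < 64 → sm gb (Qf (7616 + r)) = Qf (tab Gen.b (7616 + r)) :=
  edges_tab (sm gb) Qf (tab Gen.b) 7616 [(7616, 7616), (7617, 7617), (7618, 7618), (7619, 7619), (7620, 7620), (7621, 7621), (7622, 7622), (7623, 7623), (7624, 7624), (7625, 6651), (7626, 7626), (7627, 7627), (7628, 7628), (7629, 6707), (7630, 6708), (7631, 7631), (7632, 7632), (7633, 7633), (7634, 6709), (7635, 6710), (7636, 7636), (7637, 7637), (7638, 7638), (7639, 7639), (7640, 6711), (7641, 6712), (7642, 6713), (7643, 7643), (7644, 7644), (7645, 7645), (7646, 7646), (7647, 7647), (7648, 6702), (7649, 7649), (7650, 7650), (7651, 7651), (7652, 7652), (7653, 6714), (7654, 6715), (7655, 6716), (7656, 6718), (7657, 6727), (7658, 6728), (7659, 6729), (7660, 6730), (7661, 6731), (7662, 6732), (7663, 6733), (7664, 6734), (7665, 8542), (7666, 6736), (7667, 7861), (7668, 6694), (7669, 6740), (7670, 6942), (7671, 6943), (7672, 6944), (7673, 6906), (7674, 8517), (7675, 8519), (7676, 8525), (7677, 8526), (7678,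 8527), (7679, 8503)]
    ⟨e3 q7616 L153261 q7616, e3 q7617 L153272 q7617, e3 q7618 L153283 q7618, e3 q7619 L153294 q7619, e3 q7620 L153300 q7620, e3 q7621 L153310 q7621, e3 q7622 L153323 q7622, e3 q7623 L153334 q7623, e3 q7624 L153341 q7624, e3 q7625 L153353 q6651, e3 q7626 L153365 q7626, e3 q7627 L153378 q7627, e3 q7628 L153393 q7628, e3 q7629 L153403 q6707, e3 q7630 L153417 q6708, e3 q7631 L153431 q7631, e3 q7632 L153442 q7632, e3 q7633 L153452 q7633, e3 q7634 L153464 q6709, e3 q7635 L153476 q6710, e3 q7636 L153487 q7636, e3 q7637 L153492 q7637, e3 q7638 L153501 q7638, e3 q7639 L153510 q7639, e3 q7640 L153521 q6711, e3 q7641 L153531 q6712, e3 q7642 L153538 q6713, e3 q7643 L153545 q7643, e3 q7644 L153550 q7644, e3 q7645 L153555 q7645, e3 q7646 L153560 q7646, e3 q7647 L153568 q7647, e3 q7648 L153576 q6702, e3 q7649 L153583 q7649, e3 q7650 L153594 q7650, e3 q7651 L153605 q7651, e3 q7652 L153616 q7652, e3 q7653 L153622 q6714, e3 q7654 L153632 q6715, e3 q7655 L153644 q6716, e3 q7656 L153654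 q6718, e3 q7657 L153661 q6727, e3 q7658 L153672 q6728, e3 q7659 L153682 q6729, e3 q7660 L153692 q6730, e3 q7661 L153698 q6731, e3 q7662 L153705 q6732, e3 q7663 L153711 q6733, e3 q7664 L153721 q6734, e3 q7665 L161944 q8542, e3 q7666 L153733 q6736, e3 q7667 (flp_b L155348) q7861, e3 q7668 (flp_b L153743) q6694, e3 q7669 L153751 q6740, e3 q7670 L153765 q6942, e3 q7671 L153775 q6943, e3 q7672 L153786 q6944, e3 q7673 L153800 q6906, e3 q7674 (flp_b L161725) q8517, e3 q7675 (flp_b L161755) q8519, e3 q7676 (flp_b L161810) q8525, e3 q7677 (flp_b L161821) q8526, e3 q7678 (flp_b L161829) q8527, e3 q7679 (flp_b L161542) q8503, trivial⟩ (by decide +kernel)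

theorem ce_b_120 : ∀ r, r < 64 → sm gb (Qf (7680 + r)) = Qf (tab Gen.b (7680 + r)) :=
  edges_tab (sm gb) Qf (tab Gen.b) 7680 [(7680, 8504), (7681, 8536), (7682, 8505), (7683, 8506), (7684, 8501), (7685, 8502), (7686, 8500), (7687, 8558), (7688, 8497), (7689, 7879), (7690, 6726), (7691, 8137), (7692, 8537), (7693, 8538), (7694, 8540), (7695, 6735), (7696, 8559), (7697, 7697), (7698, 7698), (7699, 6744), (7700, 7994), (7701, 8565), (7702, 6772), (7703, 6773), (7704, 6748), (7705, 6749), (7706, 8570), (7707, 7972), (7708, 8571), (7709, 8572), (7710, 6778), (7711, 6779), (7712, 7712), (7713, 7713), (7714, 7714), (7715, 7715), (7716, 7716), (7717, 7717), (7718, 7718), (7719, 6780), (7720, 6781), (7721, 6782), (7722, 7722), (7723, 7723), (7724, 7724), (7725, 7725), (7726, 7726), (7727, 7727), (7728, 6783), (7729, 6784), (7730, 6771), (7731, 8597), (7732, 8569), (7733, 6776), (7734, 6777), (7735, 8600), (7736, 8601), (7737, 8579), (7738, 8580), (7739, 8591), (7740, 8592), (7741, 8606), (7742,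 6787), (7743, 8608)]
    ⟨e3 q7680 (flp_b L161558) q8504, e3 q7681 (flp_b L161896) q8536, e3 q7682 (flp_b L161576) q8505, e3 q7683 (flp_b L161590) q8506, e3 q7684 (flp_b L161519) q8501, e3 q7685 (flp_b L161529) q8502, e3 q7686 (flp_b L161511) q8500, e3 q7687 L162107 q8558, e3 q7688 (flp_b L161479) q8497, e3 q7689 (flp_b L155516) q7879, e3 q7690 (flp_b L153946) q6726, e3 q7691 (flp_b L158272) q8137, e3 q7692 (flp_b L161906) q8537, e3 q7693 (flp_b L161918) q8538, e3 q7694 (flp_b L161928) q8540, e3 q7695 (flp_b L153990) q6735, e3 q7696 L162113 q8559, e3 q7697 L154008 q7697, e3 q7698 L154016 q7698, e3 q7699 (flp_b L154019) q6744, e3 q7700 (flp_b L156816) q7994, e3 q7701 (flp_b L162163) q8565, e3 q7702 L154043 q6772, e3 q7703 L154052 q6773, e3 q7704 L154058 q6748, e3 q7705 L154064 q6749, e3 q7706 (flp_b L162200) q8570, e3 q7707 (flp_b L156599) q7972, e3 q7708 (flp_b L162207) q8571, e3 q7709 (flp_b L162215) q8572, e3 q7710 L154102 q6778, e3 q7711 L154112 q6779, e3 q7712 L154120 q7712, e3 q7713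 L154127 q7713, e3 q7714 L154135 q7714, e3 q7715 L154144 q7715, e3 q7716 L154154 q7716, e3 q7717 L154165 q7717, e3 q7718 L154175 q7718, e3 q7719 L154189 q6780, e3 q7720 L154199 q6781, e3 q7721 L154210 q6782, e3 q7722 L154217 q7722, e3 q7723 L154224 q7723, e3 q7724 L154232 q7724, e3 q7725 L154244 q7725, e3 q7726 L154257 q7726, e3 q7727 L154267 q7727, e3 q7728 L154279 q6783, e3 q7729 L154289 q6784, e3 q7730 L154300 q6771, e3 q7731 (flp_b L162441) q8597, e3 q7732 (flp_b L162192) q8569, e3 q7733 L154321 q6776, e3 q7734 L154328 q6777, e3 q7735 (flp_b L162461) q8600, e3 q7736 (flp_b L162467) q8601, e3 q7737 (flp_b L162271) q8579, e3 q7738 (flp_b L162279) q8580, e3 q7739 (flp_b L162378) q8591, e3 q7740 (flp_b L162389) q8592, e3 q7741 L162496 q8606, e3 q7742 L154381 q6787, e3 q7743 (flp_b L162507) q8608, trivial⟩ (by decide +kernel)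

theorem ce_b_121 : ∀ r, r < 64 → sm gb (Qf (7744 + r)) = Qf (tab Gen.b (7744 + r)) :=
  edges_tab (sm gb) Qf (tab Gen.b) 7744 [(7744, 8257), (7745, 6849), (7746, 8261), (7747, 8262), (7748, 6851), (7749, 8614), (7750, 6796), (7751, 8305), (7752, 8306), (7753, 6858), (7754, 6859), (7755, 6860), (7756, 8319), (7757, 8320), (7758, 8223), (7759, 8321), (7760, 6836), (7761, 6837), (7762, 8337), (7763, 8338), (7764, 8339), (7765, 8340), (7766, 8341), (7767, 8342), (7768, 8343), (7769, 6838), (7770, 6839), (7771, 6840), (7772, 6861), (7773, 6862), (7774, 6863), (7775, 6864), (7776, 6865), (7777, 6866), (7778, 6867), (7779, 6868), (7780, 6869), (7781, 6870), (7782, 6841), (7783, 6842), (7784, 8656), (7785, 6874), (7786, 6875), (7787, 6876), (7788, 6877), (7789, 6880), (7790, 6881), (7791, 6844), (7792, 6985), (7793, 6846), (7794, 8628), (7795, 8629), (7796, 8640), (7797, 8641), (7798, 8667), (7799, 8653), (7800, 8668), (7801, 8655), (7802, 6843), (7803, 6845), (7804, 8086), (7805, 8080), (7806,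 7951), (7807, 8148)]
    ⟨e3 q7744 (flp_b L159383) q8257, e3 q7745 L154397 q6849, e3 q7746 (flp_b L159422) q8261, e3 q7747 (flp_b L159433) q8262, e3 q7748 L154411 q6851, e3 q7749 (flp_b L162541) q8614, e3 q7750 (flp_b L154421) q6796, e3 q7751 (flp_b L159830) q8305, e3 q7752 (flp_b L159838) q8306, e3 q7753 L154443 q6858, e3 q7754 L154452 q6859, e3 q7755 L154459 q6860, e3 q7756 (flp_b L159936) q8319, e3 q7757 (flp_b L159946) q8320, e3 q7758 (flp_b L159088) q8223, e3 q7759 (flp_b L159954) q8321, e3 q7760 L154486 q6836, e3 q7761 L154493 q6837, e3 q7762 (flp_b L160075) q8337, e3 q7763 (flp_b L160083) q8338, e3 q7764 (flp_b L160091) q8339, e3 q7765 (flp_b L160101) q8340, e3 q7766 (flp_b L160109) q8341, e3 q7767 (flp_b L160117) q8342, e3 q7768 (flp_b L160127) q8343, e3 q7769 L154541 q6838, e3 q7770 L154549 q6839, e3 q7771 L154555 q6840, e3 q7772 L154561 q6861, e3 q7773 L154569 q6862, e3 q7774 L154575 q6863, e3 q7775 L154582 q6864, e3 q7776 L154590 q6865, e3 q7777 L154597 q6866, e3 q7778 L154603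 q6867, e3 q7779 L154613 q6868, e3 q7780 L154624 q6869, e3 q7781 L154629 q6870, e3 q7782 L154636 q6841, e3 q7783 L154645 q6842, e3 q7784 L162816 q8656, e3 q7785 L154655 q6874, e3 q7786 L154663 q6875, e3 q7787 L154674 q6876, e3 q7788 L154687 q6877, e3 q7789 L154699 q6880, e3 q7790 L154711 q6881, e3 q7791 L154722 q6844, e3 q7792 (flp_b L154739) q6985, e3 q7793 L154743 q6846, e3 q7794 (flp_b L162635) q8628, e3 q7795 (flp_b L162643) q8629, e3 q7796 (flp_b L162706) q8640, e3 q7797 (flp_b L162712) q8641, e3 q7798 L162939 q8667, e3 q7799 (flp_b L162799) q8653, e3 q7800 L162943 q8668, e3 q7801 (flp_b L162811) q8655, e3 q7802 (flp_b L154804) q6843, e3 q7803 (flp_b L154809) q6845, e3 q7804 (flp_b L157702) q8086, e3 q7805 (flp_b L157631) q8080, e3 q7806 (flp_b L156377) q7951, e3 q7807 (flp_b L158389) q8148, trivial⟩ (by decide +kernel)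

theorem ce_b_122 : ∀ r, r < 64 → sm gb (Qf (7808 + r)) = Qf (tab Gen.b (7808 + r)) :=
  edges_tab (sm gb) Qf (tab Gen.b) 7808 [(7808, 6852), (7809, 8669), (7810, 8619), (7811, 8620), (7812, 8621), (7813, 8643), (7814, 8644), (7815, 8645), (7816, 8646), (7817, 8647), (7818, 8648), (7819, 8649), (7820, 8650), (7821, 8684), (7822, 8652), (7823, 6888), (7824, 8686), (7825, 6890), (7826, 6873), (7827, 8657), (7828, 8658), (7829, 6948), (7830, 6950), (7831, 8659), (7832, 6910), (7833, 8660), (7834, 6889), (7835, 6897), (7836, 6907), (7837, 6908), (7838, 6949), (7839, 6909), (7840, 6915), (7841, 6914), (7842, 8661), (7843, 8690), (7844, 7844), (7845, 7845), (7846, 6953), (7847, 6954), (7848, 8698), (7849, 6956), (7850, 6957), (7851, 6925), (7852, 8704), (7853, 8705), (7854, 6961), (7855, 6962), (7856, 6963), (7857, 8712), (7858, 6965), (7859, 6966), (7860, 6930), (7861, 7667), (7862, 8718), (7863, 6969), (7864, 6970), (7865, 7061), (7866, 6934), (7867, 6935), (7868, 8724), (7869, 8725), (7870,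 8726), (7871, 8727)]
    ⟨e3 q7808 (flp_b L154849) q6852, e3 q7809 (flp_b L162955) q8669, e3 q7810 (flp_b L162576) q8619, e3 q7811 (flp_b L162585) q8620, e3 q7812 (flp_b L162594) q8621, e3 q7813 (flp_b L162724) q8643, e3 q7814 (flp_b L162734) q8644, e3 q7815 (flp_b L162742) q8645, e3 q7816 (flp_b L162749) q8646, e3 q7817 (flp_b L162755) q8647, e3 q7818 (flp_b L162763) q8648, e3 q7819 (flp_b L162769) q8649, e3 q7820 (flp_b L162780) q8650, e3 q7821 L163058 q8684, e3 q7822 (flp_b L162792) q8652, e3 q7823 L154955 q6888, e3 q7824 L163070 q8686, e3 q7825 L154969 q6890, e3 q7826 (flp_b L154975) q6873, e3 q7827 (flp_b L162825) q8657, e3 q7828 (flp_b L162839) q8658, e3 q7829 L154999 q6948, e3 q7830 L155011 q6950, e3 q7831 (flp_b L162854) q8659, e3 q7832 L155042 q6910, e3 q7833 (flp_b L162868) q8660, e3 q7834 (flp_b L155056) q6889, e3 q7835 L155065 q6897, e3 q7836 L155070 q6907, e3 q7837 L155085 q6908, e3 q7838 L155099 q6949, e3 q7839 L155110 q6909, e3 q7840 L155124 q6915, e3 q7841 L155135 q6914,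 e3 q7842 (flp_b L162889) q8661, e3 q7843 L163109 q8690, e3 q7844 L155171 q7844, e3 q7845 L155181 q7845, e3 q7846 L155190 q6953, e3 q7847 L155204 q6954, e3 q7848 L163193 q8698, e3 q7849 L155226 q6956, e3 q7850 L155239 q6957, e3 q7851 (flp_b L155245) q6925, e3 q7852 (flp_b L163272) q8704, e3 q7853 (flp_b L163284) q8705, e3 q7854 L155273 q6961, e3 q7855 L155286 q6962, e3 q7856 L155295 q6963, e3 q7857 L163350 q8712, e3 q7858 L155315 q6965, e3 q7859 L155328 q6966, e3 q7860 (flp_b L155336) q6930, e3 q7861 L155348 q7667, e3 q7862 (flp_b L163431) q8718, e3 q7863 L155368 q6969, e3 q7864 L155382 q6970, e3 q7865 L155394 q7061, e3 q7866 L155398 q6934, e3 q7867 L155406 q6935, e3 q7868 (flp_b L163499) q8724, e3 q7869 (flp_b L163509) q8725, e3 q7870 (flp_b L163521) q8726, e3 q7871 (flp_b L163531) q8727, trivial⟩ (by decide +kernel)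

theorem ce_b_123 : ∀ r, r < 64 → sm gb (Qf (7872 + r)) = Qf (tab Gen.b (7872 + r)) :=
  edges_tab (sm gb) Qf (tab Gen.b) 7872 [(7872, 6977), (7873, 6978), (7874, 6979), (7875, 6980), (7876, 8420), (7877, 7174), (7878, 8421), (7879, 7689), (7880, 8544), (7881, 8545), (7882, 6981), (7883, 6982), (7884, 6983), (7885, 8551), (7886, 8550), (7887, 8689), (7888, 6984), (7889, 8697), (7890, 6955), (7891, 8750), (7892, 8701), (7893, 8702), (7894, 7000), (7895, 6959), (7896, 6960), (7897, 8754), (7898, 8755), (7899, 8710), (7900, 8711), (7901, 6964), (7902, 8760), (7903, 8715), (7904, 8716), (7905, 7009), (7906, 6968), (7907, 8764), (7908, 8721), (7909, 7013), (7910, 7014), (7911, 6974), (7912, 6975), (7913, 6976), (7914, 8769), (7915, 8770), (7916, 8771), (7917, 8735), (7918, 8736), (7919, 8737), (7920, 8738), (7921, 8747), (7922, 8778), (7923, 8662), (7924, 6987), (7925, 7027), (7926, 6992), (7927, 8779), (7928, 7029), (7929, 6995), (7930, 8782), (7931, 7139), (7932, 7395), (7933, 7141), (7934,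 8753), (7935, 7003)]
    ⟨e3 q7872 L155446 q6977, e3 q7873 L155460 q6978, e3 q7874 L155472 q6979, e3 q7875 L155480 q6980, e3 q7876 (flp_b L160777) q8420, e3 q7877 L155499 q7174, e3 q7878 (flp_b L160786) q8421, e3 q7879 L155516 q7689, e3 q7880 (flp_b L161961) q8544, e3 q7881 (flp_b L161976) q8545, e3 q7882 L155548 q6981, e3 q7883 L155562 q6982, e3 q7884 L155575 q6983, e3 q7885 (flp_b L162036) q8551, e3 q7886 (flp_b L162021) q8550, e3 q7887 (flp_b L163096) q8689, e3 q7888 L155608 q6984, e3 q7889 (flp_b L163183) q8697, e3 q7890 (flp_b L155630) q6955, e3 q7891 (flp_b L163757) q8750, e3 q7892 (flp_b L163233) q8701, e3 q7893 (flp_b L163246) q8702, e3 q7894 L155688 q7000, e3 q7895 L155696 q6959, e3 q7896 L155708 q6960, e3 q7897 (flp_b L163811) q8754, e3 q7898 (flp_b L163823) q8755, e3 q7899 (flp_b L163331) q8710, e3 q7900 (flp_b L163344) q8711, e3 q7901 (flp_b L155758) q6964, e3 q7902 (flp_b L163883) q8760, e3 q7903 (flp_b L163392) q8715, e3 q7904 (flp_b L163405) q8716, e3 q7905 L155821 q7009,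 e3 q7906 L155825 q6968, e3 q7907 (flp_b L163939) q8764, e3 q7908 (flp_b L163465) q8721, e3 q7909 L155859 q7013, e3 q7910 L155873 q7014, e3 q7911 L155883 q6974, e3 q7912 L155895 q6975, e3 q7913 L155905 q6976, e3 q7914 (flp_b L163999) q8769, e3 q7915 (flp_b L164011) q8770, e3 q7916 (flp_b L164021) q8771, e3 q7917 (flp_b L163607) q8735, e3 q7918 (flp_b L163621) q8736, e3 q7919 (flp_b L163631) q8737, e3 q7920 (flp_b L163641) q8738, e3 q7921 (flp_b L163723) q8747, e3 q7922 L164112 q8778, e3 q7923 (flp_b L162897) q8662, e3 q7924 L156029 q6987, e3 q7925 L156043 q7027, e3 q7926 L156055 q6992, e3 q7927 (flp_b L164125) q8779, e3 q7928 L156081 q7029, e3 q7929 L156088 q6995, e3 q7930 (flp_b L164156) q8782, e3 q7931 L156108 q7139, e3 q7932 L156124 q7395, e3 q7933 L156138 q7141, e3 q7934 (flp_b L163798) q8753, e3 q7935 L156165 q7003, trivial⟩ (by decide +kernel)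

theorem ce_b_124 : ∀ r, r < 64 → sm gb (Qf (7936 + r)) = Qf (tab Gen.b (7936 + r)) :=
  edges_tab (sm gb) Qf (tab Gen.b) 7936 [(7936, 7505), (7937, 8786), (7938, 7147), (7939, 7148), (7940, 7232), (7941, 7149), (7942, 8763), (7943, 7011), (7944, 8792), (7945, 7155), (7946, 8767), (7947, 8768), (7948, 7018), (7949, 7019), (7950, 7504), (7951, 7806), (7952, 7164), (7953, 7165), (7954, 8795), (7955, 7028), (7956, 7025), (7957, 8780), (7958, 7171), (7959, 7172), (7960, 8799), (7961, 7175), (7962, 7037), (7963, 8803), (7964, 8804), (7965, 7179), (7966, 7180), (7967, 7181), (7968, 7096), (7969, 7210), (7970, 7097), (7971, 7043), (7972, 7707), (7973, 8814), (7974, 7100), (7975, 7101), (7976, 8703), (7977, 7047), (7978, 7048), (7979, 8820), (7980, 8821), (7981, 8822), (7982, 8823), (7983, 7108), (7984, 7109), (7985, 7110), (7986, 7205), (7987, 7364), (7988, 7111), (7989, 7112), (7990, 8717), (7991, 7056), (7992, 7057), (7993, 8839), (7994, 7700), (7995, 8840), (7996, 8841), (7997, 7118), (7998,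 7119), (7999, 7120)]
    ⟨e3 q7936 L156179 q7505, e3 q7937 (flp_b L164211) q8786, e3 q7938 L156204 q7147, e3 q7939 L156218 q7148, e3 q7940 L156227 q7232, e3 q7941 L156243 q7149, e3 q7942 (flp_b L163927) q8763, e3 q7943 L156271 q7011, e3 q7944 (flp_b L164300) q8792, e3 q7945 L156297 q7155, e3 q7946 (flp_b L163977) q8767, e3 q7947 (flp_b L163991) q8768, e3 q7948 L156333 q7018, e3 q7949 L156349 q7019, e3 q7950 L156361 q7504, e3 q7951 L156377 q7806, e3 q7952 L156391 q7164, e3 q7953 L156407 q7165, e3 q7954 L164342 q8795, e3 q7955 L156431 q7028, e3 q7956 (flp_b L156442) q7025, e3 q7957 (flp_b L164138) q8780, e3 q7958 L156468 q7171, e3 q7959 L156476 q7172, e3 q7960 L164393 q8799, e3 q7961 L156494 q7175, e3 q7962 (flp_b L156500) q7037, e3 q7963 (flp_b L164435) q8803, e3 q7964 (flp_b L164445) q8804, e3 q7965 L156522 q7179, e3 q7966 L156531 q7180, e3 q7967 L156538 q7181, e3 q7968 L156548 q7096, e3 q7969 L156569 q7210, e3 q7970 L156573 q7097, e3 q7971 (flp_b L156583) q7043, e3 q7972 L156599 q7707,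 e3 q7973 (flp_b L164534) q8814, e3 q7974 L156617 q7100, e3 q7975 L156628 q7101, e3 q7976 (flp_b L163264) q8703, e3 q7977 L156652 q7047, e3 q7978 L156662 q7048, e3 q7979 (flp_b L164601) q8820, e3 q7980 (flp_b L164611) q8821, e3 q7981 (flp_b L164625) q8822, e3 q7982 (flp_b L164635) q8823, e3 q7983 L156697 q7108, e3 q7984 L156708 q7109, e3 q7985 L156717 q7110, e3 q7986 L156725 q7205, e3 q7987 L156737 q7364, e3 q7988 L156747 q7111, e3 q7989 L156758 q7112, e3 q7990 (flp_b L163427) q8717, e3 q7991 L156784 q7056, e3 q7992 L156796 q7057, e3 q7993 (flp_b L164791) q8839, e3 q7994 L156816 q7700, e3 q7995 (flp_b L164804) q8840, e3 q7996 (flp_b L164816) q8841, e3 q7997 L156842 q7118, e3 q7998 L156856 q7119, e3 q7999 L156866 q7120, trivial⟩ (by decide +kernel)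

theorem ce_b_125 : ∀ r, r < 64 → sm gb (Qf (8000 + r)) = Qf (tab Gen.b (8000 + r)) :=
  edges_tab (sm gb) Qf (tab Gen.b) 8000 [(8000, 8722), (8001, 8723), (8002, 7064), (8003, 7065), (8004, 7066), (8005, 7067), (8006, 8855), (8007, 8856), (8008, 8857), (8009, 8858), (8010, 8859), (8011, 8860), (8012, 8861), (8013, 7129), (8014, 7130), (8015, 7131), (8016, 8016), (8017, 8017), (8018, 8018), (8019, 8019), (8020, 8020), (8021, 7132), (8022, 7133), (8023, 7134), (8024, 8024), (8025, 8025), (8026, 8026), (8027, 8027), (8028, 8028), (8029, 8029), (8030, 8030), (8031, 8031), (8032, 8032), (8033, 8033), (8034, 7135), (8035, 7136), (8036, 8894), (8037, 8037), (8038, 8038), (8039, 8039), (8040, 8813), (8041, 7099), (8042, 8895), (8043, 8818), (8044, 7142), (8045, 7105), (8046, 7106), (8047, 7107), (8048, 8898), (8049, 8899), (8050, 8831), (8051, 8832), (8052, 8833), (8053, 8837), (8054, 7150), (8055, 7116), (8056, 7117), (8057, 8907), (8058, 8848), (8059, 8849), (8060, 8850), (8061, 7156), (8062,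 7157), (8063, 7158)]
    ⟨e3 q8000 (flp_b L163477) q8722, e3 q8001 (flp_b L163491) q8723, e3 q8002 L156892 q7064, e3 q8003 L156897 q7065, e3 q8004 L156905 q7066, e3 q8005 L156913 q7067, e3 q8006 (flp_b L164959) q8855, e3 q8007 (flp_b L164966) q8856, e3 q8008 (flp_b L164971) q8857, e3 q8009 (flp_b L164980) q8858, e3 q8010 (flp_b L164992) q8859, e3 q8011 (flp_b L165002) q8860, e3 q8012 (flp_b L165010) q8861, e3 q8013 L156963 q7129, e3 q8014 L156973 q7130, e3 q8015 L156981 q7131, e3 q8016 L156991 q8016, e3 q8017 L156996 q8017, e3 q8018 L157005 q8018, e3 q8019 L157016 q8019, e3 q8020 L157024 q8020, e3 q8021 L157036 q7132, e3 q8022 L157049 q7133, e3 q8023 L157059 q7134, e3 q8024 L157068 q8024, e3 q8025 L157073 q8025, e3 q8026 L157078 q8026, e3 q8027 L157084 q8027, e3 q8028 L157091 q8028, e3 q8029 L157095 q8029, e3 q8030 L157098 q8030, e3 q8031 L157107 q8031, e3 q8032 L157117 q8032, e3 q8033 L157121 q8033, e3 q8034 L157129 q7135, e3 q8035 L157140 q7136, e3 q8036 L165237 q8894, e3 q8037 L157152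 q8037, e3 q8038 L157159 q8038, e3 q8039 L157169 q8039, e3 q8040 (flp_b L164518) q8813, e3 q8041 L157196 q7099, e3 q8042 (flp_b L165248) q8895, e3 q8043 (flp_b L164575) q8818, e3 q8044 L157240 q7142, e3 q8045 L157254 q7105, e3 q8046 L157268 q7106, e3 q8047 L157278 q7107, e3 q8048 (flp_b L165291) q8898, e3 q8049 (flp_b L165305) q8899, e3 q8050 (flp_b L164700) q8831, e3 q8051 (flp_b L164711) q8832, e3 q8052 (flp_b L164721) q8833, e3 q8053 (flp_b L164763) q8837, e3 q8054 L157360 q7150, e3 q8055 L157374 q7116, e3 q8056 L157385 q7117, e3 q8057 (flp_b L165410) q8907, e3 q8058 (flp_b L164886) q8848, e3 q8059 (flp_b L164900) q8849, e3 q8060 (flp_b L164910) q8850, e3 q8061 L157447 q7156, e3 q8062 L157460 q7157, e3 q8063 L157471 q7158, trivial⟩ (by decide +kernel)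

theorem ce_b_126 : ∀ r, r < 64 → sm gb (Qf (8064 + r)) = Qf (tab Gen.b (8064 + r)) :=
  edges_tab (sm gb) Qf (tab Gen.b) 8064 [(8064, 7126), (8065, 7127), (8066, 7128), (8067, 8914), (8068, 8915), (8069, 8916), (8070, 8872), (8071, 8873), (8072, 8921), (8073, 8881), (8074, 8924), (8075, 8925), (8076, 7137), (8077, 8784), (8078, 8897), (8079, 7510), (8080, 7805), (8081, 7351), (8082, 8788), (8083, 8929), (8084, 8790), (8085, 8906), (8086, 7804), (8087, 7340), (8088, 7512), (8089, 8932), (8090, 8912), (8091, 8913), (8092, 7162), (8093, 7163), (8094, 7502), (8095, 8789), (8096, 8928), (8097, 7353), (8098, 7166), (8099, 7599), (8100, 7168), (8101, 8926), (8102, 8798), (8103, 7173), (8104, 8939), (8105, 8940), (8106, 8741), (8107, 8743), (8108, 8801), (8109, 8109), (8110, 7177), (8111, 7178), (8112, 8947), (8113, 8948), (8114, 8809), (8115, 8810), (8116, 8811), (8117, 7185), (8118, 8118), (8119, 7190), (8120, 7191), (8121, 7201), (8122, 7200), (8123, 8834), (8124, 8124), (8125, 8835), (8126,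 7219), (8127, 7207)]
    ⟨e3 q8064 L157479 q7126, e3 q8065 L157490 q7127, e3 q8066 L157499 q7128, e3 q8067 (flp_b L165500) q8914, e3 q8068 (flp_b L165511) q8915, e3 q8069 (flp_b L165519) q8916, e3 q8070 (flp_b L165072) q8872, e3 q8071 (flp_b L165080) q8873, e3 q8072 L165566 q8921, e3 q8073 (flp_b L165152) q8881, e3 q8074 L165596 q8924, e3 q8075 L165604 q8925, e3 q8076 (flp_b L157586) q7137, e3 q8077 (flp_b L164182) q8784, e3 q8078 (flp_b L165277) q8897, e3 q8079 L157617 q7510, e3 q8080 L157631 q7805, e3 q8081 L157645 q7351, e3 q8082 (flp_b L164241) q8788, e3 q8083 L165656 q8929, e3 q8084 (flp_b L164271) q8790, e3 q8085 (flp_b L165394) q8906, e3 q8086 L157702 q7804, e3 q8087 L157715 q7340, e3 q8088 L157731 q7512, e3 q8089 (flp_b L165704) q8932, e3 q8090 (flp_b L165475) q8912, e3 q8091 (flp_b L165488) q8913, e3 q8092 L157774 q7162, e3 q8093 L157788 q7163, e3 q8094 L157797 q7502, e3 q8095 L164267 q8789, e3 q8096 (flp_b L165652) q8928, e3 q8097 L157833 q7353, e3 q8098 (flp_b L157835) q7166,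 e3 q8099 L157850 q7599, e3 q8100 L157857 q7168, e3 q8101 (flp_b L165624) q8926, e3 q8102 (flp_b L164385) q8798, e3 q8103 (flp_b L157886) q7173, e3 q8104 (flp_b L165794) q8939, e3 q8105 (flp_b L165808) q8940, e3 q8106 (flp_b L163670) q8741, e3 q8107 (flp_b L163687) q8743, e3 q8108 (flp_b L164417) q8801, e3 q8109 L157947 q8109, e3 q8110 L157950 q7177, e3 q8111 L157960 q7178, e3 q8112 (flp_b L165887) q8947, e3 q8113 (flp_b L165897) q8948, e3 q8114 (flp_b L164482) q8809, e3 q8115 (flp_b L164491) q8810, e3 q8116 (flp_b L164500) q8811, e3 q8117 L158013 q7185, e3 q8118 L158029 q8118, e3 q8119 L158042 q7190, e3 q8120 L158057 q7191, e3 q8121 L158070 q7201, e3 q8122 L158087 q7200, e3 q8123 (flp_b L164730) q8834, e3 q8124 L158117 q8124, e3 q8125 (flp_b L164741) q8835, e3 q8126 L158142 q7219, e3 q8127 (flp_b L158154) q7207, trivial⟩ (by decide +kernel)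

theorem ce_b_127 : ∀ r, r < 64 → sm gb (Qf (8128 + r)) = Qf (tab Gen.b (8128 + r)) :=
  edges_tab (sm gb) Qf (tab Gen.b) 8128 [(8128, 8956), (8129, 7222), (8130, 7256), (8131, 7211), (8132, 8797), (8133, 8812), (8134, 8959), (8135, 7226), (8136, 7514), (8137, 7691), (8138, 7221), (8139, 8964), (8140, 7233), (8141, 7225), (8142, 8967), (8143, 7228), (8144, 8968), (8145, 7237), (8146, 7231), (8147, 8971), (8148, 7807), (8149, 8966), (8150, 7235), (8151, 8969), (8152, 8152), (8153, 8153), (8154, 8975), (8155, 8155), (8156, 8156), (8157, 7243), (8158, 8981), (8159, 8982), (8160, 8160), (8161, 8161), (8162, 8162), (8163, 8713), (8164, 7298), (8165, 7248), (8166, 8991), (8167, 7301), (8168, 7412), (8169, 7251), (8170, 7252), (8171, 8994), (8172, 8731), (8173, 8995), (8174, 8996), (8175, 7307), (8176, 7308), (8177, 8696), (8178, 8958), (8179, 7309), (8180, 7310), (8181, 7260), (8182, 7261), (8183, 9008), (8184, 8699), (8185, 9009), (8186, 9010), (8187, 7315), (8188, 7316), (8189, 7429), (8190,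 7430), (8191, 7268)]
    ⟨e3 q8128 (flp_b L165986) q8956, e3 q8129 L158182 q7222, e3 q8130 L158200 q7256, e3 q8131 L158204 q7211, e3 q8132 (flp_b L164379) q8797, e3 q8133 (flp_b L164506) q8812, e3 q8134 (flp_b L166022) q8959, e3 q8135 L158246 q7226, e3 q8136 L158260 q7514, e3 q8137 L158272 q7691, e3 q8138 L158284 q7221, e3 q8139 (flp_b L166078) q8964, e3 q8140 L158308 q7233, e3 q8141 L158316 q7225, e3 q8142 (flp_b L166110) q8967, e3 q8143 L158334 q7228, e3 q8144 (flp_b L166120) q8968, e3 q8145 L158358 q7237, e3 q8146 L158371 q7231, e3 q8147 (flp_b L166153) q8971, e3 q8148 L158389 q7807, e3 q8149 (flp_b L166104) q8966, e3 q8150 L158411 q7235, e3 q8151 (flp_b L166131) q8969, e3 q8152 L158436 q8152, e3 q8153 L158445 q8153, e3 q8154 L166191 q8975, e3 q8155 L158466 q8155, e3 q8156 L158475 q8156, e3 q8157 (flp_b L158480) q7243, e3 q8158 (flp_b L166253) q8981, e3 q8159 (flp_b L166258) q8982, e3 q8160 L158503 q8160, e3 q8161 L158510 q8161, e3 q8162 L158519 q8162, e3 q8163 (flp_b L163368) q8713,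 e3 q8164 L158532 q7298, e3 q8165 (flp_b L158538) q7248, e3 q8166 (flp_b L166333) q8991, e3 q8167 L158564 q7301, e3 q8168 L158582 q7412, e3 q8169 L158586 q7251, e3 q8170 L158596 q7252, e3 q8171 (flp_b L166365) q8994, e3 q8172 (flp_b L163567) q8731, e3 q8173 (flp_b L166373) q8995, e3 q8174 (flp_b L166383) q8996, e3 q8175 L158638 q7307, e3 q8176 L158648 q7308, e3 q8177 (flp_b L163177) q8696, e3 q8178 (flp_b L166012) q8958, e3 q8179 L158678 q7309, e3 q8180 L158687 q7310, e3 q8181 L158695 q7260, e3 q8182 L158707 q7261, e3 q8183 (flp_b L166490) q9008, e3 q8184 (flp_b L163211) q8699, e3 q8185 (flp_b L166499) q9009, e3 q8186 (flp_b L166511) q9010, e3 q8187 L158751 q7315, e3 q8188 L158761 q7316, e3 q8189 L158775 q7429, e3 q8190 L158785 q7430, e3 q8191 L158795 q7268, trivial⟩ (by decide +kernel)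

theorem ce_b_128 : ∀ r, r < 64 → sm gb (Qf (8192 + r)) = Qf (tab Gen.b (8192 + r)) :=
  edges_tab (sm gb) Qf (tab Gen.b) 8192 [(8192, 7269), (8193, 7270), (8194, 7271), (8195, 9021), (8196, 9022), (8197, 9023), (8198, 8707), (8199, 9024), (8200, 9025), (8201, 9026), (8202, 7325), (8203, 7326), (8204, 7327), (8205, 8205), (8206, 8206), (8207, 8207), (8208, 8208), (8209, 8209), (8210, 7328), (8211, 8211), (8212, 8212), (8213, 8213), (8214, 8214), (8215, 8215), (8216, 8216), (8217, 8217), (8218, 8218), (8219, 8219), (8220, 8220), (8221, 7329), (8222, 7330), (8223, 7758), (8224, 8224), (8225, 8225), (8226, 8226), (8227, 8990), (8228, 7300), (8229, 9058), (8230, 7338), (8231, 7305), (8232, 7306), (8233, 9061), (8234, 9062), (8235, 9003), (8236, 9007), (8237, 7313), (8238, 7314), (8239, 9064), (8240, 9065), (8241, 9017), (8242, 7347), (8243, 7348), (8244, 7322), (8245, 7323), (8246, 7324), (8247, 9070), (8248, 9071), (8249, 9073), (8250, 9037), (8251, 9038), (8252, 7332), (8253, 9076), (8254,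 7357), (8255, 8970)]
    ⟨e3 q8192 L158800 q7269, e3 q8193 L158806 q7270, e3 q8194 L158814 q7271, e3 q8195 (flp_b L166618) q9021, e3 q8196 (flp_b L166625) q9022, e3 q8197 (flp_b L166630) q9023, e3 q8198 (flp_b L163299) q8707, e3 q8199 (flp_b L166637) q9024, e3 q8200 (flp_b L166645) q9025, e3 q8201 (flp_b L166653) q9026, e3 q8202 L158870 q7325, e3 q8203 L158880 q7326, e3 q8204 L158888 q7327, e3 q8205 L158902 q8205, e3 q8206 L158909 q8206, e3 q8207 L158918 q8207, e3 q8208 L158927 q8208, e3 q8209 L158939 q8209, e3 q8210 L158951 q7328, e3 q8211 L158964 q8211, e3 q8212 L158971 q8212, e3 q8213 L158980 q8213, e3 q8214 L158993 q8214, e3 q8215 L159002 q8215, e3 q8216 L159009 q8216, e3 q8217 L159014 q8217, e3 q8218 L159025 q8218, e3 q8219 L159038 q8219, e3 q8220 L159047 q8220, e3 q8221 L159058 q7329, e3 q8222 L159072 q7330, e3 q8223 L159088 q7758, e3 q8224 L159094 q8224, e3 q8225 L159101 q8225, e3 q8226 L159111 q8226, e3 q8227 (flp_b L166321) q8990, e3 q8228 L159133 q7300, e3 q8229 (flp_b L166959)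 q9058, e3 q8230 L159156 q7338, e3 q8231 L159163 q7305, e3 q8232 L159173 q7306, e3 q8233 (flp_b L166990) q9061, e3 q8234 (flp_b L167002) q9062, e3 q8235 (flp_b L166447) q9003, e3 q8236 (flp_b L166482) q9007, e3 q8237 L159218 q7313, e3 q8238 L159229 q7314, e3 q8239 (flp_b L167020) q9064, e3 q8240 (flp_b L167032) q9065, e3 q8241 (flp_b L166575) q9017, e3 q8242 L159267 q7347, e3 q8243 L159278 q7348, e3 q8244 L159284 q7322, e3 q8245 L159291 q7323, e3 q8246 L159297 q7324, e3 q8247 (flp_b L167083) q9070, e3 q8248 (flp_b L167089) q9071, e3 q8249 (flp_b L167100) q9073, e3 q8250 (flp_b L166733) q9037, e3 q8251 (flp_b L166741) q9038, e3 q8252 L159346 q7332, e3 q8253 (flp_b L167126) q9076, e3 q8254 L159367 q7357, e3 q8255 (flp_b L166145) q8970, trivial⟩ (by decide +kernel)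

theorem ce_b_129 : ∀ r, r < 64 → sm gb (Qf (8256 + r)) = Qf (tab Gen.b (8256 + r)) :=
  edges_tab (sm gb) Qf (tab Gen.b) 8256 [(8256, 7335), (8257, 7744), (8258, 9060), (8259, 7341), (8260, 7396), (8261, 7746), (8262, 7747), (8263, 9068), (8264, 9069), (8265, 7352), (8266, 8787), (8267, 7358), (8268, 8541), (8269, 9081), (8270, 7516), (8271, 7517), (8272, 7362), (8273, 9085), (8274, 8836), (8275, 7368), (8276, 7369), (8277, 7370), (8278, 7371), (8279, 9088), (8280, 9089), (8281, 9090), (8282, 9091), (8283, 9092), (8284, 9093), (8285, 7394), (8286, 8286), (8287, 8287), (8288, 8288), (8289, 8289), (8290, 8290), (8291, 8291), (8292, 8292), (8293, 8293), (8294, 8294), (8295, 8295), (8296, 8296), (8297, 8297), (8298, 7388), (8299, 7392), (8300, 7393), (8301, 9108), (8302, 9109), (8303, 8783), (8304, 7515), (8305, 7751), (8306, 7752), (8307, 7518), (8308, 7519), (8309, 8980), (8310, 7403), (8311, 7404), (8312, 9118), (8313, 9119), (8314, 9120), (8315, 9121), (8316, 7526), (8317, 7527), (8318,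 7528), (8319, 7756)]
    ⟨e3 q8256 L159377 q7335, e3 q8257 L159383 q7744, e3 q8258 (flp_b L166982) q9060, e3 q8259 L159404 q7341, e3 q8260 L159413 q7396, e3 q8261 L159422 q7746, e3 q8262 L159433 q7747, e3 q8263 (flp_b L167065) q9068, e3 q8264 (flp_b L167075) q9069, e3 q8265 L159463 q7352, e3 q8266 (flp_b L164226) q8787, e3 q8267 (flp_b L159479) q7358, e3 q8268 (flp_b L161940) q8541, e3 q8269 (flp_b L167168) q9081, e3 q8270 L159513 q7516, e3 q8271 L159523 q7517, e3 q8272 L159533 q7362, e3 q8273 (flp_b L167210) q9085, e3 q8274 (flp_b L164753) q8836, e3 q8275 L159555 q7368, e3 q8276 L159562 q7369, e3 q8277 L159570 q7370, e3 q8278 L159578 q7371, e3 q8279 (flp_b L167236) q9088, e3 q8280 (flp_b L167247) q9089, e3 q8281 (flp_b L167260) q9090, e3 q8282 (flp_b L167269) q9091, e3 q8283 (flp_b L167279) q9092, e3 q8284 (flp_b L167287) q9093, e3 q8285 L159634 q7394, e3 q8286 L159642 q8286, e3 q8287 L159651 q8287, e3 q8288 L159660 q8288, e3 q8289 L159669 q8289, e3 q8290 L159678 q8290, e3 q8291 L159685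 q8291, e3 q8292 L159700 q8292, e3 q8293 L159713 q8293, e3 q8294 L159728 q8294, e3 q8295 L159741 q8295, e3 q8296 L159755 q8296, e3 q8297 L159767 q8297, e3 q8298 L159779 q7388, e3 q8299 L159787 q7392, e3 q8300 L159796 q7393, e3 q8301 (flp_b L167423) q9108, e3 q8302 (flp_b L167431) q9109, e3 q8303 (flp_b L164167) q8783, e3 q8304 L159822 q7515, e3 q8305 L159830 q7751, e3 q8306 L159838 q7752, e3 q8307 L159848 q7518, e3 q8308 L159858 q7519, e3 q8309 (flp_b L166249) q8980, e3 q8310 L159874 q7403, e3 q8311 L159884 q7404, e3 q8312 (flp_b L167511) q9118, e3 q8313 (flp_b L167520) q9119, e3 q8314 (flp_b L167530) q9120, e3 q8315 (flp_b L167540) q9121, e3 q8316 L159914 q7526, e3 q8317 L159920 q7527, e3 q8318 L159928 q7528, e3 q8319 L159936 q7756, trivial⟩ (by decide +kernel)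

theorem ce_b_130 : ∀ r, r < 64 → sm gb (Qf (8320 + r)) = Qf (tab Gen.b (8320 + r)) :=
  edges_tab (sm gb) Qf (tab Gen.b) 8320 [(8320, 7757), (8321, 7759), (8322, 8844), (8323, 8993), (8324, 7415), (8325, 7416), (8326, 7417), (8327, 7418), (8328, 9138), (8329, 9139), (8330, 9140), (8331, 8852), (8332, 9141), (8333, 9142), (8334, 9143), (8335, 7481), (8336, 7482), (8337, 7762), (8338, 7763), (8339, 7764), (8340, 7765), (8341, 7766), (8342, 7767), (8343, 7768), (8344, 7483), (8345, 7484), (8346, 9018), (8347, 8827), (8348, 9019), (8349, 9020), (8350, 7435), (8351, 7436), (8352, 7437), (8353, 7438), (8354, 7439), (8355, 7440), (8356, 7441), (8357, 9172), (8358, 9173), (8359, 9174), (8360, 9175), (8361, 9176), (8362, 9177), (8363, 9178), (8364, 9179), (8365, 9180), (8366, 9181), (8367, 7494), (8368, 7495), (8369, 9194), (8370, 7554), (8371, 7555), (8372, 7556), (8373, 7557), (8374, 7558), (8375, 7559), (8376, 7560), (8377, 7561), (8378, 7562), (8379, 7563), (8380, 7497), (8381, 7567), (8382,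 7568), (8383, 7569)]
    ⟨e3 q8320 L159946 q7757, e3 q8321 L159954 q7759, e3 q8322 (flp_b L164846) q8844, e3 q8323 (flp_b L166357) q8993, e3 q8324 L159982 q7415, e3 q8325 L159989 q7416, e3 q8326 L159997 q7417, e3 q8327 L160007 q7418, e3 q8328 (flp_b L167677) q9138, e3 q8329 (flp_b L167684) q9139, e3 q8330 (flp_b L167693) q9140, e3 q8331 (flp_b L164929) q8852, e3 q8332 (flp_b L167702) q9141, e3 q8333 (flp_b L167710) q9142, e3 q8334 (flp_b L167722) q9143, e3 q8335 L160059 q7481, e3 q8336 L160067 q7482, e3 q8337 L160075 q7762, e3 q8338 L160083 q7763, e3 q8339 L160091 q7764, e3 q8340 L160101 q7765, e3 q8341 L160109 q7766, e3 q8342 L160117 q7767, e3 q8343 L160127 q7768, e3 q8344 L160133 q7483, e3 q8345 L160143 q7484, e3 q8346 (flp_b L166587) q9018, e3 q8347 (flp_b L164662) q8827, e3 q8348 (flp_b L166598) q9019, e3 q8349 (flp_b L166610) q9020, e3 q8350 L160183 q7435, e3 q8351 L160191 q7436, e3 q8352 L160201 q7437, e3 q8353 L160213 q7438, e3 q8354 L160221 q7439, e3 q8355 L160229 q7440, e3 q8356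 L160239 q7441, e3 q8357 (flp_b L167964) q9172, e3 q8358 (flp_b L167972) q9173, e3 q8359 (flp_b L167984) q9174, e3 q8360 (flp_b L167996) q9175, e3 q8361 (flp_b L168006) q9176, e3 q8362 (flp_b L168016) q9177, e3 q8363 (flp_b L168026) q9178, e3 q8364 (flp_b L168036) q9179, e3 q8365 (flp_b L168044) q9180, e3 q8366 (flp_b L168050) q9181, e3 q8367 L160301 q7494, e3 q8368 L160307 q7495, e3 q8369 L168122 q9194, e3 q8370 L160319 q7554, e3 q8371 L160328 q7555, e3 q8372 L160340 q7556, e3 q8373 L160352 q7557, e3 q8374 L160360 q7558, e3 q8375 L160368 q7559, e3 q8376 L160374 q7560, e3 q8377 L160387 q7561, e3 q8378 L160400 q7562, e3 q8379 L160410 q7563, e3 q8380 L160422 q7497, e3 q8381 L160433 q7567, e3 q8382 L160441 q7568, e3 q8383 L160449 q7569, trivial⟩ (by decide +kernel)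

theorem ce_b_131 : ∀ r, r < 64 → sm gb (Qf (8384 + r)) = Qf (tab Gen.b (8384 + r)) :=
  edges_tab (sm gb) Qf (tab Gen.b) 8384 [(8384, 7570), (8385, 7571), (8386, 7572), (8387, 7573), (8388, 7574), (8389, 9213), (8390, 7576), (8391, 8719), (8392, 7466), (8393, 7578), (8394, 7579), (8395, 7582), (8396, 7499), (8397, 7500), (8398, 7479), (8399, 7480), (8400, 9217), (8401, 9218), (8402, 9154), (8403, 9165), (8404, 7506), (8405, 7507), (8406, 7491), (8407, 7492), (8408, 7493), (8409, 9222), (8410, 9223), (8411, 9226), (8412, 7496), (8413, 9216), (8414, 7503), (8415, 8935), (8416, 9220), (8417, 9221), (8418, 7511), (8419, 8931), (8420, 7876), (8421, 7878), (8422, 8963), (8423, 9111), (8424, 9084), (8425, 9115), (8426, 8426), (8427, 8427), (8428, 7523), (8429, 7524), (8430, 7525), (8431, 9237), (8432, 9238), (8433, 9239), (8434, 9129), (8435, 9130), (8436, 9131), (8437, 8437), (8438, 8438), (8439, 8439), (8440, 8440), (8441, 8441), (8442, 8442), (8443, 7541), (8444, 7542), (8445, 7543), (8446,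 7544), (8447, 7545)]
    ⟨e3 q8384 L160461 q7570, e3 q8385 L160467 q7571, e3 q8386 L160473 q7572, e3 q8387 L160479 q7573, e3 q8388 L160491 q7574, e3 q8389 L168302 q9213, e3 q8390 L160507 q7576, e3 q8391 (flp_b L163443) q8719, e3 q8392 (flp_b L160521) q7466, e3 q8393 L160531 q7578, e3 q8394 L160541 q7579, e3 q8395 L160554 q7582, e3 q8396 L160571 q7499, e3 q8397 L160582 q7500, e3 q8398 L160590 q7479, e3 q8399 L160597 q7480, e3 q8400 (flp_b L168346) q9217, e3 q8401 (flp_b L168354) q9218, e3 q8402 (flp_b L167800) q9154, e3 q8403 (flp_b L167900) q9165, e3 q8404 L160646 q7506, e3 q8405 L160656 q7507, e3 q8406 L160664 q7491, e3 q8407 L160674 q7492, e3 q8408 L160680 q7493, e3 q8409 (flp_b L168390) q9222, e3 q8410 (flp_b L168398) q9223, e3 q8411 L168420 q9226, e3 q8412 (flp_b L160714) q7496, e3 q8413 (flp_b L168336) q9216, e3 q8414 L160730 q7503, e3 q8415 (flp_b L165743) q8935, e3 q8416 (flp_b L168374) q9220, e3 q8417 (flp_b L168382) q9221, e3 q8418 L160760 q7511, e3 q8419 (flp_b L165696) q8931,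 e3 q8420 L160777 q7876, e3 q8421 L160786 q7878, e3 q8422 (flp_b L166066) q8963, e3 q8423 (flp_b L167443) q9111, e3 q8424 (flp_b L167200) q9084, e3 q8425 (flp_b L167483) q9115, e3 q8426 L160832 q8426, e3 q8427 L160842 q8427, e3 q8428 L160849 q7523, e3 q8429 L160858 q7524, e3 q8430 L160867 q7525, e3 q8431 (flp_b L168537) q9237, e3 q8432 (flp_b L168548) q9238, e3 q8433 (flp_b L168557) q9239, e3 q8434 (flp_b L167598) q9129, e3 q8435 (flp_b L167606) q9130, e3 q8436 (flp_b L167612) q9131, e3 q8437 L160927 q8437, e3 q8438 L160934 q8438, e3 q8439 L160944 q8439, e3 q8440 L160955 q8440, e3 q8441 L160966 q8441, e3 q8442 L160976 q8442, e3 q8443 L160986 q7541, e3 q8444 L160993 q7542, e3 q8445 L161003 q7543, e3 q8446 L161014 q7544, e3 q8447 L161022 q7545, trivial⟩ (by decide +kernel)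

theorem ce_b_132 : ∀ r, r < 64 → sm gb (Qf (8448 + r)) = Qf (tab Gen.b (8448 + r)) :=
  edges_tab (sm gb) Qf (tab Gen.b) 8448 [(8448, 7546), (8449, 7547), (8450, 7548), (8451, 7549), (8452, 7550), (8453, 9255), (8454, 9256), (8455, 9257), (8456, 9258), (8457, 9259), (8458, 9260), (8459, 9261), (8460, 9262), (8461, 9274), (8462, 9264), (8463, 9265), (8464, 7553), (8465, 9195), (8466, 9196), (8467, 9197), (8468, 9198), (8469, 9199), (8470, 9200), (8471, 9201), (8472, 9202), (8473, 9287), (8474, 9203), (8475, 8745), (8476, 7566), (8477, 9204), (8478, 9205), (8479, 9206), (8480, 9207), (8481, 9208), (8482, 9290), (8483, 9210), (8484, 9211), (8485, 7575), (8486, 9215), (8487, 7594), (8488, 7595), (8489, 7596), (8490, 7589), (8491, 7590), (8492, 9296), (8493, 9295), (8494, 7591), (8495, 9291), (8496, 9292), (8497, 7688), (8498, 8498), (8499, 8499), (8500, 7686), (8501, 7684), (8502, 7685), (8503, 7679), (8504, 7680), (8505, 7682), (8506, 7683), (8507, 8507), (8508, 8508), (8509, 8509), (8510,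 8510), (8511, 8511)]
    ⟨e3 q8448 L161031 q7546, e3 q8449 L161039 q7547, e3 q8450 L161050 q7548, e3 q8451 L161060 q7549, e3 q8452 L161067 q7550, e3 q8453 (flp_b L168705) q9255, e3 q8454 (flp_b L168714) q9256, e3 q8455 (flp_b L168724) q9257, e3 q8456 (flp_b L168735) q9258, e3 q8457 (flp_b L168741) q9259, e3 q8458 (flp_b L168751) q9260, e3 q8459 (flp_b L168759) q9261, e3 q8460 (flp_b L168771) q9262, e3 q8461 L168878 q9274, e3 q8462 (flp_b L168785) q9264, e3 q8463 (flp_b L168794) q9265, e3 q8464 (flp_b L161171) q7553, e3 q8465 (flp_b L168130) q9195, e3 q8466 (flp_b L168139) q9196, e3 q8467 (flp_b L168151) q9197, e3 q8468 (flp_b L168163) q9198, e3 q8469 (flp_b L168169) q9199, e3 q8470 (flp_b L168179) q9200, e3 q8471 (flp_b L168189) q9201, e3 q8472 (flp_b L168204) q9202, e3 q8473 L169011 q9287, e3 q8474 (flp_b L168214) q9203, e3 q8475 (flp_b L163702) q8745, e3 q8476 (flp_b L161292) q7566, e3 q8477 (flp_b L168226) q9204, e3 q8478 (flp_b L168232) q9205, e3 q8479 (flp_b L168240) q9206, e3 q8480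 (flp_b L168252) q9207, e3 q8481 (flp_b L168262) q9208, e3 q8482 L169043 q9290, e3 q8483 (flp_b L168274) q9210, e3 q8484 (flp_b L168282) q9211, e3 q8485 (flp_b L161369) q7575, e3 q8486 (flp_b L168324) q9215, e3 q8487 L161392 q7594, e3 q8488 L161403 q7595, e3 q8489 L161413 q7596, e3 q8490 L161420 q7589, e3 q8491 L161430 q7590, e3 q8492 L169090 q9296, e3 q8493 (flp_b L169084) q9295, e3 q8494 (flp_b L161450) q7591, e3 q8495 (flp_b L169053) q9291, e3 q8496 (flp_b L169065) q9292, e3 q8497 L161479 q7688, e3 q8498 L161491 q8498, e3 q8499 L161499 q8499, e3 q8500 L161511 q7686, e3 q8501 L161519 q7684, e3 q8502 L161529 q7685, e3 q8503 L161542 q7679, e3 q8504 L161558 q7680, e3 q8505 L161576 q7682, e3 q8506 L161590 q7683, e3 q8507 L161603 q8507, e3 q8508 L161618 q8508, e3 q8509 L161635 q8509, e3 q8510 L161648 q8510, e3 q8511 L161660 q8511, trivial⟩ (by decide +kernel)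

theorem ce_b_133 : ∀ r, r < 64 → sm gb (Qf (8512 + r)) = Qf (tab Gen.b (8512 + r)) :=
  edges_tab (sm gb) Qf (tab Gen.b) 8512 [(8512, 8512), (8513, 8513), (8514, 8514), (8515, 8515), (8516, 8516), (8517, 7674), (8518, 8518), (8519, 7675), (8520, 8520), (8521, 8521), (8522, 8522), (8523, 8523), (8524, 8524), (8525, 7676), (8526, 7677), (8527, 7678), (8528, 8528), (8529, 8529), (8530, 8530), (8531, 8531), (8532, 8532), (8533, 8533), (8534, 8534), (8535, 8535), (8536, 7681), (8537, 7692), (8538, 7693), (8539, 8806), (8540, 7694), (8541, 8268), (8542, 7665), (8543, 8616), (8544, 7880), (8545, 7881), (8546, 9306), (8547, 9307), (8548, 9315), (8549, 9327), (8550, 7886), (8551, 7885), (8552, 9303), (8553, 9301), (8554, 9302), (8555, 9300), (8556, 8740), (8557, 9299), (8558, 7687), (8559, 7696), (8560, 9329), (8561, 9330), (8562, 8562), (8563, 8563), (8564, 8564), (8565, 7701), (8566, 8842), (8567, 8845), (8568, 9337), (8569, 7732), (8570, 7706), (8571, 7708), (8572, 7709), (8573, 8815), (8574,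 9343), (8575, 9344)]
    ⟨e3 q8512 L161671 q8512, e3 q8513 L161683 q8513, e3 q8514 L161692 q8514, e3 q8515 L161705 q8515, e3 q8516 L161714 q8516, e3 q8517 L161725 q7674, e3 q8518 L161740 q8518, e3 q8519 L161755 q7675, e3 q8520 L161768 q8520, e3 q8521 L161775 q8521, e3 q8522 L161781 q8522, e3 q8523 L161788 q8523, e3 q8524 L161800 q8524, e3 q8525 L161810 q7676, e3 q8526 L161821 q7677, e3 q8527 L161829 q7678, e3 q8528 L161834 q8528, e3 q8529 L161838 q8529, e3 q8530 L161851 q8530, e3 q8531 L161862 q8531, e3 q8532 L161869 q8532, e3 q8533 L161874 q8533, e3 q8534 L161877 q8534, e3 q8535 L161885 q8535, e3 q8536 L161896 q7681, e3 q8537 L161906 q7692, e3 q8538 L161918 q7693, e3 q8539 (flp_b L164460) q8806, e3 q8540 L161928 q7694, e3 q8541 L161940 q8268, e3 q8542 (flp_b L161944) q7665, e3 q8543 (flp_b L162554) q8616, e3 q8544 L161961 q7880, e3 q8545 L161976 q7881, e3 q8546 (flp_b L169213) q9306, e3 q8547 (flp_b L169226) q9307, e3 q8548 (flp_b L169304) q9315, e3 q8549 L169399 q9327, e3 q8550 L162021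 q7886, e3 q8551 L162036 q7885, e3 q8552 (flp_b L169173) q9303, e3 q8553 (flp_b L169149) q9301, e3 q8554 (flp_b L169163) q9302, e3 q8555 (flp_b L169135) q9300, e3 q8556 (flp_b L163660) q8740, e3 q8557 (flp_b L169122) q9299, e3 q8558 (flp_b L162107) q7687, e3 q8559 (flp_b L162113) q7696, e3 q8560 (flp_b L169420) q9329, e3 q8561 (flp_b L169427) q9330, e3 q8562 L162140 q8562, e3 q8563 L162150 q8563, e3 q8564 L162158 q8564, e3 q8565 L162163 q7701, e3 q8566 (flp_b L164828) q8842, e3 q8567 (flp_b L164860) q8845, e3 q8568 (flp_b L169492) q9337, e3 q8569 L162192 q7732, e3 q8570 L162200 q7706, e3 q8571 L162207 q7708, e3 q8572 L162215 q7709, e3 q8573 (flp_b L164546) q8815, e3 q8574 (flp_b L169539) q9343, e3 q8575 (flp_b L169546) q9344, trivial⟩ (by decide +kernel)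

theorem ce_b_134 : ∀ r, r < 64 → sm gb (Qf (8576 + r)) = Qf (tab Gen.b (8576 + r)) :=
  edges_tab (sm gb) Qf (tab Gen.b) 8576 [(8576, 8816), (8577, 9345), (8578, 9346), (8579, 7737), (8580, 7738), (8581, 8581), (8582, 8582), (8583, 8583), (8584, 8584), (8585, 8585), (8586, 8586), (8587, 8587), (8588, 8588), (8589, 8589), (8590, 8590), (8591, 7739), (8592, 7740), (8593, 9368), (8594, 8594), (8595, 8595), (8596, 8596), (8597, 7731), (8598, 9369), (8599, 9342), (8600, 7735), (8601, 7736), (8602, 9372), (8603, 9374), (8604, 9355), (8605, 9378), (8606, 7741), (8607, 8781), (8608, 7743), (8609, 9379), (8610, 8930), (8611, 8936), (8612, 9228), (8613, 8927), (8614, 7749), (8615, 9112), (8616, 8543), (8617, 9113), (8618, 9114), (8619, 7810), (8620, 7811), (8621, 7812), (8622, 9132), (8623, 9133), (8624, 9055), (8625, 9057), (8626, 9039), (8627, 9134), (8628, 7794), (8629, 7795), (8630, 9155), (8631, 9156), (8632, 9157), (8633, 9158), (8634, 9159), (8635, 9160), (8636, 9161), (8637, 9162), (8638,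 9163), (8639, 9164)]
    ⟨e3 q8576 (flp_b L164555) q8816, e3 q8577 (flp_b L169555) q9345, e3 q8578 (flp_b L169563) q9346, e3 q8579 L162271 q7737, e3 q8580 L162279 q7738, e3 q8581 L162287 q8581, e3 q8582 L162296 q8582, e3 q8583 L162303 q8583, e3 q8584 L162311 q8584, e3 q8585 L162320 q8585, e3 q8586 L162328 q8586, e3 q8587 L162335 q8587, e3 q8588 L162346 q8588, e3 q8589 L162358 q8589, e3 q8590 L162364 q8590, e3 q8591 L162378 q7739, e3 q8592 L162389 q7740, e3 q8593 L169742 q9368, e3 q8594 L162403 q8594, e3 q8595 L162416 q8595, e3 q8596 L162430 q8596, e3 q8597 L162441 q7731, e3 q8598 (flp_b L169749) q9369, e3 q8599 (flp_b L169532) q9342, e3 q8600 L162461 q7735, e3 q8601 L162467 q7736, e3 q8602 (flp_b L169770) q9372, e3 q8603 (flp_b L169779) q9374, e3 q8604 (flp_b L169631) q9355, e3 q8605 L169805 q9378, e3 q8606 (flp_b L162496) q7741, e3 q8607 (flp_b L164150) q8781, e3 q8608 L162507 q7743, e3 q8609 (flp_b L169815) q9379, e3 q8610 (flp_b L165682) q8930, e3 q8611 (flp_b L165758) q8936, e3 q8612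 (flp_b L168448) q9228, e3 q8613 L165639 q8927, e3 q8614 L162541 q7749, e3 q8615 (flp_b L167453) q9112, e3 q8616 L162554 q8543, e3 q8617 (flp_b L167465) q9113, e3 q8618 (flp_b L167475) q9114, e3 q8619 L162576 q7810, e3 q8620 L162585 q7811, e3 q8621 L162594 q7812, e3 q8622 (flp_b L167620) q9132, e3 q8623 (flp_b L167632) q9133, e3 q8624 L166930 q9055, e3 q8625 (flp_b L166953) q9057, e3 q8626 (flp_b L166761) q9039, e3 q8627 (flp_b L167642) q9134, e3 q8628 L162635 q7794, e3 q8629 L162643 q7795, e3 q8630 (flp_b L167808) q9155, e3 q8631 (flp_b L167818) q9156, e3 q8632 (flp_b L167832) q9157, e3 q8633 (flp_b L167844) q9158, e3 q8634 (flp_b L167854) q9159, e3 q8635 (flp_b L167862) q9160, e3 q8636 (flp_b L167870) q9161, e3 q8637 (flp_b L167880) q9162, e3 q8638 (flp_b L167888) q9163, e3 q8639 (flp_b L167894) q9164, trivial⟩ (by decide +kernel)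

theorem ce_b_135 : ∀ r, r < 64 → sm gb (Qf (8640 + r)) = Qf (tab Gen.b (8640 + r)) :=
  edges_tab (sm gb) Qf (tab Gen.b) 8640 [(8640, 7796), (8641, 7797), (8642, 9415), (8643, 7813), (8644, 7814), (8645, 7815), (8646, 7816), (8647, 7817), (8648, 7818), (8649, 7819), (8650, 7820), (8651, 9426), (8652, 7822), (8653, 7799), (8654, 9429), (8655, 7801), (8656, 7784), (8657, 7827), (8658, 7828), (8659, 7831), (8660, 7833), (8661, 7842), (8662, 7923), (8663, 9399), (8664, 9412), (8665, 9434), (8666, 9414), (8667, 7798), (8668, 7800), (8669, 7809), (8670, 9435), (8671, 9388), (8672, 9389), (8673, 9390), (8674, 9416), (8675, 9417), (8676, 9418), (8677, 9419), (8678, 9420), (8679, 9446), (8680, 9422), (8681, 9423), (8682, 9448), (8683, 9425), (8684, 7821), (8685, 9450), (8686, 7824), (8687, 8687), (8688, 9432), (8689, 7887), (8690, 7843), (8691, 9452), (8692, 9453), (8693, 8693), (8694, 8694), (8695, 8695), (8696, 8177), (8697, 7889), (8698, 7848), (8699, 8184), (8700, 9462), (8701, 7892), (8702,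 7893), (8703, 7976)]
    ⟨e3 q8640 L162706 q7796, e3 q8641 L162712 q7797, e3 q8642 L170058 q9415, e3 q8643 L162724 q7813, e3 q8644 L162734 q7814, e3 q8645 L162742 q7815, e3 q8646 L162749 q7816, e3 q8647 L162755 q7817, e3 q8648 L162763 q7818, e3 q8649 L162769 q7819, e3 q8650 L162780 q7820, e3 q8651 L170138 q9426, e3 q8652 L162792 q7822, e3 q8653 L162799 q7799, e3 q8654 L170155 q9429, e3 q8655 L162811 q7801, e3 q8656 (flp_b L162816) q7784, e3 q8657 L162825 q7827, e3 q8658 L162839 q7828, e3 q8659 L162854 q7831, e3 q8660 L162868 q7833, e3 q8661 L162889 q7842, e3 q8662 L162897 q7923, e3 q8663 (flp_b L169964) q9399, e3 q8664 (flp_b L170040) q9412, e3 q8665 L170197 q9434, e3 q8666 (flp_b L170054) q9414, e3 q8667 (flp_b L162939) q7798, e3 q8668 (flp_b L162943) q7800, e3 q8669 L162955 q7809, e3 q8670 (flp_b L170207) q9435, e3 q8671 (flp_b L169887) q9388, e3 q8672 (flp_b L169896) q9389, e3 q8673 (flp_b L169906) q9390, e3 q8674 (flp_b L170066) q9416, e3 q8675 (flp_b L170074) q9417, e3 q8676 (flp_b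 L170080) q9418, e3 q8677 (flp_b L170088) q9419, e3 q8678 (flp_b L170096) q9420, e3 q8679 L170290 q9446, e3 q8680 (flp_b L170107) q9422, e3 q8681 (flp_b L170115) q9423, e3 q8682 L170301 q9448, e3 q8683 (flp_b L170131) q9425, e3 q8684 (flp_b L163058) q7821, e3 q8685 (flp_b L170320) q9450, e3 q8686 (flp_b L163070) q7824, e3 q8687 L163087 q8687, e3 q8688 (flp_b L170176) q9432, e3 q8689 L163096 q7887, e3 q8690 (flp_b L163109) q7843, e3 q8691 (flp_b L170343) q9452, e3 q8692 (flp_b L170356) q9453, e3 q8693 L163140 q8693, e3 q8694 L163150 q8694, e3 q8695 L163160 q8695, e3 q8696 L163177 q8177, e3 q8697 L163183 q7889, e3 q8698 (flp_b L163193) q7848, e3 q8699 L163211 q8184, e3 q8700 (flp_b L170465) q9462, e3 q8701 L163233 q7892, e3 q8702 L163246 q7893, e3 q8703 L163264 q7976, trivial⟩ (by decide +kernel)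

theorem ce_b_136 : ∀ r, r < 64 → sm gb (Qf (8704 + r)) = Qf (tab Gen.b (8704 + r)) :=
  edges_tab (sm gb) Qf (tab Gen.b) 8704 [(8704, 7852), (8705, 7853), (8706, 9468), (8707, 8198), (8708, 9469), (8709, 9470), (8710, 7899), (8711, 7900), (8712, 7857), (8713, 8163), (8714, 9479), (8715, 7903), (8716, 7904), (8717, 7990), (8718, 7862), (8719, 8391), (8720, 9484), (8721, 7908), (8722, 8000), (8723, 8001), (8724, 7868), (8725, 7869), (8726, 7870), (8727, 7871), (8728, 9491), (8729, 9492), (8730, 9493), (8731, 8172), (8732, 9494), (8733, 9495), (8734, 9496), (8735, 7917), (8736, 7918), (8737, 7919), (8738, 7920), (8739, 8941), (8740, 8556), (8741, 8106), (8742, 9230), (8743, 8107), (8744, 9231), (8745, 8475), (8746, 9323), (8747, 7921), (8748, 9518), (8749, 9461), (8750, 7891), (8751, 9519), (8752, 9466), (8753, 7934), (8754, 7897), (8755, 7898), (8756, 9523), (8757, 9524), (8758, 9477), (8759, 9478), (8760, 7902), (8761, 9528), (8762, 9482), (8763, 7942), (8764, 7907), (8765, 9531), (8766,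 9487), (8767, 7946)]
    ⟨e3 q8704 L163272 q7852, e3 q8705 L163284 q7853, e3 q8706 (flp_b L170546) q9468, e3 q8707 L163299 q8198, e3 q8708 (flp_b L170562) q9469, e3 q8709 (flp_b L170574) q9470, e3 q8710 L163331 q7899, e3 q8711 L163344 q7900, e3 q8712 (flp_b L163350) q7857, e3 q8713 L163368 q8163, e3 q8714 (flp_b L170676) q9479, e3 q8715 L163392 q7903, e3 q8716 L163405 q7904, e3 q8717 L163427 q7990, e3 q8718 L163431 q7862, e3 q8719 L163443 q8391, e3 q8720 (flp_b L170742) q9484, e3 q8721 L163465 q7908, e3 q8722 L163477 q8000, e3 q8723 L163491 q8001, e3 q8724 L163499 q7868, e3 q8725 L163509 q7869, e3 q8726 L163521 q7870, e3 q8727 L163531 q7871, e3 q8728 (flp_b L170830) q9491, e3 q8729 (flp_b L170842) q9492, e3 q8730 (flp_b L170854) q9493, e3 q8731 L163567 q8172, e3 q8732 (flp_b L170866) q9494, e3 q8733 (flp_b L170878) q9495, e3 q8734 (flp_b L170888) q9496, e3 q8735 L163607 q7917, e3 q8736 L163621 q7918, e3 q8737 L163631 q7919, e3 q8738 L163641 q7920, e3 q8739 (flp_b L165819) q8941, e3 q8740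 L163660 q8556, e3 q8741 L163670 q8106, e3 q8742 (flp_b L168463) q9230, e3 q8743 L163687 q8107, e3 q8744 (flp_b L168474) q9231, e3 q8745 L163702 q8475, e3 q8746 (flp_b L169357) q9323, e3 q8747 L163723 q7921, e3 q8748 L171100 q9518, e3 q8749 (flp_b L170449) q9461, e3 q8750 L163757 q7891, e3 q8751 (flp_b L171115) q9519, e3 q8752 (flp_b L170518) q9466, e3 q8753 L163798 q7934, e3 q8754 L163811 q7897, e3 q8755 L163823 q7898, e3 q8756 (flp_b L171173) q9523, e3 q8757 (flp_b L171187) q9524, e3 q8758 (flp_b L170651) q9477, e3 q8759 (flp_b L170665) q9478, e3 q8760 L163883 q7902, e3 q8761 (flp_b L171243) q9528, e3 q8762 (flp_b L170714) q9482, e3 q8763 L163927 q7942, e3 q8764 L163939 q7907, e3 q8765 (flp_b L171286) q9531, e3 q8766 (flp_b L170776) q9487, e3 q8767 L163977 q7946, trivial⟩ (by decide +kernel)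

theorem ce_b_137 : ∀ r, r < 64 → sm gb (Qf (8768 + r)) = Qf (tab Gen.b (8768 + r)) :=
  edges_tab (sm gb) Qf (tab Gen.b) 8768 [(8768, 7947), (8769, 7914), (8770, 7915), (8771, 7916), (8772, 9534), (8773, 9536), (8774, 9507), (8775, 9508), (8776, 9538), (8777, 9433), (8778, 7922), (8779, 7927), (8780, 7957), (8781, 8607), (8782, 7930), (8783, 8303), (8784, 8077), (8785, 9522), (8786, 7937), (8787, 8266), (8788, 8082), (8789, 8095), (8790, 8084), (8791, 9530), (8792, 7944), (8793, 9532), (8794, 9533), (8795, 7954), (8796, 9539), (8797, 8132), (8798, 8102), (8799, 7960), (8800, 9547), (8801, 8108), (8802, 9451), (8803, 7963), (8804, 7964), (8805, 9551), (8806, 8539), (8807, 9552), (8808, 9553), (8809, 8114), (8810, 8115), (8811, 8116), (8812, 8133), (8813, 8040), (8814, 7973), (8815, 8573), (8816, 8576), (8817, 9564), (8818, 8043), (8819, 9467), (8820, 7979), (8821, 7980), (8822, 7981), (8823, 7982), (8824, 9570), (8825, 9571), (8826, 9572), (8827, 8347), (8828, 9573), (8829, 9574), (8830,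 9575), (8831, 8050)]
    ⟨e3 q8768 L163991 q7947, e3 q8769 L163999 q7914, e3 q8770 L164011 q7915, e3 q8771 L164021 q7916, e3 q8772 (flp_b L171328) q9534, e3 q8773 (flp_b L171352) q9536, e3 q8774 (flp_b L170992) q9507, e3 q8775 (flp_b L171008) q9508, e3 q8776 L171378 q9538, e3 q8777 (flp_b L170188) q9433, e3 q8778 (flp_b L164112) q7922, e3 q8779 L164125 q7927, e3 q8780 L164138 q7957, e3 q8781 L164150 q8607, e3 q8782 L164156 q7930, e3 q8783 L164167 q8303, e3 q8784 L164182 q8077, e3 q8785 (flp_b L171159) q9522, e3 q8786 L164211 q7937, e3 q8787 L164226 q8266, e3 q8788 L164241 q8082, e3 q8789 (flp_b L164267) q8095, e3 q8790 L164271 q8084, e3 q8791 (flp_b L171274) q9530, e3 q8792 L164300 q7944, e3 q8793 (flp_b L171300) q9532, e3 q8794 (flp_b L171316) q9533, e3 q8795 (flp_b L164342) q7954, e3 q8796 (flp_b L171401) q9539, e3 q8797 L164379 q8132, e3 q8798 L164385 q8102, e3 q8799 (flp_b L164393) q7960, e3 q8800 (flp_b L171497) q9547, e3 q8801 L164417 q8108, e3 q8802 (flp_b L170335) q9451, e3 q8803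 L164435 q7963, e3 q8804 L164445 q7964, e3 q8805 (flp_b L171545) q9551, e3 q8806 L164460 q8539, e3 q8807 (flp_b L171559) q9552, e3 q8808 (flp_b L171569) q9553, e3 q8809 L164482 q8114, e3 q8810 L164491 q8115, e3 q8811 L164500 q8116, e3 q8812 L164506 q8133, e3 q8813 L164518 q8040, e3 q8814 L164534 q7973, e3 q8815 L164546 q8573, e3 q8816 L164555 q8576, e3 q8817 (flp_b L171675) q9564, e3 q8818 L164575 q8043, e3 q8819 (flp_b L170532) q9467, e3 q8820 L164601 q7979, e3 q8821 L164611 q7980, e3 q8822 L164625 q7981, e3 q8823 L164635 q7982, e3 q8824 (flp_b L171751) q9570, e3 q8825 (flp_b L171763) q9571, e3 q8826 (flp_b L171777) q9572, e3 q8827 L164662 q8347, e3 q8828 (flp_b L171789) q9573, e3 q8829 (flp_b L171803) q9574, e3 q8830 (flp_b L171815) q9575, e3 q8831 L164700 q8050, trivial⟩ (by decide +kernel)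

theorem ce_b_138 : ∀ r, r < 64 → sm gb (Qf (8832 + r)) = Qf (tab Gen.b (8832 + r)) :=
  edges_tab (sm gb) Qf (tab Gen.b) 8832 [(8832, 8051), (8833, 8052), (8834, 8123), (8835, 8125), (8836, 8274), (8837, 8053), (8838, 9483), (8839, 7993), (8840, 7995), (8841, 7996), (8842, 8566), (8843, 9594), (8844, 8322), (8845, 8567), (8846, 9595), (8847, 9596), (8848, 8058), (8849, 8059), (8850, 8060), (8851, 9488), (8852, 8331), (8853, 9489), (8854, 9490), (8855, 8006), (8856, 8007), (8857, 8008), (8858, 8009), (8859, 8010), (8860, 8011), (8861, 8012), (8862, 9613), (8863, 9614), (8864, 9615), (8865, 9616), (8866, 9617), (8867, 9618), (8868, 9619), (8869, 9620), (8870, 9621), (8871, 9622), (8872, 8070), (8873, 8071), (8874, 9635), (8875, 8875), (8876, 8876), (8877, 8877), (8878, 8878), (8879, 8879), (8880, 8880), (8881, 8073), (8882, 9643), (8883, 8883), (8884, 8884), (8885, 8885), (8886, 8886), (8887, 8887), (8888, 8888), (8889, 8889), (8890, 8890), (8891, 9653), (8892, 8892), (8893, 9655), (8894,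 8036), (8895, 8042)]
    ⟨e3 q8832 L164711 q8051, e3 q8833 L164721 q8052, e3 q8834 L164730 q8123, e3 q8835 L164741 q8125, e3 q8836 L164753 q8274, e3 q8837 L164763 q8053, e3 q8838 (flp_b L170728) q9483, e3 q8839 L164791 q7993, e3 q8840 L164804 q7995, e3 q8841 L164816 q7996, e3 q8842 L164828 q8566, e3 q8843 (flp_b L171995) q9594, e3 q8844 L164846 q8322, e3 q8845 L164860 q8567, e3 q8846 (flp_b L172010) q9595, e3 q8847 (flp_b L172024) q9596, e3 q8848 L164886 q8058, e3 q8849 L164900 q8059, e3 q8850 L164910 q8060, e3 q8851 (flp_b L170790) q9488, e3 q8852 L164929 q8331, e3 q8853 (flp_b L170806) q9489, e3 q8854 (flp_b L170820) q9490, e3 q8855 L164959 q8006, e3 q8856 L164966 q8007, e3 q8857 L164971 q8008, e3 q8858 L164980 q8009, e3 q8859 L164992 q8010, e3 q8860 L165002 q8011, e3 q8861 L165010 q8012, e3 q8862 (flp_b L172207) q9613, e3 q8863 (flp_b L172220) q9614, e3 q8864 (flp_b L172231) q9615, e3 q8865 (flp_b L172240) q9616, e3 q8866 (flp_b L172249) q9617, e3 q8867 (flp_b L172254) q9618, e3 q8868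 (flp_b L172261) q9619, e3 q8869 (flp_b L172273) q9620, e3 q8870 (flp_b L172283) q9621, e3 q8871 (flp_b L172287) q9622, e3 q8872 L165072 q8070, e3 q8873 L165080 q8071, e3 q8874 L172359 q9635, e3 q8875 L165096 q8875, e3 q8876 L165105 q8876, e3 q8877 L165112 q8877, e3 q8878 L165119 q8878, e3 q8879 L165133 q8879, e3 q8880 L165144 q8880, e3 q8881 L165152 q8073, e3 q8882 L172430 q9643, e3 q8883 L165168 q8883, e3 q8884 L165175 q8884, e3 q8885 L165182 q8885, e3 q8886 L165188 q8886, e3 q8887 L165193 q8887, e3 q8888 L165198 q8888, e3 q8889 L165205 q8889, e3 q8890 L165217 q8890, e3 q8891 L172495 q9653, e3 q8892 L165228 q8892, e3 q8893 L172508 q9655, e3 q8894 (flp_b L165237) q8036, e3 q8895 L165248 q8042, trivial⟩ (by decide +kernel)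

theorem ce_b_139 : ∀ r, r < 64 → sm gb (Qf (8896 + r)) = Qf (tab Gen.b (8896 + r)) :=
  edges_tab (sm gb) Qf (tab Gen.b) 8896 [(8896, 9568), (8897, 8078), (8898, 8048), (8899, 8049), (8900, 9658), (8901, 9659), (8902, 9586), (8903, 9587), (8904, 9661), (8905, 9592), (8906, 8085), (8907, 8057), (8908, 9662), (8909, 9604), (8910, 9605), (8911, 9666), (8912, 8090), (8913, 8091), (8914, 8067), (8915, 8068), (8916, 8069), (8917, 9669), (8918, 9670), (8919, 9675), (8920, 9676), (8921, 8072), (8922, 9678), (8923, 9642), (8924, 8074), (8925, 8075), (8926, 8101), (8927, 8613), (8928, 8096), (8929, 8083), (8930, 8610), (8931, 8419), (8932, 8089), (8933, 9667), (8934, 9668), (8935, 8415), (8936, 8611), (8937, 9677), (8938, 9546), (8939, 8104), (8940, 8105), (8941, 8739), (8942, 9679), (8943, 9512), (8944, 9514), (8945, 8945), (8946, 8946), (8947, 8112), (8948, 8113), (8949, 9684), (8950, 9560), (8951, 9561), (8952, 9562), (8953, 9589), (8954, 8954), (8955, 9590), (8956, 8128), (8957, 9690), (8958,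 8178), (8959, 8134)]
    ⟨e3 q8896 (flp_b L171722) q9568, e3 q8897 L165277 q8078, e3 q8898 L165291 q8048, e3 q8899 L165305 q8049, e3 q8900 (flp_b L172549) q9658, e3 q8901 (flp_b L172563) q9659, e3 q8902 (flp_b L171903) q9586, e3 q8903 (flp_b L171915) q9587, e3 q8904 L172588 q9661, e3 q8905 (flp_b L171966) q9592, e3 q8906 L165394 q8085, e3 q8907 L165410 q8057, e3 q8908 (flp_b L172601) q9662, e3 q8909 (flp_b L172106) q9604, e3 q8910 (flp_b L172122) q9605, e3 q8911 L172659 q9666, e3 q8912 L165475 q8090, e3 q8913 L165488 q8091, e3 q8914 L165500 q8067, e3 q8915 L165511 q8068, e3 q8916 L165519 q8069, e3 q8917 (flp_b L172696) q9669, e3 q8918 (flp_b L172708) q9670, e3 q8919 L172761 q9675, e3 q8920 L172770 q9676, e3 q8921 (flp_b L165566) q8072, e3 q8922 L172792 q9678, e3 q8923 (flp_b L172422) q9642, e3 q8924 (flp_b L165596) q8074, e3 q8925 (flp_b L165604) q8075, e3 q8926 L165624 q8101, e3 q8927 (flp_b L165639) q8613, e3 q8928 L165652 q8096, e3 q8929 (flp_b L165656) q8083, e3 q8930 L165682 q8610,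 e3 q8931 L165696 q8419, e3 q8932 L165704 q8089, e3 q8933 (flp_b L172671) q9667, e3 q8934 (flp_b L172685) q9668, e3 q8935 L165743 q8415, e3 q8936 L165758 q8611, e3 q8937 (flp_b L172790) q9677, e3 q8938 (flp_b L171485) q9546, e3 q8939 L165794 q8104, e3 q8940 L165808 q8105, e3 q8941 L165819 q8739, e3 q8942 (flp_b L172808) q9679, e3 q8943 (flp_b L171053) q9512, e3 q8944 (flp_b L171068) q9514, e3 q8945 L165865 q8945, e3 q8946 L165878 q8946, e3 q8947 L165887 q8112, e3 q8948 L165897 q8113, e3 q8949 (flp_b L172857) q9684, e3 q8950 (flp_b L171633) q9560, e3 q8951 (flp_b L171642) q9561, e3 q8952 (flp_b L171652) q9562, e3 q8953 (flp_b L171931) q9589, e3 q8954 L165959 q8954, e3 q8955 (flp_b L171942) q9590, e3 q8956 L165986 q8128, e3 q8957 (flp_b L172932) q9690, e3 q8958 L166012 q8178, e3 q8959 L166022 q8134, trivial⟩ (by decide +kernel)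

theorem ce_b_140 : ∀ r, r < 64 → sm gb (Qf (8960 + r)) = Qf (tab Gen.b (8960 + r)) :=
  edges_tab (sm gb) Qf (tab Gen.b) 8960 [(8960, 9545), (8961, 9563), (8962, 9693), (8963, 8422), (8964, 8139), (8965, 9697), (8966, 8149), (8967, 8142), (8968, 8144), (8969, 8151), (8970, 8255), (8971, 8147), (8972, 9698), (8973, 9391), (8974, 8974), (8975, 8154), (8976, 9381), (8977, 9705), (8978, 8978), (8979, 8979), (8980, 8309), (8981, 8158), (8982, 8159), (8983, 9384), (8984, 9711), (8985, 9712), (8986, 9713), (8987, 8987), (8988, 8988), (8989, 9480), (8990, 8227), (8991, 8166), (8992, 9722), (8993, 8323), (8994, 8171), (8995, 8173), (8996, 8174), (8997, 9498), (8998, 9556), (8999, 9725), (9000, 9503), (9001, 9726), (9002, 9727), (9003, 8235), (9004, 9095), (9005, 9460), (9006, 9692), (9007, 8236), (9008, 8183), (9009, 8185), (9010, 8186), (9011, 9463), (9012, 9554), (9013, 9740), (9014, 9464), (9015, 9741), (9016, 9742), (9017, 8241), (9018, 8346), (9019, 8348), (9020, 8349), (9021, 8195), (9022,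 8196), (9023, 8197)]
    ⟨e3 q8960 (flp_b L171471) q9545, e3 q8961 (flp_b L171659) q9563, e3 q8962 (flp_b L172966) q9693, e3 q8963 L166066 q8422, e3 q8964 L166078 q8139, e3 q8965 (flp_b L173006) q9697, e3 q8966 L166104 q8149, e3 q8967 L166110 q8142, e3 q8968 L166120 q8144, e3 q8969 L166131 q8151, e3 q8970 L166145 q8255, e3 q8971 L166153 q8147, e3 q8972 (flp_b L173020) q9698, e3 q8973 (flp_b L169915) q9391, e3 q8974 L166186 q8974, e3 q8975 (flp_b L166191) q8154, e3 q8976 (flp_b L169826) q9381, e3 q8977 (flp_b L173100) q9705, e3 q8978 L166224 q8978, e3 q8979 L166235 q8979, e3 q8980 L166249 q8309, e3 q8981 L166253 q8158, e3 q8982 L166258 q8159, e3 q8983 (flp_b L169851) q9384, e3 q8984 (flp_b L173166) q9711, e3 q8985 (flp_b L173175) q9712, e3 q8986 (flp_b L173182) q9713, e3 q8987 L166297 q8987, e3 q8988 L166306 q8988, e3 q8989 (flp_b L170690) q9480, e3 q8990 L166321 q8227, e3 q8991 L166333 q8166, e3 q8992 (flp_b L173267) q9722, e3 q8993 L166357 q8323, e3 q8994 L166365 q8171, e3 q8995 L166373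 q8173, e3 q8996 L166383 q8174, e3 q8997 (flp_b L170908) q9498, e3 q8998 (flp_b L171597) q9556, e3 q8999 (flp_b L173301) q9725, e3 q9000 (flp_b L170958) q9503, e3 q9001 (flp_b L173311) q9726, e3 q9002 (flp_b L173323) q9727, e3 q9003 L166447 q8235, e3 q9004 (flp_b L167305) q9095, e3 q9005 (flp_b L170435) q9460, e3 q9006 (flp_b L172958) q9692, e3 q9007 L166482 q8236, e3 q9008 L166490 q8183, e3 q9009 L166499 q8185, e3 q9010 L166511 q8186, e3 q9011 (flp_b L170479) q9463, e3 q9012 (flp_b L171579) q9554, e3 q9013 (flp_b L173449) q9740, e3 q9014 (flp_b L170494) q9464, e3 q9015 (flp_b L173460) q9741, e3 q9016 (flp_b L173474) q9742, e3 q9017 L166575 q8241, e3 q9018 L166587 q8346, e3 q9019 L166598 q8348, e3 q9020 L166610 q8349, e3 q9021 L166618 q8195, e3 q9022 L166625 q8196, e3 q9023 L166630 q8197, trivial⟩ (by decide +kernel)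

theorem ce_b_141 : ∀ r, r < 64 → sm gb (Qf (9024 + r)) = Qf (tab Gen.b (9024 + r)) :=
  edges_tab (sm gb) Qf (tab Gen.b) 9024 [(9024, 8199), (9025, 8200), (9026, 8201), (9027, 9753), (9028, 9471), (9029, 9754), (9030, 9755), (9031, 9756), (9032, 9757), (9033, 9474), (9034, 9758), (9035, 9759), (9036, 9761), (9037, 8250), (9038, 8251), (9039, 8626), (9040, 9040), (9041, 9041), (9042, 9042), (9043, 9043), (9044, 9044), (9045, 9045), (9046, 9046), (9047, 9047), (9048, 9048), (9049, 9049), (9050, 9050), (9051, 9051), (9052, 9052), (9053, 9053), (9054, 9054), (9055, 8624), (9056, 9056), (9057, 8625), (9058, 8229), (9059, 9789), (9060, 8258), (9061, 8233), (9062, 8234), (9063, 9739), (9064, 8239), (9065, 8240), (9066, 9792), (9067, 9794), (9068, 8263), (9069, 8264), (9070, 8247), (9071, 8248), (9072, 9699), (9073, 8249), (9074, 9797), (9075, 9700), (9076, 8253), (9077, 9540), (9078, 9702), (9079, 9790), (9080, 9795), (9081, 8269), (9082, 9212), (9083, 9802), (9084, 8424), (9085, 8273), (9086,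 9806), (9087, 9591)]
    ⟨e3 q9024 L166637 q8199, e3 q9025 L166645 q8200, e3 q9026 L166653 q8201, e3 q9027 (flp_b L173584) q9753, e3 q9028 (flp_b L170586) q9471, e3 q9029 (flp_b L173597) q9754, e3 q9030 (flp_b L173610) q9755, e3 q9031 (flp_b L173619) q9756, e3 q9032 (flp_b L173624) q9757, e3 q9033 (flp_b L170617) q9474, e3 q9034 (flp_b L173629) q9758, e3 q9035 (flp_b L173637) q9759, e3 q9036 (flp_b L173645) q9761, e3 q9037 L166733 q8250, e3 q9038 L166741 q8251, e3 q9039 L166761 q8626, e3 q9040 L166767 q9040, e3 q9041 L166777 q9041, e3 q9042 L166790 q9042, e3 q9043 L166803 q9043, e3 q9044 L166812 q9044, e3 q9045 L166821 q9045, e3 q9046 L166830 q9046, e3 q9047 L166844 q9047, e3 q9048 L166853 q9048, e3 q9049 L166862 q9049, e3 q9050 L166875 q9050, e3 q9051 L166882 q9051, e3 q9052 L166889 q9052, e3 q9053 L166898 q9053, e3 q9054 L166913 q9054, e3 q9055 (flp_b L166930) q8624, e3 q9056 L166936 q9056, e3 q9057 L166953 q8625, e3 q9058 L166959 q8229, e3 q9059 (flp_b L173922) q9789, e3 q9060 L166982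 q8258, e3 q9061 L166990 q8233, e3 q9062 L167002 q8234, e3 q9063 (flp_b L173438) q9739, e3 q9064 L167020 q8239, e3 q9065 L167032 q8240, e3 q9066 (flp_b L173949) q9792, e3 q9067 (flp_b L173968) q9794, e3 q9068 L167065 q8263, e3 q9069 L167075 q8264, e3 q9070 L167083 q8247, e3 q9071 L167089 q8248, e3 q9072 (flp_b L173036) q9699, e3 q9073 L167100 q8249, e3 q9074 (flp_b L173997) q9797, e3 q9075 (flp_b L173047) q9700, e3 q9076 L167126 q8253, e3 q9077 (flp_b L171412) q9540, e3 q9078 (flp_b L173068) q9702, e3 q9079 (flp_b L173933) q9790, e3 q9080 (flp_b L173980) q9795, e3 q9081 L167168 q8269, e3 q9082 (flp_b L168298) q9212, e3 q9083 (flp_b L174036) q9802, e3 q9084 L167200 q8424, e3 q9085 L167210 q8273, e3 q9086 (flp_b L174082) q9806, e3 q9087 (flp_b L171956) q9591, trivial⟩ (by decide +kernel)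

theorem ce_b_142 : ∀ r, r < 64 → sm gb (Qf (9088 + r)) = Qf (tab Gen.b (9088 + r)) :=
  edges_tab (sm gb) Qf (tab Gen.b) 9088 [(9088, 8279), (9089, 8280), (9090, 8281), (9091, 8282), (9092, 8283), (9093, 8284), (9094, 9608), (9095, 9004), (9096, 9809), (9097, 9810), (9098, 9811), (9099, 9812), (9100, 9813), (9101, 9814), (9102, 9102), (9103, 9103), (9104, 9104), (9105, 9105), (9106, 9106), (9107, 9107), (9108, 8301), (9109, 8302), (9110, 9825), (9111, 8423), (9112, 8615), (9113, 8617), (9114, 8618), (9115, 8425), (9116, 9709), (9117, 9710), (9118, 8312), (9119, 8313), (9120, 8314), (9121, 8315), (9122, 9834), (9123, 9835), (9124, 9836), (9125, 9714), (9126, 9837), (9127, 9838), (9128, 9839), (9129, 8434), (9130, 8435), (9131, 8436), (9132, 8622), (9133, 8623), (9134, 8627), (9135, 9597), (9136, 9600), (9137, 9724), (9138, 8328), (9139, 8329), (9140, 8330), (9141, 8332), (9142, 8333), (9143, 8334), (9144, 9858), (9145, 9607), (9146, 9859), (9147, 9860), (9148, 9861), (9149, 9862), (9150,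 9610), (9151, 9863)]
    ⟨e3 q9088 L167236 q8279, e3 q9089 L167247 q8280, e3 q9090 L167260 q8281, e3 q9091 L167269 q8282, e3 q9092 L167279 q8283, e3 q9093 L167287 q8284, e3 q9094 (flp_b L172155) q9608, e3 q9095 L167305 q9004, e3 q9096 (flp_b L174104) q9809, e3 q9097 (flp_b L174115) q9810, e3 q9098 (flp_b L174128) q9811, e3 q9099 (flp_b L174135) q9812, e3 q9100 (flp_b L174145) q9813, e3 q9101 (flp_b L174149) q9814, e3 q9102 L167361 q9102, e3 q9103 L167372 q9103, e3 q9104 L167383 q9104, e3 q9105 L167392 q9105, e3 q9106 L167399 q9106, e3 q9107 L167410 q9107, e3 q9108 L167423 q8301, e3 q9109 L167431 q8302, e3 q9110 (flp_b L174239) q9825, e3 q9111 L167443 q8423, e3 q9112 L167453 q8615, e3 q9113 L167465 q8617, e3 q9114 L167475 q8618, e3 q9115 L167483 q8425, e3 q9116 (flp_b L173142) q9709, e3 q9117 (flp_b L173155) q9710, e3 q9118 L167511 q8312, e3 q9119 L167520 q8313, e3 q9120 L167530 q8314, e3 q9121 L167540 q8315, e3 q9122 (flp_b L174324) q9834, e3 q9123 (flp_b L174337) q9835, e3 q9124 (flp_b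 L174350) q9836, e3 q9125 (flp_b L173189) q9714, e3 q9126 (flp_b L174361) q9837, e3 q9127 (flp_b L174371) q9838, e3 q9128 (flp_b L174383) q9839, e3 q9129 L167598 q8434, e3 q9130 L167606 q8435, e3 q9131 L167612 q8436, e3 q9132 L167620 q8622, e3 q9133 L167632 q8623, e3 q9134 L167642 q8627, e3 q9135 (flp_b L172038) q9597, e3 q9136 (flp_b L172068) q9600, e3 q9137 (flp_b L173291) q9724, e3 q9138 L167677 q8328, e3 q9139 L167684 q8329, e3 q9140 L167693 q8330, e3 q9141 L167702 q8332, e3 q9142 L167710 q8333, e3 q9143 L167722 q8334, e3 q9144 (flp_b L174549) q9858, e3 q9145 (flp_b L172144) q9607, e3 q9146 (flp_b L174562) q9859, e3 q9147 (flp_b L174575) q9860, e3 q9148 (flp_b L174584) q9861, e3 q9149 (flp_b L174593) q9862, e3 q9150 (flp_b L172177) q9610, e3 q9151 (flp_b L174600) q9863, trivial⟩ (by decide +kernel)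

theorem ce_b_143 : ∀ r, r < 64 → sm gb (Qf (9152 + r)) = Qf (tab Gen.b (9152 + r)) :=
  edges_tab (sm gb) Qf (tab Gen.b) 9152 [(9152, 9864), (9153, 9865), (9154, 8402), (9155, 8630), (9156, 8631), (9157, 8632), (9158, 8633), (9159, 8634), (9160, 8635), (9161, 8636), (9162, 8637), (9163, 8638), (9164, 8639), (9165, 8403), (9166, 9577), (9167, 9749), (9168, 9750), (9169, 9582), (9170, 9751), (9171, 9752), (9172, 8357), (9173, 8358), (9174, 8359), (9175, 8360), (9176, 8361), (9177, 8362), (9178, 8363), (9179, 8364), (9180, 8365), (9181, 8366), (9182, 9894), (9183, 9895), (9184, 9896), (9185, 9897), (9186, 9898), (9187, 9899), (9188, 9900), (9189, 9901), (9190, 9915), (9191, 9903), (9192, 9904), (9193, 9485), (9194, 8369), (9195, 8465), (9196, 8466), (9197, 8467), (9198, 8468), (9199, 8469), (9200, 8470), (9201, 8471), (9202, 8472), (9203, 8474), (9204, 8477), (9205, 8478), (9206, 8479), (9207, 8480), (9208, 8481), (9209, 9932), (9210, 8483), (9211, 8484), (9212, 9082), (9213, 8389), (9214,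 9385), (9215, 8486)]
    ⟨e3 q9152 (flp_b L174610) q9864, e3 q9153 (flp_b L174618) q9865, e3 q9154 L167800 q8402, e3 q9155 L167808 q8630, e3 q9156 L167818 q8631, e3 q9157 L167832 q8632, e3 q9158 L167844 q8633, e3 q9159 L167854 q8634, e3 q9160 L167862 q8635, e3 q9161 L167870 q8636, e3 q9162 L167880 q8637, e3 q9163 L167888 q8638, e3 q9164 L167894 q8639, e3 q9165 L167900 q8403, e3 q9166 (flp_b L171830) q9577, e3 q9167 (flp_b L173536) q9749, e3 q9168 (flp_b L173549) q9750, e3 q9169 (flp_b L171869) q9582, e3 q9170 (flp_b L173562) q9751, e3 q9171 (flp_b L173574) q9752, e3 q9172 L167964 q8357, e3 q9173 L167972 q8358, e3 q9174 L167984 q8359, e3 q9175 L167996 q8360, e3 q9176 L168006 q8361, e3 q9177 L168016 q8362, e3 q9178 L168026 q8363, e3 q9179 L168036 q8364, e3 q9180 L168044 q8365, e3 q9181 L168050 q8366, e3 q9182 (flp_b L174868) q9894, e3 q9183 (flp_b L174878) q9895, e3 q9184 (flp_b L174890) q9896, e3 q9185 (flp_b L174902) q9897, e3 q9186 (flp_b L174910) q9898, e3 q9187 (flp_b L174922) q9899,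 e3 q9188 (flp_b L174930) q9900, e3 q9189 (flp_b L174940) q9901, e3 q9190 L175022 q9915, e3 q9191 (flp_b L174952) q9903, e3 q9192 (flp_b L174960) q9904, e3 q9193 (flp_b L170754) q9485, e3 q9194 (flp_b L168122) q8369, e3 q9195 L168130 q8465, e3 q9196 L168139 q8466, e3 q9197 L168151 q8467, e3 q9198 L168163 q8468, e3 q9199 L168169 q8469, e3 q9200 L168179 q8470, e3 q9201 L168189 q8471, e3 q9202 L168204 q8472, e3 q9203 L168214 q8474, e3 q9204 L168226 q8477, e3 q9205 L168232 q8478, e3 q9206 L168240 q8479, e3 q9207 L168252 q8480, e3 q9208 L168262 q8481, e3 q9209 L175181 q9932, e3 q9210 L168274 q8483, e3 q9211 L168282 q8484, e3 q9212 L168298 q9082, e3 q9213 (flp_b L168302) q8389, e3 q9214 (flp_b L169863) q9385, e3 q9215 L168324 q8486, trivial⟩ (by decide +kernel)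

theorem ce_b_144 : ∀ r, r < 64 → sm gb (Qf (9216 + r)) = Qf (tab Gen.b (9216 + r)) :=
  edges_tab (sm gb) Qf (tab Gen.b) 9216 [(9216, 8413), (9217, 8400), (9218, 8401), (9219, 9936), (9220, 8416), (9221, 8417), (9222, 8409), (9223, 8410), (9224, 9943), (9225, 9942), (9226, 8411), (9227, 9935), (9228, 8612), (9229, 9939), (9230, 8742), (9231, 8744), (9232, 9805), (9233, 9830), (9234, 9234), (9235, 9235), (9236, 9236), (9237, 8431), (9238, 8432), (9239, 8433), (9240, 9949), (9241, 9931), (9242, 9950), (9243, 9849), (9244, 9850), (9245, 9956), (9246, 9246), (9247, 9247), (9248, 9248), (9249, 9249), (9250, 9250), (9251, 9251), (9252, 9252), (9253, 9253), (9254, 9254), (9255, 8453), (9256, 8454), (9257, 8455), (9258, 8456), (9259, 8457), (9260, 8458), (9261, 8459), (9262, 8460), (9263, 9975), (9264, 8462), (9265, 8463), (9266, 9966), (9267, 9967), (9268, 9968), (9269, 9969), (9270, 9970), (9271, 9981), (9272, 9972), (9273, 9973), (9274, 8461), (9275, 9983), (9276, 9977), (9277, 9919), (9278,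 9920), (9279, 9921)]
    ⟨e3 q9216 L168336 q8413, e3 q9217 L168346 q8400, e3 q9218 L168354 q8401, e3 q9219 (flp_b L175222) q9936, e3 q9220 L168374 q8416, e3 q9221 L168382 q8417, e3 q9222 L168390 q8409, e3 q9223 L168398 q8410, e3 q9224 L175283 q9943, e3 q9225 (flp_b L175277) q9942, e3 q9226 (flp_b L168420) q8411, e3 q9227 (flp_b L175213) q9935, e3 q9228 L168448 q8612, e3 q9229 (flp_b L175255) q9939, e3 q9230 L168463 q8742, e3 q9231 L168474 q8744, e3 q9232 (flp_b L174070) q9805, e3 q9233 (flp_b L174283) q9830, e3 q9234 L168504 q9234, e3 q9235 L168516 q9235, e3 q9236 L168526 q9236, e3 q9237 L168537 q8431, e3 q9238 L168548 q8432, e3 q9239 L168557 q8433, e3 q9240 (flp_b L175357) q9949, e3 q9241 (flp_b L175173) q9931, e3 q9242 (flp_b L175368) q9950, e3 q9243 (flp_b L174469) q9849, e3 q9244 (flp_b L174475) q9850, e3 q9245 L175425 q9956, e3 q9246 L168617 q9246, e3 q9247 L168625 q9247, e3 q9248 L168636 q9248, e3 q9249 L168648 q9249, e3 q9250 L168657 q9250, e3 q9251 L168667 q9251, e3 q9252 L168676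 q9252, e3 q9253 L168688 q9253, e3 q9254 L168699 q9254, e3 q9255 L168705 q8453, e3 q9256 L168714 q8454, e3 q9257 L168724 q8455, e3 q9258 L168735 q8456, e3 q9259 L168741 q8457, e3 q9260 L168751 q8458, e3 q9261 L168759 q8459, e3 q9262 L168771 q8460, e3 q9263 L175600 q9975, e3 q9264 L168785 q8462, e3 q9265 L168794 q8463, e3 q9266 (flp_b L175521) q9966, e3 q9267 (flp_b L175529) q9967, e3 q9268 (flp_b L175539) q9968, e3 q9269 (flp_b L175551) q9969, e3 q9270 (flp_b L175561) q9970, e3 q9271 L175660 q9981, e3 q9272 (flp_b L175576) q9972, e3 q9273 (flp_b L175586) q9973, e3 q9274 (flp_b L168878) q8461, e3 q9275 (flp_b L175683) q9983, e3 q9276 (flp_b L175618) q9977, e3 q9277 (flp_b L175038) q9919, e3 q9278 (flp_b L175048) q9920, e3 q9279 (flp_b L175060) q9921, trivial⟩ (by decide +kernel)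

theorem ce_b_145 : ∀ r, r < 64 → sm gb (Qf (9280 + r)) = Qf (tab Gen.b (9280 + r)) :=
  edges_tab (sm gb) Qf (tab Gen.b) 9280 [(9280, 9922), (9281, 9923), (9282, 9989), (9283, 9924), (9284, 9925), (9285, 9511), (9286, 9926), (9287, 8473), (9288, 9927), (9289, 9928), (9290, 8482), (9291, 8495), (9292, 8496), (9293, 9991), (9294, 9510), (9295, 8493), (9296, 8492), (9297, 9297), (9298, 9298), (9299, 8557), (9300, 8555), (9301, 8553), (9302, 8554), (9303, 8552), (9304, 9304), (9305, 9305), (9306, 8546), (9307, 8547), (9308, 9308), (9309, 9309), (9310, 9310), (9311, 9311), (9312, 9312), (9313, 9313), (9314, 9314), (9315, 8548), (9316, 10006), (9317, 9317), (9318, 9318), (9319, 9319), (9320, 9320), (9321, 9321), (9322, 9557), (9323, 8746), (9324, 10010), (9325, 10011), (9326, 10005), (9327, 8549), (9328, 9994), (9329, 8560), (9330, 8561), (9331, 9332), (9332, 9331), (9333, 10013), (9334, 10014), (9335, 9335), (9336, 9336), (9337, 8568), (9338, 9455), (9339, 9598), (9340, 9601), (9341, 10021),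 (9342, 8599), (9343, 8574)]
    ⟨e3 q9280 (flp_b L175074) q9922, e3 q9281 (flp_b L175084) q9923, e3 q9282 L175751 q9989, e3 q9283 (flp_b L175096) q9924, e3 q9284 (flp_b L175108) q9925, e3 q9285 (flp_b L171041) q9511, e3 q9286 (flp_b L175122) q9926, e3 q9287 (flp_b L169011) q8473, e3 q9288 (flp_b L175135) q9927, e3 q9289 (flp_b L175145) q9928, e3 q9290 (flp_b L169043) q8482, e3 q9291 L169053 q8495, e3 q9292 L169065 q8496, e3 q9293 L175766 q9991, e3 q9294 (flp_b L171035) q9510, e3 q9295 L169084 q8493, e3 q9296 (flp_b L169090) q8492, e3 q9297 L169101 q9297, e3 q9298 L169112 q9298, e3 q9299 L169122 q8557, e3 q9300 L169135 q8555, e3 q9301 L169149 q8553, e3 q9302 L169163 q8554, e3 q9303 L169173 q8552, e3 q9304 L169189 q9304, e3 q9305 L169204 q9305, e3 q9306 L169213 q8546, e3 q9307 L169226 q8547, e3 q9308 L169239 q9308, e3 q9309 L169251 q9309, e3 q9310 L169263 q9310, e3 q9311 L169272 q9311, e3 q9312 L169278 q9312, e3 q9313 L169285 q9313, e3 q9314 L169298 q9314, e3 q9315 L169304 q8548, e3 q9316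 L175915 q10006, e3 q9317 L169314 q9317, e3 q9318 L169322 q9318, e3 q9319 L169331 q9319, e3 q9320 L169342 q9320, e3 q9321 L169347 q9321, e3 q9322 (flp_b L171609) q9557, e3 q9323 L169357 q8746, e3 q9324 L175951 q10010, e3 q9325 L175961 q10011, e3 q9326 (flp_b L175909) q10005, e3 q9327 (flp_b L169399) q8549, e3 q9328 (flp_b L175798) q9994, e3 q9329 L169420 q8560, e3 q9330 L169427 q8561, e3 q9331 (flp_b L169445) q9332, e3 q9332 L169445 q9331, e3 q9333 (flp_b L175980) q10013, e3 q9334 (flp_b L175987) q10014, e3 q9335 L169475 q9335, e3 q9336 L169485 q9336, e3 q9337 L169492 q8568, e3 q9338 (flp_b L170382) q9455, e3 q9339 (flp_b L172050) q9598, e3 q9340 (flp_b L172082) q9601, e3 q9341 (flp_b L176056) q10021, e3 q9342 L169532 q8599, e3 q9343 L169539 q8574, trivial⟩ (by decide +kernel)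

theorem ce_b_146 : ∀ r, r < 64 → sm gb (Qf (9344 + r)) = Qf (tab Gen.b (9344 + r)) :=
  edges_tab (sm gb) Qf (tab Gen.b) 9344 [(9344, 8575), (9345, 8577), (9346, 8578), (9347, 9472), (9348, 9454), (9349, 9565), (9350, 10027), (9351, 10028), (9352, 9566), (9353, 10029), (9354, 10031), (9355, 8604), (9356, 10042), (9357, 9357), (9358, 9358), (9359, 9359), (9360, 9360), (9361, 9361), (9362, 9362), (9363, 9363), (9364, 9364), (9365, 10052), (9366, 9366), (9367, 9800), (9368, 8593), (9369, 8598), (9370, 10056), (9371, 10057), (9372, 8602), (9373, 9535), (9374, 8603), (9375, 10062), (9376, 10059), (9377, 10061), (9378, 8605), (9379, 8609), (9380, 9542), (9381, 8976), (9382, 9827), (9383, 9788), (9384, 8983), (9385, 9214), (9386, 9828), (9387, 9829), (9388, 8671), (9389, 8672), (9390, 8673), (9391, 8973), (9392, 9549), (9393, 9787), (9394, 9852), (9395, 9784), (9396, 9773), (9397, 9770), (9398, 9853), (9399, 8663), (9400, 9798), (9401, 9876), (9402, 9877), (9403, 9878), (9404, 9879), (9405, 9880),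 (9406, 9881), (9407, 9882)]
    ⟨e3 q9344 L169546 q8575, e3 q9345 L169555 q8577, e3 q9346 L169563 q8578, e3 q9347 (flp_b L170597) q9472, e3 q9348 (flp_b L170367) q9454, e3 q9349 (flp_b L171689) q9565, e3 q9350 (flp_b L176093) q10027, e3 q9351 (flp_b L176100) q10028, e3 q9352 (flp_b L171700) q9566, e3 q9353 (flp_b L176107) q10029, e3 q9354 (flp_b L176117) q10031, e3 q9355 L169631 q8604, e3 q9356 L176197 q10042, e3 q9357 L169647 q9357, e3 q9358 L169658 q9358, e3 q9359 L169667 q9359, e3 q9360 L169675 q9360, e3 q9361 L169682 q9361, e3 q9362 L169691 q9362, e3 q9363 L169698 q9363, e3 q9364 L169710 q9364, e3 q9365 L176289 q10052, e3 q9366 L169727 q9366, e3 q9367 (flp_b L174021) q9800, e3 q9368 (flp_b L169742) q8593, e3 q9369 L169749 q8598, e3 q9370 (flp_b L176324) q10056, e3 q9371 L176329 q10057, e3 q9372 L169770 q8602, e3 q9373 (flp_b L171346) q9535, e3 q9374 L169779 q8603, e3 q9375 L176358 q10062, e3 q9376 (flp_b L176339) q10059, e3 q9377 (flp_b L176354) q10061, e3 q9378 (flp_b L169805) q8605,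 e3 q9379 L169815 q8609, e3 q9380 (flp_b L171429) q9542, e3 q9381 L169826 q8976, e3 q9382 (flp_b L174251) q9827, e3 q9383 (flp_b L173906) q9788, e3 q9384 L169851 q8983, e3 q9385 L169863 q9214, e3 q9386 (flp_b L174263) q9828, e3 q9387 (flp_b L174273) q9829, e3 q9388 L169887 q8671, e3 q9389 L169896 q8672, e3 q9390 L169906 q8673, e3 q9391 L169915 q8973, e3 q9392 (flp_b L171517) q9549, e3 q9393 L173900 q9787, e3 q9394 (flp_b L174489) q9852, e3 q9395 L173862 q9784, e3 q9396 (flp_b L173745) q9773, e3 q9397 L173723 q9770, e3 q9398 (flp_b L174499) q9853, e3 q9399 L169964 q8663, e3 q9400 (flp_b L174009) q9798, e3 q9401 (flp_b L174696) q9876, e3 q9402 (flp_b L174706) q9877, e3 q9403 (flp_b L174720) q9878, e3 q9404 (flp_b L174732) q9879, e3 q9405 (flp_b L174740) q9880, e3 q9406 (flp_b L174750) q9881, e3 q9407 (flp_b L174758) q9882, trivial⟩ (by decide +kernel)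

theorem ce_b_147 : ∀ r, r < 64 → sm gb (Qf (9408 + r)) = Qf (tab Gen.b (9408 + r)) :=
  edges_tab (sm gb) Qf (tab Gen.b) 9408 [(9408, 9883), (9409, 10094), (9410, 9884), (9411, 9885), (9412, 8664), (9413, 10099), (9414, 8666), (9415, 8642), (9416, 8674), (9417, 8675), (9418, 8676), (9419, 8677), (9420, 8678), (9421, 10109), (9422, 8680), (9423, 8681), (9424, 10112), (9425, 8683), (9426, 8651), (9427, 10115), (9428, 9517), (9429, 8654), (9430, 9541), (9431, 10054), (9432, 8688), (9433, 8777), (9434, 8665), (9435, 8670), (9436, 10071), (9437, 10072), (9438, 10122), (9439, 10102), (9440, 10103), (9441, 10104), (9442, 10125), (9443, 10106), (9444, 10126), (9445, 10108), (9446, 8679), (9447, 10129), (9448, 8682), (9449, 9449), (9450, 8685), (9451, 8802), (9452, 8691), (9453, 8692), (9454, 9348), (9455, 9338), (9456, 10132), (9457, 10133), (9458, 9458), (9459, 9459), (9460, 9005), (9461, 8749), (9462, 8700), (9463, 9011), (9464, 9014), (9465, 10141), (9466, 8752), (9467, 8819), (9468, 8706),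 (9469, 8708), (9470, 8709), (9471, 9028)]
    ⟨e3 q9408 (flp_b L174768) q9883, e3 q9409 L176575 q10094, e3 q9410 (flp_b L174774) q9884, e3 q9411 (flp_b L174782) q9885, e3 q9412 L170040 q8664, e3 q9413 L176597 q10099, e3 q9414 L170054 q8666, e3 q9415 (flp_b L170058) q8642, e3 q9416 L170066 q8674, e3 q9417 L170074 q8675, e3 q9418 L170080 q8676, e3 q9419 L170088 q8677, e3 q9420 L170096 q8678, e3 q9421 L176680 q10109, e3 q9422 L170107 q8680, e3 q9423 L170115 q8681, e3 q9424 L176699 q10112, e3 q9425 L170131 q8683, e3 q9426 (flp_b L170138) q8651, e3 q9427 (flp_b L176734) q10115, e3 q9428 (flp_b L171098) q9517, e3 q9429 (flp_b L170155) q8654, e3 q9430 (flp_b L171423) q9541, e3 q9431 (flp_b L176315) q10054, e3 q9432 L170176 q8688, e3 q9433 L170188 q8777, e3 q9434 (flp_b L170197) q8665, e3 q9435 L170207 q8670, e3 q9436 (flp_b L176432) q10071, e3 q9437 (flp_b L176442) q10072, e3 q9438 L176816 q10122, e3 q9439 (flp_b L176621) q10102, e3 q9440 (flp_b L176631) q10103, e3 q9441 (flp_b L176639) q10104,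 e3 q9442 L176847 q10125, e3 q9443 (flp_b L176656) q10106, e3 q9444 L176857 q10126, e3 q9445 (flp_b L176671) q10108, e3 q9446 (flp_b L170290) q8679, e3 q9447 (flp_b L176881) q10129, e3 q9448 (flp_b L170301) q8682, e3 q9449 L170317 q9449, e3 q9450 L170320 q8685, e3 q9451 L170335 q8802, e3 q9452 L170343 q8691, e3 q9453 L170356 q8692, e3 q9454 L170367 q9348, e3 q9455 L170382 q9338, e3 q9456 (flp_b L176911) q10132, e3 q9457 (flp_b L176924) q10133, e3 q9458 L170414 q9458, e3 q9459 L170424 q9459, e3 q9460 L170435 q9005, e3 q9461 L170449 q8749, e3 q9462 L170465 q8700, e3 q9463 L170479 q9011, e3 q9464 L170494 q9014, e3 q9465 (flp_b L177023) q10141, e3 q9466 L170518 q8752, e3 q9467 L170532 q8819, e3 q9468 L170546 q8706, e3 q9469 L170562 q8708, e3 q9470 L170574 q8709, e3 q9471 L170586 q9028, trivial⟩ (by decide +kernel)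

theorem ce_b_148 : ∀ r, r < 64 → sm gb (Qf (9472 + r)) = Qf (tab Gen.b (9472 + r)) :=
  edges_tab (sm gb) Qf (tab Gen.b) 9472 [(9472, 9347), (9473, 10147), (9474, 9033), (9475, 10148), (9476, 10149), (9477, 8758), (9478, 8759), (9479, 8714), (9480, 8989), (9481, 10158), (9482, 8762), (9483, 8838), (9484, 8720), (9485, 9193), (9486, 10163), (9487, 8766), (9488, 8851), (9489, 8853), (9490, 8854), (9491, 8728), (9492, 8729), (9493, 8730), (9494, 8732), (9495, 8733), (9496, 8734), (9497, 9499), (9498, 8997), (9499, 9497), (9500, 10170), (9501, 9934), (9502, 10171), (9503, 9000), (9504, 10172), (9505, 10173), (9506, 10175), (9507, 8774), (9508, 8775), (9509, 10187), (9510, 9294), (9511, 9285), (9512, 8943), (9513, 9944), (9514, 8944), (9515, 9945), (9516, 10192), (9517, 9428), (9518, 8748), (9519, 8751), (9520, 10194), (9521, 10145), (9522, 8785), (9523, 8756), (9524, 8757), (9525, 10197), (9526, 10156), (9527, 10198), (9528, 8761), (9529, 10161), (9530, 8791), (9531, 8765), (9532, 8793), (9533,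 8794), (9534, 8772), (9535, 9373)]
    ⟨e3 q9472 L170597 q9347, e3 q9473 (flp_b L177111) q10147, e3 q9474 L170617 q9033, e3 q9475 (flp_b L177127) q10148, e3 q9476 (flp_b L177141) q10149, e3 q9477 L170651 q8758, e3 q9478 L170665 q8759, e3 q9479 L170676 q8714, e3 q9480 L170690 q8989, e3 q9481 (flp_b L177236) q10158, e3 q9482 L170714 q8762, e3 q9483 L170728 q8838, e3 q9484 L170742 q8720, e3 q9485 L170754 q9193, e3 q9486 (flp_b L177307) q10163, e3 q9487 L170776 q8766, e3 q9488 L170790 q8851, e3 q9489 L170806 q8853, e3 q9490 L170820 q8854, e3 q9491 L170830 q8728, e3 q9492 L170842 q8729, e3 q9493 L170854 q8730, e3 q9494 L170866 q8732, e3 q9495 L170878 q8733, e3 q9496 L170888 q8734, e3 q9497 (flp_b L170920) q9499, e3 q9498 L170908 q8997, e3 q9499 L170920 q9497, e3 q9500 (flp_b L177387) q10170, e3 q9501 (flp_b L175207) q9934, e3 q9502 (flp_b L177399) q10171, e3 q9503 L170958 q9000, e3 q9504 (flp_b L177409) q10172, e3 q9505 (flp_b L177423) q10173, e3 q9506 (flp_b L177439) q10175, e3 q9507 L170992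 q8774, e3 q9508 L171008 q8775, e3 q9509 L177547 q10187, e3 q9510 L171035 q9294, e3 q9511 L171041 q9285, e3 q9512 L171053 q8943, e3 q9513 (flp_b L175294) q9944, e3 q9514 L171068 q8944, e3 q9515 (flp_b L175307) q9945, e3 q9516 L177600 q10192, e3 q9517 L171098 q9428, e3 q9518 (flp_b L171100) q8748, e3 q9519 L171115 q8751, e3 q9520 (flp_b L177628) q10194, e3 q9521 (flp_b L177080) q10145, e3 q9522 L171159 q8785, e3 q9523 L171173 q8756, e3 q9524 L171187 q8757, e3 q9525 (flp_b L177667) q10197, e3 q9526 (flp_b L177212) q10156, e3 q9527 L177678 q10198, e3 q9528 L171243 q8761, e3 q9529 (flp_b L177278) q10161, e3 q9530 L171274 q8791, e3 q9531 L171286 q8765, e3 q9532 L171300 q8793, e3 q9533 L171316 q8794, e3 q9534 L171328 q8772, e3 q9535 L171346 q9373, trivial⟩ (by decide +kernel)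

theorem ce_b_149 : ∀ r, r < 64 → sm gb (Qf (9536 + r)) = Qf (tab Gen.b (9536 + r)) :=
  edges_tab (sm gb) Qf (tab Gen.b) 9536 [(9536, 8773), (9537, 10118), (9538, 8776), (9539, 8796), (9540, 9077), (9541, 9430), (9542, 9380), (9543, 10195), (9544, 10202), (9545, 8960), (9546, 8938), (9547, 8800), (9548, 10205), (9549, 9392), (9550, 10131), (9551, 8805), (9552, 8807), (9553, 8808), (9554, 9012), (9555, 10209), (9556, 8998), (9557, 9322), (9558, 10210), (9559, 10211), (9560, 8950), (9561, 8951), (9562, 8952), (9563, 8961), (9564, 8817), (9565, 9349), (9566, 9352), (9567, 10222), (9568, 8896), (9569, 10146), (9570, 8824), (9571, 8825), (9572, 8826), (9573, 8828), (9574, 8829), (9575, 8830), (9576, 9887), (9577, 9166), (9578, 9886), (9579, 10228), (9580, 10229), (9581, 10230), (9582, 9169), (9583, 10231), (9584, 10232), (9585, 10233), (9586, 8902), (9587, 8903), (9588, 10246), (9589, 8953), (9590, 8955), (9591, 9087), (9592, 8905), (9593, 10162), (9594, 8843), (9595, 8846), (9596, 8847), (9597,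 9135), (9598, 9339), (9599, 10252)]
    ⟨e3 q9536 L171352 q8773, e3 q9537 (flp_b L176770) q10118, e3 q9538 (flp_b L171378) q8776, e3 q9539 L171401 q8796, e3 q9540 L171412 q9077, e3 q9541 L171423 q9430, e3 q9542 L171429 q9380, e3 q9543 (flp_b L177643) q10195, e3 q9544 (flp_b L177745) q10202, e3 q9545 L171471 q8960, e3 q9546 L171485 q8938, e3 q9547 L171497 q8800, e3 q9548 (flp_b L177776) q10205, e3 q9549 L171517 q9392, e3 q9550 (flp_b L176896) q10131, e3 q9551 L171545 q8805, e3 q9552 L171559 q8807, e3 q9553 L171569 q8808, e3 q9554 L171579 q9012, e3 q9555 (flp_b L177824) q10209, e3 q9556 L171597 q8998, e3 q9557 L171609 q9322, e3 q9558 (flp_b L177838) q10210, e3 q9559 (flp_b L177850) q10211, e3 q9560 L171633 q8950, e3 q9561 L171642 q8951, e3 q9562 L171652 q8952, e3 q9563 L171659 q8961, e3 q9564 L171675 q8817, e3 q9565 L171689 q9349, e3 q9566 L171700 q9352, e3 q9567 (flp_b L177950) q10222, e3 q9568 L171722 q8896, e3 q9569 (flp_b L177095) q10146, e3 q9570 L171751 q8824, e3 q9571 L171763 q8825,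 e3 q9572 L171777 q8826, e3 q9573 L171789 q8828, e3 q9574 L171803 q8829, e3 q9575 L171815 q8830, e3 q9576 (flp_b L174802) q9887, e3 q9577 L171830 q9166, e3 q9578 (flp_b L174788) q9886, e3 q9579 (flp_b L178012) q10228, e3 q9580 (flp_b L178026) q10229, e3 q9581 (flp_b L178040) q10230, e3 q9582 L171869 q9169, e3 q9583 (flp_b L178050) q10231, e3 q9584 (flp_b L178066) q10232, e3 q9585 (flp_b L178074) q10233, e3 q9586 L171903 q8902, e3 q9587 L171915 q8903, e3 q9588 L178172 q10246, e3 q9589 L171931 q8953, e3 q9590 L171942 q8955, e3 q9591 L171956 q9087, e3 q9592 L171966 q8905, e3 q9593 (flp_b L177293) q10162, e3 q9594 L171995 q8843, e3 q9595 L172010 q8846, e3 q9596 L172024 q8847, e3 q9597 L172038 q9135, e3 q9598 L172050 q9339, e3 q9599 (flp_b L178241) q10252, trivial⟩ (by decide +kernel)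

theorem ce_b_150 : ∀ r, r < 64 → sm gb (Qf (9600 + r)) = Qf (tab Gen.b (9600 + r)) :=
  edges_tab (sm gb) Qf (tab Gen.b) 9600 [(9600, 9136), (9601, 9340), (9602, 10253), (9603, 10254), (9604, 8909), (9605, 8910), (9606, 10265), (9607, 9145), (9608, 9094), (9609, 10167), (9610, 9150), (9611, 10168), (9612, 10169), (9613, 8862), (9614, 8863), (9615, 8864), (9616, 8865), (9617, 8866), (9618, 8867), (9619, 8868), (9620, 8869), (9621, 8870), (9622, 8871), (9623, 10272), (9624, 10273), (9625, 10274), (9626, 10275), (9627, 10276), (9628, 10277), (9629, 10278), (9630, 10279), (9631, 10293), (9632, 10281), (9633, 10282), (9634, 10297), (9635, 8874), (9636, 9636), (9637, 9637), (9638, 9638), (9639, 9639), (9640, 10304), (9641, 10305), (9642, 8923), (9643, 8882), (9644, 9644), (9645, 9645), (9646, 9646), (9647, 9647), (9648, 9648), (9649, 10312), (9650, 9650), (9651, 9651), (9652, 10314), (9653, 8891), (9654, 10316), (9655, 8893), (9656, 10193), (9657, 10317), (9658, 8900), (9659, 8901), (9660, 10319),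 (9661, 8904), (9662, 8908), (9663, 10322)]
    ⟨e3 q9600 L172068 q9136, e3 q9601 L172082 q9340, e3 q9602 (flp_b L178254) q10253, e3 q9603 (flp_b L178264) q10254, e3 q9604 L172106 q8909, e3 q9605 L172122 q8910, e3 q9606 L178372 q10265, e3 q9607 L172144 q9145, e3 q9608 L172155 q9094, e3 q9609 (flp_b L177347) q10167, e3 q9610 L172177 q9150, e3 q9611 (flp_b L177363) q10168, e3 q9612 (flp_b L177379) q10169, e3 q9613 L172207 q8862, e3 q9614 L172220 q8863, e3 q9615 L172231 q8864, e3 q9616 L172240 q8865, e3 q9617 L172249 q8866, e3 q9618 L172254 q8867, e3 q9619 L172261 q8868, e3 q9620 L172273 q8869, e3 q9621 L172283 q8870, e3 q9622 L172287 q8871, e3 q9623 (flp_b L178445) q10272, e3 q9624 (flp_b L178458) q10273, e3 q9625 (flp_b L178471) q10274, e3 q9626 (flp_b L178480) q10275, e3 q9627 (flp_b L178487) q10276, e3 q9628 (flp_b L178494) q10277, e3 q9629 (flp_b L178502) q10278, e3 q9630 (flp_b L178516) q10279, e3 q9631 L178590 q10293, e3 q9632 (flp_b L178526) q10281, e3 q9633 (flp_b L178532) q10282,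 e3 q9634 L178610 q10297, e3 q9635 (flp_b L172359) q8874, e3 q9636 L172371 q9636, e3 q9637 L172382 q9637, e3 q9638 L172387 q9638, e3 q9639 L172396 q9639, e3 q9640 L178682 q10304, e3 q9641 L178690 q10305, e3 q9642 L172422 q8923, e3 q9643 (flp_b L172430) q8882, e3 q9644 L172441 q9644, e3 q9645 L172446 q9645, e3 q9646 L172451 q9646, e3 q9647 L172458 q9647, e3 q9648 L172465 q9648, e3 q9649 L178758 q10312, e3 q9650 L172475 q9650, e3 q9651 L172482 q9651, e3 q9652 L178769 q10314, e3 q9653 (flp_b L172495) q8891, e3 q9654 (flp_b L178791) q10316, e3 q9655 (flp_b L172508) q8893, e3 q9656 (flp_b L177622) q10193, e3 q9657 L178797 q10317, e3 q9658 L172549 q8900, e3 q9659 L172563 q8901, e3 q9660 L178826 q10319, e3 q9661 (flp_b L172588) q8904, e3 q9662 L172601 q8908, e3 q9663 L178869 q10322, trivial⟩ (by decide +kernel)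

theorem ce_b_151 : ∀ r, r < 64 → sm gb (Qf (9664 + r)) = Qf (tab Gen.b (9664 + r)) :=
  edges_tab (sm gb) Qf (tab Gen.b) 9664 [(9664, 10323), (9665, 10264), (9666, 8911), (9667, 8933), (9668, 8934), (9669, 8917), (9670, 8918), (9671, 10328), (9672, 10325), (9673, 10320), (9674, 10327), (9675, 8919), (9676, 8920), (9677, 8937), (9678, 8922), (9679, 8942), (9680, 10189), (9681, 10190), (9682, 9682), (9683, 9683), (9684, 8949), (9685, 10218), (9686, 10219), (9687, 10331), (9688, 10247), (9689, 10248), (9690, 8957), (9691, 10334), (9692, 9006), (9693, 8962), (9694, 10204), (9695, 10221), (9696, 10338), (9697, 8965), (9698, 8972), (9699, 9072), (9700, 9075), (9701, 10116), (9702, 9078), (9703, 10074), (9704, 9704), (9705, 8977), (9706, 10064), (9707, 10346), (9708, 9708), (9709, 9116), (9710, 9117), (9711, 8984), (9712, 8985), (9713, 8986), (9714, 9125), (9715, 10067), (9716, 10351), (9717, 10352), (9718, 10353), (9719, 9719), (9720, 9720), (9721, 10159), (9722, 8992), (9723, 10362), (9724,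 9137), (9725, 8999), (9726, 9001), (9727, 9002)]
    ⟨e3 q9664 L178884 q10323, e3 q9665 (flp_b L178360) q10264, e3 q9666 (flp_b L172659) q8911, e3 q9667 L172671 q8933, e3 q9668 L172685 q8934, e3 q9669 L172696 q8917, e3 q9670 L172708 q8918, e3 q9671 L178944 q10328, e3 q9672 (flp_b L178913) q10325, e3 q9673 (flp_b L178854) q10320, e3 q9674 (flp_b L178933) q10327, e3 q9675 (flp_b L172761) q8919, e3 q9676 (flp_b L172770) q8920, e3 q9677 L172790 q8937, e3 q9678 (flp_b L172792) q8922, e3 q9679 L172808 q8942, e3 q9680 (flp_b L177575) q10189, e3 q9681 (flp_b L177585) q10190, e3 q9682 L172837 q9682, e3 q9683 L172850 q9683, e3 q9684 L172857 q8949, e3 q9685 (flp_b L177908) q10218, e3 q9686 (flp_b L177920) q10219, e3 q9687 L178982 q10331, e3 q9688 (flp_b L178183) q10247, e3 q9689 (flp_b L178194) q10248, e3 q9690 L172932 q8957, e3 q9691 (flp_b L179021) q10334, e3 q9692 L172958 q9006, e3 q9693 L172966 q8962, e3 q9694 (flp_b L177762) q10204, e3 q9695 (flp_b L177936) q10221, e3 q9696 (flp_b L179065) q10338,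 e3 q9697 L173006 q8965, e3 q9698 L173020 q8972, e3 q9699 L173036 q9072, e3 q9700 L173047 q9075, e3 q9701 (flp_b L176743) q10116, e3 q9702 L173068 q9078, e3 q9703 (flp_b L176458) q10074, e3 q9704 L173089 q9704, e3 q9705 L173100 q8977, e3 q9706 (flp_b L176373) q10064, e3 q9707 (flp_b L179156) q10346, e3 q9708 L173131 q9708, e3 q9709 L173142 q9116, e3 q9710 L173155 q9117, e3 q9711 L173166 q8984, e3 q9712 L173175 q8985, e3 q9713 L173182 q8986, e3 q9714 L173189 q9125, e3 q9715 (flp_b L176398) q10067, e3 q9716 (flp_b L179209) q10351, e3 q9717 (flp_b L179218) q10352, e3 q9718 (flp_b L179225) q10353, e3 q9719 L173239 q9719, e3 q9720 L173246 q9720, e3 q9721 (flp_b L177252) q10159, e3 q9722 L173267 q8992, e3 q9723 (flp_b L179306) q10362, e3 q9724 L173291 q9137, e3 q9725 L173301 q8999, e3 q9726 L173311 q9001, e3 q9727 L173323 q9002, trivial⟩ (by decide +kernel)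

theorem ce_b_152 : ∀ r, r < 64 → sm gb (Qf (9728 + r)) = Qf (tab Gen.b (9728 + r)) :=
  edges_tab (sm gb) Qf (tab Gen.b) 9728 [(9728, 9729), (9729, 9728), (9730, 10176), (9731, 10214), (9732, 10365), (9733, 10181), (9734, 10366), (9735, 10368), (9736, 9816), (9737, 10140), (9738, 10336), (9739, 9063), (9740, 9013), (9741, 9015), (9742, 9016), (9743, 10142), (9744, 10212), (9745, 10381), (9746, 10143), (9747, 10382), (9748, 10384), (9749, 9167), (9750, 9168), (9751, 9170), (9752, 9171), (9753, 9027), (9754, 9029), (9755, 9030), (9756, 9031), (9757, 9032), (9758, 9034), (9759, 9035), (9760, 10337), (9761, 9036), (9762, 10396), (9763, 10150), (9764, 10397), (9765, 10398), (9766, 10399), (9767, 10400), (9768, 10153), (9769, 10401), (9770, 9397), (9771, 10403), (9772, 10405), (9773, 9396), (9774, 9774), (9775, 9775), (9776, 9776), (9777, 9777), (9778, 9778), (9779, 9779), (9780, 9780), (9781, 9781), (9782, 9782), (9783, 9783), (9784, 9395), (9785, 9785), (9786, 9786), (9787, 9393), (9788, 9383),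 (9789, 9059), (9790, 9079), (9791, 10250)]
    ⟨e3 q9728 (flp_b L173343) q9729, e3 q9729 L173343 q9728, e3 q9730 (flp_b L177445) q10176, e3 q9731 (flp_b L177876) q10214, e3 q9732 (flp_b L179336) q10365, e3 q9733 (flp_b L177497) q10181, e3 q9734 (flp_b L179344) q10366, e3 q9735 (flp_b L179360) q10368, e3 q9736 (flp_b L174167) q9816, e3 q9737 (flp_b L177007) q10140, e3 q9738 (flp_b L179047) q10336, e3 q9739 L173438 q9063, e3 q9740 L173449 q9013, e3 q9741 L173460 q9015, e3 q9742 L173474 q9016, e3 q9743 (flp_b L177039) q10142, e3 q9744 (flp_b L177860) q10212, e3 q9745 (flp_b L179478) q10381, e3 q9746 (flp_b L177054) q10143, e3 q9747 (flp_b L179487) q10382, e3 q9748 (flp_b L179505) q10384, e3 q9749 L173536 q9167, e3 q9750 L173549 q9168, e3 q9751 L173562 q9170, e3 q9752 L173574 q9171, e3 q9753 L173584 q9027, e3 q9754 L173597 q9029, e3 q9755 L173610 q9030, e3 q9756 L173619 q9031, e3 q9757 L173624 q9032, e3 q9758 L173629 q9034, e3 q9759 L173637 q9035, e3 q9760 (flp_b L179059) q10337, e3 q9761 L173645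 q9036, e3 q9762 (flp_b L179619) q10396, e3 q9763 (flp_b L177151) q10150, e3 q9764 (flp_b L179632) q10397, e3 q9765 (flp_b L179645) q10398, e3 q9766 (flp_b L179652) q10399, e3 q9767 (flp_b L179659) q10400, e3 q9768 (flp_b L177182) q10153, e3 q9769 (flp_b L179665) q10401, e3 q9770 (flp_b L173723) q9397, e3 q9771 (flp_b L179679) q10403, e3 q9772 (flp_b L179689) q10405, e3 q9773 L173745 q9396, e3 q9774 L173751 q9774, e3 q9775 L173761 q9775, e3 q9776 L173774 q9776, e3 q9777 L173787 q9777, e3 q9778 L173796 q9778, e3 q9779 L173807 q9779, e3 q9780 L173814 q9780, e3 q9781 L173823 q9781, e3 q9782 L173836 q9782, e3 q9783 L173847 q9783, e3 q9784 (flp_b L173862) q9395, e3 q9785 L173868 q9785, e3 q9786 L173879 q9786, e3 q9787 (flp_b L173900) q9393, e3 q9788 L173906 q9383, e3 q9789 L173922 q9059, e3 q9790 L173933 q9079, e3 q9791 (flp_b L178221) q10250, trivial⟩ (by decide +kernel)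

theorem ce_b_153 : ∀ r, r < 64 → sm gb (Qf (9792 + r)) = Qf (tab Gen.b (9792 + r)) :=
  edges_tab (sm gb) Qf (tab Gen.b) 9792 [(9792, 9066), (9793, 10342), (9794, 9067), (9795, 9080), (9796, 10199), (9797, 9074), (9798, 9400), (9799, 10318), (9800, 9367), (9801, 10344), (9802, 9083), (9803, 9929), (9804, 10436), (9805, 9232), (9806, 9086), (9807, 10440), (9808, 10249), (9809, 9096), (9810, 9097), (9811, 9098), (9812, 9099), (9813, 9100), (9814, 9101), (9815, 10267), (9816, 9736), (9817, 10443), (9818, 10444), (9819, 10445), (9820, 10446), (9821, 10448), (9822, 10449), (9823, 9823), (9824, 9824), (9825, 9110), (9826, 10427), (9827, 9382), (9828, 9386), (9829, 9387), (9830, 9233), (9831, 9841), (9832, 10349), (9833, 10350), (9834, 9122), (9835, 9123), (9836, 9124), (9837, 9126), (9838, 9127), (9839, 9128), (9840, 9854), (9841, 9831), (9842, 10466), (9843, 10467), (9844, 10468), (9845, 10354), (9846, 10469), (9847, 10470), (9848, 10471), (9849, 9243), (9850, 9244), (9851, 10485), (9852, 9394),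 (9853, 9398), (9854, 9840), (9855, 10255)]
    ⟨e3 q9792 L173949 q9066, e3 q9793 (flp_b L179115) q10342, e3 q9794 L173968 q9067, e3 q9795 L173980 q9080, e3 q9796 (flp_b L177703) q10199, e3 q9797 L173997 q9074, e3 q9798 L174009 q9400, e3 q9799 (flp_b L178824) q10318, e3 q9800 L174021 q9367, e3 q9801 (flp_b L179133) q10344, e3 q9802 L174036 q9083, e3 q9803 (flp_b L175163) q9929, e3 q9804 (flp_b L179992) q10436, e3 q9805 L174070 q9232, e3 q9806 L174082 q9086, e3 q9807 (flp_b L180032) q10440, e3 q9808 (flp_b L178204) q10249, e3 q9809 L174104 q9096, e3 q9810 L174115 q9097, e3 q9811 L174128 q9098, e3 q9812 L174135 q9099, e3 q9813 L174145 q9100, e3 q9814 L174149 q9101, e3 q9815 (flp_b L178399) q10267, e3 q9816 L174167 q9736, e3 q9817 (flp_b L180052) q10443, e3 q9818 (flp_b L180063) q10444, e3 q9819 (flp_b L180076) q10445, e3 q9820 (flp_b L180082) q10446, e3 q9821 (flp_b L180092) q10448, e3 q9822 (flp_b L180098) q10449, e3 q9823 L174217 q9823, e3 q9824 L174228 q9824, e3 q9825 L174239 q9110, e3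 q9826 (flp_b L179917) q10427, e3 q9827 L174251 q9382, e3 q9828 L174263 q9386, e3 q9829 L174273 q9387, e3 q9830 L174283 q9233, e3 q9831 (flp_b L174409) q9841, e3 q9832 (flp_b L179185) q10349, e3 q9833 (flp_b L179198) q10350, e3 q9834 L174324 q9122, e3 q9835 L174337 q9123, e3 q9836 L174350 q9124, e3 q9837 L174361 q9126, e3 q9838 L174371 q9127, e3 q9839 L174383 q9128, e3 q9840 (flp_b L174509) q9854, e3 q9841 L174409 q9831, e3 q9842 (flp_b L180246) q10466, e3 q9843 (flp_b L180259) q10467, e3 q9844 (flp_b L180272) q10468, e3 q9845 (flp_b L179233) q10354, e3 q9846 (flp_b L180281) q10469, e3 q9847 (flp_b L180293) q10470, e3 q9848 (flp_b L180301) q10471, e3 q9849 L174469 q9243, e3 q9850 L174475 q9244, e3 q9851 L180407 q10485, e3 q9852 L174489 q9394, e3 q9853 L174499 q9398, e3 q9854 L174509 q9840, e3 q9855 (flp_b L178276) q10255, trivial⟩ (by decide +kernel)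

theorem ce_b_154 : ∀ r, r < 64 → sm gb (Qf (9856 + r)) = Qf (tab Gen.b (9856 + r)) :=
  edges_tab (sm gb) Qf (tab Gen.b) 9856 [(9856, 10258), (9857, 10364), (9858, 9144), (9859, 9146), (9860, 9147), (9861, 9148), (9862, 9149), (9863, 9151), (9864, 9152), (9865, 9153), (9866, 10491), (9867, 10266), (9868, 10492), (9869, 10493), (9870, 10494), (9871, 10495), (9872, 10269), (9873, 10496), (9874, 10498), (9875, 10499), (9876, 9401), (9877, 9402), (9878, 9403), (9879, 9404), (9880, 9405), (9881, 9406), (9882, 9407), (9883, 9408), (9884, 9410), (9885, 9411), (9886, 9578), (9887, 9576), (9888, 10235), (9889, 10391), (9890, 10392), (9891, 10240), (9892, 10393), (9893, 10395), (9894, 9182), (9895, 9183), (9896, 9184), (9897, 9185), (9898, 9186), (9899, 9187), (9900, 9188), (9901, 9189), (9902, 10539), (9903, 9191), (9904, 9192), (9905, 10529), (9906, 10530), (9907, 10531), (9908, 10532), (9909, 10533), (9910, 10550), (9911, 10535), (9912, 10536), (9913, 10164), (9914, 10538), (9915, 9190), (9916,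 10556), (9917, 10541), (9918, 10542), (9919, 9277)]
    ⟨e3 q9856 (flp_b L178306) q10258, e3 q9857 (flp_b L179328) q10364, e3 q9858 L174549 q9144, e3 q9859 L174562 q9146, e3 q9860 L174575 q9147, e3 q9861 L174584 q9148, e3 q9862 L174593 q9149, e3 q9863 L174600 q9151, e3 q9864 L174610 q9152, e3 q9865 L174618 q9153, e3 q9866 (flp_b L180457) q10491, e3 q9867 (flp_b L178386) q10266, e3 q9868 (flp_b L180470) q10492, e3 q9869 (flp_b L180483) q10493, e3 q9870 (flp_b L180490) q10494, e3 q9871 (flp_b L180499) q10495, e3 q9872 (flp_b L178419) q10269, e3 q9873 (flp_b L180507) q10496, e3 q9874 (flp_b L180523) q10498, e3 q9875 (flp_b L180533) q10499, e3 q9876 L174696 q9401, e3 q9877 L174706 q9402, e3 q9878 L174720 q9403, e3 q9879 L174732 q9404, e3 q9880 L174740 q9405, e3 q9881 L174750 q9406, e3 q9882 L174758 q9407, e3 q9883 L174768 q9408, e3 q9884 L174774 q9410, e3 q9885 L174782 q9411, e3 q9886 L174788 q9578, e3 q9887 L174802 q9576, e3 q9888 (flp_b L178089) q10235, e3 q9889 (flp_b L179567) q10391, e3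 q9890 (flp_b L179580) q10392, e3 q9891 (flp_b L178127) q10240, e3 q9892 (flp_b L179591) q10393, e3 q9893 (flp_b L179609) q10395, e3 q9894 L174868 q9182, e3 q9895 L174878 q9183, e3 q9896 L174890 q9184, e3 q9897 L174902 q9185, e3 q9898 L174910 q9186, e3 q9899 L174922 q9187, e3 q9900 L174930 q9188, e3 q9901 L174940 q9189, e3 q9902 L180867 q10539, e3 q9903 L174952 q9191, e3 q9904 L174960 q9192, e3 q9905 (flp_b L180781) q10529, e3 q9906 (flp_b L180791) q10530, e3 q9907 (flp_b L180803) q10531, e3 q9908 (flp_b L180817) q10532, e3 q9909 (flp_b L180825) q10533, e3 q9910 L180937 q10550, e3 q9911 (flp_b L180841) q10535, e3 q9912 (flp_b L180851) q10536, e3 q9913 (flp_b L177315) q10164, e3 q9914 (flp_b L180865) q10538, e3 q9915 (flp_b L175022) q9190, e3 q9916 (flp_b L180969) q10556, e3 q9917 (flp_b L180883) q10541, e3 q9918 (flp_b L180889) q10542, e3 q9919 L175038 q9277, trivial⟩ (by decide +kernel)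

theorem ce_b_155 : ∀ r, r < 64 → sm gb (Qf (9920 + r)) = Qf (tab Gen.b (9920 + r)) :=
  edges_tab (sm gb) Qf (tab Gen.b) 9920 [(9920, 9278), (9921, 9279), (9922, 9280), (9923, 9281), (9924, 9283), (9925, 9284), (9926, 9286), (9927, 9288), (9928, 9289), (9929, 9803), (9930, 10215), (9931, 9241), (9932, 9209), (9933, 10068), (9934, 9501), (9935, 9227), (9936, 9219), (9937, 10429), (9938, 10568), (9939, 9229), (9940, 10570), (9941, 10166), (9942, 9225), (9943, 9224), (9944, 9513), (9945, 9515), (9946, 10571), (9947, 9947), (9948, 9948), (9949, 9240), (9950, 9242), (9951, 10563), (9952, 10573), (9953, 10482), (9954, 10574), (9955, 10484), (9956, 9245), (9957, 9957), (9958, 9958), (9959, 9959), (9960, 9960), (9961, 9961), (9962, 9962), (9963, 9963), (9964, 9964), (9965, 10584), (9966, 9266), (9967, 9267), (9968, 9268), (9969, 9269), (9970, 9270), (9971, 10590), (9972, 9272), (9973, 9273), (9974, 9995), (9975, 9263), (9976, 10592), (9977, 9276), (9978, 10585), (9979, 10586), (9980, 10589), (9981,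 9271), (9982, 10594), (9983, 9275)]
    ⟨e3 q9920 L175048 q9278, e3 q9921 L175060 q9279, e3 q9922 L175074 q9280, e3 q9923 L175084 q9281, e3 q9924 L175096 q9283, e3 q9925 L175108 q9284, e3 q9926 L175122 q9286, e3 q9927 L175135 q9288, e3 q9928 L175145 q9289, e3 q9929 L175163 q9803, e3 q9930 (flp_b L177888) q10215, e3 q9931 L175173 q9241, e3 q9932 (flp_b L175181) q9209, e3 q9933 (flp_b L176410) q10068, e3 q9934 L175207 q9501, e3 q9935 L175213 q9227, e3 q9936 L175222 q9219, e3 q9937 (flp_b L179937) q10429, e3 q9938 (flp_b L181086) q10568, e3 q9939 L175255 q9229, e3 q9940 L181105 q10570, e3 q9941 (flp_b L177341) q10166, e3 q9942 L175277 q9225, e3 q9943 (flp_b L175283) q9224, e3 q9944 L175294 q9513, e3 q9945 L175307 q9515, e3 q9946 L181115 q10571, e3 q9947 L175334 q9947, e3 q9948 L175346 q9948, e3 q9949 L175357 q9240, e3 q9950 L175368 q9242, e3 q9951 (flp_b L181038) q10563, e3 q9952 L181132 q10573, e3 q9953 (flp_b L180387) q10482, e3 q9954 L181141 q10574, e3 q9955 (flp_b L180403) q10484, e3 q9956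 (flp_b L175425) q9245, e3 q9957 L175433 q9957, e3 q9958 L175443 q9958, e3 q9959 L175454 q9959, e3 q9960 L175466 q9960, e3 q9961 L175473 q9961, e3 q9962 L175484 q9962, e3 q9963 L175493 q9963, e3 q9964 L175506 q9964, e3 q9965 L181237 q10584, e3 q9966 L175521 q9266, e3 q9967 L175529 q9267, e3 q9968 L175539 q9268, e3 q9969 L175551 q9269, e3 q9970 L175561 q9270, e3 q9971 L181298 q10590, e3 q9972 L175576 q9272, e3 q9973 L175586 q9273, e3 q9974 (flp_b L175819) q9995, e3 q9975 (flp_b L175600) q9263, e3 q9976 (flp_b L181318) q10592, e3 q9977 L175618 q9276, e3 q9978 (flp_b L181247) q10585, e3 q9979 (flp_b L181258) q10586, e3 q9980 (flp_b L181289) q10589, e3 q9981 (flp_b L175660) q9271, e3 q9982 (flp_b L181334) q10594, e3 q9983 L175683 q9275, trivial⟩ (by decide +kernel)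

theorem ce_b_156 : ∀ r, r < 64 → sm gb (Qf (9984 + r)) = Qf (tab Gen.b (9984 + r)) :=
  edges_tab (sm gb) Qf (tab Gen.b) 9984 [(9984, 10559), (9985, 10560), (9986, 10561), (9987, 10188), (9988, 10562), (9989, 9282), (9990, 10306), (9991, 9293), (9992, 9992), (9993, 10597), (9994, 9328), (9995, 9974), (9996, 10598), (9997, 9997), (9998, 9998), (9999, 9999), (10000, 10000), (10001, 10001), (10002, 10002), (10003, 10606), (10004, 10607), (10005, 9326), (10006, 9316), (10007, 10007), (10008, 10008), (10009, 10009), (10010, 9324), (10011, 9325), (10012, 10012), (10013, 9333), (10014, 9334), (10015, 10016), (10016, 10015), (10017, 10612), (10018, 10613), (10019, 10019), (10020, 10020), (10021, 9341), (10022, 10135), (10023, 10256), (10024, 10259), (10025, 10621), (10026, 10627), (10027, 9350), (10028, 9351), (10029, 9353), (10030, 10174), (10031, 9354), (10032, 10151), (10033, 10134), (10034, 10223), (10035, 10628), (10036, 10629), (10037, 10224), (10038, 10642), (10039, 10631), (10040, 10633),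 (10041, 10430), (10042, 9356), (10043, 10043), (10044, 10044), (10045, 10045), (10046, 10046), (10047, 10047)]
    ⟨e3 q9984 (flp_b L180981) q10559, e3 q9985 (flp_b L180992) q10560, e3 q9986 (flp_b L181008) q10561, e3 q9987 (flp_b L177563) q10188, e3 q9988 (flp_b L181024) q10562, e3 q9989 (flp_b L175751) q9282, e3 q9990 (flp_b L178707) q10306, e3 q9991 (flp_b L175766) q9293, e3 q9992 L175779 q9992, e3 q9993 L181360 q10597, e3 q9994 L175798 q9328, e3 q9995 L175819 q9974, e3 q9996 L181370 q10598, e3 q9997 L175838 q9997, e3 q9998 L175850 q9998, e3 q9999 L175862 q9999, e3 q10000 L175869 q10000, e3 q10001 L175878 q10001, e3 q10002 L175887 q10002, e3 q10003 L181458 q10606, e3 q10004 L181466 q10607, e3 q10005 L175909 q9326, e3 q10006 (flp_b L175915) q9316, e3 q10007 L175924 q10007, e3 q10008 L175933 q10008, e3 q10009 L175942 q10009, e3 q10010 (flp_b L175951) q9324, e3 q10011 (flp_b L175961) q9325, e3 q10012 L175977 q10012, e3 q10013 L175980 q9333, e3 q10014 L175987 q9334, e3 q10015 (flp_b L176007)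 q10016, e3 q10016 L176007 q10015, e3 q10017 (flp_b L181514) q10612, e3 q10018 (flp_b L181523) q10613, e3 q10019 L176039 q10019, e3 q10020 L176050 q10020, e3 q10021 L176056 q9341, e3 q10022 (flp_b L176948) q10135, e3 q10023 (flp_b L178290) q10256, e3 q10024 (flp_b L178322) q10259, e3 q10025 (flp_b L181591) q10621, e3 q10026 L181630 q10627, e3 q10027 L176093 q9350, e3 q10028 L176100 q9351, e3 q10029 L176107 q9353, e3 q10030 (flp_b L177433) q10174, e3 q10031 L176117 q9354, e3 q10032 (flp_b L177164) q10151, e3 q10033 (flp_b L176933) q10134, e3 q10034 (flp_b L177962) q10223, e3 q10035 (flp_b L181639) q10628, e3 q10036 (flp_b L181648) q10629, e3 q10037 (flp_b L177971) q10224, e3 q10038 L181736 q10642, e3 q10039 (flp_b L181658) q10631, e3 q10040 (flp_b L181670) q10633, e3 q10041 (flp_b L179943) q10430, e3 q10042 (flp_b L176197) q9356, e3 q10043 L176207 q10043, e3 q10044 L176218 q10044, e3 q10045 L176225 q10045, e3 q10046 L176234 q10046, e3 q10047 L176245 q10047, trivial⟩ (by decide +kernel)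

theorem ce_b_157 : ∀ r, r < 64 → sm gb (Qf (10048 + r)) = Qf (tab Gen.b (10048 + r)) :=
  edges_tab (sm gb) Qf (tab Gen.b) 10048 [(10048, 10652), (10049, 10049), (10050, 10050), (10051, 10434), (10052, 9365), (10053, 10655), (10054, 9431), (10055, 10196), (10056, 9370), (10057, 9371), (10058, 10657), (10059, 9376), (10060, 10201), (10061, 9377), (10062, 9375), (10063, 10203), (10064, 9706), (10065, 10459), (10066, 10426), (10067, 9715), (10068, 9933), (10069, 10460), (10070, 10461), (10071, 9436), (10072, 9437), (10073, 10672), (10074, 9703), (10075, 10207), (10076, 10423), (10077, 10424), (10078, 10411), (10079, 10414), (10080, 10402), (10081, 10416), (10082, 10486), (10083, 10432), (10084, 10510), (10085, 10511), (10086, 10512), (10087, 10513), (10088, 10514), (10089, 10691), (10090, 10515), (10091, 10516), (10092, 10696), (10093, 10517), (10094, 9409), (10095, 10700), (10096, 10518), (10097, 10519), (10098, 10186), (10099, 9413), (10100, 10200), (10101, 10646), (10102, 9439), (10103,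 9440), (10104, 9441), (10105, 10708), (10106, 9443), (10107, 10710), (10108, 9445), (10109, 9421), (10110, 10713), (10111, 10113)]
    ⟨e3 q10048 L181822 q10652, e3 q10049 L176259 q10049, e3 q10050 L176272 q10050, e3 q10051 (flp_b L179977) q10434, e3 q10052 (flp_b L176289) q9365, e3 q10053 (flp_b L181851) q10655, e3 q10054 L176315 q9431, e3 q10055 (flp_b L177661) q10196, e3 q10056 L176324 q9370, e3 q10057 (flp_b L176329) q9371, e3 q10058 L181868 q10657, e3 q10059 L176339 q9376, e3 q10060 (flp_b L177721) q10201, e3 q10061 L176354 q9377, e3 q10062 (flp_b L176358) q9375, e3 q10063 (flp_b L177751) q10203, e3 q10064 L176373 q9706, e3 q10065 (flp_b L180173) q10459, e3 q10066 (flp_b L179898) q10426, e3 q10067 L176398 q9715, e3 q10068 L176410 q9933, e3 q10069 (flp_b L180185) q10460, e3 q10070 (flp_b L180191) q10461, e3 q10071 L176432 q9436, e3 q10072 L176442 q9437, e3 q10073 L181974 q10672, e3 q10074 L176458 q9703, e3 q10075 (flp_b L177798) q10207, e3 q10076 L179867 q10423, e3 q10077 L179879 q10424,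 e3 q10078 L179747 q10411, e3 q10079 L179771 q10414, e3 q10080 (flp_b L179673) q10402, e3 q10081 (flp_b L179781) q10416, e3 q10082 (flp_b L180415) q10486, e3 q10083 (flp_b L179969) q10432, e3 q10084 (flp_b L180607) q10510, e3 q10085 (flp_b L180619) q10511, e3 q10086 (flp_b L180633) q10512, e3 q10087 (flp_b L180647) q10513, e3 q10088 (flp_b L180655) q10514, e3 q10089 L182090 q10691, e3 q10090 (flp_b L180663) q10515, e3 q10091 (flp_b L180671) q10516, e3 q10092 L182118 q10696, e3 q10093 (flp_b L180679) q10517, e3 q10094 (flp_b L176575) q9409, e3 q10095 (flp_b L182138) q10700, e3 q10096 (flp_b L180683) q10518, e3 q10097 (flp_b L180689) q10519, e3 q10098 (flp_b L177545) q10186, e3 q10099 (flp_b L176597) q9413, e3 q10100 (flp_b L177715) q10200, e3 q10101 (flp_b L181766) q10646, e3 q10102 L176621 q9439, e3 q10103 L176631 q9440, e3 q10104 L176639 q9441, e3 q10105 L182186 q10708, e3 q10106 L176656 q9443, e3 q10107 L182210 q10710, e3 q10108 L176671 q9445, e3 q10109 (flp_b L176680) q9421, e3 q10110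 (flp_b L182234) q10713, e3 q10111 (flp_b L176714) q10113, trivial⟩ (by decide +kernel)

theorem ce_b_158 : ∀ r, r < 64 → sm gb (Qf (10112 + r)) = Qf (tab Gen.b (10112 + r)) :=
  edges_tab (sm gb) Qf (tab Gen.b) 10112 [(10112, 9424), (10113, 10111), (10114, 10654), (10115, 9427), (10116, 9701), (10117, 10177), (10118, 9537), (10119, 10669), (10120, 10717), (10121, 10671), (10122, 9438), (10123, 10719), (10124, 10707), (10125, 9442), (10126, 9444), (10127, 10721), (10128, 10128), (10129, 9447), (10130, 10130), (10131, 9550), (10132, 9456), (10133, 9457), (10134, 10033), (10135, 10022), (10136, 10724), (10137, 10725), (10138, 10138), (10139, 10139), (10140, 9737), (10141, 9465), (10142, 9743), (10143, 9746), (10144, 10733), (10145, 9521), (10146, 9569), (10147, 9473), (10148, 9475), (10149, 9476), (10150, 9763), (10151, 10032), (10152, 10739), (10153, 9768), (10154, 10740), (10155, 10742), (10156, 9526), (10157, 10751), (10158, 9481), (10159, 9721), (10160, 10752), (10161, 9529), (10162, 9593),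 (10163, 9486), (10164, 9913), (10165, 10758), (10166, 9941), (10167, 9609), (10168, 9611), (10169, 9612), (10170, 9500), (10171, 9502), (10172, 9504), (10173, 9505), (10174, 10030), (10175, 9506)]
    ⟨e3 q10112 (flp_b L176699) q9424, e3 q10113 L176714 q10111, e3 q10114 (flp_b L181847) q10654, e3 q10115 L176734 q9427, e3 q10116 L176743 q9701, e3 q10117 (flp_b L177459) q10177, e3 q10118 L176770 q9537, e3 q10119 (flp_b L181949) q10669, e3 q10120 L182267 q10717, e3 q10121 (flp_b L181967) q10671, e3 q10122 (flp_b L176816) q9438, e3 q10123 L182286 q10719, e3 q10124 (flp_b L182177) q10707, e3 q10125 (flp_b L176847) q9442, e3 q10126 (flp_b L176857) q9444, e3 q10127 (flp_b L182313) q10721, e3 q10128 L176878 q10128, e3 q10129 L176881 q9447, e3 q10130 L176889 q10130, e3 q10131 L176896 q9550, e3 q10132 L176911 q9456, e3 q10133 L176924 q9457, e3 q10134 L176933 q10033, e3 q10135 L176948 q10022, e3 q10136 (flp_b L182348) q10724, e3 q10137 (flp_b L182361) q10725, e3 q10138 L176984 q10138, e3 q10139 L176995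 q10139, e3 q10140 L177007 q9737, e3 q10141 L177023 q9465, e3 q10142 L177039 q9743, e3 q10143 L177054 q9746, e3 q10144 (flp_b L182453) q10733, e3 q10145 L177080 q9521, e3 q10146 L177095 q9569, e3 q10147 L177111 q9473, e3 q10148 L177127 q9475, e3 q10149 L177141 q9476, e3 q10150 L177151 q9763, e3 q10151 L177164 q10032, e3 q10152 (flp_b L182529) q10739, e3 q10153 L177182 q9768, e3 q10154 (flp_b L182545) q10740, e3 q10155 (flp_b L182567) q10742, e3 q10156 L177212 q9526, e3 q10157 L182654 q10751, e3 q10158 L177236 q9481, e3 q10159 L177252 q9721, e3 q10160 (flp_b L182673) q10752, e3 q10161 L177278 q9529, e3 q10162 L177293 q9593, e3 q10163 L177307 q9486, e3 q10164 L177315 q9913, e3 q10165 (flp_b L182744) q10758, e3 q10166 L177341 q9941, e3 q10167 L177347 q9609, e3 q10168 L177363 q9611, e3 q10169 L177379 q9612, e3 q10170 L177387 q9500, e3 q10171 L177399 q9502, e3 q10172 L177409 q9504, e3 q10173 L177423 q9505, e3 q10174 L177433 q10030, e3 q10175 L177439 q9506, trivial⟩ (by decide +kernel)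

theorem ce_b_159 : ∀ r, r < 64 → sm gb (Qf (10176 + r)) = Qf (tab Gen.b (10176 + r)) :=
  edges_tab (sm gb) Qf (tab Gen.b) 10176 [(10176, 9730), (10177, 10117), (10178, 10766), (10179, 10564), (10180, 10767), (10181, 9733), (10182, 10768), (10183, 10781), (10184, 10769), (10185, 10771), (10186, 10098), (10187, 9509), (10188, 9987), (10189, 9680), (10190, 9681), (10191, 10787), (10192, 9516), (10193, 9656), (10194, 9520), (10195, 9543), (10196, 10055), (10197, 9525), (10198, 9527), (10199, 9796), (10200, 10100), (10201, 10060), (10202, 9544), (10203, 10063), (10204, 9694), (10205, 9548), (10206, 10795), (10207, 10075), (10208, 10723), (10209, 9555), (10210, 9558), (10211, 9559), (10212, 9744), (10213, 10799), (10214, 9731), (10215, 9930), (10216, 10800), (10217, 10801), (10218, 9685), (10219, 9686), (10220, 10811), (10221, 9695), (10222, 9567), (10223, 10034), (10224, 10037), (10225, 10813), (10226, 10818), (10227, 10738), (10228, 9579), (10229, 9580), (10230, 9581), (10231, 9583), (10232,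 9584), (10233, 9585), (10234, 10521), (10235, 9888), (10236, 10520), (10237, 10820), (10238, 10821), (10239, 10822)]
    ⟨e3 q10176 L177445 q9730, e3 q10177 L177459 q10117, e3 q10178 (flp_b L182828) q10766, e3 q10179 (flp_b L181060) q10564, e3 q10180 (flp_b L182840) q10767, e3 q10181 L177497 q9733, e3 q10182 (flp_b L182852) q10768, e3 q10183 L182972 q10781, e3 q10184 (flp_b L182864) q10769, e3 q10185 (flp_b L182880) q10771, e3 q10186 L177545 q10098, e3 q10187 (flp_b L177547) q9509, e3 q10188 L177563 q9987, e3 q10189 L177575 q9680, e3 q10190 L177585 q9681, e3 q10191 L183031 q10787, e3 q10192 (flp_b L177600) q9516, e3 q10193 L177622 q9656, e3 q10194 L177628 q9520, e3 q10195 L177643 q9543, e3 q10196 L177661 q10055, e3 q10197 L177667 q9525, e3 q10198 (flp_b L177678) q9527, e3 q10199 L177703 q9796, e3 q10200 L177715 q10100, e3 q10201 L177721 q10060, e3 q10202 L177745 q9544, e3 q10203 L177751 q10063, e3 q10204 L177762 q9694, e3 q10205 L177776 q9548, e3 q10206 (flp_b L183139) q10795, e3 q10207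 L177798 q10075, e3 q10208 (flp_b L182333) q10723, e3 q10209 L177824 q9555, e3 q10210 L177838 q9558, e3 q10211 L177850 q9559, e3 q10212 L177860 q9744, e3 q10213 (flp_b L183189) q10799, e3 q10214 L177876 q9731, e3 q10215 L177888 q9930, e3 q10216 (flp_b L183203) q10800, e3 q10217 (flp_b L183213) q10801, e3 q10218 L177908 q9685, e3 q10219 L177920 q9686, e3 q10220 L183294 q10811, e3 q10221 L177936 q9695, e3 q10222 L177950 q9567, e3 q10223 L177962 q10034, e3 q10224 L177971 q10037, e3 q10225 (flp_b L183321) q10813, e3 q10226 L183367 q10818, e3 q10227 (flp_b L182517) q10738, e3 q10228 L178012 q9579, e3 q10229 L178026 q9580, e3 q10230 L178040 q9581, e3 q10231 L178050 q9583, e3 q10232 L178066 q9584, e3 q10233 L178074 q9585, e3 q10234 (flp_b L180711) q10521, e3 q10235 L178089 q9888, e3 q10236 (flp_b L180697) q10520, e3 q10237 (flp_b L183396) q10820, e3 q10238 (flp_b L183408) q10821, e3 q10239 (flp_b L183422) q10822, trivial⟩ (by decide +kernel)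

theorem ce_b_160 : ∀ r, r < 64 → sm gb (Qf (10240 + r)) = Qf (tab Gen.b (10240 + r)) :=
  edges_tab (sm gb) Qf (tab Gen.b) 10240 [(10240, 9891), (10241, 10823), (10242, 10837), (10243, 10825), (10244, 10826), (10245, 10841), (10246, 9588), (10247, 9688), (10248, 9689), (10249, 9808), (10250, 9791), (10251, 10756), (10252, 9599), (10253, 9602), (10254, 9603), (10255, 9855), (10256, 10023), (10257, 10848), (10258, 9856), (10259, 10024), (10260, 10859), (10261, 10850), (10262, 10851), (10263, 10863), (10264, 9665), (10265, 9606), (10266, 9867), (10267, 9815), (10268, 10762), (10269, 9872), (10270, 10763), (10271, 10765), (10272, 9623), (10273, 9624), (10274, 9625), (10275, 9626), (10276, 9627), (10277, 9628), (10278, 9629), (10279, 9630), (10280, 10882), (10281, 9632), (10282, 9633), (10283, 10872), (10284, 10873), (10285, 10874), (10286, 10875), (10287, 10876), (10288, 10893), (10289, 10878), (10290, 10879), (10291, 10897), (10292, 10881), (10293, 9631), (10294, 10901), (10295, 10884), (10296,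 10885), (10297, 9634), (10298, 10785), (10299, 10299), (10300, 10300), (10301, 10906), (10302, 10907), (10303, 10303)]
    ⟨e3 q10240 L178127 q9891, e3 q10241 (flp_b L183432) q10823, e3 q10242 L183548 q10837, e3 q10243 (flp_b L183456) q10825, e3 q10244 (flp_b L183466) q10826, e3 q10245 L183578 q10841, e3 q10246 (flp_b L178172) q9588, e3 q10247 L178183 q9688, e3 q10248 L178194 q9689, e3 q10249 L178204 q9808, e3 q10250 L178221 q9791, e3 q10251 (flp_b L182722) q10756, e3 q10252 L178241 q9599, e3 q10253 L178254 q9602, e3 q10254 L178264 q9603, e3 q10255 L178276 q9855, e3 q10256 L178290 q10023, e3 q10257 (flp_b L183668) q10848, e3 q10258 L178306 q9856, e3 q10259 L178322 q10024, e3 q10260 L183782 q10859, e3 q10261 (flp_b L183692) q10850, e3 q10262 (flp_b L183702) q10851, e3 q10263 L183806 q10863, e3 q10264 L178360 q9665, e3 q10265 (flp_b L178372) q9606, e3 q10266 L178386 q9867, e3 q10267 L178399 q9815, e3 q10268 (flp_b L182782) q10762, e3 q10269 L178419 q9872, e3 q10270 (flp_b L182798) q10763,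 e3 q10271 (flp_b L182822) q10765, e3 q10272 L178445 q9623, e3 q10273 L178458 q9624, e3 q10274 L178471 q9625, e3 q10275 L178480 q9626, e3 q10276 L178487 q9627, e3 q10277 L178494 q9628, e3 q10278 L178502 q9629, e3 q10279 L178516 q9630, e3 q10280 L183992 q10882, e3 q10281 L178526 q9632, e3 q10282 L178532 q9633, e3 q10283 (flp_b L183910) q10872, e3 q10284 (flp_b L183923) q10873, e3 q10285 (flp_b L183934) q10874, e3 q10286 (flp_b L183945) q10875, e3 q10287 (flp_b L183953) q10876, e3 q10288 L184054 q10893, e3 q10289 (flp_b L183964) q10878, e3 q10290 (flp_b L183972) q10879, e3 q10291 L184076 q10897, e3 q10292 (flp_b L183988) q10881, e3 q10293 (flp_b L178590) q9631, e3 q10294 (flp_b L184104) q10901, e3 q10295 (flp_b L184006) q10884, e3 q10296 (flp_b L184012) q10885, e3 q10297 (flp_b L178610) q9634, e3 q10298 (flp_b L183018) q10785, e3 q10299 L178638 q10299, e3 q10300 L178649 q10300, e3 q10301 L184137 q10906, e3 q10302 L184144 q10907, e3 q10303 L178677 q10303, trivial⟩ (by decide +kernel)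

theorem ce_b_161 : ∀ r, r < 64 → sm gb (Qf (10304 + r)) = Qf (tab Gen.b (10304 + r)) :=
  edges_tab (sm gb) Qf (tab Gen.b) 10304 [(10304, 9640), (10305, 9641), (10306, 9990), (10307, 10307), (10308, 10308), (10309, 10911), (10310, 10912), (10311, 10311), (10312, 9649), (10313, 10915), (10314, 9652), (10315, 10788), (10316, 9654), (10317, 9657), (10318, 9799), (10319, 9660), (10320, 9673), (10321, 10918), (10322, 9663), (10323, 9664), (10324, 10750), (10325, 9672), (10326, 10842), (10327, 9674), (10328, 9671), (10329, 10329), (10330, 10810), (10331, 9687), (10332, 10843), (10333, 10845), (10334, 9691), (10335, 10925), (10336, 9738), (10337, 9760), (10338, 9696), (10339, 10794), (10340, 10812), (10341, 10930), (10342, 9793), (10343, 10716), (10344, 9801), (10345, 10673), (10346, 9707), (10347, 10661), (10348, 10936), (10349, 9832), (10350, 9833), (10351, 9716), (10352, 9717), (10353, 9718), (10354, 9845), (10355, 10664), (10356, 10941), (10357, 10942), (10358, 10944), (10359, 10359), (10360,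 10953), (10361, 10753), (10362, 9723), (10363, 10956), (10364, 9857), (10365, 9732), (10366, 9734), (10367, 10844)]
    ⟨e3 q10304 (flp_b L178682) q9640, e3 q10305 (flp_b L178690) q9641, e3 q10306 L178707 q9990, e3 q10307 L178720 q10307, e3 q10308 L178729 q10308, e3 q10309 L184184 q10911, e3 q10310 L184195 q10912, e3 q10311 L178750 q10311, e3 q10312 (flp_b L178758) q9649, e3 q10313 (flp_b L184221) q10915, e3 q10314 (flp_b L178769) q9652, e3 q10315 (flp_b L183052) q10788, e3 q10316 L178791 q9654, e3 q10317 (flp_b L178797) q9657, e3 q10318 L178824 q9799, e3 q10319 (flp_b L178826) q9660, e3 q10320 L178854 q9673, e3 q10321 L184238 q10918, e3 q10322 (flp_b L178869) q9663, e3 q10323 (flp_b L178884) q9664, e3 q10324 (flp_b L182652) q10750, e3 q10325 L178913 q9672, e3 q10326 (flp_b L183606) q10842, e3 q10327 L178933 q9674, e3 q10328 (flp_b L178944) q9671, e3 q10329 L178957 q10329, e3 q10330 (flp_b L183283) q10810, e3 q10331 (flp_b L178982) q9687, e3 q10332 (flp_b L183610) q10843, e3 q10333 (flp_b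 L183634) q10845, e3 q10334 L179021 q9691, e3 q10335 (flp_b L184337) q10925, e3 q10336 L179047 q9738, e3 q10337 L179059 q9760, e3 q10338 L179065 q9696, e3 q10339 (flp_b L183125) q10794, e3 q10340 (flp_b L183307) q10812, e3 q10341 (flp_b L184389) q10930, e3 q10342 L179115 q9793, e3 q10343 (flp_b L182255) q10716, e3 q10344 L179133 q9801, e3 q10345 (flp_b L181985) q10673, e3 q10346 L179156 q9707, e3 q10347 (flp_b L181889) q10661, e3 q10348 (flp_b L184457) q10936, e3 q10349 L179185 q9832, e3 q10350 L179198 q9833, e3 q10351 L179209 q9716, e3 q10352 L179218 q9717, e3 q10353 L179225 q9718, e3 q10354 L179233 q9845, e3 q10355 (flp_b L181911) q10664, e3 q10356 (flp_b L184514) q10941, e3 q10357 (flp_b L184525) q10942, e3 q10358 (flp_b L184534) q10944, e3 q10359 L179277 q10359, e3 q10360 L184605 q10953, e3 q10361 (flp_b L182687) q10753, e3 q10362 L179306 q9723, e3 q10363 (flp_b L184638) q10956, e3 q10364 L179328 q9857, e3 q10365 L179336 q9732, e3 q10366 L179344 q9734, e3 q10367 (flp_b L183628) q10844,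 trivial⟩ (by decide +kernel)

theorem ce_b_162 : ∀ r, r < 64 → sm gb (Qf (10368 + r)) = Qf (tab Gen.b (10368 + r)) :=
  edges_tab (sm gb) Qf (tab Gen.b) 10368 [(10368, 9735), (10369, 10370), (10370, 10369), (10371, 10772), (10372, 10804), (10373, 10960), (10374, 10778), (10375, 10961), (10376, 10963), (10377, 10451), (10378, 10732), (10379, 10928), (10380, 10790), (10381, 9745), (10382, 9747), (10383, 10924), (10384, 9748), (10385, 10734), (10386, 10802), (10387, 10976), (10388, 10735), (10389, 10978), (10390, 10980), (10391, 9889), (10392, 9890), (10393, 9892), (10394, 10757), (10395, 9893), (10396, 9762), (10397, 9764), (10398, 9765), (10399, 9766), (10400, 9767), (10401, 9769), (10402, 10080), (10403, 9771), (10404, 10929), (10405, 9772), (10406, 10993), (10407, 10743), (10408, 10994), (10409, 10995), (10410, 10996), (10411, 10078), (10412, 10998), (10413, 10746), (10414, 10079), (10415, 11000), (10416, 10081), (10417, 11002), (10418, 11005), (10419, 10419), (10420, 10420), (10421, 10421),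 (10422, 10422), (10423, 10076), (10424, 10077), (10425, 10425), (10426, 10066), (10427, 9826), (10428, 10789), (10429, 9937), (10430, 10041), (10431, 10920)]
    ⟨e3 q10368 L179360 q9735, e3 q10369 (flp_b L179380) q10370, e3 q10370 L179380 q10369, e3 q10371 (flp_b L182888) q10772, e3 q10372 (flp_b L183236) q10804, e3 q10373 (flp_b L184678) q10960, e3 q10374 (flp_b L182944) q10778, e3 q10375 (flp_b L184688) q10961, e3 q10376 (flp_b L184706) q10963, e3 q10377 (flp_b L180116) q10451, e3 q10378 (flp_b L182439) q10732, e3 q10379 (flp_b L184375) q10928, e3 q10380 (flp_b L183082) q10790, e3 q10381 L179478 q9745, e3 q10382 L179487 q9747, e3 q10383 (flp_b L184331) q10924, e3 q10384 L179505 q9748, e3 q10385 (flp_b L182465) q10734, e3 q10386 (flp_b L183221) q10802, e3 q10387 (flp_b L184828) q10976, e3 q10388 (flp_b L182480) q10735, e3 q10389 (flp_b L184850) q10978, e3 q10390 (flp_b L184870) q10980, e3 q10391 L179567 q9889, e3 q10392 L179580 q9890, e3 q10393 L179591 q9892, e3 q10394 (flp_b L182738)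 q10757, e3 q10395 L179609 q9893, e3 q10396 L179619 q9762, e3 q10397 L179632 q9764, e3 q10398 L179645 q9765, e3 q10399 L179652 q9766, e3 q10400 L179659 q9767, e3 q10401 L179665 q9769, e3 q10402 L179673 q10080, e3 q10403 L179679 q9771, e3 q10404 (flp_b L184381) q10929, e3 q10405 L179689 q9772, e3 q10406 (flp_b L184995) q10993, e3 q10407 (flp_b L182575) q10743, e3 q10408 (flp_b L185008) q10994, e3 q10409 (flp_b L185021) q10995, e3 q10410 (flp_b L185029) q10996, e3 q10411 (flp_b L179747) q10078, e3 q10412 (flp_b L185042) q10998, e3 q10413 (flp_b L182605) q10746, e3 q10414 (flp_b L179771) q10079, e3 q10415 (flp_b L185058) q11000, e3 q10416 L179781 q10081, e3 q10417 (flp_b L185070) q11002, e3 q10418 (flp_b L185084) q11005, e3 q10419 L179805 q10419, e3 q10420 L179816 q10420, e3 q10421 L179831 q10421, e3 q10422 L179846 q10422, e3 q10423 (flp_b L179867) q10076, e3 q10424 (flp_b L179879) q10077, e3 q10425 L179885 q10425, e3 q10426 L179898 q10066, e3 q10427 L179917 q9826, e3 q10428 (flp_b L183067)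 q10789, e3 q10429 L179937 q9937, e3 q10430 L179943 q10041, e3 q10431 (flp_b L184272) q10920, trivial⟩ (by decide +kernel)

theorem ce_b_163 : ∀ r, r < 64 → sm gb (Qf (10432 + r)) = Qf (tab Gen.b (10432 + r)) :=
  edges_tab (sm gb) Qf (tab Gen.b) 10432 [(10432, 10083), (10433, 10824), (10434, 10051), (10435, 10934), (10436, 9804), (10437, 10546), (10438, 11027), (10439, 10587), (10440, 9807), (10441, 11031), (10442, 10846), (10443, 9817), (10444, 9818), (10445, 9819), (10446, 9820), (10447, 10955), (10448, 9821), (10449, 9822), (10450, 10866), (10451, 10377), (10452, 11034), (10453, 11035), (10454, 11037), (10455, 11039), (10456, 11041), (10457, 11042), (10458, 10755), (10459, 10065), (10460, 10069), (10461, 10070), (10462, 11053), (10463, 10473), (10464, 10939), (10465, 10940), (10466, 9842), (10467, 9843), (10468, 9844), (10469, 9846), (10470, 9847), (10471, 9848), (10472, 10487), (10473, 10463), (10474, 11057), (10475, 11058), (10476, 11059), (10477, 10945), (10478, 11060), (10479, 11073),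 (10480, 11062), (10481, 11063), (10482, 9953), (10483, 11078), (10484, 9955), (10485, 9851), (10486, 10082), (10487, 10472), (10488, 10852), (10489, 10856), (10490, 10959), (10491, 9866), (10492, 9868), (10493, 9869), (10494, 9870), (10495, 9871)]
    ⟨e3 q10432 L179969 q10083, e3 q10433 L183450 q10824, e3 q10434 L179977 q10051, e3 q10435 (flp_b L184433) q10934, e3 q10436 L179992 q9804, e3 q10437 L180921 q10546, e3 q10438 (flp_b L185279) q11027, e3 q10439 (flp_b L181278) q10587, e3 q10440 L180032 q9807, e3 q10441 (flp_b L185321) q11031, e3 q10442 (flp_b L183644) q10846, e3 q10443 L180052 q9817, e3 q10444 L180063 q9818, e3 q10445 L180076 q9819, e3 q10446 L180082 q9820, e3 q10447 (flp_b L184630) q10955, e3 q10448 L180092 q9821, e3 q10449 L180098 q9822, e3 q10450 (flp_b L183853) q10866, e3 q10451 L180116 q10377, e3 q10452 (flp_b L185345) q11034, e3 q10453 (flp_b L185357) q11035, e3 q10454 (flp_b L185374) q11037, e3 q10455 (flp_b L185388) q11039, e3 q10456 (flp_b L185398) q11041, e3 q10457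 (flp_b L185404) q11042, e3 q10458 (flp_b L182716) q10755, e3 q10459 L180173 q10065, e3 q10460 L180185 q10069, e3 q10461 L180191 q10070, e3 q10462 L185490 q11053, e3 q10463 (flp_b L180327) q10473, e3 q10464 (flp_b L184487) q10939, e3 q10465 (flp_b L184502) q10940, e3 q10466 L180246 q9842, e3 q10467 L180259 q9843, e3 q10468 L180272 q9844, e3 q10469 L180281 q9846, e3 q10470 L180293 q9847, e3 q10471 L180301 q9848, e3 q10472 (flp_b L180423) q10487, e3 q10473 L180327 q10463, e3 q10474 (flp_b L185533) q11057, e3 q10475 (flp_b L185546) q11058, e3 q10476 (flp_b L185559) q11059, e3 q10477 (flp_b L184542) q10945, e3 q10478 (flp_b L185567) q11060, e3 q10479 L185671 q11073, e3 q10480 (flp_b L185583) q11062, e3 q10481 (flp_b L185593) q11063, e3 q10482 L180387 q9953, e3 q10483 L185695 q11078, e3 q10484 L180403 q9955, e3 q10485 (flp_b L180407) q9851, e3 q10486 L180415 q10082, e3 q10487 L180423 q10472, e3 q10488 (flp_b L183714) q10852, e3 q10489 (flp_b L183750) q10856, e3 q10490 (flp_b L184670) q10959,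 e3 q10491 L180457 q9866, e3 q10492 L180470 q9868, e3 q10493 L180483 q9869, e3 q10494 L180490 q9870, e3 q10495 L180499 q9871, trivial⟩ (by decide +kernel)

theorem ce_b_164 : ∀ r, r < 64 → sm gb (Qf (10496 + r)) = Qf (tab Gen.b (10496 + r)) :=
  edges_tab (sm gb) Qf (tab Gen.b) 10496 [(10496, 9873), (10497, 10977), (10498, 9874), (10499, 9875), (10500, 11087), (10501, 10865), (10502, 11088), (10503, 11089), (10504, 11090), (10505, 11092), (10506, 10868), (10507, 11094), (10508, 11096), (10509, 11097), (10510, 10084), (10511, 10085), (10512, 10086), (10513, 10087), (10514, 10088), (10515, 10090), (10516, 10091), (10517, 10093), (10518, 10096), (10519, 10097), (10520, 10236), (10521, 10234), (10522, 10828), (10523, 10987), (10524, 10988), (10525, 10834), (10526, 11124), (10527, 10990), (10528, 10992), (10529, 9905), (10530, 9906), (10531, 9907), (10532, 9908), (10533, 9909), (10534, 11135), (10535, 9911), (10536, 9912), (10537, 10759), (10538, 9914), (10539, 9902), (10540, 11141), (10541,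 9917), (10542, 9918), (10543, 11128), (10544, 11129), (10545, 11130), (10546, 10437), (10547, 11132), (10548, 10805), (10549, 11134), (10550, 9910), (10551, 11152), (10552, 11137), (10553, 11138), (10554, 10760), (10555, 11140), (10556, 9916), (10557, 11159), (10558, 11143), (10559, 9984)]
    ⟨e3 q10496 L180507 q9873, e3 q10497 (flp_b L184842) q10977, e3 q10498 L180523 q9874, e3 q10499 L180533 q9875, e3 q10500 (flp_b L185778) q11087, e3 q10501 (flp_b L183842) q10865, e3 q10502 (flp_b L185793) q11088, e3 q10503 (flp_b L185806) q11089, e3 q10504 (flp_b L185814) q11090, e3 q10505 (flp_b L185831) q11092, e3 q10506 (flp_b L183874) q10868, e3 q10507 (flp_b L185847) q11094, e3 q10508 (flp_b L185861) q11096, e3 q10509 (flp_b L185869) q11097, e3 q10510 L180607 q10084, e3 q10511 L180619 q10085, e3 q10512 L180633 q10086, e3 q10513 L180647 q10087, e3 q10514 L180655 q10088, e3 q10515 L180663 q10090, e3 q10516 L180671 q10091, e3 q10517 L180679 q10093, e3 q10518 L180683 q10096, e3 q10519 L180689 q10097,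 e3 q10520 L180697 q10236, e3 q10521 L180711 q10234, e3 q10522 (flp_b L183481) q10828, e3 q10523 (flp_b L184932) q10987, e3 q10524 (flp_b L184947) q10988, e3 q10525 (flp_b L183526) q10834, e3 q10526 L186079 q11124, e3 q10527 (flp_b L184967) q10990, e3 q10528 (flp_b L184987) q10992, e3 q10529 L180781 q9905, e3 q10530 L180791 q9906, e3 q10531 L180803 q9907, e3 q10532 L180817 q9908, e3 q10533 L180825 q9909, e3 q10534 L186169 q11135, e3 q10535 L180841 q9911, e3 q10536 L180851 q9912, e3 q10537 (flp_b L182758) q10759, e3 q10538 L180865 q9914, e3 q10539 (flp_b L180867) q9902, e3 q10540 (flp_b L186215) q11141, e3 q10541 L180883 q9917, e3 q10542 L180889 q9918, e3 q10543 (flp_b L186109) q11128, e3 q10544 (flp_b L186115) q11129, e3 q10545 (flp_b L186127) q11130, e3 q10546 (flp_b L180921) q10437, e3 q10547 (flp_b L186147) q11132, e3 q10548 (flp_b L183248) q10805, e3 q10549 (flp_b L186161) q11134, e3 q10550 (flp_b L180937) q9910, e3 q10551 (flp_b L186293) q11152, e3 q10552 (flp_b L186191) q11137, e3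 q10553 (flp_b L186199) q11138, e3 q10554 (flp_b L182766) q10760, e3 q10555 (flp_b L186209) q11140, e3 q10556 L180969 q9916, e3 q10557 (flp_b L186325) q11159, e3 q10558 (flp_b L186227) q11143, e3 q10559 L180981 q9984, trivial⟩ (by decide +kernel)

theorem ce_b_165 : ∀ r, r < 64 → sm gb (Qf (10560 + r)) = Qf (tab Gen.b (10560 + r)) :=
  edges_tab (sm gb) Qf (tab Gen.b) 10560 [(10560, 9985), (10561, 9986), (10562, 9988), (10563, 9951), (10564, 10179), (10565, 10665), (10566, 11162), (10567, 10737), (10568, 9938), (10569, 10864), (10570, 9940), (10571, 9946), (10572, 11164), (10573, 9952), (10574, 9954), (10575, 10575), (10576, 10576), (10577, 10577), (10578, 10578), (10579, 10579), (10580, 10580), (10581, 11171), (10582, 10582), (10583, 10909), (10584, 9965), (10585, 9978), (10586, 9979), (10587, 10439), (10588, 10809), (10589, 9980), (10590, 9971), (10591, 11174), (10592, 9976), (10593, 10608), (10594, 9982), (10595, 11176), (10596, 10596), (10597, 9993), (10598, 9996), (10599, 10599), (10600,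 10600), (10601, 10601), (10602, 10602), (10603, 11183), (10604, 11184), (10605, 10605), (10606, 10003), (10607, 10004), (10608, 10593), (10609, 11178), (10610, 10610), (10611, 10611), (10612, 10017), (10613, 10018), (10614, 10615), (10615, 10614), (10616, 11188), (10617, 11190), (10618, 10618), (10619, 11198), (10620, 10741), (10621, 10025), (10622, 10727), (10623, 10853)]
    ⟨e3 q10560 L180992 q9985, e3 q10561 L181008 q9986, e3 q10562 L181024 q9988, e3 q10563 L181038 q9951, e3 q10564 L181060 q10179, e3 q10565 (flp_b L181923) q10665, e3 q10566 L186338 q11162, e3 q10567 (flp_b L182511) q10737, e3 q10568 L181086 q9938, e3 q10569 (flp_b L183826) q10864, e3 q10570 (flp_b L181105) q9940, e3 q10571 (flp_b L181115) q9946, e3 q10572 L186364 q11164, e3 q10573 (flp_b L181132) q9952, e3 q10574 (flp_b L181141) q9954, e3 q10575 L181155 q10575, e3 q10576 L181160 q10576, e3 q10577 L181169 q10577, e3 q10578 L181180 q10578, e3 q10579 L181193 q10579, e3 q10580 L181204 q10580, e3 q10581 L186440 q11171, e3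 q10582 L181222 q10582, e3 q10583 (flp_b L184175) q10909, e3 q10584 (flp_b L181237) q9965, e3 q10585 L181247 q9978, e3 q10586 L181258 q9979, e3 q10587 L181278 q10439, e3 q10588 (flp_b L183279) q10809, e3 q10589 L181289 q9980, e3 q10590 (flp_b L181298) q9971, e3 q10591 (flp_b L186471) q11174, e3 q10592 L181318 q9976, e3 q10593 (flp_b L181477) q10608, e3 q10594 L181334 q9982, e3 q10595 L186491 q11176, e3 q10596 L181355 q10596, e3 q10597 (flp_b L181360) q9993, e3 q10598 (flp_b L181370) q9996, e3 q10599 L181385 q10599, e3 q10600 L181398 q10600, e3 q10601 L181411 q10601, e3 q10602 L181422 q10602, e3 q10603 L186564 q11183, e3 q10604 L186571 q11184, e3 q10605 L181451 q10605, e3 q10606 (flp_b L181458) q10003, e3 q10607 (flp_b L181466) q10004, e3 q10608 L181477 q10593, e3 q10609 (flp_b L186518) q11178, e3 q10610 L181495 q10610, e3 q10611 L181511 q10611, e3 q10612 L181514 q10017, e3 q10613 L181523 q10018, e3 q10614 (flp_b L181542) q10615, e3 q10615 L181542 q10614, e3 q10616 (flp_b L186611) q11188,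 e3 q10617 (flp_b L186624) q11190, e3 q10618 L181570 q10618, e3 q10619 L186693 q11198, e3 q10620 (flp_b L182561) q10741, e3 q10621 L181591 q10025, e3 q10622 (flp_b L182386) q10727, e3 q10623 (flp_b L183726) q10853, trivial⟩ (by decide +kernel)

theorem ce_b_166 : ∀ r, r < 64 → sm gb (Qf (10624 + r)) = Qf (tab Gen.b (10624 + r)) :=
  edges_tab (sm gb) Qf (tab Gen.b) 10624 [(10624, 11204), (10625, 10858), (10626, 11200), (10627, 10026), (10628, 10035), (10629, 10036), (10630, 11211), (10631, 10039), (10632, 10770), (10633, 10040), (10634, 10744), (10635, 10726), (10636, 10814), (10637, 11208), (10638, 11223), (10639, 11210), (10640, 11023), (10641, 10816), (10642, 10038), (10643, 11229), (10644, 11213), (10645, 11216), (10646, 10101), (10647, 10647), (10648, 10648), (10649, 11025), (10650, 11233), (10651, 10651), (10652, 10048), (10653, 11236), (10654, 10114), (10655, 10053), (10656, 10791), (10657, 10058), (10658, 10919), (10659, 10792), (10660, 10793), (10661, 10347), (10662, 11021), (10663,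 11022), (10664, 10355), (10665, 10565), (10666, 11250), (10667, 11051), (10668, 11052), (10669, 10119), (10670, 11255), (10671, 10121), (10672, 10073), (10673, 10345), (10674, 10797), (10675, 11009), (10676, 11011), (10677, 10997), (10678, 11013), (10679, 10999), (10680, 11016), (10681, 11001), (10682, 11018), (10683, 11081), (10684, 11107), (10685, 11108), (10686, 11109), (10687, 11276)]
    ⟨e3 q10624 L186732 q11204, e3 q10625 (flp_b L183776) q10858, e3 q10626 (flp_b L186707) q11200, e3 q10627 (flp_b L181630) q10026, e3 q10628 L181639 q10035, e3 q10629 L181648 q10036, e3 q10630 L186779 q11211, e3 q10631 L181658 q10039, e3 q10632 (flp_b L182874) q10770, e3 q10633 L181670 q10040, e3 q10634 (flp_b L182586) q10744, e3 q10635 (flp_b L182371) q10726, e3 q10636 (flp_b L183333) q10814, e3 q10637 (flp_b L186762) q11208, e3 q10638 L186861 q11223, e3 q10639 (flp_b L186773) q11210, e3 q10640 (flp_b L185250) q11023, e3 q10641 (flp_b L183353) q10816, e3 q10642 (flp_b L181736) q10038, e3 q10643 (flp_b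 L186905) q11229, e3 q10644 (flp_b L186791) q11213, e3 q10645 (flp_b L186807) q11216, e3 q10646 L181766 q10101, e3 q10647 L181772 q10647, e3 q10648 L181783 q10648, e3 q10649 (flp_b L185264) q11025, e3 q10650 L186930 q11233, e3 q10651 L181812 q10651, e3 q10652 (flp_b L181822) q10048, e3 q10653 (flp_b L186960) q11236, e3 q10654 L181847 q10114, e3 q10655 L181851 q10053, e3 q10656 (flp_b L183088) q10791, e3 q10657 (flp_b L181868) q10058, e3 q10658 (flp_b L184266) q10919, e3 q10659 (flp_b L183103) q10792, e3 q10660 (flp_b L183115) q10793, e3 q10661 L181889 q10347, e3 q10662 (flp_b L185222) q11021, e3 q10663 (flp_b L185238) q11022, e3 q10664 L181911 q10355, e3 q10665 L181923 q10565, e3 q10666 L187070 q11250, e3 q10667 (flp_b L185478) q11051, e3 q10668 (flp_b L185486) q11052, e3 q10669 L181949 q10119, e3 q10670 L187103 q11255, e3 q10671 L181967 q10121, e3 q10672 (flp_b L181974) q10073, e3 q10673 L181985 q10345, e3 q10674 (flp_b L183163) q10797, e3 q10675 L185120 q11009, e3 q10676 L185140 q11011,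 e3 q10677 (flp_b L185037) q10997, e3 q10678 (flp_b L185152) q11013, e3 q10679 (flp_b L185052) q10999, e3 q10680 (flp_b L185176) q11016, e3 q10681 (flp_b L185062) q11001, e3 q10682 (flp_b L185192) q11018, e3 q10683 (flp_b L185723) q11081, e3 q10684 (flp_b L185933) q11107, e3 q10685 (flp_b L185941) q11108, e3 q10686 (flp_b L185953) q11109, e3 q10687 L187250 q11276, trivial⟩ (by decide +kernel)

theorem ce_b_167 : ∀ r, r < 64 → sm gb (Qf (10688 + r)) = Qf (tab Gen.b (10688 + r)) :=
  edges_tab (sm gb) Qf (tab Gen.b) 10688 [(10688, 11110), (10689, 11279), (10690, 11111), (10691, 10089), (10692, 11283), (10693, 11112), (10694, 10779), (10695, 11113), (10696, 10092), (10697, 11289), (10698, 11114), (10699, 11228), (10700, 10095), (10701, 11294), (10702, 11115), (10703, 10764), (10704, 10773), (10705, 10709), (10706, 11297), (10707, 10124), (10708, 10105), (10709, 10705), (10710, 10107), (10711, 11301), (10712, 11235), (10713, 10110), (10714, 11304), (10715, 11238), (10716, 10343), (10717, 10120),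 (10718, 10718), (10719, 10123), (10720, 10720), (10721, 10127), (10722, 10722), (10723, 10208), (10724, 10136), (10725, 10137), (10726, 10635), (10727, 10622), (10728, 11308), (10729, 11310), (10730, 10730), (10731, 11318), (10732, 10378), (10733, 10144), (10734, 10385), (10735, 10388), (10736, 11321), (10737, 10567), (10738, 10227), (10739, 10152), (10740, 10154), (10741, 10620), (10742, 10155), (10743, 10407), (10744, 10634), (10745, 11328), (10746, 10413), (10747, 11338), (10748, 11329), (10749, 11331), (10750, 10324), (10751, 10157)]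
    ⟨e3 q10688 (flp_b L185963) q11110, e3 q10689 L187270 q11279, e3 q10690 (flp_b L185969) q11111, e3 q10691 (flp_b L182090) q10089, e3 q10692 (flp_b L187296) q11283, e3 q10693 (flp_b L185977) q11112, e3 q10694 (flp_b L182962) q10779, e3 q10695 (flp_b L185983) q11113, e3 q10696 (flp_b L182118) q10092, e3 q10697 (flp_b L187328) q11289, e3 q10698 (flp_b L185989) q11114, e3 q10699 (flp_b L186901) q11228, e3 q10700 L182138 q10095, e3 q10701 (flp_b L187350) q11294, e3 q10702 (flp_b L185995) q11115, e3 q10703 (flp_b L182814) q10764, e3 q10704 (flp_b L182900) q10773, e3 q10705 (flp_b L182200) q10709, e3 q10706 L187372 q11297, e3 q10707 L182177 q10124, e3 q10708 (flp_b L182186) q10105, e3 q10709 L182200 q10705, e3 q10710 (flp_b L182210) q10107, e3 q10711 (flp_b L187425) q11301, e3 q10712 (flp_b L186956) q11235, e3 q10713 L182234 q10110, e3 q10714 (flp_b L187452) q11304, e3 q10715 (flp_b L186985) q11238, e3 q10716 L182255 q10343, e3 q10717 (flp_b L182267) q10120, e3 q10718 L182285 q10718, e3 q10719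 (flp_b L182286) q10123, e3 q10720 L182310 q10720, e3 q10721 L182313 q10127, e3 q10722 L182326 q10722, e3 q10723 L182333 q10208, e3 q10724 L182348 q10136, e3 q10725 L182361 q10137, e3 q10726 L182371 q10635, e3 q10727 L182386 q10622, e3 q10728 (flp_b L187498) q11308, e3 q10729 (flp_b L187519) q11310, e3 q10730 L182416 q10730, e3 q10731 L187604 q11318, e3 q10732 L182439 q10378, e3 q10733 L182453 q10144, e3 q10734 L182465 q10385, e3 q10735 L182480 q10388, e3 q10736 (flp_b L187646) q11321, e3 q10737 L182511 q10567, e3 q10738 L182517 q10227, e3 q10739 L182529 q10152, e3 q10740 L182545 q10154, e3 q10741 L182561 q10620, e3 q10742 L182567 q10155, e3 q10743 L182575 q10407, e3 q10744 L182586 q10634, e3 q10745 (flp_b L187732) q11328, e3 q10746 L182605 q10413, e3 q10747 L187837 q11338, e3 q10748 (flp_b L187748) q11329, e3 q10749 (flp_b L187768) q11331, e3 q10750 L182652 q10324, e3 q10751 (flp_b L182654) q10157, trivial⟩ (by decide +kernel)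

theorem ce_b_168 : ∀ r, r < 64 → sm gb (Qf (10752 + r)) = Qf (tab Gen.b (10752 + r)) :=
  edges_tab (sm gb) Qf (tab Gen.b) 10752 [(10752, 10160), (10753, 10361), (10754, 11342), (10755, 10458), (10756, 10251), (10757, 10394), (10758, 10165), (10759, 10537), (10760, 10554), (10761, 11348), (10762, 10268), (10763, 10270), (10764, 10703), (10765, 10271), (10766, 10178), (10767, 10180), (10768, 10182), (10769, 10184), (10770, 10632), (10771, 10185), (10772, 10371), (10773, 10704), (10774, 11356), (10775, 11144), (10776, 11368), (10777, 11357), (10778, 10374), (10779, 10694), (10780, 11358), (10781, 10183), (10782, 11375), (10783, 11359), (10784, 11362), (10785, 10298), (10786, 11172), (10787, 10191), (10788, 10315), (10789, 10428), (10790, 10380), (10791, 10656), (10792, 10659), (10793, 10660), (10794, 10339), (10795, 10206), (10796, 11382), (10797, 10674), (10798, 11307), (10799, 10213), (10800, 10216), (10801, 10217), (10802, 10386), (10803, 11386), (10804, 10372), (10805, 10548), (10806,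 11395), (10807, 11387), (10808, 11388), (10809, 10588), (10810, 10330), (10811, 10220), (10812, 10340), (10813, 10225), (10814, 10636), (10815, 11405)]
    ⟨e3 q10752 L182673 q10160, e3 q10753 L182687 q10361, e3 q10754 (flp_b L187883) q11342, e3 q10755 L182716 q10458, e3 q10756 L182722 q10251, e3 q10757 L182738 q10394, e3 q10758 L182744 q10165, e3 q10759 L182758 q10537, e3 q10760 L182766 q10554, e3 q10761 (flp_b L187953) q11348, e3 q10762 L182782 q10268, e3 q10763 L182798 q10270, e3 q10764 L182814 q10703, e3 q10765 L182822 q10271, e3 q10766 L182828 q10178, e3 q10767 L182840 q10180, e3 q10768 L182852 q10182, e3 q10769 L182864 q10184, e3 q10770 L182874 q10632, e3 q10771 L182880 q10185, e3 q10772 L182888 q10371, e3 q10773 L182900 q10704, e3 q10774 (flp_b L188039) q11356, e3 q10775 L186243 q11144, e3 q10776 L188159 q11368, e3 q10777 (flp_b L188053) q11357, e3 q10778 L182944 q10374, e3 q10779 L182962 q10694, e3 q10780 (flp_b L188065) q11358, e3 q10781 (flp_b L182972) q10183, e3 q10782 (flp_b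 L188233) q11375, e3 q10783 (flp_b L188077) q11359, e3 q10784 (flp_b L188105) q11362, e3 q10785 L183018 q10298, e3 q10786 (flp_b L186458) q11172, e3 q10787 (flp_b L183031) q10191, e3 q10788 L183052 q10315, e3 q10789 L183067 q10428, e3 q10790 L183082 q10380, e3 q10791 L183088 q10656, e3 q10792 L183103 q10659, e3 q10793 L183115 q10660, e3 q10794 L183125 q10339, e3 q10795 L183139 q10206, e3 q10796 (flp_b L188311) q11382, e3 q10797 L183163 q10674, e3 q10798 (flp_b L187484) q11307, e3 q10799 L183189 q10213, e3 q10800 L183203 q10216, e3 q10801 L183213 q10217, e3 q10802 L183221 q10386, e3 q10803 (flp_b L188355) q11386, e3 q10804 L183236 q10372, e3 q10805 L183248 q10548, e3 q10806 L188442 q11395, e3 q10807 (flp_b L188369) q11387, e3 q10808 (flp_b L188379) q11388, e3 q10809 L183279 q10588, e3 q10810 L183283 q10330, e3 q10811 (flp_b L183294) q10220, e3 q10812 L183307 q10340, e3 q10813 L183321 q10225, e3 q10814 L183333 q10636, e3 q10815 L188537 q11405, trivial⟩ (by decide +kernel)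

theorem ce_b_169 : ∀ r, r < 64 → sm gb (Qf (10816 + r)) = Qf (tab Gen.b (10816 + r)) :=
  edges_tab (sm gb) Qf (tab Gen.b) 10816 [(10816, 10641), (10817, 11402), (10818, 10226), (10819, 11327), (10820, 10237), (10821, 10238), (10822, 10239), (10823, 10241), (10824, 10433), (10825, 10243), (10826, 10244), (10827, 11117), (10828, 10522), (10829, 11116), (10830, 11410), (10831, 11411), (10832, 11425), (10833, 11413), (10834, 10525), (10835, 11429), (10836, 11414), (10837, 10242), (10838, 11433), (10839, 11416), (10840, 11417), (10841, 10245), (10842, 10326), (10843, 10332), (10844, 10367), (10845, 10333), (10846, 10442), (10847, 11346), (10848, 10257), (10849, 11444), (10850, 10261), (10851, 10262), (10852, 10488), (10853, 10623), (10854, 11451), (10855, 11443), (10856, 10489), (10857, 11455), (10858, 10625), (10859, 10260), (10860, 11459), (10861, 11446), (10862, 11447), (10863, 10263), (10864, 10569), (10865, 10501), (10866, 10450), (10867, 11352), (10868, 10506), (10869, 11336), (10870,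 11353), (10871, 11355), (10872, 10283), (10873, 10284), (10874, 10285), (10875, 10286), (10876, 10287), (10877, 11477), (10878, 10289), (10879, 10290)]
    ⟨e3 q10816 L183353 q10641, e3 q10817 (flp_b L188510) q11402, e3 q10818 (flp_b L183367) q10226, e3 q10819 (flp_b L187720) q11327, e3 q10820 L183396 q10237, e3 q10821 L183408 q10238, e3 q10822 L183422 q10239, e3 q10823 L183432 q10241, e3 q10824 (flp_b L183450) q10433, e3 q10825 L183456 q10243, e3 q10826 L183466 q10244, e3 q10827 (flp_b L186019) q11117, e3 q10828 L183481 q10522, e3 q10829 (flp_b L186005) q11116, e3 q10830 (flp_b L188593) q11410, e3 q10831 (flp_b L188605) q11411, e3 q10832 L188731 q11425, e3 q10833 (flp_b L188629) q11413, e3 q10834 L183526 q10525, e3 q10835 L188760 q11429, e3 q10836 (flp_b L188639) q11414, e3 q10837 (flp_b L183548) q10242, e3 q10838 (flp_b L188804) q11433, e3 q10839 (flp_b L188665) q11416, e3 q10840 (flp_b L188673) q11417, e3 q10841 (flp_b L183578) q10245, e3 q10842 L183606 q10326, e3 q10843 L183610 q10332,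 e3 q10844 L183628 q10367, e3 q10845 L183634 q10333, e3 q10846 L183644 q10442, e3 q10847 (flp_b L187931) q11346, e3 q10848 L183668 q10257, e3 q10849 L188918 q11444, e3 q10850 L183692 q10261, e3 q10851 L183702 q10262, e3 q10852 L183714 q10488, e3 q10853 L183726 q10623, e3 q10854 L189002 q11451, e3 q10855 (flp_b L188910) q11443, e3 q10856 L183750 q10489, e3 q10857 L189036 q11455, e3 q10858 L183776 q10625, e3 q10859 (flp_b L183782) q10260, e3 q10860 (flp_b L189088) q11459, e3 q10861 (flp_b L188948) q11446, e3 q10862 (flp_b L188958) q11447, e3 q10863 (flp_b L183806) q10263, e3 q10864 L183826 q10569, e3 q10865 L183842 q10501, e3 q10866 L183853 q10450, e3 q10867 (flp_b L187991) q11352, e3 q10868 L183874 q10506, e3 q10869 (flp_b L187821) q11336, e3 q10870 (flp_b L188007) q11353, e3 q10871 (flp_b L188031) q11355, e3 q10872 L183910 q10283, e3 q10873 L183923 q10284, e3 q10874 L183934 q10285, e3 q10875 L183945 q10286, e3 q10876 L183953 q10287, e3 q10877 L189239 q11477, e3 q10878 L183964 q10289, e3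 q10879 L183972 q10290, trivial⟩ (by decide +kernel)

theorem ce_b_170 : ∀ r, r < 64 → sm gb (Qf (10880 + r)) = Qf (tab Gen.b (10880 + r)) :=
  edges_tab (sm gb) Qf (tab Gen.b) 10880 [(10880, 11432), (10881, 10292), (10882, 10280), (10883, 11484), (10884, 10295), (10885, 10296), (10886, 11470), (10887, 11471), (10888, 11472), (10889, 11491), (10890, 11474), (10891, 11494), (10892, 11476), (10893, 10288), (10894, 11498), (10895, 11479), (10896, 11481), (10897, 10291), (10898, 11503), (10899, 11483), (10900, 11374), (10901, 10294), (10902, 11507), (10903, 11486), (10904, 11509), (10905, 10905), (10906, 10301), (10907, 10302), (10908, 11186), (10909, 10583), (10910, 11512), (10911, 10309), (10912, 10310), (10913, 11514), (10914, 11378), (10915, 10313), (10916, 11517), (10917, 11179), (10918, 10321), (10919, 10658), (10920, 10431), (10921, 10921), (10922, 11437), (10923, 11439), (10924, 10383), (10925, 10335), (10926, 11522), (10927, 11296), (10928, 10379), (10929, 10404), (10930, 10341), (10931,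 11381), (10932, 11401), (10933, 11527), (10934, 10435), (10935, 11258), (10936, 10348), (10937, 11243), (10938, 11533), (10939, 10464), (10940, 10465), (10941, 10356), (10942, 10357), (10943, 11436)]
    ⟨e3 q10880 (flp_b L188800) q11432, e3 q10881 L183988 q10292, e3 q10882 (flp_b L183992) q10280, e3 q10883 (flp_b L189298) q11484, e3 q10884 L184006 q10295, e3 q10885 L184012 q10296, e3 q10886 (flp_b L189185) q11470, e3 q10887 (flp_b L189197) q11471, e3 q10888 (flp_b L189209) q11472, e3 q10889 L189340 q11491, e3 q10890 (flp_b L189224) q11474, e3 q10891 L189364 q11494, e3 q10892 (flp_b L189235) q11476, e3 q10893 (flp_b L184054) q10288, e3 q10894 (flp_b L189390) q11498, e3 q10895 (flp_b L189254) q11479, e3 q10896 (flp_b L189276) q11481, e3 q10897 (flp_b L184076) q10291, e3 q10898 (flp_b L189418) q11503, e3 q10899 (flp_b L189290) q11483, e3 q10900 (flp_b L188229) q11374, e3 q10901 L184104 q10294, e3 q10902 (flp_b L189444) q11507, e3 q10903 (flp_b L189312) q11486, e3 q10904 L189454 q11509, e3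 q10905 L184132 q10905, e3 q10906 (flp_b L184137) q10301, e3 q10907 (flp_b L184144) q10302, e3 q10908 (flp_b L186600) q11186, e3 q10909 L184175 q10583, e3 q10910 L189486 q11512, e3 q10911 (flp_b L184184) q10309, e3 q10912 (flp_b L184195) q10310, e3 q10913 (flp_b L189508) q11514, e3 q10914 (flp_b L188265) q11378, e3 q10915 L184221 q10313, e3 q10916 (flp_b L189535) q11517, e3 q10917 (flp_b L186531) q11179, e3 q10918 (flp_b L184238) q10321, e3 q10919 L184266 q10658, e3 q10920 L184272 q10431, e3 q10921 L184294 q10921, e3 q10922 (flp_b L188841) q11437, e3 q10923 (flp_b L188863) q11439, e3 q10924 L184331 q10383, e3 q10925 L184337 q10335, e3 q10926 (flp_b L189599) q11522, e3 q10927 (flp_b L187360) q11296, e3 q10928 L184375 q10379, e3 q10929 L184381 q10404, e3 q10930 L184389 q10341, e3 q10931 (flp_b L188297) q11381, e3 q10932 (flp_b L188496) q11401, e3 q10933 (flp_b L189655) q11527, e3 q10934 L184433 q10435, e3 q10935 (flp_b L187136) q11258, e3 q10936 L184457 q10348, e3 q10937 (flp_b L187019) q11243,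 e3 q10938 (flp_b L189723) q11533, e3 q10939 L184487 q10464, e3 q10940 L184502 q10465, e3 q10941 L184514 q10356, e3 q10942 L184525 q10357, e3 q10943 (flp_b L188836) q11436, trivial⟩ (by decide +kernel)

theorem ce_b_171 : ∀ r, r < 64 → sm gb (Qf (10944 + r)) = Qf (tab Gen.b (10944 + r)) :=
  edges_tab (sm gb) Qf (tab Gen.b) 10944 [(10944, 10358), (10945, 10477), (10946, 11247), (10947, 11539), (10948, 11548), (10949, 11541), (10950, 11543), (10951, 11552), (10952, 10952), (10953, 10360), (10954, 11344), (10955, 10447), (10956, 10363), (10957, 11557), (10958, 11320), (10959, 10490), (10960, 10373), (10961, 10375), (10962, 11438), (10963, 10376), (10964, 10965), (10965, 10964), (10966, 11363), (10967, 11392), (10968, 11561), (10969, 11371), (10970, 11562), (10971, 11564), (10972, 11044), (10973, 11326), (10974, 11319), (10975, 11525), (10976, 10387), (10977, 10497), (10978, 10389), (10979, 11521), (10980, 10390), (10981, 11322), (10982, 11389), (10983, 11578), (10984, 11324), (10985, 11580),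 (10986, 11583), (10987, 10523), (10988, 10524), (10989, 11518), (10990, 10527), (10991, 11347), (10992, 10528), (10993, 10406), (10994, 10408), (10995, 10409), (10996, 10410), (10997, 10677), (10998, 10412), (10999, 10679), (11000, 10415), (11001, 10681), (11002, 10417), (11003, 11415), (11004, 11526), (11005, 10418), (11006, 11596), (11007, 11332)]
    ⟨e3 q10944 L184534 q10358, e3 q10945 L184542 q10477, e3 q10946 (flp_b L187046) q11247, e3 q10947 (flp_b L189788) q11539, e3 q10948 L189851 q11548, e3 q10949 (flp_b L189799) q11541, e3 q10950 (flp_b L189811) q11543, e3 q10951 L189879 q11552, e3 q10952 L184600 q10952, e3 q10953 (flp_b L184605) q10360, e3 q10954 (flp_b L187911) q11344, e3 q10955 L184630 q10447, e3 q10956 L184638 q10363, e3 q10957 (flp_b L189933) q11557, e3 q10958 (flp_b L187638) q11320, e3 q10959 L184670 q10490, e3 q10960 L184678 q10373, e3 q10961 L184688 q10375, e3 q10962 (flp_b L188851) q11438, e3 q10963 L184706 q10376, e3 q10964 (flp_b L184728) q10965, e3 q10965 L184728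 q10964, e3 q10966 (flp_b L188113) q11363, e3 q10967 (flp_b L188412) q11392, e3 q10968 (flp_b L189971) q11561, e3 q10969 (flp_b L188189) q11371, e3 q10970 (flp_b L189981) q11562, e3 q10971 (flp_b L189997) q11564, e3 q10972 (flp_b L185422) q11044, e3 q10973 (flp_b L187712) q11326, e3 q10974 (flp_b L187618) q11319, e3 q10975 (flp_b L189637) q11525, e3 q10976 L184828 q10387, e3 q10977 L184842 q10497, e3 q10978 L184850 q10389, e3 q10979 (flp_b L189585) q11521, e3 q10980 L184870 q10390, e3 q10981 (flp_b L187658) q11322, e3 q10982 (flp_b L188389) q11389, e3 q10983 (flp_b L190131) q11578, e3 q10984 (flp_b L187686) q11324, e3 q10985 (flp_b L190153) q11580, e3 q10986 (flp_b L190179) q11583, e3 q10987 L184932 q10523, e3 q10988 L184947 q10524, e3 q10989 (flp_b L189543) q11518, e3 q10990 L184967 q10527, e3 q10991 (flp_b L187943) q11347, e3 q10992 L184987 q10528, e3 q10993 L184995 q10406, e3 q10994 L185008 q10408, e3 q10995 L185021 q10409, e3 q10996 L185029 q10410, e3 q10997 L185037 q10677, e3 q10998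 L185042 q10412, e3 q10999 L185052 q10679, e3 q11000 L185058 q10415, e3 q11001 L185062 q10681, e3 q11002 L185070 q10417, e3 q11003 (flp_b L188651) q11415, e3 q11004 (flp_b L189645) q11526, e3 q11005 L185084 q10418, e3 q11006 (flp_b L190306) q11596, e3 q11007 (flp_b L187778) q11332, trivial⟩ (by decide +kernel)

theorem ce_b_172 : ∀ r, r < 64 → sm gb (Qf (11008 + r)) = Qf (tab Gen.b (11008 + r)) :=
  edges_tab (sm gb) Qf (tab Gen.b) 11008 [(11008, 11597), (11009, 10675), (11010, 11599), (11011, 10676), (11012, 11601), (11013, 10678), (11014, 11603), (11015, 11337), (11016, 10680), (11017, 11605), (11018, 10682), (11019, 11607), (11020, 11020), (11021, 10662), (11022, 10663), (11023, 10640), (11024, 11412), (11025, 10649), (11026, 11530), (11027, 10438), (11028, 11131), (11029, 11148), (11030, 11629), (11031, 10441), (11032, 11633), (11033, 11440), (11034, 10452), (11035, 10453), (11036, 11532), (11037, 10454), (11038, 11343), (11039, 10455), (11040, 11556), (11041, 10456), (11042, 10457),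 (11043, 11463), (11044, 10972), (11045, 11635), (11046, 11637), (11047, 11639), (11048, 11641), (11049, 11643), (11050, 11650), (11051, 10667), (11052, 10668), (11053, 10462), (11054, 11065), (11055, 11536), (11056, 11538), (11057, 10474), (11058, 10475), (11059, 10476), (11060, 10478), (11061, 11663), (11062, 10480), (11063, 10481), (11064, 11082), (11065, 11054), (11066, 11658), (11067, 11659), (11068, 11673), (11069, 11661), (11070, 11544), (11071, 11678)]
    ⟨e3 q11008 (flp_b L190318) q11597, e3 q11009 (flp_b L185120) q10675, e3 q11010 (flp_b L190339) q11599, e3 q11011 (flp_b L185140) q10676, e3 q11012 (flp_b L190354) q11601, e3 q11013 L185152 q10678, e3 q11014 (flp_b L190368) q11603, e3 q11015 (flp_b L187829) q11337, e3 q11016 L185176 q10680, e3 q11017 (flp_b L190382) q11605, e3 q11018 L185192 q10682, e3 q11019 (flp_b L190396) q11607, e3 q11020 L185210 q11020, e3 q11021 L185222 q10662, e3 q11022 L185238 q10663, e3 q11023 L185250 q10640, e3 q11024 L188623 q11412, e3 q11025 L185264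 q10649, e3 q11026 (flp_b L189689) q11530, e3 q11027 L185279 q10438, e3 q11028 (flp_b L186141) q11131, e3 q11029 (flp_b L186267) q11148, e3 q11030 (flp_b L190586) q11629, e3 q11031 L185321 q10441, e3 q11032 (flp_b L190630) q11633, e3 q11033 (flp_b L188873) q11440, e3 q11034 L185345 q10452, e3 q11035 L185357 q10453, e3 q11036 (flp_b L189716) q11532, e3 q11037 L185374 q10454, e3 q11038 (flp_b L187903) q11343, e3 q11039 L185388 q10455, e3 q11040 (flp_b L189921) q11556, e3 q11041 L185398 q10456, e3 q11042 L185404 q10457, e3 q11043 (flp_b L189122) q11463, e3 q11044 L185422 q10972, e3 q11045 (flp_b L190647) q11635, e3 q11046 (flp_b L190672) q11637, e3 q11047 (flp_b L190690) q11639, e3 q11048 (flp_b L190702) q11641, e3 q11049 (flp_b L190714) q11643, e3 q11050 L190768 q11650, e3 q11051 L185478 q10667, e3 q11052 L185486 q10668, e3 q11053 (flp_b L185490) q10462, e3 q11054 (flp_b L185617) q11065, e3 q11055 (flp_b L189753) q11536, e3 q11056 (flp_b L189776) q11538, e3 q11057 L185533 q10474, e3 q11058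 L185546 q10475, e3 q11059 L185559 q10476, e3 q11060 L185567 q10478, e3 q11061 L190895 q11663, e3 q11062 L185583 q10480, e3 q11063 L185593 q10481, e3 q11064 (flp_b L185733) q11082, e3 q11065 L185617 q11054, e3 q11066 (flp_b L190846) q11658, e3 q11067 (flp_b L190860) q11659, e3 q11068 L190985 q11673, e3 q11069 (flp_b L190879) q11661, e3 q11070 (flp_b L189819) q11544, e3 q11071 L191023 q11678, trivial⟩ (by decide +kernel)

theorem ce_b_173 : ∀ r, r < 64 → sm gb (Qf (11072 + r)) = Qf (tab Gen.b (11072 + r)) :=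
  edges_tab (sm gb) Qf (tab Gen.b) 11072 [(11072, 11662), (11073, 10479), (11074, 11682), (11075, 11665), (11076, 11666), (11077, 11079), (11078, 10483), (11079, 11077), (11080, 11554), (11081, 10683), (11082, 11064), (11083, 11448), (11084, 11690), (11085, 11454), (11086, 11560), (11087, 10500), (11088, 10502), (11089, 10503), (11090, 10504), (11091, 11577), (11092, 10505), (11093, 11323), (11094, 10507), (11095, 11579), (11096, 10508), (11097, 10509), (11098, 11694), (11099, 11462), (11100, 11695), (11101, 11697), (11102, 11699), (11103, 11701), (11104, 11466), (11105, 11703), (11106, 11705), (11107, 10684), (11108, 10685), (11109, 10686), (11110, 10688), (11111, 10690), (11112, 10693), (11113, 10695), (11114, 10698), (11115, 10702), (11116, 10829), (11117, 10827), (11118, 11419), (11119, 11589), (11120, 11730), (11121, 11591), (11122, 11458), (11123, 11428), (11124, 10526), (11125, 11735), (11126, 11593), (11127, 11595), (11128, 10543), (11129, 10544), (11130, 10545), (11131, 11028),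 (11132, 10547), (11133, 11393), (11134, 10549), (11135, 10534)]
    ⟨e3 q11072 (flp_b L190889) q11662, e3 q11073 (flp_b L185671) q10479, e3 q11074 (flp_b L191043) q11682, e3 q11075 (flp_b L190915) q11665, e3 q11076 (flp_b L190923) q11666, e3 q11077 (flp_b L185707) q11079, e3 q11078 (flp_b L185695) q10483, e3 q11079 L185707 q11077, e3 q11080 (flp_b L189905) q11554, e3 q11081 L185723 q10683, e3 q11082 L185733 q11064, e3 q11083 (flp_b L188972) q11448, e3 q11084 L191100 q11690, e3 q11085 (flp_b L189026) q11454, e3 q11086 (flp_b L189965) q11560, e3 q11087 L185778 q10500, e3 q11088 L185793 q10502, e3 q11089 L185806 q10503, e3 q11090 L185814 q10504, e3 q11091 (flp_b L190124) q11577, e3 q11092 L185831 q10505, e3 q11093 (flp_b L187678) q11323, e3 q11094 L185847 q10507, e3 q11095 (flp_b L190141) q11579, e3 q11096 L185861 q10508, e3 q11097 L185869 q10509, e3 q11098 (flp_b L191142) q11694, e3 q11099 (flp_b L189110) q11462, e3 q11100 (flp_b L191154) q11695, e3 q11101 (flp_b L191173) q11697, e3 q11102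 (flp_b L191188) q11699, e3 q11103 (flp_b L191206) q11701, e3 q11104 (flp_b L189151) q11466, e3 q11105 (flp_b L191218) q11703, e3 q11106 (flp_b L191232) q11705, e3 q11107 L185933 q10684, e3 q11108 L185941 q10685, e3 q11109 L185953 q10686, e3 q11110 L185963 q10688, e3 q11111 L185969 q10690, e3 q11112 L185977 q10693, e3 q11113 L185983 q10695, e3 q11114 L185989 q10698, e3 q11115 L185995 q10702, e3 q11116 L186005 q10829, e3 q11117 L186019 q10827, e3 q11118 (flp_b L188687) q11419, e3 q11119 (flp_b L190237) q11589, e3 q11120 L191438 q11730, e3 q11121 (flp_b L190258) q11591, e3 q11122 (flp_b L189084) q11458, e3 q11123 (flp_b L188752) q11428, e3 q11124 (flp_b L186079) q10526, e3 q11125 (flp_b L191480) q11735, e3 q11126 (flp_b L190280) q11593, e3 q11127 (flp_b L190296) q11595, e3 q11128 L186109 q10543, e3 q11129 L186115 q10544, e3 q11130 L186127 q10545, e3 q11131 L186141 q11028, e3 q11132 L186147 q10547, e3 q11133 (flp_b L188430) q11393, e3 q11134 L186161 q10549, e3 q11135 (flp_b L186169) q10534,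 trivial⟩ (by decide +kernel)

theorem ce_b_174 : ∀ r, r < 64 → sm gb (Qf (11136 + r)) = Qf (tab Gen.b (11136 + r)) :=
  edges_tab (sm gb) Qf (tab Gen.b) 11136 [(11136, 11746), (11137, 10552), (11138, 10553), (11139, 11349), (11140, 10555), (11141, 10540), (11142, 11753), (11143, 10558), (11144, 10775), (11145, 11739), (11146, 11740), (11147, 11741), (11148, 11029), (11149, 11743), (11150, 11394), (11151, 11745), (11152, 10551), (11153, 11249), (11154, 11763), (11155, 11749), (11156, 11750), (11157, 11350), (11158, 11752), (11159, 10557), (11160, 11768), (11161, 11298), (11162, 10566), (11163, 11163), (11164, 10572), (11165, 11165), (11166, 11166), (11167, 11167), (11168, 11168), (11169, 11511), (11170, 11771), (11171, 10581), (11172, 10786), (11173, 11399), (11174, 10591), (11175, 11773), (11176, 10595), (11177, 11775), (11178, 10609), (11179, 10917), (11180, 11180), (11181, 11777), (11182, 11778), (11183, 10603), (11184, 10604), (11185, 11774), (11186, 10908), (11187, 11242), (11188, 10616),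 (11189, 11309), (11190, 10617), (11191, 11192), (11192, 11191), (11193, 11788), (11194, 11781), (11195, 11783), (11196, 11792), (11197, 11197), (11198, 10619), (11199, 11330)]
    ⟨e3 q11136 (flp_b L191574) q11746, e3 q11137 L186191 q10552, e3 q11138 L186199 q10553, e3 q11139 (flp_b L187961) q11349, e3 q11140 L186209 q10555, e3 q11141 L186215 q10540, e3 q11142 (flp_b L191630) q11753, e3 q11143 L186227 q10558, e3 q11144 (flp_b L186243) q10775, e3 q11145 (flp_b L191514) q11739, e3 q11146 (flp_b L191520) q11740, e3 q11147 (flp_b L191530) q11741, e3 q11148 L186267 q11029, e3 q11149 (flp_b L191550) q11743, e3 q11150 (flp_b L188436) q11394, e3 q11151 (flp_b L191566) q11745, e3 q11152 L186293 q10551, e3 q11153 (flp_b L187064) q11249, e3 q11154 (flp_b L191702) q11763, e3 q11155 (flp_b L191602) q11749, e3 q11156 (flp_b L191612) q11750, e3 q11157 (flp_b L187973) q11350, e3 q11158 (flp_b L191624) q11752, e3 q11159 L186325 q10557, e3 q11160 (flp_b L191732) q11768, e3 q11161 (flp_b L187389) q11298,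 e3 q11162 (flp_b L186338) q10566, e3 q11163 L186363 q11163, e3 q11164 (flp_b L186364) q10572, e3 q11165 L186382 q11165, e3 q11166 L186393 q11166, e3 q11167 L186398 q11167, e3 q11168 L186410 q11168, e3 q11169 (flp_b L189484) q11511, e3 q11170 L191758 q11771, e3 q11171 (flp_b L186440) q10581, e3 q11172 L186458 q10786, e3 q11173 (flp_b L188472) q11399, e3 q11174 L186471 q10591, e3 q11175 (flp_b L191778) q11773, e3 q11176 (flp_b L186491) q10595, e3 q11177 (flp_b L191802) q11775, e3 q11178 L186518 q10609, e3 q11179 L186531 q10917, e3 q11180 L186537 q11180, e3 q11181 L191823 q11777, e3 q11182 L191832 q11778, e3 q11183 (flp_b L186564) q10603, e3 q11184 (flp_b L186571) q10604, e3 q11185 (flp_b L191794) q11774, e3 q11186 L186600 q10908, e3 q11187 (flp_b L187009) q11242, e3 q11188 L186611 q10616, e3 q11189 (flp_b L187514) q11309, e3 q11190 L186624 q10617, e3 q11191 (flp_b L186642) q11192, e3 q11192 L186642 q11191, e3 q11193 L191919 q11788, e3 q11194 (flp_b L191856) q11781, e3 q11195 (flp_b L191872)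 q11783, e3 q11196 L191949 q11792, e3 q11197 L186687 q11197, e3 q11198 (flp_b L186693) q10619, e3 q11199 (flp_b L187760) q11330, trivial⟩ (by decide +kernel)

theorem ce_b_175 : ∀ r, r < 64 → sm gb (Qf (11200 + r)) = Qf (tab Gen.b (11200 + r)) :=
  edges_tab (sm gb) Qf (tab Gen.b) 11200 [(11200, 10626), (11201, 11312), (11202, 11800), (11203, 11450), (11204, 10624), (11205, 11803), (11206, 11457), (11207, 11797), (11208, 10637), (11209, 11808), (11210, 10639), (11211, 10630), (11212, 11811), (11213, 10644), (11214, 11360), (11215, 11361), (11216, 10645), (11217, 11333), (11218, 11311), (11219, 11626), (11220, 11404), (11221, 11823), (11222, 11807), (11223, 10638), (11224, 11827), (11225, 11810), (11226, 11581), (11227, 11407), (11228, 10699), (11229, 10643), (11230, 11834), (11231, 11814), (11232, 11628), (11233, 10650), (11234, 11837), (11235, 10712), (11236, 10653), (11237, 11840), (11238, 10715), (11239, 11379), (11240, 11480), (11241, 11380), (11242, 11187), (11243, 10937), (11244, 11625),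 (11245, 11848), (11246, 11618), (11247, 10946), (11248, 11853), (11249, 11153), (11250, 10666), (11251, 11857), (11252, 11652), (11253, 11653), (11254, 11256), (11255, 10670), (11256, 11254), (11257, 11794), (11258, 10935), (11259, 11384), (11260, 11598), (11261, 11614), (11262, 11600), (11263, 11616)]
    ⟨e3 q11200 L186707 q10626, e3 q11201 (flp_b L187541) q11312, e3 q11202 L192009 q11800, e3 q11203 (flp_b L188998) q11450, e3 q11204 (flp_b L186732) q10624, e3 q11205 (flp_b L192030) q11803, e3 q11206 (flp_b L189064) q11457, e3 q11207 (flp_b L191988) q11797, e3 q11208 L186762 q10637, e3 q11209 L192063 q11808, e3 q11210 L186773 q10639, e3 q11211 (flp_b L186779) q10630, e3 q11212 (flp_b L192086) q11811, e3 q11213 L186791 q10644, e3 q11214 (flp_b L188087) q11360, e3 q11215 (flp_b L188097) q11361, e3 q11216 L186807 q10645, e3 q11217 (flp_b L187790) q11333, e3 q11218 (flp_b L187527) q11311, e3 q11219 (flp_b L190558) q11626, e3 q11220 (flp_b L188531) q11404, e3 q11221 L192166 q11823, e3 q11222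 (flp_b L192057) q11807, e3 q11223 (flp_b L186861) q10638, e3 q11224 (flp_b L192200) q11827, e3 q11225 (flp_b L192078) q11810, e3 q11226 (flp_b L190163) q11581, e3 q11227 (flp_b L188563) q11407, e3 q11228 L186901 q10699, e3 q11229 L186905 q10643, e3 q11230 (flp_b L192254) q11834, e3 q11231 (flp_b L192102) q11814, e3 q11232 (flp_b L190574) q11628, e3 q11233 (flp_b L186930) q10650, e3 q11234 (flp_b L192274) q11837, e3 q11235 L186956 q10712, e3 q11236 L186960 q10653, e3 q11237 (flp_b L192311) q11840, e3 q11238 L186985 q10715, e3 q11239 (flp_b L188271) q11379, e3 q11240 (flp_b L189268) q11480, e3 q11241 (flp_b L188285) q11380, e3 q11242 L187009 q11187, e3 q11243 L187019 q10937, e3 q11244 (flp_b L190546) q11625, e3 q11245 L192371 q11848, e3 q11246 (flp_b L190482) q11618, e3 q11247 L187046 q10946, e3 q11248 L192414 q11853, e3 q11249 L187064 q11153, e3 q11250 (flp_b L187070) q10666, e3 q11251 (flp_b L192448) q11857, e3 q11252 (flp_b L190790) q11652, e3 q11253 (flp_b L190796) q11653, e3 q11254 (flp_b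 L187116) q11256, e3 q11255 (flp_b L187103) q10670, e3 q11256 L187116 q11254, e3 q11257 (flp_b L191972) q11794, e3 q11258 L187136 q10935, e3 q11259 (flp_b L188331) q11384, e3 q11260 (flp_b L190334) q11598, e3 q11261 (flp_b L190442) q11614, e3 q11262 (flp_b L190349) q11600, e3 q11263 (flp_b L190462) q11616, trivial⟩ (by decide +kernel)

theorem ce_b_176 : ∀ r, r < 64 → sm gb (Qf (11264 + r)) = Qf (tab Gen.b (11264 + r)) :=
  edges_tab (sm gb) Qf (tab Gen.b) 11264 [(11264, 11602), (11265, 11619), (11266, 11604), (11267, 11622), (11268, 11606), (11269, 11624), (11270, 11364), (11271, 11716), (11272, 11299), (11273, 11717), (11274, 11880), (11275, 11718), (11276, 10687), (11277, 11883), (11278, 11719), (11279, 10689), (11280, 11888), (11281, 11720), (11282, 11826), (11283, 10692), (11284, 11893), (11285, 11894), (11286, 11721), (11287, 11372), (11288, 11722), (11289, 10697), (11290, 11354), (11291, 11899), (11292, 11723), (11293, 11833), (11294, 10701), (11295, 11904), (11296, 10927), (11297,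 10706), (11298, 11161), (11299, 11272), (11300, 11836), (11301, 10711), (11302, 11907), (11303, 11839), (11304, 10714), (11305, 11305), (11306, 11306), (11307, 10798), (11308, 10728), (11309, 11189), (11310, 10729), (11311, 11218), (11312, 11201), (11313, 11920), (11314, 11913), (11315, 11915), (11316, 11924), (11317, 11317), (11318, 10731), (11319, 10974), (11320, 10958), (11321, 10736), (11322, 10981), (11323, 11093), (11324, 10984), (11325, 11929), (11326, 10973), (11327, 10819)]
    ⟨e3 q11264 (flp_b L190360) q11602, e3 q11265 (flp_b L190494) q11619, e3 q11266 (flp_b L190374) q11604, e3 q11267 (flp_b L190514) q11622, e3 q11268 (flp_b L190388) q11606, e3 q11269 (flp_b L190532) q11624, e3 q11270 (flp_b L188127) q11364, e3 q11271 (flp_b L191312) q11716, e3 q11272 (flp_b L187404) q11299, e3 q11273 (flp_b L191322) q11717, e3 q11274 L192614 q11880, e3 q11275 (flp_b L191334) q11718, e3 q11276 (flp_b L187250) q10687, e3 q11277 (flp_b L192640) q11883, e3 q11278 (flp_b L191344) q11719, e3 q11279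 (flp_b L187270) q10689, e3 q11280 (flp_b L192686) q11888, e3 q11281 (flp_b L191352) q11720, e3 q11282 (flp_b L192196) q11826, e3 q11283 L187296 q10692, e3 q11284 (flp_b L192718) q11893, e3 q11285 (flp_b L192724) q11894, e3 q11286 (flp_b L191358) q11721, e3 q11287 (flp_b L188203) q11372, e3 q11288 (flp_b L191366) q11722, e3 q11289 L187328 q10697, e3 q11290 (flp_b L188021) q11354, e3 q11291 (flp_b L192750) q11899, e3 q11292 (flp_b L191372) q11723, e3 q11293 (flp_b L192250) q11833, e3 q11294 L187350 q10701, e3 q11295 (flp_b L192786) q11904, e3 q11296 L187360 q10927, e3 q11297 (flp_b L187372) q10706, e3 q11298 L187389 q11161, e3 q11299 L187404 q11272, e3 q11300 (flp_b L192270) q11836, e3 q11301 L187425 q10711, e3 q11302 (flp_b L192815) q11907, e3 q11303 (flp_b L192300) q11839, e3 q11304 L187452 q10714, e3 q11305 L187467 q11305, e3 q11306 L187472 q11306, e3 q11307 L187484 q10798, e3 q11308 L187498 q10728, e3 q11309 L187514 q11189, e3 q11310 L187519 q10729, e3 q11311 L187527 q11218, e3 q11312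 L187541 q11201, e3 q11313 L192959 q11920, e3 q11314 (flp_b L192880) q11913, e3 q11315 (flp_b L192900) q11915, e3 q11316 L192997 q11924, e3 q11317 L187594 q11317, e3 q11318 (flp_b L187604) q10731, e3 q11319 L187618 q10974, e3 q11320 L187638 q10958, e3 q11321 L187646 q10736, e3 q11322 L187658 q10981, e3 q11323 L187678 q11093, e3 q11324 L187686 q10984, e3 q11325 (flp_b L193068) q11929, e3 q11326 L187712 q10973, e3 q11327 L187720 q10819, trivial⟩ (by decide +kernel)

theorem ce_b_177 : ∀ r, r < 64 → sm gb (Qf (11328 + r)) = Qf (tab Gen.b (11328 + r)) :=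
  edges_tab (sm gb) Qf (tab Gen.b) 11328 [(11328, 10745), (11329, 10748), (11330, 11199), (11331, 10749), (11332, 11007), (11333, 11217), (11334, 11946), (11335, 11937), (11336, 10869), (11337, 11015), (11338, 10747), (11339, 11951), (11340, 11938), (11341, 11941), (11342, 10754), (11343, 11038), (11344, 10954), (11345, 11954), (11346, 10847), (11347, 10991), (11348, 10761), (11349, 11139), (11350, 11157), (11351, 11960), (11352, 10867), (11353, 10870), (11354, 11290), (11355, 10871), (11356, 10774), (11357, 10777), (11358, 10780), (11359, 10783), (11360, 11214), (11361, 11215), (11362, 10784), (11363, 10966), (11364, 11270), (11365, 11967), (11366, 11738), (11367, 11755), (11368, 10776), (11369, 11980), (11370, 11968), (11371, 10969), (11372, 11287), (11373, 11969), (11374, 10900), (11375, 10782), (11376, 11987), (11377, 11970), (11378, 10914), (11379, 11239), (11380, 11241), (11381, 10931), (11382, 10796), (11383, 11991), (11384, 11259), (11385, 11911), (11386, 10803), (11387, 10807),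 (11388, 10808), (11389, 10982), (11390, 12000), (11391, 11995)]
    ⟨e3 q11328 L187732 q10745, e3 q11329 L187748 q10748, e3 q11330 L187760 q11199, e3 q11331 L187768 q10749, e3 q11332 L187778 q11007, e3 q11333 L187790 q11217, e3 q11334 L193277 q11946, e3 q11335 (flp_b L193171) q11937, e3 q11336 L187821 q10869, e3 q11337 L187829 q11015, e3 q11338 (flp_b L187837) q10747, e3 q11339 (flp_b L193334) q11951, e3 q11340 (flp_b L193187) q11938, e3 q11341 (flp_b L193223) q11941, e3 q11342 L187883 q10754, e3 q11343 L187903 q11038, e3 q11344 L187911 q10954, e3 q11345 (flp_b L193366) q11954, e3 q11346 L187931 q10847, e3 q11347 L187943 q10991, e3 q11348 L187953 q10761, e3 q11349 L187961 q11139, e3 q11350 L187973 q11157, e3 q11351 (flp_b L193438) q11960, e3 q11352 L187991 q10867, e3 q11353 L188007 q10870, e3 q11354 L188021 q11290, e3 q11355 L188031 q10871, e3 q11356 L188039 q10774, e3 q11357 L188053 q10777, e3 q11358 L188065 q10780, e3 q11359 L188077 q10783, e3 q11360 L188087 q11214, e3 q11361 L188097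 q11215, e3 q11362 L188105 q10784, e3 q11363 L188113 q10966, e3 q11364 L188127 q11270, e3 q11365 (flp_b L193522) q11967, e3 q11366 (flp_b L191508) q11738, e3 q11367 (flp_b L191644) q11755, e3 q11368 (flp_b L188159) q10776, e3 q11369 (flp_b L193662) q11980, e3 q11370 (flp_b L193534) q11968, e3 q11371 L188189 q10969, e3 q11372 L188203 q11287, e3 q11373 (flp_b L193544) q11969, e3 q11374 L188229 q10900, e3 q11375 L188233 q10782, e3 q11376 (flp_b L193732) q11987, e3 q11377 (flp_b L193556) q11970, e3 q11378 L188265 q10914, e3 q11379 L188271 q11239, e3 q11380 L188285 q11241, e3 q11381 L188297 q10931, e3 q11382 L188311 q10796, e3 q11383 (flp_b L193777) q11991, e3 q11384 L188331 q11259, e3 q11385 (flp_b L192853) q11911, e3 q11386 L188355 q10803, e3 q11387 L188369 q10807, e3 q11388 L188379 q10808, e3 q11389 L188389 q10982, e3 q11390 L193882 q12000, e3 q11391 (flp_b L193823) q11995, trivial⟩ (by decide +kernel)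

theorem ce_b_178 : ∀ r, r < 64 → sm gb (Qf (11392 + r)) = Qf (tab Gen.b (11392 + r)) :=
  edges_tab (sm gb) Qf (tab Gen.b) 11392 [(11392, 10967), (11393, 11133), (11394, 11150), (11395, 10806), (11396, 12007), (11397, 11996), (11398, 11997), (11399, 11173), (11400, 11926), (11401, 10932), (11402, 10817), (11403, 12013), (11404, 11220), (11405, 10815), (11406, 12016), (11407, 11227), (11408, 12012), (11409, 11936), (11410, 10830), (11411, 10831), (11412, 11024), (11413, 10833), (11414, 10836), (11415, 11003), (11416, 10839), (11417, 10840), (11418, 11725), (11419, 11118), (11420, 11724), (11421, 12033), (11422, 12020), (11423, 12036), (11424, 12022), (11425, 10832), (11426, 12040), (11427, 12024), (11428, 11123), (11429, 10835), (11430, 12045), (11431, 12025), (11432, 10880), (11433, 10838), (11434, 12049), (11435, 12027), (11436, 10943), (11437, 10922), (11438, 10962), (11439, 10923), (11440, 11033), (11441, 11958), (11442, 12056), (11443, 10855), (11444, 10849), (11445, 12059), (11446,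 10861), (11447, 10862), (11448, 11083), (11449, 12063), (11450, 11203), (11451, 10854), (11452, 12067), (11453, 12058), (11454, 11085), (11455, 10857)]
    ⟨e3 q11392 L188412 q10967, e3 q11393 L188430 q11133, e3 q11394 L188436 q11150, e3 q11395 (flp_b L188442) q10806, e3 q11396 (flp_b L193951) q12007, e3 q11397 (flp_b L193837) q11996, e3 q11398 (flp_b L193849) q11997, e3 q11399 L188472 q11173, e3 q11400 (flp_b L193034) q11926, e3 q11401 L188496 q10932, e3 q11402 L188510 q10817, e3 q11403 L194011 q12013, e3 q11404 L188531 q11220, e3 q11405 (flp_b L188537) q10815, e3 q11406 (flp_b L194044) q12016, e3 q11407 L188563 q11227, e3 q11408 (flp_b L193999) q12012, e3 q11409 (flp_b L193159) q11936, e3 q11410 L188593 q10830, e3 q11411 L188605 q10831, e3 q11412 (flp_b L188623) q11024, e3 q11413 L188629 q10833, e3 q11414 L188639 q10836, e3 q11415 L188651 q11003, e3 q11416 L188665 q10839, e3 q11417 L188673 q10840, e3 q11418 (flp_b L191392) q11725, e3 q11419 L188687 q11118, e3 q11420 (flp_b L191380) q11724,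 e3 q11421 L194230 q12033, e3 q11422 (flp_b L194092) q12020, e3 q11423 L194255 q12036, e3 q11424 (flp_b L194116) q12022, e3 q11425 (flp_b L188731) q10832, e3 q11426 (flp_b L194293) q12040, e3 q11427 (flp_b L194144) q12024, e3 q11428 L188752 q11123, e3 q11429 (flp_b L188760) q10835, e3 q11430 (flp_b L194330) q12045, e3 q11431 (flp_b L194152) q12025, e3 q11432 L188800 q10880, e3 q11433 L188804 q10838, e3 q11434 (flp_b L194372) q12049, e3 q11435 (flp_b L194176) q12027, e3 q11436 L188836 q10943, e3 q11437 L188841 q10922, e3 q11438 L188851 q10962, e3 q11439 L188863 q10923, e3 q11440 L188873 q11033, e3 q11441 (flp_b L193416) q11958, e3 q11442 L194450 q12056, e3 q11443 L188910 q10855, e3 q11444 (flp_b L188918) q10849, e3 q11445 (flp_b L194489) q12059, e3 q11446 L188948 q10861, e3 q11447 L188958 q10862, e3 q11448 L188972 q11083, e3 q11449 L194537 q12063, e3 q11450 L188998 q11203, e3 q11451 (flp_b L189002) q10854, e3 q11452 (flp_b L194587) q12067, e3 q11453 (flp_b L194477) q12058, e3 q11454 L189026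 q11085, e3 q11455 (flp_b L189036) q10857, trivial⟩ (by decide +kernel)

theorem ce_b_179 : ∀ r, r < 64 → sm gb (Qf (11456 + r)) = Qf (tab Gen.b (11456 + r)) :=
  edges_tab (sm gb) Qf (tab Gen.b) 11456 [(11456, 12071), (11457, 11206), (11458, 11122), (11459, 10860), (11460, 12075), (11461, 12061), (11462, 11099), (11463, 11043), (11464, 11942), (11465, 11963), (11466, 11104), (11467, 11949), (11468, 11964), (11469, 11966), (11470, 10886), (11471, 10887), (11472, 10888), (11473, 12039), (11474, 10890), (11475, 12093), (11476, 10892), (11477, 10877), (11478, 12096), (11479, 10895), (11480, 11240), (11481, 10896), (11482, 12048), (11483, 10899), (11484, 10883), (11485, 12105), (11486, 10903), (11487, 12086), (11488, 12088), (11489, 12109), (11490, 12090), (11491, 10889), (11492, 12112), (11493, 12092), (11494, 10891), (11495, 12116), (11496, 12095), (11497, 11979), (11498, 10894), (11499, 12121), (11500, 12122), (11501, 12099), (11502, 12101), (11503, 10898), (11504, 12126), (11505, 12104),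 (11506, 11986), (11507, 10902), (11508, 12129), (11509, 10904), (11510, 11779), (11511, 11169), (11512, 10910), (11513, 11770), (11514, 10913), (11515, 12132), (11516, 11654), (11517, 10916), (11518, 10989), (11519, 12052)]
    ⟨e3 q11456 (flp_b L194623) q12071, e3 q11457 L189064 q11206, e3 q11458 L189084 q11122, e3 q11459 L189088 q10860, e3 q11460 (flp_b L194671) q12075, e3 q11461 (flp_b L194515) q12061, e3 q11462 L189110 q11099, e3 q11463 L189122 q11043, e3 q11464 (flp_b L193239) q11942, e3 q11465 (flp_b L193472) q11963, e3 q11466 L189151 q11104, e3 q11467 (flp_b L193308) q11949, e3 q11468 (flp_b L193488) q11964, e3 q11469 (flp_b L193514) q11966, e3 q11470 L189185 q10886, e3 q11471 L189197 q10887, e3 q11472 L189209 q10888, e3 q11473 (flp_b L194289) q12039, e3 q11474 L189224 q10890, e3 q11475 L194843 q12093, e3 q11476 L189235 q10892, e3 q11477 (flp_b L189239) q10877, e3 q11478 (flp_b L194866) q12096, e3 q11479 L189254 q10895, e3 q11480 L189268 q11240, e3 q11481 L189276 q10896, e3 q11482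 (flp_b L194360) q12048, e3 q11483 L189290 q10899, e3 q11484 L189298 q10883, e3 q11485 (flp_b L194943) q12105, e3 q11486 L189312 q10903, e3 q11487 (flp_b L194779) q12086, e3 q11488 (flp_b L194804) q12088, e3 q11489 L194965 q12109, e3 q11490 (flp_b L194823) q12090, e3 q11491 (flp_b L189340) q10889, e3 q11492 (flp_b L194993) q12112, e3 q11493 (flp_b L194837) q12092, e3 q11494 (flp_b L189364) q10891, e3 q11495 (flp_b L195023) q12116, e3 q11496 (flp_b L194860) q12095, e3 q11497 (flp_b L193658) q11979, e3 q11498 L189390 q10894, e3 q11499 (flp_b L195057) q12121, e3 q11500 (flp_b L195065) q12122, e3 q11501 (flp_b L194883) q12099, e3 q11502 (flp_b L194905) q12101, e3 q11503 L189418 q10898, e3 q11504 (flp_b L195091) q12126, e3 q11505 (flp_b L194935) q12104, e3 q11506 (flp_b L193720) q11986, e3 q11507 L189444 q10902, e3 q11508 (flp_b L195113) q12129, e3 q11509 (flp_b L189454) q10904, e3 q11510 (flp_b L191847) q11779, e3 q11511 L189484 q11169, e3 q11512 (flp_b L189486) q10910, e3 q11513 L191756 q11770,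 e3 q11514 L189508 q10913, e3 q11515 (flp_b L195137) q12132, e3 q11516 (flp_b L190814) q11654, e3 q11517 L189535 q10916, e3 q11518 L189543 q10989, e3 q11519 (flp_b L194402) q12052, trivial⟩ (by decide +kernel)

theorem ce_b_180 : ∀ r, r < 64 → sm gb (Qf (11520 + r)) = Qf (tab Gen.b (11520 + r)) :=
  edges_tab (sm gb) Qf (tab Gen.b) 11520 [(11520, 12054), (11521, 10979), (11522, 10926), (11523, 12139), (11524, 11901), (11525, 10975), (11526, 11004), (11527, 10933), (11528, 11990), (11529, 12011), (11530, 11026), (11531, 11863), (11532, 11036), (11533, 10938), (11534, 11845), (11535, 12146), (11536, 11055), (11537, 11636), (11538, 11056), (11539, 10947), (11540, 12155), (11541, 10949), (11542, 12051), (11543, 10950), (11544, 11070), (11545, 11852), (11546, 12163), (11547, 12154), (11548, 10948), (11549, 12167), (11550, 12157), (11551, 12160), (11552, 10951), (11553, 12171), (11554, 11080), (11555, 11956), (11556, 11040), (11557, 10957), (11558, 12175), (11559, 11928), (11560, 11086), (11561,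 10968), (11562, 10970), (11563, 12053), (11564, 10971), (11565, 11566), (11566, 11565), (11567, 11974), (11568, 12003), (11569, 12178), (11570, 11983), (11571, 12179), (11572, 11910), (11573, 11645), (11574, 11935), (11575, 11927), (11576, 12141), (11577, 11091), (11578, 10983), (11579, 11095), (11580, 10985), (11581, 11226), (11582, 12138), (11583, 10986)]
    ⟨e3 q11520 (flp_b L194424) q12054, e3 q11521 L189585 q10979, e3 q11522 L189599 q10926, e3 q11523 (flp_b L195214) q12139, e3 q11524 (flp_b L192762) q11901, e3 q11525 L189637 q10975, e3 q11526 L189645 q11004, e3 q11527 L189655 q10933, e3 q11528 (flp_b L193763) q11990, e3 q11529 (flp_b L193983) q12011, e3 q11530 L189689 q11026, e3 q11531 (flp_b L192504) q11863, e3 q11532 L189716 q11036, e3 q11533 L189723 q10938, e3 q11534 (flp_b L192348) q11845, e3 q11535 (flp_b L195298) q12146, e3 q11536 L189753 q11055, e3 q11537 (flp_b L190665) q11636, e3 q11538 L189776 q11056, e3 q11539 L189788 q10947, e3 q11540 L195390 q12155, e3 q11541 L189799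 q10949, e3 q11542 (flp_b L194390) q12051, e3 q11543 L189811 q10950, e3 q11544 L189819 q11070, e3 q11545 (flp_b L192404) q11852, e3 q11546 L195446 q12163, e3 q11547 (flp_b L195384) q12154, e3 q11548 (flp_b L189851) q10948, e3 q11549 (flp_b L195478) q12167, e3 q11550 (flp_b L195405) q12157, e3 q11551 (flp_b L195420) q12160, e3 q11552 (flp_b L189879) q10951, e3 q11553 (flp_b L195513) q12171, e3 q11554 L189905 q11080, e3 q11555 (flp_b L193394) q11956, e3 q11556 L189921 q11040, e3 q11557 L189933 q10957, e3 q11558 (flp_b L195552) q12175, e3 q11559 (flp_b L193054) q11928, e3 q11560 L189965 q11086, e3 q11561 L189971 q10968, e3 q11562 L189981 q10970, e3 q11563 (flp_b L194412) q12053, e3 q11564 L189997 q10971, e3 q11565 (flp_b L190015) q11566, e3 q11566 L190015 q11565, e3 q11567 (flp_b L193600) q11974, e3 q11568 (flp_b L193907) q12003, e3 q11569 (flp_b L195580) q12178, e3 q11570 (flp_b L193688) q11983, e3 q11571 (flp_b L195588) q12179, e3 q11572 (flp_b L192846) q11910, e3 q11573 (flp_b L190730) q11645,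 e3 q11574 (flp_b L193145) q11935, e3 q11575 (flp_b L193040) q11927, e3 q11576 (flp_b L195240) q12141, e3 q11577 L190124 q11091, e3 q11578 L190131 q10983, e3 q11579 L190141 q11095, e3 q11580 L190153 q10985, e3 q11581 L190163 q11226, e3 q11582 (flp_b L195202) q12138, e3 q11583 L190179 q10986, trivial⟩ (by decide +kernel)

theorem ce_b_181 : ∀ r, r < 64 → sm gb (Qf (11584 + r)) = Qf (tab Gen.b (11584 + r)) :=
  edges_tab (sm gb) Qf (tab Gen.b) 11584 [(11584, 11931), (11585, 11999), (11586, 12192), (11587, 11933), (11588, 12194), (11589, 11119), (11590, 12136), (11591, 11121), (11592, 12102), (11593, 11126), (11594, 11959), (11595, 11127), (11596, 11006), (11597, 11008), (11598, 11260), (11599, 11010), (11600, 11262), (11601, 11012), (11602, 11264), (11603, 11014), (11604, 11266), (11605, 11017), (11606, 11268), (11607, 11019), (11608, 12026), (11609, 12023), (11610, 12142), (11611, 12210), (11612, 11943), (11613, 12212), (11614, 11261), (11615, 12214), (11616, 11263), (11617, 12216), (11618,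 11246), (11619, 11265), (11620, 12219), (11621, 11950), (11622, 11267), (11623, 12221), (11624, 11269), (11625, 11244), (11626, 11219), (11627, 12021), (11628, 11232), (11629, 11030), (11630, 11742), (11631, 11759), (11632, 12239), (11633, 11032), (11634, 11862), (11635, 11045), (11636, 11537), (11637, 11046), (11638, 12145), (11639, 11047), (11640, 11955), (11641, 11048), (11642, 12174), (11643, 11049), (11644, 12079), (11645, 11573), (11646, 12243), (11647, 12245)]
    ⟨e3 q11584 (flp_b L193095) q11931, e3 q11585 (flp_b L193874) q11999, e3 q11586 (flp_b L195718) q12192, e3 q11587 (flp_b L193123) q11933, e3 q11588 (flp_b L195736) q12194, e3 q11589 L190237 q11119, e3 q11590 (flp_b L195173) q12136, e3 q11591 L190258 q11121, e3 q11592 (flp_b L194917) q12102, e3 q11593 L190280 q11126, e3 q11594 (flp_b L193428) q11959, e3 q11595 L190296 q11127, e3 q11596 L190306 q11006, e3 q11597 L190318 q11008, e3 q11598 L190334 q11260, e3 q11599 L190339 q11010, e3 q11600 L190349 q11262, e3 q11601 L190354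 q11012, e3 q11602 L190360 q11264, e3 q11603 L190368 q11014, e3 q11604 L190374 q11266, e3 q11605 L190382 q11017, e3 q11606 L190388 q11268, e3 q11607 L190396 q11019, e3 q11608 (flp_b L194164) q12026, e3 q11609 (flp_b L194130) q12023, e3 q11610 (flp_b L195248) q12142, e3 q11611 (flp_b L195904) q12210, e3 q11612 (flp_b L193246) q11943, e3 q11613 (flp_b L195931) q12212, e3 q11614 L190442 q11261, e3 q11615 (flp_b L195951) q12214, e3 q11616 L190462 q11263, e3 q11617 (flp_b L195969) q12216, e3 q11618 L190482 q11246, e3 q11619 L190494 q11265, e3 q11620 (flp_b L195988) q12219, e3 q11621 (flp_b L193322) q11950, e3 q11622 L190514 q11267, e3 q11623 (flp_b L196004) q12221, e3 q11624 L190532 q11269, e3 q11625 L190546 q11244, e3 q11626 L190558 q11219, e3 q11627 L194110 q12021, e3 q11628 L190574 q11232, e3 q11629 L190586 q11030, e3 q11630 (flp_b L191540) q11742, e3 q11631 (flp_b L191674) q11759, e3 q11632 (flp_b L196160) q12239, e3 q11633 L190630 q11032, e3 q11634 (flp_b L192497) q11862, e3 q11635 L190647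 q11045, e3 q11636 L190665 q11537, e3 q11637 L190672 q11046, e3 q11638 (flp_b L195286) q12145, e3 q11639 L190690 q11047, e3 q11640 (flp_b L193380) q11955, e3 q11641 L190702 q11048, e3 q11642 (flp_b L195542) q12174, e3 q11643 L190714 q11049, e3 q11644 (flp_b L194708) q12079, e3 q11645 L190730 q11573, e3 q11646 (flp_b L196202) q12243, e3 q11647 (flp_b L196228) q12245, trivial⟩ (by decide +kernel)

theorem ce_b_182 : ∀ r, r < 64 → sm gb (Qf (11648 + r)) = Qf (tab Gen.b (11648 + r)) :=
  edges_tab (sm gb) Qf (tab Gen.b) 11648 [(11648, 12248), (11649, 12250), (11650, 11050), (11651, 12257), (11652, 11252), (11653, 11253), (11654, 11516), (11655, 11668), (11656, 12150), (11657, 12152), (11658, 11066), (11659, 11067), (11660, 12266), (11661, 11069), (11662, 11072), (11663, 11061), (11664, 12271), (11665, 11075), (11666, 11076), (11667, 11687), (11668, 11655), (11669, 12277), (11670, 12263), (11671, 12280), (11672, 12265), (11673, 11068), (11674, 12284), (11675, 12268), (11676, 11686), (11677, 12161),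 (11678, 11071), (11679, 12290), (11680, 12269), (11681, 12166), (11682, 11074), (11683, 12295), (11684, 12273), (11685, 12170), (11686, 11676), (11687, 11667), (11688, 12299), (11689, 12062), (11690, 11084), (11691, 12302), (11692, 12070), (11693, 12177), (11694, 11098), (11695, 11100), (11696, 11930), (11697, 11101), (11698, 11998), (11699, 11102), (11700, 12191), (11701, 11103), (11702, 11932), (11703, 11105), (11704, 12193), (11705, 11106), (11706, 11843), (11707, 12306), (11708, 12077), (11709, 12307), (11710, 12309), (11711, 12311)]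
    ⟨e3 q11648 (flp_b L196251) q12248, e3 q11649 (flp_b L196265) q12250, e3 q11650 (flp_b L190768) q11050, e3 q11651 (flp_b L196331) q12257, e3 q11652 L190790 q11252, e3 q11653 L190796 q11253, e3 q11654 L190814 q11516, e3 q11655 (flp_b L190947) q11668, e3 q11656 (flp_b L195337) q12150, e3 q11657 (flp_b L195361) q12152, e3 q11658 L190846 q11066, e3 q11659 L190860 q11067, e3 q11660 L196424 q12266, e3 q11661 L190879 q11069, e3 q11662 L190889 q11072, e3 q11663 (flp_b L190895) q11061, e3 q11664 (flp_b L196471) q12271, e3 q11665 L190915 q11075, e3 q11666 L190923 q11076, e3 q11667 (flp_b L191075) q11687, e3 q11668 L190947 q11655, e3 q11669 L196535 q12277, e3 q11670 (flp_b L196389) q12263, e3 q11671 L196559 q12280, e3 q11672 (flp_b L196414) q12265, e3 q11673 (flp_b L190985) q11068, e3 q11674 (flp_b L196587) q12284, e3 q11675 (flp_b L196443) q12268, e3 q11676 (flp_b L191067) q11686, e3 q11677 (flp_b L195428) q12161, e3 q11678 (flp_b L191023) q11071, e3 q11679 (flp_b L196631) q12290, e3 q11680 (flp_b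 L196451) q12269, e3 q11681 (flp_b L195474) q12166, e3 q11682 L191043 q11074, e3 q11683 (flp_b L196659) q12295, e3 q11684 (flp_b L196487) q12273, e3 q11685 (flp_b L195505) q12170, e3 q11686 L191067 q11676, e3 q11687 L191075 q11667, e3 q11688 L196690 q12299, e3 q11689 (flp_b L194529) q12062, e3 q11690 (flp_b L191100) q11084, e3 q11691 (flp_b L196723) q12302, e3 q11692 (flp_b L194609) q12070, e3 q11693 (flp_b L195572) q12177, e3 q11694 L191142 q11098, e3 q11695 L191154 q11100, e3 q11696 (flp_b L193088) q11930, e3 q11697 L191173 q11101, e3 q11698 (flp_b L193867) q11998, e3 q11699 L191188 q11102, e3 q11700 (flp_b L195706) q12191, e3 q11701 L191206 q11103, e3 q11702 (flp_b L193109) q11932, e3 q11703 L191218 q11105, e3 q11704 (flp_b L195726) q12193, e3 q11705 L191232 q11106, e3 q11706 (flp_b L192329) q11843, e3 q11707 (flp_b L196766) q12306, e3 q11708 (flp_b L194687) q12077, e3 q11709 (flp_b L196778) q12307, e3 q11710 (flp_b L196796) q12309, e3 q11711 (flp_b L196814) q12311, trivial⟩ (by decide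 +kernel)

theorem ce_b_183 : ∀ r, r < 64 → sm gb (Qf (11712 + r)) = Qf (tab Gen.b (11712 + r)) :=
  edges_tab (sm gb) Qf (tab Gen.b) 11712 [(11712, 12314), (11713, 12082), (11714, 12316), (11715, 11905), (11716, 11271), (11717, 11273), (11718, 11275), (11719, 11278), (11720, 11281), (11721, 11286), (11722, 11288), (11723, 11292), (11724, 11420), (11725, 11418), (11726, 12066), (11727, 12030), (11728, 12337), (11729, 12203), (11730, 11120), (11731, 12340), (11732, 12205), (11733, 12072), (11734, 12044), (11735, 11125), (11736, 12345), (11737, 12207), (11738, 11366), (11739, 11145), (11740, 11146), (11741, 11147), (11742, 11630), (11743, 11149), (11744, 12004), (11745, 11151), (11746, 11136), (11747, 12356), (11748, 12357), (11749, 11155), (11750, 11156), (11751, 11961), (11752, 11158), (11753, 11142), (11754, 12362), (11755, 11367), (11756, 12348), (11757, 12349), (11758, 12350), (11759, 11631), (11760, 12352), (11761, 12005), (11762, 12355), (11763, 11154), (11764, 11855), (11765, 12369),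 (11766, 12360), (11767, 11962), (11768, 11160), (11769, 12131), (11770, 11513), (11771, 11170), (11772, 12010), (11773, 11175), (11774, 11185), (11775, 11177)]
    ⟨e3 q11712 (flp_b L196833) q12314, e3 q11713 (flp_b L194738) q12082, e3 q11714 (flp_b L196849) q12316, e3 q11715 (flp_b L192792) q11905, e3 q11716 L191312 q11271, e3 q11717 L191322 q11273, e3 q11718 L191334 q11275, e3 q11719 L191344 q11278, e3 q11720 L191352 q11281, e3 q11721 L191358 q11286, e3 q11722 L191366 q11288, e3 q11723 L191372 q11292, e3 q11724 L191380 q11420, e3 q11725 L191392 q11418, e3 q11726 (flp_b L194583) q12066, e3 q11727 (flp_b L194201) q12030, e3 q11728 L197035 q12337, e3 q11729 (flp_b L195831) q12203, e3 q11730 (flp_b L191438) q11120, e3 q11731 (flp_b L197065) q12340, e3 q11732 (flp_b L195853) q12205, e3 q11733 (flp_b L194637) q12072, e3 q11734 (flp_b L194318) q12044, e3 q11735 L191480 q11125, e3 q11736 (flp_b L197109) q12345, e3 q11737 (flp_b L195871) q12207, e3 q11738 L191508 q11366, e3 q11739 L191514 q11145,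 e3 q11740 L191520 q11146, e3 q11741 L191530 q11147, e3 q11742 L191540 q11630, e3 q11743 L191550 q11149, e3 q11744 (flp_b L193921) q12004, e3 q11745 L191566 q11151, e3 q11746 L191574 q11136, e3 q11747 (flp_b L197211) q12356, e3 q11748 (flp_b L197221) q12357, e3 q11749 L191602 q11155, e3 q11750 L191612 q11156, e3 q11751 (flp_b L193448) q11961, e3 q11752 L191624 q11158, e3 q11753 L191630 q11142, e3 q11754 (flp_b L197263) q12362, e3 q11755 L191644 q11367, e3 q11756 (flp_b L197135) q12348, e3 q11757 (flp_b L197143) q12349, e3 q11758 (flp_b L197153) q12350, e3 q11759 L191674 q11631, e3 q11760 (flp_b L197175) q12352, e3 q11761 (flp_b L193931) q12005, e3 q11762 (flp_b L197201) q12355, e3 q11763 L191702 q11154, e3 q11764 (flp_b L192432) q11855, e3 q11765 (flp_b L197323) q12369, e3 q11766 (flp_b L197249) q12360, e3 q11767 (flp_b L193460) q11962, e3 q11768 L191732 q11160, e3 q11769 (flp_b L195127) q12131, e3 q11770 (flp_b L191756) q11513, e3 q11771 (flp_b L191758) q11170, e3 q11772 (flp_b L193971)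 q12010, e3 q11773 L191778 q11175, e3 q11774 L191794 q11185, e3 q11775 L191802 q11177, trivial⟩ (by decide +kernel)

theorem ce_b_184 : ∀ r, r < 64 → sm gb (Qf (11776 + r)) = Qf (tab Gen.b (11776 + r)) :=
  edges_tab (sm gb) Qf (tab Gen.b) 11776 [(11776, 12371), (11777, 11181), (11778, 11182), (11779, 11510), (11780, 12373), (11781, 11194), (11782, 11914), (11783, 11195), (11784, 12379), (11785, 11787), (11786, 12382), (11787, 11785), (11788, 11193), (11789, 12386), (11790, 12375), (11791, 12378), (11792, 11196), (11793, 12390), (11794, 11257), (11795, 11939), (11796, 11940), (11797, 11207), (11798, 12395), (11799, 11919), (11800, 11202), (11801, 12398), (11802, 12065), (11803, 11205), (11804, 12402), (11805, 12074), (11806, 12404), (11807, 11222), (11808, 11209), (11809, 12407), (11810, 11225), (11811, 11212), (11812, 12100), (11813, 12411), (11814, 11231), (11815, 11971), (11816, 11972), (11817, 11973), (11818, 11945), (11819, 12238), (11820, 11917), (11821, 12196), (11822, 12015), (11823,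 11221), (11824, 12425), (11825, 12406), (11826, 11282), (11827, 11224), (11828, 12430), (11829, 12431), (11830, 12410), (11831, 12195), (11832, 12018), (11833, 11293), (11834, 11230), (11835, 12435), (11836, 11300), (11837, 11234), (11838, 12437), (11839, 11303)]
    ⟨e3 q11776 L197335 q12371, e3 q11777 (flp_b L191823) q11181, e3 q11778 (flp_b L191832) q11182, e3 q11779 L191847 q11510, e3 q11780 L197355 q12373, e3 q11781 L191856 q11194, e3 q11782 (flp_b L192892) q11914, e3 q11783 L191872 q11195, e3 q11784 L197397 q12379, e3 q11785 (flp_b L191911) q11787, e3 q11786 L197422 q12382, e3 q11787 L191911 q11785, e3 q11788 (flp_b L191919) q11193, e3 q11789 (flp_b L197468) q12386, e3 q11790 (flp_b L197370) q12375, e3 q11791 (flp_b L197391) q12378, e3 q11792 (flp_b L191949) q11196, e3 q11793 (flp_b L197504) q12390, e3 q11794 L191972 q11257, e3 q11795 (flp_b L193201) q11939, e3 q11796 (flp_b L193213) q11940, e3 q11797 L191988 q11207, e3 q11798 L197538 q12395, e3 q11799 (flp_b L192951) q11919, e3 q11800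 (flp_b L192009) q11202, e3 q11801 (flp_b L197565) q12398, e3 q11802 (flp_b L194565) q12065, e3 q11803 L192030 q11205, e3 q11804 (flp_b L197590) q12402, e3 q11805 (flp_b L194661) q12074, e3 q11806 L197602 q12404, e3 q11807 L192057 q11222, e3 q11808 (flp_b L192063) q11209, e3 q11809 (flp_b L197625) q12407, e3 q11810 L192078 q11225, e3 q11811 L192086 q11212, e3 q11812 (flp_b L194891) q12100, e3 q11813 (flp_b L197652) q12411, e3 q11814 L192102 q11231, e3 q11815 (flp_b L193568) q11971, e3 q11816 (flp_b L193580) q11972, e3 q11817 (flp_b L193590) q11973, e3 q11818 (flp_b L193267) q11945, e3 q11819 (flp_b L196150) q12238, e3 q11820 (flp_b L192923) q11917, e3 q11821 (flp_b L195758) q12196, e3 q11822 (flp_b L194034) q12015, e3 q11823 (flp_b L192166) q11221, e3 q11824 (flp_b L197760) q12425, e3 q11825 (flp_b L197617) q12406, e3 q11826 L192196 q11282, e3 q11827 L192200 q11224, e3 q11828 (flp_b L197802) q12430, e3 q11829 (flp_b L197812) q12431, e3 q11830 (flp_b L197644) q12410, e3 q11831 (flp_b L195748)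 q12195, e3 q11832 (flp_b L194066) q12018, e3 q11833 L192250 q11293, e3 q11834 L192254 q11230, e3 q11835 (flp_b L197846) q12435, e3 q11836 L192270 q11300, e3 q11837 L192274 q11234, e3 q11838 (flp_b L197864) q12437, e3 q11839 L192300 q11303, trivial⟩ (by decide +kernel)

theorem ce_b_185 : ∀ r, r < 64 → sm gb (Qf (11840 + r)) = Qf (tab Gen.b (11840 + r)) :=
  edges_tab (sm gb) Qf (tab Gen.b) 11840 [(11840, 11237), (11841, 11989), (11842, 12087), (11843, 11706), (11844, 12135), (11845, 11534), (11846, 12443), (11847, 12231), (11848, 11245), (11849, 12447), (11850, 12234), (11851, 11861), (11852, 11545), (11853, 11248), (11854, 12454), (11855, 11764), (11856, 12385), (11857, 11251), (11858, 12459), (11859, 12259), (11860, 12389), (11861, 11851), (11862, 11634), (11863, 11531), (11864, 12211), (11865, 11993), (11866, 12213), (11867, 12229), (11868, 12215), (11869, 12232), (11870, 12217), (11871, 12218), (11872, 12235), (11873, 12220), (11874, 12237), (11875, 12222), (11876, 11975), (11877, 12326),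 (11878, 11884), (11879, 12327), (11880, 11274), (11881, 12478), (11882, 12328), (11883, 11277), (11884, 11878), (11885, 12482), (11886, 12329), (11887, 12424), (11888, 11280), (11889, 12486), (11890, 12487), (11891, 12330), (11892, 12429), (11893, 11284), (11894, 11285), (11895, 12493), (11896, 12494), (11897, 11984), (11898, 12331), (11899, 11291), (11900, 11965), (11901, 11524), (11902, 12497), (11903, 12415)]
    ⟨e3 q11840 L192311 q11237, e3 q11841 (flp_b L193752) q11989, e3 q11842 (flp_b L194797) q12087, e3 q11843 L192329 q11706, e3 q11844 (flp_b L195166) q12135, e3 q11845 L192348 q11534, e3 q11846 L197920 q12443, e3 q11847 (flp_b L196078) q12231, e3 q11848 (flp_b L192371) q11245, e3 q11849 (flp_b L197954) q12447, e3 q11850 (flp_b L196108) q12234, e3 q11851 (flp_b L192479) q11861, e3 q11852 L192404 q11545, e3 q11853 (flp_b L192414) q11248, e3 q11854 (flp_b L198011) q12454, e3 q11855 L192432 q11764, e3 q11856 (flp_b L197464) q12385, e3 q11857 L192448 q11251, e3 q11858 (flp_b L198057)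 q12459, e3 q11859 (flp_b L196351) q12259, e3 q11860 (flp_b L197496) q12389, e3 q11861 L192479 q11851, e3 q11862 L192497 q11634, e3 q11863 L192504 q11531, e3 q11864 (flp_b L195924) q12211, e3 q11865 (flp_b L193799) q11993, e3 q11866 (flp_b L195943) q12213, e3 q11867 (flp_b L196056) q12229, e3 q11868 (flp_b L195959) q12215, e3 q11869 (flp_b L196090) q12232, e3 q11870 (flp_b L195975) q12217, e3 q11871 (flp_b L195980) q12218, e3 q11872 (flp_b L196120) q12235, e3 q11873 (flp_b L195994) q12220, e3 q11874 (flp_b L196138) q12237, e3 q11875 (flp_b L196010) q12222, e3 q11876 (flp_b L193612) q11975, e3 q11877 (flp_b L196923) q12326, e3 q11878 (flp_b L192650) q11884, e3 q11879 (flp_b L196931) q12327, e3 q11880 (flp_b L192614) q11274, e3 q11881 (flp_b L198195) q12478, e3 q11882 (flp_b L196943) q12328, e3 q11883 L192640 q11277, e3 q11884 L192650 q11878, e3 q11885 (flp_b L198233) q12482, e3 q11886 (flp_b L196953) q12329, e3 q11887 (flp_b L197756) q12424, e3 q11888 L192686 q11280, e3 q11889 (flp_b L198273)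 q12486, e3 q11890 (flp_b L198283) q12487, e3 q11891 (flp_b L196961) q12330, e3 q11892 (flp_b L197796) q12429, e3 q11893 L192718 q11284, e3 q11894 L192724 q11285, e3 q11895 (flp_b L198323) q12493, e3 q11896 (flp_b L198329) q12494, e3 q11897 (flp_b L193702) q11984, e3 q11898 (flp_b L196969) q12331, e3 q11899 L192750 q11291, e3 q11900 (flp_b L193502) q11965, e3 q11901 L192762 q11524, e3 q11902 (flp_b L198347) q12497, e3 q11903 (flp_b L197676) q12415, trivial⟩ (by decide +kernel)

theorem ce_b_186 : ∀ r, r < 64 → sm gb (Qf (11904 + r)) = Qf (tab Gen.b (11904 + r)) :=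
  edges_tab (sm gb) Qf (tab Gen.b) 11904 [(11904, 11295), (11905, 11715), (11906, 12436), (11907, 11302), (11908, 12502), (11909, 12438), (11910, 11572), (11911, 11385), (11912, 12505), (11913, 11314), (11914, 11782), (11915, 11315), (11916, 12511), (11917, 11820), (11918, 12514), (11919, 11799), (11920, 11313), (11921, 12518), (11922, 12507), (11923, 12510), (11924, 11316), (11925, 12372), (11926, 11400), (11927, 11575), (11928, 11559), (11929, 11325), (11930, 11696), (11931, 11584), (11932, 11702), (11933, 11587), (11934, 12524), (11935, 11574), (11936, 11409), (11937, 11335), (11938, 11340), (11939, 11795), (11940, 11796), (11941, 11341), (11942, 11464), (11943, 11612), (11944, 12085), (11945, 11818), (11946, 11334), (11947, 12540), (11948, 12531), (11949, 11467), (11950, 11621), (11951, 11339), (11952, 12546), (11953, 12532), (11954, 11345), (11955, 11640), (11956, 11555), (11957, 12548), (11958, 11441), (11959, 11594), (11960, 11351), (11961, 11751), (11962, 11767), (11963, 11465),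 (11964, 11468), (11965, 11900), (11966, 11469), (11967, 11365)]
    ⟨e3 q11904 L192786 q11295, e3 q11905 L192792 q11715, e3 q11906 (flp_b L197852) q12436, e3 q11907 L192815 q11302, e3 q11908 (flp_b L198387) q12502, e3 q11909 (flp_b L197876) q12438, e3 q11910 L192846 q11572, e3 q11911 L192853 q11385, e3 q11912 L198422 q12505, e3 q11913 L192880 q11314, e3 q11914 L192892 q11782, e3 q11915 L192900 q11315, e3 q11916 L198486 q12511, e3 q11917 L192923 q11820, e3 q11918 L198527 q12514, e3 q11919 L192951 q11799, e3 q11920 (flp_b L192959) q11313, e3 q11921 (flp_b L198587) q12518, e3 q11922 (flp_b L198453) q12507, e3 q11923 (flp_b L198480) q12510, e3 q11924 (flp_b L192997) q11316, e3 q11925 (flp_b L197353) q12372, e3 q11926 L193034 q11400, e3 q11927 L193040 q11575, e3 q11928 L193054 q11559, e3 q11929 L193068 q11325, e3 q11930 L193088 q11696, e3 q11931 L193095 q11584, e3 q11932 L193109 q11702, e3 q11933 L193123 q11587, e3 q11934 (flp_b L198661) q12524, e3 q11935 L193145 q11574, e3 q11936 L193159 q11409,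 e3 q11937 L193171 q11335, e3 q11938 L193187 q11340, e3 q11939 L193201 q11795, e3 q11940 L193213 q11796, e3 q11941 L193223 q11341, e3 q11942 L193239 q11464, e3 q11943 L193246 q11612, e3 q11944 (flp_b L194774) q12085, e3 q11945 L193267 q11818, e3 q11946 (flp_b L193277) q11334, e3 q11947 (flp_b L198873) q12540, e3 q11948 (flp_b L198759) q12531, e3 q11949 L193308 q11467, e3 q11950 L193322 q11621, e3 q11951 L193334 q11339, e3 q11952 (flp_b L198934) q12546, e3 q11953 (flp_b L198775) q12532, e3 q11954 L193366 q11345, e3 q11955 L193380 q11640, e3 q11956 L193394 q11555, e3 q11957 (flp_b L198958) q12548, e3 q11958 L193416 q11441, e3 q11959 L193428 q11594, e3 q11960 L193438 q11351, e3 q11961 L193448 q11751, e3 q11962 L193460 q11767, e3 q11963 L193472 q11465, e3 q11964 L193488 q11468, e3 q11965 L193502 q11900, e3 q11966 L193514 q11469, e3 q11967 L193522 q11365, trivial⟩ (by decide +kernel)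

theorem ce_b_187 : ∀ r, r < 64 → sm gb (Qf (11968 + r)) = Qf (tab Gen.b (11968 + r)) :=
  edges_tab (sm gb) Qf (tab Gen.b) 11968 [(11968, 11370), (11969, 11373), (11970, 11377), (11971, 11815), (11972, 11816), (11973, 11817), (11974, 11567), (11975, 11876), (11976, 12557), (11977, 12347), (11978, 12363), (11979, 11497), (11980, 11369), (11981, 12568), (11982, 12558), (11983, 11570), (11984, 11897), (11985, 12559), (11986, 11506), (11987, 11376), (11988, 12573), (11989, 11841), (11990, 11528), (11991, 11383), (11992, 12575), (11993, 11865), (11994, 12504), (11995, 11391), (11996, 11397), (11997, 11398), (11998, 11698), (11999, 11585), (12000, 11390), (12001, 12582), (12002, 12578), (12003, 11568), (12004, 11744), (12005, 11761), (12006, 12517), (12007, 11396), (12008, 12591), (12009, 12579), (12010, 11772), (12011, 11529), (12012, 11408), (12013, 11403), (12014, 12594), (12015, 11822), (12016, 11406), (12017, 12598), (12018, 11832), (12019, 12530), (12020, 11422), (12021, 11627), (12022,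 11424), (12023, 11609), (12024, 11427), (12025, 11431), (12026, 11608), (12027, 11435), (12028, 12439), (12029, 12334), (12030, 11727), (12031, 12610)]
    ⟨e3 q11968 L193534 q11370, e3 q11969 L193544 q11373, e3 q11970 L193556 q11377, e3 q11971 L193568 q11815, e3 q11972 L193580 q11816, e3 q11973 L193590 q11817, e3 q11974 L193600 q11567, e3 q11975 L193612 q11876, e3 q11976 (flp_b L199088) q12557, e3 q11977 (flp_b L197123) q12347, e3 q11978 (flp_b L197273) q12363, e3 q11979 L193658 q11497, e3 q11980 L193662 q11369, e3 q11981 (flp_b L199216) q12568, e3 q11982 (flp_b L199100) q12558, e3 q11983 L193688 q11570, e3 q11984 L193702 q11897, e3 q11985 (flp_b L199112) q12559, e3 q11986 L193720 q11506, e3 q11987 L193732 q11376, e3 q11988 (flp_b L199276) q12573, e3 q11989 L193752 q11841, e3 q11990 L193763 q11528, e3 q11991 L193777 q11383, e3 q11992 (flp_b L199304) q12575, e3 q11993 L193799 q11865, e3 q11994 (flp_b L198412) q12504, e3 q11995 L193823 q11391, e3 q11996 L193837 q11397, e3 q11997 L193849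 q11398, e3 q11998 L193867 q11698, e3 q11999 L193874 q11585, e3 q12000 (flp_b L193882) q11390, e3 q12001 (flp_b L199398) q12582, e3 q12002 (flp_b L199346) q12578, e3 q12003 L193907 q11568, e3 q12004 L193921 q11744, e3 q12005 L193931 q11761, e3 q12006 (flp_b L198583) q12517, e3 q12007 L193951 q11396, e3 q12008 (flp_b L199481) q12591, e3 q12009 (flp_b L199360) q12579, e3 q12010 L193971 q11772, e3 q12011 L193983 q11529, e3 q12012 L193999 q11408, e3 q12013 (flp_b L194011) q11403, e3 q12014 (flp_b L199514) q12594, e3 q12015 L194034 q11822, e3 q12016 L194044 q11406, e3 q12017 (flp_b L199551) q12598, e3 q12018 L194066 q11832, e3 q12019 (flp_b L198745) q12530, e3 q12020 L194092 q11422, e3 q12021 (flp_b L194110) q11627, e3 q12022 L194116 q11424, e3 q12023 L194130 q11609, e3 q12024 L194144 q11427, e3 q12025 L194152 q11431, e3 q12026 L194164 q11608, e3 q12027 L194176 q11435, e3 q12028 (flp_b L197886) q12439, e3 q12029 (flp_b L197007) q12334, e3 q12030 L194201 q11727, e3 q12031 L199687 q12610, trivial⟩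 (by decide +kernel)

theorem ce_b_188 : ∀ r, r < 64 → sm gb (Qf (12032 + r)) = Qf (tab Gen.b (12032 + r)) :=
  edges_tab (sm gb) Qf (tab Gen.b) 12032 [(12032, 12333), (12033, 11421), (12034, 12613), (12035, 12600), (12036, 11423), (12037, 12618), (12038, 12602), (12039, 11473), (12040, 11426), (12041, 12623), (12042, 12624), (12043, 12604), (12044, 11734), (12045, 11430), (12046, 12628), (12047, 12605), (12048, 11482), (12049, 11434), (12050, 12631), (12051, 11542), (12052, 11519), (12053, 11563), (12054, 11520), (12055, 12551), (12056, 11442), (12057, 12636), (12058, 11453), (12059, 11445), (12060, 12640), (12061, 11461), (12062, 11689), (12063, 11449), (12064, 12643), (12065, 11802), (12066, 11726), (12067, 11452), (12068, 12648), (12069, 12639), (12070, 11692), (12071, 11456), (12072, 11733), (12073, 12651), (12074, 11805), (12075, 11460), (12076, 12654), (12077, 11708), (12078, 12209), (12079, 11644), (12080, 12536), (12081, 12554), (12082, 11713), (12083, 12544), (12084, 12555), (12085,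 11944), (12086, 11487), (12087, 11842), (12088, 11488), (12089, 12617), (12090, 11490), (12091, 12622), (12092, 11493), (12093, 11475), (12094, 12672), (12095, 11496)]
    ⟨e3 q12032 (flp_b L196995) q12333, e3 q12033 (flp_b L194230) q11421, e3 q12034 (flp_b L199726) q12613, e3 q12035 (flp_b L199577) q12600, e3 q12036 (flp_b L194255) q11423, e3 q12037 (flp_b L199768) q12618, e3 q12038 (flp_b L199603) q12602, e3 q12039 L194289 q11473, e3 q12040 L194293 q11426, e3 q12041 (flp_b L199809) q12623, e3 q12042 (flp_b L199816) q12624, e3 q12043 (flp_b L199627) q12604, e3 q12044 L194318 q11734, e3 q12045 L194330 q11430, e3 q12046 (flp_b L199852) q12628, e3 q12047 (flp_b L199637) q12605, e3 q12048 L194360 q11482, e3 q12049 L194372 q11434, e3 q12050 (flp_b L199886) q12631, e3 q12051 L194390 q11542, e3 q12052 L194402 q11519, e3 q12053 L194412 q11563, e3 q12054 L194424 q11520, e3 q12055 (flp_b L199002) q12551, e3 q12056 (flp_b L194450) q11442, e3 q12057 (flp_b L199947) q12636, e3 q12058 L194477 q11453,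 e3 q12059 L194489 q11445, e3 q12060 (flp_b L199994) q12640, e3 q12061 L194515 q11461, e3 q12062 L194529 q11689, e3 q12063 (flp_b L194537) q11449, e3 q12064 (flp_b L200034) q12643, e3 q12065 L194565 q11802, e3 q12066 L194583 q11726, e3 q12067 L194587 q11452, e3 q12068 (flp_b L200084) q12648, e3 q12069 (flp_b L199980) q12639, e3 q12070 L194609 q11692, e3 q12071 L194623 q11456, e3 q12072 L194637 q11733, e3 q12073 (flp_b L200116) q12651, e3 q12074 L194661 q11805, e3 q12075 L194671 q11460, e3 q12076 (flp_b L200154) q12654, e3 q12077 L194687 q11708, e3 q12078 (flp_b L195897) q12209, e3 q12079 L194708 q11644, e3 q12080 (flp_b L198827) q12536, e3 q12081 (flp_b L199044) q12554, e3 q12082 L194738 q11713, e3 q12083 (flp_b L198906) q12544, e3 q12084 (flp_b L199060) q12555, e3 q12085 L194774 q11944, e3 q12086 L194779 q11487, e3 q12087 L194797 q11842, e3 q12088 L194804 q11488, e3 q12089 (flp_b L199764) q12617, e3 q12090 L194823 q11490, e3 q12091 (flp_b L199799) q12622, e3 q12092 L194837 q11493, e3 q12093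 (flp_b L194843) q11475, e3 q12094 (flp_b L200328) q12672, e3 q12095 L194860 q11496, trivial⟩ (by decide +kernel)

theorem ce_b_189 : ∀ r, r < 64 → sm gb (Qf (12096 + r)) = Qf (tab Gen.b (12096 + r)) :=
  edges_tab (sm gb) Qf (tab Gen.b) 12096 [(12096, 11478), (12097, 12676), (12098, 12677), (12099, 11501), (12100, 11812), (12101, 11502), (12102, 11592), (12103, 12630), (12104, 11505), (12105, 11485), (12106, 12685), (12107, 12664), (12108, 12666), (12109, 11489), (12110, 12688), (12111, 12668), (12112, 11492), (12113, 12691), (12114, 12671), (12115, 12332), (12116, 11495), (12117, 12694), (12118, 12695), (12119, 12675), (12120, 12567), (12121, 11499), (12122, 11500), (12123, 12702), (12124, 12703), (12125, 12681), (12126, 11504), (12127, 12705), (12128, 12572), (12129, 11508), (12130, 12283), (12131, 11769), (12132, 11515), (12133, 12709), (12134, 12256), (12135, 11844), (12136, 11590), (12137, 12634), (12138, 11582), (12139, 11523), (12140, 12499), (12141, 11576), (12142, 11610), (12143,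 12574), (12144, 12462), (12145, 11638), (12146, 11535), (12147, 12442), (12148, 12717), (12149, 12708), (12150, 11656), (12151, 12244), (12152, 11657), (12153, 12593), (12154, 11547), (12155, 11540), (12156, 12727), (12157, 11550), (12158, 12632), (12159, 12633)]
    ⟨e3 q12096 L194866 q11478, e3 q12097 (flp_b L200355) q12676, e3 q12098 (flp_b L200362) q12677, e3 q12099 L194883 q11501, e3 q12100 L194891 q11812, e3 q12101 L194905 q11502, e3 q12102 L194917 q11592, e3 q12103 (flp_b L199874) q12630, e3 q12104 L194935 q11505, e3 q12105 L194943 q11485, e3 q12106 (flp_b L200440) q12685, e3 q12107 (flp_b L200255) q12664, e3 q12108 (flp_b L200281) q12666, e3 q12109 (flp_b L194965) q11489, e3 q12110 (flp_b L200464) q12688, e3 q12111 (flp_b L200299) q12668, e3 q12112 L194993 q11492, e3 q12113 (flp_b L200488) q12691, e3 q12114 (flp_b L200320) q12671, e3 q12115 L196989 q12332, e3 q12116 L195023 q11495, e3 q12117 (flp_b L200510) q12694, e3 q12118 (flp_b L200520) q12695, e3 q12119 (flp_b L200349) q12675,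 e3 q12120 (flp_b L199206) q12567, e3 q12121 L195057 q11499, e3 q12122 L195065 q11500, e3 q12123 (flp_b L200578) q12702, e3 q12124 (flp_b L200586) q12703, e3 q12125 (flp_b L200396) q12681, e3 q12126 L195091 q11504, e3 q12127 (flp_b L200600) q12705, e3 q12128 (flp_b L199264) q12572, e3 q12129 L195113 q11508, e3 q12130 (flp_b L196583) q12283, e3 q12131 L195127 q11769, e3 q12132 L195137 q11515, e3 q12133 (flp_b L200639) q12709, e3 q12134 (flp_b L196327) q12256, e3 q12135 L195166 q11844, e3 q12136 L195173 q11590, e3 q12137 (flp_b L199919) q12634, e3 q12138 L195202 q11582, e3 q12139 L195214 q11523, e3 q12140 (flp_b L198359) q12499, e3 q12141 L195240 q11576, e3 q12142 L195248 q11610, e3 q12143 (flp_b L199288) q12574, e3 q12144 (flp_b L198083) q12462, e3 q12145 L195286 q11638, e3 q12146 L195298 q11535, e3 q12147 (flp_b L197912) q12442, e3 q12148 (flp_b L200735) q12717, e3 q12149 (flp_b L200634) q12708, e3 q12150 L195337 q11656, e3 q12151 (flp_b L196214) q12244, e3 q12152 L195361 q11657, e3 q12153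 (flp_b L199499) q12593, e3 q12154 L195384 q11547, e3 q12155 (flp_b L195390) q11540, e3 q12156 (flp_b L200841) q12727, e3 q12157 L195405 q11550, e3 q12158 (flp_b L199896) q12632, e3 q12159 (flp_b L199907) q12633, trivial⟩ (by decide +kernel)

theorem ce_b_190 : ∀ r, r < 64 → sm gb (Qf (12160 + r)) = Qf (tab Gen.b (12160 + r)) :=
  edges_tab (sm gb) Qf (tab Gen.b) 12160 [(12160, 11551), (12161, 11677), (12162, 12452), (12163, 11546), (12164, 12736), (12165, 12725), (12166, 11681), (12167, 11549), (12168, 12741), (12169, 12730), (12170, 11685), (12171, 11553), (12172, 12743), (12173, 12550), (12174, 11642), (12175, 11558), (12176, 12523), (12177, 11693), (12178, 11569), (12179, 11571), (12180, 12635), (12181, 12182), (12182, 12181), (12183, 12562), (12184, 12586), (12185, 12746), (12186, 12570), (12187, 12503), (12188, 12253), (12189, 12529), (12190, 12522), (12191, 11700), (12192, 11586), (12193, 11704), (12194, 11588), (12195, 11831), (12196, 11821), (12197, 12712), (12198, 12526), (12199,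 12581), (12200, 12757), (12201, 12528), (12202, 12711), (12203, 11729), (12204, 12683), (12205, 11732), (12206, 12682), (12207, 11737), (12208, 12552), (12209, 12078), (12210, 11611), (12211, 11864), (12212, 11613), (12213, 11866), (12214, 11615), (12215, 11868), (12216, 11617), (12217, 11870), (12218, 11871), (12219, 11620), (12220, 11873), (12221, 11623), (12222, 11875), (12223, 12606)]
    ⟨e3 q12160 L195420 q11551, e3 q12161 L195428 q11677, e3 q12162 (flp_b L197989) q12452, e3 q12163 (flp_b L195446) q11546, e3 q12164 (flp_b L200910) q12736, e3 q12165 (flp_b L200822) q12725, e3 q12166 L195474 q11681, e3 q12167 L195478 q11549, e3 q12168 (flp_b L200948) q12741, e3 q12169 (flp_b L200860) q12730, e3 q12170 L195505 q11685, e3 q12171 L195513 q11553, e3 q12172 (flp_b L200966) q12743, e3 q12173 (flp_b L198988) q12550, e3 q12174 L195542 q11642, e3 q12175 L195552 q11558, e3 q12176 (flp_b L198647) q12523, e3 q12177 L195572 q11693, e3 q12178 L195580 q11569, e3 q12179 L195588 q11571, e3 q12180 (flp_b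 L199931) q12635, e3 q12181 (flp_b L195618) q12182, e3 q12182 L195618 q12181, e3 q12183 (flp_b L199154) q12562, e3 q12184 (flp_b L199427) q12586, e3 q12185 (flp_b L200998) q12746, e3 q12186 (flp_b L199236) q12570, e3 q12187 (flp_b L198398) q12503, e3 q12188 (flp_b L196289) q12253, e3 q12189 (flp_b L198731) q12529, e3 q12190 (flp_b L198631) q12522, e3 q12191 L195706 q11700, e3 q12192 L195718 q11586, e3 q12193 L195726 q11704, e3 q12194 L195736 q11588, e3 q12195 L195748 q11831, e3 q12196 L195758 q11821, e3 q12197 (flp_b L200674) q12712, e3 q12198 (flp_b L198689) q12526, e3 q12199 (flp_b L199388) q12581, e3 q12200 (flp_b L201112) q12757, e3 q12201 (flp_b L198717) q12528, e3 q12202 (flp_b L200659) q12711, e3 q12203 L195831 q11729, e3 q12204 (flp_b L200424) q12683, e3 q12205 L195853 q11732, e3 q12206 (flp_b L200410) q12682, e3 q12207 L195871 q11737, e3 q12208 (flp_b L199016) q12552, e3 q12209 L195897 q12078, e3 q12210 L195904 q11611, e3 q12211 L195924 q11864, e3 q12212 L195931 q11613, e3 q12213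 L195943 q11866, e3 q12214 L195951 q11615, e3 q12215 L195959 q11868, e3 q12216 L195969 q11617, e3 q12217 L195975 q11870, e3 q12218 L195980 q11871, e3 q12219 L195988 q11620, e3 q12220 L195994 q11873, e3 q12221 L196004 q11623, e3 q12222 L196010 q11875, e3 q12223 (flp_b L199651) q12606, trivial⟩ (by decide +kernel)

theorem ce_b_191 : ∀ r, r < 64 → sm gb (Qf (12224 + r)) = Qf (tab Gen.b (12224 + r)) :=
  edges_tab (sm gb) Qf (tab Gen.b) 12224 [(12224, 12603), (12225, 12601), (12226, 12771), (12227, 12537), (12228, 12773), (12229, 11867), (12230, 12776), (12231, 11847), (12232, 11869), (12233, 12779), (12234, 11850), (12235, 11872), (12236, 12545), (12237, 11874), (12238, 11819), (12239, 11632), (12240, 12351), (12241, 12367), (12242, 12461), (12243, 11646), (12244, 12151), (12245, 11647), (12246, 12715), (12247, 12716), (12248, 11648), (12249, 12549), (12250, 11649), (12251, 12744), (12252, 12657), (12253, 12188), (12254, 12795), (12255, 12798), (12256, 12134), (12257, 11651), (12258, 12805),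 (12259, 11859), (12260, 12276), (12261, 12720), (12262, 12723), (12263, 11670), (12264, 12810), (12265, 11672), (12266, 11660), (12267, 12814), (12268, 11675), (12269, 11680), (12270, 12707), (12271, 11664), (12272, 12820), (12273, 11684), (12274, 12298), (12275, 12823), (12276, 12260), (12277, 11669), (12278, 12826), (12279, 12809), (12280, 11671), (12281, 12831), (12282, 12812), (12283, 12130), (12284, 11674), (12285, 12835), (12286, 12817), (12287, 12291)]
    ⟨e3 q12224 (flp_b L199615) q12603, e3 q12225 (flp_b L199587) q12601, e3 q12226 (flp_b L201267) q12771, e3 q12227 (flp_b L198839) q12537, e3 q12228 (flp_b L201295) q12773, e3 q12229 L196056 q11867, e3 q12230 (flp_b L201322) q12776, e3 q12231 L196078 q11847, e3 q12232 L196090 q11869, e3 q12233 (flp_b L201347) q12779, e3 q12234 L196108 q11850, e3 q12235 L196120 q11872, e3 q12236 (flp_b L198920) q12545, e3 q12237 L196138 q11874, e3 q12238 L196150 q11819, e3 q12239 L196160 q11632, e3 q12240 (flp_b L197163) q12351, e3 q12241 (flp_b L197305)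 q12367, e3 q12242 (flp_b L198071) q12461, e3 q12243 L196202 q11646, e3 q12244 L196214 q12151, e3 q12245 L196228 q11647, e3 q12246 (flp_b L200716) q12715, e3 q12247 (flp_b L200725) q12716, e3 q12248 L196251 q11648, e3 q12249 (flp_b L198974) q12549, e3 q12250 L196265 q11649, e3 q12251 (flp_b L200978) q12744, e3 q12252 (flp_b L200186) q12657, e3 q12253 L196289 q12188, e3 q12254 (flp_b L201496) q12795, e3 q12255 (flp_b L201537) q12798, e3 q12256 L196327 q12134, e3 q12257 L196331 q11651, e3 q12258 (flp_b L201607) q12805, e3 q12259 L196351 q11859, e3 q12260 (flp_b L196525) q12276, e3 q12261 (flp_b L200767) q12720, e3 q12262 (flp_b L200798) q12723, e3 q12263 L196389 q11670, e3 q12264 L201655 q12810, e3 q12265 L196414 q11672, e3 q12266 (flp_b L196424) q11660, e3 q12267 (flp_b L201705) q12814, e3 q12268 L196443 q11675, e3 q12269 L196451 q11680, e3 q12270 (flp_b L200620) q12707, e3 q12271 L196471 q11664, e3 q12272 (flp_b L201758) q12820, e3 q12273 L196487 q11684, e3 q12274 (flp_b L196680) q12298,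 e3 q12275 L201784 q12823, e3 q12276 L196525 q12260, e3 q12277 (flp_b L196535) q11669, e3 q12278 (flp_b L201826) q12826, e3 q12279 (flp_b L201647) q12809, e3 q12280 (flp_b L196559) q11671, e3 q12281 (flp_b L201866) q12831, e3 q12282 (flp_b L201684) q12812, e3 q12283 L196583 q12130, e3 q12284 L196587 q11674, e3 q12285 (flp_b L201894) q12835, e3 q12286 (flp_b L201728) q12817, e3 q12287 (flp_b L196637) q12291, trivial⟩ (by decide +kernel)

theorem ce_b_192 : ∀ r, r < 64 → sm gb (Qf (12288 + r)) = Qf (tab Gen.b (12288 + r)) :=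
  edges_tab (sm gb) Qf (tab Gen.b) 12288 [(12288, 12733), (12289, 12735), (12290, 11679), (12291, 12287), (12292, 12839), (12293, 12818), (12294, 12740), (12295, 11683), (12296, 12843), (12297, 12844), (12298, 12274), (12299, 11688), (12300, 12847), (12301, 12642), (12302, 11691), (12303, 12851), (12304, 12650), (12305, 12440), (12306, 11707), (12307, 11709), (12308, 12525), (12309, 11710), (12310, 12580), (12311, 11711), (12312, 12755), (12313, 12756), (12314, 11712), (12315, 12527), (12316, 11714), (12317, 12758), (12318, 12418), (12319, 12854), (12320, 12655), (12321, 12855), (12322, 12858), (12323, 12861), (12324, 12661), (12325, 12479), (12326, 11877), (12327, 11879), (12328, 11882), (12329, 11886), (12330, 11891), (12331, 11898), (12332, 12115), (12333, 12032), (12334, 12029), (12335, 12647), (12336, 12609), (12337, 11728), (12338, 12878), (12339, 12765), (12340, 11731), (12341, 12881), (12342, 12768), (12343, 12652), (12344, 12627), (12345, 11736), (12346, 12884), (12347, 11977),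 (12348, 11756), (12349, 11757), (12350, 11758), (12351, 12240)]
    ⟨e3 q12288 (flp_b L200878) q12733, e3 q12289 (flp_b L200906) q12735, e3 q12290 L196631 q11679, e3 q12291 L196637 q12287, e3 q12292 (flp_b L201926) q12839, e3 q12293 (flp_b L201738) q12818, e3 q12294 (flp_b L200938) q12740, e3 q12295 L196659 q11683, e3 q12296 (flp_b L201950) q12843, e3 q12297 L201952 q12844, e3 q12298 L196680 q12274, e3 q12299 (flp_b L196690) q11688, e3 q12300 (flp_b L201995) q12847, e3 q12301 (flp_b L200022) q12642, e3 q12302 L196723 q11691, e3 q12303 (flp_b L202030) q12851, e3 q12304 (flp_b L200100) q12650, e3 q12305 (flp_b L197893) q12440, e3 q12306 L196766 q11707, e3 q12307 L196778 q11709, e3 q12308 (flp_b L198675) q12525, e3 q12309 L196796 q11710, e3 q12310 (flp_b L199374) q12580, e3 q12311 L196814 q11711, e3 q12312 (flp_b L201093) q12755, e3 q12313 (flp_b L201102) q12756, e3 q12314 L196833 q11712, e3 q12315 (flp_b L198703) q12527, e3 q12316 L196849 q11714, e3 q12317 (flp_b L201122) q12758, e3 q12318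 (flp_b L197692) q12418, e3 q12319 (flp_b L202064) q12854, e3 q12320 (flp_b L200164) q12655, e3 q12321 (flp_b L202076) q12855, e3 q12322 (flp_b L202099) q12858, e3 q12323 (flp_b L202122) q12861, e3 q12324 (flp_b L200221) q12661, e3 q12325 (flp_b L198207) q12479, e3 q12326 L196923 q11877, e3 q12327 L196931 q11879, e3 q12328 L196943 q11882, e3 q12329 L196953 q11886, e3 q12330 L196961 q11891, e3 q12331 L196969 q11898, e3 q12332 (flp_b L196989) q12115, e3 q12333 L196995 q12032, e3 q12334 L197007 q12029, e3 q12335 (flp_b L200074) q12647, e3 q12336 (flp_b L199679) q12609, e3 q12337 (flp_b L197035) q11728, e3 q12338 (flp_b L202294) q12878, e3 q12339 (flp_b L201204) q12765, e3 q12340 L197065 q11731, e3 q12341 (flp_b L202324) q12881, e3 q12342 (flp_b L201233) q12768, e3 q12343 (flp_b L200130) q12652, e3 q12344 (flp_b L199838) q12627, e3 q12345 L197109 q11736, e3 q12346 (flp_b L202352) q12884, e3 q12347 L197123 q11977, e3 q12348 L197135 q11756, e3 q12349 L197143 q11757, e3 q12350 L197153 q11758, e3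 q12351 L197163 q12240, trivial⟩ (by decide +kernel)

theorem ce_b_193 : ∀ r, r < 64 → sm gb (Qf (12352 + r)) = Qf (tab Gen.b (12352 + r)) :=
  edges_tab (sm gb) Qf (tab Gen.b) 12352 [(12352, 11760), (12353, 12587), (12354, 12588), (12355, 11762), (12356, 11747), (12357, 11748), (12358, 12892), (12359, 12893), (12360, 11766), (12361, 12553), (12362, 11754), (12363, 11978), (12364, 12886), (12365, 12887), (12366, 12888), (12367, 12241), (12368, 12589), (12369, 11765), (12370, 12457), (12371, 11776), (12372, 11925), (12373, 11780), (12374, 12897), (12375, 11790), (12376, 12508), (12377, 12509), (12378, 11791), (12379, 11784), (12380, 12905), (12381, 12384), (12382, 11786), (12383, 12910), (12384, 12381), (12385, 11856), (12386, 11789), (12387, 12915), (12388, 12900), (12389, 11860), (12390, 11793), (12391, 12917), (12392, 12533), (12393, 12534), (12394, 12535), (12395, 11798), (12396, 12921), (12397, 12516), (12398, 11801), (12399, 12925), (12400, 12926), (12401, 12646), (12402, 11804), (12403,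 12929), (12404, 11806), (12405, 12930), (12406, 11825), (12407, 11809), (12408, 12934), (12409, 12935), (12410, 11830), (12411, 11813), (12412, 12680), (12413, 12665), (12414, 12939), (12415, 11903)]
    ⟨e3 q12352 L197175 q11760, e3 q12353 (flp_b L199439) q12587, e3 q12354 (flp_b L199451) q12588, e3 q12355 L197201 q11762, e3 q12356 L197211 q11747, e3 q12357 L197221 q11748, e3 q12358 (flp_b L202434) q12892, e3 q12359 (flp_b L202444) q12893, e3 q12360 L197249 q11766, e3 q12361 (flp_b L199030) q12553, e3 q12362 L197263 q11754, e3 q12363 L197273 q11978, e3 q12364 (flp_b L202372) q12886, e3 q12365 (flp_b L202380) q12887, e3 q12366 (flp_b L202392) q12888, e3 q12367 L197305 q12241, e3 q12368 (flp_b L199461) q12589, e3 q12369 L197323 q11765, e3 q12370 (flp_b L198041) q12457, e3 q12371 (flp_b L197335) q11776, e3 q12372 L197353 q11925, e3 q12373 (flp_b L197355) q11780, e3 q12374 (flp_b L202491) q12897, e3 q12375 L197370 q11790, e3 q12376 (flp_b L198465) q12508, e3 q12377 (flp_b L198470) q12509,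 e3 q12378 L197391 q11791, e3 q12379 (flp_b L197397) q11784, e3 q12380 (flp_b L202548) q12905, e3 q12381 (flp_b L197448) q12384, e3 q12382 (flp_b L197422) q11786, e3 q12383 (flp_b L202595) q12910, e3 q12384 L197448 q12381, e3 q12385 L197464 q11856, e3 q12386 L197468 q11789, e3 q12387 (flp_b L202649) q12915, e3 q12388 (flp_b L202512) q12900, e3 q12389 L197496 q11860, e3 q12390 L197504 q11793, e3 q12391 (flp_b L202665) q12917, e3 q12392 (flp_b L198791) q12533, e3 q12393 (flp_b L198805) q12534, e3 q12394 (flp_b L198815) q12535, e3 q12395 (flp_b L197538) q11798, e3 q12396 (flp_b L202693) q12921, e3 q12397 (flp_b L198559) q12516, e3 q12398 L197565 q11801, e3 q12399 (flp_b L202726) q12925, e3 q12400 (flp_b L202731) q12926, e3 q12401 (flp_b L200064) q12646, e3 q12402 L197590 q11804, e3 q12403 (flp_b L202751) q12929, e3 q12404 (flp_b L197602) q11806, e3 q12405 (flp_b L202757) q12930, e3 q12406 L197617 q11825, e3 q12407 L197625 q11809, e3 q12408 (flp_b L202786) q12934, e3 q12409 (flp_b L202791) q12935,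 e3 q12410 L197644 q11830, e3 q12411 L197652 q11813, e3 q12412 (flp_b L200382) q12680, e3 q12413 (flp_b L200269) q12665, e3 q12414 (flp_b L202818) q12939, e3 q12415 L197676 q11903, trivial⟩ (by decide +kernel)

theorem ce_b_194 : ∀ r, r < 64 → sm gb (Qf (12416 + r)) = Qf (tab Gen.b (12416 + r)) :=
  edges_tab (sm gb) Qf (tab Gen.b) 12416 [(12416, 12560), (12417, 12561), (12418, 12318), (12419, 12539), (12420, 12761), (12421, 12513), (12422, 12760), (12423, 12597), (12424, 11887), (12425, 11824), (12426, 12952), (12427, 12953), (12428, 12933), (12429, 11892), (12430, 11828), (12431, 11829), (12432, 12957), (12433, 12958), (12434, 12759), (12435, 11835), (12436, 11906), (12437, 11838), (12438, 11909), (12439, 12028), (12440, 12305), (12441, 12701), (12442, 12147), (12443, 11846), (12444, 12965), (12445, 12789), (12446, 12904), (12447, 11849), (12448, 12970), (12449, 12971), (12450, 12791), (12451, 12455), (12452, 12162), (12453, 12909), (12454, 11854), (12455, 12451), (12456, 12977), (12457,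 12370), (12458, 12914), (12459, 11858), (12460, 12981), (12461, 12242), (12462, 12144), (12463, 12772), (12464, 12576), (12465, 12774), (12466, 12775), (12467, 12788), (12468, 12777), (12469, 12778), (12470, 12790), (12471, 12780), (12472, 12781), (12473, 12782), (12474, 12563), (12475, 12870), (12476, 12483), (12477, 12871), (12478, 11881), (12479, 12325)]
    ⟨e3 q12416 (flp_b L199128) q12560, e3 q12417 (flp_b L199142) q12561, e3 q12418 L197692 q12318, e3 q12419 (flp_b L198861) q12539, e3 q12420 (flp_b L201158) q12761, e3 q12421 (flp_b L198517) q12513, e3 q12422 (flp_b L201146) q12760, e3 q12423 (flp_b L199539) q12597, e3 q12424 L197756 q11887, e3 q12425 L197760 q11824, e3 q12426 (flp_b L202928) q12952, e3 q12427 (flp_b L202938) q12953, e3 q12428 (flp_b L202778) q12933, e3 q12429 L197796 q11892, e3 q12430 L197802 q11828, e3 q12431 L197812 q11829, e3 q12432 (flp_b L202976) q12957, e3 q12433 (flp_b L202986) q12958, e3 q12434 (flp_b L201134) q12759, e3 q12435 L197846 q11835, e3 q12436 L197852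 q11906, e3 q12437 L197864 q11838, e3 q12438 L197876 q11909, e3 q12439 L197886 q12028, e3 q12440 L197893 q12305, e3 q12441 (flp_b L200574) q12701, e3 q12442 L197912 q12147, e3 q12443 (flp_b L197920) q11846, e3 q12444 (flp_b L203060) q12965, e3 q12445 (flp_b L201429) q12789, e3 q12446 (flp_b L202544) q12904, e3 q12447 L197954 q11849, e3 q12448 (flp_b L203101) q12970, e3 q12449 (flp_b L203108) q12971, e3 q12450 (flp_b L201455) q12791, e3 q12451 (flp_b L198021) q12455, e3 q12452 L197989 q12162, e3 q12453 (flp_b L202591) q12909, e3 q12454 L198011 q11854, e3 q12455 L198021 q12451, e3 q12456 (flp_b L203162) q12977, e3 q12457 L198041 q12370, e3 q12458 (flp_b L202643) q12914, e3 q12459 L198057 q11858, e3 q12460 (flp_b L203198) q12981, e3 q12461 L198071 q12242, e3 q12462 L198083 q12144, e3 q12463 (flp_b L201281) q12772, e3 q12464 (flp_b L199320) q12576, e3 q12465 (flp_b L201307) q12774, e3 q12466 (flp_b L201312) q12775, e3 q12467 (flp_b L201415) q12788, e3 q12468 (flp_b L201330) q12777, e3 q12469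 (flp_b L201337) q12778, e3 q12470 (flp_b L201441) q12790, e3 q12471 (flp_b L201353) q12780, e3 q12472 (flp_b L201359) q12781, e3 q12473 (flp_b L201367) q12782, e3 q12474 (flp_b L199166) q12563, e3 q12475 (flp_b L202194) q12870, e3 q12476 (flp_b L198245) q12483, e3 q12477 (flp_b L202204) q12871, e3 q12478 L198195 q11881, e3 q12479 L198207 q12325, trivial⟩ (by decide +kernel)

theorem ce_b_195 : ∀ r, r < 64 → sm gb (Qf (12480 + r)) = Qf (tab Gen.b (12480 + r)) :=
  edges_tab (sm gb) Qf (tab Gen.b) 12480 [(12480, 12997), (12481, 12872), (12482, 11885), (12483, 12476), (12484, 13000), (12485, 12951), (12486, 11889), (12487, 11890), (12488, 13004), (12489, 13005), (12490, 13006), (12491, 12956), (12492, 12944), (12493, 11895), (12494, 11896), (12495, 13011), (12496, 12571), (12497, 11902), (12498, 12556), (12499, 12140), (12500, 12943), (12501, 12960), (12502, 11908), (12503, 12187), (12504, 11994), (12505, 11912), (12506, 13017), (12507, 11922), (12508, 12376), (12509, 12377), (12510, 11923),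 (12511, 11916), (12512, 13024), (12513, 12421), (12514, 11918), (12515, 13028), (12516, 12397), (12517, 12006), (12518, 11921), (12519, 13033), (12520, 13020), (12521, 12830), (12522, 12190), (12523, 12176), (12524, 11934), (12525, 12308), (12526, 12198), (12527, 12315), (12528, 12201), (12529, 12189), (12530, 12019), (12531, 11948), (12532, 11953), (12533, 12392), (12534, 12393), (12535, 12394), (12536, 12080), (12537, 12227), (12538, 12663), (12539, 12419), (12540, 11947), (12541, 13051), (12542, 13052), (12543, 13042)]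
    ⟨e3 q12480 (flp_b L203326) q12997, e3 q12481 (flp_b L202218) q12872, e3 q12482 L198233 q11885, e3 q12483 L198245 q12476, e3 q12484 (flp_b L203360) q13000, e3 q12485 (flp_b L202922) q12951, e3 q12486 L198273 q11889, e3 q12487 L198283 q11890, e3 q12488 (flp_b L203406) q13004, e3 q12489 (flp_b L203418) q13005, e3 q12490 (flp_b L203426) q13006, e3 q12491 (flp_b L202966) q12956, e3 q12492 (flp_b L202854) q12944, e3 q12493 L198323 q11895, e3 q12494 L198329 q11896, e3 q12495 (flp_b L203462) q13011, e3 q12496 (flp_b L199252) q12571, e3 q12497 L198347 q11902, e3 q12498 (flp_b L199076) q12556, e3 q12499 L198359 q12140, e3 q12500 (flp_b L202846) q12943, e3 q12501 (flp_b L203008) q12960, e3 q12502 L198387 q11908, e3 q12503 L198398 q12187, e3 q12504 L198412 q11994, e3 q12505 (flp_b L198422) q11912, e3 q12506 (flp_b L203542) q13017, e3 q12507 L198453 q11922, e3 q12508 L198465 q12376, e3 q12509 L198470 q12377, e3 q12510 L198480 q11923, e3 q12511 (flp_b L198486) q11916, e3 q12512 (flp_b L203622) q13024,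 e3 q12513 L198517 q12421, e3 q12514 (flp_b L198527) q11918, e3 q12515 (flp_b L203677) q13028, e3 q12516 L198559 q12397, e3 q12517 L198583 q12006, e3 q12518 L198587 q11921, e3 q12519 (flp_b L203743) q13033, e3 q12520 (flp_b L203579) q13020, e3 q12521 (flp_b L201862) q12830, e3 q12522 L198631 q12190, e3 q12523 L198647 q12176, e3 q12524 L198661 q11934, e3 q12525 L198675 q12308, e3 q12526 L198689 q12198, e3 q12527 L198703 q12315, e3 q12528 L198717 q12201, e3 q12529 L198731 q12189, e3 q12530 L198745 q12019, e3 q12531 L198759 q11948, e3 q12532 L198775 q11953, e3 q12533 L198791 q12392, e3 q12534 L198805 q12393, e3 q12535 L198815 q12394, e3 q12536 L198827 q12080, e3 q12537 L198839 q12227, e3 q12538 (flp_b L200243) q12663, e3 q12539 L198861 q12419, e3 q12540 L198873 q11947, e3 q12541 (flp_b L203991) q13051, e3 q12542 (flp_b L204002) q13052, e3 q12543 (flp_b L203873) q13042, trivial⟩ (by decide +kernel)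

theorem ce_b_196 : ∀ r, r < 64 → sm gb (Qf (12544 + r)) = Qf (tab Gen.b (12544 + r)) :=
  edges_tab (sm gb) Qf (tab Gen.b) 12544 [(12544, 12083), (12545, 12236), (12546, 11952), (12547, 13056), (12548, 11957), (12549, 12249), (12550, 12173), (12551, 12055), (12552, 12208), (12553, 12361), (12554, 12081), (12555, 12084), (12556, 12498), (12557, 11976), (12558, 11982), (12559, 11985), (12560, 12416), (12561, 12417), (12562, 12183), (12563, 12474), (12564, 13059), (12565, 12885), (12566, 12895), (12567, 12120), (12568, 11981), (12569, 13065), (12570, 12186), (12571, 12496), (12572, 12128), (12573, 11988), (12574, 12143), (12575, 11992), (12576, 12464), (12577, 13016), (12578, 12002), (12579, 12009), (12580, 12310), (12581, 12199), (12582, 12001), (12583, 13072), (12584, 13073), (12585, 13068), (12586, 12184), (12587, 12353), (12588, 12354), (12589, 12368), (12590, 13032), (12591, 12008), (12592, 13081), (12593, 12153), (12594, 12014), (12595, 13082), (12596, 13083), (12597, 12423), (12598,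 12017), (12599, 13086), (12600, 12035), (12601, 12225), (12602, 12038), (12603, 12224), (12604, 12043), (12605, 12047), (12606, 12223), (12607, 12920)]
    ⟨e3 q12544 L198906 q12083, e3 q12545 L198920 q12236, e3 q12546 L198934 q11952, e3 q12547 (flp_b L204046) q13056, e3 q12548 L198958 q11957, e3 q12549 L198974 q12249, e3 q12550 L198988 q12173, e3 q12551 L199002 q12055, e3 q12552 L199016 q12208, e3 q12553 L199030 q12361, e3 q12554 L199044 q12081, e3 q12555 L199060 q12084, e3 q12556 L199076 q12498, e3 q12557 L199088 q11976, e3 q12558 L199100 q11982, e3 q12559 L199112 q11985, e3 q12560 L199128 q12416, e3 q12561 L199142 q12417, e3 q12562 L199154 q12183, e3 q12563 L199166 q12474, e3 q12564 (flp_b L204096) q13059, e3 q12565 (flp_b L202360) q12885, e3 q12566 (flp_b L202470) q12895, e3 q12567 L199206 q12120, e3 q12568 L199216 q11981, e3 q12569 (flp_b L204174) q13065, e3 q12570 L199236 q12186, e3 q12571 L199252 q12496, e3 q12572 L199264 q12128, e3 q12573 L199276 q11988, e3 q12574 L199288 q12143,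 e3 q12575 L199304 q11992, e3 q12576 L199320 q12464, e3 q12577 (flp_b L203526) q13016, e3 q12578 L199346 q12002, e3 q12579 L199360 q12009, e3 q12580 L199374 q12310, e3 q12581 L199388 q12199, e3 q12582 L199398 q12001, e3 q12583 (flp_b L204277) q13072, e3 q12584 (flp_b L204286) q13073, e3 q12585 (flp_b L204222) q13068, e3 q12586 L199427 q12184, e3 q12587 L199439 q12353, e3 q12588 L199451 q12354, e3 q12589 L199461 q12368, e3 q12590 (flp_b L203729) q13032, e3 q12591 L199481 q12008, e3 q12592 (flp_b L204374) q13081, e3 q12593 L199499 q12153, e3 q12594 L199514 q12014, e3 q12595 (flp_b L204388) q13082, e3 q12596 (flp_b L204399) q13083, e3 q12597 L199539 q12423, e3 q12598 L199551 q12017, e3 q12599 (flp_b L204427) q13086, e3 q12600 L199577 q12035, e3 q12601 L199587 q12225, e3 q12602 L199603 q12038, e3 q12603 L199615 q12224, e3 q12604 L199627 q12043, e3 q12605 L199637 q12047, e3 q12606 L199651 q12223, e3 q12607 (flp_b L202685) q12920, trivial⟩ (by decide +kernel)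

theorem ce_b_197 : ∀ r, r < 64 → sm gb (Qf (12608 + r)) = Qf (tab Gen.b (12608 + r)) :=
  edges_tab (sm gb) Qf (tab Gen.b) 12608 [(12608, 12875), (12609, 12336), (12610, 12031), (12611, 13095), (12612, 12874), (12613, 12034), (12614, 13099), (12615, 13100), (12616, 13087), (12617, 12089), (12618, 12037), (12619, 13104), (12620, 13105), (12621, 13089), (12622, 12091), (12623, 12041), (12624, 12042), (12625, 13111), (12626, 13112), (12627, 12344), (12628, 12046), (12629, 13115), (12630, 12103), (12631, 12050), (12632, 12158), (12633, 12159), (12634, 12137), (12635, 12180), (12636, 12057), (12637, 13119), (12638, 13120), (12639, 12069), (12640, 12060), (12641, 13123), (12642, 12301), (12643, 12064), (12644, 12834), (12645, 13125), (12646, 12401), (12647, 12335), (12648, 12068), (12649, 13129), (12650, 12304), (12651, 12073), (12652, 12343), (12653, 13130), (12654, 12076), (12655, 12320), (12656, 12770), (12657, 12252), (12658, 13045), (12659, 13046), (12660, 13058), (12661, 12324), (12662,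 13055), (12663, 12538), (12664, 12107), (12665, 12413), (12666, 12108), (12667, 13103), (12668, 12111), (12669, 13109), (12670, 13110), (12671, 12114)]
    ⟨e3 q12608 (flp_b L202262) q12875, e3 q12609 L199679 q12336, e3 q12610 (flp_b L199687) q12031, e3 q12611 (flp_b L204534) q13095, e3 q12612 (flp_b L202248) q12874, e3 q12613 L199726 q12034, e3 q12614 (flp_b L204581) q13099, e3 q12615 (flp_b L204592) q13100, e3 q12616 (flp_b L204443) q13087, e3 q12617 L199764 q12089, e3 q12618 L199768 q12037, e3 q12619 (flp_b L204628) q13104, e3 q12620 (flp_b L204635) q13105, e3 q12621 (flp_b L204469) q13089, e3 q12622 L199799 q12091, e3 q12623 L199809 q12041, e3 q12624 L199816 q12042, e3 q12625 (flp_b L204697) q13111, e3 q12626 (flp_b L204705) q13112, e3 q12627 L199838 q12344, e3 q12628 L199852 q12046, e3 q12629 (flp_b L204726) q13115, e3 q12630 L199874 q12103, e3 q12631 L199886 q12050, e3 q12632 L199896 q12158, e3 q12633 L199907 q12159, e3 q12634 L199919 q12137, e3 q12635 L199931 q12180, e3 q12636 L199947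 q12057, e3 q12637 (flp_b L204782) q13119, e3 q12638 (flp_b L204793) q13120, e3 q12639 L199980 q12069, e3 q12640 L199994 q12060, e3 q12641 (flp_b L204827) q13123, e3 q12642 L200022 q12301, e3 q12643 L200034 q12064, e3 q12644 (flp_b L201886) q12834, e3 q12645 (flp_b L204857) q13125, e3 q12646 L200064 q12401, e3 q12647 L200074 q12335, e3 q12648 L200084 q12068, e3 q12649 (flp_b L204897) q13129, e3 q12650 L200100 q12304, e3 q12651 L200116 q12073, e3 q12652 L200130 q12343, e3 q12653 (flp_b L204907) q13130, e3 q12654 L200154 q12076, e3 q12655 L200164 q12320, e3 q12656 (flp_b L201255) q12770, e3 q12657 L200186 q12252, e3 q12658 (flp_b L203919) q13045, e3 q12659 (flp_b L203930) q13046, e3 q12660 (flp_b L204078) q13058, e3 q12661 L200221 q12324, e3 q12662 (flp_b L204030) q13055, e3 q12663 L200243 q12538, e3 q12664 L200255 q12107, e3 q12665 L200269 q12413, e3 q12666 L200281 q12108, e3 q12667 (flp_b L204616) q13103, e3 q12668 L200299 q12111, e3 q12669 (flp_b L204674) q13109, e3 q12670 (flp_b L204687)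 q13110, e3 q12671 L200320 q12114, trivial⟩ (by decide +kernel)

theorem ce_b_198 : ∀ r, r < 64 → sm gb (Qf (12672 + r)) = Qf (tab Gen.b (12672 + r)) :=
  edges_tab (sm gb) Qf (tab Gen.b) 12672 [(12672, 12094), (12673, 13150), (12674, 13151), (12675, 12119), (12676, 12097), (12677, 12098), (12678, 13155), (12679, 13156), (12680, 12412), (12681, 12125), (12682, 12206), (12683, 12204), (12684, 13116), (12685, 12106), (12686, 13140), (12687, 13143), (12688, 12110), (12689, 13163), (12690, 13146), (12691, 12113), (12692, 13165), (12693, 12873), (12694, 12117), (12695, 12118), (12696, 13169), (12697, 13170), (12698, 13171), (12699, 12804), (12700, 13064), (12701, 12441), (12702, 12123), (12703, 12124), (12704, 13178), (12705, 12127), (12706, 13066), (12707, 12270), (12708, 12149), (12709, 12133), (12710, 12896), (12711, 12202), (12712, 12197), (12713, 13012), (12714, 12984), (12715, 12246), (12716, 12247), (12717, 12148), (12718, 12963), (12719, 13168), (12720, 12261), (12721, 12796), (12722,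 12797), (12723, 12262), (12724, 13078), (12725, 12165), (12726, 13179), (12727, 12156), (12728, 13192), (12729, 13193), (12730, 12169), (12731, 13117), (12732, 13118), (12733, 12288), (12734, 12975), (12735, 12289)]
    ⟨e3 q12672 L200328 q12094, e3 q12673 (flp_b L205126) q13150, e3 q12674 (flp_b L205133) q13151, e3 q12675 L200349 q12119, e3 q12676 L200355 q12097, e3 q12677 L200362 q12098, e3 q12678 (flp_b L205164) q13155, e3 q12679 (flp_b L205172) q13156, e3 q12680 L200382 q12412, e3 q12681 L200396 q12125, e3 q12682 L200410 q12206, e3 q12683 L200424 q12204, e3 q12684 (flp_b L204742) q13116, e3 q12685 L200440 q12106, e3 q12686 (flp_b L205023) q13140, e3 q12687 (flp_b L205062) q13143, e3 q12688 L200464 q12110, e3 q12689 (flp_b L205247) q13163, e3 q12690 (flp_b L205093) q13146, e3 q12691 L200488 q12113, e3 q12692 (flp_b L205265) q13165, e3 q12693 (flp_b L202232) q12873, e3 q12694 L200510 q12117, e3 q12695 L200520 q12118, e3 q12696 (flp_b L205305) q13169, e3 q12697 (flp_b L205313) q13170,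 e3 q12698 (flp_b L205323) q13171, e3 q12699 (flp_b L201597) q12804, e3 q12700 (flp_b L204164) q13064, e3 q12701 L200574 q12441, e3 q12702 L200578 q12123, e3 q12703 L200586 q12124, e3 q12704 (flp_b L205385) q13178, e3 q12705 L200600 q12127, e3 q12706 (flp_b L204188) q13066, e3 q12707 L200620 q12270, e3 q12708 L200634 q12149, e3 q12709 L200639 q12133, e3 q12710 (flp_b L202487) q12896, e3 q12711 L200659 q12202, e3 q12712 L200674 q12197, e3 q12713 (flp_b L203470) q13012, e3 q12714 (flp_b L203231) q12984, e3 q12715 L200716 q12246, e3 q12716 L200725 q12247, e3 q12717 L200735 q12148, e3 q12718 (flp_b L203039) q12963, e3 q12719 (flp_b L205301) q13168, e3 q12720 L200767 q12261, e3 q12721 (flp_b L201508) q12796, e3 q12722 (flp_b L201523) q12797, e3 q12723 L200798 q12262, e3 q12724 (flp_b L204338) q13078, e3 q12725 L200822 q12165, e3 q12726 (flp_b L205401) q13179, e3 q12727 L200841 q12156, e3 q12728 (flp_b L205543) q13192, e3 q12729 (flp_b L205554) q13193, e3 q12730 L200860 q12169, e3 q12731 (flp_b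 L204756) q13117, e3 q12732 (flp_b L204766) q13118, e3 q12733 L200878 q12288, e3 q12734 (flp_b L203138) q12975, e3 q12735 L200906 q12289, trivial⟩ (by decide +kernel)

theorem ce_b_199 : ∀ r, r < 64 → sm gb (Qf (12736 + r)) = Qf (tab Gen.b (12736 + r)) :=
  edges_tab (sm gb) Qf (tab Gen.b) 12736 [(12736, 12164), (12737, 13200), (12738, 13201), (12739, 13190), (12740, 12294), (12741, 12168), (12742, 13205), (12743, 12172), (12744, 12251), (12745, 13036), (12746, 12185), (12747, 12748), (12748, 12747), (12749, 13061), (12750, 13076), (12751, 13014), (12752, 13015), (12753, 12803), (12754, 13041), (12755, 12312), (12756, 12313), (12757, 12200), (12758, 12317), (12759, 12434), (12760, 12422), (12761, 12420), (12762, 13039), (12763, 13071), (12764, 13162), (12765, 12339), (12766, 13148), (12767, 13161), (12768, 12342), (12769, 13160), (12770, 12656), (12771, 12226), (12772, 12463), (12773, 12228), (12774, 12465), (12775, 12466), (12776, 12230), (12777, 12468), (12778, 12469), (12779, 12233),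 (12780, 12471), (12781, 12472), (12782, 12473), (12783, 13090), (12784, 13088), (12785, 13221), (12786, 13047), (12787, 13224), (12788, 12467), (12789, 12445), (12790, 12470), (12791, 12450), (12792, 12889), (12793, 12982), (12794, 12983), (12795, 12254), (12796, 12721), (12797, 12722), (12798, 12255), (12799, 13181)]
    ⟨e3 q12736 L200910 q12164, e3 q12737 (flp_b L205607) q13200, e3 q12738 (flp_b L205617) q13201, e3 q12739 (flp_b L205523) q13190, e3 q12740 L200938 q12294, e3 q12741 L200948 q12168, e3 q12742 (flp_b L205651) q13205, e3 q12743 L200966 q12172, e3 q12744 L200978 q12251, e3 q12745 (flp_b L203780) q13036, e3 q12746 L200998 q12185, e3 q12747 (flp_b L201020) q12748, e3 q12748 L201020 q12747, e3 q12749 (flp_b L204126) q13061, e3 q12750 (flp_b L204312) q13076, e3 q12751 (flp_b L203497) q13014, e3 q12752 (flp_b L203512) q13015, e3 q12753 (flp_b L201581) q12803, e3 q12754 (flp_b L203857) q13041, e3 q12755 L201093 q12312, e3 q12756 L201102 q12313, e3 q12757 L201112 q12200, e3 q12758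 L201122 q12317, e3 q12759 L201134 q12434, e3 q12760 L201146 q12422, e3 q12761 L201158 q12420, e3 q12762 (flp_b L203825) q13039, e3 q12763 (flp_b L204265) q13071, e3 q12764 (flp_b L205233) q13162, e3 q12765 L201204 q12339, e3 q12766 (flp_b L205109) q13148, e3 q12767 (flp_b L205221) q13161, e3 q12768 L201233 q12342, e3 q12769 (flp_b L205205) q13160, e3 q12770 L201255 q12656, e3 q12771 L201267 q12226, e3 q12772 L201281 q12463, e3 q12773 L201295 q12228, e3 q12774 L201307 q12465, e3 q12775 L201312 q12466, e3 q12776 L201322 q12230, e3 q12777 L201330 q12468, e3 q12778 L201337 q12469, e3 q12779 L201347 q12233, e3 q12780 L201353 q12471, e3 q12781 L201359 q12472, e3 q12782 L201367 q12473, e3 q12783 (flp_b L204483) q13090, e3 q12784 (flp_b L204455) q13088, e3 q12785 (flp_b L205837) q13221, e3 q12786 (flp_b L203942) q13047, e3 q12787 (flp_b L205880) q13224, e3 q12788 L201415 q12467, e3 q12789 L201429 q12445, e3 q12790 L201441 q12470, e3 q12791 L201455 q12450, e3 q12792 (flp_b L202404) q12889, e3 q12793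 (flp_b L203206) q12982, e3 q12794 (flp_b L203219) q12983, e3 q12795 L201496 q12254, e3 q12796 L201508 q12721, e3 q12797 L201523 q12722, e3 q12798 L201537 q12255, e3 q12799 (flp_b L205423) q13181, trivial⟩ (by decide +kernel)

theorem ce_b_200 : ∀ r, r < 64 → sm gb (Qf (12800 + r)) = Qf (tab Gen.b (12800 + r)) :=
  edges_tab (sm gb) Qf (tab Gen.b) 12800 [(12800, 13182), (12801, 13057), (12802, 13135), (12803, 12753), (12804, 12699), (12805, 12258), (12806, 13241), (12807, 12825), (12808, 13185), (12809, 12279), (12810, 12264), (12811, 13245), (12812, 12282), (12813, 13180), (12814, 12267), (12815, 13250), (12816, 13251), (12817, 12286), (12818, 12293), (12819, 13166), (12820, 12272), (12821, 13255), (12822, 12846), (12823, 12275), (12824, 13257), (12825, 12807), (12826, 12278), (12827, 13199), (12828, 13260), (12829, 13243), (12830, 12521), (12831, 12281), (12832, 13264), (12833, 13248), (12834, 12644), (12835, 12285), (12836, 13267), (12837, 12840), (12838, 13198), (12839, 12292), (12840,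 12837), (12841, 13269), (12842, 13204), (12843, 12296), (12844, 12297), (12845, 13272), (12846, 12822), (12847, 12300), (12848, 13276), (12849, 13277), (12850, 13124), (12851, 12303), (12852, 13280), (12853, 12942), (12854, 12319), (12855, 12321), (12856, 13037), (12857, 13038), (12858, 12322), (12859, 13069), (12860, 13070), (12861, 12323), (12862, 13210), (12863, 13211)]
    ⟨e3 q12800 (flp_b L205431) q13182, e3 q12801 (flp_b L204062) q13057, e3 q12802 (flp_b L204972) q13135, e3 q12803 L201581 q12753, e3 q12804 L201597 q12699, e3 q12805 L201607 q12258, e3 q12806 (flp_b L206033) q13241, e3 q12807 (flp_b L201814) q12825, e3 q12808 (flp_b L205464) q13185, e3 q12809 L201647 q12279, e3 q12810 (flp_b L201655) q12264, e3 q12811 (flp_b L206082) q13245, e3 q12812 L201684 q12282, e3 q12813 (flp_b L205410) q13180, e3 q12814 L201705 q12267, e3 q12815 (flp_b L206145) q13250, e3 q12816 (flp_b L206156) q13251, e3 q12817 L201728 q12286, e3 q12818 L201738 q12293, e3 q12819 (flp_b L205277) q13166, e3 q12820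 L201758 q12272, e3 q12821 (flp_b L206186) q13255, e3 q12822 (flp_b L201983) q12846, e3 q12823 (flp_b L201784) q12275, e3 q12824 (flp_b L206210) q13257, e3 q12825 L201814 q12807, e3 q12826 L201826 q12278, e3 q12827 (flp_b L205597) q13199, e3 q12828 (flp_b L206250) q13260, e3 q12829 (flp_b L206055) q13243, e3 q12830 L201862 q12521, e3 q12831 L201866 q12281, e3 q12832 (flp_b L206286) q13264, e3 q12833 (flp_b L206121) q13248, e3 q12834 L201886 q12644, e3 q12835 L201894 q12285, e3 q12836 (flp_b L206308) q13267, e3 q12837 (flp_b L201934) q12840, e3 q12838 (flp_b L205581) q13198, e3 q12839 L201926 q12292, e3 q12840 L201934 q12837, e3 q12841 (flp_b L206326) q13269, e3 q12842 (flp_b L205643) q13204, e3 q12843 L201950 q12296, e3 q12844 (flp_b L201952) q12297, e3 q12845 (flp_b L206348) q13272, e3 q12846 L201983 q12822, e3 q12847 L201995 q12300, e3 q12848 (flp_b L206399) q13276, e3 q12849 (flp_b L206410) q13277, e3 q12850 (flp_b L204843) q13124, e3 q12851 L202030 q12303, e3 q12852 (flp_b L206438) q13280,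 e3 q12853 (flp_b L202836) q12942, e3 q12854 L202064 q12319, e3 q12855 L202076 q12321, e3 q12856 (flp_b L203796) q13037, e3 q12857 (flp_b L203811) q13038, e3 q12858 L202099 q12322, e3 q12859 (flp_b L204240) q13069, e3 q12860 (flp_b L204251) q13070, e3 q12861 L202122 q12323, e3 q12862 (flp_b L205709) q13210, e3 q12863 (flp_b L205717) q13211, trivial⟩ (by decide +kernel)

theorem ce_b_201 : ∀ r, r < 64 → sm gb (Qf (12864 + r)) = Qf (tab Gen.b (12864 + r)) :=
  edges_tab (sm gb) Qf (tab Gen.b) 12864 [(12864, 13040), (12865, 12946), (12866, 13283), (12867, 13132), (12868, 13284), (12869, 12998), (12870, 12475), (12871, 12477), (12872, 12481), (12873, 12693), (12874, 12612), (12875, 12608), (12876, 13128), (12877, 13094), (12878, 12338), (12879, 13297), (12880, 13216), (12881, 12341), (12882, 13299), (12883, 13131), (12884, 12346), (12885, 12565), (12886, 12364), (12887, 12365), (12888, 12366), (12889, 12792), (12890, 13077), (12891, 13079), (12892, 12358), (12893, 12359), (12894, 13302), (12895,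 12566), (12896, 12710), (12897, 12374), (12898, 13304), (12899, 13305), (12900, 12388), (12901, 13021), (12902, 13022), (12903, 13023), (12904, 12446), (12905, 12380), (12906, 13314), (12907, 13315), (12908, 12913), (12909, 12453), (12910, 12383), (12911, 13319), (12912, 13320), (12913, 12908), (12914, 12458), (12915, 12387), (12916, 13324), (12917, 12391), (12918, 13043), (12919, 13044), (12920, 12607), (12921, 12396), (12922, 13327), (12923, 13328), (12924, 13031), (12925, 12399), (12926, 12400), (12927, 13332)]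
    ⟨e3 q12864 (flp_b L203841) q13040, e3 q12865 (flp_b L202868) q12946, e3 q12866 (flp_b L206475) q13283, e3 q12867 (flp_b L204939) q13132, e3 q12868 (flp_b L206489) q13284, e3 q12869 (flp_b L203340) q12998, e3 q12870 L202194 q12475, e3 q12871 L202204 q12477, e3 q12872 L202218 q12481, e3 q12873 L202232 q12693, e3 q12874 L202248 q12612, e3 q12875 L202262 q12608, e3 q12876 (flp_b L204887) q13128, e3 q12877 (flp_b L204520) q13094, e3 q12878 L202294 q12338, e3 q12879 (flp_b L206614) q13297, e3 q12880 (flp_b L205778) q13216, e3 q12881 L202324 q12341, e3 q12882 (flp_b L206634) q13299, e3 q12883 (flp_b L204923) q13131, e3 q12884 L202352 q12346, e3 q12885 L202360 q12565, e3 q12886 L202372 q12364, e3 q12887 L202380 q12365, e3 q12888 L202392 q12366, e3 q12889 L202404 q12792, e3 q12890 (flp_b L204326) q13077, e3 q12891 (flp_b L204350) q13079, e3 q12892 L202434 q12358, e3 q12893 L202444 q12359, e3 q12894 (flp_b L206670) q13302, e3 q12895 L202470 q12566, e3 q12896 L202487 q12710, e3 q12897 L202491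 q12374, e3 q12898 (flp_b L206692) q13304, e3 q12899 (flp_b L206699) q13305, e3 q12900 L202512 q12388, e3 q12901 (flp_b L203593) q13021, e3 q12902 (flp_b L203601) q13022, e3 q12903 (flp_b L203610) q13023, e3 q12904 L202544 q12446, e3 q12905 L202548 q12380, e3 q12906 (flp_b L206764) q13314, e3 q12907 (flp_b L206769) q13315, e3 q12908 (flp_b L202629) q12913, e3 q12909 L202591 q12453, e3 q12910 L202595 q12383, e3 q12911 (flp_b L206811) q13319, e3 q12912 (flp_b L206821) q13320, e3 q12913 L202629 q12908, e3 q12914 L202643 q12458, e3 q12915 L202649 q12387, e3 q12916 (flp_b L206863) q13324, e3 q12917 L202665 q12391, e3 q12918 (flp_b L203891) q13043, e3 q12919 (flp_b L203907) q13044, e3 q12920 L202685 q12607, e3 q12921 L202693 q12396, e3 q12922 (flp_b L206881) q13327, e3 q12923 (flp_b L206888) q13328, e3 q12924 (flp_b L203715) q13031, e3 q12925 L202726 q12399, e3 q12926 L202731 q12400, e3 q12927 (flp_b L206923) q13332, trivial⟩ (by decide +kernel)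

theorem ce_b_202 : ∀ r, r < 64 → sm gb (Qf (12928 + r)) = Qf (tab Gen.b (12928 + r)) :=
  edges_tab (sm gb) Qf (tab Gen.b) 12928 [(12928, 13333), (12929, 12403), (12930, 12405), (12931, 13336), (12932, 13337), (12933, 12428), (12934, 12408), (12935, 12409), (12936, 13341), (12937, 13141), (12938, 13342), (12939, 12414), (12940, 13159), (12941, 13142), (12942, 12853), (12943, 12500), (12944, 12492), (12945, 13060), (12946, 12865), (12947, 13050), (12948, 13213), (12949, 13027), (12950, 13212), (12951, 12485), (12952, 12426), (12953, 12427), (12954, 13355), (12955, 13356), (12956, 12491), (12957, 12432), (12958, 12433), (12959, 13358), (12960, 12501), (12961, 13154), (12962, 13177), (12963, 12718), (12964, 13035), (12965, 12444), (12966, 13362), (12967, 13363), (12968, 13233), (12969, 13313), (12970, 12448), (12971, 12449), (12972, 13368), (12973, 13369), (12974, 12978), (12975, 12734), (12976, 13318), (12977, 12456), (12978, 12974), (12979, 13374), (12980, 13323), (12981, 12460), (12982,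 12793), (12983, 12794), (12984, 12714), (12985, 13222), (12986, 13223), (12987, 13067), (12988, 13225), (12989, 13226), (12990, 13227), (12991, 13228)]
    ⟨e3 q12928 (flp_b L206929) q13333, e3 q12929 L202751 q12403, e3 q12930 L202757 q12405, e3 q12931 (flp_b L206946) q13336, e3 q12932 (flp_b L206953) q13337, e3 q12933 L202778 q12428, e3 q12934 L202786 q12408, e3 q12935 L202791 q12409, e3 q12936 (flp_b L206980) q13341, e3 q12937 (flp_b L205037) q13141, e3 q12938 (flp_b L206986) q13342, e3 q12939 L202818 q12414, e3 q12940 (flp_b L205189) q13159, e3 q12941 (flp_b L205050) q13142, e3 q12942 L202836 q12853, e3 q12943 L202846 q12500, e3 q12944 L202854 q12492, e3 q12945 (flp_b L204112) q13060, e3 q12946 L202868 q12865, e3 q12947 (flp_b L203977) q13050, e3 q12948 (flp_b L205743) q13213, e3 q12949 (flp_b L203661) q13027, e3 q12950 (flp_b L205729) q13212, e3 q12951 L202922 q12485, e3 q12952 L202928 q12426, e3 q12953 L202938 q12427, e3 q12954 (flp_b L207100) q13355, e3 q12955 (flp_b L207110) q13356,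 e3 q12956 L202966 q12491, e3 q12957 L202976 q12432, e3 q12958 L202986 q12433, e3 q12959 (flp_b L207130) q13358, e3 q12960 L203008 q12501, e3 q12961 (flp_b L205158) q13154, e3 q12962 (flp_b L205375) q13177, e3 q12963 L203039 q12718, e3 q12964 (flp_b L203765) q13035, e3 q12965 L203060 q12444, e3 q12966 (flp_b L207172) q13362, e3 q12967 (flp_b L207181) q13363, e3 q12968 (flp_b L205952) q13233, e3 q12969 (flp_b L206758) q13313, e3 q12970 L203101 q12448, e3 q12971 L203108 q12449, e3 q12972 (flp_b L207226) q13368, e3 q12973 (flp_b L207234) q13369, e3 q12974 (flp_b L203174) q12978, e3 q12975 L203138 q12734, e3 q12976 (flp_b L206797) q13318, e3 q12977 L203162 q12456, e3 q12978 L203174 q12974, e3 q12979 (flp_b L207277) q13374, e3 q12980 (flp_b L206857) q13323, e3 q12981 L203198 q12460, e3 q12982 L203206 q12793, e3 q12983 L203219 q12794, e3 q12984 L203231 q12714, e3 q12985 (flp_b L205851) q13222, e3 q12986 (flp_b L205866) q13223, e3 q12987 (flp_b L204204) q13067, e3 q12988 (flp_b L205894) q13225,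 e3 q12989 (flp_b L205900) q13226, e3 q12990 (flp_b L205910) q13227, e3 q12991 (flp_b L205918) q13228, trivial⟩ (by decide +kernel)

theorem ce_b_203 : ∀ r, r < 64 → sm gb (Qf (12992 + r)) = Qf (tab Gen.b (12992 + r)) :=
  edges_tab (sm gb) Qf (tab Gen.b) 12992 [(12992, 13229), (12993, 13230), (12994, 13231), (12995, 13062), (12996, 13001), (12997, 12480), (12998, 12869), (12999, 13387), (13000, 12484), (13001, 12996), (13002, 13354), (13003, 13351), (13004, 12488), (13005, 12489), (13006, 12490), (13007, 13392), (13008, 13393), (13009, 13350), (13010, 13349), (13011, 12495), (13012, 12713), (13013, 13244), (13014, 12751), (13015, 12752), (13016, 12577), (13017, 12506), (13018, 13398), (13019, 13399), (13020, 12520), (13021, 12901), (13022, 12902), (13023, 12903), (13024, 12512), (13025, 13405), (13026, 13406), (13027, 12949), (13028, 12515), (13029, 13263), (13030, 13409), (13031, 12924), (13032, 12590), (13033, 12519), (13034, 13414), (13035, 12964), (13036, 12745), (13037, 12856), (13038,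 12857), (13039, 12762), (13040, 12864), (13041, 12754), (13042, 12543), (13043, 12918), (13044, 12919), (13045, 12658), (13046, 12659), (13047, 12786), (13048, 13138), (13049, 13139), (13050, 12947), (13051, 12541), (13052, 12542), (13053, 13422), (13054, 13423), (13055, 12662)]
    ⟨e3 q12992 (flp_b L205925) q13229, e3 q12993 (flp_b L205935) q13230, e3 q12994 (flp_b L205940) q13231, e3 q12995 (flp_b L204140) q13062, e3 q12996 (flp_b L203372) q13001, e3 q12997 L203326 q12480, e3 q12998 L203340 q12869, e3 q12999 (flp_b L207381) q13387, e3 q13000 L203360 q12484, e3 q13001 L203372 q12996, e3 q13002 (flp_b L207090) q13354, e3 q13003 (flp_b L207060) q13351, e3 q13004 L203406 q12488, e3 q13005 L203418 q12489, e3 q13006 L203426 q12490, e3 q13007 (flp_b L207439) q13392, e3 q13008 (flp_b L207451) q13393, e3 q13009 (flp_b L207048) q13350, e3 q13010 (flp_b L207038) q13349, e3 q13011 L203462 q12495, e3 q13012 L203470 q12713, e3 q13013 (flp_b L206078) q13244, e3 q13014 L203497 q12751, e3 q13015 L203512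 q12752, e3 q13016 L203526 q12577, e3 q13017 L203542 q12506, e3 q13018 (flp_b L207507) q13398, e3 q13019 (flp_b L207520) q13399, e3 q13020 L203579 q12520, e3 q13021 L203593 q12901, e3 q13022 L203601 q12902, e3 q13023 L203610 q12903, e3 q13024 L203622 q12512, e3 q13025 (flp_b L207581) q13405, e3 q13026 (flp_b L207594) q13406, e3 q13027 L203661 q12949, e3 q13028 L203677 q12515, e3 q13029 (flp_b L206278) q13263, e3 q13030 (flp_b L207634) q13409, e3 q13031 L203715 q12924, e3 q13032 L203729 q12590, e3 q13033 L203743 q12519, e3 q13034 (flp_b L207704) q13414, e3 q13035 L203765 q12964, e3 q13036 L203780 q12745, e3 q13037 L203796 q12856, e3 q13038 L203811 q12857, e3 q13039 L203825 q12762, e3 q13040 L203841 q12864, e3 q13041 L203857 q12754, e3 q13042 L203873 q12543, e3 q13043 L203891 q12918, e3 q13044 L203907 q12919, e3 q13045 L203919 q12658, e3 q13046 L203930 q12659, e3 q13047 L203942 q12786, e3 q13048 (flp_b L205000) q13138, e3 q13049 (flp_b L205011) q13139, e3 q13050 L203977 q12947, e3 q13051 L203991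 q12541, e3 q13052 L204002 q12542, e3 q13053 (flp_b L207808) q13422, e3 q13054 (flp_b L207818) q13423, e3 q13055 L204030 q12662, trivial⟩ (by decide +kernel)

theorem ce_b_204 : ∀ r, r < 64 → sm gb (Qf (13056 + r)) = Qf (tab Gen.b (13056 + r)) :=
  edges_tab (sm gb) Qf (tab Gen.b) 13056 [(13056, 12547), (13057, 12801), (13058, 12660), (13059, 12564), (13060, 12945), (13061, 12749), (13062, 12995), (13063, 13300), (13064, 12700), (13065, 12569), (13066, 12706), (13067, 12987), (13068, 12585), (13069, 12859), (13070, 12860), (13071, 12763), (13072, 12583), (13073, 12584), (13074, 13430), (13075, 13431), (13076, 12750), (13077, 12890), (13078, 12724), (13079, 12891), (13080, 13413), (13081, 12592), (13082, 12595), (13083, 12596), (13084, 13437), (13085, 13438), (13086, 12599), (13087, 12616), (13088, 12784), (13089, 12621), (13090, 12783), (13091, 13312), (13092, 13326), (13093, 13295), (13094, 12877), (13095, 12611), (13096, 13444), (13097, 13445), (13098, 13294), (13099, 12614), (13100, 12615),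 (13101, 13449), (13102, 13450), (13103, 12667), (13104, 12619), (13105, 12620), (13106, 13455), (13107, 13456), (13108, 13457), (13109, 12669), (13110, 12670), (13111, 12625), (13112, 12626), (13113, 13463), (13114, 13464), (13115, 12629), (13116, 12684), (13117, 12731), (13118, 12732), (13119, 12637)]
    ⟨e3 q13056 L204046 q12547, e3 q13057 L204062 q12801, e3 q13058 L204078 q12660, e3 q13059 L204096 q12564, e3 q13060 L204112 q12945, e3 q13061 L204126 q12749, e3 q13062 L204140 q12995, e3 q13063 (flp_b L206644) q13300, e3 q13064 L204164 q12700, e3 q13065 L204174 q12569, e3 q13066 L204188 q12706, e3 q13067 L204204 q12987, e3 q13068 L204222 q12585, e3 q13069 L204240 q12859, e3 q13070 L204251 q12860, e3 q13071 L204265 q12763, e3 q13072 L204277 q12583, e3 q13073 L204286 q12584, e3 q13074 (flp_b L207898) q13430, e3 q13075 (flp_b L207908) q13431, e3 q13076 L204312 q12750, e3 q13077 L204326 q12890, e3 q13078 L204338 q12724, e3 q13079 L204350 q12891, e3 q13080 (flp_b L207690) q13413, e3 q13081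 L204374 q12592, e3 q13082 L204388 q12595, e3 q13083 L204399 q12596, e3 q13084 (flp_b L207975) q13437, e3 q13085 (flp_b L207985) q13438, e3 q13086 L204427 q12599, e3 q13087 L204443 q12616, e3 q13088 L204455 q12784, e3 q13089 L204469 q12621, e3 q13090 L204483 q12783, e3 q13091 (flp_b L206747) q13312, e3 q13092 (flp_b L206873) q13326, e3 q13093 (flp_b L206588) q13295, e3 q13094 L204520 q12877, e3 q13095 L204534 q12611, e3 q13096 (flp_b L208048) q13444, e3 q13097 (flp_b L208061) q13445, e3 q13098 (flp_b L206574) q13294, e3 q13099 L204581 q12614, e3 q13100 L204592 q12615, e3 q13101 (flp_b L208108) q13449, e3 q13102 (flp_b L208118) q13450, e3 q13103 L204616 q12667, e3 q13104 L204628 q12619, e3 q13105 L204635 q12620, e3 q13106 (flp_b L208166) q13455, e3 q13107 (flp_b L208174) q13456, e3 q13108 (flp_b L208185) q13457, e3 q13109 L204674 q12669, e3 q13110 L204687 q12670, e3 q13111 L204697 q12625, e3 q13112 L204705 q12626, e3 q13113 (flp_b L208244) q13463, e3 q13114 (flp_b L208251) q13464, e3 q13115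 L204726 q12629, e3 q13116 L204742 q12684, e3 q13117 L204756 q12731, e3 q13118 L204766 q12732, e3 q13119 L204782 q12637, trivial⟩ (by decide +kernel)

theorem ce_b_205 : ∀ r, r < 64 → sm gb (Qf (13120 + r)) = Qf (tab Gen.b (13120 + r)) :=
  edges_tab (sm gb) Qf (tab Gen.b) 13120 [(13120, 12638), (13121, 13468), (13122, 13469), (13123, 12641), (13124, 12850), (13125, 12645), (13126, 13266), (13127, 13472), (13128, 12876), (13129, 12649), (13130, 12653), (13131, 12883), (13132, 12867), (13133, 13219), (13134, 13220), (13135, 12802), (13136, 13418), (13137, 13419), (13138, 13048), (13139, 13049), (13140, 12686), (13141, 12937), (13142, 12941), (13143, 12687), (13144, 13453), (13145, 13454), (13146, 12690), (13147, 13461), (13148, 12766), (13149, 13462), (13150, 12673), (13151, 12674), (13152, 13490), (13153, 13491), (13154, 12961), (13155, 12678), (13156, 12679), (13157, 13495), (13158, 13496), (13159, 12940), (13160, 12769), (13161, 12767), (13162, 12764), (13163, 12689), (13164, 13500), (13165,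 12692), (13166, 12819), (13167, 13293), (13168, 12719), (13169, 12696), (13170, 12697), (13171, 12698), (13172, 13506), (13173, 13507), (13174, 13303), (13175, 13240), (13176, 13426), (13177, 12962), (13178, 12704), (13179, 12726), (13180, 12813), (13181, 12799), (13182, 12800), (13183, 13489)]
    ⟨e3 q13120 L204793 q12638, e3 q13121 (flp_b L208290) q13468, e3 q13122 (flp_b L208300) q13469, e3 q13123 L204827 q12641, e3 q13124 L204843 q12850, e3 q13125 L204857 q12645, e3 q13126 (flp_b L206300) q13266, e3 q13127 (flp_b L208337) q13472, e3 q13128 L204887 q12876, e3 q13129 L204897 q12649, e3 q13130 L204907 q12653, e3 q13131 L204923 q12883, e3 q13132 L204939 q12867, e3 q13133 (flp_b L205810) q13219, e3 q13134 (flp_b L205823) q13220, e3 q13135 L204972 q12802, e3 q13136 (flp_b L207760) q13418, e3 q13137 (flp_b L207770) q13419, e3 q13138 L205000 q13048, e3 q13139 L205011 q13049, e3 q13140 L205023 q12686, e3 q13141 L205037 q12937, e3 q13142 L205050 q12941, e3 q13143 L205062 q12687, e3 q13144 (flp_b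 L208141) q13453, e3 q13145 (flp_b L208154) q13454, e3 q13146 L205093 q12690, e3 q13147 (flp_b L208220) q13461, e3 q13148 L205109 q12766, e3 q13149 (flp_b L208232) q13462, e3 q13150 L205126 q12673, e3 q13151 L205133 q12674, e3 q13152 (flp_b L208517) q13490, e3 q13153 (flp_b L208525) q13491, e3 q13154 L205158 q12961, e3 q13155 L205164 q12678, e3 q13156 L205172 q12679, e3 q13157 (flp_b L208556) q13495, e3 q13158 (flp_b L208563) q13496, e3 q13159 L205189 q12940, e3 q13160 L205205 q12769, e3 q13161 L205221 q12767, e3 q13162 L205233 q12764, e3 q13163 L205247 q12689, e3 q13164 (flp_b L208605) q13500, e3 q13165 L205265 q12692, e3 q13166 L205277 q12819, e3 q13167 (flp_b L206558) q13293, e3 q13168 L205301 q12719, e3 q13169 L205305 q12696, e3 q13170 L205313 q12697, e3 q13171 L205323 q12698, e3 q13172 (flp_b L208671) q13506, e3 q13173 (flp_b L208681) q13507, e3 q13174 (flp_b L206684) q13303, e3 q13175 (flp_b L206023) q13240, e3 q13176 (flp_b L207847) q13426, e3 q13177 L205375 q12962, e3 q13178 L205385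 q12704, e3 q13179 L205401 q12726, e3 q13180 L205410 q12813, e3 q13181 L205423 q12799, e3 q13182 L205431 q12800, e3 q13183 (flp_b L208511) q13489, trivial⟩ (by decide +kernel)

theorem ce_b_206 : ∀ r, r < 64 → sm gb (Qf (13184 + r)) = Qf (tab Gen.b (13184 + r)) :=
  edges_tab (sm gb) Qf (tab Gen.b) 13184 [(13184, 13505), (13185, 12808), (13186, 13236), (13187, 13237), (13188, 13428), (13189, 13435), (13190, 12739), (13191, 13501), (13192, 12728), (13193, 12729), (13194, 13521), (13195, 13522), (13196, 13466), (13197, 13467), (13198, 12838), (13199, 12827), (13200, 12737), (13201, 12738), (13202, 13527), (13203, 13528), (13204, 12842), (13205, 12742), (13206, 13207), (13207, 13206), (13208, 13396), (13209, 13397), (13210, 12862), (13211, 12863), (13212, 12950), (13213, 12948), (13214, 13488), (13215, 13499), (13216, 12880), (13217, 13487), (13218, 13498), (13219, 13133), (13220, 13134), (13221, 12785), (13222, 12985), (13223, 12986), (13224, 12787), (13225, 12988), (13226, 12989), (13227,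 12990), (13228, 12991), (13229, 12992), (13230, 12993), (13231, 12994), (13232, 13441), (13233, 12968), (13234, 13377), (13235, 13378), (13236, 13186), (13237, 13187), (13238, 13512), (13239, 13513), (13240, 13175), (13241, 12806), (13242, 13259), (13243, 12829), (13244, 13013), (13245, 12811), (13246, 13558), (13247, 13559)]
    ⟨e3 q13184 (flp_b L208661) q13505, e3 q13185 L205464 q12808, e3 q13186 (flp_b L205982) q13236, e3 q13187 (flp_b L205996) q13237, e3 q13188 (flp_b L207871) q13428, e3 q13189 (flp_b L207949) q13435, e3 q13190 L205523 q12739, e3 q13191 (flp_b L208623) q13501, e3 q13192 L205543 q12728, e3 q13193 L205554 q12729, e3 q13194 (flp_b L208819) q13521, e3 q13195 (flp_b L208829) q13522, e3 q13196 (flp_b L208265) q13466, e3 q13197 (flp_b L208276) q13467, e3 q13198 L205581 q12838, e3 q13199 L205597 q12827, e3 q13200 L205607 q12737, e3 q13201 L205617 q12738, e3 q13202 (flp_b L208868) q13527, e3 q13203 (flp_b L208878) q13528, e3 q13204 L205643 q12842, e3 q13205 L205651 q12742,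 e3 q13206 (flp_b L205673) q13207, e3 q13207 L205673 q13206, e3 q13208 (flp_b L207477) q13396, e3 q13209 (flp_b L207491) q13397, e3 q13210 L205709 q12862, e3 q13211 L205717 q12863, e3 q13212 L205729 q12950, e3 q13213 L205743 q12948, e3 q13214 (flp_b L208497) q13488, e3 q13215 (flp_b L208591) q13499, e3 q13216 L205778 q12880, e3 q13217 (flp_b L208487) q13487, e3 q13218 (flp_b L208577) q13498, e3 q13219 L205810 q13133, e3 q13220 L205823 q13134, e3 q13221 L205837 q12785, e3 q13222 L205851 q12985, e3 q13223 L205866 q12986, e3 q13224 L205880 q12787, e3 q13225 L205894 q12988, e3 q13226 L205900 q12989, e3 q13227 L205910 q12990, e3 q13228 L205918 q12991, e3 q13229 L205925 q12992, e3 q13230 L205935 q12993, e3 q13231 L205940 q12994, e3 q13232 (flp_b L208014) q13441, e3 q13233 L205952 q12968, e3 q13234 (flp_b L207309) q13377, e3 q13235 (flp_b L207321) q13378, e3 q13236 L205982 q13186, e3 q13237 L205996 q13187, e3 q13238 (flp_b L208731) q13512, e3 q13239 (flp_b L208738) q13513, e3 q13240 L206023 q13175,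 e3 q13241 L206033 q12806, e3 q13242 (flp_b L206236) q13259, e3 q13243 L206055 q12829, e3 q13244 L206078 q13013, e3 q13245 L206082 q12811, e3 q13246 (flp_b L209186) q13558, e3 q13247 (flp_b L209199) q13559, trivial⟩ (by decide +kernel)

theorem ce_b_207 : ∀ r, r < 64 → sm gb (Qf (13248 + r)) = Qf (tab Gen.b (13248 + r)) :=
  edges_tab (sm gb) Qf (tab Gen.b) 13248 [(13248, 12833), (13249, 13503), (13250, 12815), (13251, 12816), (13252, 13563), (13253, 13564), (13254, 13502), (13255, 12821), (13256, 13275), (13257, 12824), (13258, 13568), (13259, 13242), (13260, 12828), (13261, 13526), (13262, 13570), (13263, 13029), (13264, 12832), (13265, 13573), (13266, 13126), (13267, 12836), (13268, 13270), (13269, 12841), (13270, 13268), (13271, 13530), (13272, 12845), (13273, 13575), (13274, 13576), (13275, 13256), (13276, 12848), (13277, 12849), (13278, 13579), (13279, 13580), (13280, 12852), (13281, 13346), (13282, 13348), (13283, 12866), (13284, 12868), (13285, 13415), (13286, 13416), (13287, 13427),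 (13288, 13429), (13289, 13533), (13290, 13534), (13291, 13352), (13292, 13388), (13293, 13167), (13294, 13098), (13295, 13093), (13296, 13474), (13297, 12879), (13298, 13591), (13299, 12882), (13300, 13063), (13301, 13434), (13302, 12894), (13303, 13174), (13304, 12898), (13305, 12899), (13306, 13594), (13307, 13595), (13308, 13596), (13309, 13402), (13310, 13403), (13311, 13404)]
    ⟨e3 q13248 L206121 q12833, e3 q13249 (flp_b L208641) q13503, e3 q13250 L206145 q12815, e3 q13251 L206156 q12816, e3 q13252 (flp_b L209245) q13563, e3 q13253 (flp_b L209255) q13564, e3 q13254 (flp_b L208631) q13502, e3 q13255 L206186 q12821, e3 q13256 (flp_b L206385) q13275, e3 q13257 L206210 q12824, e3 q13258 (flp_b L209288) q13568, e3 q13259 L206236 q13242, e3 q13260 L206250 q12828, e3 q13261 (flp_b L208856) q13526, e3 q13262 (flp_b L209314) q13570, e3 q13263 L206278 q13029, e3 q13264 L206286 q12832, e3 q13265 (flp_b L209344) q13573, e3 q13266 L206300 q13126, e3 q13267 L206308 q12836, e3 q13268 (flp_b L206334)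 q13270, e3 q13269 L206326 q12841, e3 q13270 L206334 q13268, e3 q13271 (flp_b L208896) q13530, e3 q13272 L206348 q12845, e3 q13273 (flp_b L209362) q13575, e3 q13274 (flp_b L209375) q13576, e3 q13275 L206385 q13256, e3 q13276 L206399 q12848, e3 q13277 L206410 q12849, e3 q13278 (flp_b L209413) q13579, e3 q13279 (flp_b L209423) q13580, e3 q13280 L206438 q12852, e3 q13281 (flp_b L207013) q13346, e3 q13282 (flp_b L207028) q13348, e3 q13283 L206475 q12866, e3 q13284 L206489 q12868, e3 q13285 (flp_b L207716) q13415, e3 q13286 (flp_b L207730) q13416, e3 q13287 (flp_b L207861) q13427, e3 q13288 (flp_b L207884) q13429, e3 q13289 (flp_b L208927) q13533, e3 q13290 (flp_b L208934) q13534, e3 q13291 (flp_b L207068) q13352, e3 q13292 (flp_b L207395) q13388, e3 q13293 L206558 q13167, e3 q13294 L206574 q13098, e3 q13295 L206588 q13093, e3 q13296 (flp_b L208359) q13474, e3 q13297 L206614 q12879, e3 q13298 (flp_b L209516) q13591, e3 q13299 L206634 q12882, e3 q13300 L206644 q13063, e3 q13301 (flp_b L207935)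 q13434, e3 q13302 L206670 q12894, e3 q13303 L206684 q13174, e3 q13304 L206692 q12898, e3 q13305 L206699 q12899, e3 q13306 (flp_b L209549) q13594, e3 q13307 (flp_b L209559) q13595, e3 q13308 (flp_b L209572) q13596, e3 q13309 (flp_b L207556) q13402, e3 q13310 (flp_b L207563) q13403, e3 q13311 (flp_b L207571) q13404, trivial⟩ (by decide +kernel)

theorem ce_b_208 : ∀ r, r < 64 → sm gb (Qf (13312 + r)) = Qf (tab Gen.b (13312 + r)) :=
  edges_tab (sm gb) Qf (tab Gen.b) 13312 [(13312, 13091), (13313, 12969), (13314, 12906), (13315, 12907), (13316, 13607), (13317, 13608), (13318, 12976), (13319, 12911), (13320, 12912), (13321, 13612), (13322, 13613), (13323, 12980), (13324, 12916), (13325, 13417), (13326, 13092), (13327, 12922), (13328, 12923), (13329, 13618), (13330, 13619), (13331, 13606), (13332, 12927), (13333, 12928), (13334, 13623), (13335, 13624), (13336, 12931), (13337, 12932), (13338, 13626), (13339, 13627), (13340, 13628), (13341, 12936), (13342, 12938), (13343, 13632), (13344, 13633),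 (13345, 13481), (13346, 13281), (13347, 13482), (13348, 13282), (13349, 13010), (13350, 13009), (13351, 13003), (13352, 13291), (13353, 13535), (13354, 13002), (13355, 12954), (13356, 12955), (13357, 13642), (13358, 12959), (13359, 13494), (13360, 13511), (13361, 13411), (13362, 12966), (13363, 12967), (13364, 13646), (13365, 13647), (13366, 13604), (13367, 13605), (13368, 12972), (13369, 12973), (13370, 13652), (13371, 13653), (13372, 13375), (13373, 13611), (13374, 12979), (13375, 13372)]
    ⟨e3 q13312 L206747 q13091, e3 q13313 L206758 q12969, e3 q13314 L206764 q12906, e3 q13315 L206769 q12907, e3 q13316 (flp_b L209670) q13607, e3 q13317 (flp_b L209676) q13608, e3 q13318 L206797 q12976, e3 q13319 L206811 q12911, e3 q13320 L206821 q12912, e3 q13321 (flp_b L209719) q13612, e3 q13322 (flp_b L209729) q13613, e3 q13323 L206857 q12980, e3 q13324 L206863 q12916, e3 q13325 (flp_b L207746) q13417, e3 q13326 L206873 q13092, e3 q13327 L206881 q12922, e3 q13328 L206888 q12923, e3 q13329 (flp_b L209780)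 q13618, e3 q13330 (flp_b L209788) q13619, e3 q13331 (flp_b L209664) q13606, e3 q13332 L206923 q12927, e3 q13333 L206929 q12928, e3 q13334 (flp_b L209821) q13623, e3 q13335 (flp_b L209826) q13624, e3 q13336 L206946 q12931, e3 q13337 L206953 q12932, e3 q13338 (flp_b L209838) q13626, e3 q13339 (flp_b L209848) q13627, e3 q13340 (flp_b L209861) q13628, e3 q13341 L206980 q12936, e3 q13342 L206986 q12938, e3 q13343 (flp_b L209890) q13632, e3 q13344 (flp_b L209895) q13633, e3 q13345 (flp_b L208432) q13481, e3 q13346 L207013 q13281, e3 q13347 (flp_b L208444) q13482, e3 q13348 L207028 q13282, e3 q13349 L207038 q13010, e3 q13350 L207048 q13009, e3 q13351 L207060 q13003, e3 q13352 L207068 q13291, e3 q13353 (flp_b L208944) q13535, e3 q13354 L207090 q13002, e3 q13355 L207100 q12954, e3 q13356 L207110 q12955, e3 q13357 (flp_b L209976) q13642, e3 q13358 L207130 q12959, e3 q13359 (flp_b L208546) q13494, e3 q13360 (flp_b L208719) q13511, e3 q13361 (flp_b L207660) q13411, e3 q13362 L207172 q12966, e3 q13363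 L207181 q12967, e3 q13364 (flp_b L210017) q13646, e3 q13365 (flp_b L210027) q13647, e3 q13366 (flp_b L209634) q13604, e3 q13367 (flp_b L209647) q13605, e3 q13368 L207226 q12972, e3 q13369 L207234 q12973, e3 q13370 (flp_b L210070) q13652, e3 q13371 (flp_b L210077) q13653, e3 q13372 (flp_b L207289) q13375, e3 q13373 (flp_b L209703) q13611, e3 q13374 L207277 q12979, e3 q13375 L207289 q13372, trivial⟩ (by decide +kernel)

theorem ce_b_209 : ∀ r, r < 64 → sm gb (Qf (13376 + r)) = Qf (tab Gen.b (13376 + r)) :=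
  edges_tab (sm gb) Qf (tab Gen.b) 13376 [(13376, 13615), (13377, 13234), (13378, 13235), (13379, 13543), (13380, 13544), (13381, 13545), (13382, 13546), (13383, 13547), (13384, 13548), (13385, 13549), (13386, 13550), (13387, 12999), (13388, 13292), (13389, 13641), (13390, 13557), (13391, 13640), (13392, 13007), (13393, 13008), (13394, 13667), (13395, 13639), (13396, 13208), (13397, 13209), (13398, 13018), (13399, 13019), (13400, 13670), (13401, 13671), (13402, 13309), (13403, 13310), (13404, 13311), (13405, 13025), (13406, 13026), (13407, 13677), (13408, 13678), (13409, 13030), (13410, 13572), (13411, 13361), (13412, 13681), (13413, 13080), (13414, 13034), (13415, 13285), (13416, 13286), (13417, 13325), (13418, 13136), (13419, 13137), (13420, 13479), (13421, 13480), (13422, 13053), (13423, 13054), (13424, 13691), (13425, 13692), (13426, 13176), (13427, 13287), (13428, 13188), (13429, 13288), (13430, 13074), (13431, 13075), (13432, 13697), (13433, 13698), (13434, 13301), (13435, 13189),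 (13436, 13684), (13437, 13084), (13438, 13085), (13439, 13701)]
    ⟨e3 q13376 (flp_b L209753) q13615, e3 q13377 L207309 q13234, e3 q13378 L207321 q13235, e3 q13379 (flp_b L209038) q13543, e3 q13380 (flp_b L209052) q13544, e3 q13381 (flp_b L209066) q13545, e3 q13382 (flp_b L209073) q13546, e3 q13383 (flp_b L209079) q13547, e3 q13384 (flp_b L209086) q13548, e3 q13385 (flp_b L209094) q13549, e3 q13386 (flp_b L209102) q13550, e3 q13387 L207381 q12999, e3 q13388 L207395 q13292, e3 q13389 (flp_b L209966) q13641, e3 q13390 (flp_b L209174) q13557, e3 q13391 (flp_b L209956) q13640, e3 q13392 L207439 q13007, e3 q13393 L207451 q13008, e3 q13394 (flp_b L210195) q13667, e3 q13395 (flp_b L209942) q13639, e3 q13396 L207477 q13208, e3 q13397 L207491 q13209, e3 q13398 L207507 q13018, e3 q13399 L207520 q13019, e3 q13400 (flp_b L210238) q13670, e3 q13401 (flp_b L210250) q13671, e3 q13402 L207556 q13309, e3 q13403 L207563 q13310, e3 q13404 L207571 q13311, e3 q13405 L207581 q13025, e3 q13406 L207594 q13026,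 e3 q13407 (flp_b L210320) q13677, e3 q13408 (flp_b L210332) q13678, e3 q13409 L207634 q13030, e3 q13410 (flp_b L209336) q13572, e3 q13411 L207660 q13361, e3 q13412 (flp_b L210375) q13681, e3 q13413 L207690 q13080, e3 q13414 L207704 q13034, e3 q13415 L207716 q13285, e3 q13416 L207730 q13286, e3 q13417 L207746 q13325, e3 q13418 L207760 q13136, e3 q13419 L207770 q13137, e3 q13420 (flp_b L208406) q13479, e3 q13421 (flp_b L208416) q13480, e3 q13422 L207808 q13053, e3 q13423 L207818 q13054, e3 q13424 (flp_b L210518) q13691, e3 q13425 (flp_b L210529) q13692, e3 q13426 L207847 q13176, e3 q13427 L207861 q13287, e3 q13428 L207871 q13188, e3 q13429 L207884 q13288, e3 q13430 L207898 q13074, e3 q13431 L207908 q13075, e3 q13432 (flp_b L210582) q13697, e3 q13433 (flp_b L210593) q13698, e3 q13434 L207935 q13301, e3 q13435 L207949 q13189, e3 q13436 (flp_b L210421) q13684, e3 q13437 L207975 q13084, e3 q13438 L207985 q13085, e3 q13439 (flp_b L210627) q13701, trivial⟩ (by decide +kernel)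

theorem ce_b_210 : ∀ r, r < 64 → sm gb (Qf (13440 + r)) = Qf (tab Gen.b (13440 + r)) :=
  edges_tab (sm gb) Qf (tab Gen.b) 13440 [(13440, 13702), (13441, 13232), (13442, 13603), (13443, 13616), (13444, 13096), (13445, 13097), (13446, 13706), (13447, 13707), (13448, 13592), (13449, 13101), (13450, 13102), (13451, 13711), (13452, 13712), (13453, 13144), (13454, 13145), (13455, 13106), (13456, 13107), (13457, 13108), (13458, 13716), (13459, 13717), (13460, 13718), (13461, 13147), (13462, 13149), (13463, 13113), (13464, 13114), (13465, 13724), (13466, 13196), (13467, 13197), (13468, 13121), (13469, 13122), (13470, 13727), (13471, 13728), (13472, 13127), (13473, 13574), (13474, 13296), (13475, 13541), (13476, 13542), (13477, 13687), (13478, 13688), (13479, 13420), (13480, 13421), (13481, 13345), (13482, 13347), (13483, 13714), (13484, 13715), (13485, 13722), (13486, 13723), (13487, 13217), (13488, 13214), (13489, 13183), (13490, 13152), (13491, 13153), (13492, 13744), (13493, 13745), (13494,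 13359), (13495, 13157), (13496, 13158), (13497, 13749), (13498, 13218), (13499, 13215), (13500, 13164), (13501, 13191), (13502, 13254), (13503, 13249)]
    ⟨e3 q13440 (flp_b L210638) q13702, e3 q13441 L208014 q13232, e3 q13442 (flp_b L209622) q13603, e3 q13443 (flp_b L209759) q13616, e3 q13444 L208048 q13096, e3 q13445 L208061 q13097, e3 q13446 (flp_b L210677) q13706, e3 q13447 (flp_b L210689) q13707, e3 q13448 (flp_b L209528) q13592, e3 q13449 L208108 q13101, e3 q13450 L208118 q13102, e3 q13451 (flp_b L210738) q13711, e3 q13452 (flp_b L210749) q13712, e3 q13453 L208141 q13144, e3 q13454 L208154 q13145, e3 q13455 L208166 q13106, e3 q13456 L208174 q13107, e3 q13457 L208185 q13108, e3 q13458 (flp_b L210793) q13716, e3 q13459 (flp_b L210800) q13717, e3 q13460 (flp_b L210808) q13718, e3 q13461 L208220 q13147, e3 q13462 L208232 q13149, e3 q13463 L208244 q13113, e3 q13464 L208251 q13114, e3 q13465 (flp_b L210876) q13724, e3 q13466 L208265 q13196, e3 q13467 L208276 q13197, e3 q13468 L208290 q13121,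 e3 q13469 L208300 q13122, e3 q13470 (flp_b L210903) q13727, e3 q13471 (flp_b L210914) q13728, e3 q13472 L208337 q13127, e3 q13473 (flp_b L209352) q13574, e3 q13474 L208359 q13296, e3 q13475 (flp_b L209010) q13541, e3 q13476 (flp_b L209024) q13542, e3 q13477 (flp_b L210470) q13687, e3 q13478 (flp_b L210481) q13688, e3 q13479 L208406 q13420, e3 q13480 L208416 q13421, e3 q13481 L208432 q13345, e3 q13482 L208444 q13347, e3 q13483 (flp_b L210767) q13714, e3 q13484 (flp_b L210779) q13715, e3 q13485 (flp_b L210851) q13722, e3 q13486 (flp_b L210864) q13723, e3 q13487 L208487 q13217, e3 q13488 L208497 q13214, e3 q13489 L208511 q13183, e3 q13490 L208517 q13152, e3 q13491 L208525 q13153, e3 q13492 (flp_b L211083) q13744, e3 q13493 (flp_b L211090) q13745, e3 q13494 L208546 q13359, e3 q13495 L208556 q13157, e3 q13496 L208563 q13158, e3 q13497 (flp_b L211125) q13749, e3 q13498 L208577 q13218, e3 q13499 L208591 q13215, e3 q13500 L208605 q13164, e3 q13501 L208623 q13191, e3 q13502 L208631 q13254, e3 q13503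 L208641 q13249, trivial⟩ (by decide +kernel)

theorem ce_b_211 : ∀ r, r < 64 → sm gb (Qf (13504 + r)) = Qf (tab Gen.b (13504 + r)) :=
  edges_tab (sm gb) Qf (tab Gen.b) 13504 [(13504, 13590), (13505, 13184), (13506, 13172), (13507, 13173), (13508, 13756), (13509, 13593), (13510, 13556), (13511, 13360), (13512, 13238), (13513, 13239), (13514, 13743), (13515, 13755), (13516, 13553), (13517, 13554), (13518, 13696), (13519, 13700), (13520, 13752), (13521, 13194), (13522, 13195), (13523, 13765), (13524, 13766), (13525, 13726), (13526, 13261), (13527, 13202), (13528, 13203), (13529, 13770), (13530, 13271), (13531, 13668), (13532, 13669), (13533, 13289), (13534, 13290), (13535, 13353), (13536, 13742), (13537, 13617), (13538, 13751), (13539, 13740), (13540, 13741), (13541, 13475), (13542, 13476), (13543, 13379), (13544, 13380), (13545, 13381), (13546, 13382), (13547, 13383), (13548, 13384), (13549, 13385), (13550, 13386), (13551, 13656), (13552, 13657), (13553, 13516), (13554, 13517), (13555, 13758),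 (13556, 13510), (13557, 13390), (13558, 13246), (13559, 13247), (13560, 13790), (13561, 13791), (13562, 13754), (13563, 13252), (13564, 13253), (13565, 13795), (13566, 13796), (13567, 13753)]
    ⟨e3 q13504 (flp_b L209500) q13590, e3 q13505 L208661 q13184, e3 q13506 L208671 q13172, e3 q13507 L208681 q13173, e3 q13508 (flp_b L211202) q13756, e3 q13509 (flp_b L209541) q13593, e3 q13510 (flp_b L209160) q13556, e3 q13511 L208719 q13360, e3 q13512 L208731 q13238, e3 q13513 L208738 q13239, e3 q13514 (flp_b L211073) q13743, e3 q13515 (flp_b L211190) q13755, e3 q13516 (flp_b L209123) q13553, e3 q13517 (flp_b L209138) q13554, e3 q13518 (flp_b L210572) q13696, e3 q13519 (flp_b L210611) q13700, e3 q13520 (flp_b L211154) q13752, e3 q13521 L208819 q13194, e3 q13522 L208829 q13195, e3 q13523 (flp_b L211298) q13765, e3 q13524 (flp_b L211307) q13766, e3 q13525 (flp_b L210889) q13726, e3 q13526 L208856 q13261, e3 q13527 L208868 q13202, e3 q13528 L208878 q13203, e3 q13529 (flp_b L211342) q13770, e3 q13530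 L208896 q13271, e3 q13531 (flp_b L210207) q13668, e3 q13532 (flp_b L210222) q13669, e3 q13533 L208927 q13289, e3 q13534 L208934 q13290, e3 q13535 L208944 q13353, e3 q13536 (flp_b L211065) q13742, e3 q13537 (flp_b L209774) q13617, e3 q13538 (flp_b L211138) q13751, e3 q13539 (flp_b L211042) q13740, e3 q13540 (flp_b L211053) q13741, e3 q13541 L209010 q13475, e3 q13542 L209024 q13476, e3 q13543 L209038 q13379, e3 q13544 L209052 q13380, e3 q13545 L209066 q13381, e3 q13546 L209073 q13382, e3 q13547 L209079 q13383, e3 q13548 L209086 q13384, e3 q13549 L209094 q13385, e3 q13550 L209102 q13386, e3 q13551 (flp_b L210107) q13656, e3 q13552 (flp_b L210120) q13657, e3 q13553 L209123 q13516, e3 q13554 L209138 q13517, e3 q13555 (flp_b L211224) q13758, e3 q13556 L209160 q13510, e3 q13557 L209174 q13390, e3 q13558 L209186 q13246, e3 q13559 L209199 q13247, e3 q13560 (flp_b L211552) q13790, e3 q13561 (flp_b L211564) q13791, e3 q13562 (flp_b L211180) q13754, e3 q13563 L209245 q13252, e3 q13564 L209255 q13253,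 e3 q13565 (flp_b L211615) q13795, e3 q13566 (flp_b L211626) q13796, e3 q13567 (flp_b L211168) q13753, trivial⟩ (by decide +kernel)

theorem ce_b_212 : ∀ r, r < 64 → sm gb (Qf (13568 + r)) = Qf (tab Gen.b (13568 + r)) :=
  edges_tab (sm gb) Qf (tab Gen.b) 13568 [(13568, 13258), (13569, 13798), (13570, 13262), (13571, 13769), (13572, 13410), (13573, 13265), (13574, 13473), (13575, 13273), (13576, 13274), (13577, 13800), (13578, 13801), (13579, 13278), (13580, 13279), (13581, 13804), (13582, 13805), (13583, 13637), (13584, 13638), (13585, 13685), (13586, 13686), (13587, 13694), (13588, 13695), (13589, 13772), (13590, 13504), (13591, 13298), (13592, 13448), (13593, 13509), (13594, 13306), (13595, 13307), (13596, 13308), (13597, 13814), (13598, 13815), (13599, 13816), (13600, 13674), (13601, 13675), (13602, 13676), (13603, 13442), (13604, 13366), (13605, 13367), (13606, 13331), (13607, 13316), (13608, 13317), (13609, 13827), (13610, 13828), (13611, 13373), (13612, 13321), (13613, 13322), (13614,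 13831), (13615, 13376), (13616, 13443), (13617, 13537), (13618, 13329), (13619, 13330), (13620, 13833), (13621, 13834), (13622, 13826), (13623, 13334), (13624, 13335), (13625, 13838), (13626, 13338), (13627, 13339), (13628, 13340), (13629, 13840), (13630, 13841), (13631, 13842)]
    ⟨e3 q13568 L209288 q13258, e3 q13569 (flp_b L211644) q13798, e3 q13570 L209314 q13262, e3 q13571 (flp_b L211330) q13769, e3 q13572 L209336 q13410, e3 q13573 L209344 q13265, e3 q13574 L209352 q13473, e3 q13575 L209362 q13273, e3 q13576 L209375 q13274, e3 q13577 (flp_b L211670) q13800, e3 q13578 (flp_b L211682) q13801, e3 q13579 L209413 q13278, e3 q13580 L209423 q13279, e3 q13581 (flp_b L211723) q13804, e3 q13582 (flp_b L211734) q13805, e3 q13583 (flp_b L209922) q13637, e3 q13584 (flp_b L209932) q13638, e3 q13585 (flp_b L210439) q13685, e3 q13586 (flp_b L210454) q13686, e3 q13587 (flp_b L210549) q13694, e3 q13588 (flp_b L210560) q13695, e3 q13589 (flp_b L211366) q13772, e3 q13590 L209500 q13504, e3 q13591 L209516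 q13298, e3 q13592 L209528 q13448, e3 q13593 L209541 q13509, e3 q13594 L209549 q13306, e3 q13595 L209559 q13307, e3 q13596 L209572 q13308, e3 q13597 (flp_b L211814) q13814, e3 q13598 (flp_b L211821) q13815, e3 q13599 (flp_b L211831) q13816, e3 q13600 (flp_b L210287) q13674, e3 q13601 (flp_b L210297) q13675, e3 q13602 (flp_b L210308) q13676, e3 q13603 L209622 q13442, e3 q13604 L209634 q13366, e3 q13605 L209647 q13367, e3 q13606 L209664 q13331, e3 q13607 L209670 q13316, e3 q13608 L209676 q13317, e3 q13609 (flp_b L211938) q13827, e3 q13610 (flp_b L211945) q13828, e3 q13611 L209703 q13373, e3 q13612 L209719 q13321, e3 q13613 L209729 q13322, e3 q13614 (flp_b L211979) q13831, e3 q13615 L209753 q13376, e3 q13616 L209759 q13443, e3 q13617 L209774 q13537, e3 q13618 L209780 q13329, e3 q13619 L209788 q13330, e3 q13620 (flp_b L212005) q13833, e3 q13621 (flp_b L212012) q13834, e3 q13622 (flp_b L211926) q13826, e3 q13623 L209821 q13334, e3 q13624 L209826 q13335, e3 q13625 (flp_b L212047) q13838, e3 q13626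 L209838 q13338, e3 q13627 L209848 q13339, e3 q13628 L209861 q13340, e3 q13629 (flp_b L212058) q13840, e3 q13630 (flp_b L212065) q13841, e3 q13631 (flp_b L212075) q13842, trivial⟩ (by decide +kernel)

theorem ce_b_213 : ∀ r, r < 64 → sm gb (Qf (13632 + r)) = Qf (tab Gen.b (13632 + r)) :=
  edges_tab (sm gb) Qf (tab Gen.b) 13632 [(13632, 13343), (13633, 13344), (13634, 13846), (13635, 13735), (13636, 13736), (13637, 13583), (13638, 13584), (13639, 13395), (13640, 13391), (13641, 13389), (13642, 13357), (13643, 13747), (13644, 13748), (13645, 13683), (13646, 13364), (13647, 13365), (13648, 13854), (13649, 13855), (13650, 13824), (13651, 13825), (13652, 13370), (13653, 13371), (13654, 13859), (13655, 13830), (13656, 13551), (13657, 13552), (13658, 13779), (13659, 13780), (13660, 13781), (13661, 13782), (13662, 13783), (13663, 13784), (13664, 13785), (13665, 13851), (13666, 13789), (13667, 13394), (13668, 13531), (13669, 13532), (13670, 13400), (13671, 13401), (13672, 13868), (13673, 13869),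 (13674, 13600), (13675, 13601), (13676, 13602), (13677, 13407), (13678, 13408), (13679, 13873), (13680, 13874), (13681, 13412), (13682, 13799), (13683, 13645), (13684, 13436), (13685, 13585), (13686, 13586), (13687, 13477), (13688, 13478), (13689, 13733), (13690, 13734), (13691, 13424), (13692, 13425), (13693, 13880), (13694, 13587), (13695, 13588)]
    ⟨e3 q13632 L209890 q13343, e3 q13633 L209895 q13344, e3 q13634 (flp_b L212110) q13846, e3 q13635 (flp_b L210988) q13735, e3 q13636 (flp_b L211001) q13736, e3 q13637 L209922 q13583, e3 q13638 L209932 q13584, e3 q13639 L209942 q13395, e3 q13640 L209956 q13391, e3 q13641 L209966 q13389, e3 q13642 L209976 q13357, e3 q13643 (flp_b L211104) q13747, e3 q13644 (flp_b L211115) q13748, e3 q13645 (flp_b L210405) q13683, e3 q13646 L210017 q13364, e3 q13647 L210027 q13365, e3 q13648 (flp_b L212182) q13854, e3 q13649 (flp_b L212191) q13855, e3 q13650 (flp_b L211902) q13824, e3 q13651 (flp_b L211916) q13825, e3 q13652 L210070 q13370, e3 q13653 L210077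 q13371, e3 q13654 (flp_b L212230) q13859, e3 q13655 (flp_b L211963) q13830, e3 q13656 L210107 q13551, e3 q13657 L210120 q13552, e3 q13658 (flp_b L211444) q13779, e3 q13659 (flp_b L211459) q13780, e3 q13660 (flp_b L211473) q13781, e3 q13661 (flp_b L211481) q13782, e3 q13662 (flp_b L211489) q13783, e3 q13663 (flp_b L211496) q13784, e3 q13664 (flp_b L211504) q13785, e3 q13665 (flp_b L212150) q13851, e3 q13666 (flp_b L211540) q13789, e3 q13667 L210195 q13394, e3 q13668 L210207 q13531, e3 q13669 L210222 q13532, e3 q13670 L210238 q13400, e3 q13671 L210250 q13401, e3 q13672 (flp_b L212311) q13868, e3 q13673 (flp_b L212324) q13869, e3 q13674 L210287 q13600, e3 q13675 L210297 q13601, e3 q13676 L210308 q13602, e3 q13677 L210320 q13407, e3 q13678 L210332 q13408, e3 q13679 (flp_b L212369) q13873, e3 q13680 (flp_b L212382) q13874, e3 q13681 L210375 q13412, e3 q13682 (flp_b L211660) q13799, e3 q13683 L210405 q13645, e3 q13684 L210421 q13436, e3 q13685 L210439 q13585, e3 q13686 L210454 q13586, e3 q13687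 L210470 q13477, e3 q13688 L210481 q13478, e3 q13689 (flp_b L210963) q13733, e3 q13690 (flp_b L210974) q13734, e3 q13691 L210518 q13424, e3 q13692 L210529 q13425, e3 q13693 (flp_b L212468) q13880, e3 q13694 L210549 q13587, e3 q13695 L210560 q13588, trivial⟩ (by decide +kernel)

theorem ce_b_214 : ∀ r, r < 64 → sm gb (Qf (13696 + r)) = Qf (tab Gen.b (13696 + r)) :=
  edges_tab (sm gb) Qf (tab Gen.b) 13696 [(13696, 13518), (13697, 13432), (13698, 13433), (13699, 13885), (13700, 13519), (13701, 13439), (13702, 13440), (13703, 13887), (13704, 13822), (13705, 13823), (13706, 13446), (13707, 13447), (13708, 13890), (13709, 13891), (13710, 13812), (13711, 13451), (13712, 13452), (13713, 13895), (13714, 13483), (13715, 13484), (13716, 13458), (13717, 13459), (13718, 13460), (13719, 13899), (13720, 13900), (13721, 13901), (13722, 13485), (13723, 13486), (13724, 13465), (13725, 13905), (13726, 13525), (13727, 13470), (13728, 13471), (13729, 13907), (13730, 13777), (13731, 13778), (13732, 13878), (13733,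 13689), (13734, 13690), (13735, 13635), (13736, 13636), (13737, 13897), (13738, 13898), (13739, 13904), (13740, 13539), (13741, 13540), (13742, 13536), (13743, 13514), (13744, 13492), (13745, 13493), (13746, 13920), (13747, 13643), (13748, 13644), (13749, 13497), (13750, 13923), (13751, 13538), (13752, 13520), (13753, 13567), (13754, 13562), (13755, 13515), (13756, 13508), (13757, 13813), (13758, 13555), (13759, 13918)]
    ⟨e3 q13696 L210572 q13518, e3 q13697 L210582 q13432, e3 q13698 L210593 q13433, e3 q13699 (flp_b L212524) q13885, e3 q13700 L210611 q13519, e3 q13701 L210627 q13439, e3 q13702 L210638 q13440, e3 q13703 (flp_b L212545) q13887, e3 q13704 (flp_b L211881) q13822, e3 q13705 (flp_b L211890) q13823, e3 q13706 L210677 q13446, e3 q13707 L210689 q13447, e3 q13708 (flp_b L212576) q13890, e3 q13709 (flp_b L212589) q13891, e3 q13710 (flp_b L211792) q13812, e3 q13711 L210738 q13451, e3 q13712 L210749 q13452, e3 q13713 (flp_b L212638) q13895, e3 q13714 L210767 q13483, e3 q13715 L210779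 q13484, e3 q13716 L210793 q13458, e3 q13717 L210800 q13459, e3 q13718 L210808 q13460, e3 q13719 (flp_b L212680) q13899, e3 q13720 (flp_b L212688) q13900, e3 q13721 (flp_b L212697) q13901, e3 q13722 L210851 q13485, e3 q13723 L210864 q13486, e3 q13724 L210876 q13465, e3 q13725 (flp_b L212740) q13905, e3 q13726 L210889 q13525, e3 q13727 L210903 q13470, e3 q13728 L210914 q13471, e3 q13729 (flp_b L212762) q13907, e3 q13730 (flp_b L211415) q13777, e3 q13731 (flp_b L211430) q13778, e3 q13732 (flp_b L212444) q13878, e3 q13733 L210963 q13689, e3 q13734 L210974 q13690, e3 q13735 L210988 q13635, e3 q13736 L211001 q13636, e3 q13737 (flp_b L212655) q13897, e3 q13738 (flp_b L212668) q13898, e3 q13739 (flp_b L212728) q13904, e3 q13740 L211042 q13539, e3 q13741 L211053 q13540, e3 q13742 L211065 q13536, e3 q13743 L211073 q13514, e3 q13744 L211083 q13492, e3 q13745 L211090 q13493, e3 q13746 (flp_b L212903) q13920, e3 q13747 L211104 q13643, e3 q13748 L211115 q13644, e3 q13749 L211125 q13497, e3 q13750 (flp_b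 L212928) q13923, e3 q13751 L211138 q13538, e3 q13752 L211154 q13520, e3 q13753 L211168 q13567, e3 q13754 L211180 q13562, e3 q13755 L211190 q13515, e3 q13756 L211202 q13508, e3 q13757 (flp_b L211806) q13813, e3 q13758 L211224 q13555, e3 q13759 (flp_b L212880) q13918, trivial⟩ (by decide +kernel)

theorem ce_b_215 : ∀ r, r < 64 → sm gb (Qf (13760 + r)) = Qf (tab Gen.b (13760 + r)) :=
  edges_tab (sm gb) Qf (tab Gen.b) 13760 [(13760, 13919), (13761, 13787), (13762, 13883), (13763, 13884), (13764, 13924), (13765, 13523), (13766, 13524), (13767, 13930), (13768, 13906), (13769, 13571), (13770, 13529), (13771, 13867), (13772, 13589), (13773, 13916), (13774, 13917), (13775, 13832), (13776, 13915), (13777, 13730), (13778, 13731), (13779, 13658), (13780, 13659), (13781, 13660), (13782, 13661), (13783, 13662), (13784, 13663), (13785, 13664), (13786, 13861), (13787, 13761), (13788, 13926), (13789, 13666), (13790, 13560), (13791, 13561), (13792, 13946), (13793, 13947), (13794, 13925), (13795, 13565),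 (13796, 13566), (13797, 13949), (13798, 13569), (13799, 13682), (13800, 13577), (13801, 13578), (13802, 13951), (13803, 13952), (13804, 13581), (13805, 13582), (13806, 13954), (13807, 13849), (13808, 13850), (13809, 13877), (13810, 13882), (13811, 13933), (13812, 13710), (13813, 13757), (13814, 13597), (13815, 13598), (13816, 13599), (13817, 13961), (13818, 13962), (13819, 13963), (13820, 13871), (13821, 13872), (13822, 13704), (13823, 13705)]
    ⟨e3 q13760 (flp_b L212891) q13919, e3 q13761 (flp_b L211519) q13787, e3 q13762 (flp_b L212499) q13883, e3 q13763 (flp_b L212512) q13884, e3 q13764 (flp_b L212937) q13924, e3 q13765 L211298 q13523, e3 q13766 L211307 q13524, e3 q13767 (flp_b L213009) q13930, e3 q13768 (flp_b L212747) q13906, e3 q13769 L211330 q13571, e3 q13770 L211342 q13529, e3 q13771 (flp_b L212295) q13867, e3 q13772 L211366 q13589, e3 q13773 (flp_b L212859) q13916, e3 q13774 (flp_b L212870) q13917, e3 q13775 (flp_b L211993) q13832, e3 q13776 (flp_b L212847) q13915, e3 q13777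 L211415 q13730, e3 q13778 L211430 q13731, e3 q13779 L211444 q13658, e3 q13780 L211459 q13659, e3 q13781 L211473 q13660, e3 q13782 L211481 q13661, e3 q13783 L211489 q13662, e3 q13784 L211496 q13663, e3 q13785 L211504 q13664, e3 q13786 (flp_b L212245) q13861, e3 q13787 L211519 q13761, e3 q13788 (flp_b L212967) q13926, e3 q13789 L211540 q13666, e3 q13790 L211552 q13560, e3 q13791 L211564 q13561, e3 q13792 (flp_b L213180) q13946, e3 q13793 (flp_b L213193) q13947, e3 q13794 (flp_b L212953) q13925, e3 q13795 L211615 q13565, e3 q13796 L211626 q13566, e3 q13797 (flp_b L213221) q13949, e3 q13798 L211644 q13569, e3 q13799 L211660 q13682, e3 q13800 L211670 q13577, e3 q13801 L211682 q13578, e3 q13802 (flp_b L213242) q13951, e3 q13803 (flp_b L213255) q13952, e3 q13804 L211723 q13581, e3 q13805 L211734 q13582, e3 q13806 (flp_b L213281) q13954, e3 q13807 (flp_b L212129) q13849, e3 q13808 (flp_b L212138) q13850, e3 q13809 (flp_b L212428) q13877, e3 q13810 (flp_b L212487) q13882, e3 q13811 (flp_b L213035)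 q13933, e3 q13812 L211792 q13710, e3 q13813 L211806 q13757, e3 q13814 L211814 q13597, e3 q13815 L211821 q13598, e3 q13816 L211831 q13599, e3 q13817 (flp_b L213349) q13961, e3 q13818 (flp_b L213359) q13962, e3 q13819 (flp_b L213372) q13963, e3 q13820 (flp_b L212348) q13871, e3 q13821 (flp_b L212357) q13872, e3 q13822 L211881 q13704, e3 q13823 L211890 q13705, trivial⟩ (by decide +kernel)

theorem ce_b_216 : ∀ r, r < 64 → sm gb (Qf (13824 + r)) = Qf (tab Gen.b (13824 + r)) :=
  edges_tab (sm gb) Qf (tab Gen.b) 13824 [(13824, 13650), (13825, 13651), (13826, 13622), (13827, 13609), (13828, 13610), (13829, 13972), (13830, 13655), (13831, 13614), (13832, 13775), (13833, 13620), (13834, 13621), (13835, 13976), (13836, 13970), (13837, 13971), (13838, 13625), (13839, 13979), (13840, 13629), (13841, 13630), (13842, 13631), (13843, 13980), (13844, 13981), (13845, 13982), (13846, 13634), (13847, 13985), (13848, 13912), (13849, 13807), (13850, 13808), (13851, 13665), (13852, 13922), (13853, 13876), (13854,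 13648), (13855, 13649), (13856, 13989), (13857, 13968), (13858, 13969), (13859, 13654), (13860, 13992), (13861, 13786), (13862, 13939), (13863, 13940), (13864, 13941), (13865, 13942), (13866, 13945), (13867, 13771), (13868, 13672), (13869, 13673), (13870, 13997), (13871, 13820), (13872, 13821), (13873, 13679), (13874, 13680), (13875, 14000), (13876, 13853), (13877, 13809), (13878, 13732), (13879, 13911), (13880, 13693), (13881, 14005), (13882, 13810), (13883, 13762), (13884, 13763), (13885, 13699), (13886, 14008), (13887, 13703)]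
    ⟨e3 q13824 L211902 q13650, e3 q13825 L211916 q13651, e3 q13826 L211926 q13622, e3 q13827 L211938 q13609, e3 q13828 L211945 q13610, e3 q13829 (flp_b L213476) q13972, e3 q13830 L211963 q13655, e3 q13831 L211979 q13614, e3 q13832 L211993 q13775, e3 q13833 L212005 q13620, e3 q13834 L212012 q13621, e3 q13835 (flp_b L213522) q13976, e3 q13836 (flp_b L213449) q13970, e3 q13837 (flp_b L213462) q13971, e3 q13838 L212047 q13625, e3 q13839 (flp_b L213547) q13979, e3 q13840 L212058 q13629, e3 q13841 L212065 q13630, e3 q13842 L212075 q13631, e3 q13843 (flp_b L213552) q13980, e3 q13844 (flp_b L213562) q13981, e3 q13845 (flp_b L213577) q13982, e3 q13846 L212110 q13634, e3 q13847 (flp_b L213608) q13985, e3 q13848 (flp_b L212816) q13912, e3 q13849 L212129 q13807, e3 q13850 L212138 q13808, e3 q13851 L212150 q13665, e3 q13852 (flp_b L212916) q13922, e3 q13853 (flp_b L212410) q13876, e3 q13854 L212182 q13648, e3 q13855 L212191 q13649, e3 q13856 (flp_b L213641) q13989, e3 q13857 (flp_b L213420) q13968,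 e3 q13858 (flp_b L213435) q13969, e3 q13859 L212230 q13654, e3 q13860 (flp_b L213668) q13992, e3 q13861 L212245 q13786, e3 q13862 (flp_b L213104) q13939, e3 q13863 (flp_b L213118) q13940, e3 q13864 (flp_b L213125) q13941, e3 q13865 (flp_b L213132) q13942, e3 q13866 (flp_b L213166) q13945, e3 q13867 L212295 q13771, e3 q13868 L212311 q13672, e3 q13869 L212324 q13673, e3 q13870 (flp_b L213723) q13997, e3 q13871 L212348 q13820, e3 q13872 L212357 q13821, e3 q13873 L212369 q13679, e3 q13874 L212382 q13680, e3 q13875 (flp_b L213763) q14000, e3 q13876 L212410 q13853, e3 q13877 L212428 q13809, e3 q13878 L212444 q13732, e3 q13879 (flp_b L212802) q13911, e3 q13880 L212468 q13693, e3 q13881 (flp_b L213835) q14005, e3 q13882 L212487 q13810, e3 q13883 L212499 q13762, e3 q13884 L212512 q13763, e3 q13885 L212524 q13699, e3 q13886 (flp_b L213873) q14008, e3 q13887 L212545 q13703, trivial⟩ (by decide +kernel)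

theorem ce_b_217 : ∀ r, r < 64 → sm gb (Qf (13888 + r)) = Qf (tab Gen.b (13888 + r)) :=
  edges_tab (sm gb) Qf (tab Gen.b) 13888 [(13888, 14009), (13889, 13967), (13890, 13708), (13891, 13709), (13892, 14011), (13893, 13959), (13894, 13960), (13895, 13713), (13896, 14014), (13897, 13737), (13898, 13738), (13899, 13719), (13900, 13720), (13901, 13721), (13902, 14016), (13903, 14017), (13904, 13739), (13905, 13725), (13906, 13768), (13907, 13729), (13908, 14020), (13909, 13938), (13910, 14003), (13911, 13879), (13912, 13848), (13913, 14015), (13914, 14019), (13915, 13776), (13916, 13773), (13917, 13774), (13918, 13759), (13919, 13760), (13920, 13746), (13921, 14028), (13922, 13852), (13923, 13750), (13924, 13764), (13925, 13794), (13926, 13788), (13927, 14027), (13928, 13944), (13929, 14007), (13930, 13767), (13931, 14032), (13932, 13996), (13933, 13811), (13934, 14026), (13935, 13974), (13936, 13975), (13937, 14025), (13938, 13909), (13939, 13862), (13940, 13863), (13941, 13864), (13942,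 13865), (13943, 13993), (13944, 13928), (13945, 13866), (13946, 13792), (13947, 13793), (13948, 14038), (13949, 13797), (13950, 14040), (13951, 13802)]
    ⟨e3 q13888 (flp_b L213886) q14009, e3 q13889 (flp_b L213408) q13967, e3 q13890 L212576 q13708, e3 q13891 L212589 q13709, e3 q13892 (flp_b L213908) q14011, e3 q13893 (flp_b L213324) q13959, e3 q13894 (flp_b L213337) q13960, e3 q13895 L212638 q13713, e3 q13896 (flp_b L213947) q14014, e3 q13897 L212655 q13737, e3 q13898 L212668 q13738, e3 q13899 L212680 q13719, e3 q13900 L212688 q13720, e3 q13901 L212697 q13721, e3 q13902 (flp_b L213972) q14016, e3 q13903 (flp_b L213979) q14017, e3 q13904 L212728 q13739, e3 q13905 L212740 q13725, e3 q13906 L212747 q13768, e3 q13907 L212762 q13729, e3 q13908 (flp_b L214019) q14020, e3 q13909 (flp_b L213088) q13938, e3 q13910 (flp_b L213809) q14003, e3 q13911 L212802 q13879, e3 q13912 L212816 q13848, e3 q13913 (flp_b L213960) q14015, e3 q13914 (flp_b L214004) q14019, e3 q13915 L212847 q13776, e3 q13916 L212859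 q13773, e3 q13917 L212870 q13774, e3 q13918 L212880 q13759, e3 q13919 L212891 q13760, e3 q13920 L212903 q13746, e3 q13921 (flp_b L214117) q14028, e3 q13922 L212916 q13852, e3 q13923 L212928 q13750, e3 q13924 L212937 q13764, e3 q13925 L212953 q13794, e3 q13926 L212967 q13788, e3 q13927 (flp_b L214105) q14027, e3 q13928 (flp_b L213149) q13944, e3 q13929 (flp_b L213861) q14007, e3 q13930 L213009 q13767, e3 q13931 (flp_b L214163) q14032, e3 q13932 (flp_b L213706) q13996, e3 q13933 L213035 q13811, e3 q13934 (flp_b L214095) q14026, e3 q13935 (flp_b L213495) q13974, e3 q13936 (flp_b L213510) q13975, e3 q13937 (flp_b L214082) q14025, e3 q13938 L213088 q13909, e3 q13939 L213104 q13862, e3 q13940 L213118 q13863, e3 q13941 L213125 q13864, e3 q13942 L213132 q13865, e3 q13943 (flp_b L213677) q13993, e3 q13944 L213149 q13928, e3 q13945 L213166 q13866, e3 q13946 L213180 q13792, e3 q13947 L213193 q13793, e3 q13948 (flp_b L214238) q14038, e3 q13949 L213221 q13797, e3 q13950 (flp_b L214267) q14040, e3 q13951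 L213242 q13802, trivial⟩ (by decide +kernel)

theorem ce_b_218 : ∀ r, r < 64 → sm gb (Qf (13952 + r)) = Qf (tab Gen.b (13952 + r)) :=
  edges_tab (sm gb) Qf (tab Gen.b) 13952 [(13952, 13803), (13953, 14041), (13954, 13806), (13955, 14043), (13956, 13987), (13957, 14002), (13958, 14006), (13959, 13893), (13960, 13894), (13961, 13817), (13962, 13818), (13963, 13819), (13964, 14046), (13965, 14047), (13966, 13999), (13967, 13889), (13968, 13857), (13969, 13858), (13970, 13836), (13971, 13837), (13972, 13829), (13973, 14052), (13974, 13935), (13975, 13936), (13976, 13835), (13977, 14054), (13978, 14051), (13979, 13839), (13980, 13843), (13981, 13844), (13982, 13845), (13983, 14056), (13984, 14057), (13985, 13847), (13986, 14023), (13987, 13956), (13988, 14029), (13989, 13856), (13990, 14060), (13991, 14050), (13992, 13860), (13993, 13943), (13994, 14036), (13995, 14037), (13996, 13932), (13997, 13870), (13998, 14062), (13999, 13966), (14000, 13875), (14001, 14063), (14002, 13957), (14003, 13910),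 (14004, 14022), (14005, 13881), (14006, 13958), (14007, 13929), (14008, 13886), (14009, 13888), (14010, 14049), (14011, 13892), (14012, 14065), (14013, 14045), (14014, 13896), (14015, 13913)]
    ⟨e3 q13952 L213255 q13803, e3 q13953 (flp_b L214282) q14041, e3 q13954 L213281 q13806, e3 q13955 (flp_b L214309) q14043, e3 q13956 (flp_b L213620) q13987, e3 q13957 (flp_b L213792) q14002, e3 q13958 (flp_b L213848) q14006, e3 q13959 L213324 q13893, e3 q13960 L213337 q13894, e3 q13961 L213349 q13817, e3 q13962 L213359 q13818, e3 q13963 L213372 q13819, e3 q13964 (flp_b L214347) q14046, e3 q13965 (flp_b L214356) q14047, e3 q13966 (flp_b L213750) q13999, e3 q13967 L213408 q13889, e3 q13968 L213420 q13857, e3 q13969 L213435 q13858, e3 q13970 L213449 q13836, e3 q13971 L213462 q13837, e3 q13972 L213476 q13829, e3 q13973 (flp_b L214416) q14052, e3 q13974 L213495 q13935, e3 q13975 L213510 q13936, e3 q13976 L213522 q13835, e3 q13977 (flp_b L214439) q14054, e3 q13978 (flp_b L214404) q14051, e3 q13979 L213547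 q13839, e3 q13980 L213552 q13843, e3 q13981 L213562 q13844, e3 q13982 L213577 q13845, e3 q13983 (flp_b L214455) q14056, e3 q13984 (flp_b L214464) q14057, e3 q13985 L213608 q13847, e3 q13986 (flp_b L214056) q14023, e3 q13987 L213620 q13956, e3 q13988 (flp_b L214124) q14029, e3 q13989 L213641 q13856, e3 q13990 (flp_b L214496) q14060, e3 q13991 (flp_b L214388) q14050, e3 q13992 L213668 q13860, e3 q13993 L213677 q13943, e3 q13994 (flp_b L214216) q14036, e3 q13995 (flp_b L214231) q14037, e3 q13996 L213706 q13932, e3 q13997 L213723 q13870, e3 q13998 (flp_b L214518) q14062, e3 q13999 L213750 q13966, e3 q14000 L213763 q13875, e3 q14001 (flp_b L214533) q14063, e3 q14002 L213792 q13957, e3 q14003 L213809 q13910, e3 q14004 (flp_b L214041) q14022, e3 q14005 L213835 q13881, e3 q14006 L213848 q13958, e3 q14007 L213861 q13929, e3 q14008 L213873 q13886, e3 q14009 L213886 q13888, e3 q14010 (flp_b L214377) q14049, e3 q14011 L213908 q13892, e3 q14012 (flp_b L214563) q14065, e3 q14013 (flp_b L214335) q14045,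 e3 q14014 L213947 q13896, e3 q14015 L213960 q13913, trivial⟩ (by decide +kernel)

theorem ce_b_219 : ∀ r, r < 64 → sm gb (Qf (14016 + r)) = Qf (tab Gen.b (14016 + r)) :=
  edges_tab (sm gb) Qf (tab Gen.b) 14016 [(14016, 13902), (14017, 13903), (14018, 14068), (14019, 13914), (14020, 13908), (14021, 14035), (14022, 14004), (14023, 13986), (14024, 14067), (14025, 13937), (14026, 13934), (14027, 13927), (14028, 13921), (14029, 13988), (14030, 14070), (14031, 14064), (14032, 13931), (14033, 14069), (14034, 14053), (14035, 14021), (14036, 13994), (14037, 13995), (14038, 13948), (14039, 14072), (14040, 13950), (14041, 13953), (14042, 14073), (14043, 13955), (14044, 14059), (14045, 14013), (14046, 13964), (14047, 13965), (14048, 14075), (14049, 14010), (14050, 13991), (14051, 13978), (14052, 13973), (14053, 14034), (14054, 13977), (14055, 14077), (14056, 13983), (14057, 13984), (14058, 14079), (14059, 14044), (14060, 13990), (14061, 14076), (14062, 13998), (14063, 14001), (14064, 14031), (14065,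 14012), (14066, 14074), (14067, 14024), (14068, 14018), (14069, 14033), (14070, 14030), (14071, 14078), (14072, 14039), (14073, 14042), (14074, 14066), (14075, 14048), (14076, 14061), (14077, 14055), (14078, 14071), (14079, 14058)]
    ⟨e3 q14016 L213972 q13902, e3 q14017 L213979 q13903, e3 q14018 (flp_b L214604) q14068, e3 q14019 L214004 q13914, e3 q14020 L214019 q13908, e3 q14021 (flp_b L214201) q14035, e3 q14022 L214041 q14004, e3 q14023 L214056 q13986, e3 q14024 (flp_b L214591) q14067, e3 q14025 L214082 q13937, e3 q14026 L214095 q13934, e3 q14027 L214105 q13927, e3 q14028 L214117 q13921, e3 q14029 L214124 q13988, e3 q14030 (flp_b L214628) q14070, e3 q14031 (flp_b L214548) q14064, e3 q14032 L214163 q13931, e3 q14033 (flp_b L214617) q14069, e3 q14034 (flp_b L214425) q14053, e3 q14035 L214201 q14021, e3 q14036 L214216 q13994, e3 q14037 L214231 q13995, e3 q14038 L214238 q13948, e3 q14039 (flp_b L214654) q14072, e3 q14040 L214267 q13950, e3 q14041 L214282 q13953, e3 q14042 (flp_b L214671)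 q14073, e3 q14043 L214309 q13955, e3 q14044 (flp_b L214487) q14059, e3 q14045 L214335 q14013, e3 q14046 L214347 q13964, e3 q14047 L214356 q13965, e3 q14048 (flp_b L214699) q14075, e3 q14049 L214377 q14010, e3 q14050 L214388 q13991, e3 q14051 L214404 q13978, e3 q14052 L214416 q13973, e3 q14053 L214425 q14034, e3 q14054 L214439 q13977, e3 q14055 (flp_b L214729) q14077, e3 q14056 L214455 q13983, e3 q14057 L214464 q13984, e3 q14058 (flp_b L214759) q14079, e3 q14059 L214487 q14044, e3 q14060 L214496 q13990, e3 q14061 (flp_b L214714) q14076, e3 q14062 L214518 q13998, e3 q14063 L214533 q14001, e3 q14064 L214548 q14031, e3 q14065 L214563 q14012, e3 q14066 (flp_b L214686) q14074, e3 q14067 L214591 q14024, e3 q14068 L214604 q14018, e3 q14069 L214617 q14033, e3 q14070 L214628 q14030, e3 q14071 (flp_b L214744) q14078, e3 q14072 L214654 q14039, e3 q14073 L214671 q14042, e3 q14074 L214686 q14066, e3 q14075 L214699 q14048, e3 q14076 L214714 q14061, e3 q14077 L214729 q14055, e3 q14078 L214744 q14071, e3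 q14079 L214759 q14058, trivial⟩ (by decide +kernel)

theorem cl_b : ∀ i, i < 14080 → sm gb (Qf i) = Qf (tab Gen.b i) :=
  all_of_chunks (fun i => sm gb (Qf i) = Qf (tab Gen.b i)) 220 0
    ⟨ce_b_0, ce_b_1, ce_b_2, ce_b_3, ce_b_4, ce_b_5, ce_b_6, ce_b_7, ce_b_8, ce_b_9, ce_b_10, ce_b_11, ce_b_12, ce_b_13, ce_b_14, ce_b_15, ce_b_16, ce_b_17, ce_b_18, ce_b_19, ce_b_20, ce_b_21, ce_b_22, ce_b_23, ce_b_24, ce_b_25, ce_b_26, ce_b_27, ce_b_28, ce_b_29, ce_b_30, ce_b_31, ce_b_32, ce_b_33, ce_b_34, ce_b_35, ce_b_36, ce_b_37, ce_b_38, ce_b_39, ce_b_40, ce_b_41, ce_b_42, ce_b_43, ce_b_44, ce_b_45, ce_b_46, ce_b_47, ce_b_48, ce_b_49, ce_b_50, ce_b_51, ce_b_52, ce_b_53, ce_b_54, ce_b_55, ce_b_56, ce_b_57, ce_b_58, ce_b_59, ce_b_60, ce_b_61, ce_b_62, ce_b_63, ce_b_64, ce_b_65, ce_b_66, ce_b_67, ce_b_68, ce_b_69, ce_b_70, ce_b_71, ce_b_72, ce_b_73, ce_b_74, ce_b_75, ce_b_76, ce_b_77, ce_b_78, ce_b_79, ce_b_80, ce_b_81, ce_b_82, ce_b_83, ce_b_84, ce_b_85, ce_b_86, ce_b_87, ce_b_88, ce_b_89, ce_b_90, ce_b_91,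 ce_b_92, ce_b_93, ce_b_94, ce_b_95, ce_b_96, ce_b_97, ce_b_98, ce_b_99, ce_b_100, ce_b_101, ce_b_102, ce_b_103, ce_b_104, ce_b_105, ce_b_106, ce_b_107, ce_b_108, ce_b_109, ce_b_110, ce_b_111, ce_b_112, ce_b_113, ce_b_114, ce_b_115, ce_b_116, ce_b_117, ce_b_118, ce_b_119, ce_b_120, ce_b_121, ce_b_122, ce_b_123, ce_b_124, ce_b_125, ce_b_126, ce_b_127, ce_b_128, ce_b_129, ce_b_130, ce_b_131, ce_b_132, ce_b_133, ce_b_134, ce_b_135, ce_b_136, ce_b_137, ce_b_138, ce_b_139, ce_b_140, ce_b_141, ce_b_142, ce_b_143, ce_b_144, ce_b_145, ce_b_146, ce_b_147, ce_b_148, ce_b_149, ce_b_150, ce_b_151, ce_b_152, ce_b_153, ce_b_154, ce_b_155, ce_b_156, ce_b_157, ce_b_158, ce_b_159, ce_b_160, ce_b_161, ce_b_162, ce_b_163, ce_b_164, ce_b_165, ce_b_166, ce_b_167, ce_b_168, ce_b_169, ce_b_170, ce_b_171, ce_b_172, ce_b_173, ce_b_174, ce_b_175, ce_b_176, ce_b_177, ce_b_178, ce_b_179, ce_b_180, ce_b_181, ce_b_182, ce_b_183, ce_b_184, ce_b_185, ce_b_186, ce_b_187, ce_b_188, ce_b_189, ce_b_190, ce_b_191, ce_b_192,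 ce_b_193, ce_b_194, ce_b_195, ce_b_196, ce_b_197, ce_b_198, ce_b_199, ce_b_200, ce_b_201, ce_b_202, ce_b_203, ce_b_204, ce_b_205, ce_b_206, ce_b_207, ce_b_208, ce_b_209, ce_b_210, ce_b_211, ce_b_212, ce_b_213, ce_b_214, ce_b_215, ce_b_216, ce_b_217, ce_b_218, ce_b_219, trivial⟩
    (fun r hr => absurd hr (Nat.not_lt_zero r))


end Cfsg.Agent.Helper28.FibA
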