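import Cfsg.Agent.Helper28.FibC0

/-!
# The Fi₂₂ presentation, cosets of the subgroup generated by b, …, i: the action of the generator c (helper28; generated)
-/

set_option autoImplicit false
set_option maxRecDepth 100000
set_option linter.unusedSimpArgs false
set_option linter.constructorNameAsVariable false

noncomputable section

namespace Cfsg.Agent.Helper28.FibA

open Cfsg.Spor Cfsg.Spor.Fi22 Cfsg.Agent.Helper28.CosetTable

theorem ce_c_0 : ∀ r, r < 64 → sm gc (Qf (0 + r)) = Qf (tab Gen.c (0 + r)) :=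
  edges_tab (sm gc) Qf (tab Gen.c) 0 [(0, 0), (1, 1), (2, 3), (3, 2), (4, 4), (5, 5), (6, 6), (7, 7), (8, 8), (9, 9), (10, 10), (11, 11), (12, 17), (13, 13), (14, 14), (15, 21), (16, 16), (17, 12), (18, 25), (19, 27), (20, 20), (21, 15), (22, 31), (23, 32), (24, 24), (25, 18), (26, 37), (27, 19), (28, 39), (29, 40), (30, 30), (31, 22), (32, 23), (33, 48), (34, 49), (35, 35), (36, 36), (37, 26), (38, 38), (39, 28), (40, 29), (41, 58), (42, 59), (43, 60), (44, 44), (45, 45), (46, 46), (47, 47), (48, 33), (49, 34), (50, 70), (51, 51), (52, 52), (53, 53), (54, 54), (55, 55), (56, 56), (57, 57), (58, 41), (59, 42), (60, 43), (61, 85), (62, 86), (63, 63)]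
    ⟨e3 q0 L1 q0, e3 q1 L10 q1, e3 q2 L26 q3, e3 q3 (flp_c L26) q2, e3 q4 L42 q4, e3 q5 L47 q5, e3 q6 L55 q6, e3 q7 L63 q7, e3 q8 L71 q8, e3 q9 L79 q9, e3 q10 L88 q10, e3 q11 L97 q11, e3 q12 L142 q17, e3 q13 L112 q13, e3 q14 L121 q14, e3 q15 L175 q21, e3 q16 L137 q16, e3 q17 (flp_c L142) q12, e3 q18 (flp_c L207) q25, e3 q19 L220 q27, e3 q20 L169 q20, e3 q21 (flp_c L175) q15, e3 q22 (flp_c L255) q31, e3 q23 (flp_c L262) q32, e3 q24 L203 q24, e3 q25 L207 q18, e3 q26 (flp_c L302) q37, e3 q27 (flp_c L220) q19, e3 q28 (flp_c L318) q39, e3 q29 (flp_c L326) q40, e3 q30 L251 q30, e3 q31 L255 q22, e3 q32 L262 q23, e3 q33 (flp_c L390) q48, e3 q34 (flp_c L398) q49, e3 q35 L285 q35, e3 q36 L295 q36, e3 q37 L302 q26, e3 q38 L314 q38, e3 q39 L318 q28, e3 q40 L326 q29, e3 q41 (flp_c L471) q58, e3 q42 (flp_c L479) q59, e3 q43 (flp_c L488) q60, e3 q44 L360 q44, e3 q45 L370 q45, e3 q46 L377 q46, e3 q47 L385 q47, e3 q48 L390 q33, e3 q49 L398 q34, e3 q50 (flp_c L569) q70, e3 q51 L416 q51, e3 q52 L424 q52,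 e3 q53 L433 q53, e3 q54 L437 q54, e3 q55 L448 q55, e3 q56 L456 q56, e3 q57 L466 q57, e3 q58 L471 q41, e3 q59 L479 q42, e3 q60 L488 q43, e3 q61 (flp_c L694) q85, e3 q62 (flp_c L703) q86, e3 q63 L517 q63, trivial⟩ (by decide +kernel)

theorem ce_c_1 : ∀ r, r < 64 → sm gc (Qf (64 + r)) = Qf (tab Gen.c (64 + r)) :=
  edges_tab (sm gc) Qf (tab Gen.c) 64 [(64, 64), (65, 93), (66, 66), (67, 67), (68, 68), (69, 69), (70, 50), (71, 71), (72, 102), (73, 73), (74, 104), (75, 75), (76, 76), (77, 77), (78, 111), (79, 79), (80, 80), (81, 81), (82, 82), (83, 83), (84, 84), (85, 61), (86, 62), (87, 87), (88, 123), (89, 127), (90, 94), (91, 91), (92, 92), (93, 65), (94, 90), (95, 131), (96, 96), (97, 135), (98, 98), (99, 99), (100, 139), (101, 101), (102, 72), (103, 105), (104, 74), (105, 103), (106, 106), (107, 113), (108, 108), (109, 109), (110, 110), (111, 78), (112, 150), (113, 107), (114, 151), (115, 115), (116, 116), (117, 159), (118, 118), (119, 119), (120, 120), (121, 121), (122, 122), (123, 88),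 (124, 168), (125, 125), (126, 171), (127, 89)]
    ⟨e3 q64 L525 q64, e3 q65 L762 q93, e3 q66 L539 q66, e3 q67 L547 q67, e3 q68 L554 q68, e3 q69 L561 q69, e3 q70 L569 q50, e3 q71 L581 q71, e3 q72 L830 q102, e3 q73 L596 q73, e3 q74 L845 q104, e3 q75 L610 q75, e3 q76 L620 q76, e3 q77 L629 q77, e3 q78 L904 q111, e3 q79 L645 q79, e3 q80 L653 q80, e3 q81 L662 q81, e3 q82 L670 q82, e3 q83 L677 q83, e3 q84 L685 q84, e3 q85 L694 q61, e3 q86 L703 q62, e3 q87 L717 q87, e3 q88 (flp_c L1011) q123, e3 q89 L1041 q127, e3 q90 L779 q94, e3 q91 L749 q91, e3 q92 L758 q92, e3 q93 (flp_c L762) q65, e3 q94 (flp_c L779) q90, e3 q95 (flp_c L1080) q131, e3 q96 L793 q96, e3 q97 L1108 q135, e3 q98 L809 q98, e3 q99 L816 q99, e3 q100 L1136 q139, e3 q101 L827 q101, e3 q102 (flp_c L830) q72, e3 q103 (flp_c L107969) q105, e3 q104 (flp_c L845) q74, e3 q105 L107969 q103, e3 q106 L863 q106, e3 q107 (flp_c L926) q113, e3 q108 L880 q108, e3 q109 L889 q109, e3 q110 L899 q110, e3 q111 (flp_c L904) q78, e3 q112 (flp_c L1256)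 q150, e3 q113 L926 q107, e3 q114 (flp_c L1265) q151, e3 q115 L945 q115, e3 q116 L954 q116, e3 q117 L1335 q159, e3 q118 L972 q118, e3 q119 L979 q119, e3 q120 L987 q120, e3 q121 L996 q121, e3 q122 L1004 q122, e3 q123 L1011 q88, e3 q124 L1407 q168, e3 q125 L1027 q125, e3 q126 L1430 q171, e3 q127 (flp_c L1041) q89, trivial⟩ (by decide +kernel)

theorem ce_c_2 : ∀ r, r < 64 → sm gc (Qf (128 + r)) = Qf (tab Gen.c (128 + r)) :=
  edges_tab (sm gc) Qf (tab Gen.c) 128 [(128, 132), (129, 129), (130, 143), (131, 95), (132, 128), (133, 177), (134, 180), (135, 97), (136, 182), (137, 137), (138, 185), (139, 100), (140, 188), (141, 141), (142, 142), (143, 130), (144, 144), (145, 153), (146, 155), (147, 147), (148, 148), (149, 192), (150, 112), (151, 114), (152, 199), (153, 145), (154, 200), (155, 146), (156, 201), (157, 157), (158, 209), (159, 117), (160, 211), (161, 161), (162, 162), (163, 163), (164, 164), (165, 165), (166, 219), (167, 221), (168, 124), (169, 224), (170, 170), (171, 126), (172, 228),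 (173, 173), (174, 178), (175, 231), (176, 183), (177, 133), (178, 174), (179, 235), (180, 134), (181, 238), (182, 136), (183, 176), (184, 242), (185, 138), (186, 245), (187, 237), (188, 140), (189, 249), (190, 190), (191, 191)]
    ⟨e3 q128 (flp_c L1091) q132, e3 q129 L1063 q129, e3 q130 (flp_c L107981) q143, e3 q131 L1080 q95, e3 q132 L1091 q128, e3 q133 (flp_c L1488) q177, e3 q134 L1513 q180, e3 q135 (flp_c L1108) q97, e3 q136 (flp_c L1528) q182, e3 q137 L1125 q137, e3 q138 L1547 q185, e3 q139 (flp_c L1136) q100, e3 q140 (flp_c L1569) q188, e3 q141 L1152 q141, e3 q142 L1163 q142, e3 q143 L107981 q130, e3 q144 L1199 q144, e3 q145 (flp_c L1284) q153, e3 q146 (flp_c L1305) q155, e3 q147 L1227 q147, e3 q148 L1237 q148, e3 q149 (flp_c L107939) q192, e3 q150 L1256 q112, e3 q151 L1265 q114, e3 q152 (flp_c L1710) q199, e3 q153 L1284 q145, e3 q154 (flp_c L1719) q200, e3 q155 L1305 q146, e3 q156 (flp_c L1728) q201, e3 q157 L1322 q157, e3 q158 L1804 q209, e3 q159 (flp_c L1335) q117, e3 q160 (flp_c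 L1822) q211, e3 q161 L1355 q161, e3 q162 L1363 q162, e3 q163 L1372 q163, e3 q164 L1380 q164, e3 q165 L1387 q165, e3 q166 L1883 q219, e3 q167 L1899 q221, e3 q168 (flp_c L1407) q124, e3 q169 (flp_c L1924) q224, e3 q170 L1426 q170, e3 q171 (flp_c L1430) q126, e3 q172 (flp_c L1956) q228, e3 q173 L1454 q173, e3 q174 (flp_c L1500) q178, e3 q175 L1979 q231, e3 q176 L108174 q183, e3 q177 L1488 q133, e3 q178 L1500 q174, e3 q179 L2037 q235, e3 q180 (flp_c L1513) q134, e3 q181 (flp_c L2058) q238, e3 q182 L1528 q136, e3 q183 (flp_c L108174) q176, e3 q184 L2091 q242, e3 q185 (flp_c L1547) q138, e3 q186 (flp_c L2115) q245, e3 q187 (flp_c L2054) q237, e3 q188 L1569 q140, e3 q189 (flp_c L2142) q249, e3 q190 L1583 q190, e3 q191 L1590 q191, trivial⟩ (by decide +kernel)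

theorem ce_c_3 : ∀ r, r < 64 → sm gc (Qf (192 + r)) = Qf (tab Gen.c (192 + r)) :=
  edges_tab (sm gc) Qf (tab Gen.c) 192 [(192, 149), (193, 202), (194, 204), (195, 206), (196, 196), (197, 255), (198, 241), (199, 152), (200, 154), (201, 156), (202, 193), (203, 259), (204, 194), (205, 260), (206, 195), (207, 268), (208, 270), (209, 158), (210, 273), (211, 160), (212, 276), (213, 278), (214, 214), (215, 215), (216, 216), (217, 283), (218, 285), (219, 166), (220, 288), (221, 167), (222, 291), (223, 272), (224, 169), (225, 295), (226, 226), (227, 227), (228, 172), (229, 229), (230, 300), (231, 175), (232, 303), (233, 304), (234, 306), (235, 179), (236, 309), (237, 187), (238, 181), (239, 314), (240, 313), (241, 198), (242, 184), (243, 318), (244, 308), (245, 186), (246, 323), (247, 311), (248, 312), (249, 189), (250, 327), (251, 263), (252, 265), (253, 330), (254, 332), (255, 197)]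
    ⟨e3 q192 L107939 q149, e3 q193 (flp_c L1741) q202, e3 q194 (flp_c L1762) q204, e3 q195 (flp_c L1781) q206, e3 q196 L1674 q196, e3 q197 L2246 q255, e3 q198 L108157 q241, e3 q199 L1710 q152, e3 q200 L1719 q154, e3 q201 L1728 q156, e3 q202 L1741 q193, e3 q203 (flp_c L2303) q259, e3 q204 L1762 q194, e3 q205 (flp_c L2312) q260, e3 q206 L1781 q195, e3 q207 L2391 q268, e3 q208 L2406 q270, e3 q209 (flp_c L1804) q158, e3 q210 (flp_c L2430) q273, e3 q211 L1822 q160, e3 q212 (flp_c L2452) q276, e3 q213 L2466 q278, e3 q214 L1845 q214, e3 q215 L1853 q215, e3 q216 L1861 q216, e3 q217 L2508 q283, e3 q218 L2523 q285, e3 q219 (flp_c L1883) q166, e3 q220 (flp_c L2551) q288, e3 q221 (flp_c L1899) q167, e3 q222 (flp_c L2574) q291, e3 q223 (flp_c L2426) q272, e3 q224 L1924 q169, e3 q225 (flp_c L2604) q295, e3 q226 L1939 q226, e3 q227 L1952 q227, e3 q228 L1956 q172, e3 q229 L1964 q229, e3 q230 L2641 q300, e3 q231 (flp_c L1979) q175, e3 q232 (flp_c L2666) q303, e3 q233 L2711 q304, e3 q234 L2726 q306, e3 q235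 (flp_c L2037) q179, e3 q236 (flp_c L2755) q309, e3 q237 L2054 q187, e3 q238 L2058 q181, e3 q239 (flp_c L2789) q314, e3 q240 (flp_c L2784) q313, e3 q241 (flp_c L108157) q198, e3 q242 (flp_c L2091) q184, e3 q243 (flp_c L2831) q318, e3 q244 (flp_c L2751) q308, e3 q245 L2115 q186, e3 q246 (flp_c L2866) q323, e3 q247 (flp_c L2769) q311, e3 q248 (flp_c L2778) q312, e3 q249 L2142 q189, e3 q250 (flp_c L2895) q327, e3 q251 (flp_c L2344) q263, e3 q252 (flp_c L2364) q265, e3 q253 L2989 q330, e3 q254 L3007 q332, e3 q255 (flp_c L2246) q197, trivial⟩ (by decide +kernel)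

theorem ce_c_4 : ∀ r, r < 64 → sm gc (Qf (256 + r)) = Qf (tab Gen.c (256 + r)) :=
  edges_tab (sm gc) Qf (tab Gen.c) 256 [(256, 335), (257, 277), (258, 258), (259, 203), (260, 205), (261, 340), (262, 262), (263, 251), (264, 338), (265, 252), (266, 346), (267, 348), (268, 207), (269, 351), (270, 208), (271, 354), (272, 223), (273, 210), (274, 359), (275, 358), (276, 212), (277, 257), (278, 213), (279, 363), (280, 280), (281, 366), (282, 368), (283, 217), (284, 371), (285, 218), (286, 374), (287, 350), (288, 220), (289, 379), (290, 353), (291, 222), (292, 384), (293, 356), (294, 357), (295, 225), (296, 388), (297, 297), (298, 298), (299, 299), (300, 230), (301, 393), (302, 302), (303, 232), (304, 233), (305, 397), (306, 234), (307, 400), (308, 244), (309, 236), (310, 405), (311, 247), (312, 248), (313, 240), (314, 239), (315, 411), (316, 410), (317, 399), (318, 243), (319, 415)]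
    ⟨e3 q256 (flp_c L3035) q335, e3 q257 L108146 q277, e3 q258 L2297 q258, e3 q259 L2303 q203, e3 q260 L2312 q205, e3 q261 L3114 q340, e3 q262 L2335 q262, e3 q263 L2344 q251, e3 q264 (flp_c L3097) q338, e3 q265 L2364 q252, e3 q266 L3177 q346, e3 q267 L3191 q348, e3 q268 (flp_c L2391) q207, e3 q269 (flp_c L3224) q351, e3 q270 (flp_c L2406) q208, e3 q271 (flp_c L3248) q354, e3 q272 L2426 q223, e3 q273 L2430 q210, e3 q274 (flp_c L3287) q359, e3 q275 (flp_c L3282) q358, e3 q276 L2452 q212, e3 q277 (flp_c L108146) q257, e3 q278 (flp_c L2466) q213, e3 q279 (flp_c L3326) q363, e3 q280 L2486 q280, e3 q281 L3346 q366, e3 q282 L3360 q368, e3 q283 (flp_c L2508) q217, e3 q284 (flp_c L3388) q371, e3 q285 (flp_c L2523) q218, e3 q286 (flp_c L3411) q374, e3 q287 (flp_c L3220) q350, e3 q288 L2551 q220, e3 q289 (flp_c L3452) q379, e3 q290 (flp_c L3244) q353, e3 q291 L2574 q222, e3 q292 (flp_c L3490) q384, e3 q293 (flp_c L3262) q356, e3 q294 (flp_c L3272) q357, e3 q295 L2604 q225, e3 q296 (flp_c L3521) q388,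 e3 q297 L2618 q297, e3 q298 L2629 q298, e3 q299 L2640 q299, e3 q300 (flp_c L2641) q230, e3 q301 (flp_c L3561) q393, e3 q302 L2661 q302, e3 q303 L2666 q232, e3 q304 (flp_c L2711) q233, e3 q305 (flp_c L3664) q397, e3 q306 (flp_c L2726) q234, e3 q307 (flp_c L3691) q400, e3 q308 L2751 q244, e3 q309 L2755 q236, e3 q310 (flp_c L3727) q405, e3 q311 L2769 q247, e3 q312 L2778 q248, e3 q313 L2784 q240, e3 q314 L2789 q239, e3 q315 (flp_c L3776) q411, e3 q316 (flp_c L3771) q410, e3 q317 (flp_c L3685) q399, e3 q318 L2831 q243, e3 q319 (flp_c L3830) q415, trivial⟩ (by decide +kernel)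

theorem ce_c_5 : ∀ r, r < 64 → sm gc (Qf (320 + r)) = Qf (tab Gen.c (320 + r)) :=
  edges_tab (sm gc) Qf (tab Gen.c) 320 [(320, 402), (321, 403), (322, 322), (323, 246), (324, 421), (325, 407), (326, 409), (327, 250), (328, 343), (329, 425), (330, 253), (331, 428), (332, 254), (333, 431), (334, 334), (335, 256), (336, 435), (337, 337), (338, 264), (339, 438), (340, 261), (341, 441), (342, 342), (343, 328), (344, 445), (345, 447), (346, 266), (347, 450), (348, 267), (349, 453), (350, 287), (351, 269), (352, 458), (353, 290), (354, 271), (355, 463), (356, 293), (357, 294), (358, 275), (359, 274), (360, 470), (361, 468), (362, 469), (363, 279), (364, 474), (365, 476), (366, 281), (367, 479), (368, 282), (369, 482), (370, 449), (371, 284), (372, 487), (373, 452), (374, 286), (375, 492), (376, 455), (377, 456), (378, 378), (379, 289), (380, 498), (381, 460), (382, 461), (383, 383)]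
    ⟨e3 q320 (flp_c L3709) q402, e3 q321 (flp_c L3718) q403, e3 q322 L2860 q322, e3 q323 L2866 q246, e3 q324 (flp_c L3874) q421, e3 q325 (flp_c L3744) q407, e3 q326 (flp_c L3758) q409, e3 q327 L2895 q250, e3 q328 (flp_c L3150) q343, e3 q329 L3998 q425, e3 q330 (flp_c L2989) q253, e3 q331 (flp_c L4026) q428, e3 q332 (flp_c L3007) q254, e3 q333 (flp_c L4052) q431, e3 q334 L3030 q334, e3 q335 L3035 q256, e3 q336 (flp_c L4096) q435, e3 q337 L3088 q337, e3 q338 L3097 q264, e3 q339 L4168 q438, e3 q340 (flp_c L3114) q261, e3 q341 (flp_c L4197) q441, e3 q342 L3138 q342, e3 q343 L3150 q328, e3 q344 L4232 q445, e3 q345 L4245 q447, e3 q346 (flp_c L3177) q266, e3 q347 (flp_c L4278) q450, e3 q348 (flp_c L3191) q267, e3 q349 (flp_c L4306) q453, e3 q350 L3220 q287, e3 q351 L3224 q269, e3 q352 (flp_c L4348) q458, e3 q353 L3244 q290, e3 q354 L3248 q271, e3 q355 (flp_c L4386) q463, e3 q356 L3262 q293, e3 q357 L3272 q294, e3 q358 L3282 q275, e3 q359 L3287 q274, e3 q360 (flp_c L4441) q470, e3 q361 (flp_c L4427)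 q468, e3 q362 (flp_c L4434) q469, e3 q363 L3326 q279, e3 q364 (flp_c L4478) q474, e3 q365 L4492 q476, e3 q366 (flp_c L3346) q281, e3 q367 (flp_c L4517) q479, e3 q368 (flp_c L3360) q282, e3 q369 (flp_c L4540) q482, e3 q370 (flp_c L4274) q449, e3 q371 L3388 q284, e3 q372 (flp_c L4578) q487, e3 q373 (flp_c L4300) q452, e3 q374 L3411 q286, e3 q375 (flp_c L4622) q492, e3 q376 (flp_c L4325) q455, e3 q377 (flp_c L4335) q456, e3 q378 L3446 q378, e3 q379 L3452 q289, e3 q380 (flp_c L4669) q498, e3 q381 (flp_c L4363) q460, e3 q382 (flp_c L4374) q461, e3 q383 L3484 q383, trivial⟩ (by decide +kernel)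

theorem ce_c_6 : ∀ r, r < 64 → sm gc (Qf (384 + r)) = Qf (tab Gen.c (384 + r)) :=
  edges_tab (sm gc) Qf (tab Gen.c) 384 [(384, 292), (385, 504), (386, 465), (387, 467), (388, 296), (389, 389), (390, 508), (391, 391), (392, 392), (393, 301), (394, 394), (395, 395), (396, 396), (397, 305), (398, 518), (399, 317), (400, 307), (401, 522), (402, 320), (403, 321), (404, 404), (405, 310), (406, 529), (407, 325), (408, 408), (409, 326), (410, 316), (411, 315), (412, 519), (413, 520), (414, 414), (415, 319), (416, 539), (417, 524), (418, 542), (419, 526), (420, 420), (421, 324), (422, 531), (423, 533), (424, 548), (425, 329), (426, 551), (427, 427), (428, 331), (429, 556), (430, 430), (431, 333), (432, 560), (433, 433), (434, 434), (435, 336), (436, 436), (437, 564), (438, 339), (439, 567), (440, 440), (441, 341), (442, 572), (443, 443), (444, 575), (445, 344), (446, 578), (447, 345)]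
    ⟨e3 q384 L3490 q292, e3 q385 (flp_c L4715) q504, e3 q386 (flp_c L4404) q465, e3 q387 (flp_c L4422) q467, e3 q388 L3521 q296, e3 q389 L3532 q389, e3 q390 L4744 q508, e3 q391 L3547 q391, e3 q392 L3556 q392, e3 q393 L3561 q301, e3 q394 L3576 q394, e3 q395 L3586 q395, e3 q396 L3661 q396, e3 q397 L3664 q305, e3 q398 (flp_c L4935) q518, e3 q399 L3685 q317, e3 q400 L3691 q307, e3 q401 (flp_c L4983) q522, e3 q402 L3709 q320, e3 q403 L3718 q321, e3 q404 L3724 q404, e3 q405 L3727 q310, e3 q406 (flp_c L5033) q529, e3 q407 L3744 q325, e3 q408 L3752 q408, e3 q409 L3758 q326, e3 q410 L3771 q316, e3 q411 L3776 q315, e3 q412 (flp_c L4951) q519, e3 q413 (flp_c L4965) q520, e3 q414 L3825 q414, e3 q415 L3830 q319, e3 q416 (flp_c L5169) q539, e3 q417 (flp_c L5004) q524, e3 q418 L5190 q542, e3 q419 (flp_c L5016) q526, e3 q420 L3867 q420, e3 q421 L3874 q324, e3 q422 (flp_c L5049) q531, e3 q423 (flp_c L5071) q533, e3 q424 L5351 q548, e3 q425 (flp_c L3998) q329, e3 q426 (flp_c L5379) q551, e3 q427 L4021 q427,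 e3 q428 L4026 q331, e3 q429 (flp_c L5422) q556, e3 q430 L4047 q430, e3 q431 L4052 q333, e3 q432 (flp_c L5465) q560, e3 q433 L4067 q433, e3 q434 L4078 q434, e3 q435 L4096 q336, e3 q436 L4156 q436, e3 q437 L5607 q564, e3 q438 (flp_c L4168) q339, e3 q439 (flp_c L5636) q567, e3 q440 L4194 q440, e3 q441 L4197 q341, e3 q442 (flp_c L5681) q572, e3 q443 L4217 q443, e3 q444 L5706 q575, e3 q445 (flp_c L4232) q344, e3 q446 (flp_c L5736) q578, e3 q447 (flp_c L4245) q345, trivial⟩ (by decide +kernel)

theorem ce_c_7 : ∀ r, r < 64 → sm gc (Qf (448 + r)) = Qf (tab Gen.c (448 + r)) :=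
  edges_tab (sm gc) Qf (tab Gen.c) 448 [(448, 581), (449, 370), (450, 347), (451, 586), (452, 373), (453, 349), (454, 591), (455, 376), (456, 377), (457, 457), (458, 352), (459, 598), (460, 381), (461, 382), (462, 462), (463, 355), (464, 604), (465, 386), (466, 466), (467, 387), (468, 361), (469, 362), (470, 360), (471, 610), (472, 611), (473, 612), (474, 364), (475, 615), (476, 365), (477, 618), (478, 577), (479, 367), (480, 623), (481, 580), (482, 369), (483, 628), (484, 583), (485, 584), (486, 622), (487, 372), (488, 635), (489, 588), (490, 589), (491, 491), (492, 375), (493, 641), (494, 593), (495, 644), (496, 595), (497, 497), (498, 380), (499, 599), (500, 651), (501, 601), (502, 502), (503, 503), (504, 385), (505, 606), (506, 609), (507, 659), (508, 390), (509, 661), (510, 510), (511, 511)]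
    ⟨e3 q448 (flp_c L5764) q581, e3 q449 L4274 q370, e3 q450 L4278 q347, e3 q451 (flp_c L5804) q586, e3 q452 L4300 q373, e3 q453 L4306 q349, e3 q454 (flp_c L5858) q591, e3 q455 L4325 q376, e3 q456 L4335 q377, e3 q457 L4345 q457, e3 q458 L4348 q352, e3 q459 (flp_c L5913) q598, e3 q460 L4363 q381, e3 q461 L4374 q382, e3 q462 L4382 q462, e3 q463 L4386 q355, e3 q464 (flp_c L5956) q604, e3 q465 L4404 q386, e3 q466 L4416 q466, e3 q467 L4422 q387, e3 q468 L4427 q361, e3 q469 L4434 q362, e3 q470 L4441 q360, e3 q471 (flp_c L6005) q610, e3 q472 (flp_c L6020) q611, e3 q473 (flp_c L6026) q612, e3 q474 L4478 q364, e3 q475 L6068 q615, e3 q476 (flp_c L4492) q365, e3 q477 (flp_c L6094) q618, e3 q478 (flp_c L5732) q577, e3 q479 L4517 q367, e3 q480 (flp_c L6130) q623, e3 q481 (flp_c L5758) q580, e3 q482 L4540 q369, e3 q483 (flp_c L6170) q628, e3 q484 (flp_c L5783) q583, e3 q485 (flp_c L5794) q584, e3 q486 (flp_c L6124) q622, e3 q487 L4578 q372, e3 q488 (flp_c L6223) q635, e3 q489 (flp_c L5821) q588, e3 q490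 (flp_c L5836) q589, e3 q491 L4617 q491, e3 q492 L4622 q375, e3 q493 (flp_c L6276) q641, e3 q494 (flp_c L5879) q593, e3 q495 L6299 q644, e3 q496 (flp_c L5895) q595, e3 q497 L4662 q497, e3 q498 L4669 q380, e3 q499 (flp_c L5923) q599, e3 q500 L6353 q651, e3 q501 (flp_c L5938) q601, e3 q502 L4700 q502, e3 q503 L4708 q503, e3 q504 L4715 q385, e3 q505 (flp_c L5975) q606, e3 q506 (flp_c L5998) q609, e3 q507 L6416 q659, e3 q508 (flp_c L4744) q390, e3 q509 (flp_c L6435) q661, e3 q510 L4761 q510, e3 q511 L4768 q511, trivial⟩ (by decide +kernel)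

theorem ce_c_8 : ∀ r, r < 64 → sm gc (Qf (512 + r)) = Qf (tab Gen.c (512 + r)) :=
  edges_tab (sm gc) Qf (tab Gen.c) 512 [(512, 512), (513, 513), (514, 514), (515, 515), (516, 516), (517, 517), (518, 398), (519, 412), (520, 413), (521, 521), (522, 401), (523, 675), (524, 417), (525, 678), (526, 419), (527, 527), (528, 528), (529, 406), (530, 530), (531, 422), (532, 532), (533, 423), (534, 670), (535, 687), (536, 672), (537, 537), (538, 538), (539, 416), (540, 694), (541, 677), (542, 418), (543, 697), (544, 681), (545, 545), (546, 546), (547, 684), (548, 424), (549, 702), (550, 550), (551, 426), (552, 707), (553, 553), (554, 554), (555, 555), (556, 429), (557, 557), (558, 558), (559, 559), (560, 432), (561, 561), (562, 562), (563, 718), (564, 437), (565, 721), (566, 566), (567, 439), (568, 726), (569, 569), (570, 570), (571, 571), (572, 442), (573, 733), (574, 734), (575, 444)]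
    ⟨e3 q512 L4778 q512, e3 q513 L4785 q513, e3 q514 L4810 q514, e3 q515 L4911 q515, e3 q516 L4922 q516, e3 q517 L4930 q517, e3 q518 L4935 q398, e3 q519 L4951 q412, e3 q520 L4965 q413, e3 q521 L4976 q521, e3 q522 L4983 q401, e3 q523 (flp_c L6741) q675, e3 q524 L5004 q417, e3 q525 L6760 q678, e3 q526 L5016 q419, e3 q527 L5023 q527, e3 q528 L5028 q528, e3 q529 L5033 q406, e3 q530 L5043 q530, e3 q531 L5049 q422, e3 q532 L5065 q532, e3 q533 L5071 q423, e3 q534 (flp_c L6697) q670, e3 q535 L6939 q687, e3 q536 (flp_c L6714) q672, e3 q537 L5154 q537, e3 q538 L5162 q538, e3 q539 L5169 q416, e3 q540 L6992 q694, e3 q541 (flp_c L6755) q677, e3 q542 (flp_c L5190) q418, e3 q543 (flp_c L7017) q697, e3 q544 (flp_c L6781) q681, e3 q545 L5212 q545, e3 q546 L5219 q546, e3 q547 (flp_c L6825) q684, e3 q548 (flp_c L5351) q424, e3 q549 (flp_c L7204) q702, e3 q550 L5374 q550, e3 q551 L5379 q426, e3 q552 (flp_c L7244) q707, e3 q553 L5395 q553, e3 q554 L5406 q554, e3 q555 L5417 q555, e3 q556 L5422 q429, e3 q557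 L5438 q557, e3 q558 L5450 q558, e3 q559 L5459 q559, e3 q560 L5465 q432, e3 q561 L5486 q561, e3 q562 L5502 q562, e3 q563 L7528 q718, e3 q564 (flp_c L5607) q437, e3 q565 (flp_c L7555) q721, e3 q566 L5633 q566, e3 q567 L5636 q439, e3 q568 (flp_c L7597) q726, e3 q569 L5652 q569, e3 q570 L5664 q570, e3 q571 L5676 q571, e3 q572 L5681 q442, e3 q573 (flp_c L7658) q733, e3 q574 L7665 q734, e3 q575 (flp_c L5706) q444, trivial⟩ (by decide +kernel)

theorem ce_c_9 : ∀ r, r < 64 → sm gc (Qf (576 + r)) = Qf (tab Gen.c (576 + r)) :=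
  edges_tab (sm gc) Qf (tab Gen.c) 576 [(576, 737), (577, 478), (578, 446), (579, 742), (580, 481), (581, 448), (582, 747), (583, 484), (584, 485), (585, 741), (586, 451), (587, 754), (588, 489), (589, 490), (590, 590), (591, 454), (592, 760), (593, 494), (594, 763), (595, 496), (596, 596), (597, 597), (598, 459), (599, 499), (600, 773), (601, 501), (602, 602), (603, 603), (604, 464), (605, 605), (606, 505), (607, 607), (608, 608), (609, 506), (610, 471), (611, 472), (612, 473), (613, 787), (614, 789), (615, 475), (616, 792), (617, 736), (618, 477), (619, 797), (620, 739), (621, 740), (622, 486), (623, 480), (624, 804), (625, 744), (626, 745), (627, 796), (628, 483), (629, 810), (630, 749), (631, 813), (632, 751), (633, 802), (634, 803), (635, 488), (636, 755), (637, 823), (638, 757), (639, 639)]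
    ⟨e3 q576 (flp_c L7700) q737, e3 q577 L5732 q478, e3 q578 L5736 q446, e3 q579 (flp_c L7738) q742, e3 q580 L5758 q481, e3 q581 L5764 q448, e3 q582 (flp_c L7788) q747, e3 q583 L5783 q484, e3 q584 L5794 q485, e3 q585 (flp_c L7734) q741, e3 q586 L5804 q451, e3 q587 (flp_c L7842) q754, e3 q588 L5821 q489, e3 q589 L5836 q490, e3 q590 L5851 q590, e3 q591 L5858 q454, e3 q592 (flp_c L7904) q760, e3 q593 L5879 q494, e3 q594 L7925 q763, e3 q595 L5895 q496, e3 q596 L5901 q596, e3 q597 L5906 q597, e3 q598 L5913 q459, e3 q599 L5923 q499, e3 q600 L7996 q773, e3 q601 L5938 q501, e3 q602 L5945 q602, e3 q603 L5951 q603, e3 q604 L5956 q464, e3 q605 L5969 q605, e3 q606 L5975 q505, e3 q607 L5982 q607, e3 q608 L5990 q608, e3 q609 L5998 q506, e3 q610 L6005 q471, e3 q611 L6020 q472, e3 q612 L6026 q473, e3 q613 (flp_c L8119) q787, e3 q614 L8176 q789, e3 q615 (flp_c L6068) q475, e3 q616 (flp_c L8203) q792, e3 q617 (flp_c L7694) q736, e3 q618 L6094 q477, e3 q619 (flp_c L8244) q797, e3 q620 (flp_c L7718) q739,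 e3 q621 (flp_c L7727) q740, e3 q622 L6124 q486, e3 q623 L6130 q480, e3 q624 (flp_c L8295) q804, e3 q625 (flp_c L7753) q744, e3 q626 (flp_c L7769) q745, e3 q627 (flp_c L8238) q796, e3 q628 L6170 q483, e3 q629 (flp_c L8342) q810, e3 q630 (flp_c L7811) q749, e3 q631 L8366 q813, e3 q632 (flp_c L7825) q751, e3 q633 (flp_c L8280) q802, e3 q634 (flp_c L8287) q803, e3 q635 L6223 q488, e3 q636 (flp_c L7855) q755, e3 q637 L8437 q823, e3 q638 (flp_c L7876) q757, e3 q639 L6259 q639, trivial⟩ (by decide +kernel)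

theorem ce_c_10 : ∀ r, r < 64 → sm gc (Qf (640 + r)) = Qf (tab Gen.c (640 + r)) :=
  edges_tab (sm gc) Qf (tab Gen.c) 640 [(640, 640), (641, 493), (642, 830), (643, 762), (644, 495), (645, 833), (646, 766), (647, 647), (648, 648), (649, 837), (650, 772), (651, 500), (652, 841), (653, 842), (654, 776), (655, 655), (656, 656), (657, 657), (658, 783), (659, 507), (660, 849), (661, 509), (662, 852), (663, 663), (664, 854), (665, 665), (666, 857), (667, 667), (668, 668), (669, 669), (670, 534), (671, 864), (672, 536), (673, 673), (674, 674), (675, 523), (676, 869), (677, 541), (678, 525), (679, 873), (680, 874), (681, 544), (682, 682), (683, 683), (684, 547), (685, 876), (686, 863), (687, 535), (688, 880), (689, 881), (690, 867), (691, 691), (692, 692), (693, 693), (694, 540), (695, 889), (696, 872), (697, 543), (698, 892), (699, 893), (700, 700), (701, 701), (702, 549), (703, 899)]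
    ⟨e3 q640 L6267 q640, e3 q641 L6276 q493, e3 q642 L8496 q830, e3 q643 (flp_c L7921) q762, e3 q644 (flp_c L6299) q495, e3 q645 (flp_c L8524) q833, e3 q646 (flp_c L7950) q766, e3 q647 L6324 q647, e3 q648 L6330 q648, e3 q649 L8549 q837, e3 q650 (flp_c L7991) q772, e3 q651 (flp_c L6353) q500, e3 q652 (flp_c L8586) q841, e3 q653 (flp_c L8593) q842, e3 q654 (flp_c L8021) q776, e3 q655 L6386 q655, e3 q656 L6395 q656, e3 q657 L6402 q657, e3 q658 (flp_c L8072) q783, e3 q659 (flp_c L6416) q507, e3 q660 (flp_c L8650) q849, e3 q661 L6435 q509, e3 q662 (flp_c L8673) q852, e3 q663 L6453 q663, e3 q664 L8694 q854, e3 q665 L6649 q665, e3 q666 L8982 q857, e3 q667 L6665 q667, e3 q668 L6672 q668, e3 q669 L6679 q669, e3 q670 L6697 q534, e3 q671 L9065 q864, e3 q672 L6714 q536, e3 q673 L6724 q673, e3 q674 L6733 q674, e3 q675 L6741 q523, e3 q676 L9136 q869, e3 q677 L6755 q541, e3 q678 (flp_c L6760) q525, e3 q679 (flp_c L9166) q873, e3 q680 (flp_c L9173) q874, e3 q681 L6781 q544, e3 q682 L6792 q682, e3 q683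 L6819 q683, e3 q684 L6825 q547, e3 q685 L9357 q876, e3 q686 (flp_c L9059) q863, e3 q687 (flp_c L6939) q535, e3 q688 (flp_c L9393) q880, e3 q689 (flp_c L9400) q881, e3 q690 (flp_c L9093) q867, e3 q691 L6971 q691, e3 q692 L6979 q692, e3 q693 L6987 q693, e3 q694 (flp_c L6992) q540, e3 q695 (flp_c L9463) q889, e3 q696 (flp_c L9158) q872, e3 q697 L7017 q543, e3 q698 (flp_c L9485) q892, e3 q699 (flp_c L9492) q893, e3 q700 L7037 q700, e3 q701 L7199 q701, e3 q702 L7204 q549, e3 q703 (flp_c L9735) q899, trivial⟩ (by decide +kernel)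

theorem ce_c_11 : ∀ r, r < 64 → sm gc (Qf (704 + r)) = Qf (tab Gen.c (704 + r)) :=
  edges_tab (sm gc) Qf (tab Gen.c) 704 [(704, 704), (705, 705), (706, 898), (707, 552), (708, 708), (709, 907), (710, 710), (711, 711), (712, 712), (713, 912), (714, 714), (715, 715), (716, 716), (717, 717), (718, 563), (719, 918), (720, 720), (721, 565), (722, 923), (723, 723), (724, 724), (725, 922), (726, 568), (727, 930), (728, 728), (729, 933), (730, 730), (731, 731), (732, 732), (733, 573), (734, 574), (735, 942), (736, 617), (737, 576), (738, 947), (739, 620), (740, 621), (741, 585), (742, 579), (743, 954), (744, 625), (745, 626), (746, 946), (747, 582), (748, 960), (749, 630), (750, 963), (751, 632), (752, 952), (753, 953), (754, 587), (755, 636), (756, 973), (757, 638), (758, 758), (759, 759), (760, 592), (761, 981), (762, 643), (763, 594), (764, 985), (765, 986), (766, 646), (767, 767)]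
    ⟨e3 q704 L7219 q704, e3 q705 L7231 q705, e3 q706 (flp_c L9729) q898, e3 q707 L7244 q552, e3 q708 L7266 q708, e3 q709 L9814 q907, e3 q710 L7281 q710, e3 q711 L7288 q711, e3 q712 L7316 q712, e3 q713 L9894 q912, e3 q714 L7330 q714, e3 q715 L7338 q715, e3 q716 L7346 q716, e3 q717 L7375 q717, e3 q718 (flp_c L7528) q563, e3 q719 (flp_c L10205) q918, e3 q720 L7552 q720, e3 q721 L7555 q565, e3 q722 (flp_c L10247) q923, e3 q723 L7570 q723, e3 q724 L7583 q724, e3 q725 (flp_c L10241) q922, e3 q726 L7597 q568, e3 q727 (flp_c L10303) q930, e3 q728 L7617 q728, e3 q729 L10329 q933, e3 q730 L7637 q730, e3 q731 L7643 q731, e3 q732 L7650 q732, e3 q733 L7658 q573, e3 q734 (flp_c L7665) q574, e3 q735 (flp_c L10412) q942, e3 q736 L7694 q617, e3 q737 L7700 q576, e3 q738 (flp_c L10465) q947, e3 q739 L7718 q620, e3 q740 L7727 q621, e3 q741 L7734 q585, e3 q742 L7738 q579, e3 q743 (flp_c L10517) q954, e3 q744 L7753 q625, e3 q745 L7769 q626, e3 q746 (flp_c L10457) q946, e3 q747 L7788 q582, e3 q748 (flp_c L10574)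 q960, e3 q749 L7811 q630, e3 q750 L10597 q963, e3 q751 L7825 q632, e3 q752 (flp_c L10505) q952, e3 q753 (flp_c L10511) q953, e3 q754 L7842 q587, e3 q755 L7855 q636, e3 q756 L10669 q973, e3 q757 L7876 q638, e3 q758 L7885 q758, e3 q759 L7894 q759, e3 q760 L7904 q592, e3 q761 L10748 q981, e3 q762 L7921 q643, e3 q763 (flp_c L7925) q594, e3 q764 (flp_c L10783) q985, e3 q765 (flp_c L10790) q986, e3 q766 L7950 q646, e3 q767 L7958 q767, trivial⟩ (by decide +kernel)

theorem ce_c_12 : ∀ r, r < 64 → sm gc (Qf (768 + r)) = Qf (tab Gen.c (768 + r)) :=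
  edges_tab (sm gc) Qf (tab Gen.c) 768 [(768, 768), (769, 769), (770, 770), (771, 993), (772, 650), (773, 600), (774, 997), (775, 998), (776, 654), (777, 777), (778, 778), (779, 779), (780, 780), (781, 781), (782, 782), (783, 658), (784, 784), (785, 785), (786, 786), (787, 613), (788, 1011), (789, 614), (790, 1013), (791, 941), (792, 616), (793, 1018), (794, 944), (795, 945), (796, 627), (797, 619), (798, 1025), (799, 949), (800, 1028), (801, 951), (802, 633), (803, 634), (804, 624), (805, 955), (806, 1038), (807, 957), (808, 1023), (809, 1024), (810, 629), (811, 1046), (812, 962), (813, 631), (814, 1050), (815, 1051), (816, 966), (817, 1032), (818, 1033), (819, 1034), (820, 1035), (821, 1060), (822, 972), (823, 637), (824, 1064), (825, 1065), (826, 976), (827, 827), (828, 828), (829, 829), (830, 642), (831, 1073)]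
    ⟨e3 q768 L7961 q768, e3 q769 L7968 q769, e3 q770 L7975 q770, e3 q771 L10849 q993, e3 q772 L7991 q650, e3 q773 (flp_c L7996) q600, e3 q774 (flp_c L10884) q997, e3 q775 (flp_c L10892) q998, e3 q776 L8021 q654, e3 q777 L8029 q777, e3 q778 L8036 q778, e3 q779 L8043 q779, e3 q780 L8048 q780, e3 q781 L8056 q781, e3 q782 L8064 q782, e3 q783 L8072 q658, e3 q784 L8081 q784, e3 q785 L8098 q785, e3 q786 L8105 q786, e3 q787 L8119 q613, e3 q788 L11076 q1011, e3 q789 (flp_c L8176) q614, e3 q790 (flp_c L11100) q1013, e3 q791 (flp_c L10406) q941, e3 q792 L8203 q616, e3 q793 (flp_c L11138) q1018, e3 q794 (flp_c L10431) q944, e3 q795 (flp_c L10445) q945, e3 q796 L8238 q627, e3 q797 L8244 q619, e3 q798 (flp_c L11195) q1025, e3 q799 (flp_c L10486) q949, e3 q800 L11215 q1028, e3 q801 (flp_c L10499) q951, e3 q802 L8280 q633, e3 q803 L8287 q634, e3 q804 L8295 q624, e3 q805 (flp_c L10528) q955, e3 q806 L11291 q1038, e3 q807 (flp_c L10547) q957, e3 q808 (flp_c L11179) q1023, e3 q809 (flp_c L11188) q1024, e3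 q810 L8342 q629, e3 q811 L11352 q1046, e3 q812 (flp_c L10591) q962, e3 q813 (flp_c L8366) q631, e3 q814 (flp_c L11386) q1050, e3 q815 (flp_c L11390) q1051, e3 q816 (flp_c L10619) q966, e3 q817 (flp_c L11244) q1032, e3 q818 (flp_c L11251) q1033, e3 q819 (flp_c L11259) q1034, e3 q820 (flp_c L11267) q1035, e3 q821 L11453 q1060, e3 q822 (flp_c L10664) q972, e3 q823 (flp_c L8437) q637, e3 q824 (flp_c L11494) q1064, e3 q825 (flp_c L11501) q1065, e3 q826 (flp_c L10701) q976, e3 q827 L8474 q827, e3 q828 L8481 q828, e3 q829 L8491 q829, e3 q830 (flp_c L8496) q642, e3 q831 (flp_c L11570) q1073, trivial⟩ (by decide +kernel)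

theorem ce_c_13 : ∀ r, r < 64 → sm gc (Qf (832 + r)) = Qf (tab Gen.c (832 + r)) :=
  edges_tab (sm gc) Qf (tab Gen.c) 832 [(832, 984), (833, 645), (834, 1076), (835, 1077), (836, 836), (837, 649), (838, 1081), (839, 1082), (840, 996), (841, 652), (842, 653), (843, 1086), (844, 1087), (845, 1089), (846, 846), (847, 847), (848, 848), (849, 660), (850, 1095), (851, 851), (852, 662), (853, 1098), (854, 664), (855, 1099), (856, 856), (857, 666), (858, 1102), (859, 1103), (860, 860), (861, 861), (862, 1106), (863, 686), (864, 671), (865, 1110), (866, 1111), (867, 690), (868, 868), (869, 676), (870, 1114), (871, 1115), (872, 696), (873, 679), (874, 680), (875, 1117), (876, 685), (877, 1119), (878, 1120), (879, 1109), (880, 688), (881, 689), (882, 1124), (883, 1125), (884, 1126), (885, 885), (886, 886), (887, 887), (888, 888), (889, 695), (890, 1135), (891, 1136), (892, 698), (893, 699), (894, 1139), (895, 895)]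
    ⟨e3 q832 (flp_c L10774) q984, e3 q833 L8524 q645, e3 q834 (flp_c L11593) q1076, e3 q835 (flp_c L11600) q1077, e3 q836 L8545 q836, e3 q837 (flp_c L8549) q649, e3 q838 (flp_c L11632) q1081, e3 q839 (flp_c L11640) q1082, e3 q840 (flp_c L10875) q996, e3 q841 L8586 q652, e3 q842 L8593 q653, e3 q843 (flp_c L11675) q1086, e3 q844 (flp_c L11683) q1087, e3 q845 (flp_c L11695) q1089, e3 q846 L8625 q846, e3 q847 L8633 q847, e3 q848 L8645 q848, e3 q849 L8650 q660, e3 q850 (flp_c L11746) q1095, e3 q851 L8668 q851, e3 q852 L8673 q662, e3 q853 L11765 q1098, e3 q854 (flp_c L8694) q664, e3 q855 L12169 q1099, e3 q856 L8977 q856, e3 q857 (flp_c L8982) q666, e3 q858 (flp_c L12205) q1102, e3 q859 (flp_c L12213) q1103, e3 q860 L9016 q860, e3 q861 L9031 q861, e3 q862 L12279 q1106, e3 q863 L9059 q686, e3 q864 (flp_c L9065) q671, e3 q865 (flp_c L12323) q1110, e3 q866 (flp_c L12332) q1111, e3 q867 L9093 q690, e3 q868 L9113 q868, e3 q869 (flp_c L9136) q676, e3 q870 (flp_c L12415) q1114, e3 q871 (flp_c L12423)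 q1115, e3 q872 L9158 q696, e3 q873 L9166 q679, e3 q874 L9173 q680, e3 q875 (flp_c L12459) q1117, e3 q876 (flp_c L9357) q685, e3 q877 (flp_c L12700) q1119, e3 q878 (flp_c L12708) q1120, e3 q879 (flp_c L12314) q1109, e3 q880 L9393 q688, e3 q881 L9400 q689, e3 q882 (flp_c L12742) q1124, e3 q883 (flp_c L12750) q1125, e3 q884 (flp_c L12757) q1126, e3 q885 L9431 q885, e3 q886 L9440 q886, e3 q887 L9448 q887, e3 q888 L9458 q888, e3 q889 L9463 q695, e3 q890 (flp_c L12827) q1135, e3 q891 (flp_c L12835) q1136, e3 q892 L9485 q698, e3 q893 L9492 q699, e3 q894 (flp_c L12855) q1139, e3 q895 L9506 q895, trivial⟩ (by decide +kernel)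

theorem ce_c_14 : ∀ r, r < 64 → sm gc (Qf (896 + r)) = Qf (tab Gen.c (896 + r)) :=
  edges_tab (sm gc) Qf (tab Gen.c) 896 [(896, 896), (897, 897), (898, 706), (899, 703), (900, 900), (901, 1148), (902, 902), (903, 1144), (904, 1145), (905, 1154), (906, 906), (907, 709), (908, 1156), (909, 909), (910, 1158), (911, 911), (912, 713), (913, 1161), (914, 1162), (915, 915), (916, 916), (917, 917), (918, 719), (919, 1169), (920, 920), (921, 921), (922, 725), (923, 722), (924, 1176), (925, 925), (926, 1179), (927, 927), (928, 1174), (929, 1175), (930, 727), (931, 1187), (932, 932), (933, 729), (934, 1191), (935, 1192), (936, 936), (937, 937), (938, 938), (939, 939), (940, 940), (941, 791), (942, 735), (943, 1204), (944, 794), (945, 795), (946, 746), (947, 738), (948, 1211), (949, 799), (950, 1214), (951, 801), (952, 752), (953, 753), (954, 743), (955, 805), (956, 1224), (957, 807), (958, 1209), (959, 1210)]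
    ⟨e3 q896 L9711 q896, e3 q897 L9721 q897, e3 q898 L9729 q706, e3 q899 L9735 q703, e3 q900 L9755 q900, e3 q901 L13195 q1148, e3 q902 L9768 q902, e3 q903 (flp_c L13156) q1144, e3 q904 (flp_c L13164) q1145, e3 q905 L13250 q1154, e3 q906 L9811 q906, e3 q907 (flp_c L9814) q709, e3 q908 (flp_c L13289) q1156, e3 q909 L9847 q909, e3 q910 L13361 q1158, e3 q911 L9890 q911, e3 q912 (flp_c L9894) q713, e3 q913 (flp_c L13400) q1161, e3 q914 (flp_c L13407) q1162, e3 q915 L9945 q915, e3 q916 L9952 q916, e3 q917 L10202 q917, e3 q918 L10205 q719, e3 q919 (flp_c L13825) q1169, e3 q920 L10221 q920, e3 q921 L10232 q921, e3 q922 L10241 q725, e3 q923 L10247 q722, e3 q924 (flp_c L13882) q1176, e3 q925 L10265 q925, e3 q926 L13907 q1179, e3 q927 L10283 q927, e3 q928 (flp_c L13867) q1174, e3 q929 (flp_c L13875) q1175, e3 q930 L10303 q727, e3 q931 L13970 q1187, e3 q932 L10325 q932, e3 q933 (flp_c L10329) q729, e3 q934 (flp_c L14011) q1191, e3 q935 (flp_c L14019) q1192, e3 q936 L10360 q936, e3 q937 L10368 q937,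 e3 q938 L10375 q938, e3 q939 L10384 q939, e3 q940 L10390 q940, e3 q941 L10406 q791, e3 q942 L10412 q735, e3 q943 (flp_c L14125) q1204, e3 q944 L10431 q794, e3 q945 L10445 q795, e3 q946 L10457 q746, e3 q947 L10465 q738, e3 q948 (flp_c L14195) q1211, e3 q949 L10486 q799, e3 q950 L14214 q1214, e3 q951 L10499 q801, e3 q952 L10505 q752, e3 q953 L10511 q753, e3 q954 L10517 q743, e3 q955 L10528 q805, e3 q956 L14291 q1224, e3 q957 L10547 q807, e3 q958 (flp_c L14176) q1209, e3 q959 (flp_c L14186) q1210, trivial⟩ (by decide +kernel)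

theorem ce_c_15 : ∀ r, r < 64 → sm gc (Qf (960 + r)) = Qf (tab Gen.c (960 + r)) :=
  edges_tab (sm gc) Qf (tab Gen.c) 960 [(960, 748), (961, 1232), (962, 812), (963, 750), (964, 1236), (965, 1237), (966, 816), (967, 1218), (968, 1219), (969, 1220), (970, 1221), (971, 1246), (972, 822), (973, 756), (974, 1250), (975, 1251), (976, 826), (977, 977), (978, 978), (979, 979), (980, 980), (981, 761), (982, 1259), (983, 1260), (984, 832), (985, 764), (986, 765), (987, 1265), (988, 1266), (989, 1267), (990, 1268), (991, 991), (992, 992), (993, 771), (994, 1273), (995, 1274), (996, 840), (997, 774), (998, 775), (999, 1279), (1000, 1280), (1001, 1281), (1002, 1283), (1003, 1003), (1004, 1004), (1005, 1005), (1006, 1006), (1007, 1007), (1008, 1008), (1009, 1009), (1010, 1292), (1011, 788), (1012, 1012), (1013, 790), (1014, 1297), (1015, 1201), (1016, 1202), (1017, 1017), (1018, 793), (1019, 1304), (1020, 1206), (1021, 1307), (1022, 1208), (1023, 808)]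
    ⟨e3 q960 L10574 q748, e3 q961 L14364 q1232, e3 q962 L10591 q812, e3 q963 (flp_c L10597) q750, e3 q964 (flp_c L14397) q1236, e3 q965 (flp_c L14403) q1237, e3 q966 L10619 q816, e3 q967 (flp_c L14244) q1218, e3 q968 (flp_c L14249) q1219, e3 q969 (flp_c L14256) q1220, e3 q970 (flp_c L14263) q1221, e3 q971 L14457 q1246, e3 q972 L10664 q822, e3 q973 (flp_c L10669) q756, e3 q974 (flp_c L14506) q1250, e3 q975 (flp_c L14515) q1251, e3 q976 L10701 q826, e3 q977 L10712 q977, e3 q978 L10721 q978, e3 q979 L10732 q979, e3 q980 L10740 q980, e3 q981 (flp_c L10748) q761, e3 q982 (flp_c L14606) q1259, e3 q983 (flp_c L14614) q1260, e3 q984 L10774 q832, e3 q985 L10783 q764, e3 q986 L10790 q765, e3 q987 (flp_c L14650) q1265, e3 q988 (flp_c L14655) q1266, e3 q989 (flp_c L14664) q1267, e3 q990 (flp_c L14672) q1268, e3 q991 L10825 q991, e3 q992 L10830 q992, e3 q993 (flp_c L10849) q771, e3 q994 (flp_c L14749) q1273, e3 q995 (flp_c L14758) q1274, e3 q996 L10875 q840, e3 q997 L10884 q774, e3 q998 L10892 q775,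 e3 q999 (flp_c L14794) q1279, e3 q1000 (flp_c L14802) q1280, e3 q1001 (flp_c L14811) q1281, e3 q1002 (flp_c L14824) q1283, e3 q1003 L10935 q1003, e3 q1004 L10941 q1004, e3 q1005 L10947 q1005, e3 q1006 L10955 q1006, e3 q1007 L10972 q1007, e3 q1008 L10979 q1008, e3 q1009 L10996 q1009, e3 q1010 L14990 q1292, e3 q1011 (flp_c L11076) q788, e3 q1012 L11096 q1012, e3 q1013 L11100 q790, e3 q1014 (flp_c L15078) q1297, e3 q1015 (flp_c L14093) q1201, e3 q1016 (flp_c L14107) q1202, e3 q1017 L11134 q1017, e3 q1018 L11138 q793, e3 q1019 (flp_c L15132) q1304, e3 q1020 (flp_c L14149) q1206, e3 q1021 L15156 q1307, e3 q1022 (flp_c L14167) q1208, e3 q1023 L11179 q808, trivial⟩ (by decide +kernel)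

theorem ce_c_16 : ∀ r, r < 64 → sm gc (Qf (1024 + r)) = Qf (tab Gen.c (1024 + r)) :=
  edges_tab (sm gc) Qf (tab Gen.c) 1024 [(1024, 809), (1025, 798), (1026, 1315), (1027, 1213), (1028, 800), (1029, 1319), (1030, 1320), (1031, 1217), (1032, 817), (1033, 818), (1034, 819), (1035, 820), (1036, 1329), (1037, 1223), (1038, 806), (1039, 1333), (1040, 1334), (1041, 1227), (1042, 1311), (1043, 1312), (1044, 1313), (1045, 1314), (1046, 811), (1047, 1340), (1048, 1341), (1049, 1235), (1050, 814), (1051, 815), (1052, 1346), (1053, 1347), (1054, 1348), (1055, 1350), (1056, 1325), (1057, 1326), (1058, 1327), (1059, 1328), (1060, 821), (1061, 1356), (1062, 1357), (1063, 1249), (1064, 824), (1065, 825), (1066, 1361), (1067, 1362), (1068, 1363), (1069, 1069), (1070, 1070), (1071, 1071), (1072, 1072), (1073, 831), (1074, 1369), (1075, 1370), (1076, 834), (1077, 835), (1078, 1373), (1079, 1079), (1080, 1080), (1081, 838), (1082, 839), (1083, 1377), (1084, 1378), (1085, 1380), (1086, 843), (1087, 844)]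
    ⟨e3 q1024 L11188 q809, e3 q1025 L11195 q798, e3 q1026 L15221 q1315, e3 q1027 (flp_c L14210) q1213, e3 q1028 (flp_c L11215) q800, e3 q1029 (flp_c L15254) q1319, e3 q1030 (flp_c L15260) q1320, e3 q1031 (flp_c L14237) q1217, e3 q1032 L11244 q817, e3 q1033 L11251 q818, e3 q1034 L11259 q819, e3 q1035 L11267 q820, e3 q1036 L15324 q1329, e3 q1037 (flp_c L14284) q1223, e3 q1038 (flp_c L11291) q806, e3 q1039 (flp_c L15362) q1333, e3 q1040 (flp_c L15368) q1334, e3 q1041 (flp_c L14320) q1227, e3 q1042 (flp_c L15189) q1311, e3 q1043 (flp_c L15198) q1312, e3 q1044 (flp_c L15208) q1313, e3 q1045 (flp_c L15215) q1314, e3 q1046 (flp_c L11352) q811, e3 q1047 (flp_c L15445) q1340, e3 q1048 (flp_c L15451) q1341, e3 q1049 (flp_c L14388) q1235, e3 q1050 L11386 q814, e3 q1051 L11390 q815, e3 q1052 (flp_c L15491) q1346, e3 q1053 (flp_c L15496) q1347, e3 q1054 (flp_c L15501) q1348, e3 q1055 (flp_c L15512) q1350, e3 q1056 (flp_c L15294) q1325, e3 q1057 (flp_c L15302) q1326, e3 q1058 (flp_c L15310) q1327, e3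 q1059 (flp_c L15319) q1328, e3 q1060 (flp_c L11453) q821, e3 q1061 (flp_c L15592) q1356, e3 q1062 (flp_c L15600) q1357, e3 q1063 (flp_c L14496) q1249, e3 q1064 L11494 q824, e3 q1065 L11501 q825, e3 q1066 (flp_c L15637) q1361, e3 q1067 (flp_c L15645) q1362, e3 q1068 (flp_c L15654) q1363, e3 q1069 L11535 q1069, e3 q1070 L11543 q1070, e3 q1071 L11551 q1071, e3 q1072 L11565 q1072, e3 q1073 L11570 q831, e3 q1074 (flp_c L15727) q1369, e3 q1075 (flp_c L15735) q1370, e3 q1076 L11593 q834, e3 q1077 L11600 q835, e3 q1078 (flp_c L15755) q1373, e3 q1079 L11615 q1079, e3 q1080 L11627 q1080, e3 q1081 L11632 q838, e3 q1082 L11640 q839, e3 q1083 (flp_c L15789) q1377, e3 q1084 (flp_c L15798) q1378, e3 q1085 (flp_c L15812) q1380, e3 q1086 L11675 q843, e3 q1087 L11683 q844, trivial⟩ (by decide +kernel)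

theorem ce_c_17 : ∀ r, r < 64 → sm gc (Qf (1088 + r)) = Qf (tab Gen.c (1088 + r)) :=
  edges_tab (sm gc) Qf (tab Gen.c) 1088 [(1088, 1349), (1089, 845), (1090, 1383), (1091, 1385), (1092, 1092), (1093, 1093), (1094, 1094), (1095, 850), (1096, 1096), (1097, 1097), (1098, 853), (1099, 855), (1100, 1398), (1101, 1399), (1102, 858), (1103, 859), (1104, 1402), (1105, 1403), (1106, 862), (1107, 1406), (1108, 1407), (1109, 879), (1110, 865), (1111, 866), (1112, 1409), (1113, 1396), (1114, 870), (1115, 871), (1116, 1413), (1117, 875), (1118, 1118), (1119, 877), (1120, 878), (1121, 1416), (1122, 1417), (1123, 1418), (1124, 882), (1125, 883), (1126, 884), (1127, 1127), (1128, 1424), (1129, 1425), (1130, 1426), (1131, 1131), (1132, 1132), (1133, 1298), (1134, 1134), (1135, 890), (1136, 891), (1137, 1435), (1138, 1138), (1139, 894), (1140, 1438), (1141, 1141), (1142, 1441), (1143, 1143), (1144, 903), (1145, 904), (1146, 1447), (1147, 1147), (1148, 901), (1149, 1450), (1150, 1451), (1151, 1444)]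
    ⟨e3 q1088 (flp_c L15508) q1349, e3 q1089 L11695 q845, e3 q1090 (flp_c L15839) q1383, e3 q1091 (flp_c L15853) q1385, e3 q1092 L11720 q1092, e3 q1093 L11731 q1093, e3 q1094 L11740 q1094, e3 q1095 L11746 q850, e3 q1096 L11754 q1096, e3 q1097 L11760 q1097, e3 q1098 (flp_c L11765) q853, e3 q1099 (flp_c L12169) q855, e3 q1100 (flp_c L16506) q1398, e3 q1101 (flp_c L16515) q1399, e3 q1102 L12205 q858, e3 q1103 L12213 q859, e3 q1104 (flp_c L16555) q1402, e3 q1105 (flp_c L16572) q1403, e3 q1106 (flp_c L12279) q862, e3 q1107 (flp_c L16677) q1406, e3 q1108 (flp_c L16687) q1407, e3 q1109 L12314 q879, e3 q1110 L12323 q865, e3 q1111 L12332 q866, e3 q1112 (flp_c L16744) q1409, e3 q1113 (flp_c L15938) q1396, e3 q1114 L12415 q870, e3 q1115 L12423 q871, e3 q1116 (flp_c L16876) q1413, e3 q1117 L12459 q875, e3 q1118 L12695 q1118, e3 q1119 L12700 q877, e3 q1120 L12708 q878, e3 q1121 (flp_c L17236) q1416, e3 q1122 (flp_c L17245) q1417, e3 q1123 (flp_c L17253) q1418, e3 q1124 L12742 q882, e3 q1125 L12750 q883,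 e3 q1126 L12757 q884, e3 q1127 L12766 q1127, e3 q1128 (flp_c L17302) q1424, e3 q1129 (flp_c L17311) q1425, e3 q1130 (flp_c L17320) q1426, e3 q1131 L12795 q1131, e3 q1132 L12803 q1132, e3 q1133 L115901 q1298, e3 q1134 L12821 q1134, e3 q1135 L12827 q890, e3 q1136 L12835 q891, e3 q1137 (flp_c L17412) q1435, e3 q1138 L12851 q1138, e3 q1139 L12855 q894, e3 q1140 (flp_c L17440) q1438, e3 q1141 L13137 q1141, e3 q1142 L17806 q1441, e3 q1143 L13149 q1143, e3 q1144 L13156 q903, e3 q1145 L13164 q904, e3 q1146 L17865 q1447, e3 q1147 L13190 q1147, e3 q1148 (flp_c L13195) q901, e3 q1149 (flp_c L17902) q1450, e3 q1150 (flp_c L17907) q1451, e3 q1151 (flp_c L17836) q1444, trivial⟩ (by decide +kernel)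

theorem ce_c_18 : ∀ r, r < 64 → sm gc (Qf (1152 + r)) = Qf (tab Gen.c (1152 + r)) :=
  edges_tab (sm gc) Qf (tab Gen.c) 1152 [(1152, 1445), (1153, 1446), (1154, 905), (1155, 1458), (1156, 908), (1157, 1460), (1158, 910), (1159, 1462), (1160, 1463), (1161, 913), (1162, 914), (1163, 1466), (1164, 1468), (1165, 1165), (1166, 1166), (1167, 1167), (1168, 1168), (1169, 919), (1170, 1475), (1171, 1171), (1172, 1478), (1173, 1173), (1174, 928), (1175, 929), (1176, 924), (1177, 1486), (1178, 1178), (1179, 926), (1180, 1490), (1181, 1491), (1182, 1182), (1183, 1482), (1184, 1483), (1185, 1484), (1186, 1485), (1187, 931), (1188, 1501), (1189, 1502), (1190, 1190), (1191, 934), (1192, 935), (1193, 1507), (1194, 1508), (1195, 1509), (1196, 1511), (1197, 1197), (1198, 1198), (1199, 1199), (1200, 1200), (1201, 1015), (1202, 1016), (1203, 1203), (1204, 943), (1205, 1524), (1206, 1020), (1207, 1527), (1208, 1022), (1209, 958), (1210, 959), (1211, 948), (1212, 1535), (1213, 1027), (1214, 950), (1215, 1539)]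
    ⟨e3 q1152 (flp_c L17852) q1445, e3 q1153 (flp_c L17861) q1446, e3 q1154 (flp_c L13250) q905, e3 q1155 (flp_c L17981) q1458, e3 q1156 L13289 q908, e3 q1157 (flp_c L18031) q1460, e3 q1158 (flp_c L13361) q910, e3 q1159 (flp_c L18146) q1462, e3 q1160 (flp_c L18154) q1463, e3 q1161 L13400 q913, e3 q1162 L13407 q914, e3 q1163 (flp_c L18213) q1466, e3 q1164 (flp_c L18225) q1468, e3 q1165 L13470 q1165, e3 q1166 L13801 q1166, e3 q1167 L13812 q1167, e3 q1168 L13821 q1168, e3 q1169 L13825 q919, e3 q1170 (flp_c L18776) q1475, e3 q1171 L13844 q1171, e3 q1172 L18800 q1478, e3 q1173 L13861 q1173, e3 q1174 L13867 q928, e3 q1175 L13875 q929, e3 q1176 L13882 q924, e3 q1177 L18867 q1486, e3 q1178 L13901 q1178, e3 q1179 (flp_c L13907) q926, e3 q1180 (flp_c L18906) q1490, e3 q1181 (flp_c L18913) q1491, e3 q1182 L13935 q1182, e3 q1183 (flp_c L18836) q1482, e3 q1184 (flp_c L18845) q1483, e3 q1185 (flp_c L18854) q1484, e3 q1186 (flp_c L18860) q1485, e3 q1187 (flp_c L13970) q931, e3 q1188 (flp_c L18995) q1501,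 e3 q1189 (flp_c L19004) q1502, e3 q1190 L14002 q1190, e3 q1191 L14011 q934, e3 q1192 L14019 q935, e3 q1193 (flp_c L19049) q1507, e3 q1194 (flp_c L19058) q1508, e3 q1195 (flp_c L19068) q1509, e3 q1196 (flp_c L19083) q1511, e3 q1197 L14063 q1197, e3 q1198 L14070 q1198, e3 q1199 L14077 q1199, e3 q1200 L14085 q1200, e3 q1201 L14093 q1015, e3 q1202 L14107 q1016, e3 q1203 L14119 q1203, e3 q1204 L14125 q943, e3 q1205 (flp_c L19215) q1524, e3 q1206 L14149 q1020, e3 q1207 L19244 q1527, e3 q1208 L14167 q1022, e3 q1209 L14176 q958, e3 q1210 L14186 q959, e3 q1211 L14195 q948, e3 q1212 L19321 q1535, e3 q1213 L14210 q1027, e3 q1214 (flp_c L14214) q950, e3 q1215 (flp_c L19353) q1539, trivial⟩ (by decide +kernel)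

theorem ce_c_19 : ∀ r, r < 64 → sm gc (Qf (1216 + r)) = Qf (tab Gen.c (1216 + r)) :=
  edges_tab (sm gc) Qf (tab Gen.c) 1216 [(1216, 1540), (1217, 1031), (1218, 967), (1219, 968), (1220, 969), (1221, 970), (1222, 1549), (1223, 1037), (1224, 956), (1225, 1553), (1226, 1554), (1227, 1041), (1228, 1531), (1229, 1532), (1230, 1533), (1231, 1534), (1232, 961), (1233, 1564), (1234, 1565), (1235, 1049), (1236, 964), (1237, 965), (1238, 1570), (1239, 1571), (1240, 1572), (1241, 1574), (1242, 1545), (1243, 1546), (1244, 1547), (1245, 1548), (1246, 971), (1247, 1585), (1248, 1586), (1249, 1063), (1250, 974), (1251, 975), (1252, 1591), (1253, 1592), (1254, 1593), (1255, 1595), (1256, 1256), (1257, 1257), (1258, 1457), (1259, 982), (1260, 983), (1261, 1600), (1262, 1601), (1263, 1602), (1264, 1603), (1265, 987), (1266, 988), (1267, 989), (1268, 990), (1269, 1607), (1270, 1608), (1271, 1610), (1272, 1461), (1273, 994), (1274, 995), (1275, 1613), (1276, 1614), (1277, 1615), (1278, 1617), (1279, 999)]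
    ⟨e3 q1216 (flp_c L19361) q1540, e3 q1217 L14237 q1031, e3 q1218 L14244 q967, e3 q1219 L14249 q968, e3 q1220 L14256 q969, e3 q1221 L14263 q970, e3 q1222 L19417 q1549, e3 q1223 L14284 q1037, e3 q1224 (flp_c L14291) q956, e3 q1225 (flp_c L19464) q1553, e3 q1226 (flp_c L19472) q1554, e3 q1227 L14320 q1041, e3 q1228 (flp_c L19284) q1531, e3 q1229 (flp_c L19295) q1532, e3 q1230 (flp_c L19306) q1533, e3 q1231 (flp_c L19314) q1534, e3 q1232 (flp_c L14364) q961, e3 q1233 (flp_c L19557) q1564, e3 q1234 (flp_c L19565) q1565, e3 q1235 L14388 q1049, e3 q1236 L14397 q964, e3 q1237 L14403 q965, e3 q1238 (flp_c L19598) q1570, e3 q1239 (flp_c L19602) q1571, e3 q1240 (flp_c L19609) q1572, e3 q1241 (flp_c L19622) q1574, e3 q1242 (flp_c L19391) q1545, e3 q1243 (flp_c L19398) q1546, e3 q1244 (flp_c L19404) q1547, e3 q1245 (flp_c L19412) q1548, e3 q1246 (flp_c L14457) q971, e3 q1247 (flp_c L19701) q1585, e3 q1248 (flp_c L19711) q1586, e3 q1249 L14496 q1063, e3 q1250 L14506 q974, e3 q1251 L14515 q975, e3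 q1252 (flp_c L19764) q1591, e3 q1253 (flp_c L19773) q1592, e3 q1254 (flp_c L19784) q1593, e3 q1255 (flp_c L19799) q1595, e3 q1256 L14561 q1256, e3 q1257 L14570 q1257, e3 q1258 (flp_c L17975) q1457, e3 q1259 L14606 q982, e3 q1260 L14614 q983, e3 q1261 (flp_c L19910) q1600, e3 q1262 (flp_c L19916) q1601, e3 q1263 (flp_c L19926) q1602, e3 q1264 (flp_c L19935) q1603, e3 q1265 L14650 q987, e3 q1266 L14655 q988, e3 q1267 L14664 q989, e3 q1268 L14672 q990, e3 q1269 (flp_c L19978) q1607, e3 q1270 (flp_c L19985) q1608, e3 q1271 L20063 q1610, e3 q1272 (flp_c L18140) q1461, e3 q1273 L14749 q994, e3 q1274 L14758 q995, e3 q1275 (flp_c L20093) q1613, e3 q1276 (flp_c L20102) q1614, e3 q1277 (flp_c L20112) q1615, e3 q1278 (flp_c L20127) q1617, e3 q1279 L14794 q999, trivial⟩ (by decide +kernel)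

theorem ce_c_20 : ∀ r, r < 64 → sm gc (Qf (1280 + r)) = Qf (tab Gen.c (1280 + r)) :=
  edges_tab (sm gc) Qf (tab Gen.c) 1280 [(1280, 1000), (1281, 1001), (1282, 1573), (1283, 1002), (1284, 1621), (1285, 1622), (1286, 1624), (1287, 1630), (1288, 1288), (1289, 1289), (1290, 1290), (1291, 1633), (1292, 1010), (1293, 1293), (1294, 1294), (1295, 1295), (1296, 1296), (1297, 1014), (1298, 1133), (1299, 1519), (1300, 1641), (1301, 1521), (1302, 1302), (1303, 1303), (1304, 1019), (1305, 1645), (1306, 1526), (1307, 1021), (1308, 1649), (1309, 1650), (1310, 1530), (1311, 1042), (1312, 1043), (1313, 1044), (1314, 1045), (1315, 1026), (1316, 1656), (1317, 1657), (1318, 1538), (1319, 1029), (1320, 1030), (1321, 1662), (1322, 1663), (1323, 1664), (1324, 1666), (1325, 1056), (1326, 1057), (1327, 1058), (1328, 1059), (1329, 1036), (1330, 1672), (1331, 1673), (1332, 1552), (1333, 1039), (1334, 1040), (1335, 1678), (1336, 1679), (1337, 1680), (1338, 1682), (1339, 1339), (1340, 1047), (1341, 1048), (1342,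 1685), (1343, 1686)]
    ⟨e3 q1280 L14802 q1000, e3 q1281 L14811 q1001, e3 q1282 (flp_c L19616) q1573, e3 q1283 L14824 q1002, e3 q1284 (flp_c L20174) q1621, e3 q1285 (flp_c L20182) q1622, e3 q1286 (flp_c L20197) q1624, e3 q1287 L20276 q1630, e3 q1288 L14881 q1288, e3 q1289 L14888 q1289, e3 q1290 L14905 q1290, e3 q1291 L20355 q1633, e3 q1292 (flp_c L14990) q1010, e3 q1293 L15035 q1293, e3 q1294 L15051 q1294, e3 q1295 L15063 q1295, e3 q1296 L15072 q1296, e3 q1297 L15078 q1014, e3 q1298 (flp_c L115901) q1133, e3 q1299 (flp_c L19171) q1519, e3 q1300 L20538 q1641, e3 q1301 (flp_c L19188) q1521, e3 q1302 L15118 q1302, e3 q1303 L15125 q1303, e3 q1304 L15132 q1019, e3 q1305 L20596 q1645, e3 q1306 (flp_c L19239) q1526, e3 q1307 (flp_c L15156) q1021, e3 q1308 (flp_c L20633) q1649, e3 q1309 (flp_c L20641) q1650, e3 q1310 (flp_c L19274) q1530, e3 q1311 L15189 q1042, e3 q1312 L15198 q1043, e3 q1313 L15208 q1044, e3 q1314 L15215 q1045, e3 q1315 (flp_c L15221) q1026, e3 q1316 (flp_c L20722) q1656, e3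 q1317 (flp_c L20728) q1657, e3 q1318 (flp_c L19344) q1538, e3 q1319 L15254 q1029, e3 q1320 L15260 q1030, e3 q1321 (flp_c L20767) q1662, e3 q1322 (flp_c L20774) q1663, e3 q1323 (flp_c L20781) q1664, e3 q1324 (flp_c L20795) q1666, e3 q1325 L15294 q1056, e3 q1326 L15302 q1057, e3 q1327 L15310 q1058, e3 q1328 L15319 q1059, e3 q1329 (flp_c L15324) q1036, e3 q1330 (flp_c L20880) q1672, e3 q1331 (flp_c L20888) q1673, e3 q1332 (flp_c L19454) q1552, e3 q1333 L15362 q1039, e3 q1334 L15368 q1040, e3 q1335 (flp_c L20932) q1678, e3 q1336 (flp_c L20939) q1679, e3 q1337 (flp_c L20946) q1680, e3 q1338 (flp_c L20956) q1682, e3 q1339 L15440 q1339, e3 q1340 L15445 q1047, e3 q1341 L15451 q1048, e3 q1342 (flp_c L21052) q1685, e3 q1343 (flp_c L21059) q1686, trivial⟩ (by decide +kernel)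

theorem ce_c_21 : ∀ r, r < 64 → sm gc (Qf (1344 + r)) = Qf (tab Gen.c (1344 + r)) :=
  edges_tab (sm gc) Qf (tab Gen.c) 1344 [(1344, 1687), (1345, 1689), (1346, 1052), (1347, 1053), (1348, 1054), (1349, 1088), (1350, 1055), (1351, 1695), (1352, 1696), (1353, 1697), (1354, 1699), (1355, 1355), (1356, 1061), (1357, 1062), (1358, 1704), (1359, 1705), (1360, 1706), (1361, 1066), (1362, 1067), (1363, 1068), (1364, 1364), (1365, 1712), (1366, 1713), (1367, 1714), (1368, 1368), (1369, 1074), (1370, 1075), (1371, 1720), (1372, 1694), (1373, 1078), (1374, 1724), (1375, 1375), (1376, 1376), (1377, 1083), (1378, 1084), (1379, 1688), (1380, 1085), (1381, 1729), (1382, 1731), (1383, 1090), (1384, 1698), (1385, 1091), (1386, 1700), (1387, 1701), (1388, 1736), (1389, 1742), (1390, 1390), (1391, 1391), (1392, 1392), (1393, 1393), (1394, 1394), (1395, 1395), (1396, 1113), (1397, 1405), (1398, 1100), (1399, 1101), (1400, 1753), (1401, 1754), (1402, 1104), (1403, 1105), (1404, 1404), (1405, 1397), (1406,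 1107), (1407, 1108)]
    ⟨e3 q1344 (flp_c L21066) q1687, e3 q1345 (flp_c L21081) q1689, e3 q1346 L15491 q1052, e3 q1347 L15496 q1053, e3 q1348 L15501 q1054, e3 q1349 L15508 q1088, e3 q1350 L15512 q1055, e3 q1351 (flp_c L21129) q1695, e3 q1352 (flp_c L21135) q1696, e3 q1353 (flp_c L21142) q1697, e3 q1354 (flp_c L21155) q1699, e3 q1355 L15587 q1355, e3 q1356 L15592 q1061, e3 q1357 L15600 q1062, e3 q1358 (flp_c L21244) q1704, e3 q1359 (flp_c L21253) q1705, e3 q1360 (flp_c L21263) q1706, e3 q1361 L15637 q1066, e3 q1362 L15645 q1067, e3 q1363 L15654 q1068, e3 q1364 L15665 q1364, e3 q1365 (flp_c L21314) q1712, e3 q1366 (flp_c L21323) q1713, e3 q1367 (flp_c L21332) q1714, e3 q1368 L15721 q1368, e3 q1369 L15727 q1074, e3 q1370 L15735 q1075, e3 q1371 (flp_c L21429) q1720, e3 q1372 (flp_c L21125) q1694, e3 q1373 L15755 q1078, e3 q1374 (flp_c L21456) q1724, e3 q1375 L15773 q1375, e3 q1376 L15781 q1376, e3 q1377 L15789 q1083, e3 q1378 L15798 q1084, e3 q1379 (flp_c L21075) q1688, e3 q1380 L15812 q1085,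 e3 q1381 (flp_c L21500) q1729, e3 q1382 (flp_c L21516) q1731, e3 q1383 L15839 q1090, e3 q1384 (flp_c L21151) q1698, e3 q1385 L15853 q1091, e3 q1386 (flp_c L21161) q1700, e3 q1387 (flp_c L21167) q1701, e3 q1388 (flp_c L21555) q1736, e3 q1389 L21591 q1742, e3 q1390 L15893 q1390, e3 q1391 L15901 q1391, e3 q1392 L15908 q1392, e3 q1393 L15916 q1393, e3 q1394 L15922 q1394, e3 q1395 L15929 q1395, e3 q1396 L15938 q1113, e3 q1397 (flp_c L16671) q1405, e3 q1398 L16506 q1100, e3 q1399 L16515 q1101, e3 q1400 (flp_c L22464) q1753, e3 q1401 (flp_c L22483) q1754, e3 q1402 L16555 q1104, e3 q1403 L16572 q1105, e3 q1404 L16579 q1404, e3 q1405 L16671 q1397, e3 q1406 L16677 q1107, e3 q1407 L16687 q1108, trivial⟩ (by decide +kernel)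

theorem ce_c_22 : ∀ r, r < 64 → sm gc (Qf (1408 + r)) = Qf (tab Gen.c (1408 + r)) :=
  edges_tab (sm gc) Qf (tab Gen.c) 1408 [(1408, 1760), (1409, 1112), (1410, 1410), (1411, 1412), (1412, 1411), (1413, 1116), (1414, 1414), (1415, 1415), (1416, 1121), (1417, 1122), (1418, 1123), (1419, 1419), (1420, 1768), (1421, 1769), (1422, 1770), (1423, 1423), (1424, 1128), (1425, 1129), (1426, 1130), (1427, 1427), (1428, 1428), (1429, 1777), (1430, 1778), (1431, 1431), (1432, 1432), (1433, 1433), (1434, 1434), (1435, 1137), (1436, 1783), (1437, 1437), (1438, 1140), (1439, 1785), (1440, 1440), (1441, 1142), (1442, 1788), (1443, 1789), (1444, 1151), (1445, 1152), (1446, 1153), (1447, 1146), (1448, 1796), (1449, 1797), (1450, 1149), (1451, 1150), (1452, 1801), (1453, 1802), (1454, 1804), (1455, 1793), (1456, 1794), (1457, 1258), (1458, 1155), (1459, 1809), (1460, 1157), (1461, 1272), (1462, 1159), (1463, 1160), (1464, 1813), (1465, 1815), (1466, 1163), (1467, 1803), (1468, 1164), (1469, 1818), (1470,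 1470), (1471, 1823)]
    ⟨e3 q1408 (flp_c L22708) q1760, e3 q1409 L16744 q1112, e3 q1410 L16760 q1410, e3 q1411 (flp_c L111946) q1412, e3 q1412 L111946 q1411, e3 q1413 L16876 q1116, e3 q1414 L17221 q1414, e3 q1415 L17229 q1415, e3 q1416 L17236 q1121, e3 q1417 L17245 q1122, e3 q1418 L17253 q1123, e3 q1419 L17263 q1419, e3 q1420 (flp_c L23444) q1768, e3 q1421 (flp_c L23454) q1769, e3 q1422 (flp_c L23464) q1770, e3 q1423 L17298 q1423, e3 q1424 L17302 q1128, e3 q1425 L17311 q1129, e3 q1426 L17320 q1130, e3 q1427 L17331 q1427, e3 q1428 L17335 q1428, e3 q1429 (flp_c L23528) q1777, e3 q1430 (flp_c L23536) q1778, e3 q1431 L112305 q1431, e3 q1432 L17392 q1432, e3 q1433 L17400 q1433, e3 q1434 L17407 q1434, e3 q1435 L17412 q1137, e3 q1436 (flp_c L23646) q1783, e3 q1437 L17428 q1437, e3 q1438 L17440 q1140, e3 q1439 L24129 q1785, e3 q1440 L17803 q1440, e3 q1441 (flp_c L17806) q1142, e3 q1442 (flp_c L24165) q1788, e3 q1443 (flp_c L24172) q1789, e3 q1444 L17836 q1151, e3 q1445 L17852 q1152, e3 q1446 L17861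 q1153, e3 q1447 (flp_c L17865) q1146, e3 q1448 (flp_c L24246) q1796, e3 q1449 (flp_c L24253) q1797, e3 q1450 L17902 q1149, e3 q1451 L17907 q1150, e3 q1452 (flp_c L24294) q1801, e3 q1453 (flp_c L24304) q1802, e3 q1454 (flp_c L24316) q1804, e3 q1455 (flp_c L24213) q1793, e3 q1456 (flp_c L24231) q1794, e3 q1457 L17975 q1258, e3 q1458 L17981 q1155, e3 q1459 (flp_c L24409) q1809, e3 q1460 L18031 q1157, e3 q1461 L18140 q1272, e3 q1462 L18146 q1159, e3 q1463 L18154 q1160, e3 q1464 (flp_c L24658) q1813, e3 q1465 (flp_c L24672) q1815, e3 q1466 L18213 q1163, e3 q1467 (flp_c L24311) q1803, e3 q1468 L18225 q1164, e3 q1469 (flp_c L24756) q1818, e3 q1470 L18740 q1470, e3 q1471 L25452 q1823, trivial⟩ (by decide +kernel)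

theorem ce_c_23 : ∀ r, r < 64 → sm gc (Qf (1472 + r)) = Qf (tab Gen.c (1472 + r)) :=
  edges_tab (sm gc) Qf (tab Gen.c) 1472 [(1472, 1472), (1473, 1473), (1474, 1474), (1475, 1170), (1476, 1831), (1477, 1477), (1478, 1172), (1479, 1835), (1480, 1836), (1481, 1481), (1482, 1183), (1483, 1184), (1484, 1185), (1485, 1186), (1486, 1177), (1487, 1846), (1488, 1847), (1489, 1489), (1490, 1180), (1491, 1181), (1492, 1852), (1493, 1853), (1494, 1854), (1495, 1856), (1496, 1841), (1497, 1842), (1498, 1843), (1499, 1844), (1500, 1584), (1501, 1188), (1502, 1189), (1503, 1868), (1504, 1869), (1505, 1870), (1506, 1872), (1507, 1193), (1508, 1194), (1509, 1195), (1510, 1510), (1511, 1196), (1512, 1878), (1513, 1879), (1514, 1880), (1515, 1882), (1516, 1516), (1517, 1517), (1518, 1888), (1519, 1299), (1520, 1891), (1521, 1301), (1522, 1522), (1523, 1523), (1524, 1205), (1525, 1899), (1526, 1306), (1527, 1207), (1528, 1903), (1529, 1904), (1530, 1310), (1531, 1228), (1532, 1229), (1533, 1230), (1534,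 1231), (1535, 1212)]
    ⟨e3 q1472 L18756 q1472, e3 q1473 L18763 q1473, e3 q1474 L18769 q1474, e3 q1475 L18776 q1170, e3 q1476 L25512 q1831, e3 q1477 L18796 q1477, e3 q1478 (flp_c L18800) q1172, e3 q1479 (flp_c L25550) q1835, e3 q1480 (flp_c L25559) q1836, e3 q1481 L18829 q1481, e3 q1482 L18836 q1183, e3 q1483 L18845 q1184, e3 q1484 L18854 q1185, e3 q1485 L18860 q1186, e3 q1486 (flp_c L18867) q1177, e3 q1487 (flp_c L25641) q1846, e3 q1488 (flp_c L25650) q1847, e3 q1489 L18897 q1489, e3 q1490 L18906 q1180, e3 q1491 L18913 q1181, e3 q1492 (flp_c L25693) q1852, e3 q1493 (flp_c L25701) q1853, e3 q1494 (flp_c L25709) q1854, e3 q1495 (flp_c L25720) q1856, e3 q1496 (flp_c L25599) q1841, e3 q1497 (flp_c L25608) q1842, e3 q1498 (flp_c L25616) q1843, e3 q1499 (flp_c L25623) q1844, e3 q1500 (flp_c L19695) q1584, e3 q1501 L18995 q1188, e3 q1502 L19004 q1189, e3 q1503 (flp_c L25821) q1868, e3 q1504 (flp_c L25831) q1869, e3 q1505 (flp_c L25842) q1870, e3 q1506 (flp_c L25859) q1872, e3 q1507 L19049 q1193,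 e3 q1508 L19058 q1194, e3 q1509 L19068 q1195, e3 q1510 L19077 q1510, e3 q1511 L19083 q1196, e3 q1512 (flp_c L25912) q1878, e3 q1513 (flp_c L25921) q1879, e3 q1514 (flp_c L25930) q1880, e3 q1515 (flp_c L25946) q1882, e3 q1516 L19127 q1516, e3 q1517 L19136 q1517, e3 q1518 L26030 q1888, e3 q1519 L19171 q1299, e3 q1520 L26064 q1891, e3 q1521 L19188 q1301, e3 q1522 L19198 q1522, e3 q1523 L19206 q1523, e3 q1524 L19215 q1205, e3 q1525 L26134 q1899, e3 q1526 L19239 q1306, e3 q1527 (flp_c L19244) q1207, e3 q1528 (flp_c L26180) q1903, e3 q1529 (flp_c L26190) q1904, e3 q1530 L19274 q1310, e3 q1531 L19284 q1228, e3 q1532 L19295 q1229, e3 q1533 L19306 q1230, e3 q1534 L19314 q1231, e3 q1535 (flp_c L19321) q1212, trivial⟩ (by decide +kernel)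

theorem ce_c_24 : ∀ r, r < 64 → sm gc (Qf (1536 + r)) = Qf (tab Gen.c (1536 + r)) :=
  edges_tab (sm gc) Qf (tab Gen.c) 1536 [(1536, 1914), (1537, 1915), (1538, 1318), (1539, 1215), (1540, 1216), (1541, 1920), (1542, 1921), (1543, 1922), (1544, 1924), (1545, 1242), (1546, 1243), (1547, 1244), (1548, 1245), (1549, 1222), (1550, 1935), (1551, 1936), (1552, 1332), (1553, 1225), (1554, 1226), (1555, 1941), (1556, 1942), (1557, 1943), (1558, 1945), (1559, 1909), (1560, 1910), (1561, 1911), (1562, 1912), (1563, 1795), (1564, 1233), (1565, 1234), (1566, 1956), (1567, 1957), (1568, 1958), (1569, 1960), (1570, 1238), (1571, 1239), (1572, 1240), (1573, 1282), (1574, 1241), (1575, 1966), (1576, 1967), (1577, 1968), (1578, 1970), (1579, 1929), (1580, 1930), (1581, 1979), (1582, 1932), (1583, 1933), (1584, 1500), (1585, 1247), (1586, 1248), (1587, 1983), (1588, 1984), (1589, 1985), (1590, 1987), (1591, 1252), (1592, 1253), (1593, 1254), (1594, 1594), (1595, 1255), (1596, 1991), (1597, 1992), (1598,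 1808), (1599, 1762)]
    ⟨e3 q1536 (flp_c L26279) q1914, e3 q1537 (flp_c L26287) q1915, e3 q1538 L19344 q1318, e3 q1539 L19353 q1215, e3 q1540 L19361 q1216, e3 q1541 (flp_c L26319) q1920, e3 q1542 (flp_c L26325) q1921, e3 q1543 (flp_c L26334) q1922, e3 q1544 (flp_c L26350) q1924, e3 q1545 L19391 q1242, e3 q1546 L19398 q1243, e3 q1547 L19404 q1244, e3 q1548 L19412 q1245, e3 q1549 (flp_c L19417) q1222, e3 q1550 (flp_c L26428) q1935, e3 q1551 (flp_c L26438) q1936, e3 q1552 L19454 q1332, e3 q1553 L19464 q1225, e3 q1554 L19472 q1226, e3 q1555 (flp_c L26489) q1941, e3 q1556 (flp_c L26497) q1942, e3 q1557 (flp_c L26506) q1943, e3 q1558 (flp_c L26518) q1945, e3 q1559 (flp_c L26232) q1909, e3 q1560 (flp_c L26243) q1910, e3 q1561 (flp_c L26253) q1911, e3 q1562 (flp_c L26262) q1912, e3 q1563 (flp_c L24240) q1795, e3 q1564 L19557 q1233, e3 q1565 L19565 q1234, e3 q1566 (flp_c L26623) q1956, e3 q1567 (flp_c L26629) q1957, e3 q1568 (flp_c L26638) q1958, e3 q1569 (flp_c L26655) q1960, e3 q1570 L19598 q1238,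 e3 q1571 L19602 q1239, e3 q1572 L19609 q1240, e3 q1573 L19616 q1282, e3 q1574 L19622 q1241, e3 q1575 (flp_c L26697) q1966, e3 q1576 (flp_c L26703) q1967, e3 q1577 (flp_c L26709) q1968, e3 q1578 (flp_c L26724) q1970, e3 q1579 (flp_c L26383) q1929, e3 q1580 (flp_c L26389) q1930, e3 q1581 L26799 q1979, e3 q1582 (flp_c L26401) q1932, e3 q1583 (flp_c L26407) q1933, e3 q1584 L19695 q1500, e3 q1585 L19701 q1247, e3 q1586 L19711 q1248, e3 q1587 (flp_c L26837) q1983, e3 q1588 (flp_c L26847) q1984, e3 q1589 (flp_c L26859) q1985, e3 q1590 (flp_c L26876) q1987, e3 q1591 L19764 q1252, e3 q1592 L19773 q1253, e3 q1593 L19784 q1254, e3 q1594 L19793 q1594, e3 q1595 L19799 q1255, e3 q1596 (flp_c L26938) q1991, e3 q1597 (flp_c L26947) q1992, e3 q1598 (flp_c L24393) q1808, e3 q1599 L112050 q1762, trivial⟩ (by decide +kernel)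

theorem ce_c_25 : ∀ r, r < 64 → sm gc (Qf (1600 + r)) = Qf (tab Gen.c (1600 + r)) :=
  edges_tab (sm gc) Qf (tab Gen.c) 1600 [(1600, 1261), (1601, 1262), (1602, 1263), (1603, 1264), (1604, 2000), (1605, 2001), (1606, 1965), (1607, 1269), (1608, 1270), (1609, 2006), (1610, 1271), (1611, 1811), (1612, 1812), (1613, 1275), (1614, 1276), (1615, 1277), (1616, 1959), (1617, 1278), (1618, 2013), (1619, 2014), (1620, 2016), (1621, 1284), (1622, 1285), (1623, 1969), (1624, 1286), (1625, 1971), (1626, 1972), (1627, 2031), (1628, 2023), (1629, 2025), (1630, 1287), (1631, 2034), (1632, 2035), (1633, 1291), (1634, 2036), (1635, 1635), (1636, 1636), (1637, 2040), (1638, 1638), (1639, 2041), (1640, 1890), (1641, 1300), (1642, 2045), (1643, 2046), (1644, 1894), (1645, 1305), (1646, 2048), (1647, 2049), (1648, 1902), (1649, 1308), (1650, 1309), (1651, 2054), (1652, 2055), (1653, 2056), (1654, 2058), (1655, 1655), (1656, 1316), (1657, 1317), (1658, 2061), (1659, 2062), (1660, 2063), (1661, 2065), (1662,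 1321), (1663, 1322)]
    ⟨e3 q1600 L19910 q1261, e3 q1601 L19916 q1262, e3 q1602 L19926 q1263, e3 q1603 L19935 q1264, e3 q1604 (flp_c L27130) q2000, e3 q1605 (flp_c L27138) q2001, e3 q1606 (flp_c L26691) q1965, e3 q1607 L19978 q1269, e3 q1608 L19985 q1270, e3 q1609 L27271 q2006, e3 q1610 (flp_c L20063) q1271, e3 q1611 (flp_c L24624) q1811, e3 q1612 (flp_c L24633) q1812, e3 q1613 L20093 q1275, e3 q1614 L20102 q1276, e3 q1615 L20112 q1277, e3 q1616 (flp_c L26647) q1959, e3 q1617 L20127 q1278, e3 q1618 (flp_c L27379) q2013, e3 q1619 (flp_c L27388) q2014, e3 q1620 (flp_c L27405) q2016, e3 q1621 L20174 q1284, e3 q1622 L20182 q1285, e3 q1623 (flp_c L26718) q1969, e3 q1624 L20197 q1286, e3 q1625 (flp_c L26730) q1971, e3 q1626 (flp_c L26737) q1972, e3 q1627 L27571 q2031, e3 q1628 (flp_c L27491) q2023, e3 q1629 (flp_c L27508) q2025, e3 q1630 (flp_c L20276) q1287, e3 q1631 (flp_c L27619) q2034, e3 q1632 L27655 q2035, e3 q1633 (flp_c L20355) q1291, e3 q1634 (flp_c L27703) q2036, e3 q1635 L20455 q1635,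 e3 q1636 L20478 q1636, e3 q1637 L27871 q2040, e3 q1638 L20494 q1638, e3 q1639 L27935 q2041, e3 q1640 (flp_c L26058) q1890, e3 q1641 (flp_c L20538) q1300, e3 q1642 (flp_c L27970) q2045, e3 q1643 (flp_c L27976) q2046, e3 q1644 (flp_c L26091) q1894, e3 q1645 (flp_c L20596) q1305, e3 q1646 (flp_c L28054) q2048, e3 q1647 (flp_c L28062) q2049, e3 q1648 (flp_c L26170) q1902, e3 q1649 L20633 q1308, e3 q1650 L20641 q1309, e3 q1651 (flp_c L28105) q2054, e3 q1652 (flp_c L28114) q2055, e3 q1653 (flp_c L28123) q2056, e3 q1654 (flp_c L28136) q2058, e3 q1655 L20717 q1655, e3 q1656 L20722 q1316, e3 q1657 L20728 q1317, e3 q1658 (flp_c L28237) q2061, e3 q1659 (flp_c L28244) q2062, e3 q1660 (flp_c L28251) q2063, e3 q1661 (flp_c L28265) q2065, e3 q1662 L20767 q1321, e3 q1663 L20774 q1322, trivial⟩ (by decide +kernel)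

theorem ce_c_26 : ∀ r, r < 64 → sm gc (Qf (1664 + r)) = Qf (tab Gen.c (1664 + r)) :=
  edges_tab (sm gc) Qf (tab Gen.c) 1664 [(1664, 1323), (1665, 1665), (1666, 1324), (1667, 2071), (1668, 2072), (1669, 2073), (1670, 2075), (1671, 1671), (1672, 1330), (1673, 1331), (1674, 2080), (1675, 2081), (1676, 2082), (1677, 2084), (1678, 1335), (1679, 1336), (1680, 1337), (1681, 1681), (1682, 1338), (1683, 1683), (1684, 1684), (1685, 1342), (1686, 1343), (1687, 1344), (1688, 1379), (1689, 1345), (1690, 2095), (1691, 2096), (1692, 2097), (1693, 2099), (1694, 1372), (1695, 1351), (1696, 1352), (1697, 1353), (1698, 1384), (1699, 1354), (1700, 1386), (1701, 1387), (1702, 1702), (1703, 1703), (1704, 1358), (1705, 1359), (1706, 1360), (1707, 1707), (1708, 2116), (1709, 2117), (1710, 2118), (1711, 2085), (1712, 1365), (1713, 1366), (1714, 1367), (1715, 1715), (1716, 1716), (1717, 1717), (1718, 1718), (1719, 2094), (1720, 1371), (1721, 2131), (1722, 2102), (1723, 2103), (1724, 1374), (1725, 1725), (1726,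 1726), (1727, 2138)]
    ⟨e3 q1664 L20781 q1323, e3 q1665 L20790 q1665, e3 q1666 L20795 q1324, e3 q1667 (flp_c L28312) q2071, e3 q1668 (flp_c L28320) q2072, e3 q1669 (flp_c L28329) q2073, e3 q1670 (flp_c L28345) q2075, e3 q1671 L20875 q1671, e3 q1672 L20880 q1330, e3 q1673 L20888 q1331, e3 q1674 (flp_c L28453) q2080, e3 q1675 (flp_c L28462) q2081, e3 q1676 (flp_c L28471) q2082, e3 q1677 (flp_c L28485) q2084, e3 q1678 L20932 q1335, e3 q1679 L20939 q1336, e3 q1680 L20946 q1337, e3 q1681 L20953 q1681, e3 q1682 L20956 q1338, e3 q1683 L21040 q1683, e3 q1684 L21045 q1684, e3 q1685 L21052 q1342, e3 q1686 L21059 q1343, e3 q1687 L21066 q1344, e3 q1688 L21075 q1379, e3 q1689 L21081 q1345, e3 q1690 (flp_c L28708) q2095, e3 q1691 (flp_c L28716) q2096, e3 q1692 (flp_c L28725) q2097, e3 q1693 (flp_c L28742) q2099, e3 q1694 L21125 q1372, e3 q1695 L21129 q1351, e3 q1696 L21135 q1352, e3 q1697 L21142 q1353, e3 q1698 L21151 q1384, e3 q1699 L21155 q1354, e3 q1700 L21161 q1386, e3 q1701 L21167 q1387, e3 q1702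 L21227 q1702, e3 q1703 L21235 q1703, e3 q1704 L21244 q1358, e3 q1705 L21253 q1359, e3 q1706 L21263 q1360, e3 q1707 L21275 q1707, e3 q1708 (flp_c L28954) q2116, e3 q1709 (flp_c L28964) q2117, e3 q1710 (flp_c L28974) q2118, e3 q1711 (flp_c L28534) q2085, e3 q1712 L21314 q1365, e3 q1713 L21323 q1366, e3 q1714 L21332 q1367, e3 q1715 L21345 q1715, e3 q1716 L21349 q1716, e3 q1717 L21408 q1717, e3 q1718 L21416 q1718, e3 q1719 (flp_c L28702) q2094, e3 q1720 L21429 q1371, e3 q1721 (flp_c L29157) q2131, e3 q1722 (flp_c L28803) q2102, e3 q1723 (flp_c L28809) q2103, e3 q1724 L21456 q1374, e3 q1725 L21467 q1725, e3 q1726 L21476 q1726, e3 q1727 L29207 q2138, trivial⟩ (by decide +kernel)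

theorem ce_c_27 : ∀ r, r < 64 → sm gc (Qf (1728 + r)) = Qf (tab Gen.c (1728 + r)) :=
  edges_tab (sm gc) Qf (tab Gen.c) 1728 [(1728, 1728), (1729, 1381), (1730, 2098), (1731, 1382), (1732, 2100), (1733, 2101), (1734, 2142), (1735, 2105), (1736, 1388), (1737, 2106), (1738, 2107), (1739, 2108), (1740, 2109), (1741, 2110), (1742, 1389), (1743, 2156), (1744, 2157), (1745, 1745), (1746, 1746), (1747, 1747), (1748, 1748), (1749, 1749), (1750, 1750), (1751, 1758), (1752, 1759), (1753, 1400), (1754, 1401), (1755, 1755), (1756, 1756), (1757, 1757), (1758, 1751), (1759, 1752), (1760, 1408), (1761, 1761), (1762, 1599), (1763, 1763), (1764, 1764), (1765, 1765), (1766, 2179), (1767, 1767), (1768, 1420), (1769, 1421), (1770, 1422), (1771, 1771), (1772, 1772), (1773, 2182), (1774, 2183), (1775, 1775), (1776, 1776), (1777, 1429), (1778, 1430), (1779, 1779), (1780, 2186), (1781, 1781), (1782, 1782), (1783, 1436), (1784, 1784), (1785, 1439), (1786, 2192), (1787, 2193), (1788, 1442), (1789, 1443), (1790,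 2197), (1791, 2198)]
    ⟨e3 q1728 L21491 q1728, e3 q1729 L21500 q1381, e3 q1730 (flp_c L28736) q2098, e3 q1731 L21516 q1382, e3 q1732 (flp_c L28750) q2100, e3 q1733 (flp_c L28758) q2101, e3 q1734 (flp_c L29239) q2142, e3 q1735 (flp_c L28842) q2105, e3 q1736 L21555 q1388, e3 q1737 (flp_c L28853) q2106, e3 q1738 (flp_c L28857) q2107, e3 q1739 (flp_c L28865) q2108, e3 q1740 (flp_c L28870) q2109, e3 q1741 (flp_c L28878) q2110, e3 q1742 (flp_c L21591) q1389, e3 q1743 (flp_c L29335) q2156, e3 q1744 (flp_c L29343) q2157, e3 q1745 L21619 q1745, e3 q1746 L21626 q1746, e3 q1747 L21634 q1747, e3 q1748 L21642 q1748, e3 q1749 L21649 q1749, e3 q1750 L21656 q1750, e3 q1751 (flp_c L22679) q1758, e3 q1752 (flp_c L22690) q1759, e3 q1753 L22464 q1400, e3 q1754 L22483 q1401, e3 q1755 L22491 q1755, e3 q1756 L22544 q1756, e3 q1757 L22576 q1757, e3 q1758 L22679 q1751, e3 q1759 L22690 q1752, e3 q1760 L22708 q1408, e3 q1761 L22726 q1761, e3 q1762 (flp_c L112050) q1599, e3 q1763 L23405 q1763, e3 q1764 L23414 q1764,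 e3 q1765 L23422 q1765, e3 q1766 L31867 q2179, e3 q1767 L23439 q1767, e3 q1768 L23444 q1420, e3 q1769 L23454 q1421, e3 q1770 L23464 q1422, e3 q1771 L23476 q1771, e3 q1772 L23481 q1772, e3 q1773 (flp_c L31899) q2182, e3 q1774 (flp_c L31908) q2183, e3 q1775 L95755 q1775, e3 q1776 L23515 q1776, e3 q1777 L23528 q1429, e3 q1778 L23536 q1430, e3 q1779 L23554 q1779, e3 q1780 L32100 q2186, e3 q1781 L23624 q1781, e3 q1782 L23632 q1782, e3 q1783 L23646 q1436, e3 q1784 L23653 q1784, e3 q1785 (flp_c L24129) q1439, e3 q1786 (flp_c L32798) q2192, e3 q1787 (flp_c L32805) q2193, e3 q1788 L24165 q1442, e3 q1789 L24172 q1443, e3 q1790 (flp_c L32845) q2197, e3 q1791 (flp_c L32859) q2198, trivial⟩ (by decide +kernel)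

theorem ce_c_28 : ∀ r, r < 64 → sm gc (Qf (1792 + r)) = Qf (tab Gen.c (1792 + r)) :=
  edges_tab (sm gc) Qf (tab Gen.c) 1792 [(1792, 2200), (1793, 1455), (1794, 1456), (1795, 1563), (1796, 1448), (1797, 1449), (1798, 2207), (1799, 2208), (1800, 2210), (1801, 1452), (1802, 1453), (1803, 1467), (1804, 1454), (1805, 2214), (1806, 2216), (1807, 2204), (1808, 1598), (1809, 1459), (1810, 2213), (1811, 1611), (1812, 1612), (1813, 1464), (1814, 2209), (1815, 1465), (1816, 2227), (1817, 2215), (1818, 1469), (1819, 2217), (1820, 2218), (1821, 2235), (1822, 1822), (1823, 1471), (1824, 2239), (1825, 2240), (1826, 1826), (1827, 1827), (1828, 1828), (1829, 1829), (1830, 1830), (1831, 1476), (1832, 2250), (1833, 2251), (1834, 1834), (1835, 1479), (1836, 1480), (1837, 2256), (1838, 2257), (1839, 2258), (1840, 2260), (1841, 1496), (1842, 1497), (1843, 1498), (1844, 1499), (1845, 1934), (1846, 1487), (1847, 1488), (1848, 2272), (1849, 2273), (1850, 2274), (1851, 2276), (1852, 1492), (1853, 1493), (1854,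 1494), (1855, 1855)]
    ⟨e3 q1792 (flp_c L32874) q2200, e3 q1793 L24213 q1455, e3 q1794 L24231 q1456, e3 q1795 L24240 q1563, e3 q1796 L24246 q1448, e3 q1797 L24253 q1449, e3 q1798 (flp_c L32965) q2207, e3 q1799 (flp_c L32979) q2208, e3 q1800 (flp_c L32995) q2210, e3 q1801 L24294 q1452, e3 q1802 L24304 q1453, e3 q1803 L24311 q1467, e3 q1804 L24316 q1454, e3 q1805 (flp_c L33050) q2214, e3 q1806 (flp_c L33070) q2216, e3 q1807 (flp_c L32933) q2204, e3 q1808 L24393 q1598, e3 q1809 L24409 q1459, e3 q1810 (flp_c L33039) q2213, e3 q1811 L24624 q1611, e3 q1812 L24633 q1612, e3 q1813 L24658 q1464, e3 q1814 (flp_c L32988) q2209, e3 q1815 L24672 q1465, e3 q1816 (flp_c L33598) q2227, e3 q1817 (flp_c L33065) q2215, e3 q1818 L24756 q1469, e3 q1819 (flp_c L33076) q2217, e3 q1820 (flp_c L33082) q2218, e3 q1821 L34629 q2235, e3 q1822 L25447 q1822, e3 q1823 (flp_c L25452) q1471, e3 q1824 (flp_c L34665) q2239, e3 q1825 (flp_c L34672) q2240, e3 q1826 L25478 q1826, e3 q1827 L25486 q1827, e3 q1828 L25492 q1828,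 e3 q1829 L25499 q1829, e3 q1830 L25506 q1830, e3 q1831 (flp_c L25512) q1476, e3 q1832 (flp_c L34751) q2250, e3 q1833 (flp_c L34760) q2251, e3 q1834 L25541 q1834, e3 q1835 L25550 q1479, e3 q1836 L25559 q1480, e3 q1837 (flp_c L34802) q2256, e3 q1838 (flp_c L34812) q2257, e3 q1839 (flp_c L34822) q2258, e3 q1840 (flp_c L34836) q2260, e3 q1841 L25599 q1496, e3 q1842 L25608 q1497, e3 q1843 L25616 q1498, e3 q1844 L25623 q1499, e3 q1845 (flp_c L26422) q1934, e3 q1846 L25641 q1487, e3 q1847 L25650 q1488, e3 q1848 (flp_c L34935) q2272, e3 q1849 (flp_c L34945) q2273, e3 q1850 (flp_c L34955) q2274, e3 q1851 (flp_c L34970) q2276, e3 q1852 L25693 q1492, e3 q1853 L25701 q1493, e3 q1854 L25709 q1494, e3 q1855 L25716 q1855, trivial⟩ (by decide +kernel)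

theorem ce_c_29 : ∀ r, r < 64 → sm gc (Qf (1856 + r)) = Qf (tab Gen.c (1856 + r)) :=
  edges_tab (sm gc) Qf (tab Gen.c) 1856 [(1856, 1495), (1857, 2282), (1858, 2283), (1859, 2284), (1860, 2286), (1861, 2265), (1862, 2266), (1863, 2297), (1864, 2268), (1865, 2269), (1866, 1981), (1867, 1982), (1868, 1503), (1869, 1504), (1870, 1505), (1871, 1871), (1872, 1506), (1873, 2305), (1874, 2306), (1875, 2307), (1876, 2309), (1877, 2281), (1878, 1512), (1879, 1513), (1880, 1514), (1881, 1881), (1882, 1515), (1883, 1883), (1884, 2316), (1885, 2317), (1886, 2323), (1887, 2324), (1888, 1518), (1889, 2326), (1890, 1640), (1891, 1520), (1892, 2330), (1893, 2331), (1894, 1644), (1895, 1895), (1896, 1896), (1897, 1897), (1898, 1898), (1899, 1525), (1900, 2341), (1901, 2342), (1902, 1648), (1903, 1528), (1904, 1529), (1905, 2347), (1906, 2348), (1907, 2349), (1908, 2351), (1909, 1559), (1910, 1560), (1911, 1561), (1912, 1562), (1913, 2191), (1914, 1536), (1915, 1537), (1916, 2362), (1917, 2363), (1918,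 2364), (1919, 2366)]
    ⟨e3 q1856 L25720 q1495, e3 q1857 (flp_c L35023) q2282, e3 q1858 (flp_c L35031) q2283, e3 q1859 (flp_c L35039) q2284, e3 q1860 (flp_c L35052) q2286, e3 q1861 (flp_c L34877) q2265, e3 q1862 (flp_c L34887) q2266, e3 q1863 L35141 q2297, e3 q1864 (flp_c L34900) q2268, e3 q1865 (flp_c L34910) q2269, e3 q1866 (flp_c L26816) q1981, e3 q1867 (flp_c L26827) q1982, e3 q1868 L25821 q1503, e3 q1869 L25831 q1504, e3 q1870 L25842 q1505, e3 q1871 L25852 q1871, e3 q1872 L25859 q1506, e3 q1873 (flp_c L35214) q2305, e3 q1874 (flp_c L35224) q2306, e3 q1875 (flp_c L35234) q2307, e3 q1876 (flp_c L35252) q2309, e3 q1877 (flp_c L35018) q2281, e3 q1878 L25912 q1512, e3 q1879 L25921 q1513, e3 q1880 L25930 q1514, e3 q1881 L25941 q1881, e3 q1882 L25946 q1515, e3 q1883 L25955 q1883, e3 q1884 (flp_c L35331) q2316, e3 q1885 (flp_c L35342) q2317, e3 q1886 L35435 q2323, e3 q1887 L35466 q2324, e3 q1888 (flp_c L26030) q1518, e3 q1889 L35500 q2326, e3 q1890 L26058 q1640, e3 q1891 (flp_c L26064) q1520,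 e3 q1892 (flp_c L35544) q2330, e3 q1893 (flp_c L35552) q2331, e3 q1894 L26091 q1644, e3 q1895 L26102 q1895, e3 q1896 L26110 q1896, e3 q1897 L26119 q1897, e3 q1898 L26128 q1898, e3 q1899 (flp_c L26134) q1525, e3 q1900 (flp_c L35642) q2341, e3 q1901 (flp_c L35652) q2342, e3 q1902 L26170 q1648, e3 q1903 L26180 q1528, e3 q1904 L26190 q1529, e3 q1905 (flp_c L35702) q2347, e3 q1906 (flp_c L35712) q2348, e3 q1907 (flp_c L35723) q2349, e3 q1908 (flp_c L35738) q2351, e3 q1909 L26232 q1559, e3 q1910 L26243 q1560, e3 q1911 L26253 q1561, e3 q1912 L26262 q1562, e3 q1913 (flp_c L32792) q2191, e3 q1914 L26279 q1536, e3 q1915 L26287 q1537, e3 q1916 (flp_c L35848) q2362, e3 q1917 (flp_c L35854) q2363, e3 q1918 (flp_c L35863) q2364, e3 q1919 (flp_c L35879) q2366, trivial⟩ (by decide +kernel)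

theorem ce_c_30 : ∀ r, r < 64 → sm gc (Qf (1920 + r)) = Qf (tab Gen.c (1920 + r)) :=
  edges_tab (sm gc) Qf (tab Gen.c) 1920 [(1920, 1541), (1921, 1542), (1922, 1543), (1923, 1923), (1924, 1544), (1925, 2372), (1926, 2373), (1927, 2374), (1928, 2376), (1929, 1579), (1930, 1580), (1931, 2387), (1932, 1582), (1933, 1583), (1934, 1845), (1935, 1550), (1936, 1551), (1937, 2391), (1938, 2392), (1939, 2393), (1940, 2395), (1941, 1555), (1942, 1556), (1943, 1557), (1944, 1944), (1945, 1558), (1946, 2401), (1947, 2402), (1948, 2403), (1949, 2405), (1950, 2356), (1951, 2384), (1952, 2358), (1953, 2359), (1954, 2205), (1955, 2206), (1956, 1566), (1957, 1567), (1958, 1568), (1959, 1616), (1960, 1569), (1961, 2420), (1962, 2421), (1963, 2422), (1964, 2424), (1965, 1606), (1966, 1575), (1967, 1576), (1968, 1577), (1969, 1623), (1970, 1578), (1971, 1625), (1972, 1626), (1973, 2434), (1974, 2435), (1975, 2446), (1976, 2437), (1977, 2439), (1978, 2386), (1979, 1581), (1980, 2449), (1981, 1866), (1982,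 1867), (1983, 1587)]
    ⟨e3 q1920 L26319 q1541, e3 q1921 L26325 q1542, e3 q1922 L26334 q1543, e3 q1923 L26343 q1923, e3 q1924 L26350 q1544, e3 q1925 (flp_c L35921) q2372, e3 q1926 (flp_c L35929) q2373, e3 q1927 (flp_c L35937) q2374, e3 q1928 (flp_c L35955) q2376, e3 q1929 L26383 q1579, e3 q1930 L26389 q1580, e3 q1931 L36030 q2387, e3 q1932 L26401 q1582, e3 q1933 L26407 q1583, e3 q1934 L26422 q1845, e3 q1935 L26428 q1550, e3 q1936 L26438 q1551, e3 q1937 (flp_c L36064) q2391, e3 q1938 (flp_c L36074) q2392, e3 q1939 (flp_c L36085) q2393, e3 q1940 (flp_c L36101) q2395, e3 q1941 L26489 q1555, e3 q1942 L26497 q1556, e3 q1943 L26506 q1557, e3 q1944 L26513 q1944, e3 q1945 L26518 q1558, e3 q1946 (flp_c L36163) q2401, e3 q1947 (flp_c L36171) q2402, e3 q1948 (flp_c L36179) q2403, e3 q1949 (flp_c L36193) q2405, e3 q1950 (flp_c L35793) q2356, e3 q1951 L109126 q2384, e3 q1952 (flp_c L35810) q2358, e3 q1953 (flp_c L35822) q2359, e3 q1954 (flp_c L32951) q2205, e3 q1955 (flp_c L32958) q2206, e3 q1956 L26623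 q1566, e3 q1957 L26629 q1567, e3 q1958 L26638 q1568, e3 q1959 L26647 q1616, e3 q1960 L26655 q1569, e3 q1961 (flp_c L36348) q2420, e3 q1962 (flp_c L36356) q2421, e3 q1963 (flp_c L36364) q2422, e3 q1964 (flp_c L36383) q2424, e3 q1965 L26691 q1606, e3 q1966 L26697 q1575, e3 q1967 L26703 q1576, e3 q1968 L26709 q1577, e3 q1969 L26718 q1623, e3 q1970 L26724 q1578, e3 q1971 L26730 q1625, e3 q1972 L26737 q1626, e3 q1973 (flp_c L36459) q2434, e3 q1974 (flp_c L36464) q2435, e3 q1975 L36553 q2446, e3 q1976 (flp_c L36474) q2437, e3 q1977 (flp_c L36489) q2439, e3 q1978 (flp_c L36024) q2386, e3 q1979 (flp_c L26799) q1581, e3 q1980 (flp_c L36602) q2449, e3 q1981 L26816 q1866, e3 q1982 L26827 q1867, e3 q1983 L26837 q1587, trivial⟩ (by decide +kernel)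

theorem ce_c_31 : ∀ r, r < 64 → sm gc (Qf (1984 + r)) = Qf (tab Gen.c (1984 + r)) :=
  edges_tab (sm gc) Qf (tab Gen.c) 1984 [(1984, 1588), (1985, 1589), (1986, 1986), (1987, 1590), (1988, 2456), (1989, 2457), (1990, 2400), (1991, 1596), (1992, 1597), (1993, 1993), (1994, 1994), (1995, 2220), (1996, 1997), (1997, 1996), (1998, 2172), (1999, 2419), (2000, 1604), (2001, 1605), (2002, 2470), (2003, 2432), (2004, 2433), (2005, 2474), (2006, 1609), (2007, 2475), (2008, 2009), (2009, 2008), (2010, 2223), (2011, 2481), (2012, 2225), (2013, 1618), (2014, 1619), (2015, 2423), (2016, 1620), (2017, 2425), (2018, 2426), (2019, 2493), (2020, 2485), (2021, 2487), (2022, 2495), (2023, 1628), (2024, 2438), (2025, 1629), (2026, 2440), (2027, 2441), (2028, 2442), (2029, 2443), (2030, 2444), (2031, 1627), (2032, 2507), (2033, 2506), (2034, 1631), (2035, 1632), (2036, 1634), (2037, 2511), (2038, 2512), (2039, 2039), (2040, 1637), (2041, 1639), (2042, 2514), (2043, 2515), (2044, 2329), (2045, 1642), (2046,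 1643), (2047, 2047)]
    ⟨e3 q1984 L26847 q1588, e3 q1985 L26859 q1589, e3 q1986 L26869 q1986, e3 q1987 L26876 q1590, e3 q1988 (flp_c L36681) q2456, e3 q1989 (flp_c L36691) q2457, e3 q1990 (flp_c L36157) q2400, e3 q1991 L26938 q1596, e3 q1992 L26947 q1597, e3 q1993 L26967 q1993, e3 q1994 L26992 q1994, e3 q1995 (flp_c L33171) q2220, e3 q1996 L112071 q1997, e3 q1997 (flp_c L112071) q1996, e3 q1998 (flp_c L112028) q2172, e3 q1999 (flp_c L36340) q2419, e3 q2000 L27130 q1604, e3 q2001 L27138 q1605, e3 q2002 L37133 q2470, e3 q2003 (flp_c L36445) q2432, e3 q2004 (flp_c L36453) q2433, e3 q2005 L37194 q2474, e3 q2006 (flp_c L27271) q1609, e3 q2007 (flp_c L37239) q2475, e3 q2008 L98868 q2009, e3 q2009 (flp_c L98868) q2008, e3 q2010 (flp_c L33530) q2223, e3 q2011 L37352 q2481, e3 q2012 (flp_c L33546) q2225, e3 q2013 L27379 q1618, e3 q2014 L27388 q1619, e3 q2015 (flp_c L36375) q2423, e3 q2016 L27405 q1620, e3 q2017 (flp_c L36391) q2425, e3 q2018 (flp_c L36400) q2426, e3 q2019 L37492 q2493, e3 q2020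 (flp_c L37405) q2485, e3 q2021 (flp_c L37424) q2487, e3 q2022 L37531 q2495, e3 q2023 L27491 q1628, e3 q2024 (flp_c L36483) q2438, e3 q2025 L27508 q1629, e3 q2026 (flp_c L36496) q2440, e3 q2027 (flp_c L36502) q2441, e3 q2028 (flp_c L36510) q2442, e3 q2029 (flp_c L36516) q2443, e3 q2030 (flp_c L36523) q2444, e3 q2031 (flp_c L27571) q1627, e3 q2032 (flp_c L37646) q2507, e3 q2033 (flp_c L37642) q2506, e3 q2034 L27619 q1631, e3 q2035 (flp_c L27655) q1632, e3 q2036 L27703 q1634, e3 q2037 (flp_c L37814) q2511, e3 q2038 L37998 q2512, e3 q2039 L27867 q2039, e3 q2040 (flp_c L27871) q1637, e3 q2041 (flp_c L27935) q1639, e3 q2042 (flp_c L38123) q2514, e3 q2043 (flp_c L38130) q2515, e3 q2044 (flp_c L35534) q2329, e3 q2045 L27970 q1642, e3 q2046 L27976 q1643, e3 q2047 L28049 q2047, trivial⟩ (by decide +kernel)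

theorem ce_c_32 : ∀ r, r < 64 → sm gc (Qf (2048 + r)) = Qf (tab Gen.c (2048 + r)) :=
  edges_tab (sm gc) Qf (tab Gen.c) 2048 [(2048, 1646), (2049, 1647), (2050, 2519), (2051, 2520), (2052, 2521), (2053, 2523), (2054, 1651), (2055, 1652), (2056, 1653), (2057, 2516), (2058, 1654), (2059, 2059), (2060, 2060), (2061, 1658), (2062, 1659), (2063, 1660), (2064, 2064), (2065, 1661), (2066, 2534), (2067, 2535), (2068, 2536), (2069, 2538), (2070, 2070), (2071, 1667), (2072, 1668), (2073, 1669), (2074, 2074), (2075, 1670), (2076, 2076), (2077, 2077), (2078, 2078), (2079, 2079), (2080, 1674), (2081, 1675), (2082, 1676), (2083, 2083), (2084, 1677), (2085, 1711), (2086, 2086), (2087, 2087), (2088, 2088), (2089, 2089), (2090, 2090), (2091, 2091), (2092, 2570), (2093, 2093), (2094, 1719), (2095, 1690), (2096, 1691), (2097, 1692), (2098, 1730), (2099, 1693), (2100, 1732), (2101, 1733), (2102, 1722), (2103, 1723), (2104, 2104), (2105, 1735), (2106, 1737), (2107, 1738), (2108, 1739), (2109, 1740), (2110,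 1741), (2111, 2111)]
    ⟨e3 q2048 L28054 q1646, e3 q2049 L28062 q1647, e3 q2050 (flp_c L38292) q2519, e3 q2051 (flp_c L38301) q2520, e3 q2052 (flp_c L38310) q2521, e3 q2053 (flp_c L38323) q2523, e3 q2054 L28105 q1651, e3 q2055 L28114 q1652, e3 q2056 L28123 q1653, e3 q2057 (flp_c L38191) q2516, e3 q2058 L28136 q1654, e3 q2059 L28223 q2059, e3 q2060 L28230 q2060, e3 q2061 L28237 q1658, e3 q2062 L28244 q1659, e3 q2063 L28251 q1660, e3 q2064 L28260 q2064, e3 q2065 L28265 q1661, e3 q2066 (flp_c L38560) q2534, e3 q2067 (flp_c L38568) q2535, e3 q2068 (flp_c L38577) q2536, e3 q2069 (flp_c L38593) q2538, e3 q2070 L28307 q2070, e3 q2071 L28312 q1667, e3 q2072 L28320 q1668, e3 q2073 L28329 q1669, e3 q2074 L28340 q2074, e3 q2075 L28345 q1670, e3 q2076 L28353 q2076, e3 q2077 L28360 q2077, e3 q2078 L28439 q2078, e3 q2079 L28446 q2079, e3 q2080 L28453 q1674, e3 q2081 L28462 q1675, e3 q2082 L28471 q1676, e3 q2083 L28480 q2083, e3 q2084 L28485 q1677, e3 q2085 L28534 q1711, e3 q2086 L28562 q2086, e3 q2087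 L28573 q2087, e3 q2088 L28578 q2088, e3 q2089 L28670 q2089, e3 q2090 L28676 q2090, e3 q2091 L28682 q2091, e3 q2092 L39192 q2570, e3 q2093 L28694 q2093, e3 q2094 L28702 q1719, e3 q2095 L28708 q1690, e3 q2096 L28716 q1691, e3 q2097 L28725 q1692, e3 q2098 L28736 q1730, e3 q2099 L28742 q1693, e3 q2100 L28750 q1732, e3 q2101 L28758 q1733, e3 q2102 L28803 q1722, e3 q2103 L28809 q1723, e3 q2104 L28829 q2104, e3 q2105 L28842 q1735, e3 q2106 L28853 q1737, e3 q2107 L28857 q1738, e3 q2108 L28865 q1739, e3 q2109 L28870 q1740, e3 q2110 L28878 q1741, e3 q2111 L28912 q2111, trivial⟩ (by decide +kernel)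

theorem ce_c_33 : ∀ r, r < 64 → sm gc (Qf (2112 + r)) = Qf (tab Gen.c (2112 + r)) :=
  edges_tab (sm gc) Qf (tab Gen.c) 2112 [(2112, 2112), (2113, 2113), (2114, 2598), (2115, 2555), (2116, 1708), (2117, 1709), (2118, 1710), (2119, 2119), (2120, 2120), (2121, 2525), (2122, 2559), (2123, 2333), (2124, 2124), (2125, 2125), (2126, 2126), (2127, 2612), (2128, 2128), (2129, 2573), (2130, 2574), (2131, 1721), (2132, 2527), (2133, 2582), (2134, 2584), (2135, 2135), (2136, 2624), (2137, 2137), (2138, 1727), (2139, 2627), (2140, 2628), (2141, 2576), (2142, 1734), (2143, 2577), (2144, 2578), (2145, 2579), (2146, 2580), (2147, 2581), (2148, 2586), (2149, 2543), (2150, 2587), (2151, 2588), (2152, 2589), (2153, 2590), (2154, 2591), (2155, 2592), (2156, 1743), (2157, 1744), (2158, 2650), (2159, 2651), (2160, 2652), (2161, 2161), (2162, 2162), (2163, 2163), (2164, 2164), (2165, 2165), (2166, 2661), (2167, 2168), (2168, 2167), (2169, 2664), (2170, 2170), (2171, 2171), (2172, 1998), (2173, 2665), (2174,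 2666), (2175, 2175)]
    ⟨e3 q2112 L28921 q2112, e3 q2113 L28931 q2113, e3 q2114 L39502 q2598, e3 q2115 (flp_c L38866) q2555, e3 q2116 L28954 q1708, e3 q2117 L28964 q1709, e3 q2118 L28974 q1710, e3 q2119 L28988 q2119, e3 q2120 L28993 q2120, e3 q2121 (flp_c L119501) q2525, e3 q2122 (flp_c L38988) q2559, e3 q2123 L119396 q2333, e3 q2124 L29070 q2124, e3 q2125 L29074 q2125, e3 q2126 L29079 q2126, e3 q2127 L39737 q2612, e3 q2128 L29137 q2128, e3 q2129 (flp_c L39215) q2573, e3 q2130 (flp_c L39223) q2574, e3 q2131 L29157 q1721, e3 q2132 (flp_c L119522) q2527, e3 q2133 (flp_c L39346) q2582, e3 q2134 (flp_c L39358) q2584, e3 q2135 L29185 q2135, e3 q2136 L39824 q2624, e3 q2137 L29202 q2137, e3 q2138 (flp_c L29207) q1727, e3 q2139 (flp_c L39848) q2627, e3 q2140 (flp_c L39854) q2628, e3 q2141 (flp_c L39266) q2576, e3 q2142 L29239 q1734, e3 q2143 (flp_c L39281) q2577, e3 q2144 (flp_c L39287) q2578, e3 q2145 (flp_c L39297) q2579, e3 q2146 (flp_c L39304) q2580, e3 q2147 (flp_c L39314) q2581, e3 q2148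 (flp_c L39395) q2586, e3 q2149 L117928 q2543, e3 q2150 (flp_c L39410) q2587, e3 q2151 (flp_c L39416) q2588, e3 q2152 (flp_c L39422) q2589, e3 q2153 (flp_c L39428) q2590, e3 q2154 (flp_c L39434) q2591, e3 q2155 (flp_c L39441) q2592, e3 q2156 L29335 q1743, e3 q2157 L29343 q1744, e3 q2158 (flp_c L40010) q2650, e3 q2159 (flp_c L40018) q2651, e3 q2160 (flp_c L40027) q2652, e3 q2161 L29376 q2161, e3 q2162 L29384 q2162, e3 q2163 L29392 q2163, e3 q2164 L29400 q2164, e3 q2165 L29408 q2165, e3 q2166 L40097 q2661, e3 q2167 (flp_c L111994) q2168, e3 q2168 L111994 q2167, e3 q2169 L41663 q2664, e3 q2170 L30558 q2170, e3 q2171 L30594 q2171, e3 q2172 L112028 q1998, e3 q2173 L42116 q2665, e3 q2174 L43357 q2666, e3 q2175 L31835 q2175, trivial⟩ (by decide +kernel)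

theorem ce_c_34 : ∀ r, r < 64 → sm gc (Qf (2176 + r)) = Qf (tab Gen.c (2176 + r)) :=
  edges_tab (sm gc) Qf (tab Gen.c) 2176 [(2176, 2176), (2177, 2177), (2178, 2671), (2179, 1766), (2180, 2672), (2181, 2181), (2182, 1773), (2183, 1774), (2184, 2184), (2185, 2185), (2186, 1780), (2187, 2675), (2188, 2188), (2189, 2189), (2190, 2190), (2191, 1913), (2192, 1786), (2193, 1787), (2194, 2680), (2195, 2681), (2196, 2683), (2197, 1790), (2198, 1791), (2199, 2199), (2200, 1792), (2201, 2687), (2202, 2689), (2203, 2385), (2204, 1807), (2205, 1954), (2206, 1955), (2207, 1798), (2208, 1799), (2209, 1814), (2210, 1800), (2211, 2700), (2212, 2702), (2213, 1810), (2214, 1805), (2215, 1817), (2216, 1806), (2217, 1819), (2218, 1820), (2219, 2708), (2220, 1995), (2221, 2699), (2222, 2706), (2223, 2010), (2224, 2719), (2225, 2012), (2226, 2701), (2227, 1816), (2228, 2703), (2229, 2704), (2230, 2709), (2231, 2710), (2232, 2711), (2233, 2712), (2234, 2713), (2235, 1821), (2236, 2734), (2237, 2735), (2238,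 2238), (2239, 1824)]
    ⟨e3 q2176 L31845 q2176, e3 q2177 L31855 q2177, e3 q2178 L43415 q2671, e3 q2179 (flp_c L31867) q1766, e3 q2180 (flp_c L43433) q2672, e3 q2181 L31884 q2181, e3 q2182 L31899 q1773, e3 q2183 L31908 q1774, e3 q2184 L31928 q2184, e3 q2185 L31972 q2185, e3 q2186 (flp_c L32100) q1780, e3 q2187 (flp_c L43719) q2675, e3 q2188 L32125 q2188, e3 q2189 L32132 q2189, e3 q2190 L32154 q2190, e3 q2191 L32792 q1913, e3 q2192 L32798 q1786, e3 q2193 L32805 q1787, e3 q2194 (flp_c L44651) q2680, e3 q2195 (flp_c L44665) q2681, e3 q2196 (flp_c L44680) q2683, e3 q2197 L32845 q1790, e3 q2198 L32859 q1791, e3 q2199 L32868 q2199, e3 q2200 L32874 q1792, e3 q2201 (flp_c L44737) q2687, e3 q2202 (flp_c L44762) q2689, e3 q2203 L93065 q2385, e3 q2204 L32933 q1807, e3 q2205 L32951 q1954, e3 q2206 L32958 q1955, e3 q2207 L32965 q1798, e3 q2208 L32979 q1799, e3 q2209 L32988 q1814, e3 q2210 L32995 q1800, e3 q2211 (flp_c L44911) q2700, e3 q2212 (flp_c L44937) q2702, e3 q2213 L33039 q1810, e3 q2214 L33050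 q1805, e3 q2215 L33065 q1817, e3 q2216 L33070 q1806, e3 q2217 L33076 q1819, e3 q2218 L33082 q1820, e3 q2219 (flp_c L45035) q2708, e3 q2220 L33171 q1995, e3 q2221 (flp_c L44896) q2699, e3 q2222 (flp_c L45015) q2706, e3 q2223 L33530 q2010, e3 q2224 L45706 q2719, e3 q2225 L33546 q2012, e3 q2226 (flp_c L44930) q2701, e3 q2227 L33598 q1816, e3 q2228 (flp_c L44945) q2703, e3 q2229 (flp_c L44953) q2704, e3 q2230 (flp_c L45056) q2709, e3 q2231 (flp_c L45061) q2710, e3 q2232 (flp_c L45069) q2711, e3 q2233 (flp_c L45074) q2712, e3 q2234 (flp_c L45081) q2713, e3 q2235 (flp_c L34629) q1821, e3 q2236 (flp_c L47188) q2734, e3 q2237 (flp_c L47196) q2735, e3 q2238 L34656 q2238, e3 q2239 L34665 q1824, trivial⟩ (by decide +kernel)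

theorem ce_c_35 : ∀ r, r < 64 → sm gc (Qf (2240 + r)) = Qf (tab Gen.c (2240 + r)) :=
  edges_tab (sm gc) Qf (tab Gen.c) 2240 [(2240, 1825), (2241, 2740), (2242, 2741), (2243, 2742), (2244, 2744), (2245, 2245), (2246, 2246), (2247, 2247), (2248, 2248), (2249, 2340), (2250, 1832), (2251, 1833), (2252, 2756), (2253, 2757), (2254, 2758), (2255, 2760), (2256, 1837), (2257, 1838), (2258, 1839), (2259, 2743), (2260, 1840), (2261, 2766), (2262, 2767), (2263, 2768), (2264, 2770), (2265, 1861), (2266, 1862), (2267, 2781), (2268, 1864), (2269, 1865), (2270, 2389), (2271, 2390), (2272, 1848), (2273, 1849), (2274, 1850), (2275, 2275), (2276, 1851), (2277, 2789), (2278, 2790), (2279, 2791), (2280, 2793), (2281, 1877), (2282, 1857), (2283, 1858), (2284, 1859), (2285, 2285), (2286, 1860), (2287, 2287), (2288, 2288), (2289, 2803), (2290, 2804), (2291, 2817), (2292, 2806), (2293, 2808), (2294, 2778), (2295, 2820), (2296, 2780), (2297, 1863), (2298, 2823), (2299, 2450), (2300, 2451), (2301, 2452), (2302,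 2830), (2303, 2454)]
    ⟨e3 q2240 L34672 q1825, e3 q2241 (flp_c L47235) q2740, e3 q2242 (flp_c L47242) q2741, e3 q2243 (flp_c L47250) q2742, e3 q2244 (flp_c L47264) q2744, e3 q2245 L34710 q2245, e3 q2246 L34717 q2246, e3 q2247 L34723 q2247, e3 q2248 L34731 q2248, e3 q2249 (flp_c L35636) q2340, e3 q2250 L34751 q1832, e3 q2251 L34760 q1833, e3 q2252 (flp_c L47360) q2756, e3 q2253 (flp_c L47370) q2757, e3 q2254 (flp_c L47380) q2758, e3 q2255 (flp_c L47394) q2760, e3 q2256 L34802 q1837, e3 q2257 L34812 q1838, e3 q2258 L34822 q1839, e3 q2259 (flp_c L47258) q2743, e3 q2260 L34836 q1840, e3 q2261 (flp_c L47447) q2766, e3 q2262 (flp_c L47457) q2767, e3 q2263 (flp_c L47467) q2768, e3 q2264 (flp_c L47483) q2770, e3 q2265 L34877 q1861, e3 q2266 L34887 q1862, e3 q2267 L47572 q2781, e3 q2268 L34900 q1864, e3 q2269 L34910 q1865, e3 q2270 (flp_c L36045) q2389, e3 q2271 (flp_c L36055) q2390, e3 q2272 L34935 q1848, e3 q2273 L34945 q1849, e3 q2274 L34955 q1850, e3 q2275 L34964 q2275, e3 q2276 L34970 q1851,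 e3 q2277 (flp_c L47637) q2789, e3 q2278 (flp_c L47647) q2790, e3 q2279 (flp_c L47657) q2791, e3 q2280 (flp_c L47674) q2793, e3 q2281 L35018 q1877, e3 q2282 L35023 q1857, e3 q2283 L35031 q1858, e3 q2284 L35039 q1859, e3 q2285 L35048 q2285, e3 q2286 L35052 q1860, e3 q2287 L35060 q2287, e3 q2288 L35067 q2288, e3 q2289 (flp_c L47763) q2803, e3 q2290 (flp_c L47772) q2804, e3 q2291 L47868 q2817, e3 q2292 (flp_c L47784) q2806, e3 q2293 (flp_c L47801) q2808, e3 q2294 (flp_c L47550) q2778, e3 q2295 L47901 q2820, e3 q2296 (flp_c L47564) q2780, e3 q2297 (flp_c L35141) q1863, e3 q2298 (flp_c L47924) q2823, e3 q2299 (flp_c L36617) q2450, e3 q2300 (flp_c L36628) q2451, e3 q2301 (flp_c L36641) q2452, e3 q2302 L47992 q2830, e3 q2303 (flp_c L36659) q2454, trivial⟩ (by decide +kernel)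

theorem ce_c_36 : ∀ r, r < 64 → sm gc (Qf (2304 + r)) = Qf (tab Gen.c (2304 + r)) :=
  edges_tab (sm gc) Qf (tab Gen.c) 2304 [(2304, 2788), (2305, 1873), (2306, 1874), (2307, 1875), (2308, 2308), (2309, 1876), (2310, 2310), (2311, 2834), (2312, 2835), (2313, 2841), (2314, 2801), (2315, 2802), (2316, 1884), (2317, 1885), (2318, 2847), (2319, 2319), (2320, 2320), (2321, 2321), (2322, 2851), (2323, 1886), (2324, 1887), (2325, 2852), (2326, 1889), (2327, 2856), (2328, 2857), (2329, 2044), (2330, 1892), (2331, 1893), (2332, 2862), (2333, 2123), (2334, 2863), (2335, 2865), (2336, 2336), (2337, 2337), (2338, 2338), (2339, 2339), (2340, 2249), (2341, 1900), (2342, 1901), (2343, 2877), (2344, 2878), (2345, 2879), (2346, 2881), (2347, 1905), (2348, 1906), (2349, 1907), (2350, 2864), (2351, 1908), (2352, 2887), (2353, 2888), (2354, 2889), (2355, 2891), (2356, 1950), (2357, 2900), (2358, 1952), (2359, 1953), (2360, 2678), (2361, 2679), (2362, 1916), (2363, 1917), (2364, 1918), (2365, 2365), (2366,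 1919), (2367, 2908)]
    ⟨e3 q2304 (flp_c L47630) q2788, e3 q2305 L35214 q1873, e3 q2306 L35224 q1874, e3 q2307 L35234 q1875, e3 q2308 L35246 q2308, e3 q2309 L35252 q1876, e3 q2310 L35262 q2310, e3 q2311 (flp_c L48030) q2834, e3 q2312 (flp_c L48042) q2835, e3 q2313 L48142 q2841, e3 q2314 (flp_c L47747) q2801, e3 q2315 (flp_c L47756) q2802, e3 q2316 L35331 q1884, e3 q2317 L35342 q1885, e3 q2318 L48215 q2847, e3 q2319 L35371 q2319, e3 q2320 L35387 q2320, e3 q2321 L35393 q2321, e3 q2322 L48287 q2851, e3 q2323 (flp_c L35435) q1886, e3 q2324 (flp_c L35466) q1887, e3 q2325 (flp_c L48306) q2852, e3 q2326 (flp_c L35500) q1889, e3 q2327 (flp_c L48402) q2856, e3 q2328 (flp_c L48411) q2857, e3 q2329 L35534 q2044, e3 q2330 L35544 q1892, e3 q2331 L35552 q1893, e3 q2332 (flp_c L48458) q2862, e3 q2333 (flp_c L119396) q2123, e3 q2334 (flp_c L48474) q2863, e3 q2335 (flp_c L48489) q2865, e3 q2336 L35592 q2336, e3 q2337 L35601 q2337, e3 q2338 L35609 q2338, e3 q2339 L35619 q2339, e3 q2340 L35636 q2249, e3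 q2341 L35642 q1900, e3 q2342 L35652 q1901, e3 q2343 (flp_c L48600) q2877, e3 q2344 (flp_c L48610) q2878, e3 q2345 (flp_c L48621) q2879, e3 q2346 (flp_c L48636) q2881, e3 q2347 L35702 q1905, e3 q2348 L35712 q1906, e3 q2349 L35723 q1907, e3 q2350 (flp_c L48482) q2864, e3 q2351 L35738 q1908, e3 q2352 (flp_c L48698) q2887, e3 q2353 (flp_c L48708) q2888, e3 q2354 (flp_c L48718) q2889, e3 q2355 (flp_c L48735) q2891, e3 q2356 L35793 q1950, e3 q2357 L48831 q2900, e3 q2358 L35810 q1952, e3 q2359 L35822 q1953, e3 q2360 (flp_c L44635) q2678, e3 q2361 (flp_c L44644) q2679, e3 q2362 L35848 q1916, e3 q2363 L35854 q1917, e3 q2364 L35863 q1918, e3 q2365 L35872 q2365, e3 q2366 L35879 q1919, e3 q2367 (flp_c L48898) q2908, trivial⟩ (by decide +kernel)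

theorem ce_c_37 : ∀ r, r < 64 → sm gc (Qf (2368 + r)) = Qf (tab Gen.c (2368 + r)) :=
  edges_tab (sm gc) Qf (tab Gen.c) 2368 [(2368, 2909), (2369, 2910), (2370, 2912), (2371, 2371), (2372, 1925), (2373, 1926), (2374, 1927), (2375, 2375), (2376, 1928), (2377, 2377), (2378, 2378), (2379, 2922), (2380, 2923), (2381, 2936), (2382, 2925), (2383, 2927), (2384, 1951), (2385, 2203), (2386, 1978), (2387, 1931), (2388, 2941), (2389, 2270), (2390, 2271), (2391, 1937), (2392, 1938), (2393, 1939), (2394, 2394), (2395, 1940), (2396, 2949), (2397, 2950), (2398, 2951), (2399, 2953), (2400, 1990), (2401, 1946), (2402, 1947), (2403, 1948), (2404, 2404), (2405, 1949), (2406, 2406), (2407, 2407), (2408, 2962), (2409, 2973), (2410, 2964), (2411, 2966), (2412, 2899), (2413, 2938), (2414, 2695), (2415, 2510), (2416, 2696), (2417, 2981), (2418, 2698), (2419, 1999), (2420, 1961), (2421, 1962), (2422, 1963), (2423, 2015), (2424, 1964), (2425, 2017), (2426, 2018), (2427, 2986), (2428, 2987), (2429, 2998), (2430,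 2989), (2431, 2991)]
    ⟨e3 q2368 (flp_c L48906) q2909, e3 q2369 (flp_c L48914) q2910, e3 q2370 (flp_c L48932) q2912, e3 q2371 L35914 q2371, e3 q2372 L35921 q1925, e3 q2373 L35929 q1926, e3 q2374 L35937 q1927, e3 q2375 L35948 q2375, e3 q2376 L35955 q1928, e3 q2377 L35963 q2377, e3 q2378 L35971 q2378, e3 q2379 (flp_c L49006) q2922, e3 q2380 (flp_c L49013) q2923, e3 q2381 L49112 q2936, e3 q2382 (flp_c L49027) q2925, e3 q2383 (flp_c L49045) q2927, e3 q2384 (flp_c L109126) q1951, e3 q2385 (flp_c L93065) q2203, e3 q2386 L36024 q1978, e3 q2387 (flp_c L36030) q1931, e3 q2388 (flp_c L49158) q2941, e3 q2389 L36045 q2270, e3 q2390 L36055 q2271, e3 q2391 L36064 q1937, e3 q2392 L36074 q1938, e3 q2393 L36085 q1939, e3 q2394 L36094 q2394, e3 q2395 L36101 q1940, e3 q2396 (flp_c L49230) q2949, e3 q2397 (flp_c L49240) q2950, e3 q2398 (flp_c L49250) q2951, e3 q2399 (flp_c L49268) q2953, e3 q2400 L36157 q1990, e3 q2401 L36163 q1946, e3 q2402 L36171 q1947, e3 q2403 L36179 q1948, e3 q2404 L36188 q2404, e3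 q2405 L36193 q1949, e3 q2406 L36201 q2406, e3 q2407 L36209 q2407, e3 q2408 (flp_c L49379) q2962, e3 q2409 L49479 q2973, e3 q2410 (flp_c L49391) q2964, e3 q2411 (flp_c L49409) q2966, e3 q2412 (flp_c L48823) q2899, e3 q2413 L109155 q2938, e3 q2414 (flp_c L44861) q2695, e3 q2415 (flp_c L102814) q2510, e3 q2416 (flp_c L44875) q2696, e3 q2417 L49600 q2981, e3 q2418 (flp_c L44889) q2698, e3 q2419 L36340 q1999, e3 q2420 L36348 q1961, e3 q2421 L36356 q1962, e3 q2422 L36364 q1963, e3 q2423 L36375 q2015, e3 q2424 L36383 q1964, e3 q2425 L36391 q2017, e3 q2426 L36400 q2018, e3 q2427 (flp_c L49643) q2986, e3 q2428 (flp_c L49650) q2987, e3 q2429 L49757 q2998, e3 q2430 (flp_c L49664) q2989, e3 q2431 (flp_c L49683) q2991, trivial⟩ (by decide +kernel)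

theorem ce_c_38 : ∀ r, r < 64 → sm gc (Qf (2432 + r)) = Qf (tab Gen.c (2432 + r)) :=
  edges_tab (sm gc) Qf (tab Gen.c) 2432 [(2432, 2003), (2433, 2004), (2434, 1973), (2435, 1974), (2436, 3006), (2437, 1976), (2438, 2024), (2439, 1977), (2440, 2026), (2441, 2027), (2442, 2028), (2443, 2029), (2444, 2030), (2445, 3005), (2446, 1975), (2447, 3018), (2448, 3017), (2449, 1980), (2450, 2299), (2451, 2300), (2452, 2301), (2453, 3025), (2454, 2303), (2455, 2948), (2456, 1988), (2457, 1989), (2458, 2458), (2459, 2459), (2460, 2960), (2461, 2961), (2462, 3000), (2463, 2463), (2464, 3035), (2465, 2466), (2466, 2465), (2467, 2984), (2468, 2985), (2469, 3042), (2470, 2002), (2471, 3001), (2472, 3045), (2473, 3003), (2474, 2005), (2475, 2007), (2476, 3048), (2477, 2478), (2478, 2477), (2479, 3053), (2480, 2718), (2481, 2011), (2482, 3056), (2483, 3057), (2484, 3061), (2485, 2020), (2486, 2990), (2487, 2021), (2488, 2992), (2489, 2993), (2490, 2994), (2491, 2995), (2492, 2996), (2493, 2019), (2494,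 3073), (2495, 2022)]
    ⟨e3 q2432 L36445 q2003, e3 q2433 L36453 q2004, e3 q2434 L36459 q1973, e3 q2435 L36464 q1974, e3 q2436 L49816 q3006, e3 q2437 L36474 q1976, e3 q2438 L36483 q2024, e3 q2439 L36489 q1977, e3 q2440 L36496 q2026, e3 q2441 L36502 q2027, e3 q2442 L36510 q2028, e3 q2443 L36516 q2029, e3 q2444 L36523 q2030, e3 q2445 (flp_c L49810) q3005, e3 q2446 (flp_c L36553) q1975, e3 q2447 (flp_c L49932) q3018, e3 q2448 (flp_c L49928) q3017, e3 q2449 L36602 q1980, e3 q2450 L36617 q2299, e3 q2451 L36628 q2300, e3 q2452 L36641 q2301, e3 q2453 L50071 q3025, e3 q2454 L36659 q2303, e3 q2455 (flp_c L49222) q2948, e3 q2456 L36681 q1988, e3 q2457 L36691 q1989, e3 q2458 L36713 q2458, e3 q2459 L36741 q2459, e3 q2460 (flp_c L49352) q2960, e3 q2461 (flp_c L49362) q2961, e3 q2462 L110552 q3000, e3 q2463 L36879 q2463, e3 q2464 L50537 q3035, e3 q2465 (flp_c L112056) q2466, e3 q2466 L112056 q2465, e3 q2467 (flp_c L49625) q2984, e3 q2468 (flp_c L49635) q2985, e3 q2469 L50651 q3042, e3 q2470 (flp_c L37133)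 q2002, e3 q2471 (flp_c L49781) q3001, e3 q2472 L50742 q3045, e3 q2473 (flp_c L49793) q3003, e3 q2474 (flp_c L37194) q2005, e3 q2475 L37239 q2007, e3 q2476 (flp_c L50845) q3048, e3 q2477 (flp_c L98823) q2478, e3 q2478 L98823 q2477, e3 q2479 L50986 q3053, e3 q2480 (flp_c L45701) q2718, e3 q2481 (flp_c L37352) q2011, e3 q2482 (flp_c L51012) q3056, e3 q2483 (flp_c L51020) q3057, e3 q2484 L51077 q3061, e3 q2485 L37405 q2020, e3 q2486 (flp_c L49675) q2990, e3 q2487 L37424 q2021, e3 q2488 (flp_c L49692) q2992, e3 q2489 (flp_c L49700) q2993, e3 q2490 (flp_c L49710) q2994, e3 q2491 (flp_c L49718) q2995, e3 q2492 (flp_c L49727) q2996, e3 q2493 (flp_c L37492) q2019, e3 q2494 (flp_c L51206) q3073, e3 q2495 (flp_c L37531) q2022, trivial⟩ (by decide +kernel)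

theorem ce_c_39 : ∀ r, r < 64 → sm gc (Qf (2496 + r)) = Qf (tab Gen.c (2496 + r)) :=
  edges_tab (sm gc) Qf (tab Gen.c) 2496 [(2496, 3075), (2497, 3076), (2498, 3009), (2499, 3010), (2500, 3011), (2501, 3012), (2502, 3013), (2503, 3014), (2504, 3015), (2505, 3016), (2506, 2033), (2507, 2032), (2508, 3089), (2509, 3090), (2510, 2415), (2511, 2037), (2512, 2038), (2513, 2513), (2514, 2042), (2515, 2043), (2516, 2057), (2517, 2517), (2518, 2518), (2519, 2050), (2520, 2051), (2521, 2052), (2522, 3096), (2523, 2053), (2524, 2524), (2525, 2121), (2526, 3097), (2527, 2132), (2528, 2528), (2529, 2529), (2530, 2530), (2531, 3116), (2532, 2532), (2533, 2533), (2534, 2066), (2535, 2067), (2536, 2068), (2537, 2537), (2538, 2069), (2539, 2539), (2540, 2540), (2541, 2541), (2542, 2542), (2543, 2149), (2544, 2544), (2545, 2545), (2546, 2546), (2547, 2547), (2548, 2548), (2549, 2549), (2550, 2550), (2551, 2551), (2552, 2552), (2553, 3141), (2554, 2554), (2555, 2115), (2556, 2556), (2557, 2557), (2558,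 2558), (2559, 2122)]
    ⟨e3 q2496 (flp_c L51265) q3075, e3 q2497 (flp_c L51270) q3076, e3 q2498 (flp_c L49830) q3009, e3 q2499 (flp_c L49838) q3010, e3 q2500 (flp_c L49847) q3011, e3 q2501 (flp_c L49855) q3012, e3 q2502 (flp_c L49861) q3013, e3 q2503 (flp_c L49869) q3014, e3 q2504 (flp_c L49876) q3015, e3 q2505 (flp_c L49882) q3016, e3 q2506 L37642 q2033, e3 q2507 L37646 q2032, e3 q2508 (flp_c L51409) q3089, e3 q2509 (flp_c L51418) q3090, e3 q2510 L102814 q2415, e3 q2511 L37814 q2037, e3 q2512 (flp_c L37998) q2038, e3 q2513 L38118 q2513, e3 q2514 L38123 q2042, e3 q2515 L38130 q2043, e3 q2516 L38191 q2057, e3 q2517 L38276 q2517, e3 q2518 L38285 q2518, e3 q2519 L38292 q2050, e3 q2520 L38301 q2051, e3 q2521 L38310 q2052, e3 q2522 (flp_c L52079) q3096, e3 q2523 L38323 q2053, e3 q2524 L38371 q2524, e3 q2525 L119501 q2121, e3 q2526 (flp_c L52171) q3097, e3 q2527 L119522 q2132, e3 q2528 L38515 q2528, e3 q2529 L38523 q2529, e3 q2530 L38531 q2530, e3 q2531 L52661 q3116, e3 q2532 L38547 q2532, e3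 q2533 L38555 q2533, e3 q2534 L38560 q2066, e3 q2535 L38568 q2067, e3 q2536 L38577 q2068, e3 q2537 L38588 q2537, e3 q2538 L38593 q2069, e3 q2539 L38601 q2539, e3 q2540 L38608 q2540, e3 q2541 L38658 q2541, e3 q2542 L38665 q2542, e3 q2543 (flp_c L117928) q2149, e3 q2544 L38706 q2544, e3 q2545 L38720 q2545, e3 q2546 L38725 q2546, e3 q2547 L38734 q2547, e3 q2548 L38740 q2548, e3 q2549 L38749 q2549, e3 q2550 L38826 q2550, e3 q2551 L38834 q2551, e3 q2552 L38842 q2552, e3 q2553 L53077 q3141, e3 q2554 L38854 q2554, e3 q2555 L38866 q2115, e3 q2556 L38902 q2556, e3 q2557 L38917 q2557, e3 q2558 L38924 q2558, e3 q2559 L38988 q2122, trivial⟩ (by decide +kernel)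

theorem ce_c_40 : ∀ r, r < 64 → sm gc (Qf (2560 + r)) = Qf (tab Gen.c (2560 + r)) :=
  edges_tab (sm gc) Qf (tab Gen.c) 2560 [(2560, 2560), (2561, 2561), (2562, 2562), (2563, 2563), (2564, 3154), (2565, 2565), (2566, 2566), (2567, 2567), (2568, 3159), (2569, 2569), (2570, 2092), (2571, 3162), (2572, 3163), (2573, 2129), (2574, 2130), (2575, 2575), (2576, 2141), (2577, 2143), (2578, 2144), (2579, 2145), (2580, 2146), (2581, 2147), (2582, 2133), (2583, 2583), (2584, 2134), (2585, 2585), (2586, 2148), (2587, 2150), (2588, 2151), (2589, 2152), (2590, 2153), (2591, 2154), (2592, 2155), (2593, 3189), (2594, 2594), (2595, 2595), (2596, 2596), (2597, 3194), (2598, 2114), (2599, 3196), (2600, 3104), (2601, 3144), (2602, 2859), (2603, 2603), (2604, 2604), (2605, 2605), (2606, 2890), (2607, 2868), (2608, 3149), (2609, 2866), (2610, 2610), (2611, 2611), (2612, 2127), (2613, 3208), (2614, 3209), (2615, 2615), (2616, 3106), (2617, 3167), (2618, 3169), (2619, 3108), (2620, 3109), (2621, 3178), (2622,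 3218), (2623, 2623)]
    ⟨e3 q2560 L39036 q2560, e3 q2561 L39046 q2561, e3 q2562 L39050 q2562, e3 q2563 L39057 q2563, e3 q2564 L53468 q3154, e3 q2565 L39160 q2565, e3 q2566 L39167 q2566, e3 q2567 L39175 q2567, e3 q2568 L53529 q3159, e3 q2569 L39189 q2569, e3 q2570 (flp_c L39192) q2092, e3 q2571 (flp_c L53552) q3162, e3 q2572 (flp_c L53559) q3163, e3 q2573 L39215 q2129, e3 q2574 L39223 q2130, e3 q2575 L39249 q2575, e3 q2576 L39266 q2141, e3 q2577 L39281 q2143, e3 q2578 L39287 q2144, e3 q2579 L39297 q2145, e3 q2580 L39304 q2146, e3 q2581 L39314 q2147, e3 q2582 L39346 q2133, e3 q2583 L39353 q2583, e3 q2584 L39358 q2134, e3 q2585 L39384 q2585, e3 q2586 L39395 q2148, e3 q2587 L39410 q2150, e3 q2588 L39416 q2151, e3 q2589 L39422 q2152, e3 q2590 L39428 q2153, e3 q2591 L39434 q2154, e3 q2592 L39441 q2155, e3 q2593 L53874 q3189, e3 q2594 L39468 q2594, e3 q2595 L39478 q2595, e3 q2596 L39488 q2596, e3 q2597 L53935 q3194, e3 q2598 (flp_c L39502) q2114, e3 q2599 (flp_c L53953) q3196, e3 q2600 L119416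 q3104, e3 q2601 (flp_c L53109) q3144, e3 q2602 (flp_c L119123) q2859, e3 q2603 L39569 q2603, e3 q2604 L39574 q2604, e3 q2605 L39580 q2605, e3 q2606 L119476 q2890, e3 q2607 (flp_c L117233) q2868, e3 q2608 (flp_c L53274) q3149, e3 q2609 L119146 q2866, e3 q2610 L39667 q2610, e3 q2611 L39674 q2611, e3 q2612 (flp_c L39737) q2127, e3 q2613 (flp_c L54233) q3208, e3 q2614 (flp_c L54239) q3209, e3 q2615 L39761 q2615, e3 q2616 L118693 q3106, e3 q2617 (flp_c L53594) q3167, e3 q2618 (flp_c L53610) q3169, e3 q2619 L118442 q3108, e3 q2620 (flp_c L119533) q3109, e3 q2621 (flp_c L53756) q3178, e3 q2622 L54300 q3218, e3 q2623 L39818 q2623, trivial⟩ (by decide +kernel)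

theorem ce_c_41 : ∀ r, r < 64 → sm gc (Qf (2624 + r)) = Qf (tab Gen.c (2624 + r)) :=
  edges_tab (sm gc) Qf (tab Gen.c) 2624 [(2624, 2136), (2625, 3221), (2626, 3222), (2627, 2139), (2628, 2140), (2629, 3227), (2630, 3228), (2631, 3229), (2632, 3171), (2633, 3121), (2634, 3172), (2635, 3173), (2636, 3174), (2637, 3175), (2638, 3176), (2639, 3177), (2640, 3182), (2641, 3131), (2642, 3129), (2643, 3183), (2644, 3184), (2645, 3185), (2646, 3186), (2647, 3187), (2648, 3250), (2649, 3226), (2650, 2158), (2651, 2159), (2652, 2160), (2653, 3254), (2654, 3255), (2655, 3256), (2656, 2656), (2657, 2657), (2658, 3263), (2659, 2659), (2660, 2745), (2661, 2166), (2662, 3264), (2663, 3265), (2664, 2169), (2665, 2173), (2666, 2174), (2667, 3266), (2668, 2668), (2669, 2669), (2670, 3268), (2671, 2178), (2672, 2180), (2673, 2673), (2674, 2674), (2675, 2187), (2676, 3271), (2677, 2677), (2678, 2360), (2679, 2361), (2680, 2194), (2681, 2195), (2682, 2682), (2683, 2196), (2684, 3278), (2685, 3280), (2686,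 2686), (2687, 2201)]
    ⟨e3 q2624 (flp_c L39824) q2136, e3 q2625 (flp_c L54328) q3221, e3 q2626 (flp_c L54333) q3222, e3 q2627 L39848 q2139, e3 q2628 L39854 q2140, e3 q2629 (flp_c L54372) q3227, e3 q2630 (flp_c L54377) q3228, e3 q2631 (flp_c L54385) q3229, e3 q2632 (flp_c L53659) q3171, e3 q2633 (flp_c L117996) q3121, e3 q2634 (flp_c L53678) q3172, e3 q2635 (flp_c L53686) q3173, e3 q2636 (flp_c L53694) q3174, e3 q2637 (flp_c L53702) q3175, e3 q2638 (flp_c L53710) q3176, e3 q2639 (flp_c L53719) q3177, e3 q2640 (flp_c L53818) q3182, e3 q2641 (flp_c L118132) q3131, e3 q2642 (flp_c L119561) q3129, e3 q2643 (flp_c L53838) q3183, e3 q2644 (flp_c L53844) q3184, e3 q2645 (flp_c L53852) q3185, e3 q2646 (flp_c L53858) q3186, e3 q2647 (flp_c L53866) q3187, e3 q2648 L54535 q3250, e3 q2649 (flp_c L54366) q3226, e3 q2650 L40010 q2158, e3 q2651 L40018 q2159, e3 q2652 L40027 q2160, e3 q2653 (flp_c L54566) q3254, e3 q2654 (flp_c L54575) q3255, e3 q2655 (flp_c L54584) q3256, e3 q2656 L40061 q2656, e3 q2657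 L40070 q2657, e3 q2658 L54642 q3263, e3 q2659 L40085 q2659, e3 q2660 (flp_c L120968) q2745, e3 q2661 (flp_c L40097) q2166, e3 q2662 L56765 q3264, e3 q2663 L56845 q3265, e3 q2664 (flp_c L41663) q2169, e3 q2665 (flp_c L42116) q2173, e3 q2666 (flp_c L43357) q2174, e3 q2667 (flp_c L59135) q3266, e3 q2668 L43385 q2668, e3 q2669 L43394 q2669, e3 q2670 L59212 q3268, e3 q2671 (flp_c L43415) q2178, e3 q2672 L43433 q2180, e3 q2673 L43447 q2673, e3 q2674 L43559 q2674, e3 q2675 L43719 q2187, e3 q2676 (flp_c L59619) q3271, e3 q2677 L43756 q2677, e3 q2678 L44635 q2360, e3 q2679 L44644 q2361, e3 q2680 L44651 q2194, e3 q2681 L44665 q2195, e3 q2682 L44674 q2682, e3 q2683 L44680 q2196, e3 q2684 (flp_c L60906) q3278, e3 q2685 (flp_c L60931) q3280, e3 q2686 L44723 q2686, e3 q2687 L44737 q2201, trivial⟩ (by decide +kernel)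

theorem ce_c_42 : ∀ r, r < 64 → sm gc (Qf (2688 + r)) = Qf (tab Gen.c (2688 + r)) :=
  edges_tab (sm gc) Qf (tab Gen.c) 2688 [(2688, 2688), (2689, 2202), (2690, 2690), (2691, 2691), (2692, 3293), (2693, 3287), (2694, 2939), (2695, 2414), (2696, 2416), (2697, 3300), (2698, 2418), (2699, 2221), (2700, 2211), (2701, 2226), (2702, 2212), (2703, 2228), (2704, 2229), (2705, 3305), (2706, 2222), (2707, 3004), (2708, 2219), (2709, 2230), (2710, 2231), (2711, 2232), (2712, 2233), (2713, 2234), (2714, 3321), (2715, 3303), (2716, 3312), (2717, 3324), (2718, 2480), (2719, 2224), (2720, 3327), (2721, 3328), (2722, 3306), (2723, 3307), (2724, 3308), (2725, 3309), (2726, 3310), (2727, 3315), (2728, 3316), (2729, 3317), (2730, 3318), (2731, 3319), (2732, 3320), (2733, 2855), (2734, 2236), (2735, 2237), (2736, 3346), (2737, 3347), (2738, 3348), (2739, 3350), (2740, 2241), (2741, 2242), (2742, 2243), (2743, 2259), (2744, 2244), (2745, 2660), (2746, 3355), (2747, 3356), (2748, 3358), (2749, 2749), (2750,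 2750), (2751, 3368)]
    ⟨e3 q2688 L44756 q2688, e3 q2689 L44762 q2202, e3 q2690 L44770 q2690, e3 q2691 L44777 q2691, e3 q2692 L61114 q3293, e3 q2693 (flp_c L61033) q3287, e3 q2694 (flp_c L104001) q2939, e3 q2695 L44861 q2414, e3 q2696 L44875 q2416, e3 q2697 L61226 q3300, e3 q2698 L44889 q2418, e3 q2699 L44896 q2221, e3 q2700 L44911 q2211, e3 q2701 L44930 q2226, e3 q2702 L44937 q2212, e3 q2703 L44945 q2228, e3 q2704 L44953 q2229, e3 q2705 (flp_c L61288) q3305, e3 q2706 L45015 q2222, e3 q2707 L103521 q3004, e3 q2708 L45035 q2219, e3 q2709 L45056 q2230, e3 q2710 L45061 q2231, e3 q2711 L45069 q2232, e3 q2712 L45074 q2233, e3 q2713 L45081 q2234, e3 q2714 L61642 q3321, e3 q2715 (flp_c L61260) q3303, e3 q2716 (flp_c L61420) q3312, e3 q2717 L62366 q3324, e3 q2718 L45701 q2480, e3 q2719 (flp_c L45706) q2224, e3 q2720 (flp_c L62392) q3327, e3 q2721 (flp_c L62399) q3328, e3 q2722 (flp_c L61315) q3306, e3 q2723 (flp_c L61322) q3307, e3 q2724 (flp_c L61332) q3308, e3 q2725 (flp_c L61339) q3309, e3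 q2726 (flp_c L61348) q3310, e3 q2727 (flp_c L61472) q3315, e3 q2728 (flp_c L61479) q3316, e3 q2729 (flp_c L61485) q3317, e3 q2730 (flp_c L61492) q3318, e3 q2731 (flp_c L61498) q3319, e3 q2732 (flp_c L61504) q3320, e3 q2733 (flp_c L48396) q2855, e3 q2734 L47188 q2236, e3 q2735 L47196 q2237, e3 q2736 (flp_c L64432) q3346, e3 q2737 (flp_c L64440) q3347, e3 q2738 (flp_c L64449) q3348, e3 q2739 (flp_c L64465) q3350, e3 q2740 L47235 q2241, e3 q2741 L47242 q2242, e3 q2742 L47250 q2243, e3 q2743 L47258 q2259, e3 q2744 L47264 q2244, e3 q2745 L120968 q2660, e3 q2746 (flp_c L64521) q3355, e3 q2747 (flp_c L64529) q3356, e3 q2748 (flp_c L64545) q3358, e3 q2749 L47304 q2749, e3 q2750 L47311 q2750, e3 q2751 L64630 q3368, trivial⟩ (by decide +kernel)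

theorem ce_c_43 : ∀ r, r < 64 → sm gc (Qf (2752 + r)) = Qf (tab Gen.c (2752 + r)) :=
  edges_tab (sm gc) Qf (tab Gen.c) 2752 [(2752, 2752), (2753, 2753), (2754, 2875), (2755, 2876), (2756, 2252), (2757, 2253), (2758, 2254), (2759, 3349), (2760, 2255), (2761, 3376), (2762, 3377), (2763, 3378), (2764, 3380), (2765, 2765), (2766, 2261), (2767, 2262), (2768, 2263), (2769, 3357), (2770, 2264), (2771, 3359), (2772, 3360), (2773, 3390), (2774, 3391), (2775, 3404), (2776, 3393), (2777, 3395), (2778, 2294), (2779, 3408), (2780, 2296), (2781, 2267), (2782, 3411), (2783, 2943), (2784, 2944), (2785, 2945), (2786, 3419), (2787, 2947), (2788, 2304), (2789, 2277), (2790, 2278), (2791, 2279), (2792, 2792), (2793, 2280), (2794, 2794), (2795, 2795), (2796, 3424), (2797, 3425), (2798, 3438), (2799, 3427), (2800, 3429), (2801, 2314), (2802, 2315), (2803, 2289), (2804, 2290), (2805, 3447), (2806, 2292), (2807, 2807), (2808, 2293), (2809, 2809), (2810, 2810), (2811, 2811), (2812, 2812), (2813, 2813), (2814,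 3444), (2815, 3459)]
    ⟨e3 q2752 L47324 q2752, e3 q2753 L47331 q2753, e3 q2754 (flp_c L48579) q2875, e3 q2755 (flp_c L48591) q2876, e3 q2756 L47360 q2252, e3 q2757 L47370 q2253, e3 q2758 L47380 q2254, e3 q2759 (flp_c L64458) q3349, e3 q2760 L47394 q2255, e3 q2761 (flp_c L64705) q3376, e3 q2762 (flp_c L64715) q3377, e3 q2763 (flp_c L64725) q3378, e3 q2764 (flp_c L64741) q3380, e3 q2765 L47441 q2765, e3 q2766 L47447 q2261, e3 q2767 L47457 q2262, e3 q2768 L47467 q2263, e3 q2769 (flp_c L64539) q3357, e3 q2770 L47483 q2264, e3 q2771 (flp_c L64553) q3359, e3 q2772 (flp_c L64561) q3360, e3 q2773 (flp_c L64828) q3390, e3 q2774 (flp_c L64839) q3391, e3 q2775 L64945 q3404, e3 q2776 (flp_c L64855) q3393, e3 q2777 (flp_c L64875) q3395, e3 q2778 L47550 q2294, e3 q2779 L64976 q3408, e3 q2780 L47564 q2296, e3 q2781 (flp_c L47572) q2267, e3 q2782 (flp_c L64998) q3411, e3 q2783 (flp_c L49171) q2943, e3 q2784 (flp_c L49181) q2944, e3 q2785 (flp_c L49192) q2945, e3 q2786 L65058 q3419, e3 q2787 (flp_c L49207)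 q2947, e3 q2788 L47630 q2304, e3 q2789 L47637 q2277, e3 q2790 L47647 q2278, e3 q2791 L47657 q2279, e3 q2792 L47668 q2792, e3 q2793 L47674 q2280, e3 q2794 L47684 q2794, e3 q2795 L47693 q2795, e3 q2796 (flp_c L65102) q3424, e3 q2797 (flp_c L65113) q3425, e3 q2798 L65227 q3438, e3 q2799 (flp_c L65129) q3427, e3 q2800 (flp_c L65150) q3429, e3 q2801 L47747 q2314, e3 q2802 L47756 q2315, e3 q2803 L47763 q2289, e3 q2804 L47772 q2290, e3 q2805 L65300 q3447, e3 q2806 L47784 q2292, e3 q2807 L47797 q2807, e3 q2808 L47801 q2293, e3 q2809 L47810 q2809, e3 q2810 L47814 q2810, e3 q2811 L47821 q2811, e3 q2812 L47827 q2812, e3 q2813 L47835 q2813, e3 q2814 (flp_c L65279) q3444, e3 q2815 L65391 q3459, trivial⟩ (by decide +kernel)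

theorem ce_c_44 : ∀ r, r < 64 → sm gc (Qf (2816 + r)) = Qf (tab Gen.c (2816 + r)) :=
  edges_tab (sm gc) Qf (tab Gen.c) 2816 [(2816, 3446), (2817, 2291), (2818, 3462), (2819, 3407), (2820, 2295), (2821, 3464), (2822, 3461), (2823, 2298), (2824, 3467), (2825, 3022), (2826, 3023), (2827, 2829), (2828, 3474), (2829, 2827), (2830, 2302), (2831, 3477), (2832, 3422), (2833, 3423), (2834, 2311), (2835, 2312), (2836, 3483), (2837, 2837), (2838, 2838), (2839, 2839), (2840, 3487), (2841, 2313), (2842, 3440), (2843, 3441), (2844, 3493), (2845, 3443), (2846, 3496), (2847, 2318), (2848, 3499), (2849, 2849), (2850, 2850), (2851, 2322), (2852, 2325), (2853, 3500), (2854, 3501), (2855, 2733), (2856, 2327), (2857, 2328), (2858, 3505), (2859, 2602), (2860, 3506), (2861, 3508), (2862, 2332), (2863, 2334), (2864, 2350), (2865, 2335), (2866, 2609), (2867, 3513), (2868, 2607), (2869, 3514), (2870, 2870), (2871, 2871), (2872, 3525), (2873, 2873), (2874, 2874), (2875, 2754), (2876, 2755), (2877, 2343), (2878,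 2344), (2879, 2345)]
    ⟨e3 q2816 (flp_c L65292) q3446, e3 q2817 (flp_c L47868) q2291, e3 q2818 (flp_c L65418) q3462, e3 q2819 (flp_c L64967) q3407, e3 q2820 (flp_c L47901) q2295, e3 q2821 (flp_c L65467) q3464, e3 q2822 (flp_c L65414) q3461, e3 q2823 L47924 q2298, e3 q2824 L65504 q3467, e3 q2825 (flp_c L50023) q3022, e3 q2826 (flp_c L50034) q3023, e3 q2827 L112126 q2829, e3 q2828 L65589 q3474, e3 q2829 (flp_c L112126) q2827, e3 q2830 (flp_c L47992) q2302, e3 q2831 (flp_c L65616) q3477, e3 q2832 (flp_c L65082) q3422, e3 q2833 (flp_c L65093) q3423, e3 q2834 L48030 q2311, e3 q2835 L48042 q2312, e3 q2836 L65696 q3483, e3 q2837 L48074 q2837, e3 q2838 L48092 q2838, e3 q2839 L48099 q2839, e3 q2840 L65776 q3487, e3 q2841 (flp_c L48142) q2313, e3 q2842 (flp_c L65247) q3440, e3 q2843 (flp_c L65257) q3441, e3 q2844 L65847 q3493, e3 q2845 (flp_c L65270) q3443, e3 q2846 L65887 q3496, e3 q2847 (flp_c L48215) q2318, e3 q2848 (flp_c L65916) q3499, e3 q2849 L48237 q2849, e3 q2850 L48254 q2850, e3 q2851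 (flp_c L48287) q2322, e3 q2852 L48306 q2325, e3 q2853 (flp_c L66008) q3500, e3 q2854 (flp_c L66028) q3501, e3 q2855 L48396 q2733, e3 q2856 L48402 q2327, e3 q2857 L48411 q2328, e3 q2858 (flp_c L66155) q3505, e3 q2859 L119123 q2602, e3 q2860 (flp_c L66173) q3506, e3 q2861 (flp_c L66190) q3508, e3 q2862 L48458 q2332, e3 q2863 L48474 q2334, e3 q2864 L48482 q2350, e3 q2865 L48489 q2335, e3 q2866 (flp_c L119146) q2609, e3 q2867 (flp_c L66255) q3513, e3 q2868 L117233 q2607, e3 q2869 (flp_c L66280) q3514, e3 q2870 L48531 q2870, e3 q2871 L48540 q2871, e3 q2872 L66372 q3525, e3 q2873 L48557 q2873, e3 q2874 L48566 q2874, e3 q2875 L48579 q2754, e3 q2876 L48591 q2755, e3 q2877 L48600 q2343, e3 q2878 L48610 q2344, e3 q2879 L48621 q2345, trivial⟩ (by decide +kernel)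

theorem ce_c_45 : ∀ r, r < 64 → sm gc (Qf (2880 + r)) = Qf (tab Gen.c (2880 + r)) :=
  edges_tab (sm gc) Qf (tab Gen.c) 2880 [(2880, 3507), (2881, 2346), (2882, 3533), (2883, 3534), (2884, 3535), (2885, 3537), (2886, 2886), (2887, 2352), (2888, 2353), (2889, 2354), (2890, 2606), (2891, 2355), (2892, 3515), (2893, 3516), (2894, 3545), (2895, 3556), (2896, 3547), (2897, 3548), (2898, 3406), (2899, 2412), (2900, 2357), (2901, 3560), (2902, 3273), (2903, 3092), (2904, 3274), (2905, 3568), (2906, 3276), (2907, 2907), (2908, 2367), (2909, 2368), (2910, 2369), (2911, 2911), (2912, 2370), (2913, 2913), (2914, 2914), (2915, 3573), (2916, 3574), (2917, 3587), (2918, 3576), (2919, 3578), (2920, 2920), (2921, 2921), (2922, 2379), (2923, 2380), (2924, 3596), (2925, 2382), (2926, 2926), (2927, 2383), (2928, 2928), (2929, 2929), (2930, 2930), (2931, 2931), (2932, 2932), (2933, 3593), (2934, 3608), (2935, 3595), (2936, 2381), (2937, 3611), (2938, 2413), (2939, 2694), (2940, 3610), (2941, 2388), (2942,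 3616), (2943, 2783)]
    ⟨e3 q2880 (flp_c L66182) q3507, e3 q2881 L48636 q2346, e3 q2882 (flp_c L66462) q3533, e3 q2883 (flp_c L66472) q3534, e3 q2884 (flp_c L66482) q3535, e3 q2885 (flp_c L66499) q3537, e3 q2886 L48691 q2886, e3 q2887 L48698 q2352, e3 q2888 L48708 q2353, e3 q2889 L48718 q2354, e3 q2890 (flp_c L119476) q2606, e3 q2891 L48735 q2355, e3 q2892 (flp_c L66288) q3515, e3 q2893 (flp_c L66297) q3516, e3 q2894 (flp_c L66610) q3545, e3 q2895 L66720 q3556, e3 q2896 (flp_c L66626) q3547, e3 q2897 (flp_c L66647) q3548, e3 q2898 (flp_c L103661) q3406, e3 q2899 L48823 q2412, e3 q2900 (flp_c L48831) q2357, e3 q2901 (flp_c L66783) q3560, e3 q2902 (flp_c L60849) q3273, e3 q2903 L102810 q3092, e3 q2904 (flp_c L60867) q3274, e3 q2905 L66849 q3568, e3 q2906 (flp_c L60885) q3276, e3 q2907 L48891 q2907, e3 q2908 L48898 q2367, e3 q2909 L48906 q2368, e3 q2910 L48914 q2369, e3 q2911 L48925 q2911, e3 q2912 L48932 q2370, e3 q2913 L48940 q2913, e3 q2914 L48948 q2914, e3 q2915 (flp_c L66895) q3573,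 e3 q2916 (flp_c L66902) q3574, e3 q2917 L67001 q3587, e3 q2918 (flp_c L66916) q3576, e3 q2919 (flp_c L66934) q3578, e3 q2920 L48990 q2920, e3 q2921 L48999 q2921, e3 q2922 L49006 q2379, e3 q2923 L49013 q2380, e3 q2924 L67068 q3596, e3 q2925 L49027 q2382, e3 q2926 L49038 q2926, e3 q2927 L49045 q2383, e3 q2928 L49054 q2928, e3 q2929 L49061 q2929, e3 q2930 L49070 q2930, e3 q2931 L49077 q2931, e3 q2932 L49085 q2932, e3 q2933 (flp_c L67047) q3593, e3 q2934 L67167 q3608, e3 q2935 (flp_c L67062) q3595, e3 q2936 (flp_c L49112) q2381, e3 q2937 (flp_c L67190) q3611, e3 q2938 (flp_c L109155) q2413, e3 q2939 L104001 q2694, e3 q2940 (flp_c L67186) q3610, e3 q2941 L49158 q2388, e3 q2942 (flp_c L67255) q3616, e3 q2943 L49171 q2783, trivial⟩ (by decide +kernel)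

theorem ce_c_46 : ∀ r, r < 64 → sm gc (Qf (2944 + r)) = Qf (tab Gen.c (2944 + r)) :=
  edges_tab (sm gc) Qf (tab Gen.c) 2944 [(2944, 2784), (2945, 2785), (2946, 3623), (2947, 2787), (2948, 2455), (2949, 2396), (2950, 2397), (2951, 2398), (2952, 2952), (2953, 2399), (2954, 2954), (2955, 2955), (2956, 3628), (2957, 3639), (2958, 3630), (2959, 3632), (2960, 2460), (2961, 2461), (2962, 2408), (2963, 3645), (2964, 2410), (2965, 2965), (2966, 2411), (2967, 2967), (2968, 2968), (2969, 2969), (2970, 2970), (2971, 2971), (2972, 3644), (2973, 2409), (2974, 3655), (2975, 3656), (2976, 3043), (2977, 3297), (2978, 3072), (2979, 3665), (2980, 3299), (2981, 2417), (2982, 3668), (2983, 3669), (2984, 2467), (2985, 2468), (2986, 2427), (2987, 2428), (2988, 3679), (2989, 2430), (2990, 2486), (2991, 2431), (2992, 2488), (2993, 2489), (2994, 2490), (2995, 2491), (2996, 2492), (2997, 3678), (2998, 2429), (2999, 3691), (3000, 2462), (3001, 2471), (3002, 3696), (3003, 2473), (3004, 2707), (3005, 2445), (3006,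 2436), (3007, 3702)]
    ⟨e3 q2944 L49181 q2784, e3 q2945 L49192 q2785, e3 q2946 L67316 q3623, e3 q2947 L49207 q2787, e3 q2948 L49222 q2455, e3 q2949 L49230 q2396, e3 q2950 L49240 q2397, e3 q2951 L49250 q2398, e3 q2952 L49261 q2952, e3 q2953 L49268 q2399, e3 q2954 L49278 q2954, e3 q2955 L49288 q2955, e3 q2956 (flp_c L67377) q3628, e3 q2957 L67501 q3639, e3 q2958 (flp_c L67393) q3630, e3 q2959 (flp_c L67415) q3632, e3 q2960 L49352 q2460, e3 q2961 L49362 q2461, e3 q2962 L49379 q2408, e3 q2963 L67578 q3645, e3 q2964 L49391 q2410, e3 q2965 L49404 q2965, e3 q2966 L49409 q2411, e3 q2967 L49418 q2967, e3 q2968 L49423 q2968, e3 q2969 L49430 q2969, e3 q2970 L49437 q2970, e3 q2971 L49445 q2971, e3 q2972 (flp_c L67570) q3644, e3 q2973 (flp_c L49479) q2409, e3 q2974 (flp_c L67701) q3655, e3 q2975 L67801 q3656, e3 q2976 L94171 q3043, e3 q2977 (flp_c L61198) q3297, e3 q2978 (flp_c L102748) q3072, e3 q2979 L67860 q3665, e3 q2980 (flp_c L61222) q3299, e3 q2981 (flp_c L49600) q2417, e3 q2982 (flp_c L67886)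 q3668, e3 q2983 (flp_c L67895) q3669, e3 q2984 L49625 q2467, e3 q2985 L49635 q2468, e3 q2986 L49643 q2427, e3 q2987 L49650 q2428, e3 q2988 L67975 q3679, e3 q2989 L49664 q2430, e3 q2990 L49675 q2486, e3 q2991 L49683 q2431, e3 q2992 L49692 q2488, e3 q2993 L49700 q2489, e3 q2994 L49710 q2490, e3 q2995 L49718 q2491, e3 q2996 L49727 q2492, e3 q2997 (flp_c L67969) q3678, e3 q2998 (flp_c L49757) q2429, e3 q2999 (flp_c L68115) q3691, e3 q3000 (flp_c L110552) q2462, e3 q3001 L49781 q2471, e3 q3002 L68154 q3696, e3 q3003 L49793 q2473, e3 q3004 (flp_c L103521) q2707, e3 q3005 L49810 q2445, e3 q3006 (flp_c L49816) q2436, e3 q3007 (flp_c L68205) q3702, trivial⟩ (by decide +kernel)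

theorem ce_c_47 : ∀ r, r < 64 → sm gc (Qf (3008 + r)) = Qf (tab Gen.c (3008 + r)) :=
  edges_tab (sm gc) Qf (tab Gen.c) 3008 [(3008, 3703), (3009, 2498), (3010, 2499), (3011, 2500), (3012, 2501), (3013, 2502), (3014, 2503), (3015, 2504), (3016, 2505), (3017, 2448), (3018, 2447), (3019, 3716), (3020, 3717), (3021, 3719), (3022, 2825), (3023, 2826), (3024, 3723), (3025, 2453), (3026, 3725), (3027, 3626), (3028, 3627), (3029, 3673), (3030, 3030), (3031, 3549), (3032, 3693), (3033, 3642), (3034, 3692), (3035, 2464), (3036, 3733), (3037, 3734), (3038, 3738), (3039, 3674), (3040, 3740), (3041, 3676), (3042, 2469), (3043, 2976), (3044, 3695), (3045, 2472), (3046, 3745), (3047, 3047), (3048, 2476), (3049, 3747), (3050, 3052), (3051, 3750), (3052, 3050), (3053, 2479), (3054, 3753), (3055, 3754), (3056, 2482), (3057, 2483), (3058, 3759), (3059, 3760), (3060, 3761), (3061, 2484), (3062, 3766), (3063, 3767), (3064, 3682), (3065, 3683), (3066, 3684), (3067, 3685), (3068, 3686), (3069, 3687), (3070,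 3688), (3071, 3689)]
    ⟨e3 q3008 (flp_c L68211) q3703, e3 q3009 L49830 q2498, e3 q3010 L49838 q2499, e3 q3011 L49847 q2500, e3 q3012 L49855 q2501, e3 q3013 L49861 q2502, e3 q3014 L49869 q2503, e3 q3015 L49876 q2504, e3 q3016 L49882 q2505, e3 q3017 L49928 q2448, e3 q3018 L49932 q2447, e3 q3019 (flp_c L68348) q3716, e3 q3020 (flp_c L68358) q3717, e3 q3021 L68447 q3719, e3 q3022 L50023 q2825, e3 q3023 L50034 q2826, e3 q3024 L68546 q3723, e3 q3025 (flp_c L50071) q2453, e3 q3026 (flp_c L68588) q3725, e3 q3027 (flp_c L67344) q3626, e3 q3028 (flp_c L67356) q3627, e3 q3029 L102337 q3673, e3 q3030 L50187 q3030, e3 q3031 (flp_c L116570) q3549, e3 q3032 L110704 q3693, e3 q3033 (flp_c L67547) q3642, e3 q3034 L106174 q3692, e3 q3035 (flp_c L50537) q2464, e3 q3036 (flp_c L69185) q3733, e3 q3037 (flp_c L69192) q3734, e3 q3038 L69253 q3738, e3 q3039 (flp_c L67930) q3674, e3 q3040 L69296 q3740, e3 q3041 (flp_c L67946) q3676, e3 q3042 (flp_c L50651) q2469, e3 q3043 (flp_c L94171) q2976, e3 q3044 (flp_c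 L68148) q3695, e3 q3045 (flp_c L50742) q2472, e3 q3046 (flp_c L69471) q3745, e3 q3047 L50787 q3047, e3 q3048 L50845 q2476, e3 q3049 L69729 q3747, e3 q3050 (flp_c L98743) q3052, e3 q3051 L69750 q3750, e3 q3052 L98743 q3050, e3 q3053 (flp_c L50986) q2479, e3 q3054 (flp_c L69780) q3753, e3 q3055 (flp_c L69787) q3754, e3 q3056 L51012 q2482, e3 q3057 L51020 q2483, e3 q3058 (flp_c L69825) q3759, e3 q3059 (flp_c L69832) q3760, e3 q3060 (flp_c L69840) q3761, e3 q3061 (flp_c L51077) q2484, e3 q3062 (flp_c L69927) q3766, e3 q3063 (flp_c L69934) q3767, e3 q3064 (flp_c L67997) q3682, e3 q3065 (flp_c L68007) q3683, e3 q3066 (flp_c L68018) q3684, e3 q3067 (flp_c L68028) q3685, e3 q3068 (flp_c L68036) q3686, e3 q3069 (flp_c L68046) q3687, e3 q3070 (flp_c L68055) q3688, e3 q3071 (flp_c L68063) q3689, trivial⟩ (by decide +kernel)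

theorem ce_c_48 : ∀ r, r < 64 → sm gc (Qf (3072 + r)) = Qf (tab Gen.c (3072 + r)) :=
  edges_tab (sm gc) Qf (tab Gen.c) 3072 [(3072, 2978), (3073, 2494), (3074, 3074), (3075, 2496), (3076, 2497), (3077, 3785), (3078, 3786), (3079, 3787), (3080, 3707), (3081, 3708), (3082, 3709), (3083, 3710), (3084, 3711), (3085, 3712), (3086, 3713), (3087, 3714), (3088, 3799), (3089, 2508), (3090, 2509), (3091, 3800), (3092, 2903), (3093, 3093), (3094, 3094), (3095, 3095), (3096, 2522), (3097, 2526), (3098, 3098), (3099, 3099), (3100, 3100), (3101, 3805), (3102, 3102), (3103, 3103), (3104, 2600), (3105, 3802), (3106, 2616), (3107, 3497), (3108, 2619), (3109, 2620), (3110, 3812), (3111, 3111), (3112, 3112), (3113, 3113), (3114, 3817), (3115, 3115), (3116, 2531), (3117, 3820), (3118, 3821), (3119, 3119), (3120, 3120), (3121, 2633), (3122, 3122), (3123, 3123), (3124, 3124), (3125, 3125), (3126, 3126), (3127, 3127), (3128, 3128), (3129, 2642), (3130, 3130), (3131, 2641), (3132, 3132), (3133, 3133), (3134,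 3134), (3135, 3135)]
    ⟨e3 q3072 L102748 q2978, e3 q3073 L51206 q2494, e3 q3074 L51262 q3074, e3 q3075 L51265 q2496, e3 q3076 L51270 q2497, e3 q3077 (flp_c L70196) q3785, e3 q3078 (flp_c L70202) q3786, e3 q3079 (flp_c L70208) q3787, e3 q3080 (flp_c L68229) q3707, e3 q3081 (flp_c L68236) q3708, e3 q3082 (flp_c L68244) q3709, e3 q3083 (flp_c L68253) q3710, e3 q3084 (flp_c L68261) q3711, e3 q3085 (flp_c L68269) q3712, e3 q3086 (flp_c L68277) q3713, e3 q3087 (flp_c L68284) q3714, e3 q3088 L70294 q3799, e3 q3089 L51409 q2508, e3 q3090 L51418 q2509, e3 q3091 (flp_c L70370) q3800, e3 q3092 (flp_c L102810) q2903, e3 q3093 L51871 q3093, e3 q3094 L52042 q3094, e3 q3095 L52049 q3095, e3 q3096 L52079 q2522, e3 q3097 L52171 q2526, e3 q3098 L52265 q3098, e3 q3099 L52275 q3099, e3 q3100 L52285 q3100, e3 q3101 L71557 q3805, e3 q3102 L52301 q3102, e3 q3103 L52313 q3103, e3 q3104 (flp_c L119416) q2600, e3 q3105 (flp_c L71262) q3802, e3 q3106 (flp_c L118693) q2616, e3 q3107 (flp_c L118471) q3497, e3 q3108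 (flp_c L118442) q2619, e3 q3109 L119533 q2620, e3 q3110 L71975 q3812, e3 q3111 L52621 q3111, e3 q3112 L52630 q3112, e3 q3113 L52640 q3113, e3 q3114 L72053 q3817, e3 q3115 L52658 q3115, e3 q3116 (flp_c L52661) q2531, e3 q3117 (flp_c L72082) q3820, e3 q3118 (flp_c L72090) q3821, e3 q3119 L52689 q3119, e3 q3120 L52696 q3120, e3 q3121 L117996 q2633, e3 q3122 L52737 q3122, e3 q3123 L52751 q3123, e3 q3124 L52756 q3124, e3 q3125 L52765 q3125, e3 q3126 L52771 q3126, e3 q3127 L52780 q3127, e3 q3128 L52837 q3128, e3 q3129 L119561 q2642, e3 q3130 L52851 q3130, e3 q3131 L118132 q2641, e3 q3132 L52902 q3132, e3 q3133 L52919 q3133, e3 q3134 L52926 q3134, e3 q3135 L52933 q3135, trivial⟩ (by decide +kernel)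

theorem ce_c_49 : ∀ r, r < 64 → sm gc (Qf (3136 + r)) = Qf (tab Gen.c (3136 + r)) :=
  edges_tab (sm gc) Qf (tab Gen.c) 3136 [(3136, 3136), (3137, 3137), (3138, 3138), (3139, 3845), (3140, 3847), (3141, 2553), (3142, 3849), (3143, 3850), (3144, 2601), (3145, 3145), (3146, 3146), (3147, 3147), (3148, 3148), (3149, 2608), (3150, 3150), (3151, 3151), (3152, 3152), (3153, 3153), (3154, 2564), (3155, 3862), (3156, 3863), (3157, 3867), (3158, 3869), (3159, 2568), (3160, 3871), (3161, 3872), (3162, 2571), (3163, 2572), (3164, 3877), (3165, 3878), (3166, 3879), (3167, 2617), (3168, 3168), (3169, 2618), (3170, 3170), (3171, 2632), (3172, 2634), (3173, 2635), (3174, 2636), (3175, 2637), (3176, 2638), (3177, 2639), (3178, 2621), (3179, 3179), (3180, 3180), (3181, 3181), (3182, 2640), (3183, 2643), (3184, 2644), (3185, 2645), (3186, 2646), (3187, 2647), (3188, 3903), (3189, 2593), (3190, 3904), (3191, 3905), (3192, 3909), (3193, 3911), (3194, 2597), (3195, 3913), (3196, 2599), (3197, 3916), (3198,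 3536), (3199, 3511)]
    ⟨e3 q3136 L52940 q3136, e3 q3137 L52947 q3137, e3 q3138 L52955 q3138, e3 q3139 L72569 q3845, e3 q3140 L72640 q3847, e3 q3141 (flp_c L53077) q2553, e3 q3142 (flp_c L72661) q3849, e3 q3143 (flp_c L72667) q3850, e3 q3144 L53109 q2601, e3 q3145 L53171 q3145, e3 q3146 L53185 q3146, e3 q3147 L53191 q3147, e3 q3148 L53200 q3148, e3 q3149 L53274 q2608, e3 q3150 L53330 q3150, e3 q3151 L53347 q3151, e3 q3152 L53352 q3152, e3 q3153 L53358 q3153, e3 q3154 (flp_c L53468) q2564, e3 q3155 (flp_c L73181) q3862, e3 q3156 (flp_c L73188) q3863, e3 q3157 L73240 q3867, e3 q3158 L73258 q3869, e3 q3159 (flp_c L53529) q2568, e3 q3160 (flp_c L73285) q3871, e3 q3161 (flp_c L73291) q3872, e3 q3162 L53552 q2571, e3 q3163 L53559 q2572, e3 q3164 (flp_c L73325) q3877, e3 q3165 (flp_c L73331) q3878, e3 q3166 (flp_c L73340) q3879, e3 q3167 L53594 q2617, e3 q3168 L53603 q3168, e3 q3169 L53610 q2618, e3 q3170 L53644 q3170, e3 q3171 L53659 q2632, e3 q3172 L53678 q2634, e3 q3173 L53686 q2635, e3 q3174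 L53694 q2636, e3 q3175 L53702 q2637, e3 q3176 L53710 q2638, e3 q3177 L53719 q2639, e3 q3178 L53756 q2621, e3 q3179 L53762 q3179, e3 q3180 L53767 q3180, e3 q3181 L53801 q3181, e3 q3182 L53818 q2640, e3 q3183 L53838 q2643, e3 q3184 L53844 q2644, e3 q3185 L53852 q2645, e3 q3186 L53858 q2646, e3 q3187 L53866 q2647, e3 q3188 L73703 q3903, e3 q3189 (flp_c L53874) q2593, e3 q3190 (flp_c L73712) q3904, e3 q3191 (flp_c L73720) q3905, e3 q3192 L73776 q3909, e3 q3193 L73790 q3911, e3 q3194 (flp_c L53935) q2597, e3 q3195 (flp_c L73812) q3913, e3 q3196 L53953 q2599, e3 q3197 (flp_c L73837) q3916, e3 q3198 (flp_c L119482) q3536, e3 q3199 (flp_c L119134) q3511, trivial⟩ (by decide +kernel)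

theorem ce_c_50 : ∀ r, r < 64 → sm gc (Qf (3200 + r)) = Qf (tab Gen.c (3200 + r)) :=
  edges_tab (sm gc) Qf (tab Gen.c) 3200 [(3200, 3854), (3201, 3509), (3202, 3202), (3203, 3203), (3204, 3550), (3205, 3518), (3206, 3521), (3207, 3517), (3208, 2613), (3209, 2614), (3210, 3923), (3211, 3924), (3212, 3926), (3213, 3809), (3214, 3810), (3215, 3883), (3216, 3811), (3217, 3553), (3218, 2622), (3219, 3933), (3220, 3934), (3221, 2625), (3222, 2626), (3223, 3939), (3224, 3940), (3225, 3941), (3226, 2649), (3227, 2629), (3228, 2630), (3229, 2631), (3230, 3948), (3231, 3949), (3232, 3950), (3233, 3887), (3234, 3828), (3235, 3826), (3236, 3888), (3237, 3889), (3238, 3890), (3239, 3891), (3240, 3892), (3241, 3963), (3242, 3897), (3243, 3837), (3244, 3836), (3245, 3898), (3246, 3899), (3247, 3969), (3248, 3901), (3249, 3361), (3250, 2648), (3251, 3945), (3252, 3946), (3253, 3947), (3254, 2653), (3255, 2654), (3256, 2655), (3257, 3257), (3258, 3976), (3259, 3977), (3260, 3982), (3261, 3261), (3262,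 3351), (3263, 2658)]
    ⟨e3 q3200 (flp_c L72721) q3854, e3 q3201 (flp_c L119108) q3509, e3 q3202 L54032 q3202, e3 q3203 L54040 q3203, e3 q3204 (flp_c L116564) q3550, e3 q3205 (flp_c L119128) q3518, e3 q3206 (flp_c L117249) q3521, e3 q3207 (flp_c L119099) q3517, e3 q3208 L54233 q2613, e3 q3209 L54239 q2614, e3 q3210 (flp_c L74196) q3923, e3 q3211 (flp_c L74203) q3924, e3 q3212 (flp_c L74216) q3926, e3 q3213 (flp_c L118412) q3809, e3 q3214 (flp_c L118404) q3810, e3 q3215 (flp_c L73393) q3883, e3 q3216 (flp_c L118430) q3811, e3 q3217 (flp_c L119541) q3553, e3 q3218 (flp_c L54300) q2622, e3 q3219 (flp_c L74275) q3933, e3 q3220 (flp_c L74282) q3934, e3 q3221 L54328 q2625, e3 q3222 L54333 q2626, e3 q3223 (flp_c L74322) q3939, e3 q3224 (flp_c L74329) q3940, e3 q3225 (flp_c L74336) q3941, e3 q3226 L54366 q2649, e3 q3227 L54372 q2629, e3 q3228 L54377 q2630, e3 q3229 L54385 q2631, e3 q3230 (flp_c L74391) q3948, e3 q3231 (flp_c L74397) q3949, e3 q3232 (flp_c L74404) q3950, e3 q3233 (flp_c L73475)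 q3887, e3 q3234 (flp_c L118030) q3828, e3 q3235 (flp_c L118020) q3826, e3 q3236 (flp_c L73501) q3888, e3 q3237 (flp_c L73509) q3889, e3 q3238 (flp_c L73519) q3890, e3 q3239 (flp_c L73527) q3891, e3 q3240 (flp_c L73537) q3892, e3 q3241 L74503 q3963, e3 q3242 (flp_c L73653) q3897, e3 q3243 (flp_c L118150) q3837, e3 q3244 (flp_c L118145) q3836, e3 q3245 (flp_c L73675) q3898, e3 q3246 (flp_c L73683) q3899, e3 q3247 L74546 q3969, e3 q3248 (flp_c L73693) q3901, e3 q3249 (flp_c L120979) q3361, e3 q3250 (flp_c L54535) q2648, e3 q3251 (flp_c L74368) q3945, e3 q3252 (flp_c L74375) q3946, e3 q3253 (flp_c L74382) q3947, e3 q3254 L54566 q2653, e3 q3255 L54575 q2654, e3 q3256 L54584 q2655, e3 q3257 L54597 q3257, e3 q3258 (flp_c L74622) q3976, e3 q3259 (flp_c L74632) q3977, e3 q3260 L74670 q3982, e3 q3261 L54629 q3261, e3 q3262 (flp_c L121019) q3351, e3 q3263 (flp_c L54642) q2658, trivial⟩ (by decide +kernel)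

theorem ce_c_51 : ∀ r, r < 64 → sm gc (Qf (3264 + r)) = Qf (tab Gen.c (3264 + r)) :=
  edges_tab (sm gc) Qf (tab Gen.c) 3264 [(3264, 2662), (3265, 2663), (3266, 2667), (3267, 3984), (3268, 2670), (3269, 3269), (3270, 3270), (3271, 2676), (3272, 3986), (3273, 2902), (3274, 2904), (3275, 3991), (3276, 2906), (3277, 3277), (3278, 2684), (3279, 3279), (3280, 2685), (3281, 3281), (3282, 3282), (3283, 4002), (3284, 3996), (3285, 3285), (3286, 4006), (3287, 2693), (3288, 3288), (3289, 3289), (3290, 3290), (3291, 3291), (3292, 3292), (3293, 2692), (3294, 4015), (3295, 3613), (3296, 4017), (3297, 2977), (3298, 4021), (3299, 2980), (3300, 2697), (3301, 4024), (3302, 4025), (3303, 2715), (3304, 3677), (3305, 2705), (3306, 2722), (3307, 2723), (3308, 2724), (3309, 2725), (3310, 2726), (3311, 3694), (3312, 2716), (3313, 3699), (3314, 3700), (3315, 2727), (3316, 2728), (3317, 2729), (3318, 2730), (3319, 2731), (3320, 2732), (3321, 2714), (3322, 4050), (3323, 4030), (3324, 2717), (3325, 4052), (3326,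 4053), (3327, 2720)]
    ⟨e3 q3264 (flp_c L56765) q2662, e3 q3265 (flp_c L56845) q2663, e3 q3266 L59135 q2667, e3 q3267 (flp_c L121076) q3984, e3 q3268 (flp_c L59212) q2670, e3 q3269 L59248 q3269, e3 q3270 L59269 q3270, e3 q3271 L59619 q2676, e3 q3272 (flp_c L121096) q3986, e3 q3273 L60849 q2902, e3 q3274 L60867 q2904, e3 q3275 L121139 q3991, e3 q3276 L60885 q2906, e3 q3277 L60892 q3277, e3 q3278 L60906 q2684, e3 q3279 L60925 q3279, e3 q3280 L60931 q2685, e3 q3281 L60939 q3281, e3 q3282 L60946 q3282, e3 q3283 L121219 q4002, e3 q3284 (flp_c L121179) q3996, e3 q3285 L61006 q3285, e3 q3286 L121246 q4006, e3 q3287 L61033 q2693, e3 q3288 L61059 q3288, e3 q3289 L61065 q3289, e3 q3290 L61074 q3290, e3 q3291 L61080 q3291, e3 q3292 L61088 q3292, e3 q3293 (flp_c L61114) q2692, e3 q3294 (flp_c L121310) q4015, e3 q3295 L120849 q3613, e3 q3296 L121319 q4017, e3 q3297 L61198 q2977, e3 q3298 L121343 q4021, e3 q3299 L61222 q2980, e3 q3300 (flp_c L61226) q2697, e3 q3301 (flp_c L121369) q4024, e3 q3302 (flp_c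 L121377) q4025, e3 q3303 L61260 q2715, e3 q3304 (flp_c L120843) q3677, e3 q3305 L61288 q2705, e3 q3306 L61315 q2722, e3 q3307 L61322 q2723, e3 q3308 L61332 q2724, e3 q3309 L61339 q2725, e3 q3310 L61348 q2726, e3 q3311 (flp_c L120845) q3694, e3 q3312 L61420 q2716, e3 q3313 L120813 q3699, e3 q3314 (flp_c L120815) q3700, e3 q3315 L61472 q2727, e3 q3316 L61479 q2728, e3 q3317 L61485 q2729, e3 q3318 L61492 q2730, e3 q3319 L61498 q2731, e3 q3320 L61504 q2732, e3 q3321 (flp_c L61642) q2714, e3 q3322 (flp_c L121541) q4050, e3 q3323 (flp_c L121410) q4030, e3 q3324 (flp_c L62366) q2717, e3 q3325 (flp_c L121553) q4052, e3 q3326 (flp_c L121559) q4053, e3 q3327 L62392 q2720, trivial⟩ (by decide +kernel)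

theorem ce_c_52 : ∀ r, r < 64 → sm gc (Qf (3328 + r)) = Qf (tab Gen.c (3328 + r)) :=
  edges_tab (sm gc) Qf (tab Gen.c) 3328 [(3328, 2721), (3329, 4058), (3330, 4059), (3331, 4060), (3332, 4033), (3333, 4034), (3334, 4035), (3335, 4036), (3336, 4037), (3337, 4038), (3338, 4044), (3339, 4045), (3340, 4046), (3341, 4047), (3342, 4048), (3343, 4075), (3344, 3503), (3345, 3504), (3346, 2736), (3347, 2737), (3348, 2738), (3349, 2759), (3350, 2739), (3351, 3262), (3352, 4080), (3353, 4081), (3354, 4083), (3355, 2746), (3356, 2747), (3357, 2769), (3358, 2748), (3359, 2771), (3360, 2772), (3361, 3249), (3362, 4100), (3363, 4090), (3364, 4092), (3365, 3365), (3366, 4104), (3367, 3367), (3368, 2751), (3369, 4107), (3370, 3527), (3371, 3528), (3372, 3529), (3373, 4115), (3374, 3531), (3375, 3375), (3376, 2761), (3377, 2762), (3378, 2763), (3379, 4082), (3380, 2764), (3381, 4084), (3382, 4085), (3383, 4120), (3384, 4121), (3385, 4134), (3386, 4123), (3387, 4125), (3388, 3388), (3389, 3389), (3390,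 2773), (3391, 2774)]
    ⟨e3 q3328 L62399 q2721, e3 q3329 (flp_c L121599) q4058, e3 q3330 (flp_c L121605) q4059, e3 q3331 (flp_c L121613) q4060, e3 q3332 (flp_c L121429) q4033, e3 q3333 (flp_c L121438) q4034, e3 q3334 (flp_c L121446) q4035, e3 q3335 (flp_c L121455) q4036, e3 q3336 (flp_c L121463) q4037, e3 q3337 (flp_c L121471) q4038, e3 q3338 (flp_c L121500) q4044, e3 q3339 (flp_c L121507) q4045, e3 q3340 (flp_c L121515) q4046, e3 q3341 (flp_c L121522) q4047, e3 q3342 (flp_c L121529) q4048, e3 q3343 L121721 q4075, e3 q3344 (flp_c L66137) q3503, e3 q3345 (flp_c L66147) q3504, e3 q3346 L64432 q2736, e3 q3347 L64440 q2737, e3 q3348 L64449 q2738, e3 q3349 L64458 q2759, e3 q3350 L64465 q2739, e3 q3351 L121019 q3262, e3 q3352 (flp_c L121764) q4080, e3 q3353 (flp_c L121777) q4081, e3 q3354 (flp_c L121797) q4083, e3 q3355 L64521 q2746, e3 q3356 L64529 q2747, e3 q3357 L64539 q2769, e3 q3358 L64545 q2748, e3 q3359 L64553 q2771, e3 q3360 L64561 q2772, e3 q3361 L120979 q3249, e3 q3362 L121962 q4100,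 e3 q3363 (flp_c L121861) q4090, e3 q3364 (flp_c L121885) q4092, e3 q3365 L64610 q3365, e3 q3366 L121999 q4104, e3 q3367 L64624 q3367, e3 q3368 (flp_c L64630) q2751, e3 q3369 (flp_c L122024) q4107, e3 q3370 (flp_c L66396) q3527, e3 q3371 (flp_c L66408) q3528, e3 q3372 (flp_c L66421) q3529, e3 q3373 L122096 q4115, e3 q3374 (flp_c L66440) q3531, e3 q3375 L64699 q3375, e3 q3376 L64705 q2761, e3 q3377 L64715 q2762, e3 q3378 L64725 q2763, e3 q3379 (flp_c L121790) q4082, e3 q3380 L64741 q2764, e3 q3381 (flp_c L121806) q4084, e3 q3382 (flp_c L121815) q4085, e3 q3383 (flp_c L122143) q4120, e3 q3384 (flp_c L122154) q4121, e3 q3385 L122260 q4134, e3 q3386 (flp_c L122170) q4123, e3 q3387 (flp_c L122190) q4125, e3 q3388 L64810 q3388, e3 q3389 L64820 q3389, e3 q3390 L64828 q2773, e3 q3391 L64839 q2774, trivial⟩ (by decide +kernel)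

theorem ce_c_53 : ∀ r, r < 64 → sm gc (Qf (3392 + r)) = Qf (tab Gen.c (3392 + r)) :=
  edges_tab (sm gc) Qf (tab Gen.c) 3392 [(3392, 4143), (3393, 2776), (3394, 4091), (3395, 2777), (3396, 4093), (3397, 4094), (3398, 4095), (3399, 4096), (3400, 4097), (3401, 4140), (3402, 4156), (3403, 4142), (3404, 2775), (3405, 4159), (3406, 2898), (3407, 2819), (3408, 2779), (3409, 4164), (3410, 4158), (3411, 2782), (3412, 4168), (3413, 4169), (3414, 3618), (3415, 3619), (3416, 3620), (3417, 4178), (3418, 3622), (3419, 2786), (3420, 4181), (3421, 4182), (3422, 2832), (3423, 2833), (3424, 2796), (3425, 2797), (3426, 4193), (3427, 2799), (3428, 3428), (3429, 2800), (3430, 3430), (3431, 3431), (3432, 3432), (3433, 3433), (3434, 3434), (3435, 4190), (3436, 4205), (3437, 4192), (3438, 2798), (3439, 4208), (3440, 2842), (3441, 2843), (3442, 4213), (3443, 2845), (3444, 2814), (3445, 4218), (3446, 2816), (3447, 2805), (3448, 4222), (3449, 4223), (3450, 3450), (3451, 3451), (3452, 3452), (3453, 3453), (3454,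 3454), (3455, 3455)]
    ⟨e3 q3392 L122343 q4143, e3 q3393 L64855 q2776, e3 q3394 (flp_c L121877) q4091, e3 q3395 L64875 q2777, e3 q3396 (flp_c L121896) q4093, e3 q3397 (flp_c L121906) q4094, e3 q3398 (flp_c L121915) q4095, e3 q3399 (flp_c L121922) q4096, e3 q3400 (flp_c L121931) q4097, e3 q3401 (flp_c L122318) q4140, e3 q3402 L122449 q4156, e3 q3403 (flp_c L122335) q4142, e3 q3404 (flp_c L64945) q2775, e3 q3405 (flp_c L122473) q4159, e3 q3406 L103661 q2898, e3 q3407 L64967 q2819, e3 q3408 (flp_c L64976) q2779, e3 q3409 (flp_c L122519) q4164, e3 q3410 (flp_c L122469) q4158, e3 q3411 L64998 q2782, e3 q3412 (flp_c L122551) q4168, e3 q3413 L122556 q4169, e3 q3414 (flp_c L67273) q3618, e3 q3415 (flp_c L67283) q3619, e3 q3416 (flp_c L67293) q3620, e3 q3417 L122631 q4178, e3 q3418 (flp_c L67310) q3622, e3 q3419 (flp_c L65058) q2786, e3 q3420 (flp_c L122653) q4181, e3 q3421 (flp_c L122660) q4182, e3 q3422 L65082 q2832, e3 q3423 L65093 q2833, e3 q3424 L65102 q2796, e3 q3425 L65113 q2797, e3 q3426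 L122756 q4193, e3 q3427 L65129 q2799, e3 q3428 L65144 q3428, e3 q3429 L65150 q2800, e3 q3430 L65161 q3430, e3 q3431 L65167 q3431, e3 q3432 L65176 q3432, e3 q3433 L65184 q3433, e3 q3434 L65194 q3434, e3 q3435 (flp_c L122731) q4190, e3 q3436 L122861 q4205, e3 q3437 (flp_c L122748) q4192, e3 q3438 (flp_c L65227) q2798, e3 q3439 (flp_c L122898) q4208, e3 q3440 L65247 q2842, e3 q3441 L65257 q2843, e3 q3442 L122938 q4213, e3 q3443 L65270 q2845, e3 q3444 L65279 q2814, e3 q3445 L122976 q4218, e3 q3446 L65292 q2816, e3 q3447 (flp_c L65300) q2805, e3 q3448 (flp_c L123004) q4222, e3 q3449 (flp_c L123009) q4223, e3 q3450 L65318 q3450, e3 q3451 L65324 q3451, e3 q3452 L65332 q3452, e3 q3453 L65338 q3453, e3 q3454 L65343 q3454, e3 q3455 L65351 q3455, trivial⟩ (by decide +kernel)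

theorem ce_c_54 : ∀ r, r < 64 → sm gc (Qf (3456 + r)) = Qf (tab Gen.c (3456 + r)) :=
  edges_tab (sm gc) Qf (tab Gen.c) 3456 [(3456, 3456), (3457, 3457), (3458, 4217), (3459, 2815), (3460, 4237), (3461, 2822), (3462, 2818), (3463, 4236), (3464, 2821), (3465, 4238), (3466, 4239), (3467, 2824), (3468, 4243), (3469, 4244), (3470, 3471), (3471, 3470), (3472, 4250), (3473, 4252), (3474, 2828), (3475, 4254), (3476, 4255), (3477, 2831), (3478, 4186), (3479, 4187), (3480, 4261), (3481, 4189), (3482, 4264), (3483, 2836), (3484, 4267), (3485, 3485), (3486, 3486), (3487, 2840), (3488, 3659), (3489, 4209), (3490, 4210), (3491, 4272), (3492, 4212), (3493, 2844), (3494, 4276), (3495, 4277), (3496, 2846), (3497, 3107), (3498, 3498), (3499, 2848), (3500, 2853), (3501, 2854), (3502, 4280), (3503, 3344), (3504, 3345), (3505, 2858), (3506, 2860), (3507, 2880), (3508, 2861), (3509, 3201), (3510, 4285), (3511, 3199), (3512, 4286), (3513, 2867), (3514, 2869), (3515, 2892), (3516, 2893), (3517, 3207), (3518,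 3205), (3519, 4298)]
    ⟨e3 q3456 L65358 q3456, e3 q3457 L65365 q3457, e3 q3458 (flp_c L122967) q4217, e3 q3459 (flp_c L65391) q2815, e3 q3460 (flp_c L123110) q4237, e3 q3461 L65414 q2822, e3 q3462 L65418 q2818, e3 q3463 (flp_c L123106) q4236, e3 q3464 L65467 q2821, e3 q3465 (flp_c L123121) q4238, e3 q3466 (flp_c L123132) q4239, e3 q3467 (flp_c L65504) q2824, e3 q3468 (flp_c L123169) q4243, e3 q3469 (flp_c L123177) q4244, e3 q3470 (flp_c L102589) q3471, e3 q3471 L102589 q3470, e3 q3472 L123231 q4250, e3 q3473 L123244 q4252, e3 q3474 (flp_c L65589) q2828, e3 q3475 (flp_c L123271) q4254, e3 q3476 (flp_c L123279) q4255, e3 q3477 L65616 q2831, e3 q3478 (flp_c L122691) q4186, e3 q3479 (flp_c L122703) q4187, e3 q3480 L123341 q4261, e3 q3481 (flp_c L122720) q4189, e3 q3482 L123365 q4264, e3 q3483 (flp_c L65696) q2836, e3 q3484 (flp_c L123403) q4267, e3 q3485 L65723 q3485, e3 q3486 L65742 q3486, e3 q3487 (flp_c L65776) q2840, e3 q3488 (flp_c L94182) q3659, e3 q3489 (flp_c L122907) q4209, e3 q3490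 (flp_c L122917) q4210, e3 q3491 L123448 q4272, e3 q3492 (flp_c L122931) q4212, e3 q3493 (flp_c L65847) q2844, e3 q3494 (flp_c L123498) q4276, e3 q3495 (flp_c L123509) q4277, e3 q3496 (flp_c L65887) q2846, e3 q3497 L118471 q3107, e3 q3498 L65913 q3498, e3 q3499 L65916 q2848, e3 q3500 L66008 q2853, e3 q3501 L66028 q2854, e3 q3502 (flp_c L123533) q4280, e3 q3503 L66137 q3344, e3 q3504 L66147 q3345, e3 q3505 L66155 q2858, e3 q3506 L66173 q2860, e3 q3507 L66182 q2880, e3 q3508 L66190 q2861, e3 q3509 L119108 q3201, e3 q3510 (flp_c L123594) q4285, e3 q3511 L119134 q3199, e3 q3512 (flp_c L123605) q4286, e3 q3513 L66255 q2867, e3 q3514 L66280 q2869, e3 q3515 L66288 q2892, e3 q3516 L66297 q2893, e3 q3517 L119099 q3207, e3 q3518 L119128 q3205, e3 q3519 L123735 q4298, trivial⟩ (by decide +kernel)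

theorem ce_c_55 : ∀ r, r < 64 → sm gc (Qf (3520 + r)) = Qf (tab Gen.c (3520 + r)) :=
  edges_tab (sm gc) Qf (tab Gen.c) 3520 [(3520, 4293), (3521, 3206), (3522, 3522), (3523, 4161), (3524, 3524), (3525, 2872), (3526, 4304), (3527, 3370), (3528, 3371), (3529, 3372), (3530, 4312), (3531, 3374), (3532, 3532), (3533, 2882), (3534, 2883), (3535, 2884), (3536, 3198), (3537, 2885), (3538, 4287), (3539, 4288), (3540, 4316), (3541, 4327), (3542, 4318), (3543, 4319), (3544, 3544), (3545, 2894), (3546, 4333), (3547, 2896), (3548, 2897), (3549, 3031), (3550, 3204), (3551, 4273), (3552, 4294), (3553, 3217), (3554, 4339), (3555, 4332), (3556, 2895), (3557, 4342), (3558, 4162), (3559, 4341), (3560, 2901), (3561, 4347), (3562, 4348), (3563, 3743), (3564, 3988), (3565, 3780), (3566, 4357), (3567, 3990), (3568, 2905), (3569, 4360), (3570, 4361), (3571, 3571), (3572, 3572), (3573, 2915), (3574, 2916), (3575, 4372), (3576, 2918), (3577, 3577), (3578, 2919), (3579, 3579), (3580, 3580), (3581, 3581), (3582,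 3582), (3583, 3583)]
    ⟨e3 q3520 (flp_c L123686) q4293, e3 q3521 L117249 q3206, e3 q3522 L66348 q3522, e3 q3523 (flp_c L122490) q4161, e3 q3524 L66366 q3524, e3 q3525 (flp_c L66372) q2872, e3 q3526 (flp_c L123789) q4304, e3 q3527 L66396 q3370, e3 q3528 L66408 q3371, e3 q3529 L66421 q3372, e3 q3530 L123881 q4312, e3 q3531 L66440 q3374, e3 q3532 L66455 q3532, e3 q3533 L66462 q2882, e3 q3534 L66472 q2883, e3 q3535 L66482 q2884, e3 q3536 L119482 q3198, e3 q3537 L66499 q2885, e3 q3538 (flp_c L123618) q4287, e3 q3539 (flp_c L123628) q4288, e3 q3540 (flp_c L123925) q4316, e3 q3541 L124037 q4327, e3 q3542 (flp_c L123941) q4318, e3 q3543 (flp_c L123953) q4319, e3 q3544 L66590 q3544, e3 q3545 L66610 q2894, e3 q3546 L124101 q4333, e3 q3547 L66626 q2896, e3 q3548 L66647 q2897, e3 q3549 L116570 q3031, e3 q3550 L116564 q3204, e3 q3551 (flp_c L123463) q4273, e3 q3552 (flp_c L123697) q4294, e3 q3553 L119541 q3217, e3 q3554 L124156 q4339, e3 q3555 (flp_c L124093) q4332, e3 q3556 (flp_c L66720) q2895,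 e3 q3557 (flp_c L124178) q4342, e3 q3558 (flp_c L122498) q4162, e3 q3559 (flp_c L124174) q4341, e3 q3560 L66783 q2901, e3 q3561 (flp_c L124221) q4347, e3 q3562 L124226 q4348, e3 q3563 (flp_c L120759) q3743, e3 q3564 (flp_c L121116) q3988, e3 q3565 L120827 q3780, e3 q3566 L124306 q4357, e3 q3567 (flp_c L121135) q3990, e3 q3568 (flp_c L66849) q2905, e3 q3569 (flp_c L124338) q4360, e3 q3570 (flp_c L124348) q4361, e3 q3571 L66879 q3571, e3 q3572 L66888 q3572, e3 q3573 L66895 q2915, e3 q3574 L66902 q2916, e3 q3575 L124435 q4372, e3 q3576 L66916 q2918, e3 q3577 L66927 q3577, e3 q3578 L66934 q2919, e3 q3579 L66943 q3579, e3 q3580 L66950 q3580, e3 q3581 L66959 q3581, e3 q3582 L66966 q3582, e3 q3583 L66974 q3583, trivial⟩ (by decide +kernel)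

theorem ce_c_56 : ∀ r, r < 64 → sm gc (Qf (3584 + r)) = Qf (tab Gen.c (3584 + r)) :=
  edges_tab (sm gc) Qf (tab Gen.c) 3584 [(3584, 4369), (3585, 4384), (3586, 4371), (3587, 2917), (3588, 4387), (3589, 3589), (3590, 3590), (3591, 4392), (3592, 3592), (3593, 2933), (3594, 4397), (3595, 2935), (3596, 2924), (3597, 4401), (3598, 4402), (3599, 3599), (3600, 3600), (3601, 3601), (3602, 3602), (3603, 3603), (3604, 3604), (3605, 3605), (3606, 3606), (3607, 4396), (3608, 2934), (3609, 4414), (3610, 2940), (3611, 2937), (3612, 4418), (3613, 3295), (3614, 4416), (3615, 4417), (3616, 2942), (3617, 4421), (3618, 3414), (3619, 3415), (3620, 3416), (3621, 4429), (3622, 3418), (3623, 2946), (3624, 4432), (3625, 4433), (3626, 3027), (3627, 3028), (3628, 2956), (3629, 4441), (3630, 2958), (3631, 3631), (3632, 2959), (3633, 3633), (3634, 3634), (3635, 3635), (3636, 3636), (3637, 3637), (3638, 4440), (3639, 2957), (3640, 4452), (3641, 4453), (3642, 3033), (3643, 4216), (3644, 2972), (3645, 2963), (3646,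 4456), (3647, 4457)]
    ⟨e3 q3584 (flp_c L124414) q4369, e3 q3585 L124537 q4384, e3 q3586 (flp_c L124429) q4371, e3 q3587 (flp_c L67001) q2917, e3 q3588 (flp_c L124562) q4387, e3 q3589 L67018 q3589, e3 q3590 L67025 q3590, e3 q3591 L124601 q4392, e3 q3592 L67040 q3592, e3 q3593 L67047 q2933, e3 q3594 L124637 q4397, e3 q3595 L67062 q2935, e3 q3596 (flp_c L67068) q2924, e3 q3597 (flp_c L124673) q4401, e3 q3598 (flp_c L124678) q4402, e3 q3599 L67088 q3599, e3 q3600 L67097 q3600, e3 q3601 L67107 q3601, e3 q3602 L67116 q3602, e3 q3603 L67123 q3603, e3 q3604 L67132 q3604, e3 q3605 L67140 q3605, e3 q3606 L67147 q3606, e3 q3607 (flp_c L124632) q4396, e3 q3608 (flp_c L67167) q2934, e3 q3609 (flp_c L124776) q4414, e3 q3610 L67186 q2940, e3 q3611 L67190 q2937, e3 q3612 (flp_c L124808) q4418, e3 q3613 (flp_c L120849) q3295, e3 q3614 (flp_c L124791) q4416, e3 q3615 (flp_c L124801) q4417, e3 q3616 L67255 q2942, e3 q3617 L124831 q4421, e3 q3618 L67273 q3414, e3 q3619 L67283 q3415, e3 q3620 L67293 q3416,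 e3 q3621 L124913 q4429, e3 q3622 L67310 q3418, e3 q3623 (flp_c L67316) q2946, e3 q3624 (flp_c L124939) q4432, e3 q3625 (flp_c L124947) q4433, e3 q3626 L67344 q3027, e3 q3627 L67356 q3028, e3 q3628 L67377 q2956, e3 q3629 L125016 q4441, e3 q3630 L67393 q2958, e3 q3631 L67408 q3631, e3 q3632 L67415 q2959, e3 q3633 L67426 q3633, e3 q3634 L67433 q3634, e3 q3635 L67442 q3635, e3 q3636 L67451 q3636, e3 q3637 L67461 q3637, e3 q3638 (flp_c L125008) q4440, e3 q3639 (flp_c L67501) q2957, e3 q3640 (flp_c L125121) q4452, e3 q3641 L125126 q4453, e3 q3642 L67547 q3033, e3 q3643 (flp_c L122963) q4216, e3 q3644 L67570 q2972, e3 q3645 (flp_c L67578) q2963, e3 q3646 (flp_c L125148) q4456, e3 q3647 (flp_c L125153) q4457, trivial⟩ (by decide +kernel)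

theorem ce_c_57 : ∀ r, r < 64 → sm gc (Qf (3648 + r)) = Qf (tab Gen.c (3648 + r)) :=
  edges_tab (sm gc) Qf (tab Gen.c) 3648 [(3648, 3648), (3649, 3649), (3650, 3650), (3651, 3651), (3652, 3652), (3653, 3653), (3654, 3654), (3655, 2974), (3656, 2975), (3657, 4465), (3658, 4466), (3659, 3488), (3660, 3690), (3661, 4473), (3662, 4020), (3663, 4476), (3664, 3781), (3665, 2979), (3666, 4479), (3667, 4480), (3668, 2982), (3669, 2983), (3670, 4485), (3671, 4486), (3672, 4487), (3673, 3029), (3674, 3039), (3675, 4495), (3676, 3041), (3677, 3304), (3678, 2997), (3679, 2988), (3680, 4501), (3681, 4502), (3682, 3064), (3683, 3065), (3684, 3066), (3685, 3067), (3686, 3068), (3687, 3069), (3688, 3070), (3689, 3071), (3690, 3660), (3691, 2999), (3692, 3034), (3693, 3032), (3694, 3311), (3695, 3044), (3696, 3002), (3697, 4522), (3698, 4523), (3699, 3313), (3700, 3314), (3701, 4400), (3702, 3007), (3703, 3008), (3704, 4533), (3705, 4534), (3706, 4535), (3707, 3080), (3708, 3081), (3709, 3082), (3710,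 3083), (3711, 3084)]
    ⟨e3 q3648 L67603 q3648, e3 q3649 L67611 q3649, e3 q3650 L67618 q3650, e3 q3651 L67623 q3651, e3 q3652 L67632 q3652, e3 q3653 L67640 q3653, e3 q3654 L67647 q3654, e3 q3655 L67701 q2974, e3 q3656 (flp_c L67801) q2975, e3 q3657 (flp_c L125212) q4465, e3 q3658 (flp_c L125220) q4466, e3 q3659 L94182 q3488, e3 q3660 (flp_c L120761) q3690, e3 q3661 L125264 q4473, e3 q3662 (flp_c L121339) q4020, e3 q3663 L125278 q4476, e3 q3664 L120829 q3781, e3 q3665 (flp_c L67860) q2979, e3 q3666 (flp_c L125308) q4479, e3 q3667 (flp_c L125316) q4480, e3 q3668 L67886 q2982, e3 q3669 L67895 q2983, e3 q3670 (flp_c L125351) q4485, e3 q3671 (flp_c L125359) q4486, e3 q3672 (flp_c L125368) q4487, e3 q3673 (flp_c L102337) q3029, e3 q3674 L67930 q3039, e3 q3675 L125434 q4495, e3 q3676 L67946 q3041, e3 q3677 L120843 q3304, e3 q3678 L67969 q2997, e3 q3679 (flp_c L67975) q2988, e3 q3680 (flp_c L125488) q4501, e3 q3681 (flp_c L125498) q4502, e3 q3682 L67997 q3064, e3 q3683 L68007 q3065, e3 q3684 L68018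 q3066, e3 q3685 L68028 q3067, e3 q3686 L68036 q3068, e3 q3687 L68046 q3069, e3 q3688 L68055 q3070, e3 q3689 L68063 q3071, e3 q3690 L120761 q3660, e3 q3691 L68115 q2999, e3 q3692 (flp_c L106174) q3034, e3 q3693 (flp_c L110704) q3032, e3 q3694 L120845 q3311, e3 q3695 L68148 q3044, e3 q3696 (flp_c L68154) q3002, e3 q3697 (flp_c L125678) q4522, e3 q3698 (flp_c L125687) q4523, e3 q3699 (flp_c L120813) q3313, e3 q3700 L120815 q3314, e3 q3701 (flp_c L124669) q4400, e3 q3702 L68205 q3007, e3 q3703 L68211 q3008, e3 q3704 (flp_c L125755) q4533, e3 q3705 (flp_c L125761) q4534, e3 q3706 (flp_c L125771) q4535, e3 q3707 L68229 q3080, e3 q3708 L68236 q3081, e3 q3709 L68244 q3082, e3 q3710 L68253 q3083, e3 q3711 L68261 q3084, trivial⟩ (by decide +kernel)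

theorem ce_c_58 : ∀ r, r < 64 → sm gc (Qf (3712 + r)) = Qf (tab Gen.c (3712 + r)) :=
  edges_tab (sm gc) Qf (tab Gen.c) 3712 [(3712, 3085), (3713, 3086), (3714, 3087), (3715, 4547), (3716, 3019), (3717, 3020), (3718, 4548), (3719, 3021), (3720, 4549), (3721, 4550), (3722, 4554), (3723, 3024), (3724, 4556), (3725, 3026), (3726, 4320), (3727, 4492), (3728, 4438), (3729, 4491), (3730, 4336), (3731, 4517), (3732, 4518), (3733, 3036), (3734, 3037), (3735, 4561), (3736, 4565), (3737, 4563), (3738, 3038), (3739, 4494), (3740, 3040), (3741, 4569), (3742, 4567), (3743, 3563), (3744, 3744), (3745, 3046), (3746, 3746), (3747, 3049), (3748, 4574), (3749, 4575), (3750, 3051), (3751, 4579), (3752, 4580), (3753, 3054), (3754, 3055), (3755, 4585), (3756, 4586), (3757, 4587), (3758, 3758), (3759, 3058), (3760, 3059), (3761, 3060), (3762, 4594), (3763, 4595), (3764, 4596), (3765, 4573), (3766, 3062), (3767, 3063), (3768, 4604), (3769, 4605), (3770, 4606), (3771, 4506), (3772, 4507), (3773, 4508), (3774,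 4509), (3775, 4510)]
    ⟨e3 q3712 L68269 q3085, e3 q3713 L68277 q3086, e3 q3714 L68284 q3087, e3 q3715 L125854 q4547, e3 q3716 L68348 q3019, e3 q3717 L68358 q3020, e3 q3718 (flp_c L125865) q4548, e3 q3719 (flp_c L68447) q3021, e3 q3720 (flp_c L125874) q4549, e3 q3721 (flp_c L125885) q4550, e3 q3722 L125920 q4554, e3 q3723 (flp_c L68546) q3024, e3 q3724 (flp_c L125940) q4556, e3 q3725 L68588 q3026, e3 q3726 (flp_c L123966) q4320, e3 q3727 (flp_c L125410) q4492, e3 q3728 (flp_c L124990) q4438, e3 q3729 (flp_c L125399) q4491, e3 q3730 (flp_c L124129) q4336, e3 q3731 (flp_c L125636) q4517, e3 q3732 (flp_c L125644) q4518, e3 q3733 L69185 q3036, e3 q3734 L69192 q3037, e3 q3735 (flp_c L125986) q4561, e3 q3736 L126013 q4565, e3 q3737 (flp_c L125998) q4563, e3 q3738 (flp_c L69253) q3038, e3 q3739 (flp_c L125428) q4494, e3 q3740 (flp_c L69296) q3040, e3 q3741 (flp_c L126051) q4569, e3 q3742 (flp_c L126038) q4567, e3 q3743 L120759 q3563, e3 q3744 L69468 q3744, e3 q3745 L69471 q3046, e3 q3746 L69524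 q3746, e3 q3747 (flp_c L69729) q3049, e3 q3748 (flp_c L126094) q4574, e3 q3749 (flp_c L126102) q4575, e3 q3750 (flp_c L69750) q3051, e3 q3751 (flp_c L126140) q4579, e3 q3752 (flp_c L126149) q4580, e3 q3753 L69780 q3054, e3 q3754 L69787 q3055, e3 q3755 (flp_c L126194) q4585, e3 q3756 (flp_c L126203) q4586, e3 q3757 (flp_c L126210) q4587, e3 q3758 L69821 q3758, e3 q3759 L69825 q3058, e3 q3760 L69832 q3059, e3 q3761 L69840 q3060, e3 q3762 (flp_c L126266) q4594, e3 q3763 (flp_c L126274) q4595, e3 q3764 (flp_c L126281) q4596, e3 q3765 (flp_c L126089) q4573, e3 q3766 L69927 q3062, e3 q3767 L69934 q3063, e3 q3768 (flp_c L126353) q4604, e3 q3769 (flp_c L126361) q4605, e3 q3770 (flp_c L126371) q4606, e3 q3771 (flp_c L125526) q4506, e3 q3772 (flp_c L125535) q4507, e3 q3773 (flp_c L125545) q4508, e3 q3774 (flp_c L125558) q4509, e3 q3775 (flp_c L125568) q4510, trivial⟩ (by decide +kernel)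

theorem ce_c_59 : ∀ r, r < 64 → sm gc (Qf (3776 + r)) = Qf (tab Gen.c (3776 + r)) :=
  edges_tab (sm gc) Qf (tab Gen.c) 3776 [(3776, 4511), (3777, 4512), (3778, 4513), (3779, 4618), (3780, 3565), (3781, 3664), (3782, 3782), (3783, 3783), (3784, 3784), (3785, 3077), (3786, 3078), (3787, 3079), (3788, 4625), (3789, 4626), (3790, 4627), (3791, 4539), (3792, 4540), (3793, 4541), (3794, 4542), (3795, 4543), (3796, 4636), (3797, 4545), (3798, 4099), (3799, 3088), (3800, 3091), (3801, 4637), (3802, 3105), (3803, 4639), (3804, 4640), (3805, 3101), (3806, 4641), (3807, 4642), (3808, 4265), (3809, 3213), (3810, 3214), (3811, 3216), (3812, 3110), (3813, 4648), (3814, 4649), (3815, 4653), (3816, 4655), (3817, 3114), (3818, 4657), (3819, 4658), (3820, 3117), (3821, 3118), (3822, 4663), (3823, 4664), (3824, 4665), (3825, 3825), (3826, 3235), (3827, 3827), (3828, 3234), (3829, 3829), (3830, 3830), (3831, 3831), (3832, 3832), (3833, 3833), (3834, 3834), (3835, 3835), (3836, 3244), (3837, 3243), (3838,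 3838), (3839, 3839)]
    ⟨e3 q3776 (flp_c L125578) q4511, e3 q3777 (flp_c L125588) q4512, e3 q3778 (flp_c L125597) q4513, e3 q3779 L126478 q4618, e3 q3780 (flp_c L120827) q3565, e3 q3781 (flp_c L120829) q3664, e3 q3782 L70175 q3782, e3 q3783 L70184 q3783, e3 q3784 L70190 q3784, e3 q3785 L70196 q3077, e3 q3786 L70202 q3078, e3 q3787 L70208 q3079, e3 q3788 (flp_c L126543) q4625, e3 q3789 (flp_c L126551) q4626, e3 q3790 (flp_c L126558) q4627, e3 q3791 (flp_c L125791) q4539, e3 q3792 (flp_c L125800) q4540, e3 q3793 (flp_c L125809) q4541, e3 q3794 (flp_c L125819) q4542, e3 q3795 (flp_c L125827) q4543, e3 q3796 L126635 q4636, e3 q3797 (flp_c L125841) q4545, e3 q3798 (flp_c L121953) q4099, e3 q3799 (flp_c L70294) q3088, e3 q3800 L70370 q3091, e3 q3801 L126640 q4637, e3 q3802 L71262 q3105, e3 q3803 L126661 q4639, e3 q3804 L126672 q4640, e3 q3805 (flp_c L71557) q3101, e3 q3806 (flp_c L126689) q4641, e3 q3807 (flp_c L126698) q4642, e3 q3808 (flp_c L123383) q4265, e3 q3809 L118412 q3213, e3 q3810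 L118404 q3214, e3 q3811 L118430 q3216, e3 q3812 (flp_c L71975) q3110, e3 q3813 (flp_c L126754) q4648, e3 q3814 (flp_c L126766) q4649, e3 q3815 L126799 q4653, e3 q3816 L126823 q4655, e3 q3817 (flp_c L72053) q3114, e3 q3818 (flp_c L126851) q4657, e3 q3819 (flp_c L126858) q4658, e3 q3820 L72082 q3117, e3 q3821 L72090 q3118, e3 q3822 (flp_c L126910) q4663, e3 q3823 (flp_c L126917) q4664, e3 q3824 (flp_c L126927) q4665, e3 q3825 L72130 q3825, e3 q3826 L118020 q3235, e3 q3827 L72144 q3827, e3 q3828 L118030 q3234, e3 q3829 L72196 q3829, e3 q3830 L72213 q3830, e3 q3831 L72220 q3831, e3 q3832 L72227 q3832, e3 q3833 L72234 q3833, e3 q3834 L72241 q3834, e3 q3835 L72249 q3835, e3 q3836 L118145 q3244, e3 q3837 L118150 q3243, e3 q3838 L72440 q3838, e3 q3839 L72463 q3839, trivial⟩ (by decide +kernel)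

theorem ce_c_60 : ∀ r, r < 64 → sm gc (Qf (3840 + r)) = Qf (tab Gen.c (3840 + r)) :=
  edges_tab (sm gc) Qf (tab Gen.c) 3840 [(3840, 3840), (3841, 3841), (3842, 3842), (3843, 3843), (3844, 4685), (3845, 3139), (3846, 4686), (3847, 3140), (3848, 4688), (3849, 3142), (3850, 3143), (3851, 4691), (3852, 4692), (3853, 4693), (3854, 3200), (3855, 3855), (3856, 3856), (3857, 3857), (3858, 3858), (3859, 3859), (3860, 3860), (3861, 4702), (3862, 3155), (3863, 3156), (3864, 4703), (3865, 4707), (3866, 4705), (3867, 3157), (3868, 4710), (3869, 3158), (3870, 4712), (3871, 3160), (3872, 3161), (3873, 4715), (3874, 4716), (3875, 4717), (3876, 3876), (3877, 3164), (3878, 3165), (3879, 3166), (3880, 4724), (3881, 4725), (3882, 4726), (3883, 3215), (3884, 3884), (3885, 3885), (3886, 3886), (3887, 3233), (3888, 3236), (3889, 3237), (3890, 3238), (3891, 3239), (3892, 3240), (3893, 4740), (3894, 3894), (3895, 3895), (3896, 3896), (3897, 3242), (3898, 3245), (3899, 3246), (3900, 4745), (3901, 3248), (3902,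 4098), (3903, 3188)]
    ⟨e3 q3840 L72470 q3840, e3 q3841 L72479 q3841, e3 q3842 L72486 q3842, e3 q3843 L72495 q3843, e3 q3844 L127107 q4685, e3 q3845 (flp_c L72569) q3139, e3 q3846 (flp_c L127116) q4686, e3 q3847 (flp_c L72640) q3140, e3 q3848 (flp_c L127129) q4688, e3 q3849 L72661 q3142, e3 q3850 L72667 q3143, e3 q3851 (flp_c L127146) q4691, e3 q3852 (flp_c L127151) q4692, e3 q3853 (flp_c L127159) q4693, e3 q3854 L72721 q3200, e3 q3855 L72795 q3855, e3 q3856 L72818 q3856, e3 q3857 L72825 q3857, e3 q3858 L72833 q3858, e3 q3859 L73043 q3859, e3 q3860 L73050 q3860, e3 q3861 L127217 q4702, e3 q3862 L73181 q3155, e3 q3863 L73188 q3156, e3 q3864 (flp_c L127228) q4703, e3 q3865 L127251 q4707, e3 q3866 (flp_c L127242) q4705, e3 q3867 (flp_c L73240) q3157, e3 q3868 (flp_c L127273) q4710, e3 q3869 (flp_c L73258) q3158, e3 q3870 (flp_c L127286) q4712, e3 q3871 L73285 q3160, e3 q3872 L73291 q3161, e3 q3873 (flp_c L127304) q4715, e3 q3874 (flp_c L127312) q4716, e3 q3875 (flp_c L127320) q4717, e3 q3876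 L73319 q3876, e3 q3877 L73325 q3164, e3 q3878 L73331 q3165, e3 q3879 L73340 q3166, e3 q3880 (flp_c L127371) q4724, e3 q3881 (flp_c L127378) q4725, e3 q3882 (flp_c L127386) q4726, e3 q3883 L73393 q3215, e3 q3884 L73401 q3884, e3 q3885 L73408 q3885, e3 q3886 L73452 q3886, e3 q3887 L73475 q3233, e3 q3888 L73501 q3236, e3 q3889 L73509 q3237, e3 q3890 L73519 q3238, e3 q3891 L73527 q3239, e3 q3892 L73537 q3240, e3 q3893 L127489 q4740, e3 q3894 L73585 q3894, e3 q3895 L73591 q3895, e3 q3896 L73634 q3896, e3 q3897 L73653 q3242, e3 q3898 L73675 q3245, e3 q3899 L73683 q3246, e3 q3900 L127521 q4745, e3 q3901 L73693 q3248, e3 q3902 (flp_c L121944) q4098, e3 q3903 (flp_c L73703) q3188, trivial⟩ (by decide +kernel)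

theorem ce_c_61 : ∀ r, r < 64 → sm gc (Qf (3904 + r)) = Qf (tab Gen.c (3904 + r)) :=
  edges_tab (sm gc) Qf (tab Gen.c) 3904 [(3904, 3190), (3905, 3191), (3906, 4746), (3907, 4750), (3908, 4748), (3909, 3192), (3910, 3981), (3911, 3193), (3912, 4753), (3913, 3195), (3914, 3978), (3915, 3915), (3916, 3197), (3917, 4321), (3918, 4289), (3919, 4292), (3920, 3983), (3921, 4295), (3922, 4297), (3923, 3210), (3924, 3211), (3925, 3925), (3926, 3212), (3927, 4757), (3928, 4758), (3929, 4760), (3930, 4646), (3931, 4324), (3932, 4338), (3933, 3219), (3934, 3220), (3935, 4767), (3936, 4768), (3937, 4769), (3938, 3938), (3939, 3223), (3940, 3224), (3941, 3225), (3942, 4776), (3943, 4777), (3944, 4778), (3945, 3251), (3946, 3252), (3947, 3253), (3948, 3230), (3949, 3231), (3950, 3232), (3951, 3951), (3952, 4789), (3953, 4790), (3954, 4795), (3955, 4734), (3956, 4670), (3957, 4669), (3958, 4735), (3959, 4736), (3960, 4801), (3961, 4738), (3962, 4086), (3963, 3241), (3964, 4679), (3965, 4678), (3966,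 4805), (3967, 4743)]
    ⟨e3 q3904 L73712 q3190, e3 q3905 L73720 q3191, e3 q3906 (flp_c L127528) q4746, e3 q3907 L127554 q4750, e3 q3908 (flp_c L127540) q4748, e3 q3909 (flp_c L73776) q3192, e3 q3910 L121046 q3981, e3 q3911 (flp_c L73790) q3193, e3 q3912 (flp_c L127584) q4753, e3 q3913 L73812 q3195, e3 q3914 (flp_c L120744) q3978, e3 q3915 L73830 q3915, e3 q3916 L73837 q3197, e3 q3917 (flp_c L123976) q4321, e3 q3918 (flp_c L123643) q4289, e3 q3919 (flp_c L123675) q4292, e3 q3920 L121068 q3983, e3 q3921 (flp_c L123709) q4295, e3 q3922 (flp_c L123728) q4297, e3 q3923 L74196 q3210, e3 q3924 L74203 q3211, e3 q3925 L74211 q3925, e3 q3926 L74216 q3212, e3 q3927 (flp_c L127620) q4757, e3 q3928 (flp_c L127626) q4758, e3 q3929 (flp_c L127641) q4760, e3 q3930 (flp_c L126736) q4646, e3 q3931 (flp_c L124007) q4324, e3 q3932 (flp_c L124149) q4338, e3 q3933 L74275 q3219, e3 q3934 L74282 q3220, e3 q3935 (flp_c L127691) q4767, e3 q3936 (flp_c L127697) q4768, e3 q3937 (flp_c L127706) q4769, e3 q3938 L74317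 q3938, e3 q3939 L74322 q3223, e3 q3940 L74329 q3224, e3 q3941 L74336 q3225, e3 q3942 (flp_c L127759) q4776, e3 q3943 (flp_c L127766) q4777, e3 q3944 (flp_c L127775) q4778, e3 q3945 L74368 q3251, e3 q3946 L74375 q3252, e3 q3947 L74382 q3253, e3 q3948 L74391 q3230, e3 q3949 L74397 q3231, e3 q3950 L74404 q3232, e3 q3951 L74413 q3951, e3 q3952 (flp_c L127873) q4789, e3 q3953 (flp_c L127881) q4790, e3 q3954 L127926 q4795, e3 q3955 (flp_c L127444) q4734, e3 q3956 (flp_c L126970) q4670, e3 q3957 (flp_c L126960) q4669, e3 q3958 (flp_c L127453) q4735, e3 q3959 (flp_c L127463) q4736, e3 q3960 L127979 q4801, e3 q3961 (flp_c L127477) q4738, e3 q3962 (flp_c L121824) q4086, e3 q3963 (flp_c L74503) q3241, e3 q3964 (flp_c L127049) q4679, e3 q3965 (flp_c L127040) q4678, e3 q3966 L128011 q4805, e3 q3967 (flp_c L127511) q4743, trivial⟩ (by decide +kernel)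

theorem ce_c_62 : ∀ r, r < 64 → sm gc (Qf (3968 + r)) = Qf (tab Gen.c (3968 + r)) :=
  edges_tab (sm gc) Qf (tab Gen.c) 3968 [(3968, 4146), (3969, 3247), (3970, 4783), (3971, 4784), (3972, 4785), (3973, 4786), (3974, 4787), (3975, 4788), (3976, 3258), (3977, 3259), (3978, 3914), (3979, 3979), (3980, 4811), (3981, 3910), (3982, 3260), (3983, 3920), (3984, 3267), (3985, 4812), (3986, 3272), (3987, 4813), (3988, 3564), (3989, 4817), (3990, 3567), (3991, 3275), (3992, 4820), (3993, 4821), (3994, 3994), (3995, 4827), (3996, 3284), (3997, 3997), (3998, 3998), (3999, 3999), (4000, 4000), (4001, 4001), (4002, 3283), (4003, 4837), (4004, 4839), (4005, 4005), (4006, 3286), (4007, 4842), (4008, 4843), (4009, 4009), (4010, 4010), (4011, 4011), (4012, 4012), (4013, 4013), (4014, 4014), (4015, 3294), (4016, 4853), (4017, 3296), (4018, 4854), (4019, 4857), (4020, 3662), (4021, 3298), (4022, 4860), (4023, 4861), (4024, 3301), (4025, 3302), (4026, 4866), (4027, 4867), (4028, 4868), (4029, 4493), (4030,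 3323), (4031, 4498)]
    ⟨e3 q3968 (flp_c L122367) q4146, e3 q3969 (flp_c L74546) q3247, e3 q3970 (flp_c L127815) q4783, e3 q3971 (flp_c L127821) q4784, e3 q3972 (flp_c L127829) q4785, e3 q3973 (flp_c L127848) q4786, e3 q3974 (flp_c L127857) q4787, e3 q3975 (flp_c L127864) q4788, e3 q3976 L74622 q3258, e3 q3977 L74632 q3259, e3 q3978 L120744 q3914, e3 q3979 L74648 q3979, e3 q3980 (flp_c L128065) q4811, e3 q3981 (flp_c L121046) q3910, e3 q3982 (flp_c L74670) q3260, e3 q3983 (flp_c L121068) q3920, e3 q3984 L121076 q3267, e3 q3985 (flp_c L128078) q4812, e3 q3986 L121096 q3272, e3 q3987 L128086 q4813, e3 q3988 L121116 q3564, e3 q3989 L128117 q4817, e3 q3990 L121135 q3567, e3 q3991 (flp_c L121139) q3275, e3 q3992 (flp_c L128149) q4820, e3 q3993 (flp_c L128158) q4821, e3 q3994 L121169 q3994, e3 q3995 L128199 q4827, e3 q3996 L121179 q3284, e3 q3997 L121187 q3997, e3 q3998 L121193 q3998, e3 q3999 L121202 q3999, e3 q4000 L121208 q4000, e3 q4001 L121216 q4001, e3 q4002 (flp_c L121219) q3283, e3 q4003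 (flp_c L128273) q4837, e3 q4004 L128284 q4839, e3 q4005 L121244 q4005, e3 q4006 (flp_c L121246) q3286, e3 q4007 (flp_c L128304) q4842, e3 q4008 (flp_c L128309) q4843, e3 q4009 L121266 q4009, e3 q4010 L121274 q4010, e3 q4011 L121281 q4011, e3 q4012 L121289 q4012, e3 q4013 L121296 q4013, e3 q4014 L121303 q4014, e3 q4015 L121310 q3294, e3 q4016 (flp_c L128380) q4853, e3 q4017 (flp_c L121319) q3296, e3 q4018 (flp_c L128388) q4854, e3 q4019 L128402 q4857, e3 q4020 L121339 q3662, e3 q4021 (flp_c L121343) q3298, e3 q4022 (flp_c L128422) q4860, e3 q4023 (flp_c L128429) q4861, e3 q4024 L121369 q3301, e3 q4025 L121377 q3302, e3 q4026 (flp_c L128466) q4866, e3 q4027 (flp_c L128473) q4867, e3 q4028 (flp_c L128482) q4868, e3 q4029 (flp_c L125420) q4493, e3 q4030 L121410 q3323, e3 q4031 (flp_c L125462) q4498, trivial⟩ (by decide +kernel)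

theorem ce_c_63 : ∀ r, r < 64 → sm gc (Qf (4032 + r)) = Qf (tab Gen.c (4032 + r)) :=
  edges_tab (sm gc) Qf (tab Gen.c) 4032 [(4032, 4499), (4033, 3332), (4034, 3333), (4035, 3334), (4036, 3335), (4037, 3336), (4038, 3337), (4039, 4519), (4040, 4520), (4041, 4527), (4042, 4528), (4043, 4529), (4044, 3338), (4045, 3339), (4046, 3340), (4047, 3341), (4048, 3342), (4049, 4894), (4050, 3322), (4051, 4896), (4052, 3325), (4053, 3326), (4054, 4898), (4055, 4899), (4056, 4900), (4057, 4057), (4058, 3329), (4059, 3330), (4060, 3331), (4061, 4907), (4062, 4908), (4063, 4909), (4064, 4877), (4065, 4878), (4066, 4879), (4067, 4880), (4068, 4881), (4069, 4919), (4070, 4889), (4071, 4890), (4072, 4922), (4073, 4892), (4074, 4924), (4075, 3343), (4076, 4281), (4077, 4282), (4078, 4930), (4079, 4284), (4080, 3352), (4081, 3353), (4082, 3379), (4083, 3354), (4084, 3381), (4085, 3382), (4086, 3962), (4087, 4943), (4088, 4933), (4089, 4935), (4090, 3363), (4091, 3394), (4092, 3364), (4093, 3396), (4094,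 3397), (4095, 3398)]
    ⟨e3 q4032 (flp_c L125472) q4499, e3 q4033 L121429 q3332, e3 q4034 L121438 q3333, e3 q4035 L121446 q3334, e3 q4036 L121455 q3335, e3 q4037 L121463 q3336, e3 q4038 L121471 q3337, e3 q4039 (flp_c L125652) q4519, e3 q4040 (flp_c L125662) q4520, e3 q4041 (flp_c L125711) q4527, e3 q4042 (flp_c L125717) q4528, e3 q4043 (flp_c L125727) q4529, e3 q4044 L121500 q3338, e3 q4045 L121507 q3339, e3 q4046 L121515 q3340, e3 q4047 L121522 q3341, e3 q4048 L121529 q3342, e3 q4049 L128650 q4894, e3 q4050 L121541 q3322, e3 q4051 (flp_c L128664) q4896, e3 q4052 L121553 q3325, e3 q4053 L121559 q3326, e3 q4054 (flp_c L128675) q4898, e3 q4055 (flp_c L128683) q4899, e3 q4056 (flp_c L128690) q4900, e3 q4057 L121593 q4057, e3 q4058 L121599 q3329, e3 q4059 L121605 q3330, e3 q4060 L121613 q3331, e3 q4061 (flp_c L128746) q4907, e3 q4062 (flp_c L128753) q4908, e3 q4063 (flp_c L128760) q4909, e3 q4064 (flp_c L128541) q4877, e3 q4065 (flp_c L128550) q4878, e3 q4066 (flp_c L128560) q4879, e3 q4067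 (flp_c L128569) q4880, e3 q4068 (flp_c L128578) q4881, e3 q4069 L128839 q4919, e3 q4070 (flp_c L128619) q4889, e3 q4071 (flp_c L128627) q4890, e3 q4072 L128861 q4922, e3 q4073 (flp_c L128639) q4892, e3 q4074 L128873 q4924, e3 q4075 (flp_c L121721) q3343, e3 q4076 (flp_c L123549) q4281, e3 q4077 (flp_c L123562) q4282, e3 q4078 L128920 q4930, e3 q4079 (flp_c L123585) q4284, e3 q4080 L121764 q3352, e3 q4081 L121777 q3353, e3 q4082 L121790 q3379, e3 q4083 L121797 q3354, e3 q4084 L121806 q3381, e3 q4085 L121815 q3382, e3 q4086 L121824 q3962, e3 q4087 L129055 q4943, e3 q4088 (flp_c L128947) q4933, e3 q4089 (flp_c L128973) q4935, e3 q4090 L121861 q3363, e3 q4091 L121877 q3394, e3 q4092 L121885 q3364, e3 q4093 L121896 q3396, e3 q4094 L121906 q3397, e3 q4095 L121915 q3398, trivial⟩ (by decide +kernel)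

theorem ce_c_64 : ∀ r, r < 64 → sm gc (Qf (4096 + r)) = Qf (tab Gen.c (4096 + r)) :=
  edges_tab (sm gc) Qf (tab Gen.c) 4096 [(4096, 3399), (4097, 3400), (4098, 3902), (4099, 3798), (4100, 3362), (4101, 4954), (4102, 4956), (4103, 4103), (4104, 3366), (4105, 4960), (4106, 4953), (4107, 3369), (4108, 4964), (4109, 4965), (4110, 4307), (4111, 4308), (4112, 4309), (4113, 4974), (4114, 4311), (4115, 3373), (4116, 4977), (4117, 4978), (4118, 4118), (4119, 4119), (4120, 3383), (4121, 3384), (4122, 4989), (4123, 3386), (4124, 4934), (4125, 3387), (4126, 4936), (4127, 4937), (4128, 4938), (4129, 4939), (4130, 4940), (4131, 4986), (4132, 5002), (4133, 4988), (4134, 3385), (4135, 5005), (4136, 4136), (4137, 4137), (4138, 5010), (4139, 4139), (4140, 3401), (4141, 5015), (4142, 3403), (4143, 3392), (4144, 5019), (4145, 5020), (4146, 3968), (4147, 4945), (4148, 4946), (4149, 4947), (4150, 4948), (4151, 4949), (4152, 4950), (4153, 4951), (4154, 5032), (4155, 5014), (4156, 3402), (4157, 5036), (4158,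 3410), (4159, 3405)]
    ⟨e3 q4096 L121922 q3399, e3 q4097 L121931 q3400, e3 q4098 L121944 q3902, e3 q4099 L121953 q3798, e3 q4100 (flp_c L121962) q3362, e3 q4101 (flp_c L129175) q4954, e3 q4102 L129193 q4956, e3 q4103 L121993 q4103, e3 q4104 (flp_c L121999) q3366, e3 q4105 (flp_c L129240) q4960, e3 q4106 (flp_c L129171) q4953, e3 q4107 L122024 q3369, e3 q4108 (flp_c L129272) q4964, e3 q4109 L129278 q4965, e3 q4110 (flp_c L123824) q4307, e3 q4111 (flp_c L123838) q4308, e3 q4112 (flp_c L123850) q4309, e3 q4113 L129370 q4974, e3 q4114 (flp_c L123875) q4311, e3 q4115 (flp_c L122096) q3373, e3 q4116 (flp_c L129398) q4977, e3 q4117 (flp_c L129406) q4978, e3 q4118 L122125 q4118, e3 q4119 L122135 q4119, e3 q4120 L122143 q3383, e3 q4121 L122154 q3384, e3 q4122 L129507 q4989, e3 q4123 L122170 q3386, e3 q4124 (flp_c L128964) q4934, e3 q4125 L122190 q3387, e3 q4126 (flp_c L128985) q4936, e3 q4127 (flp_c L128996) q4937, e3 q4128 (flp_c L129006) q4938, e3 q4129 (flp_c L129014) q4939, e3 q4130 (flp_c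 L129024) q4940, e3 q4131 (flp_c L129482) q4986, e3 q4132 L129615 q5002, e3 q4133 (flp_c L129499) q4988, e3 q4134 (flp_c L122260) q3385, e3 q4135 (flp_c L129641) q5005, e3 q4136 L122279 q4136, e3 q4137 L122292 q4137, e3 q4138 L129683 q5010, e3 q4139 L122308 q4139, e3 q4140 L122318 q3401, e3 q4141 L129726 q5015, e3 q4142 L122335 q3403, e3 q4143 (flp_c L122343) q3392, e3 q4144 (flp_c L129764) q5019, e3 q4145 (flp_c L129772) q5020, e3 q4146 L122367 q3968, e3 q4147 (flp_c L129079) q4945, e3 q4148 (flp_c L129091) q4946, e3 q4149 (flp_c L129103) q4947, e3 q4150 (flp_c L129114) q4948, e3 q4151 (flp_c L129123) q4949, e3 q4152 (flp_c L129133) q4950, e3 q4153 (flp_c L129141) q4951, e3 q4154 L129876 q5032, e3 q4155 (flp_c L129717) q5014, e3 q4156 (flp_c L122449) q3402, e3 q4157 (flp_c L129922) q5036, e3 q4158 L122469 q3410, e3 q4159 L122473 q3405, trivial⟩ (by decide +kernel)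

theorem ce_c_65 : ∀ r, r < 64 → sm gc (Qf (4160 + r)) = Qf (tab Gen.c (4160 + r)) :=
  edges_tab (sm gc) Qf (tab Gen.c) 4160 [(4160, 5040), (4161, 3523), (4162, 3558), (4163, 5035), (4164, 3409), (4165, 5045), (4166, 5038), (4167, 5039), (4168, 3412), (4169, 3413), (4170, 5048), (4171, 5049), (4172, 4268), (4173, 4424), (4174, 5057), (4175, 4426), (4176, 5060), (4177, 4428), (4178, 3417), (4179, 5063), (4180, 5064), (4181, 3420), (4182, 3421), (4183, 5069), (4184, 5070), (4185, 5071), (4186, 3478), (4187, 3479), (4188, 5079), (4189, 3481), (4190, 3435), (4191, 5084), (4192, 3437), (4193, 3426), (4194, 5088), (4195, 5089), (4196, 4196), (4197, 4197), (4198, 4198), (4199, 4199), (4200, 4200), (4201, 4201), (4202, 4202), (4203, 4203), (4204, 5083), (4205, 3436), (4206, 5103), (4207, 4451), (4208, 3439), (4209, 3489), (4210, 3490), (4211, 5109), (4212, 3492), (4213, 3442), (4214, 5113), (4215, 5114), (4216, 3643), (4217, 3458), (4218, 3445), (4219, 5121), (4220, 5122), (4221, 5018), (4222,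 3448), (4223, 3449)]
    ⟨e3 q4160 (flp_c L129954) q5040, e3 q4161 L122490 q3523, e3 q4162 L122498 q3558, e3 q4163 (flp_c L129918) q5035, e3 q4164 L122519 q3409, e3 q4165 (flp_c L130006) q5045, e3 q4166 (flp_c L129939) q5038, e3 q4167 (flp_c L129948) q5039, e3 q4168 L122551 q3412, e3 q4169 (flp_c L122556) q3413, e3 q4170 (flp_c L130034) q5048, e3 q4171 (flp_c L130043) q5049, e3 q4172 (flp_c L123418) q4268, e3 q4173 (flp_c L124867) q4424, e3 q4174 L130107 q5057, e3 q4175 (flp_c L124883) q4426, e3 q4176 L130125 q5060, e3 q4177 (flp_c L124906) q4428, e3 q4178 (flp_c L122631) q3417, e3 q4179 (flp_c L130151) q5063, e3 q4180 (flp_c L130157) q5064, e3 q4181 L122653 q3420, e3 q4182 L122660 q3421, e3 q4183 (flp_c L130192) q5069, e3 q4184 (flp_c L130198) q5070, e3 q4185 (flp_c L130206) q5071, e3 q4186 L122691 q3478, e3 q4187 L122703 q3479, e3 q4188 L130275 q5079, e3 q4189 L122720 q3481, e3 q4190 L122731 q3435, e3 q4191 L130323 q5084, e3 q4192 L122748 q3437, e3 q4193 (flp_c L122756) q3426, e3 q4194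 (flp_c L130359) q5088, e3 q4195 (flp_c L130366) q5089, e3 q4196 L122782 q4196, e3 q4197 L122790 q4197, e3 q4198 L122800 q4198, e3 q4199 L122808 q4199, e3 q4200 L122815 q4200, e3 q4201 L122825 q4201, e3 q4202 L122834 q4202, e3 q4203 L122843 q4203, e3 q4204 (flp_c L130314) q5083, e3 q4205 (flp_c L122861) q3436, e3 q4206 (flp_c L130491) q5103, e3 q4207 (flp_c L125115) q4451, e3 q4208 L122898 q3439, e3 q4209 L122907 q3489, e3 q4210 L122917 q3490, e3 q4211 L130551 q5109, e3 q4212 L122931 q3492, e3 q4213 (flp_c L122938) q3442, e3 q4214 (flp_c L130598) q5113, e3 q4215 (flp_c L130608) q5114, e3 q4216 L122963 q3643, e3 q4217 L122967 q3458, e3 q4218 (flp_c L122976) q3445, e3 q4219 (flp_c L130671) q5121, e3 q4220 (flp_c L130682) q5122, e3 q4221 (flp_c L129760) q5018, e3 q4222 L123004 q3448, e3 q4223 L123009 q3449, trivial⟩ (by decide +kernel)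

theorem ce_c_66 : ∀ r, r < 64 → sm gc (Qf (4224 + r)) = Qf (tab Gen.c (4224 + r)) :=
  edges_tab (sm gc) Qf (tab Gen.c) 4224 [(4224, 5129), (4225, 5130), (4226, 5131), (4227, 4227), (4228, 4228), (4229, 4229), (4230, 4230), (4231, 4231), (4232, 4232), (4233, 4233), (4234, 4234), (4235, 5143), (4236, 3463), (4237, 3460), (4238, 3465), (4239, 3466), (4240, 5144), (4241, 5145), (4242, 5146), (4243, 3468), (4244, 3469), (4245, 5148), (4246, 5149), (4247, 5156), (4248, 5151), (4249, 5159), (4250, 3472), (4251, 5162), (4252, 3473), (4253, 5163), (4254, 3475), (4255, 3476), (4256, 5165), (4257, 5075), (4258, 5076), (4259, 5168), (4260, 5078), (4261, 3480), (4262, 5172), (4263, 5173), (4264, 3482), (4265, 3808), (4266, 5161), (4267, 3484), (4268, 4172), (4269, 4351), (4270, 5106), (4271, 5108), (4272, 3491), (4273, 3551), (4274, 5180), (4275, 4275), (4276, 3494), (4277, 3495), (4278, 5184), (4279, 4279), (4280, 3502), (4281, 4076), (4282, 4077), (4283, 5187), (4284, 4079), (4285, 3510), (4286,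 3512), (4287, 3538)]
    ⟨e3 q4224 (flp_c L130741) q5129, e3 q4225 (flp_c L130748) q5130, e3 q4226 (flp_c L130755) q5131, e3 q4227 L123037 q4227, e3 q4228 L123042 q4228, e3 q4229 L123049 q4229, e3 q4230 L123058 q4230, e3 q4231 L123064 q4231, e3 q4232 L123071 q4232, e3 q4233 L123077 q4233, e3 q4234 L123085 q4234, e3 q4235 L130836 q5143, e3 q4236 L123106 q3463, e3 q4237 L123110 q3460, e3 q4238 L123121 q3465, e3 q4239 L123132 q3466, e3 q4240 (flp_c L130847) q5144, e3 q4241 (flp_c L130860) q5145, e3 q4242 (flp_c L130873) q5146, e3 q4243 L123169 q3468, e3 q4244 L123177 q3469, e3 q4245 (flp_c L130894) q5148, e3 q4246 (flp_c L130903) q5149, e3 q4247 L130967 q5156, e3 q4248 (flp_c L130916) q5151, e3 q4249 L130992 q5159, e3 q4250 (flp_c L123231) q3472, e3 q4251 (flp_c L131025) q5162, e3 q4252 (flp_c L123244) q3473, e3 q4253 (flp_c L131032) q5163, e3 q4254 L123271 q3475, e3 q4255 L123279 q3476, e3 q4256 (flp_c L131054) q5165, e3 q4257 (flp_c L130238) q5075, e3 q4258 (flp_c L130250) q5076, e3 q4259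 L131086 q5168, e3 q4260 (flp_c L130268) q5078, e3 q4261 (flp_c L123341) q3480, e3 q4262 (flp_c L131133) q5172, e3 q4263 (flp_c L131146) q5173, e3 q4264 (flp_c L123365) q3482, e3 q4265 L123383 q3808, e3 q4266 (flp_c L131020) q5161, e3 q4267 L123403 q3484, e3 q4268 L123418 q4172, e3 q4269 (flp_c L124259) q4351, e3 q4270 (flp_c L130520) q5106, e3 q4271 (flp_c L130543) q5108, e3 q4272 (flp_c L123448) q3491, e3 q4273 L123463 q3551, e3 q4274 (flp_c L131225) q5180, e3 q4275 L123491 q4275, e3 q4276 L123498 q3494, e3 q4277 L123509 q3495, e3 q4278 (flp_c L131275) q5184, e3 q4279 L123522 q4279, e3 q4280 L123533 q3502, e3 q4281 L123549 q4076, e3 q4282 L123562 q4077, e3 q4283 L131310 q5187, e3 q4284 L123585 q4079, e3 q4285 L123594 q3510, e3 q4286 L123605 q3512, e3 q4287 L123618 q3538, trivial⟩ (by decide +kernel)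

theorem ce_c_67 : ∀ r, r < 64 → sm gc (Qf (4288 + r)) = Qf (tab Gen.c (4288 + r)) :=
  edges_tab (sm gc) Qf (tab Gen.c) 4288 [(4288, 3539), (4289, 3918), (4290, 5194), (4291, 5190), (4292, 3919), (4293, 3520), (4294, 3552), (4295, 3921), (4296, 5198), (4297, 3922), (4298, 3519), (4299, 5201), (4300, 4957), (4301, 4301), (4302, 5041), (4303, 5200), (4304, 3526), (4305, 5207), (4306, 5208), (4307, 4110), (4308, 4111), (4309, 4112), (4310, 5214), (4311, 4114), (4312, 3530), (4313, 5217), (4314, 5218), (4315, 4315), (4316, 3540), (4317, 5226), (4318, 3542), (4319, 3543), (4320, 3726), (4321, 3917), (4322, 5169), (4323, 5191), (4324, 3931), (4325, 5232), (4326, 5225), (4327, 3541), (4328, 5235), (4329, 5118), (4330, 4330), (4331, 5238), (4332, 3555), (4333, 3546), (4334, 5107), (4335, 5241), (4336, 3730), (4337, 5181), (4338, 3932), (4339, 3554), (4340, 5246), (4341, 3559), (4342, 3557), (4343, 5250), (4344, 5042), (4345, 5248), (4346, 5249), (4347, 3561), (4348, 3562), (4349, 5253), (4350,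 5254), (4351, 4269)]
    ⟨e3 q4288 L123628 q3539, e3 q4289 L123643 q3918, e3 q4290 L131391 q5194, e3 q4291 (flp_c L131347) q5190, e3 q4292 L123675 q3919, e3 q4293 L123686 q3520, e3 q4294 L123697 q3552, e3 q4295 L123709 q3921, e3 q4296 L131433 q5198, e3 q4297 L123728 q3922, e3 q4298 (flp_c L123735) q3519, e3 q4299 (flp_c L131470) q5201, e3 q4300 (flp_c L129210) q4957, e3 q4301 L123762 q4301, e3 q4302 (flp_c L129963) q5041, e3 q4303 (flp_c L131466) q5200, e3 q4304 L123789 q3526, e3 q4305 (flp_c L131524) q5207, e3 q4306 L131530 q5208, e3 q4307 L123824 q4110, e3 q4308 L123838 q4111, e3 q4309 L123850 q4112, e3 q4310 L131606 q5214, e3 q4311 L123875 q4114, e3 q4312 (flp_c L123881) q3530, e3 q4313 (flp_c L131648) q5217, e3 q4314 (flp_c L131657) q5218, e3 q4315 L123914 q4315, e3 q4316 L123925 q3540, e3 q4317 L131743 q5226, e3 q4318 L123941 q3542, e3 q4319 L123953 q3543, e3 q4320 L123966 q3726, e3 q4321 L123976 q3917, e3 q4322 (flp_c L131102) q5169, e3 q4323 (flp_c L131359) q5191, e3 q4324 L124007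 q3931, e3 q4325 L131800 q5232, e3 q4326 (flp_c L131735) q5225, e3 q4327 (flp_c L124037) q3541, e3 q4328 (flp_c L131828) q5235, e3 q4329 (flp_c L130636) q5118, e3 q4330 L124070 q4330, e3 q4331 L131855 q5238, e3 q4332 L124093 q3555, e3 q4333 (flp_c L124101) q3546, e3 q4334 (flp_c L130535) q5107, e3 q4335 (flp_c L131885) q5241, e3 q4336 L124129 q3730, e3 q4337 (flp_c L131238) q5181, e3 q4338 L124149 q3932, e3 q4339 (flp_c L124156) q3554, e3 q4340 (flp_c L131934) q5246, e3 q4341 L124174 q3559, e3 q4342 L124178 q3557, e3 q4343 (flp_c L131964) q5250, e3 q4344 (flp_c L129972) q5042, e3 q4345 (flp_c L131949) q5248, e3 q4346 (flp_c L131958) q5249, e3 q4347 L124221 q3561, e3 q4348 (flp_c L124226) q3562, e3 q4349 (flp_c L131991) q5253, e3 q4350 (flp_c L132002) q5254, e3 q4351 L124259 q4269, trivial⟩ (by decide +kernel)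

theorem ce_c_68 : ∀ r, r < 64 → sm gc (Qf (4352 + r)) = Qf (tab Gen.c (4352 + r)) :=
  edges_tab (sm gc) Qf (tab Gen.c) 4352 [(4352, 4515), (4353, 5262), (4354, 4816), (4355, 5265), (4356, 4619), (4357, 3566), (4358, 5268), (4359, 5269), (4360, 3569), (4361, 3570), (4362, 5274), (4363, 5275), (4364, 5276), (4365, 4365), (4366, 4366), (4367, 5283), (4368, 4368), (4369, 3584), (4370, 5288), (4371, 3586), (4372, 3575), (4373, 5292), (4374, 5293), (4375, 4375), (4376, 4376), (4377, 4377), (4378, 4378), (4379, 4379), (4380, 4380), (4381, 4381), (4382, 4382), (4383, 5287), (4384, 3585), (4385, 5306), (4386, 4836), (4387, 3588), (4388, 5310), (4389, 4389), (4390, 5313), (4391, 4391), (4392, 3591), (4393, 5316), (4394, 5317), (4395, 5240), (4396, 3607), (4397, 3594), (4398, 5323), (4399, 5324), (4400, 3701), (4401, 3597), (4402, 3598), (4403, 5331), (4404, 5332), (4405, 5333), (4406, 4406), (4407, 4407), (4408, 4408), (4409, 4409), (4410, 4410), (4411, 4411), (4412, 4412), (4413, 5344), (4414,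 3609), (4415, 5345)]
    ⟨e3 q4352 (flp_c L125612) q4515, e3 q4353 L132073 q5262, e3 q4354 (flp_c L128113) q4816, e3 q4355 L132093 q5265, e3 q4356 (flp_c L126493) q4619, e3 q4357 (flp_c L124306) q3566, e3 q4358 (flp_c L132131) q5268, e3 q4359 (flp_c L132140) q5269, e3 q4360 L124338 q3569, e3 q4361 L124348 q3570, e3 q4362 (flp_c L132187) q5274, e3 q4363 (flp_c L132196) q5275, e3 q4364 (flp_c L132206) q5276, e3 q4365 L124381 q4365, e3 q4366 L124392 q4366, e3 q4367 L132269 q5283, e3 q4368 L124407 q4368, e3 q4369 L124414 q3584, e3 q4370 L132307 q5288, e3 q4371 L124429 q3586, e3 q4372 (flp_c L124435) q3575, e3 q4373 (flp_c L132341) q5292, e3 q4374 (flp_c L132348) q5293, e3 q4375 L124457 q4375, e3 q4376 L124466 q4376, e3 q4377 L124478 q4377, e3 q4378 L124487 q4378, e3 q4379 L124494 q4379, e3 q4380 L124507 q4380, e3 q4381 L124515 q4381, e3 q4382 L124522 q4382, e3 q4383 (flp_c L132302) q5287, e3 q4384 (flp_c L124537) q3585, e3 q4385 (flp_c L132454) q5306, e3 q4386 (flp_c L128267) q4836, e3 q4387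 L124562 q3588, e3 q4388 (flp_c L132486) q5310, e3 q4389 L124575 q4389, e3 q4390 L132509 q5313, e3 q4391 L124594 q4391, e3 q4392 (flp_c L124601) q3591, e3 q4393 (flp_c L132541) q5316, e3 q4394 (flp_c L132551) q5317, e3 q4395 (flp_c L131881) q5240, e3 q4396 L124632 q3607, e3 q4397 (flp_c L124637) q3594, e3 q4398 (flp_c L132595) q5323, e3 q4399 (flp_c L132606) q5324, e3 q4400 L124669 q3701, e3 q4401 L124673 q3597, e3 q4402 L124678 q3598, e3 q4403 (flp_c L132665) q5331, e3 q4404 (flp_c L132670) q5332, e3 q4405 (flp_c L132677) q5333, e3 q4406 L124704 q4406, e3 q4407 L124712 q4407, e3 q4408 L124723 q4408, e3 q4409 L124732 q4409, e3 q4410 L124741 q4410, e3 q4411 L124752 q4411, e3 q4412 L124760 q4412, e3 q4413 L132769 q5344, e3 q4414 L124776 q3609, e3 q4415 (flp_c L132779) q5345, trivial⟩ (by decide +kernel)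

theorem ce_c_69 : ∀ r, r < 64 → sm gc (Qf (4416 + r)) = Qf (tab Gen.c (4416 + r)) :=
  edges_tab (sm gc) Qf (tab Gen.c) 4416 [(4416, 3614), (4417, 3615), (4418, 3612), (4419, 5346), (4420, 5347), (4421, 3617), (4422, 5350), (4423, 5351), (4424, 4173), (4425, 5356), (4426, 4175), (4427, 5359), (4428, 4177), (4429, 3621), (4430, 5361), (4431, 5362), (4432, 3624), (4433, 3625), (4434, 5367), (4435, 5368), (4436, 5369), (4437, 5373), (4438, 3728), (4439, 5082), (4440, 3638), (4441, 3629), (4442, 5377), (4443, 5378), (4444, 4444), (4445, 4445), (4446, 4446), (4447, 4447), (4448, 4448), (4449, 4449), (4450, 4450), (4451, 4207), (4452, 3640), (4453, 3641), (4454, 5387), (4455, 5119), (4456, 3646), (4457, 3647), (4458, 5390), (4459, 5391), (4460, 5392), (4461, 4461), (4462, 4462), (4463, 4463), (4464, 5397), (4465, 3657), (4466, 3658), (4467, 5398), (4468, 5399), (4469, 5406), (4470, 5401), (4471, 5409), (4472, 4516), (4473, 3661), (4474, 5413), (4475, 5414), (4476, 3663), (4477, 5418), (4478,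 5419), (4479, 3666)]
    ⟨e3 q4416 L124791 q3614, e3 q4417 L124801 q3615, e3 q4418 L124808 q3612, e3 q4419 (flp_c L132789) q5346, e3 q4420 (flp_c L132798) q5347, e3 q4421 (flp_c L124831) q3617, e3 q4422 (flp_c L132823) q5350, e3 q4423 (flp_c L132835) q5351, e3 q4424 L124867 q4173, e3 q4425 L132877 q5356, e3 q4426 L124883 q4175, e3 q4427 L132897 q5359, e3 q4428 L124906 q4177, e3 q4429 (flp_c L124913) q3621, e3 q4430 (flp_c L132925) q5361, e3 q4431 (flp_c L132932) q5362, e3 q4432 L124939 q3624, e3 q4433 L124947 q3625, e3 q4434 (flp_c L132977) q5367, e3 q4435 (flp_c L132984) q5368, e3 q4436 (flp_c L132992) q5369, e3 q4437 L133023 q5373, e3 q4438 L124990 q3728, e3 q4439 (flp_c L130308) q5082, e3 q4440 L125008 q3638, e3 q4441 (flp_c L125016) q3629, e3 q4442 (flp_c L133059) q5377, e3 q4443 (flp_c L133066) q5378, e3 q4444 L125042 q4444, e3 q4445 L125054 q4445, e3 q4446 L125063 q4446, e3 q4447 L125070 q4447, e3 q4448 L125083 q4448, e3 q4449 L125093 q4449, e3 q4450 L125102 q4450, e3 q4451 L125115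 q4207, e3 q4452 L125121 q3640, e3 q4453 (flp_c L125126) q3641, e3 q4454 (flp_c L133146) q5387, e3 q4455 (flp_c L130647) q5119, e3 q4456 L125148 q3646, e3 q4457 L125153 q3647, e3 q4458 (flp_c L133168) q5390, e3 q4459 (flp_c L133175) q5391, e3 q4460 (flp_c L133182) q5392, e3 q4461 L125179 q4461, e3 q4462 L125186 q4462, e3 q4463 L125194 q4463, e3 q4464 L133214 q5397, e3 q4465 L125212 q3657, e3 q4466 L125220 q3658, e3 q4467 (flp_c L133228) q5398, e3 q4468 (flp_c L133236) q5399, e3 q4469 L133287 q5406, e3 q4470 (flp_c L133250) q5401, e3 q4471 L133305 q5409, e3 q4472 (flp_c L125626) q4516, e3 q4473 (flp_c L125264) q3661, e3 q4474 (flp_c L133337) q5413, e3 q4475 (flp_c L133341) q5414, e3 q4476 (flp_c L125278) q3663, e3 q4477 (flp_c L133365) q5418, e3 q4478 (flp_c L133375) q5419, e3 q4479 L125308 q3666, trivial⟩ (by decide +kernel)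

theorem ce_c_70 : ∀ r, r < 64 → sm gc (Qf (4480 + r)) = Qf (tab Gen.c (4480 + r)) :=
  edges_tab (sm gc) Qf (tab Gen.c) 4480 [(4480, 3667), (4481, 5424), (4482, 5425), (4483, 5426), (4484, 5068), (4485, 3670), (4486, 3671), (4487, 3672), (4488, 5433), (4489, 5434), (4490, 5435), (4491, 3729), (4492, 3727), (4493, 4029), (4494, 3739), (4495, 3675), (4496, 5445), (4497, 5446), (4498, 4031), (4499, 4032), (4500, 5412), (4501, 3680), (4502, 3681), (4503, 5456), (4504, 5457), (4505, 5458), (4506, 3771), (4507, 3772), (4508, 3773), (4509, 3774), (4510, 3775), (4511, 3776), (4512, 3777), (4513, 3778), (4514, 5470), (4515, 4352), (4516, 4472), (4517, 3731), (4518, 3732), (4519, 4039), (4520, 4040), (4521, 5315), (4522, 3697), (4523, 3698), (4524, 5477), (4525, 5478), (4526, 5479), (4527, 4041), (4528, 4042), (4529, 4043), (4530, 5328), (4531, 5329), (4532, 5330), (4533, 3704), (4534, 3705), (4535, 3706), (4536, 5491), (4537, 5492), (4538, 5493), (4539, 3791), (4540, 3792), (4541, 3793), (4542,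 3794), (4543, 3795)]
    ⟨e3 q4480 L125316 q3667, e3 q4481 (flp_c L133416) q5424, e3 q4482 (flp_c L133426) q5425, e3 q4483 (flp_c L133434) q5426, e3 q4484 (flp_c L130187) q5068, e3 q4485 L125351 q3670, e3 q4486 L125359 q3671, e3 q4487 L125368 q3672, e3 q4488 (flp_c L133488) q5433, e3 q4489 (flp_c L133497) q5434, e3 q4490 (flp_c L133505) q5435, e3 q4491 L125399 q3729, e3 q4492 L125410 q3727, e3 q4493 L125420 q4029, e3 q4494 L125428 q3739, e3 q4495 (flp_c L125434) q3675, e3 q4496 (flp_c L133593) q5445, e3 q4497 (flp_c L133604) q5446, e3 q4498 L125462 q4031, e3 q4499 L125472 q4032, e3 q4500 (flp_c L133333) q5412, e3 q4501 L125488 q3680, e3 q4502 L125498 q3681, e3 q4503 (flp_c L133688) q5456, e3 q4504 (flp_c L133696) q5457, e3 q4505 (flp_c L133708) q5458, e3 q4506 L125526 q3771, e3 q4507 L125535 q3772, e3 q4508 L125545 q3773, e3 q4509 L125558 q3774, e3 q4510 L125568 q3775, e3 q4511 L125578 q3776, e3 q4512 L125588 q3777, e3 q4513 L125597 q3778, e3 q4514 L133811 q5470, e3 q4515 L125612 q4352,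 e3 q4516 L125626 q4472, e3 q4517 L125636 q3731, e3 q4518 L125644 q3732, e3 q4519 L125652 q4039, e3 q4520 L125662 q4040, e3 q4521 (flp_c L132537) q5315, e3 q4522 L125678 q3697, e3 q4523 L125687 q3698, e3 q4524 (flp_c L133877) q5477, e3 q4525 (flp_c L133884) q5478, e3 q4526 (flp_c L133893) q5479, e3 q4527 L125711 q4041, e3 q4528 L125717 q4042, e3 q4529 L125727 q4043, e3 q4530 (flp_c L132638) q5328, e3 q4531 (flp_c L132648) q5329, e3 q4532 (flp_c L132657) q5330, e3 q4533 L125755 q3704, e3 q4534 L125761 q3705, e3 q4535 L125771 q3706, e3 q4536 (flp_c L133981) q5491, e3 q4537 (flp_c L133989) q5492, e3 q4538 (flp_c L133997) q5493, e3 q4539 L125791 q3791, e3 q4540 L125800 q3792, e3 q4541 L125809 q3793, e3 q4542 L125819 q3794, e3 q4543 L125827 q3795, trivial⟩ (by decide +kernel)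

theorem ce_c_71 : ∀ r, r < 64 → sm gc (Qf (4544 + r)) = Qf (tab Gen.c (4544 + r)) :=
  edges_tab (sm gc) Qf (tab Gen.c) 4544 [(4544, 5501), (4545, 3797), (4546, 4952), (4547, 3715), (4548, 3718), (4549, 3720), (4550, 3721), (4551, 5502), (4552, 5506), (4553, 5504), (4554, 3722), (4555, 5509), (4556, 3724), (4557, 5229), (4558, 5440), (4559, 5441), (4560, 5244), (4561, 3735), (4562, 5513), (4563, 3737), (4564, 5512), (4565, 3736), (4566, 5517), (4567, 3742), (4568, 5516), (4569, 3741), (4570, 5518), (4571, 4571), (4572, 4572), (4573, 3765), (4574, 3748), (4575, 3749), (4576, 5526), (4577, 5527), (4578, 5528), (4579, 3751), (4580, 3752), (4581, 5533), (4582, 5534), (4583, 5535), (4584, 5525), (4585, 3755), (4586, 3756), (4587, 3757), (4588, 5542), (4589, 5543), (4590, 5544), (4591, 4591), (4592, 4592), (4593, 4593), (4594, 3762), (4595, 3763), (4596, 3764), (4597, 4597), (4598, 5555), (4599, 5556), (4600, 5561), (4601, 5522), (4602, 5523), (4603, 5524), (4604, 3768), (4605, 3769), (4606,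 3770), (4607, 5567)]
    ⟨e3 q4544 L134053 q5501, e3 q4545 L125841 q3797, e3 q4546 (flp_c L129151) q4952, e3 q4547 (flp_c L125854) q3715, e3 q4548 L125865 q3718, e3 q4549 L125874 q3720, e3 q4550 L125885 q3721, e3 q4551 (flp_c L134062) q5502, e3 q4552 L134097 q5506, e3 q4553 (flp_c L134078) q5504, e3 q4554 (flp_c L125920) q3722, e3 q4555 (flp_c L134127) q5509, e3 q4556 L125940 q3724, e3 q4557 (flp_c L131773) q5229, e3 q4558 (flp_c L133545) q5440, e3 q4559 (flp_c L133555) q5441, e3 q4560 (flp_c L131913) q5244, e3 q4561 L125986 q3735, e3 q4562 L134157 q5513, e3 q4563 L125998 q3737, e3 q4564 (flp_c L134151) q5512, e3 q4565 (flp_c L126013) q3736, e3 q4566 (flp_c L134188) q5517, e3 q4567 L126038 q3742, e3 q4568 (flp_c L134183) q5516, e3 q4569 L126051 q3741, e3 q4570 (flp_c L134195) q5518, e3 q4571 L126067 q4571, e3 q4572 L126077 q4572, e3 q4573 L126089 q3765, e3 q4574 L126094 q3748, e3 q4575 L126102 q3749, e3 q4576 (flp_c L134268) q5526, e3 q4577 (flp_c L134275) q5527, e3 q4578 (flp_c L134284)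 q5528, e3 q4579 L126140 q3751, e3 q4580 L126149 q3752, e3 q4581 (flp_c L134333) q5533, e3 q4582 (flp_c L134341) q5534, e3 q4583 (flp_c L134350) q5535, e3 q4584 (flp_c L134263) q5525, e3 q4585 L126194 q3755, e3 q4586 L126203 q3756, e3 q4587 L126210 q3757, e3 q4588 (flp_c L134408) q5542, e3 q4589 (flp_c L134417) q5543, e3 q4590 (flp_c L134426) q5544, e3 q4591 L126246 q4591, e3 q4592 L126252 q4592, e3 q4593 L126259 q4593, e3 q4594 L126266 q3762, e3 q4595 L126274 q3763, e3 q4596 L126281 q3764, e3 q4597 L126294 q4597, e3 q4598 (flp_c L134510) q5555, e3 q4599 (flp_c L134518) q5556, e3 q4600 L134557 q5561, e3 q4601 (flp_c L134229) q5522, e3 q4602 (flp_c L134242) q5523, e3 q4603 (flp_c L134251) q5524, e3 q4604 L126353 q3768, e3 q4605 L126361 q3769, e3 q4606 L126371 q3770, e3 q4607 (flp_c L134611) q5567, trivial⟩ (by decide +kernel)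

theorem ce_c_72 : ∀ r, r < 64 → sm gc (Qf (4608 + r)) = Qf (tab Gen.c (4608 + r)) :=
  edges_tab (sm gc) Qf (tab Gen.c) 4608 [(4608, 5568), (4609, 5569), (4610, 5462), (4611, 5463), (4612, 5464), (4613, 5465), (4614, 5466), (4615, 5578), (4616, 5468), (4617, 4942), (4618, 3779), (4619, 4356), (4620, 4620), (4621, 4621), (4622, 4622), (4623, 4623), (4624, 4624), (4625, 3788), (4626, 3789), (4627, 3790), (4628, 5586), (4629, 5587), (4630, 5591), (4631, 5497), (4632, 5498), (4633, 5594), (4634, 5499), (4635, 5024), (4636, 3796), (4637, 3801), (4638, 5595), (4639, 3803), (4640, 3804), (4641, 3806), (4642, 3807), (4643, 5597), (4644, 5598), (4645, 5599), (4646, 3930), (4647, 5196), (4648, 3813), (4649, 3814), (4650, 5602), (4651, 5605), (4652, 5604), (4653, 3815), (4654, 5607), (4655, 3816), (4656, 5609), (4657, 3818), (4658, 3819), (4659, 5612), (4660, 5613), (4661, 5614), (4662, 4662), (4663, 3822), (4664, 3823), (4665, 3824), (4666, 5621), (4667, 5622), (4668, 5623), (4669, 3957), (4670,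 3956), (4671, 4671)]
    ⟨e3 q4608 (flp_c L134621) q5568, e3 q4609 (flp_c L134630) q5569, e3 q4610 (flp_c L133736) q5462, e3 q4611 (flp_c L133747) q5463, e3 q4612 (flp_c L133756) q5464, e3 q4613 (flp_c L133768) q5465, e3 q4614 (flp_c L133778) q5466, e3 q4615 L134715 q5578, e3 q4616 (flp_c L133796) q5468, e3 q4617 (flp_c L129046) q4942, e3 q4618 (flp_c L126478) q3779, e3 q4619 L126493 q4356, e3 q4620 L126502 q4620, e3 q4621 L126510 q4621, e3 q4622 L126520 q4622, e3 q4623 L126527 q4623, e3 q4624 L126536 q4624, e3 q4625 L126543 q3788, e3 q4626 L126551 q3789, e3 q4627 L126558 q3790, e3 q4628 (flp_c L134787) q5586, e3 q4629 (flp_c L134796) q5587, e3 q4630 L134824 q5591, e3 q4631 (flp_c L134019) q5497, e3 q4632 (flp_c L134030) q5498, e3 q4633 L134851 q5594, e3 q4634 (flp_c L134039) q5499, e3 q4635 (flp_c L129806) q5024, e3 q4636 (flp_c L126635) q3796, e3 q4637 (flp_c L126640) q3801, e3 q4638 (flp_c L134865) q5595, e3 q4639 (flp_c L126661) q3803, e3 q4640 (flp_c L126672) q3804, e3 q4641 L126689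 q3806, e3 q4642 L126698 q3807, e3 q4643 (flp_c L134881) q5597, e3 q4644 (flp_c L134889) q5598, e3 q4645 (flp_c L134900) q5599, e3 q4646 L126736 q3930, e3 q4647 (flp_c L131417) q5196, e3 q4648 L126754 q3813, e3 q4649 L126766 q3814, e3 q4650 (flp_c L134927) q5602, e3 q4651 L134948 q5605, e3 q4652 (flp_c L134945) q5604, e3 q4653 (flp_c L126799) q3815, e3 q4654 (flp_c L134975) q5607, e3 q4655 (flp_c L126823) q3816, e3 q4656 (flp_c L134997) q5609, e3 q4657 L126851 q3818, e3 q4658 L126858 q3819, e3 q4659 (flp_c L135025) q5612, e3 q4660 (flp_c L135034) q5613, e3 q4661 (flp_c L135045) q5614, e3 q4662 L126903 q4662, e3 q4663 L126910 q3822, e3 q4664 L126917 q3823, e3 q4665 L126927 q3824, e3 q4666 (flp_c L135112) q5621, e3 q4667 (flp_c L135120) q5622, e3 q4668 (flp_c L135129) q5623, e3 q4669 L126960 q3957, e3 q4670 L126970 q3956, e3 q4671 L126981 q4671, trivial⟩ (by decide +kernel)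

theorem ce_c_73 : ∀ r, r < 64 → sm gc (Qf (4672 + r)) = Qf (tab Gen.c (4672 + r)) :=
  edges_tab (sm gc) Qf (tab Gen.c) 4672 [(4672, 4672), (4673, 4673), (4674, 4674), (4675, 4675), (4676, 4676), (4677, 5635), (4678, 3965), (4679, 3964), (4680, 4680), (4681, 4681), (4682, 4682), (4683, 4683), (4684, 4959), (4685, 3844), (4686, 3846), (4687, 5639), (4688, 3848), (4689, 5641), (4690, 4690), (4691, 3851), (4692, 3852), (4693, 3853), (4694, 5645), (4695, 5646), (4696, 5647), (4697, 4697), (4698, 4698), (4699, 5654), (4700, 4700), (4701, 5033), (4702, 3861), (4703, 3864), (4704, 5657), (4705, 3866), (4706, 5656), (4707, 3865), (4708, 5660), (4709, 5661), (4710, 3868), (4711, 5665), (4712, 3870), (4713, 5668), (4714, 5664), (4715, 3873), (4716, 3874), (4717, 3875), (4718, 5673), (4719, 5674), (4720, 5675), (4721, 4721), (4722, 4722), (4723, 4723), (4724, 3880), (4725, 3881), (4726, 3882), (4727, 5648), (4728, 5686), (4729, 5687), (4730, 5692), (4731, 4731), (4732, 4732), (4733, 4733), (4734,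 3955), (4735, 3958)]
    ⟨e3 q4672 L126991 q4672, e3 q4673 L126998 q4673, e3 q4674 L127009 q4674, e3 q4675 L127018 q4675, e3 q4676 L127027 q4676, e3 q4677 L135238 q5635, e3 q4678 L127040 q3965, e3 q4679 L127049 q3964, e3 q4680 L127062 q4680, e3 q4681 L127074 q4681, e3 q4682 L127087 q4682, e3 q4683 L127096 q4683, e3 q4684 (flp_c L129236) q4959, e3 q4685 (flp_c L127107) q3844, e3 q4686 L127116 q3846, e3 q4687 (flp_c L135283) q5639, e3 q4688 L127129 q3848, e3 q4689 (flp_c L135303) q5641, e3 q4690 L127141 q4690, e3 q4691 L127146 q3851, e3 q4692 L127151 q3852, e3 q4693 L127159 q3853, e3 q4694 (flp_c L135330) q5645, e3 q4695 (flp_c L135336) q5646, e3 q4696 (flp_c L135343) q5647, e3 q4697 L127186 q4697, e3 q4698 L127195 q4698, e3 q4699 L135402 q5654, e3 q4700 L127208 q4700, e3 q4701 (flp_c L129891) q5033, e3 q4702 (flp_c L127217) q3861, e3 q4703 L127228 q3864, e3 q4704 L135428 q5657, e3 q4705 L127242 q3866, e3 q4706 (flp_c L135424) q5656, e3 q4707 (flp_c L127251) q3865, e3 q4708 (flp_c L135450)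 q5660, e3 q4709 (flp_c L135457) q5661, e3 q4710 L127273 q3868, e3 q4711 (flp_c L135482) q5665, e3 q4712 L127286 q3870, e3 q4713 (flp_c L135503) q5668, e3 q4714 (flp_c L135476) q5664, e3 q4715 L127304 q3873, e3 q4716 L127312 q3874, e3 q4717 L127320 q3875, e3 q4718 (flp_c L135535) q5673, e3 q4719 (flp_c L135543) q5674, e3 q4720 (flp_c L135553) q5675, e3 q4721 L127348 q4721, e3 q4722 L127355 q4722, e3 q4723 L127362 q4723, e3 q4724 L127371 q3880, e3 q4725 L127378 q3881, e3 q4726 L127386 q3882, e3 q4727 (flp_c L135358) q5648, e3 q4728 (flp_c L135648) q5686, e3 q4729 (flp_c L135657) q5687, e3 q4730 L135702 q5692, e3 q4731 L127421 q4731, e3 q4732 L127429 q4732, e3 q4733 L127436 q4733, e3 q4734 L127444 q3955, e3 q4735 L127453 q3958, trivial⟩ (by decide +kernel)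

theorem ce_c_74 : ∀ r, r < 64 → sm gc (Qf (4736 + r)) = Qf (tab Gen.c (4736 + r)) :=
  edges_tab (sm gc) Qf (tab Gen.c) 4736 [(4736, 3959), (4737, 5697), (4738, 3961), (4739, 4941), (4740, 3893), (4741, 4741), (4742, 4742), (4743, 3967), (4744, 5016), (4745, 3900), (4746, 3906), (4747, 5702), (4748, 3908), (4749, 5701), (4750, 3907), (4751, 4794), (4752, 5705), (4753, 3912), (4754, 4802), (4755, 5193), (4756, 5197), (4757, 3927), (4758, 3928), (4759, 4759), (4760, 3929), (4761, 4761), (4762, 4762), (4763, 4791), (4764, 5708), (4765, 5231), (4766, 4766), (4767, 3935), (4768, 3936), (4769, 3937), (4770, 5718), (4771, 5719), (4772, 5720), (4773, 4773), (4774, 4774), (4775, 4775), (4776, 3942), (4777, 3943), (4778, 3944), (4779, 4779), (4780, 5731), (4781, 5732), (4782, 5737), (4783, 3970), (4784, 3971), (4785, 3972), (4786, 3973), (4787, 3974), (4788, 3975), (4789, 3952), (4790, 3953), (4791, 4763), (4792, 4792), (4793, 5743), (4794, 4751), (4795, 3954), (4796, 5629), (4797, 5628), (4798,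 5747), (4799, 5695)]
    ⟨e3 q4736 L127463 q3959, e3 q4737 L135746 q5697, e3 q4738 L127477 q3961, e3 q4739 (flp_c L129037) q4941, e3 q4740 (flp_c L127489) q3893, e3 q4741 L127499 q4741, e3 q4742 L127505 q4742, e3 q4743 L127511 q3967, e3 q4744 (flp_c L129738) q5016, e3 q4745 (flp_c L127521) q3900, e3 q4746 L127528 q3906, e3 q4747 L135793 q5702, e3 q4748 L127540 q3908, e3 q4749 (flp_c L135787) q5701, e3 q4750 (flp_c L127554) q3907, e3 q4751 (flp_c L127922) q4794, e3 q4752 (flp_c L135819) q5705, e3 q4753 L127584 q3912, e3 q4754 (flp_c L127995) q4802, e3 q4755 (flp_c L131384) q5193, e3 q4756 (flp_c L131426) q5197, e3 q4757 L127620 q3927, e3 q4758 L127626 q3928, e3 q4759 L127636 q4759, e3 q4760 L127641 q3929, e3 q4761 L127648 q4761, e3 q4762 L127653 q4762, e3 q4763 (flp_c L127891) q4791, e3 q4764 (flp_c L135857) q5708, e3 q4765 (flp_c L131793) q5231, e3 q4766 L127686 q4766, e3 q4767 L127691 q3935, e3 q4768 L127697 q3936, e3 q4769 L127706 q3937, e3 q4770 (flp_c L135938) q5718, e3 q4771 (flp_c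 L135946) q5719, e3 q4772 (flp_c L135954) q5720, e3 q4773 L127741 q4773, e3 q4774 L127747 q4774, e3 q4775 L127752 q4775, e3 q4776 L127759 q3942, e3 q4777 L127766 q3943, e3 q4778 L127775 q3944, e3 q4779 L127784 q4779, e3 q4780 (flp_c L136048) q5731, e3 q4781 (flp_c L136057) q5732, e3 q4782 L136094 q5737, e3 q4783 L127815 q3970, e3 q4784 L127821 q3971, e3 q4785 L127829 q3972, e3 q4786 L127848 q3973, e3 q4787 L127857 q3974, e3 q4788 L127864 q3975, e3 q4789 L127873 q3952, e3 q4790 L127881 q3953, e3 q4791 L127891 q4763, e3 q4792 L127898 q4792, e3 q4793 (flp_c L136155) q5743, e3 q4794 L127922 q4751, e3 q4795 (flp_c L127926) q3954, e3 q4796 (flp_c L135180) q5629, e3 q4797 (flp_c L135171) q5628, e3 q4798 L136187 q5747, e3 q4799 (flp_c L135734) q5695, trivial⟩ (by decide +kernel)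

theorem ce_c_75 : ∀ r, r < 64 → sm gc (Qf (4800 + r)) = Qf (tab Gen.c (4800 + r)) :=
  edges_tab (sm gc) Qf (tab Gen.c) 4800 [(4800, 4992), (4801, 3960), (4802, 4754), (4803, 5636), (4804, 5026), (4805, 3966), (4806, 5738), (4807, 5739), (4808, 5740), (4809, 5741), (4810, 5742), (4811, 3980), (4812, 3985), (4813, 3987), (4814, 5751), (4815, 5754), (4816, 4354), (4817, 3989), (4818, 5757), (4819, 5758), (4820, 3992), (4821, 3993), (4822, 5763), (4823, 5764), (4824, 5765), (4825, 5769), (4826, 4826), (4827, 3995), (4828, 5773), (4829, 5774), (4830, 4830), (4831, 4831), (4832, 4832), (4833, 4833), (4834, 4834), (4835, 4835), (4836, 4386), (4837, 4003), (4838, 5785), (4839, 4004), (4840, 5123), (4841, 5786), (4842, 4007), (4843, 4008), (4844, 5110), (4845, 5789), (4846, 5790), (4847, 4847), (4848, 4848), (4849, 4849), (4850, 4850), (4851, 4851), (4852, 5798), (4853, 4016), (4854, 4018), (4855, 5802), (4856, 5801), (4857, 4019), (4858, 5805), (4859, 5806), (4860, 4022), (4861, 4023), (4862,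 5811), (4863, 5812)]
    ⟨e3 q4800 (flp_c L129533) q4992, e3 q4801 (flp_c L127979) q3960, e3 q4802 L127995 q4754, e3 q4803 (flp_c L135249) q5636, e3 q4804 (flp_c L129828) q5026, e3 q4805 (flp_c L128011) q3966, e3 q4806 (flp_c L136104) q5738, e3 q4807 (flp_c L136112) q5739, e3 q4808 (flp_c L136122) q5740, e3 q4809 (flp_c L136133) q5741, e3 q4810 (flp_c L136144) q5742, e3 q4811 L128065 q3980, e3 q4812 L128078 q3985, e3 q4813 (flp_c L128086) q3987, e3 q4814 (flp_c L136229) q5751, e3 q4815 L136247 q5754, e3 q4816 L128113 q4354, e3 q4817 (flp_c L128117) q3989, e3 q4818 (flp_c L136274) q5757, e3 q4819 (flp_c L136282) q5758, e3 q4820 L128149 q3992, e3 q4821 L128158 q3993, e3 q4822 (flp_c L136327) q5763, e3 q4823 (flp_c L136335) q5764, e3 q4824 (flp_c L136345) q5765, e3 q4825 L136375 q5769, e3 q4826 L128197 q4826, e3 q4827 (flp_c L128199) q3995, e3 q4828 (flp_c L136403) q5773, e3 q4829 (flp_c L136410) q5774, e3 q4830 L128221 q4830, e3 q4831 L128229 q4831, e3 q4832 L128236 q4832, e3 q4833 L128244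 q4833, e3 q4834 L128251 q4834, e3 q4835 L128258 q4835, e3 q4836 L128267 q4386, e3 q4837 L128273 q4003, e3 q4838 (flp_c L136490) q5785, e3 q4839 (flp_c L128284) q4004, e3 q4840 (flp_c L130694) q5123, e3 q4841 (flp_c L136496) q5786, e3 q4842 L128304 q4007, e3 q4843 L128309 q4008, e3 q4844 (flp_c L130567) q5110, e3 q4845 (flp_c L136514) q5789, e3 q4846 (flp_c L136521) q5790, e3 q4847 L128335 q4847, e3 q4848 L128343 q4848, e3 q4849 L128352 q4849, e3 q4850 L128360 q4850, e3 q4851 L128368 q4851, e3 q4852 L136577 q5798, e3 q4853 L128380 q4016, e3 q4854 L128388 q4018, e3 q4855 L136598 q5802, e3 q4856 (flp_c L136595) q5801, e3 q4857 (flp_c L128402) q4019, e3 q4858 (flp_c L136617) q5805, e3 q4859 (flp_c L136621) q5806, e3 q4860 L128422 q4022, e3 q4861 L128429 q4023, e3 q4862 (flp_c L136653) q5811, e3 q4863 (flp_c L136662) q5812, trivial⟩ (by decide +kernel)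

theorem ce_c_76 : ∀ r, r < 64 → sm gc (Qf (4864 + r)) = Qf (tab Gen.c (4864 + r)) :=
  edges_tab (sm gc) Qf (tab Gen.c) 4864 [(4864, 5813), (4865, 5366), (4866, 4026), (4867, 4027), (4868, 4028), (4869, 5820), (4870, 5821), (4871, 5822), (4872, 5442), (4873, 5443), (4874, 5450), (4875, 5451), (4876, 5452), (4877, 4064), (4878, 4065), (4879, 4066), (4880, 4067), (4881, 4068), (4882, 5838), (4883, 5472), (4884, 5341), (4885, 5473), (4886, 5483), (4887, 5484), (4888, 5485), (4889, 4070), (4890, 4071), (4891, 5846), (4892, 4073), (4893, 5848), (4894, 4049), (4895, 5511), (4896, 4051), (4897, 5532), (4898, 4054), (4899, 4055), (4900, 4056), (4901, 5856), (4902, 5857), (4903, 5858), (4904, 4904), (4905, 4905), (4906, 4906), (4907, 4061), (4908, 4062), (4909, 4063), (4910, 4910), (4911, 5869), (4912, 5870), (4913, 5875), (4914, 5833), (4915, 5834), (4916, 5878), (4917, 5836), (4918, 5880), (4919, 4069), (4920, 5844), (4921, 5884), (4922, 4072), (4923, 5887), (4924, 4074), (4925, 5890), (4926,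 4926), (4927, 5185)]
    ⟨e3 q4864 (flp_c L136670) q5813, e3 q4865 (flp_c L132970) q5366, e3 q4866 L128466 q4026, e3 q4867 L128473 q4027, e3 q4868 L128482 q4028, e3 q4869 (flp_c L136724) q5820, e3 q4870 (flp_c L136732) q5821, e3 q4871 (flp_c L136740) q5822, e3 q4872 (flp_c L133563) q5442, e3 q4873 (flp_c L133575) q5443, e3 q4874 (flp_c L133636) q5450, e3 q4875 (flp_c L133644) q5451, e3 q4876 (flp_c L133656) q5452, e3 q4877 L128541 q4064, e3 q4878 L128550 q4065, e3 q4879 L128560 q4066, e3 q4880 L128569 q4067, e3 q4881 L128578 q4068, e3 q4882 L136857 q5838, e3 q4883 (flp_c L133836) q5472, e3 q4884 L132749 q5341, e3 q4885 (flp_c L133844) q5473, e3 q4886 (flp_c L133919) q5483, e3 q4887 (flp_c L133927) q5484, e3 q4888 (flp_c L133935) q5485, e3 q4889 L128619 q4070, e3 q4890 L128627 q4071, e3 q4891 L136904 q5846, e3 q4892 L128639 q4073, e3 q4893 L136915 q5848, e3 q4894 (flp_c L128650) q4049, e3 q4895 (flp_c L134146) q5511, e3 q4896 L128664 q4051, e3 q4897 (flp_c L134326) q5532, e3 q4898 L128675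 q4054, e3 q4899 L128683 q4055, e3 q4900 L128690 q4056, e3 q4901 (flp_c L136963) q5856, e3 q4902 (flp_c L136971) q5857, e3 q4903 (flp_c L136980) q5858, e3 q4904 L128723 q4904, e3 q4905 L128729 q4905, e3 q4906 L128737 q4906, e3 q4907 L128746 q4061, e3 q4908 L128753 q4062, e3 q4909 L128760 q4063, e3 q4910 L128771 q4910, e3 q4911 (flp_c L137066) q5869, e3 q4912 (flp_c L137074) q5870, e3 q4913 L137110 q5875, e3 q4914 (flp_c L136818) q5833, e3 q4915 (flp_c L136828) q5834, e3 q4916 L137133 q5878, e3 q4917 (flp_c L136844) q5836, e3 q4918 L137148 q5880, e3 q4919 (flp_c L128839) q4069, e3 q4920 (flp_c L136892) q5844, e3 q4921 L137175 q5884, e3 q4922 (flp_c L128861) q4072, e3 q4923 L137192 q5887, e3 q4924 (flp_c L128873) q4074, e3 q4925 (flp_c L137215) q5890, e3 q4926 L128891 q4926, e3 q4927 (flp_c L131289) q5185, trivial⟩ (by decide +kernel)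

theorem ce_c_77 : ∀ r, r < 64 → sm gc (Qf (4928 + r)) = Qf (tab Gen.c (4928 + r)) :=
  edges_tab (sm gc) Qf (tab Gen.c) 4928 [(4928, 5700), (4929, 5186), (4930, 4078), (4931, 5895), (4932, 5896), (4933, 4088), (4934, 4124), (4935, 4089), (4936, 4126), (4937, 4127), (4938, 4128), (4939, 4129), (4940, 4130), (4941, 4739), (4942, 4617), (4943, 4087), (4944, 5909), (4945, 4147), (4946, 4148), (4947, 4149), (4948, 4150), (4949, 4151), (4950, 4152), (4951, 4153), (4952, 4546), (4953, 4106), (4954, 4101), (4955, 5920), (4956, 4102), (4957, 4300), (4958, 5921), (4959, 4684), (4960, 4105), (4961, 5926), (4962, 5918), (4963, 5919), (4964, 4108), (4965, 4109), (4966, 5640), (4967, 5930), (4968, 5178), (4969, 5210), (4970, 5938), (4971, 5212), (4972, 5638), (4973, 5213), (4974, 4113), (4975, 5943), (4976, 5944), (4977, 4116), (4978, 4117), (4979, 5949), (4980, 5950), (4981, 5951), (4982, 4982), (4983, 4983), (4984, 5958), (4985, 4985), (4986, 4131), (4987, 5963), (4988, 4133), (4989, 4122), (4990,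 5967), (4991, 5968)]
    ⟨e3 q4928 (flp_c L135781) q5700, e3 q4929 (flp_c L131301) q5186, e3 q4930 (flp_c L128920) q4078, e3 q4931 (flp_c L137264) q5895, e3 q4932 (flp_c L137273) q5896, e3 q4933 L128947 q4088, e3 q4934 L128964 q4124, e3 q4935 L128973 q4089, e3 q4936 L128985 q4126, e3 q4937 L128996 q4127, e3 q4938 L129006 q4128, e3 q4939 L129014 q4129, e3 q4940 L129024 q4130, e3 q4941 L129037 q4739, e3 q4942 L129046 q4617, e3 q4943 (flp_c L129055) q4087, e3 q4944 (flp_c L137406) q5909, e3 q4945 L129079 q4147, e3 q4946 L129091 q4148, e3 q4947 L129103 q4149, e3 q4948 L129114 q4150, e3 q4949 L129123 q4151, e3 q4950 L129133 q4152, e3 q4951 L129141 q4153, e3 q4952 L129151 q4546, e3 q4953 L129171 q4106, e3 q4954 L129175 q4101, e3 q4955 (flp_c L137542) q5920, e3 q4956 (flp_c L129193) q4102, e3 q4957 L129210 q4300, e3 q4958 (flp_c L137556) q5921, e3 q4959 L129236 q4684, e3 q4960 L129240 q4105, e3 q4961 (flp_c L137618) q5926, e3 q4962 (flp_c L137517) q5918, e3 q4963 (flp_c L137531) q5919, e3 q4964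 L129272 q4108, e3 q4965 (flp_c L129278) q4109, e3 q4966 (flp_c L135297) q5640, e3 q4967 (flp_c L137652) q5930, e3 q4968 (flp_c L131196) q5178, e3 q4969 (flp_c L131563) q5210, e3 q4970 L137732 q5938, e3 q4971 (flp_c L131583) q5212, e3 q4972 (flp_c L135276) q5638, e3 q4973 (flp_c L131597) q5213, e3 q4974 (flp_c L129370) q4113, e3 q4975 (flp_c L137782) q5943, e3 q4976 (flp_c L137789) q5944, e3 q4977 L129398 q4116, e3 q4978 L129406 q4117, e3 q4979 (flp_c L137832) q5949, e3 q4980 (flp_c L137839) q5950, e3 q4981 (flp_c L137848) q5951, e3 q4982 L129443 q4982, e3 q4983 L129456 q4983, e3 q4984 L137911 q5958, e3 q4985 L129472 q4985, e3 q4986 L129482 q4131, e3 q4987 L137956 q5963, e3 q4988 L129499 q4133, e3 q4989 (flp_c L129507) q4122, e3 q4990 (flp_c L137996) q5967, e3 q4991 (flp_c L138006) q5968, trivial⟩ (by decide +kernel)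

theorem ce_c_78 : ∀ r, r < 64 → sm gc (Qf (4992 + r)) = Qf (tab Gen.c (4992 + r)) :=
  edges_tab (sm gc) Qf (tab Gen.c) 4992 [(4992, 4800), (4993, 5900), (4994, 5901), (4995, 5902), (4996, 5903), (4997, 5904), (4998, 5905), (4999, 5906), (5000, 5980), (5001, 5962), (5002, 4132), (5003, 5984), (5004, 5234), (5005, 4135), (5006, 5988), (5007, 5007), (5008, 5991), (5009, 5009), (5010, 4138), (5011, 5995), (5012, 5996), (5013, 6000), (5014, 4155), (5015, 4141), (5016, 4744), (5017, 6004), (5018, 4221), (5019, 4144), (5020, 4145), (5021, 6010), (5022, 6011), (5023, 6012), (5024, 4635), (5025, 5911), (5026, 4804), (5027, 5912), (5028, 5913), (5029, 5914), (5030, 5915), (5031, 6022), (5032, 4154), (5033, 4701), (5034, 6023), (5035, 4163), (5036, 4157), (5037, 6028), (5038, 4166), (5039, 4167), (5040, 4160), (5041, 4302), (5042, 4344), (5043, 6026), (5044, 6027), (5045, 4165), (5046, 6029), (5047, 6030), (5048, 4170), (5049, 4171), (5050, 6036), (5051, 6037), (5052, 6044), (5053, 6039), (5054,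 5102), (5055, 6049)]
    ⟨e3 q4992 L129533 q4800, e3 q4993 (flp_c L137304) q5900, e3 q4994 (flp_c L137317) q5901, e3 q4995 (flp_c L137330) q5902, e3 q4996 (flp_c L137342) q5903, e3 q4997 (flp_c L137352) q5904, e3 q4998 (flp_c L137363) q5905, e3 q4999 (flp_c L137372) q5906, e3 q5000 L138110 q5980, e3 q5001 (flp_c L137947) q5962, e3 q5002 (flp_c L129615) q4132, e3 q5003 (flp_c L138156) q5984, e3 q5004 (flp_c L131822) q5234, e3 q5005 L129641 q4135, e3 q5006 (flp_c L138188) q5988, e3 q5007 L129658 q5007, e3 q5008 L138220 q5991, e3 q5009 L129677 q5009, e3 q5010 (flp_c L129683) q4138, e3 q5011 (flp_c L138271) q5995, e3 q5012 (flp_c L138283) q5996, e3 q5013 L138318 q6000, e3 q5014 L129717 q4155, e3 q5015 (flp_c L129726) q4141, e3 q5016 L129738 q4744, e3 q5017 (flp_c L138371) q6004, e3 q5018 L129760 q4221, e3 q5019 L129764 q4144, e3 q5020 L129772 q4145, e3 q5021 (flp_c L138437) q6010, e3 q5022 (flp_c L138449) q6011, e3 q5023 (flp_c L138459) q6012, e3 q5024 L129806 q4635, e3 q5025 (flp_c L137427)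 q5911, e3 q5026 L129828 q4804, e3 q5027 (flp_c L137439) q5912, e3 q5028 (flp_c L137454) q5913, e3 q5029 (flp_c L137468) q5914, e3 q5030 (flp_c L137481) q5915, e3 q5031 L138561 q6022, e3 q5032 (flp_c L129876) q4154, e3 q5033 L129891 q4701, e3 q5034 (flp_c L138573) q6023, e3 q5035 L129918 q4163, e3 q5036 L129922 q4157, e3 q5037 (flp_c L138644) q6028, e3 q5038 L129939 q4166, e3 q5039 L129948 q4167, e3 q5040 L129954 q4160, e3 q5041 L129963 q4302, e3 q5042 L129972 q4344, e3 q5043 (flp_c L138621) q6026, e3 q5044 (flp_c L138634) q6027, e3 q5045 L130006 q4165, e3 q5046 (flp_c L138657) q6029, e3 q5047 (flp_c L138665) q6030, e3 q5048 L130034 q4170, e3 q5049 L130043 q4171, e3 q5050 (flp_c L138728) q6036, e3 q5051 (flp_c L138738) q6037, e3 q5052 L138797 q6044, e3 q5053 (flp_c L138753) q6039, e3 q5054 (flp_c L130485) q5102, e3 q5055 L138837 q6049, trivial⟩ (by decide +kernel)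

theorem ce_c_79 : ∀ r, r < 64 → sm gc (Qf (5056 + r)) = Qf (tab Gen.c (5056 + r)) :=
  edges_tab (sm gc) Qf (tab Gen.c) 5056 [(5056, 5355), (5057, 4174), (5058, 6053), (5059, 6054), (5060, 4176), (5061, 6058), (5062, 6059), (5063, 4179), (5064, 4180), (5065, 6064), (5066, 6065), (5067, 6066), (5068, 4484), (5069, 4183), (5070, 4184), (5071, 4185), (5072, 6073), (5073, 6074), (5074, 6075), (5075, 4257), (5076, 4258), (5077, 6083), (5078, 4260), (5079, 4188), (5080, 6087), (5081, 6088), (5082, 4439), (5083, 4204), (5084, 4191), (5085, 6095), (5086, 6096), (5087, 6052), (5088, 4194), (5089, 4195), (5090, 6103), (5091, 6104), (5092, 6105), (5093, 5093), (5094, 5094), (5095, 5095), (5096, 5096), (5097, 5097), (5098, 5098), (5099, 5099), (5100, 5100), (5101, 6117), (5102, 5054), (5103, 4206), (5104, 5259), (5105, 5386), (5106, 4270), (5107, 4334), (5108, 4271), (5109, 4211), (5110, 4844), (5111, 6123), (5112, 5994), (5113, 4214), (5114, 4215), (5115, 6128), (5116, 6129), (5117, 6130), (5118,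 4329), (5119, 4455)]
    ⟨e3 q5056 (flp_c L132869) q5355, e3 q5057 (flp_c L130107) q4174, e3 q5058 (flp_c L138865) q6053, e3 q5059 (flp_c L138869) q6054, e3 q5060 (flp_c L130125) q4176, e3 q5061 (flp_c L138900) q6058, e3 q5062 (flp_c L138908) q6059, e3 q5063 L130151 q4179, e3 q5064 L130157 q4180, e3 q5065 (flp_c L138945) q6064, e3 q5066 (flp_c L138953) q6065, e3 q5067 (flp_c L138960) q6066, e3 q5068 L130187 q4484, e3 q5069 L130192 q4183, e3 q5070 L130198 q4184, e3 q5071 L130206 q4185, e3 q5072 (flp_c L139012) q6073, e3 q5073 (flp_c L139019) q6074, e3 q5074 (flp_c L139026) q6075, e3 q5075 L130238 q4257, e3 q5076 L130250 q4258, e3 q5077 L139104 q6083, e3 q5078 L130268 q4260, e3 q5079 (flp_c L130275) q4188, e3 q5080 (flp_c L139151) q6087, e3 q5081 (flp_c L139163) q6088, e3 q5082 L130308 q4439, e3 q5083 L130314 q4204, e3 q5084 (flp_c L130323) q4191, e3 q5085 (flp_c L139232) q6095, e3 q5086 (flp_c L139245) q6096, e3 q5087 (flp_c L138861) q6052, e3 q5088 L130359 q4194, e3 q5089 L130366 q4195,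 e3 q5090 (flp_c L139308) q6103, e3 q5091 (flp_c L139317) q6104, e3 q5092 (flp_c L139326) q6105, e3 q5093 L130400 q5093, e3 q5094 L130407 q5094, e3 q5095 L130416 q5095, e3 q5096 L130427 q5096, e3 q5097 L130435 q5097, e3 q5098 L130444 q5098, e3 q5099 L130452 q5099, e3 q5100 L130462 q5100, e3 q5101 L139425 q6117, e3 q5102 L130485 q5054, e3 q5103 L130491 q4206, e3 q5104 (flp_c L132050) q5259, e3 q5105 (flp_c L133139) q5386, e3 q5106 L130520 q4270, e3 q5107 L130535 q4334, e3 q5108 L130543 q4271, e3 q5109 (flp_c L130551) q4211, e3 q5110 L130567 q4844, e3 q5111 (flp_c L139502) q6123, e3 q5112 (flp_c L138263) q5994, e3 q5113 L130598 q4214, e3 q5114 L130608 q4215, e3 q5115 (flp_c L139559) q6128, e3 q5116 (flp_c L139573) q6129, e3 q5117 (flp_c L139583) q6130, e3 q5118 L130636 q4329, e3 q5119 L130647 q4455, trivial⟩ (by decide +kernel)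

theorem ce_c_80 : ∀ r, r < 64 → sm gc (Qf (5120 + r)) = Qf (tab Gen.c (5120 + r)) :=
  edges_tab (sm gc) Qf (tab Gen.c) 5120 [(5120, 6003), (5121, 4219), (5122, 4220), (5123, 4840), (5124, 6138), (5125, 6139), (5126, 6007), (5127, 6008), (5128, 6009), (5129, 4224), (5130, 4225), (5131, 4226), (5132, 6148), (5133, 6149), (5134, 6150), (5135, 5135), (5136, 5136), (5137, 5137), (5138, 5138), (5139, 5139), (5140, 6159), (5141, 5141), (5142, 5917), (5143, 4235), (5144, 4240), (5145, 4241), (5146, 4242), (5147, 6160), (5148, 4245), (5149, 4246), (5150, 6165), (5151, 4248), (5152, 6161), (5153, 6162), (5154, 6170), (5155, 6164), (5156, 4247), (5157, 6174), (5158, 6175), (5159, 4249), (5160, 6178), (5161, 4266), (5162, 4251), (5163, 4253), (5164, 6181), (5165, 4256), (5166, 6080), (5167, 6082), (5168, 4259), (5169, 4322), (5170, 6184), (5171, 6173), (5172, 4262), (5173, 4263), (5174, 6189), (5175, 6177), (5176, 6179), (5177, 6180), (5178, 4968), (5179, 6121), (5180, 4274), (5181, 4337), (5182,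 5182), (5183, 5183)]
    ⟨e3 q5120 (flp_c L138367) q6003, e3 q5121 L130671 q4219, e3 q5122 L130682 q4220, e3 q5123 L130694 q4840, e3 q5124 (flp_c L139664) q6138, e3 q5125 (flp_c L139675) q6139, e3 q5126 (flp_c L138403) q6007, e3 q5127 (flp_c L138413) q6008, e3 q5128 (flp_c L138427) q6009, e3 q5129 L130741 q4224, e3 q5130 L130748 q4225, e3 q5131 L130755 q4226, e3 q5132 (flp_c L139764) q6148, e3 q5133 (flp_c L139775) q6149, e3 q5134 (flp_c L139784) q6150, e3 q5135 L130781 q5135, e3 q5136 L130790 q5136, e3 q5137 L130796 q5137, e3 q5138 L130804 q5138, e3 q5139 L130811 q5139, e3 q5140 L139855 q6159, e3 q5141 L130824 q5141, e3 q5142 (flp_c L137505) q5917, e3 q5143 (flp_c L130836) q4235, e3 q5144 L130847 q4240, e3 q5145 L130860 q4241, e3 q5146 L130873 q4242, e3 q5147 (flp_c L139865) q6160, e3 q5148 L130894 q4245, e3 q5149 L130903 q4246, e3 q5150 L139908 q6165, e3 q5151 L130916 q4248, e3 q5152 (flp_c L139877) q6161, e3 q5153 (flp_c L139887) q6162, e3 q5154 L139951 q6170, e3 q5155 (flp_c L139901)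 q6164, e3 q5156 (flp_c L130967) q4247, e3 q5157 (flp_c L139996) q6174, e3 q5158 (flp_c L140004) q6175, e3 q5159 (flp_c L130992) q4249, e3 q5160 (flp_c L140038) q6178, e3 q5161 L131020 q4266, e3 q5162 L131025 q4251, e3 q5163 L131032 q4253, e3 q5164 (flp_c L140072) q6181, e3 q5165 L131054 q4256, e3 q5166 (flp_c L139069) q6080, e3 q5167 (flp_c L139096) q6082, e3 q5168 (flp_c L131086) q4259, e3 q5169 L131102 q4322, e3 q5170 (flp_c L140107) q6184, e3 q5171 (flp_c L139991) q6173, e3 q5172 L131133 q4262, e3 q5173 L131146 q4263, e3 q5174 (flp_c L140167) q6189, e3 q5175 (flp_c L140027) q6177, e3 q5176 (flp_c L140048) q6179, e3 q5177 (flp_c L140063) q6180, e3 q5178 L131196 q4968, e3 q5179 (flp_c L139475) q6121, e3 q5180 L131225 q4274, e3 q5181 L131238 q4337, e3 q5182 L131251 q5182, e3 q5183 L131264 q5183, trivial⟩ (by decide +kernel)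

theorem ce_c_81 : ∀ r, r < 64 → sm gc (Qf (5184 + r)) = Qf (tab Gen.c (5184 + r)) :=
  edges_tab (sm gc) Qf (tab Gen.c) 5184 [(5184, 4278), (5185, 4927), (5186, 4929), (5187, 4283), (5188, 6192), (5189, 6193), (5190, 4291), (5191, 4323), (5192, 6195), (5193, 4755), (5194, 4290), (5195, 6198), (5196, 4647), (5197, 4756), (5198, 4296), (5199, 6201), (5200, 4303), (5201, 4299), (5202, 6205), (5203, 5922), (5204, 6032), (5205, 6203), (5206, 6204), (5207, 4305), (5208, 4306), (5209, 6210), (5210, 4969), (5211, 6215), (5212, 4971), (5213, 4973), (5214, 4310), (5215, 6218), (5216, 6219), (5217, 4313), (5218, 4314), (5219, 6222), (5220, 6223), (5221, 6224), (5222, 6092), (5223, 5223), (5224, 6228), (5225, 4326), (5226, 4317), (5227, 6081), (5228, 6231), (5229, 4557), (5230, 6185), (5231, 4765), (5232, 4325), (5233, 6237), (5234, 5004), (5235, 4328), (5236, 6241), (5237, 6134), (5238, 4331), (5239, 6243), (5240, 4395), (5241, 4335), (5242, 6122), (5243, 6247), (5244, 4560), (5245, 6200), (5246,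 4340), (5247, 6249)]
    ⟨e3 q5184 L131275 q4278, e3 q5185 L131289 q4927, e3 q5186 L131301 q4929, e3 q5187 (flp_c L131310) q4283, e3 q5188 (flp_c L140205) q6192, e3 q5189 (flp_c L140215) q6193, e3 q5190 L131347 q4291, e3 q5191 L131359 q4323, e3 q5192 L140235 q6195, e3 q5193 L131384 q4755, e3 q5194 (flp_c L131391) q4290, e3 q5195 (flp_c L140272) q6198, e3 q5196 L131417 q4647, e3 q5197 L131426 q4756, e3 q5198 (flp_c L131433) q4296, e3 q5199 (flp_c L140307) q6201, e3 q5200 L131466 q4303, e3 q5201 L131470 q4299, e3 q5202 (flp_c L140364) q6205, e3 q5203 (flp_c L137570) q5922, e3 q5204 (flp_c L138683) q6032, e3 q5205 (flp_c L140335) q6203, e3 q5206 (flp_c L140349) q6204, e3 q5207 L131524 q4305, e3 q5208 (flp_c L131530) q4306, e3 q5209 (flp_c L140428) q6210, e3 q5210 L131563 q4969, e3 q5211 L140490 q6215, e3 q5212 L131583 q4971, e3 q5213 L131597 q4973, e3 q5214 (flp_c L131606) q4310, e3 q5215 (flp_c L140526) q6218, e3 q5216 (flp_c L140538) q6219, e3 q5217 L131648 q4313, e3 q5218 L131657 q4314,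 e3 q5219 (flp_c L140573) q6222, e3 q5220 (flp_c L140581) q6223, e3 q5221 (flp_c L140592) q6224, e3 q5222 (flp_c L139199) q6092, e3 q5223 L131712 q5223, e3 q5224 L140632 q6228, e3 q5225 L131735 q4326, e3 q5226 (flp_c L131743) q4317, e3 q5227 (flp_c L139086) q6081, e3 q5228 (flp_c L140664) q6231, e3 q5229 L131773 q4557, e3 q5230 (flp_c L140121) q6185, e3 q5231 L131793 q4765, e3 q5232 (flp_c L131800) q4325, e3 q5233 (flp_c L140722) q6237, e3 q5234 L131822 q5004, e3 q5235 L131828 q4328, e3 q5236 (flp_c L140758) q6241, e3 q5237 (flp_c L139617) q6134, e3 q5238 (flp_c L131855) q4331, e3 q5239 (flp_c L140779) q6243, e3 q5240 L131881 q4395, e3 q5241 L131885 q4335, e3 q5242 (flp_c L139488) q6122, e3 q5243 (flp_c L140819) q6247, e3 q5244 L131913 q4560, e3 q5245 (flp_c L140292) q6200, e3 q5246 L131934 q4340, e3 q5247 (flp_c L140839) q6249, trivial⟩ (by decide +kernel)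

theorem ce_c_82 : ∀ r, r < 64 → sm gc (Qf (5248 + r)) = Qf (tab Gen.c (5248 + r)) :=
  edges_tab (sm gc) Qf (tab Gen.c) 5248 [(5248, 4345), (5249, 4346), (5250, 4343), (5251, 6250), (5252, 6251), (5253, 4349), (5254, 4350), (5255, 6254), (5256, 6255), (5257, 6261), (5258, 6257), (5259, 5104), (5260, 6266), (5261, 5471), (5262, 4353), (5263, 6270), (5264, 6271), (5265, 4355), (5266, 6275), (5267, 6276), (5268, 4358), (5269, 4359), (5270, 6280), (5271, 6281), (5272, 6282), (5273, 5948), (5274, 4362), (5275, 4363), (5276, 4364), (5277, 6289), (5278, 6290), (5279, 6291), (5280, 5280), (5281, 6298), (5282, 5282), (5283, 4367), (5284, 6301), (5285, 6302), (5286, 6245), (5287, 4383), (5288, 4370), (5289, 6309), (5290, 6310), (5291, 6269), (5292, 4373), (5293, 4374), (5294, 6317), (5295, 6318), (5296, 6319), (5297, 5297), (5298, 5298), (5299, 5299), (5300, 5300), (5301, 5301), (5302, 5302), (5303, 5303), (5304, 6330), (5305, 5308), (5306, 4385), (5307, 6332), (5308, 5305), (5309, 5784), (5310,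 4388), (5311, 6001)]
    ⟨e3 q5248 L131949 q4345, e3 q5249 L131958 q4346, e3 q5250 L131964 q4343, e3 q5251 (flp_c L140850) q6250, e3 q5252 (flp_c L140858) q6251, e3 q5253 L131991 q4349, e3 q5254 L132002 q4350, e3 q5255 (flp_c L140888) q6254, e3 q5256 (flp_c L140901) q6255, e3 q5257 L140955 q6261, e3 q5258 (flp_c L140917) q6257, e3 q5259 L132050 q5104, e3 q5260 L141000 q6266, e3 q5261 (flp_c L133826) q5471, e3 q5262 (flp_c L132073) q4353, e3 q5263 (flp_c L141036) q6270, e3 q5264 (flp_c L141042) q6271, e3 q5265 (flp_c L132093) q4355, e3 q5266 (flp_c L141073) q6275, e3 q5267 (flp_c L141084) q6276, e3 q5268 L132131 q4358, e3 q5269 L132140 q4359, e3 q5270 (flp_c L141122) q6280, e3 q5271 (flp_c L141133) q6281, e3 q5272 (flp_c L141142) q6282, e3 q5273 (flp_c L137826) q5948, e3 q5274 L132187 q4362, e3 q5275 L132196 q4363, e3 q5276 L132206 q4364, e3 q5277 (flp_c L141210) q6289, e3 q5278 (flp_c L141220) q6290, e3 q5279 (flp_c L141229) q6291, e3 q5280 L132243 q5280, e3 q5281 L141291 q6298, e3 q5282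 L132262 q5282, e3 q5283 (flp_c L132269) q4367, e3 q5284 (flp_c L141321) q6301, e3 q5285 (flp_c L141333) q6302, e3 q5286 (flp_c L140801) q6245, e3 q5287 L132302 q4383, e3 q5288 (flp_c L132307) q4370, e3 q5289 (flp_c L141385) q6309, e3 q5290 (flp_c L141396) q6310, e3 q5291 (flp_c L141030) q6269, e3 q5292 L132341 q4373, e3 q5293 L132348 q4374, e3 q5294 (flp_c L141449) q6317, e3 q5295 (flp_c L141456) q6318, e3 q5296 (flp_c L141465) q6319, e3 q5297 L132374 q5297, e3 q5298 L132382 q5298, e3 q5299 L132393 q5299, e3 q5300 L132402 q5300, e3 q5301 L132411 q5301, e3 q5302 L132422 q5302, e3 q5303 L132430 q5303, e3 q5304 L141557 q6330, e3 q5305 (flp_c L132469) q5308, e3 q5306 L132454 q4385, e3 q5307 (flp_c L141578) q6332, e3 q5308 L132469 q5305, e3 q5309 (flp_c L136483) q5784, e3 q5310 L132486 q4388, e3 q5311 (flp_c L138336) q6001, trivial⟩ (by decide +kernel)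

theorem ce_c_83 : ∀ r, r < 64 → sm gc (Qf (5312 + r)) = Qf (tab Gen.c (5312 + r)) :=
  edges_tab (sm gc) Qf (tab Gen.c) 5312 [(5312, 5312), (5313, 4390), (5314, 6337), (5315, 4521), (5316, 4393), (5317, 4394), (5318, 6013), (5319, 6341), (5320, 6342), (5321, 5989), (5322, 6246), (5323, 4398), (5324, 4399), (5325, 5992), (5326, 6347), (5327, 6348), (5328, 4530), (5329, 4531), (5330, 4532), (5331, 4403), (5332, 4404), (5333, 4405), (5334, 5997), (5335, 6355), (5336, 6356), (5337, 5337), (5338, 5338), (5339, 5339), (5340, 5340), (5341, 4884), (5342, 5342), (5343, 5925), (5344, 4413), (5345, 4415), (5346, 4419), (5347, 4420), (5348, 6252), (5349, 6365), (5350, 4422), (5351, 4423), (5352, 6370), (5353, 6369), (5354, 6372), (5355, 5056), (5356, 4425), (5357, 6375), (5358, 6376), (5359, 4427), (5360, 6380), (5361, 4430), (5362, 4431), (5363, 6382), (5364, 6383), (5365, 6384), (5366, 4865), (5367, 4434), (5368, 4435), (5369, 4436), (5370, 6389), (5371, 6390), (5372, 6391), (5373, 4437), (5374,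 6397), (5375, 6093)]
    ⟨e3 q5312 L132502 q5312, e3 q5313 (flp_c L132509) q4390, e3 q5314 (flp_c L141618) q6337, e3 q5315 L132537 q4521, e3 q5316 L132541 q4393, e3 q5317 L132551 q4394, e3 q5318 (flp_c L138467) q6013, e3 q5319 (flp_c L141657) q6341, e3 q5320 (flp_c L141667) q6342, e3 q5321 L138205 q5989, e3 q5322 (flp_c L140811) q6246, e3 q5323 L132595 q4398, e3 q5324 L132606 q4399, e3 q5325 (flp_c L138237) q5992, e3 q5326 (flp_c L141708) q6347, e3 q5327 (flp_c L141719) q6348, e3 q5328 L132638 q4530, e3 q5329 L132648 q4531, e3 q5330 L132657 q4532, e3 q5331 L132665 q4403, e3 q5332 L132670 q4404, e3 q5333 L132677 q4405, e3 q5334 (flp_c L138292) q5997, e3 q5335 (flp_c L141783) q6355, e3 q5336 (flp_c L141790) q6356, e3 q5337 L132703 q5337, e3 q5338 L132713 q5338, e3 q5339 L132723 q5339, e3 q5340 L132732 q5340, e3 q5341 (flp_c L132749) q4884, e3 q5342 L132755 q5342, e3 q5343 (flp_c L137607) q5925, e3 q5344 (flp_c L132769) q4413, e3 q5345 L132779 q4415, e3 q5346 L132789 q4419, e3 q5347 L132798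 q4420, e3 q5348 (flp_c L140872) q6252, e3 q5349 (flp_c L141872) q6365, e3 q5350 L132823 q4422, e3 q5351 L132835 q4423, e3 q5352 L141909 q6370, e3 q5353 (flp_c L141901) q6369, e3 q5354 L141923 q6372, e3 q5355 L132869 q5056, e3 q5356 (flp_c L132877) q4425, e3 q5357 (flp_c L141947) q6375, e3 q5358 (flp_c L141951) q6376, e3 q5359 (flp_c L132897) q4427, e3 q5360 (flp_c L141986) q6380, e3 q5361 L132925 q4430, e3 q5362 L132932 q4431, e3 q5363 (flp_c L142003) q6382, e3 q5364 (flp_c L142012) q6383, e3 q5365 (flp_c L142021) q6384, e3 q5366 L132970 q4865, e3 q5367 L132977 q4434, e3 q5368 L132984 q4435, e3 q5369 L132992 q4436, e3 q5370 (flp_c L142071) q6389, e3 q5371 (flp_c L142079) q6390, e3 q5372 (flp_c L142086) q6391, e3 q5373 (flp_c L133023) q4437, e3 q5374 (flp_c L142149) q6397, e3 q5375 (flp_c L139212) q6093, trivial⟩ (by decide +kernel)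

theorem ce_c_84 : ∀ r, r < 64 → sm gc (Qf (5376 + r)) = Qf (tab Gen.c (5376 + r)) :=
  edges_tab (sm gc) Qf (tab Gen.c) 5376 [(5376, 6374), (5377, 4442), (5378, 4443), (5379, 6402), (5380, 6403), (5381, 6404), (5382, 5382), (5383, 5383), (5384, 5384), (5385, 6409), (5386, 5105), (5387, 4454), (5388, 6410), (5389, 6135), (5390, 4458), (5391, 4459), (5392, 4460), (5393, 6411), (5394, 6412), (5395, 5395), (5396, 6024), (5397, 4464), (5398, 4467), (5399, 4468), (5400, 6418), (5401, 4470), (5402, 6414), (5403, 6415), (5404, 6423), (5405, 6417), (5406, 4469), (5407, 6427), (5408, 6428), (5409, 4471), (5410, 6432), (5411, 6433), (5412, 4500), (5413, 4474), (5414, 4475), (5415, 6441), (5416, 6442), (5417, 6443), (5418, 4477), (5419, 4478), (5420, 6448), (5421, 6449), (5422, 6450), (5423, 6440), (5424, 4481), (5425, 4482), (5426, 4483), (5427, 6457), (5428, 6458), (5429, 6459), (5430, 6070), (5431, 6071), (5432, 6072), (5433, 4488), (5434, 4489), (5435, 4490), (5436, 6392), (5437, 6470), (5438,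 6471), (5439, 6476)]
    ⟨e3 q5376 (flp_c L141943) q6374, e3 q5377 L133059 q4442, e3 q5378 L133066 q4443, e3 q5379 (flp_c L142190) q6402, e3 q5380 (flp_c L142199) q6403, e3 q5381 (flp_c L142208) q6404, e3 q5382 L133100 q5382, e3 q5383 L133109 q5383, e3 q5384 L133119 q5384, e3 q5385 L142248 q6409, e3 q5386 L133139 q5105, e3 q5387 L133146 q4454, e3 q5388 (flp_c L142264) q6410, e3 q5389 (flp_c L139628) q6135, e3 q5390 L133168 q4458, e3 q5391 L133175 q4459, e3 q5392 L133182 q4460, e3 q5393 (flp_c L142272) q6411, e3 q5394 (flp_c L142281) q6412, e3 q5395 L133200 q5395, e3 q5396 (flp_c L138587) q6024, e3 q5397 (flp_c L133214) q4464, e3 q5398 L133228 q4467, e3 q5399 L133236 q4468, e3 q5400 L142327 q6418, e3 q5401 L133250 q4470, e3 q5402 (flp_c L142297) q6414, e3 q5403 (flp_c L142307) q6415, e3 q5404 L142359 q6423, e3 q5405 (flp_c L142321) q6417, e3 q5406 (flp_c L133287) q4469, e3 q5407 (flp_c L142397) q6427, e3 q5408 (flp_c L142403) q6428, e3 q5409 (flp_c L133305) q4471, e3 q5410 (flp_c L142431)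 q6432, e3 q5411 (flp_c L142439) q6433, e3 q5412 L133333 q4500, e3 q5413 L133337 q4474, e3 q5414 L133341 q4475, e3 q5415 (flp_c L142497) q6441, e3 q5416 (flp_c L142501) q6442, e3 q5417 (flp_c L142507) q6443, e3 q5418 L133365 q4477, e3 q5419 L133375 q4478, e3 q5420 (flp_c L142539) q6448, e3 q5421 (flp_c L142548) q6449, e3 q5422 (flp_c L142560) q6450, e3 q5423 (flp_c L142493) q6440, e3 q5424 L133416 q4481, e3 q5425 L133426 q4482, e3 q5426 L133434 q4483, e3 q5427 (flp_c L142617) q6457, e3 q5428 (flp_c L142627) q6458, e3 q5429 (flp_c L142637) q6459, e3 q5430 (flp_c L138990) q6070, e3 q5431 (flp_c L138997) q6071, e3 q5432 (flp_c L139004) q6072, e3 q5433 L133488 q4488, e3 q5434 L133497 q4489, e3 q5435 L133505 q4490, e3 q5436 (flp_c L142101) q6392, e3 q5437 (flp_c L142728) q6470, e3 q5438 (flp_c L142737) q6471, e3 q5439 L142788 q6476, trivial⟩ (by decide +kernel)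

theorem ce_c_85 : ∀ r, r < 64 → sm gc (Qf (5440 + r)) = Qf (tab Gen.c (5440 + r)) :=
  edges_tab (sm gc) Qf (tab Gen.c) 5440 [(5440, 4558), (5441, 4559), (5442, 4872), (5443, 4873), (5444, 6426), (5445, 4496), (5446, 4497), (5447, 6482), (5448, 6483), (5449, 6484), (5450, 4874), (5451, 4875), (5452, 4876), (5453, 6437), (5454, 6438), (5455, 6439), (5456, 4503), (5457, 4504), (5458, 4505), (5459, 6496), (5460, 6497), (5461, 6498), (5462, 4610), (5463, 4611), (5464, 4612), (5465, 4613), (5466, 4614), (5467, 6506), (5468, 4616), (5469, 5907), (5470, 4514), (5471, 5261), (5472, 4883), (5473, 4885), (5474, 6339), (5475, 6140), (5476, 6340), (5477, 4524), (5478, 4525), (5479, 4526), (5480, 6145), (5481, 6512), (5482, 6513), (5483, 4886), (5484, 4887), (5485, 4888), (5486, 6351), (5487, 6352), (5488, 6131), (5489, 6353), (5490, 6354), (5491, 4536), (5492, 4537), (5493, 4538), (5494, 6523), (5495, 6524), (5496, 6528), (5497, 4631), (5498, 4632), (5499, 4634), (5500, 6005), (5501, 4544), (5502,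 4551), (5503, 6532)]
    ⟨e3 q5440 L133545 q4558, e3 q5441 L133555 q4559, e3 q5442 L133563 q4872, e3 q5443 L133575 q4873, e3 q5444 (flp_c L142393) q6426, e3 q5445 L133593 q4496, e3 q5446 L133604 q4497, e3 q5447 (flp_c L142852) q6482, e3 q5448 (flp_c L142861) q6483, e3 q5449 (flp_c L142872) q6484, e3 q5450 L133636 q4874, e3 q5451 L133644 q4875, e3 q5452 L133656 q4876, e3 q5453 (flp_c L142467) q6437, e3 q5454 (flp_c L142477) q6438, e3 q5455 (flp_c L142485) q6439, e3 q5456 L133688 q4503, e3 q5457 L133696 q4504, e3 q5458 L133708 q4505, e3 q5459 (flp_c L142978) q6496, e3 q5460 (flp_c L142988) q6497, e3 q5461 (flp_c L142998) q6498, e3 q5462 L133736 q4610, e3 q5463 L133747 q4611, e3 q5464 L133756 q4612, e3 q5465 L133768 q4613, e3 q5466 L133778 q4614, e3 q5467 L143066 q6506, e3 q5468 L133796 q4616, e3 q5469 (flp_c L137382) q5907, e3 q5470 (flp_c L133811) q4514, e3 q5471 L133826 q5261, e3 q5472 L133836 q4883, e3 q5473 L133844 q4885, e3 q5474 (flp_c L141639) q6339, e3 q5475 (flp_c L139687) q6140,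 e3 q5476 (flp_c L141650) q6340, e3 q5477 L133877 q4524, e3 q5478 L133884 q4525, e3 q5479 L133893 q4526, e3 q5480 (flp_c L139736) q6145, e3 q5481 (flp_c L143125) q6512, e3 q5482 (flp_c L143132) q6513, e3 q5483 L133919 q4886, e3 q5484 L133927 q4887, e3 q5485 L133935 q4888, e3 q5486 (flp_c L141747) q6351, e3 q5487 (flp_c L141756) q6352, e3 q5488 (flp_c L139593) q6131, e3 q5489 (flp_c L141766) q6353, e3 q5490 (flp_c L141777) q6354, e3 q5491 L133981 q4536, e3 q5492 L133989 q4537, e3 q5493 L133997 q4538, e3 q5494 (flp_c L143208) q6523, e3 q5495 (flp_c L143218) q6524, e3 q5496 L143238 q6528, e3 q5497 L134019 q4631, e3 q5498 L134030 q4632, e3 q5499 L134039 q4634, e3 q5500 (flp_c L138383) q6005, e3 q5501 (flp_c L134053) q4544, e3 q5502 L134062 q4551, e3 q5503 L143273 q6532, trivial⟩ (by decide +kernel)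

theorem ce_c_86 : ∀ r, r < 64 → sm gc (Qf (5504 + r)) = Qf (tab Gen.c (5504 + r)) :=
  edges_tab (sm gc) Qf (tab Gen.c) 5504 [(5504, 4553), (5505, 6531), (5506, 4552), (5507, 5744), (5508, 6535), (5509, 4555), (5510, 6234), (5511, 4895), (5512, 4564), (5513, 4562), (5514, 6540), (5515, 6541), (5516, 4568), (5517, 4566), (5518, 4570), (5519, 6545), (5520, 6546), (5521, 5521), (5522, 4601), (5523, 4602), (5524, 4603), (5525, 4584), (5526, 4576), (5527, 4577), (5528, 4578), (5529, 6557), (5530, 6558), (5531, 6559), (5532, 4897), (5533, 4581), (5534, 4582), (5535, 4583), (5536, 6567), (5537, 6568), (5538, 6569), (5539, 6554), (5540, 6555), (5541, 6556), (5542, 4588), (5543, 4589), (5544, 4590), (5545, 5545), (5546, 6580), (5547, 6581), (5548, 6586), (5549, 5549), (5550, 5550), (5551, 5551), (5552, 5552), (5553, 5553), (5554, 5554), (5555, 4598), (5556, 4599), (5557, 5714), (5558, 5558), (5559, 6593), (5560, 5706), (5561, 4600), (5562, 6548), (5563, 6549), (5564, 6551), (5565, 6552), (5566,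 6553), (5567, 4607)]
    ⟨e3 q5504 L134078 q4553, e3 q5505 (flp_c L143265) q6531, e3 q5506 (flp_c L134097) q4552, e3 q5507 (flp_c L136165) q5744, e3 q5508 (flp_c L143299) q6535, e3 q5509 L134127 q4555, e3 q5510 (flp_c L140692) q6234, e3 q5511 L134146 q4895, e3 q5512 L134151 q4564, e3 q5513 (flp_c L134157) q4562, e3 q5514 (flp_c L143343) q6540, e3 q5515 (flp_c L143353) q6541, e3 q5516 L134183 q4568, e3 q5517 L134188 q4566, e3 q5518 L134195 q4570, e3 q5519 (flp_c L143376) q6545, e3 q5520 (flp_c L143388) q6546, e3 q5521 L134223 q5521, e3 q5522 L134229 q4601, e3 q5523 L134242 q4602, e3 q5524 L134251 q4603, e3 q5525 L134263 q4584, e3 q5526 L134268 q4576, e3 q5527 L134275 q4577, e3 q5528 L134284 q4578, e3 q5529 (flp_c L143487) q6557, e3 q5530 (flp_c L143496) q6558, e3 q5531 (flp_c L143504) q6559, e3 q5532 L134326 q4897, e3 q5533 L134333 q4581, e3 q5534 L134341 q4582, e3 q5535 L134350 q4583, e3 q5536 (flp_c L143583) q6567, e3 q5537 (flp_c L143593) q6568, e3 q5538 (flp_c L143601) q6569, e3 q5539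 (flp_c L143463) q6554, e3 q5540 (flp_c L143470) q6555, e3 q5541 (flp_c L143478) q6556, e3 q5542 L134408 q4588, e3 q5543 L134417 q4589, e3 q5544 L134426 q4590, e3 q5545 L134439 q5545, e3 q5546 (flp_c L143695) q6580, e3 q5547 (flp_c L143704) q6581, e3 q5548 L143743 q6586, e3 q5549 L134471 q5549, e3 q5550 L134475 q5550, e3 q5551 L134482 q5551, e3 q5552 L134490 q5552, e3 q5553 L134498 q5553, e3 q5554 L134505 q5554, e3 q5555 L134510 q4598, e3 q5556 L134518 q4599, e3 q5557 (flp_c L135906) q5714, e3 q5558 L134533 q5558, e3 q5559 (flp_c L143806) q6593, e3 q5560 (flp_c L135832) q5706, e3 q5561 (flp_c L134557) q4600, e3 q5562 (flp_c L143407) q6548, e3 q5563 (flp_c L143417) q6549, e3 q5564 (flp_c L143436) q6551, e3 q5565 (flp_c L143444) q6552, e3 q5566 (flp_c L143454) q6553, e3 q5567 L134611 q4607, trivial⟩ (by decide +kernel)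

theorem ce_c_87 : ∀ r, r < 64 → sm gc (Qf (5568 + r)) = Qf (tab Gen.c (5568 + r)) :=
  edges_tab (sm gc) Qf (tab Gen.c) 5568 [(5568, 4608), (5569, 4609), (5570, 6601), (5571, 6602), (5572, 6606), (5573, 6502), (5574, 6503), (5575, 6609), (5576, 6504), (5577, 5972), (5578, 4615), (5579, 5707), (5580, 5580), (5581, 5581), (5582, 5582), (5583, 5583), (5584, 5584), (5585, 5585), (5586, 4628), (5587, 4629), (5588, 6619), (5589, 6617), (5590, 6016), (5591, 4630), (5592, 6529), (5593, 6017), (5594, 4633), (5595, 4638), (5596, 5596), (5597, 4643), (5598, 4644), (5599, 4645), (5600, 5688), (5601, 5698), (5602, 4650), (5603, 6622), (5604, 4652), (5605, 4651), (5606, 6625), (5607, 4654), (5608, 6628), (5609, 4656), (5610, 6631), (5611, 6627), (5612, 4659), (5613, 4660), (5614, 4661), (5615, 6636), (5616, 6637), (5617, 6638), (5618, 5618), (5619, 5619), (5620, 5620), (5621, 4666), (5622, 4667), (5623, 4668), (5624, 5689), (5625, 6646), (5626, 6647), (5627, 5651), (5628, 4797), (5629, 4796), (5630,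 5630), (5631, 5631)]
    ⟨e3 q5568 L134621 q4608, e3 q5569 L134630 q4609, e3 q5570 (flp_c L143880) q6601, e3 q5571 (flp_c L143891) q6602, e3 q5572 L143923 q6606, e3 q5573 (flp_c L143028) q6502, e3 q5574 (flp_c L143039) q6503, e3 q5575 L143954 q6609, e3 q5576 (flp_c L143050) q6504, e3 q5577 (flp_c L138040) q5972, e3 q5578 (flp_c L134715) q4615, e3 q5579 (flp_c L135845) q5707, e3 q5580 L134737 q5580, e3 q5581 L134744 q5581, e3 q5582 L134753 q5582, e3 q5583 L134762 q5583, e3 q5584 L134771 q5584, e3 q5585 L134779 q5585, e3 q5586 L134787 q4628, e3 q5587 L134796 q4629, e3 q5588 L144038 q6619, e3 q5589 (flp_c L144025) q6617, e3 q5590 (flp_c L138497) q6016, e3 q5591 (flp_c L134824) q4630, e3 q5592 (flp_c L143246) q6529, e3 q5593 (flp_c L138510) q6017, e3 q5594 (flp_c L134851) q4633, e3 q5595 L134865 q4638, e3 q5596 L134875 q5596, e3 q5597 L134881 q4643, e3 q5598 L134889 q4644, e3 q5599 L134900 q4645, e3 q5600 (flp_c L135670) q5688, e3 q5601 (flp_c L135764) q5698, e3 q5602 L134927 q4650, e3 q5603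 L144064 q6622, e3 q5604 L134945 q4652, e3 q5605 (flp_c L134948) q4651, e3 q5606 (flp_c L144096) q6625, e3 q5607 L134975 q4654, e3 q5608 (flp_c L144130) q6628, e3 q5609 L134997 q4656, e3 q5610 (flp_c L144165) q6631, e3 q5611 (flp_c L144121) q6627, e3 q5612 L135025 q4659, e3 q5613 L135034 q4660, e3 q5614 L135045 q4661, e3 q5615 (flp_c L144213) q6636, e3 q5616 (flp_c L144222) q6637, e3 q5617 (flp_c L144233) q6638, e3 q5618 L135086 q5618, e3 q5619 L135094 q5619, e3 q5620 L135102 q5620, e3 q5621 L135112 q4666, e3 q5622 L135120 q4667, e3 q5623 L135129 q4668, e3 q5624 (flp_c L135680) q5689, e3 q5625 (flp_c L144320) q6646, e3 q5626 (flp_c L144330) q6647, e3 q5627 (flp_c L135382) q5651, e3 q5628 L135171 q4797, e3 q5629 L135180 q4796, e3 q5630 L135193 q5630, e3 q5631 L135205 q5631, trivial⟩ (by decide +kernel)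

theorem ce_c_88 : ∀ r, r < 64 → sm gc (Qf (5632 + r)) = Qf (tab Gen.c (5632 + r)) :=
  edges_tab (sm gc) Qf (tab Gen.c) 5632 [(5632, 5632), (5633, 5633), (5634, 5924), (5635, 4677), (5636, 4803), (5637, 5637), (5638, 4972), (5639, 4687), (5640, 4966), (5641, 4689), (5642, 5642), (5643, 5643), (5644, 5644), (5645, 4694), (5646, 4695), (5647, 4696), (5648, 4727), (5649, 6660), (5650, 6661), (5651, 5627), (5652, 5652), (5653, 5981), (5654, 4699), (5655, 6639), (5656, 4706), (5657, 4704), (5658, 6666), (5659, 6667), (5660, 4708), (5661, 4709), (5662, 6672), (5663, 6673), (5664, 4714), (5665, 4711), (5666, 6678), (5667, 6635), (5668, 4713), (5669, 6681), (5670, 6676), (5671, 6677), (5672, 6630), (5673, 4718), (5674, 4719), (5675, 4720), (5676, 6621), (5677, 6688), (5678, 6689), (5679, 6694), (5680, 5680), (5681, 5681), (5682, 5682), (5683, 5683), (5684, 5684), (5685, 5685), (5686, 4728), (5687, 4729), (5688, 5600), (5689, 5624), (5690, 6699), (5691, 6701), (5692, 4730), (5693, 5693), (5694,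 5694), (5695, 4799)]
    ⟨e3 q5632 L135218 q5632, e3 q5633 L135227 q5633, e3 q5634 (flp_c L137593) q5924, e3 q5635 (flp_c L135238) q4677, e3 q5636 L135249 q4803, e3 q5637 L135260 q5637, e3 q5638 L135276 q4972, e3 q5639 L135283 q4687, e3 q5640 L135297 q4966, e3 q5641 L135303 q4689, e3 q5642 L135310 q5642, e3 q5643 L135316 q5643, e3 q5644 L135322 q5644, e3 q5645 L135330 q4694, e3 q5646 L135336 q4695, e3 q5647 L135343 q4696, e3 q5648 L135358 q4727, e3 q5649 (flp_c L144460) q6660, e3 q5650 (flp_c L144472) q6661, e3 q5651 L135382 q5627, e3 q5652 L135391 q5652, e3 q5653 (flp_c L138127) q5981, e3 q5654 (flp_c L135402) q4699, e3 q5655 (flp_c L144248) q6639, e3 q5656 L135424 q4706, e3 q5657 (flp_c L135428) q4704, e3 q5658 (flp_c L144514) q6666, e3 q5659 (flp_c L144520) q6667, e3 q5660 L135450 q4708, e3 q5661 L135457 q4709, e3 q5662 (flp_c L144549) q6672, e3 q5663 (flp_c L144557) q6673, e3 q5664 L135476 q4714, e3 q5665 L135482 q4711, e3 q5666 (flp_c L144591) q6678, e3 q5667 (flp_c L144201) q6635,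 e3 q5668 L135503 q4713, e3 q5669 (flp_c L144611) q6681, e3 q5670 (flp_c L144578) q6676, e3 q5671 (flp_c L144585) q6677, e3 q5672 (flp_c L144157) q6630, e3 q5673 L135535 q4718, e3 q5674 L135543 q4719, e3 q5675 L135553 q4720, e3 q5676 (flp_c L144061) q6621, e3 q5677 (flp_c L144669) q6688, e3 q5678 (flp_c L144679) q6689, e3 q5679 L144710 q6694, e3 q5680 L135588 q5680, e3 q5681 L135594 q5681, e3 q5682 L135604 q5682, e3 q5683 L135615 q5683, e3 q5684 L135626 q5684, e3 q5685 L135637 q5685, e3 q5686 L135648 q4728, e3 q5687 L135657 q4729, e3 q5688 L135670 q5600, e3 q5689 L135680 q5624, e3 q5690 (flp_c L144762) q6699, e3 q5691 L144781 q6701, e3 q5692 (flp_c L135702) q4730, e3 q5693 L135718 q5693, e3 q5694 L135726 q5694, e3 q5695 L135734 q4799, trivial⟩ (by decide +kernel)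

theorem ce_c_89 : ∀ r, r < 64 → sm gc (Qf (5696 + r)) = Qf (tab Gen.c (5696 + r)) :=
  edges_tab (sm gc) Qf (tab Gen.c) 5696 [(5696, 5964), (5697, 4737), (5698, 5601), (5699, 5699), (5700, 4928), (5701, 4749), (5702, 4747), (5703, 5736), (5704, 6706), (5705, 4752), (5706, 5560), (5707, 5579), (5708, 4764), (5709, 5709), (5710, 5710), (5711, 5711), (5712, 5712), (5713, 5713), (5714, 5557), (5715, 5715), (5716, 5716), (5717, 5717), (5718, 4770), (5719, 4771), (5720, 4772), (5721, 5721), (5722, 6720), (5723, 6721), (5724, 6726), (5725, 5725), (5726, 5726), (5727, 5727), (5728, 5728), (5729, 5729), (5730, 5730), (5731, 4780), (5732, 4781), (5733, 6735), (5734, 5734), (5735, 6733), (5736, 5703), (5737, 4782), (5738, 4806), (5739, 4807), (5740, 4808), (5741, 4809), (5742, 4810), (5743, 4793), (5744, 5507), (5745, 6650), (5746, 5974), (5747, 4798), (5748, 6737), (5749, 6738), (5750, 6739), (5751, 4814), (5752, 6744), (5753, 6743), (5754, 4815), (5755, 6748), (5756, 6749), (5757, 4818), (5758,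 4819), (5759, 6754)]
    ⟨e3 q5696 (flp_c L137970) q5964, e3 q5697 (flp_c L135746) q4737, e3 q5698 L135764 q5601, e3 q5699 L135768 q5699, e3 q5700 L135781 q4928, e3 q5701 L135787 q4749, e3 q5702 (flp_c L135793) q4747, e3 q5703 L136092 q5736, e3 q5704 (flp_c L144836) q6706, e3 q5705 L135819 q4752, e3 q5706 L135832 q5560, e3 q5707 L135845 q5579, e3 q5708 L135857 q4764, e3 q5709 L135869 q5709, e3 q5710 L135876 q5710, e3 q5711 L135886 q5711, e3 q5712 L135892 q5712, e3 q5713 L135898 q5713, e3 q5714 L135906 q5557, e3 q5715 L135916 q5715, e3 q5716 L135922 q5716, e3 q5717 L135929 q5717, e3 q5718 L135938 q4770, e3 q5719 L135946 q4771, e3 q5720 L135954 q4772, e3 q5721 L135966 q5721, e3 q5722 (flp_c L144957) q6720, e3 q5723 (flp_c L144967) q6721, e3 q5724 L145004 q6726, e3 q5725 L135999 q5725, e3 q5726 L136010 q5726, e3 q5727 L136020 q5727, e3 q5728 L136030 q5728, e3 q5729 L136038 q5729, e3 q5730 L136043 q5730, e3 q5731 L136048 q4780, e3 q5732 L136057 q4781, e3 q5733 L145078 q6735, e3 q5734 L136069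 q5734, e3 q5735 (flp_c L145063) q6733, e3 q5736 (flp_c L136092) q5703, e3 q5737 (flp_c L136094) q4782, e3 q5738 L136104 q4806, e3 q5739 L136112 q4807, e3 q5740 L136122 q4808, e3 q5741 L136133 q4809, e3 q5742 L136144 q4810, e3 q5743 L136155 q4793, e3 q5744 L136165 q5507, e3 q5745 (flp_c L144356) q6650, e3 q5746 (flp_c L138062) q5974, e3 q5747 (flp_c L136187) q4798, e3 q5748 (flp_c L145098) q6737, e3 q5749 (flp_c L145103) q6738, e3 q5750 (flp_c L145117) q6739, e3 q5751 L136229 q4814, e3 q5752 L145162 q6744, e3 q5753 (flp_c L145159) q6743, e3 q5754 (flp_c L136247) q4815, e3 q5755 (flp_c L145195) q6748, e3 q5756 (flp_c L145201) q6749, e3 q5757 L136274 q4818, e3 q5758 L136282 q4819, e3 q5759 (flp_c L145241) q6754, trivial⟩ (by decide +kernel)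

theorem ce_c_90 : ∀ r, r < 64 → sm gc (Qf (5760 + r)) = Qf (tab Gen.c (5760 + r)) :=
  edges_tab (sm gc) Qf (tab Gen.c) 5760 [(5760, 6755), (5761, 6756), (5762, 6221), (5763, 4822), (5764, 4823), (5765, 4824), (5766, 6763), (5767, 6764), (5768, 6765), (5769, 4825), (5770, 6097), (5771, 6771), (5772, 6747), (5773, 4828), (5774, 4829), (5775, 6084), (5776, 6776), (5777, 6777), (5778, 5778), (5779, 5779), (5780, 5780), (5781, 5781), (5782, 5782), (5783, 6785), (5784, 5309), (5785, 4838), (5786, 4841), (5787, 6141), (5788, 6788), (5789, 4845), (5790, 4846), (5791, 6124), (5792, 6790), (5793, 5793), (5794, 5794), (5795, 6796), (5796, 5796), (5797, 6202), (5798, 4852), (5799, 6031), (5800, 6798), (5801, 4856), (5802, 4855), (5803, 6801), (5804, 6802), (5805, 4858), (5806, 4859), (5807, 6807), (5808, 6808), (5809, 6809), (5810, 6806), (5811, 4862), (5812, 4863), (5813, 4864), (5814, 6816), (5815, 6817), (5816, 6818), (5817, 6386), (5818, 6387), (5819, 6388), (5820, 4869), (5821, 4870), (5822,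 4871), (5823, 6076)]
    ⟨e3 q5760 (flp_c L145251) q6755, e3 q5761 (flp_c L145260) q6756, e3 q5762 (flp_c L140565) q6221, e3 q5763 L136327 q4822, e3 q5764 L136335 q4823, e3 q5765 L136345 q4824, e3 q5766 (flp_c L145332) q6763, e3 q5767 (flp_c L145341) q6764, e3 q5768 (flp_c L145350) q6765, e3 q5769 (flp_c L136375) q4825, e3 q5770 (flp_c L139257) q6097, e3 q5771 (flp_c L145408) q6771, e3 q5772 (flp_c L145189) q6747, e3 q5773 L136403 q4828, e3 q5774 L136410 q4829, e3 q5775 (flp_c L139122) q6084, e3 q5776 (flp_c L145439) q6776, e3 q5777 (flp_c L145448) q6777, e3 q5778 L136436 q5778, e3 q5779 L136444 q5779, e3 q5780 L136453 q5780, e3 q5781 L136461 q5781, e3 q5782 L136469 q5782, e3 q5783 L145504 q6785, e3 q5784 L136483 q5309, e3 q5785 L136490 q4838, e3 q5786 L136496 q4841, e3 q5787 (flp_c L139701) q6141, e3 q5788 (flp_c L145530) q6788, e3 q5789 L136514 q4845, e3 q5790 L136521 q4846, e3 q5791 (flp_c L139514) q6124, e3 q5792 (flp_c L145544) q6790, e3 q5793 L136541 q5793, e3 q5794 L136550 q5794,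 e3 q5795 L145581 q6796, e3 q5796 L136565 q5796, e3 q5797 (flp_c L140323) q6202, e3 q5798 (flp_c L136577) q4852, e3 q5799 (flp_c L138675) q6031, e3 q5800 L145589 q6798, e3 q5801 L136595 q4856, e3 q5802 (flp_c L136598) q4855, e3 q5803 (flp_c L145610) q6801, e3 q5804 (flp_c L145616) q6802, e3 q5805 L136617 q4858, e3 q5806 L136621 q4859, e3 q5807 (flp_c L145646) q6807, e3 q5808 (flp_c L145650) q6808, e3 q5809 (flp_c L145656) q6809, e3 q5810 (flp_c L145640) q6806, e3 q5811 L136653 q4862, e3 q5812 L136662 q4863, e3 q5813 L136670 q4864, e3 q5814 (flp_c L145703) q6816, e3 q5815 (flp_c L145712) q6817, e3 q5816 (flp_c L145722) q6818, e3 q5817 (flp_c L142040) q6386, e3 q5818 (flp_c L142047) q6387, e3 q5819 (flp_c L142059) q6388, e3 q5820 L136724 q4869, e3 q5821 L136732 q4870, e3 q5822 L136740 q4871, e3 q5823 (flp_c L139037) q6076, trivial⟩ (by decide +kernel)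

theorem ce_c_91 : ∀ r, r < 64 → sm gc (Qf (5824 + r)) = Qf (tab Gen.c (5824 + r)) :=
  edges_tab (sm gc) Qf (tab Gen.c) 5824 [(5824, 6829), (5825, 6830), (5826, 6835), (5827, 6477), (5828, 6327), (5829, 6478), (5830, 6488), (5831, 6489), (5832, 6490), (5833, 4914), (5834, 4915), (5835, 6843), (5836, 4917), (5837, 6845), (5838, 4882), (5839, 6363), (5840, 6360), (5841, 6516), (5842, 6517), (5843, 6852), (5844, 4920), (5845, 6854), (5846, 4891), (5847, 6208), (5848, 4893), (5849, 6025), (5850, 6206), (5851, 6537), (5852, 6538), (5853, 6564), (5854, 6565), (5855, 6566), (5856, 4901), (5857, 4902), (5858, 4903), (5859, 5859), (5860, 6867), (5861, 6868), (5862, 6873), (5863, 5863), (5864, 5864), (5865, 5865), (5866, 5866), (5867, 5867), (5868, 5868), (5869, 4911), (5870, 4912), (5871, 6882), (5872, 5872), (5873, 6880), (5874, 6885), (5875, 4913), (5876, 6841), (5877, 6889), (5878, 4916), (5879, 6892), (5880, 4918), (5881, 6895), (5882, 6887), (5883, 6018), (5884, 4921), (5885, 6020), (5886,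 5886), (5887, 4923)]
    ⟨e3 q5824 (flp_c L145819) q6829, e3 q5825 (flp_c L145828) q6830, e3 q5826 L145876 q6835, e3 q5827 (flp_c L142805) q6477, e3 q5828 L141537 q6327, e3 q5829 (flp_c L142815) q6478, e3 q5830 (flp_c L142906) q6488, e3 q5831 (flp_c L142916) q6489, e3 q5832 (flp_c L142926) q6490, e3 q5833 L136818 q4914, e3 q5834 L136828 q4915, e3 q5835 L145943 q6843, e3 q5836 L136844 q4917, e3 q5837 L145958 q6845, e3 q5838 (flp_c L136857) q4882, e3 q5839 L141859 q6363, e3 q5840 L141824 q6360, e3 q5841 (flp_c L143154) q6516, e3 q5842 (flp_c L143164) q6517, e3 q5843 L146007 q6852, e3 q5844 L136892 q4920, e3 q5845 L146016 q6854, e3 q5846 (flp_c L136904) q4891, e3 q5847 (flp_c L140401) q6208, e3 q5848 (flp_c L136915) q4893, e3 q5849 (flp_c L138602) q6025, e3 q5850 (flp_c L140380) q6206, e3 q5851 (flp_c L143317) q6537, e3 q5852 (flp_c L143326) q6538, e3 q5853 (flp_c L143554) q6564, e3 q5854 (flp_c L143561) q6565, e3 q5855 (flp_c L143572) q6566, e3 q5856 L136963 q4901, e3 q5857 L136971 q4902,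 e3 q5858 L136980 q4903, e3 q5859 L136991 q5859, e3 q5860 (flp_c L146109) q6867, e3 q5861 (flp_c L146118) q6868, e3 q5862 L146154 q6873, e3 q5863 L137023 q5863, e3 q5864 L137029 q5864, e3 q5865 L137036 q5865, e3 q5866 L137043 q5866, e3 q5867 L137051 q5867, e3 q5868 L137059 q5868, e3 q5869 L137066 q4911, e3 q5870 L137074 q4912, e3 q5871 L146231 q6882, e3 q5872 L137087 q5872, e3 q5873 (flp_c L146219) q6880, e3 q5874 L146267 q6885, e3 q5875 (flp_c L137110) q4913, e3 q5876 (flp_c L145929) q6841, e3 q5877 L146301 q6889, e3 q5878 (flp_c L137133) q4916, e3 q5879 L146320 q6892, e3 q5880 (flp_c L137148) q4918, e3 q5881 (flp_c L146363) q6895, e3 q5882 (flp_c L146290) q6887, e3 q5883 (flp_c L138524) q6018, e3 q5884 (flp_c L137175) q4921, e3 q5885 (flp_c L138544) q6020, e3 q5886 L137191 q5886, e3 q5887 (flp_c L137192) q4923, trivial⟩ (by decide +kernel)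

theorem ce_c_92 : ∀ r, r < 64 → sm gc (Qf (5888 + r)) = Qf (tab Gen.c (5888 + r)) :=
  edges_tab (sm gc) Qf (tab Gen.c) 5888 [(5888, 6898), (5889, 5889), (5890, 4925), (5891, 5891), (5892, 6191), (5893, 6704), (5894, 6705), (5895, 4931), (5896, 4932), (5897, 6903), (5898, 6879), (5899, 6883), (5900, 4993), (5901, 4994), (5902, 4995), (5903, 4996), (5904, 4997), (5905, 4998), (5906, 4999), (5907, 5469), (5908, 6197), (5909, 4944), (5910, 6914), (5911, 5025), (5912, 5027), (5913, 5028), (5914, 5029), (5915, 5030), (5916, 6896), (5917, 5142), (5918, 4962), (5919, 4963), (5920, 4955), (5921, 4958), (5922, 5203), (5923, 6857), (5924, 5634), (5925, 5343), (5926, 4961), (5927, 6915), (5928, 6916), (5929, 5929), (5930, 4967), (5931, 6654), (5932, 6655), (5933, 6925), (5934, 6921), (5935, 6118), (5936, 6930), (5937, 6214), (5938, 4970), (5939, 6934), (5940, 6935), (5941, 6652), (5942, 6653), (5943, 4975), (5944, 4976), (5945, 6942), (5946, 6943), (5947, 6944), (5948, 5273), (5949, 4979), (5950,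 4980), (5951, 4981)]
    ⟨e3 q5888 (flp_c L146391) q6898, e3 q5889 L137212 q5889, e3 q5890 L137215 q4925, e3 q5891 L137222 q5891, e3 q5892 (flp_c L140192) q6191, e3 q5893 (flp_c L144813) q6704, e3 q5894 (flp_c L144823) q6705, e3 q5895 L137264 q4931, e3 q5896 L137273 q4932, e3 q5897 (flp_c L146451) q6903, e3 q5898 L146214 q6879, e3 q5899 (flp_c L146249) q6883, e3 q5900 L137304 q4993, e3 q5901 L137317 q4994, e3 q5902 L137330 q4995, e3 q5903 L137342 q4996, e3 q5904 L137352 q4997, e3 q5905 L137363 q4998, e3 q5906 L137372 q4999, e3 q5907 L137382 q5469, e3 q5908 (flp_c L140266) q6197, e3 q5909 L137406 q4944, e3 q5910 (flp_c L146586) q6914, e3 q5911 L137427 q5025, e3 q5912 L137439 q5027, e3 q5913 L137454 q5028, e3 q5914 L137468 q5029, e3 q5915 L137481 q5030, e3 q5916 (flp_c L146372) q6896, e3 q5917 L137505 q5142, e3 q5918 L137517 q4962, e3 q5919 L137531 q4963, e3 q5920 L137542 q4955, e3 q5921 L137556 q4958, e3 q5922 L137570 q5203, e3 q5923 (flp_c L146035) q6857, e3 q5924 L137593 q5634, e3 q5925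 L137607 q5343, e3 q5926 L137618 q4961, e3 q5927 (flp_c L146600) q6915, e3 q5928 (flp_c L146613) q6916, e3 q5929 L137645 q5929, e3 q5930 L137652 q4967, e3 q5931 (flp_c L144403) q6654, e3 q5932 (flp_c L144416) q6655, e3 q5933 L146713 q6925, e3 q5934 (flp_c L146673) q6921, e3 q5935 (flp_c L139438) q6118, e3 q5936 L146763 q6930, e3 q5937 (flp_c L140482) q6214, e3 q5938 (flp_c L137732) q4970, e3 q5939 (flp_c L146801) q6934, e3 q5940 (flp_c L146807) q6935, e3 q5941 (flp_c L144380) q6652, e3 q5942 (flp_c L144391) q6653, e3 q5943 L137782 q4975, e3 q5944 L137789 q4976, e3 q5945 (flp_c L146873) q6942, e3 q5946 (flp_c L146882) q6943, e3 q5947 (flp_c L146890) q6944, e3 q5948 L137826 q5273, e3 q5949 L137832 q4979, e3 q5950 L137839 q4980, e3 q5951 L137848 q4981, trivial⟩ (by decide +kernel)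

theorem ce_c_93 : ∀ r, r < 64 → sm gc (Qf (5952 + r)) = Qf (tab Gen.c (5952 + r)) :=
  edges_tab (sm gc) Qf (tab Gen.c) 5952 [(5952, 6949), (5953, 6950), (5954, 6831), (5955, 5955), (5956, 6955), (5957, 5957), (5958, 4984), (5959, 6959), (5960, 6960), (5961, 6964), (5962, 5001), (5963, 4987), (5964, 5696), (5965, 6968), (5966, 6933), (5967, 4990), (5968, 4991), (5969, 6974), (5970, 6975), (5971, 6976), (5972, 5577), (5973, 6906), (5974, 5746), (5975, 6907), (5976, 6908), (5977, 6909), (5978, 6910), (5979, 6847), (5980, 5000), (5981, 5653), (5982, 6987), (5983, 6236), (5984, 5003), (5985, 6992), (5986, 6239), (5987, 6240), (5988, 5006), (5989, 5321), (5990, 5990), (5991, 5008), (5992, 5325), (5993, 6997), (5994, 5112), (5995, 5011), (5996, 5012), (5997, 5334), (5998, 7002), (5999, 7003), (6000, 5013), (6001, 5311), (6002, 7006), (6003, 5120), (6004, 5017), (6005, 5500), (6006, 7011), (6007, 5126), (6008, 5127), (6009, 5128), (6010, 5021), (6011, 5022), (6012, 5023), (6013, 5318), (6014,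 7017), (6015, 7018)]
    ⟨e3 q5952 (flp_c L146937) q6949, e3 q5953 (flp_c L146945) q6950, e3 q5954 L145843 q6831, e3 q5955 L137886 q5955, e3 q5956 L146996 q6955, e3 q5957 L137905 q5957, e3 q5958 (flp_c L137911) q4984, e3 q5959 (flp_c L147041) q6959, e3 q5960 (flp_c L147055) q6960, e3 q5961 L147090 q6964, e3 q5962 L137947 q5001, e3 q5963 (flp_c L137956) q4987, e3 q5964 L137970 q5696, e3 q5965 (flp_c L147139) q6968, e3 q5966 (flp_c L146795) q6933, e3 q5967 L137996 q4990, e3 q5968 L138006 q4991, e3 q5969 (flp_c L147197) q6974, e3 q5970 (flp_c L147211) q6975, e3 q5971 (flp_c L147223) q6976, e3 q5972 L138040 q5577, e3 q5973 (flp_c L146476) q6906, e3 q5974 L138062 q5746, e3 q5975 (flp_c L146489) q6907, e3 q5976 (flp_c L146505) q6908, e3 q5977 (flp_c L146520) q6909, e3 q5978 (flp_c L146534) q6910, e3 q5979 (flp_c L145982) q6847, e3 q5980 (flp_c L138110) q5000, e3 q5981 L138127 q5653, e3 q5982 (flp_c L147340) q6987, e3 q5983 (flp_c L140716) q6236, e3 q5984 L138156 q5003, e3 q5985 (flp_c L147407)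 q6992, e3 q5986 (flp_c L140739) q6239, e3 q5987 (flp_c L140750) q6240, e3 q5988 L138188 q5006, e3 q5989 (flp_c L138205) q5321, e3 q5990 L138211 q5990, e3 q5991 (flp_c L138220) q5008, e3 q5992 L138237 q5325, e3 q5993 (flp_c L147458) q6997, e3 q5994 L138263 q5112, e3 q5995 L138271 q5011, e3 q5996 L138283 q5012, e3 q5997 L138292 q5334, e3 q5998 (flp_c L147520) q7002, e3 q5999 (flp_c L147532) q7003, e3 q6000 (flp_c L138318) q5013, e3 q6001 L138336 q5311, e3 q6002 (flp_c L147563) q7006, e3 q6003 L138367 q5120, e3 q6004 L138371 q5017, e3 q6005 L138383 q5500, e3 q6006 (flp_c L147626) q7011, e3 q6007 L138403 q5126, e3 q6008 L138413 q5127, e3 q6009 L138427 q5128, e3 q6010 L138437 q5021, e3 q6011 L138449 q5022, e3 q6012 L138459 q5023, e3 q6013 L138467 q5318, e3 q6014 (flp_c L147694) q7017, e3 q6015 (flp_c L147706) q7018, trivial⟩ (by decide +kernel)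

theorem ce_c_94 : ∀ r, r < 64 → sm gc (Qf (6016 + r)) = Qf (tab Gen.c (6016 + r)) :=
  edges_tab (sm gc) Qf (tab Gen.c) 6016 [(6016, 5590), (6017, 5593), (6018, 5883), (6019, 7025), (6020, 5885), (6021, 6918), (6022, 5031), (6023, 5034), (6024, 5396), (6025, 5849), (6026, 5043), (6027, 5044), (6028, 5037), (6029, 5046), (6030, 5047), (6031, 5799), (6032, 5204), (6033, 7027), (6034, 7026), (6035, 7029), (6036, 5050), (6037, 5051), (6038, 7037), (6039, 5053), (6040, 7033), (6041, 7034), (6042, 7043), (6043, 7036), (6044, 5052), (6045, 7047), (6046, 7048), (6047, 7052), (6048, 6119), (6049, 5055), (6050, 7056), (6051, 7057), (6052, 5087), (6053, 5058), (6054, 5059), (6055, 7065), (6056, 7066), (6057, 7067), (6058, 5061), (6059, 5062), (6060, 7072), (6061, 7073), (6062, 7074), (6063, 7064), (6064, 5065), (6065, 5066), (6066, 5067), (6067, 7081), (6068, 7082), (6069, 7083), (6070, 5430), (6071, 5431), (6072, 5432), (6073, 5072), (6074, 5073), (6075, 5074), (6076, 5823), (6077, 7092), (6078,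 7093), (6079, 6769)]
    ⟨e3 q6016 L138497 q5590, e3 q6017 L138510 q5593, e3 q6018 L138524 q5883, e3 q6019 L147776 q7025, e3 q6020 L138544 q5885, e3 q6021 (flp_c L146640) q6918, e3 q6022 (flp_c L138561) q5031, e3 q6023 L138573 q5034, e3 q6024 L138587 q5396, e3 q6025 L138602 q5849, e3 q6026 L138621 q5043, e3 q6027 L138634 q5044, e3 q6028 L138644 q5037, e3 q6029 L138657 q5046, e3 q6030 L138665 q5047, e3 q6031 L138675 q5799, e3 q6032 L138683 q5204, e3 q6033 (flp_c L147804) q7027, e3 q6034 (flp_c L147791) q7026, e3 q6035 (flp_c L147827) q7029, e3 q6036 L138728 q5050, e3 q6037 L138738 q5051, e3 q6038 L147909 q7037, e3 q6039 L138753 q5053, e3 q6040 (flp_c L147875) q7033, e3 q6041 (flp_c L147886) q7034, e3 q6042 L147963 q7043, e3 q6043 (flp_c L147902) q7036, e3 q6044 (flp_c L138797) q5052, e3 q6045 (flp_c L147998) q7047, e3 q6046 (flp_c L148004) q7048, e3 q6047 L148034 q7052, e3 q6048 (flp_c L139453) q6119, e3 q6049 (flp_c L138837) q5055, e3 q6050 (flp_c L148075) q7056, e3 q6051 (flp_c L148081)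 q7057, e3 q6052 L138861 q5087, e3 q6053 L138865 q5058, e3 q6054 L138869 q5059, e3 q6055 (flp_c L148141) q7065, e3 q6056 (flp_c L148147) q7066, e3 q6057 (flp_c L148153) q7067, e3 q6058 L138900 q5061, e3 q6059 L138908 q5062, e3 q6060 (flp_c L148191) q7072, e3 q6061 (flp_c L148198) q7073, e3 q6062 (flp_c L148207) q7074, e3 q6063 (flp_c L148137) q7064, e3 q6064 L138945 q5065, e3 q6065 L138953 q5066, e3 q6066 L138960 q5067, e3 q6067 (flp_c L148258) q7081, e3 q6068 (flp_c L148266) q7082, e3 q6069 (flp_c L148275) q7083, e3 q6070 L138990 q5430, e3 q6071 L138997 q5431, e3 q6072 L139004 q5432, e3 q6073 L139012 q5072, e3 q6074 L139019 q5073, e3 q6075 L139026 q5074, e3 q6076 L139037 q5823, e3 q6077 (flp_c L148345) q7092, e3 q6078 (flp_c L148353) q7093, e3 q6079 (flp_c L145395) q6769, trivial⟩ (by decide +kernel)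

theorem ce_c_95 : ∀ r, r < 64 → sm gc (Qf (6080 + r)) = Qf (tab Gen.c (6080 + r)) :=
  edges_tab (sm gc) Qf (tab Gen.c) 6080 [(6080, 5166), (6081, 5227), (6082, 5167), (6083, 5077), (6084, 5775), (6085, 7099), (6086, 7046), (6087, 5080), (6088, 5081), (6089, 7105), (6090, 7106), (6091, 7107), (6092, 5222), (6093, 5375), (6094, 7055), (6095, 5085), (6096, 5086), (6097, 5770), (6098, 7116), (6099, 7117), (6100, 7061), (6101, 7062), (6102, 7063), (6103, 5090), (6104, 5091), (6105, 5092), (6106, 7126), (6107, 7127), (6108, 7128), (6109, 6109), (6110, 6110), (6111, 6111), (6112, 6112), (6113, 6113), (6114, 7137), (6115, 6115), (6116, 6911), (6117, 5101), (6118, 5935), (6119, 6048), (6120, 6265), (6121, 5179), (6122, 5242), (6123, 5111), (6124, 5791), (6125, 7140), (6126, 7000), (6127, 7001), (6128, 5115), (6129, 5116), (6130, 5117), (6131, 5488), (6132, 7144), (6133, 7145), (6134, 5237), (6135, 5389), (6136, 7009), (6137, 7010), (6138, 5124), (6139, 5125), (6140, 5475), (6141, 5787), (6142,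 7152), (6143, 7013)]
    ⟨e3 q6080 L139069 q5166, e3 q6081 L139086 q5227, e3 q6082 L139096 q5167, e3 q6083 (flp_c L139104) q5077, e3 q6084 L139122 q5775, e3 q6085 (flp_c L148422) q7099, e3 q6086 (flp_c L147994) q7046, e3 q6087 L139151 q5080, e3 q6088 L139163 q5081, e3 q6089 (flp_c L148493) q7105, e3 q6090 (flp_c L148507) q7106, e3 q6091 (flp_c L148519) q7107, e3 q6092 L139199 q5222, e3 q6093 L139212 q5375, e3 q6094 (flp_c L148071) q7055, e3 q6095 L139232 q5085, e3 q6096 L139245 q5086, e3 q6097 L139257 q5770, e3 q6098 (flp_c L148621) q7116, e3 q6099 (flp_c L148634) q7117, e3 q6100 (flp_c L148117) q7061, e3 q6101 (flp_c L148125) q7062, e3 q6102 (flp_c L148131) q7063, e3 q6103 L139308 q5090, e3 q6104 L139317 q5091, e3 q6105 L139326 q5092, e3 q6106 (flp_c L148721) q7126, e3 q6107 (flp_c L148734) q7127, e3 q6108 (flp_c L148745) q7128, e3 q6109 L139358 q6109, e3 q6110 L139367 q6110, e3 q6111 L139375 q6111, e3 q6112 L139385 q6112, e3 q6113 L139394 q6113, e3 q6114 L148826 q7137, e3 q6115 L139411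 q6115, e3 q6116 (flp_c L146549) q6911, e3 q6117 (flp_c L139425) q5101, e3 q6118 L139438 q5935, e3 q6119 L139453 q6048, e3 q6120 (flp_c L140995) q6265, e3 q6121 L139475 q5179, e3 q6122 L139488 q5242, e3 q6123 L139502 q5111, e3 q6124 L139514 q5791, e3 q6125 (flp_c L148867) q7140, e3 q6126 (flp_c L147492) q7000, e3 q6127 (flp_c L147507) q7001, e3 q6128 L139559 q5115, e3 q6129 L139573 q5116, e3 q6130 L139583 q5117, e3 q6131 L139593 q5488, e3 q6132 (flp_c L148919) q7144, e3 q6133 (flp_c L148933) q7145, e3 q6134 L139617 q5237, e3 q6135 L139628 q5389, e3 q6136 (flp_c L147598) q7009, e3 q6137 (flp_c L147614) q7010, e3 q6138 L139664 q5124, e3 q6139 L139675 q5125, e3 q6140 L139687 q5475, e3 q6141 L139701 q5787, e3 q6142 (flp_c L149011) q7152, e3 q6143 (flp_c L147648) q7013, trivial⟩ (by decide +kernel)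

theorem ce_c_96 : ∀ r, r < 64 → sm gc (Qf (6144 + r)) = Qf (tab Gen.c (6144 + r)) :=
  edges_tab (sm gc) Qf (tab Gen.c) 6144 [(6144, 7014), (6145, 5480), (6146, 7015), (6147, 7016), (6148, 5132), (6149, 5133), (6150, 5134), (6151, 7161), (6152, 7162), (6153, 7166), (6154, 6154), (6155, 6155), (6156, 7168), (6157, 6157), (6158, 7169), (6159, 5140), (6160, 5147), (6161, 5152), (6162, 5153), (6163, 7173), (6164, 5155), (6165, 5150), (6166, 7177), (6167, 7178), (6168, 6740), (6169, 7172), (6170, 5154), (6171, 7184), (6172, 7185), (6173, 5171), (6174, 5157), (6175, 5158), (6176, 7191), (6177, 5175), (6178, 5160), (6179, 5176), (6180, 5177), (6181, 5164), (6182, 7096), (6183, 7183), (6184, 5170), (6185, 5230), (6186, 7187), (6187, 7188), (6188, 7189), (6189, 5174), (6190, 6190), (6191, 5892), (6192, 5188), (6193, 5189), (6194, 6592), (6195, 5192), (6196, 7196), (6197, 5908), (6198, 5195), (6199, 7200), (6200, 5245), (6201, 5199), (6202, 5797), (6203, 5205), (6204, 5206), (6205, 5202), (6206,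 5850), (6207, 7201)]
    ⟨e3 q6144 (flp_c L147662) q7014, e3 q6145 L139736 q5480, e3 q6146 (flp_c L147672) q7015, e3 q6147 (flp_c L147686) q7016, e3 q6148 L139764 q5132, e3 q6149 L139775 q5133, e3 q6150 L139784 q5134, e3 q6151 (flp_c L149110) q7161, e3 q6152 (flp_c L149121) q7162, e3 q6153 L149142 q7166, e3 q6154 L139812 q6154, e3 q6155 L139824 q6155, e3 q6156 L149157 q7168, e3 q6157 L139842 q6157, e3 q6158 L149165 q7169, e3 q6159 (flp_c L139855) q5140, e3 q6160 L139865 q5147, e3 q6161 L139877 q5152, e3 q6162 L139887 q5153, e3 q6163 L149205 q7173, e3 q6164 L139901 q5155, e3 q6165 (flp_c L139908) q5150, e3 q6166 (flp_c L149238) q7177, e3 q6167 (flp_c L149249) q7178, e3 q6168 (flp_c L145135) q6740, e3 q6169 (flp_c L149197) q7172, e3 q6170 (flp_c L139951) q5154, e3 q6171 (flp_c L149311) q7184, e3 q6172 (flp_c L149322) q7185, e3 q6173 L139991 q5171, e3 q6174 L139996 q5157, e3 q6175 L140004 q5158, e3 q6176 (flp_c L149390) q7191, e3 q6177 L140027 q5175, e3 q6178 L140038 q5160, e3 q6179 L140048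 q5176, e3 q6180 L140063 q5177, e3 q6181 L140072 q5164, e3 q6182 (flp_c L148379) q7096, e3 q6183 (flp_c L149300) q7183, e3 q6184 L140107 q5170, e3 q6185 L140121 q5230, e3 q6186 (flp_c L149346) q7187, e3 q6187 (flp_c L149363) q7188, e3 q6188 (flp_c L149374) q7189, e3 q6189 L140167 q5174, e3 q6190 L140180 q6190, e3 q6191 L140192 q5892, e3 q6192 L140205 q5188, e3 q6193 L140215 q5189, e3 q6194 L143801 q6592, e3 q6195 (flp_c L140235) q5192, e3 q6196 (flp_c L149452) q7196, e3 q6197 L140266 q5908, e3 q6198 L140272 q5195, e3 q6199 (flp_c L149507) q7200, e3 q6200 L140292 q5245, e3 q6201 L140307 q5199, e3 q6202 L140323 q5797, e3 q6203 L140335 q5205, e3 q6204 L140349 q5206, e3 q6205 L140364 q5202, e3 q6206 L140380 q5850, e3 q6207 (flp_c L149521) q7201, trivial⟩ (by decide +kernel)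

theorem ce_c_97 : ∀ r, r < 64 → sm gc (Qf (6208 + r)) = Qf (tab Gen.c (6208 + r)) :=
  edges_tab (sm gc) Qf (tab Gen.c) 6208 [(6208, 5847), (6209, 6209), (6210, 5209), (6211, 7205), (6212, 7204), (6213, 7207), (6214, 5937), (6215, 5211), (6216, 7210), (6217, 7211), (6218, 5215), (6219, 5216), (6220, 7215), (6221, 5762), (6222, 5219), (6223, 5220), (6224, 5221), (6225, 7217), (6226, 6472), (6227, 7111), (6228, 5224), (6229, 7221), (6230, 7209), (6231, 5228), (6232, 7097), (6233, 7225), (6234, 5510), (6235, 6507), (6236, 5983), (6237, 5233), (6238, 7228), (6239, 5986), (6240, 5987), (6241, 5236), (6242, 7149), (6243, 5239), (6244, 7232), (6245, 5286), (6246, 5322), (6247, 5243), (6248, 7139), (6249, 5247), (6250, 5251), (6251, 5252), (6252, 5348), (6253, 7237), (6254, 5255), (6255, 5256), (6256, 7243), (6257, 5258), (6258, 7240), (6259, 7248), (6260, 7242), (6261, 5257), (6262, 7251), (6263, 7252), (6264, 7256), (6265, 6120), (6266, 5260), (6267, 7260), (6268, 7261), (6269, 5291), (6270,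 5263), (6271, 5264)]
    ⟨e3 q6208 L140401 q5847, e3 q6209 L140421 q6209, e3 q6210 L140428 q5209, e3 q6211 L149576 q7205, e3 q6212 (flp_c L149566) q7204, e3 q6213 L149602 q7207, e3 q6214 L140482 q5937, e3 q6215 (flp_c L140490) q5211, e3 q6216 (flp_c L149638) q7210, e3 q6217 (flp_c L149648) q7211, e3 q6218 L140526 q5215, e3 q6219 L140538 q5216, e3 q6220 (flp_c L149694) q7215, e3 q6221 L140565 q5762, e3 q6222 L140573 q5219, e3 q6223 L140581 q5220, e3 q6224 L140592 q5221, e3 q6225 (flp_c L149714) q7217, e3 q6226 L142754 q6472, e3 q6227 (flp_c L148559) q7111, e3 q6228 (flp_c L140632) q5224, e3 q6229 (flp_c L149758) q7221, e3 q6230 (flp_c L149632) q7209, e3 q6231 L140664 q5228, e3 q6232 (flp_c L148394) q7097, e3 q6233 (flp_c L149798) q7225, e3 q6234 L140692 q5510, e3 q6235 (flp_c L143087) q6507, e3 q6236 L140716 q5983, e3 q6237 L140722 q5233, e3 q6238 (flp_c L149826) q7228, e3 q6239 L140739 q5986, e3 q6240 L140750 q5987, e3 q6241 L140758 q5236, e3 q6242 (flp_c L148971) q7149, e3 q6243 L140779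 q5239, e3 q6244 (flp_c L149863) q7232, e3 q6245 L140801 q5286, e3 q6246 L140811 q5322, e3 q6247 L140819 q5243, e3 q6248 (flp_c L148851) q7139, e3 q6249 L140839 q5247, e3 q6250 L140850 q5251, e3 q6251 L140858 q5252, e3 q6252 L140872 q5348, e3 q6253 (flp_c L149912) q7237, e3 q6254 L140888 q5255, e3 q6255 L140901 q5256, e3 q6256 L149974 q7243, e3 q6257 L140917 q5258, e3 q6258 (flp_c L149948) q7240, e3 q6259 L150016 q7248, e3 q6260 (flp_c L149966) q7242, e3 q6261 (flp_c L140955) q5257, e3 q6262 (flp_c L150048) q7251, e3 q6263 (flp_c L150058) q7252, e3 q6264 L150090 q7256, e3 q6265 L140995 q6120, e3 q6266 (flp_c L141000) q5260, e3 q6267 (flp_c L150127) q7260, e3 q6268 (flp_c L150137) q7261, e3 q6269 L141030 q5291, e3 q6270 L141036 q5263, e3 q6271 L141042 q5264, trivial⟩ (by decide +kernel)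

theorem ce_c_98 : ∀ r, r < 64 → sm gc (Qf (6272 + r)) = Qf (tab Gen.c (6272 + r)) :=
  edges_tab (sm gc) Qf (tab Gen.c) 6272 [(6272, 7269), (6273, 7270), (6274, 7271), (6275, 5266), (6276, 5267), (6277, 7276), (6278, 7277), (6279, 7268), (6280, 5270), (6281, 5271), (6282, 5272), (6283, 7283), (6284, 7284), (6285, 7285), (6286, 6948), (6287, 6827), (6288, 6828), (6289, 5277), (6290, 5278), (6291, 5279), (6292, 6473), (6293, 7294), (6294, 7295), (6295, 6395), (6296, 6965), (6297, 6297), (6298, 5281), (6299, 7300), (6300, 7250), (6301, 5284), (6302, 5285), (6303, 6977), (6304, 7305), (6305, 7306), (6306, 6953), (6307, 7233), (6308, 7259), (6309, 5289), (6310, 5290), (6311, 6956), (6312, 7313), (6313, 7314), (6314, 7265), (6315, 7266), (6316, 7267), (6317, 5294), (6318, 5295), (6319, 5296), (6320, 6961), (6321, 7322), (6322, 7323), (6323, 6323), (6324, 6324), (6325, 6325), (6326, 6326), (6327, 5828), (6328, 6328), (6329, 6917), (6330, 5304), (6331, 6333), (6332, 5307), (6333, 6331), (6334,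 6786), (6335, 7231)]
    ⟨e3 q6272 (flp_c L150203) q7269, e3 q6273 (flp_c L150209) q7270, e3 q6274 (flp_c L150217) q7271, e3 q6275 L141073 q5266, e3 q6276 L141084 q5267, e3 q6277 (flp_c L150257) q7276, e3 q6278 (flp_c L150267) q7277, e3 q6279 (flp_c L150197) q7268, e3 q6280 L141122 q5270, e3 q6281 L141133 q5271, e3 q6282 L141142 q5272, e3 q6283 (flp_c L150323) q7283, e3 q6284 (flp_c L150334) q7284, e3 q6285 (flp_c L150345) q7285, e3 q6286 (flp_c L146929) q6948, e3 q6287 (flp_c L145792) q6827, e3 q6288 (flp_c L145806) q6828, e3 q6289 L141210 q5277, e3 q6290 L141220 q5278, e3 q6291 L141229 q5279, e3 q6292 (flp_c L142764) q6473, e3 q6293 (flp_c L150436) q7294, e3 q6294 (flp_c L150446) q7295, e3 q6295 (flp_c L142131) q6395, e3 q6296 (flp_c L147108) q6965, e3 q6297 L141284 q6297, e3 q6298 (flp_c L141291) q5281, e3 q6299 (flp_c L150496) q7300, e3 q6300 (flp_c L150042) q7250, e3 q6301 L141321 q5284, e3 q6302 L141333 q5285, e3 q6303 (flp_c L147231) q6977, e3 q6304 (flp_c L150543) q7305, e3 q6305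 (flp_c L150555) q7306, e3 q6306 L146981 q6953, e3 q6307 (flp_c L149875) q7233, e3 q6308 (flp_c L150121) q7259, e3 q6309 L141385 q5289, e3 q6310 L141396 q5290, e3 q6311 (flp_c L147013) q6956, e3 q6312 (flp_c L150617) q7313, e3 q6313 (flp_c L150628) q7314, e3 q6314 (flp_c L150173) q7265, e3 q6315 (flp_c L150185) q7266, e3 q6316 (flp_c L150191) q7267, e3 q6317 L141449 q5294, e3 q6318 L141456 q5295, e3 q6319 L141465 q5296, e3 q6320 (flp_c L147064) q6961, e3 q6321 (flp_c L150691) q7322, e3 q6322 (flp_c L150700) q7323, e3 q6323 L141491 q6323, e3 q6324 L141501 q6324, e3 q6325 L141511 q6325, e3 q6326 L141520 q6326, e3 q6327 (flp_c L141537) q5828, e3 q6328 L141543 q6328, e3 q6329 (flp_c L146627) q6917, e3 q6330 (flp_c L141557) q5304, e3 q6331 (flp_c L141590) q6333, e3 q6332 L141578 q5307, e3 q6333 L141590 q6331, e3 q6334 (flp_c L145519) q6786, e3 q6335 (flp_c L149859) q7231, trivial⟩ (by decide +kernel)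

theorem ce_c_99 : ∀ r, r < 64 → sm gc (Qf (6336 + r)) = Qf (tab Gen.c (6336 + r)) :=
  edges_tab (sm gc) Qf (tab Gen.c) 6336 [(6336, 7007), (6337, 5314), (6338, 7337), (6339, 5474), (6340, 5476), (6341, 5319), (6342, 5320), (6343, 7020), (6344, 7340), (6345, 6996), (6346, 7234), (6347, 5326), (6348, 5327), (6349, 6998), (6350, 7344), (6351, 5486), (6352, 5487), (6353, 5489), (6354, 5490), (6355, 5335), (6356, 5336), (6357, 7235), (6358, 7004), (6359, 7351), (6360, 5840), (6361, 6361), (6362, 6362), (6363, 5839), (6364, 7236), (6365, 5349), (6366, 7028), (6367, 7239), (6368, 7358), (6369, 5353), (6370, 5352), (6371, 7362), (6372, 5354), (6373, 7364), (6374, 5376), (6375, 5357), (6376, 5358), (6377, 7369), (6378, 7370), (6379, 7371), (6380, 5360), (6381, 7368), (6382, 5363), (6383, 5364), (6384, 5365), (6385, 7377), (6386, 5817), (6387, 5818), (6388, 5819), (6389, 5370), (6390, 5371), (6391, 5372), (6392, 5436), (6393, 7383), (6394, 7384), (6395, 6295), (6396, 7361), (6397, 5374), (6398,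 7388), (6399, 7112)]
    ⟨e3 q6336 (flp_c L147577) q7007, e3 q6337 L141618 q5314, e3 q6338 (flp_c L150827) q7337, e3 q6339 L141639 q5474, e3 q6340 L141650 q5476, e3 q6341 L141657 q5319, e3 q6342 L141667 q5320, e3 q6343 (flp_c L147726) q7020, e3 q6344 (flp_c L150856) q7340, e3 q6345 (flp_c L147444) q6996, e3 q6346 (flp_c L149885) q7234, e3 q6347 L141708 q5326, e3 q6348 L141719 q5327, e3 q6349 (flp_c L147471) q6998, e3 q6350 (flp_c L150891) q7344, e3 q6351 L141747 q5486, e3 q6352 L141756 q5487, e3 q6353 L141766 q5489, e3 q6354 L141777 q5490, e3 q6355 L141783 q5335, e3 q6356 L141790 q5336, e3 q6357 (flp_c L149893) q7235, e3 q6358 (flp_c L147542) q7004, e3 q6359 (flp_c L150956) q7351, e3 q6360 (flp_c L141824) q5840, e3 q6361 L141830 q6361, e3 q6362 L141842 q6362, e3 q6363 (flp_c L141859) q5839, e3 q6364 (flp_c L149904) q7236, e3 q6365 L141872 q5349, e3 q6366 (flp_c L147819) q7028, e3 q6367 (flp_c L149936) q7239, e3 q6368 L151008 q7358, e3 q6369 L141901 q5353, e3 q6370 (flp_c L141909) q5352,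 e3 q6371 (flp_c L151046) q7362, e3 q6372 (flp_c L141923) q5354, e3 q6373 (flp_c L151062) q7364, e3 q6374 L141943 q5376, e3 q6375 L141947 q5357, e3 q6376 L141951 q5358, e3 q6377 (flp_c L151100) q7369, e3 q6378 (flp_c L151106) q7370, e3 q6379 (flp_c L151112) q7371, e3 q6380 L141986 q5360, e3 q6381 (flp_c L151094) q7368, e3 q6382 L142003 q5363, e3 q6383 L142012 q5364, e3 q6384 L142021 q5365, e3 q6385 (flp_c L151158) q7377, e3 q6386 L142040 q5817, e3 q6387 L142047 q5818, e3 q6388 L142059 q5819, e3 q6389 L142071 q5370, e3 q6390 L142079 q5371, e3 q6391 L142086 q5372, e3 q6392 L142101 q5436, e3 q6393 (flp_c L151219) q7383, e3 q6394 (flp_c L151227) q7384, e3 q6395 L142131 q6295, e3 q6396 (flp_c L151042) q7361, e3 q6397 L142149 q5374, e3 q6398 (flp_c L151268) q7388, e3 q6399 (flp_c L148572) q7112, trivial⟩ (by decide +kernel)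

theorem ce_c_100 : ∀ r, r < 64 → sm gc (Qf (6400 + r)) = Qf (tab Gen.c (6400 + r)) :=
  edges_tab (sm gc) Qf (tab Gen.c) 6400 [(6400, 7366), (6401, 7367), (6402, 5379), (6403, 5380), (6404, 5381), (6405, 7392), (6406, 7393), (6407, 6407), (6408, 6988), (6409, 5385), (6410, 5388), (6411, 5393), (6412, 5394), (6413, 7395), (6414, 5402), (6415, 5403), (6416, 7399), (6417, 5405), (6418, 5400), (6419, 7403), (6420, 7404), (6421, 6700), (6422, 7398), (6423, 5404), (6424, 7408), (6425, 7409), (6426, 5444), (6427, 5407), (6428, 5408), (6429, 7416), (6430, 7417), (6431, 7418), (6432, 5410), (6433, 5411), (6434, 7423), (6435, 7424), (6436, 7425), (6437, 5453), (6438, 5454), (6439, 5455), (6440, 5423), (6441, 5415), (6442, 5416), (6443, 5417), (6444, 7438), (6445, 7439), (6446, 7440), (6447, 7422), (6448, 5420), (6449, 5421), (6450, 5422), (6451, 7448), (6452, 7449), (6453, 7450), (6454, 7435), (6455, 7436), (6456, 7437), (6457, 5427), (6458, 5428), (6459, 5429), (6460, 7378), (6461, 7460), (6462,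 7461), (6463, 7466)]
    ⟨e3 q6400 (flp_c L151080) q7366, e3 q6401 (flp_c L151086) q7367, e3 q6402 L142190 q5379, e3 q6403 L142199 q5380, e3 q6404 L142208 q5381, e3 q6405 (flp_c L151298) q7392, e3 q6406 (flp_c L151309) q7393, e3 q6407 L142232 q6407, e3 q6408 (flp_c L147356) q6988, e3 q6409 (flp_c L142248) q5385, e3 q6410 L142264 q5388, e3 q6411 L142272 q5393, e3 q6412 L142281 q5394, e3 q6413 (flp_c L151323) q7395, e3 q6414 L142297 q5402, e3 q6415 L142307 q5403, e3 q6416 L151348 q7399, e3 q6417 L142321 q5405, e3 q6418 (flp_c L142327) q5400, e3 q6419 (flp_c L151384) q7403, e3 q6420 (flp_c L151388) q7404, e3 q6421 (flp_c L144777) q6700, e3 q6422 (flp_c L151344) q7398, e3 q6423 (flp_c L142359) q5404, e3 q6424 (flp_c L151416) q7408, e3 q6425 (flp_c L151426) q7409, e3 q6426 L142393 q5444, e3 q6427 L142397 q5407, e3 q6428 L142403 q5408, e3 q6429 (flp_c L151480) q7416, e3 q6430 (flp_c L151486) q7417, e3 q6431 (flp_c L151492) q7418, e3 q6432 L142431 q5410, e3 q6433 L142439 q5411, e3 q6434 (flp_c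 L151532) q7423, e3 q6435 (flp_c L151538) q7424, e3 q6436 (flp_c L151548) q7425, e3 q6437 L142467 q5453, e3 q6438 L142477 q5454, e3 q6439 L142485 q5455, e3 q6440 L142493 q5423, e3 q6441 L142497 q5415, e3 q6442 L142501 q5416, e3 q6443 L142507 q5417, e3 q6444 (flp_c L151646) q7438, e3 q6445 (flp_c L151650) q7439, e3 q6446 (flp_c L151656) q7440, e3 q6447 (flp_c L151526) q7422, e3 q6448 L142539 q5420, e3 q6449 L142548 q5421, e3 q6450 L142560 q5422, e3 q6451 (flp_c L151708) q7448, e3 q6452 (flp_c L151719) q7449, e3 q6453 (flp_c L151730) q7450, e3 q6454 (flp_c L151630) q7435, e3 q6455 (flp_c L151636) q7436, e3 q6456 (flp_c L151640) q7437, e3 q6457 L142617 q5427, e3 q6458 L142627 q5428, e3 q6459 L142637 q5429, e3 q6460 (flp_c L151175) q7378, e3 q6461 (flp_c L151819) q7460, e3 q6462 (flp_c L151829) q7461, e3 q6463 L151867 q7466, trivial⟩ (by decide +kernel)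

theorem ce_c_101 : ∀ r, r < 64 → sm gc (Qf (6464 + r)) = Qf (tab Gen.c (6464 + r)) :=
  edges_tab (sm gc) Qf (tab Gen.c) 6464 [(6464, 7088), (6465, 7089), (6466, 7090), (6467, 7091), (6468, 6761), (6469, 6762), (6470, 5437), (6471, 5438), (6472, 6226), (6473, 6292), (6474, 7471), (6475, 7473), (6476, 5439), (6477, 5827), (6478, 5829), (6479, 7412), (6480, 7413), (6481, 7414), (6482, 5447), (6483, 5448), (6484, 5449), (6485, 7156), (6486, 7479), (6487, 7480), (6488, 5830), (6489, 5831), (6490, 5832), (6491, 7429), (6492, 7430), (6493, 7432), (6494, 7433), (6495, 7434), (6496, 5459), (6497, 5460), (6498, 5461), (6499, 7491), (6500, 7492), (6501, 7496), (6502, 5573), (6503, 5574), (6504, 5576), (6505, 6969), (6506, 5467), (6507, 6235), (6508, 7118), (6509, 7338), (6510, 7153), (6511, 7339), (6512, 5481), (6513, 5482), (6514, 7159), (6515, 7502), (6516, 5841), (6517, 5842), (6518, 7108), (6519, 7347), (6520, 7348), (6521, 7146), (6522, 7349), (6523, 5494), (6524, 5495), (6525, 7512), (6526,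 7510), (6527, 7012)]
    ⟨e3 q6464 (flp_c L148315) q7088, e3 q6465 (flp_c L148320) q7089, e3 q6466 (flp_c L148328) q7090, e3 q6467 (flp_c L148336) q7091, e3 q6468 (flp_c L145305) q6761, e3 q6469 (flp_c L145318) q6762, e3 q6470 L142728 q5437, e3 q6471 L142737 q5438, e3 q6472 (flp_c L142754) q6226, e3 q6473 L142764 q6292, e3 q6474 (flp_c L151914) q7471, e3 q6475 L151937 q7473, e3 q6476 (flp_c L142788) q5439, e3 q6477 L142805 q5827, e3 q6478 L142815 q5829, e3 q6479 (flp_c L151450) q7412, e3 q6480 (flp_c L151460) q7413, e3 q6481 (flp_c L151470) q7414, e3 q6482 L142852 q5447, e3 q6483 L142861 q5448, e3 q6484 L142872 q5449, e3 q6485 (flp_c L149059) q7156, e3 q6486 (flp_c L152002) q7479, e3 q6487 (flp_c L152011) q7480, e3 q6488 L142906 q5830, e3 q6489 L142916 q5831, e3 q6490 L142926 q5832, e3 q6491 (flp_c L151580) q7429, e3 q6492 (flp_c L151588) q7430, e3 q6493 (flp_c L151608) q7432, e3 q6494 (flp_c L151614) q7433, e3 q6495 (flp_c L151624) q7434, e3 q6496 L142978 q5459, e3 q6497 L142988 q5460,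 e3 q6498 L142998 q5461, e3 q6499 (flp_c L152111) q7491, e3 q6500 (flp_c L152123) q7492, e3 q6501 L152149 q7496, e3 q6502 L143028 q5573, e3 q6503 L143039 q5574, e3 q6504 L143050 q5576, e3 q6505 (flp_c L147151) q6969, e3 q6506 (flp_c L143066) q5467, e3 q6507 L143087 q6235, e3 q6508 (flp_c L148646) q7118, e3 q6509 (flp_c L150839) q7338, e3 q6510 (flp_c L149025) q7153, e3 q6511 (flp_c L150848) q7339, e3 q6512 L143125 q5481, e3 q6513 L143132 q5482, e3 q6514 (flp_c L149087) q7159, e3 q6515 (flp_c L152203) q7502, e3 q6516 L143154 q5841, e3 q6517 L143164 q5842, e3 q6518 (flp_c L148529) q7108, e3 q6519 (flp_c L150921) q7347, e3 q6520 (flp_c L150932) q7348, e3 q6521 (flp_c L148945) q7146, e3 q6522 (flp_c L150940) q7349, e3 q6523 L143208 q5494, e3 q6524 L143218 q5495, e3 q6525 L152274 q7512, e3 q6526 (flp_c L152262) q7510, e3 q6527 (flp_c L147636) q7012, trivial⟩ (by decide +kernel)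

theorem ce_c_102 : ∀ r, r < 64 → sm gc (Qf (6528 + r)) = Qf (tab Gen.c (6528 + r)) :=
  edges_tab (sm gc) Qf (tab Gen.c) 6528 [(6528, 5496), (6529, 5592), (6530, 7171), (6531, 5505), (6532, 5503), (6533, 6734), (6534, 7515), (6535, 5508), (6536, 6594), (6537, 5851), (6538, 5852), (6539, 7402), (6540, 5514), (6541, 5515), (6542, 7523), (6543, 7524), (6544, 7525), (6545, 5519), (6546, 5520), (6547, 7529), (6548, 5562), (6549, 5563), (6550, 7431), (6551, 5564), (6552, 5565), (6553, 5566), (6554, 5539), (6555, 5540), (6556, 5541), (6557, 5529), (6558, 5530), (6559, 5531), (6560, 6560), (6561, 7547), (6562, 7548), (6563, 7553), (6564, 5853), (6565, 5854), (6566, 5855), (6567, 5536), (6568, 5537), (6569, 5538), (6570, 6570), (6571, 7560), (6572, 7561), (6573, 7566), (6574, 7541), (6575, 7542), (6576, 7543), (6577, 7544), (6578, 7545), (6579, 7546), (6580, 5546), (6581, 5547), (6582, 7575), (6583, 6583), (6584, 7573), (6585, 6707), (6586, 5548), (6587, 6587), (6588, 6588), (6589, 6589), (6590,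 6590), (6591, 6591)]
    ⟨e3 q6528 (flp_c L143238) q5496, e3 q6529 L143246 q5592, e3 q6530 (flp_c L149192) q7171, e3 q6531 L143265 q5505, e3 q6532 (flp_c L143273) q5503, e3 q6533 (flp_c L145074) q6734, e3 q6534 (flp_c L152303) q7515, e3 q6535 L143299 q5508, e3 q6536 (flp_c L143820) q6594, e3 q6537 L143317 q5851, e3 q6538 L143326 q5852, e3 q6539 (flp_c L151380) q7402, e3 q6540 L143343 q5514, e3 q6541 L143353 q5515, e3 q6542 (flp_c L152372) q7523, e3 q6543 (flp_c L152382) q7524, e3 q6544 (flp_c L152392) q7525, e3 q6545 L143376 q5519, e3 q6546 L143388 q5520, e3 q6547 (flp_c L152420) q7529, e3 q6548 L143407 q5562, e3 q6549 L143417 q5563, e3 q6550 (flp_c L151600) q7431, e3 q6551 L143436 q5564, e3 q6552 L143444 q5565, e3 q6553 L143454 q5566, e3 q6554 L143463 q5539, e3 q6555 L143470 q5540, e3 q6556 L143478 q5541, e3 q6557 L143487 q5529, e3 q6558 L143496 q5530, e3 q6559 L143504 q5531, e3 q6560 L143518 q6560, e3 q6561 (flp_c L152586) q7547, e3 q6562 (flp_c L152596) q7548, e3 q6563 L152636 q7553,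 e3 q6564 L143554 q5853, e3 q6565 L143561 q5854, e3 q6566 L143572 q5855, e3 q6567 L143583 q5536, e3 q6568 L143593 q5537, e3 q6569 L143601 q5538, e3 q6570 L143617 q6570, e3 q6571 (flp_c L152715) q7560, e3 q6572 (flp_c L152725) q7561, e3 q6573 L152772 q7566, e3 q6574 (flp_c L152533) q7541, e3 q6575 (flp_c L152539) q7542, e3 q6576 (flp_c L152550) q7543, e3 q6577 (flp_c L152562) q7544, e3 q6578 (flp_c L152571) q7545, e3 q6579 (flp_c L152579) q7546, e3 q6580 L143695 q5546, e3 q6581 L143704 q5547, e3 q6582 L152844 q7575, e3 q6583 L143720 q6583, e3 q6584 (flp_c L152825) q7573, e3 q6585 (flp_c L144848) q6707, e3 q6586 (flp_c L143743) q5548, e3 q6587 L143752 q6587, e3 q6588 L143758 q6588, e3 q6589 L143767 q6589, e3 q6590 L143775 q6590, e3 q6591 L143783 q6591, trivial⟩ (by decide +kernel)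

theorem ce_c_103 : ∀ r, r < 64 → sm gc (Qf (6592 + r)) = Qf (tab Gen.c (6592 + r)) :=
  edges_tab (sm gc) Qf (tab Gen.c) 6592 [(6592, 6194), (6593, 5559), (6594, 6536), (6595, 7531), (6596, 7532), (6597, 7533), (6598, 7537), (6599, 7538), (6600, 7539), (6601, 5570), (6602, 5571), (6603, 7591), (6604, 7589), (6605, 6980), (6606, 5572), (6607, 7497), (6608, 6981), (6609, 5575), (6610, 7577), (6611, 6611), (6612, 6612), (6613, 6613), (6614, 6614), (6615, 6615), (6616, 7599), (6617, 5589), (6618, 7023), (6619, 5588), (6620, 6620), (6621, 5676), (6622, 5603), (6623, 7602), (6624, 7451), (6625, 5606), (6626, 7607), (6627, 5611), (6628, 5608), (6629, 7611), (6630, 5672), (6631, 5610), (6632, 7614), (6633, 7609), (6634, 7610), (6635, 5667), (6636, 5615), (6637, 5616), (6638, 5617), (6639, 5655), (6640, 7621), (6641, 7622), (6642, 6642), (6643, 6643), (6644, 6644), (6645, 6645), (6646, 5625), (6647, 5626), (6648, 7628), (6649, 6663), (6650, 5745), (6651, 6651), (6652, 5941), (6653, 5942), (6654,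 5931), (6655, 5932)]
    ⟨e3 q6592 (flp_c L143801) q6194, e3 q6593 L143806 q5559, e3 q6594 L143820 q6536, e3 q6595 (flp_c L152439) q7531, e3 q6596 (flp_c L152448) q7532, e3 q6597 (flp_c L152459) q7533, e3 q6598 (flp_c L152494) q7537, e3 q6599 (flp_c L152504) q7538, e3 q6600 (flp_c L152513) q7539, e3 q6601 L143880 q5570, e3 q6602 L143891 q5571, e3 q6603 L153004 q7591, e3 q6604 (flp_c L152989) q7589, e3 q6605 (flp_c L147261) q6980, e3 q6606 (flp_c L143923) q5572, e3 q6607 (flp_c L152159) q7497, e3 q6608 (flp_c L147274) q6981, e3 q6609 (flp_c L143954) q5575, e3 q6610 (flp_c L152867) q7577, e3 q6611 L143974 q6611, e3 q6612 L143983 q6612, e3 q6613 L143991 q6613, e3 q6614 L144001 q6614, e3 q6615 L144011 q6615, e3 q6616 L153074 q7599, e3 q6617 L144025 q5589, e3 q6618 (flp_c L147761) q7023, e3 q6619 (flp_c L144038) q5588, e3 q6620 L144049 q6620, e3 q6621 L144061 q5676, e3 q6622 (flp_c L144064) q5603, e3 q6623 (flp_c L153114) q7602, e3 q6624 (flp_c L151749) q7451, e3 q6625 L144096 q5606, e3 q6626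 (flp_c L153160) q7607, e3 q6627 L144121 q5611, e3 q6628 L144130 q5608, e3 q6629 (flp_c L153205) q7611, e3 q6630 L144157 q5672, e3 q6631 L144165 q5610, e3 q6632 (flp_c L153238) q7614, e3 q6633 (flp_c L153182) q7609, e3 q6634 (flp_c L153194) q7610, e3 q6635 L144201 q5667, e3 q6636 L144213 q5615, e3 q6637 L144222 q5616, e3 q6638 L144233 q5617, e3 q6639 L144248 q5655, e3 q6640 (flp_c L153311) q7621, e3 q6641 (flp_c L153324) q7622, e3 q6642 L144280 q6642, e3 q6643 L144287 q6643, e3 q6644 L144298 q6644, e3 q6645 L144310 q6645, e3 q6646 L144320 q5625, e3 q6647 L144330 q5626, e3 q6648 (flp_c L153394) q7628, e3 q6649 (flp_c L144491) q6663, e3 q6650 L144356 q5745, e3 q6651 L144367 q6651, e3 q6652 L144380 q5941, e3 q6653 L144391 q5942, e3 q6654 L144403 q5931, e3 q6655 L144416 q5932, trivial⟩ (by decide +kernel)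

theorem ce_c_104 : ∀ r, r < 64 → sm gc (Qf (6656 + r)) = Qf (tab Gen.c (6656 + r)) :=
  edges_tab (sm gc) Qf (tab Gen.c) 6656 [(6656, 6656), (6657, 6657), (6658, 6658), (6659, 6659), (6660, 5649), (6661, 5650), (6662, 7633), (6663, 6649), (6664, 7624), (6665, 7286), (6666, 5658), (6667, 5659), (6668, 7637), (6669, 7638), (6670, 7639), (6671, 7415), (6672, 5662), (6673, 5663), (6674, 7646), (6675, 7647), (6676, 5670), (6677, 5671), (6678, 5666), (6679, 7618), (6680, 7620), (6681, 5669), (6682, 7649), (6683, 7650), (6684, 7651), (6685, 7612), (6686, 7652), (6687, 7613), (6688, 5677), (6689, 5678), (6690, 7665), (6691, 7601), (6692, 7663), (6693, 7667), (6694, 5679), (6695, 6695), (6696, 6696), (6697, 6697), (6698, 6698), (6699, 5690), (6700, 6421), (6701, 5691), (6702, 6702), (6703, 7668), (6704, 5893), (6705, 5894), (6706, 5704), (6707, 6585), (6708, 7673), (6709, 6709), (6710, 6710), (6711, 6711), (6712, 6712), (6713, 6713), (6714, 6714), (6715, 6715), (6716, 6716), (6717, 6717), (6718,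 6718), (6719, 6719)]
    ⟨e3 q6656 L144424 q6656, e3 q6657 L144429 q6657, e3 q6658 L144436 q6658, e3 q6659 L144444 q6659, e3 q6660 L144460 q5649, e3 q6661 L144472 q5650, e3 q6662 (flp_c L153453) q7633, e3 q6663 L144491 q6649, e3 q6664 (flp_c L153342) q7624, e3 q6665 (flp_c L150364) q7286, e3 q6666 L144514 q5658, e3 q6667 L144520 q5659, e3 q6668 (flp_c L153493) q7637, e3 q6669 (flp_c L153502) q7638, e3 q6670 (flp_c L153511) q7639, e3 q6671 (flp_c L151476) q7415, e3 q6672 L144549 q5662, e3 q6673 L144557 q5663, e3 q6674 (flp_c L153561) q7646, e3 q6675 (flp_c L153569) q7647, e3 q6676 L144578 q5670, e3 q6677 L144585 q5671, e3 q6678 L144591 q5666, e3 q6679 (flp_c L153284) q7618, e3 q6680 (flp_c L153301) q7620, e3 q6681 L144611 q5669, e3 q6682 (flp_c L153584) q7649, e3 q6683 (flp_c L153595) q7650, e3 q6684 (flp_c L153606) q7651, e3 q6685 (flp_c L153217) q7612, e3 q6686 (flp_c L153617) q7652, e3 q6687 (flp_c L153228) q7613, e3 q6688 L144669 q5677, e3 q6689 L144679 q5678, e3 q6690 L153727 q7665,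 e3 q6691 (flp_c L153103) q7601, e3 q6692 (flp_c L153713) q7663, e3 q6693 L153739 q7667, e3 q6694 (flp_c L144710) q5679, e3 q6695 L144716 q6695, e3 q6696 L144724 q6696, e3 q6697 L144736 q6697, e3 q6698 L144751 q6698, e3 q6699 L144762 q5690, e3 q6700 L144777 q6421, e3 q6701 (flp_c L144781) q5691, e3 q6702 L144800 q6702, e3 q6703 (flp_c L153745) q7668, e3 q6704 L144813 q5893, e3 q6705 L144823 q5894, e3 q6706 L144836 q5704, e3 q6707 L144848 q6585, e3 q6708 (flp_c L153802) q7673, e3 q6709 L144864 q6709, e3 q6710 L144874 q6710, e3 q6711 L144883 q6711, e3 q6712 L144889 q6712, e3 q6713 L144896 q6713, e3 q6714 L144903 q6714, e3 q6715 L144913 q6715, e3 q6716 L144925 q6716, e3 q6717 L144935 q6717, e3 q6718 L144943 q6718, e3 q6719 L144950 q6719, trivial⟩ (by decide +kernel)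

theorem ce_c_105 : ∀ r, r < 64 → sm gc (Qf (6720 + r)) = Qf (tab Gen.c (6720 + r)) :=
  edges_tab (sm gc) Qf (tab Gen.c) 6720 [(6720, 5722), (6721, 5723), (6722, 7687), (6723, 6723), (6724, 7685), (6725, 7689), (6726, 5724), (6727, 6727), (6728, 6728), (6729, 6729), (6730, 6730), (6731, 6731), (6732, 7179), (6733, 5735), (6734, 6533), (6735, 5733), (6736, 6858), (6737, 5748), (6738, 5749), (6739, 5750), (6740, 6168), (6741, 7690), (6742, 7696), (6743, 5753), (6744, 5752), (6745, 7700), (6746, 7701), (6747, 5772), (6748, 5755), (6749, 5756), (6750, 7707), (6751, 7708), (6752, 7709), (6753, 7706), (6754, 5759), (6755, 5760), (6756, 5761), (6757, 7715), (6758, 7716), (6759, 7717), (6760, 7216), (6761, 6468), (6762, 6469), (6763, 5766), (6764, 5767), (6765, 5768), (6766, 6832), (6767, 7726), (6768, 7727), (6769, 6079), (6770, 7699), (6771, 5771), (6772, 7119), (6773, 7731), (6774, 7704), (6775, 7705), (6776, 5776), (6777, 5777), (6778, 7100), (6779, 7735), (6780, 6780), (6781, 6781), (6782,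 7741), (6783, 6783)]
    ⟨e3 q6720 L144957 q5722, e3 q6721 L144967 q5723, e3 q6722 L153922 q7687, e3 q6723 L144980 q6723, e3 q6724 (flp_c L153910) q7685, e3 q6725 L153938 q7689, e3 q6726 (flp_c L145004) q5724, e3 q6727 L145014 q6727, e3 q6728 L145025 q6728, e3 q6729 L145035 q6729, e3 q6730 L145045 q6730, e3 q6731 L145051 q6731, e3 q6732 (flp_c L149258) q7179, e3 q6733 L145063 q5735, e3 q6734 L145074 q6533, e3 q6735 (flp_c L145078) q5733, e3 q6736 (flp_c L146052) q6858, e3 q6737 L145098 q5748, e3 q6738 L145103 q5749, e3 q6739 L145117 q5750, e3 q6740 L145135 q6168, e3 q6741 (flp_c L153952) q7690, e3 q6742 L153996 q7696, e3 q6743 L145159 q5753, e3 q6744 (flp_c L145162) q5752, e3 q6745 (flp_c L154029) q7700, e3 q6746 (flp_c L154037) q7701, e3 q6747 L145189 q5772, e3 q6748 L145195 q5755, e3 q6749 L145201 q5756, e3 q6750 (flp_c L154082) q7707, e3 q6751 (flp_c L154088) q7708, e3 q6752 (flp_c L154096) q7709, e3 q6753 (flp_c L154074) q7706, e3 q6754 L145241 q5759, e3 q6755 L145251 q5760, e3 q6756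 L145260 q5761, e3 q6757 (flp_c L154145) q7715, e3 q6758 (flp_c L154155) q7716, e3 q6759 (flp_c L154166) q7717, e3 q6760 (flp_c L149706) q7216, e3 q6761 L145305 q6468, e3 q6762 L145318 q6469, e3 q6763 L145332 q5766, e3 q6764 L145341 q5767, e3 q6765 L145350 q5768, e3 q6766 (flp_c L145853) q6832, e3 q6767 (flp_c L154258) q7726, e3 q6768 (flp_c L154268) q7727, e3 q6769 L145395 q6079, e3 q6770 (flp_c L154023) q7699, e3 q6771 L145408 q5771, e3 q6772 (flp_c L148660) q7119, e3 q6773 (flp_c L154307) q7731, e3 q6774 (flp_c L154060) q7704, e3 q6775 (flp_c L154066) q7705, e3 q6776 L145439 q5776, e3 q6777 L145448 q5777, e3 q6778 (flp_c L148436) q7100, e3 q6779 (flp_c L154334) q7735, e3 q6780 L145468 q6780, e3 q6781 L145477 q6781, e3 q6782 L154373 q7741, e3 q6783 L145492 q6783, trivial⟩ (by decide +kernel)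

theorem ce_c_106 : ∀ r, r < 64 → sm gc (Qf (6784 + r)) = Qf (tab Gen.c (6784 + r)) :=
  edges_tab (sm gc) Qf (tab Gen.c) 6784 [(6784, 7197), (6785, 5783), (6786, 6334), (6787, 6995), (6788, 5788), (6789, 7154), (6790, 5792), (6791, 7019), (6792, 7141), (6793, 7749), (6794, 6794), (6795, 7356), (6796, 5795), (6797, 7031), (6798, 5800), (6799, 7751), (6800, 7752), (6801, 5803), (6802, 5804), (6803, 7757), (6804, 7758), (6805, 7759), (6806, 5810), (6807, 5807), (6808, 5808), (6809, 5809), (6810, 7765), (6811, 7766), (6812, 7767), (6813, 7762), (6814, 7763), (6815, 7764), (6816, 5814), (6817, 5815), (6818, 5816), (6819, 7084), (6820, 7778), (6821, 7779), (6822, 7784), (6823, 7379), (6824, 7380), (6825, 7381), (6826, 7382), (6827, 6287), (6828, 6288), (6829, 5824), (6830, 5825), (6831, 5954), (6832, 6766), (6833, 7789), (6834, 7792), (6835, 5826), (6836, 7330), (6837, 7327), (6838, 7483), (6839, 7484), (6840, 7798), (6841, 5876), (6842, 7800), (6843, 5835), (6844, 7202), (6845, 5837), (6846,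 6989), (6847, 5979)]
    ⟨e3 q6784 (flp_c L149470) q7197, e3 q6785 (flp_c L145504) q5783, e3 q6786 L145519 q6334, e3 q6787 (flp_c L147438) q6995, e3 q6788 L145530 q5788, e3 q6789 (flp_c L149039) q7154, e3 q6790 L145544 q5792, e3 q6791 (flp_c L147718) q7019, e3 q6792 (flp_c L148881) q7141, e3 q6793 L154417 q7749, e3 q6794 L145568 q6794, e3 q6795 (flp_c L150993) q7356, e3 q6796 (flp_c L145581) q5795, e3 q6797 (flp_c L147847) q7031, e3 q6798 (flp_c L145589) q5800, e3 q6799 (flp_c L154431) q7751, e3 q6800 (flp_c L154437) q7752, e3 q6801 L145610 q5803, e3 q6802 L145616 q5804, e3 q6803 (flp_c L154468) q7757, e3 q6804 (flp_c L154474) q7758, e3 q6805 (flp_c L154480) q7759, e3 q6806 L145640 q5810, e3 q6807 L145646 q5807, e3 q6808 L145650 q5808, e3 q6809 L145656 q5809, e3 q6810 (flp_c L154521) q7765, e3 q6811 (flp_c L154525) q7766, e3 q6812 (flp_c L154531) q7767, e3 q6813 (flp_c L154501) q7762, e3 q6814 (flp_c L154507) q7763, e3 q6815 (flp_c L154513) q7764, e3 q6816 L145703 q5814, e3 q6817 L145712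 q5815, e3 q6818 L145722 q5816, e3 q6819 (flp_c L148286) q7084, e3 q6820 (flp_c L154605) q7778, e3 q6821 (flp_c L154615) q7779, e3 q6822 L154650 q7784, e3 q6823 (flp_c L151182) q7379, e3 q6824 (flp_c L151189) q7380, e3 q6825 (flp_c L151197) q7381, e3 q6826 (flp_c L151208) q7382, e3 q6827 L145792 q6287, e3 q6828 L145806 q6288, e3 q6829 L145819 q5824, e3 q6830 L145828 q5825, e3 q6831 (flp_c L145843) q5954, e3 q6832 L145853 q6766, e3 q6833 (flp_c L154701) q7789, e3 q6834 L154728 q7792, e3 q6835 (flp_c L145876) q5826, e3 q6836 L150771 q7330, e3 q6837 L150736 q7327, e3 q6838 (flp_c L152039) q7483, e3 q6839 (flp_c L152051) q7484, e3 q6840 L154775 q7798, e3 q6841 L145929 q5876, e3 q6842 L154788 q7800, e3 q6843 (flp_c L145943) q5835, e3 q6844 (flp_c L149538) q7202, e3 q6845 (flp_c L145958) q5837, e3 q6846 (flp_c L147371) q6989, e3 q6847 L145982 q5979, trivial⟩ (by decide +kernel)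

theorem ce_c_107 : ∀ r, r < 64 → sm gc (Qf (6848 + r)) = Qf (tab Gen.c (6848 + r)) :=
  edges_tab (sm gc) Qf (tab Gen.c) 6848 [(6848, 7355), (6849, 7352), (6850, 7505), (6851, 7806), (6852, 5843), (6853, 7024), (6854, 5845), (6855, 7030), (6856, 7750), (6857, 5923), (6858, 6736), (6859, 7518), (6860, 7519), (6861, 7554), (6862, 7555), (6863, 7556), (6864, 7557), (6865, 7558), (6866, 7559), (6867, 5860), (6868, 5861), (6869, 7821), (6870, 6870), (6871, 7819), (6872, 7824), (6873, 5862), (6874, 6874), (6875, 6875), (6876, 6876), (6877, 6877), (6878, 6878), (6879, 5898), (6880, 5873), (6881, 7832), (6882, 5871), (6883, 5899), (6884, 6886), (6885, 5874), (6886, 6884), (6887, 5882), (6888, 6982), (6889, 5877), (6890, 6984), (6891, 7826), (6892, 5879), (6893, 6894), (6894, 6893), (6895, 5881), (6896, 5916), (6897, 6897), (6898, 5888), (6899, 6899), (6900, 7670), (6901, 7671), (6902, 7672), (6903, 5897), (6904, 7838), (6905, 7830), (6906, 5973), (6907, 5975), (6908, 5976), (6909, 5977), (6910,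 5978), (6911, 6116)]
    ⟨e3 q6848 L150987 q7355, e3 q6849 (flp_c L150964) q7352, e3 q6850 (flp_c L152224) q7505, e3 q6851 L154839 q7806, e3 q6852 (flp_c L146007) q5843, e3 q6853 (flp_c L147774) q7024, e3 q6854 (flp_c L146016) q5845, e3 q6855 (flp_c L147839) q7030, e3 q6856 (flp_c L154427) q7750, e3 q6857 L146035 q5923, e3 q6858 L146052 q6736, e3 q6859 (flp_c L152328) q7518, e3 q6860 (flp_c L152339) q7519, e3 q6861 (flp_c L152648) q7554, e3 q6862 (flp_c L152660) q7555, e3 q6863 (flp_c L152673) q7556, e3 q6864 (flp_c L152686) q7557, e3 q6865 (flp_c L152695) q7558, e3 q6866 (flp_c L152706) q7559, e3 q6867 L146109 q5860, e3 q6868 L146118 q5861, e3 q6869 L154940 q7821, e3 q6870 L146132 q6870, e3 q6871 (flp_c L154927) q7819, e3 q6872 L154960 q7824, e3 q6873 (flp_c L146154) q5862, e3 q6874 L146162 q6874, e3 q6875 L146170 q6875, e3 q6876 L146179 q6876, e3 q6877 L146186 q6877, e3 q6878 L146194 q6878, e3 q6879 (flp_c L146214) q5898, e3 q6880 L146219 q5873, e3 q6881 L155032 q7832, e3 q6882 (flp_c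 L146231) q5871, e3 q6883 L146249 q5899, e3 q6884 L146345 q6886, e3 q6885 (flp_c L146267) q5874, e3 q6886 (flp_c L146345) q6884, e3 q6887 L146290 q5882, e3 q6888 (flp_c L147288) q6982, e3 q6889 (flp_c L146301) q5877, e3 q6890 (flp_c L147308) q6984, e3 q6891 (flp_c L154979) q7826, e3 q6892 (flp_c L146320) q5879, e3 q6893 (flp_c L146353) q6894, e3 q6894 L146353 q6893, e3 q6895 L146363 q5881, e3 q6896 L146372 q5916, e3 q6897 L146384 q6897, e3 q6898 L146391 q5888, e3 q6899 L146401 q6899, e3 q6900 (flp_c L153767) q7670, e3 q6901 (flp_c L153777) q7671, e3 q6902 (flp_c L153788) q7672, e3 q6903 L146451 q5897, e3 q6904 (flp_c L155101) q7838, e3 q6905 L155019 q7830, e3 q6906 L146476 q5973, e3 q6907 L146489 q5975, e3 q6908 L146505 q5976, e3 q6909 L146520 q5977, e3 q6910 L146534 q5978, e3 q6911 L146549 q6116, trivial⟩ (by decide +kernel)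

theorem ce_c_108 : ∀ r, r < 64 → sm gc (Qf (6912 + r)) = Qf (tab Gen.c (6912 + r)) :=
  edges_tab (sm gc) Qf (tab Gen.c) 6912 [(6912, 7198), (6913, 7199), (6914, 5910), (6915, 5927), (6916, 5928), (6917, 6329), (6918, 6021), (6919, 7842), (6920, 7843), (6921, 5934), (6922, 7631), (6923, 7848), (6924, 7632), (6925, 5933), (6926, 7852), (6927, 7853), (6928, 7857), (6929, 7138), (6930, 5936), (6931, 7861), (6932, 7862), (6933, 5966), (6934, 5939), (6935, 5940), (6936, 7869), (6937, 7870), (6938, 7871), (6939, 7629), (6940, 7630), (6941, 7868), (6942, 5945), (6943, 5946), (6944, 5947), (6945, 7879), (6946, 7880), (6947, 7881), (6948, 6286), (6949, 5952), (6950, 5953), (6951, 7887), (6952, 7790), (6953, 6306), (6954, 6954), (6955, 5956), (6956, 6311), (6957, 7891), (6958, 7851), (6959, 5959), (6960, 5960), (6961, 6320), (6962, 7897), (6963, 7898), (6964, 5961), (6965, 6296), (6966, 7902), (6967, 7860), (6968, 5965), (6969, 6505), (6970, 7907), (6971, 7865), (6972, 7866), (6973, 7867), (6974,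 5969), (6975, 5970)]
    ⟨e3 q6912 (flp_c L149482) q7198, e3 q6913 (flp_c L149498) q7199, e3 q6914 L146586 q5910, e3 q6915 L146600 q5927, e3 q6916 L146613 q5928, e3 q6917 L146627 q6329, e3 q6918 L146640 q6021, e3 q6919 (flp_c L155149) q7842, e3 q6920 L155159 q7843, e3 q6921 L146673 q5934, e3 q6922 (flp_c L153432) q7631, e3 q6923 L155214 q7848, e3 q6924 (flp_c L153443) q7632, e3 q6925 (flp_c L146713) q5933, e3 q6926 (flp_c L155257) q7852, e3 q6927 (flp_c L155265) q7853, e3 q6928 L155303 q7857, e3 q6929 (flp_c L148840) q7138, e3 q6930 (flp_c L146763) q5936, e3 q6931 (flp_c L155350) q7861, e3 q6932 (flp_c L155360) q7862, e3 q6933 L146795 q5966, e3 q6934 L146801 q5939, e3 q6935 L146807 q5940, e3 q6936 (flp_c L155422) q7869, e3 q6937 (flp_c L155430) q7870, e3 q6938 (flp_c L155438) q7871, e3 q6939 (flp_c L153405) q7629, e3 q6940 (flp_c L153419) q7630, e3 q6941 (flp_c L155416) q7868, e3 q6942 L146873 q5945, e3 q6943 L146882 q5946, e3 q6944 L146890 q5947, e3 q6945 (flp_c L155518) q7879, e3 q6946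 (flp_c L155529) q7880, e3 q6947 (flp_c L155539) q7881, e3 q6948 L146929 q6286, e3 q6949 L146937 q5952, e3 q6950 L146945 q5953, e3 q6951 (flp_c L155599) q7887, e3 q6952 L154718 q7790, e3 q6953 (flp_c L146981) q6306, e3 q6954 L146987 q6954, e3 q6955 (flp_c L146996) q5956, e3 q6956 L147013 q6311, e3 q6957 (flp_c L155647) q7891, e3 q6958 (flp_c L155251) q7851, e3 q6959 L147041 q5959, e3 q6960 L147055 q5960, e3 q6961 L147064 q6320, e3 q6962 (flp_c L155717) q7897, e3 q6963 (flp_c L155731) q7898, e3 q6964 (flp_c L147090) q5961, e3 q6965 L147108 q6296, e3 q6966 (flp_c L155776) q7902, e3 q6967 (flp_c L155340) q7860, e3 q6968 L147139 q5965, e3 q6969 L147151 q6505, e3 q6970 (flp_c L155837) q7907, e3 q6971 (flp_c L155390) q7865, e3 q6972 (flp_c L155400) q7866, e3 q6973 (flp_c L155408) q7867, e3 q6974 L147197 q5969, e3 q6975 L147211 q5970, trivial⟩ (by decide +kernel)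

theorem ce_c_109 : ∀ r, r < 64 → sm gc (Qf (6976 + r)) = Qf (tab Gen.c (6976 + r)) :=
  edges_tab (sm gc) Qf (tab Gen.c) 6976 [(6976, 5971), (6977, 6303), (6978, 7914), (6979, 7915), (6980, 6605), (6981, 6608), (6982, 6888), (6983, 7922), (6984, 6890), (6985, 7803), (6986, 6990), (6987, 5982), (6988, 6408), (6989, 6846), (6990, 6986), (6991, 7227), (6992, 5985), (6993, 7229), (6994, 7230), (6995, 6787), (6996, 6345), (6997, 5993), (6998, 6349), (6999, 7932), (7000, 6126), (7001, 6127), (7002, 5998), (7003, 5999), (7004, 6358), (7005, 7936), (7006, 6002), (7007, 6336), (7008, 7940), (7009, 6136), (7010, 6137), (7011, 6006), (7012, 6527), (7013, 6143), (7014, 6144), (7015, 6146), (7016, 6147), (7017, 6014), (7018, 6015), (7019, 6791), (7020, 6343), (7021, 7950), (7022, 7954), (7023, 6618), (7024, 6853), (7025, 6019), (7026, 6034), (7027, 6033), (7028, 6366), (7029, 6035), (7030, 6855), (7031, 6797), (7032, 7923), (7033, 6040), (7034, 6041), (7035, 7960), (7036, 6043), (7037, 6038), (7038,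 7963), (7039, 7964)]
    ⟨e3 q6976 L147223 q5971, e3 q6977 L147231 q6303, e3 q6978 (flp_c L155913) q7914, e3 q6979 (flp_c L155927) q7915, e3 q6980 L147261 q6605, e3 q6981 L147274 q6608, e3 q6982 L147288 q6888, e3 q6983 L155999 q7922, e3 q6984 L147308 q6890, e3 q6985 (flp_c L154824) q7803, e3 q6986 (flp_c L147384) q6990, e3 q6987 L147340 q5982, e3 q6988 L147356 q6408, e3 q6989 L147371 q6846, e3 q6990 L147384 q6986, e3 q6991 (flp_c L149818) q7227, e3 q6992 L147407 q5985, e3 q6993 (flp_c L149839) q7229, e3 q6994 (flp_c L149847) q7230, e3 q6995 L147438 q6787, e3 q6996 L147444 q6345, e3 q6997 L147458 q5993, e3 q6998 L147471 q6349, e3 q6999 (flp_c L156126) q7932, e3 q7000 L147492 q6126, e3 q7001 L147507 q6127, e3 q7002 L147520 q5998, e3 q7003 L147532 q5999, e3 q7004 L147542 q6358, e3 q7005 (flp_c L156181) q7936, e3 q7006 L147563 q6002, e3 q7007 L147577 q6336, e3 q7008 (flp_c L156229) q7940, e3 q7009 L147598 q6136, e3 q7010 L147614 q6137, e3 q7011 L147626 q6006, e3 q7012 L147636 q6527, e3 q7013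 L147648 q6143, e3 q7014 L147662 q6144, e3 q7015 L147672 q6146, e3 q7016 L147686 q6147, e3 q7017 L147694 q6014, e3 q7018 L147706 q6015, e3 q7019 L147718 q6791, e3 q7020 L147726 q6343, e3 q7021 (flp_c L156363) q7950, e3 q7022 L156417 q7954, e3 q7023 L147761 q6618, e3 q7024 L147774 q6853, e3 q7025 (flp_c L147776) q6019, e3 q7026 L147791 q6034, e3 q7027 L147804 q6033, e3 q7028 L147819 q6366, e3 q7029 L147827 q6035, e3 q7030 L147839 q6855, e3 q7031 L147847 q6797, e3 q7032 (flp_c L156016) q7923, e3 q7033 L147875 q6040, e3 q7034 L147886 q6041, e3 q7035 L156486 q7960, e3 q7036 L147902 q6043, e3 q7037 (flp_c L147909) q6038, e3 q7038 (flp_c L156510) q7963, e3 q7039 (flp_c L156514) q7964, trivial⟩ (by decide +kernel)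

theorem ce_c_110 : ∀ r, r < 64 → sm gc (Qf (7040 + r)) = Qf (tab Gen.c (7040 + r)) :=
  edges_tab (sm gc) Qf (tab Gen.c) 7040 [(7040, 7669), (7041, 7969), (7042, 7959), (7043, 6042), (7044, 7972), (7045, 7973), (7046, 6086), (7047, 6045), (7048, 6046), (7049, 7980), (7050, 7981), (7051, 7982), (7052, 6047), (7053, 7986), (7054, 7987), (7055, 6094), (7056, 6050), (7057, 6051), (7058, 7994), (7059, 7995), (7060, 7996), (7061, 6100), (7062, 6101), (7063, 6102), (7064, 6063), (7065, 6055), (7066, 6056), (7067, 6057), (7068, 8009), (7069, 8010), (7070, 8011), (7071, 7993), (7072, 6060), (7073, 6061), (7074, 6062), (7075, 8018), (7076, 8019), (7077, 8020), (7078, 8006), (7079, 8007), (7080, 8008), (7081, 6067), (7082, 6068), (7083, 6069), (7084, 6819), (7085, 8030), (7086, 8031), (7087, 8036), (7088, 6464), (7089, 6465), (7090, 6466), (7091, 6467), (7092, 6077), (7093, 6078), (7094, 8039), (7095, 7729), (7096, 6182), (7097, 6232), (7098, 7971), (7099, 6085), (7100, 6778), (7101, 8042), (7102,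 7976), (7103, 7977)]
    ⟨e3 q7040 (flp_c L153756) q7669, e3 q7041 L156559 q7969, e3 q7042 (flp_c L156478) q7959, e3 q7043 (flp_c L147963) q6042, e3 q7044 (flp_c L156601) q7972, e3 q7045 (flp_c L156611) q7973, e3 q7046 L147994 q6086, e3 q7047 L147998 q6045, e3 q7048 L148004 q6046, e3 q7049 (flp_c L156673) q7980, e3 q7050 (flp_c L156681) q7981, e3 q7051 (flp_c L156687) q7982, e3 q7052 (flp_c L148034) q6047, e3 q7053 (flp_c L156727) q7986, e3 q7054 (flp_c L156739) q7987, e3 q7055 L148071 q6094, e3 q7056 L148075 q6050, e3 q7057 L148081 q6051, e3 q7058 (flp_c L156818) q7994, e3 q7059 (flp_c L156826) q7995, e3 q7060 (flp_c L156834) q7996, e3 q7061 L148117 q6100, e3 q7062 L148125 q6101, e3 q7063 L148131 q6102, e3 q7064 L148137 q6063, e3 q7065 L148141 q6055, e3 q7066 L148147 q6056, e3 q7067 L148153 q6057, e3 q7068 (flp_c L156937) q8009, e3 q7069 (flp_c L156943) q8010, e3 q7070 (flp_c L156951) q8011, e3 q7071 (flp_c L156810) q7993, e3 q7072 L148191 q6060, e3 q7073 L148198 q6061, e3 q7074 L148207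 q6062, e3 q7075 (flp_c L157006) q8018, e3 q7076 (flp_c L157017) q8019, e3 q7077 (flp_c L157025) q8020, e3 q7078 (flp_c L156921) q8006, e3 q7079 (flp_c L156927) q8007, e3 q7080 (flp_c L156931) q8008, e3 q7081 L148258 q6067, e3 q7082 L148266 q6068, e3 q7083 L148275 q6069, e3 q7084 L148286 q6819, e3 q7085 (flp_c L157099) q8030, e3 q7086 (flp_c L157108) q8031, e3 q7087 L157145 q8036, e3 q7088 L148315 q6464, e3 q7089 L148320 q6465, e3 q7090 L148328 q6466, e3 q7091 L148336 q6467, e3 q7092 L148345 q6077, e3 q7093 L148353 q6078, e3 q7094 (flp_c L157170) q8039, e3 q7095 (flp_c L154294) q7729, e3 q7096 L148379 q6182, e3 q7097 L148394 q6232, e3 q7098 (flp_c L156591) q7971, e3 q7099 L148422 q6085, e3 q7100 L148436 q6778, e3 q7101 (flp_c L157210) q8042, e3 q7102 (flp_c L156638) q7976, e3 q7103 (flp_c L156654) q7977, trivial⟩ (by decide +kernel)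

theorem ce_c_111 : ∀ r, r < 64 → sm gc (Qf (7104 + r)) = Qf (tab Gen.c (7104 + r)) :=
  edges_tab (sm gc) Qf (tab Gen.c) 7104 [(7104, 7978), (7105, 6089), (7106, 6090), (7107, 6091), (7108, 6518), (7109, 8048), (7110, 8049), (7111, 6227), (7112, 6399), (7113, 7990), (7114, 7991), (7115, 7992), (7116, 6098), (7117, 6099), (7118, 6508), (7119, 6772), (7120, 8057), (7121, 8000), (7122, 8001), (7123, 8003), (7124, 8004), (7125, 8005), (7126, 6106), (7127, 6107), (7128, 6108), (7129, 8067), (7130, 8068), (7131, 8072), (7132, 7132), (7133, 7133), (7134, 8074), (7135, 7135), (7136, 8075), (7137, 6114), (7138, 6929), (7139, 6248), (7140, 6125), (7141, 6792), (7142, 7934), (7143, 7935), (7144, 6132), (7145, 6133), (7146, 6521), (7147, 8079), (7148, 8083), (7149, 6242), (7150, 7942), (7151, 7943), (7152, 6142), (7153, 6510), (7154, 6789), (7155, 8089), (7156, 6485), (7157, 7946), (7158, 7947), (7159, 6514), (7160, 7948), (7161, 6151), (7162, 6152), (7163, 8096), (7164, 8094), (7165, 8097), (7166,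 6153), (7167, 8099)]
    ⟨e3 q7104 (flp_c L156664) q7978, e3 q7105 L148493 q6089, e3 q7106 L148507 q6090, e3 q7107 L148519 q6091, e3 q7108 L148529 q6518, e3 q7109 (flp_c L157288) q8048, e3 q7110 (flp_c L157302) q8049, e3 q7111 L148559 q6227, e3 q7112 L148572 q6399, e3 q7113 (flp_c L156768) q7990, e3 q7114 (flp_c L156786) q7991, e3 q7115 (flp_c L156798) q7992, e3 q7116 L148621 q6098, e3 q7117 L148634 q6099, e3 q7118 L148646 q6508, e3 q7119 L148660 q6772, e3 q7120 (flp_c L157397) q8057, e3 q7121 (flp_c L156876) q8000, e3 q7122 (flp_c L156886) q8001, e3 q7123 (flp_c L156899) q8003, e3 q7124 (flp_c L156907) q8004, e3 q7125 (flp_c L156915) q8005, e3 q7126 L148721 q6106, e3 q7127 L148734 q6107, e3 q7128 L148745 q6108, e3 q7129 (flp_c L157507) q8067, e3 q7130 (flp_c L157520) q8068, e3 q7131 L157547 q8072, e3 q7132 L148779 q7132, e3 q7133 L148791 q7133, e3 q7134 L157564 q8074, e3 q7135 L148811 q7135, e3 q7136 L157574 q8075, e3 q7137 (flp_c L148826) q6114, e3 q7138 L148840 q6929, e3 q7139 L148851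 q6248, e3 q7140 L148867 q6125, e3 q7141 L148881 q6792, e3 q7142 (flp_c L156154) q7934, e3 q7143 (flp_c L156167) q7935, e3 q7144 L148919 q6132, e3 q7145 L148933 q6133, e3 q7146 L148945 q6521, e3 q7147 (flp_c L157619) q8079, e3 q7148 L157664 q8083, e3 q7149 L148971 q6242, e3 q7150 (flp_c L156259) q7942, e3 q7151 (flp_c L156273) q7943, e3 q7152 L149011 q6142, e3 q7153 L149025 q6510, e3 q7154 L149039 q6789, e3 q7155 L157741 q8089, e3 q7156 L149059 q6485, e3 q7157 (flp_c L156313) q7946, e3 q7158 (flp_c L156327) q7947, e3 q7159 L149087 q6514, e3 q7160 (flp_c L156335) q7948, e3 q7161 L149110 q6151, e3 q7162 L149121 q6152, e3 q7163 L157814 q8096, e3 q7164 (flp_c L157799) q8094, e3 q7165 L157823 q8097, e3 q7166 (flp_c L149142) q6153, e3 q7167 L157843 q8099, trivial⟩ (by decide +kernel)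

theorem ce_c_112 : ∀ r, r < 64 → sm gc (Qf (7168 + r)) = Qf (tab Gen.c (7168 + r)) :=
  edges_tab (sm gc) Qf (tab Gen.c) 7168 [(7168, 6156), (7169, 6158), (7170, 7956), (7171, 6530), (7172, 6169), (7173, 6163), (7174, 8104), (7175, 8105), (7176, 7962), (7177, 6166), (7178, 6167), (7179, 6732), (7180, 8112), (7181, 8113), (7182, 7582), (7183, 6183), (7184, 6171), (7185, 6172), (7186, 7581), (7187, 6186), (7188, 6187), (7189, 6188), (7190, 7190), (7191, 6176), (7192, 7192), (7193, 8117), (7194, 8118), (7195, 8120), (7196, 6196), (7197, 6784), (7198, 6912), (7199, 6913), (7200, 6199), (7201, 6207), (7202, 6844), (7203, 8123), (7204, 6212), (7205, 6211), (7206, 8125), (7207, 6213), (7208, 8128), (7209, 6230), (7210, 6216), (7211, 6217), (7212, 8133), (7213, 8134), (7214, 8132), (7215, 6220), (7216, 6760), (7217, 6225), (7218, 7472), (7219, 8053), (7220, 8127), (7221, 6229), (7222, 8139), (7223, 8130), (7224, 8131), (7225, 6233), (7226, 8040), (7227, 6991), (7228, 6238), (7229, 6993), (7230,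 6994), (7231, 6335)]
    ⟨e3 q7168 (flp_c L149157) q6156, e3 q7169 (flp_c L149165) q6158, e3 q7170 (flp_c L156453) q7956, e3 q7171 L149192 q6530, e3 q7172 L149197 q6169, e3 q7173 (flp_c L149205) q6163, e3 q7174 (flp_c L157901) q8104, e3 q7175 (flp_c L157912) q8105, e3 q7176 (flp_c L156506) q7962, e3 q7177 L149238 q6166, e3 q7178 L149249 q6167, e3 q7179 L149258 q6732, e3 q7180 (flp_c L157969) q8112, e3 q7181 (flp_c L157980) q8113, e3 q7182 (flp_c L152925) q7582, e3 q7183 L149300 q6183, e3 q7184 L149311 q6171, e3 q7185 L149322 q6172, e3 q7186 L152913 q7581, e3 q7187 L149346 q6186, e3 q7188 L149363 q6187, e3 q7189 L149374 q6188, e3 q7190 L149382 q7190, e3 q7191 L149390 q6176, e3 q7192 L149404 q7192, e3 q7193 (flp_c L158015) q8117, e3 q7194 (flp_c L158030) q8118, e3 q7195 (flp_c L158059) q8120, e3 q7196 L149452 q6196, e3 q7197 L149470 q6784, e3 q7198 L149482 q6912, e3 q7199 L149498 q6913, e3 q7200 L149507 q6199, e3 q7201 L149521 q6207, e3 q7202 L149538 q6844, e3 q7203 L158099 q8123, e3 q7204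 L149566 q6212, e3 q7205 (flp_c L149576) q6211, e3 q7206 (flp_c L158130) q8125, e3 q7207 (flp_c L149602) q6213, e3 q7208 (flp_c L158170) q8128, e3 q7209 L149632 q6230, e3 q7210 L149638 q6216, e3 q7211 L149648 q6217, e3 q7212 (flp_c L158228) q8133, e3 q7213 (flp_c L158238) q8134, e3 q7214 (flp_c L158218) q8132, e3 q7215 L149694 q6220, e3 q7216 L149706 q6760, e3 q7217 L149714 q6225, e3 q7218 L151933 q7472, e3 q7219 (flp_c L157346) q8053, e3 q7220 (flp_c L158164) q8127, e3 q7221 L149758 q6229, e3 q7222 (flp_c L158296) q8139, e3 q7223 (flp_c L158194) q8130, e3 q7224 (flp_c L158206) q8131, e3 q7225 L149798 q6233, e3 q7226 (flp_c L157180) q8040, e3 q7227 L149818 q6991, e3 q7228 L149826 q6238, e3 q7229 L149839 q6993, e3 q7230 L149847 q6994, e3 q7231 L149859 q6335, trivial⟩ (by decide +kernel)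

theorem ce_c_113 : ∀ r, r < 64 → sm gc (Qf (7232 + r)) = Qf (tab Gen.c (7232 + r)) :=
  edges_tab (sm gc) Qf (tab Gen.c) 7232 [(7232, 6244), (7233, 6307), (7234, 6346), (7235, 6357), (7236, 6364), (7237, 6253), (7238, 7955), (7239, 6367), (7240, 6258), (7241, 8154), (7242, 6260), (7243, 6256), (7244, 8158), (7245, 8159), (7246, 8163), (7247, 8153), (7248, 6259), (7249, 8166), (7250, 6300), (7251, 6262), (7252, 6263), (7253, 8172), (7254, 8173), (7255, 8174), (7256, 6264), (7257, 8177), (7258, 8178), (7259, 6308), (7260, 6267), (7261, 6268), (7262, 8184), (7263, 8185), (7264, 8186), (7265, 6314), (7266, 6315), (7267, 6316), (7268, 6279), (7269, 6272), (7270, 6273), (7271, 6274), (7272, 8198), (7273, 8199), (7274, 8200), (7275, 8183), (7276, 6277), (7277, 6278), (7278, 8208), (7279, 8209), (7280, 8195), (7281, 8196), (7282, 8197), (7283, 6283), (7284, 6284), (7285, 6285), (7286, 6665), (7287, 8217), (7288, 8218), (7289, 8223), (7290, 7885), (7291, 7886), (7292, 7787), (7293, 7788), (7294,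 6293), (7295, 6294)]
    ⟨e3 q7232 L149863 q6244, e3 q7233 L149875 q6307, e3 q7234 L149885 q6346, e3 q7235 L149893 q6357, e3 q7236 L149904 q6364, e3 q7237 L149912 q6253, e3 q7238 (flp_c L156433) q7955, e3 q7239 L149936 q6367, e3 q7240 L149948 q6258, e3 q7241 L158454 q8154, e3 q7242 L149966 q6260, e3 q7243 (flp_c L149974) q6256, e3 q7244 (flp_c L158489) q8158, e3 q7245 (flp_c L158495) q8159, e3 q7246 L158520 q8163, e3 q7247 (flp_c L158446) q8153, e3 q7248 (flp_c L150016) q6259, e3 q7249 (flp_c L158554) q8166, e3 q7250 L150042 q6300, e3 q7251 L150048 q6262, e3 q7252 L150058 q6263, e3 q7253 (flp_c L158612) q8172, e3 q7254 (flp_c L158620) q8173, e3 q7255 (flp_c L158630) q8174, e3 q7256 (flp_c L150090) q6264, e3 q7257 (flp_c L158662) q8177, e3 q7258 (flp_c L158668) q8178, e3 q7259 L150121 q6308, e3 q7260 L150127 q6267, e3 q7261 L150137 q6268, e3 q7262 (flp_c L158725) q8184, e3 q7263 (flp_c L158733) q8185, e3 q7264 (flp_c L158743) q8186, e3 q7265 L150173 q6314, e3 q7266 L150185 q6315, e3 q7267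 L150191 q6316, e3 q7268 L150197 q6279, e3 q7269 L150203 q6272, e3 q7270 L150209 q6273, e3 q7271 L150217 q6274, e3 q7272 (flp_c L158844) q8198, e3 q7273 (flp_c L158850) q8199, e3 q7274 (flp_c L158858) q8200, e3 q7275 (flp_c L158719) q8183, e3 q7276 L150257 q6277, e3 q7277 L150267 q6278, e3 q7278 (flp_c L158928) q8208, e3 q7279 (flp_c L158940) q8209, e3 q7280 (flp_c L158822) q8195, e3 q7281 (flp_c L158830) q8196, e3 q7282 (flp_c L158836) q8197, e3 q7283 L150323 q6283, e3 q7284 L150334 q6284, e3 q7285 L150345 q6285, e3 q7286 L150364 q6665, e3 q7287 (flp_c L159015) q8217, e3 q7288 (flp_c L159026) q8218, e3 q7289 L159078 q8223, e3 q7290 (flp_c L155584) q7885, e3 q7291 (flp_c L155590) q7886, e3 q7292 (flp_c L154676) q7787, e3 q7293 (flp_c L154689) q7788, e3 q7294 L150436 q6293, e3 q7295 L150446 q6294, trivial⟩ (by decide +kernel)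

theorem ce_c_114 : ∀ r, r < 64 → sm gc (Qf (7296 + r)) = Qf (tab Gen.c (7296 + r)) :=
  edges_tab (sm gc) Qf (tab Gen.c) 7296 [(7296, 8226), (7297, 7386), (7298, 7903), (7299, 8165), (7300, 6299), (7301, 8229), (7302, 8168), (7303, 8169), (7304, 8170), (7305, 6304), (7306, 6305), (7307, 7917), (7308, 8233), (7309, 7889), (7310, 8149), (7311, 8181), (7312, 8182), (7313, 6312), (7314, 6313), (7315, 7892), (7316, 8239), (7317, 8189), (7318, 8190), (7319, 8192), (7320, 8193), (7321, 8194), (7322, 6321), (7323, 6322), (7324, 8142), (7325, 7899), (7326, 8247), (7327, 6837), (7328, 7328), (7329, 7329), (7330, 6836), (7331, 7333), (7332, 8144), (7333, 7331), (7334, 8255), (7335, 8147), (7336, 7941), (7337, 6338), (7338, 6509), (7339, 6511), (7340, 6344), (7341, 8084), (7342, 7952), (7343, 7931), (7344, 6350), (7345, 8148), (7346, 7933), (7347, 6519), (7348, 6520), (7349, 6522), (7350, 7944), (7351, 6359), (7352, 6849), (7353, 8080), (7354, 7938), (7355, 6848), (7356, 6795), (7357, 7927), (7358,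 6368), (7359, 8268)]
    ⟨e3 q7296 (flp_c L159112) q8226, e3 q7297 (flp_c L151252) q7386, e3 q7298 (flp_c L155790) q7903, e3 q7299 (flp_c L158548) q8165, e3 q7300 L150496 q6299, e3 q7301 (flp_c L159144) q8229, e3 q7302 (flp_c L158576) q8168, e3 q7303 (flp_c L158588) q8169, e3 q7304 (flp_c L158598) q8170, e3 q7305 L150543 q6304, e3 q7306 L150555 q6305, e3 q7307 (flp_c L155949) q7917, e3 q7308 (flp_c L159181) q8233, e3 q7309 (flp_c L155620) q7889, e3 q7310 (flp_c L158405) q8149, e3 q7311 (flp_c L158697) q8181, e3 q7312 (flp_c L158709) q8182, e3 q7313 L150617 q6312, e3 q7314 L150628 q6313, e3 q7315 (flp_c L155660) q7892, e3 q7316 (flp_c L159237) q8239, e3 q7317 (flp_c L158777) q8189, e3 q7318 (flp_c L158787) q8190, e3 q7319 (flp_c L158802) q8192, e3 q7320 (flp_c L158808) q8193, e3 q7321 (flp_c L158816) q8194, e3 q7322 L150691 q6321, e3 q7323 L150700 q6322, e3 q7324 (flp_c L158326) q8142, e3 q7325 (flp_c L155741) q7899, e3 q7326 (flp_c L159305) q8247, e3 q7327 (flp_c L150736) q6837, e3 q7328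 L150742 q7328, e3 q7329 L150754 q7329, e3 q7330 (flp_c L150771) q6836, e3 q7331 (flp_c L150796) q7333, e3 q7332 (flp_c L158350) q8144, e3 q7333 L150796 q7331, e3 q7334 L159372 q8255, e3 q7335 (flp_c L158380) q8147, e3 q7336 (flp_c L156245) q7941, e3 q7337 L150827 q6338, e3 q7338 L150839 q6509, e3 q7339 L150848 q6511, e3 q7340 L150856 q6344, e3 q7341 (flp_c L157681) q8084, e3 q7342 (flp_c L156393) q7952, e3 q7343 (flp_c L156110) q7931, e3 q7344 L150891 q6350, e3 q7345 (flp_c L158395) q8148, e3 q7346 (flp_c L156140) q7933, e3 q7347 L150921 q6519, e3 q7348 L150932 q6520, e3 q7349 L150940 q6522, e3 q7350 (flp_c L156289) q7944, e3 q7351 L150956 q6359, e3 q7352 L150964 q6849, e3 q7353 L157641 q8080, e3 q7354 (flp_c L156206) q7938, e3 q7355 (flp_c L150987) q6848, e3 q7356 L150993 q6795, e3 q7357 (flp_c L156073) q7927, e3 q7358 (flp_c L151008) q6368, e3 q7359 (flp_c L159493) q8268, trivial⟩ (by decide +kernel)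

theorem ce_c_115 : ∀ r, r < 64 → sm gc (Qf (7360 + r)) = Qf (tab Gen.c (7360 + r)) :=
  edges_tab (sm gc) Qf (tab Gen.c) 7360 [(7360, 8269), (7361, 6396), (7362, 6371), (7363, 8273), (7364, 6373), (7365, 8274), (7366, 6400), (7367, 6401), (7368, 6381), (7369, 6377), (7370, 6378), (7371, 6379), (7372, 8282), (7373, 8283), (7374, 8279), (7375, 8280), (7376, 8281), (7377, 6385), (7378, 6460), (7379, 6823), (7380, 6824), (7381, 6825), (7382, 6826), (7383, 6393), (7384, 6394), (7385, 8297), (7386, 7297), (7387, 8272), (7388, 6398), (7389, 8276), (7390, 8277), (7391, 8278), (7392, 6405), (7393, 6406), (7394, 8301), (7395, 6413), (7396, 8257), (7397, 8267), (7398, 6422), (7399, 6416), (7400, 8305), (7401, 8306), (7402, 6539), (7403, 6419), (7404, 6420), (7405, 8313), (7406, 8314), (7407, 8315), (7408, 6424), (7409, 6425), (7410, 8320), (7411, 8321), (7412, 6479), (7413, 6480), (7414, 6481), (7415, 6671), (7416, 6429), (7417, 6430), (7418, 6431), (7419, 8331), (7420, 8332), (7421, 8333), (7422,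 6447), (7423, 6434)]
    ⟨e3 q7360 (flp_c L159503) q8269, e3 q7361 L151042 q6396, e3 q7362 L151046 q6371, e3 q7363 (flp_c L159541) q8273, e3 q7364 L151062 q6373, e3 q7365 (flp_c L159549) q8274, e3 q7366 L151080 q6400, e3 q7367 L151086 q6401, e3 q7368 L151094 q6381, e3 q7369 L151100 q6377, e3 q7370 L151106 q6378, e3 q7371 L151112 q6379, e3 q7372 (flp_c L159612) q8282, e3 q7373 (flp_c L159620) q8283, e3 q7374 (flp_c L159586) q8279, e3 q7375 (flp_c L159594) q8280, e3 q7376 (flp_c L159604) q8281, e3 q7377 L151158 q6385, e3 q7378 L151175 q6460, e3 q7379 L151182 q6823, e3 q7380 L151189 q6824, e3 q7381 L151197 q6825, e3 q7382 L151208 q6826, e3 q7383 L151219 q6393, e3 q7384 L151227 q6394, e3 q7385 (flp_c L159768) q8297, e3 q7386 L151252 q7297, e3 q7387 (flp_c L159535) q8272, e3 q7388 L151268 q6398, e3 q7389 (flp_c L159564) q8276, e3 q7390 (flp_c L159572) q8277, e3 q7391 (flp_c L159580) q8278, e3 q7392 L151298 q6405, e3 q7393 L151309 q6406, e3 q7394 (flp_c L159804) q8301, e3 q7395 L151323 q6413,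 e3 q7396 (flp_c L159389) q8257, e3 q7397 (flp_c L159487) q8267, e3 q7398 L151344 q6422, e3 q7399 (flp_c L151348) q6416, e3 q7400 (flp_c L159832) q8305, e3 q7401 (flp_c L159840) q8306, e3 q7402 L151380 q6539, e3 q7403 L151384 q6419, e3 q7404 L151388 q6420, e3 q7405 (flp_c L159900) q8313, e3 q7406 (flp_c L159904) q8314, e3 q7407 (flp_c L159910) q8315, e3 q7408 L151416 q6424, e3 q7409 L151426 q6425, e3 q7410 (flp_c L159948) q8320, e3 q7411 (flp_c L159956) q8321, e3 q7412 L151450 q6479, e3 q7413 L151460 q6480, e3 q7414 L151470 q6481, e3 q7415 L151476 q6671, e3 q7416 L151480 q6429, e3 q7417 L151486 q6430, e3 q7418 L151492 q6431, e3 q7419 (flp_c L160035) q8331, e3 q7420 (flp_c L160041) q8332, e3 q7421 (flp_c L160047) q8333, e3 q7422 L151526 q6447, e3 q7423 L151532 q6434, trivial⟩ (by decide +kernel)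

theorem ce_c_116 : ∀ r, r < 64 → sm gc (Qf (7424 + r)) = Qf (tab Gen.c (7424 + r)) :=
  edges_tab (sm gc) Qf (tab Gen.c) 7424 [(7424, 6435), (7425, 6436), (7426, 8340), (7427, 8341), (7428, 8342), (7429, 6491), (7430, 6492), (7431, 6550), (7432, 6493), (7433, 6494), (7434, 6495), (7435, 6454), (7436, 6455), (7437, 6456), (7438, 6444), (7439, 6445), (7440, 6446), (7441, 8284), (7442, 8363), (7443, 8364), (7444, 8369), (7445, 8337), (7446, 8338), (7447, 8339), (7448, 6451), (7449, 6452), (7450, 6453), (7451, 6624), (7452, 8376), (7453, 8377), (7454, 8357), (7455, 8358), (7456, 8359), (7457, 8360), (7458, 8361), (7459, 8362), (7460, 6461), (7461, 6462), (7462, 8389), (7463, 8291), (7464, 8387), (7465, 8391), (7466, 6463), (7467, 8037), (7468, 8038), (7469, 7724), (7470, 7725), (7471, 6474), (7472, 7218), (7473, 6475), (7474, 8322), (7475, 8323), (7476, 8325), (7477, 8326), (7478, 8327), (7479, 6486), (7480, 6487), (7481, 8090), (7482, 8400), (7483, 6838), (7484, 6839), (7485, 8347), (7486,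 8348), (7487, 8349)]
    ⟨e3 q7424 L151538 q6435, e3 q7425 L151548 q6436, e3 q7426 (flp_c L160103) q8340, e3 q7427 (flp_c L160111) q8341, e3 q7428 (flp_c L160119) q8342, e3 q7429 L151580 q6491, e3 q7430 L151588 q6492, e3 q7431 L151600 q6550, e3 q7432 L151608 q6493, e3 q7433 L151614 q6494, e3 q7434 L151624 q6495, e3 q7435 L151630 q6454, e3 q7436 L151636 q6455, e3 q7437 L151640 q6456, e3 q7438 L151646 q6444, e3 q7439 L151650 q6445, e3 q7440 L151656 q6446, e3 q7441 (flp_c L159628) q8284, e3 q7442 (flp_c L160285) q8363, e3 q7443 (flp_c L160291) q8364, e3 q7444 L160313 q8369, e3 q7445 (flp_c L160077) q8337, e3 q7446 (flp_c L160085) q8338, e3 q7447 (flp_c L160093) q8339, e3 q7448 L151708 q6451, e3 q7449 L151719 q6452, e3 q7450 L151730 q6453, e3 q7451 L151749 q6624, e3 q7452 (flp_c L160376) q8376, e3 q7453 (flp_c L160389) q8377, e3 q7454 (flp_c L160247) q8357, e3 q7455 (flp_c L160251) q8358, e3 q7456 (flp_c L160259) q8359, e3 q7457 (flp_c L160269) q8360, e3 q7458 (flp_c L160277) q8361, e3 q7459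 (flp_c L160281) q8362, e3 q7460 L151819 q6461, e3 q7461 L151829 q6462, e3 q7462 L160499 q8389, e3 q7463 (flp_c L159686) q8291, e3 q7464 (flp_c L160481) q8387, e3 q7465 L160515 q8391, e3 q7466 (flp_c L151867) q6463, e3 q7467 (flp_c L157153) q8037, e3 q7468 (flp_c L157160) q8038, e3 q7469 (flp_c L154233) q7724, e3 q7470 (flp_c L154245) q7725, e3 q7471 L151914 q6474, e3 q7472 (flp_c L151933) q7218, e3 q7473 (flp_c L151937) q6475, e3 q7474 (flp_c L159966) q8322, e3 q7475 (flp_c L159976) q8323, e3 q7476 (flp_c L159991) q8325, e3 q7477 (flp_c L159999) q8326, e3 q7478 (flp_c L160009) q8327, e3 q7479 L152002 q6486, e3 q7480 L152011 q6487, e3 q7481 (flp_c L157753) q8090, e3 q7482 (flp_c L160609) q8400, e3 q7483 L152039 q6838, e3 q7484 L152051 q6839, e3 q7485 (flp_c L160161) q8347, e3 q7486 (flp_c L160167) q8348, e3 q7487 (flp_c L160177) q8349, trivial⟩ (by decide +kernel)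

theorem ce_c_117 : ∀ r, r < 64 → sm gc (Qf (7488 + r)) = Qf (tab Gen.c (7488 + r)) :=
  edges_tab (sm gc) Qf (tab Gen.c) 7488 [(7488, 8353), (7489, 8354), (7490, 8355), (7491, 6499), (7492, 6500), (7493, 8411), (7494, 8409), (7495, 7908), (7496, 6501), (7497, 6607), (7498, 8392), (7499, 8058), (7500, 8258), (7501, 8087), (7502, 6515), (7503, 8261), (7504, 8092), (7505, 6850), (7506, 8050), (7507, 8263), (7508, 8081), (7509, 8419), (7510, 6526), (7511, 7945), (7512, 6525), (7513, 7694), (7514, 8102), (7515, 6534), (7516, 7574), (7517, 8423), (7518, 6859), (7519, 6860), (7520, 8309), (7521, 8310), (7522, 8311), (7523, 6542), (7524, 6543), (7525, 6544), (7526, 8431), (7527, 8432), (7528, 8433), (7529, 6547), (7530, 8346), (7531, 6595), (7532, 6596), (7533, 6597), (7534, 8350), (7535, 8351), (7536, 8352), (7537, 6598), (7538, 6599), (7539, 6600), (7540, 7605), (7541, 6574), (7542, 6575), (7543, 6576), (7544, 6577), (7545, 6578), (7546, 6579), (7547, 6561), (7548, 6562), (7549, 8461), (7550,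 7550), (7551, 8459)]
    ⟨e3 q7488 (flp_c L160215) q8353, e3 q7489 (flp_c L160223) q8354, e3 q7490 (flp_c L160231) q8355, e3 q7491 L152111 q6499, e3 q7492 L152123 q6500, e3 q7493 L160704 q8411, e3 q7494 (flp_c L160690) q8409, e3 q7495 (flp_c L155847) q7908, e3 q7496 (flp_c L152149) q6501, e3 q7497 L152159 q6607, e3 q7498 (flp_c L160525) q8392, e3 q7499 (flp_c L157411) q8058, e3 q7500 (flp_c L159396) q8258, e3 q7501 (flp_c L157717) q8087, e3 q7502 L152203 q6515, e3 q7503 (flp_c L159428) q8261, e3 q7504 (flp_c L157776) q8092, e3 q7505 L152224 q6850, e3 q7506 (flp_c L157314) q8050, e3 q7507 (flp_c L159447) q8263, e3 q7508 (flp_c L157647) q8081, e3 q7509 L160766 q8419, e3 q7510 L152262 q6526, e3 q7511 (flp_c L156303) q7945, e3 q7512 (flp_c L152274) q6525, e3 q7513 (flp_c L153986) q7694, e3 q7514 (flp_c L157878) q8102, e3 q7515 L152303 q6534, e3 q7516 (flp_c L152840) q7574, e3 q7517 (flp_c L160806) q8423, e3 q7518 L152328 q6859, e3 q7519 L152339 q6860, e3 q7520 (flp_c L159864) q8309, e3 q7521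 (flp_c L159876) q8310, e3 q7522 (flp_c L159886) q8311, e3 q7523 L152372 q6542, e3 q7524 L152382 q6543, e3 q7525 L152392 q6544, e3 q7526 (flp_c L160876) q8431, e3 q7527 (flp_c L160888) q8432, e3 q7528 (flp_c L160898) q8433, e3 q7529 L152420 q6547, e3 q7530 (flp_c L160153) q8346, e3 q7531 L152439 q6595, e3 q7532 L152448 q6596, e3 q7533 L152459 q6597, e3 q7534 (flp_c L160185) q8350, e3 q7535 (flp_c L160193) q8351, e3 q7536 (flp_c L160203) q8352, e3 q7537 L152494 q6598, e3 q7538 L152504 q6599, e3 q7539 L152513 q6600, e3 q7540 (flp_c L153138) q7605, e3 q7541 L152533 q6574, e3 q7542 L152539 q6575, e3 q7543 L152550 q6576, e3 q7544 L152562 q6577, e3 q7545 L152571 q6578, e3 q7546 L152579 q6579, e3 q7547 L152586 q6561, e3 q7548 L152596 q6562, e3 q7549 L161145 q8461, e3 q7550 L152611 q7550, e3 q7551 (flp_c L161131) q8459, trivial⟩ (by decide +kernel)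

theorem ce_c_118 : ∀ r, r < 64 → sm gc (Qf (7552 + r)) = Qf (tab Gen.c (7552 + r)) :=
  edges_tab (sm gc) Qf (tab Gen.c) 7552 [(7552, 7674), (7553, 6563), (7554, 6861), (7555, 6862), (7556, 6863), (7557, 6864), (7558, 6865), (7559, 6866), (7560, 6571), (7561, 6572), (7562, 8473), (7563, 7563), (7564, 8471), (7565, 8475), (7566, 6573), (7567, 8453), (7568, 8454), (7569, 8455), (7570, 8456), (7571, 8457), (7572, 8482), (7573, 6584), (7574, 7516), (7575, 6582), (7576, 7811), (7577, 6610), (7578, 7578), (7579, 7579), (7580, 7580), (7581, 7186), (7582, 7182), (7583, 8440), (7584, 8441), (7585, 8442), (7586, 8449), (7587, 8450), (7588, 8492), (7589, 6604), (7590, 7920), (7591, 6603), (7592, 8464), (7593, 8476), (7594, 7594), (7595, 7595), (7596, 8493), (7597, 7597), (7598, 8100), (7599, 6616), (7600, 7600), (7601, 6691), (7602, 6623), (7603, 7640), (7604, 8379), (7605, 7540), (7606, 8171), (7607, 6626), (7608, 8502), (7609, 6633), (7610, 6634), (7611, 6629), (7612, 6685), (7613, 6687), (7614,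 6632), (7615, 8503)]
    ⟨e3 q7552 (flp_c L153814) q7674, e3 q7553 (flp_c L152636) q6563, e3 q7554 L152648 q6861, e3 q7555 L152660 q6862, e3 q7556 L152673 q6863, e3 q7557 L152686 q6864, e3 q7558 L152695 q6865, e3 q7559 L152706 q6866, e3 q7560 L152715 q6571, e3 q7561 L152725 q6572, e3 q7562 L161263 q8473, e3 q7563 L152742 q7563, e3 q7564 (flp_c L161247) q8471, e3 q7565 L161283 q8475, e3 q7566 (flp_c L152772) q6573, e3 q7567 (flp_c L161077) q8453, e3 q7568 (flp_c L161085) q8454, e3 q7569 (flp_c L161096) q8455, e3 q7570 (flp_c L161108) q8456, e3 q7571 (flp_c L161115) q8457, e3 q7572 L161344 q8482, e3 q7573 L152825 q6584, e3 q7574 L152840 q7516, e3 q7575 (flp_c L152844) q6582, e3 q7576 (flp_c L154871) q7811, e3 q7577 L152867 q6610, e3 q7578 L152872 q7578, e3 q7579 L152878 q7579, e3 q7580 L152891 q7580, e3 q7581 (flp_c L152913) q7186, e3 q7582 L152925 q7182, e3 q7583 (flp_c L160956) q8440, e3 q7584 (flp_c L160967) q8441, e3 q7585 (flp_c L160977) q8442, e3 q7586 (flp_c L161041) q8449, e3 q7587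 (flp_c L161052) q8450, e3 q7588 L161435 q8492, e3 q7589 L152989 q6604, e3 q7590 (flp_c L155984) q7920, e3 q7591 (flp_c L153004) q6603, e3 q7592 (flp_c L161179) q8464, e3 q7593 (flp_c L161301) q8476, e3 q7594 L153034 q7594, e3 q7595 L153044 q7595, e3 q7596 (flp_c L161444) q8493, e3 q7597 L153060 q7597, e3 q7598 (flp_c L157859) q8100, e3 q7599 (flp_c L153074) q6616, e3 q7600 L153088 q7600, e3 q7601 L153103 q6691, e3 q7602 L153114 q6623, e3 q7603 (flp_c L153523) q7640, e3 q7604 (flp_c L160412) q8379, e3 q7605 L153138 q7540, e3 q7606 (flp_c L158606) q8171, e3 q7607 L153160 q6626, e3 q7608 (flp_c L161531) q8502, e3 q7609 L153182 q6633, e3 q7610 L153194 q6634, e3 q7611 L153205 q6629, e3 q7612 L153217 q6685, e3 q7613 L153228 q6687, e3 q7614 L153238 q6632, e3 q7615 (flp_c L161544) q8503, trivial⟩ (by decide +kernel)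

theorem ce_c_119 : ∀ r, r < 64 → sm gc (Qf (7616 + r)) = Qf (tab Gen.c (7616 + r)) :=
  edges_tab (sm gc) Qf (tab Gen.c) 7616 [(7616, 8504), (7617, 8505), (7618, 6679), (7619, 8506), (7620, 6680), (7621, 6640), (7622, 6641), (7623, 8319), (7624, 6664), (7625, 8514), (7626, 7626), (7627, 7627), (7628, 6648), (7629, 6939), (7630, 6940), (7631, 6922), (7632, 6924), (7633, 6662), (7634, 8220), (7635, 7718), (7636, 8312), (7637, 6668), (7638, 6669), (7639, 6670), (7640, 7603), (7641, 8523), (7642, 8524), (7643, 8328), (7644, 8329), (7645, 8330), (7646, 6674), (7647, 6675), (7648, 8534), (7649, 6682), (7650, 6683), (7651, 6684), (7652, 6686), (7653, 8295), (7654, 8293), (7655, 8292), (7656, 8512), (7657, 8507), (7658, 8508), (7659, 8535), (7660, 8509), (7661, 8510), (7662, 8539), (7663, 6692), (7664, 8541), (7665, 6690), (7666, 8543), (7667, 6693), (7668, 6703), (7669, 7040), (7670, 6900), (7671, 6901), (7672, 6902), (7673, 6708), (7674, 7552), (7675, 7675), (7676, 7676), (7677, 7677), (7678,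 8549), (7679, 7679)]
    ⟨e3 q7616 (flp_c L161560) q8504, e3 q7617 (flp_c L161578) q8505, e3 q7618 L153284 q6679, e3 q7619 (flp_c L161592) q8506, e3 q7620 L153301 q6680, e3 q7621 L153311 q6640, e3 q7622 L153324 q6641, e3 q7623 (flp_c L159940) q8319, e3 q7624 L153342 q6664, e3 q7625 (flp_c L161693) q8514, e3 q7626 L153366 q7626, e3 q7627 L153379 q7627, e3 q7628 L153394 q6648, e3 q7629 L153405 q6939, e3 q7630 L153419 q6940, e3 q7631 L153432 q6922, e3 q7632 L153443 q6924, e3 q7633 L153453 q6662, e3 q7634 (flp_c L159048) q8220, e3 q7635 (flp_c L154181) q7718, e3 q7636 (flp_c L159894) q8312, e3 q7637 L153493 q6668, e3 q7638 L153502 q6669, e3 q7639 L153511 q6670, e3 q7640 L153523 q7603, e3 q7641 (flp_c L161789) q8523, e3 q7642 (flp_c L161801) q8524, e3 q7643 (flp_c L160017) q8328, e3 q7644 (flp_c L160023) q8329, e3 q7645 (flp_c L160029) q8330, e3 q7646 L153561 q6674, e3 q7647 L153569 q6675, e3 q7648 (flp_c L161878) q8534, e3 q7649 L153584 q6682, e3 q7650 L153595 q6683, e3 q7651 L153606 q6684,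 e3 q7652 L153617 q6686, e3 q7653 (flp_c L159742) q8295, e3 q7654 (flp_c L159714) q8293, e3 q7655 (flp_c L159701) q8292, e3 q7656 (flp_c L161672) q8512, e3 q7657 (flp_c L161604) q8507, e3 q7658 (flp_c L161619) q8508, e3 q7659 (flp_c L161886) q8535, e3 q7660 (flp_c L161636) q8509, e3 q7661 (flp_c L161649) q8510, e3 q7662 L161922 q8539, e3 q7663 L153713 q6692, e3 q7664 L161934 q8541, e3 q7665 (flp_c L153727) q6690, e3 q7666 (flp_c L161954) q8543, e3 q7667 (flp_c L153739) q6693, e3 q7668 L153745 q6703, e3 q7669 L153756 q7040, e3 q7670 L153767 q6900, e3 q7671 L153777 q6901, e3 q7672 L153788 q6902, e3 q7673 L153802 q6708, e3 q7674 L153814 q7552, e3 q7675 L153824 q7675, e3 q7676 L153835 q7676, e3 q7677 L153844 q7677, e3 q7678 L162011 q8549, e3 q7679 L153856 q7679, trivial⟩ (by decide +kernel)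

theorem ce_c_120 : ∀ r, r < 64 → sm gc (Qf (7680 + r)) = Qf (tab Gen.c (7680 + r)) :=
  edges_tab (sm gc) Qf (tab Gen.c) 7680 [(7680, 7680), (7681, 7681), (7682, 7682), (7683, 7683), (7684, 8114), (7685, 6724), (7686, 8556), (7687, 6722), (7688, 7810), (7689, 6725), (7690, 6741), (7691, 7691), (7692, 7692), (7693, 8115), (7694, 7513), (7695, 8542), (7696, 6742), (7697, 8560), (7698, 8561), (7699, 6770), (7700, 6745), (7701, 6746), (7702, 8567), (7703, 8568), (7704, 6774), (7705, 6775), (7706, 6753), (7707, 6750), (7708, 6751), (7709, 6752), (7710, 8576), (7711, 8577), (7712, 8573), (7713, 8574), (7714, 8575), (7715, 6757), (7716, 6758), (7717, 6759), (7718, 7635), (7719, 8587), (7720, 8588), (7721, 8593), (7722, 8137), (7723, 8119), (7724, 7469), (7725, 7470), (7726, 6767), (7727, 6768), (7728, 8596), (7729, 7095), (7730, 8565), (7731, 6773), (7732, 8059), (7733, 8571), (7734, 8572), (7735, 6779), (7736, 7916), (7737, 8043), (7738, 8605), (7739, 7739), (7740, 8253), (7741, 6782), (7742,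 8607), (7743, 7930)]
    ⟨e3 q7680 L153866 q7680, e3 q7681 L153878 q7681, e3 q7682 L153888 q7682, e3 q7683 L153894 q7683, e3 q7684 (flp_c L157987) q8114, e3 q7685 L153910 q6724, e3 q7686 L162084 q8556, e3 q7687 (flp_c L153922) q6722, e3 q7688 (flp_c L154861) q7810, e3 q7689 (flp_c L153938) q6725, e3 q7690 L153952 q6741, e3 q7691 L153957 q7691, e3 q7692 L153967 q7692, e3 q7693 (flp_c L157997) q8115, e3 q7694 L153986 q7513, e3 q7695 (flp_c L161950) q8542, e3 q7696 (flp_c L153996) q6742, e3 q7697 (flp_c L162124) q8560, e3 q7698 (flp_c L162132) q8561, e3 q7699 L154023 q6770, e3 q7700 L154029 q6745, e3 q7701 L154037 q6746, e3 q7702 (flp_c L162176) q8567, e3 q7703 (flp_c L162184) q8568, e3 q7704 L154060 q6774, e3 q7705 L154066 q6775, e3 q7706 L154074 q6753, e3 q7707 L154082 q6750, e3 q7708 L154088 q6751, e3 q7709 L154096 q6752, e3 q7710 (flp_c L162249) q8576, e3 q7711 (flp_c L162257) q8577, e3 q7712 (flp_c L162223) q8573, e3 q7713 (flp_c L162231) q8574, e3 q7714 (flp_c L162239) q8575, e3 q7715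 L154145 q6757, e3 q7716 L154155 q6758, e3 q7717 L154166 q6759, e3 q7718 L154181 q7635, e3 q7719 (flp_c L162336) q8587, e3 q7720 (flp_c L162347) q8588, e3 q7721 L162394 q8593, e3 q7722 (flp_c L158274) q8137, e3 q7723 (flp_c L158047) q8119, e3 q7724 L154233 q7469, e3 q7725 L154245 q7470, e3 q7726 L154258 q6767, e3 q7727 L154268 q6768, e3 q7728 (flp_c L162431) q8596, e3 q7729 L154294 q7095, e3 q7730 (flp_c L162165) q8565, e3 q7731 L154307 q6773, e3 q7732 (flp_c L157425) q8059, e3 q7733 (flp_c L162209) q8571, e3 q7734 (flp_c L162217) q8572, e3 q7735 L154334 q6779, e3 q7736 (flp_c L155941) q7916, e3 q7737 (flp_c L157226) q8043, e3 q7738 L162490 q8605, e3 q7739 L154360 q7739, e3 q7740 (flp_c L159355) q8253, e3 q7741 (flp_c L154373) q6782, e3 q7742 L162500 q8607, e3 q7743 (flp_c L156097) q7930, trivial⟩ (by decide +kernel)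

theorem ce_c_121 : ∀ r, r < 64 → sm gc (Qf (7744 + r)) = Qf (tab Gen.c (7744 + r)) :=
  edges_tab (sm gc) Qf (tab Gen.c) 7744 [(7744, 7937), (7745, 8611), (7746, 8612), (7747, 7951), (7748, 8262), (7749, 6793), (7750, 6856), (7751, 6799), (7752, 6800), (7753, 8616), (7754, 8617), (7755, 8618), (7756, 7756), (7757, 6803), (7758, 6804), (7759, 6805), (7760, 8625), (7761, 8626), (7762, 6813), (7763, 6814), (7764, 6815), (7765, 6810), (7766, 6811), (7767, 6812), (7768, 8012), (7769, 8636), (7770, 8637), (7771, 8642), (7772, 8630), (7773, 8631), (7774, 8632), (7775, 8633), (7776, 8634), (7777, 8635), (7778, 6820), (7779, 6821), (7780, 8651), (7781, 8033), (7782, 8649), (7783, 8654), (7784, 6822), (7785, 8294), (7786, 8296), (7787, 7292), (7788, 7293), (7789, 6833), (7790, 6952), (7791, 8661), (7792, 6834), (7793, 8662), (7794, 8251), (7795, 8248), (7796, 8403), (7797, 8665), (7798, 6840), (7799, 7921), (7800, 6842), (7801, 7957), (7802, 8656), (7803, 6985), (7804, 8266), (7805, 7953), (7806,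 6851), (7807, 7949)]
    ⟨e3 q7744 (flp_c L156199) q7937, e3 q7745 L162524 q8611, e3 q7746 L162529 q8612, e3 q7747 (flp_c L156379) q7951, e3 q7748 (flp_c L159435) q8262, e3 q7749 (flp_c L154417) q6793, e3 q7750 L154427 q6856, e3 q7751 L154431 q6799, e3 q7752 L154437 q6800, e3 q7753 (flp_c L162556) q8616, e3 q7754 (flp_c L162564) q8617, e3 q7755 (flp_c L162570) q8618, e3 q7756 L154465 q7756, e3 q7757 L154468 q6803, e3 q7758 L154474 q6804, e3 q7759 L154480 q6805, e3 q7760 (flp_c L162617) q8625, e3 q7761 (flp_c L162623) q8626, e3 q7762 L154501 q6813, e3 q7763 L154507 q6814, e3 q7764 L154513 q6815, e3 q7765 L154521 q6810, e3 q7766 L154525 q6811, e3 q7767 L154531 q6812, e3 q7768 (flp_c L156959) q8012, e3 q7769 (flp_c L162688) q8636, e3 q7770 (flp_c L162694) q8637, e3 q7771 L162718 q8642, e3 q7772 (flp_c L162650) q8630, e3 q7773 (flp_c L162656) q8631, e3 q7774 (flp_c L162662) q8632, e3 q7775 (flp_c L162668) q8633, e3 q7776 (flp_c L162676) q8634, e3 q7777 (flp_c L162682) q8635, e3 q7778 L154605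 q6820, e3 q7779 L154615 q6821, e3 q7780 L162785 q8651, e3 q7781 (flp_c L157122) q8033, e3 q7782 (flp_c L162771) q8649, e3 q7783 L162804 q8654, e3 q7784 (flp_c L154650) q6822, e3 q7785 (flp_c L159729) q8294, e3 q7786 (flp_c L159756) q8296, e3 q7787 L154676 q7292, e3 q7788 L154689 q7293, e3 q7789 L154701 q6833, e3 q7790 (flp_c L154718) q6952, e3 q7791 L162877 q8661, e3 q7792 (flp_c L154728) q6834, e3 q7793 (flp_c L162899) q8662, e3 q7794 L159340 q8251, e3 q7795 (flp_c L159315) q8248, e3 q7796 (flp_c L160636) q8403, e3 q7797 L162925 q8665, e3 q7798 (flp_c L154775) q6840, e3 q7799 (flp_c L155997) q7921, e3 q7800 (flp_c L154788) q6842, e3 q7801 (flp_c L156462) q7957, e3 q7802 (flp_c L162819) q8656, e3 q7803 L154824 q6985, e3 q7804 (flp_c L159476) q8266, e3 q7805 (flp_c L156413) q7953, e3 q7806 (flp_c L154839) q6851, e3 q7807 (flp_c L156353) q7949, trivial⟩ (by decide +kernel)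

theorem ce_c_122 : ∀ r, r < 64 → sm gc (Qf (7808 + r)) = Qf (tab Gen.c (7808 + r)) :=
  edges_tab (sm gc) Qf (tab Gen.c) 7808 [(7808, 8614), (7809, 8609), (7810, 7688), (7811, 7576), (7812, 8425), (7813, 8465), (7814, 8466), (7815, 8467), (7816, 8468), (7817, 8469), (7818, 8679), (7819, 6871), (7820, 8682), (7821, 6869), (7822, 8685), (7823, 7833), (7824, 6872), (7825, 7831), (7826, 6891), (7827, 7827), (7828, 7828), (7829, 7829), (7830, 6905), (7831, 7825), (7832, 6881), (7833, 7823), (7834, 8686), (7835, 8687), (7836, 8544), (7837, 8545), (7838, 6904), (7839, 8689), (7840, 8121), (7841, 8122), (7842, 6919), (7843, 6920), (7844, 8691), (7845, 8692), (7846, 8696), (7847, 8518), (7848, 6923), (7849, 8699), (7850, 8700), (7851, 6958), (7852, 6926), (7853, 6927), (7854, 8707), (7855, 8708), (7856, 8709), (7857, 6928), (7858, 8713), (7859, 8714), (7860, 6967), (7861, 6931), (7862, 6932), (7863, 8719), (7864, 8720), (7865, 6971), (7866, 6972), (7867, 6973), (7868, 6941), (7869, 6936), (7870,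 6937), (7871, 6938)]
    ⟨e3 q7808 (flp_c L162543) q8614, e3 q7809 (flp_c L162515) q8609, e3 q7810 L154861 q7688, e3 q7811 L154871 q7576, e3 q7812 (flp_c L160822) q8425, e3 q7813 (flp_c L161184) q8465, e3 q7814 (flp_c L161196) q8466, e3 q7815 (flp_c L161209) q8467, e3 q7816 (flp_c L161222) q8468, e3 q7817 (flp_c L161229) q8469, e3 q7818 L163020 q8679, e3 q7819 L154927 q6871, e3 q7820 L163038 q8682, e3 q7821 (flp_c L154940) q6869, e3 q7822 (flp_c L163066) q8685, e3 q7823 (flp_c L155051) q7833, e3 q7824 (flp_c L154960) q6872, e3 q7825 (flp_c L155028) q7831, e3 q7826 L154979 q6891, e3 q7827 L154984 q7827, e3 q7828 L154992 q7828, e3 q7829 L155001 q7829, e3 q7830 (flp_c L155019) q6905, e3 q7831 L155028 q7825, e3 q7832 (flp_c L155032) q6881, e3 q7833 L155051 q7823, e3 q7834 (flp_c L163079) q8686, e3 q7835 (flp_c L163083) q8687, e3 q7836 (flp_c L161963) q8544, e3 q7837 (flp_c L161978) q8545, e3 q7838 L155101 q6904, e3 q7839 L163105 q8689, e3 q7840 (flp_c L158072) q8121, e3 q7841 (flp_c L158089)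 q8122, e3 q7842 L155149 q6919, e3 q7843 (flp_c L155159) q6920, e3 q7844 (flp_c L163120) q8691, e3 q7845 (flp_c L163130) q8692, e3 q7846 L163165 q8696, e3 q7847 (flp_c L161741) q8518, e3 q7848 (flp_c L155214) q6923, e3 q7849 (flp_c L163213) q8699, e3 q7850 (flp_c L163225) q8700, e3 q7851 L155251 q6958, e3 q7852 L155257 q6926, e3 q7853 L155265 q6927, e3 q7854 (flp_c L163301) q8707, e3 q7855 (flp_c L163313) q8708, e3 q7856 (flp_c L163321) q8709, e3 q7857 (flp_c L155303) q6928, e3 q7858 (flp_c L163370) q8713, e3 q7859 (flp_c L163382) q8714, e3 q7860 L155340 q6967, e3 q7861 L155350 q6931, e3 q7862 L155360 q6932, e3 q7863 (flp_c L163445) q8719, e3 q7864 (flp_c L163457) q8720, e3 q7865 L155390 q6971, e3 q7866 L155400 q6972, e3 q7867 L155408 q6973, e3 q7868 L155416 q6941, e3 q7869 L155422 q6936, e3 q7870 L155430 q6937, e3 q7871 L155438 q6938, trivial⟩ (by decide +kernel)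

theorem ce_c_123 : ∀ r, r < 64 → sm gc (Qf (7872 + r)) = Qf (tab Gen.c (7872 + r)) :=
  edges_tab (sm gc) Qf (tab Gen.c) 7872 [(7872, 8731), (7873, 8732), (7874, 8733), (7875, 8517), (7876, 8728), (7877, 8729), (7878, 8730), (7879, 6945), (7880, 6946), (7881, 6947), (7882, 8745), (7883, 8660), (7884, 8748), (7885, 7290), (7886, 7291), (7887, 6951), (7888, 8659), (7889, 7309), (7890, 8698), (7891, 6957), (7892, 7315), (7893, 8751), (7894, 8703), (7895, 8704), (7896, 8705), (7897, 6962), (7898, 6963), (7899, 7325), (7900, 8756), (7901, 8712), (7902, 6966), (7903, 7298), (7904, 8761), (7905, 8717), (7906, 8718), (7907, 6970), (7908, 7495), (7909, 8722), (7910, 8723), (7911, 8725), (7912, 8726), (7913, 8727), (7914, 6978), (7915, 6979), (7916, 7736), (7917, 7307), (7918, 8772), (7919, 8776), (7920, 7590), (7921, 7799), (7922, 6983), (7923, 7032), (7924, 7925), (7925, 7924), (7926, 8143), (7927, 7357), (7928, 8145), (7929, 8781), (7930, 7743), (7931, 7343), (7932, 6999), (7933, 7346), (7934,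 7142), (7935, 7143)]
    ⟨e3 q7872 (flp_c L163569) q8731, e3 q7873 (flp_c L163581) q8732, e3 q7874 (flp_c L163591) q8733, e3 q7875 (flp_c L161727) q8517, e3 q7876 (flp_c L163541) q8728, e3 q7877 (flp_c L163549) q8729, e3 q7878 (flp_c L163559) q8730, e3 q7879 L155518 q6945, e3 q7880 L155529 q6946, e3 q7881 L155539 q6947, e3 q7882 (flp_c L163704) q8745, e3 q7883 (flp_c L162870) q8660, e3 q7884 L163730 q8748, e3 q7885 L155584 q7290, e3 q7886 L155590 q7291, e3 q7887 L155599 q6951, e3 q7888 L162862 q8659, e3 q7889 L155620 q7309, e3 q7890 (flp_c L163203) q8698, e3 q7891 L155647 q6957, e3 q7892 L155660 q7315, e3 q7893 (flp_c L163770) q8751, e3 q7894 (flp_c L163256) q8703, e3 q7895 (flp_c L163274) q8704, e3 q7896 (flp_c L163286) q8705, e3 q7897 L155717 q6962, e3 q7898 L155731 q6963, e3 q7899 L155741 q7325, e3 q7900 (flp_c L163833) q8756, e3 q7901 (flp_c L163360) q8712, e3 q7902 L155776 q6966, e3 q7903 L155790 q7298, e3 q7904 (flp_c L163897) q8761, e3 q7905 (flp_c L163415) q8717, e3 q7906 (flp_c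 L163433) q8718, e3 q7907 L155837 q6970, e3 q7908 L155847 q7495, e3 q7909 (flp_c L163479) q8722, e3 q7910 (flp_c L163493) q8723, e3 q7911 (flp_c L163511) q8725, e3 q7912 (flp_c L163523) q8726, e3 q7913 (flp_c L163533) q8727, e3 q7914 L155913 q6978, e3 q7915 L155927 q6979, e3 q7916 L155941 q7736, e3 q7917 L155949 q7307, e3 q7918 (flp_c L164031) q8772, e3 q7919 L164085 q8776, e3 q7920 L155984 q7590, e3 q7921 L155997 q7799, e3 q7922 (flp_c L155999) q6983, e3 q7923 L156016 q7032, e3 q7924 (flp_c L156045) q7925, e3 q7925 L156045 q7924, e3 q7926 (flp_c L158336) q8143, e3 q7927 L156073 q7357, e3 q7928 (flp_c L158360) q8145, e3 q7929 L164145 q8781, e3 q7930 L156097 q7743, e3 q7931 L156110 q7343, e3 q7932 L156126 q6999, e3 q7933 L156140 q7346, e3 q7934 L156154 q7142, e3 q7935 L156167 q7143, trivial⟩ (by decide +kernel)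

theorem ce_c_124 : ∀ r, r < 64 → sm gc (Qf (7936 + r)) = Qf (tab Gen.c (7936 + r)) :=
  edges_tab (sm gc) Qf (tab Gen.c) 7936 [(7936, 7005), (7937, 7744), (7938, 7354), (7939, 8789), (7940, 7008), (7941, 7336), (7942, 7150), (7943, 7151), (7944, 7350), (7945, 7511), (7946, 7157), (7947, 7158), (7948, 7160), (7949, 7807), (7950, 7021), (7951, 7747), (7952, 7342), (7953, 7805), (7954, 7022), (7955, 7238), (7956, 7170), (7957, 7801), (7958, 8797), (7959, 7042), (7960, 7035), (7961, 8800), (7962, 7176), (7963, 7038), (7964, 7039), (7965, 8806), (7966, 8807), (7967, 8808), (7968, 8395), (7969, 7041), (7970, 8812), (7971, 7098), (7972, 7044), (7973, 7045), (7974, 8816), (7975, 8817), (7976, 7102), (7977, 7103), (7978, 7104), (7979, 7979), (7980, 7049), (7981, 7050), (7982, 7051), (7983, 8827), (7984, 8828), (7985, 8829), (7986, 7053), (7987, 7054), (7988, 8835), (7989, 8836), (7990, 7113), (7991, 7114), (7992, 7115), (7993, 7071), (7994, 7058), (7995, 7059), (7996, 7060), (7997, 8844), (7998,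 8845), (7999, 8846)]
    ⟨e3 q7936 L156181 q7005, e3 q7937 L156199 q7744, e3 q7938 L156206 q7354, e3 q7939 L164254 q8789, e3 q7940 L156229 q7008, e3 q7941 L156245 q7336, e3 q7942 L156259 q7150, e3 q7943 L156273 q7151, e3 q7944 L156289 q7350, e3 q7945 L156303 q7511, e3 q7946 L156313 q7157, e3 q7947 L156327 q7158, e3 q7948 L156335 q7160, e3 q7949 L156353 q7807, e3 q7950 L156363 q7021, e3 q7951 L156379 q7747, e3 q7952 L156393 q7342, e3 q7953 L156413 q7805, e3 q7954 (flp_c L156417) q7022, e3 q7955 L156433 q7238, e3 q7956 L156453 q7170, e3 q7957 L156462 q7801, e3 q7958 L164371 q8797, e3 q7959 L156478 q7042, e3 q7960 (flp_c L156486) q7035, e3 q7961 (flp_c L164409) q8800, e3 q7962 L156506 q7176, e3 q7963 L156510 q7038, e3 q7964 L156514 q7039, e3 q7965 (flp_c L164462) q8806, e3 q7966 (flp_c L164470) q8807, e3 q7967 (flp_c L164476) q8808, e3 q7968 (flp_c L160561) q8395, e3 q7969 (flp_c L156559) q7041, e3 q7970 (flp_c L164508) q8812, e3 q7971 L156591 q7098, e3 q7972 L156601 q7044, e3 q7973 L156611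 q7045, e3 q7974 (flp_c L164557) q8816, e3 q7975 (flp_c L164567) q8817, e3 q7976 L156638 q7102, e3 q7977 L156654 q7103, e3 q7978 L156664 q7104, e3 q7979 L156670 q7979, e3 q7980 L156673 q7049, e3 q7981 L156681 q7050, e3 q7982 L156687 q7051, e3 q7983 (flp_c L164664) q8827, e3 q7984 (flp_c L164674) q8828, e3 q7985 (flp_c L164682) q8829, e3 q7986 L156727 q7053, e3 q7987 L156739 q7054, e3 q7988 (flp_c L164743) q8835, e3 q7989 (flp_c L164755) q8836, e3 q7990 L156768 q7113, e3 q7991 L156786 q7114, e3 q7992 L156798 q7115, e3 q7993 L156810 q7071, e3 q7994 L156818 q7058, e3 q7995 L156826 q7059, e3 q7996 L156834 q7060, e3 q7997 (flp_c L164848) q8844, e3 q7998 (flp_c L164862) q8845, e3 q7999 (flp_c L164870) q8846, trivial⟩ (by decide +kernel)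

theorem ce_c_125 : ∀ r, r < 64 → sm gc (Qf (8000 + r)) = Qf (tab Gen.c (8000 + r)) :=
  edges_tab (sm gc) Qf (tab Gen.c) 8000 [(8000, 7121), (8001, 7122), (8002, 8002), (8003, 7123), (8004, 7124), (8005, 7125), (8006, 7078), (8007, 7079), (8008, 7080), (8009, 7068), (8010, 7069), (8011, 7070), (8012, 7768), (8013, 8868), (8014, 8869), (8015, 8874), (8016, 8842), (8017, 8843), (8018, 7075), (8019, 7076), (8020, 7077), (8021, 8878), (8022, 8879), (8023, 8882), (8024, 8862), (8025, 8863), (8026, 8864), (8027, 8865), (8028, 8866), (8029, 8867), (8030, 7085), (8031, 7086), (8032, 8891), (8033, 7781), (8034, 8889), (8035, 8893), (8036, 7087), (8037, 7467), (8038, 7468), (8039, 7094), (8040, 7226), (8041, 8814), (8042, 7101), (8043, 7737), (8044, 8819), (8045, 8821), (8046, 8822), (8047, 8823), (8048, 7109), (8049, 7110), (8050, 7506), (8051, 8900), (8052, 8904), (8053, 7219), (8054, 8838), (8055, 8840), (8056, 8841), (8057, 7120), (8058, 7499), (8059, 7732), (8060, 8911), (8061, 8852), (8062,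 8853), (8063, 8854)]
    ⟨e3 q8000 L156876 q7121, e3 q8001 L156886 q7122, e3 q8002 L156894 q8002, e3 q8003 L156899 q7123, e3 q8004 L156907 q7124, e3 q8005 L156915 q7125, e3 q8006 L156921 q7078, e3 q8007 L156927 q7079, e3 q8008 L156931 q7080, e3 q8009 L156937 q7068, e3 q8010 L156943 q7069, e3 q8011 L156951 q7070, e3 q8012 L156959 q7768, e3 q8013 (flp_c L165050) q8868, e3 q8014 (flp_c L165058) q8869, e3 q8015 L165086 q8874, e3 q8016 (flp_c L164830) q8842, e3 q8017 (flp_c L164836) q8843, e3 q8018 L157006 q7075, e3 q8019 L157017 q7076, e3 q8020 L157025 q7077, e3 q8021 (flp_c L165120) q8878, e3 q8022 (flp_c L165134) q8879, e3 q8023 L165159 q8882, e3 q8024 (flp_c L165016) q8862, e3 q8025 (flp_c L165022) q8863, e3 q8026 (flp_c L165028) q8864, e3 q8027 (flp_c L165034) q8865, e3 q8028 (flp_c L165042) q8866, e3 q8029 (flp_c L165046) q8867, e3 q8030 L157099 q7085, e3 q8031 L157108 q7086, e3 q8032 L165221 q8891, e3 q8033 L157122 q7781, e3 q8034 (flp_c L165206) q8889, e3 q8035 L165232 q8893, e3 q8036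 (flp_c L157145) q7087, e3 q8037 L157153 q7467, e3 q8038 L157160 q7468, e3 q8039 L157170 q7094, e3 q8040 L157180 q7226, e3 q8041 (flp_c L164536) q8814, e3 q8042 L157210 q7101, e3 q8043 L157226 q7737, e3 q8044 (flp_c L164589) q8819, e3 q8045 (flp_c L164613) q8821, e3 q8046 (flp_c L164627) q8822, e3 q8047 (flp_c L164637) q8823, e3 q8048 L157288 q7109, e3 q8049 L157302 q7110, e3 q8050 L157314 q7506, e3 q8051 (flp_c L165317) q8900, e3 q8052 L165364 q8904, e3 q8053 L157346 q7219, e3 q8054 (flp_c L164777) q8838, e3 q8055 (flp_c L164806) q8840, e3 q8056 (flp_c L164818) q8841, e3 q8057 L157397 q7120, e3 q8058 L157411 q7499, e3 q8059 L157425 q7732, e3 q8060 L165461 q8911, e3 q8061 (flp_c L164931) q8852, e3 q8062 (flp_c L164943) q8853, e3 q8063 (flp_c L164953) q8854, trivial⟩ (by decide +kernel)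

theorem ce_c_126 : ∀ r, r < 64 → sm gc (Qf (8064 + r)) = Qf (tab Gen.c (8064 + r)) :=
  edges_tab (sm gc) Qf (tab Gen.c) 8064 [(8064, 8858), (8065, 8859), (8066, 8860), (8067, 7129), (8068, 7130), (8069, 8919), (8070, 8917), (8071, 8920), (8072, 7131), (8073, 8922), (8074, 7134), (8075, 7136), (8076, 8894), (8077, 8927), (8078, 8785), (8079, 7147), (8080, 7353), (8081, 7508), (8082, 8928), (8083, 7148), (8084, 7341), (8085, 8791), (8086, 8930), (8087, 7501), (8088, 8931), (8089, 7155), (8090, 7481), (8091, 8793), (8092, 7504), (8093, 8788), (8094, 7164), (8095, 8929), (8096, 7163), (8097, 7165), (8098, 8795), (8099, 7167), (8100, 7598), (8101, 8796), (8102, 7514), (8103, 8799), (8104, 7174), (8105, 7175), (8106, 8941), (8107, 8486), (8108, 8942), (8109, 8802), (8110, 8803), (8111, 8804), (8112, 7180), (8113, 7181), (8114, 7684), (8115, 7693), (8116, 8949), (8117, 7193), (8118, 7194), (8119, 7723), (8120, 7195), (8121, 7840), (8122, 7841), (8123, 7203), (8124, 8953), (8125, 7206), (8126,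 8955), (8127, 7220)]
    ⟨e3 q8064 (flp_c L164982) q8858, e3 q8065 (flp_c L164994) q8859, e3 q8066 (flp_c L165004) q8860, e3 q8067 L157507 q7129, e3 q8068 L157520 q7130, e3 q8069 L165543 q8919, e3 q8070 (flp_c L165526) q8917, e3 q8071 L165554 q8920, e3 q8072 (flp_c L157547) q7131, e3 q8073 L165572 q8922, e3 q8074 (flp_c L157564) q7134, e3 q8075 (flp_c L157574) q7136, e3 q8076 (flp_c L165242) q8894, e3 q8077 L165626 q8927, e3 q8078 (flp_c L164199) q8785, e3 q8079 L157619 q7147, e3 q8080 (flp_c L157641) q7353, e3 q8081 L157647 q7508, e3 q8082 L165641 q8928, e3 q8083 (flp_c L157664) q7148, e3 q8084 L157681 q7341, e3 q8085 (flp_c L164288) q8791, e3 q8086 L165671 q8930, e3 q8087 L157717 q7501, e3 q8088 L165686 q8931, e3 q8089 (flp_c L157741) q7155, e3 q8090 L157753 q7481, e3 q8091 (flp_c L164318) q8793, e3 q8092 L157776 q7504, e3 q8093 (flp_c L164249) q8788, e3 q8094 L157799 q7164, e3 q8095 (flp_c L165669) q8929, e3 q8096 (flp_c L157814) q7163, e3 q8097 (flp_c L157823) q7165, e3 q8098 (flp_c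 L164356) q8795, e3 q8099 (flp_c L157843) q7167, e3 q8100 L157859 q7598, e3 q8101 (flp_c L164360) q8796, e3 q8102 L157878 q7514, e3 q8103 (flp_c L164403) q8799, e3 q8104 L157901 q7174, e3 q8105 L157912 q7175, e3 q8106 (flp_c L165821) q8941, e3 q8107 L161386 q8486, e3 q8108 (flp_c L165836) q8942, e3 q8109 (flp_c L164425) q8802, e3 q8110 (flp_c L164437) q8803, e3 q8111 (flp_c L164447) q8804, e3 q8112 L157969 q7180, e3 q8113 L157980 q7181, e3 q8114 L157987 q7684, e3 q8115 L157997 q7693, e3 q8116 (flp_c L165904) q8949, e3 q8117 L158015 q7193, e3 q8118 L158030 q7194, e3 q8119 L158047 q7723, e3 q8120 L158059 q7195, e3 q8121 L158072 q7840, e3 q8122 L158089 q7841, e3 q8123 (flp_c L158099) q7203, e3 q8124 (flp_c L165945) q8953, e3 q8125 L158130 q7206, e3 q8126 (flp_c L165974) q8955, e3 q8127 L158164 q7220, trivial⟩ (by decide +kernel)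

theorem ce_c_127 : ∀ r, r < 64 → sm gc (Qf (8128 + r)) = Qf (tab Gen.c (8128 + r)) :=
  edges_tab (sm gc) Qf (tab Gen.c) 8128 [(8128, 7208), (8129, 8957), (8130, 7223), (8131, 7224), (8132, 7214), (8133, 7212), (8134, 7213), (8135, 8961), (8136, 8960), (8137, 7722), (8138, 8956), (8139, 7222), (8140, 8958), (8141, 8959), (8142, 7324), (8143, 7926), (8144, 7332), (8145, 7928), (8146, 8970), (8147, 7335), (8148, 7345), (8149, 7310), (8150, 8792), (8151, 8777), (8152, 8973), (8153, 7247), (8154, 7241), (8155, 8976), (8156, 8977), (8157, 8157), (8158, 7244), (8159, 7245), (8160, 8984), (8161, 8985), (8162, 8986), (8163, 7246), (8164, 8989), (8165, 7299), (8166, 7249), (8167, 8992), (8168, 7302), (8169, 7303), (8170, 7304), (8171, 7606), (8172, 7253), (8173, 7254), (8174, 7255), (8175, 9000), (8176, 9001), (8177, 7257), (8178, 7258), (8179, 9005), (8180, 9006), (8181, 7311), (8182, 7312), (8183, 7275), (8184, 7262), (8185, 7263), (8186, 7264), (8187, 9014), (8188, 9015), (8189, 7317), (8190,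 7318), (8191, 8191)]
    ⟨e3 q8128 L158170 q7208, e3 q8129 (flp_c L166000) q8957, e3 q8130 L158194 q7223, e3 q8131 L158206 q7224, e3 q8132 L158218 q7214, e3 q8133 L158228 q7212, e3 q8134 L158238 q7213, e3 q8135 (flp_c L166044) q8961, e3 q8136 (flp_c L166032) q8960, e3 q8137 L158274 q7722, e3 q8138 (flp_c L165988) q8956, e3 q8139 L158296 q7222, e3 q8140 (flp_c L166014) q8958, e3 q8141 (flp_c L166024) q8959, e3 q8142 L158326 q7324, e3 q8143 L158336 q7926, e3 q8144 L158350 q7332, e3 q8145 L158360 q7928, e3 q8146 L166140 q8970, e3 q8147 L158380 q7335, e3 q8148 L158395 q7345, e3 q8149 L158405 q7310, e3 q8150 (flp_c L164308) q8792, e3 q8151 (flp_c L164103) q8777, e3 q8152 L166172 q8973, e3 q8153 L158446 q7247, e3 q8154 (flp_c L158454) q7241, e3 q8155 (flp_c L166204) q8976, e3 q8156 (flp_c L166214) q8977, e3 q8157 L158484 q8157, e3 q8158 L158489 q7244, e3 q8159 L158495 q7245, e3 q8160 (flp_c L166277) q8984, e3 q8161 (flp_c L166283) q8985, e3 q8162 (flp_c L166291) q8986, e3 q8163 (flp_c L158520)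 q7246, e3 q8164 (flp_c L166313) q8989, e3 q8165 L158548 q7299, e3 q8166 L158554 q7249, e3 q8167 (flp_c L166345) q8992, e3 q8168 L158576 q7302, e3 q8169 L158588 q7303, e3 q8170 L158598 q7304, e3 q8171 L158606 q7606, e3 q8172 L158612 q7253, e3 q8173 L158620 q7254, e3 q8174 L158630 q7255, e3 q8175 (flp_c L166421) q9000, e3 q8176 (flp_c L166429) q9001, e3 q8177 L158662 q7257, e3 q8178 L158668 q7258, e3 q8179 (flp_c L166466) q9005, e3 q8180 (flp_c L166474) q9006, e3 q8181 L158697 q7311, e3 q8182 L158709 q7312, e3 q8183 L158719 q7275, e3 q8184 L158725 q7262, e3 q8185 L158733 q7263, e3 q8186 L158743 q7264, e3 q8187 (flp_c L166549) q9014, e3 q8188 (flp_c L166557) q9015, e3 q8189 L158777 q7317, e3 q8190 L158787 q7318, e3 q8191 L158797 q8191, trivial⟩ (by decide +kernel)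

theorem ce_c_128 : ∀ r, r < 64 → sm gc (Qf (8192 + r)) = Qf (tab Gen.c (8192 + r)) :=
  edges_tab (sm gc) Qf (tab Gen.c) 8192 [(8192, 7319), (8193, 7320), (8194, 7321), (8195, 7280), (8196, 7281), (8197, 7282), (8198, 7272), (8199, 7273), (8200, 7274), (8201, 8962), (8202, 9033), (8203, 9034), (8204, 9039), (8205, 9011), (8206, 9012), (8207, 9013), (8208, 7278), (8209, 7279), (8210, 9046), (8211, 9027), (8212, 9028), (8213, 9029), (8214, 9030), (8215, 9031), (8216, 9032), (8217, 7287), (8218, 7288), (8219, 9055), (8220, 7634), (8221, 9053), (8222, 9057), (8223, 7289), (8224, 8657), (8225, 8658), (8226, 7296), (8227, 8762), (8228, 8991), (8229, 7301), (8230, 8993), (8231, 8995), (8232, 8996), (8233, 7308), (8234, 8905), (8235, 8774), (8236, 8749), (8237, 9009), (8238, 9010), (8239, 7316), (8240, 8965), (8241, 8752), (8242, 9019), (8243, 9020), (8244, 9024), (8245, 9025), (8246, 9072), (8247, 7326), (8248, 7795), (8249, 8901), (8250, 8758), (8251, 7794), (8252, 9075), (8253, 7740), (8254,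 9077), (8255, 7334)]
    ⟨e3 q8192 L158802 q7319, e3 q8193 L158808 q7320, e3 q8194 L158816 q7321, e3 q8195 L158822 q7280, e3 q8196 L158830 q7281, e3 q8197 L158836 q7282, e3 q8198 L158844 q7272, e3 q8199 L158850 q7273, e3 q8200 L158858 q7274, e3 q8201 (flp_c L166058) q8962, e3 q8202 (flp_c L166709) q9033, e3 q8203 (flp_c L166717) q9034, e3 q8204 L166749 q9039, e3 q8205 (flp_c L166521) q9011, e3 q8206 (flp_c L166529) q9012, e3 q8207 (flp_c L166539) q9013, e3 q8208 L158928 q7278, e3 q8209 L158940 q7279, e3 q8210 (flp_c L166831) q9046, e3 q8211 (flp_c L166659) q9027, e3 q8212 (flp_c L166665) q9028, e3 q8213 (flp_c L166675) q9029, e3 q8214 (flp_c L166687) q9030, e3 q8215 (flp_c L166697) q9031, e3 q8216 (flp_c L166703) q9032, e3 q8217 L159015 q7287, e3 q8218 L159026 q7288, e3 q8219 L166920 q9055, e3 q8220 L159048 q7634, e3 q8221 (flp_c L166899) q9053, e3 q8222 L166945 q9057, e3 q8223 (flp_c L159078) q7289, e3 q8224 (flp_c L162827) q8657, e3 q8225 (flp_c L162841) q8658, e3 q8226 L159112 q7296,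 e3 q8227 (flp_c L163913) q8762, e3 q8228 (flp_c L166335) q8991, e3 q8229 L159144 q7301, e3 q8230 (flp_c L166359) q8993, e3 q8231 (flp_c L166375) q8995, e3 q8232 (flp_c L166385) q8996, e3 q8233 L159181 q7308, e3 q8234 (flp_c L165385) q8905, e3 q8235 (flp_c L164061) q8774, e3 q8236 (flp_c L163741) q8749, e3 q8237 (flp_c L166501) q9009, e3 q8238 (flp_c L166513) q9010, e3 q8239 L159237 q7316, e3 q8240 (flp_c L166094) q8965, e3 q8241 (flp_c L163784) q8752, e3 q8242 (flp_c L166600) q9019, e3 q8243 (flp_c L166612) q9020, e3 q8244 (flp_c L166639) q9024, e3 q8245 (flp_c L166647) q9025, e3 q8246 L167094 q9072, e3 q8247 L159305 q7326, e3 q8248 L159315 q7795, e3 q8249 L165339 q8901, e3 q8250 (flp_c L163860) q8758, e3 q8251 (flp_c L159340) q7794, e3 q8252 L167115 q9075, e3 q8253 L159355 q7740, e3 q8254 L167134 q9077, e3 q8255 (flp_c L159372) q7334, trivial⟩ (by decide +kernel)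

theorem ce_c_129 : ∀ r, r < 64 → sm gc (Qf (8256 + r)) = Qf (tab Gen.c (8256 + r)) :=
  edges_tab (sm gc) Qf (tab Gen.c) 8256 [(8256, 9078), (8257, 7396), (8258, 7500), (8259, 8783), (8260, 8786), (8261, 7503), (8262, 7748), (8263, 7507), (8264, 8765), (8265, 8936), (8266, 7804), (8267, 7397), (8268, 7359), (8269, 7360), (8270, 9082), (8271, 9083), (8272, 7387), (8273, 7363), (8274, 7365), (8275, 8275), (8276, 7389), (8277, 7390), (8278, 7391), (8279, 7374), (8280, 7375), (8281, 7376), (8282, 7372), (8283, 7373), (8284, 7441), (8285, 9099), (8286, 9094), (8287, 9095), (8288, 9096), (8289, 9097), (8290, 9098), (8291, 7463), (8292, 7655), (8293, 7654), (8294, 7785), (8295, 7653), (8296, 7786), (8297, 7385), (8298, 9085), (8299, 9091), (8300, 9092), (8301, 7394), (8302, 9059), (8303, 8790), (8304, 9081), (8305, 7400), (8306, 7401), (8307, 9113), (8308, 9114), (8309, 7520), (8310, 7521), (8311, 7522), (8312, 7636), (8313, 7405), (8314, 7406), (8315, 7407), (8316, 9125), (8317, 9126), (8318,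 9127), (8319, 7623)]
    ⟨e3 q8256 (flp_c L167145) q9078, e3 q8257 L159389 q7396, e3 q8258 L159396 q7500, e3 q8259 (flp_c L164175) q8783, e3 q8260 (flp_c L164219) q8786, e3 q8261 L159428 q7503, e3 q8262 L159435 q7748, e3 q8263 L159447 q7507, e3 q8264 (flp_c L163953) q8765, e3 q8265 (flp_c L165760) q8936, e3 q8266 L159476 q7804, e3 q8267 L159487 q7397, e3 q8268 L159493 q7359, e3 q8269 L159503 q7360, e3 q8270 (flp_c L167180) q9082, e3 q8271 (flp_c L167190) q9083, e3 q8272 L159535 q7387, e3 q8273 L159541 q7363, e3 q8274 L159549 q7365, e3 q8275 L159557 q8275, e3 q8276 L159564 q7389, e3 q8277 L159572 q7390, e3 q8278 L159580 q7391, e3 q8279 L159586 q7374, e3 q8280 L159594 q7375, e3 q8281 L159604 q7376, e3 q8282 L159612 q7372, e3 q8283 L159620 q7373, e3 q8284 L159628 q7441, e3 q8285 (flp_c L167343) q9099, e3 q8286 (flp_c L167295) q9094, e3 q8287 (flp_c L167307) q9095, e3 q8288 (flp_c L167317) q9096, e3 q8289 (flp_c L167327) q9097, e3 q8290 (flp_c L167337) q9098, e3 q8291 L159686 q7463, e3 q8292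 L159701 q7655, e3 q8293 L159714 q7654, e3 q8294 L159729 q7785, e3 q8295 L159742 q7653, e3 q8296 L159756 q7786, e3 q8297 L159768 q7385, e3 q8298 (flp_c L167212) q9085, e3 q8299 (flp_c L167271) q9091, e3 q8300 (flp_c L167281) q9092, e3 q8301 L159804 q7394, e3 q8302 (flp_c L166975) q9059, e3 q8303 (flp_c L164279) q8790, e3 q8304 (flp_c L167170) q9081, e3 q8305 L159832 q7400, e3 q8306 L159840 q7401, e3 q8307 (flp_c L167467) q9113, e3 q8308 (flp_c L167477) q9114, e3 q8309 L159864 q7520, e3 q8310 L159876 q7521, e3 q8311 L159886 q7522, e3 q8312 L159894 q7636, e3 q8313 L159900 q7405, e3 q8314 L159904 q7406, e3 q8315 L159910 q7407, e3 q8316 (flp_c L167574) q9125, e3 q8317 (flp_c L167582) q9126, e3 q8318 (flp_c L167588) q9127, e3 q8319 L159940 q7623, trivial⟩ (by decide +kernel)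

theorem ce_c_130 : ∀ r, r < 64 → sm gc (Qf (8320 + r)) = Qf (tab Gen.c (8320 + r)) :=
  edges_tab (sm gc) Qf (tab Gen.c) 8320 [(8320, 7410), (8321, 7411), (8322, 7474), (8323, 7475), (8324, 8324), (8325, 7476), (8326, 7477), (8327, 7478), (8328, 7643), (8329, 7644), (8330, 7645), (8331, 7419), (8332, 7420), (8333, 7421), (8334, 9086), (8335, 9150), (8336, 9151), (8337, 7445), (8338, 7446), (8339, 7447), (8340, 7426), (8341, 7427), (8342, 7428), (8343, 9087), (8344, 9161), (8345, 9162), (8346, 7530), (8347, 7485), (8348, 7486), (8349, 7487), (8350, 7534), (8351, 7535), (8352, 7536), (8353, 7488), (8354, 7489), (8355, 7490), (8356, 8847), (8357, 7454), (8358, 7455), (8359, 7456), (8360, 7457), (8361, 7458), (8362, 7459), (8363, 7442), (8364, 7443), (8365, 9190), (8366, 9101), (8367, 9188), (8368, 9193), (8369, 7444), (8370, 9155), (8371, 9156), (8372, 9157), (8373, 9158), (8374, 9159), (8375, 9160), (8376, 7452), (8377, 7453), (8378, 8999), (8379, 7604), (8380, 9201), (8381, 9182), (8382,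 9183), (8383, 9184)]
    ⟨e3 q8320 L159948 q7410, e3 q8321 L159956 q7411, e3 q8322 L159966 q7474, e3 q8323 L159976 q7475, e3 q8324 L159986 q8324, e3 q8325 L159991 q7476, e3 q8326 L159999 q7477, e3 q8327 L160009 q7478, e3 q8328 L160017 q7643, e3 q8329 L160023 q7644, e3 q8330 L160029 q7645, e3 q8331 L160035 q7419, e3 q8332 L160041 q7420, e3 q8333 L160047 q7421, e3 q8334 (flp_c L167224) q9086, e3 q8335 (flp_c L167778) q9150, e3 q8336 (flp_c L167784) q9151, e3 q8337 L160077 q7445, e3 q8338 L160085 q7446, e3 q8339 L160093 q7447, e3 q8340 L160103 q7426, e3 q8341 L160111 q7427, e3 q8342 L160119 q7428, e3 q8343 (flp_c L167230) q9087, e3 q8344 (flp_c L167872) q9161, e3 q8345 (flp_c L167882) q9162, e3 q8346 L160153 q7530, e3 q8347 L160161 q7485, e3 q8348 L160167 q7486, e3 q8349 L160177 q7487, e3 q8350 L160185 q7534, e3 q8351 L160193 q7535, e3 q8352 L160203 q7536, e3 q8353 L160215 q7488, e3 q8354 L160223 q7489, e3 q8355 L160231 q7490, e3 q8356 (flp_c L164880) q8847, e3 q8357 L160247 q7454, e3 q8358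 L160251 q7455, e3 q8359 L160259 q7456, e3 q8360 L160269 q7457, e3 q8361 L160277 q7458, e3 q8362 L160281 q7459, e3 q8363 L160285 q7442, e3 q8364 L160291 q7443, e3 q8365 L168106 q9190, e3 q8366 (flp_c L167353) q9101, e3 q8367 (flp_c L168098) q9188, e3 q8368 L168116 q9193, e3 q8369 (flp_c L160313) q7444, e3 q8370 (flp_c L167810) q9155, e3 q8371 (flp_c L167820) q9156, e3 q8372 (flp_c L167834) q9157, e3 q8373 (flp_c L167846) q9158, e3 q8374 (flp_c L167856) q9159, e3 q8375 (flp_c L167864) q9160, e3 q8376 L160376 q7452, e3 q8377 L160389 q7453, e3 q8378 (flp_c L166411) q8999, e3 q8379 L160412 q7604, e3 q8380 (flp_c L168191) q9201, e3 q8381 (flp_c L168058) q9182, e3 q8382 (flp_c L168064) q9183, e3 q8383 (flp_c L168072) q9184, trivial⟩ (by decide +kernel)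

theorem ce_c_131 : ∀ r, r < 64 → sm gc (Qf (8384 + r)) = Qf (tab Gen.c (8384 + r)) :=
  edges_tab (sm gc) Qf (tab Gen.c) 8384 [(8384, 9185), (8385, 9186), (8386, 9209), (8387, 7464), (8388, 9212), (8389, 7462), (8390, 9214), (8391, 7465), (8392, 7498), (8393, 8594), (8394, 8595), (8395, 7968), (8396, 9136), (8397, 9137), (8398, 9141), (8399, 9142), (8400, 7482), (8401, 9066), (8402, 8933), (8403, 7796), (8404, 9169), (8405, 9170), (8406, 9178), (8407, 9179), (8408, 9224), (8409, 7494), (8410, 8766), (8411, 7493), (8412, 9194), (8413, 8909), (8414, 9228), (8415, 8784), (8416, 8902), (8417, 9225), (8418, 8932), (8419, 7509), (8420, 8555), (8421, 8484), (8422, 8938), (8423, 7517), (8424, 8480), (8425, 7812), (8426, 9116), (8427, 9117), (8428, 9119), (8429, 9120), (8430, 9121), (8431, 7526), (8432, 7527), (8433, 7528), (8434, 9240), (8435, 9241), (8436, 9245), (8437, 9166), (8438, 9167), (8439, 9168), (8440, 7583), (8441, 7584), (8442, 7585), (8443, 9172), (8444, 9173), (8445, 9174), (8446,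 9175), (8447, 9176)]
    ⟨e3 q8384 (flp_c L168082) q9185, e3 q8385 (flp_c L168088) q9186, e3 q8386 L168268 q9209, e3 q8387 L160481 q7464, e3 q8388 L168290 q9212, e3 q8389 (flp_c L160499) q7462, e3 q8390 (flp_c L168314) q9214, e3 q8391 (flp_c L160515) q7465, e3 q8392 L160525 q7498, e3 q8393 (flp_c L162404) q8594, e3 q8394 (flp_c L162417) q8595, e3 q8395 L160561 q7968, e3 q8396 (flp_c L167659) q9136, e3 q8397 (flp_c L167669) q9137, e3 q8398 (flp_c L167704) q9141, e3 q8399 (flp_c L167712) q9142, e3 q8400 L160609 q7482, e3 q8401 (flp_c L167046) q9066, e3 q8402 (flp_c L165722) q8933, e3 q8403 L160636 q7796, e3 q8404 (flp_c L167940) q9169, e3 q8405 (flp_c L167948) q9170, e3 q8406 (flp_c L168028) q9178, e3 q8407 (flp_c L168038) q9179, e3 q8408 L168404 q9224, e3 q8409 L160690 q7494, e3 q8410 (flp_c L163967) q8766, e3 q8411 (flp_c L160704) q7493, e3 q8412 (flp_c L168126) q9194, e3 q8413 (flp_c L165437) q8909, e3 q8414 L168437 q9228, e3 q8415 (flp_c L164190) q8784, e3 q8416 (flp_c L165345) q8902,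 e3 q8417 (flp_c L168414) q9225, e3 q8418 (flp_c L165706) q8932, e3 q8419 (flp_c L160766) q7509, e3 q8420 (flp_c L162080) q8555, e3 q8421 (flp_c L161365) q8484, e3 q8422 (flp_c L165782) q8938, e3 q8423 L160806 q7517, e3 q8424 L161333 q8480, e3 q8425 L160822 q7812, e3 q8426 (flp_c L167493) q9116, e3 q8427 (flp_c L167503) q9117, e3 q8428 (flp_c L167522) q9119, e3 q8429 (flp_c L167532) q9120, e3 q8430 (flp_c L167542) q9121, e3 q8431 L160876 q7526, e3 q8432 L160888 q7527, e3 q8433 L160898 q7528, e3 q8434 (flp_c L168568) q9240, e3 q8435 (flp_c L168580) q9241, e3 q8436 L168608 q9245, e3 q8437 (flp_c L167910) q9166, e3 q8438 (flp_c L167918) q9167, e3 q8439 (flp_c L167928) q9168, e3 q8440 L160956 q7583, e3 q8441 L160967 q7584, e3 q8442 L160977 q7585, e3 q8443 (flp_c L167966) q9172, e3 q8444 (flp_c L167974) q9173, e3 q8445 (flp_c L167986) q9174, e3 q8446 (flp_c L167998) q9175, e3 q8447 (flp_c L168008) q9176, trivial⟩ (by decide +kernel)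

theorem ce_c_132 : ∀ r, r < 64 → sm gc (Qf (8448 + r)) = Qf (tab Gen.c (8448 + r)) :=
  edges_tab (sm gc) Qf (tab Gen.c) 8448 [(8448, 9177), (8449, 7586), (8450, 7587), (8451, 9263), (8452, 8499), (8453, 7567), (8454, 7568), (8455, 7569), (8456, 7570), (8457, 7571), (8458, 9271), (8459, 7551), (8460, 8546), (8461, 7549), (8462, 9275), (8463, 8463), (8464, 7592), (8465, 7813), (8466, 7814), (8467, 7815), (8468, 7816), (8469, 7817), (8470, 9282), (8471, 7564), (8472, 9285), (8473, 7562), (8474, 8671), (8475, 7565), (8476, 7593), (8477, 9266), (8478, 9267), (8479, 9268), (8480, 8424), (8481, 8951), (8482, 7572), (8483, 8672), (8484, 8421), (8485, 9213), (8486, 8107), (8487, 9252), (8488, 9253), (8489, 9293), (8490, 9261), (8491, 9294), (8492, 7588), (8493, 7596), (8494, 9296), (8495, 8495), (8496, 8923), (8497, 8983), (8498, 8525), (8499, 8452), (8500, 8997), (8501, 8998), (8502, 7608), (8503, 7615), (8504, 7616), (8505, 7617), (8506, 7619), (8507, 7657), (8508, 7658), (8509, 7660), (8510,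 7661), (8511, 9303)]
    ⟨e3 q8448 (flp_c L168018) q9177, e3 q8449 L161041 q7586, e3 q8450 L161052 q7587, e3 q8451 L168776 q9263, e3 q8452 (flp_c L161500) q8499, e3 q8453 L161077 q7567, e3 q8454 L161085 q7568, e3 q8455 L161096 q7569, e3 q8456 L161108 q7570, e3 q8457 L161115 q7571, e3 q8458 L168852 q9271, e3 q8459 L161131 q7551, e3 q8460 (flp_c L161993) q8546, e3 q8461 (flp_c L161145) q7549, e3 q8462 (flp_c L168888) q9275, e3 q8463 L161164 q8463, e3 q8464 L161179 q7592, e3 q8465 L161184 q7813, e3 q8466 L161196 q7814, e3 q8467 L161209 q7815, e3 q8468 L161222 q7816, e3 q8469 L161229 q7817, e3 q8470 L168957 q9282, e3 q8471 L161247 q7564, e3 q8472 L168990 q9285, e3 q8473 (flp_c L161263) q7562, e3 q8474 (flp_c L162964) q8671, e3 q8475 (flp_c L161283) q7565, e3 q8476 L161301 q7593, e3 q8477 (flp_c L168805) q9266, e3 q8478 (flp_c L168812) q9267, e3 q8479 (flp_c L168823) q9268, e3 q8480 (flp_c L161333) q8424, e3 q8481 (flp_c L165927) q8951, e3 q8482 (flp_c L161344) q7572, e3 q8483 (flp_c L162974)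 q8672, e3 q8484 L161365 q8421, e3 q8485 (flp_c L168310) q9213, e3 q8486 (flp_c L161386) q8107, e3 q8487 (flp_c L168677) q9252, e3 q8488 (flp_c L168689) q9253, e3 q8489 L169070 q9293, e3 q8490 (flp_c L168761) q9261, e3 q8491 L169077 q9294, e3 q8492 (flp_c L161435) q7588, e3 q8493 L161444 q7596, e3 q8494 (flp_c L169095) q9296, e3 q8495 L161461 q8495, e3 q8496 (flp_c L165588) q8923, e3 q8497 (flp_c L166269) q8983, e3 q8498 (flp_c L161812) q8525, e3 q8499 L161500 q8452, e3 q8500 (flp_c L166393) q8997, e3 q8501 (flp_c L166401) q8998, e3 q8502 L161531 q7608, e3 q8503 L161544 q7615, e3 q8504 L161560 q7616, e3 q8505 L161578 q7617, e3 q8506 L161592 q7619, e3 q8507 L161604 q7657, e3 q8508 L161619 q7658, e3 q8509 L161636 q7660, e3 q8510 L161649 q7661, e3 q8511 (flp_c L169175) q9303, trivial⟩ (by decide +kernel)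

theorem ce_c_133 : ∀ r, r < 64 → sm gc (Qf (8512 + r)) = Qf (tab Gen.c (8512 + r)) :=
  edges_tab (sm gc) Qf (tab Gen.c) 8512 [(8512, 7656), (8513, 9133), (8514, 7625), (8515, 9132), (8516, 9112), (8517, 7875), (8518, 7847), (8519, 8590), (8520, 9122), (8521, 9123), (8522, 9124), (8523, 7641), (8524, 7642), (8525, 8498), (8526, 9313), (8527, 9316), (8528, 9144), (8529, 9145), (8530, 9146), (8531, 9147), (8532, 9148), (8533, 9149), (8534, 7648), (8535, 7659), (8536, 9107), (8537, 9304), (8538, 9322), (8539, 7662), (8540, 8724), (8541, 7664), (8542, 7695), (8543, 7666), (8544, 7836), (8545, 7837), (8546, 8460), (8547, 9324), (8548, 9325), (8549, 7678), (8550, 8550), (8551, 8551), (8552, 8552), (8553, 8557), (8554, 8950), (8555, 8420), (8556, 7686), (8557, 8553), (8558, 8994), (8559, 8559), (8560, 7697), (8561, 7698), (8562, 9332), (8563, 9333), (8564, 9334), (8565, 7730), (8566, 8566), (8567, 7702), (8568, 7703), (8569, 9340), (8570, 8570), (8571, 7733), (8572, 7734), (8573, 7712), (8574,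 7713), (8575, 7714)]
    ⟨e3 q8512 L161672 q7656, e3 q8513 (flp_c L167634) q9133, e3 q8514 L161693 q7625, e3 q8515 (flp_c L167622) q9132, e3 q8516 (flp_c L167459) q9112, e3 q8517 L161727 q7875, e3 q8518 L161741 q7847, e3 q8519 (flp_c L162365) q8590, e3 q8520 (flp_c L167550) q9122, e3 q8521 (flp_c L167558) q9123, e3 q8522 (flp_c L167564) q9124, e3 q8523 L161789 q7641, e3 q8524 L161801 q7642, e3 q8525 L161812 q8498, e3 q8526 (flp_c L169286) q9313, e3 q8527 L169309 q9316, e3 q8528 (flp_c L167730) q9144, e3 q8529 (flp_c L167738) q9145, e3 q8530 (flp_c L167748) q9146, e3 q8531 (flp_c L167760) q9147, e3 q8532 (flp_c L167768) q9148, e3 q8533 (flp_c L167774) q9149, e3 q8534 L161878 q7648, e3 q8535 L161886 q7659, e3 q8536 (flp_c L167411) q9107, e3 q8537 (flp_c L169190) q9304, e3 q8538 L169350 q9322, e3 q8539 (flp_c L161922) q7662, e3 q8540 (flp_c L163503) q8724, e3 q8541 (flp_c L161934) q7664, e3 q8542 L161950 q7695, e3 q8543 L161954 q7666, e3 q8544 L161963 q7836, e3 q8545 L161978 q7837, e3 q8546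 L161993 q8460, e3 q8547 L169368 q9324, e3 q8548 L169379 q9325, e3 q8549 (flp_c L162011) q7678, e3 q8550 L162023 q8550, e3 q8551 L162038 q8551, e3 q8552 L162050 q8552, e3 q8553 (flp_c L162098) q8557, e3 q8554 (flp_c L165917) q8950, e3 q8555 L162080 q8420, e3 q8556 (flp_c L162084) q7686, e3 q8557 L162098 q8553, e3 q8558 (flp_c L166369) q8994, e3 q8559 L162119 q8559, e3 q8560 L162124 q7697, e3 q8561 L162132 q7698, e3 q8562 (flp_c L169447) q9332, e3 q8563 (flp_c L169459) q9333, e3 q8564 (flp_c L169467) q9334, e3 q8565 L162165 q7730, e3 q8566 L162171 q8566, e3 q8567 L162176 q7702, e3 q8568 L162184 q7703, e3 q8569 (flp_c L169516) q9340, e3 q8570 L162202 q8570, e3 q8571 L162209 q7733, e3 q8572 L162217 q7734, e3 q8573 L162223 q7712, e3 q8574 L162231 q7713, e3 q8575 L162239 q7714, trivial⟩ (by decide +kernel)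

theorem ce_c_134 : ∀ r, r < 64 → sm gc (Qf (8576 + r)) = Qf (tab Gen.c (8576 + r)) :=
  edges_tab (sm gc) Qf (tab Gen.c) 8576 [(8576, 7710), (8577, 7711), (8578, 8734), (8579, 9352), (8580, 9356), (8581, 9347), (8582, 8820), (8583, 9348), (8584, 9349), (8585, 9350), (8586, 9351), (8587, 7719), (8588, 7720), (8589, 9365), (8590, 8519), (8591, 9363), (8592, 9367), (8593, 7721), (8594, 8393), (8595, 8394), (8596, 7728), (8597, 9337), (8598, 8757), (8599, 9371), (8600, 9345), (8601, 9373), (8602, 9375), (8603, 8773), (8604, 9067), (8605, 7738), (8606, 9368), (8607, 7742), (8608, 9380), (8609, 7809), (8610, 8787), (8611, 7745), (8612, 7746), (8613, 8935), (8614, 7808), (8615, 8615), (8616, 7753), (8617, 7754), (8618, 7755), (8619, 9384), (8620, 9385), (8621, 9386), (8622, 8622), (8623, 8623), (8624, 8624), (8625, 7760), (8626, 7761), (8627, 8830), (8628, 9396), (8629, 9400), (8630, 7772), (8631, 7773), (8632, 7774), (8633, 7775), (8634, 7776), (8635, 7777), (8636, 7769), (8637, 7770), (8638,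 9409), (8639, 8871)]
    ⟨e3 q8576 L162249 q7710, e3 q8577 L162257 q7711, e3 q8578 (flp_c L163601) q8734, e3 q8579 (flp_c L169613) q9352, e3 q8580 L169637 q9356, e3 q8581 (flp_c L169571) q9347, e3 q8582 (flp_c L164605) q8820, e3 q8583 (flp_c L169579) q9348, e3 q8584 (flp_c L169587) q9349, e3 q8585 (flp_c L169597) q9350, e3 q8586 (flp_c L169605) q9351, e3 q8587 L162336 q7719, e3 q8588 L162347 q7720, e3 q8589 L169716 q9365, e3 q8590 L162365 q8519, e3 q8591 (flp_c L169699) q9363, e3 q8592 L169735 q9367, e3 q8593 (flp_c L162394) q7721, e3 q8594 L162404 q8393, e3 q8595 L162417 q8394, e3 q8596 L162431 q7728, e3 q8597 (flp_c L169494) q9337, e3 q8598 (flp_c L163853) q8757, e3 q8599 L169761 q9371, e3 q8600 (flp_c L169557) q9345, e3 q8601 L169773 q9373, e3 q8602 L169783 q9375, e3 q8603 (flp_c L164047) q8773, e3 q8604 (flp_c L167053) q9067, e3 q8605 (flp_c L162490) q7738, e3 q8606 (flp_c L169745) q9368, e3 q8607 (flp_c L162500) q7742, e3 q8608 (flp_c L169819) q9380, e3 q8609 L162515 q7809, e3 q8610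 (flp_c L164228) q8787, e3 q8611 (flp_c L162524) q7745, e3 q8612 (flp_c L162529) q7746, e3 q8613 (flp_c L165751) q8935, e3 q8614 L162543 q7808, e3 q8615 L162549 q8615, e3 q8616 L162556 q7753, e3 q8617 L162564 q7754, e3 q8618 L162570 q7755, e3 q8619 (flp_c L169853) q9384, e3 q8620 (flp_c L169865) q9385, e3 q8621 (flp_c L169873) q9386, e3 q8622 L162602 q8622, e3 q8623 L162607 q8623, e3 q8624 L162612 q8624, e3 q8625 L162617 q7760, e3 q8626 L162623 q7761, e3 q8627 (flp_c L164694) q8830, e3 q8628 (flp_c L169948) q9396, e3 q8629 L169971 q9400, e3 q8630 L162650 q7772, e3 q8631 L162656 q7773, e3 q8632 L162662 q7774, e3 q8633 L162668 q7775, e3 q8634 L162676 q7776, e3 q8635 L162682 q7777, e3 q8636 L162688 q7769, e3 q8637 L162694 q7770, e3 q8638 L170026 q9409, e3 q8639 (flp_c L165068) q8871, trivial⟩ (by decide +kernel)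

theorem ce_c_135 : ∀ r, r < 64 → sm gc (Qf (8640 + r)) = Qf (tab Gen.c (8640 + r)) :=
  edges_tab (sm gc) Qf (tab Gen.c) 8640 [(8640, 9407), (8641, 9413), (8642, 7771), (8643, 9401), (8644, 9402), (8645, 9403), (8646, 9404), (8647, 9405), (8648, 9421), (8649, 7782), (8650, 9424), (8651, 7780), (8652, 9427), (8653, 9428), (8654, 7783), (8655, 9430), (8656, 7802), (8657, 8224), (8658, 8225), (8659, 7888), (8660, 7883), (8661, 7791), (8662, 7793), (8663, 9074), (8664, 8775), (8665, 7797), (8666, 8794), (8667, 9415), (8668, 9429), (8669, 9431), (8670, 9377), (8671, 8474), (8672, 8483), (8673, 9438), (8674, 9277), (8675, 9278), (8676, 9279), (8677, 9442), (8678, 9444), (8679, 7818), (8680, 9447), (8681, 8683), (8682, 7820), (8683, 8681), (8684, 9426), (8685, 7822), (8686, 7834), (8687, 7835), (8688, 8943), (8689, 7839), (8690, 8690), (8691, 7844), (8692, 7845), (8693, 9455), (8694, 9456), (8695, 9457), (8696, 7846), (8697, 9460), (8698, 7890), (8699, 7849), (8700, 7850), (8701, 9464), (8702,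 9465), (8703, 7894)]
    ⟨e3 q8640 (flp_c L170018) q9407, e3 q8641 L170046 q9413, e3 q8642 (flp_c L162718) q7771, e3 q8643 (flp_c L169978) q9401, e3 q8644 (flp_c L169986) q9402, e3 q8645 (flp_c L169994) q9403, e3 q8646 (flp_c L170000) q9404, e3 q8647 (flp_c L170006) q9405, e3 q8648 L170101 q9421, e3 q8649 L162771 q7782, e3 q8650 L170120 q9424, e3 q8651 (flp_c L162785) q7780, e3 q8652 (flp_c L170147) q9427, e3 q8653 L170150 q9428, e3 q8654 (flp_c L162804) q7783, e3 q8655 (flp_c L170164) q9430, e3 q8656 L162819 q7802, e3 q8657 L162827 q8224, e3 q8658 L162841 q8225, e3 q8659 (flp_c L162862) q7888, e3 q8660 L162870 q7883, e3 q8661 (flp_c L162877) q7791, e3 q8662 L162899 q7793, e3 q8663 (flp_c L167112) q9074, e3 q8664 (flp_c L164081) q8775, e3 q8665 (flp_c L162925) q7797, e3 q8666 (flp_c L164336) q8794, e3 q8667 (flp_c L170062) q9415, e3 q8668 (flp_c L170160) q9429, e3 q8669 (flp_c L170169) q9431, e3 q8670 (flp_c L169801) q9377, e3 q8671 L162964 q8474, e3 q8672 L162974 q8483, e3 q8673 L170228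 q9438, e3 q8674 (flp_c L168905) q9277, e3 q8675 (flp_c L168918) q9278, e3 q8676 (flp_c L168931) q9279, e3 q8677 L170256 q9442, e3 q8678 L170274 q9444, e3 q8679 (flp_c L163020) q7818, e3 q8680 (flp_c L170297) q9447, e3 q8681 (flp_c L163051) q8683, e3 q8682 (flp_c L163038) q7820, e3 q8683 L163051 q8681, e3 q8684 (flp_c L170143) q9426, e3 q8685 L163066 q7822, e3 q8686 L163079 q7834, e3 q8687 L163083 q7835, e3 q8688 (flp_c L165849) q8943, e3 q8689 (flp_c L163105) q7839, e3 q8690 L163115 q8690, e3 q8691 L163120 q7844, e3 q8692 L163130 q7845, e3 q8693 (flp_c L170384) q9455, e3 q8694 (flp_c L170396) q9456, e3 q8695 (flp_c L170406) q9457, e3 q8696 (flp_c L163165) q7846, e3 q8697 (flp_c L170437) q9460, e3 q8698 L163203 q7890, e3 q8699 L163213 q7849, e3 q8700 L163225 q7850, e3 q8701 (flp_c L170496) q9464, e3 q8702 (flp_c L170508) q9465, e3 q8703 L163256 q7894, trivial⟩ (by decide +kernel)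

theorem ce_c_136 : ∀ r, r < 64 → sm gc (Qf (8704 + r)) = Qf (tab Gen.c (8704 + r)) :=
  edges_tab (sm gc) Qf (tab Gen.c) 8704 [(8704, 7895), (8705, 7896), (8706, 8706), (8707, 7854), (8708, 7855), (8709, 7856), (8710, 9474), (8711, 9475), (8712, 7901), (8713, 7858), (8714, 7859), (8715, 9480), (8716, 9481), (8717, 7905), (8718, 7906), (8719, 7863), (8720, 7864), (8721, 9485), (8722, 7909), (8723, 7910), (8724, 8540), (8725, 7911), (8726, 7912), (8727, 7913), (8728, 7876), (8729, 7877), (8730, 7878), (8731, 7872), (8732, 7873), (8733, 7874), (8734, 8578), (8735, 9503), (8736, 9504), (8737, 9509), (8738, 9510), (8739, 9497), (8740, 9498), (8741, 9499), (8742, 9500), (8743, 9501), (8744, 9502), (8745, 7882), (8746, 9516), (8747, 9517), (8748, 7884), (8749, 8236), (8750, 9462), (8751, 7893), (8752, 8241), (8753, 9467), (8754, 9469), (8755, 9470), (8756, 7900), (8757, 8598), (8758, 8250), (8759, 9527), (8760, 9479), (8761, 7904), (8762, 8227), (8763, 9483), (8764, 9484), (8765, 8264), (8766,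 8410), (8767, 9489)]
    ⟨e3 q8704 L163274 q7895, e3 q8705 L163286 q7896, e3 q8706 L163294 q8706, e3 q8707 L163301 q7854, e3 q8708 L163313 q7855, e3 q8709 L163321 q7856, e3 q8710 (flp_c L170619) q9474, e3 q8711 (flp_c L170631) q9475, e3 q8712 L163360 q7901, e3 q8713 L163370 q7858, e3 q8714 L163382 q7859, e3 q8715 (flp_c L170692) q9480, e3 q8716 (flp_c L170704) q9481, e3 q8717 L163415 q7905, e3 q8718 L163433 q7906, e3 q8719 L163445 q7863, e3 q8720 L163457 q7864, e3 q8721 (flp_c L170756) q9485, e3 q8722 L163479 q7909, e3 q8723 L163493 q7910, e3 q8724 L163503 q8540, e3 q8725 L163511 q7911, e3 q8726 L163523 q7912, e3 q8727 L163533 q7913, e3 q8728 L163541 q7876, e3 q8729 L163549 q7877, e3 q8730 L163559 q7878, e3 q8731 L163569 q7872, e3 q8732 L163581 q7873, e3 q8733 L163591 q7874, e3 q8734 L163601 q8578, e3 q8735 (flp_c L170960) q9503, e3 q8736 (flp_c L170972) q9504, e3 q8737 L171016 q9509, e3 q8738 L171024 q9510, e3 q8739 (flp_c L170896) q9497, e3 q8740 (flp_c L170910) q9498, e3 q8741 (flp_c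 L170922) q9499, e3 q8742 (flp_c L170932) q9500, e3 q8743 (flp_c L170942) q9501, e3 q8744 (flp_c L170952) q9502, e3 q8745 L163704 q7882, e3 q8746 L171082 q9516, e3 q8747 L171089 q9517, e3 q8748 (flp_c L163730) q7884, e3 q8749 L163741 q8236, e3 q8750 (flp_c L170467) q9462, e3 q8751 L163770 q7893, e3 q8752 L163784 q8241, e3 q8753 (flp_c L170534) q9467, e3 q8754 (flp_c L170564) q9469, e3 q8755 (flp_c L170576) q9470, e3 q8756 L163833 q7900, e3 q8757 L163853 q8598, e3 q8758 L163860 q8250, e3 q8759 L171224 q9527, e3 q8760 (flp_c L170678) q9479, e3 q8761 L163897 q7904, e3 q8762 L163913 q8227, e3 q8763 (flp_c L170730) q9483, e3 q8764 (flp_c L170744) q9484, e3 q8765 L163953 q8264, e3 q8766 L163967 q8410, e3 q8767 (flp_c L170808) q9489, trivial⟩ (by decide +kernel)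

theorem ce_c_137 : ∀ r, r < 64 → sm gc (Qf (8768 + r)) = Qf (tab Gen.c (8768 + r)) :=
  edges_tab (sm gc) Qf (tab Gen.c) 8768 [(8768, 9490), (8769, 9494), (8770, 9495), (8771, 9535), (8772, 7918), (8773, 8603), (8774, 8235), (8775, 8664), (8776, 7919), (8777, 8151), (8778, 9518), (8779, 9540), (8780, 9541), (8781, 7929), (8782, 9542), (8783, 8259), (8784, 8415), (8785, 8078), (8786, 8260), (8787, 8610), (8788, 8093), (8789, 7939), (8790, 8303), (8791, 8085), (8792, 8150), (8793, 8091), (8794, 8666), (8795, 8098), (8796, 8101), (8797, 7958), (8798, 9545), (8799, 8103), (8800, 7961), (8801, 9548), (8802, 8109), (8803, 8110), (8804, 8111), (8805, 8805), (8806, 7965), (8807, 7966), (8808, 7967), (8809, 9556), (8810, 9557), (8811, 9558), (8812, 7970), (8813, 9563), (8814, 8041), (8815, 8815), (8816, 7974), (8817, 7975), (8818, 9566), (8819, 8044), (8820, 8582), (8821, 8045), (8822, 8046), (8823, 8047), (8824, 8824), (8825, 8825), (8826, 8826), (8827, 7983), (8828, 7984), (8829, 7985), (8830,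 8627), (8831, 9582)]
    ⟨e3 q8768 (flp_c L170822) q9490, e3 q8769 (flp_c L170868) q9494, e3 q8770 (flp_c L170880) q9495, e3 q8771 L171340 q9535, e3 q8772 L164031 q7918, e3 q8773 L164047 q8603, e3 q8774 L164061 q8235, e3 q8775 L164081 q8664, e3 q8776 (flp_c L164085) q7919, e3 q8777 L164103 q8151, e3 q8778 (flp_c L171109) q9518, e3 q8779 L171403 q9540, e3 q8780 L171414 q9541, e3 q8781 (flp_c L164145) q7929, e3 q8782 (flp_c L171431) q9542, e3 q8783 L164175 q8259, e3 q8784 L164190 q8415, e3 q8785 L164199 q8078, e3 q8786 L164219 q8260, e3 q8787 L164228 q8610, e3 q8788 L164249 q8093, e3 q8789 (flp_c L164254) q7939, e3 q8790 L164279 q8303, e3 q8791 L164288 q8085, e3 q8792 L164308 q8150, e3 q8793 L164318 q8091, e3 q8794 L164336 q8666, e3 q8795 L164356 q8098, e3 q8796 L164360 q8101, e3 q8797 (flp_c L164371) q7958, e3 q8798 (flp_c L171473) q9545, e3 q8799 L164403 q8103, e3 q8800 L164409 q7961, e3 q8801 (flp_c L171509) q9548, e3 q8802 L164425 q8109, e3 q8803 L164437 q8110, e3 q8804 L164447 q8111,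 e3 q8805 L164455 q8805, e3 q8806 L164462 q7965, e3 q8807 L164470 q7966, e3 q8808 L164476 q7967, e3 q8809 (flp_c L171599) q9556, e3 q8810 (flp_c L171611) q9557, e3 q8811 (flp_c L171619) q9558, e3 q8812 L164508 q7970, e3 q8813 (flp_c L171661) q9563, e3 q8814 L164536 q8041, e3 q8815 L164552 q8815, e3 q8816 L164557 q7974, e3 q8817 L164567 q7975, e3 q8818 (flp_c L171702) q9566, e3 q8819 L164589 q8044, e3 q8820 L164605 q8582, e3 q8821 L164613 q8045, e3 q8822 L164627 q8046, e3 q8823 L164637 q8047, e3 q8824 L164645 q8824, e3 q8825 L164650 q8825, e3 q8826 L164655 q8826, e3 q8827 L164664 q7983, e3 q8828 L164674 q7984, e3 q8829 L164682 q7985, e3 q8830 L164694 q8627, e3 q8831 (flp_c L171871) q9582, trivial⟩ (by decide +kernel)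

theorem ce_c_138 : ∀ r, r < 64 → sm gc (Qf (8832 + r)) = Qf (tab Gen.c (8832 + r)) :=
  edges_tab (sm gc) Qf (tab Gen.c) 8832 [(8832, 9583), (8833, 9588), (8834, 8834), (8835, 7988), (8836, 7989), (8837, 9590), (8838, 8054), (8839, 8839), (8840, 8055), (8841, 8056), (8842, 8016), (8843, 8017), (8844, 7997), (8845, 7998), (8846, 7999), (8847, 8356), (8848, 9600), (8849, 9601), (8850, 9606), (8851, 8851), (8852, 8061), (8853, 8062), (8854, 8063), (8855, 8855), (8856, 8856), (8857, 8857), (8858, 8064), (8859, 8065), (8860, 8066), (8861, 9591), (8862, 8024), (8863, 8025), (8864, 8026), (8865, 8027), (8866, 8028), (8867, 8029), (8868, 8013), (8869, 8014), (8870, 9631), (8871, 8639), (8872, 9629), (8873, 9634), (8874, 8015), (8875, 9597), (8876, 9598), (8877, 9599), (8878, 8021), (8879, 8022), (8880, 9640), (8881, 9641), (8882, 8023), (8883, 9623), (8884, 9624), (8885, 9625), (8886, 9626), (8887, 9627), (8888, 9649), (8889, 8034), (8890, 9652), (8891, 8032), (8892, 9654), (8893, 8035), (8894,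 8076), (8895, 9564)]
    ⟨e3 q8832 (flp_c L171881) q9583, e3 q8833 L171922 q9588, e3 q8834 L164736 q8834, e3 q8835 L164743 q7988, e3 q8836 L164755 q7989, e3 q8837 (flp_c L171944) q9590, e3 q8838 L164777 q8054, e3 q8839 L164797 q8839, e3 q8840 L164806 q8055, e3 q8841 L164818 q8056, e3 q8842 L164830 q8016, e3 q8843 L164836 q8017, e3 q8844 L164848 q7997, e3 q8845 L164862 q7998, e3 q8846 L164870 q7999, e3 q8847 L164880 q8356, e3 q8848 (flp_c L172070) q9600, e3 q8849 (flp_c L172084) q9601, e3 q8850 L172132 q9606, e3 q8851 L164924 q8851, e3 q8852 L164931 q8061, e3 q8853 L164943 q8062, e3 q8854 L164953 q8063, e3 q8855 L164961 q8855, e3 q8856 L164968 q8856, e3 q8857 L164973 q8857, e3 q8858 L164982 q8064, e3 q8859 L164994 q8065, e3 q8860 L165004 q8066, e3 q8861 (flp_c L171962) q9591, e3 q8862 L165016 q8024, e3 q8863 L165022 q8025, e3 q8864 L165028 q8026, e3 q8865 L165034 q8027, e3 q8866 L165042 q8028, e3 q8867 L165046 q8029, e3 q8868 L165050 q8013, e3 q8869 L165058 q8014, e3 q8870 L172339 q9631,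 e3 q8871 L165068 q8639, e3 q8872 (flp_c L172329) q9629, e3 q8873 L172353 q9634, e3 q8874 (flp_c L165086) q8015, e3 q8875 (flp_c L172040) q9597, e3 q8876 (flp_c L172052) q9598, e3 q8877 (flp_c L172060) q9599, e3 q8878 L165120 q8021, e3 q8879 L165134 q8022, e3 q8880 L172402 q9640, e3 q8881 L172409 q9641, e3 q8882 (flp_c L165159) q8023, e3 q8883 (flp_c L172291) q9623, e3 q8884 (flp_c L172299) q9624, e3 q8885 (flp_c L172307) q9625, e3 q8886 (flp_c L172313) q9626, e3 q8887 (flp_c L172319) q9627, e3 q8888 L172469 q9649, e3 q8889 L165206 q8034, e3 q8890 L172488 q9652, e3 q8891 (flp_c L165221) q8032, e3 q8892 (flp_c L172503) q9654, e3 q8893 (flp_c L165232) q8035, e3 q8894 L165242 q8076, e3 q8895 (flp_c L171677) q9564, trivial⟩ (by decide +kernel)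

theorem ce_c_139 : ∀ r, r < 64 → sm gc (Qf (8896 + r)) = Qf (tab Gen.c (8896 + r)) :=
  edges_tab (sm gc) Qf (tab Gen.c) 8896 [(8896, 9657), (8897, 9569), (8898, 9573), (8899, 9574), (8900, 8051), (8901, 8249), (8902, 8416), (8903, 9660), (8904, 8052), (8905, 8234), (8906, 9593), (8907, 9595), (8908, 9663), (8909, 8413), (8910, 9664), (8911, 8060), (8912, 9610), (8913, 9611), (8914, 9619), (8915, 9620), (8916, 9671), (8917, 8070), (8918, 9673), (8919, 8069), (8920, 8071), (8921, 9635), (8922, 8073), (8923, 8496), (8924, 9643), (8925, 9655), (8926, 9656), (8927, 8077), (8928, 8082), (8929, 8095), (8930, 8086), (8931, 8088), (8932, 8418), (8933, 8402), (8934, 9526), (8935, 8613), (8936, 8265), (8937, 9544), (8938, 8422), (8939, 9492), (8940, 9547), (8941, 8106), (8942, 8108), (8943, 8688), (8944, 9288), (8945, 9549), (8946, 9550), (8947, 9552), (8948, 9553), (8949, 8116), (8950, 8554), (8951, 8481), (8952, 9687), (8953, 8124), (8954, 9688), (8955, 8126), (8956, 8138), (8957, 8129), (8958,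 8140), (8959, 8141)]
    ⟨e3 q8896 L172530 q9657, e3 q8897 (flp_c L171737) q9569, e3 q8898 (flp_c L171791) q9573, e3 q8899 (flp_c L171805) q9574, e3 q8900 L165317 q8051, e3 q8901 (flp_c L165339) q8249, e3 q8902 L165345 q8416, e3 q8903 L172573 q9660, e3 q8904 (flp_c L165364) q8052, e3 q8905 L165385 q8234, e3 q8906 (flp_c L171981) q9593, e3 q8907 (flp_c L172012) q9595, e3 q8908 L172612 q9663, e3 q8909 L165437 q8413, e3 q8910 L172627 q9664, e3 q8911 (flp_c L165461) q8060, e3 q8912 (flp_c L172179) q9610, e3 q8913 (flp_c L172191) q9611, e3 q8914 (flp_c L172263) q9619, e3 q8915 (flp_c L172275) q9620, e3 q8916 L172713 q9671, e3 q8917 L165526 q8070, e3 q8918 L172731 q9673, e3 q8919 (flp_c L165543) q8069, e3 q8920 (flp_c L165554) q8071, e3 q8921 (flp_c L172365) q9635, e3 q8922 (flp_c L165572) q8073, e3 q8923 L165588 q8496, e3 q8924 (flp_c L172437) q9643, e3 q8925 (flp_c L172517) q9655, e3 q8926 (flp_c L172523) q9656, e3 q8927 (flp_c L165626) q8077, e3 q8928 (flp_c L165641) q8082, e3 q8929 L165669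 q8095, e3 q8930 (flp_c L165671) q8086, e3 q8931 (flp_c L165686) q8088, e3 q8932 L165706 q8418, e3 q8933 L165722 q8402, e3 q8934 (flp_c L171219) q9526, e3 q8935 L165751 q8613, e3 q8936 L165760 q8265, e3 q8937 (flp_c L171455) q9544, e3 q8938 L165782 q8422, e3 q8939 (flp_c L170844) q9492, e3 q8940 (flp_c L171499) q9547, e3 q8941 L165821 q8106, e3 q8942 L165836 q8108, e3 q8943 L165849 q8688, e3 q8944 L169028 q9288, e3 q8945 (flp_c L171519) q9549, e3 q8946 (flp_c L171533) q9550, e3 q8947 (flp_c L171561) q9552, e3 q8948 (flp_c L171571) q9553, e3 q8949 L165904 q8116, e3 q8950 L165917 q8554, e3 q8951 L165927 q8481, e3 q8952 L172892 q9687, e3 q8953 L165945 q8124, e3 q8954 (flp_c L172908) q9688, e3 q8955 L165974 q8126, e3 q8956 L165988 q8138, e3 q8957 L166000 q8129, e3 q8958 L166014 q8140, e3 q8959 L166024 q8141, trivial⟩ (by decide +kernel)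

theorem ce_c_140 : ∀ r, r < 64 → sm gc (Qf (8960 + r)) = Qf (tab Gen.c (8960 + r)) :=
  edges_tab (sm gc) Qf (tab Gen.c) 8960 [(8960, 8136), (8961, 8135), (8962, 8201), (8963, 9694), (8964, 9690), (8965, 8240), (8966, 9692), (8967, 9699), (8968, 9700), (8969, 9701), (8970, 8146), (8971, 9702), (8972, 9537), (8973, 8152), (8974, 9703), (8975, 8975), (8976, 8155), (8977, 8156), (8978, 9706), (8979, 9707), (8980, 8980), (8981, 8981), (8982, 8982), (8983, 8497), (8984, 8160), (8985, 8161), (8986, 8162), (8987, 9716), (8988, 9717), (8989, 8164), (8990, 9721), (8991, 8228), (8992, 8167), (8993, 8230), (8994, 8558), (8995, 8231), (8996, 8232), (8997, 8500), (8998, 8501), (8999, 8378), (9000, 8175), (9001, 8176), (9002, 9689), (9003, 9733), (9004, 9004), (9005, 8179), (9006, 8180), (9007, 9737), (9008, 9008), (9009, 8237), (9010, 8238), (9011, 8205), (9012, 8206), (9013, 8207), (9014, 8187), (9015, 8188), (9016, 9691), (9017, 9746), (9018, 9018), (9019, 8242), (9020, 8243), (9021, 9021), (9022,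 9022), (9023, 9023)]
    ⟨e3 q8960 L166032 q8136, e3 q8961 L166044 q8135, e3 q8962 L166058 q8201, e3 q8963 (flp_c L172976) q9694, e3 q8964 (flp_c L172934) q9690, e3 q8965 L166094 q8240, e3 q8966 (flp_c L172960) q9692, e3 q8967 L173030 q9699, e3 q8968 L173038 q9700, e3 q8969 L173051 q9701, e3 q8970 (flp_c L166140) q8146, e3 q8971 (flp_c L173070) q9702, e3 q8972 (flp_c L171366) q9537, e3 q8973 (flp_c L166172) q8152, e3 q8974 (flp_c L173079) q9703, e3 q8975 L166199 q8975, e3 q8976 L166204 q8155, e3 q8977 L166214 q8156, e3 q8978 (flp_c L173111) q9706, e3 q8979 (flp_c L173123) q9707, e3 q8980 L166242 q8980, e3 q8981 L166255 q8981, e3 q8982 L166260 q8982, e3 q8983 L166269 q8497, e3 q8984 L166277 q8160, e3 q8985 L166283 q8161, e3 q8986 L166291 q8162, e3 q8987 (flp_c L173217) q9716, e3 q8988 (flp_c L173225) q9717, e3 q8989 L166313 q8164, e3 q8990 (flp_c L173257) q9721, e3 q8991 L166335 q8228, e3 q8992 L166345 q8167, e3 q8993 L166359 q8230, e3 q8994 L166369 q8558, e3 q8995 L166375 q8231, e3 q8996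 L166385 q8232, e3 q8997 L166393 q8500, e3 q8998 L166401 q8501, e3 q8999 L166411 q8378, e3 q9000 L166421 q8175, e3 q9001 L166429 q8176, e3 q9002 (flp_c L172928) q9689, e3 q9003 (flp_c L173387) q9733, e3 q9004 L166459 q9004, e3 q9005 L166466 q8179, e3 q9006 L166474 q8180, e3 q9007 (flp_c L173422) q9737, e3 q9008 L166494 q9008, e3 q9009 L166501 q8237, e3 q9010 L166513 q8238, e3 q9011 L166521 q8205, e3 q9012 L166529 q8206, e3 q9013 L166539 q8207, e3 q9014 L166549 q8187, e3 q9015 L166557 q8188, e3 q9016 (flp_c L172950) q9691, e3 q9017 (flp_c L173510) q9746, e3 q9018 L166591 q9018, e3 q9019 L166600 q8242, e3 q9020 L166612 q8243, e3 q9021 L166620 q9021, e3 q9022 L166627 q9022, e3 q9023 L166632 q9023, trivial⟩ (by decide +kernel)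

theorem ce_c_141 : ∀ r, r < 64 → sm gc (Qf (9024 + r)) = Qf (tab Gen.c (9024 + r)) :=
  edges_tab (sm gc) Qf (tab Gen.c) 9024 [(9024, 8244), (9025, 8245), (9026, 9760), (9027, 8211), (9028, 8212), (9029, 8213), (9030, 8214), (9031, 8215), (9032, 8216), (9033, 8202), (9034, 8203), (9035, 9770), (9036, 9696), (9037, 9768), (9038, 9773), (9039, 8204), (9040, 9571), (9041, 9468), (9042, 9551), (9043, 9743), (9044, 9744), (9045, 9745), (9046, 8210), (9047, 9762), (9048, 9763), (9049, 9764), (9050, 9765), (9051, 9766), (9052, 9784), (9053, 8221), (9054, 9787), (9055, 8219), (9056, 9788), (9057, 8222), (9058, 9722), (9059, 8302), (9060, 9724), (9061, 9726), (9062, 9791), (9063, 9543), (9064, 9741), (9065, 9793), (9066, 8401), (9067, 8604), (9068, 9751), (9069, 9796), (9070, 9758), (9071, 9798), (9072, 8246), (9073, 9799), (9074, 8663), (9075, 8252), (9076, 9800), (9077, 8254), (9078, 8256), (9079, 9520), (9080, 9674), (9081, 8304), (9082, 8270), (9083, 8271), (9084, 9803), (9085, 8298), (9086,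 8334), (9087, 8343)]
    ⟨e3 q9024 L166639 q8244, e3 q9025 L166647 q8245, e3 q9026 L173639 q9760, e3 q9027 L166659 q8211, e3 q9028 L166665 q8212, e3 q9029 L166675 q8213, e3 q9030 L166687 q8214, e3 q9031 L166697 q8215, e3 q9032 L166703 q8216, e3 q9033 L166709 q8202, e3 q9034 L166717 q8203, e3 q9035 L173713 q9770, e3 q9036 (flp_c L172998) q9696, e3 q9037 (flp_c L173703) q9768, e3 q9038 L173735 q9773, e3 q9039 (flp_c L166749) q8204, e3 q9040 (flp_c L171765) q9571, e3 q9041 (flp_c L170552) q9468, e3 q9042 (flp_c L171551) q9551, e3 q9043 (flp_c L173482) q9743, e3 q9044 (flp_c L173492) q9744, e3 q9045 (flp_c L173502) q9745, e3 q9046 L166831 q8210, e3 q9047 (flp_c L173651) q9762, e3 q9048 (flp_c L173659) q9763, e3 q9049 (flp_c L173669) q9764, e3 q9050 (flp_c L173681) q9765, e3 q9051 (flp_c L173689) q9766, e3 q9052 L173854 q9784, e3 q9053 L166899 q8221, e3 q9054 L173888 q9787, e3 q9055 (flp_c L166920) q8219, e3 q9056 (flp_c L173908) q9788, e3 q9057 (flp_c L166945) q8222, e3 q9058 (flp_c L173269)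 q9722, e3 q9059 L166975 q8302, e3 q9060 (flp_c L173293) q9724, e3 q9061 (flp_c L173313) q9726, e3 q9062 L173940 q9791, e3 q9063 (flp_c L171448) q9543, e3 q9064 (flp_c L173462) q9741, e3 q9065 L173956 q9793, e3 q9066 L167046 q8401, e3 q9067 L167053 q8604, e3 q9068 (flp_c L173564) q9751, e3 q9069 L173987 q9796, e3 q9070 (flp_c L173631) q9758, e3 q9071 L174004 q9798, e3 q9072 (flp_c L167094) q8246, e3 q9073 (flp_c L174013) q9799, e3 q9074 L167112 q8663, e3 q9075 (flp_c L167115) q8252, e3 q9076 (flp_c L174023) q9800, e3 q9077 (flp_c L167134) q8254, e3 q9078 L167145 q8256, e3 q9079 (flp_c L171135) q9520, e3 q9080 (flp_c L172750) q9674, e3 q9081 L167170 q8304, e3 q9082 L167180 q8270, e3 q9083 L167190 q8271, e3 q9084 (flp_c L174048) q9803, e3 q9085 L167212 q8298, e3 q9086 L167224 q8334, e3 q9087 L167230 q8343, trivial⟩ (by decide +kernel)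

theorem ce_c_142 : ∀ r, r < 64 → sm gc (Qf (9088 + r)) = Qf (tab Gen.c (9088 + r)) :=
  edges_tab (sm gc) Qf (tab Gen.c) 9088 [(9088, 9088), (9089, 9089), (9090, 9090), (9091, 8299), (9092, 8300), (9093, 9596), (9094, 8286), (9095, 8287), (9096, 8288), (9097, 8289), (9098, 8290), (9099, 8285), (9100, 9723), (9101, 8366), (9102, 9488), (9103, 9815), (9104, 9816), (9105, 9817), (9106, 9818), (9107, 8536), (9108, 9812), (9109, 9826), (9110, 9529), (9111, 9802), (9112, 8516), (9113, 8307), (9114, 8308), (9115, 9828), (9116, 8426), (9117, 8427), (9118, 9118), (9119, 8428), (9120, 8429), (9121, 8430), (9122, 8520), (9123, 8521), (9124, 8522), (9125, 8316), (9126, 8317), (9127, 8318), (9128, 9804), (9129, 9845), (9130, 9846), (9131, 9851), (9132, 8515), (9133, 8513), (9134, 9695), (9135, 9135), (9136, 8396), (9137, 8397), (9138, 9138), (9139, 9139), (9140, 9140), (9141, 8398), (9142, 8399), (9143, 9567), (9144, 8528), (9145, 8529), (9146, 8530), (9147, 8531), (9148, 8532), (9149, 8533), (9150,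 8335), (9151, 8336)]
    ⟨e3 q9088 L167238 q9088, e3 q9089 L167249 q9089, e3 q9090 L167262 q9090, e3 q9091 L167271 q8299, e3 q9092 L167281 q8300, e3 q9093 (flp_c L172030) q9596, e3 q9094 L167295 q8286, e3 q9095 L167307 q8287, e3 q9096 L167317 q8288, e3 q9097 L167327 q8289, e3 q9098 L167337 q8290, e3 q9099 L167343 q8285, e3 q9100 (flp_c L173285) q9723, e3 q9101 L167353 q8366, e3 q9102 (flp_c L170796) q9488, e3 q9103 (flp_c L174155) q9815, e3 q9104 (flp_c L174169) q9816, e3 q9105 (flp_c L174179) q9817, e3 q9106 (flp_c L174187) q9818, e3 q9107 L167411 q8536, e3 q9108 (flp_c L174137) q9812, e3 q9109 L174244 q9826, e3 q9110 (flp_c L171265) q9529, e3 q9111 (flp_c L174038) q9802, e3 q9112 L167459 q8516, e3 q9113 L167467 q8307, e3 q9114 L167477 q8308, e3 q9115 (flp_c L174265) q9828, e3 q9116 L167493 q8426, e3 q9117 L167503 q8427, e3 q9118 L167515 q9118, e3 q9119 L167522 q8428, e3 q9120 L167532 q8429, e3 q9121 L167542 q8430, e3 q9122 L167550 q8520, e3 q9123 L167558 q8521, e3 q9124 L167564 q8522,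 e3 q9125 L167574 q8316, e3 q9126 L167582 q8317, e3 q9127 L167588 q8318, e3 q9128 (flp_c L174062) q9804, e3 q9129 (flp_c L174447) q9845, e3 q9130 (flp_c L174457) q9846, e3 q9131 L174481 q9851, e3 q9132 L167622 q8515, e3 q9133 L167634 q8513, e3 q9134 (flp_c L172992) q9695, e3 q9135 L167654 q9135, e3 q9136 L167659 q8396, e3 q9137 L167669 q8397, e3 q9138 L167679 q9138, e3 q9139 L167686 q9139, e3 q9140 L167695 q9140, e3 q9141 L167704 q8398, e3 q9142 L167712 q8399, e3 q9143 (flp_c L171718) q9567, e3 q9144 L167730 q8528, e3 q9145 L167738 q8529, e3 q9146 L167748 q8530, e3 q9147 L167760 q8531, e3 q9148 L167768 q8532, e3 q9149 L167774 q8533, e3 q9150 L167778 q8335, e3 q9151 L167784 q8336, trivial⟩ (by decide +kernel)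

theorem ce_c_143 : ∀ r, r < 64 → sm gc (Qf (9152 + r)) = Qf (tab Gen.c (9152 + r)) :=
  edges_tab (sm gc) Qf (tab Gen.c) 9152 [(9152, 9747), (9153, 9807), (9154, 9872), (9155, 8370), (9156, 8371), (9157, 8372), (9158, 8373), (9159, 8374), (9160, 8375), (9161, 8344), (9162, 8345), (9163, 9734), (9164, 9808), (9165, 9882), (9166, 8437), (9167, 8438), (9168, 8439), (9169, 8404), (9170, 8405), (9171, 9486), (9172, 8443), (9173, 8444), (9174, 8445), (9175, 8446), (9176, 8447), (9177, 8448), (9178, 8406), (9179, 8407), (9180, 9902), (9181, 9603), (9182, 8381), (9183, 8382), (9184, 8383), (9185, 8384), (9186, 8385), (9187, 9910), (9188, 8367), (9189, 9913), (9190, 8365), (9191, 9916), (9192, 9822), (9193, 8368), (9194, 8412), (9195, 9876), (9196, 9877), (9197, 9878), (9198, 9879), (9199, 9880), (9200, 9732), (9201, 8380), (9202, 9730), (9203, 9715), (9204, 9905), (9205, 9906), (9206, 9907), (9207, 9929), (9208, 9930), (9209, 8386), (9210, 9933), (9211, 9493), (9212, 8388), (9213, 8485), (9214,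 8390), (9215, 9934)]
    ⟨e3 q9152 (flp_c L173524) q9747, e3 q9153 (flp_c L174090) q9807, e3 q9154 (flp_c L174672) q9872, e3 q9155 L167810 q8370, e3 q9156 L167820 q8371, e3 q9157 L167834 q8372, e3 q9158 L167846 q8373, e3 q9159 L167856 q8374, e3 q9160 L167864 q8375, e3 q9161 L167872 q8344, e3 q9162 L167882 q8345, e3 q9163 (flp_c L173401) q9734, e3 q9164 (flp_c L174096) q9808, e3 q9165 (flp_c L174760) q9882, e3 q9166 L167910 q8437, e3 q9167 L167918 q8438, e3 q9168 L167928 q8439, e3 q9169 L167940 q8404, e3 q9170 L167948 q8405, e3 q9171 (flp_c L170770) q9486, e3 q9172 L167966 q8443, e3 q9173 L167974 q8444, e3 q9174 L167986 q8445, e3 q9175 L167998 q8446, e3 q9176 L168008 q8447, e3 q9177 L168018 q8448, e3 q9178 L168028 q8406, e3 q9179 L168038 q8407, e3 q9180 L174944 q9902, e3 q9181 (flp_c L172098) q9603, e3 q9182 L168058 q8381, e3 q9183 L168064 q8382, e3 q9184 L168072 q8383, e3 q9185 L168082 q8384, e3 q9186 L168088 q8385, e3 q9187 L175000 q9910, e3 q9188 L168098 q8367, e3 q9189 L175014 q9913,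 e3 q9190 (flp_c L168106) q8365, e3 q9191 (flp_c L175028) q9916, e3 q9192 (flp_c L174209) q9822, e3 q9193 (flp_c L168116) q8368, e3 q9194 L168126 q8412, e3 q9195 (flp_c L174698) q9876, e3 q9196 (flp_c L174708) q9877, e3 q9197 (flp_c L174722) q9878, e3 q9198 (flp_c L174734) q9879, e3 q9199 (flp_c L174742) q9880, e3 q9200 (flp_c L173379) q9732, e3 q9201 L168191 q8380, e3 q9202 (flp_c L173359) q9730, e3 q9203 (flp_c L173205) q9715, e3 q9204 (flp_c L174966) q9905, e3 q9205 (flp_c L174972) q9906, e3 q9206 (flp_c L174980) q9907, e3 q9207 L175155 q9929, e3 q9208 L175165 q9930, e3 q9209 (flp_c L168268) q8386, e3 q9210 (flp_c L175191) q9933, e3 q9211 (flp_c L170856) q9493, e3 q9212 (flp_c L168290) q8388, e3 q9213 L168310 q8485, e3 q9214 L168314 q8390, e3 q9215 L175197 q9934, trivial⟩ (by decide +kernel)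

theorem ce_c_144 : ∀ r, r < 64 → sm gc (Qf (9216 + r)) = Qf (tab Gen.c (9216 + r)) :=
  edges_tab (sm gc) Qf (tab Gen.c) 9216 [(9216, 9856), (9217, 9863), (9218, 9937), (9219, 9521), (9220, 9891), (9221, 9940), (9222, 9900), (9223, 9941), (9224, 8408), (9225, 8417), (9226, 9943), (9227, 9938), (9228, 8414), (9229, 9665), (9230, 9284), (9231, 9289), (9232, 9269), (9233, 9946), (9234, 9827), (9235, 9832), (9236, 9833), (9237, 9714), (9238, 9837), (9239, 9838), (9240, 8434), (9241, 8435), (9242, 9952), (9243, 9951), (9244, 9954), (9245, 8436), (9246, 9886), (9247, 9570), (9248, 9887), (9249, 9888), (9250, 9889), (9251, 9890), (9252, 8487), (9253, 8488), (9254, 9965), (9255, 9894), (9256, 9895), (9257, 9896), (9258, 9897), (9259, 9898), (9260, 9971), (9261, 8490), (9262, 9974), (9263, 8451), (9264, 9976), (9265, 9297), (9266, 8477), (9267, 8478), (9268, 8479), (9269, 9232), (9270, 9686), (9271, 8458), (9272, 9982), (9273, 9323), (9274, 9975), (9275, 8462), (9276, 9326), (9277, 8674), (9278,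 8675), (9279, 8676)]
    ⟨e3 q9216 (flp_c L174531) q9856, e3 q9217 (flp_c L174602) q9863, e3 q9218 L175229 q9937, e3 q9219 (flp_c L171150) q9521, e3 q9220 (flp_c L174848) q9891, e3 q9221 L175261 q9940, e3 q9222 (flp_c L174932) q9900, e3 q9223 L175269 q9941, e3 q9224 (flp_c L168404) q8408, e3 q9225 L168414 q8417, e3 q9226 (flp_c L175289) q9943, e3 q9227 (flp_c L175240) q9938, e3 q9228 (flp_c L168437) q8414, e3 q9229 (flp_c L172647) q9665, e3 q9230 (flp_c L168986) q9284, e3 q9231 L169041 q9289, e3 q9232 (flp_c L168838) q9269, e3 q9233 L175319 q9946, e3 q9234 (flp_c L174253) q9827, e3 q9235 (flp_c L174306) q9832, e3 q9236 (flp_c L174316) q9833, e3 q9237 (flp_c L173191) q9714, e3 q9238 (flp_c L174363) q9837, e3 q9239 (flp_c L174373) q9838, e3 q9240 L168568 q8434, e3 q9241 L168580 q8435, e3 q9242 L175388 q9952, e3 q9243 (flp_c L175378) q9951, e3 q9244 L175407 q9954, e3 q9245 (flp_c L168608) q8436, e3 q9246 (flp_c L174790) q9886, e3 q9247 (flp_c L171753) q9570, e3 q9248 (flp_c L174804) q9887,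 e3 q9249 (flp_c L174818) q9888, e3 q9250 (flp_c L174828) q9889, e3 q9251 (flp_c L174838) q9890, e3 q9252 L168677 q8487, e3 q9253 L168689 q8488, e3 q9254 L175510 q9965, e3 q9255 (flp_c L174870) q9894, e3 q9256 (flp_c L174880) q9895, e3 q9257 (flp_c L174892) q9896, e3 q9258 (flp_c L174904) q9897, e3 q9259 (flp_c L174912) q9898, e3 q9260 L175568 q9971, e3 q9261 L168761 q8490, e3 q9262 L175593 q9974, e3 q9263 (flp_c L168776) q8451, e3 q9264 (flp_c L175611) q9976, e3 q9265 (flp_c L169102) q9297, e3 q9266 L168805 q8477, e3 q9267 L168812 q8478, e3 q9268 L168823 q8479, e3 q9269 L168838 q9232, e3 q9270 (flp_c L172889) q9686, e3 q9271 (flp_c L168852) q8458, e3 q9272 (flp_c L175673) q9982, e3 q9273 (flp_c L169364) q9323, e3 q9274 (flp_c L175607) q9975, e3 q9275 L168888 q8462, e3 q9276 (flp_c L169391) q9326, e3 q9277 L168905 q8674, e3 q9278 L168918 q8675, e3 q9279 L168931 q8676, trivial⟩ (by decide +kernel)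

theorem ce_c_145 : ∀ r, r < 64 → sm gc (Qf (9280 + r)) = Qf (tab Gen.c (9280 + r)) :=
  edges_tab (sm gc) Qf (tab Gen.c) 9280 [(9280, 9987), (9281, 9685), (9282, 8470), (9283, 9436), (9284, 9230), (9285, 8472), (9286, 9328), (9287, 9725), (9288, 8944), (9289, 9231), (9290, 9932), (9291, 9963), (9292, 9990), (9293, 8489), (9294, 8491), (9295, 9991), (9296, 8494), (9297, 9265), (9298, 9993), (9299, 9728), (9300, 9491), (9301, 9729), (9302, 9731), (9303, 8511), (9304, 8537), (9305, 9852), (9306, 9995), (9307, 9996), (9308, 9840), (9309, 9841), (9310, 9842), (9311, 9843), (9312, 9844), (9313, 8526), (9314, 10003), (9315, 10004), (9316, 8527), (9317, 9866), (9318, 9867), (9319, 9868), (9320, 9869), (9321, 9870), (9322, 8538), (9323, 9273), (9324, 8547), (9325, 8548), (9326, 9276), (9327, 10006), (9328, 9286), (9329, 9329), (9330, 9330), (9331, 9331), (9332, 8562), (9333, 8563), (9334, 8564), (9335, 10016), (9336, 10017), (9337, 8597), (9338, 9338), (9339, 9339), (9340, 8569), (9341, 9476),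 (9342, 10026), (9343, 9343)]
    ⟨e3 q9280 L175725 q9987, e3 q9281 (flp_c L172870) q9685, e3 q9282 (flp_c L168957) q8470, e3 q9283 (flp_c L170212) q9436, e3 q9284 L168986 q9230, e3 q9285 (flp_c L168990) q8472, e3 q9286 L169416 q9328, e3 q9287 (flp_c L173303) q9725, e3 q9288 (flp_c L169028) q8944, e3 q9289 (flp_c L169041) q9231, e3 q9290 (flp_c L175187) q9932, e3 q9291 (flp_c L175494) q9963, e3 q9292 L175759 q9990, e3 q9293 (flp_c L169070) q8489, e3 q9294 (flp_c L169077) q8491, e3 q9295 (flp_c L175773) q9991, e3 q9296 L169095 q8494, e3 q9297 L169102 q9265, e3 q9298 L175783 q9993, e3 q9299 (flp_c L173331) q9728, e3 q9300 (flp_c L170832) q9491, e3 q9301 (flp_c L173345) q9729, e3 q9302 (flp_c L173369) q9731, e3 q9303 L169175 q8511, e3 q9304 L169190 q8537, e3 q9305 (flp_c L174491) q9852, e3 q9306 L175808 q9995, e3 q9307 L175823 q9996, e3 q9308 (flp_c L174395) q9840, e3 q9309 (flp_c L174411) q9841, e3 q9310 (flp_c L174423) q9842, e3 q9311 (flp_c L174433) q9843, e3 q9312 (flp_c L174439) q9844,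 e3 q9313 L169286 q8526, e3 q9314 L175893 q10003, e3 q9315 L175902 q10004, e3 q9316 (flp_c L169309) q8527, e3 q9317 (flp_c L174626) q9866, e3 q9318 (flp_c L174634) q9867, e3 q9319 (flp_c L174644) q9868, e3 q9320 (flp_c L174656) q9869, e3 q9321 (flp_c L174662) q9870, e3 q9322 (flp_c L169350) q8538, e3 q9323 L169364 q9273, e3 q9324 (flp_c L169368) q8547, e3 q9325 (flp_c L169379) q8548, e3 q9326 L169391 q9276, e3 q9327 (flp_c L175920) q10006, e3 q9328 (flp_c L169416) q9286, e3 q9329 L169422 q9329, e3 q9330 L169429 q9330, e3 q9331 L169436 q9331, e3 q9332 L169447 q8562, e3 q9333 L169459 q8563, e3 q9334 L169467 q8564, e3 q9335 (flp_c L176009) q10016, e3 q9336 (flp_c L176021) q10017, e3 q9337 L169494 q8597, e3 q9338 L169502 q9338, e3 q9339 L169509 q9339, e3 q9340 L169516 q8569, e3 q9341 (flp_c L170645) q9476, e3 q9342 L176084 q10026, e3 q9343 L169541 q9343, trivial⟩ (by decide +kernel)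

theorem ce_c_146 : ∀ r, r < 64 → sm gc (Qf (9344 + r)) = Qf (tab Gen.c (9344 + r)) :=
  edges_tab (sm gc) Qf (tab Gen.c) 9344 [(9344, 9344), (9345, 8600), (9346, 10030), (9347, 8581), (9348, 8583), (9349, 8584), (9350, 8585), (9351, 8586), (9352, 8579), (9353, 10038), (9354, 9506), (9355, 10041), (9356, 8580), (9357, 10032), (9358, 9572), (9359, 10033), (9360, 10034), (9361, 10035), (9362, 10048), (9363, 8591), (9364, 10051), (9365, 8589), (9366, 10053), (9367, 8592), (9368, 8606), (9369, 10055), (9370, 9525), (9371, 8599), (9372, 10058), (9373, 8601), (9374, 10060), (9375, 8602), (9376, 9672), (9377, 8670), (9378, 10042), (9379, 10054), (9380, 8608), (9381, 9381), (9382, 9382), (9383, 9383), (9384, 8619), (9385, 8620), (9386, 8621), (9387, 9559), (9388, 10067), (9389, 10068), (9390, 10073), (9391, 9391), (9392, 9392), (9393, 9393), (9394, 9394), (9395, 9395), (9396, 8628), (9397, 10080), (9398, 9585), (9399, 10083), (9400, 8629), (9401, 8643), (9402, 8644), (9403, 8645), (9404, 8646),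 (9405, 8647), (9406, 10089), (9407, 8640)]
    ⟨e3 q9344 L169548 q9344, e3 q9345 L169557 q8600, e3 q9346 L176109 q10030, e3 q9347 L169571 q8581, e3 q9348 L169579 q8583, e3 q9349 L169587 q8584, e3 q9350 L169597 q8585, e3 q9351 L169605 q8586, e3 q9352 L169613 q8579, e3 q9353 L176171 q10038, e3 q9354 (flp_c L170986) q9506, e3 q9355 L176189 q10041, e3 q9356 (flp_c L169637) q8580, e3 q9357 (flp_c L176125) q10032, e3 q9358 (flp_c L171779) q9572, e3 q9359 (flp_c L176137) q10033, e3 q9360 (flp_c L176145) q10034, e3 q9361 (flp_c L176153) q10035, e3 q9362 L176249 q10048, e3 q9363 L169699 q8591, e3 q9364 L176278 q10051, e3 q9365 (flp_c L169716) q8589, e3 q9366 (flp_c L176299) q10053, e3 q9367 (flp_c L169735) q8592, e3 q9368 L169745 q8606, e3 q9369 L176317 q10055, e3 q9370 (flp_c L171198) q9525, e3 q9371 (flp_c L169761) q8599, e3 q9372 L176334 q10058, e3 q9373 (flp_c L169773) q8601, e3 q9374 (flp_c L176346) q10060, e3 q9375 (flp_c L169783) q8602, e3 q9376 (flp_c L172726) q9672, e3 q9377 L169801 q8670,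 e3 q9378 (flp_c L176201) q10042, e3 q9379 (flp_c L176310) q10054, e3 q9380 L169819 q8608, e3 q9381 L169828 q9381, e3 q9382 L169837 q9382, e3 q9383 L169844 q9383, e3 q9384 L169853 q8619, e3 q9385 L169865 q8620, e3 q9386 L169873 q8621, e3 q9387 (flp_c L171627) q9559, e3 q9388 (flp_c L176400) q10067, e3 q9389 (flp_c L176412) q10068, e3 q9390 L176449 q10073, e3 q9391 L169917 q9391, e3 q9392 L169926 q9392, e3 q9393 L169933 q9393, e3 q9394 L169940 q9394, e3 q9395 L169945 q9395, e3 q9396 L169948 q8628, e3 q9397 L176496 q10080, e3 q9398 (flp_c L171895) q9585, e3 q9399 L176512 q10083, e3 q9400 (flp_c L169971) q8629, e3 q9401 L169978 q8643, e3 q9402 L169986 q8644, e3 q9403 L169994 q8645, e3 q9404 L170000 q8646, e3 q9405 L170006 q8647, e3 q9406 L176551 q10089, e3 q9407 L170018 q8640, trivial⟩ (by decide +kernel)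

theorem ce_c_147 : ∀ r, r < 64 → sm gc (Qf (9408 + r)) = Qf (tab Gen.c (9408 + r)) :=
  edges_tab (sm gc) Qf (tab Gen.c) 9408 [(9408, 10092), (9409, 8638), (9410, 10095), (9411, 9633), (9412, 10098), (9413, 8641), (9414, 10100), (9415, 8667), (9416, 10084), (9417, 10085), (9418, 10086), (9419, 10105), (9420, 10107), (9421, 8648), (9422, 10110), (9423, 10111), (9424, 8650), (9425, 10113), (9426, 8684), (9427, 8652), (9428, 8653), (9429, 8668), (9430, 8655), (9431, 8669), (9432, 10117), (9433, 10116), (9434, 10099), (9435, 10101), (9436, 9283), (9437, 10120), (9438, 8673), (9439, 9680), (9440, 9443), (9441, 10123), (9442, 8677), (9443, 9440), (9444, 8678), (9445, 10127), (9446, 10109), (9447, 8680), (9448, 10112), (9449, 10114), (9450, 10115), (9451, 9451), (9452, 9452), (9453, 9453), (9454, 9454), (9455, 8693), (9456, 8694), (9457, 8695), (9458, 10135), (9459, 10136), (9460, 8697), (9461, 10140), (9462, 8750), (9463, 9463), (9464, 8701), (9465, 8702), (9466, 10143), (9467, 8753), (9468,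 9041), (9469, 8754), (9470, 8755), (9471, 9471)]
    ⟨e3 q9408 L176567 q10092, e3 q9409 (flp_c L170026) q8638, e3 q9410 (flp_c L176581) q10095, e3 q9411 (flp_c L172349) q9633, e3 q9412 L176591 q10098, e3 q9413 (flp_c L170046) q8641, e3 q9414 (flp_c L176607) q10100, e3 q9415 L170062 q8667, e3 q9416 (flp_c L176521) q10084, e3 q9417 (flp_c L176529) q10085, e3 q9418 (flp_c L176535) q10086, e3 q9419 L176646 q10105, e3 q9420 L176664 q10107, e3 q9421 (flp_c L170101) q8648, e3 q9422 (flp_c L176688) q10110, e3 q9423 L176692 q10111, e3 q9424 (flp_c L170120) q8650, e3 q9425 (flp_c L176716) q10113, e3 q9426 L170143 q8684, e3 q9427 L170147 q8652, e3 q9428 (flp_c L170150) q8653, e3 q9429 L170160 q8668, e3 q9430 L170164 q8655, e3 q9431 L170169 q8669, e3 q9432 L176754 q10117, e3 q9433 (flp_c L176750) q10116, e3 q9434 (flp_c L176603) q10099, e3 q9435 (flp_c L176613) q10101, e3 q9436 L170212 q9283, e3 q9437 L176792 q10120, e3 q9438 (flp_c L170228) q8673, e3 q9439 (flp_c L172821) q9680, e3 q9440 (flp_c L170268)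 q9443, e3 q9441 L176821 q10123, e3 q9442 (flp_c L170256) q8677, e3 q9443 L170268 q9440, e3 q9444 (flp_c L170274) q8678, e3 q9445 (flp_c L176865) q10127, e3 q9446 (flp_c L176684) q10109, e3 q9447 L170297 q8680, e3 q9448 (flp_c L176706) q10112, e3 q9449 (flp_c L176727) q10114, e3 q9450 (flp_c L176736) q10115, e3 q9451 L170326 q9451, e3 q9452 L170345 q9452, e3 q9453 L170358 q9453, e3 q9454 L170371 q9454, e3 q9455 L170384 q8693, e3 q9456 L170396 q8694, e3 q9457 L170406 q8695, e3 q9458 (flp_c L176950) q10135, e3 q9459 (flp_c L176962) q10136, e3 q9460 L170437 q8697, e3 q9461 (flp_c L177009) q10140, e3 q9462 L170467 q8750, e3 q9463 L170485 q9463, e3 q9464 L170496 q8701, e3 q9465 L170508 q8702, e3 q9466 (flp_c L177056) q10143, e3 q9467 L170534 q8753, e3 q9468 L170552 q9041, e3 q9469 L170564 q8754, e3 q9470 L170576 q8755, e3 q9471 L170588 q9471, trivial⟩ (by decide +kernel)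

theorem ce_c_148 : ∀ r, r < 64 → sm gc (Qf (9472 + r)) = Qf (tab Gen.c (9472 + r)) :=
  edges_tab (sm gc) Qf (tab Gen.c) 9472 [(9472, 9472), (9473, 9473), (9474, 8710), (9475, 8711), (9476, 9341), (9477, 10153), (9478, 10157), (9479, 8760), (9480, 8715), (9481, 8716), (9482, 10159), (9483, 8763), (9484, 8764), (9485, 8721), (9486, 9171), (9487, 10166), (9488, 9102), (9489, 8767), (9490, 8768), (9491, 9300), (9492, 8939), (9493, 9211), (9494, 8769), (9495, 8770), (9496, 10174), (9497, 8739), (9498, 8740), (9499, 8741), (9500, 8742), (9501, 8743), (9502, 8744), (9503, 8735), (9504, 8736), (9505, 10183), (9506, 9354), (9507, 10181), (9508, 10186), (9509, 8737), (9510, 8738), (9511, 10176), (9512, 10177), (9513, 10178), (9514, 10179), (9515, 10191), (9516, 8746), (9517, 8747), (9518, 8778), (9519, 10141), (9520, 9079), (9521, 9219), (9522, 10146), (9523, 10148), (9524, 10196), (9525, 9370), (9526, 8934), (9527, 8759), (9528, 10158), (9529, 9110), (9530, 10162), (9531, 10199), (9532, 10168),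 (9533, 10200), (9534, 10172), (9535, 8771)]
    ⟨e3 q9472 L170599 q9472, e3 q9473 L170610 q9473, e3 q9474 L170619 q8710, e3 q9475 L170631 q8711, e3 q9476 L170645 q9341, e3 q9477 (flp_c L177184) q10153, e3 q9478 L177223 q10157, e3 q9479 L170678 q8760, e3 q9480 L170692 q8715, e3 q9481 L170704 q8716, e3 q9482 (flp_c L177254) q10159, e3 q9483 L170730 q8763, e3 q9484 L170744 q8764, e3 q9485 L170756 q8721, e3 q9486 L170770 q9171, e3 q9487 L177329 q10166, e3 q9488 L170796 q9102, e3 q9489 L170808 q8767, e3 q9490 L170822 q8768, e3 q9491 L170832 q9300, e3 q9492 L170844 q8939, e3 q9493 L170856 q9211, e3 q9494 L170868 q8769, e3 q9495 L170880 q8770, e3 q9496 L177429 q10174, e3 q9497 L170896 q8739, e3 q9498 L170910 q8740, e3 q9499 L170922 q8741, e3 q9500 L170932 q8742, e3 q9501 L170942 q8743, e3 q9502 L170952 q8744, e3 q9503 L170960 q8735, e3 q9504 L170972 q8736, e3 q9505 L177515 q10183, e3 q9506 L170986 q9354, e3 q9507 (flp_c L177499) q10181, e3 q9508 L177535 q10186, e3 q9509 (flp_c L171016) q8737,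 e3 q9510 (flp_c L171024) q8738, e3 q9511 (flp_c L177447) q10176, e3 q9512 (flp_c L177461) q10177, e3 q9513 (flp_c L177471) q10178, e3 q9514 (flp_c L177479) q10179, e3 q9515 L177594 q10191, e3 q9516 (flp_c L171082) q8746, e3 q9517 (flp_c L171089) q8747, e3 q9518 L171109 q8778, e3 q9519 (flp_c L177025) q10141, e3 q9520 L171135 q9079, e3 q9521 L171150 q9219, e3 q9522 (flp_c L177097) q10146, e3 q9523 (flp_c L177129) q10148, e3 q9524 L177654 q10196, e3 q9525 L171198 q9370, e3 q9526 L171219 q8934, e3 q9527 (flp_c L171224) q8759, e3 q9528 (flp_c L177238) q10158, e3 q9529 L171265 q9110, e3 q9530 (flp_c L177295) q10162, e3 q9531 L177693 q10199, e3 q9532 (flp_c L177365) q10168, e3 q9533 L177705 q10200, e3 q9534 (flp_c L177411) q10172, e3 q9535 (flp_c L171340) q8771, trivial⟩ (by decide +kernel)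

theorem ce_c_149 : ∀ r, r < 64 → sm gc (Qf (9536 + r)) = Qf (tab Gen.c (9536 + r)) :=
  edges_tab (sm gc) Qf (tab Gen.c) 9536 [(9536, 10201), (9537, 8972), (9538, 10187), (9539, 10193), (9540, 8779), (9541, 8780), (9542, 8782), (9543, 9063), (9544, 8937), (9545, 8798), (9546, 10204), (9547, 8940), (9548, 8801), (9549, 8945), (9550, 8946), (9551, 9042), (9552, 8947), (9553, 8948), (9554, 9554), (9555, 9555), (9556, 8809), (9557, 8810), (9558, 8811), (9559, 9387), (9560, 10214), (9561, 10215), (9562, 10220), (9563, 8813), (9564, 8895), (9565, 9565), (9566, 8818), (9567, 9143), (9568, 10226), (9569, 8897), (9570, 9247), (9571, 9040), (9572, 9358), (9573, 8898), (9574, 8899), (9575, 10221), (9576, 9576), (9577, 9577), (9578, 9578), (9579, 9579), (9580, 9580), (9581, 9581), (9582, 8831), (9583, 8832), (9584, 10242), (9585, 9398), (9586, 10240), (9587, 10245), (9588, 8833), (9589, 9589), (9590, 8837), (9591, 8861), (9592, 10250), (9593, 8906), (9594, 9594), (9595, 8907), (9596, 9093), (9597,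 8875), (9598, 8876), (9599, 8877)]
    ⟨e3 q9536 (flp_c L177723) q10201, e3 q9537 L171366 q8972, e3 q9538 (flp_c L177557) q10187, e3 q9539 (flp_c L177613) q10193, e3 q9540 (flp_c L171403) q8779, e3 q9541 (flp_c L171414) q8780, e3 q9542 L171431 q8782, e3 q9543 L171448 q9063, e3 q9544 L171455 q8937, e3 q9545 L171473 q8798, e3 q9546 (flp_c L177764) q10204, e3 q9547 L171499 q8940, e3 q9548 L171509 q8801, e3 q9549 L171519 q8945, e3 q9550 L171533 q8946, e3 q9551 L171551 q9042, e3 q9552 L171561 q8947, e3 q9553 L171571 q8948, e3 q9554 L171581 q9554, e3 q9555 L171590 q9555, e3 q9556 L171599 q8809, e3 q9557 L171611 q8810, e3 q9558 L171619 q8811, e3 q9559 L171627 q9387, e3 q9560 (flp_c L177878) q10214, e3 q9561 (flp_c L177890) q10215, e3 q9562 L177929 q10220, e3 q9563 L171661 q8813, e3 q9564 L171677 q8895, e3 q9565 L171691 q9565, e3 q9566 L171702 q8818, e3 q9567 L171718 q9143, e3 q9568 L177987 q10226, e3 q9569 L171737 q8897, e3 q9570 L171753 q9247, e3 q9571 L171765 q9040, e3 q9572 L171779 q9358, e3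 q9573 L171791 q8898, e3 q9574 L171805 q8899, e3 q9575 (flp_c L177944) q10221, e3 q9576 L171823 q9576, e3 q9577 L171832 q9577, e3 q9578 L171841 q9578, e3 q9579 L171852 q9579, e3 q9580 L171859 q9580, e3 q9581 L171864 q9581, e3 q9582 L171871 q8831, e3 q9583 L171881 q8832, e3 q9584 L178145 q10242, e3 q9585 L171895 q9398, e3 q9586 (flp_c L178129) q10240, e3 q9587 L178165 q10245, e3 q9588 (flp_c L171922) q8833, e3 q9589 L171933 q9589, e3 q9590 L171944 q8837, e3 q9591 L171962 q8861, e3 q9592 L178210 q10250, e3 q9593 L171981 q8906, e3 q9594 L171997 q9594, e3 q9595 L172012 q8907, e3 q9596 L172030 q9093, e3 q9597 L172040 q8875, e3 q9598 L172052 q8876, e3 q9599 L172060 q8877, trivial⟩ (by decide +kernel)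

theorem ce_c_150 : ∀ r, r < 64 → sm gc (Qf (9600 + r)) = Qf (tab Gen.c (9600 + r)) :=
  edges_tab (sm gc) Qf (tab Gen.c) 9600 [(9600, 8848), (9601, 8849), (9602, 10260), (9603, 9181), (9604, 10258), (9605, 10263), (9606, 8850), (9607, 9607), (9608, 9608), (9609, 9609), (9610, 8912), (9611, 8913), (9612, 10160), (9613, 9613), (9614, 9614), (9615, 9615), (9616, 9616), (9617, 9617), (9618, 9618), (9619, 8914), (9620, 8915), (9621, 10280), (9622, 10249), (9623, 8883), (9624, 8884), (9625, 8885), (9626, 8886), (9627, 8887), (9628, 10288), (9629, 8872), (9630, 10291), (9631, 8870), (9632, 10294), (9633, 9411), (9634, 8873), (9635, 8921), (9636, 10255), (9637, 10256), (9638, 10301), (9639, 10302), (9640, 8880), (9641, 8881), (9642, 10306), (9643, 8924), (9644, 10283), (9645, 10284), (9646, 10285), (9647, 10309), (9648, 10310), (9649, 8888), (9650, 10313), (9651, 10203), (9652, 8890), (9653, 9653), (9654, 8892), (9655, 8925), (9656, 8926), (9657, 8896), (9658, 10231), (9659, 10318), (9660, 8903),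 (9661, 10246), (9662, 10321), (9663, 8908)]
    ⟨e3 q9600 L172070 q8848, e3 q9601 L172084 q8849, e3 q9602 L178328 q10260, e3 q9603 L172098 q9181, e3 q9604 (flp_c L178308) q10258, e3 q9605 L178344 q10263, e3 q9606 (flp_c L172132) q8850, e3 q9607 L172146 q9607, e3 q9608 L172157 q9608, e3 q9609 L172168 q9609, e3 q9610 L172179 q8912, e3 q9611 L172191 q8913, e3 q9612 (flp_c L177272) q10160, e3 q9613 L172209 q9613, e3 q9614 L172222 q9614, e3 q9615 L172233 q9615, e3 q9616 L172242 q9616, e3 q9617 L172251 q9617, e3 q9618 L172256 q9618, e3 q9619 L172263 q8914, e3 q9620 L172275 q8915, e3 q9621 L178520 q10280, e3 q9622 (flp_c L178206) q10249, e3 q9623 L172291 q8883, e3 q9624 L172299 q8884, e3 q9625 L172307 q8885, e3 q9626 L172313 q8886, e3 q9627 L172319 q8887, e3 q9628 L178566 q10288, e3 q9629 L172329 q8872, e3 q9630 L178580 q10291, e3 q9631 (flp_c L172339) q8870, e3 q9632 (flp_c L178596) q10294, e3 q9633 L172349 q9411, e3 q9634 (flp_c L172353) q8873, e3 q9635 L172365 q8921, e3 q9636 (flp_c L178278)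 q10255, e3 q9637 (flp_c L178292) q10256, e3 q9638 L178656 q10301, e3 q9639 L178662 q10302, e3 q9640 (flp_c L172402) q8880, e3 q9641 (flp_c L172409) q8881, e3 q9642 (flp_c L178709) q10306, e3 q9643 L172437 q8924, e3 q9644 (flp_c L178538) q10283, e3 q9645 (flp_c L178544) q10284, e3 q9646 (flp_c L178550) q10285, e3 q9647 L178735 q10309, e3 q9648 L178741 q10310, e3 q9649 (flp_c L172469) q8888, e3 q9650 (flp_c L178765) q10313, e3 q9651 (flp_c L177758) q10203, e3 q9652 (flp_c L172488) q8890, e3 q9653 L172500 q9653, e3 q9654 L172503 q8892, e3 q9655 L172517 q8925, e3 q9656 L172523 q8926, e3 q9657 (flp_c L172530) q8896, e3 q9658 (flp_c L178052) q10231, e3 q9659 L178812 q10318, e3 q9660 (flp_c L172573) q8903, e3 q9661 (flp_c L178179) q10246, e3 q9662 L178856 q10321, e3 q9663 (flp_c L172612) q8908, trivial⟩ (by decide +kernel)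

theorem ce_c_151 : ∀ r, r < 64 → sm gc (Qf (9664 + r)) = Qf (tab Gen.c (9664 + r)) :=
  edges_tab (sm gc) Qf (tab Gen.c) 9664 [(9664, 8910), (9665, 9229), (9666, 10265), (9667, 10269), (9668, 10324), (9669, 10278), (9670, 10326), (9671, 8916), (9672, 9376), (9673, 8918), (9674, 9080), (9675, 10328), (9676, 10297), (9677, 10298), (9678, 10305), (9679, 10205), (9680, 9439), (9681, 9978), (9682, 10207), (9683, 10208), (9684, 10210), (9685, 9281), (9686, 9270), (9687, 8952), (9688, 8954), (9689, 9002), (9690, 8964), (9691, 9016), (9692, 8966), (9693, 10337), (9694, 8963), (9695, 9134), (9696, 9036), (9697, 10342), (9698, 10343), (9699, 8967), (9700, 8968), (9701, 8969), (9702, 8971), (9703, 8974), (9704, 10345), (9705, 9705), (9706, 8978), (9707, 8979), (9708, 10347), (9709, 9709), (9710, 9710), (9711, 9711), (9712, 9712), (9713, 9713), (9714, 9237), (9715, 9203), (9716, 8987), (9717, 8988), (9718, 10332), (9719, 10356), (9720, 10360), (9721, 8990), (9722, 9058), (9723, 9100), (9724, 9060),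 (9725, 9287), (9726, 9061), (9727, 10367)]
    ⟨e3 q9664 (flp_c L172627) q8910, e3 q9665 L172647 q9229, e3 q9666 (flp_c L178380) q10265, e3 q9667 (flp_c L178421) q10269, e3 q9668 L178900 q10324, e3 q9669 (flp_c L178504) q10278, e3 q9670 L178924 q10326, e3 q9671 (flp_c L172713) q8916, e3 q9672 L172726 q9376, e3 q9673 (flp_c L172731) q8918, e3 q9674 L172750 q9080, e3 q9675 (flp_c L178951) q10328, e3 q9676 (flp_c L178620) q10297, e3 q9677 (flp_c L178626) q10298, e3 q9678 (flp_c L178699) q10305, e3 q9679 (flp_c L177778) q10205, e3 q9680 L172821 q9439, e3 q9681 (flp_c L175630) q9978, e3 q9682 (flp_c L177800) q10207, e3 q9683 (flp_c L177814) q10208, e3 q9684 (flp_c L177840) q10210, e3 q9685 L172870 q9281, e3 q9686 L172889 q9270, e3 q9687 (flp_c L172892) q8952, e3 q9688 L172908 q8954, e3 q9689 L172928 q9002, e3 q9690 L172934 q8964, e3 q9691 L172950 q9016, e3 q9692 L172960 q8966, e3 q9693 L179053 q10337, e3 q9694 L172976 q8963, e3 q9695 L172992 q9134, e3 q9696 L172998 q9036, e3 q9697 L179103 q10342,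 e3 q9698 L179117 q10343, e3 q9699 (flp_c L173030) q8967, e3 q9700 (flp_c L173038) q8968, e3 q9701 (flp_c L173051) q8969, e3 q9702 L173070 q8971, e3 q9703 L173079 q8974, e3 q9704 (flp_c L179146) q10345, e3 q9705 L173102 q9705, e3 q9706 L173111 q8978, e3 q9707 L173123 q8979, e3 q9708 (flp_c L179165) q10347, e3 q9709 L173144 q9709, e3 q9710 L173157 q9710, e3 q9711 L173168 q9711, e3 q9712 L173177 q9712, e3 q9713 L173184 q9713, e3 q9714 L173191 q9237, e3 q9715 L173205 q9203, e3 q9716 L173217 q8987, e3 q9717 L173225 q8988, e3 q9718 (flp_c L179003) q10332, e3 q9719 (flp_c L179259) q10356, e3 q9720 L179282 q10360, e3 q9721 L173257 q8990, e3 q9722 L173269 q9058, e3 q9723 L173285 q9100, e3 q9724 L173293 q9060, e3 q9725 L173303 q9287, e3 q9726 L173313 q9061, e3 q9727 L179352 q10367, trivial⟩ (by decide +kernel)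

theorem ce_c_152 : ∀ r, r < 64 → sm gc (Qf (9728 + r)) = Qf (tab Gen.c (9728 + r)) :=
  edges_tab (sm gc) Qf (tab Gen.c) 9728 [(9728, 9299), (9729, 9301), (9730, 9202), (9731, 9302), (9732, 9200), (9733, 9003), (9734, 9163), (9735, 10333), (9736, 9736), (9737, 9007), (9738, 10251), (9739, 10380), (9740, 9740), (9741, 9064), (9742, 10383), (9743, 9043), (9744, 9044), (9745, 9045), (9746, 9017), (9747, 9152), (9748, 10335), (9749, 9749), (9750, 9750), (9751, 9068), (9752, 10394), (9753, 9753), (9754, 9754), (9755, 9755), (9756, 9756), (9757, 9757), (9758, 9070), (9759, 10402), (9760, 9026), (9761, 10404), (9762, 9047), (9763, 9048), (9764, 9049), (9765, 9050), (9766, 9051), (9767, 10411), (9768, 9037), (9769, 10414), (9770, 9035), (9771, 10416), (9772, 10341), (9773, 9038), (9774, 10229), (9775, 10147), (9776, 10209), (9777, 10385), (9778, 10386), (9779, 10406), (9780, 10407), (9781, 10408), (9782, 10423), (9783, 10424), (9784, 9052), (9785, 10426), (9786, 10167), (9787, 9054), (9788, 9056),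 (9789, 10427), (9790, 10428), (9791, 9062)]
    ⟨e3 q9728 L173331 q9299, e3 q9729 L173345 q9301, e3 q9730 L173359 q9202, e3 q9731 L173369 q9302, e3 q9732 L173379 q9200, e3 q9733 L173387 q9003, e3 q9734 L173401 q9163, e3 q9735 (flp_c L179011) q10333, e3 q9736 L173413 q9736, e3 q9737 L173422 q9007, e3 q9738 (flp_c L178233) q10251, e3 q9739 L179465 q10380, e3 q9740 L173451 q9740, e3 q9741 L173462 q9064, e3 q9742 L179493 q10383, e3 q9743 L173482 q9043, e3 q9744 L173492 q9044, e3 q9745 L173502 q9045, e3 q9746 L173510 q9017, e3 q9747 L173524 q9152, e3 q9748 (flp_c L179033) q10335, e3 q9749 L173538 q9749, e3 q9750 L173551 q9750, e3 q9751 L173564 q9068, e3 q9752 L179595 q10394, e3 q9753 L173586 q9753, e3 q9754 L173599 q9754, e3 q9755 L173612 q9755, e3 q9756 L173621 q9756, e3 q9757 L173626 q9757, e3 q9758 L173631 q9070, e3 q9759 L179669 q10402, e3 q9760 (flp_c L173639) q9026, e3 q9761 (flp_c L179685) q10404, e3 q9762 L173651 q9047, e3 q9763 L173659 q9048, e3 q9764 L173669 q9049, e3 q9765 L173681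 q9050, e3 q9766 L173689 q9051, e3 q9767 L179737 q10411, e3 q9768 L173703 q9037, e3 q9769 L179761 q10414, e3 q9770 (flp_c L173713) q9035, e3 q9771 (flp_c L179783) q10416, e3 q9772 (flp_c L179097) q10341, e3 q9773 (flp_c L173735) q9038, e3 q9774 (flp_c L178028) q10229, e3 q9775 (flp_c L177113) q10147, e3 q9776 (flp_c L177826) q10209, e3 q9777 (flp_c L179513) q10385, e3 q9778 (flp_c L179521) q10386, e3 q9779 (flp_c L179695) q10406, e3 q9780 (flp_c L179703) q10407, e3 q9781 (flp_c L179713) q10408, e3 q9782 L179857 q10423, e3 q9783 L179869 q10424, e3 q9784 (flp_c L173854) q9052, e3 q9785 (flp_c L179900) q10426, e3 q9786 (flp_c L177349) q10167, e3 q9787 (flp_c L173888) q9054, e3 q9788 L173908 q9056, e3 q9789 L179908 q10427, e3 q9790 L179919 q10428, e3 q9791 (flp_c L173940) q9062, trivial⟩ (by decide +kernel)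

theorem ce_c_153 : ∀ r, r < 64 → sm gc (Qf (9792 + r)) = Qf (tab Gen.c (9792 + r)) :=
  edges_tab (sm gc) Qf (tab Gen.c) 9792 [(9792, 10429), (9793, 9065), (9794, 10430), (9795, 10431), (9796, 9069), (9797, 10432), (9798, 9071), (9799, 9073), (9800, 9076), (9801, 9801), (9802, 9111), (9803, 9084), (9804, 9128), (9805, 10439), (9806, 10222), (9807, 9153), (9808, 9164), (9809, 9809), (9810, 9810), (9811, 9811), (9812, 9108), (9813, 10447), (9814, 10254), (9815, 9103), (9816, 9104), (9817, 9105), (9818, 9106), (9819, 10348), (9820, 10361), (9821, 10363), (9822, 9192), (9823, 10450), (9824, 10451), (9825, 10458), (9826, 9109), (9827, 9234), (9828, 9115), (9829, 10339), (9830, 10462), (9831, 9831), (9832, 9235), (9833, 9236), (9834, 9834), (9835, 9835), (9836, 9836), (9837, 9238), (9838, 9239), (9839, 10206), (9840, 9308), (9841, 9309), (9842, 9310), (9843, 9311), (9844, 9312), (9845, 9129), (9846, 9130), (9847, 10479), (9848, 10438), (9849, 10477), (9850, 10483), (9851, 9131), (9852, 9305),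 (9853, 10340), (9854, 9854), (9855, 9855)]
    ⟨e3 q9792 L179928 q10429, e3 q9793 (flp_c L173956) q9065, e3 q9794 (flp_c L179945) q10430, e3 q9795 L179953 q10431, e3 q9796 (flp_c L173987) q9069, e3 q9797 L179962 q10432, e3 q9798 (flp_c L174004) q9071, e3 q9799 L174013 q9073, e3 q9800 L174023 q9076, e3 q9801 L174033 q9801, e3 q9802 L174038 q9111, e3 q9803 L174048 q9084, e3 q9804 L174062 q9128, e3 q9805 L180018 q10439, e3 q9806 (flp_c L177958) q10222, e3 q9807 L174090 q9153, e3 q9808 L174096 q9164, e3 q9809 L174106 q9809, e3 q9810 L174117 q9810, e3 q9811 L174130 q9811, e3 q9812 L174137 q9108, e3 q9813 L180086 q10447, e3 q9814 (flp_c L178266) q10254, e3 q9815 L174155 q9103, e3 q9816 L174169 q9104, e3 q9817 L174179 q9105, e3 q9818 L174187 q9106, e3 q9819 (flp_c L179177) q10348, e3 q9820 (flp_c L179300) q10361, e3 q9821 (flp_c L179316) q10363, e3 q9822 L174209 q9192, e3 q9823 (flp_c L180106) q10450, e3 q9824 (flp_c L180118) q10451, e3 q9825 L180164 q10458, e3 q9826 (flp_c L174244) q9109, e3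 q9827 L174253 q9234, e3 q9828 L174265 q9115, e3 q9829 (flp_c L179077) q10339, e3 q9830 L180197 q10462, e3 q9831 L174299 q9831, e3 q9832 L174306 q9235, e3 q9833 L174316 q9236, e3 q9834 L174326 q9834, e3 q9835 L174339 q9835, e3 q9836 L174352 q9836, e3 q9837 L174363 q9238, e3 q9838 L174373 q9239, e3 q9839 (flp_c L177790) q10206, e3 q9840 L174395 q9308, e3 q9841 L174411 q9309, e3 q9842 L174423 q9310, e3 q9843 L174433 q9311, e3 q9844 L174439 q9312, e3 q9845 L174447 q9129, e3 q9846 L174457 q9130, e3 q9847 L180373 q10479, e3 q9848 (flp_c L180012) q10438, e3 q9849 (flp_c L180363) q10477, e3 q9850 L180395 q10483, e3 q9851 (flp_c L174481) q9131, e3 q9852 L174491 q9305, e3 q9853 (flp_c L179085) q10340, e3 q9854 L174511 q9854, e3 q9855 L174522 q9855, trivial⟩ (by decide +kernel)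

theorem ce_c_154 : ∀ r, r < 64 → sm gc (Qf (9856 + r)) = Qf (tab Gen.c (9856 + r)) :=
  edges_tab (sm gc) Qf (tab Gen.c) 9856 [(9856, 9216), (9857, 10144), (9858, 9858), (9859, 9859), (9860, 9860), (9861, 9861), (9862, 9862), (9863, 9217), (9864, 10497), (9865, 10225), (9866, 9317), (9867, 9318), (9868, 9319), (9869, 9320), (9870, 9321), (9871, 10387), (9872, 9154), (9873, 10388), (9874, 10389), (9875, 10441), (9876, 9195), (9877, 9196), (9878, 9197), (9879, 9198), (9880, 9199), (9881, 10373), (9882, 9165), (9883, 10374), (9884, 10375), (9885, 10442), (9886, 9246), (9887, 9248), (9888, 9249), (9889, 9250), (9890, 9251), (9891, 9220), (9892, 10526), (9893, 10165), (9894, 9255), (9895, 9256), (9896, 9257), (9897, 9258), (9898, 9259), (9899, 10534), (9900, 9222), (9901, 10537), (9902, 9180), (9903, 10540), (9904, 10262), (9905, 9204), (9906, 9205), (9907, 9206), (9908, 10546), (9909, 10548), (9910, 9187), (9911, 10551), (9912, 10173), (9913, 9189), (9914, 10554), (9915, 10539), (9916, 9191),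 (9917, 10557), (9918, 10457), (9919, 10510)]
    ⟨e3 q9856 L174531 q9216, e3 q9857 (flp_c L177074) q10144, e3 q9858 L174551 q9858, e3 q9859 L174564 q9859, e3 q9860 L174577 q9860, e3 q9861 L174586 q9861, e3 q9862 L174595 q9862, e3 q9863 L174602 q9217, e3 q9864 L180513 q10497, e3 q9865 (flp_c L177981) q10225, e3 q9866 L174626 q9317, e3 q9867 L174634 q9318, e3 q9868 L174644 q9319, e3 q9869 L174656 q9320, e3 q9870 L174662 q9321, e3 q9871 (flp_c L179533) q10387, e3 q9872 L174672 q9154, e3 q9873 (flp_c L179545) q10388, e3 q9874 (flp_c L179551) q10389, e3 q9875 (flp_c L180038) q10441, e3 q9876 L174698 q9195, e3 q9877 L174708 q9196, e3 q9878 L174722 q9197, e3 q9879 L174734 q9198, e3 q9880 L174742 q9199, e3 q9881 (flp_c L179416) q10373, e3 q9882 L174760 q9165, e3 q9883 (flp_c L179428) q10374, e3 q9884 (flp_c L179434) q10375, e3 q9885 (flp_c L180046) q10442, e3 q9886 L174790 q9246, e3 q9887 L174804 q9248, e3 q9888 L174818 q9249, e3 q9889 L174828 q9250, e3 q9890 L174838 q9251, e3 q9891 L174848 q9220,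 e3 q9892 L180757 q10526, e3 q9893 (flp_c L177325) q10165, e3 q9894 L174870 q9255, e3 q9895 L174880 q9256, e3 q9896 L174892 q9257, e3 q9897 L174904 q9258, e3 q9898 L174912 q9259, e3 q9899 L180831 q10534, e3 q9900 L174932 q9222, e3 q9901 L180857 q10537, e3 q9902 (flp_c L174944) q9180, e3 q9903 (flp_c L180877) q10540, e3 q9904 (flp_c L178342) q10262, e3 q9905 L174966 q9204, e3 q9906 L174972 q9205, e3 q9907 L174980 q9206, e3 q9908 L180913 q10546, e3 q9909 L180927 q10548, e3 q9910 (flp_c L175000) q9187, e3 q9911 (flp_c L180947) q10551, e3 q9912 (flp_c L177427) q10173, e3 q9913 (flp_c L175014) q9189, e3 q9914 (flp_c L180961) q10554, e3 q9915 (flp_c L180873) q10539, e3 q9916 L175028 q9191, e3 q9917 (flp_c L180973) q10557, e3 q9918 (flp_c L180158) q10457, e3 q9919 (flp_c L180609) q10510, trivial⟩ (by decide +kernel)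

theorem ce_c_155 : ∀ r, r < 64 → sm gc (Qf (9920 + r)) = Qf (tab Gen.c (9920 + r)) :=
  edges_tab (sm gc) Qf (tab Gen.c) 9920 [(9920, 10511), (9921, 10512), (9922, 10371), (9923, 10372), (9924, 10355), (9925, 10170), (9926, 10369), (9927, 10564), (9928, 10171), (9929, 9207), (9930, 9208), (9931, 10469), (9932, 9290), (9933, 9210), (9934, 9215), (9935, 10566), (9936, 10567), (9937, 9218), (9938, 9227), (9939, 10569), (9940, 9221), (9941, 9223), (9942, 10570), (9943, 9226), (9944, 9985), (9945, 9979), (9946, 9233), (9947, 10459), (9948, 10464), (9949, 10354), (9950, 10572), (9951, 9243), (9952, 9242), (9953, 9955), (9954, 9244), (9955, 9953), (9956, 10485), (9957, 10520), (9958, 10228), (9959, 10521), (9960, 10522), (9961, 10523), (9962, 10581), (9963, 9291), (9964, 10583), (9965, 9254), (9966, 10529), (9967, 10530), (9968, 10531), (9969, 10587), (9970, 10588), (9971, 9260), (9972, 10591), (9973, 10192), (9974, 9262), (9975, 9274), (9976, 9264), (9977, 10593), (9978, 9681), (9979, 9945),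 (9980, 10330), (9981, 10590), (9982, 9272), (9983, 10592)]
    ⟨e3 q9920 (flp_c L180621) q10511, e3 q9921 (flp_c L180635) q10512, e3 q9922 (flp_c L179396) q10371, e3 q9923 (flp_c L179404) q10372, e3 q9924 (flp_c L179249) q10355, e3 q9925 (flp_c L177389) q10170, e3 q9926 (flp_c L179368) q10369, e3 q9927 L181048 q10564, e3 q9928 (flp_c L177401) q10171, e3 q9929 (flp_c L175155) q9207, e3 q9930 (flp_c L175165) q9208, e3 q9931 (flp_c L180283) q10469, e3 q9932 L175187 q9290, e3 q9933 L175191 q9210, e3 q9934 (flp_c L175197) q9215, e3 q9935 L181066 q10566, e3 q9936 L181075 q10567, e3 q9937 (flp_c L175229) q9218, e3 q9938 L175240 q9227, e3 q9939 L181097 q10569, e3 q9940 (flp_c L175261) q9221, e3 q9941 (flp_c L175269) q9223, e3 q9942 (flp_c L181113) q10570, e3 q9943 L175289 q9226, e3 q9944 (flp_c L175708) q9985, e3 q9945 (flp_c L175644) q9979, e3 q9946 (flp_c L175319) q9233, e3 q9947 (flp_c L180175) q10459, e3 q9948 (flp_c L180224) q10464, e3 q9949 (flp_c L179235) q10354, e3 q9950 L181125 q10572,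 e3 q9951 L175378 q9243, e3 q9952 (flp_c L175388) q9242, e3 q9953 (flp_c L175419) q9955, e3 q9954 (flp_c L175407) q9244, e3 q9955 L175419 q9953, e3 q9956 (flp_c L180411) q10485, e3 q9957 (flp_c L180699) q10520, e3 q9958 (flp_c L178014) q10228, e3 q9959 (flp_c L180713) q10521, e3 q9960 (flp_c L180727) q10522, e3 q9961 (flp_c L180735) q10523, e3 q9962 L181210 q10581, e3 q9963 L175494 q9291, e3 q9964 L181228 q10583, e3 q9965 (flp_c L175510) q9254, e3 q9966 (flp_c L180783) q10529, e3 q9967 (flp_c L180793) q10530, e3 q9968 (flp_c L180805) q10531, e3 q9969 L181270 q10587, e3 q9970 L181280 q10588, e3 q9971 (flp_c L175568) q9260, e3 q9972 (flp_c L181310) q10591, e3 q9973 (flp_c L177609) q10192, e3 q9974 (flp_c L175593) q9262, e3 q9975 L175607 q9274, e3 q9976 L175611 q9264, e3 q9977 (flp_c L181327) q10593, e3 q9978 L175630 q9681, e3 q9979 L175644 q9945, e3 q9980 (flp_c L178971) q10330, e3 q9981 (flp_c L181306) q10590, e3 q9982 L175673 q9272, e3 q9983 (flp_c L181320) q10592, trivial⟩ (by decide +kernel)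

theorem ce_c_156 : ∀ r, r < 64 → sm gc (Qf (9984 + r)) = Qf (tab Gen.c (9984 + r)) :=
  edges_tab (sm gc) Qf (tab Gen.c) 9984 [(9984, 10124), (9985, 9944), (9986, 9988), (9987, 9280), (9988, 9986), (9989, 10365), (9990, 9292), (9991, 9295), (9992, 10595), (9993, 9298), (9994, 10370), (9995, 9306), (9996, 9307), (9997, 10472), (9998, 10473), (9999, 10474), (10000, 10475), (10001, 10603), (10002, 10604), (10003, 9314), (10004, 9315), (10005, 10608), (10006, 9327), (10007, 10500), (10008, 10501), (10009, 10502), (10010, 10598), (10011, 10607), (10012, 10609), (10013, 10013), (10014, 10014), (10015, 10015), (10016, 9335), (10017, 9336), (10018, 10137), (10019, 10615), (10020, 10619), (10021, 10620), (10022, 10022), (10023, 10023), (10024, 10624), (10025, 10155), (10026, 9342), (10027, 10027), (10028, 10028), (10029, 10630), (10030, 9346), (10031, 10632), (10032, 9357), (10033, 9359), (10034, 9360), (10035, 9361), (10036, 10638), (10037, 10640), (10038, 9353), (10039, 10643), (10040, 10185),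 (10041, 9355), (10042, 9378), (10043, 10634), (10044, 10230), (10045, 10635), (10046, 10649), (10047, 10650)]
    ⟨e3 q9984 (flp_c L176836) q10124, e3 q9985 L175708 q9944, e3 q9986 (flp_c L175741) q9988, e3 q9987 (flp_c L175725) q9280, e3 q9988 L175741 q9986, e3 q9989 (flp_c L179338) q10365, e3 q9990 (flp_c L175759) q9292, e3 q9991 L175773 q9295, e3 q9992 L181342 q10595, e3 q9993 (flp_c L175783) q9298, e3 q9994 (flp_c L179382) q10370, e3 q9995 (flp_c L175808) q9306, e3 q9996 (flp_c L175823) q9307, e3 q9997 (flp_c L180313) q10472, e3 q9998 (flp_c L180329) q10473, e3 q9999 (flp_c L180341) q10474, e3 q10000 (flp_c L180349) q10475, e3 q10001 L181428 q10603, e3 q10002 L181436 q10604, e3 q10003 (flp_c L175893) q9314, e3 q10004 (flp_c L175902) q9315, e3 q10005 (flp_c L181479) q10608, e3 q10006 L175920 q9327, e3 q10007 (flp_c L180539) q10500, e3 q10008 (flp_c L180549) q10501, e3 q10009 (flp_c L180559) q10502, e3 q10010 (flp_c L181379) q10598, e3 q10011 (flp_c L181471) q10607, e3 q10012 (flp_c L181488)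 q10609, e3 q10013 L175982 q10013, e3 q10014 L175989 q10014, e3 q10015 L175996 q10015, e3 q10016 L176009 q9335, e3 q10017 L176021 q9336, e3 q10018 (flp_c L176976) q10137, e3 q10019 (flp_c L181544) q10615, e3 q10020 L181576 q10619, e3 q10021 L181583 q10620, e3 q10022 L176064 q10022, e3 q10023 L176071 q10023, e3 q10024 L181608 q10624, e3 q10025 (flp_c L177204) q10155, e3 q10026 (flp_c L176084) q9342, e3 q10027 L176095 q10027, e3 q10028 L176102 q10028, e3 q10029 L181652 q10630, e3 q10030 (flp_c L176109) q9346, e3 q10031 (flp_c L181664) q10632, e3 q10032 L176125 q9357, e3 q10033 L176137 q9359, e3 q10034 L176145 q9360, e3 q10035 L176153 q9361, e3 q10036 L181708 q10638, e3 q10037 L181724 q10640, e3 q10038 (flp_c L176171) q9353, e3 q10039 (flp_c L181744) q10643, e3 q10040 (flp_c L177531) q10185, e3 q10041 (flp_c L176189) q9355, e3 q10042 L176201 q9378, e3 q10043 (flp_c L181678) q10634, e3 q10044 (flp_c L178042) q10230, e3 q10045 (flp_c L181688) q10635, e3 q10046 L181791 q10649, e3 q10047 L181801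 q10650, trivial⟩ (by decide +kernel)

theorem ce_c_157 : ∀ r, r < 64 → sm gc (Qf (10048 + r)) = Qf (tab Gen.c (10048 + r)) :=
  edges_tab (sm gc) Qf (tab Gen.c) 10048 [(10048, 9362), (10049, 10653), (10050, 10344), (10051, 9364), (10052, 10052), (10053, 9366), (10054, 9379), (10055, 9369), (10056, 10656), (10057, 10627), (10058, 9372), (10059, 10658), (10060, 9374), (10061, 10646), (10062, 10657), (10063, 10063), (10064, 10064), (10065, 10065), (10066, 10066), (10067, 9388), (10068, 9389), (10069, 10666), (10070, 10217), (10071, 10664), (10072, 10670), (10073, 9390), (10074, 10074), (10075, 10075), (10076, 10076), (10077, 10077), (10078, 10677), (10079, 10679), (10080, 9397), (10081, 10681), (10082, 10244), (10083, 9399), (10084, 9416), (10085, 9417), (10086, 9418), (10087, 10687), (10088, 10689), (10089, 9406), (10090, 10692), (10091, 10694), (10092, 9408), (10093, 10697), (10094, 10366), (10095, 9410), (10096, 10701), (10097, 10296), (10098, 9412), (10099, 9434), (10100, 9414), (10101,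 9435), (10102, 10704), (10103, 10705), (10104, 10706), (10105, 9419), (10106, 10709), (10107, 9420), (10108, 10711), (10109, 9446), (10110, 9422), (10111, 9423)]
    ⟨e3 q10048 (flp_c L176249) q9362, e3 q10049 (flp_c L181831) q10653, e3 q10050 (flp_c L179138) q10344, e3 q10051 (flp_c L176278) q9364, e3 q10052 L176294 q10052, e3 q10053 L176299 q9366, e3 q10054 L176310 q9379, e3 q10055 (flp_c L176317) q9369, e3 q10056 (flp_c L181863) q10656, e3 q10057 (flp_c L181635) q10627, e3 q10058 (flp_c L176334) q9372, e3 q10059 (flp_c L181875) q10658, e3 q10060 L176346 q9374, e3 q10061 (flp_c L181760) q10646, e3 q10062 (flp_c L181871) q10657, e3 q10063 L176366 q10063, e3 q10064 L176375 q10064, e3 q10065 L176386 q10065, e3 q10066 L176393 q10066, e3 q10067 L176400 q9388, e3 q10068 L176412 q9389, e3 q10069 L181929 q10666, e3 q10070 (flp_c L177902) q10217, e3 q10071 (flp_c L181913) q10664, e3 q10072 L181958 q10670, e3 q10073 (flp_c L176449) q9390, e3 q10074 L176460 q10074, e3 q10075 L176471 q10075, e3 q10076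 L176478 q10076, e3 q10077 L176483 q10077, e3 q10078 L182013 q10677, e3 q10079 L182022 q10679, e3 q10080 (flp_c L176496) q9397, e3 q10081 (flp_c L182036) q10681, e3 q10082 (flp_c L178159) q10244, e3 q10083 (flp_c L176512) q9399, e3 q10084 L176521 q9416, e3 q10085 L176529 q9417, e3 q10086 L176535 q9418, e3 q10087 L182066 q10687, e3 q10088 L182078 q10689, e3 q10089 (flp_c L176551) q9406, e3 q10090 (flp_c L182098) q10692, e3 q10091 L182108 q10694, e3 q10092 (flp_c L176567) q9408, e3 q10093 (flp_c L182126) q10697, e3 q10094 (flp_c L179350) q10366, e3 q10095 L176581 q9410, e3 q10096 (flp_c L182142) q10701, e3 q10097 (flp_c L178606) q10296, e3 q10098 (flp_c L176591) q9412, e3 q10099 L176603 q9434, e3 q10100 L176607 q9414, e3 q10101 L176613 q9435, e3 q10102 L182150 q10704, e3 q10103 L182160 q10705, e3 q10104 L182166 q10706, e3 q10105 (flp_c L176646) q9419, e3 q10106 (flp_c L182202) q10709, e3 q10107 (flp_c L176664) q9420, e3 q10108 (flp_c L182219) q10711, e3 q10109 L176684 q9446, e3 q10110 L176688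 q9422, e3 q10111 (flp_c L176692) q9423, trivial⟩ (by decide +kernel)

theorem ce_c_158 : ∀ r, r < 64 → sm gc (Qf (10112 + r)) = Qf (tab Gen.c (10112 + r)) :=
  edges_tab (sm gc) Qf (tab Gen.c) 10112 [(10112, 9448), (10113, 9425), (10114, 9449), (10115, 9450), (10116, 9433), (10117, 9432), (10118, 10716), (10119, 10121), (10120, 9437), (10121, 10119), (10122, 10672), (10123, 9441), (10124, 9984), (10125, 10708), (10126, 10710), (10127, 9445), (10128, 10712), (10129, 10713), (10130, 10715), (10131, 10131), (10132, 10132), (10133, 10133), (10134, 10134), (10135, 9458), (10136, 9459), (10137, 10018), (10138, 10727), (10139, 10731), (10140, 9461), (10141, 9519), (10142, 10142), (10143, 9466), (10144, 9857), (10145, 10737), (10146, 9522), (10147, 9775), (10148, 9523), (10149, 10741), (10150, 10150), (10151, 10151), (10152, 10152), (10153, 9477), (10154, 10747), (10155, 10025), (10156, 10750), (10157, 9478), (10158, 9528), (10159, 9482), (10160, 9612), (10161, 10755), (10162, 9530), (10163, 10757),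 (10164, 10759), (10165, 9893), (10166, 9487), (10167, 9786), (10168, 9532), (10169, 10764), (10170, 9925), (10171, 9928), (10172, 9534), (10173, 9912), (10174, 9496), (10175, 10770)]
    ⟨e3 q10112 L176706 q9448, e3 q10113 L176716 q9425, e3 q10114 L176727 q9449, e3 q10115 L176736 q9450, e3 q10116 L176750 q9433, e3 q10117 (flp_c L176754) q9432, e3 q10118 (flp_c L182257) q10716, e3 q10119 (flp_c L176807) q10121, e3 q10120 (flp_c L176792) q9437, e3 q10121 L176807 q10119, e3 q10122 (flp_c L181979) q10672, e3 q10123 (flp_c L176821) q9441, e3 q10124 L176836 q9984, e3 q10125 (flp_c L182192) q10708, e3 q10126 (flp_c L182215) q10710, e3 q10127 L176865 q9445, e3 q10128 (flp_c L182228) q10712, e3 q10129 (flp_c L182236) q10713, e3 q10130 (flp_c L182248) q10715, e3 q10131 L176898 q10131, e3 q10132 L176913 q10132, e3 q10133 L176926 q10133, e3 q10134 L176935 q10134, e3 q10135 L176950 q9458, e3 q10136 L176962 q9459, e3 q10137 L176976 q10018, e3 q10138 (flp_c L182388) q10727, e3 q10139 L182424 q10731, e3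 q10140 L177009 q9461, e3 q10141 L177025 q9519, e3 q10142 L177041 q10142, e3 q10143 L177056 q9466, e3 q10144 L177074 q9857, e3 q10145 L182498 q10737, e3 q10146 L177097 q9522, e3 q10147 L177113 q9775, e3 q10148 L177129 q9523, e3 q10149 L182555 q10741, e3 q10150 L177153 q10150, e3 q10151 L177166 q10151, e3 q10152 L177177 q10152, e3 q10153 L177184 q9477, e3 q10154 L182613 q10747, e3 q10155 L177204 q10025, e3 q10156 L182639 q10750, e3 q10157 (flp_c L177223) q9478, e3 q10158 L177238 q9528, e3 q10159 L177254 q9482, e3 q10160 L177272 q9612, e3 q10161 L182703 q10755, e3 q10162 L177295 q9530, e3 q10163 L182732 q10757, e3 q10164 L182750 q10759, e3 q10165 L177325 q9893, e3 q10166 (flp_c L177329) q9487, e3 q10167 L177349 q9786, e3 q10168 L177365 q9532, e3 q10169 L182808 q10764, e3 q10170 L177389 q9925, e3 q10171 L177401 q9928, e3 q10172 L177411 q9534, e3 q10173 L177427 q9912, e3 q10174 (flp_c L177429) q9496, e3 q10175 (flp_c L182876) q10770, trivial⟩ (by decide +kernel)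

theorem ce_c_159 : ∀ r, r < 64 → sm gc (Qf (10176 + r)) = Qf (tab Gen.c (10176 + r)) :=
  edges_tab (sm gc) Qf (tab Gen.c) 10176 [(10176, 9511), (10177, 9512), (10178, 9513), (10179, 9514), (10180, 10776), (10181, 9507), (10182, 10779), (10183, 9505), (10184, 10782), (10185, 10040), (10186, 9508), (10187, 9538), (10188, 10772), (10189, 10773), (10190, 10786), (10191, 9515), (10192, 9973), (10193, 9539), (10194, 10789), (10195, 10790), (10196, 9524), (10197, 10791), (10198, 10751), (10199, 9531), (10200, 9533), (10201, 9536), (10202, 10785), (10203, 9651), (10204, 9546), (10205, 9679), (10206, 9839), (10207, 9682), (10208, 9683), (10209, 9776), (10210, 9684), (10211, 10794), (10212, 10212), (10213, 10213), (10214, 9560), (10215, 9561), (10216, 10806), (10217, 10070), (10218, 10804), (10219, 10809), (10220, 9562), (10221, 9575), (10222, 9806), (10223, 10223), (10224, 10815), (10225, 9865), (10226, 9568), (10227, 10732), (10228, 9958), (10229, 9774), (10230, 10044), (10231, 9658), (10232,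 10824), (10233, 10812), (10234, 10234), (10235, 10235), (10236, 10236), (10237, 10237), (10238, 10238), (10239, 10832)]
    ⟨e3 q10176 L177447 q9511, e3 q10177 L177461 q9512, e3 q10178 L177471 q9513, e3 q10179 L177479 q9514, e3 q10180 L182926 q10776, e3 q10181 L177499 q9507, e3 q10182 L182954 q10779, e3 q10183 (flp_c L177515) q9505, e3 q10184 (flp_c L182986) q10782, e3 q10185 L177531 q10040, e3 q10186 (flp_c L177535) q9508, e3 q10187 L177557 q9538, e3 q10188 (flp_c L182890) q10772, e3 q10189 (flp_c L182902) q10773, e3 q10190 L183020 q10786, e3 q10191 (flp_c L177594) q9515, e3 q10192 L177609 q9973, e3 q10193 L177613 q9539, e3 q10194 L183054 q10789, e3 q10195 L183069 q10790, e3 q10196 (flp_c L177654) q9524, e3 q10197 (flp_c L183090) q10791, e3 q10198 (flp_c L182665) q10751, e3 q10199 (flp_c L177693) q9531, e3 q10200 (flp_c L177705) q9533, e3 q10201 L177723 q9536, e3 q10202 (flp_c L183006) q10785, e3 q10203 L177758 q9651, e3 q10204 L177764 q9546, e3 q10205 L177778 q9679, e3 q10206 L177790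 q9839, e3 q10207 L177800 q9682, e3 q10208 L177814 q9683, e3 q10209 L177826 q9776, e3 q10210 L177840 q9684, e3 q10211 (flp_c L183131) q10794, e3 q10212 L177862 q10212, e3 q10213 L177871 q10213, e3 q10214 L177878 q9560, e3 q10215 L177890 q9561, e3 q10216 L183254 q10806, e3 q10217 L177902 q10070, e3 q10218 (flp_c L183238) q10804, e3 q10219 L183270 q10809, e3 q10220 (flp_c L177929) q9562, e3 q10221 L177944 q9575, e3 q10222 L177958 q9806, e3 q10223 L177964 q10223, e3 q10224 L183341 q10815, e3 q10225 L177981 q9865, e3 q10226 (flp_c L177987) q9568, e3 q10227 (flp_c L182447) q10732, e3 q10228 L178014 q9958, e3 q10229 L178028 q9774, e3 q10230 L178042 q10044, e3 q10231 L178052 q9658, e3 q10232 L183440 q10824, e3 q10233 (flp_c L183309) q10812, e3 q10234 L178080 q10234, e3 q10235 L178091 q10235, e3 q10236 L178100 q10236, e3 q10237 L178111 q10237, e3 q10238 L178116 q10238, e3 q10239 L183513 q10832, trivial⟩ (by decide +kernel)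

theorem ce_c_160 : ∀ r, r < 64 → sm gc (Qf (10240 + r)) = Qf (tab Gen.c (10240 + r)) :=
  edges_tab (sm gc) Qf (tab Gen.c) 10240 [(10240, 9586), (10241, 10835), (10242, 9584), (10243, 10838), (10244, 10082), (10245, 9587), (10246, 9661), (10247, 10247), (10248, 10844), (10249, 9622), (10250, 9592), (10251, 9738), (10252, 10252), (10253, 10849), (10254, 9814), (10255, 9636), (10256, 9637), (10257, 10854), (10258, 9604), (10259, 10857), (10260, 9602), (10261, 10860), (10262, 9904), (10263, 9605), (10264, 10864), (10265, 9666), (10266, 10266), (10267, 10267), (10268, 10268), (10269, 9667), (10270, 10869), (10271, 10754), (10272, 10272), (10273, 10273), (10274, 10274), (10275, 10275), (10276, 10276), (10277, 10877), (10278, 9669), (10279, 10880), (10280, 9621), (10281, 10883), (10282, 10846), (10283, 9644), (10284, 9645), (10285, 9646), (10286, 10889), (10287, 10891), (10288, 9628), (10289, 10894), (10290, 10792), (10291, 9630), (10292, 10898), (10293, 10882), (10294, 9632), (10295, 10902),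 (10296, 10097), (10297, 9676), (10298, 9677), (10299, 10852), (10300, 10904), (10301, 9638), (10302, 9639), (10303, 10908)]
    ⟨e3 q10240 L178129 q9586, e3 q10241 L183534 q10835, e3 q10242 (flp_c L178145) q9584, e3 q10243 (flp_c L183558) q10838, e3 q10244 L178159 q10082, e3 q10245 (flp_c L178165) q9587, e3 q10246 L178179 q9661, e3 q10247 L178185 q10247, e3 q10248 L183620 q10844, e3 q10249 L178206 q9622, e3 q10250 (flp_c L178210) q9592, e3 q10251 L178233 q9738, e3 q10252 L178243 q10252, e3 q10253 L183676 q10849, e3 q10254 L178266 q9814, e3 q10255 L178278 q9636, e3 q10256 L178292 q9637, e3 q10257 L183732 q10854, e3 q10258 L178308 q9604, e3 q10259 L183760 q10857, e3 q10260 (flp_c L178328) q9602, e3 q10261 (flp_c L183790) q10860, e3 q10262 L178342 q9904, e3 q10263 (flp_c L178344) q9605, e3 q10264 (flp_c L183828) q10864, e3 q10265 L178380 q9666, e3 q10266 L178388 q10266, e3 q10267 L178401 q10267, e3 q10268 L178412 q10268, e3 q10269 L178421 q9667, e3 q10270 L183882 q10869, e3 q10271 (flp_c L182699)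 q10754, e3 q10272 L178447 q10272, e3 q10273 L178460 q10273, e3 q10274 L178473 q10274, e3 q10275 L178482 q10275, e3 q10276 L178489 q10276, e3 q10277 L183957 q10877, e3 q10278 L178504 q9669, e3 q10279 L183980 q10880, e3 q10280 (flp_c L178520) q9621, e3 q10281 (flp_c L184002) q10883, e3 q10282 (flp_c L183646) q10846, e3 q10283 L178538 q9644, e3 q10284 L178544 q9645, e3 q10285 L178550 q9646, e3 q10286 L184032 q10889, e3 q10287 L184044 q10891, e3 q10288 (flp_c L178566) q9628, e3 q10289 (flp_c L184062) q10894, e3 q10290 (flp_c L183109) q10792, e3 q10291 (flp_c L178580) q9630, e3 q10292 (flp_c L184088) q10898, e3 q10293 (flp_c L183998) q10882, e3 q10294 L178596 q9632, e3 q10295 (flp_c L184110) q10902, e3 q10296 L178606 q10097, e3 q10297 L178620 q9676, e3 q10298 L178626 q9677, e3 q10299 (flp_c L183716) q10852, e3 q10300 L184118 q10904, e3 q10301 (flp_c L178656) q9638, e3 q10302 (flp_c L178662) q9639, e3 q10303 (flp_c L184160) q10908, trivial⟩ (by decide +kernel)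

theorem ce_c_161 : ∀ r, r < 64 → sm gc (Qf (10304 + r)) = Qf (tab Gen.c (10304 + r)) :=
  edges_tab (sm gc) Qf (tab Gen.c) 10304 [(10304, 10304), (10305, 9678), (10306, 9642), (10307, 10793), (10308, 10910), (10309, 9647), (10310, 9648), (10311, 10913), (10312, 10312), (10313, 9650), (10314, 10314), (10315, 10315), (10316, 10316), (10317, 10818), (10318, 9659), (10319, 10841), (10320, 10842), (10321, 9662), (10322, 10918), (10323, 10863), (10324, 9668), (10325, 10919), (10326, 9670), (10327, 10920), (10328, 9675), (10329, 10797), (10330, 9980), (10331, 10811), (10332, 9718), (10333, 9735), (10334, 10924), (10335, 9748), (10336, 10927), (10337, 9693), (10338, 10929), (10339, 9829), (10340, 9853), (10341, 9772), (10342, 9697), (10343, 9698), (10344, 10050), (10345, 9704), (10346, 10346), (10347, 9708), (10348, 9819), (10349, 10349), (10350, 10350), (10351, 10351), (10352, 10352), (10353, 10943), (10354, 9949), (10355, 9924), (10356, 9719), (10357, 10948), (10358, 10922), (10359, 10951),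 (10360, 9720), (10361, 9820), (10362, 10955), (10363, 9821), (10364, 10958), (10365, 9989), (10366, 10094), (10367, 9727)]
    ⟨e3 q10304 L178689 q10304, e3 q10305 L178699 q9678, e3 q10306 L178709 q9642, e3 q10307 (flp_c L183117) q10793, e3 q10308 L184177 q10910, e3 q10309 (flp_c L178735) q9647, e3 q10310 (flp_c L178741) q9648, e3 q10311 (flp_c L184205) q10913, e3 q10312 L178762 q10312, e3 q10313 L178765 q9650, e3 q10314 L178778 q10314, e3 q10315 L178783 q10315, e3 q10316 L178793 q10316, e3 q10317 (flp_c L183378) q10818, e3 q10318 (flp_c L178812) q9659, e3 q10319 (flp_c L183591) q10841, e3 q10320 (flp_c L183595) q10842, e3 q10321 (flp_c L178856) q9662, e3 q10322 (flp_c L184251) q10918, e3 q10323 (flp_c L183818) q10863, e3 q10324 (flp_c L178900) q9668, e3 q10325 L184253 q10919, e3 q10326 (flp_c L178924) q9670, e3 q10327 (flp_c L184274) q10920, e3 q10328 L178951 q9675, e3 q10329 (flp_c L183165) q10797, e3 q10330 L178971 q9980, e3 q10331 (flp_c L183303) q10811, e3 q10332 L179003 q9718, e3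 q10333 L179011 q9735, e3 q10334 L184321 q10924, e3 q10335 L179033 q9748, e3 q10336 L184359 q10927, e3 q10337 (flp_c L179053) q9693, e3 q10338 (flp_c L184383) q10929, e3 q10339 L179077 q9829, e3 q10340 L179085 q9853, e3 q10341 L179097 q9772, e3 q10342 (flp_c L179103) q9697, e3 q10343 (flp_c L179117) q9698, e3 q10344 L179138 q10050, e3 q10345 L179146 q9704, e3 q10346 L179158 q10346, e3 q10347 L179165 q9708, e3 q10348 L179177 q9819, e3 q10349 L179187 q10349, e3 q10350 L179200 q10350, e3 q10351 L179211 q10351, e3 q10352 L179220 q10352, e3 q10353 L184527 q10943, e3 q10354 L179235 q9949, e3 q10355 L179249 q9924, e3 q10356 L179259 q9719, e3 q10357 L184568 q10948, e3 q10358 (flp_c L184299) q10922, e3 q10359 L184588 q10951, e3 q10360 (flp_c L179282) q9720, e3 q10361 L179300 q9820, e3 q10362 L184622 q10955, e3 q10363 L179316 q9821, e3 q10364 L184656 q10958, e3 q10365 L179338 q9989, e3 q10366 L179350 q10094, e3 q10367 (flp_c L179352) q9727, trivial⟩ (by decide +kernel)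

theorem ce_c_162 : ∀ r, r < 64 → sm gc (Qf (10368 + r)) = Qf (tab Gen.c (10368 + r)) :=
  edges_tab (sm gc) Qf (tab Gen.c) 10368 [(10368, 10962), (10369, 9926), (10370, 9994), (10371, 9922), (10372, 9923), (10373, 9881), (10374, 9883), (10375, 9884), (10376, 10923), (10377, 10377), (10378, 10973), (10379, 10847), (10380, 9739), (10381, 10381), (10382, 10977), (10383, 9742), (10384, 10979), (10385, 9777), (10386, 9778), (10387, 9871), (10388, 9873), (10389, 9874), (10390, 10926), (10391, 10391), (10392, 10392), (10393, 10989), (10394, 9752), (10395, 10991), (10396, 10396), (10397, 10397), (10398, 10398), (10399, 10399), (10400, 10997), (10401, 10999), (10402, 9759), (10403, 11001), (10404, 9761), (10405, 11004), (10406, 9779), (10407, 9780), (10408, 9781), (10409, 11009), (10410, 11011), (10411, 9767), (10412, 11013), (10413, 10763), (10414, 9769), (10415, 11016), (10416, 9771), (10417, 11018), (10418, 10933), (10419, 10821), (10420, 10739), (10421, 10799), (10422, 10762), (10423, 9782),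 (10424, 9783), (10425, 11021), (10426, 9785), (10427, 9789), (10428, 9790), (10429, 9792), (10430, 9794), (10431, 9795)]
    ⟨e3 q10368 (flp_c L184700) q10962, e3 q10369 L179368 q9926, e3 q10370 L179382 q9994, e3 q10371 L179396 q9922, e3 q10372 L179404 q9923, e3 q10373 L179416 q9881, e3 q10374 L179428 q9883, e3 q10375 L179434 q9884, e3 q10376 (flp_c L184313) q10923, e3 q10377 L179452 q10377, e3 q10378 L184802 q10973, e3 q10379 (flp_c L183654) q10847, e3 q10380 (flp_c L179465) q9739, e3 q10381 L179480 q10381, e3 q10382 L184834 q10977, e3 q10383 (flp_c L179493) q9742, e3 q10384 (flp_c L184862) q10979, e3 q10385 L179513 q9777, e3 q10386 L179521 q9778, e3 q10387 L179533 q9871, e3 q10388 L179545 q9873, e3 q10389 L179551 q9874, e3 q10390 (flp_c L184351) q10926, e3 q10391 L179569 q10391, e3 q10392 L179582 q10392, e3 q10393 L184953 q10989, e3 q10394 (flp_c L179595) q9752, e3 q10395 (flp_c L184977) q10991, e3 q10396 L179621 q10396, e3 q10397 L179634 q10397, e3 q10398 L179647 q10398, e3 q10399 L179654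 q10399, e3 q10400 L185033 q10997, e3 q10401 L185046 q10999, e3 q10402 (flp_c L179669) q9759, e3 q10403 (flp_c L185064) q11001, e3 q10404 L179685 q9761, e3 q10405 (flp_c L185080) q11004, e3 q10406 L179695 q9779, e3 q10407 L179703 q9780, e3 q10408 L179713 q9781, e3 q10409 L185110 q11009, e3 q10410 L185128 q11011, e3 q10411 (flp_c L179737) q9767, e3 q10412 (flp_c L185154) q11013, e3 q10413 (flp_c L182806) q10763, e3 q10414 (flp_c L179761) q9769, e3 q10415 (flp_c L185178) q11016, e3 q10416 L179783 q9771, e3 q10417 (flp_c L185194) q11018, e3 q10418 (flp_c L184423) q10933, e3 q10419 (flp_c L183410) q10821, e3 q10420 (flp_c L182531) q10739, e3 q10421 (flp_c L183191) q10799, e3 q10422 (flp_c L182784) q10762, e3 q10423 (flp_c L179857) q9782, e3 q10424 (flp_c L179869) q9783, e3 q10425 (flp_c L185224) q11021, e3 q10426 L179900 q9785, e3 q10427 (flp_c L179908) q9789, e3 q10428 (flp_c L179919) q9790, e3 q10429 (flp_c L179928) q9792, e3 q10430 L179945 q9794, e3 q10431 (flp_c L179953) q9795, trivial⟩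 (by decide +kernel)

theorem ce_c_163 : ∀ r, r < 64 → sm gc (Qf (10432 + r)) = Qf (tab Gen.c (10432 + r)) :=
  edges_tab (sm gc) Qf (tab Gen.c) 10432 [(10432, 9797), (10433, 10837), (10434, 10434), (10435, 10435), (10436, 10795), (10437, 11028), (10438, 9848), (10439, 9805), (10440, 10813), (10441, 9875), (10442, 9885), (10443, 10443), (10444, 10444), (10445, 11036), (10446, 11038), (10447, 9813), (10448, 11040), (10449, 10851), (10450, 9823), (10451, 9824), (10452, 10935), (10453, 10465), (10454, 10938), (10455, 10954), (10456, 10957), (10457, 9918), (10458, 9825), (10459, 9947), (10460, 11050), (10461, 10931), (10462, 9830), (10463, 10463), (10464, 9948), (10465, 10453), (10466, 10466), (10467, 10467), (10468, 10468), (10469, 9931), (10470, 11061), (10471, 10796), (10472, 9997), (10473, 9998), (10474, 9999), (10475, 10000), (10476, 11068), (10477, 9849), (10478, 11071), (10479, 9847), (10480, 11074), (10481, 11030), (10482, 11077), (10483, 9850), (10484, 11079), (10485, 9956), (10486,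 10932), (10487, 10487), (10488, 10488), (10489, 11084), (10490, 10736), (10491, 10491), (10492, 10492), (10493, 10493), (10494, 10494), (10495, 11091)]
    ⟨e3 q10432 (flp_c L179962) q9797, e3 q10433 (flp_c L183554) q10837, e3 q10434 L179984 q10434, e3 q10435 L179989 q10435, e3 q10436 (flp_c L183147) q10795, e3 q10437 L185285 q11028, e3 q10438 L180012 q9848, e3 q10439 (flp_c L180018) q9805, e3 q10440 (flp_c L183323) q10813, e3 q10441 L180038 q9875, e3 q10442 L180046 q9885, e3 q10443 L180054 q10443, e3 q10444 L180065 q10444, e3 q10445 L185367 q11036, e3 q10446 L185380 q11038, e3 q10447 (flp_c L180086) q9813, e3 q10448 (flp_c L185394) q11040, e3 q10449 (flp_c L183704) q10851, e3 q10450 L180106 q9823, e3 q10451 L180118 q9824, e3 q10452 (flp_c L184449) q10935, e3 q10453 (flp_c L180240) q10465, e3 q10454 (flp_c L184477) q10938, e3 q10455 (flp_c L184618) q10954, e3 q10456 (flp_c L184650) q10957, e3 q10457 L180158 q9918, e3 q10458 (flp_c L180164) q9825, e3 q10459 L180175 q9947, e3 q10460 L185466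 q11050, e3 q10461 (flp_c L184399) q10931, e3 q10462 (flp_c L180197) q9830, e3 q10463 L180213 q10463, e3 q10464 L180224 q9948, e3 q10465 L180240 q10453, e3 q10466 L180248 q10466, e3 q10467 L180261 q10467, e3 q10468 L180274 q10468, e3 q10469 L180283 q9931, e3 q10470 L185573 q11061, e3 q10471 (flp_c L183153) q10796, e3 q10472 L180313 q9997, e3 q10473 L180329 q9998, e3 q10474 L180341 q9999, e3 q10475 L180349 q10000, e3 q10476 L185641 q11068, e3 q10477 L180363 q9849, e3 q10478 L185663 q11071, e3 q10479 (flp_c L180373) q9847, e3 q10480 (flp_c L185677) q11074, e3 q10481 (flp_c L185311) q11030, e3 q10482 L185687 q11077, e3 q10483 (flp_c L180395) q9850, e3 q10484 (flp_c L185709) q11079, e3 q10485 L180411 q9956, e3 q10486 (flp_c L184413) q10932, e3 q10487 L180425 q10487, e3 q10488 L180436 q10488, e3 q10489 L185750 q11084, e3 q10490 (flp_c L182492) q10736, e3 q10491 L180459 q10491, e3 q10492 L180472 q10492, e3 q10493 L180485 q10493, e3 q10494 L180492 q10494, e3 q10495 L185822 q11091, trivial⟩ (by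 decide +kernel)

theorem ce_c_164 : ∀ r, r < 64 → sm gc (Qf (10496 + r)) = Qf (tab Gen.c (10496 + r)) :=
  edges_tab (sm gc) Qf (tab Gen.c) 10496 [(10496, 11093), (10497, 9864), (10498, 11095), (10499, 10817), (10500, 10007), (10501, 10008), (10502, 10009), (10503, 10981), (10504, 10982), (10505, 10983), (10506, 10740), (10507, 10984), (10508, 10985), (10509, 11032), (10510, 9919), (10511, 9920), (10512, 9921), (10513, 10966), (10514, 10967), (10515, 10968), (10516, 10768), (10517, 10969), (10518, 10970), (10519, 11033), (10520, 9957), (10521, 9959), (10522, 9960), (10523, 9961), (10524, 11120), (10525, 11122), (10526, 9892), (10527, 11125), (10528, 10761), (10529, 9966), (10530, 9967), (10531, 9968), (10532, 11131), (10533, 11133), (10534, 9899), (10535, 11136), (10536, 10781), (10537, 9901), (10538, 11139), (10539, 9915), (10540, 9903), (10541, 11142), (10542, 10862), (10543, 11144), (10544, 10767), (10545, 10800), (10546, 9908), (10547, 11148), (10548, 9909), (10549, 11150), (10550,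 11135), (10551, 9911), (10552, 11154), (10553, 10769), (10554, 9914), (10555, 11157), (10556, 11141), (10557, 9917), (10558, 11160), (10559, 11161)]
    ⟨e3 q10496 L185837 q11093, e3 q10497 (flp_c L180513) q9864, e3 q10498 (flp_c L185853) q11095, e3 q10499 (flp_c L183363) q10817, e3 q10500 L180539 q10007, e3 q10501 L180549 q10008, e3 q10502 L180559 q10009, e3 q10503 (flp_c L184878) q10981, e3 q10504 (flp_c L184890) q10982, e3 q10505 (flp_c L184898) q10983, e3 q10506 (flp_c L182553) q10740, e3 q10507 (flp_c L184908) q10984, e3 q10508 (flp_c L184916) q10985, e3 q10509 (flp_c L185329) q11032, e3 q10510 L180609 q9919, e3 q10511 L180621 q9920, e3 q10512 L180635 q9921, e3 q10513 (flp_c L184746) q10966, e3 q10514 (flp_c L184758) q10967, e3 q10515 (flp_c L184766) q10968, e3 q10516 (flp_c L182860) q10768, e3 q10517 (flp_c L184776) q10969, e3 q10518 (flp_c L184784) q10970, e3 q10519 (flp_c L185337) q11033, e3 q10520 L180699 q9957, e3 q10521 L180713 q9959, e3 q10522 L180727 q9960, e3 q10523 L180735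 q9961, e3 q10524 L186047 q11120, e3 q10525 L186067 q11122, e3 q10526 (flp_c L180757) q9892, e3 q10527 (flp_c L186089) q11125, e3 q10528 (flp_c L182776) q10761, e3 q10529 L180783 q9966, e3 q10530 L180793 q9967, e3 q10531 L180805 q9968, e3 q10532 L186135 q11131, e3 q10533 L186151 q11133, e3 q10534 (flp_c L180831) q9899, e3 q10535 (flp_c L186183) q11136, e3 q10536 (flp_c L182980) q10781, e3 q10537 (flp_c L180857) q9901, e3 q10538 (flp_c L186205) q11139, e3 q10539 L180873 q9915, e3 q10540 L180877 q9903, e3 q10541 (flp_c L186223) q11142, e3 q10542 (flp_c L183802) q10862, e3 q10543 L186233 q11144, e3 q10544 (flp_c L182844) q10767, e3 q10545 (flp_c L183209) q10800, e3 q10546 (flp_c L180913) q9908, e3 q10547 (flp_c L186269) q11148, e3 q10548 (flp_c L180927) q9909, e3 q10549 (flp_c L186283) q11150, e3 q10550 (flp_c L186179) q11135, e3 q10551 L180947 q9911, e3 q10552 (flp_c L186303) q11154, e3 q10553 (flp_c L182866) q10769, e3 q10554 L180961 q9914, e3 q10555 (flp_c L186315) q11157, e3 q10556 (flp_c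 L186217) q11141, e3 q10557 L180973 q9917, e3 q10558 (flp_c L186329) q11160, e3 q10559 L186331 q11161, trivial⟩ (by decide +kernel)

theorem ce_c_165 : ∀ r, r < 64 → sm gc (Qf (10560 + r)) = Qf (tab Gen.c (10560 + r)) :=
  edges_tab (sm gc) Qf (tab Gen.c) 10560 [(10560, 10766), (10561, 10965), (10562, 10964), (10563, 10945), (10564, 9927), (10565, 10714), (10566, 9935), (10567, 9936), (10568, 11162), (10569, 9939), (10570, 9942), (10571, 11053), (10572, 9950), (10573, 11164), (10574, 11078), (10575, 11080), (10576, 11116), (10577, 10820), (10578, 11117), (10579, 11169), (10580, 11170), (10581, 9962), (10582, 10788), (10583, 9964), (10584, 10584), (10585, 11172), (10586, 10787), (10587, 9969), (10588, 9970), (10589, 11173), (10590, 9981), (10591, 9972), (10592, 9983), (10593, 9977), (10594, 11174), (10595, 9992), (10596, 11177), (10597, 10597), (10598, 10010), (10599, 11064), (10600, 11065), (10601, 11181), (10602, 11182), (10603, 10001), (10604, 10002), (10605, 11185), (10606, 10606), (10607,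 10011), (10608, 10005), (10609, 10012), (10610, 11187), (10611, 11179), (10612, 10612), (10613, 11189), (10614, 10614), (10615, 10019), (10616, 11193), (10617, 10729), (10618, 11196), (10619, 10020), (10620, 10021), (10621, 11199), (10622, 10622), (10623, 11202)]
    ⟨e3 q10560 (flp_c L182830) q10766, e3 q10561 (flp_c L184730) q10965, e3 q10562 (flp_c L184714) q10964, e3 q10563 (flp_c L184544) q10945, e3 q10564 (flp_c L181048) q9927, e3 q10565 (flp_c L182242) q10714, e3 q10566 (flp_c L181066) q9935, e3 q10567 (flp_c L181075) q9936, e3 q10568 (flp_c L186351) q11162, e3 q10569 (flp_c L181097) q9939, e3 q10570 L181113 q9942, e3 q10571 (flp_c L185500) q11053, e3 q10572 (flp_c L181125) q9950, e3 q10573 (flp_c L186371) q11164, e3 q10574 (flp_c L185701) q11078, e3 q10575 (flp_c L185717) q11080, e3 q10576 (flp_c L186007) q11116, e3 q10577 (flp_c L183398) q10820, e3 q10578 (flp_c L186021) q11117, e3 q10579 L186421 q11169, e3 q10580 L186431 q11170, e3 q10581 (flp_c L181210) q9962, e3 q10582 (flp_c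 L183043) q10788, e3 q10583 (flp_c L181228) q9964, e3 q10584 L181244 q10584, e3 q10585 L186447 q11172, e3 q10586 (flp_c L183039) q10787, e3 q10587 (flp_c L181270) q9969, e3 q10588 (flp_c L181280) q9970, e3 q10589 (flp_c L186462) q11173, e3 q10590 L181306 q9981, e3 q10591 L181310 q9972, e3 q10592 L181320 q9983, e3 q10593 L181327 q9977, e3 q10594 (flp_c L186473) q11174, e3 q10595 (flp_c L181342) q9992, e3 q10596 (flp_c L186503) q11177, e3 q10597 L181369 q10597, e3 q10598 L181379 q10010, e3 q10599 (flp_c L185603) q11064, e3 q10600 (flp_c L185619) q11065, e3 q10601 L186545 q11181, e3 q10602 L186555 q11182, e3 q10603 (flp_c L181428) q10001, e3 q10604 (flp_c L181436) q10002, e3 q10605 (flp_c L186585) q11185, e3 q10606 L181465 q10606, e3 q10607 L181471 q10011, e3 q10608 L181479 q10005, e3 q10609 L181488 q10012, e3 q10610 L186602 q11187, e3 q10611 (flp_c L186522) q11179, e3 q10612 L181516 q10612, e3 q10613 L186615 q11189, e3 q10614 L181533 q10614, e3 q10615 L181544 q10019, e3 q10616 L186650 q11193,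 e3 q10617 (flp_c L182408) q10729, e3 q10618 L186674 q11196, e3 q10619 (flp_c L181576) q10020, e3 q10620 (flp_c L181583) q10021, e3 q10621 (flp_c L186701) q11199, e3 q10622 L181599 q10622, e3 q10623 L186719 q11202, trivial⟩ (by decide +kernel)

theorem ce_c_166 : ∀ r, r < 64 → sm gc (Qf (10624 + r)) = Qf (tab Gen.c (10624 + r)) :=
  edges_tab (sm gc) Qf (tab Gen.c) 10624 [(10624, 10024), (10625, 11205), (10626, 10749), (10627, 10057), (10628, 10628), (10629, 11209), (10630, 10029), (10631, 11212), (10632, 10031), (10633, 11215), (10634, 10043), (10635, 10045), (10636, 11219), (10637, 11221), (10638, 10036), (10639, 11224), (10640, 10037), (10641, 11226), (10642, 11211), (10643, 10039), (10644, 11230), (10645, 10784), (10646, 10061), (10647, 10934), (10648, 11232), (10649, 10046), (10650, 10047), (10651, 11234), (10652, 10652), (10653, 10049), (10654, 10654), (10655, 10655), (10656, 10056), (10657, 10062), (10658, 10059), (10659, 11240), (10660, 10660), (10661, 10661), (10662, 10662), (10663,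 11245), (10664, 10071), (10665, 11248), (10666, 10069), (10667, 11251), (10668, 10808), (10669, 11254), (10670, 10072), (10671, 11256), (10672, 10122), (10673, 10673), (10674, 10674), (10675, 11260), (10676, 11262), (10677, 10078), (10678, 11264), (10679, 10079), (10680, 11266), (10681, 10081), (10682, 11268), (10683, 10840), (10684, 11270), (10685, 11272), (10686, 11274), (10687, 10087)]
    ⟨e3 q10624 (flp_c L181608) q10024, e3 q10625 (flp_c L186742) q11205, e3 q10626 (flp_c L182633) q10749, e3 q10627 L181635 q10057, e3 q10628 L181641 q10628, e3 q10629 L186766 q11209, e3 q10630 (flp_c L181652) q10029, e3 q10631 (flp_c L186787) q11212, e3 q10632 L181664 q10031, e3 q10633 (flp_c L186801) q11215, e3 q10634 L181678 q10043, e3 q10635 L181688 q10045, e3 q10636 L186829 q11219, e3 q10637 L186845 q11221, e3 q10638 (flp_c L181708) q10036, e3 q10639 (flp_c L186871) q11224, e3 q10640 (flp_c L181724) q10037, e3 q10641 (flp_c L186887) q11226, e3 q10642 (flp_c L186783) q11211, e3 q10643 L181744 q10039,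 e3 q10644 (flp_c L186911) q11230, e3 q10645 (flp_c L183000) q10784, e3 q10646 L181760 q10061, e3 q10647 (flp_c L184435) q10934, e3 q10648 L186919 q11232, e3 q10649 (flp_c L181791) q10046, e3 q10650 (flp_c L181801) q10047, e3 q10651 (flp_c L186940) q11234, e3 q10652 L181826 q10652, e3 q10653 L181831 q10049, e3 q10654 L181841 q10654, e3 q10655 L181853 q10655, e3 q10656 L181863 q10056, e3 q10657 L181871 q10062, e3 q10658 L181875 q10059, e3 q10659 (flp_c L187001) q11240, e3 q10660 L181882 q10660, e3 q10661 L181891 q10661, e3 q10662 L181900 q10662, e3 q10663 L187033 q11245, e3 q10664 L181913 q10071, e3 q10665 L187054 q11248, e3 q10666 (flp_c L181929) q10069, e3 q10667 (flp_c L187078) q11251, e3 q10668 (flp_c L183264) q10808, e3 q10669 L187094 q11254, e3 q10670 (flp_c L181958) q10072, e3 q10671 (flp_c L187118) q11256, e3 q10672 L181979 q10122, e3 q10673 L181987 q10673, e3 q10674 L181996 q10674, e3 q10675 L187152 q11260, e3 q10676 L187163 q11262, e3 q10677 (flp_c L182013) q10078, e3 q10678 (flp_c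 L187178) q11264, e3 q10679 (flp_c L182022) q10079, e3 q10680 (flp_c L187188) q11266, e3 q10681 L182036 q10081, e3 q10682 (flp_c L187200) q11268, e3 q10683 (flp_c L183572) q10840, e3 q10684 L187210 q11270, e3 q10685 L187224 q11272, e3 q10686 L187238 q11274, e3 q10687 (flp_c L182066) q10087, trivial⟩ (by decide +kernel)

theorem ce_c_167 : ∀ r, r < 64 → sm gc (Qf (10688 + r)) = Qf (tab Gen.c (10688 + r)) :=
  edges_tab (sm gc) Qf (tab Gen.c) 10688 [(10688, 11277), (10689, 10088), (10690, 11280), (10691, 10960), (10692, 10090), (10693, 11285), (10694, 10091), (10695, 11287), (10696, 10778), (10697, 10093), (10698, 11291), (10699, 10856), (10700, 10961), (10701, 10096), (10702, 11295), (10703, 10752), (10704, 10102), (10705, 10103), (10706, 10104), (10707, 11298), (10708, 10125), (10709, 10106), (10710, 10126), (10711, 10108), (10712, 10128), (10713, 10129), (10714, 10565), (10715, 10130), (10716, 10118), (10717, 11255), (10718, 11257), (10719, 11297), (10720, 11300), (10721, 11301), (10722,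 11303), (10723, 10723), (10724, 10724), (10725, 11309), (10726, 10726), (10727, 10138), (10728, 11313), (10729, 10617), (10730, 11316), (10731, 10139), (10732, 10227), (10733, 11320), (10734, 10734), (10735, 11323), (10736, 10490), (10737, 10145), (10738, 11326), (10739, 10420), (10740, 10506), (10741, 10149), (10742, 11330), (10743, 10743), (10744, 10744), (10745, 11334), (10746, 11336), (10747, 10154), (10748, 11339), (10749, 10626), (10750, 10156), (10751, 10198)]
    ⟨e3 q10688 (flp_c L187260) q11277, e3 q10689 (flp_c L182078) q10088, e3 q10690 (flp_c L187278) q11280, e3 q10691 (flp_c L184682) q10960, e3 q10692 L182098 q10090, e3 q10693 (flp_c L187308) q11285, e3 q10694 (flp_c L182108) q10091, e3 q10695 (flp_c L187320) q11287, e3 q10696 (flp_c L182952) q10778, e3 q10697 L182126 q10093, e3 q10698 (flp_c L187336) q11291, e3 q10699 (flp_c L183758) q10856, e3 q10700 (flp_c L184690) q10961, e3 q10701 L182142 q10096, e3 q10702 (flp_c L187354) q11295, e3 q10703 (flp_c L182681) q10752, e3 q10704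 (flp_c L182150) q10102, e3 q10705 (flp_c L182160) q10103, e3 q10706 (flp_c L182166) q10104, e3 q10707 (flp_c L187391) q11298, e3 q10708 L182192 q10125, e3 q10709 L182202 q10106, e3 q10710 L182215 q10126, e3 q10711 L182219 q10108, e3 q10712 L182228 q10128, e3 q10713 L182236 q10129, e3 q10714 L182242 q10565, e3 q10715 L182248 q10130, e3 q10716 L182257 q10118, e3 q10717 (flp_c L187110) q11255, e3 q10718 (flp_c L187127) q11257, e3 q10719 (flp_c L187379) q11297, e3 q10720 (flp_c L187416) q11300, e3 q10721 (flp_c L187427) q11301, e3 q10722 (flp_c L187446) q11303, e3 q10723 L182335 q10723, e3 q10724 L182350 q10724, e3 q10725 L187508 q11309, e3 q10726 L182373 q10726, e3 q10727 L182388 q10138, e3 q10728 L187549 q11313, e3 q10729 L182408 q10617, e3 q10730 L187579 q11316, e3 q10731 (flp_c L182424) q10139, e3 q10732 L182447 q10227, e3 q10733 L187628 q11320, e3 q10734 L182467 q10734, e3 q10735 L187668 q11323, e3 q10736 L182492 q10490, e3 q10737 (flp_c L182498) q10145, e3 q10738 L187702 q11326, e3 q10739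 L182531 q10420, e3 q10740 L182553 q10506, e3 q10741 (flp_c L182555) q10149, e3 q10742 (flp_c L187762) q11330, e3 q10743 L182577 q10743, e3 q10744 L182588 q10744, e3 q10745 L187798 q11334, e3 q10746 L187811 q11336, e3 q10747 (flp_c L182613) q10154, e3 q10748 (flp_c L187855) q11339, e3 q10749 L182633 q10626, e3 q10750 (flp_c L182639) q10156, e3 q10751 L182665 q10198, trivial⟩ (by decide +kernel)

theorem ce_c_168 : ∀ r, r < 64 → sm gc (Qf (10752 + r)) = Qf (tab Gen.c (10752 + r)) :=
  edges_tab (sm gc) Qf (tab Gen.c) 10752 [(10752, 10703), (10753, 11343), (10754, 10271), (10755, 10161), (10756, 11296), (10757, 10163), (10758, 11347), (10759, 10164), (10760, 11349), (10761, 10528), (10762, 10422), (10763, 10413), (10764, 10169), (10765, 11354), (10766, 10560), (10767, 10544), (10768, 10516), (10769, 10553), (10770, 10175), (10771, 11361), (10772, 10188), (10773, 10189), (10774, 11299), (10775, 11366), (10776, 10180), (10777, 11369), (10778, 10696), (10779, 10182), (10780, 11372), (10781, 10536),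 (10782, 10184), (10783, 11376), (10784, 10645), (10785, 10202), (10786, 10190), (10787, 10586), (10788, 10582), (10789, 10194), (10790, 10195), (10791, 10197), (10792, 10290), (10793, 10307), (10794, 10211), (10795, 10436), (10796, 10471), (10797, 10329), (10798, 11044), (10799, 10421), (10800, 10545), (10801, 11381), (10802, 10802), (10803, 11390), (10804, 10218), (10805, 11393), (10806, 10216), (10807, 11396), (10808, 10668), (10809, 10219), (10810, 11399), (10811, 10331), (10812, 10233), (10813, 10440), (10814, 11403), (10815, 10224)]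
    ⟨e3 q10752 L182681 q10703, e3 q10753 L187893 q11343, e3 q10754 L182699 q10271, e3 q10755 (flp_c L182703) q10161, e3 q10756 (flp_c L187362) q11296, e3 q10757 (flp_c L182732) q10163, e3 q10758 (flp_c L187945) q11347, e3 q10759 (flp_c L182750) q10164, e3 q10760 (flp_c L187963) q11349, e3 q10761 L182776 q10528, e3 q10762 L182784 q10422, e3 q10763 L182806 q10413, e3 q10764 (flp_c L182808) q10169, e3 q10765 (flp_c L188023) q11354, e3 q10766 L182830 q10560, e3 q10767 L182844 q10544, e3 q10768 L182860 q10516, e3 q10769 L182866 q10553, e3 q10770 L182876 q10175, e3 q10771 (flp_c L188099) q11361, e3 q10772 L182890 q10188, e3 q10773 L182902 q10189, e3 q10774 (flp_c L187410) q11299, e3 q10775 L188139 q11366, e3 q10776 (flp_c L182926) q10180, e3 q10777 (flp_c L188175) q11369, e3 q10778 L182952 q10696, e3 q10779 (flp_c L182954) q10182, e3 q10780 (flp_c L188205) q11372, e3 q10781 L182980 q10536, e3 q10782 L182986 q10184, e3 q10783 (flp_c L188245) q11376, e3 q10784 L183000 q10645, e3 q10785 L183006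 q10202, e3 q10786 (flp_c L183020) q10190, e3 q10787 L183039 q10586, e3 q10788 L183043 q10582, e3 q10789 (flp_c L183054) q10194, e3 q10790 (flp_c L183069) q10195, e3 q10791 L183090 q10197, e3 q10792 L183109 q10290, e3 q10793 L183117 q10307, e3 q10794 L183131 q10211, e3 q10795 L183147 q10436, e3 q10796 L183153 q10471, e3 q10797 L183165 q10329, e3 q10798 (flp_c L185430) q11044, e3 q10799 L183191 q10421, e3 q10800 L183209 q10545, e3 q10801 (flp_c L188299) q11381, e3 q10802 L183223 q10802, e3 q10803 L188399 q11390, e3 q10804 L183238 q10218, e3 q10805 L188422 q11393, e3 q10806 (flp_c L183254) q10216, e3 q10807 (flp_c L188454) q11396, e3 q10808 L183264 q10668, e3 q10809 (flp_c L183270) q10219, e3 q10810 (flp_c L188474) q11399, e3 q10811 L183303 q10331, e3 q10812 L183309 q10233, e3 q10813 L183323 q10440, e3 q10814 L188520 q11403, e3 q10815 (flp_c L183341) q10224, trivial⟩ (by decide +kernel)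

theorem ce_c_169 : ∀ r, r < 64 → sm gc (Qf (10816 + r)) = Qf (tab Gen.c (10816 + r)) :=
  edges_tab (sm gc) Qf (tab Gen.c) 10816 [(10816, 11406), (10817, 10499), (10818, 10317), (10819, 11319), (10820, 10577), (10821, 10419), (10822, 11412), (10823, 11374), (10824, 10232), (10825, 11415), (10826, 11401), (10827, 10827), (10828, 10828), (10829, 10829), (10830, 11421), (10831, 11423), (10832, 10239), (10833, 11426), (10834, 11379), (10835, 10241), (10836, 11430), (10837, 10433), (10838, 10243), (10839, 11434), (10840, 10683), (10841, 10319), (10842, 10320), (10843, 11436), (10844, 10248), (10845, 11438), (10846, 10282), (10847, 10379), (10848, 11442), (10849, 10253), (10850, 11445), (10851, 10449), (10852, 10299), (10853, 11449), (10854, 10257), (10855, 11452), (10856, 10699), (10857, 10259), (10858, 11456), (10859, 11444), (10860, 10261), (10861, 11460), (10862, 10542), (10863, 10323), (10864, 10264), (10865, 10865), (10866, 10866), (10867, 11464), (10868, 11338), (10869, 10270), (10870,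 11467), (10871, 11345), (10872, 10872), (10873, 10873), (10874, 10874), (10875, 11473), (10876, 11475), (10877, 10277), (10878, 11478), (10879, 11480)]
    ⟨e3 q10816 (flp_c L188553) q11406, e3 q10817 L183363 q10499, e3 q10818 L183378 q10317, e3 q10819 (flp_c L187620) q11319, e3 q10820 L183398 q10577, e3 q10821 L183410 q10419, e3 q10822 L188613 q11412, e3 q10823 (flp_c L188219) q11374, e3 q10824 (flp_c L183440) q10232, e3 q10825 (flp_c L188653) q11415, e3 q10826 (flp_c L188498) q11401, e3 q10827 L183474 q10827, e3 q10828 L183483 q10828, e3 q10829 L183492 q10829, e3 q10830 L188707 q11421, e3 q10831 L188718 q11423, e3 q10832 (flp_c L183513) q10239, e3 q10833 (flp_c L188740) q11426, e3 q10834 (flp_c L188279) q11379, e3 q10835 (flp_c L183534) q10241, e3 q10836 (flp_c L188776) q11430, e3 q10837 L183554 q10433, e3 q10838 L183558 q10243, e3 q10839 (flp_c L188814) q11434, e3 q10840 L183572 q10683, e3 q10841 L183591 q10319, e3 q10842 L183595 q10320, e3 q10843 L188826 q11436, e3 q10844 (flp_c L183620)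 q10248, e3 q10845 (flp_c L188853) q11438, e3 q10846 L183646 q10282, e3 q10847 L183654 q10379, e3 q10848 L188895 q11442, e3 q10849 (flp_c L183676) q10253, e3 q10850 (flp_c L188936) q11445, e3 q10851 L183704 q10449, e3 q10852 L183716 q10299, e3 q10853 L188982 q11449, e3 q10854 (flp_c L183732) q10257, e3 q10855 (flp_c L189012) q11452, e3 q10856 L183758 q10699, e3 q10857 (flp_c L183760) q10259, e3 q10858 (flp_c L189054) q11456, e3 q10859 (flp_c L188930) q11444, e3 q10860 L183790 q10261, e3 q10861 (flp_c L189096) q11460, e3 q10862 L183802 q10542, e3 q10863 L183818 q10323, e3 q10864 L183828 q10264, e3 q10865 L183844 q10865, e3 q10866 L183855 q10866, e3 q10867 L189130 q11464, e3 q10868 (flp_c L187847) q11338, e3 q10869 (flp_c L183882) q10270, e3 q10870 (flp_c L189163) q11467, e3 q10871 (flp_c L187923) q11345, e3 q10872 L183912 q10872, e3 q10873 L183925 q10873, e3 q10874 L183936 q10874, e3 q10875 L189215 q11473, e3 q10876 L189228 q11475, e3 q10877 (flp_c L183957) q10277, e3 q10878 (flp_c L189248)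 q11478, e3 q10879 L189258 q11480, trivial⟩ (by decide +kernel)

theorem ce_c_170 : ∀ r, r < 64 → sm gc (Qf (10880 + r)) = Qf (tab Gen.c (10880 + r)) :=
  edges_tab (sm gc) Qf (tab Gen.c) 10880 [(10880, 10279), (10881, 11482), (10882, 10293), (10883, 10281), (10884, 11485), (10885, 11440), (10886, 11217), (10887, 11380), (10888, 11489), (10889, 10286), (10890, 11492), (10891, 10287), (10892, 11495), (10893, 11477), (10894, 10289), (10895, 11500), (10896, 11360), (10897, 11432), (10898, 10292), (10899, 11504), (10900, 11429), (10901, 11484), (10902, 10295), (10903, 11508), (10904, 10300), (10905, 11510), (10906, 10906), (10907, 10907), (10908, 10303), (10909, 10909), (10910, 10308), (10911, 10911), (10912, 10912), (10913, 10311), (10914, 10914), (10915, 10915), (10916, 10937), (10917, 10917), (10918, 10322), (10919, 10325), (10920, 10327), (10921, 11400), (10922, 10358), (10923, 10376), (10924, 10334), (10925, 11521), (10926, 10390), (10927, 10336), (10928, 11524), (10929, 10338), (10930,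 11526), (10931, 10461), (10932, 10486), (10933, 10418), (10934, 10647), (10935, 10452), (10936, 11532), (10937, 10916), (10938, 10454), (10939, 10939), (10940, 11537), (10941, 10941), (10942, 11540), (10943, 10353)]
    ⟨e3 q10880 (flp_c L183980) q10279, e3 q10881 (flp_c L189286) q11482, e3 q10882 L183998 q10293, e3 q10883 L184002 q10281, e3 q10884 (flp_c L189308) q11485, e3 q10885 (flp_c L188875) q11440, e3 q10886 (flp_c L186817) q11217, e3 q10887 (flp_c L188287) q11380, e3 q10888 L189328 q11489, e3 q10889 (flp_c L184032) q10286, e3 q10890 (flp_c L189354) q11492, e3 q10891 (flp_c L184044) q10287, e3 q10892 (flp_c L189372) q11495, e3 q10893 (flp_c L189244) q11477, e3 q10894 L184062 q10289, e3 q10895 (flp_c L189402) q11500, e3 q10896 (flp_c L188091) q11360, e3 q10897 (flp_c L188790) q11432, e3 q10898 L184088 q10292, e3 q10899 (flp_c L189426) q11504, e3 q10900 (flp_c L188772) q11429, e3 q10901 (flp_c L189300) q11484, e3 q10902 L184110 q10295, e3 q10903 (flp_c L189450) q11508, e3 q10904 (flp_c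 L184118) q10300, e3 q10905 (flp_c L189469) q11510, e3 q10906 L184143 q10906, e3 q10907 L184155 q10907, e3 q10908 L184160 q10303, e3 q10909 L184167 q10909, e3 q10910 (flp_c L184177) q10308, e3 q10911 L184192 q10911, e3 q10912 L184200 q10912, e3 q10913 L184205 q10311, e3 q10914 L184214 q10914, e3 q10915 L184223 q10915, e3 q10916 (flp_c L184469) q10937, e3 q10917 L184234 q10917, e3 q10918 L184251 q10322, e3 q10919 (flp_c L184253) q10325, e3 q10920 L184274 q10327, e3 q10921 (flp_c L188485) q11400, e3 q10922 L184299 q10358, e3 q10923 L184313 q10376, e3 q10924 (flp_c L184321) q10334, e3 q10925 (flp_c L189587) q11521, e3 q10926 L184351 q10390, e3 q10927 (flp_c L184359) q10336, e3 q10928 (flp_c L189625) q11524, e3 q10929 L184383 q10338, e3 q10930 (flp_c L189647) q11526, e3 q10931 L184399 q10461, e3 q10932 L184413 q10486, e3 q10933 L184423 q10418, e3 q10934 L184435 q10647, e3 q10935 L184449 q10452, e3 q10936 L189708 q11532, e3 q10937 L184469 q10916, e3 q10938 L184477 q10454, e3 q10939 L184489 q10939,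 e3 q10940 L189761 q11537, e3 q10941 L184516 q10941, e3 q10942 L189794 q11540, e3 q10943 (flp_c L184527) q10353, trivial⟩ (by decide +kernel)

theorem ce_c_171 : ∀ r, r < 64 → sm gc (Qf (10944 + r)) = Qf (tab Gen.c (10944 + r)) :=
  edges_tab (sm gc) Qf (tab Gen.c) 10944 [(10944, 11542), (10945, 10563), (10946, 11175), (10947, 11546), (10948, 10357), (10949, 11549), (10950, 11519), (10951, 10359), (10952, 11553), (10953, 10953), (10954, 10455), (10955, 10362), (10956, 11556), (10957, 10456), (10958, 10364), (10959, 11559), (10960, 10691), (10961, 10700), (10962, 10368), (10963, 11563), (10964, 10562), (10965, 10561), (10966, 10513), (10967, 10514), (10968, 10515), (10969, 10517), (10970, 10518), (10971, 11520), (10972, 11572), (10973, 10378), (10974, 11574), (10975, 11441), (10976, 11577), (10977, 10382), (10978, 11579), (10979, 10384), (10980, 11582), (10981, 10503), (10982, 10504), (10983, 10505), (10984, 10507), (10985, 10508), (10986, 11523), (10987, 10987), (10988, 11590), (10989, 10393),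 (10990, 11592), (10991, 10395), (10992, 11594), (10993, 10993), (10994, 10994), (10995, 11598), (10996, 11600), (10997, 10400), (10998, 11602), (10999, 10401), (11000, 11604), (11001, 10403), (11002, 11606), (11003, 11433), (11004, 10405), (11005, 11610), (11006, 11043), (11007, 11352)]
    ⟨e3 q10944 (flp_c L189805) q11542, e3 q10945 L184544 q10563, e3 q10946 (flp_c L186487) q11175, e3 q10947 L189839 q11546, e3 q10948 (flp_c L184568) q10357, e3 q10949 (flp_c L189861) q11549, e3 q10950 (flp_c L189557) q11519, e3 q10951 (flp_c L184588) q10359, e3 q10952 (flp_c L189890) q11553, e3 q10953 L184613 q10953, e3 q10954 L184618 q10455, e3 q10955 (flp_c L184622) q10362, e3 q10956 (flp_c L189923) q11556, e3 q10957 L184650 q10456, e3 q10958 (flp_c L184656) q10364, e3 q10959 (flp_c L189955) q11559, e3 q10960 L184682 q10691, e3 q10961 L184690 q10700, e3 q10962 L184700 q10368, e3 q10963 (flp_c L189991) q11563, e3 q10964 L184714 q10562, e3 q10965 L184730 q10561, e3 q10966 L184746 q10513, e3 q10967 L184758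 q10514, e3 q10968 L184766 q10515, e3 q10969 L184776 q10517, e3 q10970 L184784 q10518, e3 q10971 (flp_c L189571) q11520, e3 q10972 L190077 q11572, e3 q10973 (flp_c L184802) q10378, e3 q10974 (flp_c L190096) q11574, e3 q10975 (flp_c L188885) q11441, e3 q10976 L190116 q11577, e3 q10977 (flp_c L184834) q10382, e3 q10978 (flp_c L190143) q11579, e3 q10979 L184862 q10384, e3 q10980 (flp_c L190173) q11582, e3 q10981 L184878 q10503, e3 q10982 L184890 q10504, e3 q10983 L184898 q10505, e3 q10984 L184908 q10507, e3 q10985 L184916 q10508, e3 q10986 (flp_c L189611) q11523, e3 q10987 L184934 q10987, e3 q10988 L190245 q11590, e3 q10989 (flp_c L184953) q10393, e3 q10990 (flp_c L190270) q11592, e3 q10991 L184977 q10395, e3 q10992 (flp_c L190288) q11594, e3 q10993 L184997 q10993, e3 q10994 L185010 q10994, e3 q10995 L190328 q11598, e3 q10996 L190343 q11600, e3 q10997 (flp_c L185033) q10400, e3 q10998 (flp_c L190362) q11602, e3 q10999 (flp_c L185046) q10401, e3 q11000 (flp_c L190376) q11604, e3 q11001 L185064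 q10403, e3 q11002 (flp_c L190390) q11606, e3 q11003 (flp_c L188806) q11433, e3 q11004 L185080 q10405, e3 q11005 (flp_c L190410) q11610, e3 q11006 (flp_c L185414) q11043, e3 q11007 (flp_c L187999) q11352, trivial⟩ (by decide +kernel)

theorem ce_c_172 : ∀ r, r < 64 → sm gc (Qf (11008 + r)) = Qf (tab Gen.c (11008 + r)) :=
  edges_tab (sm gc) Qf (tab Gen.c) 11008 [(11008, 11384), (11009, 10409), (11010, 11614), (11011, 10410), (11012, 11616), (11013, 10412), (11014, 11619), (11015, 11353), (11016, 10415), (11017, 11622), (11018, 10417), (11019, 11624), (11020, 11530), (11021, 10425), (11022, 11237), (11023, 11405), (11024, 11425), (11025, 11025), (11026, 11026), (11027, 11382), (11028, 10437), (11029, 11630), (11030, 10481), (11031, 11402), (11032, 10509), (11033, 10519), (11034, 11634), (11035, 11636), (11036, 10445), (11037, 11638), (11038, 10446), (11039, 11640), (11040, 10448), (11041, 11642), (11042, 11447), (11043, 11006), (11044, 10798), (11045, 11531), (11046, 11056), (11047, 11535),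 (11048, 11555), (11049, 11558), (11050, 10460), (11051, 11651), (11052, 11528), (11053, 10571), (11054, 11054), (11055, 11515), (11056, 11046), (11057, 11057), (11058, 11058), (11059, 11660), (11060, 11302), (11061, 10470), (11062, 11664), (11063, 11383), (11064, 10599), (11065, 10600), (11066, 11669), (11067, 11671), (11068, 10476), (11069, 11674), (11070, 11676), (11071, 10478)]
    ⟨e3 q11008 (flp_c L188339) q11384, e3 q11009 (flp_c L185110) q10409, e3 q11010 (flp_c L190444) q11614, e3 q11011 (flp_c L185128) q10410, e3 q11012 (flp_c L190464) q11616, e3 q11013 L185154 q10412, e3 q11014 (flp_c L190496) q11619, e3 q11015 (flp_c L188009) q11353, e3 q11016 L185178 q10415, e3 q11017 (flp_c L190516) q11622, e3 q11018 L185194 q10417, e3 q11019 (flp_c L190534) q11624, e3 q11020 (flp_c L189691) q11530, e3 q11021 L185224 q10425, e3 q11022 (flp_c L186977) q11237, e3 q11023 (flp_c L188547) q11405, e3 q11024 (flp_c L188736) q11425, e3 q11025 L185266 q11025, e3 q11026 L185275 q11026, e3 q11027 (flp_c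 L188313) q11382, e3 q11028 (flp_c L185285) q10437, e3 q11029 (flp_c L190598) q11630, e3 q11030 L185311 q10481, e3 q11031 (flp_c L188512) q11402, e3 q11032 L185329 q10509, e3 q11033 L185337 q10519, e3 q11034 L190636 q11634, e3 q11035 L190653 q11636, e3 q11036 (flp_c L185367) q10445, e3 q11037 (flp_c L190684) q11638, e3 q11038 (flp_c L185380) q10446, e3 q11039 (flp_c L190698) q11640, e3 q11040 L185394 q10448, e3 q11041 (flp_c L190710) q11642, e3 q11042 (flp_c L188960) q11447, e3 q11043 L185414 q11006, e3 q11044 L185430 q10798, e3 q11045 (flp_c L189702) q11531, e3 q11046 (flp_c L185523) q11056, e3 q11047 (flp_c L189745) q11535, e3 q11048 (flp_c L189911) q11555, e3 q11049 (flp_c L189943) q11558, e3 q11050 (flp_c L185466) q10460, e3 q11051 (flp_c L190782) q11651, e3 q11052 (flp_c L189665) q11528, e3 q11053 L185500 q10571, e3 q11054 L185506 q11054, e3 q11055 (flp_c L189524) q11515, e3 q11056 L185523 q11046, e3 q11057 L185535 q11057, e3 q11058 L185548 q11058, e3 q11059 L190870 q11660, e3 q11060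 (flp_c L187440) q11302, e3 q11061 (flp_c L185573) q10470, e3 q11062 (flp_c L190907) q11664, e3 q11063 (flp_c L188323) q11383, e3 q11064 L185603 q10599, e3 q11065 L185619 q10600, e3 q11066 L190957 q11669, e3 q11067 L190973 q11671, e3 q11068 (flp_c L185641) q10476, e3 q11069 (flp_c L190993) q11674, e3 q11070 L191003 q11676, e3 q11071 (flp_c L185663) q10478, trivial⟩ (by decide +kernel)

theorem ce_c_173 : ∀ r, r < 64 → sm gc (Qf (11072 + r)) = Qf (tab Gen.c (11072 + r)) :=
  edges_tab (sm gc) Qf (tab Gen.c) 11072 [(11072, 11679), (11073, 11663), (11074, 10480), (11075, 11683), (11076, 11632), (11077, 10482), (11078, 10574), (11079, 10484), (11080, 10575), (11081, 11529), (11082, 11082), (11083, 11688), (11084, 10489), (11085, 11691), (11086, 11325), (11087, 11087), (11088, 11088), (11089, 11696), (11090, 11698), (11091, 10495), (11092, 11700), (11093, 10496), (11094, 11702), (11095, 10498), (11096, 11704), (11097, 11408), (11098, 11706), (11099, 11328), (11100, 11386), (11101, 11584), (11102,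 11585), (11103, 11586), (11104, 11329), (11105, 11587), (11106, 11588), (11107, 11715), (11108, 11356), (11109, 11566), (11110, 11567), (11111, 11568), (11112, 11569), (11113, 11358), (11114, 11570), (11115, 11571), (11116, 10576), (11117, 10578), (11118, 11726), (11119, 11728), (11120, 10524), (11121, 11731), (11122, 10525), (11123, 11733), (11124, 11518), (11125, 10527), (11126, 11736), (11127, 11351), (11128, 11738), (11129, 11368), (11130, 11395), (11131, 10532), (11132, 11742), (11133, 10533), (11134, 11744), (11135, 10550)]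
    ⟨e3 q11072 (flp_c L191031) q11679, e3 q11073 (flp_c L190903) q11663, e3 q11074 L185677 q10480, e3 q11075 (flp_c L191047) q11683, e3 q11076 (flp_c L190620) q11632, e3 q11077 (flp_c L185687) q10482, e3 q11078 L185701 q10574, e3 q11079 L185709 q10484, e3 q11080 L185717 q10575, e3 q11081 (flp_c L189677) q11529, e3 q11082 L185735 q11082, e3 q11083 L191083 q11688, e3 q11084 (flp_c L185750) q10489, e3 q11085 (flp_c L191118) q11691, e3 q11086 (flp_c L187698) q11325, e3 q11087 L185780 q11087, e3 q11088 L185795 q11088, e3 q11089 L191164 q11696, e3 q11090 L191177 q11698, e3 q11091 (flp_c L185822) q10495, e3 q11092 (flp_c L191198) q11700, e3 q11093 (flp_c L185837) q10496, e3 q11094 (flp_c L191212) q11702, e3 q11095 L185853 q10498, e3 q11096 (flp_c L191226) q11704, e3 q11097 (flp_c L188573) q11408, e3 q11098 L191240 q11706, e3 q11099 (flp_c L187740) q11328, e3 q11100 (flp_c L188363) q11386, e3 q11101 (flp_c L190187) q11584, e3 q11102 (flp_c L190195) q11585, e3 q11103 (flp_c L190207) q11586, e3 q11104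 (flp_c L187750) q11329, e3 q11105 (flp_c L190215) q11587, e3 q11106 (flp_c L190225) q11588, e3 q11107 L191302 q11715, e3 q11108 (flp_c L188047) q11356, e3 q11109 (flp_c L190023) q11566, e3 q11110 (flp_c L190031) q11567, e3 q11111 (flp_c L190039) q11568, e3 q11112 (flp_c L190051) q11569, e3 q11113 (flp_c L188067) q11358, e3 q11114 (flp_c L190059) q11570, e3 q11115 (flp_c L190069) q11571, e3 q11116 L186007 q10576, e3 q11117 L186021 q10578, e3 q11118 L191402 q11726, e3 q11119 L191418 q11728, e3 q11120 (flp_c L186047) q10524, e3 q11121 (flp_c L191450) q11731, e3 q11122 (flp_c L186067) q10525, e3 q11123 (flp_c L191470) q11733, e3 q11124 (flp_c L189551) q11518, e3 q11125 L186089 q10527, e3 q11126 (flp_c L191490) q11736, e3 q11127 (flp_c L187983) q11351, e3 q11128 L191500 q11738, e3 q11129 (flp_c L188169) q11368, e3 q11130 (flp_c L188450) q11395, e3 q11131 (flp_c L186135) q10532, e3 q11132 (flp_c L191542) q11742, e3 q11133 (flp_c L186151) q10533, e3 q11134 (flp_c L191558) q11744, e3 q11135 L186179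 q10550, trivial⟩ (by decide +kernel)

theorem ce_c_174 : ∀ r, r < 64 → sm gc (Qf (11136 + r)) = Qf (tab Gen.c (11136 + r)) :=
  edges_tab (sm gc) Qf (tab Gen.c) 11136 [(11136, 10535), (11137, 11748), (11138, 11375), (11139, 10538), (11140, 11751), (11141, 10556), (11142, 10541), (11143, 11754), (11144, 10543), (11145, 11755), (11146, 11357), (11147, 11387), (11148, 10547), (11149, 11759), (11150, 10549), (11151, 11761), (11152, 11746), (11153, 11284), (11154, 10552), (11155, 11765), (11156, 11359), (11157, 10555), (11158, 11767), (11159, 11753), (11160, 10558), (11161, 10559), (11162, 10568), (11163, 11654), (11164, 10573), (11165, 11769), (11166, 11685), (11167, 11770), (11168, 11378), (11169, 10579), (11170, 10580), (11171, 11171), (11172, 10585), (11173, 10589), (11174, 10594), (11175, 10946), (11176, 11176), (11177, 10596), (11178, 11178), (11179, 10611), (11180, 11776), (11181, 10601), (11182, 10602), (11183, 11183), (11184, 11184), (11185, 10605), (11186, 11186), (11187, 10610), (11188,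 11780), (11189, 10613), (11190, 11782), (11191, 11784), (11192, 11786), (11193, 10616), (11194, 11789), (11195, 11315), (11196, 10618), (11197, 11793), (11198, 11198), (11199, 10621)]
    ⟨e3 q11136 L186183 q10535, e3 q11137 (flp_c L191596) q11748, e3 q11138 (flp_c L188235) q11375, e3 q11139 L186205 q10538, e3 q11140 (flp_c L191618) q11751, e3 q11141 L186217 q10556, e3 q11142 L186223 q10541, e3 q11143 (flp_c L191636) q11754, e3 q11144 (flp_c L186233) q10543, e3 q11145 (flp_c L191646) q11755, e3 q11146 (flp_c L188055) q11357, e3 q11147 (flp_c L188371) q11387, e3 q11148 L186269 q10547, e3 q11149 (flp_c L191676) q11759, e3 q11150 L186283 q10549, e3 q11151 (flp_c L191692) q11761, e3 q11152 (flp_c L191576) q11746, e3 q11153 (flp_c L187302) q11284, e3 q11154 L186303 q10552, e3 q11155 (flp_c L191716) q11765, e3 q11156 (flp_c L188079) q11359, e3 q11157 L186315 q10555, e3 q11158 (flp_c L191726) q11767, e3 q11159 (flp_c L191632) q11753, e3 q11160 L186329 q10558, e3 q11161 (flp_c L186331) q10559,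 e3 q11162 L186351 q10568, e3 q11163 (flp_c L190804) q11654, e3 q11164 L186371 q10573, e3 q11165 (flp_c L191736) q11769, e3 q11166 (flp_c L191055) q11685, e3 q11167 L191743 q11770, e3 q11168 (flp_c L188257) q11378, e3 q11169 (flp_c L186421) q10579, e3 q11170 (flp_c L186431) q10580, e3 q11171 L186446 q11171, e3 q11172 (flp_c L186447) q10585, e3 q11173 L186462 q10589, e3 q11174 L186473 q10594, e3 q11175 L186487 q10946, e3 q11176 L186498 q11176, e3 q11177 L186503 q10596, e3 q11178 L186510 q11178, e3 q11179 L186522 q10611, e3 q11180 L191812 q11776, e3 q11181 (flp_c L186545) q10601, e3 q11182 (flp_c L186555) q10602, e3 q11183 L186570 q11183, e3 q11184 L186580 q11184, e3 q11185 L186585 q10605, e3 q11186 L186594 q11186, e3 q11187 (flp_c L186602) q10610, e3 q11188 L191849 q11780, e3 q11189 (flp_c L186615) q10613, e3 q11190 (flp_c L191864) q11782, e3 q11191 L191878 q11784, e3 q11192 L191895 q11786, e3 q11193 (flp_c L186650) q10616, e3 q11194 (flp_c L191929) q11789, e3 q11195 (flp_c L187573) q11315,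 e3 q11196 (flp_c L186674) q10618, e3 q11197 (flp_c L191961) q11793, e3 q11198 L186698 q11198, e3 q11199 L186701 q10621, trivial⟩ (by decide +kernel)

theorem ce_c_175 : ∀ r, r < 64 → sm gc (Qf (11200 + r)) = Qf (tab Gen.c (11200 + r)) :=
  edges_tab (sm gc) Qf (tab Gen.c) 11200 [(11200, 11796), (11201, 11798), (11202, 10623), (11203, 11801), (11204, 11455), (11205, 10625), (11206, 11804), (11207, 11341), (11208, 11806), (11209, 10629), (11210, 11809), (11211, 10642), (11212, 10631), (11213, 11813), (11214, 11812), (11215, 10633), (11216, 11817), (11217, 10886), (11218, 11819), (11219, 10636), (11220, 11821), (11221, 10637), (11222, 11824), (11223, 11808), (11224, 10639), (11225, 11829), (11226, 10641), (11227, 11831), (11228, 11690), (11229, 11811), (11230, 10644), (11231, 11835), (11232, 10648), (11233, 11233), (11234, 10651), (11235, 11235), (11236, 11236), (11237, 11022), (11238, 11238), (11239, 11458), (11240, 10659), (11241, 11842), (11242, 11242), (11243, 11844), (11244, 11846), (11245,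 10663), (11246, 11849), (11247, 11851), (11248, 10665), (11249, 11854), (11250, 11650), (11251, 10667), (11252, 11858), (11253, 11398), (11254, 10669), (11255, 10717), (11256, 10671), (11257, 10718), (11258, 11862), (11259, 11864), (11260, 10675), (11261, 11866), (11262, 10676), (11263, 11868)]
    ⟨e3 q11200 (flp_c L191982) q11796, e3 q11201 L191992 q11798, e3 q11202 (flp_c L186719) q10623, e3 q11203 (flp_c L192018) q11801, e3 q11204 (flp_c L189048) q11455, e3 q11205 L186742 q10625, e3 q11206 (flp_c L192038) q11804, e3 q11207 (flp_c L187873) q11341, e3 q11208 L192050 q11806, e3 q11209 (flp_c L186766) q10629, e3 q11210 (flp_c L192072) q11809, e3 q11211 L186783 q10642, e3 q11212 L186787 q10631, e3 q11213 (flp_c L192098) q11813, e3 q11214 (flp_c L192092) q11812, e3 q11215 L186801 q10633, e3 q11216 (flp_c L192118) q11817, e3 q11217 L186817 q10886, e3 q11218 L192132 q11819, e3 q11219 (flp_c L186829) q10636, e3 q11220 (flp_c L192152) q11821, e3 q11221 (flp_c L186845) q10637, e3 q11222 (flp_c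 L192176) q11824, e3 q11223 (flp_c L192068) q11808, e3 q11224 L186871 q10639, e3 q11225 (flp_c L192220) q11829, e3 q11226 L186887 q10641, e3 q11227 (flp_c L192236) q11831, e3 q11228 (flp_c L191112) q11690, e3 q11229 (flp_c L192088) q11811, e3 q11230 L186911 q10644, e3 q11231 (flp_c L192260) q11835, e3 q11232 (flp_c L186919) q10648, e3 q11233 L186935 q11233, e3 q11234 L186940 q10651, e3 q11235 L186951 q11235, e3 q11236 L186962 q11236, e3 q11237 L186977 q11022, e3 q11238 L186987 q11238, e3 q11239 (flp_c L189074) q11458, e3 q11240 L187001 q10659, e3 q11241 (flp_c L192324) q11842, e3 q11242 L187011 q11242, e3 q11243 L192333 q11844, e3 q11244 L192356 q11846, e3 q11245 (flp_c L187033) q10663, e3 q11246 (flp_c L192380) q11849, e3 q11247 L192390 q11851, e3 q11248 (flp_c L187054) q10665, e3 q11249 (flp_c L192426) q11854, e3 q11250 (flp_c L190776) q11650, e3 q11251 L187078 q10667, e3 q11252 (flp_c L192454) q11858, e3 q11253 (flp_c L188464) q11398, e3 q11254 (flp_c L187094) q10669, e3 q11255 L187110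 q10717, e3 q11256 L187118 q10671, e3 q11257 L187127 q10718, e3 q11258 L192487 q11862, e3 q11259 L192512 q11864, e3 q11260 (flp_c L187152) q10675, e3 q11261 (flp_c L192529) q11866, e3 q11262 (flp_c L187163) q10676, e3 q11263 (flp_c L192541) q11868, trivial⟩ (by decide +kernel)

theorem ce_c_176 : ∀ r, r < 64 → sm gc (Qf (11264 + r)) = Qf (tab Gen.c (11264 + r)) :=
  edges_tab (sm gc) Qf (tab Gen.c) 11264 [(11264, 10678), (11265, 11871), (11266, 10680), (11267, 11873), (11268, 10682), (11269, 11875), (11270, 10684), (11271, 11876), (11272, 10685), (11273, 11878), (11274, 10686), (11275, 11881), (11276, 11363), (11277, 10688), (11278, 11885), (11279, 11392), (11280, 10690), (11281, 11890), (11282, 11448), (11283, 11561), (11284, 11153), (11285, 10693), (11286, 11896), (11287, 10695), (11288, 11897), (11289, 11371), (11290, 11342), (11291, 10698), (11292, 11902), (11293, 11454), (11294, 11562), (11295, 10702), (11296, 10756), (11297, 10719), (11298, 10707), (11299, 10774), (11300, 10720), (11301,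 10721), (11302, 11060), (11303, 10722), (11304, 11853), (11305, 11860), (11306, 11906), (11307, 11910), (11308, 11912), (11309, 10725), (11310, 11914), (11311, 11916), (11312, 11918), (11313, 10728), (11314, 11921), (11315, 11195), (11316, 10730), (11317, 11925), (11318, 11318), (11319, 10819), (11320, 10733), (11321, 11928), (11322, 11930), (11323, 10735), (11324, 11932), (11325, 11086), (11326, 10738), (11327, 11935)]
    ⟨e3 q11264 L187178 q10678, e3 q11265 (flp_c L192558) q11871, e3 q11266 L187188 q10680, e3 q11267 (flp_c L192568) q11873, e3 q11268 L187200 q10682, e3 q11269 (flp_c L192582) q11875, e3 q11270 (flp_c L187210) q10684, e3 q11271 (flp_c L192590) q11876, e3 q11272 (flp_c L187224) q10685, e3 q11273 (flp_c L192604) q11878, e3 q11274 (flp_c L187238) q10686, e3 q11275 (flp_c L192628) q11881, e3 q11276 (flp_c L188119) q11363, e3 q11277 L187260 q10688, e3 q11278 (flp_c L192662) q11885, e3 q11279 (flp_c L188418) q11392, e3 q11280 L187278 q10690, e3 q11281 (flp_c L192700) q11890,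 e3 q11282 (flp_c L188978) q11448, e3 q11283 (flp_c L189973) q11561, e3 q11284 L187302 q11153, e3 q11285 L187308 q10693, e3 q11286 (flp_c L192736) q11896, e3 q11287 L187320 q10695, e3 q11288 (flp_c L192742) q11897, e3 q11289 (flp_c L188191) q11371, e3 q11290 (flp_c L187885) q11342, e3 q11291 L187336 q10698, e3 q11292 (flp_c L192776) q11902, e3 q11293 (flp_c L189028) q11454, e3 q11294 (flp_c L189983) q11562, e3 q11295 L187354 q10702, e3 q11296 L187362 q10756, e3 q11297 L187379 q10719, e3 q11298 L187391 q10707, e3 q11299 L187410 q10774, e3 q11300 L187416 q10720, e3 q11301 L187427 q10721, e3 q11302 L187440 q11060, e3 q11303 L187446 q10722, e3 q11304 (flp_c L192422) q11853, e3 q11305 (flp_c L192466) q11860, e3 q11306 (flp_c L192806) q11906, e3 q11307 L192834 q11910, e3 q11308 L192863 q11912, e3 q11309 (flp_c L187508) q10725, e3 q11310 (flp_c L192894) q11914, e3 q11311 L192906 q11916, e3 q11312 L192933 q11918, e3 q11313 (flp_c L187549) q10728, e3 q11314 (flp_c L192971) q11921, e3 q11315 L187573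 q11195, e3 q11316 (flp_c L187579) q10730, e3 q11317 (flp_c L193013) q11925, e3 q11318 L187613 q11318, e3 q11319 L187620 q10819, e3 q11320 (flp_c L187628) q10733, e3 q11321 (flp_c L193056) q11928, e3 q11322 L193076 q11930, e3 q11323 (flp_c L187668) q10735, e3 q11324 (flp_c L193111) q11932, e3 q11325 L187698 q11086, e3 q11326 (flp_c L187702) q10738, e3 q11327 (flp_c L193147) q11935, trivial⟩ (by decide +kernel)

theorem ce_c_177 : ∀ r, r < 64 → sm gc (Qf (11328 + r)) = Qf (tab Gen.c (11328 + r)) :=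
  edges_tab (sm gc) Qf (tab Gen.c) 11328 [(11328, 11099), (11329, 11104), (11330, 10742), (11331, 11940), (11332, 11942), (11333, 11944), (11334, 10745), (11335, 11947), (11336, 10746), (11337, 11949), (11338, 10868), (11339, 10748), (11340, 11952), (11341, 11207), (11342, 11290), (11343, 10753), (11344, 11955), (11345, 10871), (11346, 11901), (11347, 10758), (11348, 11959), (11349, 10760), (11350, 11961), (11351, 11127), (11352, 11007), (11353, 11015), (11354, 10765), (11355, 11965), (11356, 11108), (11357, 11146), (11358, 11113), (11359, 11156), (11360, 10896), (11361, 10771), (11362, 11973), (11363, 11276), (11364, 11905), (11365, 11884), (11366, 10775), (11367, 11977), (11368, 11129), (11369, 10777), (11370, 11981), (11371, 11289), (11372, 10780), (11373, 11984), (11374, 10823), (11375, 11138), (11376, 10783), (11377, 11988), (11378, 11168), (11379, 10834), (11380, 10887), (11381, 10801), (11382, 11027), (11383, 11063), (11384, 11008), (11385, 11645), (11386, 11100), (11387, 11147),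 (11388, 11990), (11389, 11998), (11390, 10803), (11391, 12001)]
    ⟨e3 q11328 L187740 q11099, e3 q11329 L187750 q11104, e3 q11330 L187762 q10742, e3 q11331 (flp_c L193215) q11940, e3 q11332 L193229 q11942, e3 q11333 L193252 q11944, e3 q11334 (flp_c L187798) q10745, e3 q11335 (flp_c L193294) q11947, e3 q11336 (flp_c L187811) q10746, e3 q11337 (flp_c L193310) q11949, e3 q11338 L187847 q10868, e3 q11339 L187855 q10748, e3 q11340 (flp_c L193348) q11952, e3 q11341 L187873 q11207, e3 q11342 L187885 q11290, e3 q11343 (flp_c L187893) q10753, e3 q11344 (flp_c L193382) q11955, e3 q11345 L187923 q10871, e3 q11346 (flp_c L192764) q11901, e3 q11347 L187945 q10758, e3 q11348 (flp_c L193430) q11959, e3 q11349 L187963 q10760, e3 q11350 (flp_c L193450) q11961, e3 q11351 L187983 q11127, e3 q11352 L187999 q11007, e3 q11353 L188009 q11015, e3 q11354 L188023 q10765, e3 q11355 (flp_c L193504) q11965, e3 q11356 L188047 q11108, e3 q11357 L188055 q11146, e3 q11358 L188067 q11113, e3 q11359 L188079 q11156, e3 q11360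 L188091 q10896, e3 q11361 L188099 q10771, e3 q11362 (flp_c L193592) q11973, e3 q11363 L188119 q11276, e3 q11364 (flp_c L192800) q11905, e3 q11365 (flp_c L192654) q11884, e3 q11366 (flp_c L188139) q10775, e3 q11367 (flp_c L193630) q11977, e3 q11368 L188169 q11129, e3 q11369 L188175 q10777, e3 q11370 (flp_c L193674) q11981, e3 q11371 L188191 q11289, e3 q11372 L188205 q10780, e3 q11373 (flp_c L193704) q11984, e3 q11374 L188219 q10823, e3 q11375 L188235 q11138, e3 q11376 L188245 q10783, e3 q11377 (flp_c L193744) q11988, e3 q11378 L188257 q11168, e3 q11379 L188279 q10834, e3 q11380 L188287 q10887, e3 q11381 L188299 q10801, e3 q11382 L188313 q11027, e3 q11383 L188323 q11063, e3 q11384 L188339 q11008, e3 q11385 (flp_c L190732) q11645, e3 q11386 L188363 q11100, e3 q11387 L188371 q11147, e3 q11388 (flp_c L193765) q11990, e3 q11389 L193855 q11998, e3 q11390 (flp_c L188399) q10803, e3 q11391 (flp_c L193895) q12001, trivial⟩ (by decide +kernel)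

theorem ce_c_178 : ∀ r, r < 64 → sm gc (Qf (11392 + r)) = Qf (tab Gen.c (11392 + r)) :=
  edges_tab (sm gc) Qf (tab Gen.c) 11392 [(11392, 11279), (11393, 10805), (11394, 12004), (11395, 11130), (11396, 10807), (11397, 12008), (11398, 11253), (11399, 10810), (11400, 10921), (11401, 10826), (11402, 11031), (11403, 10814), (11404, 12014), (11405, 11023), (11406, 10816), (11407, 12017), (11408, 11097), (11409, 11927), (11410, 11979), (11411, 12021), (11412, 10822), (11413, 12023), (11414, 11986), (11415, 10825), (11416, 12026), (11417, 12011), (11418, 12028), (11419, 11989), (11420, 12031), (11421, 10830), (11422, 12034), (11423, 10831), (11424, 12037), (11425, 11024), (11426, 10833), (11427, 12042), (11428, 11939), (11429, 10900), (11430, 10836), (11431, 12046), (11432, 10897), (11433, 11003), (11434, 10839), (11435, 12050), (11436, 10843), (11437, 12051), (11438, 10845), (11439, 12053), (11440, 10885), (11441, 10975), (11442, 10848), (11443, 12057), (11444, 10859), (11445, 10850), (11446,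 12060), (11447, 11042), (11448, 11282), (11449, 10853), (11450, 12064), (11451, 12056), (11452, 10855), (11453, 12068), (11454, 11293), (11455, 11204)]
    ⟨e3 q11392 L188418 q11279, e3 q11393 (flp_c L188422) q10805, e3 q11394 (flp_c L193923) q12004, e3 q11395 L188450 q11130, e3 q11396 L188454 q10807, e3 q11397 (flp_c L193961) q12008, e3 q11398 L188464 q11253, e3 q11399 L188474 q10810, e3 q11400 L188485 q10921, e3 q11401 L188498 q10826, e3 q11402 L188512 q11031, e3 q11403 (flp_c L188520) q10814, e3 q11404 (flp_c L194026) q12014, e3 q11405 L188547 q11023, e3 q11406 L188553 q10816, e3 q11407 (flp_c L194056) q12017, e3 q11408 L188573 q11097, e3 q11409 (flp_c L193042) q11927, e3 q11410 (flp_c L193648) q11979, e3 q11411 L194098 q12021, e3 q11412 (flp_c L188613) q10822, e3 q11413 (flp_c L194132) q12023, e3 q11414 (flp_c L193722) q11986, e3 q11415 L188653 q10825, e3 q11416 (flp_c L194166) q12026, e3 q11417 (flp_c L193985) q12011, e3 q11418 L194184 q12028, e3 q11419 (flp_c L193754) q11989, e3 q11420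 L194209 q12031, e3 q11421 (flp_c L188707) q10830, e3 q11422 (flp_c L194245) q12034, e3 q11423 (flp_c L188718) q10831, e3 q11424 (flp_c L194266) q12037, e3 q11425 L188736 q11024, e3 q11426 L188740 q10833, e3 q11427 (flp_c L194306) q12042, e3 q11428 (flp_c L193207) q11939, e3 q11429 L188772 q10900, e3 q11430 L188776 q10836, e3 q11431 (flp_c L194342) q12046, e3 q11432 L188790 q10897, e3 q11433 L188806 q11003, e3 q11434 L188814 q10839, e3 q11435 (flp_c L194382) q12050, e3 q11436 (flp_c L188826) q10843, e3 q11437 (flp_c L194392) q12051, e3 q11438 L188853 q10845, e3 q11439 (flp_c L194414) q12053, e3 q11440 L188875 q10885, e3 q11441 L188885 q10975, e3 q11442 (flp_c L188895) q10848, e3 q11443 (flp_c L194467) q12057, e3 q11444 L188930 q10859, e3 q11445 L188936 q10850, e3 q11446 (flp_c L194503) q12060, e3 q11447 L188960 q11042, e3 q11448 L188978 q11282, e3 q11449 (flp_c L188982) q10853, e3 q11450 (flp_c L194555) q12064, e3 q11451 (flp_c L194461) q12056, e3 q11452 L189012 q10855, e3 q11453 (flp_c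 L194595) q12068, e3 q11454 L189028 q11293, e3 q11455 L189048 q11204, trivial⟩ (by decide +kernel)

theorem ce_c_179 : ∀ r, r < 64 → sm gc (Qf (11456 + r)) = Qf (tab Gen.c (11456 + r)) :=
  edges_tab (sm gc) Qf (tab Gen.c) 11456 [(11456, 10858), (11457, 12073), (11458, 11239), (11459, 12059), (11460, 10861), (11461, 12076), (11462, 11946), (11463, 12078), (11464, 10867), (11465, 12080), (11466, 11951), (11467, 10870), (11468, 12083), (11469, 11957), (11470, 12085), (11471, 12087), (11472, 12089), (11473, 10875), (11474, 12091), (11475, 10876), (11476, 12094), (11477, 10893), (11478, 10878), (11479, 12098), (11480, 10879), (11481, 12100), (11482, 10881), (11483, 12103), (11484, 10901), (11485, 10884), (11486, 12106), (11487, 11818), (11488, 11972), (11489, 10888), (11490, 12110), (11491, 12039), (11492, 10890), (11493, 12113), (11494, 12093), (11495, 10892), (11496, 12118), (11497, 12033), (11498, 12096), (11499, 11534), (11500, 10895), (11501, 12124), (11502, 11971), (11503, 12048), (11504,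 10899), (11505, 12127), (11506, 12045), (11507, 12105), (11508, 10903), (11509, 11509), (11510, 10905), (11511, 11511), (11512, 11512), (11513, 11513), (11514, 11514), (11515, 11055), (11516, 11516), (11517, 12135), (11518, 11124), (11519, 10950)]
    ⟨e3 q11456 L189054 q10858, e3 q11457 (flp_c L194651) q12073, e3 q11458 L189074 q11239, e3 q11459 (flp_c L194491) q12059, e3 q11460 L189096 q10861, e3 q11461 (flp_c L194677) q12076, e3 q11462 (flp_c L193286) q11946, e3 q11463 L194693 q12078, e3 q11464 (flp_c L189130) q10867, e3 q11465 (flp_c L194722) q12080, e3 q11466 (flp_c L193336) q11951, e3 q11467 L189163 q10870, e3 q11468 (flp_c L194750) q12083, e3 q11469 (flp_c L193406) q11957, e3 q11470 L194764 q12085, e3 q11471 L194787 q12087, e3 q11472 L194810 q12089, e3 q11473 (flp_c L189215) q10875, e3 q11474 (flp_c L194831) q12091, e3 q11475 (flp_c L189228) q10876, e3 q11476 (flp_c L194854) q12094, e3 q11477 L189244 q10893, e3 q11478 L189248 q10878, e3 q11479 (flp_c L194877) q12098, e3 q11480 (flp_c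 L189258) q10879, e3 q11481 (flp_c L194893) q12100, e3 q11482 L189286 q10881, e3 q11483 (flp_c L194929) q12103, e3 q11484 L189300 q10901, e3 q11485 L189308 q10884, e3 q11486 (flp_c L194953) q12106, e3 q11487 (flp_c L192126) q11818, e3 q11488 (flp_c L193582) q11972, e3 q11489 (flp_c L189328) q10888, e3 q11490 (flp_c L194979) q12110, e3 q11491 (flp_c L194280) q12039, e3 q11492 L189354 q10890, e3 q11493 (flp_c L195001) q12113, e3 q11494 (flp_c L194850) q12093, e3 q11495 L189372 q10892, e3 q11496 (flp_c L195041) q12118, e3 q11497 (flp_c L194241) q12033, e3 q11498 (flp_c L194868) q12096, e3 q11499 (flp_c L189733) q11534, e3 q11500 L189402 q10895, e3 q11501 (flp_c L195077) q12124, e3 q11502 (flp_c L193570) q11971, e3 q11503 (flp_c L194362) q12048, e3 q11504 L189426 q10899, e3 q11505 (flp_c L195099) q12127, e3 q11506 (flp_c L194332) q12045, e3 q11507 (flp_c L194945) q12105, e3 q11508 L189450 q10903, e3 q11509 L189464 q11509, e3 q11510 L189469 q10905, e3 q11511 L189477 q11511, e3 q11512 L189495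 q11512, e3 q11513 L189500 q11513, e3 q11514 L189510 q11514, e3 q11515 L189524 q11055, e3 q11516 L189530 q11516, e3 q11517 L195160 q12135, e3 q11518 L189551 q11124, e3 q11519 L189557 q10950, trivial⟩ (by decide +kernel)

theorem ce_c_180 : ∀ r, r < 64 → sm gc (Qf (11520 + r)) = Qf (tab Gen.c (11520 + r)) :=
  edges_tab (sm gc) Qf (tab Gen.c) 11520 [(11520, 10971), (11521, 10925), (11522, 12138), (11523, 10986), (11524, 10928), (11525, 12140), (11526, 10930), (11527, 12142), (11528, 11052), (11529, 11081), (11530, 11020), (11531, 11045), (11532, 10936), (11533, 12145), (11534, 11499), (11535, 11047), (11536, 12149), (11537, 10940), (11538, 12151), (11539, 12153), (11540, 10942), (11541, 12156), (11542, 10944), (11543, 12159), (11544, 11772), (11545, 11747), (11546, 10947), (11547, 12164), (11548, 12155), (11549, 10949), (11550, 12168), (11551, 12137), (11552, 11552), (11553, 10952), (11554, 11554), (11555, 11048), (11556, 10956), (11557, 12174), (11558, 11049), (11559, 10959), (11560, 12176),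 (11561, 11283), (11562, 11294), (11563, 10963), (11564, 12180), (11565, 11880), (11566, 11109), (11567, 11110), (11568, 11111), (11569, 11112), (11570, 11114), (11571, 11115), (11572, 10972), (11573, 12187), (11574, 10974), (11575, 12189), (11576, 12055), (11577, 10976), (11578, 12191), (11579, 10978), (11580, 12193), (11581, 12016), (11582, 10980), (11583, 12197)]
    ⟨e3 q11520 L189571 q10971, e3 q11521 L189587 q10925, e3 q11522 (flp_c L195204) q12138, e3 q11523 L189611 q10986, e3 q11524 L189625 q10928, e3 q11525 (flp_c L195228) q12140, e3 q11526 L189647 q10930, e3 q11527 (flp_c L195250) q12142, e3 q11528 L189665 q11052, e3 q11529 L189677 q11081, e3 q11530 L189691 q11020, e3 q11531 L189702 q11045, e3 q11532 (flp_c L189708) q10936, e3 q11533 (flp_c L195288) q12145, e3 q11534 L189733 q11499, e3 q11535 L189745 q11047, e3 q11536 L195322 q12149, e3 q11537 (flp_c L189761) q10940, e3 q11538 (flp_c L195349) q12151, e3 q11539 L195367 q12153, e3 q11540 (flp_c L189794) q10942, e3 q11541 (flp_c L195401)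 q12156, e3 q11542 L189805 q10944, e3 q11543 (flp_c L195414) q12159, e3 q11544 (flp_c L191774) q11772, e3 q11545 (flp_c L191588) q11747, e3 q11546 (flp_c L189839) q10947, e3 q11547 (flp_c L195458) q12164, e3 q11548 (flp_c L195397) q12155, e3 q11549 L189861 q10949, e3 q11550 (flp_c L195488) q12168, e3 q11551 (flp_c L195186) q12137, e3 q11552 L189885 q11552, e3 q11553 L189890 q10952, e3 q11554 L189898 q11554, e3 q11555 L189911 q11048, e3 q11556 L189923 q10956, e3 q11557 (flp_c L195544) q12174, e3 q11558 L189943 q11049, e3 q11559 L189955 q10959, e3 q11560 (flp_c L195564) q12176, e3 q11561 L189973 q11283, e3 q11562 L189983 q11294, e3 q11563 L189991 q10963, e3 q11564 (flp_c L195600) q12180, e3 q11565 (flp_c L192622) q11880, e3 q11566 L190023 q11109, e3 q11567 L190031 q11110, e3 q11568 L190039 q11111, e3 q11569 L190051 q11112, e3 q11570 L190059 q11114, e3 q11571 L190069 q11115, e3 q11572 (flp_c L190077) q10972, e3 q11573 (flp_c L195674) q12187, e3 q11574 L190096 q10974, e3 q11575 (flp_c L195690)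 q12189, e3 q11576 (flp_c L194438) q12055, e3 q11577 (flp_c L190116) q10976, e3 q11578 (flp_c L195708) q12191, e3 q11579 L190143 q10978, e3 q11580 (flp_c L195728) q12193, e3 q11581 (flp_c L194046) q12016, e3 q11582 L190173 q10980, e3 q11583 (flp_c L195770) q12197, trivial⟩ (by decide +kernel)

theorem ce_c_181 : ∀ r, r < 64 → sm gc (Qf (11584 + r)) = Qf (tab Gen.c (11584 + r)) :=
  edges_tab (sm gc) Qf (tab Gen.c) 11584 [(11584, 11101), (11585, 11102), (11586, 11103), (11587, 11105), (11588, 11106), (11589, 12202), (11590, 10988), (11591, 12204), (11592, 10990), (11593, 12206), (11594, 10992), (11595, 12208), (11596, 12209), (11597, 12211), (11598, 10995), (11599, 12213), (11600, 10996), (11601, 12215), (11602, 10998), (11603, 12218), (11604, 11000), (11605, 12220), (11606, 11002), (11607, 12222), (11608, 12049), (11609, 12040), (11610, 11005), (11611, 11644), (11612, 11963), (11613, 11993), (11614, 11010), (11615, 12229), (11616, 11012), (11617, 12232), (11618, 11828), (11619, 11014), (11620,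 12235), (11621, 11964), (11622, 11017), (11623, 12237), (11624, 11019), (11625, 11838), (11626, 12013), (11627, 12036), (11628, 11628), (11629, 11991), (11630, 11029), (11631, 12240), (11632, 11076), (11633, 12012), (11634, 11034), (11635, 12242), (11636, 11035), (11637, 12244), (11638, 11037), (11639, 12247), (11640, 11039), (11641, 12249), (11642, 11041), (11643, 12251), (11644, 11611), (11645, 11385), (11646, 12144), (11647, 11657)]
    ⟨e3 q11584 L190187 q11101, e3 q11585 L190195 q11102, e3 q11586 L190207 q11103, e3 q11587 L190215 q11105, e3 q11588 L190225 q11106, e3 q11589 L195814 q12202, e3 q11590 (flp_c L190245) q10988, e3 q11591 (flp_c L195843) q12204, e3 q11592 L190270 q10990, e3 q11593 (flp_c L195863) q12206, e3 q11594 L190288 q10992, e3 q11595 (flp_c L195881) q12208, e3 q11596 L195887 q12209, e3 q11597 L195912 q12211, e3 q11598 (flp_c L190328) q10995, e3 q11599 (flp_c L195945) q12213, e3 q11600 (flp_c L190343) q10996, e3 q11601 (flp_c L195961) q12215, e3 q11602 L190362 q10998,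 e3 q11603 (flp_c L195982) q12218, e3 q11604 L190376 q11000, e3 q11605 (flp_c L195996) q12220, e3 q11606 L190390 q11002, e3 q11607 (flp_c L196012) q12222, e3 q11608 (flp_c L194374) q12049, e3 q11609 (flp_c L194295) q12040, e3 q11610 L190410 q11005, e3 q11611 (flp_c L190720) q11644, e3 q11612 (flp_c L193474) q11963, e3 q11613 (flp_c L193801) q11993, e3 q11614 L190444 q11010, e3 q11615 (flp_c L196058) q12229, e3 q11616 L190464 q11012, e3 q11617 (flp_c L196092) q12232, e3 q11618 (flp_c L192210) q11828, e3 q11619 L190496 q11014, e3 q11620 (flp_c L196122) q12235, e3 q11621 (flp_c L193490) q11964, e3 q11622 L190516 q11017, e3 q11623 (flp_c L196140) q12237, e3 q11624 L190534 q11019, e3 q11625 (flp_c L192294) q11838, e3 q11626 (flp_c L194020) q12013, e3 q11627 (flp_c L194262) q12036, e3 q11628 L190576 q11628, e3 q11629 (flp_c L193779) q11991, e3 q11630 L190598 q11029, e3 q11631 (flp_c L196172) q12240, e3 q11632 L190620 q11076, e3 q11633 (flp_c L194001) q12012, e3 q11634 (flp_c L190636) q11034, e3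 q11635 (flp_c L196194) q12242, e3 q11636 (flp_c L190653) q11035, e3 q11637 (flp_c L196216) q12244, e3 q11638 L190684 q11037, e3 q11639 (flp_c L196245) q12247, e3 q11640 L190698 q11039, e3 q11641 (flp_c L196259) q12249, e3 q11642 L190710 q11041, e3 q11643 (flp_c L196273) q12251, e3 q11644 L190720 q11611, e3 q11645 L190732 q11385, e3 q11646 (flp_c L195274) q12144, e3 q11647 (flp_c L190838) q11657, trivial⟩ (by decide +kernel)

theorem ce_c_182 : ∀ r, r < 64 → sm gc (Qf (11648 + r)) = Qf (tab Gen.c (11648 + r)) :=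
  edges_tab (sm gc) Qf (tab Gen.c) 11648 [(11648, 12148), (11649, 12173), (11650, 11250), (11651, 11051), (11652, 12258), (11653, 12143), (11654, 11163), (11655, 12133), (11656, 12117), (11657, 11647), (11658, 11908), (11659, 12264), (11660, 11059), (11661, 12267), (11662, 11889), (11663, 11073), (11664, 11062), (11665, 12272), (11666, 11992), (11667, 11887), (11668, 12275), (11669, 11066), (11670, 12278), (11671, 11067), (11672, 12281), (11673, 12266), (11674, 11069), (11675, 12285), (11676, 11070), (11677, 12287), (11678, 11907), (11679, 11072), (11680, 12292), (11681, 12270), (11682, 12271), (11683, 11075), (11684, 12296), (11685, 11166), (11686, 12010), (11687, 12297), (11688, 11083), (11689, 12300), (11690, 11228), (11691, 11085), (11692, 12303), (11693, 11934), (11694, 12305), (11695, 12000), (11696, 11089), (11697, 12308), (11698, 11090), (11699, 12310), (11700, 11092), (11701, 12313), (11702, 11094), (11703, 12315), (11704, 11096), (11705, 12317), (11706, 11098), (11707, 12318),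 (11708, 11937), (11709, 11995), (11710, 12198), (11711, 12199)]
    ⟨e3 q11648 (flp_c L195316) q12148, e3 q11649 (flp_c L195532) q12173, e3 q11650 L190776 q11250, e3 q11651 L190782 q11051, e3 q11652 (flp_c L196343) q12258, e3 q11653 (flp_c L195260) q12143, e3 q11654 L190804 q11163, e3 q11655 (flp_c L195147) q12133, e3 q11656 (flp_c L195035) q12117, e3 q11657 L190838 q11647, e3 q11658 (flp_c L192825) q11908, e3 q11659 L196397 q12264, e3 q11660 (flp_c L190870) q11059, e3 q11661 (flp_c L196435) q12267, e3 q11662 (flp_c L192694) q11889, e3 q11663 L190903 q11073, e3 q11664 L190907 q11062, e3 q11665 (flp_c L196481) q12272, e3 q11666 (flp_c L193789) q11992, e3 q11667 (flp_c L192676) q11887, e3 q11668 L196507 q12275, e3 q11669 (flp_c L190957) q11066, e3 q11670 (flp_c L196547) q12278, e3 q11671 (flp_c L190973) q11067, e3 q11672 (flp_c L196567) q12281, e3 q11673 (flp_c L196431) q12266, e3 q11674 L190993 q11069, e3 q11675 (flp_c L196593) q12285, e3 q11676 (flp_c L191003) q11070, e3 q11677 (flp_c L196607)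 q12287, e3 q11678 (flp_c L192821) q11907, e3 q11679 L191031 q11072, e3 q11680 (flp_c L196645) q12292, e3 q11681 (flp_c L196461) q12270, e3 q11682 (flp_c L196473) q12271, e3 q11683 L191047 q11075, e3 q11684 (flp_c L196663) q12296, e3 q11685 L191055 q11166, e3 q11686 (flp_c L193979) q12010, e3 q11687 L196665 q12297, e3 q11688 (flp_c L191083) q11083, e3 q11689 (flp_c L196707) q12300, e3 q11690 L191112 q11228, e3 q11691 L191118 q11085, e3 q11692 (flp_c L196737) q12303, e3 q11693 (flp_c L193135) q11934, e3 q11694 L196751 q12305, e3 q11695 (flp_c L193891) q12000, e3 q11696 (flp_c L191164) q11089, e3 q11697 (flp_c L196790) q12308, e3 q11698 (flp_c L191177) q11090, e3 q11699 (flp_c L196804) q12310, e3 q11700 L191198 q11092, e3 q11701 (flp_c L196827) q12313, e3 q11702 L191212 q11094, e3 q11703 (flp_c L196841) q12315, e3 q11704 L191226 q11096, e3 q11705 (flp_c L196857) q12317, e3 q11706 (flp_c L191240) q11098, e3 q11707 (flp_c L196865) q12318, e3 q11708 (flp_c L193173) q11937, e3 q11709 (flp_c L193825)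 q11995, e3 q11710 (flp_c L195778) q12198, e3 q11711 (flp_c L195788) q12199, trivial⟩ (by decide +kernel)

theorem ce_c_183 : ∀ r, r < 64 → sm gc (Qf (11712 + r)) = Qf (tab Gen.c (11712 + r)) :=
  edges_tab (sm gc) Qf (tab Gen.c) 11712 [(11712, 12200), (11713, 11938), (11714, 12201), (11715, 11107), (11716, 12325), (11717, 11967), (11718, 12182), (11719, 12183), (11720, 12184), (11721, 12185), (11722, 11969), (11723, 12186), (11724, 12332), (11725, 12006), (11726, 11118), (11727, 12335), (11728, 11119), (11729, 12338), (11730, 12136), (11731, 11121), (11732, 12341), (11733, 11123), (11734, 12343), (11735, 12102), (11736, 11126), (11737, 12346), (11738, 11128), (11739, 12347), (11740, 11980), (11741, 12007), (11742, 11132), (11743, 12351), (11744, 11134), (11745, 12354), (11746, 11152), (11747, 11545), (11748, 11137), (11749, 12359), (11750, 11987), (11751, 11140), (11752, 12361), (11753, 11159), (11754, 11143), (11755, 11145), (11756, 12363), (11757, 11968), (11758, 11996), (11759, 11149),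 (11760, 12367), (11761, 11151), (11762, 12368), (11763, 12357), (11764, 11895), (11765, 11155), (11766, 11970), (11767, 11158), (11768, 12362), (11769, 11165), (11770, 11167), (11771, 11771), (11772, 11544), (11773, 11861), (11774, 11774), (11775, 11775)]
    ⟨e3 q11712 (flp_c L195798) q12200, e3 q11713 (flp_c L193189) q11938, e3 q11714 (flp_c L195808) q12201, e3 q11715 (flp_c L191302) q11107, e3 q11716 (flp_c L196915) q12325, e3 q11717 (flp_c L193524) q11967, e3 q11718 (flp_c L195620) q12182, e3 q11719 (flp_c L195634) q12183, e3 q11720 (flp_c L195644) q12184, e3 q11721 (flp_c L195654) q12185, e3 q11722 (flp_c L193546) q11969, e3 q11723 (flp_c L195664) q12186, e3 q11724 L196975 q12332, e3 q11725 (flp_c L193941) q12006, e3 q11726 (flp_c L191402) q11118, e3 q11727 (flp_c L197021) q12335, e3 q11728 (flp_c L191418) q11119, e3 q11729 (flp_c L197047) q12338, e3 q11730 (flp_c L195175) q12136, e3 q11731 L191450 q11121, e3 q11732 (flp_c L197077) q12341, e3 q11733 L191470 q11123, e3 q11734 (flp_c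 L197097) q12343, e3 q11735 (flp_c L194923) q12102, e3 q11736 L191490 q11126, e3 q11737 (flp_c L197117) q12346, e3 q11738 (flp_c L191500) q11128, e3 q11739 (flp_c L197125) q12347, e3 q11740 (flp_c L193664) q11980, e3 q11741 (flp_c L193953) q12007, e3 q11742 L191542 q11132, e3 q11743 (flp_c L197165) q12351, e3 q11744 L191558 q11134, e3 q11745 (flp_c L197195) q12354, e3 q11746 L191576 q11152, e3 q11747 L191588 q11545, e3 q11748 L191596 q11137, e3 q11749 (flp_c L197241) q12359, e3 q11750 (flp_c L193734) q11987, e3 q11751 L191618 q11140, e3 q11752 (flp_c L197257) q12361, e3 q11753 L191632 q11159, e3 q11754 L191636 q11143, e3 q11755 L191646 q11145, e3 q11756 (flp_c L197275) q12363, e3 q11757 (flp_c L193536) q11968, e3 q11758 (flp_c L193839) q11996, e3 q11759 L191676 q11149, e3 q11760 (flp_c L197307) q12367, e3 q11761 L191692 q11151, e3 q11762 (flp_c L197317) q12368, e3 q11763 (flp_c L197223) q12357, e3 q11764 (flp_c L192730) q11895, e3 q11765 L191716 q11155, e3 q11766 (flp_c L193558) q11970,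 e3 q11767 L191726 q11158, e3 q11768 (flp_c L197265) q12362, e3 q11769 L191736 q11165, e3 q11770 (flp_c L191743) q11167, e3 q11771 L191765 q11771, e3 q11772 L191774 q11544, e3 q11773 (flp_c L192485) q11861, e3 q11774 L191788 q11774, e3 q11775 L191804 q11775, trivial⟩ (by decide +kernel)

theorem ce_c_184 : ∀ r, r < 64 → sm gc (Qf (11776 + r)) = Qf (tab Gen.c (11776 + r)) :=
  edges_tab (sm gc) Qf (tab Gen.c) 11776 [(11776, 11180), (11777, 11777), (11778, 11778), (11779, 11779), (11780, 11188), (11781, 12374), (11782, 11190), (11783, 12377), (11784, 11191), (11785, 12380), (11786, 11192), (11787, 12383), (11788, 12373), (11789, 11194), (11790, 12387), (11791, 11923), (11792, 11792), (11793, 11197), (11794, 11794), (11795, 12072), (11796, 11200), (11797, 12394), (11798, 11201), (11799, 12396), (11800, 12063), (11801, 11203), (11802, 12400), (11803, 12071), (11804, 11206), (11805, 12403), (11806, 11208), (11807, 12405), (11808, 11223), (11809, 11210), (11810, 12409), (11811, 11229), (11812,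 11214), (11813, 11213), (11814, 12414), (11815, 12412), (11816, 12413), (11817, 11216), (11818, 11487), (11819, 11218), (11820, 12420), (11821, 11220), (11822, 12422), (11823, 12404), (11824, 11222), (11825, 12427), (11826, 12299), (11827, 12407), (11828, 11618), (11829, 11225), (11830, 12433), (11831, 11227), (11832, 12434), (11833, 12302), (11834, 12411), (11835, 11231), (11836, 11836), (11837, 11837), (11838, 11625), (11839, 11839)]
    ⟨e3 q11776 (flp_c L191812) q11180, e3 q11777 L191831 q11777, e3 q11778 L191839 q11778, e3 q11779 L191842 q11779, e3 q11780 (flp_c L191849) q11188, e3 q11781 (flp_c L197364) q12374, e3 q11782 L191864 q11190, e3 q11783 (flp_c L197383) q12377, e3 q11784 (flp_c L191878) q11191, e3 q11785 (flp_c L197408) q12380, e3 q11786 (flp_c L191895) q11192, e3 q11787 (flp_c L197438) q12383, e3 q11788 (flp_c L197360) q12373, e3 q11789 L191929 q11194, e3 q11790 (flp_c L197476) q12387, e3 q11791 (flp_c L192991) q11923, e3 q11792 L191956 q11792, e3 q11793 L191961 q11197,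 e3 q11794 L191968 q11794, e3 q11795 (flp_c L194643) q12072, e3 q11796 L191982 q11200, e3 q11797 (flp_c L197534) q12394, e3 q11798 (flp_c L191992) q11201, e3 q11799 (flp_c L197549) q12396, e3 q11800 (flp_c L194549) q12063, e3 q11801 L192018 q11203, e3 q11802 (flp_c L197578) q12400, e3 q11803 (flp_c L194625) q12071, e3 q11804 L192038 q11206, e3 q11805 (flp_c L197598) q12403, e3 q11806 (flp_c L192050) q11208, e3 q11807 (flp_c L197611) q12405, e3 q11808 L192068 q11223, e3 q11809 L192072 q11210, e3 q11810 (flp_c L197638) q12409, e3 q11811 L192088 q11229, e3 q11812 L192092 q11214, e3 q11813 L192098 q11213, e3 q11814 (flp_c L197670) q12414, e3 q11815 (flp_c L197658) q12412, e3 q11816 (flp_c L197664) q12413, e3 q11817 L192118 q11216, e3 q11818 L192126 q11487, e3 q11819 (flp_c L192132) q11218, e3 q11820 (flp_c L197714) q12420, e3 q11821 L192152 q11220, e3 q11822 (flp_c L197732) q12422, e3 q11823 (flp_c L197607) q12404, e3 q11824 L192176 q11222, e3 q11825 (flp_c L197780) q12427, e3 q11826 (flp_c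 L196701) q12299, e3 q11827 (flp_c L197627) q12407, e3 q11828 L192210 q11618, e3 q11829 L192220 q11225, e3 q11830 (flp_c L197832) q12433, e3 q11831 L192236 q11227, e3 q11832 (flp_c L197840) q12434, e3 q11833 (flp_c L196725) q12302, e3 q11834 (flp_c L197654) q12411, e3 q11835 L192260 q11231, e3 q11836 L192264 q11836, e3 q11837 L192276 q11837, e3 q11838 L192294 q11625, e3 q11839 L192302 q11839, trivial⟩ (by decide +kernel)

theorem ce_c_185 : ∀ r, r < 64 → sm gc (Qf (11840 + r)) = Qf (tab Gen.c (11840 + r)) :=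
  edges_tab (sm gc) Qf (tab Gen.c) 11840 [(11840, 11848), (11841, 12066), (11842, 11241), (11843, 12440), (11844, 11243), (11845, 12441), (11846, 11244), (11847, 12444), (11848, 11840), (11849, 11246), (11850, 12449), (11851, 11247), (11852, 12451), (11853, 11304), (11854, 11249), (11855, 12456), (11856, 12256), (11857, 12257), (11858, 11252), (11859, 12460), (11860, 11305), (11861, 11773), (11862, 11258), (11863, 12461), (11864, 11259), (11865, 12463), (11866, 11261), (11867, 12466), (11868, 11263), (11869, 12469), (11870, 12448), (11871, 11265), (11872, 12472), (11873, 11267), (11874, 12473), (11875, 11269), (11876, 11271), (11877, 12474), (11878, 11273), (11879, 12476), (11880, 11565), (11881, 11275), (11882, 12480), (11883, 11974), (11884, 11365), (11885, 11278), (11886, 12484), (11887, 11667), (11888, 12003), (11889, 11662), (11890, 11281), (11891, 12490), (11892, 12062), (11893, 12454), (11894, 12178), (11895, 11764), (11896, 11286), (11897, 11288), (11898, 12496), (11899, 11983),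 (11900, 11954), (11901, 11346), (11902, 11292), (11903, 12070)]
    ⟨e3 q11840 (flp_c L192376) q11848, e3 q11841 (flp_c L194573) q12066, e3 q11842 L192324 q11241, e3 q11843 (flp_c L197895) q12440, e3 q11844 (flp_c L192333) q11243, e3 q11845 (flp_c L197902) q12441, e3 q11846 (flp_c L192356) q11244, e3 q11847 (flp_c L197931) q12444, e3 q11848 L192376 q11840, e3 q11849 L192380 q11246, e3 q11850 (flp_c L197967) q12449, e3 q11851 (flp_c L192390) q11247, e3 q11852 (flp_c L197979) q12451, e3 q11853 L192422 q11304, e3 q11854 L192426 q11249, e3 q11855 (flp_c L198033) q12456, e3 q11856 (flp_c L196319) q12256, e3 q11857 (flp_c L196333) q12257, e3 q11858 L192454 q11252, e3 q11859 (flp_c L198063) q12460, e3 q11860 L192466 q11305, e3 q11861 L192485 q11773, e3 q11862 (flp_c L192487) q11258, e3 q11863 (flp_c L198073) q12461, e3 q11864 (flp_c L192512) q11259, e3 q11865 (flp_c L198093) q12463, e3 q11866 L192529 q11261, e3 q11867 (flp_c L198112) q12466, e3 q11868 L192541 q11263, e3 q11869 (flp_c L198131)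 q12469, e3 q11870 (flp_c L197962) q12448, e3 q11871 L192558 q11265, e3 q11872 (flp_c L198149) q12472, e3 q11873 L192568 q11267, e3 q11874 (flp_c L198155) q12473, e3 q11875 L192582 q11269, e3 q11876 L192590 q11271, e3 q11877 (flp_c L198165) q12474, e3 q11878 L192604 q11273, e3 q11879 (flp_c L198181) q12476, e3 q11880 L192622 q11565, e3 q11881 L192628 q11275, e3 q11882 (flp_c L198219) q12480, e3 q11883 (flp_c L193602) q11974, e3 q11884 L192654 q11365, e3 q11885 L192662 q11278, e3 q11886 (flp_c L198257) q12484, e3 q11887 L192676 q11667, e3 q11888 (flp_c L193909) q12003, e3 q11889 L192694 q11662, e3 q11890 L192700 q11281, e3 q11891 (flp_c L198305) q12490, e3 q11892 (flp_c L194531) q12062, e3 q11893 (flp_c L198013) q12454, e3 q11894 (flp_c L195582) q12178, e3 q11895 L192730 q11764, e3 q11896 L192736 q11286, e3 q11897 L192742 q11288, e3 q11898 (flp_c L198341) q12496, e3 q11899 (flp_c L193690) q11983, e3 q11900 (flp_c L193368) q11954, e3 q11901 L192764 q11346, e3 q11902 L192776 q11292, e3 q11903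 (flp_c L194611) q12070, trivial⟩ (by decide +kernel)

theorem ce_c_186 : ∀ r, r < 64 → sm gc (Qf (11904 + r)) = Qf (tab Gen.c (11904 + r)) :=
  edges_tab (sm gc) Qf (tab Gen.c) 11904 [(11904, 12179), (11905, 11364), (11906, 11306), (11907, 11678), (11908, 11658), (11909, 12453), (11910, 11307), (11911, 12503), (11912, 11308), (11913, 12506), (11914, 11310), (11915, 12509), (11916, 11311), (11917, 12512), (11918, 11312), (11919, 12515), (11920, 12505), (11921, 11314), (11922, 12519), (11923, 11791), (11924, 11924), (11925, 11317), (11926, 11926), (11927, 11409), (11928, 11321), (11929, 12523), (11930, 11322), (11931, 12525), (11932, 11324), (11933, 12527), (11934, 11693), (11935, 11327), (11936, 12529), (11937, 11708), (11938, 11713), (11939, 11428), (11940, 11331), (11941, 12535), (11942, 11332), (11943, 12536), (11944, 11333), (11945, 12538), (11946, 11462), (11947, 11335), (11948, 12542), (11949, 11337), (11950, 12544), (11951, 11466), (11952, 11340), (11953, 12547), (11954, 11900), (11955,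 11344), (11956, 12549), (11957, 11469), (11958, 12499), (11959, 11348), (11960, 12552), (11961, 11350), (11962, 12553), (11963, 11612), (11964, 11621), (11965, 11355), (11966, 12556), (11967, 11717)]
    ⟨e3 q11904 (flp_c L195590) q12179, e3 q11905 L192800 q11364, e3 q11906 L192806 q11306, e3 q11907 L192821 q11678, e3 q11908 L192825 q11658, e3 q11909 (flp_c L197999) q12453, e3 q11910 (flp_c L192834) q11307, e3 q11911 (flp_c L198400) q12503, e3 q11912 (flp_c L192863) q11308, e3 q11913 (flp_c L198441) q12506, e3 q11914 L192894 q11310, e3 q11915 (flp_c L198472) q12509, e3 q11916 (flp_c L192906) q11311, e3 q11917 (flp_c L198505) q12512, e3 q11918 (flp_c L192933) q11312, e3 q11919 (flp_c L198547) q12515, e3 q11920 (flp_c L198435) q12505, e3 q11921 L192971 q11314, e3 q11922 (flp_c L198599) q12519, e3 q11923 L192991 q11791, e3 q11924 L193008 q11924, e3 q11925 L193013 q11317, e3 q11926 L193024 q11926, e3 q11927 L193042 q11409, e3 q11928 L193056 q11321, e3 q11929 (flp_c L198649) q12523, e3 q11930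 (flp_c L193076) q11322, e3 q11931 (flp_c L198677) q12525, e3 q11932 L193111 q11324, e3 q11933 (flp_c L198705) q12527, e3 q11934 L193135 q11693, e3 q11935 L193147 q11327, e3 q11936 (flp_c L198733) q12529, e3 q11937 L193173 q11708, e3 q11938 L193189 q11713, e3 q11939 L193207 q11428, e3 q11940 L193215 q11331, e3 q11941 (flp_c L198817) q12535, e3 q11942 (flp_c L193229) q11332, e3 q11943 (flp_c L198829) q12536, e3 q11944 (flp_c L193252) q11333, e3 q11945 (flp_c L198849) q12538, e3 q11946 L193286 q11462, e3 q11947 L193294 q11335, e3 q11948 (flp_c L198892) q12542, e3 q11949 L193310 q11337, e3 q11950 (flp_c L198908) q12544, e3 q11951 L193336 q11466, e3 q11952 L193348 q11340, e3 q11953 (flp_c L198948) q12547, e3 q11954 L193368 q11900, e3 q11955 L193382 q11344, e3 q11956 (flp_c L198976) q12549, e3 q11957 L193406 q11469, e3 q11958 (flp_c L198361) q12499, e3 q11959 L193430 q11348, e3 q11960 (flp_c L199018) q12552, e3 q11961 L193450 q11350, e3 q11962 (flp_c L199032) q12553, e3 q11963 L193474 q11612,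 e3 q11964 L193490 q11621, e3 q11965 L193504 q11355, e3 q11966 (flp_c L199078) q12556, e3 q11967 L193524 q11717, trivial⟩ (by decide +kernel)

theorem ce_c_187 : ∀ r, r < 64 → sm gc (Qf (11968 + r)) = Qf (tab Gen.c (11968 + r)) :=
  edges_tab (sm gc) Qf (tab Gen.c) 11968 [(11968, 11757), (11969, 11722), (11970, 11766), (11971, 11502), (11972, 11488), (11973, 11362), (11974, 11883), (11975, 12479), (11976, 12483), (11977, 11367), (11978, 12565), (11979, 11410), (11980, 11740), (11981, 11370), (11982, 12569), (11983, 11899), (11984, 11373), (11985, 12571), (11986, 11414), (11987, 11750), (11988, 11377), (11989, 11419), (11990, 11388), (11991, 11629), (11992, 11666), (11993, 11613), (11994, 12253), (11995, 11709), (11996, 11758), (11997, 12574), (11998, 11389), (11999, 12580), (12000, 11695), (12001, 11391), (12002, 12584), (12003, 11888), (12004, 11394), (12005, 12588), (12006, 11725), (12007, 11741), (12008, 11397), (12009, 12592), (12010, 11686), (12011, 11417), (12012, 11633), (12013, 11626),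 (12014, 11404), (12015, 12596), (12016, 11581), (12017, 11407), (12018, 12599), (12019, 12522), (12020, 12567), (12021, 11411), (12022, 12601), (12023, 11413), (12024, 12603), (12025, 12572), (12026, 11416), (12027, 12606), (12028, 11418), (12029, 12607), (12030, 12534), (12031, 11420)]
    ⟨e3 q11968 L193536 q11757, e3 q11969 L193546 q11722, e3 q11970 L193558 q11766, e3 q11971 L193570 q11502, e3 q11972 L193582 q11488, e3 q11973 L193592 q11362, e3 q11974 L193602 q11883, e3 q11975 (flp_c L198213) q12479, e3 q11976 (flp_c L198247) q12483, e3 q11977 L193630 q11367, e3 q11978 (flp_c L199186) q12565, e3 q11979 L193648 q11410, e3 q11980 L193664 q11740, e3 q11981 L193674 q11370, e3 q11982 (flp_c L199228) q12569, e3 q11983 L193690 q11899, e3 q11984 L193704 q11373, e3 q11985 (flp_c L199254) q12571, e3 q11986 L193722 q11414, e3 q11987 L193734 q11750, e3 q11988 L193744 q11377, e3 q11989 L193754 q11419, e3 q11990 L193765 q11388, e3 q11991 L193779 q11629, e3 q11992 L193789 q11666, e3 q11993 L193801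 q11613, e3 q11994 (flp_c L196291) q12253, e3 q11995 L193825 q11709, e3 q11996 L193839 q11758, e3 q11997 (flp_c L199290) q12574, e3 q11998 (flp_c L193855) q11389, e3 q11999 (flp_c L199376) q12580, e3 q12000 L193891 q11695, e3 q12001 L193895 q11391, e3 q12002 (flp_c L199415) q12584, e3 q12003 L193909 q11888, e3 q12004 L193923 q11394, e3 q12005 (flp_c L199453) q12588, e3 q12006 L193941 q11725, e3 q12007 L193953 q11741, e3 q12008 L193961 q11397, e3 q12009 (flp_c L199493) q12592, e3 q12010 L193979 q11686, e3 q12011 L193985 q11417, e3 q12012 L194001 q11633, e3 q12013 L194020 q11626, e3 q12014 L194026 q11404, e3 q12015 (flp_c L199531) q12596, e3 q12016 L194046 q11581, e3 q12017 L194056 q11407, e3 q12018 (flp_c L199563) q12599, e3 q12019 (flp_c L198633) q12522, e3 q12020 (flp_c L199208) q12567, e3 q12021 (flp_c L194098) q11411, e3 q12022 (flp_c L199589) q12601, e3 q12023 L194132 q11413, e3 q12024 (flp_c L199617) q12603, e3 q12025 (flp_c L199266) q12572, e3 q12026 L194166 q11416, e3 q12027 (flp_c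 L199653) q12606, e3 q12028 (flp_c L194184) q11418, e3 q12029 (flp_c L199663) q12607, e3 q12030 (flp_c L198807) q12534, e3 q12031 (flp_c L194209) q11420, trivial⟩ (by decide +kernel)

theorem ce_c_188 : ∀ r, r < 64 → sm gc (Qf (12032 + r)) = Qf (tab Gen.c (12032 + r)) :=
  edges_tab (sm gc) Qf (tab Gen.c) 12032 [(12032, 12611), (12033, 11497), (12034, 11422), (12035, 12615), (12036, 11627), (12037, 11424), (12038, 12620), (12039, 11491), (12040, 11609), (12041, 12583), (12042, 11427), (12043, 12626), (12044, 12533), (12045, 11506), (12046, 11431), (12047, 12629), (12048, 11503), (12049, 11608), (12050, 11435), (12051, 11437), (12052, 12633), (12053, 11439), (12054, 12635), (12055, 11576), (12056, 11451), (12057, 11443), (12058, 12638), (12059, 11459), (12060, 11446), (12061, 12641), (12062, 11892), (12063, 11800), (12064, 11450), (12065, 12645), (12066, 11841), (12067, 12636), (12068, 11453), (12069, 12649), (12070, 11903), (12071, 11803), (12072, 11795), (12073, 11457), (12074, 12653),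 (12075, 12640), (12076, 11461), (12077, 12540), (12078, 11463), (12079, 12656), (12080, 11465), (12081, 12659), (12082, 12546), (12083, 11468), (12084, 12662), (12085, 11470), (12086, 12663), (12087, 11471), (12088, 12665), (12089, 11472), (12090, 12667), (12091, 11474), (12092, 12670), (12093, 11494), (12094, 11476), (12095, 12674)]
    ⟨e3 q12032 (flp_c L199704) q12611, e3 q12033 L194241 q11497, e3 q12034 L194245 q11422, e3 q12035 (flp_c L199739) q12615, e3 q12036 L194262 q11627, e3 q12037 L194266 q11424, e3 q12038 (flp_c L199783) q12620, e3 q12039 L194280 q11491, e3 q12040 L194295 q11609, e3 q12041 (flp_c L199408) q12583, e3 q12042 L194306 q11427, e3 q12043 (flp_c L199830) q12626, e3 q12044 (flp_c L198793) q12533, e3 q12045 L194332 q11506, e3 q12046 L194342 q11431, e3 q12047 (flp_c L199864) q12629, e3 q12048 L194362 q11503, e3 q12049 L194374 q11608, e3 q12050 L194382 q11435, e3 q12051 L194392 q11437, e3 q12052 (flp_c L199909) q12633, e3 q12053 L194414 q11439, e3 q12054 (flp_c L199933)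 q12635, e3 q12055 L194438 q11576, e3 q12056 L194461 q11451, e3 q12057 L194467 q11443, e3 q12058 (flp_c L199970) q12638, e3 q12059 L194491 q11459, e3 q12060 L194503 q11446, e3 q12061 (flp_c L200008) q12641, e3 q12062 L194531 q11892, e3 q12063 L194549 q11800, e3 q12064 L194555 q11450, e3 q12065 (flp_c L200054) q12645, e3 q12066 L194573 q11841, e3 q12067 (flp_c L199949) q12636, e3 q12068 L194595 q11453, e3 q12069 (flp_c L200090) q12649, e3 q12070 L194611 q11903, e3 q12071 L194625 q11803, e3 q12072 L194643 q11795, e3 q12073 L194651 q11457, e3 q12074 (flp_c L200144) q12653, e3 q12075 (flp_c L199996) q12640, e3 q12076 L194677 q11461, e3 q12077 (flp_c L198875) q12540, e3 q12078 (flp_c L194693) q11463, e3 q12079 (flp_c L200174) q12656, e3 q12080 L194722 q11465, e3 q12081 (flp_c L200205) q12659, e3 q12082 (flp_c L198936) q12546, e3 q12083 L194750 q11468, e3 q12084 (flp_c L200235) q12662, e3 q12085 (flp_c L194764) q11470, e3 q12086 (flp_c L200245) q12663, e3 q12087 (flp_c L194787) q11471, e3 q12088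 (flp_c L200271) q12665, e3 q12089 (flp_c L194810) q11472, e3 q12090 (flp_c L200291) q12667, e3 q12091 L194831 q11474, e3 q12092 (flp_c L200312) q12670, e3 q12093 L194850 q11494, e3 q12094 L194854 q11476, e3 q12095 (flp_c L200343) q12674, trivial⟩ (by decide +kernel)

theorem ce_c_189 : ∀ r, r < 64 → sm gc (Qf (12096 + r)) = Qf (tab Gen.c (12096 + r)) :=
  edges_tab (sm gc) Qf (tab Gen.c) 12096 [(12096, 11498), (12097, 12246), (12098, 11479), (12099, 12679), (12100, 11481), (12101, 12680), (12102, 11735), (12103, 11483), (12104, 12684), (12105, 11507), (12106, 11486), (12107, 12419), (12108, 12561), (12109, 12617), (12110, 11490), (12111, 12689), (12112, 12622), (12113, 11493), (12114, 12692), (12115, 12610), (12116, 12672), (12117, 11656), (12118, 11496), (12119, 12698), (12120, 12613), (12121, 12701), (12122, 12677), (12123, 12147), (12124, 11501), (12125, 12560), (12126, 12630), (12127, 11505), (12128, 12628), (12129, 12685), (12130, 12391), (12131, 12131), (12132, 12708), (12133, 11655),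 (12134, 12710), (12135, 11517), (12136, 11730), (12137, 11551), (12138, 11522), (12139, 12712), (12140, 11525), (12141, 12713), (12142, 11527), (12143, 11653), (12144, 11646), (12145, 11533), (12146, 12716), (12147, 12123), (12148, 11648), (12149, 11536), (12150, 12719), (12151, 11538), (12152, 12722), (12153, 11539), (12154, 12724), (12155, 11548), (12156, 11541), (12157, 12729), (12158, 12728), (12159, 11543)]
    ⟨e3 q12096 L194868 q11498, e3 q12097 (flp_c L196240) q12246, e3 q12098 L194877 q11479, e3 q12099 (flp_c L200374) q12679, e3 q12100 L194893 q11481, e3 q12101 (flp_c L200384) q12680, e3 q12102 L194923 q11735, e3 q12103 L194929 q11483, e3 q12104 (flp_c L200434) q12684, e3 q12105 L194945 q11507, e3 q12106 L194953 q11486, e3 q12107 (flp_c L197702) q12419, e3 q12108 (flp_c L199144) q12561, e3 q12109 (flp_c L199753) q12617, e3 q12110 L194979 q11490, e3 q12111 (flp_c L200472) q12689, e3 q12112 (flp_c L199801) q12622, e3 q12113 L195001 q11493, e3 q12114 (flp_c L200496) q12692, e3 q12115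 (flp_c L199700) q12610, e3 q12116 (flp_c L200330) q12672, e3 q12117 L195035 q11656, e3 q12118 L195041 q11496, e3 q12119 (flp_c L200548) q12698, e3 q12120 (flp_c L199728) q12613, e3 q12121 L200568 q12701, e3 q12122 (flp_c L200364) q12677, e3 q12123 (flp_c L195306) q12147, e3 q12124 L195077 q11501, e3 q12125 (flp_c L199130) q12560, e3 q12126 (flp_c L199876) q12630, e3 q12127 L195099 q11505, e3 q12128 (flp_c L199854) q12628, e3 q12129 (flp_c L200442) q12685, e3 q12130 (flp_c L197520) q12391, e3 q12131 L195129 q12131, e3 q12132 L200626 q12708, e3 q12133 L195147 q11655, e3 q12134 L200646 q12710, e3 q12135 (flp_c L195160) q11517, e3 q12136 L195175 q11730, e3 q12137 L195186 q11551, e3 q12138 L195204 q11522, e3 q12139 (flp_c L200676) q12712, e3 q12140 L195228 q11525, e3 q12141 (flp_c L200690) q12713, e3 q12142 L195250 q11527, e3 q12143 L195260 q11653, e3 q12144 L195274 q11646, e3 q12145 L195288 q11533, e3 q12146 (flp_c L200727) q12716, e3 q12147 L195306 q12123, e3 q12148 L195316 q11648, e3 q12149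 (flp_c L195322) q11536, e3 q12150 (flp_c L200757) q12719, e3 q12151 L195349 q11538, e3 q12152 (flp_c L200788) q12722, e3 q12153 (flp_c L195367) q11539, e3 q12154 (flp_c L200810) q12724, e3 q12155 L195397 q11548, e3 q12156 L195401 q11541, e3 q12157 (flp_c L200856) q12729, e3 q12158 (flp_c L200851) q12728, e3 q12159 L195414 q11543, trivial⟩ (by decide +kernel)

theorem ce_c_190 : ∀ r, r < 64 → sm gc (Qf (12160 + r)) = Qf (tab Gen.c (12160 + r)) :=
  edges_tab (sm gc) Qf (tab Gen.c) 12160 [(12160, 12732), (12161, 12353), (12162, 12358), (12163, 12593), (12164, 11547), (12165, 12738), (12166, 12726), (12167, 12727), (12168, 11550), (12169, 12742), (12170, 12170), (12171, 12171), (12172, 12521), (12173, 11649), (12174, 11557), (12175, 12744), (12176, 11560), (12177, 12745), (12178, 11894), (12179, 11904), (12180, 11564), (12181, 12478), (12182, 11718), (12183, 11719), (12184, 11720), (12185, 11721), (12186, 11723), (12187, 11573), (12188, 12752), (12189, 11575), (12190, 12754), (12191, 11578),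 (12192, 12756), (12193, 11580), (12194, 12758), (12195, 12598), (12196, 12594), (12197, 11583), (12198, 11710), (12199, 11711), (12200, 11712), (12201, 11714), (12202, 11589), (12203, 12764), (12204, 11591), (12205, 12767), (12206, 11593), (12207, 12769), (12208, 11595), (12209, 11596), (12210, 12770), (12211, 11597), (12212, 12772), (12213, 11599), (12214, 12775), (12215, 11601), (12216, 12778), (12217, 12408), (12218, 11603), (12219, 12781), (12220, 11605), (12221, 12782), (12222, 11607), (12223, 12631)]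
    ⟨e3 q12160 (flp_c L200870) q12732, e3 q12161 (flp_c L197189) q12353, e3 q12162 (flp_c L197233) q12358, e3 q12163 (flp_c L199501) q12593, e3 q12164 L195458 q11547, e3 q12165 (flp_c L200924) q12738, e3 q12166 (flp_c L200832) q12726, e3 q12167 (flp_c L200843) q12727, e3 q12168 L195488 q11550, e3 q12169 (flp_c L200956) q12742, e3 q12170 L195500 q12170, e3 q12171 L195515 q12171, e3 q12172 (flp_c L198625) q12521, e3 q12173 L195532 q11649, e3 q12174 L195544 q11557, e3 q12175 (flp_c L200980) q12744, e3 q12176 L195564 q11560, e3 q12177 (flp_c L200990) q12745, e3 q12178 L195582 q11894, e3 q12179 L195590 q11904, e3 q12180 L195600 q11564, e3 q12181 (flp_c L198197) q12478, e3 q12182 L195620 q11718, e3 q12183 L195634 q11719, e3 q12184 L195644 q11720, e3 q12185 L195654 q11721, e3 q12186 L195664 q11723, e3 q12187 L195674 q11573, e3 q12188 (flp_c L201067) q12752, e3 q12189 L195690 q11575, e3 q12190 (flp_c L201083) q12754, e3 q12191 L195708 q11578, e3 q12192 (flp_c L201104) q12756, e3 q12193 L195728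 q11580, e3 q12194 (flp_c L201124) q12758, e3 q12195 (flp_c L199553) q12598, e3 q12196 (flp_c L199516) q12594, e3 q12197 L195770 q11583, e3 q12198 L195778 q11710, e3 q12199 L195788 q11711, e3 q12200 L195798 q11712, e3 q12201 L195808 q11714, e3 q12202 (flp_c L195814) q11589, e3 q12203 (flp_c L201192) q12764, e3 q12204 L195843 q11591, e3 q12205 (flp_c L201225) q12767, e3 q12206 L195863 q11593, e3 q12207 (flp_c L201245) q12769, e3 q12208 L195881 q11595, e3 q12209 (flp_c L195887) q11596, e3 q12210 (flp_c L201257) q12770, e3 q12211 (flp_c L195912) q11597, e3 q12212 (flp_c L201283) q12772, e3 q12213 L195945 q11599, e3 q12214 (flp_c L201314) q12775, e3 q12215 L195961 q11601, e3 q12216 (flp_c L201339) q12778, e3 q12217 (flp_c L197633) q12408, e3 q12218 L195982 q11603, e3 q12219 (flp_c L201361) q12781, e3 q12220 L195996 q11605, e3 q12221 (flp_c L201369) q12782, e3 q12222 L196012 q11607, e3 q12223 (flp_c L199888) q12631, trivial⟩ (by decide +kernel)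

theorem ce_c_191 : ∀ r, r < 64 → sm gc (Qf (12224 + r)) = Qf (tab Gen.c (12224 + r)) :=
  edges_tab (sm gc) Qf (tab Gen.c) 12224 [(12224, 12624), (12225, 12618), (12226, 12252), (12227, 12554), (12228, 12576), (12229, 11615), (12230, 12788), (12231, 12426), (12232, 11617), (12233, 12790), (12234, 12432), (12235, 11620), (12236, 12555), (12237, 11623), (12238, 12511), (12239, 12575), (12240, 11631), (12241, 12792), (12242, 11635), (12243, 12794), (12244, 11637), (12245, 12797), (12246, 12097), (12247, 11639), (12248, 12800), (12249, 11641), (12250, 12801), (12251, 11643), (12252, 12226), (12253, 11994), (12254, 12714), (12255, 12262), (12256, 11856), (12257, 11857), (12258, 11652), (12259, 12806), (12260, 12697), (12261, 12696), (12262, 12255), (12263, 12489), (12264, 11659), (12265, 12811), (12266, 11673), (12267, 11661), (12268, 12816), (12269, 12488), (12270, 11681), (12271, 11682), (12272, 11665), (12273, 12821), (12274, 12485), (12275, 11668), (12276, 12824), (12277, 12502), (12278,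 11670), (12279, 12828), (12280, 12810), (12281, 11672), (12282, 12832), (12283, 12813), (12284, 12814), (12285, 11675), (12286, 12836), (12287, 11677)]
    ⟨e3 q12224 (flp_c L199818) q12624, e3 q12225 (flp_c L199770) q12618, e3 q12226 (flp_c L196277) q12252, e3 q12227 (flp_c L199046) q12554, e3 q12228 (flp_c L199322) q12576, e3 q12229 L196058 q11615, e3 q12230 (flp_c L201417) q12788, e3 q12231 (flp_c L197772) q12426, e3 q12232 L196092 q11617, e3 q12233 (flp_c L201443) q12790, e3 q12234 (flp_c L197820) q12432, e3 q12235 L196122 q11620, e3 q12236 (flp_c L199062) q12555, e3 q12237 L196140 q11623, e3 q12238 (flp_c L198499) q12511, e3 q12239 (flp_c L199306) q12575, e3 q12240 L196172 q11631, e3 q12241 (flp_c L201469) q12792, e3 q12242 L196194 q11635, e3 q12243 (flp_c L201486) q12794, e3 q12244 L196216 q11637, e3 q12245 (flp_c L201525) q12797, e3 q12246 L196240 q12097, e3 q12247 L196245 q11639, e3 q12248 (flp_c L201557) q12800, e3 q12249 L196259 q11641, e3 q12250 (flp_c L201563) q12801, e3 q12251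 L196273 q11643, e3 q12252 L196277 q12226, e3 q12253 L196291 q11994, e3 q12254 (flp_c L200704) q12714, e3 q12255 (flp_c L196379) q12262, e3 q12256 L196319 q11856, e3 q12257 L196333 q11857, e3 q12258 L196343 q11652, e3 q12259 (flp_c L201619) q12806, e3 q12260 (flp_c L200538) q12697, e3 q12261 (flp_c L200528) q12696, e3 q12262 L196379 q12255, e3 q12263 (flp_c L198299) q12489, e3 q12264 (flp_c L196397) q11659, e3 q12265 (flp_c L201672) q12811, e3 q12266 L196431 q11673, e3 q12267 L196435 q11661, e3 q12268 (flp_c L201722) q12816, e3 q12269 (flp_c L198289) q12488, e3 q12270 L196461 q11681, e3 q12271 L196473 q11682, e3 q12272 L196481 q11665, e3 q12273 (flp_c L201766) q12821, e3 q12274 (flp_c L198267) q12485, e3 q12275 (flp_c L196507) q11668, e3 q12276 (flp_c L201802) q12824, e3 q12277 (flp_c L198389) q12502, e3 q12278 L196547 q11670, e3 q12279 (flp_c L201842) q12828, e3 q12280 (flp_c L201666) q12810, e3 q12281 L196567 q11672, e3 q12282 (flp_c L201872) q12832, e3 q12283 (flp_c L201696) q12813, e3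 q12284 (flp_c L201707) q12814, e3 q12285 L196593 q11675, e3 q12286 (flp_c L201900) q12836, e3 q12287 L196607 q11677, trivial⟩ (by decide +kernel)

theorem ce_c_192 : ∀ r, r < 64 → sm gc (Qf (12288 + r)) = Qf (tab Gen.c (12288 + r)) :=
  edges_tab (sm gc) Qf (tab Gen.c) 12288 [(12288, 12837), (12289, 12501), (12290, 12486), (12291, 12587), (12292, 11680), (12293, 12841), (12294, 12819), (12295, 12820), (12296, 11684), (12297, 11687), (12298, 12845), (12299, 11826), (12300, 11689), (12301, 12849), (12302, 11833), (12303, 11692), (12304, 12852), (12305, 11694), (12306, 12853), (12307, 12582), (12308, 11697), (12309, 12857), (12310, 11699), (12311, 12860), (12312, 12815), (12313, 11701), (12314, 12863), (12315, 11703), (12316, 12864), (12317, 11705), (12318, 11707), (12319, 12865), (12320, 12531), (12321, 12578), (12322, 12762), (12323, 12763), (12324, 12532), (12325, 11716), (12326, 12869), (12327, 12557), (12328, 12748), (12329, 12749), (12330, 12750), (12331, 12559), (12332, 11724), (12333,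 12873), (12334, 12590), (12335, 11727), (12336, 12876), (12337, 12711), (12338, 11729), (12339, 12879), (12340, 12683), (12341, 11732), (12342, 12882), (12343, 11734), (12344, 12883), (12345, 12682), (12346, 11737), (12347, 11739), (12348, 12885), (12349, 12568), (12350, 12591), (12351, 11743)]
    ⟨e3 q12288 (flp_c L201908) q12837, e3 q12289 (flp_c L198383) q12501, e3 q12290 (flp_c L198277) q12486, e3 q12291 (flp_c L199445) q12587, e3 q12292 L196645 q11680, e3 q12293 (flp_c L201940) q12841, e3 q12294 (flp_c L201750) q12819, e3 q12295 (flp_c L201760) q12820, e3 q12296 L196663 q11684, e3 q12297 (flp_c L196665) q11687, e3 q12298 (flp_c L201971) q12845, e3 q12299 L196701 q11826, e3 q12300 L196707 q11689, e3 q12301 (flp_c L202014) q12849, e3 q12302 L196725 q11833, e3 q12303 L196737 q11692, e3 q12304 (flp_c L202044) q12852, e3 q12305 (flp_c L196751) q11694, e3 q12306 (flp_c L202054) q12853, e3 q12307 (flp_c L199400) q12582, e3 q12308 L196790 q11697, e3 q12309 (flp_c L202091) q12857, e3 q12310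 L196804 q11699, e3 q12311 (flp_c L202114) q12860, e3 q12312 (flp_c L201717) q12815, e3 q12313 L196827 q11701, e3 q12314 (flp_c L202136) q12863, e3 q12315 L196841 q11703, e3 q12316 (flp_c L202144) q12864, e3 q12317 L196857 q11705, e3 q12318 L196865 q11707, e3 q12319 (flp_c L202152) q12865, e3 q12320 (flp_c L198761) q12531, e3 q12321 (flp_c L199348) q12578, e3 q12322 (flp_c L201170) q12762, e3 q12323 (flp_c L201180) q12763, e3 q12324 (flp_c L198777) q12532, e3 q12325 L196915 q11716, e3 q12326 (flp_c L202188) q12869, e3 q12327 (flp_c L199090) q12557, e3 q12328 (flp_c L201022) q12748, e3 q12329 (flp_c L201036) q12749, e3 q12330 (flp_c L201046) q12750, e3 q12331 (flp_c L199114) q12559, e3 q12332 (flp_c L196975) q11724, e3 q12333 (flp_c L202234) q12873, e3 q12334 (flp_c L199473) q12590, e3 q12335 L197021 q11727, e3 q12336 (flp_c L202276) q12876, e3 q12337 (flp_c L200661) q12711, e3 q12338 L197047 q11729, e3 q12339 (flp_c L202306) q12879, e3 q12340 (flp_c L200426) q12683, e3 q12341 L197077 q11732,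 e3 q12342 (flp_c L202334) q12882, e3 q12343 L197097 q11734, e3 q12344 (flp_c L202346) q12883, e3 q12345 (flp_c L200412) q12682, e3 q12346 L197117 q11737, e3 q12347 L197125 q11739, e3 q12348 (flp_c L202362) q12885, e3 q12349 (flp_c L199218) q12568, e3 q12350 (flp_c L199483) q12591, e3 q12351 L197165 q11743, trivial⟩ (by decide +kernel)

theorem ce_c_193 : ∀ r, r < 64 → sm gc (Qf (12352 + r)) = Qf (tab Gen.c (12352 + r)) :=
  edges_tab (sm gc) Qf (tab Gen.c) 12352 [(12352, 12889), (12353, 12161), (12354, 11745), (12355, 12891), (12356, 12455), (12357, 11763), (12358, 12162), (12359, 11749), (12360, 12573), (12361, 11752), (12362, 11768), (12363, 11756), (12364, 12895), (12365, 12558), (12366, 12579), (12367, 11760), (12368, 11762), (12369, 12893), (12370, 12495), (12371, 12371), (12372, 12372), (12373, 11788), (12374, 11781), (12375, 12899), (12376, 12898), (12377, 11783), (12378, 12903), (12379, 12382), (12380, 11785), (12381, 12907), (12382, 12379), (12383, 11787), (12384, 12912), (12385,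 12896), (12386, 12897), (12387, 11790), (12388, 12916), (12389, 12389), (12390, 12390), (12391, 12130), (12392, 12652), (12393, 12647), (12394, 11797), (12395, 12514), (12396, 11799), (12397, 12923), (12398, 12643), (12399, 12906), (12400, 11802), (12401, 12928), (12402, 12651), (12403, 11805), (12404, 11823), (12405, 11807), (12406, 12932), (12407, 11827), (12408, 12217), (12409, 11810), (12410, 12938), (12411, 11834), (12412, 11815), (12413, 11816), (12414, 11814), (12415, 12851)]
    ⟨e3 q12352 (flp_c L202406) q12889, e3 q12353 L197189 q12161, e3 q12354 L197195 q11745, e3 q12355 (flp_c L202426) q12891, e3 q12356 (flp_c L198027) q12455, e3 q12357 L197223 q11763, e3 q12358 L197233 q12162, e3 q12359 L197241 q11749, e3 q12360 (flp_c L199278) q12573, e3 q12361 L197257 q11752, e3 q12362 L197265 q11768, e3 q12363 L197275 q11756, e3 q12364 (flp_c L202472) q12895, e3 q12365 (flp_c L199102) q12558, e3 q12366 (flp_c L199362) q12579, e3 q12367 L197307 q11760, e3 q12368 L197317 q11762, e3 q12369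 (flp_c L202446) q12893, e3 q12370 (flp_c L198335) q12495, e3 q12371 L197344 q12371, e3 q12372 L197347 q12372, e3 q12373 L197360 q11788, e3 q12374 L197364 q11781, e3 q12375 (flp_c L202506) q12899, e3 q12376 (flp_c L202501) q12898, e3 q12377 L197383 q11783, e3 q12378 (flp_c L202531) q12903, e3 q12379 (flp_c L197432) q12382, e3 q12380 L197408 q11785, e3 q12381 (flp_c L202563) q12907, e3 q12382 L197432 q12379, e3 q12383 L197438 q11787, e3 q12384 (flp_c L202617) q12912, e3 q12385 (flp_c L202482) q12896, e3 q12386 (flp_c L202493) q12897, e3 q12387 L197476 q11790, e3 q12388 (flp_c L202657) q12916, e3 q12389 L197490 q12389, e3 q12390 L197506 q12390, e3 q12391 L197520 q12130, e3 q12392 (flp_c L200132) q12652, e3 q12393 (flp_c L200076) q12647, e3 q12394 L197534 q11797, e3 q12395 (flp_c L198541) q12514, e3 q12396 L197549 q11799, e3 q12397 (flp_c L202710) q12923, e3 q12398 (flp_c L200036) q12643, e3 q12399 (flp_c L202556) q12906, e3 q12400 L197578 q11802, e3 q12401 (flp_c L202745) q12928, e3 q12402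 (flp_c L200118) q12651, e3 q12403 L197598 q11805, e3 q12404 L197607 q11823, e3 q12405 L197611 q11807, e3 q12406 (flp_c L202772) q12932, e3 q12407 L197627 q11827, e3 q12408 L197633 q12217, e3 q12409 L197638 q11810, e3 q12410 (flp_c L202812) q12938, e3 q12411 L197654 q11834, e3 q12412 L197658 q11815, e3 q12413 L197664 q11816, e3 q12414 L197670 q11814, e3 q12415 (flp_c L202032) q12851, trivial⟩ (by decide +kernel)

theorem ce_c_194 : ∀ r, r < 64 → sm gc (Qf (12416 + r)) = Qf (tab Gen.c (12416 + r)) :=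
  edges_tab (sm gc) Qf (tab Gen.c) 12416 [(12416, 12940), (12417, 12941), (12418, 12942), (12419, 12107), (12420, 11820), (12421, 12948), (12422, 11822), (12423, 12950), (12424, 12844), (12425, 12930), (12426, 12231), (12427, 11825), (12428, 12955), (12429, 12847), (12430, 12447), (12431, 12935), (12432, 12234), (12433, 11830), (12434, 11832), (12435, 12939), (12436, 12436), (12437, 12443), (12438, 12446), (12439, 12517), (12440, 11843), (12441, 11845), (12442, 12962), (12443, 12437), (12444, 11847), (12445, 12967), (12446, 12438), (12447, 12430), (12448, 11870), (12449, 11850), (12450, 12973), (12451, 11852), (12452, 12974), (12453, 11909), (12454, 11893), (12455, 12356), (12456, 11855), (12457, 12979), (12458, 12804), (12459, 12805), (12460, 11859), (12461, 11863), (12462, 12983), (12463, 11865), (12464, 12986), (12465, 12982), (12466, 11867), (12467, 12989), (12468, 12966), (12469, 11869), (12470, 12992), (12471, 12972), (12472, 11872), (12473, 11874), (12474, 11877), (12475, 12995),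 (12476, 11879), (12477, 12996), (12478, 12181), (12479, 11975)]
    ⟨e3 q12416 (flp_c L202824) q12940, e3 q12417 (flp_c L202830) q12941, e3 q12418 (flp_c L202838) q12942, e3 q12419 L197702 q12107, e3 q12420 L197714 q11820, e3 q12421 (flp_c L202890) q12948, e3 q12422 L197732 q11822, e3 q12423 (flp_c L202910) q12950, e3 q12424 (flp_c L201965) q12844, e3 q12425 (flp_c L202759) q12930, e3 q12426 L197772 q12231, e3 q12427 L197780 q11825, e3 q12428 (flp_c L202958) q12955, e3 q12429 (flp_c L201997) q12847, e3 q12430 (flp_c L197956) q12447, e3 q12431 (flp_c L202793) q12935, e3 q12432 L197820 q12234, e3 q12433 L197832 q11830, e3 q12434 L197840 q11832, e3 q12435 (flp_c L202820) q12939, e3 q12436 L197854 q12436, e3 q12437 (flp_c L197927) q12443, e3 q12438 (flp_c L197947) q12446, e3 q12439 (flp_c L198571) q12517, e3 q12440 L197895 q11843, e3 q12441 L197902 q11845, e3 q12442 (flp_c L203029) q12962, e3 q12443 L197927 q12437, e3 q12444 L197931 q11847, e3 q12445 (flp_c L203077) q12967, e3 q12446 L197947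 q12438, e3 q12447 L197956 q12430, e3 q12448 L197962 q11870, e3 q12449 L197967 q11850, e3 q12450 (flp_c L203122) q12973, e3 q12451 L197979 q11852, e3 q12452 (flp_c L203128) q12974, e3 q12453 L197999 q11909, e3 q12454 L198013 q11893, e3 q12455 L198027 q12356, e3 q12456 L198033 q11855, e3 q12457 (flp_c L203184) q12979, e3 q12458 (flp_c L201599) q12804, e3 q12459 (flp_c L201609) q12805, e3 q12460 L198063 q11859, e3 q12461 L198073 q11863, e3 q12462 (flp_c L203221) q12983, e3 q12463 L198093 q11865, e3 q12464 (flp_c L203248) q12986, e3 q12465 (flp_c L203210) q12982, e3 q12466 L198112 q11867, e3 q12467 (flp_c L203270) q12989, e3 q12468 (flp_c L203072) q12966, e3 q12469 L198131 q11869, e3 q12470 (flp_c L203289) q12992, e3 q12471 (flp_c L203116) q12972, e3 q12472 L198149 q11872, e3 q12473 L198155 q11874, e3 q12474 L198165 q11877, e3 q12475 (flp_c L203306) q12995, e3 q12476 L198181 q11879, e3 q12477 (flp_c L203316) q12996, e3 q12478 L198197 q12181, e3 q12479 L198213 q11975, trivial⟩ (by decide +kernel)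

theorem ce_c_195 : ∀ r, r < 64 → sm gc (Qf (12480 + r)) = Qf (tab Gen.c (12480 + r)) :=
  edges_tab (sm gc) Qf (tab Gen.c) 12480 [(12480, 11882), (12481, 12999), (12482, 12562), (12483, 11976), (12484, 11886), (12485, 12274), (12486, 12290), (12487, 12586), (12488, 12269), (12489, 12263), (12490, 11891), (12491, 12976), (12492, 12642), (12493, 12977), (12494, 12746), (12495, 12370), (12496, 11898), (12497, 12570), (12498, 12548), (12499, 11958), (12500, 12650), (12501, 12289), (12502, 12277), (12503, 11911), (12504, 13015), (12505, 11920), (12506, 11913), (12507, 13019), (12508, 13018), (12509, 11915), (12510, 13023), (12511, 12238), (12512, 11917), (12513, 13026), (12514, 12395), (12515, 11919), (12516, 13030), (12517, 12439), (12518, 13017), (12519, 11922), (12520, 13034), (12521, 12172), (12522, 12019), (12523, 11929), (12524, 13036), (12525, 11931), (12526, 13038), (12527, 11933), (12528, 13040), (12529, 11936), (12530, 13041), (12531, 12320), (12532, 12324), (12533, 12044), (12534,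 12030), (12535, 11941), (12536, 11943), (12537, 13046), (12538, 11945), (12539, 13049), (12540, 12077), (12541, 13025), (12542, 11948), (12543, 13054)]
    ⟨e3 q12480 L198219 q11882, e3 q12481 (flp_c L203352) q12999, e3 q12482 (flp_c L199156) q12562, e3 q12483 L198247 q11976, e3 q12484 L198257 q11886, e3 q12485 L198267 q12274, e3 q12486 L198277 q12290, e3 q12487 (flp_c L199429) q12586, e3 q12488 L198289 q12269, e3 q12489 L198299 q12263, e3 q12490 L198305 q11891, e3 q12491 (flp_c L203152) q12976, e3 q12492 (flp_c L200024) q12642, e3 q12493 (flp_c L203164) q12977, e3 q12494 (flp_c L201000) q12746, e3 q12495 L198335 q12370, e3 q12496 L198341 q11898, e3 q12497 (flp_c L199238) q12570, e3 q12498 (flp_c L198960) q12548, e3 q12499 L198361 q11958, e3 q12500 (flp_c L200102) q12650, e3 q12501 L198383 q12289, e3 q12502 L198389 q12277, e3 q12503 L198400 q11911, e3 q12504 (flp_c L203514) q13015, e3 q12505 L198435 q11920, e3 q12506 L198441 q11913, e3 q12507 (flp_c L203567) q13019, e3 q12508 (flp_c L203560)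 q13018, e3 q12509 L198472 q11915, e3 q12510 (flp_c L203612) q13023, e3 q12511 L198499 q12238, e3 q12512 L198505 q11917, e3 q12513 (flp_c L203649) q13026, e3 q12514 L198541 q12395, e3 q12515 L198547 q11919, e3 q12516 (flp_c L203703) q13030, e3 q12517 L198571 q12439, e3 q12518 (flp_c L203544) q13017, e3 q12519 L198599 q11922, e3 q12520 (flp_c L203753) q13034, e3 q12521 L198625 q12172, e3 q12522 L198633 q12019, e3 q12523 L198649 q11929, e3 q12524 (flp_c L203782) q13036, e3 q12525 L198677 q11931, e3 q12526 (flp_c L203813) q13038, e3 q12527 L198705 q11933, e3 q12528 (flp_c L203843) q13040, e3 q12529 L198733 q11936, e3 q12530 (flp_c L203859) q13041, e3 q12531 L198761 q12320, e3 q12532 L198777 q12324, e3 q12533 L198793 q12044, e3 q12534 L198807 q12030, e3 q12535 L198817 q11941, e3 q12536 L198829 q11943, e3 q12537 (flp_c L203932) q13046, e3 q12538 L198849 q11945, e3 q12539 (flp_c L203967) q13049, e3 q12540 L198875 q12077, e3 q12541 (flp_c L203640) q13025, e3 q12542 L198892 q11948, e3 q12543 (flp_c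 L204022) q13054, trivial⟩ (by decide +kernel)

theorem ce_c_196 : ∀ r, r < 64 → sm gc (Qf (12544 + r)) = Qf (tab Gen.c (12544 + r)) :=
  edges_tab (sm gc) Qf (tab Gen.c) 12544 [(12544, 11950), (12545, 13055), (12546, 12082), (12547, 11953), (12548, 12498), (12549, 11956), (12550, 13057), (12551, 13012), (12552, 11960), (12553, 11962), (12554, 12227), (12555, 12236), (12556, 11966), (12557, 12327), (12558, 12365), (12559, 12331), (12560, 12125), (12561, 12108), (12562, 12482), (12563, 12998), (12564, 13001), (12565, 11978), (12566, 13063), (12567, 12020), (12568, 12349), (12569, 11982), (12570, 12497), (12571, 11985), (12572, 12025), (12573, 12360), (12574, 11997), (12575, 12239), (12576, 12228), (12577, 12803), (12578, 12321), (12579, 12366), (12580, 11999), (12581, 13070), (12582, 12307), (12583, 12041), (12584, 12002), (12585, 13075), (12586, 12487), (12587, 12291), (12588, 12005), (12589, 13079), (12590, 12334), (12591, 12350), (12592, 12009), (12593, 12163), (12594, 12196), (12595,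 13048), (12596, 12015), (12597, 13085), (12598, 12195), (12599, 12018), (12600, 13064), (12601, 12022), (12602, 13088), (12603, 12024), (12604, 13090), (12605, 13066), (12606, 12027), (12607, 12029)]
    ⟨e3 q12544 L198908 q11950, e3 q12545 (flp_c L204032) q13055, e3 q12546 L198936 q12082, e3 q12547 L198948 q11953, e3 q12548 L198960 q12498, e3 q12549 L198976 q11956, e3 q12550 (flp_c L204064) q13057, e3 q12551 (flp_c L203472) q13012, e3 q12552 L199018 q11960, e3 q12553 L199032 q11962, e3 q12554 L199046 q12227, e3 q12555 L199062 q12236, e3 q12556 L199078 q11966, e3 q12557 L199090 q12327, e3 q12558 L199102 q12365, e3 q12559 L199114 q12331, e3 q12560 L199130 q12125, e3 q12561 L199144 q12108, e3 q12562 L199156 q12482, e3 q12563 (flp_c L203342) q12998, e3 q12564 (flp_c L203374) q13001, e3 q12565 L199186 q11978, e3 q12566 (flp_c L204152) q13063, e3 q12567 L199208 q12020, e3 q12568 L199218 q12349, e3 q12569 L199228 q11982, e3 q12570 L199238 q12497, e3 q12571 L199254 q11985, e3 q12572 L199266 q12025,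 e3 q12573 L199278 q12360, e3 q12574 L199290 q11997, e3 q12575 L199306 q12239, e3 q12576 L199322 q12228, e3 q12577 (flp_c L201583) q12803, e3 q12578 L199348 q12321, e3 q12579 L199362 q12366, e3 q12580 L199376 q11999, e3 q12581 (flp_c L204253) q13070, e3 q12582 L199400 q12307, e3 q12583 L199408 q12041, e3 q12584 L199415 q12002, e3 q12585 (flp_c L204306) q13075, e3 q12586 L199429 q12487, e3 q12587 L199445 q12291, e3 q12588 L199453 q12005, e3 q12589 (flp_c L204352) q13079, e3 q12590 L199473 q12334, e3 q12591 L199483 q12350, e3 q12592 L199493 q12009, e3 q12593 L199501 q12163, e3 q12594 L199516 q12196, e3 q12595 (flp_c L203958) q13048, e3 q12596 L199531 q12015, e3 q12597 (flp_c L204415) q13085, e3 q12598 L199553 q12195, e3 q12599 L199563 q12018, e3 q12600 (flp_c L204166) q13064, e3 q12601 L199589 q12022, e3 q12602 (flp_c L204457) q13088, e3 q12603 L199617 q12024, e3 q12604 (flp_c L204485) q13090, e3 q12605 (flp_c L204190) q13066, e3 q12606 L199653 q12027, e3 q12607 L199663 q12029, trivial⟩ (by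 decide +kernel)

theorem ce_c_197 : ∀ r, r < 64 → sm gc (Qf (12608 + r)) = Qf (tab Gen.c (12608 + r)) :=
  edges_tab (sm gc) Qf (tab Gen.c) 12608 [(12608, 13092), (12609, 13044), (12610, 12115), (12611, 12032), (12612, 13097), (12613, 12120), (12614, 13091), (12615, 12035), (12616, 13102), (12617, 12109), (12618, 12225), (12619, 13037), (12620, 12038), (12621, 13108), (12622, 12112), (12623, 12937), (12624, 12224), (12625, 13074), (12626, 12043), (12627, 13043), (12628, 12128), (12629, 12047), (12630, 12126), (12631, 12223), (12632, 12637), (12633, 12052), (12634, 13118), (12635, 12054), (12636, 12067), (12637, 12632), (12638, 12058), (12639, 13122), (12640, 12075), (12641, 12061), (12642, 12492), (12643, 12398), (12644, 12911), (12645, 12065), (12646, 13127), (12647, 12393), (12648, 13120), (12649, 12069), (12650, 12500), (12651, 12402), (12652, 12392), (12653, 12074), (12654, 13123), (12655, 13052), (12656, 12079), (12657, 13134), (12658, 12751), (12659, 12081), (12660, 13137), (12661,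 13056), (12662, 12084), (12663, 12086), (12664, 13139), (12665, 12088), (12666, 13142), (12667, 12090), (12668, 13145), (12669, 13138), (12670, 12092), (12671, 13149)]
    ⟨e3 q12608 (flp_c L204504) q13092, e3 q12609 (flp_c L203909) q13044, e3 q12610 L199700 q12115, e3 q12611 L199704 q12032, e3 q12612 (flp_c L204557) q13097, e3 q12613 L199728 q12120, e3 q12614 (flp_c L204497) q13091, e3 q12615 L199739 q12035, e3 q12616 (flp_c L204606) q13102, e3 q12617 L199753 q12109, e3 q12618 L199770 q12225, e3 q12619 (flp_c L203802) q13037, e3 q12620 L199783 q12038, e3 q12621 (flp_c L204664) q13108, e3 q12622 L199801 q12112, e3 q12623 (flp_c L202805) q12937, e3 q12624 L199818 q12224, e3 q12625 (flp_c L204298) q13074, e3 q12626 L199830 q12043, e3 q12627 (flp_c L203893) q13043, e3 q12628 L199854 q12128, e3 q12629 L199864 q12047, e3 q12630 L199876 q12126, e3 q12631 L199888 q12223, e3 q12632 (flp_c L199961) q12637, e3 q12633 L199909 q12052, e3 q12634 (flp_c L204768) q13118, e3 q12635 L199933 q12054, e3 q12636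 L199949 q12067, e3 q12637 L199961 q12632, e3 q12638 L199970 q12058, e3 q12639 (flp_c L204815) q13122, e3 q12640 L199996 q12075, e3 q12641 L200008 q12061, e3 q12642 L200024 q12492, e3 q12643 L200036 q12398, e3 q12644 (flp_c L202609) q12911, e3 q12645 L200054 q12065, e3 q12646 (flp_c L204875) q13127, e3 q12647 L200076 q12393, e3 q12648 (flp_c L204795) q13120, e3 q12649 L200090 q12069, e3 q12650 L200102 q12500, e3 q12651 L200118 q12402, e3 q12652 L200132 q12392, e3 q12653 L200144 q12074, e3 q12654 (flp_c L204829) q13123, e3 q12655 (flp_c L204004) q13052, e3 q12656 L200174 q12079, e3 q12657 (flp_c L204962) q13134, e3 q12658 (flp_c L201058) q12751, e3 q12659 L200205 q12081, e3 q12660 (flp_c L204992) q13137, e3 q12661 (flp_c L204048) q13056, e3 q12662 L200235 q12084, e3 q12663 L200245 q12086, e3 q12664 (flp_c L205013) q13139, e3 q12665 L200271 q12088, e3 q12666 (flp_c L205052) q13142, e3 q12667 L200291 q12090, e3 q12668 (flp_c L205083) q13145, e3 q12669 (flp_c L205006) q13138, e3 q12670 L200312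 q12092, e3 q12671 (flp_c L205118) q13149, trivial⟩ (by decide +kernel)

theorem ce_c_198 : ∀ r, r < 64 → sm gc (Qf (12672 + r)) = Qf (tab Gen.c (12672 + r)) :=
  edges_tab (sm gc) Qf (tab Gen.c) 12672 [(12672, 12116), (12673, 12796), (12674, 12095), (12675, 13153), (12676, 13154), (12677, 12122), (12678, 12799), (12679, 12099), (12680, 12101), (12681, 13159), (12682, 12345), (12683, 12340), (12684, 12104), (12685, 12129), (12686, 12947), (12687, 13060), (12688, 13103), (12689, 12111), (12690, 13164), (12691, 13110), (12692, 12114), (12693, 13095), (12694, 13168), (12695, 13151), (12696, 12261), (12697, 12260), (12698, 12119), (12699, 13174), (12700, 13100), (12701, 12121), (12702, 13177), (12703, 13156), (12704, 12718), (12705, 13116), (12706, 13115), (12707, 13179), (12708, 12132), (12709, 12823), (12710, 12134), (12711, 12337), (12712, 12139), (12713, 12141), (12714, 12254), (12715, 12961), (12716, 12146), (12717, 13182), (12718, 12704), (12719, 12150), (12720, 13184), (12721, 13183),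 (12722, 12152), (12723, 13187), (12724, 12154), (12725, 13189), (12726, 12166), (12727, 12167), (12728, 12158), (12729, 12157), (12730, 13195), (12731, 13194), (12732, 12160), (12733, 12890), (12734, 12894), (12735, 13035)]
    ⟨e3 q12672 L200330 q12116, e3 q12673 (flp_c L201514) q12796, e3 q12674 L200343 q12095, e3 q12675 (flp_c L205149) q13153, e3 q12676 L205153 q13154, e3 q12677 L200364 q12122, e3 q12678 (flp_c L201551) q12799, e3 q12679 L200374 q12099, e3 q12680 L200384 q12101, e3 q12681 (flp_c L205191) q13159, e3 q12682 L200412 q12345, e3 q12683 L200426 q12340, e3 q12684 L200434 q12104, e3 q12685 L200442 q12129, e3 q12686 (flp_c L202878) q12947, e3 q12687 (flp_c L204114) q13060, e3 q12688 (flp_c L204618) q13103, e3 q12689 L200472 q12111, e3 q12690 (flp_c L205255) q13164, e3 q12691 (flp_c L204689) q13110, e3 q12692 L200496 q12114, e3 q12693 (flp_c L204536) q13095, e3 q12694 L205293 q13168, e3 q12695 (flp_c L205135) q13151, e3 q12696 L200528 q12261, e3 q12697 L200538 q12260, e3 q12698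 L200548 q12119, e3 q12699 L205349 q13174, e3 q12700 (flp_c L204594) q13100, e3 q12701 (flp_c L200568) q12121, e3 q12702 (flp_c L205377) q13177, e3 q12703 (flp_c L205174) q13156, e3 q12704 (flp_c L200745) q12718, e3 q12705 (flp_c L204744) q13116, e3 q12706 (flp_c L204728) q13115, e3 q12707 L205391 q13179, e3 q12708 (flp_c L200626) q12132, e3 q12709 (flp_c L201796) q12823, e3 q12710 (flp_c L200646) q12134, e3 q12711 L200661 q12337, e3 q12712 L200676 q12139, e3 q12713 L200690 q12141, e3 q12714 L200704 q12254, e3 q12715 (flp_c L203022) q12961, e3 q12716 L200727 q12146, e3 q12717 (flp_c L205433) q13182, e3 q12718 L200745 q12704, e3 q12719 L200757 q12150, e3 q12720 (flp_c L205454) q13184, e3 q12721 (flp_c L205447) q13183, e3 q12722 L200788 q12152, e3 q12723 (flp_c L205486) q13187, e3 q12724 L200810 q12154, e3 q12725 (flp_c L205511) q13189, e3 q12726 L200832 q12166, e3 q12727 L200843 q12167, e3 q12728 L200851 q12158, e3 q12729 L200856 q12157, e3 q12730 (flp_c L205568) q13195, e3 q12731 (flp_c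 L205562) q13194, e3 q12732 L200870 q12160, e3 q12733 (flp_c L202418) q12890, e3 q12734 (flp_c L202458) q12894, e3 q12735 (flp_c L203767) q13035, trivial⟩ (by decide +kernel)

theorem ce_c_199 : ∀ r, r < 64 → sm gc (Qf (12736 + r)) = Qf (tab Gen.c (12736 + r)) :=
  edges_tab (sm gc) Qf (tab Gen.c) 12736 [(12736, 13078), (12737, 13029), (12738, 12165), (12739, 13203), (12740, 13191), (12741, 13193), (12742, 12169), (12743, 13013), (12744, 12175), (12745, 12177), (12746, 12494), (12747, 12997), (12748, 12328), (12749, 12329), (12750, 12330), (12751, 12658), (12752, 12188), (12753, 13209), (12754, 12190), (12755, 12766), (12756, 12192), (12757, 13211), (12758, 12194), (12759, 13086), (12760, 13083), (12761, 13024), (12762, 12322), (12763, 12323), (12764, 12203), (12765, 13215), (12766, 12755), (12767, 12205), (12768, 13218), (12769, 12207), (12770, 12210), (12771, 13220), (12772, 12212), (12773, 13223), (12774, 13219), (12775, 12214), (12776, 13226), (12777, 12931), (12778, 12216), (12779,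 13229), (12780, 12936), (12781, 12219), (12782, 12221), (12783, 13112), (12784, 13105), (12785, 12802), (12786, 13058), (12787, 13067), (12788, 12230), (12789, 12954), (12790, 12233), (12791, 12959), (12792, 12241), (12793, 13133), (12794, 12243), (12795, 13235), (12796, 12673), (12797, 12245), (12798, 13237), (12799, 12678)]
    ⟨e3 q12736 (flp_c L204340) q13078, e3 q12737 (flp_c L203695) q13029, e3 q12738 L200924 q12165, e3 q12739 (flp_c L205635) q13203, e3 q12740 (flp_c L205535) q13191, e3 q12741 (flp_c L205556) q13193, e3 q12742 L200956 q12169, e3 q12743 (flp_c L203488) q13013, e3 q12744 L200980 q12175, e3 q12745 L200990 q12177, e3 q12746 L201000 q12494, e3 q12747 (flp_c L203328) q12997, e3 q12748 L201022 q12328, e3 q12749 L201036 q12329, e3 q12750 L201046 q12330, e3 q12751 L201058 q12658, e3 q12752 L201067 q12188, e3 q12753 (flp_c L205701) q13209, e3 q12754 L201083 q12190, e3 q12755 (flp_c L201218) q12766, e3 q12756 L201104 q12192, e3 q12757 (flp_c L205719) q13211, e3 q12758 L201124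 q12194, e3 q12759 (flp_c L204429) q13086, e3 q12760 (flp_c L204401) q13083, e3 q12761 (flp_c L203624) q13024, e3 q12762 L201170 q12322, e3 q12763 L201180 q12323, e3 q12764 L201192 q12203, e3 q12765 (flp_c L205766) q13215, e3 q12766 L201218 q12755, e3 q12767 L201225 q12205, e3 q12768 (flp_c L205800) q13218, e3 q12769 L201245 q12207, e3 q12770 L201257 q12210, e3 q12771 (flp_c L205825) q13220, e3 q12772 L201283 q12212, e3 q12773 (flp_c L205868) q13223, e3 q12774 (flp_c L205814) q13219, e3 q12775 L201314 q12214, e3 q12776 (flp_c L205902) q13226, e3 q12777 (flp_c L202767) q12931, e3 q12778 L201339 q12216, e3 q12779 (flp_c L205927) q13229, e3 q12780 (flp_c L202799) q12936, e3 q12781 L201361 q12219, e3 q12782 L201369 q12221, e3 q12783 (flp_c L204707) q13112, e3 q12784 (flp_c L204637) q13105, e3 q12785 (flp_c L201569) q12802, e3 q12786 (flp_c L204080) q13058, e3 q12787 (flp_c L204206) q13067, e3 q12788 L201417 q12230, e3 q12789 (flp_c L202946) q12954, e3 q12790 L201443 q12233, e3 q12791 (flp_c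 L202994) q12959, e3 q12792 L201469 q12241, e3 q12793 (flp_c L204955) q13133, e3 q12794 L201486 q12243, e3 q12795 (flp_c L205970) q13235, e3 q12796 L201514 q12673, e3 q12797 L201525 q12245, e3 q12798 (flp_c L205998) q13237, e3 q12799 L201551 q12678, trivial⟩ (by decide +kernel)

theorem ce_c_200 : ∀ r, r < 64 → sm gc (Qf (12800 + r)) = Qf (tab Gen.c (12800 + r)) :=
  edges_tab (sm gc) Qf (tab Gen.c) 12800 [(12800, 12248), (12801, 12250), (12802, 12785), (12803, 12577), (12804, 12458), (12805, 12459), (12806, 12259), (12807, 13173), (12808, 13172), (12809, 13008), (12810, 12280), (12811, 12265), (12812, 13247), (12813, 12283), (12814, 12284), (12815, 12312), (12816, 12268), (12817, 13253), (12818, 13007), (12819, 12294), (12820, 12295), (12821, 12273), (12822, 13003), (12823, 12709), (12824, 12276), (12825, 13258), (12826, 13005), (12827, 13002), (12828, 12279), (12829, 13262), (12830, 13244), (12831, 13245), (12832, 12282), (12833, 13265), (12834, 13249), (12835, 13251), (12836, 12286),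 (12837, 12288), (12838, 13268), (12839, 13004), (12840, 13077), (12841, 12293), (12842, 13254), (12843, 13255), (12844, 12424), (12845, 12298), (12846, 13274), (12847, 12429), (12848, 13107), (12849, 12301), (12850, 13279), (12851, 12415), (12852, 12304), (12853, 12306), (12854, 13282), (12855, 13073), (12856, 13281), (12857, 12309), (12858, 13286), (12859, 13246), (12860, 12311), (12861, 13288), (12862, 13252), (12863, 12314)]
    ⟨e3 q12800 L201557 q12248, e3 q12801 L201563 q12250, e3 q12802 L201569 q12785, e3 q12803 L201583 q12577, e3 q12804 L201599 q12458, e3 q12805 L201609 q12459, e3 q12806 L201619 q12259, e3 q12807 (flp_c L205343) q13173, e3 q12808 (flp_c L205331) q13172, e3 q12809 (flp_c L203442) q13008, e3 q12810 L201666 q12280, e3 q12811 L201672 q12265, e3 q12812 (flp_c L206109) q13247, e3 q12813 L201696 q12283, e3 q12814 L201707 q12284, e3 q12815 L201717 q12312, e3 q12816 L201722 q12268, e3 q12817 (flp_c L206170) q13253, e3 q12818 (flp_c L203432) q13007, e3 q12819 L201750 q12294,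 e3 q12820 L201760 q12295, e3 q12821 L201766 q12273, e3 q12822 (flp_c L203398) q13003, e3 q12823 L201796 q12709, e3 q12824 L201802 q12276, e3 q12825 (flp_c L206224) q13258, e3 q12826 (flp_c L203420) q13005, e3 q12827 (flp_c L203390) q13002, e3 q12828 L201842 q12279, e3 q12829 (flp_c L206266) q13262, e3 q12830 (flp_c L206067) q13244, e3 q12831 (flp_c L206084) q13245, e3 q12832 L201872 q12282, e3 q12833 (flp_c L206292) q13265, e3 q12834 (flp_c L206137) q13249, e3 q12835 (flp_c L206158) q13251, e3 q12836 L201900 q12286, e3 q12837 L201908 q12288, e3 q12838 (flp_c L206316) q13268, e3 q12839 (flp_c L203408) q13004, e3 q12840 (flp_c L204328) q13077, e3 q12841 L201940 q12293, e3 q12842 (flp_c L206180) q13254, e3 q12843 (flp_c L206188) q13255, e3 q12844 L201965 q12424, e3 q12845 L201971 q12298, e3 q12846 (flp_c L206375) q13274, e3 q12847 L201997 q12429, e3 q12848 (flp_c L204653) q13107, e3 q12849 L202014 q12301, e3 q12850 (flp_c L206428) q13279, e3 q12851 L202032 q12415, e3 q12852 L202044 q12304,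 e3 q12853 L202054 q12306, e3 q12854 (flp_c L206465) q13282, e3 q12855 (flp_c L204288) q13073, e3 q12856 (flp_c L206458) q13281, e3 q12857 L202091 q12309, e3 q12858 (flp_c L206507) q13286, e3 q12859 (flp_c L206100) q13246, e3 q12860 L202114 q12311, e3 q12861 (flp_c L206521) q13288, e3 q12862 (flp_c L206164) q13252, e3 q12863 L202136 q12314, trivial⟩ (by decide +kernel)

theorem ce_c_201 : ∀ r, r < 64 → sm gc (Qf (12864 + r)) = Qf (tab Gen.c (12864 + r)) :=
  edges_tab (sm gc) Qf (tab Gen.c) 12864 [(12864, 12316), (12865, 12319), (12866, 13291), (12867, 13042), (12868, 13068), (12869, 12326), (12870, 13292), (12871, 13059), (12872, 13207), (12873, 12333), (12874, 13293), (12875, 13080), (12876, 12336), (12877, 13296), (12878, 13162), (12879, 12339), (12880, 13298), (12881, 13161), (12882, 12342), (12883, 12344), (12884, 13160), (12885, 12348), (12886, 13300), (12887, 13065), (12888, 13081), (12889, 12352), (12890, 12733), (12891, 12355), (12892, 12978), (12893, 12369), (12894, 12734), (12895,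 12364), (12896, 12385), (12897, 12386), (12898, 12376), (12899, 12375), (12900, 13308), (12901, 13306), (12902, 13307), (12903, 12378), (12904, 12909), (12905, 12910), (12906, 12399), (12907, 12381), (12908, 13317), (12909, 12904), (12910, 12905), (12911, 12644), (12912, 12384), (12913, 13322), (12914, 13303), (12915, 13305), (12916, 12388), (12917, 13180), (12918, 13131), (12919, 13128), (12920, 13032), (12921, 13028), (12922, 13188), (12923, 12397), (12924, 13330), (12925, 13331), (12926, 13125), (12927, 13316)]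
    ⟨e3 q12864 L202144 q12316, e3 q12865 L202152 q12319, e3 q12866 (flp_c L206540) q13291, e3 q12867 (flp_c L203875) q13042, e3 q12868 (flp_c L204224) q13068, e3 q12869 L202188 q12326, e3 q12870 (flp_c L206548) q13292, e3 q12871 (flp_c L204098) q13059, e3 q12872 (flp_c L205675) q13207, e3 q12873 L202234 q12333, e3 q12874 (flp_c L206560) q13293, e3 q12875 (flp_c L204364) q13080, e3 q12876 L202276 q12336, e3 q12877 (flp_c L206604) q13296, e3 q12878 (flp_c L205235) q13162, e3 q12879 L202306 q12339, e3 q12880 (flp_c L206624) q13298, e3 q12881 (flp_c L205223) q13161, e3 q12882 L202334 q12342, e3 q12883 L202346 q12344, e3 q12884 (flp_c L205207) q13160, e3 q12885 L202362 q12348, e3 q12886 (flp_c L206646) q13300, e3 q12887 (flp_c L204176) q13065, e3 q12888 (flp_c L204376) q13081, e3 q12889 L202406 q12352, e3 q12890 L202418 q12733, e3 q12891 L202426 q12355, e3 q12892 (flp_c L203176) q12978, e3 q12893 L202446 q12369, e3 q12894 L202458 q12734, e3 q12895 L202472 q12364, e3 q12896 L202482 q12385, e3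 q12897 L202493 q12386, e3 q12898 L202501 q12376, e3 q12899 L202506 q12375, e3 q12900 (flp_c L206724) q13308, e3 q12901 (flp_c L206707) q13306, e3 q12902 (flp_c L206717) q13307, e3 q12903 L202531 q12378, e3 q12904 (flp_c L202581) q12909, e3 q12905 (flp_c L202597) q12910, e3 q12906 L202556 q12399, e3 q12907 L202563 q12381, e3 q12908 (flp_c L206787) q13317, e3 q12909 L202581 q12904, e3 q12910 L202597 q12905, e3 q12911 L202609 q12644, e3 q12912 L202617 q12384, e3 q12913 (flp_c L206845) q13322, e3 q12914 (flp_c L206686) q13303, e3 q12915 (flp_c L206701) q13305, e3 q12916 L202657 q12388, e3 q12917 (flp_c L205412) q13180, e3 q12918 (flp_c L204925) q13131, e3 q12919 (flp_c L204889) q13128, e3 q12920 (flp_c L203731) q13032, e3 q12921 (flp_c L203679) q13028, e3 q12922 (flp_c L205502) q13188, e3 q12923 L202710 q12397, e3 q12924 (flp_c L206906) q13330, e3 q12925 L206912 q13331, e3 q12926 (flp_c L204859) q13125, e3 q12927 (flp_c L206779) q13316, trivial⟩ (by decide +kernel)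

theorem ce_c_202 : ∀ r, r < 64 → sm gc (Qf (12928 + r)) = Qf (tab Gen.c (12928 + r)) :=
  edges_tab (sm gc) Qf (tab Gen.c) 12928 [(12928, 12401), (12929, 13130), (12930, 12425), (12931, 12777), (12932, 12406), (12933, 13340), (12934, 12970), (12935, 12431), (12936, 12780), (12937, 12623), (12938, 12410), (12939, 12435), (12940, 12416), (12941, 12417), (12942, 12418), (12943, 13280), (12944, 13277), (12945, 13347), (12946, 13348), (12947, 12686), (12948, 12421), (12949, 13353), (12950, 12423), (12951, 13272), (12952, 12965), (12953, 13337), (12954, 12789), (12955, 12428), (12956, 12969), (12957, 12971), (12958, 13342), (12959, 12791), (12960, 12964), (12961, 12715), (12962, 12442), (12963, 13360), (12964, 12960), (12965, 12952), (12966, 12468), (12967, 12445), (12968, 13365), (12969, 12956), (12970, 12934), (12971, 12957), (12972, 12471), (12973, 12450), (12974, 12452), (12975, 13372), (12976, 12491), (12977, 12493), (12978, 12892), (12979, 12457), (12980, 13240), (12981, 13241), (12982,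 12465), (12983, 12462), (12984, 13378), (12985, 13014), (12986, 12464), (12987, 13380), (12988, 13377), (12989, 12467), (12990, 13364), (12991, 13273)]
    ⟨e3 q12928 L202745 q12401, e3 q12929 (flp_c L204909) q13130, e3 q12930 L202759 q12425, e3 q12931 L202767 q12777, e3 q12932 L202772 q12406, e3 q12933 (flp_c L206974) q13340, e3 q12934 (flp_c L203103) q12970, e3 q12935 L202793 q12431, e3 q12936 L202799 q12780, e3 q12937 L202805 q12623, e3 q12938 L202812 q12410, e3 q12939 L202820 q12435, e3 q12940 L202824 q12416, e3 q12941 L202830 q12417, e3 q12942 L202838 q12418, e3 q12943 (flp_c L206440) q13280, e3 q12944 (flp_c L206412) q13277, e3 q12945 (flp_c L207022) q13347, e3 q12946 (flp_c L207030) q13348, e3 q12947 L202878 q12686, e3 q12948 L202890 q12421, e3 q12949 (flp_c L207078) q13353, e3 q12950 L202910 q12423, e3 q12951 (flp_c L206350) q13272, e3 q12952 (flp_c L203062) q12965, e3 q12953 (flp_c L206955) q13337, e3 q12954 L202946 q12789, e3 q12955 L202958 q12428, e3 q12956 (flp_c L203095) q12969,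 e3 q12957 (flp_c L203110) q12971, e3 q12958 (flp_c L206988) q13342, e3 q12959 L202994 q12791, e3 q12960 (flp_c L203051) q12964, e3 q12961 L203022 q12715, e3 q12962 L203029 q12442, e3 q12963 (flp_c L207152) q13360, e3 q12964 L203051 q12960, e3 q12965 L203062 q12952, e3 q12966 L203072 q12468, e3 q12967 L203077 q12445, e3 q12968 (flp_c L207199) q13365, e3 q12969 L203095 q12956, e3 q12970 L203103 q12934, e3 q12971 L203110 q12957, e3 q12972 L203116 q12471, e3 q12973 L203122 q12450, e3 q12974 L203128 q12452, e3 q12975 (flp_c L207253) q13372, e3 q12976 L203152 q12491, e3 q12977 L203164 q12493, e3 q12978 L203176 q12892, e3 q12979 L203184 q12457, e3 q12980 (flp_c L206025) q13240, e3 q12981 (flp_c L206035) q13241, e3 q12982 L203210 q12465, e3 q12983 L203221 q12462, e3 q12984 (flp_c L207323) q13378, e3 q12985 (flp_c L203503) q13014, e3 q12986 L203248 q12464, e3 q12987 (flp_c L207339) q13380, e3 q12988 (flp_c L207311) q13377, e3 q12989 L203270 q12467, e3 q12990 (flp_c L207191) q13364, e3 q12991 (flp_c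 L206366) q13273, trivial⟩ (by decide +kernel)

theorem ce_c_203 : ∀ r, r < 64 → sm gc (Qf (12992 + r)) = Qf (tab Gen.c (12992 + r)) :=
  edges_tab (sm gc) Qf (tab Gen.c) 12992 [(12992, 12470), (12993, 13370), (12994, 13371), (12995, 12475), (12996, 12477), (12997, 12747), (12998, 12563), (12999, 12481), (13000, 13061), (13001, 12564), (13002, 12827), (13003, 12822), (13004, 12839), (13005, 12826), (13006, 13076), (13007, 12818), (13008, 12809), (13009, 13373), (13010, 13124), (13011, 13374), (13012, 12551), (13013, 12743), (13014, 12985), (13015, 12504), (13016, 13397), (13017, 12518), (13018, 12508), (13019, 12507), (13020, 13401), (13021, 13400), (13022, 13096), (13023, 12510), (13024, 12761), (13025, 12541), (13026, 12513), (13027, 13408), (13028, 12921), (13029, 12737), (13030, 12516), (13031, 13412), (13032, 12920), (13033, 13399), (13034, 12520), (13035, 12735), (13036, 12524), (13037, 12619), (13038, 12526), (13039, 13416), (13040, 12528), (13041, 12530), (13042, 12867), (13043,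 12627), (13044, 12609), (13045, 13222), (13046, 12537), (13047, 13419), (13048, 12595), (13049, 12539), (13050, 13421), (13051, 13144), (13052, 12655), (13053, 13407), (13054, 12543), (13055, 12545)]
    ⟨e3 q12992 L203289 q12470, e3 q12993 (flp_c L207242) q13370, e3 q12994 (flp_c L207247) q13371, e3 q12995 L203306 q12475, e3 q12996 L203316 q12477, e3 q12997 L203328 q12747, e3 q12998 L203342 q12563, e3 q12999 L203352 q12481, e3 q13000 (flp_c L204128) q13061, e3 q13001 L203374 q12564, e3 q13002 L203390 q12827, e3 q13003 L203398 q12822, e3 q13004 L203408 q12839, e3 q13005 L203420 q12826, e3 q13006 (flp_c L204314) q13076, e3 q13007 L203432 q12818, e3 q13008 L203442 q12809, e3 q13009 (flp_c L207267) q13373, e3 q13010 (flp_c L204845) q13124, e3 q13011 (flp_c L207279) q13374, e3 q13012 L203472 q12551, e3 q13013 L203488 q12743, e3 q13014 L203503 q12985, e3 q13015 L203514 q12504, e3 q13016 (flp_c L207493) q13397, e3 q13017 L203544 q12518, e3 q13018 L203560 q12508, e3 q13019 L203567 q12507, e3 q13020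 (flp_c L207544) q13401, e3 q13021 (flp_c L207534) q13400, e3 q13022 (flp_c L204550) q13096, e3 q13023 L203612 q12510, e3 q13024 L203624 q12761, e3 q13025 L203640 q12541, e3 q13026 L203649 q12513, e3 q13027 (flp_c L207620) q13408, e3 q13028 L203679 q12921, e3 q13029 L203695 q12737, e3 q13030 L203703 q12516, e3 q13031 (flp_c L207676) q13412, e3 q13032 L203731 q12920, e3 q13033 (flp_c L207522) q13399, e3 q13034 L203753 q12520, e3 q13035 L203767 q12735, e3 q13036 L203782 q12524, e3 q13037 L203802 q12619, e3 q13038 L203813 q12526, e3 q13039 (flp_c L207732) q13416, e3 q13040 L203843 q12528, e3 q13041 L203859 q12530, e3 q13042 L203875 q12867, e3 q13043 L203893 q12627, e3 q13044 L203909 q12609, e3 q13045 (flp_c L205857) q13222, e3 q13046 L203932 q12537, e3 q13047 (flp_c L207772) q13419, e3 q13048 L203958 q12595, e3 q13049 L203967 q12539, e3 q13050 (flp_c L207796) q13421, e3 q13051 (flp_c L205076) q13144, e3 q13052 L204004 q12655, e3 q13053 (flp_c L207608) q13407, e3 q13054 L204022 q12543, e3 q13055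 L204032 q12545, trivial⟩ (by decide +kernel)

theorem ce_c_204 : ∀ r, r < 64 → sm gc (Qf (13056 + r)) = Qf (tab Gen.c (13056 + r)) :=
  edges_tab (sm gc) Qf (tab Gen.c) 13056 [(13056, 12661), (13057, 12550), (13058, 12786), (13059, 12871), (13060, 12687), (13061, 13000), (13062, 13388), (13063, 12566), (13064, 12600), (13065, 12887), (13066, 12605), (13067, 12787), (13068, 12868), (13069, 13214), (13070, 12581), (13071, 13429), (13072, 13141), (13073, 12855), (13074, 12625), (13075, 12585), (13076, 13006), (13077, 12840), (13078, 12736), (13079, 12589), (13080, 12875), (13081, 12888), (13082, 13109), (13083, 12760), (13084, 13420), (13085, 12597), (13086, 12759), (13087, 13426), (13088, 12602), (13089, 13441), (13090, 12604), (13091, 12614), (13092, 12608), (13093, 13443), (13094, 13417), (13095, 12693), (13096, 13022), (13097, 12612), (13098, 13447), (13099, 13448), (13100, 12700), (13101, 13442), (13102, 12616), (13103, 12688), (13104, 13346), (13105, 12784), (13106, 13415), (13107, 12848),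 (13108, 12621), (13109, 13082), (13110, 12691), (13111, 13345), (13112, 12783), (13113, 13432), (13114, 13433), (13115, 12706), (13116, 12705), (13117, 13121), (13118, 12634), (13119, 13192)]
    ⟨e3 q13056 L204048 q12661, e3 q13057 L204064 q12550, e3 q13058 L204080 q12786, e3 q13059 L204098 q12871, e3 q13060 L204114 q12687, e3 q13061 L204128 q13000, e3 q13062 (flp_c L207397) q13388, e3 q13063 L204152 q12566, e3 q13064 L204166 q12600, e3 q13065 L204176 q12887, e3 q13066 L204190 q12605, e3 q13067 L204206 q12787, e3 q13068 L204224 q12868, e3 q13069 (flp_c L205759) q13214, e3 q13070 L204253 q12581, e3 q13071 (flp_c L207886) q13429, e3 q13072 (flp_c L205041) q13141, e3 q13073 L204288 q12855, e3 q13074 L204298 q12625, e3 q13075 L204306 q12585, e3 q13076 L204314 q13006, e3 q13077 L204328 q12840, e3 q13078 L204340 q12736, e3 q13079 L204352 q12589, e3 q13080 L204364 q12875, e3 q13081 L204376 q12888, e3 q13082 (flp_c L204678) q13109, e3 q13083 L204401 q12760, e3 q13084 (flp_c L207784) q13420, e3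 q13085 L204415 q12597, e3 q13086 L204429 q12759, e3 q13087 (flp_c L207849) q13426, e3 q13088 L204457 q12602, e3 q13089 (flp_c L208016) q13441, e3 q13090 L204485 q12604, e3 q13091 L204497 q12614, e3 q13092 L204504 q12608, e3 q13093 (flp_c L208038) q13443, e3 q13094 (flp_c L207748) q13417, e3 q13095 L204536 q12693, e3 q13096 L204550 q13022, e3 q13097 L204557 q12612, e3 q13098 (flp_c L208083) q13447, e3 q13099 L208093 q13448, e3 q13100 L204594 q12700, e3 q13101 (flp_c L208028) q13442, e3 q13102 L204606 q12616, e3 q13103 L204618 q12688, e3 q13104 (flp_c L207015) q13346, e3 q13105 L204637 q12784, e3 q13106 (flp_c L207718) q13415, e3 q13107 L204653 q12848, e3 q13108 L204664 q12621, e3 q13109 L204678 q13082, e3 q13110 L204689 q12691, e3 q13111 (flp_c L207005) q13345, e3 q13112 L204707 q12783, e3 q13113 (flp_c L207920) q13432, e3 q13114 (flp_c L207927) q13433, e3 q13115 L204728 q12706, e3 q13116 L204744 q12705, e3 q13117 (flp_c L204805) q13121, e3 q13118 L204768 q12634, e3 q13119 (flp_c L205547)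 q13192, trivial⟩ (by decide +kernel)

theorem ce_c_205 : ∀ r, r < 64 → sm gc (Qf (13120 + r)) = Qf (tab Gen.c (13120 + r)) :=
  edges_tab (sm gc) Qf (tab Gen.c) 13120 [(13120, 12648), (13121, 13117), (13122, 12639), (13123, 12654), (13124, 13010), (13125, 12926), (13126, 13321), (13127, 12646), (13128, 12919), (13129, 13469), (13130, 12929), (13131, 12918), (13132, 13423), (13133, 12793), (13134, 12657), (13135, 13476), (13136, 13208), (13137, 12660), (13138, 12669), (13139, 12664), (13140, 13480), (13141, 13072), (13142, 12666), (13143, 13482), (13144, 13051), (13145, 12668), (13146, 13484), (13147, 13479), (13148, 13250), (13149, 12671), (13150, 13489), (13151, 12695), (13152, 13236), (13153, 12675), (13154, 12676), (13155, 13494), (13156, 12703), (13157, 13238), (13158, 13239), (13159, 12681), (13160, 12884), (13161, 12881), (13162, 12878), (13163, 13454), (13164, 12690), (13165, 13462), (13166, 13501), (13167, 13445), (13168, 12694), (13169, 13505), (13170, 13257), (13171, 13491), (13172,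 12808), (13173, 12807), (13174, 12699), (13175, 13509), (13176, 13450), (13177, 12702), (13178, 13511), (13179, 12707), (13180, 12917), (13181, 13359), (13182, 12717), (13183, 12721)]
    ⟨e3 q13120 L204795 q12648, e3 q13121 L204805 q13117, e3 q13122 L204815 q12639, e3 q13123 L204829 q12654, e3 q13124 L204845 q13010, e3 q13125 L204859 q12926, e3 q13126 (flp_c L206835) q13321, e3 q13127 L204875 q12646, e3 q13128 L204889 q12919, e3 q13129 (flp_c L208302) q13469, e3 q13130 L204909 q12929, e3 q13131 L204925 q12918, e3 q13132 (flp_c L207820) q13423, e3 q13133 L204955 q12793, e3 q13134 L204962 q12657, e3 q13135 (flp_c L208383) q13476, e3 q13136 (flp_c L205691) q13208, e3 q13137 L204992 q12660, e3 q13138 L205006 q12669, e3 q13139 L205013 q12664, e3 q13140 (flp_c L208418) q13480, e3 q13141 L205041 q13072, e3 q13142 L205052 q12666, e3 q13143 (flp_c L208446) q13482, e3 q13144 L205076 q13051, e3 q13145 L205083 q12668, e3 q13146 (flp_c L208468) q13484, e3 q13147 (flp_c L208408) q13479, e3 q13148 (flp_c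 L206149) q13250, e3 q13149 L205118 q12671, e3 q13150 L208504 q13489, e3 q13151 L205135 q12695, e3 q13152 (flp_c L205984) q13236, e3 q13153 L205149 q12675, e3 q13154 (flp_c L205153) q12676, e3 q13155 (flp_c L208548) q13494, e3 q13156 L205174 q12703, e3 q13157 (flp_c L206010) q13238, e3 q13158 (flp_c L206015) q13239, e3 q13159 L205191 q12681, e3 q13160 L205207 q12884, e3 q13161 L205223 q12881, e3 q13162 L205235 q12878, e3 q13163 (flp_c L208156) q13454, e3 q13164 L205255 q12690, e3 q13165 (flp_c L208234) q13462, e3 q13166 L208613 q13501, e3 q13167 (flp_c L208063) q13445, e3 q13168 (flp_c L205293) q12694, e3 q13169 (flp_c L208663) q13505, e3 q13170 (flp_c L206212) q13257, e3 q13171 (flp_c L208527) q13491, e3 q13172 L205331 q12808, e3 q13173 L205343 q12807, e3 q13174 (flp_c L205349) q12699, e3 q13175 (flp_c L208703) q13509, e3 q13176 (flp_c L208120) q13450, e3 q13177 L205377 q12702, e3 q13178 (flp_c L208721) q13511, e3 q13179 (flp_c L205391) q12707, e3 q13180 L205412 q12917, e3 q13181 (flp_c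 L207144) q13359, e3 q13182 L205433 q12717, e3 q13183 L205447 q12721, trivial⟩ (by decide +kernel)

theorem ce_c_206 : ∀ r, r < 64 → sm gc (Qf (13184 + r)) = Qf (tab Gen.c (13184 + r)) :=
  edges_tab (sm gc) Qf (tab Gen.c) 13184 [(13184, 12720), (13185, 13515), (13186, 13514), (13187, 12723), (13188, 12922), (13189, 12725), (13190, 13519), (13191, 12740), (13192, 13119), (13193, 12741), (13194, 12731), (13195, 12730), (13196, 13523), (13197, 13524), (13198, 13301), (13199, 13411), (13200, 13390), (13201, 13435), (13202, 13410), (13203, 12739), (13204, 13520), (13205, 13522), (13206, 13387), (13207, 12872), (13208, 13136), (13209, 12753), (13210, 13217), (13211, 12757), (13212, 13438), (13213, 13406), (13214, 13069), (13215, 12765), (13216, 13538), (13217, 13210), (13218, 12768), (13219, 12774), (13220, 12771), (13221, 13542), (13222, 13045), (13223, 12773), (13224, 13544), (13225, 13541), (13226, 12776), (13227, 13338), (13228, 13339), (13229, 12779), (13230, 13343), (13231, 13344), (13232,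 13457), (13233, 13357), (13234, 13475), (13235, 12795), (13236, 13152), (13237, 12798), (13238, 13157), (13239, 13158), (13240, 12980), (13241, 12981), (13242, 13508), (13243, 13394), (13244, 12830), (13245, 12831), (13246, 12859), (13247, 12812)]
    ⟨e3 q13184 L205454 q12720, e3 q13185 (flp_c L208758) q13515, e3 q13186 (flp_c L208748) q13514, e3 q13187 L205486 q12723, e3 q13188 L205502 q12922, e3 q13189 L205511 q12725, e3 q13190 (flp_c L208799) q13519, e3 q13191 L205535 q12740, e3 q13192 L205547 q13119, e3 q13193 L205556 q12741, e3 q13194 L205562 q12731, e3 q13195 L205568 q12730, e3 q13196 (flp_c L208839) q13523, e3 q13197 (flp_c L208844) q13524, e3 q13198 (flp_c L206660) q13301, e3 q13199 (flp_c L207662) q13411, e3 q13200 (flp_c L207423) q13390, e3 q13201 (flp_c L207951) q13435, e3 q13202 (flp_c L207648) q13410, e3 q13203 L205635 q12739, e3 q13204 (flp_c L208813) q13520, e3 q13205 (flp_c L208831) q13522, e3 q13206 (flp_c L207383) q13387, e3 q13207 L205675 q12872, e3 q13208 L205691 q13136,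 e3 q13209 L205701 q12753, e3 q13210 (flp_c L205792) q13217, e3 q13211 L205719 q12757, e3 q13212 (flp_c L207987) q13438, e3 q13213 (flp_c L207596) q13406, e3 q13214 L205759 q13069, e3 q13215 L205766 q12765, e3 q13216 (flp_c L208979) q13538, e3 q13217 L205792 q13210, e3 q13218 L205800 q12768, e3 q13219 L205814 q12774, e3 q13220 L205825 q12771, e3 q13221 (flp_c L209026) q13542, e3 q13222 L205857 q13045, e3 q13223 L205868 q12773, e3 q13224 (flp_c L209054) q13544, e3 q13225 (flp_c L209012) q13541, e3 q13226 L205902 q12776, e3 q13227 (flp_c L206961) q13338, e3 q13228 (flp_c L206969) q13339, e3 q13229 L205927 q12779, e3 q13230 (flp_c L206994) q13343, e3 q13231 (flp_c L206999) q13344, e3 q13232 (flp_c L208187) q13457, e3 q13233 (flp_c L207118) q13357, e3 q13234 (flp_c L208373) q13475, e3 q13235 L205970 q12795, e3 q13236 L205984 q13152, e3 q13237 L205998 q12798, e3 q13238 L206010 q13157, e3 q13239 L206015 q13158, e3 q13240 L206025 q12980, e3 q13241 L206035 q12981, e3 q13242 (flp_c L208691) q13508,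 e3 q13243 (flp_c L207461) q13394, e3 q13244 L206067 q12830, e3 q13245 L206084 q12831, e3 q13246 L206100 q12859, e3 q13247 L206109 q12812, trivial⟩ (by decide +kernel)

theorem ce_c_207 : ∀ r, r < 64 → sm gc (Qf (13248 + r)) = Qf (tab Gen.c (13248 + r)) :=
  edges_tab (sm gc) Qf (tab Gen.c) 13248 [(13248, 13561), (13249, 12834), (13250, 13148), (13251, 12835), (13252, 12862), (13253, 12817), (13254, 12842), (13255, 12843), (13256, 13391), (13257, 13170), (13258, 12825), (13259, 13569), (13260, 13393), (13261, 13389), (13262, 12829), (13263, 13557), (13264, 13559), (13265, 12833), (13266, 13562), (13267, 13564), (13268, 12838), (13269, 13392), (13270, 13434), (13271, 13567), (13272, 12951), (13273, 12991), (13274, 12846), (13275, 13578), (13276, 13366), (13277, 12944), (13278, 13460), (13279, 12850), (13280, 12943), (13281, 12856), (13282, 12854), (13283, 13584), (13284, 13431), (13285, 13583), (13286, 12858), (13287, 13560), (13288, 12861), (13289, 13565), (13290, 13566), (13291, 12866),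 (13292, 12870), (13293, 12874), (13294, 13590), (13295, 13436), (13296, 12877), (13297, 13499), (13298, 12880), (13299, 13498), (13300, 12886), (13301, 13198), (13302, 13375), (13303, 12914), (13304, 13398), (13305, 12915), (13306, 12901), (13307, 12902), (13308, 12900), (13309, 13597), (13310, 13598), (13311, 13599)]
    ⟨e3 q13248 (flp_c L209225) q13561, e3 q13249 L206137 q12834, e3 q13250 L206149 q13148, e3 q13251 L206158 q12835, e3 q13252 L206164 q12862, e3 q13253 L206170 q12817, e3 q13254 L206180 q12842, e3 q13255 L206188 q12843, e3 q13256 (flp_c L207431) q13391, e3 q13257 L206212 q13170, e3 q13258 L206224 q12825, e3 q13259 (flp_c L209302) q13569, e3 q13260 (flp_c L207453) q13393, e3 q13261 (flp_c L207411) q13389, e3 q13262 L206266 q12829, e3 q13263 (flp_c L209176) q13557, e3 q13264 (flp_c L209201) q13559, e3 q13265 L206292 q12833, e3 q13266 (flp_c L209239) q13562, e3 q13267 (flp_c L209257) q13564, e3 q13268 L206316 q12838, e3 q13269 (flp_c L207441) q13392, e3 q13270 (flp_c L207937)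 q13434, e3 q13271 (flp_c L209280) q13567, e3 q13272 L206350 q12951, e3 q13273 L206366 q12991, e3 q13274 L206375 q12846, e3 q13275 (flp_c L209401) q13578, e3 q13276 (flp_c L207211) q13366, e3 q13277 L206412 q12944, e3 q13278 (flp_c L208208) q13460, e3 q13279 L206428 q12850, e3 q13280 L206440 q12943, e3 q13281 L206458 q12856, e3 q13282 L206465 q12854, e3 q13283 (flp_c L209460) q13584, e3 q13284 (flp_c L207910) q13431, e3 q13285 (flp_c L209450) q13583, e3 q13286 L206507 q12858, e3 q13287 (flp_c L209213) q13560, e3 q13288 L206521 q12861, e3 q13289 (flp_c L209265) q13565, e3 q13290 (flp_c L209270) q13566, e3 q13291 L206540 q12866, e3 q13292 L206548 q12870, e3 q13293 L206560 q12874, e3 q13294 (flp_c L209502) q13590, e3 q13295 (flp_c L207963) q13436, e3 q13296 L206604 q12877, e3 q13297 (flp_c L208593) q13499, e3 q13298 L206624 q12880, e3 q13299 (flp_c L208579) q13498, e3 q13300 L206646 q12886, e3 q13301 L206660 q13198, e3 q13302 (flp_c L207291) q13375, e3 q13303 L206686 q12914, e3 q13304 (flp_c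 L207513) q13398, e3 q13305 L206701 q12915, e3 q13306 L206707 q12901, e3 q13307 L206717 q12902, e3 q13308 L206724 q12900, e3 q13309 (flp_c L209580) q13597, e3 q13310 (flp_c L209587) q13598, e3 q13311 (flp_c L209597) q13599, trivial⟩ (by decide +kernel)

theorem ce_c_208 : ∀ r, r < 64 → sm gc (Qf (13312 + r)) = Qf (tab Gen.c (13312 + r)) :=
  edges_tab (sm gc) Qf (tab Gen.c) 13312 [(13312, 13592), (13313, 13318), (13314, 13606), (13315, 13320), (13316, 12927), (13317, 12908), (13318, 13313), (13319, 13503), (13320, 13315), (13321, 13126), (13322, 12913), (13323, 13593), (13324, 13596), (13325, 13474), (13326, 13413), (13327, 13617), (13328, 13409), (13329, 13518), (13330, 12924), (13331, 12925), (13332, 13622), (13333, 13472), (13334, 13609), (13335, 13610), (13336, 13362), (13337, 12953), (13338, 13227), (13339, 13228), (13340, 12933), (13341, 13368), (13342, 12958), (13343, 13230), (13344, 13231), (13345, 13111), (13346, 13104), (13347, 12945), (13348, 12946), (13349, 13580), (13350, 13367),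 (13351, 13576), (13352, 13638), (13353, 12949), (13354, 13361), (13355, 13363), (13356, 13628), (13357, 13233), (13358, 13369), (13359, 13181), (13360, 12963), (13361, 13354), (13362, 13336), (13363, 13355), (13364, 12990), (13365, 12968), (13366, 13276), (13367, 13350), (13368, 13341), (13369, 13358), (13370, 12993), (13371, 12994), (13372, 12975), (13373, 13009), (13374, 13011), (13375, 13302)]
    ⟨e3 q13312 (flp_c L209532) q13592, e3 q13313 (flp_c L206799) q13318, e3 q13314 L209653 q13606, e3 q13315 (flp_c L206823) q13320, e3 q13316 L206779 q12927, e3 q13317 L206787 q12908, e3 q13318 L206799 q13313, e3 q13319 (flp_c L208643) q13503, e3 q13320 L206823 q13315, e3 q13321 L206835 q13126, e3 q13322 L206845 q12913, e3 q13323 (flp_c L209543) q13593, e3 q13324 (flp_c L209574) q13596, e3 q13325 (flp_c L208361) q13474, e3 q13326 (flp_c L207692) q13413, e3 q13327 L209765 q13617, e3 q13328 (flp_c L207636) q13409, e3 q13329 (flp_c L208787) q13518, e3 q13330 L206906 q12924, e3 q13331 (flp_c L206912)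 q12925, e3 q13332 (flp_c L209813) q13622, e3 q13333 (flp_c L208339) q13472, e3 q13334 (flp_c L209686) q13609, e3 q13335 (flp_c L209695) q13610, e3 q13336 (flp_c L207176) q13362, e3 q13337 L206955 q12953, e3 q13338 L206961 q13227, e3 q13339 L206969 q13228, e3 q13340 L206974 q12933, e3 q13341 (flp_c L207228) q13368, e3 q13342 L206988 q12958, e3 q13343 L206994 q13230, e3 q13344 L206999 q13231, e3 q13345 L207005 q13111, e3 q13346 L207015 q13104, e3 q13347 L207022 q12945, e3 q13348 L207030 q12946, e3 q13349 (flp_c L209425) q13580, e3 q13350 (flp_c L207220) q13367, e3 q13351 (flp_c L209377) q13576, e3 q13352 (flp_c L209934) q13638, e3 q13353 L207078 q12949, e3 q13354 (flp_c L207164) q13361, e3 q13355 (flp_c L207183) q13363, e3 q13356 (flp_c L209863) q13628, e3 q13357 L207118 q13233, e3 q13358 (flp_c L207236) q13369, e3 q13359 L207144 q13181, e3 q13360 L207152 q12963, e3 q13361 L207164 q13354, e3 q13362 L207176 q13336, e3 q13363 L207183 q13355, e3 q13364 L207191 q12990, e3 q13365 L207199 q12968,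 e3 q13366 L207211 q13276, e3 q13367 L207220 q13350, e3 q13368 L207228 q13341, e3 q13369 L207236 q13358, e3 q13370 L207242 q12993, e3 q13371 L207247 q12994, e3 q13372 L207253 q12975, e3 q13373 L207267 q13009, e3 q13374 L207279 q13011, e3 q13375 L207291 q13302, trivial⟩ (by decide +kernel)

theorem ce_c_209 : ∀ r, r < 64 → sm gc (Qf (13376 + r)) = Qf (tab Gen.c (13376 + r)) :=
  edges_tab (sm gc) Qf (tab Gen.c) 13376 [(13376, 13556), (13377, 12988), (13378, 12984), (13379, 13396), (13380, 12987), (13381, 13656), (13382, 13657), (13383, 13648), (13384, 13649), (13385, 13577), (13386, 13654), (13387, 13206), (13388, 13062), (13389, 13261), (13390, 13200), (13391, 13256), (13392, 13269), (13393, 13260), (13394, 13243), (13395, 13655), (13396, 13379), (13397, 13016), (13398, 13304), (13399, 13033), (13400, 13021), (13401, 13020), (13402, 13672), (13403, 13673), (13404, 13446), (13405, 13453), (13406, 13213), (13407, 13053), (13408, 13027), (13409, 13328), (13410, 13202), (13411, 13199), (13412,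 13031), (13413, 13326), (13414, 13671), (13415, 13106), (13416, 13039), (13417, 13094), (13418, 13543), (13419, 13047), (13420, 13084), (13421, 13050), (13422, 13483), (13423, 13132), (13424, 13679), (13425, 13680), (13426, 13087), (13427, 13536), (13428, 13537), (13429, 13071), (13430, 13481), (13431, 13284), (13432, 13113), (13433, 13114), (13434, 13270), (13435, 13201), (13436, 13295), (13437, 13461), (13438, 13212), (13439, 13689)]
    ⟨e3 q13376 (flp_c L209162) q13556, e3 q13377 L207311 q12988, e3 q13378 L207323 q12984, e3 q13379 (flp_c L207479) q13396, e3 q13380 L207339 q12987, e3 q13381 (flp_c L210109) q13656, e3 q13382 (flp_c L210122) q13657, e3 q13383 (flp_c L210037) q13648, e3 q13384 (flp_c L210044) q13649, e3 q13385 (flp_c L209389) q13577, e3 q13386 (flp_c L210085) q13654, e3 q13387 L207383 q13206, e3 q13388 L207397 q13062, e3 q13389 L207411 q13261, e3 q13390 L207423 q13200, e3 q13391 L207431 q13256, e3 q13392 L207441 q13269, e3 q13393 L207453 q13260, e3 q13394 L207461 q13243,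 e3 q13395 (flp_c L210093) q13655, e3 q13396 L207479 q13379, e3 q13397 L207493 q13016, e3 q13398 L207513 q13304, e3 q13399 L207522 q13033, e3 q13400 L207534 q13021, e3 q13401 L207544 q13020, e3 q13402 (flp_c L210266) q13672, e3 q13403 (flp_c L210277) q13673, e3 q13404 (flp_c L208073) q13446, e3 q13405 (flp_c L208147) q13453, e3 q13406 L207596 q13213, e3 q13407 L207608 q13053, e3 q13408 L207620 q13027, e3 q13409 L207636 q13328, e3 q13410 L207648 q13202, e3 q13411 L207662 q13199, e3 q13412 L207676 q13031, e3 q13413 L207692 q13326, e3 q13414 (flp_c L210252) q13671, e3 q13415 L207718 q13106, e3 q13416 L207732 q13039, e3 q13417 L207748 q13094, e3 q13418 (flp_c L209040) q13543, e3 q13419 L207772 q13047, e3 q13420 L207784 q13084, e3 q13421 L207796 q13050, e3 q13422 (flp_c L208458) q13483, e3 q13423 L207820 q13132, e3 q13424 (flp_c L210348) q13679, e3 q13425 (flp_c L210361) q13680, e3 q13426 L207849 q13087, e3 q13427 (flp_c L208958) q13536, e3 q13428 (flp_c L208968) q13537, e3 q13429 L207886 q13071,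 e3 q13430 (flp_c L208434) q13481, e3 q13431 L207910 q13284, e3 q13432 L207920 q13113, e3 q13433 L207927 q13114, e3 q13434 L207937 q13270, e3 q13435 L207951 q13201, e3 q13436 L207963 q13295, e3 q13437 (flp_c L208222) q13461, e3 q13438 L207987 q13212, e3 q13439 (flp_c L210493) q13689, trivial⟩ (by decide +kernel)

theorem ce_c_210 : ∀ r, r < 64 → sm gc (Qf (13440 + r)) = Qf (tab Gen.c (13440 + r)) :=
  edges_tab (sm gc) Qf (tab Gen.c) 13440 [(13440, 13690), (13441, 13089), (13442, 13101), (13443, 13093), (13444, 13595), (13445, 13167), (13446, 13404), (13447, 13098), (13448, 13099), (13449, 13710), (13450, 13176), (13451, 13704), (13452, 13705), (13453, 13405), (13454, 13163), (13455, 13637), (13456, 13604), (13457, 13232), (13458, 13685), (13459, 13686), (13460, 13278), (13461, 13437), (13462, 13165), (13463, 13635), (13464, 13636), (13465, 13699), (13466, 13470), (13467, 13471), (13468, 13521), (13469, 13129), (13470, 13466), (13471, 13467), (13472, 13333), (13473, 13614), (13474, 13325),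 (13475, 13234), (13476, 13135), (13477, 13531), (13478, 13532), (13479, 13147), (13480, 13140), (13481, 13430), (13482, 13143), (13483, 13422), (13484, 13146), (13485, 13733), (13486, 13734), (13487, 13563), (13488, 13558), (13489, 13150), (13490, 13743), (13491, 13171), (13492, 13553), (13493, 13554), (13494, 13155), (13495, 13747), (13496, 13748), (13497, 13555), (13498, 13299), (13499, 13297), (13500, 13715), (13501, 13166), (13502, 13752), (13503, 13319)]
    ⟨e3 q13440 (flp_c L210504) q13690, e3 q13441 L208016 q13089, e3 q13442 L208028 q13101, e3 q13443 L208038 q13093, e3 q13444 (flp_c L209561) q13595, e3 q13445 L208063 q13167, e3 q13446 L208073 q13404, e3 q13447 L208083 q13098, e3 q13448 (flp_c L208093) q13099, e3 q13449 (flp_c L210728) q13710, e3 q13450 L208120 q13176, e3 q13451 (flp_c L210656) q13704, e3 q13452 (flp_c L210665) q13705, e3 q13453 L208147 q13405, e3 q13454 L208156 q13163, e3 q13455 (flp_c L209924) q13637, e3 q13456 (flp_c L209638) q13604, e3 q13457 L208187 q13232,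 e3 q13458 (flp_c L210441) q13685, e3 q13459 (flp_c L210456) q13686, e3 q13460 L208208 q13278, e3 q13461 L208222 q13437, e3 q13462 L208234 q13165, e3 q13463 (flp_c L209907) q13635, e3 q13464 (flp_c L209914) q13636, e3 q13465 (flp_c L210603) q13699, e3 q13466 (flp_c L208314) q13470, e3 q13467 (flp_c L208325) q13471, e3 q13468 (flp_c L208821) q13521, e3 q13469 L208302 q13129, e3 q13470 L208314 q13466, e3 q13471 L208325 q13467, e3 q13472 L208339 q13333, e3 q13473 (flp_c L209743) q13614, e3 q13474 L208361 q13325, e3 q13475 L208373 q13234, e3 q13476 L208383 q13135, e3 q13477 (flp_c L208908) q13531, e3 q13478 (flp_c L208917) q13532, e3 q13479 L208408 q13147, e3 q13480 L208418 q13140, e3 q13481 L208434 q13430, e3 q13482 L208446 q13143, e3 q13483 L208458 q13422, e3 q13484 L208468 q13146, e3 q13485 (flp_c L210965) q13733, e3 q13486 (flp_c L210976) q13734, e3 q13487 (flp_c L209247) q13563, e3 q13488 (flp_c L209192) q13558, e3 q13489 (flp_c L208504) q13150, e3 q13490 (flp_c L211075) q13743, e3 q13491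 L208527 q13171, e3 q13492 (flp_c L209125) q13553, e3 q13493 (flp_c L209140) q13554, e3 q13494 L208548 q13155, e3 q13495 (flp_c L211106) q13747, e3 q13496 (flp_c L211117) q13748, e3 q13497 (flp_c L209152) q13555, e3 q13498 L208579 q13299, e3 q13499 L208593 q13297, e3 q13500 (flp_c L210781) q13715, e3 q13501 (flp_c L208613) q13166, e3 q13502 (flp_c L211156) q13752, e3 q13503 L208643 q13319, trivial⟩ (by decide +kernel)

theorem ce_c_211 : ∀ r, r < 64 → sm gc (Qf (13504 + r)) = Qf (tab Gen.c (13504 + r)) :=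
  edges_tab (sm gc) Qf (tab Gen.c) 13504 [(13504, 13707), (13505, 13169), (13506, 13755), (13507, 13568), (13508, 13242), (13509, 13175), (13510, 13757), (13511, 13178), (13512, 13643), (13513, 13644), (13514, 13186), (13515, 13185), (13516, 13759), (13517, 13760), (13518, 13329), (13519, 13190), (13520, 13204), (13521, 13468), (13522, 13205), (13523, 13196), (13524, 13197), (13525, 13767), (13526, 13683), (13527, 13666), (13528, 13700), (13529, 13682), (13530, 13764), (13531, 13477), (13532, 13478), (13533, 13539), (13534, 13540), (13535, 13678), (13536, 13427), (13537, 13428), (13538, 13216), (13539, 13533), (13540, 13534), (13541, 13225), (13542, 13221), (13543, 13418), (13544, 13224), (13545, 13777), (13546, 13778), (13547, 13629), (13548, 13630), (13549, 13631), (13550, 13634), (13551, 13730), (13552, 13731), (13553, 13492), (13554, 13493), (13555, 13497), (13556, 13376), (13557, 13263), (13558, 13488), (13559, 13264), (13560, 13287), (13561, 13248), (13562, 13266), (13563, 13487),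 (13564, 13267), (13565, 13289), (13566, 13290), (13567, 13271)]
    ⟨e3 q13504 (flp_c L210691) q13707, e3 q13505 L208663 q13169, e3 q13506 (flp_c L211192) q13755, e3 q13507 (flp_c L209290) q13568, e3 q13508 L208691 q13242, e3 q13509 L208703 q13175, e3 q13510 (flp_c L211214) q13757, e3 q13511 L208721 q13178, e3 q13512 (flp_c L209990) q13643, e3 q13513 (flp_c L209999) q13644, e3 q13514 L208748 q13186, e3 q13515 L208758 q13185, e3 q13516 (flp_c L211232) q13759, e3 q13517 (flp_c L211243) q13760, e3 q13518 L208787 q13329, e3 q13519 L208799 q13190, e3 q13520 L208813 q13204, e3 q13521 L208821 q13468, e3 q13522 L208831 q13205, e3 q13523 L208839 q13196, e3 q13524 L208844 q13197, e3 q13525 (flp_c L211319) q13767, e3 q13526 (flp_c L210407) q13683, e3 q13527 (flp_c L210187) q13666, e3 q13528 (flp_c L210613) q13700, e3 q13529 (flp_c L210391) q13682, e3 q13530 (flp_c L211290) q13764, e3 q13531 L208908 q13477, e3 q13532 L208917 q13478, e3 q13533 (flp_c L208993) q13539, e3 q13534 (flp_c L209000) q13540,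 e3 q13535 (flp_c L210334) q13678, e3 q13536 L208958 q13427, e3 q13537 L208968 q13428, e3 q13538 L208979 q13216, e3 q13539 L208993 q13533, e3 q13540 L209000 q13534, e3 q13541 L209012 q13225, e3 q13542 L209026 q13221, e3 q13543 L209040 q13418, e3 q13544 L209054 q13224, e3 q13545 (flp_c L211417) q13777, e3 q13546 (flp_c L211432) q13778, e3 q13547 (flp_c L209869) q13629, e3 q13548 (flp_c L209876) q13630, e3 q13549 (flp_c L209884) q13631, e3 q13550 (flp_c L209901) q13634, e3 q13551 (flp_c L210938) q13730, e3 q13552 (flp_c L210947) q13731, e3 q13553 L209125 q13492, e3 q13554 L209140 q13493, e3 q13555 L209152 q13497, e3 q13556 L209162 q13376, e3 q13557 L209176 q13263, e3 q13558 L209192 q13488, e3 q13559 L209201 q13264, e3 q13560 L209213 q13287, e3 q13561 L209225 q13248, e3 q13562 L209239 q13266, e3 q13563 L209247 q13487, e3 q13564 L209257 q13267, e3 q13565 L209265 q13289, e3 q13566 L209270 q13290, e3 q13567 L209280 q13271, trivial⟩ (by decide +kernel)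

theorem ce_c_212 : ∀ r, r < 64 → sm gc (Qf (13568 + r)) = Qf (tab Gen.c (13568 + r)) :=
  edges_tab (sm gc) Qf (tab Gen.c) 13568 [(13568, 13507), (13569, 13259), (13570, 13667), (13571, 13665), (13572, 13789), (13573, 13791), (13574, 13794), (13575, 13627), (13576, 13351), (13577, 13385), (13578, 13275), (13579, 13650), (13580, 13349), (13581, 13720), (13582, 13721), (13583, 13285), (13584, 13283), (13585, 13807), (13586, 13808), (13587, 13792), (13588, 13793), (13589, 13797), (13590, 13294), (13591, 13751), (13592, 13312), (13593, 13323), (13594, 13670), (13595, 13444), (13596, 13324), (13597, 13309), (13598, 13310), (13599, 13311), (13600, 13817), (13601, 13818), (13602, 13819), (13603, 13812), (13604, 13456), (13605, 13611), (13606, 13314), (13607, 13826), (13608, 13613), (13609, 13334), (13610, 13335), (13611, 13605), (13612, 13754), (13613, 13608), (13614, 13473), (13615, 13813), (13616, 13684), (13617, 13327), (13618, 13832), (13619, 13681), (13620, 13762), (13621, 13763), (13622,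 13332), (13623, 13836), (13624, 13837), (13625, 13829), (13626, 13646), (13627, 13575), (13628, 13356), (13629, 13547), (13630, 13548), (13631, 13549)]
    ⟨e3 q13568 L209290 q13507, e3 q13569 L209302 q13259, e3 q13570 (flp_c L210197) q13667, e3 q13571 (flp_c L210175) q13665, e3 q13572 (flp_c L211542) q13789, e3 q13573 (flp_c L211566) q13791, e3 q13574 (flp_c L211607) q13794, e3 q13575 (flp_c L209850) q13627, e3 q13576 L209377 q13351, e3 q13577 L209389 q13385, e3 q13578 L209401 q13275, e3 q13579 (flp_c L210054) q13650, e3 q13580 L209425 q13349, e3 q13581 (flp_c L210826) q13720, e3 q13582 (flp_c L210837) q13721, e3 q13583 L209450 q13285, e3 q13584 L209460 q13283, e3 q13585 (flp_c L211752) q13807, e3 q13586 (flp_c L211763) q13808, e3 q13587 (flp_c L211580) q13792, e3 q13588 (flp_c L211593) q13793, e3 q13589 (flp_c L211638) q13797, e3 q13590 L209502 q13294, e3 q13591 (flp_c L211140) q13751, e3 q13592 L209532 q13312, e3 q13593 L209543 q13323, e3 q13594 (flp_c L210240) q13670, e3 q13595 L209561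 q13444, e3 q13596 L209574 q13324, e3 q13597 L209580 q13309, e3 q13598 L209587 q13310, e3 q13599 L209597 q13311, e3 q13600 (flp_c L211843) q13817, e3 q13601 (flp_c L211853) q13818, e3 q13602 (flp_c L211862) q13819, e3 q13603 (flp_c L211794) q13812, e3 q13604 L209638 q13456, e3 q13605 (flp_c L209705) q13611, e3 q13606 (flp_c L209653) q13314, e3 q13607 (flp_c L211928) q13826, e3 q13608 (flp_c L209731) q13613, e3 q13609 L209686 q13334, e3 q13610 L209695 q13335, e3 q13611 L209705 q13605, e3 q13612 (flp_c L211182) q13754, e3 q13613 L209731 q13608, e3 q13614 L209743 q13473, e3 q13615 (flp_c L211808) q13813, e3 q13616 (flp_c L210423) q13684, e3 q13617 (flp_c L209765) q13327, e3 q13618 (flp_c L211995) q13832, e3 q13619 (flp_c L210377) q13681, e3 q13620 (flp_c L211263) q13762, e3 q13621 (flp_c L211276) q13763, e3 q13622 L209813 q13332, e3 q13623 (flp_c L212030) q13836, e3 q13624 (flp_c L212039) q13837, e3 q13625 (flp_c L211953) q13829, e3 q13626 (flp_c L210019) q13646, e3 q13627 L209850 q13575, e3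 q13628 L209863 q13356, e3 q13629 L209869 q13547, e3 q13630 L209876 q13548, e3 q13631 L209884 q13549, trivial⟩ (by decide +kernel)

theorem ce_c_213 : ∀ r, r < 64 → sm gc (Qf (13632 + r)) = Qf (tab Gen.c (13632 + r)) :=
  edges_tab (sm gc) Qf (tab Gen.c) 13632 [(13632, 13652), (13633, 13653), (13634, 13550), (13635, 13463), (13636, 13464), (13637, 13455), (13638, 13352), (13639, 13651), (13640, 13801), (13641, 13645), (13642, 13647), (13643, 13512), (13644, 13513), (13645, 13641), (13646, 13626), (13647, 13642), (13648, 13383), (13649, 13384), (13650, 13579), (13651, 13639), (13652, 13632), (13653, 13633), (13654, 13386), (13655, 13395), (13656, 13381), (13657, 13382), (13658, 13668), (13659, 13669), (13660, 13861), (13661, 13856), (13662, 13802), (13663, 13803), (13664, 13860), (13665, 13571), (13666, 13527), (13667, 13570), (13668, 13658), (13669, 13659), (13670, 13594), (13671, 13414), (13672, 13402), (13673, 13403), (13674, 13870), (13675, 13708), (13676, 13709), (13677, 13714), (13678,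 13535), (13679, 13424), (13680, 13425), (13681, 13619), (13682, 13529), (13683, 13526), (13684, 13616), (13685, 13458), (13686, 13459), (13687, 13779), (13688, 13780), (13689, 13439), (13690, 13440), (13691, 13737), (13692, 13738), (13693, 13875), (13694, 13773), (13695, 13774)]
    ⟨e3 q13632 (flp_c L210072) q13652, e3 q13633 (flp_c L210079) q13653, e3 q13634 L209901 q13550, e3 q13635 L209907 q13463, e3 q13636 L209914 q13464, e3 q13637 L209924 q13455, e3 q13638 L209934 q13352, e3 q13639 (flp_c L210064) q13651, e3 q13640 (flp_c L211684) q13801, e3 q13641 (flp_c L210009) q13645, e3 q13642 (flp_c L210029) q13647, e3 q13643 L209990 q13512, e3 q13644 L209999 q13513, e3 q13645 L210009 q13641, e3 q13646 L210019 q13626, e3 q13647 L210029 q13642, e3 q13648 L210037 q13383, e3 q13649 L210044 q13384, e3 q13650 L210054 q13579, e3 q13651 L210064 q13639, e3 q13652 L210072 q13632, e3 q13653 L210079 q13633, e3 q13654 L210085 q13386, e3 q13655 L210093 q13395, e3 q13656 L210109 q13381, e3 q13657 L210122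 q13382, e3 q13658 (flp_c L210209) q13668, e3 q13659 (flp_c L210224) q13669, e3 q13660 (flp_c L212247) q13861, e3 q13661 (flp_c L212201) q13856, e3 q13662 (flp_c L211698) q13802, e3 q13663 (flp_c L211709) q13803, e3 q13664 (flp_c L212238) q13860, e3 q13665 L210175 q13571, e3 q13666 L210187 q13527, e3 q13667 L210197 q13570, e3 q13668 L210209 q13658, e3 q13669 L210224 q13659, e3 q13670 L210240 q13594, e3 q13671 L210252 q13414, e3 q13672 L210266 q13402, e3 q13673 L210277 q13403, e3 q13674 (flp_c L212338) q13870, e3 q13675 (flp_c L210703) q13708, e3 q13676 (flp_c L210714) q13709, e3 q13677 (flp_c L210769) q13714, e3 q13678 L210334 q13535, e3 q13679 L210348 q13424, e3 q13680 L210361 q13425, e3 q13681 L210377 q13619, e3 q13682 L210391 q13529, e3 q13683 L210407 q13526, e3 q13684 L210423 q13616, e3 q13685 L210441 q13458, e3 q13686 L210456 q13459, e3 q13687 (flp_c L211446) q13779, e3 q13688 (flp_c L211461) q13780, e3 q13689 L210493 q13439, e3 q13690 L210504 q13440, e3 q13691 (flp_c L211015) q13737,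 e3 q13692 (flp_c L211026) q13738, e3 q13693 (flp_c L212396) q13875, e3 q13694 (flp_c L211374) q13773, e3 q13695 (flp_c L211385) q13774, trivial⟩ (by decide +kernel)

theorem ce_c_214 : ∀ r, r < 64 → sm gc (Qf (13696 + r)) = Qf (tab Gen.c (13696 + r)) :=
  edges_tab (sm gc) Qf (tab Gen.c) 13696 [(13696, 13775), (13697, 13735), (13698, 13736), (13699, 13465), (13700, 13528), (13701, 13722), (13702, 13723), (13703, 13879), (13704, 13451), (13705, 13452), (13706, 13816), (13707, 13504), (13708, 13675), (13709, 13676), (13710, 13449), (13711, 13893), (13712, 13894), (13713, 13889), (13714, 13677), (13715, 13500), (13716, 13849), (13717, 13850), (13718, 13824), (13719, 13877), (13720, 13581), (13721, 13582), (13722, 13701), (13723, 13702), (13724, 13848), (13725, 13886), (13726, 13729), (13727, 13765), (13728, 13766), (13729, 13726), (13730, 13551), (13731, 13552), (13732, 13771), (13733, 13485), (13734, 13486), (13735, 13697), (13736, 13698), (13737, 13691), (13738, 13692), (13739, 13911), (13740,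 13795), (13741, 13796), (13742, 13790), (13743, 13490), (13744, 13918), (13745, 13919), (13746, 13787), (13747, 13495), (13748, 13496), (13749, 13922), (13750, 13788), (13751, 13591), (13752, 13502), (13753, 13924), (13754, 13612), (13755, 13506), (13756, 13798), (13757, 13510), (13758, 13852), (13759, 13516)]
    ⟨e3 q13696 (flp_c L211397) q13775, e3 q13697 (flp_c L210990) q13735, e3 q13698 (flp_c L211003) q13736, e3 q13699 L210603 q13465, e3 q13700 L210613 q13528, e3 q13701 (flp_c L210853) q13722, e3 q13702 (flp_c L210866) q13723, e3 q13703 (flp_c L212456) q13879, e3 q13704 L210656 q13451, e3 q13705 L210665 q13452, e3 q13706 (flp_c L211833) q13816, e3 q13707 L210691 q13504, e3 q13708 L210703 q13675, e3 q13709 L210714 q13676, e3 q13710 L210728 q13449, e3 q13711 (flp_c L212615) q13893, e3 q13712 (flp_c L212626) q13894, e3 q13713 (flp_c L212564) q13889, e3 q13714 L210769 q13677, e3 q13715 L210781 q13500, e3 q13716 (flp_c L212131) q13849, e3 q13717 (flp_c L212140) q13850, e3 q13718 (flp_c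 L211904) q13824, e3 q13719 (flp_c L212430) q13877, e3 q13720 L210826 q13581, e3 q13721 L210837 q13582, e3 q13722 L210853 q13701, e3 q13723 L210866 q13702, e3 q13724 (flp_c L212121) q13848, e3 q13725 (flp_c L212536) q13886, e3 q13726 (flp_c L210926) q13729, e3 q13727 (flp_c L211300) q13765, e3 q13728 (flp_c L211309) q13766, e3 q13729 L210926 q13726, e3 q13730 L210938 q13551, e3 q13731 L210947 q13552, e3 q13732 (flp_c L211356) q13771, e3 q13733 L210965 q13485, e3 q13734 L210976 q13486, e3 q13735 L210990 q13697, e3 q13736 L211003 q13698, e3 q13737 L211015 q13691, e3 q13738 L211026 q13692, e3 q13739 (flp_c L212804) q13911, e3 q13740 (flp_c L211617) q13795, e3 q13741 (flp_c L211628) q13796, e3 q13742 (flp_c L211554) q13790, e3 q13743 L211075 q13490, e3 q13744 (flp_c L212882) q13918, e3 q13745 (flp_c L212893) q13919, e3 q13746 (flp_c L211521) q13787, e3 q13747 L211106 q13495, e3 q13748 L211117 q13496, e3 q13749 (flp_c L212918) q13922, e3 q13750 (flp_c L211533) q13788, e3 q13751 L211140 q13591,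 e3 q13752 L211156 q13502, e3 q13753 (flp_c L212939) q13924, e3 q13754 L211182 q13612, e3 q13755 L211192 q13506, e3 q13756 (flp_c L211646) q13798, e3 q13757 L211214 q13510, e3 q13758 (flp_c L212164) q13852, e3 q13759 L211232 q13516, trivial⟩ (by decide +kernel)

theorem ce_c_215 : ∀ r, r < 64 → sm gc (Qf (13760 + r)) = Qf (tab Gen.c (13760 + r)) :=
  edges_tab (sm gc) Qf (tab Gen.c) 13760 [(13760, 13517), (13761, 13927), (13762, 13620), (13763, 13621), (13764, 13530), (13765, 13727), (13766, 13728), (13767, 13525), (13768, 13931), (13769, 13876), (13770, 13866), (13771, 13732), (13772, 13776), (13773, 13694), (13774, 13695), (13775, 13696), (13776, 13772), (13777, 13545), (13778, 13546), (13779, 13687), (13780, 13688), (13781, 13938), (13782, 13843), (13783, 13844), (13784, 13845), (13785, 13847), (13786, 13909), (13787, 13746), (13788, 13750), (13789, 13572), (13790, 13742), (13791, 13573), (13792, 13587), (13793, 13588), (13794, 13574), (13795, 13740), (13796, 13741), (13797, 13589), (13798,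 13756), (13799, 13945), (13800, 13842), (13801, 13640), (13802, 13662), (13803, 13663), (13804, 13857), (13805, 13858), (13806, 13903), (13807, 13585), (13808, 13586), (13809, 13956), (13810, 13948), (13811, 13950), (13812, 13603), (13813, 13615), (13814, 13868), (13815, 13869), (13816, 13706), (13817, 13600), (13818, 13601), (13819, 13602), (13820, 13964), (13821, 13965), (13822, 13959), (13823, 13960)]
    ⟨e3 q13760 L211243 q13517, e3 q13761 (flp_c L212976) q13927, e3 q13762 L211263 q13620, e3 q13763 L211276 q13621, e3 q13764 L211290 q13530, e3 q13765 L211300 q13727, e3 q13766 L211309 q13728, e3 q13767 L211319 q13525, e3 q13768 (flp_c L213019) q13931, e3 q13769 (flp_c L212412) q13876, e3 q13770 (flp_c L212285) q13866, e3 q13771 L211356 q13732, e3 q13772 (flp_c L211407) q13776, e3 q13773 L211374 q13694, e3 q13774 L211385 q13695, e3 q13775 L211397 q13696, e3 q13776 L211407 q13772, e3 q13777 L211417 q13545, e3 q13778 L211432 q13546, e3 q13779 L211446 q13687, e3 q13780 L211461 q13688, e3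 q13781 (flp_c L213090) q13938, e3 q13782 (flp_c L212087) q13843, e3 q13783 (flp_c L212095) q13844, e3 q13784 (flp_c L212104) q13845, e3 q13785 (flp_c L212116) q13847, e3 q13786 (flp_c L212787) q13909, e3 q13787 L211521 q13746, e3 q13788 L211533 q13750, e3 q13789 L211542 q13572, e3 q13790 L211554 q13742, e3 q13791 L211566 q13573, e3 q13792 L211580 q13587, e3 q13793 L211593 q13588, e3 q13794 L211607 q13574, e3 q13795 L211617 q13740, e3 q13796 L211628 q13741, e3 q13797 L211638 q13589, e3 q13798 L211646 q13756, e3 q13799 (flp_c L213168) q13945, e3 q13800 (flp_c L212077) q13842, e3 q13801 L211684 q13640, e3 q13802 L211698 q13662, e3 q13803 L211709 q13663, e3 q13804 (flp_c L212211) q13857, e3 q13805 (flp_c L212220) q13858, e3 q13806 (flp_c L212716) q13903, e3 q13807 L211752 q13585, e3 q13808 L211763 q13586, e3 q13809 (flp_c L213300) q13956, e3 q13810 (flp_c L213209) q13948, e3 q13811 (flp_c L213233) q13950, e3 q13812 L211794 q13603, e3 q13813 L211808 q13615, e3 q13814 (flp_c L212313) q13868,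 e3 q13815 (flp_c L212326) q13869, e3 q13816 L211833 q13706, e3 q13817 L211843 q13600, e3 q13818 L211853 q13601, e3 q13819 L211862 q13602, e3 q13820 (flp_c L213386) q13964, e3 q13821 (flp_c L213395) q13965, e3 q13822 (flp_c L213326) q13959, e3 q13823 (flp_c L213339) q13960, trivial⟩ (by decide +kernel)

theorem ce_c_216 : ∀ r, r < 64 → sm gc (Qf (13824 + r)) = Qf (tab Gen.c (13824 + r)) :=
  edges_tab (sm gc) Qf (tab Gen.c) 13824 [(13824, 13718), (13825, 13830), (13826, 13607), (13827, 13970), (13828, 13971), (13829, 13625), (13830, 13825), (13831, 13925), (13832, 13618), (13833, 13974), (13834, 13975), (13835, 13929), (13836, 13623), (13837, 13624), (13838, 13978), (13839, 13973), (13840, 13854), (13841, 13855), (13842, 13800), (13843, 13782), (13844, 13783), (13845, 13784), (13846, 13859), (13847, 13785), (13848, 13724), (13849, 13716), (13850, 13717), (13851, 13853), (13852, 13758), (13853, 13851), (13854, 13840), (13855, 13841), (13856, 13661), (13857, 13804), (13858, 13805), (13859,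 13846), (13860, 13664), (13861, 13660), (13862, 13867), (13863, 13993), (13864, 13990), (13865, 13953), (13866, 13770), (13867, 13862), (13868, 13814), (13869, 13815), (13870, 13674), (13871, 13998), (13872, 13892), (13873, 13897), (13874, 13898), (13875, 13693), (13876, 13769), (13877, 13719), (13878, 13939), (13879, 13703), (13880, 13913), (13881, 14001), (13882, 13934), (13883, 13935), (13884, 13936), (13885, 13912), (13886, 13725), (13887, 13904)]
    ⟨e3 q13824 L211904 q13718, e3 q13825 (flp_c L211965) q13830, e3 q13826 L211928 q13607, e3 q13827 (flp_c L213451) q13970, e3 q13828 (flp_c L213464) q13971, e3 q13829 L211953 q13625, e3 q13830 L211965 q13825, e3 q13831 (flp_c L212955) q13925, e3 q13832 L211995 q13618, e3 q13833 (flp_c L213497) q13974, e3 q13834 (flp_c L213512) q13975, e3 q13835 (flp_c L212997) q13929, e3 q13836 L212030 q13623, e3 q13837 L212039 q13624, e3 q13838 (flp_c L213539) q13978, e3 q13839 (flp_c L213486) q13973, e3 q13840 (flp_c L212184) q13854, e3 q13841 (flp_c L212193)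 q13855, e3 q13842 L212077 q13800, e3 q13843 L212087 q13782, e3 q13844 L212095 q13783, e3 q13845 L212104 q13784, e3 q13846 (flp_c L212232) q13859, e3 q13847 L212116 q13785, e3 q13848 L212121 q13724, e3 q13849 L212131 q13716, e3 q13850 L212140 q13717, e3 q13851 (flp_c L212174) q13853, e3 q13852 L212164 q13758, e3 q13853 L212174 q13851, e3 q13854 L212184 q13840, e3 q13855 L212193 q13841, e3 q13856 L212201 q13661, e3 q13857 L212211 q13804, e3 q13858 L212220 q13805, e3 q13859 L212232 q13846, e3 q13860 L212238 q13664, e3 q13861 L212247 q13660, e3 q13862 (flp_c L212297) q13867, e3 q13863 (flp_c L213679) q13993, e3 q13864 (flp_c L213651) q13990, e3 q13865 (flp_c L213269) q13953, e3 q13866 L212285 q13770, e3 q13867 L212297 q13862, e3 q13868 L212313 q13814, e3 q13869 L212326 q13815, e3 q13870 L212338 q13674, e3 q13871 (flp_c L213737) q13998, e3 q13872 (flp_c L212601) q13892, e3 q13873 (flp_c L212657) q13897, e3 q13874 (flp_c L212670) q13898, e3 q13875 L212396 q13693, e3 q13876 L212412 q13769, e3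 q13877 L212430 q13719, e3 q13878 (flp_c L213106) q13939, e3 q13879 L212456 q13703, e3 q13880 (flp_c L212830) q13913, e3 q13881 (flp_c L213777) q14001, e3 q13882 (flp_c L213044) q13934, e3 q13883 (flp_c L213056) q13935, e3 q13884 (flp_c L213067) q13936, e3 q13885 (flp_c L212818) q13912, e3 q13886 L212536 q13725, e3 q13887 (flp_c L212730) q13904, trivial⟩ (by decide +kernel)

theorem ce_c_217 : ∀ r, r < 64 → sm gc (Qf (13888 + r)) = Qf (tab Gen.c (13888 + r)) :=
  edges_tab (sm gc) Qf (tab Gen.c) 13888 [(13888, 14004), (13889, 13713), (13890, 13962), (13891, 13963), (13892, 13872), (13893, 13711), (13894, 13712), (13895, 14013), (13896, 14010), (13897, 13873), (13898, 13874), (13899, 13987), (13900, 13968), (13901, 13969), (13902, 14002), (13903, 13806), (13904, 13887), (13905, 13986), (13906, 13908), (13907, 13930), (13908, 13906), (13909, 13786), (13910, 13932), (13911, 13739), (13912, 13885), (13913, 13880), (13914, 14022), (13915, 13949), (13916, 13946), (13917, 13947), (13918, 13744),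 (13919, 13745), (13920, 14027), (13921, 13944), (13922, 13749), (13923, 14029), (13924, 13753), (13925, 13831), (13926, 13988), (13927, 13761), (13928, 14030), (13929, 13835), (13930, 13907), (13931, 13768), (13932, 13910), (13933, 13937), (13934, 13882), (13935, 13883), (13936, 13884), (13937, 13933), (13938, 13781), (13939, 13878), (13940, 14035), (13941, 13983), (13942, 13984), (13943, 14021), (13944, 13921), (13945, 13799), (13946, 13916), (13947, 13917), (13948, 13810), (13949, 13915), (13950, 13811), (13951, 13981)]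
    ⟨e3 q13888 (flp_c L213822) q14004, e3 q13889 L212564 q13713, e3 q13890 (flp_c L213361) q13962, e3 q13891 (flp_c L213374) q13963, e3 q13892 L212601 q13872, e3 q13893 L212615 q13711, e3 q13894 L212626 q13712, e3 q13895 (flp_c L213935) q14013, e3 q13896 (flp_c L213897) q14010, e3 q13897 L212657 q13873, e3 q13898 L212670 q13874, e3 q13899 (flp_c L213622) q13987, e3 q13900 (flp_c L213422) q13968, e3 q13901 (flp_c L213437) q13969, e3 q13902 (flp_c L213794) q14002, e3 q13903 L212716 q13806, e3 q13904 L212730 q13887, e3 q13905 (flp_c L213613) q13986, e3 q13906 (flp_c L212774) q13908, e3 q13907 (flp_c L213011) q13930, e3 q13908 L212774 q13906, e3 q13909 L212787 q13786, e3 q13910 (flp_c L213026) q13932, e3 q13911 L212804 q13739, e3 q13912 L212818 q13885, e3 q13913 L212830 q13880, e3 q13914 (flp_c L214043) q14022, e3 q13915 (flp_c L213223) q13949, e3 q13916 (flp_c L213182) q13946, e3 q13917 (flp_c L213195) q13947, e3 q13918 L212882 q13744, e3 q13919 L212893 q13745, e3 q13920 (flp_c L214107) q14027,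 e3 q13921 (flp_c L213151) q13944, e3 q13922 L212918 q13749, e3 q13923 (flp_c L214126) q14029, e3 q13924 L212939 q13753, e3 q13925 L212955 q13831, e3 q13926 (flp_c L213632) q13988, e3 q13927 L212976 q13761, e3 q13928 (flp_c L214137) q14030, e3 q13929 L212997 q13835, e3 q13930 L213011 q13907, e3 q13931 L213019 q13768, e3 q13932 L213026 q13910, e3 q13933 (flp_c L213079) q13937, e3 q13934 L213044 q13882, e3 q13935 L213056 q13883, e3 q13936 L213067 q13884, e3 q13937 L213079 q13933, e3 q13938 L213090 q13781, e3 q13939 L213106 q13878, e3 q13940 (flp_c L214203) q14035, e3 q13941 (flp_c L213591) q13983, e3 q13942 (flp_c L213598) q13984, e3 q13943 (flp_c L214032) q14021, e3 q13944 L213151 q13921, e3 q13945 L213168 q13799, e3 q13946 L213182 q13916, e3 q13947 L213195 q13917, e3 q13948 L213209 q13810, e3 q13949 L213223 q13915, e3 q13950 L213233 q13811, e3 q13951 (flp_c L213564) q13981, trivial⟩ (by decide +kernel)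

theorem ce_c_218 : ∀ r, r < 64 → sm gc (Qf (13952 + r)) = Qf (tab Gen.c (13952 + r)) :=
  edges_tab (sm gc) Qf (tab Gen.c) 13952 [(13952, 13982), (13953, 13865), (13954, 13991), (13955, 14018), (13956, 13809), (13957, 14044), (13958, 14039), (13959, 13822), (13960, 13823), (13961, 13997), (13962, 13890), (13963, 13891), (13964, 13820), (13965, 13821), (13966, 14048), (13967, 14045), (13968, 13900), (13969, 13901), (13970, 13827), (13971, 13828), (13972, 14051), (13973, 13839), (13974, 13833), (13975, 13834), (13976, 14053), (13977, 14031), (13978, 13838), (13979, 14055), (13980, 13989), (13981, 13951), (13982, 13952), (13983, 13941), (13984, 13942), (13985, 13992), (13986, 13905), (13987, 13899), (13988, 13926), (13989, 13980), (13990, 13864), (13991, 13954), (13992, 13985), (13993, 13863), (13994, 13996), (13995, 14042), (13996, 13994), (13997, 13961), (13998, 13871), (13999, 14012), (14000, 14015), (14001, 13881), (14002, 13902), (14003, 14036), (14004, 13888), (14005, 14024), (14006,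 14033), (14007, 14034), (14008, 14023), (14009, 14019), (14010, 13896), (14011, 14047), (14012, 13999), (14013, 13895), (14014, 14066), (14015, 14000)]
    ⟨e3 q13952 (flp_c L213579) q13982, e3 q13953 L213269 q13865, e3 q13954 (flp_c L213660) q13991, e3 q13955 (flp_c L213991) q14018, e3 q13956 L213300 q13809, e3 q13957 (flp_c L214322) q14044, e3 q13958 (flp_c L214254) q14039, e3 q13959 L213326 q13822, e3 q13960 L213339 q13823, e3 q13961 (flp_c L213725) q13997, e3 q13962 L213361 q13890, e3 q13963 L213374 q13891, e3 q13964 L213386 q13820, e3 q13965 L213395 q13821, e3 q13966 (flp_c L214370) q14048, e3 q13967 (flp_c L214337) q14045, e3 q13968 L213422 q13900, e3 q13969 L213437 q13901, e3 q13970 L213451 q13827, e3 q13971 L213464 q13828, e3 q13972 (flp_c L214406) q14051, e3 q13973 L213486 q13839, e3 q13974 L213497 q13833, e3 q13975 L213512 q13834, e3 q13976 (flp_c L214427) q14053, e3 q13977 (flp_c L214150) q14031, e3 q13978 L213539 q13838, e3 q13979 (flp_c L214448) q14055, e3 q13980 (flp_c L213643)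 q13989, e3 q13981 L213564 q13951, e3 q13982 L213579 q13952, e3 q13983 L213591 q13941, e3 q13984 L213598 q13942, e3 q13985 (flp_c L213670) q13992, e3 q13986 L213613 q13905, e3 q13987 L213622 q13899, e3 q13988 L213632 q13926, e3 q13989 L213643 q13980, e3 q13990 L213651 q13864, e3 q13991 L213660 q13954, e3 q13992 L213670 q13985, e3 q13993 L213679 q13863, e3 q13994 (flp_c L213708) q13996, e3 q13995 (flp_c L214296) q14042, e3 q13996 L213708 q13994, e3 q13997 L213725 q13961, e3 q13998 L213737 q13871, e3 q13999 (flp_c L213920) q14012, e3 q14000 (flp_c L213962) q14015, e3 q14001 L213777 q13881, e3 q14002 L213794 q13902, e3 q14003 (flp_c L214218) q14036, e3 q14004 L213822 q13888, e3 q14005 (flp_c L214071) q14024, e3 q14006 (flp_c L214176) q14033, e3 q14007 (flp_c L214189) q14034, e3 q14008 (flp_c L214058) q14023, e3 q14009 (flp_c L214006) q14019, e3 q14010 L213897 q13896, e3 q14011 (flp_c L214358) q14047, e3 q14012 L213920 q13999, e3 q14013 L213935 q13895, e3 q14014 (flp_c L214578) q14066, e3 q14015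 L213962 q14000, trivial⟩ (by decide +kernel)

theorem ce_c_219 : ∀ r, r < 64 → sm gc (Qf (14016 + r)) = Qf (tab Gen.c (14016 + r)) :=
  edges_tab (sm gc) Qf (tab Gen.c) 14016 [(14016, 14059), (14017, 14050), (14018, 13955), (14019, 14009), (14020, 14032), (14021, 13943), (14022, 13914), (14023, 14008), (14024, 14005), (14025, 14040), (14026, 14038), (14027, 13920), (14028, 14070), (14029, 13923), (14030, 13928), (14031, 13977), (14032, 14020), (14033, 14006), (14034, 14007), (14035, 13940), (14036, 14003), (14037, 14058), (14038, 14026), (14039, 13958), (14040, 14025), (14041, 14057), (14042, 13995), (14043, 14061), (14044, 13957), (14045, 13967), (14046, 14062), (14047, 14011), (14048, 13966), (14049, 14074), (14050, 14017), (14051, 13972), (14052, 14077), (14053, 13976), (14054, 14078), (14055, 13979), (14056, 14060), (14057, 14041), (14058, 14037), (14059, 14016), (14060, 14056), (14061, 14043), (14062, 14046), (14063, 14067), (14064, 14071), (14065, 14075), (14066, 14014), (14067, 14063),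 (14068, 14076), (14069, 14072), (14070, 14028), (14071, 14064), (14072, 14069), (14073, 14079), (14074, 14049), (14075, 14065), (14076, 14068), (14077, 14052), (14078, 14054), (14079, 14073)]
    ⟨e3 q14016 (flp_c L214489) q14059, e3 q14017 (flp_c L214390) q14050, e3 q14018 L213991 q13955, e3 q14019 L214006 q14009, e3 q14020 (flp_c L214165) q14032, e3 q14021 L214032 q13943, e3 q14022 L214043 q13914, e3 q14023 L214058 q14008, e3 q14024 L214071 q14005, e3 q14025 (flp_c L214269) q14040, e3 q14026 (flp_c L214240) q14038, e3 q14027 L214107 q13920, e3 q14028 (flp_c L214630) q14070, e3 q14029 L214126 q13923, e3 q14030 L214137 q13928, e3 q14031 L214150 q13977, e3 q14032 L214165 q14020, e3 q14033 L214176 q14006, e3 q14034 L214189 q14007, e3 q14035 L214203 q13940, e3 q14036 L214218 q14003, e3 q14037 (flp_c L214478) q14058, e3 q14038 L214240 q14026, e3 q14039 L214254 q13958, e3 q14040 L214269 q14025, e3 q14041 (flp_c L214466) q14057, e3 q14042 L214296 q13995, e3 q14043 (flp_c L214507) q14061, e3 q14044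 L214322 q13957, e3 q14045 L214337 q13967, e3 q14046 (flp_c L214520) q14062, e3 q14047 L214358 q14011, e3 q14048 L214370 q13966, e3 q14049 (flp_c L214688) q14074, e3 q14050 L214390 q14017, e3 q14051 L214406 q13972, e3 q14052 (flp_c L214731) q14077, e3 q14053 L214427 q13976, e3 q14054 (flp_c L214746) q14078, e3 q14055 L214448 q13979, e3 q14056 (flp_c L214498) q14060, e3 q14057 L214466 q14041, e3 q14058 L214478 q14037, e3 q14059 L214489 q14016, e3 q14060 L214498 q14056, e3 q14061 L214507 q14043, e3 q14062 L214520 q14046, e3 q14063 (flp_c L214593) q14067, e3 q14064 (flp_c L214643) q14071, e3 q14065 (flp_c L214701) q14075, e3 q14066 L214578 q14014, e3 q14067 L214593 q14063, e3 q14068 (flp_c L214716) q14076, e3 q14069 (flp_c L214656) q14072, e3 q14070 L214630 q14028, e3 q14071 L214643 q14064, e3 q14072 L214656 q14069, e3 q14073 (flp_c L214761) q14079, e3 q14074 L214688 q14049, e3 q14075 L214701 q14065, e3 q14076 L214716 q14068, e3 q14077 L214731 q14052, e3 q14078 L214746 q14054, e3 q14079 L214761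 q14073, trivial⟩ (by decide +kernel)

theorem cl_c : ∀ i, i < 14080 → sm gc (Qf i) = Qf (tab Gen.c i) :=
  all_of_chunks (fun i => sm gc (Qf i) = Qf (tab Gen.c i)) 220 0
    ⟨ce_c_0, ce_c_1, ce_c_2, ce_c_3, ce_c_4, ce_c_5, ce_c_6, ce_c_7, ce_c_8, ce_c_9, ce_c_10, ce_c_11, ce_c_12, ce_c_13, ce_c_14, ce_c_15, ce_c_16, ce_c_17, ce_c_18, ce_c_19, ce_c_20, ce_c_21, ce_c_22, ce_c_23, ce_c_24, ce_c_25, ce_c_26, ce_c_27, ce_c_28, ce_c_29, ce_c_30, ce_c_31, ce_c_32, ce_c_33, ce_c_34, ce_c_35, ce_c_36, ce_c_37, ce_c_38, ce_c_39, ce_c_40, ce_c_41, ce_c_42, ce_c_43, ce_c_44, ce_c_45, ce_c_46, ce_c_47, ce_c_48, ce_c_49, ce_c_50, ce_c_51, ce_c_52, ce_c_53, ce_c_54, ce_c_55, ce_c_56, ce_c_57, ce_c_58, ce_c_59, ce_c_60, ce_c_61, ce_c_62, ce_c_63, ce_c_64, ce_c_65, ce_c_66, ce_c_67, ce_c_68, ce_c_69, ce_c_70, ce_c_71, ce_c_72, ce_c_73, ce_c_74, ce_c_75, ce_c_76, ce_c_77, ce_c_78, ce_c_79, ce_c_80, ce_c_81, ce_c_82, ce_c_83, ce_c_84, ce_c_85, ce_c_86, ce_c_87, ce_c_88, ce_c_89, ce_c_90, ce_c_91, ce_c_92,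 ce_c_93, ce_c_94, ce_c_95, ce_c_96, ce_c_97, ce_c_98, ce_c_99, ce_c_100, ce_c_101, ce_c_102, ce_c_103, ce_c_104, ce_c_105, ce_c_106, ce_c_107, ce_c_108, ce_c_109, ce_c_110, ce_c_111, ce_c_112, ce_c_113, ce_c_114, ce_c_115, ce_c_116, ce_c_117, ce_c_118, ce_c_119, ce_c_120, ce_c_121, ce_c_122, ce_c_123, ce_c_124, ce_c_125, ce_c_126, ce_c_127, ce_c_128, ce_c_129, ce_c_130, ce_c_131, ce_c_132, ce_c_133, ce_c_134, ce_c_135, ce_c_136, ce_c_137, ce_c_138, ce_c_139, ce_c_140, ce_c_141, ce_c_142, ce_c_143, ce_c_144, ce_c_145, ce_c_146, ce_c_147, ce_c_148, ce_c_149, ce_c_150, ce_c_151, ce_c_152, ce_c_153, ce_c_154, ce_c_155, ce_c_156, ce_c_157, ce_c_158, ce_c_159, ce_c_160, ce_c_161, ce_c_162, ce_c_163, ce_c_164, ce_c_165, ce_c_166, ce_c_167, ce_c_168, ce_c_169, ce_c_170, ce_c_171, ce_c_172, ce_c_173, ce_c_174, ce_c_175, ce_c_176, ce_c_177, ce_c_178, ce_c_179, ce_c_180, ce_c_181, ce_c_182, ce_c_183, ce_c_184, ce_c_185, ce_c_186, ce_c_187, ce_c_188, ce_c_189, ce_c_190, ce_c_191, ce_c_192, ce_c_193,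 ce_c_194, ce_c_195, ce_c_196, ce_c_197, ce_c_198, ce_c_199, ce_c_200, ce_c_201, ce_c_202, ce_c_203, ce_c_204, ce_c_205, ce_c_206, ce_c_207, ce_c_208, ce_c_209, ce_c_210, ce_c_211, ce_c_212, ce_c_213, ce_c_214, ce_c_215, ce_c_216, ce_c_217, ce_c_218, ce_c_219, trivial⟩
    (fun r hr => absurd hr (Nat.not_lt_zero r))


end Cfsg.Agent.Helper28.FibA
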