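import Cfsg.Agent.Helper28.FibC0

/-!
# The Fi₂₂ presentation, cosets of the subgroup generated by b, …, i: the action of the generator d (helper28; generated)
-/

set_option autoImplicit false
set_option maxRecDepth 100000
set_option linter.unusedSimpArgs false
set_option linter.constructorNameAsVariable false

noncomputable section

namespace Cfsg.Agent.Helper28.FibA

open Cfsg.Spor Cfsg.Spor.Fi22 Cfsg.Agent.Helper28.CosetTable

theorem ce_d_0 : ∀ r, r < 64 → sm gd (Qf (0 + r)) = Qf (tab Gen.d (0 + r)) :=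
  edges_tab (sm gd) Qf (tab Gen.d) 0 [(0, 0), (1, 1), (2, 2), (3, 4), (4, 3), (5, 5), (6, 6), (7, 7), (8, 12), (9, 9), (10, 10), (11, 15), (12, 8), (13, 18), (14, 19), (15, 11), (16, 23), (17, 17), (18, 13), (19, 14), (20, 29), (21, 21), (22, 22), (23, 16), (24, 24), (25, 25), (26, 26), (27, 27), (28, 28), (29, 20), (30, 30), (31, 47), (32, 32), (33, 33), (34, 34), (35, 35), (36, 36), (37, 53), (38, 38), (39, 57), (40, 40), (41, 41), (42, 42), (43, 43), (44, 44), (45, 65), (46, 46), (47, 31), (48, 69), (49, 71), (50, 72), (51, 51), (52, 74), (53, 37), (54, 54), (55, 78), (56, 56), (57, 39), (58, 82), (59, 84), (60, 87), (61, 61), (62, 89), (63, 90)]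
    ⟨e3 q0 L2 q0, e3 q1 L11 q1, e3 q2 L19 q2, e3 q3 L35 q4, e3 q4 (flp_d L35) q3, e3 q5 L50 q5, e3 q6 L58 q6, e3 q7 L64 q7, e3 q8 L101 q12, e3 q9 L80 q9, e3 q10 L89 q10, e3 q11 L126 q15, e3 q12 (flp_d L101) q8, e3 q13 (flp_d L153) q18, e3 q14 L157 q19, e3 q15 (flp_d L126) q11, e3 q16 (flp_d L193) q23, e3 q17 L148 q17, e3 q18 L153 q13, e3 q19 (flp_d L157) q14, e3 q20 (flp_d L240) q29, e3 q21 L181 q21, e3 q22 L187 q22, e3 q23 L193 q16, e3 q24 L199 q24, e3 q25 L209 q25, e3 q26 L218 q26, e3 q27 L227 q27, e3 q28 L235 q28, e3 q29 L240 q20, e3 q30 L247 q30, e3 q31 L381 q47, e3 q32 L264 q32, e3 q33 L271 q33, e3 q34 L281 q34, e3 q35 L286 q35, e3 q36 L296 q36, e3 q37 L428 q53, e3 q38 L309 q38, e3 q39 L461 q57, e3 q40 L328 q40, e3 q41 L336 q41, e3 q42 L344 q42, e3 q43 L356 q43, e3 q44 L361 q44, e3 q45 L529 q65, e3 q46 L378 q46, e3 q47 (flp_d L381) q31, e3 q48 (flp_d L562) q69, e3 q49 L575 q71, e3 q50 L583 q72, e3 q51 L417 q51, e3 q52 L600 q74, e3 q53 (flp_d L428) q37, e3 q54 L438 q54, e3 q55 L634 q78,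 e3 q56 L457 q56, e3 q57 (flp_d L461) q39, e3 q58 (flp_d L671) q82, e3 q59 (flp_d L686) q84, e3 q60 L710 q87, e3 q61 L498 q61, e3 q62 L728 q89, e3 q63 L737 q90, trivial⟩ (by decide +kernel)

theorem ce_d_1 : ∀ r, r < 64 → sm gd (Qf (64 + r)) = Qf (tab Gen.d (64 + r)) :=
  edges_tab (sm gd) Qf (tab Gen.d) 64 [(64, 64), (65, 45), (66, 95), (67, 97), (68, 68), (69, 48), (70, 100), (71, 49), (72, 50), (73, 103), (74, 52), (75, 75), (76, 107), (77, 77), (78, 55), (79, 112), (80, 114), (81, 117), (82, 58), (83, 83), (84, 59), (85, 120), (86, 124), (87, 60), (88, 126), (89, 62), (90, 63), (91, 128), (92, 130), (93, 93), (94, 94), (95, 66), (96, 134), (97, 67), (98, 98), (99, 138), (100, 70), (101, 140), (102, 139), (103, 73), (104, 104), (105, 105), (106, 106), (107, 76), (108, 145), (109, 146), (110, 149), (111, 111), (112, 79), (113, 113), (114, 80), (115, 154), (116, 158), (117, 81), (118, 118), (119, 119), (120, 85), (121, 121), (122, 166), (123, 167), (124, 86), (125, 169), (126, 88), (127,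 168)]
    ⟨e3 q64 L526 q64, e3 q65 (flp_d L529) q45, e3 q66 (flp_d L785) q95, e3 q67 L798 q97, e3 q68 L557 q68, e3 q69 L562 q48, e3 q70 L819 q100, e3 q71 (flp_d L575) q49, e3 q72 (flp_d L583) q50, e3 q73 L837 q103, e3 q74 (flp_d L600) q52, e3 q75 L614 q75, e3 q76 L867 q107, e3 q77 L630 q77, e3 q78 (flp_d L634) q55, e3 q79 (flp_d L917) q112, e3 q80 (flp_d L936) q114, e3 q81 L960 q117, e3 q82 L671 q58, e3 q83 L681 q83, e3 q84 L686 q59, e3 q85 (flp_d L988) q120, e3 q86 L1018 q124, e3 q87 (flp_d L710) q60, e3 q88 L1032 q126, e3 q89 (flp_d L728) q62, e3 q90 (flp_d L737) q63, e3 q91 (flp_d L1054) q128, e3 q92 L1068 q130, e3 q93 L767 q93, e3 q94 L774 q94, e3 q95 L785 q66, e3 q96 L1102 q134, e3 q97 (flp_d L798) q67, e3 q98 L810 q98, e3 q99 L1130 q138, e3 q100 (flp_d L819) q70, e3 q101 (flp_d L1147) q140, e3 q102 (flp_d L1141) q139, e3 q103 (flp_d L837) q73, e3 q104 L851 q104, e3 q105 L859 q105, e3 q106 L864 q106, e3 q107 (flp_d L867) q76, e3 q108 (flp_d L1209) q145, e3 q109 (flp_d L1217) q146, e3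 q110 L1243 q149, e3 q111 L910 q111, e3 q112 L917 q79, e3 q113 L931 q113, e3 q114 L936 q80, e3 q115 (flp_d L1294) q154, e3 q116 L1328 q158, e3 q117 (flp_d L960) q81, e3 q118 L974 q118, e3 q119 L983 q119, e3 q120 L988 q85, e3 q121 L997 q121, e3 q122 L1393 q166, e3 q123 L1400 q167, e3 q124 (flp_d L1018) q86, e3 q125 (flp_d L1421) q169, e3 q126 (flp_d L1032) q88, e3 q127 (flp_d L1413) q168, trivial⟩ (by decide +kernel)

theorem ce_d_2 : ∀ r, r < 64 → sm gd (Qf (128 + r)) = Qf (tab Gen.d (128 + r)) :=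
  edges_tab (sm gd) Qf (tab Gen.d) 128 [(128, 91), (129, 175), (130, 92), (131, 131), (132, 132), (133, 179), (134, 96), (135, 135), (136, 181), (137, 184), (138, 99), (139, 102), (140, 101), (141, 189), (142, 187), (143, 143), (144, 144), (145, 108), (146, 109), (147, 194), (148, 197), (149, 110), (150, 150), (151, 151), (152, 152), (153, 153), (154, 115), (155, 155), (156, 207), (157, 208), (158, 116), (159, 159), (160, 210), (161, 213), (162, 162), (163, 163), (164, 217), (165, 218), (166, 122), (167, 123), (168, 127), (169, 125), (170, 225), (171, 221), (172, 172), (173, 223), (174, 230), (175, 129), (176, 232), (177, 233), (178, 234), (179, 133), (180, 180), (181, 136), (182, 240), (183, 239), (184, 137), (185, 185), (186, 186), (187, 142), (188, 188), (189, 141), (190, 250), (191, 247)]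
    ⟨e3 q128 L1054 q91, e3 q129 L1462 q175, e3 q130 (flp_d L1068) q92, e3 q131 L1082 q131, e3 q132 L1093 q132, e3 q133 L1506 q179, e3 q134 (flp_d L1102) q96, e3 q135 L1115 q135, e3 q136 (flp_d L1523) q181, e3 q137 L1540 q184, e3 q138 (flp_d L1130) q99, e3 q139 L1141 q102, e3 q140 L1147 q101, e3 q141 (flp_d L1576) q189, e3 q142 (flp_d L1562) q187, e3 q143 L1193 q143, e3 q144 L1200 q144, e3 q145 L1209 q108, e3 q146 L1217 q109, e3 q147 (flp_d L1656) q194, e3 q148 L1680 q197, e3 q149 (flp_d L1243) q110, e3 q150 L1258 q150, e3 q151 L1267 q151, e3 q152 L1276 q152, e3 q153 L1289 q153, e3 q154 L1294 q115, e3 q155 L1307 q155, e3 q156 L1788 q207, e3 q157 L1796 q208, e3 q158 (flp_d L1328) q116, e3 q159 L1343 q159, e3 q160 (flp_d L1817) q210, e3 q161 L1835 q213, e3 q162 L1364 q162, e3 q163 L1373 q163, e3 q164 L1867 q217, e3 q165 L1875 q218, e3 q166 (flp_d L1393) q122, e3 q167 (flp_d L1400) q123, e3 q168 L1413 q127, e3 q169 L1421 q125, e3 q170 (flp_d L1933) q225, e3 q171 (flp_d L1906) q221, e3 q172 L1445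 q172, e3 q173 (flp_d L1916) q223, e3 q174 L1971 q230, e3 q175 (flp_d L1462) q129, e3 q176 (flp_d L1992) q232, e3 q177 L2020 q233, e3 q178 L2027 q234, e3 q179 (flp_d L1506) q133, e3 q180 L1517 q180, e3 q181 L1523 q136, e3 q182 L2069 q240, e3 q183 (flp_d L2065) q239, e3 q184 (flp_d L1540) q137, e3 q185 L1553 q185, e3 q186 L1559 q186, e3 q187 L1562 q142, e3 q188 L1572 q188, e3 q189 L1576 q141, e3 q190 (flp_d L2150) q250, e3 q191 (flp_d L2128) q247, trivial⟩ (by decide +kernel)

theorem ce_d_3 : ∀ r, r < 64 → sm gd (Qf (192 + r)) = Qf (tab Gen.d (192 + r)) :=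
  edges_tab (sm gd) Qf (tab Gen.d) 192 [(192, 192), (193, 193), (194, 147), (195, 253), (196, 254), (197, 148), (198, 256), (199, 258), (200, 200), (201, 261), (202, 262), (203, 203), (204, 204), (205, 266), (206, 267), (207, 156), (208, 157), (209, 209), (210, 160), (211, 275), (212, 274), (213, 161), (214, 279), (215, 281), (216, 282), (217, 164), (218, 165), (219, 219), (220, 220), (221, 171), (222, 222), (223, 173), (224, 224), (225, 170), (226, 296), (227, 290), (228, 299), (229, 293), (230, 174), (231, 231), (232, 176), (233, 177), (234, 178), (235, 304), (236, 236), (237, 237), (238, 313), (239, 183), (240, 182), (241, 315), (242, 242), (243, 243), (244, 244), (245, 322), (246, 246), (247, 191), (248, 248), (249, 249), (250, 190), (251, 251), (252, 329), (253, 195), (254, 196), (255, 255)]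
    ⟨e3 q192 L1639 q192, e3 q193 L1649 q193, e3 q194 L1656 q147, e3 q195 L2228 q253, e3 q196 L2237 q254, e3 q197 (flp_d L1680) q148, e3 q198 (flp_d L2262) q256, e3 q199 L2292 q258, e3 q200 L1721 q200, e3 q201 L2319 q261, e3 q202 L2327 q262, e3 q203 L1751 q203, e3 q204 L1764 q204, e3 q205 L2371 q266, e3 q206 L2380 q267, e3 q207 (flp_d L1788) q156, e3 q208 (flp_d L1796) q157, e3 q209 L1809 q209, e3 q210 L1817 q160, e3 q211 L2442 q275, e3 q212 (flp_d L2439) q274, e3 q213 (flp_d L1835) q161, e3 q214 (flp_d L2478) q279, e3 q215 L2493 q281, e3 q216 L2499 q282, e3 q217 (flp_d L1867) q164, e3 q218 (flp_d L1875) q165, e3 q219 L1890 q219, e3 q220 L1898 q220, e3 q221 L1906 q171, e3 q222 L1913 q222, e3 q223 L1916 q173, e3 q224 L1929 q224, e3 q225 L1933 q170, e3 q226 (flp_d L2611) q296, e3 q227 (flp_d L2565) q290, e3 q228 L2634 q299, e3 q229 (flp_d L2587) q293, e3 q230 (flp_d L1971) q174, e3 q231 L1985 q231, e3 q232 L1992 q176, e3 q233 (flp_d L2020) q177, e3 q234 (flp_d L2027) q178, e3 q235 (flp_d L2717)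 q304, e3 q236 L2048 q236, e3 q237 L2051 q237, e3 q238 L2781 q313, e3 q239 L2065 q183, e3 q240 (flp_d L2069) q182, e3 q241 (flp_d L2797) q315, e3 q242 L2098 q242, e3 q243 L2105 q243, e3 q244 L2108 q244, e3 q245 L2857 q322, e3 q246 L2122 q246, e3 q247 L2128 q191, e3 q248 L2138 q248, e3 q249 L2144 q249, e3 q250 L2150 q190, e3 q251 L2215 q251, e3 q252 L2979 q329, e3 q253 (flp_d L2228) q195, e3 q254 (flp_d L2237) q196, e3 q255 L2253 q255, trivial⟩ (by decide +kernel)

theorem ce_d_4 : ∀ r, r < 64 → sm gd (Qf (256 + r)) = Qf (tab Gen.d (256 + r)) :=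
  edges_tab (sm gd) Qf (tab Gen.d) 256 [(256, 198), (257, 336), (258, 199), (259, 337), (260, 339), (261, 201), (262, 202), (263, 342), (264, 344), (265, 345), (266, 205), (267, 206), (268, 340), (269, 269), (270, 270), (271, 271), (272, 272), (273, 358), (274, 212), (275, 211), (276, 361), (277, 360), (278, 278), (279, 214), (280, 365), (281, 215), (282, 216), (283, 283), (284, 367), (285, 285), (286, 286), (287, 287), (288, 378), (289, 289), (290, 227), (291, 383), (292, 292), (293, 229), (294, 294), (295, 295), (296, 226), (297, 381), (298, 390), (299, 228), (300, 306), (301, 301), (302, 302), (303, 314), (304, 235), (305, 305), (306, 300), (307, 307), (308, 396), (309, 404), (310, 310), (311, 311), (312, 408), (313, 238), (314, 303), (315, 241), (316, 316), (317, 317), (318, 414), (319, 319)]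
    ⟨e3 q256 L2262 q198, e3 q257 (flp_d L3045) q336, e3 q258 (flp_d L2292) q199, e3 q259 (flp_d L3089) q337, e3 q260 L3105 q339, e3 q261 (flp_d L2319) q201, e3 q262 (flp_d L2327) q202, e3 q263 (flp_d L3139) q342, e3 q264 L3158 q344, e3 q265 L3165 q345, e3 q266 (flp_d L2371) q205, e3 q267 (flp_d L2380) q206, e3 q268 (flp_d L3121) q340, e3 q269 L2405 q269, e3 q270 L2412 q270, e3 q271 L2419 q271, e3 q272 L2422 q272, e3 q273 L3277 q358, e3 q274 L2439 q212, e3 q275 (flp_d L2442) q211, e3 q276 (flp_d L3302) q361, e3 q277 (flp_d L3294) q360, e3 q278 L2474 q278, e3 q279 L2478 q214, e3 q280 L3339 q365, e3 q281 (flp_d L2493) q215, e3 q282 (flp_d L2499) q216, e3 q283 L2516 q283, e3 q284 (flp_d L3358) q367, e3 q285 L2531 q285, e3 q286 L2540 q286, e3 q287 L2543 q287, e3 q288 L3441 q378, e3 q289 L2560 q289, e3 q290 L2565 q227, e3 q291 L3479 q383, e3 q292 L2581 q292, e3 q293 L2587 q229, e3 q294 L2600 q294, e3 q295 L2606 q295, e3 q296 L2611 q226, e3 q297 (flp_d L3466) q381, e3 q298 L3537 q390, e3 q299 (flp_d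 L2634) q228, e3 q300 (flp_d L2734) q306, e3 q301 L2655 q301, e3 q302 L2658 q302, e3 q303 (flp_d L108348) q314, e3 q304 L2717 q235, e3 q305 L2725 q305, e3 q306 L2734 q300, e3 q307 L2745 q307, e3 q308 (flp_d L3655) q396, e3 q309 L3722 q404, e3 q310 L2763 q310, e3 q311 L2771 q311, e3 q312 L3747 q408, e3 q313 (flp_d L2781) q238, e3 q314 L108348 q303, e3 q315 L2797 q241, e3 q316 L2811 q316, e3 q317 L2823 q317, e3 q318 L3820 q414, e3 q319 L2839 q319, trivial⟩ (by decide +kernel)

theorem ce_d_5 : ∀ r, r < 64 → sm gd (Qf (320 + r)) = Qf (tab Gen.d (320 + r)) :=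
  edges_tab (sm gd) Qf (tab Gen.d) 320 [(320, 320), (321, 418), (322, 245), (323, 420), (324, 324), (325, 325), (326, 326), (327, 327), (328, 424), (329, 252), (330, 348), (331, 331), (332, 332), (333, 333), (334, 334), (335, 411), (336, 257), (337, 259), (338, 437), (339, 260), (340, 268), (341, 341), (342, 263), (343, 444), (344, 264), (345, 265), (346, 438), (347, 446), (348, 330), (349, 349), (350, 440), (351, 457), (352, 352), (353, 353), (354, 462), (355, 355), (356, 356), (357, 466), (358, 273), (359, 468), (360, 277), (361, 276), (362, 362), (363, 363), (364, 475), (365, 280), (366, 366), (367, 284), (368, 368), (369, 477), (370, 370), (371, 486), (372, 480), (373, 373), (374, 491), (375, 375), (376, 376), (377, 495), (378, 288), (379, 497), (380, 380), (381, 297), (382, 500), (383, 291)]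
    ⟨e3 q320 L2846 q320, e3 q321 L3851 q418, e3 q322 (flp_d L2857) q245, e3 q323 (flp_d L3868) q420, e3 q324 L2874 q324, e3 q325 L2884 q325, e3 q326 L2889 q326, e3 q327 L2897 q327, e3 q328 L3990 q424, e3 q329 (flp_d L2979) q252, e3 q330 (flp_d L3200) q348, e3 q331 L3006 q331, e3 q332 L3015 q332, e3 q333 L3023 q333, e3 q334 L3026 q334, e3 q335 (flp_d L109939) q411, e3 q336 L3045 q257, e3 q337 L3089 q259, e3 q338 L4161 q437, e3 q339 (flp_d L3105) q260, e3 q340 L3121 q268, e3 q341 L3131 q341, e3 q342 L3139 q263, e3 q343 L4222 q444, e3 q344 (flp_d L3158) q264, e3 q345 (flp_d L3165) q265, e3 q346 (flp_d L4176) q438, e3 q347 (flp_d L4243) q446, e3 q348 L3200 q330, e3 q349 L3213 q349, e3 q350 (flp_d L4187) q440, e3 q351 L4341 q457, e3 q352 L3234 q352, e3 q353 L3239 q353, e3 q354 L4378 q462, e3 q355 L3256 q355, e3 q356 L3264 q356, e3 q357 L4409 q466, e3 q358 (flp_d L3277) q273, e3 q359 (flp_d L4429) q468, e3 q360 L3294 q277, e3 q361 L3302 q276, e3 q362 L3311 q362, e3 q363 L3328 q363, e3 q364 L4484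 q475, e3 q365 (flp_d L3339) q280, e3 q366 L3352 q366, e3 q367 L3358 q284, e3 q368 L3369 q368, e3 q369 (flp_d L4506) q477, e3 q370 L3379 q370, e3 q371 L4570 q486, e3 q372 (flp_d L4524) q480, e3 q373 L3402 q373, e3 q374 L4610 q491, e3 q375 L3421 q375, e3 q376 L3427 q376, e3 q377 L4645 q495, e3 q378 (flp_d L3441) q288, e3 q379 (flp_d L4663) q497, e3 q380 L3459 q380, e3 q381 L3466 q297, e3 q382 L4682 q500, e3 q383 (flp_d L3479) q291, trivial⟩ (by decide +kernel)

theorem ce_d_6 : ∀ r, r < 64 → sm gd (Qf (384 + r)) = Qf (tab Gen.d (384 + r)) :=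
  edges_tab (sm gd) Qf (tab Gen.d) 384 [(384, 502), (385, 385), (386, 386), (387, 387), (388, 388), (389, 507), (390, 298), (391, 391), (392, 399), (393, 513), (394, 394), (395, 409), (396, 308), (397, 517), (398, 398), (399, 392), (400, 521), (401, 401), (402, 515), (403, 525), (404, 309), (405, 527), (406, 406), (407, 530), (408, 312), (409, 395), (410, 528), (411, 335), (412, 412), (413, 535), (414, 318), (415, 537), (416, 416), (417, 540), (418, 321), (419, 543), (420, 323), (421, 546), (422, 422), (423, 423), (424, 328), (425, 447), (426, 549), (427, 452), (428, 555), (429, 429), (430, 430), (431, 559), (432, 432), (433, 433), (434, 533), (435, 470), (436, 563), (437, 338), (438, 346), (439, 565), (440, 350), (441, 571), (442, 442), (443, 574), (444, 343), (445, 564), (446, 347), (447, 425)]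
    ⟨e3 q384 (flp_d L4701) q502, e3 q385 L3498 q385, e3 q386 L3511 q386, e3 q387 L3516 q387, e3 q388 L3523 q388, e3 q389 L4736 q507, e3 q390 (flp_d L3537) q298, e3 q391 L3550 q391, e3 q392 (flp_d L3679) q399, e3 q393 L4781 q513, e3 q394 L3577 q394, e3 q395 (flp_d L110003) q409, e3 q396 L3655 q308, e3 q397 L4926 q517, e3 q398 L3672 q398, e3 q399 L3679 q392, e3 q400 L4970 q521, e3 q401 L3702 q401, e3 q402 (flp_d L4912) q515, e3 q403 L5008 q525, e3 q404 (flp_d L3722) q309, e3 q405 (flp_d L5024) q527, e3 q406 L3736 q406, e3 q407 L5038 q530, e3 q408 (flp_d L3747) q312, e3 q409 L110003 q395, e3 q410 (flp_d L5029) q528, e3 q411 L109939 q335, e3 q412 L3807 q412, e3 q413 L5136 q535, e3 q414 (flp_d L3820) q318, e3 q415 (flp_d L5155) q537, e3 q416 L3839 q416, e3 q417 L5175 q540, e3 q418 (flp_d L3851) q321, e3 q419 (flp_d L5199) q543, e3 q420 L3868 q323, e3 q421 (flp_d L5220) q546, e3 q422 L3884 q422, e3 q423 L3891 q423, e3 q424 (flp_d L3990) q328, e3 q425 (flp_d L4255) q447, e3 q426 (flp_d L5365) q549,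 e3 q427 (flp_d L4293) q452, e3 q428 L5411 q555, e3 q429 L4037 q429, e3 q430 L4042 q430, e3 q431 L5453 q559, e3 q432 L4061 q432, e3 q433 L4068 q433, e3 q434 L85758 q533, e3 q435 L109530 q470, e3 q436 L5599 q563, e3 q437 (flp_d L4161) q338, e3 q438 L4176 q346, e3 q439 (flp_d L5621) q565, e3 q440 L4187 q350, e3 q441 L5670 q571, e3 q442 L4207 q442, e3 q443 L5695 q574, e3 q444 (flp_d L4222) q343, e3 q445 (flp_d L5613) q564, e3 q446 L4243 q347, e3 q447 L4255 q425, trivial⟩ (by decide +kernel)

theorem ce_d_7 : ∀ r, r < 64 → sm gd (Qf (448 + r)) = Qf (tab Gen.d (448 + r)) :=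
  edges_tab (sm gd) Qf (tab Gen.d) 448 [(448, 576), (449, 566), (450, 585), (451, 579), (452, 427), (453, 590), (454, 454), (455, 569), (456, 594), (457, 351), (458, 596), (459, 459), (460, 460), (461, 600), (462, 354), (463, 602), (464, 464), (465, 605), (466, 357), (467, 607), (468, 359), (469, 597), (470, 435), (471, 471), (472, 472), (473, 473), (474, 614), (475, 364), (476, 476), (477, 369), (478, 478), (479, 622), (480, 372), (481, 481), (482, 627), (483, 619), (484, 484), (485, 631), (486, 371), (487, 633), (488, 624), (489, 489), (490, 637), (491, 374), (492, 639), (493, 493), (494, 642), (495, 377), (496, 645), (497, 379), (498, 648), (499, 649), (500, 382), (501, 652), (502, 384), (503, 634), (504, 655), (505, 505), (506, 506), (507, 389), (508, 508), (509, 509), (510, 510), (511, 519)]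
    ⟨e3 q448 (flp_d L5725) q576, e3 q449 (flp_d L5625) q566, e3 q450 L5799 q585, e3 q451 (flp_d L5744) q579, e3 q452 L4293 q427, e3 q453 L5843 q590, e3 q454 L4319 q454, e3 q455 (flp_d L5653) q569, e3 q456 L5885 q594, e3 q457 (flp_d L4341) q351, e3 q458 (flp_d L5902) q596, e3 q459 L4356 q459, e3 q460 L4365 q460, e3 q461 L5927 q600, e3 q462 (flp_d L4378) q354, e3 q463 (flp_d L5946) q602, e3 q464 L4395 q464, e3 q465 L5962 q605, e3 q466 (flp_d L4409) q357, e3 q467 (flp_d L5983) q607, e3 q468 L4429 q359, e3 q469 (flp_d L5909) q597, e3 q470 (flp_d L109530) q435, e3 q471 L4450 q471, e3 q472 L4465 q472, e3 q473 L4469 q473, e3 q474 L6060 q614, e3 q475 (flp_d L4484) q364, e3 q476 L4499 q476, e3 q477 L4506 q369, e3 q478 L4510 q478, e3 q479 L6120 q622, e3 q480 L4524 q372, e3 q481 L4530 q481, e3 q482 L6160 q627, e3 q483 (flp_d L6102) q619, e3 q484 L4556 q484, e3 q485 L6194 q631, e3 q486 (flp_d L4570) q371, e3 q487 (flp_d L6211) q633, e3 q488 (flp_d L6137) q624, e3 q489 L4594 q489, e3 q490 L6240 q637,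 e3 q491 (flp_d L4610) q374, e3 q492 (flp_d L6260) q639, e3 q493 L4630 q493, e3 q494 L6283 q642, e3 q495 (flp_d L4645) q377, e3 q496 (flp_d L6310) q645, e3 q497 L4663 q379, e3 q498 (flp_d L6331) q648, e3 q499 L6336 q649, e3 q500 (flp_d L4682) q382, e3 q501 (flp_d L6364) q652, e3 q502 L4701 q384, e3 q503 (flp_d L6218) q634, e3 q504 (flp_d L6387) q655, e3 q505 L4726 q505, e3 q506 L4732 q506, e3 q507 (flp_d L4736) q389, e3 q508 L4750 q508, e3 q509 L4757 q509, e3 q510 L4762 q510, e3 q511 (flp_d L4953) q519, trivial⟩ (by decide +kernel)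

theorem ce_d_8 : ∀ r, r < 64 → sm gd (Qf (512 + r)) = Qf (tab Gen.d (512 + r)) :=
  edges_tab (sm gd) Qf (tab Gen.d) 512 [(512, 664), (513, 393), (514, 531), (515, 402), (516, 666), (517, 397), (518, 668), (519, 511), (520, 671), (521, 400), (522, 673), (523, 523), (524, 676), (525, 403), (526, 679), (527, 405), (528, 410), (529, 682), (530, 407), (531, 514), (532, 680), (533, 434), (534, 685), (535, 413), (536, 688), (537, 415), (538, 538), (539, 692), (540, 417), (541, 695), (542, 678), (543, 419), (544, 699), (545, 545), (546, 421), (547, 547), (548, 575), (549, 426), (550, 580), (551, 706), (552, 703), (553, 588), (554, 709), (555, 428), (556, 711), (557, 557), (558, 713), (559, 431), (560, 715), (561, 684), (562, 609), (563, 436), (564, 445), (565, 439), (566, 449), (567, 725), (568, 722), (569, 455), (570, 729), (571, 441), (572, 731), (573, 573), (574, 443), (575, 548)]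
    ⟨e3 q512 L6456 q664, e3 q513 (flp_d L4781) q393, e3 q514 (flp_d L105253) q531, e3 q515 L4912 q402, e3 q516 L6653 q666, e3 q517 (flp_d L4926) q397, e3 q518 (flp_d L6673) q668, e3 q519 L4953 q511, e3 q520 L6702 q671, e3 q521 (flp_d L4970) q400, e3 q522 (flp_d L6725) q673, e3 q523 L4995 q523, e3 q524 L6747 q676, e3 q525 (flp_d L5008) q403, e3 q526 (flp_d L6769) q679, e3 q527 L5024 q405, e3 q528 L5029 q410, e3 q529 (flp_d L6793) q682, e3 q530 (flp_d L5038) q407, e3 q531 L105253 q514, e3 q532 (flp_d L6775) q680, e3 q533 (flp_d L85758) q434, e3 q534 L6922 q685, e3 q535 (flp_d L5136) q413, e3 q536 (flp_d L6949) q688, e3 q537 L5155 q415, e3 q538 L5164 q538, e3 q539 (flp_d L6980) q692, e3 q540 (flp_d L5175) q417, e3 q541 (flp_d L7003) q695, e3 q542 (flp_d L6763) q678, e3 q543 L5199 q419, e3 q544 (flp_d L7031) q699, e3 q545 L5214 q545, e3 q546 L5220 q421, e3 q547 L5228 q547, e3 q548 (flp_d L5714) q575, e3 q549 L5365 q426, e3 q550 (flp_d L5750) q580, e3 q551 L7235 q706, e3 q552 (flp_d L7213) q703,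 e3 q553 (flp_d L5823) q588, e3 q554 L7271 q709, e3 q555 (flp_d L5411) q428, e3 q556 (flp_d L7289) q711, e3 q557 L5439 q557, e3 q558 L7319 q713, e3 q559 (flp_d L5453) q431, e3 q560 (flp_d L7339) q715, e3 q561 (flp_d L109946) q684, e3 q562 (flp_d L110117) q609, e3 q563 (flp_d L5599) q436, e3 q564 L5613 q445, e3 q565 L5621 q439, e3 q566 L5625 q449, e3 q567 L7588 q725, e3 q568 (flp_d L7563) q722, e3 q569 L5653 q455, e3 q570 L7623 q729, e3 q571 (flp_d L5670) q441, e3 q572 (flp_d L7644) q731, e3 q573 L5689 q573, e3 q574 (flp_d L5695) q443, e3 q575 L5714 q548, trivial⟩ (by decide +kernel)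

theorem ce_d_9 : ∀ r, r < 64 → sm gd (Qf (576 + r)) = Qf (tab Gen.d (576 + r)) :=
  edges_tab (sm gd) Qf (tab Gen.d) 576 [(576, 448), (577, 720), (578, 741), (579, 451), (580, 550), (581, 746), (582, 738), (583, 723), (584, 750), (585, 450), (586, 752), (587, 743), (588, 553), (589, 756), (590, 453), (591, 758), (592, 592), (593, 761), (594, 456), (595, 764), (596, 458), (597, 469), (598, 768), (599, 771), (600, 461), (601, 774), (602, 463), (603, 753), (604, 778), (605, 465), (606, 781), (607, 467), (608, 765), (609, 562), (610, 777), (611, 769), (612, 770), (613, 788), (614, 474), (615, 789), (616, 616), (617, 617), (618, 796), (619, 483), (620, 620), (621, 800), (622, 479), (623, 802), (624, 488), (625, 625), (626, 806), (627, 482), (628, 808), (629, 798), (630, 811), (631, 485), (632, 814), (633, 487), (634, 503), (635, 818), (636, 821), (637, 490), (638, 824), (639, 492)]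
    ⟨e3 q576 L5725 q448, e3 q577 (flp_d L7546) q720, e3 q578 L7731 q741, e3 q579 L5744 q451, e3 q580 L5750 q550, e3 q581 L7775 q746, e3 q582 (flp_d L7711) q738, e3 q583 (flp_d L7571) q723, e3 q584 L7816 q750, e3 q585 (flp_d L5799) q450, e3 q586 (flp_d L7833) q752, e3 q587 (flp_d L7746) q743, e3 q588 L5823 q553, e3 q589 L7862 q756, e3 q590 (flp_d L5843) q453, e3 q591 (flp_d L7886) q758, e3 q592 L5869 q592, e3 q593 L7911 q761, e3 q594 (flp_d L5885) q456, e3 q595 (flp_d L7936) q764, e3 q596 L5902 q458, e3 q597 L5909 q469, e3 q598 (flp_d L7962) q768, e3 q599 L7980 q771, e3 q600 (flp_d L5927) q461, e3 q601 (flp_d L8008) q774, e3 q602 L5946 q463, e3 q603 (flp_d L7838) q753, e3 q604 (flp_d L8037) q778, e3 q605 (flp_d L5962) q465, e3 q606 (flp_d L8057) q781, e3 q607 L5983 q467, e3 q608 (flp_d L7944) q765, e3 q609 L110117 q562, e3 q610 (flp_d L8031) q777, e3 q611 (flp_d L7971) q769, e3 q612 (flp_d L7976) q770, e3 q613 L8154 q788, e3 q614 (flp_d L6060) q474, e3 q615 (flp_d L8183) q789, e3 q616 L6083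 q616, e3 q617 L6086 q617, e3 q618 L8232 q796, e3 q619 L6102 q483, e3 q620 L6109 q620, e3 q621 L8265 q800, e3 q622 (flp_d L6120) q479, e3 q623 (flp_d L8282) q802, e3 q624 L6137 q488, e3 q625 L6144 q625, e3 q626 L8309 q806, e3 q627 (flp_d L6160) q482, e3 q628 (flp_d L8329) q808, e3 q629 (flp_d L8252) q798, e3 q630 L8350 q811, e3 q631 (flp_d L6194) q485, e3 q632 (flp_d L8374) q814, e3 q633 L6211 q487, e3 q634 L6218 q503, e3 q635 (flp_d L8402) q818, e3 q636 L8419 q821, e3 q637 (flp_d L6240) q490, e3 q638 (flp_d L8449) q824, e3 q639 L6260 q492, trivial⟩ (by decide +kernel)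

theorem ce_d_10 : ∀ r, r < 64 → sm gd (Qf (640 + r)) = Qf (tab Gen.d (640 + r)) :=
  edges_tab (sm gd) Qf (tab Gen.d) 640 [(640, 640), (641, 828), (642, 494), (643, 831), (644, 763), (645, 496), (646, 835), (647, 817), (648, 498), (649, 499), (650, 838), (651, 773), (652, 501), (653, 815), (654, 843), (655, 504), (656, 819), (657, 820), (658, 658), (659, 659), (660, 660), (661, 851), (662, 662), (663, 853), (664, 512), (665, 855), (666, 516), (667, 858), (668, 518), (669, 669), (670, 862), (671, 520), (672, 865), (673, 522), (674, 674), (675, 868), (676, 524), (677, 870), (678, 542), (679, 526), (680, 532), (681, 875), (682, 529), (683, 871), (684, 561), (685, 534), (686, 877), (687, 864), (688, 536), (689, 689), (690, 883), (691, 691), (692, 539), (693, 693), (694, 869), (695, 541), (696, 891), (697, 873), (698, 698), (699, 544), (700, 700), (701, 736), (702, 898), (703, 552)]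
    ⟨e3 q640 L6271 q640, e3 q641 (flp_d L8482) q828, e3 q642 (flp_d L6283) q494, e3 q643 (flp_d L8509) q831, e3 q644 (flp_d L7930) q763, e3 q645 L6310 q496, e3 q646 (flp_d L8537) q835, e3 q647 (flp_d L8396) q817, e3 q648 L6331 q498, e3 q649 (flp_d L6336) q499, e3 q650 (flp_d L8562) q838, e3 q651 (flp_d L8002) q773, e3 q652 L6364 q501, e3 q653 (flp_d L8382) q815, e3 q654 (flp_d L8602) q843, e3 q655 L6387 q504, e3 q656 (flp_d L8410) q819, e3 q657 (flp_d L8415) q820, e3 q658 L6412 q658, e3 q659 L6423 q659, e3 q660 L6431 q660, e3 q661 L8663 q851, e3 q662 L6443 q662, e3 q663 L8678 q853, e3 q664 (flp_d L6456) q512, e3 q665 L8965 q855, e3 q666 (flp_d L6653) q516, e3 q667 (flp_d L8994) q858, e3 q668 L6673 q518, e3 q669 L6682 q669, e3 q670 L9043 q862, e3 q671 (flp_d L6702) q520, e3 q672 (flp_d L9078) q865, e3 q673 L6725 q522, e3 q674 L6736 q674, e3 q675 (flp_d L9114) q868, e3 q676 (flp_d L6747) q524, e3 q677 (flp_d L9146) q870, e3 q678 L6763 q542, e3 q679 L6769 q526, e3 q680 L6775 q532, e3 q681 (flp_d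 L9185) q875, e3 q682 L6793 q529, e3 q683 (flp_d L9152) q871, e3 q684 L109946 q561, e3 q685 (flp_d L6922) q534, e3 q686 (flp_d L9369) q877, e3 q687 (flp_d L9072) q864, e3 q688 L6949 q536, e3 q689 L6958 q689, e3 q690 (flp_d L9416) q883, e3 q691 L6974 q691, e3 q692 L6980 q539, e3 q693 L6990 q693, e3 q694 (flp_d L9140) q869, e3 q695 L7003 q541, e3 q696 (flp_d L9479) q891, e3 q697 (flp_d L9168) q873, e3 q698 L7025 q698, e3 q699 L7031 q544, e3 q700 L7038 q700, e3 q701 (flp_d L7688) q736, e3 q702 L9724 q898, e3 q703 L7213 q552, trivial⟩ (by decide +kernel)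

theorem ce_d_11 : ∀ r, r < 64 → sm gd (Qf (704 + r)) = Qf (tab Gen.d (704 + r)) :=
  edges_tab (sm gd) Qf (tab Gen.d) 704 [(704, 744), (705, 901), (706, 551), (707, 903), (708, 905), (709, 554), (710, 908), (711, 556), (712, 910), (713, 558), (714, 913), (715, 560), (716, 904), (717, 783), (718, 718), (719, 719), (720, 577), (721, 922), (722, 568), (723, 583), (724, 926), (725, 567), (726, 928), (727, 924), (728, 931), (729, 570), (730, 934), (731, 572), (732, 732), (733, 938), (734, 734), (735, 735), (736, 701), (737, 946), (738, 582), (739, 920), (740, 950), (741, 578), (742, 952), (743, 587), (744, 704), (745, 956), (746, 581), (747, 958), (748, 948), (749, 961), (750, 584), (751, 964), (752, 586), (753, 603), (754, 968), (755, 971), (756, 589), (757, 974), (758, 591), (759, 759), (760, 978), (761, 593), (762, 982), (763, 644), (764, 595), (765, 608), (766, 988), (767, 967)]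
    ⟨e3 q704 (flp_d L7755) q744, e3 q705 L9759 q901, e3 q706 (flp_d L7235) q551, e3 q707 (flp_d L9777) q903, e3 q708 L9797 q905, e3 q709 (flp_d L7271) q554, e3 q710 (flp_d L9824) q908, e3 q711 L7289 q556, e3 q712 L9875 q910, e3 q713 (flp_d L7319) q558, e3 q714 (flp_d L9905) q913, e3 q715 L7339 q560, e3 q716 (flp_d L9784) q904, e3 q717 L104822 q783, e3 q718 L7535 q718, e3 q719 L7543 q719, e3 q720 L7546 q577, e3 q721 L10236 q922, e3 q722 L7563 q568, e3 q723 L7571 q583, e3 q724 L10270 q926, e3 q725 (flp_d L7588) q567, e3 q726 (flp_d L10291) q928, e3 q727 (flp_d L10255) q924, e3 q728 L10311 q931, e3 q729 (flp_d L7623) q570, e3 q730 (flp_d L10343) q934, e3 q731 L7644 q572, e3 q732 L7655 q732, e3 q733 (flp_d L10376) q938, e3 q734 L7674 q734, e3 q735 L7685 q735, e3 q736 L7688 q701, e3 q737 L10450 q946, e3 q738 L7711 q582, e3 q739 (flp_d L10222) q920, e3 q740 L10490 q950, e3 q741 (flp_d L7731) q578, e3 q742 (flp_d L10507) q952, e3 q743 L7746 q587, e3 q744 L7755 q704, e3 q745 L10534 q956, e3 q746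 (flp_d L7775) q581, e3 q747 (flp_d L10558) q958, e3 q748 (flp_d L10476) q948, e3 q749 L10582 q961, e3 q750 (flp_d L7816) q584, e3 q751 (flp_d L10606) q964, e3 q752 L7833 q586, e3 q753 L7838 q603, e3 q754 (flp_d L10632) q968, e3 q755 L10646 q971, e3 q756 (flp_d L7862) q589, e3 q757 (flp_d L10684) q974, e3 q758 L7886 q591, e3 q759 L7899 q759, e3 q760 (flp_d L10722) q978, e3 q761 (flp_d L7911) q593, e3 q762 (flp_d L10760) q982, e3 q763 L7930 q644, e3 q764 L7936 q595, e3 q765 L7944 q608, e3 q766 (flp_d L10803) q988, e3 q767 (flp_d L10628) q967, trivial⟩ (by decide +kernel)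

theorem ce_d_12 : ∀ r, r < 64 → sm gd (Qf (768 + r)) = Qf (tab Gen.d (768 + r)) :=
  edges_tab (sm gd) Qf (tab Gen.d) 768 [(768, 598), (769, 611), (770, 612), (771, 599), (772, 994), (773, 651), (774, 601), (775, 965), (776, 1000), (777, 610), (778, 604), (779, 969), (780, 970), (781, 606), (782, 983), (783, 717), (784, 999), (785, 989), (786, 990), (787, 1010), (788, 613), (789, 615), (790, 790), (791, 1012), (792, 1017), (793, 793), (794, 794), (795, 1021), (796, 618), (797, 1023), (798, 629), (799, 1026), (800, 621), (801, 1029), (802, 623), (803, 803), (804, 1033), (805, 1036), (806, 626), (807, 1039), (808, 628), (809, 809), (810, 1043), (811, 630), (812, 1047), (813, 963), (814, 632), (815, 653), (816, 1053), (817, 647), (818, 635), (819, 656), (820, 657), (821, 636), (822, 1061), (823, 973), (824, 638), (825, 825), (826, 1067), (827, 1042), (828, 641), (829, 829), (830, 981), (831, 643)]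
    ⟨e3 q768 L7962 q598, e3 q769 L7971 q611, e3 q770 L7976 q612, e3 q771 (flp_d L7980) q599, e3 q772 (flp_d L10862) q994, e3 q773 L8002 q651, e3 q774 L8008 q601, e3 q775 (flp_d L10613) q965, e3 q776 (flp_d L10908) q1000, e3 q777 L8031 q610, e3 q778 L8037 q604, e3 q779 (flp_d L10639) q969, e3 q780 (flp_d L10643) q970, e3 q781 L8057 q606, e3 q782 (flp_d L10768) q983, e3 q783 (flp_d L104822) q717, e3 q784 (flp_d L10901) q999, e3 q785 (flp_d L10813) q989, e3 q786 (flp_d L10819) q990, e3 q787 L11033 q1010, e3 q788 (flp_d L8154) q613, e3 q789 L8183 q615, e3 q790 L8192 q790, e3 q791 (flp_d L11090) q1012, e3 q792 L11129 q1017, e3 q793 L8212 q793, e3 q794 L8219 q794, e3 q795 L11161 q1021, e3 q796 (flp_d L8232) q618, e3 q797 (flp_d L11181) q1023, e3 q798 L8252 q629, e3 q799 L11201 q1026, e3 q800 (flp_d L8265) q621, e3 q801 (flp_d L11225) q1029, e3 q802 L8282 q623, e3 q803 L8291 q803, e3 q804 (flp_d L11253) q1033, e3 q805 L11272 q1036, e3 q806 (flp_d L8309) q626, e3 q807 (flp_d L11301) q1039, e3 q808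 L8329 q628, e3 q809 L8338 q809, e3 q810 (flp_d L11333) q1043, e3 q811 (flp_d L8350) q630, e3 q812 (flp_d L11363) q1047, e3 q813 (flp_d L10600) q963, e3 q814 L8374 q632, e3 q815 L8382 q653, e3 q816 (flp_d L11405) q1053, e3 q817 L8396 q647, e3 q818 L8402 q635, e3 q819 L8410 q656, e3 q820 L8415 q657, e3 q821 (flp_d L8419) q636, e3 q822 (flp_d L11467) q1061, e3 q823 (flp_d L10678) q973, e3 q824 L8449 q638, e3 q825 L8460 q825, e3 q826 (flp_d L11518) q1067, e3 q827 (flp_d L11327) q1042, e3 q828 L8482 q641, e3 q829 L8494 q829, e3 q830 (flp_d L10754) q981, e3 q831 L8509 q643, trivial⟩ (by decide +kernel)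

theorem ce_d_13 : ∀ r, r < 64 → sm gd (Qf (832 + r)) = Qf (tab Gen.d (832 + r)) :=
  edges_tab (sm gd) Qf (tab Gen.d) 832 [(832, 1075), (833, 985), (834, 1052), (835, 646), (836, 1056), (837, 993), (838, 650), (839, 1048), (840, 1083), (841, 997), (842, 1088), (843, 654), (844, 1054), (845, 1055), (846, 1058), (847, 1059), (848, 848), (849, 1094), (850, 850), (851, 661), (852, 1097), (853, 663), (854, 854), (855, 665), (856, 1100), (857, 857), (858, 667), (859, 859), (860, 860), (861, 861), (862, 670), (863, 1107), (864, 687), (865, 672), (866, 866), (867, 1112), (868, 675), (869, 694), (870, 677), (871, 683), (872, 1116), (873, 697), (874, 874), (875, 681), (876, 1106), (877, 686), (878, 878), (879, 1122), (880, 1110), (881, 1127), (882, 882), (883, 690), (884, 884), (885, 885), (886, 1133), (887, 887), (888, 1113), (889, 1114), (890, 890), (891, 696), (892, 1138), (893, 1117), (894, 894), (895, 895)]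
    ⟨e3 q832 (flp_d L11585) q1075, e3 q833 (flp_d L10785) q985, e3 q834 (flp_d L11398) q1052, e3 q835 L8537 q646, e3 q836 (flp_d L11427) q1056, e3 q837 (flp_d L10856) q993, e3 q838 L8562 q650, e3 q839 (flp_d L11372) q1048, e3 q840 (flp_d L11650) q1083, e3 q841 (flp_d L10886) q997, e3 q842 L11688 q1088, e3 q843 L8602 q654, e3 q844 (flp_d L11414) q1054, e3 q845 (flp_d L11420) q1055, e3 q846 (flp_d L11444) q1058, e3 q847 (flp_d L11449) q1059, e3 q848 L8640 q848, e3 q849 L11734 q1094, e3 q850 L8659 q850, e3 q851 (flp_d L8663) q661, e3 q852 (flp_d L11761) q1097, e3 q853 (flp_d L8678) q663, e3 q854 L8697 q854, e3 q855 (flp_d L8965) q665, e3 q856 (flp_d L12182) q1100, e3 q857 L8989 q857, e3 q858 L8994 q667, e3 q859 L9004 q859, e3 q860 L9019 q860, e3 q861 L9034 q861, e3 q862 (flp_d L9043) q670, e3 q863 (flp_d L12295) q1107, e3 q864 L9072 q687, e3 q865 L9078 q672, e3 q866 L9088 q866, e3 q867 (flp_d L12349) q1112, e3 q868 L9114 q675, e3 q869 L9140 q694, e3 q870 L9146 q677, e3 q871 L9152 q683, e3 q872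 (flp_d L12435) q1116, e3 q873 L9168 q697, e3 q874 L9175 q874, e3 q875 L9185 q681, e3 q876 (flp_d L12287) q1106, e3 q877 L9369 q686, e3 q878 L9379 q878, e3 q879 (flp_d L12726) q1122, e3 q880 (flp_d L12325) q1110, e3 q881 L12762 q1127, e3 q882 L9410 q882, e3 q883 L9416 q690, e3 q884 L9426 q884, e3 q885 L9432 q885, e3 q886 L12809 q1133, e3 q887 L9451 q887, e3 q888 (flp_d L12408) q1113, e3 q889 (flp_d L12417) q1114, e3 q890 L9472 q890, e3 q891 L9479 q696, e3 q892 L12847 q1138, e3 q893 (flp_d L12461) q1117, e3 q894 L9499 q894, e3 q895 L9507 q895, trivial⟩ (by decide +kernel)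

theorem ce_d_14 : ∀ r, r < 64 → sm gd (Qf (896 + r)) = Qf (tab Gen.d (896 + r)) :=
  edges_tab (sm gd) Qf (tab Gen.d) 896 [(896, 944), (897, 1142), (898, 702), (899, 1144), (900, 1146), (901, 705), (902, 1149), (903, 707), (904, 716), (905, 708), (906, 1155), (907, 907), (908, 710), (909, 1151), (910, 712), (911, 1159), (912, 912), (913, 714), (914, 1150), (915, 1152), (916, 1153), (917, 917), (918, 1168), (919, 919), (920, 739), (921, 1172), (922, 721), (923, 1174), (924, 727), (925, 1177), (926, 724), (927, 1180), (928, 726), (929, 929), (930, 1184), (931, 728), (932, 1188), (933, 933), (934, 730), (935, 935), (936, 1194), (937, 1183), (938, 733), (939, 939), (940, 940), (941, 941), (942, 1203), (943, 943), (944, 896), (945, 1207), (946, 737), (947, 1209), (948, 748), (949, 1212), (950, 740), (951, 1215), (952, 742), (953, 953), (954, 1219), (955, 1222), (956, 745), (957, 1225), (958, 747), (959, 959)]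
    ⟨e3 q896 (flp_d L10433) q944, e3 q897 L13140 q1142, e3 q898 (flp_d L9724) q702, e3 q899 (flp_d L13158) q1144, e3 q900 L13177 q1146, e3 q901 (flp_d L9759) q705, e3 q902 (flp_d L13203) q1149, e3 q903 L9777 q707, e3 q904 L9784 q716, e3 q905 (flp_d L9797) q708, e3 q906 (flp_d L13263) q1155, e3 q907 L9819 q907, e3 q908 L9824 q710, e3 q909 (flp_d L13226) q1151, e3 q910 (flp_d L9875) q712, e3 q911 (flp_d L13375) q1159, e3 q912 L9900 q912, e3 q913 L9905 q714, e3 q914 (flp_d L13210) q1150, e3 q915 (flp_d L13241) q1152, e3 q916 (flp_d L13247) q1153, e3 q917 L10196 q917, e3 q918 L13817 q1168, e3 q919 L10214 q919, e3 q920 L10222 q739, e3 q921 L13848 q1172, e3 q922 (flp_d L10236) q721, e3 q923 (flp_d L13869) q1174, e3 q924 L10255 q727, e3 q925 L13888 q1177, e3 q926 (flp_d L10270) q724, e3 q927 (flp_d L13919) q1180, e3 q928 L10291 q726, e3 q929 L10300 q929, e3 q930 (flp_d L13952) q1184, e3 q931 (flp_d L10311) q728, e3 q932 (flp_d L13985) q1188, e3 q933 L10338 q933, e3 q934 L10343 q730, e3 q935 L10355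 q935, e3 q936 (flp_d L14037) q1194, e3 q937 (flp_d L13946) q1183, e3 q938 L10376 q733, e3 q939 L10387 q939, e3 q940 L10391 q940, e3 q941 L10400 q941, e3 q942 L14113 q1203, e3 q943 L10424 q943, e3 q944 L10433 q896, e3 q945 L14154 q1207, e3 q946 (flp_d L10450) q737, e3 q947 (flp_d L14178) q1209, e3 q948 L10476 q748, e3 q949 L14201 q1212, e3 q950 (flp_d L10490) q740, e3 q951 (flp_d L14225) q1215, e3 q952 L10507 q742, e3 q953 L10514 q953, e3 q954 (flp_d L14251) q1219, e3 q955 L14267 q1222, e3 q956 (flp_d L10534) q745, e3 q957 (flp_d L14304) q1225, e3 q958 L10558 q747, e3 q959 L10569 q959, trivial⟩ (by decide +kernel)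

theorem ce_d_15 : ∀ r, r < 64 → sm gd (Qf (960 + r)) = Qf (tab Gen.d (960 + r)) :=
  edges_tab (sm gd) Qf (tab Gen.d) 960 [(960, 1229), (961, 749), (962, 1233), (963, 813), (964, 751), (965, 775), (966, 1239), (967, 767), (968, 754), (969, 779), (970, 780), (971, 755), (972, 1247), (973, 823), (974, 757), (975, 975), (976, 1253), (977, 1228), (978, 760), (979, 979), (980, 980), (981, 830), (982, 762), (983, 782), (984, 1262), (985, 833), (986, 986), (987, 1238), (988, 766), (989, 785), (990, 786), (991, 1242), (992, 1271), (993, 837), (994, 772), (995, 1234), (996, 1276), (997, 841), (998, 1282), (999, 784), (1000, 776), (1001, 1240), (1002, 1241), (1003, 1287), (1004, 1244), (1005, 1245), (1006, 1275), (1007, 1263), (1008, 1264), (1009, 1291), (1010, 787), (1011, 1292), (1012, 791), (1013, 1296), (1014, 1014), (1015, 1294), (1016, 1300), (1017, 792), (1018, 1302), (1019, 1019), (1020, 1305), (1021, 795), (1022, 1308), (1023, 797)]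
    ⟨e3 q960 (flp_d L14342) q1229, e3 q961 (flp_d L10582) q749, e3 q962 (flp_d L14375) q1233, e3 q963 L10600 q813, e3 q964 L10606 q751, e3 q965 L10613 q775, e3 q966 (flp_d L14416) q1239, e3 q967 L10628 q767, e3 q968 L10632 q754, e3 q969 L10639 q779, e3 q970 L10643 q780, e3 q971 (flp_d L10646) q755, e3 q972 (flp_d L14475) q1247, e3 q973 L10678 q823, e3 q974 L10684 q757, e3 q975 L10696 q975, e3 q976 (flp_d L14533) q1253, e3 q977 (flp_d L14334) q1228, e3 q978 L10722 q760, e3 q979 L10735 q979, e3 q980 L10741 q980, e3 q981 L10754 q830, e3 q982 L10760 q762, e3 q983 L10768 q782, e3 q984 (flp_d L14627) q1262, e3 q985 L10785 q833, e3 q986 L10794 q986, e3 q987 (flp_d L14410) q1238, e3 q988 L10803 q766, e3 q989 L10813 q785, e3 q990 L10819 q786, e3 q991 (flp_d L14436) q1242, e3 q992 L14719 q1271, e3 q993 L10856 q837, e3 q994 L10862 q772, e3 q995 (flp_d L14382) q1234, e3 q996 (flp_d L14774) q1276, e3 q997 L10886 q841, e3 q998 L14815 q1282, e3 q999 L10901 q784, e3 q1000 L10908 q776, e3 q1001 (flp_d L14425)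 q1240, e3 q1002 (flp_d L14431) q1241, e3 q1003 L14874 q1287, e3 q1004 (flp_d L14449) q1244, e3 q1005 (flp_d L14453) q1245, e3 q1006 (flp_d L14767) q1275, e3 q1007 (flp_d L14637) q1263, e3 q1008 (flp_d L14643) q1264, e3 q1009 L14944 q1291, e3 q1010 (flp_d L11033) q787, e3 q1011 (flp_d L14993) q1292, e3 q1012 L11090 q791, e3 q1013 L15067 q1296, e3 q1014 L11109 q1014, e3 q1015 (flp_d L15052) q1294, e3 q1016 L15101 q1300, e3 q1017 (flp_d L11129) q792, e3 q1018 (flp_d L15119) q1302, e3 q1019 L11147 q1019, e3 q1020 L15139 q1305, e3 q1021 (flp_d L11161) q795, e3 q1022 (flp_d L15168) q1308, e3 q1023 L11181 q797, trivial⟩ (by decide +kernel)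

theorem ce_d_16 : ∀ r, r < 64 → sm gd (Qf (1024 + r)) = Qf (tab Gen.d (1024 + r)) :=
  edges_tab (sm gd) Qf (tab Gen.d) 1024 [(1024, 1303), (1025, 1312), (1026, 799), (1027, 1316), (1028, 1214), (1029, 801), (1030, 1030), (1031, 1322), (1032, 1032), (1033, 804), (1034, 1034), (1035, 1035), (1036, 805), (1037, 1330), (1038, 1224), (1039, 807), (1040, 1040), (1041, 1336), (1042, 827), (1043, 810), (1044, 1044), (1045, 1045), (1046, 1232), (1047, 812), (1048, 839), (1049, 1343), (1050, 1236), (1051, 1349), (1052, 834), (1053, 816), (1054, 844), (1055, 845), (1056, 836), (1057, 1057), (1058, 846), (1059, 847), (1060, 1246), (1061, 822), (1062, 1062), (1063, 1359), (1064, 1250), (1065, 1364), (1066, 1335), (1067, 826), (1068, 1068), (1069, 1313), (1070, 1304), (1071, 1071), (1072, 1258), (1073, 1259), (1074, 1342), (1075, 832), (1076, 1372), (1077, 1266), (1078, 1351), (1079, 1314), (1080, 1272), (1081, 1273), (1082, 1379), (1083, 840), (1084, 1344), (1085, 1345), (1086, 1280), (1087, 1384)]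
    ⟨e3 q1024 (flp_d L15127) q1303, e3 q1025 (flp_d L15200) q1312, e3 q1026 (flp_d L11201) q799, e3 q1027 (flp_d L15232) q1316, e3 q1028 (flp_d L14219) q1214, e3 q1029 L11225 q801, e3 q1030 L11233 q1030, e3 q1031 (flp_d L15274) q1322, e3 q1032 L11246 q1032, e3 q1033 L11253 q804, e3 q1034 L11263 q1034, e3 q1035 L11269 q1035, e3 q1036 (flp_d L11272) q805, e3 q1037 (flp_d L15337) q1330, e3 q1038 (flp_d L14298) q1224, e3 q1039 L11301 q807, e3 q1040 L11311 q1040, e3 q1041 (flp_d L15385) q1336, e3 q1042 L11327 q827, e3 q1043 L11333 q810, e3 q1044 L11343 q1044, e3 q1045 L11347 q1045, e3 q1046 (flp_d L14369) q1232, e3 q1047 L11363 q812, e3 q1048 L11372 q839, e3 q1049 (flp_d L15468) q1343, e3 q1050 (flp_d L14399) q1236, e3 q1051 L15505 q1349, e3 q1052 L11398 q834, e3 q1053 L11405 q816, e3 q1054 L11414 q844, e3 q1055 L11420 q845, e3 q1056 L11427 q836, e3 q1057 L11437 q1057, e3 q1058 L11444 q846, e3 q1059 L11449 q847, e3 q1060 (flp_d L14467) q1246, e3 q1061 L11467 q822, e3 q1062 L11479 q1062, e3 q1063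 (flp_d L15619) q1359, e3 q1064 (flp_d L14508) q1250, e3 q1065 L15659 q1364, e3 q1066 (flp_d L15378) q1335, e3 q1067 L11518 q826, e3 q1068 L11530 q1068, e3 q1069 (flp_d L120373) q1313, e3 q1070 L115330 q1304, e3 q1071 L11556 q1071, e3 q1072 (flp_d L14597) q1258, e3 q1073 (flp_d L14608) q1259, e3 q1074 (flp_d L15460) q1342, e3 q1075 L11585 q832, e3 q1076 L15748 q1372, e3 q1077 (flp_d L14657) q1266, e3 q1078 (flp_d L15520) q1351, e3 q1079 (flp_d L120498) q1314, e3 q1080 (flp_d L14739) q1272, e3 q1081 (flp_d L14751) q1273, e3 q1082 L15803 q1379, e3 q1083 L11650 q840, e3 q1084 (flp_d L15478) q1344, e3 q1085 (flp_d L15485) q1345, e3 q1086 (flp_d L14804) q1280, e3 q1087 L15845 q1384, trivial⟩ (by decide +kernel)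

theorem ce_d_17 : ∀ r, r < 64 → sm gd (Qf (1088 + r)) = Qf (tab Gen.d (1088 + r)) :=
  edges_tab (sm gd) Qf (tab Gen.d) 1088 [(1088, 842), (1089, 1387), (1090, 1353), (1091, 1354), (1092, 1326), (1093, 1389), (1094, 849), (1095, 1392), (1096, 1386), (1097, 852), (1098, 1098), (1099, 1099), (1100, 856), (1101, 1101), (1102, 1102), (1103, 1404), (1104, 1104), (1105, 1105), (1106, 876), (1107, 863), (1108, 1108), (1109, 1408), (1110, 880), (1111, 1410), (1112, 867), (1113, 888), (1114, 889), (1115, 1115), (1116, 872), (1117, 893), (1118, 1405), (1119, 1406), (1120, 1419), (1121, 1121), (1122, 879), (1123, 1123), (1124, 1423), (1125, 1409), (1126, 1427), (1127, 881), (1128, 1128), (1129, 1431), (1130, 1130), (1131, 1131), (1132, 1297), (1133, 886), (1134, 1411), (1135, 1434), (1136, 1413), (1137, 1137), (1138, 892), (1139, 1437), (1140, 1140), (1141, 1439), (1142, 897), (1143, 1442), (1144, 899), (1145, 1145), (1146, 900), (1147, 1448), (1148, 1148), (1149, 902), (1150, 914), (1151, 909)]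
    ⟨e3 q1088 (flp_d L11688) q842, e3 q1089 (flp_d L15868) q1387, e3 q1090 (flp_d L15539) q1353, e3 q1091 (flp_d L15545) q1354, e3 q1092 L120643 q1326, e3 q1093 L15880 q1389, e3 q1094 (flp_d L11734) q849, e3 q1095 (flp_d L15909) q1392, e3 q1096 (flp_d L15863) q1386, e3 q1097 L11761 q852, e3 q1098 L11769 q1098, e3 q1099 L12177 q1099, e3 q1100 L12182 q856, e3 q1101 L12192 q1101, e3 q1102 L12207 q1102, e3 q1103 L16576 q1404, e3 q1104 L12223 q1104, e3 q1105 L12240 q1105, e3 q1106 L12287 q876, e3 q1107 L12295 q863, e3 q1108 L12307 q1108, e3 q1109 (flp_d L16708) q1408, e3 q1110 L12325 q880, e3 q1111 L16757 q1410, e3 q1112 L12349 q867, e3 q1113 L12408 q888, e3 q1114 L12417 q889, e3 q1115 L12425 q1115, e3 q1116 L12435 q872, e3 q1117 L12461 q893, e3 q1118 (flp_d L16664) q1405, e3 q1119 (flp_d L16679) q1406, e3 q1120 L17258 q1419, e3 q1121 L12719 q1121, e3 q1122 L12726 q879, e3 q1123 L12737 q1123, e3 q1124 L17292 q1423, e3 q1125 (flp_d L16746) q1409, e3 q1126 L17325 q1427, e3 q1127 (flp_d L12762)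 q881, e3 q1128 L12771 q1128, e3 q1129 L17355 q1431, e3 q1130 L12790 q1130, e3 q1131 L12796 q1131, e3 q1132 (flp_d L120189) q1297, e3 q1133 (flp_d L12809) q886, e3 q1134 (flp_d L16858) q1411, e3 q1135 L17402 q1434, e3 q1136 (flp_d L16878) q1413, e3 q1137 L12843 q1137, e3 q1138 (flp_d L12847) q892, e3 q1139 (flp_d L17429) q1437, e3 q1140 L12864 q1140, e3 q1141 L17790 q1439, e3 q1142 (flp_d L13140) q897, e3 q1143 (flp_d L17816) q1442, e3 q1144 L13158 q899, e3 q1145 L13167 q1145, e3 q1146 (flp_d L13177) q900, e3 q1147 (flp_d L17877) q1448, e3 q1148 L13198 q1148, e3 q1149 L13203 q902, e3 q1150 L13210 q914, e3 q1151 L13226 q909, trivial⟩ (by decide +kernel)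

theorem ce_d_18 : ∀ r, r < 64 → sm gd (Qf (1152 + r)) = Qf (tab Gen.d (1152 + r)) :=
  edges_tab (sm gd) Qf (tab Gen.d) 1152 [(1152, 915), (1153, 916), (1154, 1154), (1155, 906), (1156, 1156), (1157, 1452), (1158, 1158), (1159, 911), (1160, 1449), (1161, 1161), (1162, 1467), (1163, 1453), (1164, 1454), (1165, 1456), (1166, 1166), (1167, 1471), (1168, 918), (1169, 1473), (1170, 1170), (1171, 1476), (1172, 921), (1173, 1479), (1174, 923), (1175, 1474), (1176, 1483), (1177, 925), (1178, 1487), (1179, 1179), (1180, 927), (1181, 1181), (1182, 1493), (1183, 937), (1184, 930), (1185, 1185), (1186, 1186), (1187, 1187), (1188, 932), (1189, 1189), (1190, 1504), (1191, 1191), (1192, 1510), (1193, 1492), (1194, 936), (1195, 1195), (1196, 1196), (1197, 1496), (1198, 1518), (1199, 1199), (1200, 1200), (1201, 1201), (1202, 1520), (1203, 942), (1204, 1522), (1205, 1205), (1206, 1525), (1207, 945), (1208, 1528), (1209, 947), (1210, 1523), (1211, 1532), (1212, 949), (1213, 1536), (1214, 1028), (1215, 951)]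
    ⟨e3 q1152 L13241 q915, e3 q1153 L13247 q916, e3 q1154 L13256 q1154, e3 q1155 L13263 q906, e3 q1156 L13291 q1156, e3 q1157 (flp_d L17914) q1452, e3 q1158 L13368 q1158, e3 q1159 L13375 q911, e3 q1160 (flp_d L17886) q1449, e3 q1161 L13402 q1161, e3 q1162 L18217 q1467, e3 q1163 (flp_d L17929) q1453, e3 q1164 (flp_d L17935) q1454, e3 q1165 (flp_d L17965) q1456, e3 q1166 L13802 q1166, e3 q1167 L18745 q1471, e3 q1168 (flp_d L13817) q918, e3 q1169 (flp_d L18764) q1473, e3 q1170 L13834 q1170, e3 q1171 L18783 q1476, e3 q1172 (flp_d L13848) q921, e3 q1173 (flp_d L18814) q1479, e3 q1174 L13869 q923, e3 q1175 (flp_d L18772) q1474, e3 q1176 (flp_d L18847) q1483, e3 q1177 (flp_d L13888) q925, e3 q1178 (flp_d L18881) q1487, e3 q1179 L13914 q1179, e3 q1180 L13919 q927, e3 q1181 L13930 q1181, e3 q1182 (flp_d L18932) q1493, e3 q1183 L13946 q937, e3 q1184 L13952 q930, e3 q1185 L13961 q1185, e3 q1186 L13964 q1186, e3 q1187 L13980 q1187, e3 q1188 L13985 q932, e3 q1189 L13997 q1189, e3 q1190 (flp_d L19022)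 q1504, e3 q1191 L14013 q1191, e3 q1192 L19072 q1510, e3 q1193 (flp_d L18924) q1492, e3 q1194 L14037 q936, e3 q1195 L14049 q1195, e3 q1196 L14054 q1196, e3 q1197 (flp_d L18956) q1496, e3 q1198 L19141 q1518, e3 q1199 L14082 q1199, e3 q1200 L14086 q1200, e3 q1201 L14095 q1201, e3 q1202 L19177 q1520, e3 q1203 (flp_d L14113) q942, e3 q1204 (flp_d L19199) q1522, e3 q1205 L14137 q1205, e3 q1206 L19222 q1525, e3 q1207 (flp_d L14154) q945, e3 q1208 (flp_d L19259) q1528, e3 q1209 L14178 q947, e3 q1210 (flp_d L19209) q1523, e3 q1211 (flp_d L19297) q1532, e3 q1212 (flp_d L14201) q949, e3 q1213 (flp_d L19332) q1536, e3 q1214 L14219 q1028, e3 q1215 L14225 q951, trivial⟩ (by decide +kernel)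

theorem ce_d_19 : ∀ r, r < 64 → sm gd (Qf (1216 + r)) = Qf (tab Gen.d (1216 + r)) :=
  edges_tab (sm gd) Qf (tab Gen.d) 1216 [(1216, 1216), (1217, 1542), (1218, 1218), (1219, 954), (1220, 1220), (1221, 1221), (1222, 955), (1223, 1550), (1224, 1038), (1225, 957), (1226, 1226), (1227, 1556), (1228, 977), (1229, 960), (1230, 1230), (1231, 1231), (1232, 1046), (1233, 962), (1234, 995), (1235, 1567), (1236, 1050), (1237, 1573), (1238, 987), (1239, 966), (1240, 1001), (1241, 1002), (1242, 991), (1243, 1581), (1244, 1004), (1245, 1005), (1246, 1060), (1247, 972), (1248, 1248), (1249, 1588), (1250, 1064), (1251, 1594), (1252, 1555), (1253, 976), (1254, 1254), (1255, 1255), (1256, 1559), (1257, 1579), (1258, 1072), (1259, 1073), (1260, 1260), (1261, 1566), (1262, 984), (1263, 1007), (1264, 1008), (1265, 1606), (1266, 1077), (1267, 1267), (1268, 1268), (1269, 1575), (1270, 1609), (1271, 992), (1272, 1080), (1273, 1081), (1274, 1616), (1275, 1006), (1276, 996), (1277, 1568), (1278, 1569), (1279, 1279)]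
    ⟨e3 q1216 L14232 q1216, e3 q1217 (flp_d L19373) q1542, e3 q1218 L14246 q1218, e3 q1219 L14251 q954, e3 q1220 L14260 q1220, e3 q1221 L14265 q1221, e3 q1222 (flp_d L14267) q955, e3 q1223 (flp_d L19434) q1550, e3 q1224 L14298 q1038, e3 q1225 L14304 q957, e3 q1226 L14315 q1226, e3 q1227 (flp_d L19491) q1556, e3 q1228 L14334 q977, e3 q1229 L14342 q960, e3 q1230 L14353 q1230, e3 q1231 L14358 q1231, e3 q1232 L14369 q1046, e3 q1233 L14375 q962, e3 q1234 L14382 q995, e3 q1235 (flp_d L19578) q1567, e3 q1236 L14399 q1050, e3 q1237 L19613 q1573, e3 q1238 L14410 q987, e3 q1239 L14416 q966, e3 q1240 L14425 q1001, e3 q1241 L14431 q1002, e3 q1242 L14436 q991, e3 q1243 L19667 q1581, e3 q1244 L14449 q1004, e3 q1245 L14453 q1005, e3 q1246 L14467 q1060, e3 q1247 L14475 q972, e3 q1248 L14489 q1248, e3 q1249 (flp_d L19733) q1588, e3 q1250 L14508 q1064, e3 q1251 L19788 q1594, e3 q1252 (flp_d L19483) q1555, e3 q1253 L14533 q976, e3 q1254 L14545 q1254, e3 q1255 L14550 q1255, e3 q1256 (flp_d L19517) q1559, e3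 q1257 (flp_d L108921) q1579, e3 q1258 L14597 q1072, e3 q1259 L14608 q1073, e3 q1260 L14618 q1260, e3 q1261 (flp_d L19572) q1566, e3 q1262 L14627 q984, e3 q1263 L14637 q1007, e3 q1264 L14643 q1008, e3 q1265 L19970 q1606, e3 q1266 L14657 q1077, e3 q1267 L14668 q1267, e3 q1268 L14674 q1268, e3 q1269 (flp_d L19629) q1575, e3 q1270 L20021 q1609, e3 q1271 (flp_d L14719) q992, e3 q1272 L14739 q1080, e3 q1273 L14751 q1081, e3 q1274 L20116 q1616, e3 q1275 L14767 q1006, e3 q1276 L14774 q996, e3 q1277 (flp_d L19587) q1568, e3 q1278 (flp_d L19593) q1569, e3 q1279 L14797 q1279, trivial⟩ (by decide +kernel)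

theorem ce_d_20 : ∀ r, r < 64 → sm gd (Qf (1280 + r)) = Qf (tab Gen.d (1280 + r)) :=
  edges_tab (sm gd) Qf (tab Gen.d) 1280 [(1280, 1086), (1281, 1623), (1282, 998), (1283, 1626), (1284, 1627), (1285, 1577), (1286, 1578), (1287, 1003), (1288, 1631), (1289, 1583), (1290, 1632), (1291, 1009), (1292, 1011), (1293, 1634), (1294, 1015), (1295, 1637), (1296, 1013), (1297, 1132), (1298, 1298), (1299, 1639), (1300, 1016), (1301, 1642), (1302, 1018), (1303, 1024), (1304, 1070), (1305, 1020), (1306, 1646), (1307, 1527), (1308, 1022), (1309, 1643), (1310, 1652), (1311, 1311), (1312, 1025), (1313, 1069), (1314, 1079), (1315, 1535), (1316, 1027), (1317, 1317), (1318, 1659), (1319, 1539), (1320, 1665), (1321, 1321), (1322, 1031), (1323, 1323), (1324, 1324), (1325, 1325), (1326, 1092), (1327, 1327), (1328, 1328), (1329, 1549), (1330, 1037), (1331, 1331), (1332, 1675), (1333, 1553), (1334, 1681), (1335, 1066), (1336, 1041), (1337, 1337), (1338, 1338), (1339, 1563), (1340, 1564), (1341, 1688), (1342, 1074),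 (1343, 1049)]
    ⟨e3 q1280 L14804 q1086, e3 q1281 L20187 q1623, e3 q1282 (flp_d L14815) q998, e3 q1283 (flp_d L20212) q1626, e3 q1284 L20232 q1627, e3 q1285 (flp_d L19646) q1577, e3 q1286 (flp_d L19652) q1578, e3 q1287 (flp_d L14874) q1003, e3 q1288 (flp_d L20284) q1631, e3 q1289 (flp_d L19679) q1583, e3 q1290 L20305 q1632, e3 q1291 (flp_d L14944) q1009, e3 q1292 L14993 q1011, e3 q1293 (flp_d L20395) q1634, e3 q1294 L15052 q1015, e3 q1295 L20482 q1637, e3 q1296 (flp_d L15067) q1013, e3 q1297 L120189 q1132, e3 q1298 L15087 q1298, e3 q1299 L20522 q1639, e3 q1300 (flp_d L15101) q1016, e3 q1301 (flp_d L20547) q1642, e3 q1302 L15119 q1018, e3 q1303 L15127 q1024, e3 q1304 (flp_d L115330) q1070, e3 q1305 (flp_d L15139) q1020, e3 q1306 (flp_d L20609) q1646, e3 q1307 (flp_d L19253) q1527, e3 q1308 L15168 q1022, e3 q1309 (flp_d L20555) q1643, e3 q1310 (flp_d L20657) q1652, e3 q1311 L15193 q1311, e3 q1312 L15200 q1025, e3 q1313 L120373 q1069, e3 q1314 L120498 q1079, e3 q1315 (flp_d L19326) q1535,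 e3 q1316 L15232 q1027, e3 q1317 L15241 q1317, e3 q1318 (flp_d L20744) q1659, e3 q1319 (flp_d L19355) q1539, e3 q1320 L20785 q1665, e3 q1321 L15268 q1321, e3 q1322 L15274 q1031, e3 q1323 L15283 q1323, e3 q1324 L15288 q1324, e3 q1325 L15296 q1325, e3 q1326 (flp_d L120643) q1092, e3 q1327 L15315 q1327, e3 q1328 L15321 q1328, e3 q1329 (flp_d L19426) q1549, e3 q1330 L15337 q1037, e3 q1331 L15348 q1331, e3 q1332 (flp_d L20907) q1675, e3 q1333 (flp_d L19466) q1553, e3 q1334 L20950 q1681, e3 q1335 L15378 q1066, e3 q1336 L15385 q1041, e3 q1337 L15396 q1337, e3 q1338 L15401 q1338, e3 q1339 (flp_d L19550) q1563, e3 q1340 (flp_d L19559) q1564, e3 q1341 L21070 q1688, e3 q1342 L15460 q1074, e3 q1343 L15468 q1049, trivial⟩ (by decide +kernel)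

theorem ce_d_21 : ∀ r, r < 64 → sm gd (Qf (1344 + r)) = Qf (tab Gen.d (1344 + r)) :=
  edges_tab (sm gd) Qf (tab Gen.d) 1344 [(1344, 1084), (1345, 1085), (1346, 1694), (1347, 1571), (1348, 1698), (1349, 1051), (1350, 1701), (1351, 1078), (1352, 1352), (1353, 1090), (1354, 1091), (1355, 1584), (1356, 1585), (1357, 1707), (1358, 1674), (1359, 1063), (1360, 1360), (1361, 1711), (1362, 1592), (1363, 1715), (1364, 1065), (1365, 1653), (1366, 1644), (1367, 1367), (1368, 1598), (1369, 1719), (1370, 1601), (1371, 1690), (1372, 1076), (1373, 1722), (1374, 1654), (1375, 1611), (1376, 1727), (1377, 1614), (1378, 1730), (1379, 1082), (1380, 1733), (1381, 1692), (1382, 1693), (1383, 1735), (1384, 1087), (1385, 1738), (1386, 1096), (1387, 1089), (1388, 1668), (1389, 1093), (1390, 1744), (1391, 1732), (1392, 1095), (1393, 1739), (1394, 1740), (1395, 1395), (1396, 1396), (1397, 1397), (1398, 1398), (1399, 1755), (1400, 1400), (1401, 1401), (1402, 1756), (1403, 1757), (1404, 1103), (1405, 1118), (1406,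 1119), (1407, 1761)]
    ⟨e3 q1344 L15478 q1084, e3 q1345 L15485 q1085, e3 q1346 L21122 q1694, e3 q1347 (flp_d L19604) q1571, e3 q1348 L21147 q1698, e3 q1349 (flp_d L15505) q1051, e3 q1350 (flp_d L21169) q1701, e3 q1351 L15520 q1078, e3 q1352 L15531 q1352, e3 q1353 L15539 q1090, e3 q1354 L15545 q1091, e3 q1355 (flp_d L19686) q1584, e3 q1356 (flp_d L19703) q1585, e3 q1357 L21268 q1707, e3 q1358 (flp_d L20899) q1674, e3 q1359 L15619 q1063, e3 q1360 L15632 q1360, e3 q1361 L21305 q1711, e3 q1362 (flp_d L19775) q1592, e3 q1363 L21339 q1715, e3 q1364 (flp_d L15659) q1065, e3 q1365 L119854 q1653, e3 q1366 (flp_d L120286) q1644, e3 q1367 L15690 q1367, e3 q1368 (flp_d L19896) q1598, e3 q1369 L21420 q1719, e3 q1370 (flp_d L19918) q1601, e3 q1371 (flp_d L21090) q1690, e3 q1372 (flp_d L15748) q1076, e3 q1373 (flp_d L21446) q1722, e3 q1374 L120237 q1654, e3 q1375 (flp_d L20079) q1611, e3 q1376 L21480 q1727, e3 q1377 (flp_d L20104) q1614, e3 q1378 L21506 q1730, e3 q1379 (flp_d L15803) q1082, e3 q1380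 (flp_d L21533) q1733, e3 q1381 (flp_d L21111) q1692, e3 q1382 (flp_d L21118) q1693, e3 q1383 L21546 q1735, e3 q1384 (flp_d L15845) q1087, e3 q1385 (flp_d L21569) q1738, e3 q1386 L15863 q1096, e3 q1387 L15868 q1089, e3 q1388 (flp_d L120629) q1668, e3 q1389 (flp_d L15880) q1093, e3 q1390 (flp_d L21611) q1744, e3 q1391 (flp_d L21527) q1732, e3 q1392 L15909 q1095, e3 q1393 (flp_d L21576) q1739, e3 q1394 (flp_d L21581) q1740, e3 q1395 L15932 q1395, e3 q1396 L15936 q1396, e3 q1397 L16496 q1397, e3 q1398 L16508 q1398, e3 q1399 L22487 q1755, e3 q1400 L16525 q1400, e3 q1401 L16542 q1401, e3 q1402 L22537 q1756, e3 q1403 L22571 q1757, e3 q1404 (flp_d L16576) q1103, e3 q1405 L16664 q1118, e3 q1406 L16679 q1119, e3 q1407 L22722 q1761, trivial⟩ (by decide +kernel)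

theorem ce_d_22 : ∀ r, r < 64 → sm gd (Qf (1408 + r)) = Qf (tab Gen.d (1408 + r)) :=
  edges_tab (sm gd) Qf (tab Gen.d) 1408 [(1408, 1109), (1409, 1125), (1410, 1111), (1411, 1134), (1412, 1412), (1413, 1136), (1414, 1758), (1415, 1766), (1416, 1767), (1417, 1760), (1418, 1771), (1419, 1120), (1420, 1420), (1421, 1775), (1422, 1422), (1423, 1124), (1424, 1776), (1425, 1425), (1426, 1779), (1427, 1126), (1428, 1428), (1429, 1429), (1430, 1638), (1431, 1129), (1432, 1780), (1433, 1762), (1434, 1135), (1435, 1782), (1436, 1436), (1437, 1139), (1438, 1784), (1439, 1141), (1440, 1786), (1441, 1441), (1442, 1143), (1443, 1443), (1444, 1444), (1445, 1445), (1446, 1446), (1447, 1447), (1448, 1147), (1449, 1160), (1450, 1450), (1451, 1803), (1452, 1157), (1453, 1163), (1454, 1164), (1455, 1580), (1456, 1165), (1457, 1457), (1458, 1458), (1459, 1798), (1460, 1810), (1461, 1461), (1462, 1462), (1463, 1814), (1464, 1799), (1465, 1800), (1466, 1817), (1467, 1162), (1468, 1820), (1469, 1806), (1470,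 1821), (1471, 1167)]
    ⟨e3 q1408 L16708 q1109, e3 q1409 L16746 q1125, e3 q1410 (flp_d L16757) q1111, e3 q1411 L16858 q1134, e3 q1412 L16865 q1412, e3 q1413 L16878 q1136, e3 q1414 (flp_d L22681) q1758, e3 q1415 L23426 q1766, e3 q1416 L23432 q1767, e3 q1417 (flp_d L22710) q1760, e3 q1418 L23469 q1771, e3 q1419 (flp_d L17258) q1120, e3 q1420 L17269 q1420, e3 q1421 L23503 q1775, e3 q1422 L17290 q1422, e3 q1423 (flp_d L17292) q1124, e3 q1424 (flp_d L23516) q1776, e3 q1425 L82476 q1425, e3 q1426 L23548 q1779, e3 q1427 (flp_d L17325) q1126, e3 q1428 L17337 q1428, e3 q1429 L17342 q1429, e3 q1430 L120197 q1638, e3 q1431 (flp_d L17355) q1129, e3 q1432 L23613 q1780, e3 q1433 (flp_d L22947) q1762, e3 q1434 (flp_d L17402) q1135, e3 q1435 (flp_d L23633) q1782, e3 q1436 L17422 q1436, e3 q1437 L17429 q1139, e3 q1438 (flp_d L23654) q1784, e3 q1439 (flp_d L17790) q1141, e3 q1440 (flp_d L24141) q1786, e3 q1441 L17811 q1441, e3 q1442 L17816 q1143, e3 q1443 L17823 q1443, e3 q1444 L17838 q1444, e3 q1445 L17856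 q1445, e3 q1446 L17863 q1446, e3 q1447 L17870 q1447, e3 q1448 L17877 q1147, e3 q1449 L17886 q1160, e3 q1450 L17904 q1450, e3 q1451 L24308 q1803, e3 q1452 L17914 q1157, e3 q1453 L17929 q1163, e3 q1454 L17935 q1164, e3 q1455 L109312 q1580, e3 q1456 L17965 q1165, e3 q1457 L17971 q1457, e3 q1458 L17983 q1458, e3 q1459 (flp_d L24262) q1798, e3 q1460 L24483 q1810, e3 q1461 L18135 q1461, e3 q1462 L18148 q1462, e3 q1463 L24662 q1814, e3 q1464 (flp_d L24281) q1799, e3 q1465 (flp_d L24289) q1800, e3 q1466 L24747 q1817, e3 q1467 (flp_d L18217) q1162, e3 q1468 (flp_d L24770) q1820, e3 q1469 (flp_d L24346) q1806, e3 q1470 L25436 q1821, e3 q1471 (flp_d L18745) q1167, trivial⟩ (by decide +kernel)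

theorem ce_d_23 : ∀ r, r < 64 → sm gd (Qf (1472 + r)) = Qf (tab Gen.d (1472 + r)) :=
  edges_tab (sm gd) Qf (tab Gen.d) 1472 [(1472, 1824), (1473, 1169), (1474, 1175), (1475, 1828), (1476, 1171), (1477, 1832), (1478, 1478), (1479, 1173), (1480, 1825), (1481, 1838), (1482, 1482), (1483, 1176), (1484, 1829), (1485, 1830), (1486, 1486), (1487, 1178), (1488, 1488), (1489, 1849), (1490, 1490), (1491, 1855), (1492, 1193), (1493, 1182), (1494, 1494), (1495, 1495), (1496, 1197), (1497, 1863), (1498, 1498), (1499, 1499), (1500, 1500), (1501, 1501), (1502, 1871), (1503, 1848), (1504, 1190), (1505, 1505), (1506, 1506), (1507, 1877), (1508, 1508), (1509, 1881), (1510, 1192), (1511, 1883), (1512, 1857), (1513, 1886), (1514, 1514), (1515, 1515), (1516, 1861), (1517, 1887), (1518, 1198), (1519, 1889), (1520, 1202), (1521, 1892), (1522, 1204), (1523, 1210), (1524, 1896), (1525, 1206), (1526, 1900), (1527, 1307), (1528, 1208), (1529, 1893), (1530, 1906), (1531, 1531), (1532, 1211), (1533, 1897), (1534,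 1898), (1535, 1315)]
    ⟨e3 q1472 (flp_d L25463) q1824, e3 q1473 L18764 q1169, e3 q1474 L18772 q1175, e3 q1475 (flp_d L25493) q1828, e3 q1476 (flp_d L18783) q1171, e3 q1477 (flp_d L25526) q1832, e3 q1478 L18809 q1478, e3 q1479 L18814 q1173, e3 q1480 (flp_d L25472) q1825, e3 q1481 (flp_d L25577) q1838, e3 q1482 L18840 q1482, e3 q1483 L18847 q1176, e3 q1484 (flp_d L25502) q1829, e3 q1485 (flp_d L25507) q1830, e3 q1486 L18876 q1486, e3 q1487 L18881 q1178, e3 q1488 L18892 q1488, e3 q1489 (flp_d L25669) q1849, e3 q1490 L18908 q1490, e3 q1491 L25713 q1855, e3 q1492 L18924 q1193, e3 q1493 L18932 q1182, e3 q1494 L18943 q1494, e3 q1495 L18948 q1495, e3 q1496 L18956 q1197, e3 q1497 L25777 q1863, e3 q1498 L18973 q1498, e3 q1499 L18976 q1499, e3 q1500 L18983 q1500, e3 q1501 L18997 q1501, e3 q1502 L25846 q1871, e3 q1503 (flp_d L25661) q1848, e3 q1504 L19022 q1190, e3 q1505 L19034 q1505, e3 q1506 L19039 q1506, e3 q1507 L25901 q1877, e3 q1508 L19060 q1508, e3 q1509 L25936 q1881, e3 q1510 (flp_d L19072)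 q1192, e3 q1511 (flp_d L25956) q1883, e3 q1512 (flp_d L25731) q1857, e3 q1513 L25979 q1886, e3 q1514 L19115 q1514, e3 q1515 L19120 q1515, e3 q1516 (flp_d L25764) q1861, e3 q1517 L26016 q1887, e3 q1518 (flp_d L19141) q1198, e3 q1519 L26043 q1889, e3 q1520 (flp_d L19177) q1202, e3 q1521 (flp_d L26076) q1892, e3 q1522 L19199 q1204, e3 q1523 L19209 q1210, e3 q1524 (flp_d L26111) q1896, e3 q1525 (flp_d L19222) q1206, e3 q1526 (flp_d L26151) q1900, e3 q1527 L19253 q1307, e3 q1528 L19259 q1208, e3 q1529 (flp_d L26085) q1893, e3 q1530 (flp_d L26208) q1906, e3 q1531 L19288 q1531, e3 q1532 L19297 q1211, e3 q1533 (flp_d L26122) q1897, e3 q1534 (flp_d L26129) q1898, e3 q1535 L19326 q1315, trivial⟩ (by decide +kernel)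

theorem ce_d_24 : ∀ r, r < 64 → sm gd (Qf (1536 + r)) = Qf (tab Gen.d (1536 + r)) :=
  edges_tab (sm gd) Qf (tab Gen.d) 1536 [(1536, 1213), (1537, 1537), (1538, 1917), (1539, 1319), (1540, 1923), (1541, 1541), (1542, 1217), (1543, 1543), (1544, 1544), (1545, 1545), (1546, 1931), (1547, 1547), (1548, 1548), (1549, 1329), (1550, 1223), (1551, 1551), (1552, 1938), (1553, 1333), (1554, 1944), (1555, 1252), (1556, 1227), (1557, 1557), (1558, 1558), (1559, 1256), (1560, 1951), (1561, 1561), (1562, 1562), (1563, 1339), (1564, 1340), (1565, 1959), (1566, 1261), (1567, 1235), (1568, 1277), (1569, 1278), (1570, 1965), (1571, 1347), (1572, 1969), (1573, 1237), (1574, 1972), (1575, 1269), (1576, 1975), (1577, 1285), (1578, 1286), (1579, 1257), (1580, 1455), (1581, 1243), (1582, 1980), (1583, 1289), (1584, 1355), (1585, 1356), (1586, 1986), (1587, 1937), (1588, 1249), (1589, 1589), (1590, 1590), (1591, 1990), (1592, 1362), (1593, 1993), (1594, 1251), (1595, 1994), (1596, 1946), (1597, 1973), (1598,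 1368), (1599, 1599)]
    ⟨e3 q1536 L19332 q1213, e3 q1537 L19339 q1537, e3 q1538 (flp_d L26299) q1917, e3 q1539 L19355 q1319, e3 q1540 L26338 q1923, e3 q1541 L19368 q1541, e3 q1542 L19373 q1217, e3 q1543 L19382 q1543, e3 q1544 L19387 q1544, e3 q1545 L19393 q1545, e3 q1546 L26395 q1931, e3 q1547 L19409 q1547, e3 q1548 L19414 q1548, e3 q1549 L19426 q1329, e3 q1550 L19434 q1223, e3 q1551 L19447 q1551, e3 q1552 (flp_d L26461) q1938, e3 q1553 L19466 q1333, e3 q1554 L26510 q1944, e3 q1555 L19483 q1252, e3 q1556 L19491 q1227, e3 q1557 L19502 q1557, e3 q1558 L19507 q1558, e3 q1559 L19517 q1256, e3 q1560 L26579 q1951, e3 q1561 L19538 q1561, e3 q1562 L19543 q1562, e3 q1563 L19550 q1339, e3 q1564 L19559 q1340, e3 q1565 L26642 q1959, e3 q1566 L19572 q1261, e3 q1567 L19578 q1235, e3 q1568 L19587 q1277, e3 q1569 L19593 q1278, e3 q1570 L26689 q1965, e3 q1571 L19604 q1347, e3 q1572 L26714 q1969, e3 q1573 (flp_d L19613) q1237, e3 q1574 (flp_d L26739) q1972, e3 q1575 L19629 q1269, e3 q1576 L26757 q1975, e3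 q1577 L19646 q1285, e3 q1578 L19652 q1286, e3 q1579 L108921 q1257, e3 q1580 (flp_d L109312) q1455, e3 q1581 (flp_d L19667) q1243, e3 q1582 (flp_d L26807) q1980, e3 q1583 L19679 q1289, e3 q1584 L19686 q1355, e3 q1585 L19703 q1356, e3 q1586 L26863 q1986, e3 q1587 (flp_d L26451) q1937, e3 q1588 L19733 q1249, e3 q1589 L19747 q1589, e3 q1590 L19754 q1590, e3 q1591 L26926 q1990, e3 q1592 L19775 q1362, e3 q1593 L26962 q1993, e3 q1594 (flp_d L19788) q1251, e3 q1595 (flp_d L26993) q1994, e3 q1596 (flp_d L26529) q1946, e3 q1597 L108930 q1973, e3 q1598 L19896 q1368, e3 q1599 L19905 q1599, trivial⟩ (by decide +kernel)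

theorem ce_d_25 : ∀ r, r < 64 → sm gd (Qf (1600 + r)) = Qf (tab Gen.d (1600 + r)) :=
  edges_tab (sm gd) Qf (tab Gen.d) 1600 [(1600, 1999), (1601, 1370), (1602, 1602), (1603, 1603), (1604, 1961), (1605, 2002), (1606, 1265), (1607, 2003), (1608, 2005), (1609, 1270), (1610, 1610), (1611, 1375), (1612, 2011), (1613, 1613), (1614, 1377), (1615, 2015), (1616, 1274), (1617, 2018), (1618, 2019), (1619, 1963), (1620, 1964), (1621, 2022), (1622, 2024), (1623, 1281), (1624, 2027), (1625, 1625), (1626, 1283), (1627, 1284), (1628, 2032), (1629, 1977), (1630, 1630), (1631, 1288), (1632, 1290), (1633, 1633), (1634, 1293), (1635, 2037), (1636, 2038), (1637, 1295), (1638, 1430), (1639, 1299), (1640, 2042), (1641, 1891), (1642, 1301), (1643, 1309), (1644, 1366), (1645, 1899), (1646, 1306), (1647, 2043), (1648, 2051), (1649, 1903), (1650, 2057), (1651, 1651), (1652, 1310), (1653, 1365), (1654, 1374), (1655, 1913), (1656, 1914), (1657, 2064), (1658, 1658), (1659, 1318), (1660, 1660), (1661, 1661), (1662,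 2070), (1663, 1921)]
    ⟨e3 q1600 L27120 q1999, e3 q1601 L19918 q1370, e3 q1602 L19930 q1602, e3 q1603 L19937 q1603, e3 q1604 (flp_d L26662) q1961, e3 q1605 L27176 q2002, e3 q1606 (flp_d L19970) q1265, e3 q1607 (flp_d L27201) q2003, e3 q1608 L27226 q2005, e3 q1609 (flp_d L20021) q1270, e3 q1610 L20067 q1610, e3 q1611 L20079 q1375, e3 q1612 L27349 q2011, e3 q1613 L20096 q1613, e3 q1614 L20104 q1377, e3 q1615 L27393 q2015, e3 q1616 (flp_d L20116) q1274, e3 q1617 (flp_d L27422) q2018, e3 q1618 L27442 q2019, e3 q1619 (flp_d L26679) q1963, e3 q1620 (flp_d L26685) q1964, e3 q1621 L27483 q2022, e3 q1622 L27497 q2024, e3 q1623 (flp_d L20187) q1281, e3 q1624 (flp_d L27522) q2027, e3 q1625 L20208 q1625, e3 q1626 L20212 q1283, e3 q1627 (flp_d L20232) q1284, e3 q1628 (flp_d L27580) q2032, e3 q1629 (flp_d L26775) q1977, e3 q1630 L20281 q1630, e3 q1631 L20284 q1288, e3 q1632 (flp_d L20305) q1290, e3 q1633 L20358 q1633, e3 q1634 L20395 q1293, e3 q1635 (flp_d L27757) q2037, e3 q1636 L27853 q2038, e3 q1637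 (flp_d L20482) q1295, e3 q1638 (flp_d L120197) q1430, e3 q1639 (flp_d L20522) q1299, e3 q1640 (flp_d L27946) q2042, e3 q1641 (flp_d L26070) q1891, e3 q1642 L20547 q1301, e3 q1643 L20555 q1309, e3 q1644 L120286 q1366, e3 q1645 (flp_d L26143) q1899, e3 q1646 L20609 q1306, e3 q1647 (flp_d L27955) q2043, e3 q1648 (flp_d L28080) q2051, e3 q1649 (flp_d L26182) q1903, e3 q1650 L28127 q2057, e3 q1651 L20651 q1651, e3 q1652 L20657 q1310, e3 q1653 (flp_d L119854) q1365, e3 q1654 (flp_d L120237) q1374, e3 q1655 (flp_d L26270) q1913, e3 q1656 (flp_d L26281) q1914, e3 q1657 L28255 q2064, e3 q1658 L20737 q1658, e3 q1659 L20744 q1318, e3 q1660 L20754 q1660, e3 q1661 L20760 q1661, e3 q1662 L28302 q2070, e3 q1663 (flp_d L26327) q1921, trivial⟩ (by decide +kernel)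

theorem ce_d_26 : ∀ r, r < 64 → sm gd (Qf (1664 + r)) = Qf (tab Gen.d (1664 + r)) :=
  edges_tab (sm gd) Qf (tab Gen.d) 1664 [(1664, 2074), (1665, 1320), (1666, 2077), (1667, 1667), (1668, 1388), (1669, 1669), (1670, 1670), (1671, 1934), (1672, 1935), (1673, 2083), (1674, 1358), (1675, 1332), (1676, 1676), (1677, 1677), (1678, 2085), (1679, 1942), (1680, 2086), (1681, 1334), (1682, 2088), (1683, 1954), (1684, 2092), (1685, 2094), (1686, 1957), (1687, 2098), (1688, 1341), (1689, 2101), (1690, 1371), (1691, 1691), (1692, 1381), (1693, 1382), (1694, 1346), (1695, 2102), (1696, 2104), (1697, 2105), (1698, 1348), (1699, 2107), (1700, 1700), (1701, 1350), (1702, 1981), (1703, 2114), (1704, 2115), (1705, 1984), (1706, 2119), (1707, 1357), (1708, 2052), (1709, 2044), (1710, 1710), (1711, 1361), (1712, 2121), (1713, 2123), (1714, 2124), (1715, 1363), (1716, 1716), (1717, 2127), (1718, 1996), (1719, 1369), (1720, 2129), (1721, 2053), (1722, 1373), (1723, 1723), (1724, 2132), (1725, 2009), (1726,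 2136), (1727, 1376)]
    ⟨e3 q1664 L28334 q2074, e3 q1665 (flp_d L20785) q1320, e3 q1666 (flp_d L28361) q2077, e3 q1667 L20803 q1667, e3 q1668 L120629 q1388, e3 q1669 L20820 q1669, e3 q1670 L20825 q1670, e3 q1671 (flp_d L26415) q1934, e3 q1672 (flp_d L26430) q1935, e3 q1673 L28475 q2083, e3 q1674 L20899 q1358, e3 q1675 L20907 q1332, e3 q1676 L20919 q1676, e3 q1677 L20925 q1677, e3 q1678 L28529 q2085, e3 q1679 (flp_d L26499) q1942, e3 q1680 L28558 q2086, e3 q1681 (flp_d L20950) q1334, e3 q1682 (flp_d L28579) q2088, e3 q1683 (flp_d L26612) q1954, e3 q1684 L28685 q2092, e3 q1685 L28697 q2094, e3 q1686 (flp_d L26631) q1957, e3 q1687 L28730 q2098, e3 q1688 (flp_d L21070) q1341, e3 q1689 (flp_d L28760) q2101, e3 q1690 L21090 q1371, e3 q1691 L21102 q1691, e3 q1692 L21111 q1381, e3 q1693 L21118 q1382, e3 q1694 (flp_d L21122) q1346, e3 q1695 (flp_d L28805) q2102, e3 q1696 L28826 q2104, e3 q1697 L28837 q2105, e3 q1698 (flp_d L21147) q1348, e3 q1699 (flp_d L28859) q2107, e3 q1700 L21164 q1700, e3 q1701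 L21169 q1350, e3 q1702 (flp_d L26818) q1981, e3 q1703 L28935 q2114, e3 q1704 L28943 q2115, e3 q1705 (flp_d L26849) q1984, e3 q1706 L28981 q2119, e3 q1707 (flp_d L21268) q1357, e3 q1708 (flp_d L119870) q2052, e3 q1709 (flp_d L119213) q2044, e3 q1710 L21303 q1710, e3 q1711 (flp_d L21305) q1361, e3 q1712 (flp_d L29029) q2121, e3 q1713 L29057 q2123, e3 q1714 L29062 q2124, e3 q1715 (flp_d L21339) q1363, e3 q1716 L21353 q1716, e3 q1717 L29126 q2127, e3 q1718 (flp_d L27100) q1996, e3 q1719 (flp_d L21420) q1369, e3 q1720 (flp_d L29145) q2129, e3 q1721 (flp_d L119901) q2053, e3 q1722 L21446 q1373, e3 q1723 L21452 q1723, e3 q1724 (flp_d L29166) q2132, e3 q1725 (flp_d L27338) q2009, e3 q1726 L29190 q2136, e3 q1727 (flp_d L21480) q1376, trivial⟩ (by decide +kernel)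

theorem ce_d_27 : ∀ r, r < 64 → sm gd (Qf (1728 + r)) = Qf (tab Gen.d (1728 + r)) :=
  edges_tab (sm gd) Qf (tab Gen.d) 1728 [(1728, 2140), (1729, 2141), (1730, 1378), (1731, 2144), (1732, 1391), (1733, 1380), (1734, 2067), (1735, 1383), (1736, 2149), (1737, 1737), (1738, 1385), (1739, 1393), (1740, 1394), (1741, 1741), (1742, 1742), (1743, 2139), (1744, 1390), (1745, 2145), (1746, 2146), (1747, 1747), (1748, 2153), (1749, 2154), (1750, 2166), (1751, 1751), (1752, 2169), (1753, 2170), (1754, 2171), (1755, 1399), (1756, 1402), (1757, 1403), (1758, 1414), (1759, 2173), (1760, 1417), (1761, 1407), (1762, 1433), (1763, 2174), (1764, 2172), (1765, 2178), (1766, 1415), (1767, 1416), (1768, 2181), (1769, 1769), (1770, 2184), (1771, 1418), (1772, 1772), (1773, 1773), (1774, 2039), (1775, 1421), (1776, 1424), (1777, 2185), (1778, 1778), (1779, 1426), (1780, 1432), (1781, 2187), (1782, 1435), (1783, 2189), (1784, 1438), (1785, 1785), (1786, 1440), (1787, 1787), (1788, 1788), (1789, 2199), (1790,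 1790), (1791, 1791)]
    ⟨e3 q1728 (flp_d L29225) q2140, e3 q1729 L29228 q2141, e3 q1730 (flp_d L21506) q1378, e3 q1731 (flp_d L29255) q2144, e3 q1732 L21527 q1391, e3 q1733 L21533 q1380, e3 q1734 L120650 q2067, e3 q1735 (flp_d L21546) q1383, e3 q1736 (flp_d L29289) q2149, e3 q1737 L21565 q1737, e3 q1738 L21569 q1385, e3 q1739 L21576 q1393, e3 q1740 L21581 q1394, e3 q1741 L21590 q1741, e3 q1742 L21598 q1742, e3 q1743 (flp_d L29218) q2139, e3 q1744 L21611 q1390, e3 q1745 (flp_d L29263) q2145, e3 q1746 (flp_d L29269) q2146, e3 q1747 L21637 q1747, e3 q1748 (flp_d L29315) q2153, e3 q1749 (flp_d L29321) q2154, e3 q1750 L29413 q2166, e3 q1751 L22450 q1751, e3 q1752 L30534 q2169, e3 q1753 L30550 q2170, e3 q1754 L30588 q2171, e3 q1755 (flp_d L22487) q1399, e3 q1756 (flp_d L22537) q1402, e3 q1757 (flp_d L22571) q1403, e3 q1758 L22681 q1414, e3 q1759 L30871 q2173, e3 q1760 L22710 q1417, e3 q1761 (flp_d L22722) q1407, e3 q1762 L22947 q1433, e3 q1763 L31822 q2174, e3 q1764 (flp_d L30858) q2172, e3 q1765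 L31859 q2178, e3 q1766 (flp_d L23426) q1415, e3 q1767 (flp_d L23432) q1416, e3 q1768 (flp_d L31885) q2181, e3 q1769 L112316 q1769, e3 q1770 L31921 q2184, e3 q1771 (flp_d L23469) q1418, e3 q1772 L23483 q1772, e3 q1773 L23489 q1773, e3 q1774 (flp_d L119984) q2039, e3 q1775 (flp_d L23503) q1421, e3 q1776 L23516 q1424, e3 q1777 (flp_d L31973) q2185, e3 q1778 L82458 q1778, e3 q1779 (flp_d L23548) q1426, e3 q1780 (flp_d L23613) q1432, e3 q1781 (flp_d L32111) q2187, e3 q1782 L23633 q1435, e3 q1783 (flp_d L32133) q2189, e3 q1784 L23654 q1438, e3 q1785 L24134 q1785, e3 q1786 L24141 q1440, e3 q1787 L24150 q1787, e3 q1788 L24167 q1788, e3 q1789 L32863 q2199, e3 q1790 L24179 q1790, e3 q1791 L24193 q1791, trivial⟩ (by decide +kernel)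

theorem ce_d_28 : ∀ r, r < 64 → sm gd (Qf (1792 + r)) = Qf (tab Gen.d (1792 + r)) :=
  edges_tab (sm gd) Qf (tab Gen.d) 1792 [(1792, 1792), (1793, 2203), (1794, 1794), (1795, 1795), (1796, 1796), (1797, 2209), (1798, 1459), (1799, 1464), (1800, 1465), (1801, 2213), (1802, 2215), (1803, 1451), (1804, 2218), (1805, 1974), (1806, 1469), (1807, 1978), (1808, 1808), (1809, 2221), (1810, 1460), (1811, 1811), (1812, 2224), (1813, 2226), (1814, 1463), (1815, 2229), (1816, 2212), (1817, 1466), (1818, 2231), (1819, 1819), (1820, 1468), (1821, 1470), (1822, 2236), (1823, 1823), (1824, 1472), (1825, 1480), (1826, 2242), (1827, 1827), (1828, 1475), (1829, 1484), (1830, 1485), (1831, 1831), (1832, 1477), (1833, 2237), (1834, 2253), (1835, 1835), (1836, 2259), (1837, 1837), (1838, 1481), (1839, 2243), (1840, 2244), (1841, 1841), (1842, 2267), (1843, 2247), (1844, 2248), (1845, 1845), (1846, 1846), (1847, 2275), (1848, 1503), (1849, 1489), (1850, 1850), (1851, 1851), (1852, 2281), (1853, 1853), (1854,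 2285), (1855, 1491)]
    ⟨e3 q1792 L24198 q1792, e3 q1793 L32923 q2203, e3 q1794 L24233 q1794, e3 q1795 L24238 q1795, e3 q1796 L24248 q1796, e3 q1797 L32983 q2209, e3 q1798 L24262 q1459, e3 q1799 L24281 q1464, e3 q1800 L24289 q1465, e3 q1801 L33037 q2213, e3 q1802 L33061 q2215, e3 q1803 (flp_d L24308) q1451, e3 q1804 (flp_d L33084) q2218, e3 q1805 (flp_d L108976) q1974, e3 q1806 L24346 q1469, e3 q1807 L109339 q1978, e3 q1808 L24395 q1808, e3 q1809 L33210 q2221, e3 q1810 (flp_d L24483) q1460, e3 q1811 L24626 q1811, e3 q1812 L33534 q2224, e3 q1813 L33587 q2226, e3 q1814 (flp_d L24662) q1463, e3 q1815 (flp_d L33614) q2229, e3 q1816 (flp_d L33033) q2212, e3 q1817 (flp_d L24747) q1466, e3 q1818 (flp_d L33736) q2231, e3 q1819 L24766 q1819, e3 q1820 L24770 q1468, e3 q1821 (flp_d L25436) q1470, e3 q1822 (flp_d L34641) q2236, e3 q1823 L25458 q1823, e3 q1824 L25463 q1472, e3 q1825 L25472 q1480, e3 q1826 (flp_d L34687) q2242, e3 q1827 L25488 q1827, e3 q1828 L25493 q1475, e3 q1829 L25502 q1484, e3 q1830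 L25507 q1485, e3 q1831 L25521 q1831, e3 q1832 L25526 q1477, e3 q1833 (flp_d L34650) q2237, e3 q1834 (flp_d L34778) q2253, e3 q1835 L25552 q1835, e3 q1836 L34826 q2259, e3 q1837 L25570 q1837, e3 q1838 L25577 q1481, e3 q1839 (flp_d L34697) q2243, e3 q1840 (flp_d L34703) q2244, e3 q1841 L25601 q1841, e3 q1842 L34893 q2267, e3 q1843 (flp_d L34727) q2247, e3 q1844 (flp_d L34732) q2248, e3 q1845 L25631 q1845, e3 q1846 L25643 q1846, e3 q1847 L34959 q2275, e3 q1848 L25661 q1503, e3 q1849 L25669 q1489, e3 q1850 L25680 q1850, e3 q1851 L25685 q1851, e3 q1852 L35012 q2281, e3 q1853 L25703 q1853, e3 q1854 L35044 q2285, e3 q1855 (flp_d L25713) q1491, trivial⟩ (by decide +kernel)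

theorem ce_d_29 : ∀ r, r < 64 → sm gd (Qf (1856 + r)) = Qf (tab Gen.d (1856 + r)) :=
  edges_tab (sm gd) Qf (tab Gen.d) 1856 [(1856, 2288), (1857, 1512), (1858, 2291), (1859, 1859), (1860, 1860), (1861, 1516), (1862, 2295), (1863, 1497), (1864, 2298), (1865, 1865), (1866, 1866), (1867, 2302), (1868, 2304), (1869, 1869), (1870, 2308), (1871, 1502), (1872, 2310), (1873, 2277), (1874, 2313), (1875, 1875), (1876, 1876), (1877, 1507), (1878, 2314), (1879, 2318), (1880, 2319), (1881, 1509), (1882, 2321), (1883, 1511), (1884, 2289), (1885, 2322), (1886, 1513), (1887, 1517), (1888, 1888), (1889, 1519), (1890, 2327), (1891, 1641), (1892, 1521), (1893, 1529), (1894, 2333), (1895, 1895), (1896, 1524), (1897, 1533), (1898, 1534), (1899, 1645), (1900, 1526), (1901, 2328), (1902, 2344), (1903, 1649), (1904, 2350), (1905, 1905), (1906, 1530), (1907, 2334), (1908, 2335), (1909, 1909), (1910, 2357), (1911, 2338), (1912, 2339), (1913, 1655), (1914, 1656), (1915, 2365), (1916, 1916), (1917, 1538), (1918,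 1918), (1919, 1919)]
    ⟨e3 q1856 (flp_d L35068) q2288, e3 q1857 L25731 q1512, e3 q1858 L35090 q2291, e3 q1859 L25752 q1859, e3 q1860 L25757 q1860, e3 q1861 L25764 q1516, e3 q1862 L35126 q2295, e3 q1863 (flp_d L25777) q1497, e3 q1864 (flp_d L35150) q2298, e3 q1865 L25794 q1865, e3 q1866 L25805 q1866, e3 q1867 L35181 q2302, e3 q1868 L35201 q2304, e3 q1869 L25833 q1869, e3 q1870 L35240 q2308, e3 q1871 (flp_d L25846) q1502, e3 q1872 (flp_d L35263) q2310, e3 q1873 (flp_d L34981) q2277, e3 q1874 L35286 q2313, e3 q1875 L25891 q1875, e3 q1876 L25896 q1876, e3 q1877 (flp_d L25901) q1507, e3 q1878 (flp_d L35317) q2314, e3 q1879 L35348 q2318, e3 q1880 L35364 q2319, e3 q1881 (flp_d L25936) q1509, e3 q1882 (flp_d L35394) q2321, e3 q1883 L25956 q1511, e3 q1884 (flp_d L35075) q2289, e3 q1885 L35418 q2322, e3 q1886 (flp_d L25979) q1513, e3 q1887 (flp_d L26016) q1517, e3 q1888 L26035 q1888, e3 q1889 (flp_d L26043) q1519, e3 q1890 (flp_d L35515) q2327, e3 q1891 L26070 q1641, e3 q1892 L26076 q1521, e3 q1893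 L26085 q1529, e3 q1894 (flp_d L35567) q2333, e3 q1895 L26104 q1895, e3 q1896 L26111 q1524, e3 q1897 L26122 q1533, e3 q1898 L26129 q1534, e3 q1899 L26143 q1645, e3 q1900 L26151 q1526, e3 q1901 (flp_d L35526) q2328, e3 q1902 (flp_d L35674) q2344, e3 q1903 L26182 q1649, e3 q1904 L35727 q2350, e3 q1905 L26201 q1905, e3 q1906 L26208 q1530, e3 q1907 (flp_d L35577) q2334, e3 q1908 (flp_d L35583) q2335, e3 q1909 L26234 q1909, e3 q1910 L35799 q2357, e3 q1911 (flp_d L35613) q2338, e3 q1912 (flp_d L35620) q2339, e3 q1913 L26270 q1655, e3 q1914 L26281 q1656, e3 q1915 L35867 q2365, e3 q1916 L26294 q1916, e3 q1917 L26299 q1538, e3 q1918 L26308 q1918, e3 q1919 L26313 q1919, trivial⟩ (by decide +kernel)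

theorem ce_d_30 : ∀ r, r < 64 → sm gd (Qf (1920 + r)) = Qf (tab Gen.d (1920 + r)) :=
  edges_tab (sm gd) Qf (tab Gen.d) 1920 [(1920, 2371), (1921, 1663), (1922, 2375), (1923, 1540), (1924, 2378), (1925, 1925), (1926, 2381), (1927, 1927), (1928, 1928), (1929, 1929), (1930, 2385), (1931, 1546), (1932, 2388), (1933, 1933), (1934, 1671), (1935, 1672), (1936, 2394), (1937, 1587), (1938, 1552), (1939, 1939), (1940, 1940), (1941, 2400), (1942, 1679), (1943, 2404), (1944, 1554), (1945, 2407), (1946, 1596), (1947, 2409), (1948, 1948), (1949, 1949), (1950, 2294), (1951, 1560), (1952, 2413), (1953, 1953), (1954, 1683), (1955, 2417), (1956, 2419), (1957, 1686), (1958, 2423), (1959, 1565), (1960, 2426), (1961, 1604), (1962, 2429), (1963, 1619), (1964, 1620), (1965, 1570), (1966, 2432), (1967, 2436), (1968, 2438), (1969, 1572), (1970, 2441), (1971, 2287), (1972, 1574), (1973, 1597), (1974, 1805), (1975, 1576), (1976, 2447), (1977, 1629), (1978, 1807), (1979, 2387), (1980, 1582), (1981, 1702), (1982,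 2453), (1983, 2455)]
    ⟨e3 q1920 L35910 q2371, e3 q1921 L26327 q1663, e3 q1922 L35942 q2375, e3 q1923 (flp_d L26338) q1540, e3 q1924 (flp_d L35972) q2378, e3 q1925 L26357 q1925, e3 q1926 L35989 q2381, e3 q1927 L26373 q1927, e3 q1928 L26378 q1928, e3 q1929 L26385 q1929, e3 q1930 L36016 q2385, e3 q1931 (flp_d L26395) q1546, e3 q1932 (flp_d L36038) q2388, e3 q1933 L26409 q1933, e3 q1934 L26415 q1671, e3 q1935 L26430 q1672, e3 q1936 L36089 q2394, e3 q1937 L26451 q1587, e3 q1938 L26461 q1552, e3 q1939 L26474 q1939, e3 q1940 L26481 q1940, e3 q1941 L36151 q2400, e3 q1942 L26499 q1679, e3 q1943 L36184 q2404, e3 q1944 (flp_d L26510) q1554, e3 q1945 (flp_d L36210) q2407, e3 q1946 L26529 q1596, e3 q1947 L36232 q2409, e3 q1948 L26550 q1948, e3 q1949 L26555 q1949, e3 q1950 (flp_d L109114) q2294, e3 q1951 (flp_d L26579) q1560, e3 q1952 (flp_d L36302) q2413, e3 q1953 L26602 q1953, e3 q1954 L26612 q1683, e3 q1955 L36324 q2417, e3 q1956 L36336 q2419, e3 q1957 L26631 q1686, e3 q1958 L36369 q2423, e3 q1959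 (flp_d L26642) q1565, e3 q1960 (flp_d L36402) q2426, e3 q1961 L26662 q1604, e3 q1962 L36420 q2429, e3 q1963 L26679 q1619, e3 q1964 L26685 q1620, e3 q1965 (flp_d L26689) q1570, e3 q1966 (flp_d L36447) q2432, e3 q1967 L36470 q2436, e3 q1968 L36478 q2438, e3 q1969 (flp_d L26714) q1572, e3 q1970 (flp_d L36504) q2441, e3 q1971 (flp_d L35063) q2287, e3 q1972 L26739 q1574, e3 q1973 (flp_d L108930) q1597, e3 q1974 L108976 q1805, e3 q1975 (flp_d L26757) q1576, e3 q1976 (flp_d L36563) q2447, e3 q1977 L26775 q1629, e3 q1978 (flp_d L109339) q1807, e3 q1979 (flp_d L36034) q2387, e3 q1980 L26807 q1582, e3 q1981 L26818 q1702, e3 q1982 L36645 q2453, e3 q1983 L36667 q2455, trivial⟩ (by decide +kernel)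

theorem ce_d_31 : ∀ r, r < 64 → sm gd (Qf (1984 + r)) = Qf (tab Gen.d (1984 + r)) :=
  edges_tab (sm gd) Qf (tab Gen.d) 1984 [(1984, 1705), (1985, 2458), (1986, 1586), (1987, 2459), (1988, 2396), (1989, 2427), (1990, 1591), (1991, 2460), (1992, 2462), (1993, 1593), (1994, 1595), (1995, 2464), (1996, 1718), (1997, 1997), (1998, 1998), (1999, 1600), (2000, 2467), (2001, 2469), (2002, 1605), (2003, 1607), (2004, 2472), (2005, 1608), (2006, 2474), (2007, 2007), (2008, 2008), (2009, 1725), (2010, 2479), (2011, 1612), (2012, 2483), (2013, 2484), (2014, 2486), (2015, 1615), (2016, 2489), (2017, 2017), (2018, 1617), (2019, 1618), (2020, 2494), (2021, 2431), (2022, 1621), (2023, 2497), (2024, 1622), (2025, 2499), (2026, 2496), (2027, 1624), (2028, 2028), (2029, 2029), (2030, 2030), (2031, 2495), (2032, 1628), (2033, 2033), (2034, 2034), (2035, 2035), (2036, 2036), (2037, 1635), (2038, 1636), (2039, 1774), (2040, 2040), (2041, 2326), (2042, 1640), (2043, 1647), (2044, 1709), (2045, 2330), (2046,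 2516), (2047, 2340)]
    ⟨e3 q1984 L26849 q1705, e3 q1985 L36707 q2458, e3 q1986 (flp_d L26863) q1586, e3 q1987 (flp_d L36742) q2459, e3 q1988 (flp_d L36114) q2396, e3 q1989 L111266 q2427, e3 q1990 (flp_d L26926) q1591, e3 q1991 (flp_d L36806) q2460, e3 q1992 L36839 q2462, e3 q1993 (flp_d L26962) q1593, e3 q1994 L26993 q1595, e3 q1995 L37014 q2464, e3 q1996 L27100 q1718, e3 q1997 L27111 q1997, e3 q1998 L27117 q1998, e3 q1999 (flp_d L27120) q1600, e3 q2000 (flp_d L37057) q2467, e3 q2001 L37085 q2469, e3 q2002 (flp_d L27176) q1605, e3 q2003 L27201 q1607, e3 q2004 L37159 q2472, e3 q2005 (flp_d L27226) q1608, e3 q2006 (flp_d L37197) q2474, e3 q2007 L27311 q2007, e3 q2008 L27331 q2008, e3 q2009 L27338 q1725, e3 q2010 L37335 q2479, e3 q2011 (flp_d L27349) q1612, e3 q2012 (flp_d L37372) q2483, e3 q2013 L37395 q2484, e3 q2014 L37411 q2486, e3 q2015 (flp_d L27393) q1615, e3 q2016 (flp_d L37440) q2489, e3 q2017 L27417 q2017, e3 q2018 L27422 q1617, e3 q2019 (flp_d L27442) q1618, e3 q2020 (flp_d L37503)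 q2494, e3 q2021 (flp_d L36438) q2431, e3 q2022 (flp_d L27483) q1621, e3 q2023 (flp_d L37546) q2497, e3 q2024 (flp_d L27497) q1622, e3 q2025 (flp_d L37559) q2499, e3 q2026 (flp_d L37541) q2496, e3 q2027 L27522 q1624, e3 q2028 L27529 q2028, e3 q2029 L27535 q2029, e3 q2030 L27543 q2030, e3 q2031 (flp_d L37535) q2495, e3 q2032 L27580 q1628, e3 q2033 L27613 q2033, e3 q2034 L27621 q2034, e3 q2035 L27660 q2035, e3 q2036 L27701 q2036, e3 q2037 L27757 q1635, e3 q2038 (flp_d L27853) q1636, e3 q2039 L119984 q1774, e3 q2040 L27878 q2040, e3 q2041 (flp_d L35507) q2326, e3 q2042 L27946 q1640, e3 q2043 L27955 q1647, e3 q2044 L119213 q1709, e3 q2045 (flp_d L35546) q2330, e3 q2046 L38187 q2516, e3 q2047 (flp_d L35627) q2340, trivial⟩ (by decide +kernel)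

theorem ce_d_32 : ∀ r, r < 64 → sm gd (Qf (2048 + r)) = Qf (tab Gen.d (2048 + r)) :=
  edges_tab (sm gd) Qf (tab Gen.d) 2048 [(2048, 2341), (2049, 2522), (2050, 2050), (2051, 1648), (2052, 1708), (2053, 1721), (2054, 2524), (2055, 2348), (2056, 2525), (2057, 1650), (2058, 2527), (2059, 2360), (2060, 2531), (2061, 2533), (2062, 2363), (2063, 2537), (2064, 1657), (2065, 2540), (2066, 2066), (2067, 1734), (2068, 2068), (2069, 2069), (2070, 1662), (2071, 2541), (2072, 2543), (2073, 2544), (2074, 1664), (2075, 2546), (2076, 2076), (2077, 1666), (2078, 2389), (2079, 2553), (2080, 2555), (2081, 2392), (2082, 2556), (2083, 1673), (2084, 2558), (2085, 1678), (2086, 1680), (2087, 2087), (2088, 1682), (2089, 2564), (2090, 2415), (2091, 2568), (2092, 1684), (2093, 2572), (2094, 1685), (2095, 2573), (2096, 2575), (2097, 2576), (2098, 1687), (2099, 2578), (2100, 2100), (2101, 1689), (2102, 1695), (2103, 2583), (2104, 1696), (2105, 1697), (2106, 2585), (2107, 1699), (2108, 2108), (2109, 2109), (2110,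 2563), (2111, 2593)]
    ⟨e3 q2048 (flp_d L35644) q2341, e3 q2049 L38314 q2522, e3 q2050 L28073 q2050, e3 q2051 L28080 q1648, e3 q2052 L119870 q1708, e3 q2053 L119901 q1721, e3 q2054 L38364 q2524, e3 q2055 (flp_d L35714) q2348, e3 q2056 L38400 q2525, e3 q2057 (flp_d L28127) q1650, e3 q2058 (flp_d L38426) q2527, e3 q2059 (flp_d L35835) q2360, e3 q2060 L38534 q2531, e3 q2061 L38550 q2533, e3 q2062 (flp_d L35856) q2363, e3 q2063 L38582 q2537, e3 q2064 (flp_d L28255) q1657, e3 q2065 (flp_d L38609) q2540, e3 q2066 L28274 q2066, e3 q2067 (flp_d L120650) q1734, e3 q2068 L28293 q2068, e3 q2069 L28299 q2069, e3 q2070 (flp_d L28302) q1662, e3 q2071 (flp_d L38659) q2541, e3 q2072 L38685 q2543, e3 q2073 L38699 q2544, e3 q2074 (flp_d L28334) q1664, e3 q2075 (flp_d L38726) q2546, e3 q2076 L28355 q2076, e3 q2077 L28361 q1666, e3 q2078 (flp_d L36047) q2389, e3 q2079 L38845 q2553, e3 q2080 L38859 q2555, e3 q2081 (flp_d L36076) q2392, e3 q2082 L38896 q2556, e3 q2083 (flp_d L28475) q1673, e3 q2084 (flp_d L38925)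 q2558, e3 q2085 (flp_d L28529) q1678, e3 q2086 (flp_d L28558) q1680, e3 q2087 L28575 q2087, e3 q2088 L28579 q1682, e3 q2089 L39151 q2564, e3 q2090 (flp_d L36315) q2415, e3 q2091 L39179 q2568, e3 q2092 (flp_d L28685) q1684, e3 q2093 (flp_d L39208) q2572, e3 q2094 (flp_d L28697) q1685, e3 q2095 (flp_d L39217) q2573, e3 q2096 L39244 q2575, e3 q2097 L39259 q2576, e3 q2098 (flp_d L28730) q1687, e3 q2099 (flp_d L39289) q2578, e3 q2100 L28753 q2100, e3 q2101 L28760 q1689, e3 q2102 L28805 q1695, e3 q2103 L39350 q2583, e3 q2104 (flp_d L28826) q1696, e3 q2105 (flp_d L28837) q1697, e3 q2106 (flp_d L39385) q2585, e3 q2107 L28859 q1699, e3 q2108 L28867 q2108, e3 q2109 L28872 q2109, e3 q2110 (flp_d L39059) q2563, e3 q2111 L39455 q2593, trivial⟩ (by decide +kernel)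

theorem ce_d_33 : ∀ r, r < 64 → sm gd (Qf (2112 + r)) = Qf (tab Gen.d (2112 + r)) :=
  edges_tab (sm gd) Qf (tab Gen.d) 2112 [(2112, 2451), (2113, 2597), (2114, 1703), (2115, 1704), (2116, 2600), (2117, 2602), (2118, 2603), (2119, 1706), (2120, 2120), (2121, 1712), (2122, 2607), (2123, 1713), (2124, 1714), (2125, 2609), (2126, 2126), (2127, 1717), (2128, 2613), (2129, 1720), (2130, 2130), (2131, 2616), (2132, 1724), (2133, 2133), (2134, 2134), (2135, 2622), (2136, 1726), (2137, 2626), (2138, 2138), (2139, 1743), (2140, 1728), (2141, 1729), (2142, 2633), (2143, 2143), (2144, 1731), (2145, 1745), (2146, 1746), (2147, 2147), (2148, 2148), (2149, 1736), (2150, 2150), (2151, 2151), (2152, 2152), (2153, 1748), (2154, 1749), (2155, 2648), (2156, 2649), (2157, 2157), (2158, 2629), (2159, 2630), (2160, 2160), (2161, 2637), (2162, 2638), (2163, 2658), (2164, 2646), (2165, 2660), (2166, 1750), (2167, 2662), (2168, 2663), (2169, 1752), (2170, 1753), (2171, 1754), (2172, 1764), (2173, 1759), (2174,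 1763), (2175, 2667)]
    ⟨e3 q2112 (flp_d L36630) q2451, e3 q2113 L39494 q2597, e3 q2114 (flp_d L28935) q1703, e3 q2115 (flp_d L28943) q1704, e3 q2116 (flp_d L39523) q2600, e3 q2117 L39554 q2602, e3 q2118 L39560 q2603, e3 q2119 (flp_d L28981) q1706, e3 q2120 L28997 q2120, e3 q2121 L29029 q1712, e3 q2122 L39623 q2607, e3 q2123 (flp_d L29057) q1713, e3 q2124 (flp_d L29062) q1714, e3 q2125 (flp_d L39662) q2609, e3 q2126 L29080 q2126, e3 q2127 (flp_d L29126) q1717, e3 q2128 (flp_d L39747) q2613, e3 q2129 L29145 q1720, e3 q2130 L29152 q2130, e3 q2131 (flp_d L39770) q2616, e3 q2132 L29166 q1724, e3 q2133 L29174 q2133, e3 q2134 L29178 q2134, e3 q2135 L39805 q2622, e3 q2136 (flp_d L29190) q1726, e3 q2137 (flp_d L39841) q2626, e3 q2138 L29211 q2138, e3 q2139 L29218 q1743, e3 q2140 L29225 q1728, e3 q2141 (flp_d L29228) q1729, e3 q2142 (flp_d L39893) q2633, e3 q2143 L29250 q2143, e3 q2144 L29255 q1731, e3 q2145 L29263 q1745, e3 q2146 L29269 q1746, e3 q2147 L29279 q2147, e3 q2148 L29285 q2148, e3 q2149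 L29289 q1736, e3 q2150 L29297 q2150, e3 q2151 L29303 q2151, e3 q2152 L29311 q2152, e3 q2153 L29315 q1748, e3 q2154 L29321 q1749, e3 q2155 L39993 q2648, e3 q2156 L40000 q2649, e3 q2157 L29345 q2157, e3 q2158 (flp_d L39863) q2629, e3 q2159 (flp_d L39870) q2630, e3 q2160 L29370 q2160, e3 q2161 (flp_d L39923) q2637, e3 q2162 (flp_d L39930) q2638, e3 q2163 L40075 q2658, e3 q2164 (flp_d L39983) q2646, e3 q2165 L40091 q2660, e3 q2166 (flp_d L29413) q1750, e3 q2167 L41611 q2662, e3 q2168 L41646 q2663, e3 q2169 (flp_d L30534) q1752, e3 q2170 (flp_d L30550) q1753, e3 q2171 (flp_d L30588) q1754, e3 q2172 L30858 q1764, e3 q2173 (flp_d L30871) q1759, e3 q2174 (flp_d L31822) q1763, e3 q2175 (flp_d L43370) q2667, trivial⟩ (by decide +kernel)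

theorem ce_d_34 : ∀ r, r < 64 → sm gd (Qf (2176 + r)) = Qf (tab Gen.d (2176 + r)) :=
  edges_tab (sm gd) Qf (tab Gen.d) 2176 [(2176, 2176), (2177, 2670), (2178, 1765), (2179, 2179), (2180, 2180), (2181, 1768), (2182, 2673), (2183, 2183), (2184, 1770), (2185, 1777), (2186, 2186), (2187, 1781), (2188, 2676), (2189, 1783), (2190, 2619), (2191, 2191), (2192, 2192), (2193, 2682), (2194, 2194), (2195, 2195), (2196, 2196), (2197, 2686), (2198, 2688), (2199, 1789), (2200, 2691), (2201, 2692), (2202, 2202), (2203, 1793), (2204, 2694), (2205, 2205), (2206, 2697), (2207, 2699), (2208, 2701), (2209, 1797), (2210, 2704), (2211, 2428), (2212, 1816), (2213, 1801), (2214, 2707), (2215, 1802), (2216, 2710), (2217, 2406), (2218, 1804), (2219, 2445), (2220, 2714), (2221, 1809), (2222, 2471), (2223, 2717), (2224, 1812), (2225, 2721), (2226, 1813), (2227, 2723), (2228, 2228), (2229, 1815), (2230, 2498), (2231, 1818), (2232, 2232), (2233, 2233), (2234, 2234), (2235, 2235), (2236, 1822), (2237, 1833), (2238,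 2737), (2239, 2239)]
    ⟨e3 q2176 L111837 q2176, e3 q2177 L43407 q2670, e3 q2178 (flp_d L31859) q1765, e3 q2179 L31872 q2179, e3 q2180 L31879 q2180, e3 q2181 L31885 q1768, e3 q2182 (flp_d L43448) q2673, e3 q2183 L112359 q2183, e3 q2184 (flp_d L31921) q1770, e3 q2185 L31973 q1777, e3 q2186 L32105 q2186, e3 q2187 L32111 q1781, e3 q2188 (flp_d L43734) q2676, e3 q2189 L32133 q1783, e3 q2190 (flp_d L39790) q2619, e3 q2191 L32788 q2191, e3 q2192 L32800 q2192, e3 q2193 L44669 q2682, e3 q2194 L32814 q2194, e3 q2195 L32832 q2195, e3 q2196 L32839 q2196, e3 q2197 L44719 q2686, e3 q2198 L44750 q2688, e3 q2199 (flp_d L32863) q1789, e3 q2200 (flp_d L44778) q2691, e3 q2201 L44795 q2692, e3 q2202 L32902 q2202, e3 q2203 (flp_d L32923) q1793, e3 q2204 (flp_d L44854) q2694, e3 q2205 L32953 q2205, e3 q2206 L44879 q2697, e3 q2207 L44892 q2699, e3 q2208 L44924 q2701, e3 q2209 (flp_d L32983) q1797, e3 q2210 (flp_d L44955) q2704, e3 q2211 (flp_d L104694) q2428, e3 q2212 L33033 q1816, e3 q2213 (flp_d L33037) q1801,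 e3 q2214 L45031 q2707, e3 q2215 (flp_d L33061) q1802, e3 q2216 (flp_d L45063) q2710, e3 q2217 (flp_d L36205) q2406, e3 q2218 L33084 q1804, e3 q2219 L102237 q2445, e3 q2220 L45181 q2714, e3 q2221 (flp_d L33210) q1809, e3 q2222 (flp_d L110691) q2471, e3 q2223 L45688 q2717, e3 q2224 (flp_d L33534) q1812, e3 q2225 (flp_d L45726) q2721, e3 q2226 (flp_d L33587) q1813, e3 q2227 (flp_d L45808) q2723, e3 q2228 L33609 q2228, e3 q2229 L33614 q1815, e3 q2230 (flp_d L99051) q2498, e3 q2231 L33736 q1818, e3 q2232 L33743 q2232, e3 q2233 L33748 q2233, e3 q2234 L33756 q2234, e3 q2235 L34636 q2235, e3 q2236 L34641 q1822, e3 q2237 L34650 q1833, e3 q2238 (flp_d L47211) q2737, e3 q2239 L34667 q2239, trivial⟩ (by decide +kernel)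

theorem ce_d_35 : ∀ r, r < 64 → sm gd (Qf (2240 + r)) = Qf (tab Gen.d (2240 + r)) :=
  edges_tab (sm gd) Qf (tab Gen.d) 2240 [(2240, 2743), (2241, 2241), (2242, 1826), (2243, 1839), (2244, 1840), (2245, 2245), (2246, 2751), (2247, 1843), (2248, 1844), (2249, 2249), (2250, 2250), (2251, 2759), (2252, 2252), (2253, 1834), (2254, 2738), (2255, 2739), (2256, 2765), (2257, 2257), (2258, 2769), (2259, 1836), (2260, 2772), (2261, 2261), (2262, 2775), (2263, 2747), (2264, 2748), (2265, 2265), (2266, 2779), (2267, 1842), (2268, 2782), (2269, 2753), (2270, 2270), (2271, 2786), (2272, 2788), (2273, 2273), (2274, 2792), (2275, 1847), (2276, 2795), (2277, 1873), (2278, 2798), (2279, 2279), (2280, 2280), (2281, 1852), (2282, 2801), (2283, 2805), (2284, 2807), (2285, 1854), (2286, 2810), (2287, 1971), (2288, 1856), (2289, 1884), (2290, 2815), (2291, 1858), (2292, 2818), (2293, 2293), (2294, 1950), (2295, 1862), (2296, 2821), (2297, 2781), (2298, 1864), (2299, 2824), (2300, 2300), (2301, 2828), (2302,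 1867), (2303, 2831)]
    ⟨e3 q2240 L47254 q2743, e3 q2241 L34681 q2241, e3 q2242 L34687 q1826, e3 q2243 L34697 q1839, e3 q2244 L34703 q1840, e3 q2245 L34711 q2245, e3 q2246 L47316 q2751, e3 q2247 L34727 q1843, e3 q2248 L34732 q1844, e3 q2249 L34739 q2249, e3 q2250 L34753 q2250, e3 q2251 L47384 q2759, e3 q2252 L34771 q2252, e3 q2253 L34778 q1834, e3 q2254 (flp_d L47221) q2738, e3 q2255 (flp_d L47227) q2739, e3 q2256 L47433 q2765, e3 q2257 L34814 q2257, e3 q2258 L47472 q2769, e3 q2259 (flp_d L34826) q1836, e3 q2260 (flp_d L47501) q2772, e3 q2261 L34847 q2261, e3 q2262 L47522 q2775, e3 q2263 (flp_d L47291) q2747, e3 q2264 (flp_d L47297) q2748, e3 q2265 L34879 q2265, e3 q2266 L47557 q2779, e3 q2267 (flp_d L34893) q1842, e3 q2268 (flp_d L47581) q2782, e3 q2269 (flp_d L47332) q2753, e3 q2270 L34921 q2270, e3 q2271 L47607 q2786, e3 q2272 L47622 q2788, e3 q2273 L34947 q2273, e3 q2274 L47662 q2792, e3 q2275 (flp_d L34959) q1847, e3 q2276 (flp_d L47694) q2795, e3 q2277 L34981 q1873, e3 q2278 L47716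 q2798, e3 q2279 L35002 q2279, e3 q2280 L35007 q2280, e3 q2281 (flp_d L35012) q1852, e3 q2282 (flp_d L47749) q2801, e3 q2283 L47778 q2805, e3 q2284 L47792 q2807, e3 q2285 (flp_d L35044) q1854, e3 q2286 (flp_d L47815) q2810, e3 q2287 L35063 q1971, e3 q2288 L35068 q1856, e3 q2289 L35075 q1884, e3 q2290 L47849 q2815, e3 q2291 (flp_d L35090) q1858, e3 q2292 (flp_d L47879) q2818, e3 q2293 L35113 q2293, e3 q2294 L109114 q1950, e3 q2295 (flp_d L35126) q1862, e3 q2296 (flp_d L47910) q2821, e3 q2297 (flp_d L47577) q2781, e3 q2298 L35150 q1864, e3 q2299 L47938 q2824, e3 q2300 L35169 q2300, e3 q2301 L47975 q2828, e3 q2302 (flp_d L35181) q1867, e3 q2303 (flp_d L48005) q2831, trivial⟩ (by decide +kernel)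

theorem ce_d_36 : ∀ r, r < 64 → sm gd (Qf (2304 + r)) = Qf (tab Gen.d (2304 + r)) :=
  edges_tab (sm gd) Qf (tab Gen.d) 2304 [(2304, 1868), (2305, 2832), (2306, 2836), (2307, 2837), (2308, 1870), (2309, 2839), (2310, 1872), (2311, 2796), (2312, 2840), (2313, 1874), (2314, 1878), (2315, 2844), (2316, 2842), (2317, 2846), (2318, 1879), (2319, 1880), (2320, 2848), (2321, 1882), (2322, 1885), (2323, 2847), (2324, 2324), (2325, 2325), (2326, 2041), (2327, 1890), (2328, 1901), (2329, 2859), (2330, 2045), (2331, 2864), (2332, 2332), (2333, 1894), (2334, 1907), (2335, 1908), (2336, 2336), (2337, 2872), (2338, 1911), (2339, 1912), (2340, 2047), (2341, 2048), (2342, 2880), (2343, 2343), (2344, 1902), (2345, 2860), (2346, 2861), (2347, 2886), (2348, 2055), (2349, 2890), (2350, 1904), (2351, 2893), (2352, 2352), (2353, 2895), (2354, 2868), (2355, 2869), (2356, 2898), (2357, 1910), (2358, 2901), (2359, 2874), (2360, 2059), (2361, 2905), (2362, 2907), (2363, 2062), (2364, 2911), (2365, 1915), (2366,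 2914), (2367, 2367)]
    ⟨e3 q2304 (flp_d L35201) q1868, e3 q2305 (flp_d L48014) q2832, e3 q2306 L48048 q2836, e3 q2307 L48066 q2837, e3 q2308 (flp_d L35240) q1870, e3 q2309 (flp_d L48100) q2839, e3 q2310 L35263 q1872, e3 q2311 (flp_d L47701) q2796, e3 q2312 L48125 q2840, e3 q2313 (flp_d L35286) q1874, e3 q2314 L35317 q1878, e3 q2315 L48173 q2844, e3 q2316 (flp_d L48161) q2842, e3 q2317 L48199 q2846, e3 q2318 (flp_d L35348) q1879, e3 q2319 (flp_d L35364) q1880, e3 q2320 (flp_d L48224) q2848, e3 q2321 L35394 q1882, e3 q2322 (flp_d L35418) q1885, e3 q2323 (flp_d L48219) q2847, e3 q2324 L35471 q2324, e3 q2325 L35481 q2325, e3 q2326 L35507 q2041, e3 q2327 L35515 q1890, e3 q2328 L35526 q1901, e3 q2329 (flp_d L48430) q2859, e3 q2330 L35546 q2045, e3 q2331 L48478 q2864, e3 q2332 L35561 q2332, e3 q2333 L35567 q1894, e3 q2334 L35577 q1907, e3 q2335 L35583 q1908, e3 q2336 L35593 q2336, e3 q2337 L48545 q2872, e3 q2338 L35613 q1911, e3 q2339 L35620 q1912, e3 q2340 L35627 q2047, e3 q2341 L35644 q2048,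 e3 q2342 L48625 q2880, e3 q2343 L35665 q2343, e3 q2344 L35674 q1902, e3 q2345 (flp_d L48442) q2860, e3 q2346 (flp_d L48450) q2861, e3 q2347 L48683 q2886, e3 q2348 L35714 q2055, e3 q2349 L48723 q2890, e3 q2350 (flp_d L35727) q1904, e3 q2351 (flp_d L48754) q2893, e3 q2352 L35749 q2352, e3 q2353 L48775 q2895, e3 q2354 (flp_d L48516) q2868, e3 q2355 (flp_d L48522) q2869, e3 q2356 L48812 q2898, e3 q2357 (flp_d L35799) q1910, e3 q2358 (flp_d L48844) q2901, e3 q2359 (flp_d L48567) q2874, e3 q2360 L35835 q2059, e3 q2361 L48871 q2905, e3 q2362 L48887 q2907, e3 q2363 L35856 q2062, e3 q2364 L48919 q2911, e3 q2365 (flp_d L35867) q1915, e3 q2366 (flp_d L48949) q2914, e3 q2367 L35886 q2367, trivial⟩ (by decide +kernel)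

theorem ce_d_37 : ∀ r, r < 64 → sm gd (Qf (2368 + r)) = Qf (tab Gen.d (2368 + r)) :=
  edges_tab (sm gd) Qf (tab Gen.d) 2368 [(2368, 2917), (2369, 2369), (2370, 2370), (2371, 1920), (2372, 2920), (2373, 2924), (2374, 2926), (2375, 1922), (2376, 2929), (2377, 2771), (2378, 1924), (2379, 2379), (2380, 2934), (2381, 1926), (2382, 2937), (2383, 2383), (2384, 2900), (2385, 1930), (2386, 2939), (2387, 1979), (2388, 1932), (2389, 2078), (2390, 2946), (2391, 2948), (2392, 2081), (2393, 2952), (2394, 1936), (2395, 2955), (2396, 1988), (2397, 2957), (2398, 2398), (2399, 2399), (2400, 1941), (2401, 2960), (2402, 2963), (2403, 2965), (2404, 1943), (2405, 2968), (2406, 2217), (2407, 1945), (2408, 2814), (2409, 1947), (2410, 2974), (2411, 2411), (2412, 2819), (2413, 1952), (2414, 2975), (2415, 2090), (2416, 2979), (2417, 1955), (2418, 2983), (2419, 1956), (2420, 2984), (2421, 2988), (2422, 2990), (2423, 1958), (2424, 2993), (2425, 2794), (2426, 1960), (2427, 1989), (2428, 2211), (2429, 1962), (2430,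 2999), (2431, 2021)]
    ⟨e3 q2368 L48966 q2917, e3 q2369 L35902 q2369, e3 q2370 L35907 q2370, e3 q2371 (flp_d L35910) q1920, e3 q2372 (flp_d L48991) q2920, e3 q2373 L49019 q2924, e3 q2374 L49031 q2926, e3 q2375 (flp_d L35942) q1922, e3 q2376 (flp_d L49062) q2929, e3 q2377 (flp_d L47495) q2771, e3 q2378 L35972 q1924, e3 q2379 L35979 q2379, e3 q2380 L49096 q2934, e3 q2381 (flp_d L35989) q1926, e3 q2382 (flp_d L49120) q2937, e3 q2383 L36005 q2383, e3 q2384 L104018 q2900, e3 q2385 (flp_d L36016) q1930, e3 q2386 (flp_d L49145) q2939, e3 q2387 L36034 q1979, e3 q2388 L36038 q1932, e3 q2389 L36047 q2078, e3 q2390 L49196 q2946, e3 q2391 L49214 q2948, e3 q2392 L36076 q2081, e3 q2393 L49255 q2952, e3 q2394 (flp_d L36089) q1936, e3 q2395 (flp_d L49289) q2955, e3 q2396 L36114 q1988, e3 q2397 L49315 q2957, e3 q2398 L36139 q2398, e3 q2399 L36146 q2399, e3 q2400 (flp_d L36151) q1941, e3 q2401 (flp_d L49354) q2960, e3 q2402 L49385 q2963, e3 q2403 L49399 q2965, e3 q2404 (flp_d L36184) q1943, e3 q2405 (flp_d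 L49424) q2968, e3 q2406 L36205 q2217, e3 q2407 L36210 q1945, e3 q2408 L102286 q2814, e3 q2409 (flp_d L36232) q1947, e3 q2410 (flp_d L49490) q2974, e3 q2411 L36255 q2411, e3 q2412 L86961 q2819, e3 q2413 L36302 q1952, e3 q2414 L49561 q2975, e3 q2415 L36315 q2090, e3 q2416 L49586 q2979, e3 q2417 (flp_d L36324) q1955, e3 q2418 (flp_d L49618) q2983, e3 q2419 (flp_d L36336) q1956, e3 q2420 (flp_d L49627) q2984, e3 q2421 L49656 q2988, e3 q2422 L49668 q2990, e3 q2423 (flp_d L36369) q1958, e3 q2424 (flp_d L49702) q2993, e3 q2425 (flp_d L47687) q2794, e3 q2426 L36402 q1960, e3 q2427 (flp_d L111266) q1989, e3 q2428 L104694 q2211, e3 q2429 (flp_d L36420) q1962, e3 q2430 (flp_d L49769) q2999, e3 q2431 L36438 q2021, trivial⟩ (by decide +kernel)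

theorem ce_d_38 : ∀ r, r < 64 → sm gd (Qf (2432 + r)) = Qf (tab Gen.d (2432 + r)) :=
  edges_tab (sm gd) Qf (tab Gen.d) 2432 [(2432, 1966), (2433, 3002), (2434, 3000), (2435, 3004), (2436, 1967), (2437, 3008), (2438, 1968), (2439, 3010), (2440, 3007), (2441, 1970), (2442, 2811), (2443, 2812), (2444, 2971), (2445, 2219), (2446, 3006), (2447, 1976), (2448, 2940), (2449, 2941), (2450, 3021), (2451, 2112), (2452, 3024), (2453, 1982), (2454, 3026), (2455, 1983), (2456, 3027), (2457, 3029), (2458, 1985), (2459, 1987), (2460, 1991), (2461, 3032), (2462, 1992), (2463, 3034), (2464, 1995), (2465, 3036), (2466, 3038), (2467, 2000), (2468, 3040), (2469, 2001), (2470, 3042), (2471, 2222), (2472, 2004), (2473, 3046), (2474, 2006), (2475, 3047), (2476, 2476), (2477, 3049), (2478, 3051), (2479, 2010), (2480, 3055), (2481, 2719), (2482, 2482), (2483, 2012), (2484, 2013), (2485, 3063), (2486, 2014), (2487, 3065), (2488, 3062), (2489, 2016), (2490, 2490), (2491, 2491), (2492, 2492), (2493, 3061), (2494,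 2020), (2495, 2031)]
    ⟨e3 q2432 L36447 q1966, e3 q2433 L49787 q3002, e3 q2434 (flp_d L49777) q3000, e3 q2435 L49804 q3004, e3 q2436 (flp_d L36470) q1967, e3 q2437 (flp_d L49826) q3008, e3 q2438 (flp_d L36478) q1968, e3 q2439 (flp_d L49840) q3010, e3 q2440 (flp_d L49822) q3007, e3 q2441 L36504 q1970, e3 q2442 (flp_d L47822) q2811, e3 q2443 (flp_d L47828) q2812, e3 q2444 (flp_d L49447) q2971, e3 q2445 (flp_d L102237) q2219, e3 q2446 (flp_d L49818) q3006, e3 q2447 L36563 q1976, e3 q2448 (flp_d L49152) q2940, e3 q2449 (flp_d L49160) q2941, e3 q2450 L50007 q3021, e3 q2451 L36630 q2112, e3 q2452 L50051 q3024, e3 q2453 (flp_d L36645) q1982, e3 q2454 (flp_d L50097) q3026, e3 q2455 (flp_d L36667) q1983, e3 q2456 (flp_d L50106) q3027, e3 q2457 L50142 q3029, e3 q2458 (flp_d L36707) q1985, e3 q2459 L36742 q1987, e3 q2460 L36806 q1991, e3 q2461 L50288 q3032, e3 q2462 (flp_d L36839) q1992, e3 q2463 (flp_d L50340) q3034, e3 q2464 (flp_d L37014) q1995, e3 q2465 (flp_d L50547) q3036, e3 q2466 L50574 q3038,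 e3 q2467 L37057 q2000, e3 q2468 L50611 q3040, e3 q2469 (flp_d L37085) q2001, e3 q2470 (flp_d L50656) q3042, e3 q2471 L110691 q2222, e3 q2472 (flp_d L37159) q2004, e3 q2473 (flp_d L50750) q3046, e3 q2474 L37197 q2006, e3 q2475 (flp_d L50784) q3047, e3 q2476 L37294 q2476, e3 q2477 L50951 q3049, e3 q2478 L50967 q3051, e3 q2479 (flp_d L37335) q2010, e3 q2480 (flp_d L51005) q3055, e3 q2481 (flp_d L45711) q2719, e3 q2482 L37366 q2482, e3 q2483 L37372 q2012, e3 q2484 (flp_d L37395) q2013, e3 q2485 (flp_d L51096) q3063, e3 q2486 (flp_d L37411) q2014, e3 q2487 (flp_d L51111) q3065, e3 q2488 (flp_d L51090) q3062, e3 q2489 L37440 q2016, e3 q2490 L37448 q2490, e3 q2491 L37455 q2491, e3 q2492 L37464 q2492, e3 q2493 (flp_d L51083) q3061, e3 q2494 L37503 q2020, e3 q2495 L37535 q2031, trivial⟩ (by decide +kernel)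

theorem ce_d_39 : ∀ r, r < 64 → sm gd (Qf (2496 + r)) = Qf (tab Gen.d (2496 + r)) :=
  edges_tab (sm gd) Qf (tab Gen.d) 2496 [(2496, 2026), (2497, 2023), (2498, 2230), (2499, 2025), (2500, 3077), (2501, 3078), (2502, 2502), (2503, 2503), (2504, 2504), (2505, 3088), (2506, 3074), (2507, 3076), (2508, 2508), (2509, 2509), (2510, 2510), (2511, 2511), (2512, 2512), (2513, 2855), (2514, 2856), (2515, 3096), (2516, 2046), (2517, 2875), (2518, 3101), (2519, 3103), (2520, 2878), (2521, 3104), (2522, 2049), (2523, 3106), (2524, 2054), (2525, 2056), (2526, 2526), (2527, 2058), (2528, 3110), (2529, 2903), (2530, 3114), (2531, 2060), (2532, 3118), (2533, 2061), (2534, 3119), (2535, 3121), (2536, 3122), (2537, 2063), (2538, 3124), (2539, 2539), (2540, 2065), (2541, 2071), (2542, 3129), (2543, 2072), (2544, 2073), (2545, 3131), (2546, 2075), (2547, 2547), (2548, 2548), (2549, 3109), (2550, 3139), (2551, 2944), (2552, 3140), (2553, 2079), (2554, 3143), (2555, 2080), (2556, 2082), (2557, 2557), (2558,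 2084), (2559, 2889)]
    ⟨e3 q2496 L37541 q2026, e3 q2497 L37546 q2023, e3 q2498 L99051 q2230, e3 q2499 L37559 q2025, e3 q2500 (flp_d L51278) q3077, e3 q2501 (flp_d L51285) q3078, e3 q2502 L37581 q2502, e3 q2503 L37587 q2503, e3 q2504 L37594 q2504, e3 q2505 L51352 q3088, e3 q2506 (flp_d L51258) q3074, e3 q2507 (flp_d L51272) q3076, e3 q2508 L37701 q2508, e3 q2509 L37709 q2509, e3 q2510 L37753 q2510, e3 q2511 L37816 q2511, e3 q2512 L38006 q2512, e3 q2513 (flp_d L48390) q2855, e3 q2514 (flp_d L48404) q2856, e3 q2515 L52074 q3096, e3 q2516 (flp_d L38187) q2046, e3 q2517 (flp_d L48581) q2875, e3 q2518 L52288 q3101, e3 q2519 L52306 q3103, e3 q2520 (flp_d L48612) q2878, e3 q2521 L52342 q3104, e3 q2522 (flp_d L38314) q2049, e3 q2523 (flp_d L52368) q3106, e3 q2524 (flp_d L38364) q2054, e3 q2525 (flp_d L38400) q2056, e3 q2526 L38421 q2526, e3 q2527 L38426 q2058, e3 q2528 L52608 q3110, e3 q2529 (flp_d L48860) q2903, e3 q2530 L52644 q3114, e3 q2531 (flp_d L38534) q2060, e3 q2532 (flp_d L52682) q3118,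 e3 q2533 (flp_d L38550) q2061, e3 q2534 (flp_d L52690) q3119, e3 q2535 L52716 q3121, e3 q2536 L52730 q3122, e3 q2537 (flp_d L38582) q2063, e3 q2538 (flp_d L52757) q3124, e3 q2539 L38603 q2539, e3 q2540 L38609 q2065, e3 q2541 L38659 q2071, e3 q2542 L52840 q3129, e3 q2543 (flp_d L38685) q2072, e3 q2544 (flp_d L38699) q2073, e3 q2545 (flp_d L52889) q3131, e3 q2546 L38726 q2075, e3 q2547 L38735 q2547, e3 q2548 L38741 q2548, e3 q2549 (flp_d L52516) q3109, e3 q2550 L53030 q3139, e3 q2551 (flp_d L49183) q2944, e3 q2552 L53062 q3140, e3 q2553 (flp_d L38845) q2079, e3 q2554 (flp_d L53092) q3143, e3 q2555 (flp_d L38859) q2080, e3 q2556 (flp_d L38896) q2082, e3 q2557 L38919 q2557, e3 q2558 L38925 q2084, e3 q2559 (flp_d L119622) q2889, trivial⟩ (by decide +kernel)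

theorem ce_d_40 : ∀ r, r < 64 → sm gd (Qf (2560 + r)) = Qf (tab Gen.d (2560 + r)) :=
  edges_tab (sm gd) Qf (tab Gen.d) 2560 [(2560, 2887), (2561, 2561), (2562, 2562), (2563, 2110), (2564, 2089), (2565, 3155), (2566, 3157), (2567, 3158), (2568, 2091), (2569, 3161), (2570, 2570), (2571, 2571), (2572, 2093), (2573, 2095), (2574, 3168), (2575, 2096), (2576, 2097), (2577, 3170), (2578, 2099), (2579, 2579), (2580, 2580), (2581, 3148), (2582, 3135), (2583, 2103), (2584, 3180), (2585, 2106), (2586, 3134), (2587, 3181), (2588, 3132), (2589, 3128), (2590, 2590), (2591, 2591), (2592, 3188), (2593, 2111), (2594, 3190), (2595, 3192), (2596, 3193), (2597, 2113), (2598, 2598), (2599, 2599), (2600, 2116), (2601, 3199), (2602, 2117), (2603, 2118), (2604, 3201), (2605, 2605), (2606, 2863), (2607, 2122), (2608, 3206), (2609, 2125), (2610, 2862), (2611, 3207), (2612, 2612), (2613, 2128), (2614, 2614), (2615, 3210), (2616, 2131), (2617, 2617), (2618, 2618), (2619, 2190), (2620, 2620), (2621, 2621), (2622,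 2135), (2623, 3220)]
    ⟨e3 q2560 L119465 q2887, e3 q2561 L39047 q2561, e3 q2562 L39051 q2562, e3 q2563 L39059 q2110, e3 q2564 (flp_d L39151) q2089, e3 q2565 (flp_d L53478) q3155, e3 q2566 L53501 q3157, e3 q2567 L53514 q3158, e3 q2568 (flp_d L39179) q2091, e3 q2569 (flp_d L53544) q3161, e3 q2570 L39197 q2570, e3 q2571 L39203 q2571, e3 q2572 L39208 q2093, e3 q2573 L39217 q2095, e3 q2574 L53598 q3168, e3 q2575 (flp_d L39244) q2096, e3 q2576 (flp_d L39259) q2097, e3 q2577 (flp_d L53645) q3170, e3 q2578 L39289 q2099, e3 q2579 L39299 q2579, e3 q2580 L39306 q2580, e3 q2581 (flp_d L53202) q3148, e3 q2582 L119552 q3135, e3 q2583 (flp_d L39350) q2103, e3 q2584 (flp_d L53768) q3180, e3 q2585 L39385 q2106, e3 q2586 L118168 q3134, e3 q2587 (flp_d L53802) q3181, e3 q2588 L118163 q3132, e3 q2589 L119547 q3128, e3 q2590 L39430 q2590, e3 q2591 L39436 q2591, e3 q2592 L53870 q3188, e3 q2593 (flp_d L39455) q2111, e3 q2594 (flp_d L53886) q3190, e3 q2595 L53918 q3192, e3 q2596 L53925 q3193, e3 q2597 (flp_d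 L39494) q2113, e3 q2598 L39509 q2598, e3 q2599 L39518 q2599, e3 q2600 L39523 q2116, e3 q2601 L53980 q3199, e3 q2602 (flp_d L39554) q2117, e3 q2603 (flp_d L39560) q2118, e3 q2604 (flp_d L54026) q3201, e3 q2605 L39581 q2605, e3 q2606 L119478 q2863, e3 q2607 (flp_d L39623) q2122, e3 q2608 (flp_d L54117) q3206, e3 q2609 L39662 q2125, e3 q2610 (flp_d L117177) q2862, e3 q2611 (flp_d L54159) q3207, e3 q2612 L39741 q2612, e3 q2613 L39747 q2128, e3 q2614 L39755 q2614, e3 q2615 (flp_d L54247) q3210, e3 q2616 L39770 q2131, e3 q2617 L39779 q2617, e3 q2618 L39784 q2618, e3 q2619 L39790 q2190, e3 q2620 L39798 q2620, e3 q2621 L39802 q2621, e3 q2622 (flp_d L39805) q2135, e3 q2623 (flp_d L54320) q3220, trivial⟩ (by decide +kernel)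

theorem ce_d_41 : ∀ r, r < 64 → sm gd (Qf (2624 + r)) = Qf (tab Gen.d (2624 + r)) :=
  edges_tab (sm gd) Qf (tab Gen.d) 2624 [(2624, 2624), (2625, 2625), (2626, 2137), (2627, 3226), (2628, 2628), (2629, 2158), (2630, 2159), (2631, 2631), (2632, 2632), (2633, 2142), (2634, 2634), (2635, 2635), (2636, 2636), (2637, 2161), (2638, 2162), (2639, 3241), (2640, 2640), (2641, 2641), (2642, 2642), (2643, 2643), (2644, 2644), (2645, 3247), (2646, 2164), (2647, 3249), (2648, 2155), (2649, 2156), (2650, 3251), (2651, 3253), (2652, 3257), (2653, 3230), (2654, 3231), (2655, 3260), (2656, 3239), (2657, 3262), (2658, 2163), (2659, 2740), (2660, 2165), (2661, 2661), (2662, 2167), (2663, 2168), (2664, 2665), (2665, 2664), (2666, 2666), (2667, 2175), (2668, 3267), (2669, 2669), (2670, 2177), (2671, 2671), (2672, 3269), (2673, 2182), (2674, 3097), (2675, 2675), (2676, 2188), (2677, 3213), (2678, 2678), (2679, 3275), (2680, 3277), (2681, 3279), (2682, 2193), (2683, 3282), (2684, 3283), (2685, 2685), (2686,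 2197), (2687, 3286)]
    ⟨e3 q2624 L39829 q2624, e3 q2625 L39835 q2625, e3 q2626 L39841 q2137, e3 q2627 L54362 q3226, e3 q2628 L39856 q2628, e3 q2629 L39863 q2158, e3 q2630 L39870 q2159, e3 q2631 L39881 q2631, e3 q2632 L39888 q2632, e3 q2633 L39893 q2142, e3 q2634 L39902 q2634, e3 q2635 L39909 q2635, e3 q2636 L39918 q2636, e3 q2637 L39923 q2161, e3 q2638 L39930 q2162, e3 q2639 L54473 q3241, e3 q2640 L39944 q2640, e3 q2641 L39949 q2641, e3 q2642 L39960 q2642, e3 q2643 L39964 q2643, e3 q2644 L39970 q2644, e3 q2645 L54517 q3247, e3 q2646 L39983 q2164, e3 q2647 L54528 q3249, e3 q2648 (flp_d L39993) q2155, e3 q2649 (flp_d L40000) q2156, e3 q2650 (flp_d L54545) q3251, e3 q2651 (flp_d L54558) q3253, e3 q2652 L54590 q3257, e3 q2653 (flp_d L54393) q3230, e3 q2654 (flp_d L54401) q3231, e3 q2655 L54617 q3260, e3 q2656 (flp_d L54462) q3239, e3 q2657 L54635 q3262, e3 q2658 (flp_d L40075) q2163, e3 q2659 L121030 q2740, e3 q2660 (flp_d L40091) q2165, e3 q2661 L40102 q2661, e3 q2662 (flp_d L41611) q2167,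 e3 q2663 (flp_d L41646) q2168, e3 q2664 (flp_d L42122) q2665, e3 q2665 L42122 q2664, e3 q2666 L43364 q2666, e3 q2667 L43370 q2175, e3 q2668 (flp_d L59152) q3267, e3 q2669 L111853 q2669, e3 q2670 (flp_d L43407) q2177, e3 q2671 L43422 q2671, e3 q2672 L59243 q3269, e3 q2673 L43448 q2182, e3 q2674 L118477 q3097, e3 q2675 L43721 q2675, e3 q2676 L43734 q2188, e3 q2677 (flp_d L54270) q3213, e3 q2678 L44637 q2678, e3 q2679 L60871 q3275, e3 q2680 L60888 q3277, e3 q2681 L60919 q3279, e3 q2682 (flp_d L44669) q2193, e3 q2683 (flp_d L60947) q3282, e3 q2684 L60968 q3283, e3 q2685 L44716 q2685, e3 q2686 (flp_d L44719) q2197, e3 q2687 L61025 q3286, trivial⟩ (by decide +kernel)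

theorem ce_d_42 : ∀ r, r < 64 → sm gd (Qf (2688 + r)) = Qf (tab Gen.d (2688 + r)) :=
  edges_tab (sm gd) Qf (tab Gen.d) 2688 [(2688, 2198), (2689, 3289), (2690, 2892), (2691, 2200), (2692, 2201), (2693, 3294), (2694, 2204), (2695, 3296), (2696, 3298), (2697, 2206), (2698, 3302), (2699, 2207), (2700, 3304), (2701, 2208), (2702, 3307), (2703, 2954), (2704, 2210), (2705, 2997), (2706, 3311), (2707, 2214), (2708, 3314), (2709, 3313), (2710, 2216), (2711, 2969), (2712, 2970), (2713, 2813), (2714, 2220), (2715, 3039), (2716, 3044), (2717, 2223), (2718, 3326), (2719, 2481), (2720, 2720), (2721, 2225), (2722, 3064), (2723, 2227), (2724, 2724), (2725, 2725), (2726, 2726), (2727, 3080), (2728, 3081), (2729, 2729), (2730, 2730), (2731, 2731), (2732, 3343), (2733, 2733), (2734, 2734), (2735, 3349), (2736, 2736), (2737, 2238), (2738, 2254), (2739, 2255), (2740, 2659), (2741, 2741), (2742, 3357), (2743, 2240), (2744, 3360), (2745, 2745), (2746, 3362), (2747, 2263), (2748, 2264), (2749, 2749), (2750,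 3366), (2751, 2246)]
    ⟨e3 q2688 (flp_d L44750) q2198, e3 q2689 (flp_d L61066) q3289, e3 q2690 (flp_d L48748) q2892, e3 q2691 L44778 q2200, e3 q2692 (flp_d L44795) q2201, e3 q2693 (flp_d L61122) q3294, e3 q2694 L44854 q2204, e3 q2695 L61181 q3296, e3 q2696 L61211 q3298, e3 q2697 (flp_d L44879) q2206, e3 q2698 (flp_d L61244) q3302, e3 q2699 (flp_d L44892) q2207, e3 q2700 L61280 q3304, e3 q2701 (flp_d L44924) q2208, e3 q2702 (flp_d L61324) q3307, e3 q2703 (flp_d L49282) q2954, e3 q2704 L44955 q2210, e3 q2705 (flp_d L104720) q2997, e3 q2706 L61414 q3311, e3 q2707 (flp_d L45031) q2214, e3 q2708 (flp_d L61452) q3314, e3 q2709 (flp_d L61448) q3313, e3 q2710 L45063 q2216, e3 q2711 (flp_d L49431) q2969, e3 q2712 (flp_d L49438) q2970, e3 q2713 (flp_d L47837) q2813, e3 q2714 (flp_d L45181) q2220, e3 q2715 L110698 q3039, e3 q2716 (flp_d L110676) q3044, e3 q2717 (flp_d L45688) q2223, e3 q2718 (flp_d L62385) q3326, e3 q2719 L45711 q2481, e3 q2720 L45720 q2720, e3 q2721 L45726 q2225, e3 q2722 (flp_d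 L99035) q3064, e3 q2723 L45808 q2227, e3 q2724 L45816 q2724, e3 q2725 L45822 q2725, e3 q2726 L45831 q2726, e3 q2727 (flp_d L99016) q3080, e3 q2728 L98223 q3081, e3 q2729 L45981 q2729, e3 q2730 L45986 q2730, e3 q2731 L45992 q2731, e3 q2732 L62808 q3343, e3 q2733 L47179 q2733, e3 q2734 L47190 q2734, e3 q2735 L64453 q3349, e3 q2736 L47205 q2736, e3 q2737 L47211 q2238, e3 q2738 L47221 q2254, e3 q2739 L47227 q2255, e3 q2740 (flp_d L121030) q2659, e3 q2741 L47244 q2741, e3 q2742 L64534 q3357, e3 q2743 (flp_d L47254) q2240, e3 q2744 (flp_d L64563) q3360, e3 q2745 L47273 q2745, e3 q2746 L64582 q3362, e3 q2747 L47291 q2263, e3 q2748 L47297 q2264, e3 q2749 L47305 q2749, e3 q2750 L64615 q3366, e3 q2751 (flp_d L47316) q2246, trivial⟩ (by decide +kernel)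

theorem ce_d_43 : ∀ r, r < 64 → sm gd (Qf (2752 + r)) = Qf (tab Gen.d (2752 + r)) :=
  edges_tab (sm gd) Qf (tab Gen.d) 2752 [(2752, 3369), (2753, 2269), (2754, 2754), (2755, 3373), (2756, 3375), (2757, 2757), (2758, 3379), (2759, 2251), (2760, 3382), (2761, 2761), (2762, 3385), (2763, 3353), (2764, 3354), (2765, 2256), (2766, 3388), (2767, 3392), (2768, 3394), (2769, 2258), (2770, 3397), (2771, 2377), (2772, 2260), (2773, 2773), (2774, 3402), (2775, 2262), (2776, 3405), (2777, 3364), (2778, 3406), (2779, 2266), (2780, 3409), (2781, 2297), (2782, 2268), (2783, 3413), (2784, 2784), (2785, 3417), (2786, 2271), (2787, 3421), (2788, 2272), (2789, 3422), (2790, 3426), (2791, 3428), (2792, 2274), (2793, 3431), (2794, 2425), (2795, 2276), (2796, 2311), (2797, 3436), (2798, 2278), (2799, 3439), (2800, 2800), (2801, 2282), (2802, 3442), (2803, 3440), (2804, 3445), (2805, 2283), (2806, 3449), (2807, 2284), (2808, 3451), (2809, 3448), (2810, 2286), (2811, 2442), (2812, 2443), (2813, 2713), (2814,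 2408), (2815, 2290)]
    ⟨e3 q2752 (flp_d L64639) q3369, e3 q2753 L47332 q2269, e3 q2754 L47344 q2754, e3 q2755 L64672 q3373, e3 q2756 L64691 q3375, e3 q2757 L47372 q2757, e3 q2758 L64730 q3379, e3 q2759 (flp_d L47384) q2251, e3 q2760 (flp_d L64759) q3382, e3 q2761 L47405 q2761, e3 q2762 L64780 q3385, e3 q2763 (flp_d L64492) q3353, e3 q2764 (flp_d L64498) q3354, e3 q2765 (flp_d L47433) q2256, e3 q2766 (flp_d L64811) q3388, e3 q2767 L64845 q3392, e3 q2768 L64863 q3394, e3 q2769 (flp_d L47472) q2258, e3 q2770 (flp_d L64891) q3397, e3 q2771 L47495 q2377, e3 q2772 L47501 q2260, e3 q2773 L47508 q2773, e3 q2774 L64928 q3402, e3 q2775 (flp_d L47522) q2262, e3 q2776 (flp_d L64954) q3405, e3 q2777 (flp_d L64602) q3364, e3 q2778 L64958 q3406, e3 q2779 (flp_d L47557) q2266, e3 q2780 (flp_d L64985) q3409, e3 q2781 L47577 q2297, e3 q2782 L47581 q2268, e3 q2783 L65011 q3413, e3 q2784 L47597 q2784, e3 q2785 L65043 q3417, e3 q2786 (flp_d L47607) q2271, e3 q2787 (flp_d L65075) q3421, e3 q2788 (flp_d L47622)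 q2272, e3 q2789 (flp_d L65084) q3422, e3 q2790 L65119 q3426, e3 q2791 L65137 q3428, e3 q2792 (flp_d L47662) q2274, e3 q2793 (flp_d L65168) q3431, e3 q2794 L47687 q2425, e3 q2795 L47694 q2276, e3 q2796 L47701 q2311, e3 q2797 L65208 q3436, e3 q2798 (flp_d L47716) q2278, e3 q2799 (flp_d L65240) q3439, e3 q2800 L47739 q2800, e3 q2801 L47749 q2282, e3 q2802 L65262 q3442, e3 q2803 (flp_d L65249) q3440, e3 q2804 L65286 q3445, e3 q2805 (flp_d L47778) q2283, e3 q2806 (flp_d L65312) q3449, e3 q2807 (flp_d L47792) q2284, e3 q2808 (flp_d L65325) q3451, e3 q2809 (flp_d L65308) q3448, e3 q2810 L47815 q2286, e3 q2811 L47822 q2442, e3 q2812 L47828 q2443, e3 q2813 L47837 q2713, e3 q2814 (flp_d L102286) q2408, e3 q2815 (flp_d L47849) q2290, trivial⟩ (by decide +kernel)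

theorem ce_d_44 : ∀ r, r < 64 → sm gd (Qf (2816 + r)) = Qf (tab Gen.d (2816 + r)) :=
  edges_tab (sm gd) Qf (tab Gen.d) 2816 [(2816, 3460), (2817, 3447), (2818, 2292), (2819, 2412), (2820, 3408), (2821, 2296), (2822, 3410), (2823, 3411), (2824, 2299), (2825, 3468), (2826, 3472), (2827, 3473), (2828, 2301), (2829, 3476), (2830, 3025), (2831, 2303), (2832, 2305), (2833, 3480), (2834, 3478), (2835, 3482), (2836, 2306), (2837, 2307), (2838, 3484), (2839, 2309), (2840, 2312), (2841, 3483), (2842, 2316), (2843, 3491), (2844, 2315), (2845, 3495), (2846, 2317), (2847, 2323), (2848, 2320), (2849, 3497), (2850, 3489), (2851, 3496), (2852, 3498), (2853, 2853), (2854, 2854), (2855, 2513), (2856, 2514), (2857, 3507), (2858, 2858), (2859, 2329), (2860, 2345), (2861, 2346), (2862, 2610), (2863, 2606), (2864, 2331), (2865, 3516), (2866, 2866), (2867, 3519), (2868, 2354), (2869, 2355), (2870, 2870), (2871, 3523), (2872, 2337), (2873, 3526), (2874, 2359), (2875, 2517), (2876, 3530), (2877, 3532), (2878,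 2520), (2879, 3536)]
    ⟨e3 q2816 (flp_d L65402) q3460, e3 q2817 (flp_d L65304) q3447, e3 q2818 L47879 q2292, e3 q2819 (flp_d L86961) q2412, e3 q2820 (flp_d L64981) q3408, e3 q2821 L47910 q2296, e3 q2822 (flp_d L64991) q3410, e3 q2823 (flp_d L65000) q3411, e3 q2824 (flp_d L47938) q2299, e3 q2825 (flp_d L65517) q3468, e3 q2826 L65550 q3472, e3 q2827 L65568 q3473, e3 q2828 (flp_d L47975) q2301, e3 q2829 (flp_d L65608) q3476, e3 q2830 (flp_d L50079) q3025, e3 q2831 L48005 q2303, e3 q2832 L48014 q2305, e3 q2833 L65649 q3480, e3 q2834 (flp_d L65636) q3478, e3 q2835 L65678 q3482, e3 q2836 (flp_d L48048) q2306, e3 q2837 (flp_d L48066) q2307, e3 q2838 (flp_d L65708) q3484, e3 q2839 L48100 q2309, e3 q2840 (flp_d L48125) q2312, e3 q2841 (flp_d L65702) q3483, e3 q2842 L48161 q2316, e3 q2843 L65832 q3491, e3 q2844 (flp_d L48173) q2315, e3 q2845 (flp_d L65863) q3495, e3 q2846 (flp_d L48199) q2317, e3 q2847 L48219 q2323, e3 q2848 L48224 q2320, e3 q2849 (flp_d L65898) q3497, e3 q2850 (flp_d L90409) q3489,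 e3 q2851 (flp_d L65891) q3496, e3 q2852 (flp_d L65909) q3498, e3 q2853 L48348 q2853, e3 q2854 L48369 q2854, e3 q2855 L48390 q2513, e3 q2856 L48404 q2514, e3 q2857 L66177 q3507, e3 q2858 L48422 q2858, e3 q2859 L48430 q2329, e3 q2860 L48442 q2345, e3 q2861 L48450 q2346, e3 q2862 L117177 q2610, e3 q2863 (flp_d L119478) q2606, e3 q2864 (flp_d L48478) q2331, e3 q2865 (flp_d L66299) q3516, e3 q2866 L48498 q2866, e3 q2867 L66318 q3519, e3 q2868 L48516 q2354, e3 q2869 L48522 q2355, e3 q2870 L48532 q2870, e3 q2871 L66353 q3523, e3 q2872 (flp_d L48545) q2337, e3 q2873 (flp_d L66385) q3526, e3 q2874 L48567 q2359, e3 q2875 L48581 q2517, e3 q2876 L66425 q3530, e3 q2877 L66447 q3532, e3 q2878 L48612 q2520, e3 q2879 L66487 q3536, trivial⟩ (by decide +kernel)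

theorem ce_d_45 : ∀ r, r < 64 → sm gd (Qf (2880 + r)) = Qf (tab Gen.d (2880 + r)) :=
  edges_tab (sm gd) Qf (tab Gen.d) 2880 [(2880, 2342), (2881, 3539), (2882, 2882), (2883, 3541), (2884, 3511), (2885, 3512), (2886, 2347), (2887, 2560), (2888, 3546), (2889, 2559), (2890, 2349), (2891, 3550), (2892, 2690), (2893, 2351), (2894, 3554), (2895, 2353), (2896, 3557), (2897, 3521), (2898, 2356), (2899, 3558), (2900, 2384), (2901, 2358), (2902, 3562), (2903, 2529), (2904, 3566), (2905, 2361), (2906, 3570), (2907, 2362), (2908, 3571), (2909, 3575), (2910, 3577), (2911, 2364), (2912, 3580), (2913, 3381), (2914, 2366), (2915, 2915), (2916, 3585), (2917, 2368), (2918, 3588), (2919, 2919), (2920, 2372), (2921, 3591), (2922, 3589), (2923, 3594), (2924, 2373), (2925, 3598), (2926, 2374), (2927, 3600), (2928, 3597), (2929, 2376), (2930, 3398), (2931, 3399), (2932, 3553), (2933, 3559), (2934, 2380), (2935, 3609), (2936, 3596), (2937, 2382), (2938, 3560), (2939, 2386), (2940, 2448), (2941, 2449), (2942,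 3561), (2943, 3617)]
    ⟨e3 q2880 (flp_d L48625) q2342, e3 q2881 (flp_d L66518) q3539, e3 q2882 L48649 q2882, e3 q2883 L66543 q3541, e3 q2884 (flp_d L66223) q3511, e3 q2885 (flp_d L66231) q3512, e3 q2886 (flp_d L48683) q2347, e3 q2887 (flp_d L119465) q2560, e3 q2888 L66616 q3546, e3 q2889 L119622 q2559, e3 q2890 (flp_d L48723) q2349, e3 q2891 (flp_d L66664) q3550, e3 q2892 L48748 q2690, e3 q2893 L48754 q2351, e3 q2894 L66703 q3554, e3 q2895 (flp_d L48775) q2353, e3 q2896 (flp_d L66729) q3557, e3 q2897 (flp_d L66338) q3521, e3 q2898 (flp_d L48812) q2356, e3 q2899 (flp_d L66768) q3558, e3 q2900 (flp_d L104018) q2384, e3 q2901 L48844 q2358, e3 q2902 L66798 q3562, e3 q2903 L48860 q2529, e3 q2904 L66831 q3566, e3 q2905 (flp_d L48871) q2361, e3 q2906 (flp_d L66872) q3570, e3 q2907 (flp_d L48887) q2362, e3 q2908 (flp_d L66880) q3571, e3 q2909 L66908 q3575, e3 q2910 L66920 q3577, e3 q2911 (flp_d L48919) q2364, e3 q2912 (flp_d L66951) q3580, e3 q2913 (flp_d L64753) q3381, e3 q2914 L48949 q2366,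 e3 q2915 L48956 q2915, e3 q2916 L66985 q3585, e3 q2917 (flp_d L48966) q2368, e3 q2918 (flp_d L67011) q3588, e3 q2919 L48982 q2919, e3 q2920 L48991 q2372, e3 q2921 L67030 q3591, e3 q2922 (flp_d L67019) q3589, e3 q2923 L67052 q3594, e3 q2924 (flp_d L49019) q2373, e3 q2925 (flp_d L67082) q3598, e3 q2926 (flp_d L49031) q2374, e3 q2927 (flp_d L67098) q3600, e3 q2928 (flp_d L67076) q3597, e3 q2929 L49062 q2376, e3 q2930 (flp_d L64899) q3398, e3 q2931 (flp_d L64906) q3399, e3 q2932 (flp_d L66690) q3553, e3 q2933 (flp_d L93018) q3559, e3 q2934 (flp_d L49096) q2380, e3 q2935 (flp_d L67177) q3609, e3 q2936 (flp_d L67070) q3596, e3 q2937 L49120 q2382, e3 q2938 (flp_d L104007) q3560, e3 q2939 L49145 q2386, e3 q2940 L49152 q2448, e3 q2941 L49160 q2449, e3 q2942 (flp_d L66795) q3561, e3 q2943 L67259 q3617, trivial⟩ (by decide +kernel)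

theorem ce_d_46 : ∀ r, r < 64 → sm gd (Qf (2944 + r)) = Qf (tab Gen.d (2944 + r)) :=
  edges_tab (sm gd) Qf (tab Gen.d) 2944 [(2944, 2551), (2945, 3621), (2946, 2390), (2947, 3625), (2948, 2391), (2949, 3626), (2950, 3629), (2951, 3631), (2952, 2393), (2953, 3634), (2954, 2703), (2955, 2395), (2956, 3435), (2957, 2397), (2958, 3640), (2959, 2959), (2960, 2401), (2961, 3641), (2962, 3643), (2963, 2402), (2964, 3647), (2965, 2403), (2966, 3648), (2967, 3646), (2968, 2405), (2969, 2711), (2970, 2712), (2971, 2444), (2972, 3458), (2973, 3645), (2974, 2410), (2975, 2414), (2976, 3657), (2977, 3661), (2978, 3663), (2979, 2416), (2980, 3667), (2981, 3300), (2982, 3420), (2983, 2418), (2984, 2420), (2985, 3675), (2986, 3673), (2987, 3677), (2988, 2421), (2989, 3681), (2990, 2422), (2991, 3683), (2992, 3680), (2993, 2424), (2994, 3432), (2995, 3433), (2996, 3637), (2997, 2705), (2998, 3679), (2999, 2430), (3000, 2434), (3001, 3694), (3002, 2433), (3003, 3698), (3004, 2435), (3005, 3700), (3006,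 2446), (3007, 2440)]
    ⟨e3 q2944 L49183 q2551, e3 q2945 L67298 q3621, e3 q2946 (flp_d L49196) q2390, e3 q2947 (flp_d L67337) q3625, e3 q2948 (flp_d L49214) q2391, e3 q2949 (flp_d L67346) q3626, e3 q2950 L67383 q3629, e3 q2951 L67401 q3631, e3 q2952 (flp_d L49255) q2393, e3 q2953 (flp_d L67434) q3634, e3 q2954 L49282 q2703, e3 q2955 L49289 q2395, e3 q2956 (flp_d L104622) q3435, e3 q2957 (flp_d L49315) q2397, e3 q2958 (flp_d L67516) q3640, e3 q2959 L49344 q2959, e3 q2960 L49354 q2401, e3 q2961 L67539 q3641, e3 q2962 L67564 q3643, e3 q2963 (flp_d L49385) q2402, e3 q2964 (flp_d L67590) q3647, e3 q2965 (flp_d L49399) q2403, e3 q2966 (flp_d L67604) q3648, e3 q2967 (flp_d L67586) q3646, e3 q2968 L49424 q2405, e3 q2969 L49431 q2711, e3 q2970 L49438 q2712, e3 q2971 L49447 q2444, e3 q2972 (flp_d L109025) q3458, e3 q2973 (flp_d L67582) q3645, e3 q2974 L49490 q2410, e3 q2975 (flp_d L49561) q2414, e3 q2976 (flp_d L67811) q3657, e3 q2977 L67834 q3661, e3 q2978 L67844 q3663, e3 q2979 (flp_d L49586) q2416,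 e3 q2980 (flp_d L67878) q3667, e3 q2981 (flp_d L61232) q3300, e3 q2982 (flp_d L65069) q3420, e3 q2983 L49618 q2418, e3 q2984 L49627 q2420, e3 q2985 L67936 q3675, e3 q2986 (flp_d L67924) q3673, e3 q2987 L67959 q3677, e3 q2988 (flp_d L49656) q2421, e3 q2989 (flp_d L67991) q3681, e3 q2990 (flp_d L49668) q2422, e3 q2991 (flp_d L68009) q3683, e3 q2992 (flp_d L67985) q3680, e3 q2993 L49702 q2424, e3 q2994 (flp_d L65177) q3432, e3 q2995 (flp_d L65185) q3433, e3 q2996 (flp_d L67463) q3637, e3 q2997 L104720 q2705, e3 q2998 (flp_d L67979) q3679, e3 q2999 L49769 q2430, e3 q3000 L49777 q2434, e3 q3001 L68140 q3694, e3 q3002 (flp_d L49787) q2433, e3 q3003 (flp_d L68168) q3698, e3 q3004 (flp_d L49804) q2435, e3 q3005 (flp_d L68195) q3700, e3 q3006 L49818 q2446, e3 q3007 L49822 q2440, trivial⟩ (by decide +kernel)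

theorem ce_d_47 : ∀ r, r < 64 → sm gd (Qf (3008 + r)) = Qf (tab Gen.d (3008 + r)) :=
  edges_tab (sm gd) Qf (tab Gen.d) 3008 [(3008, 2437), (3009, 3699), (3010, 2439), (3011, 3704), (3012, 3705), (3013, 3651), (3014, 3455), (3015, 3456), (3016, 3715), (3017, 3701), (3018, 3703), (3019, 3614), (3020, 3615), (3021, 2450), (3022, 3720), (3023, 3722), (3024, 2452), (3025, 2830), (3026, 2454), (3027, 2456), (3028, 3727), (3029, 2457), (3030, 3729), (3031, 3490), (3032, 2461), (3033, 3732), (3034, 2463), (3035, 3321), (3036, 2465), (3037, 3736), (3038, 2466), (3039, 2715), (3040, 2468), (3041, 3741), (3042, 2470), (3043, 3742), (3044, 2716), (3045, 3696), (3046, 2473), (3047, 2475), (3048, 3746), (3049, 2477), (3050, 3749), (3051, 2478), (3052, 3752), (3053, 3324), (3054, 3748), (3055, 2480), (3056, 3758), (3057, 3328), (3058, 3058), (3059, 3059), (3060, 3060), (3061, 2493), (3062, 2488), (3063, 2485), (3064, 2722), (3065, 2487), (3066, 3768), (3067, 3769), (3068, 3068), (3069, 3069), (3070,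 3070), (3071, 3779)]
    ⟨e3 q3008 L49826 q2437, e3 q3009 (flp_d L68191) q3699, e3 q3010 L49840 q2439, e3 q3011 (flp_d L68217) q3704, e3 q3012 (flp_d L68221) q3705, e3 q3013 (flp_d L67626) q3651, e3 q3014 (flp_d L65352) q3455, e3 q3015 (flp_d L65359) q3456, e3 q3016 L68290 q3715, e3 q3017 (flp_d L68201) q3701, e3 q3018 (flp_d L68213) q3703, e3 q3019 (flp_d L67242) q3614, e3 q3020 (flp_d L67250) q3615, e3 q3021 (flp_d L50007) q2450, e3 q3022 (flp_d L68463) q3720, e3 q3023 L68502 q3722, e3 q3024 (flp_d L50051) q2452, e3 q3025 L50079 q2830, e3 q3026 L50097 q2454, e3 q3027 L50106 q2456, e3 q3028 L68634 q3727, e3 q3029 (flp_d L50142) q2457, e3 q3030 (flp_d L68694) q3729, e3 q3031 (flp_d L84871) q3490, e3 q3032 (flp_d L50288) q2461, e3 q3033 (flp_d L68882) q3732, e3 q3034 L50340 q2463, e3 q3035 (flp_d L61646) q3321, e3 q3036 L50547 q2465, e3 q3037 L69212 q3736, e3 q3038 (flp_d L50574) q2466, e3 q3039 (flp_d L110698) q2715, e3 q3040 (flp_d L50611) q2468, e3 q3041 (flp_d L69307) q3741, e3 q3042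 L50656 q2470, e3 q3043 (flp_d L69346) q3742, e3 q3044 L110676 q2716, e3 q3045 (flp_d L68158) q3696, e3 q3046 L50750 q2473, e3 q3047 L50784 q2475, e3 q3048 (flp_d L69525) q3746, e3 q3049 (flp_d L50951) q2477, e3 q3050 (flp_d L69747) q3749, e3 q3051 (flp_d L50967) q2478, e3 q3052 (flp_d L69772) q3752, e3 q3053 (flp_d L62372) q3324, e3 q3054 (flp_d L69740) q3748, e3 q3055 L51005 q2480, e3 q3056 L69817 q3758, e3 q3057 (flp_d L62401) q3328, e3 q3058 L51028 q3058, e3 q3059 L51036 q3059, e3 q3060 L51046 q3060, e3 q3061 L51083 q2493, e3 q3062 L51090 q2488, e3 q3063 L51096 q2485, e3 q3064 L99035 q2722, e3 q3065 L51111 q2487, e3 q3066 (flp_d L69943) q3768, e3 q3067 (flp_d L69951) q3769, e3 q3068 L51136 q3068, e3 q3069 L51143 q3069, e3 q3070 L51151 q3070, e3 q3071 L70027 q3779, trivial⟩ (by decide +kernel)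

theorem ce_d_48 : ∀ r, r < 64 → sm gd (Qf (3072 + r)) = Qf (tab Gen.d (3072 + r)) :=
  edges_tab (sm gd) Qf (tab Gen.d) 3072 [(3072, 3765), (3073, 3767), (3074, 2506), (3075, 3702), (3076, 2507), (3077, 2500), (3078, 2501), (3079, 3079), (3080, 2727), (3081, 2728), (3082, 3082), (3083, 3788), (3084, 3789), (3085, 3796), (3086, 3086), (3087, 3798), (3088, 2505), (3089, 3782), (3090, 3784), (3091, 3091), (3092, 3092), (3093, 3093), (3094, 3503), (3095, 3801), (3096, 2515), (3097, 2674), (3098, 3803), (3099, 3528), (3100, 3804), (3101, 2518), (3102, 3807), (3103, 2519), (3104, 2521), (3105, 3105), (3106, 2523), (3107, 3107), (3108, 3108), (3109, 2549), (3110, 2528), (3111, 3813), (3112, 3815), (3113, 3816), (3114, 2530), (3115, 3819), (3116, 3116), (3117, 3117), (3118, 2532), (3119, 2534), (3120, 3826), (3121, 2535), (3122, 2536), (3123, 3828), (3124, 2538), (3125, 3125), (3126, 3126), (3127, 3810), (3128, 2589), (3129, 2542), (3130, 3709), (3131, 2545), (3132, 2588), (3133, 3837), (3134,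 2586), (3135, 2582)]
    ⟨e3 q3072 (flp_d L69919) q3765, e3 q3073 (flp_d L69936) q3767, e3 q3074 L51258 q2506, e3 q3075 (flp_d L68207) q3702, e3 q3076 L51272 q2507, e3 q3077 L51278 q2500, e3 q3078 L51285 q2501, e3 q3079 L51293 q3079, e3 q3080 L99016 q2727, e3 q3081 (flp_d L98223) q2728, e3 q3082 L51314 q3082, e3 q3083 (flp_d L70215) q3788, e3 q3084 (flp_d L70222) q3789, e3 q3085 L70272 q3796, e3 q3086 L51341 q3086, e3 q3087 L70286 q3798, e3 q3088 (flp_d L51352) q2505, e3 q3089 (flp_d L70176) q3782, e3 q3090 (flp_d L70191) q3784, e3 q3091 L51491 q3091, e3 q3092 L51554 q3092, e3 q3093 L51865 q3093, e3 q3094 (flp_d L66139) q3503, e3 q3095 L71195 q3801, e3 q3096 (flp_d L52074) q2515, e3 q3097 (flp_d L118477) q2674, e3 q3098 L71498 q3803, e3 q3099 (flp_d L66410) q3528, e3 q3100 L71538 q3804, e3 q3101 (flp_d L52288) q2518, e3 q3102 (flp_d L71577) q3807, e3 q3103 (flp_d L52306) q2519, e3 q3104 (flp_d L52342) q2521, e3 q3105 L52363 q3105, e3 q3106 L52368 q2523, e3 q3107 L52502 q3107, e3 q3108 L52507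 q3108, e3 q3109 L52516 q2549, e3 q3110 (flp_d L52608) q2528, e3 q3111 (flp_d L71988) q3813, e3 q3112 L72017 q3815, e3 q3113 L72034 q3816, e3 q3114 (flp_d L52644) q2530, e3 q3115 (flp_d L72073) q3819, e3 q3116 L52667 q3116, e3 q3117 L52675 q3117, e3 q3118 L52682 q2532, e3 q3119 L52690 q2534, e3 q3120 L72133 q3826, e3 q3121 (flp_d L52716) q2535, e3 q3122 (flp_d L52730) q2536, e3 q3123 (flp_d L72183) q3828, e3 q3124 L52757 q2538, e3 q3125 L52766 q3125, e3 q3126 L52772 q3126, e3 q3127 (flp_d L71679) q3810, e3 q3128 (flp_d L119547) q2589, e3 q3129 (flp_d L52840) q2542, e3 q3130 (flp_d L119571) q3709, e3 q3131 L52889 q2545, e3 q3132 (flp_d L118163) q2588, e3 q3133 (flp_d L72420) q3837, e3 q3134 (flp_d L118168) q2586, e3 q3135 (flp_d L119552) q2582, trivial⟩ (by decide +kernel)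

theorem ce_d_49 : ∀ r, r < 64 → sm gd (Qf (3136 + r)) = Qf (tab Gen.d (3136 + r)) :=
  edges_tab (sm gd) Qf (tab Gen.d) 3136 [(3136, 3136), (3137, 3137), (3138, 3844), (3139, 2550), (3140, 2552), (3141, 3141), (3142, 3142), (3143, 2554), (3144, 3535), (3145, 3533), (3146, 3146), (3147, 3147), (3148, 2581), (3149, 3548), (3150, 3500), (3151, 3151), (3152, 3152), (3153, 3861), (3154, 3154), (3155, 2565), (3156, 3865), (3157, 2566), (3158, 2567), (3159, 3159), (3160, 3868), (3161, 2569), (3162, 3876), (3163, 3163), (3164, 3164), (3165, 3165), (3166, 3853), (3167, 3832), (3168, 2574), (3169, 3885), (3170, 2577), (3171, 3831), (3172, 3886), (3173, 3829), (3174, 3825), (3175, 3175), (3176, 3176), (3177, 3893), (3178, 3603), (3179, 3697), (3180, 2584), (3181, 2587), (3182, 3840), (3183, 3896), (3184, 3838), (3185, 3900), (3186, 3186), (3187, 3902), (3188, 2592), (3189, 3189), (3190, 2594), (3191, 3907), (3192, 2595), (3193, 2596), (3194, 3194), (3195, 3910), (3196, 3915), (3197, 3197), (3198,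 3506), (3199, 2601)]
    ⟨e3 q3136 L52941 q3136, e3 q3137 L52948 q3137, e3 q3138 L72498 q3844, e3 q3139 (flp_d L53030) q2550, e3 q3140 (flp_d L53062) q2552, e3 q3141 L53081 q3141, e3 q3142 L53087 q3142, e3 q3143 L53092 q2554, e3 q3144 (flp_d L118223) q3535, e3 q3145 (flp_d L118229) q3533, e3 q3146 L53186 q3146, e3 q3147 L53192 q3147, e3 q3148 L53202 q2581, e3 q3149 (flp_d L119629) q3548, e3 q3150 (flp_d L118316) q3500, e3 q3151 L53348 q3151, e3 q3152 L53353 q3152, e3 q3153 L73053 q3861, e3 q3154 L53473 q3154, e3 q3155 L53478 q2565, e3 q3156 L73204 q3865, e3 q3157 (flp_d L53501) q2566, e3 q3158 (flp_d L53514) q2567, e3 q3159 L53535 q3159, e3 q3160 (flp_d L73249) q3868, e3 q3161 L53544 q2569, e3 q3162 L73314 q3876, e3 q3163 L53561 q3163, e3 q3164 L53567 q3164, e3 q3165 L53572 q3165, e3 q3166 (flp_d L72689) q3853, e3 q3167 (flp_d L118344) q3832, e3 q3168 (flp_d L53598) q2574, e3 q3169 (flp_d L73409) q3885, e3 q3170 L53645 q2577, e3 q3171 (flp_d L118355) q3831, e3 q3172 (flp_d L73453) q3886,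 e3 q3173 (flp_d L118178) q3829, e3 q3174 (flp_d L119557) q3825, e3 q3175 L53704 q3175, e3 q3176 L53712 q3176, e3 q3177 L73541 q3893, e3 q3178 (flp_d L117882) q3603, e3 q3179 (flp_d L68164) q3697, e3 q3180 L53768 q2584, e3 q3181 L53802 q2587, e3 q3182 (flp_d L117897) q3840, e3 q3183 (flp_d L73635) q3896, e3 q3184 (flp_d L118158) q3838, e3 q3185 L73689 q3900, e3 q3186 L53860 q3186, e3 q3187 L73698 q3902, e3 q3188 (flp_d L53870) q2592, e3 q3189 L53880 q3189, e3 q3190 L53886 q2594, e3 q3191 L73740 q3907, e3 q3192 (flp_d L53918) q2595, e3 q3193 (flp_d L53925) q2596, e3 q3194 L53942 q3194, e3 q3195 (flp_d L73788) q3910, e3 q3196 L73823 q3915, e3 q3197 L53963 q3197, e3 q3198 (flp_d L119141) q3506, e3 q3199 (flp_d L53980) q2601, trivial⟩ (by decide +kernel)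

theorem ce_d_50 : ∀ r, r < 64 → sm gd (Qf (3200 + r)) = Qf (tab Gen.d (3200 + r)) :=
  edges_tab (sm gd) Qf (tab Gen.d) 3200 [(3200, 3919), (3201, 2604), (3202, 3505), (3203, 3920), (3204, 3514), (3205, 3731), (3206, 2608), (3207, 2611), (3208, 3208), (3209, 3925), (3210, 2615), (3211, 3211), (3212, 3212), (3213, 2677), (3214, 3214), (3215, 3215), (3216, 3921), (3217, 3217), (3218, 3218), (3219, 3219), (3220, 2623), (3221, 3938), (3222, 3222), (3223, 3223), (3224, 3224), (3225, 3225), (3226, 2627), (3227, 3945), (3228, 3947), (3229, 3951), (3230, 2653), (3231, 2654), (3232, 3954), (3233, 3233), (3234, 3234), (3235, 3235), (3236, 3236), (3237, 3237), (3238, 3960), (3239, 2656), (3240, 3962), (3241, 2639), (3242, 3242), (3243, 3243), (3244, 3966), (3245, 3245), (3246, 3968), (3247, 2645), (3248, 3355), (3249, 2647), (3250, 3903), (3251, 2650), (3252, 3252), (3253, 2651), (3254, 3971), (3255, 3973), (3256, 3978), (3257, 2652), (3258, 3952), (3259, 3981), (3260, 2655), (3261, 3346), (3262,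 2657), (3263, 3263)]
    ⟨e3 q3200 (flp_d L73898) q3919, e3 q3201 L54026 q2604, e3 q3202 (flp_d L119154) q3505, e3 q3203 (flp_d L73946) q3920, e3 q3204 (flp_d L117214) q3514, e3 q3205 (flp_d L68877) q3731, e3 q3206 L54117 q2608, e3 q3207 L54159 q2611, e3 q3208 L54235 q3208, e3 q3209 L74207 q3925, e3 q3210 L54247 q2615, e3 q3211 L54257 q3211, e3 q3212 L54263 q3212, e3 q3213 L54270 q2677, e3 q3214 L54279 q3214, e3 q3215 L54284 q3215, e3 q3216 (flp_d L106262) q3921, e3 q3217 L54296 q3217, e3 q3218 L54306 q3218, e3 q3219 L54314 q3219, e3 q3220 L54320 q2623, e3 q3221 L74314 q3938, e3 q3222 L54335 q3222, e3 q3223 L54343 q3223, e3 q3224 L54351 q3224, e3 q3225 L54361 q3225, e3 q3226 (flp_d L54362) q2627, e3 q3227 (flp_d L74370) q3945, e3 q3228 (flp_d L74384) q3947, e3 q3229 L74409 q3951, e3 q3230 L54393 q2653, e3 q3231 L54401 q2654, e3 q3232 L74432 q3954, e3 q3233 L54417 q3233, e3 q3234 L54423 q3234, e3 q3235 L54435 q3235, e3 q3236 L54440 q3236, e3 q3237 L54447 q3237, e3 q3238 L74482 q3960, e3 q3239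 L54462 q2656, e3 q3240 L74495 q3962, e3 q3241 (flp_d L54473) q2639, e3 q3242 L54484 q3242, e3 q3243 L54491 q3243, e3 q3244 L74526 q3966, e3 q3245 L54505 q3245, e3 q3246 L74540 q3968, e3 q3247 (flp_d L54517) q2645, e3 q3248 (flp_d L120898) q3355, e3 q3249 (flp_d L54528) q2647, e3 q3250 (flp_d L73707) q3903, e3 q3251 L54545 q2650, e3 q3252 L54553 q3252, e3 q3253 L54558 q2651, e3 q3254 (flp_d L74587) q3971, e3 q3255 (flp_d L74601) q3973, e3 q3256 L74638 q3978, e3 q3257 (flp_d L54590) q2652, e3 q3258 (flp_d L74420) q3952, e3 q3259 L74662 q3981, e3 q3260 (flp_d L54617) q2655, e3 q3261 (flp_d L121038) q3346, e3 q3262 (flp_d L54635) q2657, e3 q3263 L54649 q3263, trivial⟩ (by decide +kernel)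

theorem ce_d_51 : ∀ r, r < 64 → sm gd (Qf (3264 + r)) = Qf (tab Gen.d (3264 + r)) :=
  edges_tab (sm gd) Qf (tab Gen.d) 3264 [(3264, 3265), (3265, 3264), (3266, 3266), (3267, 2668), (3268, 3268), (3269, 2672), (3270, 3802), (3271, 3271), (3272, 3927), (3273, 3987), (3274, 3989), (3275, 2679), (3276, 3993), (3277, 2680), (3278, 3995), (3279, 2681), (3280, 3998), (3281, 3538), (3282, 2683), (3283, 2684), (3284, 4003), (3285, 4004), (3286, 2687), (3287, 4008), (3288, 4007), (3289, 2689), (3290, 3551), (3291, 3552), (3292, 3400), (3293, 4006), (3294, 2693), (3295, 3412), (3296, 2695), (3297, 4019), (3298, 2696), (3299, 4023), (3300, 2981), (3301, 3624), (3302, 2698), (3303, 4029), (3304, 2700), (3305, 4032), (3306, 4031), (3307, 2702), (3308, 3635), (3309, 3636), (3310, 3434), (3311, 2706), (3312, 4040), (3313, 2709), (3314, 2708), (3315, 4041), (3316, 4042), (3317, 3454), (3318, 3652), (3319, 3653), (3320, 4049), (3321, 3035), (3322, 3735), (3323, 3739), (3324, 3053), (3325, 3751), (3326,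 2718), (3327, 4057)]
    ⟨e3 q3264 (flp_d L112263) q3265, e3 q3265 L112263 q3264, e3 q3266 L59137 q3266, e3 q3267 L59152 q2668, e3 q3268 L59219 q3268, e3 q3269 (flp_d L59243) q2672, e3 q3270 (flp_d L118687) q3802, e3 q3271 L59621 q3271, e3 q3272 (flp_d L74225) q3927, e3 q3273 L121103 q3987, e3 q3274 L121120 q3989, e3 q3275 (flp_d L60871) q2679, e3 q3276 (flp_d L121162) q3993, e3 q3277 (flp_d L60888) q2680, e3 q3278 L121171 q3995, e3 q3279 (flp_d L60919) q2681, e3 q3280 (flp_d L121194) q3998, e3 q3281 (flp_d L66512) q3538, e3 q3282 L60947 q2683, e3 q3283 (flp_d L60968) q2684, e3 q3284 (flp_d L121231) q4003, e3 q3285 L121234 q4004, e3 q3286 (flp_d L61025) q2687, e3 q3287 (flp_d L121260) q4008, e3 q3288 (flp_d L121254) q4007, e3 q3289 L61066 q2689, e3 q3290 (flp_d L66672) q3551, e3 q3291 (flp_d L66680) q3552, e3 q3292 (flp_d L64916) q3400, e3 q3293 (flp_d L121248) q4006, e3 q3294 L61122 q2693, e3 q3295 (flp_d L65008) q3412, e3 q3296 (flp_d L61181) q2695, e3 q3297 L121331 q4019, e3 q3298 (flp_d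 L61211) q2696, e3 q3299 (flp_d L121361) q4023, e3 q3300 L61232 q2981, e3 q3301 (flp_d L67331) q3624, e3 q3302 L61244 q2698, e3 q3303 L121400 q4029, e3 q3304 (flp_d L61280) q2700, e3 q3305 (flp_d L121423) q4032, e3 q3306 (flp_d L121417) q4031, e3 q3307 L61324 q2702, e3 q3308 (flp_d L67443) q3635, e3 q3309 (flp_d L67452) q3636, e3 q3310 (flp_d L65196) q3434, e3 q3311 (flp_d L61414) q2706, e3 q3312 (flp_d L121484) q4040, e3 q3313 L61448 q2709, e3 q3314 L61452 q2708, e3 q3315 (flp_d L121488) q4041, e3 q3316 (flp_d L121492) q4042, e3 q3317 (flp_d L65346) q3454, e3 q3318 (flp_d L67633) q3652, e3 q3319 (flp_d L67641) q3653, e3 q3320 L121534 q4049, e3 q3321 L61646 q3035, e3 q3322 L120825 q3735, e3 q3323 L120882 q3739, e3 q3324 L62372 q3053, e3 q3325 L120789 q3751, e3 q3326 L62385 q2718, e3 q3327 L121589 q4057, trivial⟩ (by decide +kernel)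

theorem ce_d_52 : ∀ r, r < 64 → sm gd (Qf (3328 + r)) = Qf (tab Gen.d (3328 + r)) :=
  edges_tab (sm gd) Qf (tab Gen.d) 3328 [(3328, 3057), (3329, 3329), (3330, 3330), (3331, 3331), (3332, 3771), (3333, 3772), (3334, 3334), (3335, 3335), (3336, 3336), (3337, 4069), (3338, 3791), (3339, 3792), (3340, 4072), (3341, 3341), (3342, 4074), (3343, 2732), (3344, 3344), (3345, 4078), (3346, 3261), (3347, 3347), (3348, 4082), (3349, 2735), (3350, 4085), (3351, 3351), (3352, 4087), (3353, 2763), (3354, 2764), (3355, 3248), (3356, 4091), (3357, 2742), (3358, 4094), (3359, 3359), (3360, 2744), (3361, 4098), (3362, 2746), (3363, 4101), (3364, 2777), (3365, 4102), (3366, 2750), (3367, 4105), (3368, 3368), (3369, 2752), (3370, 4109), (3371, 3371), (3372, 4113), (3373, 2755), (3374, 4117), (3375, 2756), (3376, 4118), (3377, 4122), (3378, 4124), (3379, 2758), (3380, 4127), (3381, 2913), (3382, 2760), (3383, 3383), (3384, 4132), (3385, 2762), (3386, 4135), (3387, 4089), (3388, 2766), (3389, 4138), (3390,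 4136), (3391, 4141)]
    ⟨e3 q3328 L62401 q3057, e3 q3329 L62409 q3329, e3 q3330 L62416 q3330, e3 q3331 L62426 q3331, e3 q3332 L120805 q3771, e3 q3333 (flp_d L120769) q3772, e3 q3334 L62545 q3334, e3 q3335 L62551 q3335, e3 q3336 L62558 q3336, e3 q3337 L121679 q4069, e3 q3338 L120807 q3791, e3 q3339 (flp_d L120771) q3792, e3 q3340 L121702 q4072, e3 q3341 L62798 q3341, e3 q3342 L121714 q4074, e3 q3343 (flp_d L62808) q2732, e3 q3344 L64419 q3344, e3 q3345 L121745 q4078, e3 q3346 L121038 q3261, e3 q3347 L64442 q3347, e3 q3348 L121784 q4082, e3 q3349 (flp_d L64453) q2735, e3 q3350 (flp_d L121817) q4085, e3 q3351 L64474 q3351, e3 q3352 L121832 q4087, e3 q3353 L64492 q2763, e3 q3354 L64498 q2764, e3 q3355 L120898 q3248, e3 q3356 L121871 q4091, e3 q3357 (flp_d L64534) q2742, e3 q3358 (flp_d L121908) q4094, e3 q3359 L64557 q3359, e3 q3360 L64563 q2744, e3 q3361 L121936 q4098, e3 q3362 (flp_d L64582) q2746, e3 q3363 (flp_d L121976) q4101, e3 q3364 L64602 q2777, e3 q3365 L121981 q4102, e3 q3366 (flp_d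 L64615) q2750, e3 q3367 (flp_d L122009) q4105, e3 q3368 L64636 q3368, e3 q3369 L64639 q2752, e3 q3370 L122037 q4109, e3 q3371 L64660 q3371, e3 q3372 L122077 q4113, e3 q3373 (flp_d L64672) q2755, e3 q3374 (flp_d L122118) q4117, e3 q3375 (flp_d L64691) q2756, e3 q3376 (flp_d L122126) q4118, e3 q3377 L122160 q4122, e3 q3378 L122178 q4124, e3 q3379 (flp_d L64730) q2758, e3 q3380 (flp_d L122206) q4127, e3 q3381 L64753 q2913, e3 q3382 L64759 q2760, e3 q3383 L64766 q3383, e3 q3384 L122243 q4132, e3 q3385 (flp_d L64780) q2762, e3 q3386 (flp_d L122271) q4135, e3 q3387 (flp_d L121852) q4089, e3 q3388 L64811 q2766, e3 q3389 L122296 q4138, e3 q3390 (flp_d L122280) q4136, e3 q3391 L122325 q4141, trivial⟩ (by decide +kernel)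

theorem ce_d_53 : ∀ r, r < 64 → sm gd (Qf (3392 + r)) = Qf (tab Gen.d (3392 + r)) :=
  edges_tab (sm gd) Qf (tab Gen.d) 3392 [(3392, 2767), (3393, 4145), (3394, 2768), (3395, 4147), (3396, 4144), (3397, 2770), (3398, 2930), (3399, 2931), (3400, 3292), (3401, 4154), (3402, 2774), (3403, 4157), (3404, 4143), (3405, 2776), (3406, 2778), (3407, 4162), (3408, 2820), (3409, 2780), (3410, 2822), (3411, 2823), (3412, 3295), (3413, 2783), (3414, 4170), (3415, 4174), (3416, 4176), (3417, 2785), (3418, 4180), (3419, 3623), (3420, 2982), (3421, 2787), (3422, 2789), (3423, 4188), (3424, 4186), (3425, 4191), (3426, 2790), (3427, 4195), (3428, 2791), (3429, 4197), (3430, 4194), (3431, 2793), (3432, 2994), (3433, 2995), (3434, 3310), (3435, 2956), (3436, 2797), (3437, 4206), (3438, 4193), (3439, 2799), (3440, 2803), (3441, 4211), (3442, 2802), (3443, 4215), (3444, 4216), (3445, 2804), (3446, 4220), (3447, 2817), (3448, 2809), (3449, 2806), (3450, 4219), (3451, 2808), (3452, 4224), (3453, 4225), (3454,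 3317), (3455, 3014)]
    ⟨e3 q3392 (flp_d L64845) q2767, e3 q3393 (flp_d L122359) q4145, e3 q3394 (flp_d L64863) q2768, e3 q3395 (flp_d L122378) q4147, e3 q3396 (flp_d L122353) q4144, e3 q3397 L64891 q2770, e3 q3398 L64899 q2930, e3 q3399 L64906 q2931, e3 q3400 L64916 q3292, e3 q3401 L122429 q4154, e3 q3402 (flp_d L64928) q2774, e3 q3403 (flp_d L122460) q4157, e3 q3404 (flp_d L122347) q4143, e3 q3405 L64954 q2776, e3 q3406 (flp_d L64958) q2778, e3 q3407 (flp_d L122500) q4162, e3 q3408 L64981 q2820, e3 q3409 L64985 q2780, e3 q3410 L64991 q2822, e3 q3411 L65000 q2823, e3 q3412 L65008 q3295, e3 q3413 (flp_d L65011) q2783, e3 q3414 (flp_d L122569) q4170, e3 q3415 L122598 q4174, e3 q3416 L122614 q4176, e3 q3417 (flp_d L65043) q2785, e3 q3418 (flp_d L122646) q4180, e3 q3419 (flp_d L67322) q3623, e3 q3420 L65069 q2982, e3 q3421 L65075 q2787, e3 q3422 L65084 q2789, e3 q3423 L122708 q4188, e3 q3424 (flp_d L122693) q4186, e3 q3425 L122738 q4191, e3 q3426 (flp_d L65119) q2790, e3 q3427 (flp_d L122774)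 q4195, e3 q3428 (flp_d L65137) q2791, e3 q3429 (flp_d L122791) q4197, e3 q3430 (flp_d L122768) q4194, e3 q3431 L65168 q2793, e3 q3432 L65177 q2994, e3 q3433 L65185 q2995, e3 q3434 L65196 q3310, e3 q3435 L104622 q2956, e3 q3436 (flp_d L65208) q2797, e3 q3437 (flp_d L122878) q4206, e3 q3438 (flp_d L122762) q4193, e3 q3439 L65240 q2799, e3 q3440 L65249 q2803, e3 q3441 L122923 q4211, e3 q3442 (flp_d L65262) q2802, e3 q3443 (flp_d L122953) q4215, e3 q3444 L122957 q4216, e3 q3445 (flp_d L65286) q2804, e3 q3446 (flp_d L122992) q4220, e3 q3447 L65304 q2817, e3 q3448 L65308 q2809, e3 q3449 L65312 q2806, e3 q3450 (flp_d L122988) q4219, e3 q3451 L65325 q2808, e3 q3452 (flp_d L123017) q4224, e3 q3453 (flp_d L123023) q4225, e3 q3454 L65346 q3317, e3 q3455 L65352 q3014, trivial⟩ (by decide +kernel)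

theorem ce_d_54 : ∀ r, r < 64 → sm gd (Qf (3456 + r)) = Qf (tab Gen.d (3456 + r)) :=
  edges_tab (sm gd) Qf (tab Gen.d) 3456 [(3456, 3015), (3457, 4235), (3458, 2972), (3459, 4218), (3460, 2816), (3461, 4221), (3462, 4223), (3463, 4163), (3464, 4164), (3465, 4166), (3466, 4167), (3467, 3719), (3468, 2825), (3469, 4247), (3470, 4245), (3471, 4249), (3472, 2826), (3473, 2827), (3474, 3723), (3475, 4251), (3476, 2829), (3477, 3725), (3478, 2834), (3479, 4259), (3480, 2833), (3481, 4263), (3482, 2835), (3483, 2841), (3484, 2838), (3485, 4265), (3486, 4257), (3487, 4264), (3488, 4266), (3489, 2850), (3490, 3031), (3491, 2843), (3492, 4274), (3493, 4213), (3494, 3494), (3495, 2845), (3496, 2851), (3497, 2849), (3498, 2852), (3499, 3499), (3500, 3150), (3501, 4279), (3502, 3502), (3503, 3094), (3504, 4283), (3505, 3202), (3506, 3198), (3507, 2857), (3508, 4288), (3509, 3509), (3510, 4290), (3511, 2884), (3512, 2885), (3513, 4270), (3514, 3204), (3515, 3515), (3516, 2865), (3517, 3517), (3518,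 4296), (3519, 2867)]
    ⟨e3 q3456 L65359 q3015, e3 q3457 L123089 q4235, e3 q3458 L109025 q2972, e3 q3459 (flp_d L122982) q4218, e3 q3460 L65402 q2816, e3 q3461 (flp_d L122998) q4221, e3 q3462 (flp_d L123011) q4223, e3 q3463 (flp_d L122508) q4163, e3 q3464 (flp_d L122521) q4164, e3 q3465 (flp_d L122536) q4166, e3 q3466 (flp_d L122545) q4167, e3 q3467 (flp_d L68456) q3719, e3 q3468 L65517 q2825, e3 q3469 L123201 q4247, e3 q3470 (flp_d L123187) q4245, e3 q3471 L123220 q4249, e3 q3472 (flp_d L65550) q2826, e3 q3473 (flp_d L65568) q2827, e3 q3474 (flp_d L68554) q3723, e3 q3475 (flp_d L123241) q4251, e3 q3476 L65608 q2829, e3 q3477 (flp_d L68590) q3725, e3 q3478 L65636 q2834, e3 q3479 L123322 q4259, e3 q3480 (flp_d L65649) q2833, e3 q3481 (flp_d L123361) q4263, e3 q3482 (flp_d L65678) q2835, e3 q3483 L65702 q2841, e3 q3484 L65708 q2838, e3 q3485 (flp_d L123389) q4265, e3 q3486 (flp_d L123309) q4257, e3 q3487 (flp_d L123375) q4264, e3 q3488 (flp_d L123395) q4266, e3 q3489 L90409 q2850, e3 q3490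 L84871 q3031, e3 q3491 (flp_d L65832) q2843, e3 q3492 (flp_d L123475) q4274, e3 q3493 (flp_d L122944) q4213, e3 q3494 L65858 q3494, e3 q3495 L65863 q2845, e3 q3496 L65891 q2851, e3 q3497 L65898 q2849, e3 q3498 L65909 q2852, e3 q3499 L65918 q3499, e3 q3500 L118316 q3150, e3 q3501 (flp_d L123523) q4279, e3 q3502 L66091 q3502, e3 q3503 L66139 q3094, e3 q3504 L123570 q4283, e3 q3505 L119154 q3202, e3 q3506 L119141 q3198, e3 q3507 (flp_d L66177) q2857, e3 q3508 (flp_d L123630) q4288, e3 q3509 L66201 q3509, e3 q3510 L123649 q4290, e3 q3511 L66223 q2884, e3 q3512 L66231 q2885, e3 q3513 (flp_d L123435) q4270, e3 q3514 L117214 q3204, e3 q3515 L66293 q3515, e3 q3516 L66299 q2865, e3 q3517 L66306 q3517, e3 q3518 L123715 q4296, e3 q3519 (flp_d L66318) q2867, trivial⟩ (by decide +kernel)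

theorem ce_d_55 : ∀ r, r < 64 → sm gd (Qf (3520 + r)) = Qf (tab Gen.d (3520 + r)) :=
  edges_tab (sm gd) Qf (tab Gen.d) 3520 [(3520, 4299), (3521, 2897), (3522, 4300), (3523, 2871), (3524, 4302), (3525, 3525), (3526, 2873), (3527, 4306), (3528, 3099), (3529, 4310), (3530, 2876), (3531, 4314), (3532, 2877), (3533, 3145), (3534, 4317), (3535, 3144), (3536, 2879), (3537, 4321), (3538, 3281), (3539, 2881), (3540, 4325), (3541, 2883), (3542, 4328), (3543, 4292), (3544, 4329), (3545, 4331), (3546, 2888), (3547, 4335), (3548, 3149), (3549, 4334), (3550, 2891), (3551, 3290), (3552, 3291), (3553, 2932), (3554, 2894), (3555, 4340), (3556, 4333), (3557, 2896), (3558, 2899), (3559, 2933), (3560, 2938), (3561, 2942), (3562, 2902), (3563, 4349), (3564, 4353), (3565, 4355), (3566, 2904), (3567, 4359), (3568, 3991), (3569, 4116), (3570, 2906), (3571, 2908), (3572, 4367), (3573, 4365), (3574, 4370), (3575, 2909), (3576, 4374), (3577, 2910), (3578, 4376), (3579, 4373), (3580, 2912), (3581, 4128), (3582,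 4129), (3583, 4324)]
    ⟨e3 q3520 (flp_d L123745) q4299, e3 q3521 L66338 q2897, e3 q3522 L123750 q4300, e3 q3523 (flp_d L66353) q2871, e3 q3524 (flp_d L123772) q4302, e3 q3525 L66380 q3525, e3 q3526 L66385 q2873, e3 q3527 L123804 q4306, e3 q3528 L66410 q3099, e3 q3529 L123857 q4310, e3 q3530 (flp_d L66425) q2876, e3 q3531 (flp_d L123907) q4314, e3 q3532 (flp_d L66447) q2877, e3 q3533 L118229 q3145, e3 q3534 L123931 q4317, e3 q3535 L118223 q3144, e3 q3536 (flp_d L66487) q2879, e3 q3537 (flp_d L123978) q4321, e3 q3538 L66512 q3281, e3 q3539 L66518 q2881, e3 q3540 L124016 q4325, e3 q3541 (flp_d L66543) q2883, e3 q3542 (flp_d L124050) q4328, e3 q3543 (flp_d L123677) q4292, e3 q3544 L124054 q4329, e3 q3545 L124079 q4331, e3 q3546 (flp_d L66616) q2888, e3 q3547 (flp_d L124121) q4335, e3 q3548 L119629 q3149, e3 q3549 (flp_d L124115) q4334, e3 q3550 L66664 q2891, e3 q3551 L66672 q3290, e3 q3552 L66680 q3291, e3 q3553 L66690 q2932, e3 q3554 (flp_d L66703) q2894, e3 q3555 (flp_d L124165) q4340, e3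 q3556 (flp_d L124105) q4333, e3 q3557 L66729 q2896, e3 q3558 L66768 q2899, e3 q3559 L93018 q2933, e3 q3560 L104007 q2938, e3 q3561 L66795 q2942, e3 q3562 (flp_d L66798) q2902, e3 q3563 (flp_d L124239) q4349, e3 q3564 L124272 q4353, e3 q3565 L124286 q4355, e3 q3566 (flp_d L66831) q2904, e3 q3567 (flp_d L124329) q4359, e3 q3568 (flp_d L121146) q3991, e3 q3569 (flp_d L122110) q4116, e3 q3570 L66872 q2906, e3 q3571 L66880 q2908, e3 q3572 L124397 q4367, e3 q3573 (flp_d L124382) q4365, e3 q3574 L124419 q4370, e3 q3575 (flp_d L66908) q2909, e3 q3576 (flp_d L124451) q4374, e3 q3577 (flp_d L66920) q2910, e3 q3578 (flp_d L124467) q4376, e3 q3579 (flp_d L124445) q4373, e3 q3580 L66951 q2912, e3 q3581 (flp_d L122214) q4128, e3 q3582 (flp_d L122221) q4129, e3 q3583 (flp_d L124012) q4324, trivial⟩ (by decide +kernel)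

theorem ce_d_56 : ∀ r, r < 64 → sm gd (Qf (3584 + r)) = Qf (tab Gen.d (3584 + r)) :=
  edges_tab (sm gd) Qf (tab Gen.d) 3584 [(3584, 4345), (3585, 2916), (3586, 4385), (3587, 4372), (3588, 2918), (3589, 2922), (3590, 4390), (3591, 2921), (3592, 4394), (3593, 4395), (3594, 2923), (3595, 4399), (3596, 2936), (3597, 2928), (3598, 2925), (3599, 4398), (3600, 2927), (3601, 4403), (3602, 4404), (3603, 3178), (3604, 4151), (3605, 4152), (3606, 4413), (3607, 4346), (3608, 4397), (3609, 2935), (3610, 4400), (3611, 4402), (3612, 4343), (3613, 4344), (3614, 3019), (3615, 3020), (3616, 4165), (3617, 2943), (3618, 4422), (3619, 4425), (3620, 4427), (3621, 2945), (3622, 4431), (3623, 3419), (3624, 3301), (3625, 2947), (3626, 2949), (3627, 4437), (3628, 4439), (3629, 2950), (3630, 4443), (3631, 2951), (3632, 4444), (3633, 4442), (3634, 2953), (3635, 3308), (3636, 3309), (3637, 2996), (3638, 4204), (3639, 4441), (3640, 2958), (3641, 2961), (3642, 4454), (3643, 2962), (3644, 4455), (3645, 2973), (3646,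 2967), (3647, 2964)]
    ⟨e3 q3584 (flp_d L124202) q4345, e3 q3585 (flp_d L66985) q2916, e3 q3586 (flp_d L124549) q4385, e3 q3587 (flp_d L124439) q4372, e3 q3588 L67011 q2918, e3 q3589 L67019 q2922, e3 q3590 L124580 q4390, e3 q3591 (flp_d L67030) q2921, e3 q3592 (flp_d L124620) q4394, e3 q3593 L124622 q4395, e3 q3594 (flp_d L67052) q2923, e3 q3595 (flp_d L124659) q4399, e3 q3596 L67070 q2936, e3 q3597 L67076 q2928, e3 q3598 L67082 q2925, e3 q3599 (flp_d L124653) q4398, e3 q3600 L67098 q2927, e3 q3601 (flp_d L124686) q4403, e3 q3602 (flp_d L124692) q4404, e3 q3603 L117882 q3178, e3 q3604 (flp_d L122409) q4151, e3 q3605 (flp_d L122417) q4152, e3 q3606 L124765 q4413, e3 q3607 (flp_d L124213) q4346, e3 q3608 (flp_d L124643) q4397, e3 q3609 L67177 q2935, e3 q3610 (flp_d L124665) q4400, e3 q3611 (flp_d L124680) q4402, e3 q3612 (flp_d L124188) q4343, e3 q3613 (flp_d L124197) q4344, e3 q3614 L67242 q3019, e3 q3615 L67250 q3020, e3 q3616 (flp_d L122531) q4165, e3 q3617 (flp_d L67259) q2943, e3 q3618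 (flp_d L124849) q4422, e3 q3619 L124873 q4425, e3 q3620 L124891 q4427, e3 q3621 (flp_d L67298) q2945, e3 q3622 (flp_d L124932) q4431, e3 q3623 L67322 q3419, e3 q3624 L67331 q3301, e3 q3625 L67337 q2947, e3 q3626 L67346 q2949, e3 q3627 L124978 q4437, e3 q3628 L124998 q4439, e3 q3629 (flp_d L67383) q2950, e3 q3630 (flp_d L125034) q4443, e3 q3631 (flp_d L67401) q2951, e3 q3632 (flp_d L125043) q4444, e3 q3633 (flp_d L125028) q4442, e3 q3634 L67434 q2953, e3 q3635 L67443 q3308, e3 q3636 L67452 q3309, e3 q3637 L67463 q2996, e3 q3638 (flp_d L122852) q4204, e3 q3639 (flp_d L125022) q4441, e3 q3640 L67516 q2958, e3 q3641 (flp_d L67539) q2961, e3 q3642 (flp_d L125136) q4454, e3 q3643 (flp_d L67564) q2962, e3 q3644 (flp_d L125142) q4455, e3 q3645 L67582 q2973, e3 q3646 L67586 q2967, e3 q3647 L67590 q2964, trivial⟩ (by decide +kernel)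

theorem ce_d_57 : ∀ r, r < 64 → sm gd (Qf (3648 + r)) = Qf (tab Gen.d (3648 + r)) :=
  edges_tab (sm gd) Qf (tab Gen.d) 3648 [(3648, 2966), (3649, 4458), (3650, 4459), (3651, 3013), (3652, 3318), (3653, 3319), (3654, 4464), (3655, 4457), (3656, 4017), (3657, 2976), (3658, 4469), (3659, 4467), (3660, 4471), (3661, 2977), (3662, 4475), (3663, 2978), (3664, 4478), (3665, 4021), (3666, 4474), (3667, 2980), (3668, 4484), (3669, 4025), (3670, 4183), (3671, 4184), (3672, 4436), (3673, 2986), (3674, 4493), (3675, 2985), (3676, 4497), (3677, 2987), (3678, 4499), (3679, 2998), (3680, 2992), (3681, 2989), (3682, 4498), (3683, 2991), (3684, 4503), (3685, 4504), (3686, 4447), (3687, 4201), (3688, 4202), (3689, 4514), (3690, 4500), (3691, 4502), (3692, 3692), (3693, 4453), (3694, 3001), (3695, 4520), (3696, 3045), (3697, 3179), (3698, 3003), (3699, 3009), (3700, 3005), (3701, 3017), (3702, 3075), (3703, 3018), (3704, 3011), (3705, 3012), (3706, 4460), (3707, 4527), (3708, 4528), (3709, 3130), (3710,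 4536), (3711, 4537)]
    ⟨e3 q3648 L67604 q2966, e3 q3649 (flp_d L125161) q4458, e3 q3650 (flp_d L125167) q4459, e3 q3651 L67626 q3013, e3 q3652 L67633 q3318, e3 q3653 L67641 q3319, e3 q3654 L125199 q4464, e3 q3655 (flp_d L125155) q4457, e3 q3656 (flp_d L121324) q4017, e3 q3657 L67811 q2976, e3 q3658 L125238 q4469, e3 q3659 (flp_d L125228) q4467, e3 q3660 L125250 q4471, e3 q3661 (flp_d L67834) q2977, e3 q3662 (flp_d L125276) q4475, e3 q3663 (flp_d L67844) q2978, e3 q3664 (flp_d L125299) q4478, e3 q3665 (flp_d L121350) q4021, e3 q3666 (flp_d L125270) q4474, e3 q3667 L67878 q2980, e3 q3668 L125342 q4484, e3 q3669 (flp_d L121379) q4025, e3 q3670 (flp_d L122667) q4183, e3 q3671 (flp_d L122674) q4184, e3 q3672 (flp_d L124974) q4436, e3 q3673 L67924 q2986, e3 q3674 L125414 q4493, e3 q3675 (flp_d L67936) q2985, e3 q3676 (flp_d L125456) q4497, e3 q3677 (flp_d L67959) q2987, e3 q3678 (flp_d L125474) q4499, e3 q3679 L67979 q2998, e3 q3680 L67985 q2992, e3 q3681 L67991 q2989, e3 q3682 (flp_d L125466)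 q4498, e3 q3683 L68009 q2991, e3 q3684 (flp_d L125508) q4503, e3 q3685 (flp_d L125514) q4504, e3 q3686 (flp_d L125075) q4447, e3 q3687 (flp_d L122826) q4201, e3 q3688 (flp_d L122835) q4202, e3 q3689 L125603 q4514, e3 q3690 (flp_d L125480) q4500, e3 q3691 (flp_d L125500) q4502, e3 q3692 L68131 q3692, e3 q3693 (flp_d L125132) q4453, e3 q3694 (flp_d L68140) q3001, e3 q3695 (flp_d L125664) q4520, e3 q3696 L68158 q3045, e3 q3697 L68164 q3179, e3 q3698 L68168 q3003, e3 q3699 L68191 q3009, e3 q3700 L68195 q3005, e3 q3701 L68201 q3017, e3 q3702 L68207 q3075, e3 q3703 L68213 q3018, e3 q3704 L68217 q3011, e3 q3705 L68221 q3012, e3 q3706 (flp_d L125175) q4460, e3 q3707 (flp_d L125713) q4527, e3 q3708 (flp_d L125719) q4528, e3 q3709 L119571 q3130, e3 q3710 (flp_d L125777) q4536, e3 q3711 (flp_d L125781) q4537, trivial⟩ (by decide +kernel)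

theorem ce_d_58 : ∀ r, r < 64 → sm gd (Qf (3712 + r)) = Qf (tab Gen.d (3712 + r)) :=
  edges_tab (sm gd) Qf (tab Gen.d) 3712 [(3712, 4544), (3713, 4233), (3714, 4546), (3715, 3016), (3716, 4530), (3717, 4532), (3718, 4419), (3719, 3467), (3720, 3022), (3721, 4552), (3722, 3023), (3723, 3474), (3724, 4555), (3725, 3477), (3726, 4258), (3727, 3028), (3728, 4559), (3729, 3030), (3730, 4271), (3731, 3205), (3732, 3033), (3733, 3738), (3734, 4562), (3735, 3322), (3736, 3037), (3737, 4566), (3738, 3733), (3739, 3323), (3740, 4495), (3741, 3041), (3742, 3043), (3743, 4570), (3744, 4521), (3745, 4523), (3746, 3048), (3747, 3750), (3748, 3054), (3749, 3050), (3750, 3747), (3751, 3325), (3752, 3052), (3753, 4584), (3754, 4053), (3755, 4576), (3756, 4577), (3757, 3757), (3758, 3056), (3759, 4591), (3760, 4593), (3761, 4597), (3762, 3762), (3763, 3763), (3764, 4600), (3765, 3072), (3766, 4501), (3767, 3073), (3768, 3066), (3769, 3067), (3770, 3770), (3771, 3332), (3772, 3333), (3773, 3773), (3774,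 4607), (3775, 4608)]
    ⟨e3 q3712 L125835 q4544, e3 q3713 (flp_d L123078) q4233, e3 q3714 L125848 q4546, e3 q3715 (flp_d L68290) q3016, e3 q3716 (flp_d L125733) q4530, e3 q3717 (flp_d L125749) q4532, e3 q3718 (flp_d L124818) q4419, e3 q3719 L68456 q3467, e3 q3720 L68463 q3022, e3 q3721 L125900 q4552, e3 q3722 (flp_d L68502) q3023, e3 q3723 L68554 q3474, e3 q3724 (flp_d L125932) q4555, e3 q3725 L68590 q3477, e3 q3726 (flp_d L123320) q4258, e3 q3727 (flp_d L68634) q3028, e3 q3728 (flp_d L125970) q4559, e3 q3729 L68694 q3030, e3 q3730 (flp_d L123440) q4271, e3 q3731 L68877 q3205, e3 q3732 L68882 q3033, e3 q3733 L120892 q3738, e3 q3734 L125992 q4562, e3 q3735 (flp_d L120825) q3322, e3 q3736 (flp_d L69212) q3037, e3 q3737 (flp_d L126026) q4566, e3 q3738 (flp_d L120892) q3733, e3 q3739 (flp_d L120882) q3323, e3 q3740 (flp_d L125442) q4495, e3 q3741 L69307 q3041, e3 q3742 L69346 q3043, e3 q3743 (flp_d L126058) q4570, e3 q3744 (flp_d L125670) q4521, e3 q3745 (flp_d L125689) q4523, e3 q3746 L69525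 q3048, e3 q3747 L120787 q3750, e3 q3748 L69740 q3054, e3 q3749 L69747 q3050, e3 q3750 (flp_d L120787) q3747, e3 q3751 (flp_d L120789) q3325, e3 q3752 L69772 q3052, e3 q3753 L126188 q4584, e3 q3754 (flp_d L121561) q4053, e3 q3755 (flp_d L126112) q4576, e3 q3756 (flp_d L126121) q4577, e3 q3757 L69814 q3757, e3 q3758 (flp_d L69817) q3056, e3 q3759 (flp_d L126247) q4591, e3 q3760 (flp_d L126260) q4593, e3 q3761 L126288 q4597, e3 q3762 L69850 q3762, e3 q3763 L69859 q3763, e3 q3764 L126313 q4600, e3 q3765 L69919 q3072, e3 q3766 (flp_d L125492) q4501, e3 q3767 L69936 q3073, e3 q3768 L69943 q3066, e3 q3769 L69951 q3067, e3 q3770 L69960 q3770, e3 q3771 (flp_d L120805) q3332, e3 q3772 L120769 q3333, e3 q3773 L69984 q3773, e3 q3774 (flp_d L126381) q4607, e3 q3775 (flp_d L126391) q4608, trivial⟩ (by decide +kernel)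

theorem ce_d_59 : ∀ r, r < 64 → sm gd (Qf (3776 + r)) = Qf (tab Gen.d (3776 + r)) :=
  edges_tab (sm gd) Qf (tab Gen.d) 3776 [(3776, 4615), (3777, 3777), (3778, 4617), (3779, 3071), (3780, 4601), (3781, 4603), (3782, 3089), (3783, 4531), (3784, 3090), (3785, 4533), (3786, 4534), (3787, 4229), (3788, 3083), (3789, 3084), (3790, 4630), (3791, 3338), (3792, 3339), (3793, 4633), (3794, 4628), (3795, 4635), (3796, 3085), (3797, 4090), (3798, 3087), (3799, 4547), (3800, 4621), (3801, 3095), (3802, 3270), (3803, 3098), (3804, 3100), (3805, 3805), (3806, 3806), (3807, 3102), (3808, 3808), (3809, 3809), (3810, 3127), (3811, 4647), (3812, 3812), (3813, 3111), (3814, 4651), (3815, 3112), (3816, 3113), (3817, 3817), (3818, 4654), (3819, 3115), (3820, 4662), (3821, 3821), (3822, 3822), (3823, 3823), (3824, 4645), (3825, 3174), (3826, 3120), (3827, 4508), (3828, 3123), (3829, 3173), (3830, 4670), (3831, 3171), (3832, 3167), (3833, 3833), (3834, 3834), (3835, 4677), (3836, 4393), (3837, 3133), (3838,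 3184), (3839, 4679)]
    ⟨e3 q3776 L126453 q4615, e3 q3777 L70015 q3777, e3 q3778 L126469 q4617, e3 q3779 (flp_d L70027) q3071, e3 q3780 (flp_d L126325) q4601, e3 q3781 (flp_d L126344) q4603, e3 q3782 L70176 q3089, e3 q3783 (flp_d L125743) q4531, e3 q3784 L70191 q3090, e3 q3785 (flp_d L125757) q4533, e3 q3786 (flp_d L125763) q4534, e3 q3787 (flp_d L123053) q4229, e3 q3788 L70215 q3083, e3 q3789 L70222 q3084, e3 q3790 L126582 q4630, e3 q3791 (flp_d L120807) q3338, e3 q3792 L120771 q3339, e3 q3793 L126609 q4633, e3 q3794 (flp_d L126568) q4628, e3 q3795 L126628 q4635, e3 q3796 (flp_d L70272) q3085, e3 q3797 (flp_d L121863) q4090, e3 q3798 (flp_d L70286) q3087, e3 q3799 (flp_d L125859) q4547, e3 q3800 (flp_d L126511) q4621, e3 q3801 (flp_d L71195) q3095, e3 q3802 L118687 q3270, e3 q3803 (flp_d L71498) q3098, e3 q3804 (flp_d L71538) q3100, e3 q3805 L71562 q3805, e3 q3806 L71570 q3806, e3 q3807 L71577 q3102, e3 q3808 L71665 q3808, e3 q3809 L71670 q3809, e3 q3810 L71679 q3127, e3 q3811 L126741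 q4647, e3 q3812 L71981 q3812, e3 q3813 L71988 q3111, e3 q3814 L126781 q4651, e3 q3815 (flp_d L72017) q3112, e3 q3816 (flp_d L72034) q3113, e3 q3817 L72060 q3817, e3 q3818 (flp_d L126821) q4654, e3 q3819 L72073 q3115, e3 q3820 L126897 q4662, e3 q3821 L72092 q3821, e3 q3822 L72100 q3822, e3 q3823 L72107 q3823, e3 q3824 (flp_d L126730) q4645, e3 q3825 L119557 q3174, e3 q3826 (flp_d L72133) q3120, e3 q3827 (flp_d L125550) q4508, e3 q3828 L72183 q3123, e3 q3829 L118178 q3173, e3 q3830 (flp_d L126972) q4670, e3 q3831 L118355 q3171, e3 q3832 L118344 q3167, e3 q3833 L72235 q3833, e3 q3834 L72242 q3834, e3 q3835 L127030 q4677, e3 q3836 (flp_d L124614) q4393, e3 q3837 L72420 q3133, e3 q3838 L118158 q3184, e3 q3839 (flp_d L127051) q4679, trivial⟩ (by decide +kernel)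

theorem ce_d_60 : ∀ r, r < 64 → sm gd (Qf (3840 + r)) = Qf (tab Gen.d (3840 + r)) :=
  edges_tab (sm gd) Qf (tab Gen.d) 3840 [(3840, 3182), (3841, 4519), (3842, 3842), (3843, 4684), (3844, 3138), (3845, 3845), (3846, 4309), (3847, 3847), (3848, 4307), (3849, 4690), (3850, 3850), (3851, 3851), (3852, 3852), (3853, 3166), (3854, 4319), (3855, 4280), (3856, 3856), (3857, 3857), (3858, 4699), (3859, 3859), (3860, 4701), (3861, 3153), (3862, 3862), (3863, 4704), (3864, 4661), (3865, 3156), (3866, 4709), (3867, 3867), (3868, 3160), (3869, 3869), (3870, 4660), (3871, 4714), (3872, 3872), (3873, 4711), (3874, 4656), (3875, 4650), (3876, 3162), (3877, 4721), (3878, 4723), (3879, 4727), (3880, 3880), (3881, 3881), (3882, 4730), (3883, 4379), (3884, 4496), (3885, 3169), (3886, 3172), (3887, 4673), (3888, 4733), (3889, 4671), (3890, 4737), (3891, 3891), (3892, 4739), (3893, 3177), (3894, 4524), (3895, 4525), (3896, 3183), (3897, 4681), (3898, 4680), (3899, 4744), (3900, 3185), (3901, 4100), (3902,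 3187), (3903, 3250)]
    ⟨e3 q3840 L117897 q3182, e3 q3841 (flp_d L125658) q4519, e3 q3842 L72487 q3842, e3 q3843 L127100 q4684, e3 q3844 (flp_d L72498) q3138, e3 q3845 L72576 q3845, e3 q3846 (flp_d L123855) q4309, e3 q3847 L72645 q3847, e3 q3848 (flp_d L123826) q4307, e3 q3849 L127137 q4690, e3 q3850 L72669 q3850, e3 q3851 L72675 q3851, e3 q3852 L72680 q3852, e3 q3853 L72689 q3166, e3 q3854 (flp_d L123955) q4319, e3 q3855 (flp_d L123535) q4280, e3 q3856 L72819 q3856, e3 q3857 L72826 q3857, e3 q3858 L127198 q4699, e3 q3859 L73044 q3859, e3 q3860 L127212 q4701, e3 q3861 (flp_d L73053) q3153, e3 q3862 L73183 q3862, e3 q3863 L127232 q4704, e3 q3864 (flp_d L126895) q4661, e3 q3865 (flp_d L73204) q3156, e3 q3866 (flp_d L127267) q4709, e3 q3867 L73244 q3867, e3 q3868 L73249 q3160, e3 q3869 L73265 q3869, e3 q3870 (flp_d L126879) q4660, e3 q3871 L127295 q4714, e3 q3872 L73293 q3872, e3 q3873 (flp_d L127279) q4711, e3 q3874 (flp_d L126844) q4656, e3 q3875 (flp_d L126779) q4650, e3 q3876 (flp_d L73314)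 q3162, e3 q3877 (flp_d L127349) q4721, e3 q3878 (flp_d L127363) q4723, e3 q3879 L127391 q4727, e3 q3880 L73347 q3880, e3 q3881 L73353 q3881, e3 q3882 L127411 q4730, e3 q3883 (flp_d L124499) q4379, e3 q3884 (flp_d L125450) q4496, e3 q3885 L73409 q3169, e3 q3886 L73453 q3172, e3 q3887 (flp_d L126999) q4673, e3 q3888 (flp_d L127437) q4733, e3 q3889 (flp_d L126982) q4671, e3 q3890 L127469 q4737, e3 q3891 L73529 q3891, e3 q3892 L127482 q4739, e3 q3893 (flp_d L73541) q3177, e3 q3894 (flp_d L125695) q4524, e3 q3895 (flp_d L125701) q4525, e3 q3896 L73635 q3183, e3 q3897 (flp_d L127075) q4681, e3 q3898 (flp_d L127063) q4680, e3 q3899 L127517 q4744, e3 q3900 (flp_d L73689) q3185, e3 q3901 (flp_d L121970) q4100, e3 q3902 (flp_d L73698) q3187, e3 q3903 L73707 q3250, trivial⟩ (by decide +kernel)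

theorem ce_d_61 : ∀ r, r < 64 → sm gd (Qf (3904 + r)) = Qf (tab Gen.d (3904 + r)) :=
  edges_tab (sm gd) Qf (tab Gen.d) 3904 [(3904, 3904), (3905, 4747), (3906, 4282), (3907, 3191), (3908, 4752), (3909, 3909), (3910, 3195), (3911, 3911), (3912, 4281), (3913, 3977), (3914, 3982), (3915, 3196), (3916, 3979), (3917, 4286), (3918, 4558), (3919, 3200), (3920, 3203), (3921, 3216), (3922, 4560), (3923, 3923), (3924, 4759), (3925, 3209), (3926, 4762), (3927, 3272), (3928, 3928), (3929, 3929), (3930, 4754), (3931, 3931), (3932, 4756), (3933, 4766), (3934, 3934), (3935, 3935), (3936, 3936), (3937, 3937), (3938, 3221), (3939, 4773), (3940, 4775), (3941, 4779), (3942, 3942), (3943, 3943), (3944, 4782), (3945, 3227), (3946, 4592), (3947, 3228), (3948, 4784), (3949, 4786), (3950, 4791), (3951, 3229), (3952, 3258), (3953, 4794), (3954, 3232), (3955, 3955), (3956, 3956), (3957, 4798), (3958, 3958), (3959, 4800), (3960, 3238), (3961, 4080), (3962, 3240), (3963, 4740), (3964, 3964), (3965, 4804), (3966,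 3244), (3967, 4093)]
    ⟨e3 q3904 L73714 q3904, e3 q3905 L127532 q4747, e3 q3906 (flp_d L123568) q4282, e3 q3907 (flp_d L73740) q3191, e3 q3908 (flp_d L127576) q4752, e3 q3909 L73781 q3909, e3 q3910 L73788 q3195, e3 q3911 L73799 q3911, e3 q3912 (flp_d L123554) q4281, e3 q3913 L120878 q3977, e3 q3914 L121054 q3982, e3 q3915 (flp_d L73823) q3196, e3 q3916 (flp_d L121064) q3979, e3 q3917 (flp_d L123607) q4286, e3 q3918 (flp_d L125962) q4558, e3 q3919 L73898 q3200, e3 q3920 L73946 q3203, e3 q3921 L106262 q3216, e3 q3922 (flp_d L125977) q4560, e3 q3923 L74198 q3923, e3 q3924 L127631 q4759, e3 q3925 (flp_d L74207) q3209, e3 q3926 (flp_d L127654) q4762, e3 q3927 L74225 q3272, e3 q3928 L74235 q3928, e3 q3929 L74241 q3929, e3 q3930 (flp_d L127594) q4754, e3 q3931 L74255 q3931, e3 q3932 (flp_d L127610) q4756, e3 q3933 L127681 q4766, e3 q3934 L74284 q3934, e3 q3935 L74293 q3935, e3 q3936 L74300 q3936, e3 q3937 L74313 q3937, e3 q3938 (flp_d L74314) q3221, e3 q3939 (flp_d L127742) q4773, e3 q3940 (flp_d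 L127753) q4775, e3 q3941 L127779 q4779, e3 q3942 L74345 q3942, e3 q3943 L74353 q3943, e3 q3944 L127805 q4782, e3 q3945 L74370 q3227, e3 q3946 (flp_d L126254) q4592, e3 q3947 L74384 q3228, e3 q3948 (flp_d L127823) q4784, e3 q3949 (flp_d L127850) q4786, e3 q3950 L127885 q4791, e3 q3951 (flp_d L74409) q3229, e3 q3952 L74420 q3258, e3 q3953 L127913 q4794, e3 q3954 (flp_d L74432) q3232, e3 q3955 L74445 q3955, e3 q3956 L74453 q3956, e3 q3957 L127956 q4798, e3 q3958 L74469 q3958, e3 q3959 L127972 q4800, e3 q3960 (flp_d L74482) q3238, e3 q3961 (flp_d L121771) q4080, e3 q3962 (flp_d L74495) q3240, e3 q3963 (flp_d L127495) q4740, e3 q3964 L74514 q3964, e3 q3965 L128005 q4804, e3 q3966 (flp_d L74526) q3244, e3 q3967 (flp_d L121901) q4093, trivial⟩ (by decide +kernel)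

theorem ce_d_62 : ∀ r, r < 64 → sm gd (Qf (3968 + r)) = Qf (tab Gen.d (3968 + r)) :=
  edges_tab (sm gd) Qf (tab Gen.d) 3968 [(3968, 3246), (3969, 4745), (3970, 3970), (3971, 3254), (3972, 3972), (3973, 3255), (3974, 3974), (3975, 3986), (3976, 4807), (3977, 3913), (3978, 3256), (3979, 3916), (3980, 4076), (3981, 3259), (3982, 3914), (3983, 3983), (3984, 3984), (3985, 4638), (3986, 3975), (3987, 3273), (3988, 4815), (3989, 3274), (3990, 4819), (3991, 3568), (3992, 4313), (3993, 3276), (3994, 4825), (3995, 3278), (3996, 4829), (3997, 4828), (3998, 3280), (3999, 4322), (4000, 4323), (4001, 4130), (4002, 4827), (4003, 3284), (4004, 3285), (4005, 4841), (4006, 3293), (4007, 3288), (4008, 3287), (4009, 4844), (4010, 4845), (4011, 4150), (4012, 4276), (4013, 4337), (4014, 4852), (4015, 4843), (4016, 4160), (4017, 3656), (4018, 4855), (4019, 3297), (4020, 4859), (4021, 3665), (4022, 4858), (4023, 3299), (4024, 4865), (4025, 3669), (4026, 4434), (4027, 4435), (4028, 4185), (4029, 3303), (4030,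 4873), (4031, 3306)]
    ⟨e3 q3968 (flp_d L74540) q3246, e3 q3969 (flp_d L127523) q4745, e3 q3970 L74581 q3970, e3 q3971 L74587 q3254, e3 q3972 L74596 q3972, e3 q3973 L74601 q3255, e3 q3974 L74609 q3974, e3 q3975 L121101 q3986, e3 q3976 (flp_d L128029) q4807, e3 q3977 (flp_d L120878) q3913, e3 q3978 (flp_d L74638) q3256, e3 q3979 L121064 q3916, e3 q3980 L121736 q4076, e3 q3981 (flp_d L74662) q3259, e3 q3982 (flp_d L121054) q3914, e3 q3983 L74701 q3983, e3 q3984 L121078 q3984, e3 q3985 (flp_d L126659) q4638, e3 q3986 (flp_d L121101) q3975, e3 q3987 (flp_d L121103) q3273, e3 q3988 L128101 q4815, e3 q3989 (flp_d L121120) q3274, e3 q3990 (flp_d L128140) q4819, e3 q3991 L121146 q3568, e3 q3992 (flp_d L123899) q4313, e3 q3993 L121162 q3276, e3 q3994 L128187 q4825, e3 q3995 (flp_d L121171) q3278, e3 q3996 (flp_d L128215) q4829, e3 q3997 (flp_d L128209) q4828, e3 q3998 L121194 q3280, e3 q3999 (flp_d L123990) q4322, e3 q4000 (flp_d L123998) q4323, e3 q4001 (flp_d L122231) q4130, e3 q4002 (flp_d L128203)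 q4827, e3 q4003 L121231 q3284, e3 q4004 (flp_d L121234) q3285, e3 q4005 (flp_d L128300) q4841, e3 q4006 L121248 q3293, e3 q4007 L121254 q3288, e3 q4008 L121260 q3287, e3 q4009 (flp_d L128317) q4844, e3 q4010 (flp_d L128323) q4845, e3 q4011 (flp_d L122402) q4150, e3 q4012 (flp_d L123505) q4276, e3 q4013 (flp_d L124141) q4337, e3 q4014 L128372 q4852, e3 q4015 (flp_d L128311) q4843, e3 q4016 (flp_d L122483) q4160, e3 q4017 L121324 q3656, e3 q4018 L128391 q4855, e3 q4019 (flp_d L121331) q3297, e3 q4020 (flp_d L128416) q4859, e3 q4021 L121350 q3665, e3 q4022 (flp_d L128410) q4858, e3 q4023 L121361 q3299, e3 q4024 L128455 q4865, e3 q4025 L121379 q3669, e3 q4026 (flp_d L124956) q4434, e3 q4027 (flp_d L124964) q4435, e3 q4028 (flp_d L122684) q4185, e3 q4029 (flp_d L121400) q3303, e3 q4030 (flp_d L128517) q4873, e3 q4031 L121417 q3306, trivial⟩ (by decide +kernel)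

theorem ce_d_63 : ∀ r, r < 64 → sm gd (Qf (4032 + r)) = Qf (tab Gen.d (4032 + r)) :=
  edges_tab (sm gd) Qf (tab Gen.d) 4032 [(4032, 3305), (4033, 4874), (4034, 4875), (4035, 4200), (4036, 4448), (4037, 4449), (4038, 4882), (4039, 4039), (4040, 3312), (4041, 3315), (4042, 3316), (4043, 4226), (4044, 4886), (4045, 4887), (4046, 4891), (4047, 4462), (4048, 4893), (4049, 3320), (4050, 4895), (4051, 4564), (4052, 4897), (4053, 3754), (4054, 4581), (4055, 4582), (4056, 4056), (4057, 3327), (4058, 4904), (4059, 4906), (4060, 4910), (4061, 4061), (4062, 4062), (4063, 4913), (4064, 4610), (4065, 4611), (4066, 4916), (4067, 4067), (4068, 4918), (4069, 3337), (4070, 4631), (4071, 4921), (4072, 3340), (4073, 4923), (4074, 3342), (4075, 4894), (4076, 3980), (4077, 4928), (4078, 3345), (4079, 4932), (4080, 3961), (4081, 4934), (4082, 3348), (4083, 4937), (4084, 4084), (4085, 3350), (4086, 4941), (4087, 3352), (4088, 4944), (4089, 3387), (4090, 3797), (4091, 3356), (4092, 4945), (4093, 3967), (4094,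 3358), (4095, 4095)]
    ⟨e3 q4032 L121423 q3305, e3 q4033 (flp_d L128523) q4874, e3 q4034 (flp_d L128529) q4875, e3 q4035 (flp_d L122818) q4200, e3 q4036 (flp_d L125084) q4448, e3 q4037 (flp_d L125094) q4449, e3 q4038 L128583 q4882, e3 q4039 L121481 q4039, e3 q4040 L121484 q3312, e3 q4041 L121488 q3315, e3 q4042 L121492 q3316, e3 q4043 (flp_d L123031) q4226, e3 q4044 (flp_d L128605) q4886, e3 q4045 (flp_d L128609) q4887, e3 q4046 L128634 q4891, e3 q4047 (flp_d L125187) q4462, e3 q4048 L128645 q4893, e3 q4049 (flp_d L121534) q3320, e3 q4050 L128656 q4895, e3 q4051 (flp_d L126007) q4564, e3 q4052 L128667 q4897, e3 q4053 L121561 q3754, e3 q4054 (flp_d L126161) q4581, e3 q4055 (flp_d L126171) q4582, e3 q4056 L121587 q4056, e3 q4057 (flp_d L121589) q3327, e3 q4058 (flp_d L128724) q4904, e3 q4059 (flp_d L128738) q4906, e3 q4060 L128766 q4910, e3 q4061 L121622 q4061, e3 q4062 L121630 q4062, e3 q4063 L128791 q4913, e3 q4064 (flp_d L126409) q4610, e3 q4065 (flp_d L126420) q4611, e3 q4066 L128817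 q4916, e3 q4067 L121668 q4067, e3 q4068 L128831 q4918, e3 q4069 (flp_d L121679) q3337, e3 q4070 (flp_d L126594) q4631, e3 q4071 L128855 q4921, e3 q4072 (flp_d L121702) q3340, e3 q4073 L128865 q4923, e3 q4074 (flp_d L121714) q3342, e3 q4075 (flp_d L128654) q4894, e3 q4076 (flp_d L121736) q3980, e3 q4077 L128904 q4928, e3 q4078 (flp_d L121745) q3345, e3 q4079 (flp_d L128940) q4932, e3 q4080 L121771 q3961, e3 q4081 L128957 q4934, e3 q4082 (flp_d L121784) q3348, e3 q4083 (flp_d L128998) q4937, e3 q4084 L121810 q4084, e3 q4085 L121817 q3350, e3 q4086 L129029 q4941, e3 q4087 (flp_d L121832) q3352, e3 q4088 (flp_d L129071) q4944, e3 q4089 L121852 q3387, e3 q4090 L121863 q3797, e3 q4091 (flp_d L121871) q3356, e3 q4092 (flp_d L129081) q4945, e3 q4093 L121901 q3967, e3 q4094 L121908 q3358, e3 q4095 L121917 q4095, trivial⟩ (by decide +kernel)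

theorem ce_d_64 : ∀ r, r < 64 → sm gd (Qf (4096 + r)) = Qf (tab Gen.d (4096 + r)) :=
  edges_tab (sm gd) Qf (tab Gen.d) 4096 [(4096, 4096), (4097, 4097), (4098, 3361), (4099, 4952), (4100, 3901), (4101, 3363), (4102, 3365), (4103, 4958), (4104, 4104), (4105, 3367), (4106, 4106), (4107, 4107), (4108, 4108), (4109, 3370), (4110, 4966), (4111, 4970), (4112, 4972), (4113, 3372), (4114, 4976), (4115, 4312), (4116, 3569), (4117, 3374), (4118, 3376), (4119, 4984), (4120, 4982), (4121, 4987), (4122, 3377), (4123, 4991), (4124, 3378), (4125, 4993), (4126, 4990), (4127, 3380), (4128, 3581), (4129, 3582), (4130, 4001), (4131, 5000), (4132, 3384), (4133, 5003), (4134, 4989), (4135, 3386), (4136, 3390), (4137, 5008), (4138, 3389), (4139, 5012), (4140, 5013), (4141, 3391), (4142, 5017), (4143, 3404), (4144, 3396), (4145, 3393), (4146, 5016), (4147, 3395), (4148, 5021), (4149, 5022), (4150, 4011), (4151, 3604), (4152, 3605), (4153, 5031), (4154, 3401), (4155, 5034), (4156, 5015), (4157, 3403), (4158,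 5018), (4159, 5020)]
    ⟨e3 q4096 L121924 q4096, e3 q4097 L121934 q4097, e3 q4098 (flp_d L121936) q3361, e3 q4099 (flp_d L129153) q4952, e3 q4100 L121970 q3901, e3 q4101 L121976 q3363, e3 q4102 (flp_d L121981) q3365, e3 q4103 (flp_d L129221) q4958, e3 q4104 L122006 q4104, e3 q4105 L122009 q3367, e3 q4106 L122017 q4106, e3 q4107 L122026 q4107, e3 q4108 L122035 q4108, e3 q4109 (flp_d L122037) q3370, e3 q4110 (flp_d L129294) q4966, e3 q4111 L129329 q4970, e3 q4112 L129349 q4972, e3 q4113 (flp_d L122077) q3372, e3 q4114 (flp_d L129390) q4976, e3 q4115 (flp_d L123888) q4312, e3 q4116 L122110 q3569, e3 q4117 L122118 q3374, e3 q4118 L122126 q3376, e3 q4119 L129460 q4984, e3 q4120 (flp_d L129444) q4982, e3 q4121 L129489 q4987, e3 q4122 (flp_d L122160) q3377, e3 q4123 (flp_d L129525) q4991, e3 q4124 (flp_d L122178) q3378, e3 q4125 (flp_d L129544) q4993, e3 q4126 (flp_d L129519) q4990, e3 q4127 L122206 q3380, e3 q4128 L122214 q3581, e3 q4129 L122221 q3582, e3 q4130 L122231 q4001, e3 q4131 L129595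 q5000, e3 q4132 (flp_d L122243) q3384, e3 q4133 (flp_d L129628) q5003, e3 q4134 (flp_d L129513) q4989, e3 q4135 L122271 q3386, e3 q4136 L122280 q3390, e3 q4137 L129665 q5008, e3 q4138 (flp_d L122296) q3389, e3 q4139 (flp_d L129701) q5012, e3 q4140 L129705 q5013, e3 q4141 (flp_d L122325) q3391, e3 q4142 (flp_d L129750) q5017, e3 q4143 L122347 q3404, e3 q4144 L122353 q3396, e3 q4145 L122359 q3393, e3 q4146 (flp_d L129742) q5016, e3 q4147 L122378 q3395, e3 q4148 (flp_d L129782) q5021, e3 q4149 (flp_d L129790) q5022, e3 q4150 L122402 q4011, e3 q4151 L122409 q3604, e3 q4152 L122417 q3605, e3 q4153 L129866 q5031, e3 q4154 (flp_d L122429) q3401, e3 q4155 (flp_d L129903) q5034, e3 q4156 (flp_d L129730) q5015, e3 q4157 L122460 q3403, e3 q4158 (flp_d L129756) q5018, e3 q4159 (flp_d L129774) q5020, trivial⟩ (by decide +kernel)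

theorem ce_d_65 : ∀ r, r < 64 → sm gd (Qf (4160 + r)) = Qf (tab Gen.d (4160 + r)) :=
  edges_tab (sm gd) Qf (tab Gen.d) 4160 [(4160, 4016), (4161, 4161), (4162, 3407), (4163, 3463), (4164, 3464), (4165, 3616), (4166, 3465), (4167, 3466), (4168, 5042), (4169, 4421), (4170, 3414), (4171, 5052), (4172, 5050), (4173, 5055), (4174, 3415), (4175, 5059), (4176, 3416), (4177, 5062), (4178, 4429), (4179, 5058), (4180, 3418), (4181, 5068), (4182, 4433), (4183, 3670), (4184, 3671), (4185, 4028), (4186, 3424), (4187, 5077), (4188, 3423), (4189, 5081), (4190, 5082), (4191, 3425), (4192, 5086), (4193, 3438), (4194, 3430), (4195, 3427), (4196, 5085), (4197, 3429), (4198, 5090), (4199, 5091), (4200, 4035), (4201, 3687), (4202, 3688), (4203, 5101), (4204, 3638), (4205, 5084), (4206, 3437), (4207, 5087), (4208, 5089), (4209, 4209), (4210, 5107), (4211, 3441), (4212, 5111), (4213, 3493), (4214, 4214), (4215, 3443), (4216, 3444), (4217, 5119), (4218, 3459), (4219, 3450), (4220, 3446), (4221, 3461), (4222,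 4222), (4223, 3462)]
    ⟨e3 q4160 L122483 q4016, e3 q4161 L122495 q4161, e3 q4162 L122500 q3407, e3 q4163 L122508 q3463, e3 q4164 L122521 q3464, e3 q4165 L122531 q3616, e3 q4166 L122536 q3465, e3 q4167 L122545 q3466, e3 q4168 (flp_d L129978) q5042, e3 q4169 (flp_d L124841) q4421, e3 q4170 L122569 q3414, e3 q4171 L130065 q5052, e3 q4172 (flp_d L130052) q5050, e3 q4173 L130091 q5055, e3 q4174 (flp_d L122598) q3415, e3 q4175 (flp_d L130121) q5059, e3 q4176 (flp_d L122614) q3416, e3 q4177 (flp_d L130143) q5062, e3 q4178 (flp_d L124920) q4429, e3 q4179 (flp_d L130115) q5058, e3 q4180 L122646 q3418, e3 q4181 L130183 q5068, e3 q4182 (flp_d L124949) q4433, e3 q4183 L122667 q3670, e3 q4184 L122674 q3671, e3 q4185 L122684 q4028, e3 q4186 L122693 q3424, e3 q4187 L130256 q5077, e3 q4188 (flp_d L122708) q3423, e3 q4189 (flp_d L130296) q5081, e3 q4190 L130300 q5082, e3 q4191 (flp_d L122738) q3425, e3 q4192 (flp_d L130345) q5086, e3 q4193 L122762 q3438, e3 q4194 L122768 q3430, e3 q4195 L122774 q3427,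 e3 q4196 (flp_d L130339) q5085, e3 q4197 L122791 q3429, e3 q4198 (flp_d L130376) q5090, e3 q4199 (flp_d L130384) q5091, e3 q4200 L122818 q4035, e3 q4201 L122826 q3687, e3 q4202 L122835 q3688, e3 q4203 L130466 q5101, e3 q4204 L122852 q3638, e3 q4205 (flp_d L130331) q5084, e3 q4206 L122878 q3437, e3 q4207 (flp_d L130351) q5087, e3 q4208 (flp_d L130368) q5089, e3 q4209 L122913 q4209, e3 q4210 L130529 q5107, e3 q4211 (flp_d L122923) q3441, e3 q4212 (flp_d L130578) q5111, e3 q4213 L122944 q3493, e3 q4214 L122950 q4214, e3 q4215 L122953 q3443, e3 q4216 (flp_d L122957) q3444, e3 q4217 (flp_d L130649) q5119, e3 q4218 L122982 q3459, e3 q4219 L122988 q3450, e3 q4220 L122992 q3446, e3 q4221 L122998 q3461, e3 q4222 L123006 q4222, e3 q4223 L123011 q3462, trivial⟩ (by decide +kernel)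

theorem ce_d_66 : ∀ r, r < 64 → sm gd (Qf (4224 + r)) = Qf (tab Gen.d (4224 + r)) :=
  edges_tab (sm gd) Qf (tab Gen.d) 4224 [(4224, 3452), (4225, 3453), (4226, 4043), (4227, 5123), (4228, 5124), (4229, 3787), (4230, 5132), (4231, 5133), (4232, 5140), (4233, 3713), (4234, 5142), (4235, 3457), (4236, 5120), (4237, 5122), (4238, 5126), (4239, 5128), (4240, 5043), (4241, 5044), (4242, 5046), (4243, 4549), (4244, 5150), (4245, 3470), (4246, 5154), (4247, 3469), (4248, 5158), (4249, 3471), (4250, 4554), (4251, 3475), (4252, 4255), (4253, 5160), (4254, 5164), (4255, 4252), (4256, 5152), (4257, 3486), (4258, 3726), (4259, 3479), (4260, 5170), (4261, 5079), (4262, 4262), (4263, 3481), (4264, 3487), (4265, 3485), (4266, 3488), (4267, 4267), (4268, 5175), (4269, 5176), (4270, 3513), (4271, 3730), (4272, 5109), (4273, 4273), (4274, 3492), (4275, 5112), (4276, 4012), (4277, 5114), (4278, 4278), (4279, 3501), (4280, 3855), (4281, 3912), (4282, 3906), (4283, 3504), (4284, 5189), (4285, 5166), (4286,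 3917), (4287, 4287)]
    ⟨e3 q4224 L123017 q3452, e3 q4225 L123023 q3453, e3 q4226 L123031 q4043, e3 q4227 (flp_d L130696) q5123, e3 q4228 (flp_d L130704) q5124, e3 q4229 L123053 q3787, e3 q4230 (flp_d L130761) q5132, e3 q4231 (flp_d L130767) q5133, e3 q4232 L130817 q5140, e3 q4233 L123078 q3713, e3 q4234 L130829 q5142, e3 q4235 (flp_d L123089) q3457, e3 q4236 (flp_d L130657) q5120, e3 q4237 (flp_d L130684) q5122, e3 q4238 (flp_d L130718) q5126, e3 q4239 (flp_d L130735) q5128, e3 q4240 (flp_d L129983) q5043, e3 q4241 (flp_d L129996) q5044, e3 q4242 (flp_d L130019) q5046, e3 q4243 (flp_d L125876) q4549, e3 q4244 L130908 q5150, e3 q4245 L123187 q3470, e3 q4246 L130946 q5154, e3 q4247 (flp_d L123201) q3469, e3 q4248 (flp_d L130988) q5158, e3 q4249 (flp_d L123220) q3471, e3 q4250 (flp_d L125925) q4554, e3 q4251 L123241 q3475, e3 q4252 (flp_d L123281) q4255, e3 q4253 (flp_d L131012) q5160, e3 q4254 L131041 q5164, e3 q4255 L123281 q4252, e3 q4256 (flp_d L130932) q5152, e3 q4257 L123309 q3486,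 e3 q4258 L123320 q3726, e3 q4259 (flp_d L123322) q3479, e3 q4260 (flp_d L131115) q5170, e3 q4261 (flp_d L130283) q5079, e3 q4262 L123355 q4262, e3 q4263 L123361 q3481, e3 q4264 L123375 q3487, e3 q4265 L123389 q3485, e3 q4266 L123395 q3488, e3 q4267 L123407 q4267, e3 q4268 (flp_d L131160) q5175, e3 q4269 (flp_d L131174) q5176, e3 q4270 L123435 q3513, e3 q4271 L123440 q3730, e3 q4272 (flp_d L130559) q5109, e3 q4273 L123469 q4273, e3 q4274 L123475 q3492, e3 q4275 (flp_d L130584) q5112, e3 q4276 L123505 q4012, e3 q4277 (flp_d L130610) q5114, e3 q4278 L123516 q4278, e3 q4279 L123523 q3501, e3 q4280 L123535 q3855, e3 q4281 L123554 q3912, e3 q4282 L123568 q3906, e3 q4283 (flp_d L123570) q3504, e3 q4284 (flp_d L131336) q5189, e3 q4285 (flp_d L131072) q5166, e3 q4286 L123607 q3917, e3 q4287 L123623 q4287, trivial⟩ (by decide +kernel)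

theorem ce_d_67 : ∀ r, r < 64 → sm gd (Qf (4288 + r)) = Qf (tab Gen.d (4288 + r)) :=
  edges_tab (sm gd) Qf (tab Gen.d) 4288 [(4288, 3508), (4289, 5192), (4290, 3510), (4291, 5195), (4292, 3543), (4293, 5179), (4294, 4294), (4295, 5196), (4296, 3518), (4297, 5199), (4298, 5106), (4299, 3520), (4300, 3522), (4301, 5203), (4302, 3524), (4303, 4303), (4304, 4304), (4305, 4305), (4306, 3527), (4307, 3848), (4308, 5211), (4309, 3846), (4310, 3529), (4311, 5216), (4312, 4115), (4313, 3992), (4314, 3531), (4315, 5222), (4316, 5224), (4317, 3534), (4318, 5228), (4319, 3854), (4320, 5227), (4321, 3537), (4322, 3999), (4323, 4000), (4324, 3583), (4325, 3540), (4326, 5233), (4327, 5226), (4328, 3542), (4329, 3544), (4330, 5237), (4331, 3545), (4332, 5239), (4333, 3556), (4334, 3549), (4335, 3547), (4336, 5242), (4337, 4013), (4338, 5245), (4339, 5238), (4340, 3555), (4341, 5240), (4342, 5241), (4343, 3612), (4344, 3613), (4345, 3584), (4346, 3607), (4347, 5045), (4348, 4813), (4349, 3563), (4350,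 5257), (4351, 5255)]
    ⟨e3 q4288 L123630 q3508, e3 q4289 L131367 q5192, e3 q4290 (flp_d L123649) q3510, e3 q4291 (flp_d L131405) q5195, e3 q4292 L123677 q3543, e3 q4293 (flp_d L131212) q5179, e3 q4294 L123699 q4294, e3 q4295 L131410 q5196, e3 q4296 (flp_d L123715) q3518, e3 q4297 (flp_d L131450) q5199, e3 q4298 L130527 q5106, e3 q4299 L123745 q3520, e3 q4300 (flp_d L123750) q3522, e3 q4301 (flp_d L131488) q5203, e3 q4302 L123772 q3524, e3 q4303 L123780 q4303, e3 q4304 L123791 q4304, e3 q4305 L123802 q4305, e3 q4306 (flp_d L123804) q3527, e3 q4307 L123826 q3848, e3 q4308 L131569 q5211, e3 q4309 L123855 q3846, e3 q4310 (flp_d L123857) q3529, e3 q4311 (flp_d L131636) q5216, e3 q4312 L123888 q4115, e3 q4313 L123899 q3992, e3 q4314 L123907 q3531, e3 q4315 L131696 q5222, e3 q4316 L131721 q5224, e3 q4317 (flp_d L123931) q3534, e3 q4318 (flp_d L131765) q5228, e3 q4319 L123955 q3854, e3 q4320 (flp_d L131759) q5227, e3 q4321 L123978 q3537, e3 q4322 L123990 q3999, e3 q4323 L123998 q4000, e3 q4324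 L124012 q3583, e3 q4325 (flp_d L124016) q3540, e3 q4326 (flp_d L131813) q5233, e3 q4327 (flp_d L131749) q5226, e3 q4328 L124050 q3542, e3 q4329 (flp_d L124054) q3544, e3 q4330 (flp_d L131847) q5237, e3 q4331 (flp_d L124079) q3545, e3 q4332 (flp_d L131869) q5239, e3 q4333 L124105 q3556, e3 q4334 L124115 q3549, e3 q4335 L124121 q3547, e3 q4336 (flp_d L131895) q5242, e3 q4337 L124141 q4013, e3 q4338 L131921 q5245, e3 q4339 (flp_d L131863) q5238, e3 q4340 L124165 q3555, e3 q4341 (flp_d L131877) q5240, e3 q4342 (flp_d L131887) q5241, e3 q4343 L124188 q3612, e3 q4344 L124197 q3613, e3 q4345 L124202 q3584, e3 q4346 L124213 q3607, e3 q4347 (flp_d L130012) q5045, e3 q4348 (flp_d L128092) q4813, e3 q4349 L124239 q3563, e3 q4350 L132028 q5257, e3 q4351 (flp_d L132012) q5255, trivial⟩ (by decide +kernel)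

theorem ce_d_68 : ∀ r, r < 64 → sm gd (Qf (4352 + r)) = Qf (tab Gen.d (4352 + r)) :=
  edges_tab (sm gd) Qf (tab Gen.d) 4352 [(4352, 5260), (4353, 3564), (4354, 5264), (4355, 3565), (4356, 5267), (4357, 4817), (4358, 5263), (4359, 3567), (4360, 5273), (4361, 4821), (4362, 4979), (4363, 4980), (4364, 5221), (4365, 3573), (4366, 5281), (4367, 3572), (4368, 5285), (4369, 5286), (4370, 3574), (4371, 5290), (4372, 3587), (4373, 3579), (4374, 3576), (4375, 5289), (4376, 3578), (4377, 5294), (4378, 5295), (4379, 3883), (4380, 4997), (4381, 4998), (4382, 5304), (4383, 5251), (4384, 5288), (4385, 3586), (4386, 5291), (4387, 5293), (4388, 5236), (4389, 5311), (4390, 3590), (4391, 5314), (4392, 4392), (4393, 3836), (4394, 3592), (4395, 3593), (4396, 5322), (4397, 3608), (4398, 3599), (4399, 3595), (4400, 3610), (4401, 4401), (4402, 3611), (4403, 3601), (4404, 3602), (4405, 5243), (4406, 5325), (4407, 5326), (4408, 5334), (4409, 5335), (4410, 5341), (4411, 5029), (4412, 5343), (4413, 3606), (4414,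 5324), (4415, 5247)]
    ⟨e3 q4352 L132055 q5260, e3 q4353 (flp_d L124272) q3564, e3 q4354 (flp_d L132091) q5264, e3 q4355 (flp_d L124286) q3565, e3 q4356 (flp_d L132119) q5267, e3 q4357 (flp_d L128125) q4817, e3 q4358 (flp_d L132083) q5263, e3 q4359 L124329 q3567, e3 q4360 L132176 q5273, e3 q4361 (flp_d L128160) q4821, e3 q4362 (flp_d L129415) q4979, e3 q4363 (flp_d L129424) q4980, e3 q4364 (flp_d L131692) q5221, e3 q4365 L124382 q3573, e3 q4366 L132248 q5281, e3 q4367 (flp_d L124397) q3572, e3 q4368 (flp_d L132290) q5285, e3 q4369 L132292 q5286, e3 q4370 (flp_d L124419) q3574, e3 q4371 (flp_d L132329) q5290, e3 q4372 L124439 q3587, e3 q4373 L124445 q3579, e3 q4374 L124451 q3576, e3 q4375 (flp_d L132323) q5289, e3 q4376 L124467 q3578, e3 q4377 (flp_d L132356) q5294, e3 q4378 (flp_d L132362) q5295, e3 q4379 L124499 q3883, e3 q4380 (flp_d L129575) q4997, e3 q4381 (flp_d L129583) q4998, e3 q4382 L132435 q5304, e3 q4383 (flp_d L131975) q5251, e3 q4384 (flp_d L132313) q5288, e3 q4385 L124549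 q3586, e3 q4386 (flp_d L132335) q5291, e3 q4387 (flp_d L132350) q5293, e3 q4388 (flp_d L131840) q5236, e3 q4389 L132490 q5311, e3 q4390 (flp_d L124580) q3590, e3 q4391 (flp_d L132524) q5314, e3 q4392 L124605 q4392, e3 q4393 L124614 q3836, e3 q4394 L124620 q3592, e3 q4395 (flp_d L124622) q3593, e3 q4396 (flp_d L132587) q5322, e3 q4397 L124643 q3608, e3 q4398 L124653 q3599, e3 q4399 L124659 q3595, e3 q4400 L124665 q3610, e3 q4401 L124675 q4401, e3 q4402 L124680 q3611, e3 q4403 L124686 q3601, e3 q4404 L124692 q3602, e3 q4405 (flp_d L131907) q5243, e3 q4406 (flp_d L132616) q5325, e3 q4407 (flp_d L132624) q5326, e3 q4408 (flp_d L132683) q5334, e3 q4409 (flp_d L132689) q5335, e3 q4410 L132739 q5341, e3 q4411 (flp_d L129854) q5029, e3 q4412 L132761 q5343, e3 q4413 (flp_d L124765) q3606, e3 q4414 (flp_d L132608) q5324, e3 q4415 (flp_d L131944) q5247, trivial⟩ (by decide +kernel)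

theorem ce_d_69 : ∀ r, r < 64 → sm gd (Qf (4416 + r)) = Qf (tab Gen.d (4416 + r)) :=
  edges_tab (sm gd) Qf (tab Gen.d) 4416 [(4416, 5328), (4417, 5330), (4418, 5348), (4419, 3718), (4420, 5037), (4421, 4169), (4422, 3618), (4423, 5352), (4424, 5354), (4425, 3619), (4426, 5358), (4427, 3620), (4428, 5360), (4429, 4178), (4430, 5357), (4431, 3622), (4432, 5366), (4433, 4182), (4434, 4026), (4435, 4027), (4436, 3672), (4437, 3627), (4438, 5374), (4439, 3628), (4440, 5375), (4441, 3639), (4442, 3633), (4443, 3630), (4444, 3632), (4445, 5379), (4446, 5380), (4447, 3686), (4448, 4036), (4449, 4037), (4450, 5385), (4451, 5376), (4452, 5378), (4453, 3693), (4454, 3642), (4455, 3644), (4456, 4456), (4457, 3655), (4458, 3649), (4459, 3650), (4460, 3706), (4461, 5393), (4462, 4047), (4463, 5396), (4464, 3654), (4465, 4567), (4466, 5400), (4467, 3659), (4468, 5404), (4469, 3658), (4470, 5408), (4471, 3660), (4472, 5411), (4473, 4857), (4474, 3666), (4475, 3662), (4476, 4573), (4477, 5410), (4478,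 3664), (4479, 5423)]
    ⟨e3 q4416 (flp_d L132640) q5328, e3 q4417 (flp_d L132659) q5330, e3 q4418 L132804 q5348, e3 q4419 L124818 q3718, e3 q4420 (flp_d L129934) q5037, e3 q4421 L124841 q4169, e3 q4422 L124849 q3618, e3 q4423 L132841 q5352, e3 q4424 L132859 q5354, e3 q4425 (flp_d L124873) q3619, e3 q4426 (flp_d L132893) q5358, e3 q4427 (flp_d L124891) q3620, e3 q4428 (flp_d L132915) q5360, e3 q4429 L124920 q4178, e3 q4430 (flp_d L132887) q5357, e3 q4431 L124932 q3622, e3 q4432 L132966 q5366, e3 q4433 L124949 q4182, e3 q4434 L124956 q4026, e3 q4435 L124964 q4027, e3 q4436 L124974 q3672, e3 q4437 (flp_d L124978) q3627, e3 q4438 (flp_d L133037) q5374, e3 q4439 (flp_d L124998) q3628, e3 q4440 (flp_d L133045) q5375, e3 q4441 L125022 q3639, e3 q4442 L125028 q3633, e3 q4443 L125034 q3630, e3 q4444 L125043 q3632, e3 q4445 (flp_d L133076) q5379, e3 q4446 (flp_d L133084) q5380, e3 q4447 L125075 q3686, e3 q4448 L125084 q4036, e3 q4449 L125094 q4037, e3 q4450 L133124 q5385, e3 q4451 (flp_d L133051)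 q5376, e3 q4452 (flp_d L133068) q5378, e3 q4453 L125132 q3693, e3 q4454 L125136 q3642, e3 q4455 L125142 q3644, e3 q4456 L125150 q4456, e3 q4457 L125155 q3655, e3 q4458 L125161 q3649, e3 q4459 L125167 q3650, e3 q4460 L125175 q3706, e3 q4461 (flp_d L133188) q5393, e3 q4462 L125187 q4047, e3 q4463 L133206 q5396, e3 q4464 (flp_d L125199) q3654, e3 q4465 (flp_d L126033) q4567, e3 q4466 L133242 q5400, e3 q4467 L125228 q3659, e3 q4468 L133271 q5404, e3 q4469 (flp_d L125238) q3658, e3 q4470 (flp_d L133303) q5408, e3 q4471 (flp_d L125250) q3660, e3 q4472 (flp_d L133323) q5411, e3 q4473 (flp_d L128404) q4857, e3 q4474 L125270 q3666, e3 q4475 L125276 q3662, e3 q4476 (flp_d L126083) q4573, e3 q4477 (flp_d L133317) q5410, e3 q4478 L125299 q3664, e3 q4479 L133408 q5423, trivial⟩ (by decide +kernel)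

theorem ce_d_70 : ∀ r, r < 64 → sm gd (Qf (4480 + r)) = Qf (tab Gen.d (4480 + r)) :=
  edges_tab (sm gd) Qf (tab Gen.d) 4480 [(4480, 4861), (4481, 5415), (4482, 5416), (4483, 5365), (4484, 3668), (4485, 5430), (4486, 5432), (4487, 5436), (4488, 5072), (4489, 5073), (4490, 5439), (4491, 4491), (4492, 5373), (4493, 3674), (4494, 5443), (4495, 3740), (4496, 3884), (4497, 3676), (4498, 3682), (4499, 3678), (4500, 3690), (4501, 3766), (4502, 3691), (4503, 3684), (4504, 3685), (4505, 5381), (4506, 5450), (4507, 5451), (4508, 3827), (4509, 5459), (4510, 5460), (4511, 5467), (4512, 5099), (4513, 5469), (4514, 3689), (4515, 5453), (4516, 5455), (4517, 5198), (4518, 5387), (4519, 3841), (4520, 3695), (4521, 3744), (4522, 4522), (4523, 3745), (4524, 3894), (4525, 3895), (4526, 5388), (4527, 3707), (4528, 3708), (4529, 5389), (4530, 3716), (4531, 3783), (4532, 3717), (4533, 3785), (4534, 3786), (4535, 5125), (4536, 3710), (4537, 3711), (4538, 5496), (4539, 5483), (4540, 5484), (4541, 5319), (4542,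 5494), (4543, 5500)]
    ⟨e3 q4480 (flp_d L128431) q4861, e3 q4481 (flp_d L133347) q5415, e3 q4482 (flp_d L133353) q5416, e3 q4483 (flp_d L132962) q5365, e3 q4484 (flp_d L125342) q3668, e3 q4485 (flp_d L133468) q5430, e3 q4486 (flp_d L133481) q5432, e3 q4487 L133512 q5436, e3 q4488 (flp_d L130214) q5072, e3 q4489 (flp_d L130222) q5073, e3 q4490 L133534 q5439, e3 q4491 L125403 q4491, e3 q4492 (flp_d L133031) q5373, e3 q4493 (flp_d L125414) q3674, e3 q4494 (flp_d L133577) q5443, e3 q4495 L125442 q3740, e3 q4496 L125450 q3884, e3 q4497 L125456 q3676, e3 q4498 L125466 q3682, e3 q4499 L125474 q3678, e3 q4500 L125480 q3690, e3 q4501 L125492 q3766, e3 q4502 L125500 q3691, e3 q4503 L125508 q3684, e3 q4504 L125514 q3685, e3 q4505 (flp_d L133094) q5381, e3 q4506 (flp_d L133638) q5450, e3 q4507 (flp_d L133646) q5451, e3 q4508 L125550 q3827, e3 q4509 (flp_d L133716) q5459, e3 q4510 (flp_d L133722) q5460, e3 q4511 L133786 q5467, e3 q4512 (flp_d L130453) q5099, e3 q4513 L133803 q5469, e3 q4514 (flp_d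 L125603) q3689, e3 q4515 (flp_d L133662) q5453, e3 q4516 (flp_d L133680) q5455, e3 q4517 (flp_d L131444) q5198, e3 q4518 (flp_d L133148) q5387, e3 q4519 L125658 q3841, e3 q4520 L125664 q3695, e3 q4521 L125670 q3744, e3 q4522 L125684 q4522, e3 q4523 L125689 q3745, e3 q4524 L125695 q3894, e3 q4525 L125701 q3895, e3 q4526 (flp_d L133156) q5388, e3 q4527 L125713 q3707, e3 q4528 L125719 q3708, e3 q4529 (flp_d L133164) q5389, e3 q4530 L125733 q3716, e3 q4531 L125743 q3783, e3 q4532 L125749 q3717, e3 q4533 L125757 q3785, e3 q4534 L125763 q3786, e3 q4535 (flp_d L130714) q5125, e3 q4536 L125777 q3710, e3 q4537 L125781 q3711, e3 q4538 L134013 q5496, e3 q4539 (flp_d L133921) q5483, e3 q4540 (flp_d L133929) q5484, e3 q4541 (flp_d L132566) q5319, e3 q4542 (flp_d L134005) q5494, e3 q4543 L134047 q5500, trivial⟩ (by decide +kernel)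

theorem ce_d_71 : ∀ r, r < 64 → sm gd (Qf (4544 + r)) = Qf (tab Gen.d (4544 + r)) :=
  edges_tab (sm gd) Qf (tab Gen.d) 4544 [(4544, 3712), (4545, 4954), (4546, 3714), (4547, 3799), (4548, 5487), (4549, 4243), (4550, 5503), (4551, 5153), (4552, 3721), (4553, 5508), (4554, 4250), (4555, 3724), (4556, 4809), (4557, 5167), (4558, 3918), (4559, 3728), (4560, 3922), (4561, 5511), (4562, 3734), (4563, 5515), (4564, 4051), (4565, 5513), (4566, 3737), (4567, 4465), (4568, 5444), (4569, 5446), (4570, 3743), (4571, 5474), (4572, 5476), (4573, 4476), (4574, 5525), (4575, 4580), (4576, 3755), (4577, 3756), (4578, 4578), (4579, 5532), (4580, 4575), (4581, 4054), (4582, 4055), (4583, 4583), (4584, 3753), (4585, 5539), (4586, 5541), (4587, 5545), (4588, 5529), (4589, 5530), (4590, 5548), (4591, 3759), (4592, 3946), (4593, 3760), (4594, 5550), (4595, 5552), (4596, 5557), (4597, 3761), (4598, 4598), (4599, 5560), (4600, 3764), (4601, 3780), (4602, 5454), (4603, 3781), (4604, 5456), (4605, 5457), (4606,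 5095), (4607, 3774)]
    ⟨e3 q4544 (flp_d L125835) q3712, e3 q4545 (flp_d L129177) q4954, e3 q4546 (flp_d L125848) q3714, e3 q4547 L125859 q3799, e3 q4548 (flp_d L133953) q5487, e3 q4549 L125876 q4243, e3 q4550 L134068 q5503, e3 q4551 (flp_d L130944) q5153, e3 q4552 (flp_d L125900) q3721, e3 q4553 (flp_d L134120) q5508, e3 q4554 L125925 q4250, e3 q4555 L125932 q3724, e3 q4556 (flp_d L128051) q4809, e3 q4557 (flp_d L131078) q5167, e3 q4558 L125962 q3918, e3 q4559 L125970 q3728, e3 q4560 L125977 q3922, e3 q4561 L134141 q5511, e3 q4562 (flp_d L125992) q3734, e3 q4563 (flp_d L134174) q5515, e3 q4564 L126007 q4051, e3 q4565 (flp_d L134164) q5513, e3 q4566 L126026 q3737, e3 q4567 L126033 q4465, e3 q4568 (flp_d L133583) q5444, e3 q4569 (flp_d L133606) q5446, e3 q4570 L126058 q3743, e3 q4571 (flp_d L133852) q5474, e3 q4572 (flp_d L133871) q5476, e3 q4573 L126083 q4476, e3 q4574 L134258 q5525, e3 q4575 (flp_d L126151) q4580, e3 q4576 L126112 q3755, e3 q4577 L126121 q3756, e3 q4578 L126135 q4578,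 e3 q4579 L134321 q5532, e3 q4580 L126151 q4575, e3 q4581 L126161 q4054, e3 q4582 L126171 q4055, e3 q4583 L126185 q4583, e3 q4584 (flp_d L126188) q3753, e3 q4585 (flp_d L134393) q5539, e3 q4586 (flp_d L134403) q5541, e3 q4587 L134432 q5545, e3 q4588 (flp_d L134295) q5529, e3 q4589 (flp_d L134306) q5530, e3 q4590 L134460 q5548, e3 q4591 L126247 q3759, e3 q4592 L126254 q3946, e3 q4593 L126260 q3760, e3 q4594 (flp_d L134476) q5550, e3 q4595 (flp_d L134491) q5552, e3 q4596 L134524 q5557, e3 q4597 (flp_d L126288) q3761, e3 q4598 L126300 q4598, e3 q4599 L134547 q5560, e3 q4600 (flp_d L126313) q3764, e3 q4601 L126325 q3780, e3 q4602 (flp_d L133674) q5454, e3 q4603 L126344 q3781, e3 q4604 (flp_d L133690) q5456, e3 q4605 (flp_d L133698) q5457, e3 q4606 (flp_d L130420) q5095, e3 q4607 L126381 q3774, trivial⟩ (by decide +kernel)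

theorem ce_d_72 : ∀ r, r < 64 → sm gd (Qf (4608 + r)) = Qf (tab Gen.d (4608 + r)) :=
  edges_tab (sm gd) Qf (tab Gen.d) 4608 [(4608, 3775), (4609, 5572), (4610, 4064), (4611, 4065), (4612, 5575), (4613, 5570), (4614, 5577), (4615, 3776), (4616, 4933), (4617, 3778), (4618, 5470), (4619, 5563), (4620, 5486), (4621, 3800), (4622, 5488), (4623, 5489), (4624, 5025), (4625, 5491), (4626, 5492), (4627, 5588), (4628, 3794), (4629, 5590), (4630, 3790), (4631, 4070), (4632, 5593), (4633, 3793), (4634, 4947), (4635, 3795), (4636, 5501), (4637, 4637), (4638, 3985), (4639, 4639), (4640, 4640), (4641, 5596), (4642, 4642), (4643, 4643), (4644, 4644), (4645, 3824), (4646, 5601), (4647, 3811), (4648, 4648), (4649, 5603), (4650, 3875), (4651, 3814), (4652, 5422), (4653, 4653), (4654, 3818), (4655, 4655), (4656, 3874), (4657, 5611), (4658, 4658), (4659, 5608), (4660, 3870), (4661, 3864), (4662, 3820), (4663, 5618), (4664, 5620), (4665, 5624), (4666, 4666), (4667, 4667), (4668, 5627), (4669, 5284), (4670,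 3830), (4671, 3889)]
    ⟨e3 q4608 L126391 q3775, e3 q4609 L134656 q5572, e3 q4610 L126409 q4064, e3 q4611 L126420 q4065, e3 q4612 L134686 q5575, e3 q4613 (flp_d L134641) q5570, e3 q4614 L134707 q5577, e3 q4615 (flp_d L126453) q3776, e3 q4616 (flp_d L128949) q4933, e3 q4617 (flp_d L126469) q3778, e3 q4618 (flp_d L133818) q5470, e3 q4619 (flp_d L134580) q5563, e3 q4620 (flp_d L133947) q5486, e3 q4621 L126511 q3800, e3 q4622 (flp_d L133961) q5488, e3 q4623 (flp_d L133967) q5489, e3 q4624 (flp_d L129821) q5025, e3 q4625 (flp_d L133983) q5491, e3 q4626 (flp_d L133991) q5492, e3 q4627 L134802 q5588, e3 q4628 L126568 q3794, e3 q4629 L134816 q5590, e3 q4630 (flp_d L126582) q3790, e3 q4631 L126594 q4070, e3 q4632 L134842 q5593, e3 q4633 (flp_d L126609) q3793, e3 q4634 (flp_d L129105) q4947, e3 q4635 (flp_d L126628) q3795, e3 q4636 (flp_d L134057) q5501, e3 q4637 L126650 q4637, e3 q4638 L126659 q3985, e3 q4639 L126671 q4639, e3 q4640 L126684 q4640, e3 q4641 L134870 q5596, e3 q4642 L126700 q4642,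 e3 q4643 L126710 q4643, e3 q4644 L126717 q4644, e3 q4645 L126730 q3824, e3 q4646 L134914 q5601, e3 q4647 (flp_d L126741) q3811, e3 q4648 L126756 q4648, e3 q4649 L134933 q5603, e3 q4650 L126779 q3875, e3 q4651 (flp_d L126781) q3814, e3 q4652 (flp_d L133404) q5422, e3 q4653 L126810 q4653, e3 q4654 L126821 q3818, e3 q4655 L126833 q4655, e3 q4656 L126844 q3874, e3 q4657 L135014 q5611, e3 q4658 L126860 q4658, e3 q4659 (flp_d L134987) q5608, e3 q4660 L126879 q3870, e3 q4661 L126895 q3864, e3 q4662 (flp_d L126897) q3820, e3 q4663 (flp_d L135087) q5618, e3 q4664 (flp_d L135103) q5620, e3 q4665 L135134 q5624, e3 q4666 L126936 q4666, e3 q4667 L126944 q4667, e3 q4668 L135159 q5627, e3 q4669 (flp_d L132284) q5284, e3 q4670 L126972 q3830, e3 q4671 L126982 q3889, trivial⟩ (by decide +kernel)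

theorem ce_d_73 : ∀ r, r < 64 → sm gd (Qf (4672 + r)) = Qf (tab Gen.d (4672 + r)) :=
  edges_tab (sm gd) Qf (tab Gen.d) 4672 [(4672, 5629), (4673, 3887), (4674, 5442), (4675, 4675), (4676, 5634), (4677, 3835), (4678, 5318), (4679, 3839), (4680, 3898), (4681, 3897), (4682, 5472), (4683, 4953), (4684, 3843), (4685, 4685), (4686, 5638), (4687, 5213), (4688, 5640), (4689, 5178), (4690, 3849), (4691, 5642), (4692, 5644), (4693, 5648), (4694, 4694), (4695, 4695), (4696, 5651), (4697, 4697), (4698, 5653), (4699, 3858), (4700, 5200), (4701, 3860), (4702, 4702), (4703, 5655), (4704, 3863), (4705, 5659), (4706, 5272), (4707, 5657), (4708, 5407), (4709, 3866), (4710, 5664), (4711, 3873), (4712, 5667), (4713, 5616), (4714, 3871), (4715, 5670), (4716, 5672), (4717, 5676), (4718, 5666), (4719, 5610), (4720, 5679), (4721, 3877), (4722, 5431), (4723, 3878), (4724, 5681), (4725, 5683), (4726, 5688), (4727, 3879), (4728, 4728), (4729, 5691), (4730, 3882), (4731, 5447), (4732, 5448), (4733, 3888), (4734,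 5631), (4735, 5630)]
    ⟨e3 q4672 (flp_d L135182) q5629, e3 q4673 L126999 q3887, e3 q4674 (flp_d L133569) q5442, e3 q4675 L127019 q4675, e3 q4676 L135231 q5634, e3 q4677 (flp_d L127030) q3835, e3 q4678 (flp_d L132558) q5318, e3 q4679 L127051 q3839, e3 q4680 L127063 q3898, e3 q4681 L127075 q3897, e3 q4682 (flp_d L133838) q5472, e3 q4683 (flp_d L129163) q4953, e3 q4684 (flp_d L127100) q3843, e3 q4685 L127111 q4685, e3 q4686 L135267 q5638, e3 q4687 (flp_d L131599) q5213, e3 q4688 L135288 q5640, e3 q4689 (flp_d L131198) q5178, e3 q4690 (flp_d L127137) q3849, e3 q4691 (flp_d L135311) q5642, e3 q4692 (flp_d L135323) q5644, e3 q4693 L135354 q5648, e3 q4694 L127166 q4694, e3 q4695 L127172 q4695, e3 q4696 L135377 q5651, e3 q4697 L127187 q4697, e3 q4698 L135395 q5653, e3 q4699 (flp_d L127198) q3858, e3 q4700 (flp_d L131458) q5200, e3 q4701 (flp_d L127212) q3860, e3 q4702 L127223 q4702, e3 q4703 L135413 q5655, e3 q4704 (flp_d L127232) q3863, e3 q4705 (flp_d L135444) q5659, e3 q4706 (flp_d L132172)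 q5272, e3 q4707 (flp_d L135433) q5657, e3 q4708 (flp_d L133297) q5407, e3 q4709 L127267 q3866, e3 q4710 L135473 q5664, e3 q4711 L127279 q3873, e3 q4712 L135492 q5667, e3 q4713 (flp_d L135065) q5616, e3 q4714 (flp_d L127295) q3871, e3 q4715 (flp_d L135517) q5670, e3 q4716 (flp_d L135528) q5672, e3 q4717 L135557 q5676, e3 q4718 (flp_d L135489) q5666, e3 q4719 (flp_d L135009) q5610, e3 q4720 L135580 q5679, e3 q4721 L127349 q3877, e3 q4722 (flp_d L133475) q5431, e3 q4723 L127363 q3878, e3 q4724 (flp_d L135595) q5681, e3 q4725 (flp_d L135616) q5683, e3 q4726 L135661 q5688, e3 q4727 (flp_d L127391) q3879, e3 q4728 L127401 q4728, e3 q4729 L135695 q5691, e3 q4730 (flp_d L127411) q3882, e3 q4731 (flp_d L133614) q5447, e3 q4732 (flp_d L133622) q5448, e3 q4733 L127437 q3888, e3 q4734 (flp_d L135206) q5631, e3 q4735 (flp_d L135194) q5630, trivial⟩ (by decide +kernel)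

theorem ce_d_74 : ∀ r, r < 64 → sm gd (Qf (4736 + r)) = Qf (tab Gen.d (4736 + r)) :=
  edges_tab (sm gd) Qf (tab Gen.d) 4736 [(4736, 5696), (4737, 3890), (4738, 4943), (4739, 3892), (4740, 3963), (4741, 5480), (4742, 5481), (4743, 5019), (4744, 3899), (4745, 3969), (4746, 5700), (4747, 3905), (4748, 5704), (4749, 5186), (4750, 5702), (4751, 5507), (4752, 3908), (4753, 4811), (4754, 3930), (4755, 5510), (4756, 3932), (4757, 4788), (4758, 4792), (4759, 3924), (4760, 5710), (4761, 5514), (4762, 3926), (4763, 4795), (4764, 4764), (4765, 5707), (4766, 3933), (4767, 5715), (4768, 5717), (4769, 5721), (4770, 4770), (4771, 4771), (4772, 5724), (4773, 3939), (4774, 5540), (4775, 3940), (4776, 5726), (4777, 5728), (4778, 5733), (4779, 3941), (4780, 4780), (4781, 5736), (4782, 3944), (4783, 5725), (4784, 3948), (4785, 5551), (4786, 3949), (4787, 5553), (4788, 4757), (4789, 5739), (4790, 5744), (4791, 3950), (4792, 4758), (4793, 4927), (4794, 3953), (4795, 4763), (4796, 4796), (4797, 5746), (4798,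 3957), (4799, 4936)]
    ⟨e3 q4736 L135740 q5696, e3 q4737 (flp_d L127469) q3890, e3 q4738 (flp_d L129065) q4943, e3 q4739 (flp_d L127482) q3892, e3 q4740 L127495 q3963, e3 q4741 (flp_d L133901) q5480, e3 q4742 (flp_d L133907) q5481, e3 q4743 (flp_d L129768) q5019, e3 q4744 (flp_d L127517) q3899, e3 q4745 L127523 q3969, e3 q4746 L135772 q5700, e3 q4747 (flp_d L127532) q3905, e3 q4748 (flp_d L135811) q5704, e3 q4749 (flp_d L131303) q5186, e3 q4750 (flp_d L135802) q5702, e3 q4751 (flp_d L134111) q5507, e3 q4752 L127576 q3908, e3 q4753 L128072 q4811, e3 q4754 L127594 q3930, e3 q4755 (flp_d L134135) q5510, e3 q4756 L127610 q3932, e3 q4757 L127868 q4788, e3 q4758 (flp_d L127901) q4792, e3 q4759 (flp_d L127631) q3924, e3 q4760 (flp_d L135877) q5710, e3 q4761 (flp_d L134169) q5514, e3 q4762 L127654 q3926, e3 q4763 (flp_d L127935) q4795, e3 q4764 L127670 q4764, e3 q4765 (flp_d L135847) q5707, e3 q4766 (flp_d L127681) q3933, e3 q4767 (flp_d L135917) q5715, e3 q4768 (flp_d L135930) q5717, e3 q4769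 L135960 q5721, e3 q4770 L127716 q4770, e3 q4771 L127725 q4771, e3 q4772 L135987 q5724, e3 q4773 L127742 q3939, e3 q4774 (flp_d L134398) q5540, e3 q4775 L127753 q3940, e3 q4776 (flp_d L136011) q5726, e3 q4777 (flp_d L136031) q5728, e3 q4778 L136063 q5733, e3 q4779 (flp_d L127779) q3941, e3 q4780 L127791 q4780, e3 q4781 L136082 q5736, e3 q4782 (flp_d L127805) q3944, e3 q4783 (flp_d L136000) q5725, e3 q4784 L127823 q3948, e3 q4785 (flp_d L134485) q5551, e3 q4786 L127850 q3949, e3 q4787 (flp_d L134499) q5553, e3 q4788 (flp_d L127868) q4757, e3 q4789 (flp_d L136114) q5739, e3 q4790 L136160 q5744, e3 q4791 (flp_d L127885) q3950, e3 q4792 L127901 q4758, e3 q4793 (flp_d L128902) q4927, e3 q4794 (flp_d L127913) q3953, e3 q4795 L127935 q4763, e3 q4796 L127943 q4796, e3 q4797 L136180 q5746, e3 q4798 (flp_d L127956) q3957, e3 q4799 (flp_d L128990) q4936, trivial⟩ (by decide +kernel)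

theorem ce_d_75 : ∀ r, r < 64 → sm gd (Qf (4800 + r)) = Qf (tab Gen.d (4800 + r)) :=
  edges_tab (sm gd) Qf (tab Gen.d) 4800 [(4800, 3959), (4801, 5697), (4802, 5698), (4803, 4946), (4804, 3965), (4805, 5316), (4806, 4806), (4807, 3976), (4808, 4808), (4809, 4556), (4810, 4812), (4811, 4753), (4812, 4810), (4813, 4348), (4814, 5752), (4815, 3988), (4816, 5756), (4817, 4357), (4818, 5755), (4819, 3990), (4820, 5762), (4821, 4361), (4822, 5219), (4823, 5220), (4824, 4981), (4825, 3994), (4826, 5771), (4827, 4002), (4828, 3997), (4829, 3996), (4830, 5775), (4831, 5776), (4832, 4996), (4833, 5172), (4834, 5230), (4835, 5783), (4836, 5772), (4837, 5774), (4838, 5006), (4839, 4839), (4840, 4840), (4841, 4005), (4842, 4842), (4843, 4015), (4844, 4009), (4845, 4010), (4846, 5023), (4847, 5113), (4848, 5791), (4849, 5795), (4850, 5184), (4851, 5797), (4852, 4014), (4853, 5799), (4854, 5800), (4855, 4018), (4856, 5804), (4857, 4473), (4858, 4022), (4859, 4020), (4860, 5810), (4861, 4480), (4862,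 5807), (4863, 5808)]
    ⟨e3 q4800 (flp_d L127972) q3959, e3 q4801 (flp_d L135750) q5697, e3 q4802 (flp_d L135754) q5698, e3 q4803 (flp_d L129093) q4946, e3 q4804 (flp_d L128005) q3965, e3 q4805 L132547 q5316, e3 q4806 L128021 q4806, e3 q4807 L128029 q3976, e3 q4808 L128038 q4808, e3 q4809 L128051 q4556, e3 q4810 L128084 q4812, e3 q4811 (flp_d L128072) q4753, e3 q4812 (flp_d L128084) q4810, e3 q4813 L128092 q4348, e3 q4814 L136232 q5752, e3 q4815 (flp_d L128101) q3988, e3 q4816 (flp_d L136267) q5756, e3 q4817 L128125 q4357, e3 q4818 (flp_d L136259) q5755, e3 q4819 L128140 q3990, e3 q4820 L136314 q5762, e3 q4821 L128160 q4361, e3 q4822 (flp_d L131668) q5219, e3 q4823 (flp_d L131678) q5220, e3 q4824 (flp_d L129436) q4981, e3 q4825 (flp_d L128187) q3994, e3 q4826 (flp_d L136393) q5771, e3 q4827 L128203 q4002, e3 q4828 L128209 q3997, e3 q4829 L128215 q3996, e3 q4830 (flp_d L136418) q5775, e3 q4831 (flp_d L136424) q5776, e3 q4832 (flp_d L129568) q4996, e3 q4833 L131140 q5172, e3 q4834 (flp_d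 L131785) q5230, e3 q4835 L136473 q5783, e3 q4836 (flp_d L136397) q5772, e3 q4837 (flp_d L136412) q5774, e3 q4838 (flp_d L129651) q5006, e3 q4839 L128288 q4839, e3 q4840 L128295 q4840, e3 q4841 L128300 q4005, e3 q4842 L128306 q4842, e3 q4843 L128311 q4015, e3 q4844 L128317 q4009, e3 q4845 L128323 q4010, e3 q4846 (flp_d L129800) q5023, e3 q4847 (flp_d L130604) q5113, e3 q4848 (flp_d L136527) q5791, e3 q4849 L136556 q5795, e3 q4850 (flp_d L131277) q5184, e3 q4851 L136570 q5797, e3 q4852 (flp_d L128372) q4014, e3 q4853 L136582 q5799, e3 q4854 L136585 q5800, e3 q4855 (flp_d L128391) q4018, e3 q4856 (flp_d L136613) q5804, e3 q4857 L128404 q4473, e3 q4858 L128410 q4022, e3 q4859 L128416 q4020, e3 q4860 L136643 q5810, e3 q4861 L128431 q4480, e3 q4862 (flp_d L136629) q5807, e3 q4863 (flp_d L136635) q5808, trivial⟩ (by decide +kernel)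

theorem ce_d_76 : ∀ r, r < 64 → sm gd (Qf (4864 + r)) = Qf (tab Gen.d (4864 + r)) :=
  edges_tab (sm gd) Qf (tab Gen.d) 4864 [(4864, 5067), (4865, 4024), (4866, 5817), (4867, 5819), (4868, 5823), (4869, 5370), (4870, 5371), (4871, 5826), (4872, 4872), (4873, 4030), (4874, 4033), (4875, 4034), (4876, 5092), (4877, 5830), (4878, 5831), (4879, 5835), (4880, 5383), (4881, 5837), (4882, 4038), (4883, 4883), (4884, 4884), (4885, 5117), (4886, 4044), (4887, 4045), (4888, 5843), (4889, 5841), (4890, 5845), (4891, 4046), (4892, 5847), (4893, 4048), (4894, 4075), (4895, 4050), (4896, 5852), (4897, 4052), (4898, 5853), (4899, 5855), (4900, 5859), (4901, 5536), (4902, 5537), (4903, 5862), (4904, 4058), (4905, 4905), (4906, 4059), (4907, 5864), (4908, 5866), (4909, 5871), (4910, 4060), (4911, 4911), (4912, 5874), (4913, 4063), (4914, 5573), (4915, 5877), (4916, 4066), (4917, 5879), (4918, 4068), (4919, 5838), (4920, 5883), (4921, 4071), (4922, 5846), (4923, 4073), (4924, 5848), (4925, 5885), (4926,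 5850), (4927, 4793)]
    ⟨e3 q4864 (flp_d L130180) q5067, e3 q4865 (flp_d L128455) q4024, e3 q4866 (flp_d L136701) q5817, e3 q4867 (flp_d L136715) q5819, e3 q4868 L136746 q5823, e3 q4869 (flp_d L133001) q5370, e3 q4870 (flp_d L133010) q5371, e3 q4871 L136768 q5826, e3 q4872 L128512 q4872, e3 q4873 L128517 q4030, e3 q4874 L128523 q4033, e3 q4875 L128529 q4034, e3 q4876 (flp_d L130394) q5092, e3 q4877 (flp_d L136798) q5830, e3 q4878 (flp_d L136804) q5831, e3 q4879 L136835 q5835, e3 q4880 (flp_d L133110) q5383, e3 q4881 L136850 q5837, e3 q4882 (flp_d L128583) q4038, e3 q4883 L128591 q4883, e3 q4884 L128596 q4884, e3 q4885 (flp_d L130630) q5117, e3 q4886 L128605 q4044, e3 q4887 L128609 q4045, e3 q4888 L136886 q5843, e3 q4889 (flp_d L136878) q5841, e3 q4890 L136899 q5845, e3 q4891 (flp_d L128634) q4046, e3 q4892 L136909 q5847, e3 q4893 (flp_d L128645) q4048, e3 q4894 L128654 q4075, e3 q4895 (flp_d L128656) q4050, e3 q4896 (flp_d L136940) q5852, e3 q4897 (flp_d L128667) q4052, e3 q4898 (flp_d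 L136945) q5853, e3 q4899 (flp_d L136956) q5855, e3 q4900 L136985 q5859, e3 q4901 (flp_d L134362) q5536, e3 q4902 (flp_d L134374) q5537, e3 q4903 L137013 q5862, e3 q4904 L128724 q4058, e3 q4905 L128733 q4905, e3 q4906 L128738 q4059, e3 q4907 (flp_d L137030) q5864, e3 q4908 (flp_d L137044) q5866, e3 q4909 L137079 q5871, e3 q4910 (flp_d L128766) q4060, e3 q4911 L128779 q4911, e3 q4912 L137101 q5874, e3 q4913 (flp_d L128791) q4063, e3 q4914 (flp_d L134670) q5573, e3 q4915 L137126 q5877, e3 q4916 (flp_d L128817) q4066, e3 q4917 L137139 q5879, e3 q4918 (flp_d L128831) q4068, e3 q4919 (flp_d L136863) q5838, e3 q4920 L137169 q5883, e3 q4921 (flp_d L128855) q4071, e3 q4922 (flp_d L136907) q5846, e3 q4923 (flp_d L128865) q4073, e3 q4924 (flp_d L136920) q5848, e3 q4925 (flp_d L137184) q5885, e3 q4926 (flp_d L136927) q5850, e3 q4927 L128902 q4793, trivial⟩ (by decide +kernel)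

theorem ce_d_77 : ∀ r, r < 64 → sm gd (Qf (4928 + r)) = Qf (tab Gen.d (4928 + r)) :=
  edges_tab (sm gd) Qf (tab Gen.d) 4928 [(4928, 4077), (4929, 5894), (4930, 5187), (4931, 4931), (4932, 4079), (4933, 4616), (4934, 4081), (4935, 5900), (4936, 4799), (4937, 4083), (4938, 4938), (4939, 4939), (4940, 4940), (4941, 4086), (4942, 5907), (4943, 4738), (4944, 4088), (4945, 4092), (4946, 4803), (4947, 4634), (4948, 4948), (4949, 4949), (4950, 4950), (4951, 5916), (4952, 4099), (4953, 4683), (4954, 4545), (4955, 4955), (4956, 4956), (4957, 4957), (4958, 4103), (4959, 4959), (4960, 4960), (4961, 4961), (4962, 4962), (4963, 4963), (4964, 5929), (4965, 5208), (4966, 4110), (4967, 5933), (4968, 5931), (4969, 5936), (4970, 4111), (4971, 5940), (4972, 4112), (4973, 5942), (4974, 5214), (4975, 5939), (4976, 4114), (4977, 5948), (4978, 5218), (4979, 4362), (4980, 4363), (4981, 4824), (4982, 4120), (4983, 5956), (4984, 4119), (4985, 5960), (4986, 5961), (4987, 4121), (4988, 5965), (4989, 4134), (4990,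 4126), (4991, 4123)]
    ⟨e3 q4928 (flp_d L128904) q4077, e3 q4929 (flp_d L137255) q5894, e3 q4930 (flp_d L131320) q5187, e3 q4931 L128934 q4931, e3 q4932 L128940 q4079, e3 q4933 L128949 q4616, e3 q4934 (flp_d L128957) q4081, e3 q4935 (flp_d L137306) q5900, e3 q4936 L128990 q4799, e3 q4937 L128998 q4083, e3 q4938 L129008 q4938, e3 q4939 L129016 q4939, e3 q4940 L129027 q4940, e3 q4941 (flp_d L129029) q4086, e3 q4942 (flp_d L137384) q5907, e3 q4943 L129065 q4738, e3 q4944 L129071 q4088, e3 q4945 L129081 q4092, e3 q4946 L129093 q4803, e3 q4947 L129105 q4634, e3 q4948 L129118 q4948, e3 q4949 L129125 q4949, e3 q4950 L129135 q4950, e3 q4951 L137492 q5916, e3 q4952 L129153 q4099, e3 q4953 L129163 q4683, e3 q4954 L129177 q4545, e3 q4955 L129191 q4955, e3 q4956 L129201 q4956, e3 q4957 L129214 q4957, e3 q4958 L129221 q4103, e3 q4959 L129228 q4959, e3 q4960 L129242 q4960, e3 q4961 L129253 q4961, e3 q4962 L129257 q4962, e3 q4963 L129266 q4963, e3 q4964 L137641 q5929, e3 q4965 (flp_d L131543) q5208,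 e3 q4966 L129294 q4110, e3 q4967 L137680 q5933, e3 q4968 (flp_d L137663) q5931, e3 q4969 L137712 q5936, e3 q4970 (flp_d L129329) q4111, e3 q4971 (flp_d L137752) q5940, e3 q4972 (flp_d L129349) q4112, e3 q4973 (flp_d L137773) q5942, e3 q4974 (flp_d L131618) q5214, e3 q4975 (flp_d L137744) q5939, e3 q4976 L129390 q4114, e3 q4977 L137821 q5948, e3 q4978 (flp_d L131659) q5218, e3 q4979 L129415 q4362, e3 q4980 L129424 q4363, e3 q4981 L129436 q4824, e3 q4982 L129444 q4120, e3 q4983 L137893 q5956, e3 q4984 (flp_d L129460) q4119, e3 q4985 (flp_d L137931) q5960, e3 q4986 L137935 q5961, e3 q4987 (flp_d L129489) q4121, e3 q4988 (flp_d L137982) q5965, e3 q4989 L129513 q4134, e3 q4990 L129519 q4126, e3 q4991 L129525 q4123, trivial⟩ (by decide +kernel)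

theorem ce_d_78 : ∀ r, r < 64 → sm gd (Qf (4992 + r)) = Qf (tab Gen.d (4992 + r)) :=
  edges_tab (sm gd) Qf (tab Gen.d) 4992 [(4992, 5964), (4993, 4125), (4994, 5969), (4995, 5970), (4996, 4832), (4997, 4380), (4998, 4381), (4999, 5979), (5000, 4131), (5001, 5982), (5002, 5963), (5003, 4133), (5004, 5966), (5005, 5968), (5006, 4838), (5007, 5989), (5008, 4137), (5009, 5993), (5010, 5010), (5011, 5011), (5012, 4139), (5013, 4140), (5014, 6002), (5015, 4156), (5016, 4146), (5017, 4142), (5018, 4158), (5019, 4743), (5020, 4159), (5021, 4148), (5022, 4149), (5023, 4846), (5024, 6005), (5025, 4624), (5026, 6013), (5027, 6014), (5028, 6019), (5029, 4411), (5030, 6021), (5031, 4153), (5032, 6000), (5033, 5033), (5034, 4155), (5035, 6003), (5036, 6004), (5037, 4420), (5038, 6007), (5039, 6009), (5040, 6031), (5041, 5041), (5042, 4168), (5043, 4240), (5044, 4241), (5045, 4347), (5046, 4242), (5047, 6025), (5048, 5350), (5049, 6038), (5050, 4172), (5051, 6042), (5052, 4171), (5053, 6046), (5054,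 6047), (5055, 4173)]
    ⟨e3 q4992 (flp_d L137974) q5964, e3 q4993 L129544 q4125, e3 q4994 (flp_d L138016) q5969, e3 q4995 (flp_d L138024) q5970, e3 q4996 L129568 q4832, e3 q4997 L129575 q4380, e3 q4998 L129583 q4381, e3 q4999 L138100 q5979, e3 q5000 (flp_d L129595) q4131, e3 q5001 (flp_d L138139) q5982, e3 q5002 (flp_d L137962) q5963, e3 q5003 L129628 q4133, e3 q5004 (flp_d L137988) q5966, e3 q5005 (flp_d L138008) q5968, e3 q5006 L129651 q4838, e3 q5007 L138193 q5989, e3 q5008 (flp_d L129665) q4137, e3 q5009 (flp_d L138250) q5993, e3 q5010 L129689 q5010, e3 q5011 L129696 q5011, e3 q5012 L129701 q4139, e3 q5013 (flp_d L129705) q4140, e3 q5014 (flp_d L138349) q6002, e3 q5015 L129730 q4156, e3 q5016 L129742 q4146, e3 q5017 L129750 q4142, e3 q5018 L129756 q4158, e3 q5019 L129768 q4743, e3 q5020 L129774 q4159, e3 q5021 L129782 q4148, e3 q5022 L129790 q4149, e3 q5023 L129800 q4846, e3 q5024 (flp_d L138385) q6005, e3 q5025 L129821 q4624, e3 q5026 (flp_d L138469) q6013, e3 q5027 (flp_d L138481)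 q6014, e3 q5028 L138533 q6019, e3 q5029 L129854 q4411, e3 q5030 L138552 q6021, e3 q5031 (flp_d L129866) q4153, e3 q5032 (flp_d L138328) q6000, e3 q5033 L129896 q5033, e3 q5034 L129903 q4155, e3 q5035 (flp_d L138357) q6003, e3 q5036 (flp_d L138373) q6004, e3 q5037 L129934 q4420, e3 q5038 (flp_d L138405) q6007, e3 q5039 (flp_d L138429) q6009, e3 q5040 L138670 q6031, e3 q5041 L129965 q5041, e3 q5042 L129978 q4168, e3 q5043 L129983 q4240, e3 q5044 L129996 q4241, e3 q5045 L130012 q4347, e3 q5046 L130019 q4242, e3 q5047 (flp_d L138610) q6025, e3 q5048 (flp_d L132825) q5350, e3 q5049 L138743 q6038, e3 q5050 L130052 q4172, e3 q5051 L138780 q6042, e3 q5052 (flp_d L130065) q4171, e3 q5053 (flp_d L138814) q6046, e3 q5054 L138818 q6047, e3 q5055 (flp_d L130091) q4173, trivial⟩ (by decide +kernel)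

theorem ce_d_79 : ∀ r, r < 64 → sm gd (Qf (5056 + r)) = Qf (tab Gen.d (5056 + r)) :=
  edges_tab (sm gd) Qf (tab Gen.d) 5056 [(5056, 6051), (5057, 5356), (5058, 4179), (5059, 4175), (5060, 5359), (5061, 6050), (5062, 4177), (5063, 6063), (5064, 5362), (5065, 6055), (5066, 6056), (5067, 4864), (5068, 4181), (5069, 6070), (5070, 6072), (5071, 6076), (5072, 4488), (5073, 4489), (5074, 6079), (5075, 5075), (5076, 6081), (5077, 4187), (5078, 6085), (5079, 4261), (5080, 5080), (5081, 4189), (5082, 4190), (5083, 6093), (5084, 4205), (5085, 4196), (5086, 4192), (5087, 4207), (5088, 5088), (5089, 4208), (5090, 4198), (5091, 4199), (5092, 4876), (5093, 6097), (5094, 6098), (5095, 4606), (5096, 6106), (5097, 6107), (5098, 6114), (5099, 4512), (5100, 6116), (5101, 4203), (5102, 6094), (5103, 6096), (5104, 6100), (5105, 6102), (5106, 4298), (5107, 4210), (5108, 6122), (5109, 4272), (5110, 5110), (5111, 4212), (5112, 4275), (5113, 4847), (5114, 4277), (5115, 5115), (5116, 5116), (5117, 4885), (5118,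 5118), (5119, 4217)]
    ⟨e3 q5056 (flp_d L138853) q6051, e3 q5057 (flp_d L132881) q5356, e3 q5058 L130115 q4179, e3 q5059 L130121 q4175, e3 q5060 (flp_d L132907) q5359, e3 q5061 (flp_d L138847) q6050, e3 q5062 L130143 q4177, e3 q5063 L138939 q6063, e3 q5064 (flp_d L132934) q5362, e3 q5065 (flp_d L138877) q6055, e3 q5066 (flp_d L138885) q6056, e3 q5067 L130180 q4864, e3 q5068 (flp_d L130183) q4181, e3 q5069 (flp_d L138992) q6070, e3 q5070 (flp_d L139006) q6072, e3 q5071 L139032 q6076, e3 q5072 L130214 q4488, e3 q5073 L130222 q4489, e3 q5074 L139055 q6079, e3 q5075 L130244 q5075, e3 q5076 L139078 q6081, e3 q5077 (flp_d L130256) q4187, e3 q5078 (flp_d L139135) q6085, e3 q5079 L130283 q4261, e3 q5080 L130291 q5080, e3 q5081 L130296 q4189, e3 q5082 (flp_d L130300) q4190, e3 q5083 (flp_d L139214) q6093, e3 q5084 L130331 q4205, e3 q5085 L130339 q4196, e3 q5086 L130345 q4192, e3 q5087 L130351 q4207, e3 q5088 L130361 q5088, e3 q5089 L130368 q4208, e3 q5090 L130376 q4198, e3 q5091 L130384 q4199,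 e3 q5092 L130394 q4876, e3 q5093 (flp_d L139259) q6097, e3 q5094 (flp_d L139269) q6098, e3 q5095 L130420 q4606, e3 q5096 (flp_d L139334) q6106, e3 q5097 (flp_d L139342) q6107, e3 q5098 L139400 q6114, e3 q5099 L130453 q4512, e3 q5100 L139416 q6116, e3 q5101 (flp_d L130466) q4203, e3 q5102 (flp_d L139222) q6094, e3 q5103 (flp_d L139247) q6096, e3 q5104 (flp_d L139285) q6100, e3 q5105 (flp_d L139300) q6102, e3 q5106 (flp_d L130527) q4298, e3 q5107 (flp_d L130529) q4210, e3 q5108 (flp_d L139490) q6122, e3 q5109 L130559 q4272, e3 q5110 L130573 q5110, e3 q5111 L130578 q4212, e3 q5112 L130584 q4275, e3 q5113 L130604 q4847, e3 q5114 L130610 q4277, e3 q5115 L130616 q5115, e3 q5116 L130623 q5116, e3 q5117 L130630 q4885, e3 q5118 L130642 q5118, e3 q5119 L130649 q4217, trivial⟩ (by decide +kernel)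

theorem ce_d_80 : ∀ r, r < 64 → sm gd (Qf (5120 + r)) = Qf (tab Gen.d (5120 + r)) :=
  edges_tab (sm gd) Qf (tab Gen.d) 5120 [(5120, 4236), (5121, 5121), (5122, 4237), (5123, 4227), (5124, 4228), (5125, 4535), (5126, 4238), (5127, 5127), (5128, 4239), (5129, 5129), (5130, 5130), (5131, 6135), (5132, 4230), (5133, 4231), (5134, 6153), (5135, 6140), (5136, 6141), (5137, 6156), (5138, 6151), (5139, 6158), (5140, 4232), (5141, 5920), (5142, 4234), (5143, 5143), (5144, 6136), (5145, 6137), (5146, 6144), (5147, 6033), (5148, 5159), (5149, 6163), (5150, 4244), (5151, 6167), (5152, 4256), (5153, 4551), (5154, 4246), (5155, 6172), (5156, 6165), (5157, 5157), (5158, 4248), (5159, 5148), (5160, 4253), (5161, 5398), (5162, 6181), (5163, 5750), (5164, 4254), (5165, 5749), (5166, 4285), (5167, 4557), (5168, 6083), (5169, 5169), (5170, 4260), (5171, 6086), (5172, 4833), (5173, 6088), (5174, 5174), (5175, 4268), (5176, 4269), (5177, 5177), (5178, 4689), (5179, 4293), (5180, 6123), (5181, 5181), (5182,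 6126), (5183, 6127)]
    ⟨e3 q5120 L130657 q4236, e3 q5121 L130677 q5121, e3 q5122 L130684 q4237, e3 q5123 L130696 q4227, e3 q5124 L130704 q4228, e3 q5125 L130714 q4535, e3 q5126 L130718 q4238, e3 q5127 L130730 q5127, e3 q5128 L130735 q4239, e3 q5129 L130743 q5129, e3 q5130 L130750 q5130, e3 q5131 (flp_d L139634) q6135, e3 q5132 L130761 q4230, e3 q5133 L130767 q4231, e3 q5134 L139802 q6153, e3 q5135 (flp_d L139689) q6140, e3 q5136 (flp_d L139703) q6141, e3 q5137 L139831 q6156, e3 q5138 (flp_d L139790) q6151, e3 q5139 L139850 q6158, e3 q5140 (flp_d L130817) q4232, e3 q5141 (flp_d L137549) q5920, e3 q5142 (flp_d L130829) q4234, e3 q5143 L130844 q5143, e3 q5144 (flp_d L139638) q6136, e3 q5145 (flp_d L139652) q6137, e3 q5146 (flp_d L139728) q6144, e3 q5147 (flp_d L138700) q6033, e3 q5148 (flp_d L131001) q5159, e3 q5149 L139893 q6163, e3 q5150 (flp_d L130908) q4244, e3 q5151 (flp_d L139922) q6167, e3 q5152 L130932 q4256, e3 q5153 L130944 q4551, e3 q5154 (flp_d L130946) q4246, e3 q5155 (flp_d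 L139977) q6172, e3 q5156 (flp_d L139913) q6165, e3 q5157 L130981 q5157, e3 q5158 L130988 q4248, e3 q5159 L131001 q5148, e3 q5160 L131012 q4253, e3 q5161 (flp_d L133230) q5398, e3 q5162 L140068 q6181, e3 q5163 L136222 q5750, e3 q5164 (flp_d L131041) q4254, e3 q5165 (flp_d L136206) q5749, e3 q5166 L131072 q4285, e3 q5167 L131078 q4557, e3 q5168 (flp_d L139114) q6083, e3 q5169 L131108 q5169, e3 q5170 L131115 q4260, e3 q5171 (flp_d L139141) q6086, e3 q5172 (flp_d L131140) q4833, e3 q5173 (flp_d L139165) q6088, e3 q5174 L131154 q5174, e3 q5175 L131160 q4268, e3 q5176 L131174 q4269, e3 q5177 L131192 q5177, e3 q5178 L131198 q4689, e3 q5179 L131212 q4293, e3 q5180 (flp_d L139504) q6123, e3 q5181 L131240 q5181, e3 q5182 (flp_d L139533) q6126, e3 q5183 (flp_d L139547) q6127, trivial⟩ (by decide +kernel)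

theorem ce_d_81 : ∀ r, r < 64 → sm gd (Qf (5184 + r)) = Qf (tab Gen.d (5184 + r)) :=
  edges_tab (sm gd) Qf (tab Gen.d) 5184 [(5184, 4850), (5185, 6168), (5186, 4749), (5187, 4930), (5188, 5188), (5189, 4284), (5190, 6182), (5191, 5191), (5192, 4289), (5193, 6196), (5194, 6080), (5195, 4291), (5196, 4295), (5197, 6200), (5198, 4517), (5199, 4297), (5200, 4700), (5201, 6121), (5202, 5202), (5203, 4301), (5204, 5204), (5205, 5205), (5206, 5206), (5207, 6209), (5208, 4965), (5209, 6211), (5210, 6213), (5211, 4308), (5212, 6217), (5213, 4687), (5214, 4974), (5215, 6216), (5216, 4311), (5217, 6221), (5218, 4978), (5219, 4822), (5220, 4823), (5221, 4364), (5222, 4315), (5223, 6227), (5224, 4316), (5225, 6229), (5226, 4327), (5227, 4320), (5228, 4318), (5229, 6232), (5230, 4834), (5231, 6235), (5232, 6228), (5233, 4326), (5234, 6230), (5235, 6231), (5236, 4388), (5237, 4330), (5238, 4339), (5239, 4332), (5240, 4341), (5241, 4342), (5242, 4336), (5243, 4405), (5244, 6201), (5245, 4338), (5246,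 6243), (5247, 4415)]
    ⟨e3 q5184 L131277 q4850, e3 q5185 (flp_d L139936) q6168, e3 q5186 L131303 q4749, e3 q5187 L131320 q4930, e3 q5188 L131330 q5188, e3 q5189 L131336 q4284, e3 q5190 (flp_d L140082) q6182, e3 q5191 L131361 q5191, e3 q5192 (flp_d L131367) q4289, e3 q5193 (flp_d L140254) q6196, e3 q5194 L139076 q6080, e3 q5195 L131405 q4291, e3 q5196 (flp_d L131410) q4295, e3 q5197 (flp_d L140294) q6200, e3 q5198 L131444 q4517, e3 q5199 L131450 q4297, e3 q5200 L131458 q4700, e3 q5201 (flp_d L139477) q6121, e3 q5202 L131482 q5202, e3 q5203 L131488 q4301, e3 q5204 L131501 q5204, e3 q5205 L131505 q5205, e3 q5206 L131516 q5206, e3 q5207 L140411 q6209, e3 q5208 L131543 q4965, e3 q5209 L140436 q6211, e3 q5210 L140464 q6213, e3 q5211 (flp_d L131569) q4308, e3 q5212 (flp_d L140516) q6217, e3 q5213 L131599 q4687, e3 q5214 L131618 q4974, e3 q5215 (flp_d L140508) q6216, e3 q5216 L131636 q4311, e3 q5217 L140560 q6221, e3 q5218 L131659 q4978, e3 q5219 L131668 q4822, e3 q5220 L131678 q4823, e3 q5221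 L131692 q4364, e3 q5222 (flp_d L131696) q4315, e3 q5223 (flp_d L140624) q6227, e3 q5224 (flp_d L131721) q4316, e3 q5225 (flp_d L140648) q6229, e3 q5226 L131749 q4327, e3 q5227 L131759 q4320, e3 q5228 L131765 q4318, e3 q5229 (flp_d L140674) q6232, e3 q5230 L131785 q4834, e3 q5231 L140700 q6235, e3 q5232 (flp_d L140642) q6228, e3 q5233 L131813 q4326, e3 q5234 (flp_d L140656) q6230, e3 q5235 (flp_d L140666) q6231, e3 q5236 L131840 q4388, e3 q5237 L131847 q4330, e3 q5238 L131863 q4339, e3 q5239 L131869 q4332, e3 q5240 L131877 q4341, e3 q5241 L131887 q4342, e3 q5242 L131895 q4336, e3 q5243 L131907 q4405, e3 q5244 (flp_d L140309) q6201, e3 q5245 (flp_d L131921) q4338, e3 q5246 (flp_d L140781) q6243, e3 q5247 L131944 q4415, trivial⟩ (by decide +kernel)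

theorem ce_d_82 : ∀ r, r < 64 → sm gd (Qf (5248 + r)) = Qf (tab Gen.d (5248 + r)) :=
  edges_tab (sm gd) Qf (tab Gen.d) 5248 [(5248, 6245), (5249, 6246), (5250, 6252), (5251, 4383), (5252, 6034), (5253, 5518), (5254, 6256), (5255, 4351), (5256, 6259), (5257, 4350), (5258, 6263), (5259, 6264), (5260, 4352), (5261, 6268), (5262, 5754), (5263, 4358), (5264, 4354), (5265, 5522), (5266, 6267), (5267, 4356), (5268, 6279), (5269, 5758), (5270, 6272), (5271, 6273), (5272, 4706), (5273, 4360), (5274, 6286), (5275, 6288), (5276, 6292), (5277, 5952), (5278, 5953), (5279, 6295), (5280, 6296), (5281, 4366), (5282, 6299), (5283, 5283), (5284, 4669), (5285, 4368), (5286, 4369), (5287, 6307), (5288, 4384), (5289, 4375), (5290, 4371), (5291, 4386), (5292, 5292), (5293, 4387), (5294, 4377), (5295, 4378), (5296, 6233), (5297, 6311), (5298, 6312), (5299, 6320), (5300, 6321), (5301, 6327), (5302, 5977), (5303, 6329), (5304, 4382), (5305, 6308), (5306, 6310), (5307, 6238), (5308, 6314), (5309, 6316), (5310,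 6335), (5311, 4389)]
    ⟨e3 q5248 (flp_d L140803) q6245, e3 q5249 (flp_d L140813) q6246, e3 q5250 L140867 q6252, e3 q5251 L131975 q4383, e3 q5252 (flp_d L138714) q6034, e3 q5253 (flp_d L134197) q5518, e3 q5254 L140907 q6256, e3 q5255 L132012 q4351, e3 q5256 L140931 q6259, e3 q5257 (flp_d L132028) q4350, e3 q5258 (flp_d L140979) q6263, e3 q5259 L140981 q6264, e3 q5260 (flp_d L132055) q4352, e3 q5261 (flp_d L141024) q6268, e3 q5262 (flp_d L136251) q5754, e3 q5263 L132083 q4358, e3 q5264 L132091 q4354, e3 q5265 (flp_d L134231) q5522, e3 q5266 (flp_d L141016) q6267, e3 q5267 L132119 q4356, e3 q5268 L141112 q6279, e3 q5269 (flp_d L136284) q5758, e3 q5270 (flp_d L141050) q6272, e3 q5271 (flp_d L141058) q6273, e3 q5272 L132172 q4706, e3 q5273 (flp_d L132176) q4360, e3 q5274 (flp_d L141187) q6286, e3 q5275 (flp_d L141202) q6288, e3 q5276 L141236 q6292, e3 q5277 (flp_d L137858) q5952, e3 q5278 (flp_d L137868) q5953, e3 q5279 L141263 q6295, e3 q5280 L141272 q6296, e3 q5281 (flp_d L132248) q4366,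 e3 q5282 (flp_d L141306) q6299, e3 q5283 L132275 q5283, e3 q5284 L132284 q4669, e3 q5285 L132290 q4368, e3 q5286 (flp_d L132292) q4369, e3 q5287 (flp_d L141369) q6307, e3 q5288 L132313 q4384, e3 q5289 L132323 q4375, e3 q5290 L132329 q4371, e3 q5291 L132335 q4386, e3 q5292 L132343 q5292, e3 q5293 L132350 q4387, e3 q5294 L132356 q4377, e3 q5295 L132362 q4378, e3 q5296 (flp_d L140686) q6233, e3 q5297 (flp_d L141406) q6311, e3 q5298 (flp_d L141414) q6312, e3 q5299 (flp_d L141471) q6320, e3 q5300 (flp_d L141477) q6321, e3 q5301 L141527 q6327, e3 q5302 (flp_d L138088) q5977, e3 q5303 L141549 q6329, e3 q5304 (flp_d L132435) q4382, e3 q5305 (flp_d L141375) q6308, e3 q5306 (flp_d L141398) q6310, e3 q5307 (flp_d L140734) q6238, e3 q5308 (flp_d L141428) q6314, e3 q5309 (flp_d L141443) q6316, e3 q5310 L141601 q6335, e3 q5311 (flp_d L132490) q4389, trivial⟩ (by decide +kernel)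

theorem ce_d_83 : ∀ r, r < 64 → sm gd (Qf (5312 + r)) = Qf (tab Gen.d (5312 + r)) :=
  edges_tab (sm gd) Qf (tab Gen.d) 5312 [(5312, 6336), (5313, 5313), (5314, 4391), (5315, 5315), (5316, 4805), (5317, 5317), (5318, 4678), (5319, 4541), (5320, 6242), (5321, 5321), (5322, 4396), (5323, 5323), (5324, 4414), (5325, 4406), (5326, 4407), (5327, 6244), (5328, 4416), (5329, 5329), (5330, 4417), (5331, 5331), (5332, 5332), (5333, 6357), (5334, 4408), (5335, 4409), (5336, 6360), (5337, 5995), (5338, 6349), (5339, 6358), (5340, 6363), (5341, 4410), (5342, 5919), (5343, 4412), (5344, 5344), (5345, 6364), (5346, 6352), (5347, 6366), (5348, 4418), (5349, 5985), (5350, 5048), (5351, 6368), (5352, 4423), (5353, 6371), (5354, 4424), (5355, 6373), (5356, 5057), (5357, 4430), (5358, 4426), (5359, 5060), (5360, 4428), (5361, 6381), (5362, 5064), (5363, 6377), (5364, 6378), (5365, 4483), (5366, 4432), (5367, 6386), (5368, 6388), (5369, 6392), (5370, 4869), (5371, 4870), (5372, 6395), (5373, 4492), (5374,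 4438), (5375, 4440)]
    ⟨e3 q5312 (flp_d L141610) q6336, e3 q5313 L132519 q5313, e3 q5314 L132524 q4391, e3 q5315 L132532 q5315, e3 q5316 (flp_d L132547) q4805, e3 q5317 L132553 q5317, e3 q5318 L132558 q4678, e3 q5319 L132566 q4541, e3 q5320 (flp_d L140773) q6242, e3 q5321 L132582 q5321, e3 q5322 L132587 q4396, e3 q5323 L132601 q5323, e3 q5324 L132608 q4414, e3 q5325 L132616 q4406, e3 q5326 L132624 q4407, e3 q5327 (flp_d L140795) q6244, e3 q5328 L132640 q4416, e3 q5329 L132652 q5329, e3 q5330 L132659 q4417, e3 q5331 L132667 q5331, e3 q5332 L132672 q5332, e3 q5333 L141794 q6357, e3 q5334 L132683 q4408, e3 q5335 L132689 q4409, e3 q5336 L141812 q6360, e3 q5337 (flp_d L138277) q5995, e3 q5338 (flp_d L141727) q6349, e3 q5339 (flp_d L141802) q6358, e3 q5340 L141851 q6363, e3 q5341 (flp_d L132739) q4410, e3 q5342 (flp_d L137533) q5919, e3 q5343 (flp_d L132761) q4412, e3 q5344 L132774 q5344, e3 q5345 L141861 q6364, e3 q5346 (flp_d L141758) q6352, e3 q5347 L141878 q6366, e3 q5348 (flp_d L132804)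 q4418, e3 q5349 (flp_d L138168) q5985, e3 q5350 L132825 q5048, e3 q5351 L141889 q6368, e3 q5352 (flp_d L132841) q4423, e3 q5353 (flp_d L141919) q6371, e3 q5354 (flp_d L132859) q4424, e3 q5355 (flp_d L141933) q6373, e3 q5356 L132881 q5057, e3 q5357 L132887 q4430, e3 q5358 L132893 q4426, e3 q5359 L132907 q5060, e3 q5360 L132915 q4428, e3 q5361 L141995 q6381, e3 q5362 L132934 q5064, e3 q5363 (flp_d L141961) q6377, e3 q5364 (flp_d L141969) q6378, e3 q5365 L132962 q4483, e3 q5366 (flp_d L132966) q4432, e3 q5367 (flp_d L142042) q6386, e3 q5368 (flp_d L142061) q6388, e3 q5369 L142095 q6392, e3 q5370 L133001 q4869, e3 q5371 L133010 q4870, e3 q5372 L142124 q6395, e3 q5373 L133031 q4492, e3 q5374 L133037 q4438, e3 q5375 L133045 q4440, trivial⟩ (by decide +kernel)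

theorem ce_d_84 : ∀ r, r < 64 → sm gd (Qf (5376 + r)) = Qf (tab Gen.d (5376 + r)) :=
  edges_tab (sm gd) Qf (tab Gen.d) 5376 [(5376, 4451), (5377, 5377), (5378, 4452), (5379, 4445), (5380, 4446), (5381, 4505), (5382, 6405), (5383, 4880), (5384, 6408), (5385, 4450), (5386, 6401), (5387, 4518), (5388, 4526), (5389, 4529), (5390, 5390), (5391, 5391), (5392, 6139), (5393, 4461), (5394, 6338), (5395, 6204), (5396, 4463), (5397, 5397), (5398, 5161), (5399, 6416), (5400, 4466), (5401, 6420), (5402, 5402), (5403, 6396), (5404, 4468), (5405, 6425), (5406, 6418), (5407, 4708), (5408, 4470), (5409, 5412), (5410, 4477), (5411, 4472), (5412, 5409), (5413, 6440), (5414, 5806), (5415, 4481), (5416, 4482), (5417, 6379), (5418, 6447), (5419, 5524), (5420, 6434), (5421, 6435), (5422, 4652), (5423, 4479), (5424, 6454), (5425, 6456), (5426, 6460), (5427, 6444), (5428, 6445), (5429, 6463), (5430, 4485), (5431, 4722), (5432, 4486), (5433, 6465), (5434, 6467), (5435, 6472), (5436, 4487), (5437, 6077), (5438,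 6475), (5439, 4490)]
    ⟨e3 q5376 L133051 q4451, e3 q5377 L133061 q5377, e3 q5378 L133068 q4452, e3 q5379 L133076 q4445, e3 q5380 L133084 q4446, e3 q5381 L133094 q4505, e3 q5382 (flp_d L142216) q6405, e3 q5383 L133110 q4880, e3 q5384 L142238 q6408, e3 q5385 (flp_d L133124) q4450, e3 q5386 (flp_d L142182) q6401, e3 q5387 L133148 q4518, e3 q5388 L133156 q4526, e3 q5389 L133164 q4529, e3 q5390 L133170 q5390, e3 q5391 L133177 q5391, e3 q5392 (flp_d L139681) q6139, e3 q5393 L133188 q4461, e3 q5394 (flp_d L141633) q6338, e3 q5395 (flp_d L140351) q6204, e3 q5396 (flp_d L133206) q4463, e3 q5397 L133223 q5397, e3 q5398 L133230 q5161, e3 q5399 L142311 q6416, e3 q5400 (flp_d L133242) q4466, e3 q5401 (flp_d L142341) q6420, e3 q5402 L133262 q5402, e3 q5403 (flp_d L142139) q6396, e3 q5404 (flp_d L133271) q4468, e3 q5405 (flp_d L142383) q6425, e3 q5406 (flp_d L142329) q6418, e3 q5407 L133297 q4708, e3 q5408 L133303 q4470, e3 q5409 (flp_d L133329) q5412, e3 q5410 L133317 q4477, e3 q5411 L133323 q4472,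 e3 q5412 L133329 q5409, e3 q5413 L142491 q6440, e3 q5414 (flp_d L136623) q5806, e3 q5415 L133347 q4481, e3 q5416 L133353 q4482, e3 q5417 (flp_d L141979) q6379, e3 q5418 L142529 q6447, e3 q5419 (flp_d L134253) q5524, e3 q5420 (flp_d L142447) q6434, e3 q5421 (flp_d L142453) q6435, e3 q5422 L133404 q4652, e3 q5423 (flp_d L133408) q4479, e3 q5424 (flp_d L142599) q6454, e3 q5425 (flp_d L142611) q6456, e3 q5426 L142643 q6460, e3 q5427 (flp_d L142513) q6444, e3 q5428 (flp_d L142519) q6445, e3 q5429 L142669 q6463, e3 q5430 L133468 q4485, e3 q5431 L133475 q4722, e3 q5432 L133481 q4486, e3 q5433 (flp_d L142683) q6465, e3 q5434 (flp_d L142698) q6467, e3 q5435 L142743 q6472, e3 q5436 (flp_d L133512) q4487, e3 q5437 (flp_d L139043) q6077, e3 q5438 L142780 q6475, e3 q5439 (flp_d L133534) q4490, trivial⟩ (by decide +kernel)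

theorem ce_d_85 : ∀ r, r < 64 → sm gd (Qf (5440 + r)) = Qf (tab Gen.d (5440 + r)) :=
  edges_tab (sm gd) Qf (tab Gen.d) 5440 [(5440, 6195), (5441, 6397), (5442, 4674), (5443, 4494), (5444, 4568), (5445, 5445), (5446, 4569), (5447, 4731), (5448, 4732), (5449, 6398), (5450, 4506), (5451, 4507), (5452, 6399), (5453, 4515), (5454, 4602), (5455, 4516), (5456, 4604), (5457, 4605), (5458, 6099), (5459, 4509), (5460, 4510), (5461, 6501), (5462, 6488), (5463, 6489), (5464, 6304), (5465, 6499), (5466, 6505), (5467, 4511), (5468, 5909), (5469, 4513), (5470, 4618), (5471, 6492), (5472, 4682), (5473, 6248), (5474, 4571), (5475, 5475), (5476, 4572), (5477, 5477), (5478, 5478), (5479, 6125), (5480, 4741), (5481, 4742), (5482, 6350), (5483, 4539), (5484, 4540), (5485, 6344), (5486, 4620), (5487, 4548), (5488, 4622), (5489, 4623), (5490, 6006), (5491, 4625), (5492, 4626), (5493, 6525), (5494, 4542), (5495, 6527), (5496, 4538), (5497, 6516), (5498, 6343), (5499, 6011), (5500, 4543), (5501, 4636), (5502,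 6530), (5503, 4550)]
    ⟨e3 q5440 (flp_d L140246) q6195, e3 q5441 (flp_d L142151) q6397, e3 q5442 L133569 q4674, e3 q5443 L133577 q4494, e3 q5444 L133583 q4568, e3 q5445 L133599 q5445, e3 q5446 L133606 q4569, e3 q5447 L133614 q4731, e3 q5448 L133622 q4732, e3 q5449 (flp_d L142161) q6398, e3 q5450 L133638 q4506, e3 q5451 L133646 q4507, e3 q5452 (flp_d L142171) q6399, e3 q5453 L133662 q4515, e3 q5454 L133674 q4602, e3 q5455 L133680 q4516, e3 q5456 L133690 q4604, e3 q5457 L133698 q4605, e3 q5458 (flp_d L139281) q6099, e3 q5459 L133716 q4509, e3 q5460 L133722 q4510, e3 q5461 L143018 q6501, e3 q5462 (flp_d L142908) q6488, e3 q5463 (flp_d L142918) q6489, e3 q5464 (flp_d L141348) q6304, e3 q5465 (flp_d L143008) q6499, e3 q5466 L143058 q6505, e3 q5467 (flp_d L133786) q4511, e3 q5468 (flp_d L137408) q5909, e3 q5469 (flp_d L133803) q4513, e3 q5470 L133818 q4618, e3 q5471 (flp_d L142948) q6492, e3 q5472 L133838 q4682, e3 q5473 (flp_d L140831) q6248, e3 q5474 L133852 q4571, e3 q5475 L133866 q5475,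 e3 q5476 L133871 q4572, e3 q5477 L133879 q5477, e3 q5478 L133886 q5478, e3 q5479 (flp_d L139527) q6125, e3 q5480 L133901 q4741, e3 q5481 L133907 q4742, e3 q5482 (flp_d L141739) q6350, e3 q5483 L133921 q4539, e3 q5484 L133929 q4540, e3 q5485 (flp_d L141687) q6344, e3 q5486 L133947 q4620, e3 q5487 L133953 q4548, e3 q5488 L133961 q4622, e3 q5489 L133967 q4623, e3 q5490 (flp_d L138399) q6006, e3 q5491 L133983 q4625, e3 q5492 L133991 q4626, e3 q5493 L143222 q6525, e3 q5494 L134005 q4542, e3 q5495 L143232 q6527, e3 q5496 (flp_d L134013) q4538, e3 q5497 (flp_d L143156) q6516, e3 q5498 (flp_d L141675) q6343, e3 q5499 (flp_d L138451) q6011, e3 q5500 (flp_d L134047) q4543, e3 q5501 L134057 q4636, e3 q5502 L143255 q6530, e3 q5503 (flp_d L134068) q4550, trivial⟩ (by decide +kernel)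

theorem ce_d_86 : ∀ r, r < 64 → sm gd (Qf (5504 + r)) = Qf (tab Gen.d (5504 + r)) :=
  edges_tab (sm gd) Qf (tab Gen.d) 5504 [(5504, 6534), (5505, 6169), (5506, 6532), (5507, 4751), (5508, 4553), (5509, 5741), (5510, 4755), (5511, 4561), (5512, 6538), (5513, 4565), (5514, 4761), (5515, 4563), (5516, 6539), (5517, 6541), (5518, 5253), (5519, 6479), (5520, 6481), (5521, 6509), (5522, 5265), (5523, 6550), (5524, 5419), (5525, 4574), (5526, 6554), (5527, 6556), (5528, 6560), (5529, 4588), (5530, 4589), (5531, 6563), (5532, 4579), (5533, 6564), (5534, 6566), (5535, 6570), (5536, 4901), (5537, 4902), (5538, 6573), (5539, 4585), (5540, 4774), (5541, 4586), (5542, 6575), (5543, 6577), (5544, 6582), (5545, 4587), (5546, 6561), (5547, 6585), (5548, 4590), (5549, 6574), (5550, 4594), (5551, 4785), (5552, 4595), (5553, 4787), (5554, 6592), (5555, 6588), (5556, 6594), (5557, 4596), (5558, 5708), (5559, 5892), (5560, 4599), (5561, 5714), (5562, 6491), (5563, 4619), (5564, 6493), (5565, 6494), (5566,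 6062), (5567, 6496)]
    ⟨e3 q5504 (flp_d L143292) q6534, e3 q5505 (flp_d L139943) q6169, e3 q5506 (flp_d L143280) q6532, e3 q5507 L134111 q4751, e3 q5508 L134120 q4553, e3 q5509 L136137 q5741, e3 q5510 L134135 q4755, e3 q5511 (flp_d L134141) q4561, e3 q5512 (flp_d L143328) q6538, e3 q5513 L134164 q4565, e3 q5514 L134169 q4761, e3 q5515 L134174 q4563, e3 q5516 (flp_d L143334) q6539, e3 q5517 (flp_d L143355) q6541, e3 q5518 L134197 q5253, e3 q5519 (flp_d L142823) q6479, e3 q5520 (flp_d L142844) q6481, e3 q5521 (flp_d L143102) q6509, e3 q5522 L134231 q5265, e3 q5523 L143424 q6550, e3 q5524 L134253 q5419, e3 q5525 (flp_d L134258) q4574, e3 q5526 (flp_d L143465) q6554, e3 q5527 (flp_d L143480) q6556, e3 q5528 L143511 q6560, e3 q5529 L134295 q4588, e3 q5530 L134306 q4589, e3 q5531 L143540 q6563, e3 q5532 (flp_d L134321) q4579, e3 q5533 (flp_d L143556) q6564, e3 q5534 (flp_d L143574) q6566, e3 q5535 L143609 q6570, e3 q5536 L134362 q4901, e3 q5537 L134374 q4902, e3 q5538 L143642 q6573, e3 q5539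 L134393 q4585, e3 q5540 L134398 q4774, e3 q5541 L134403 q4586, e3 q5542 (flp_d L143662) q6575, e3 q5543 (flp_d L143680) q6577, e3 q5544 L143712 q6582, e3 q5545 (flp_d L134432) q4587, e3 q5546 (flp_d L143524) q6561, e3 q5547 L143734 q6585, e3 q5548 (flp_d L134460) q4590, e3 q5549 (flp_d L143657) q6574, e3 q5550 L134476 q4594, e3 q5551 L134485 q4785, e3 q5552 L134491 q4595, e3 q5553 L134499 q4787, e3 q5554 L143789 q6592, e3 q5555 (flp_d L143759) q6588, e3 q5556 L143813 q6594, e3 q5557 (flp_d L134524) q4596, e3 q5558 (flp_d L135859) q5708, e3 q5559 (flp_d L137232) q5892, e3 q5560 (flp_d L134547) q4599, e3 q5561 (flp_d L135908) q5714, e3 q5562 (flp_d L142940) q6491, e3 q5563 L134580 q4619, e3 q5564 (flp_d L142956) q6493, e3 q5565 (flp_d L142962) q6494, e3 q5566 (flp_d L138936) q6062, e3 q5567 (flp_d L142980) q6496, trivial⟩ (by decide +kernel)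

theorem ce_d_87 : ∀ r, r < 64 → sm gd (Qf (5568 + r)) = Qf (tab Gen.d (5568 + r)) :=
  edges_tab (sm gd) Qf (tab Gen.d) 5568 [(5568, 6497), (5569, 6603), (5570, 4613), (5571, 6605), (5572, 4609), (5573, 4914), (5574, 6608), (5575, 4612), (5576, 5902), (5577, 4614), (5578, 6506), (5579, 6507), (5580, 6518), (5581, 6519), (5582, 5973), (5583, 6128), (5584, 6521), (5585, 6616), (5586, 6523), (5587, 6618), (5588, 4627), (5589, 5913), (5590, 4629), (5591, 6619), (5592, 5912), (5593, 4632), (5594, 6341), (5595, 5742), (5596, 4641), (5597, 6620), (5598, 5685), (5599, 5689), (5600, 5692), (5601, 4646), (5602, 6621), (5603, 4649), (5604, 6624), (5605, 6622), (5606, 6262), (5607, 6627), (5608, 4659), (5609, 6630), (5610, 4719), (5611, 4657), (5612, 6633), (5613, 6635), (5614, 6639), (5615, 6629), (5616, 4713), (5617, 6424), (5618, 4663), (5619, 6287), (5620, 4664), (5621, 6643), (5622, 6645), (5623, 5647), (5624, 4665), (5625, 5625), (5626, 6649), (5627, 4668), (5628, 6303), (5629, 4672), (5630,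 4735), (5631, 4734)]
    ⟨e3 q5568 (flp_d L142990) q6497, e3 q5569 L143897 q6603, e3 q5570 L134641 q4613, e3 q5571 L143914 q6605, e3 q5572 (flp_d L134656) q4609, e3 q5573 L134670 q4914, e3 q5574 L143944 q6608, e3 q5575 (flp_d L134686) q4612, e3 q5576 (flp_d L137332) q5902, e3 q5577 (flp_d L134707) q4614, e3 q5578 (flp_d L143072) q6506, e3 q5579 (flp_d L143076) q6507, e3 q5580 (flp_d L143172) q6518, e3 q5581 (flp_d L143178) q6519, e3 q5582 (flp_d L138055) q5973, e3 q5583 (flp_d L139561) q6128, e3 q5584 (flp_d L143194) q6521, e3 q5585 L144016 q6616, e3 q5586 (flp_d L143210) q6523, e3 q5587 L144033 q6618, e3 q5588 (flp_d L134802) q4627, e3 q5589 (flp_d L137462) q5913, e3 q5590 (flp_d L134816) q4629, e3 q5591 (flp_d L144043) q6619, e3 q5592 (flp_d L137441) q5912, e3 q5593 (flp_d L134842) q4632, e3 q5594 (flp_d L141659) q6341, e3 q5595 L136150 q5742, e3 q5596 (flp_d L134870) q4641, e3 q5597 (flp_d L144050) q6620, e3 q5598 L135642 q5685, e3 q5599 (flp_d L135684) q5689, e3 q5600 (flp_d L135710)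 q5692, e3 q5601 (flp_d L134914) q4646, e3 q5602 L144052 q6621, e3 q5603 (flp_d L134933) q4649, e3 q5604 (flp_d L144087) q6624, e3 q5605 (flp_d L144072) q6622, e3 q5606 (flp_d L140971) q6262, e3 q5607 L144111 q6627, e3 q5608 L134987 q4659, e3 q5609 L144148 q6630, e3 q5610 L135009 q4719, e3 q5611 (flp_d L135014) q4657, e3 q5612 (flp_d L144188) q6633, e3 q5613 (flp_d L144203) q6635, e3 q5614 L144239 q6639, e3 q5615 (flp_d L144141) q6629, e3 q5616 L135065 q4713, e3 q5617 (flp_d L142377) q6424, e3 q5618 L135087 q4663, e3 q5619 (flp_d L141195) q6287, e3 q5620 L135103 q4664, e3 q5621 (flp_d L144288) q6643, e3 q5622 (flp_d L144311) q6645, e3 q5623 L135348 q5647, e3 q5624 (flp_d L135134) q4665, e3 q5625 L135147 q5625, e3 q5626 L144343 q6649, e3 q5627 (flp_d L135159) q4668, e3 q5628 (flp_d L141340) q6303, e3 q5629 L135182 q4672, e3 q5630 L135194 q4735, e3 q5631 L135206 q4734, trivial⟩ (by decide +kernel)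

theorem ce_d_88 : ∀ r, r < 64 → sm gd (Qf (5632 + r)) = Qf (tab Gen.d (5632 + r)) :=
  edges_tab (sm gd) Qf (tab Gen.d) 5632 [(5632, 6477), (5633, 5918), (5634, 4676), (5635, 5635), (5636, 6010), (5637, 6008), (5638, 4686), (5639, 6653), (5640, 4688), (5641, 6654), (5642, 4691), (5643, 6387), (5644, 4692), (5645, 6657), (5646, 6659), (5647, 5623), (5648, 4693), (5649, 5649), (5650, 6663), (5651, 4696), (5652, 6203), (5653, 4698), (5654, 5654), (5655, 4703), (5656, 6665), (5657, 4707), (5658, 6419), (5659, 4705), (5660, 6671), (5661, 6667), (5662, 6429), (5663, 6430), (5664, 4710), (5665, 6676), (5666, 4718), (5667, 4712), (5668, 6679), (5669, 6640), (5670, 4715), (5671, 6455), (5672, 4716), (5673, 6683), (5674, 6685), (5675, 6690), (5676, 4717), (5677, 6632), (5678, 6693), (5679, 4720), (5680, 6682), (5681, 4724), (5682, 6466), (5683, 4725), (5684, 6468), (5685, 5598), (5686, 6696), (5687, 6700), (5688, 4726), (5689, 5599), (5690, 5908), (5691, 4729), (5692, 5600), (5693, 6485), (5694,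 6486), (5695, 5967)]
    ⟨e3 q5632 (flp_d L142807) q6477, e3 q5633 (flp_d L137519) q5918, e3 q5634 (flp_d L135231) q4676, e3 q5635 L135244 q5635, e3 q5636 (flp_d L138439) q6010, e3 q5637 (flp_d L138419) q6008, e3 q5638 (flp_d L135267) q4686, e3 q5639 (flp_d L144393) q6653, e3 q5640 (flp_d L135288) q4688, e3 q5641 (flp_d L144405) q6654, e3 q5642 L135311 q4691, e3 q5643 (flp_d L142052) q6387, e3 q5644 L135323 q4692, e3 q5645 (flp_d L144430) q6657, e3 q5646 (flp_d L144445) q6659, e3 q5647 (flp_d L135348) q5623, e3 q5648 (flp_d L135354) q4693, e3 q5649 L135367 q5649, e3 q5650 L144485 q6663, e3 q5651 (flp_d L135377) q4696, e3 q5652 (flp_d L140337) q6203, e3 q5653 (flp_d L135395) q4698, e3 q5654 L135412 q5654, e3 q5655 (flp_d L135413) q4703, e3 q5656 (flp_d L144505) q6665, e3 q5657 L135433 q4707, e3 q5658 (flp_d L142335) q6419, e3 q5659 L135444 q4705, e3 q5660 L144543 q6671, e3 q5661 (flp_d L144522) q6667, e3 q5662 (flp_d L142409) q6429, e3 q5663 (flp_d L142417) q6430, e3 q5664 (flp_d L135473)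 q4710, e3 q5665 (flp_d L144580) q6676, e3 q5666 L135489 q4718, e3 q5667 (flp_d L135492) q4712, e3 q5668 (flp_d L144598) q6679, e3 q5669 (flp_d L144257) q6640, e3 q5670 L135517 q4715, e3 q5671 (flp_d L142605) q6455, e3 q5672 L135528 q4716, e3 q5673 (flp_d L144631) q6683, e3 q5674 (flp_d L144651) q6685, e3 q5675 L144685 q6690, e3 q5676 (flp_d L135557) q4717, e3 q5677 (flp_d L144176) q6632, e3 q5678 L144704 q6693, e3 q5679 (flp_d L135580) q4720, e3 q5680 (flp_d L144620) q6682, e3 q5681 L135595 q4724, e3 q5682 (flp_d L142692) q6466, e3 q5683 L135616 q4725, e3 q5684 (flp_d L142708) q6468, e3 q5685 (flp_d L135642) q5598, e3 q5686 (flp_d L144725) q6696, e3 q5687 L144767 q6700, e3 q5688 (flp_d L135661) q4726, e3 q5689 L135684 q5599, e3 q5690 (flp_d L137394) q5908, e3 q5691 (flp_d L135695) q4729, e3 q5692 L135710 q5600, e3 q5693 (flp_d L142882) q6485, e3 q5694 (flp_d L142890) q6486, e3 q5695 (flp_d L138000) q5967, trivial⟩ (by decide +kernel)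

theorem ce_d_89 : ∀ r, r < 64 → sm gd (Qf (5696 + r)) = Qf (tab Gen.d (5696 + r)) :=
  edges_tab (sm gd) Qf (tab Gen.d) 5696 [(5696, 4736), (5697, 4801), (5698, 4802), (5699, 6514), (5700, 4746), (5701, 6705), (5702, 4750), (5703, 6533), (5704, 4748), (5705, 6706), (5706, 6536), (5707, 4765), (5708, 5558), (5709, 6537), (5710, 4760), (5711, 6542), (5712, 6543), (5713, 6708), (5714, 5561), (5715, 4767), (5716, 6565), (5717, 4768), (5718, 6715), (5719, 6717), (5720, 6722), (5721, 4769), (5722, 5722), (5723, 6725), (5724, 4772), (5725, 4783), (5726, 4776), (5727, 6576), (5728, 4777), (5729, 6578), (5730, 6732), (5731, 6728), (5732, 6734), (5733, 4778), (5734, 6736), (5735, 5893), (5736, 4781), (5737, 6735), (5738, 6727), (5739, 4789), (5740, 6589), (5741, 5509), (5742, 5595), (5743, 6740), (5744, 4790), (5745, 5901), (5746, 4797), (5747, 6301), (5748, 6703), (5749, 5165), (5750, 5163), (5751, 6742), (5752, 4814), (5753, 6746), (5754, 5262), (5755, 4818), (5756, 4816), (5757, 6753), (5758,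 5269), (5759, 6750)]
    ⟨e3 q5696 (flp_d L135740) q4736, e3 q5697 L135750 q4801, e3 q5698 L135754 q4802, e3 q5699 (flp_d L143142) q6514, e3 q5700 (flp_d L135772) q4746, e3 q5701 (flp_d L144825) q6705, e3 q5702 L135802 q4750, e3 q5703 (flp_d L143287) q6533, e3 q5704 L135811 q4748, e3 q5705 (flp_d L144838) q6706, e3 q5706 (flp_d L143308) q6536, e3 q5707 L135847 q4765, e3 q5708 L135859 q5558, e3 q5709 (flp_d L143321) q6537, e3 q5710 L135877 q4760, e3 q5711 (flp_d L143362) q6542, e3 q5712 (flp_d L143367) q6543, e3 q5713 (flp_d L144858) q6708, e3 q5714 L135908 q5561, e3 q5715 L135917 q4767, e3 q5716 (flp_d L143567) q6565, e3 q5717 L135930 q4768, e3 q5718 (flp_d L144914) q6715, e3 q5719 (flp_d L144936) q6717, e3 q5720 L144972 q6722, e3 q5721 (flp_d L135960) q4769, e3 q5722 L135973 q5722, e3 q5723 L144996 q6725, e3 q5724 (flp_d L135987) q4772, e3 q5725 L136000 q4783, e3 q5726 L136011 q4776, e3 q5727 (flp_d L143675) q6576, e3 q5728 L136031 q4777, e3 q5729 (flp_d L143687) q6578, e3 q5730 L145055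 q6732, e3 q5731 (flp_d L145026) q6728, e3 q5732 L145069 q6734, e3 q5733 (flp_d L136063) q4778, e3 q5734 (flp_d L145088) q6736, e3 q5735 (flp_d L137248) q5893, e3 q5736 (flp_d L136082) q4781, e3 q5737 (flp_d L145083) q6735, e3 q5738 (flp_d L145015) q6727, e3 q5739 L136114 q4789, e3 q5740 (flp_d L143768) q6589, e3 q5741 (flp_d L136137) q5509, e3 q5742 (flp_d L136150) q5595, e3 q5743 L145129 q6740, e3 q5744 (flp_d L136160) q4790, e3 q5745 (flp_d L137319) q5901, e3 q5746 (flp_d L136180) q4797, e3 q5747 L141327 q6301, e3 q5748 (flp_d L144806) q6703, e3 q5749 L136206 q5165, e3 q5750 (flp_d L136222) q5163, e3 q5751 L145147 q6742, e3 q5752 (flp_d L136232) q4814, e3 q5753 (flp_d L145183) q6746, e3 q5754 L136251 q5262, e3 q5755 L136259 q4818, e3 q5756 L136267 q4816, e3 q5757 L145229 q6753, e3 q5758 L136284 q5269, e3 q5759 (flp_d L145211) q6750, trivial⟩ (by decide +kernel)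

theorem ce_d_90 : ∀ r, r < 64 → sm gd (Qf (5760 + r)) = Qf (tab Gen.d (5760 + r)) :=
  edges_tab (sm gd) Qf (tab Gen.d) 5760 [(5760, 6751), (5761, 5947), (5762, 4820), (5763, 6760), (5764, 6762), (5765, 6766), (5766, 6187), (5767, 6225), (5768, 6769), (5769, 5769), (5770, 5770), (5771, 4826), (5772, 4836), (5773, 5773), (5774, 4837), (5775, 4830), (5776, 4831), (5777, 5971), (5778, 6087), (5779, 6778), (5780, 6782), (5781, 6189), (5782, 6784), (5783, 4835), (5784, 6775), (5785, 6787), (5786, 5786), (5787, 5787), (5788, 5999), (5789, 5789), (5790, 6791), (5791, 4848), (5792, 6793), (5793, 6129), (5794, 6795), (5795, 4849), (5796, 6205), (5797, 4851), (5798, 5798), (5799, 4853), (5800, 4854), (5801, 6800), (5802, 6798), (5803, 5803), (5804, 4856), (5805, 6806), (5806, 5414), (5807, 4862), (5808, 4863), (5809, 6057), (5810, 4860), (5811, 6813), (5812, 6815), (5813, 6819), (5814, 6810), (5815, 6811), (5816, 6822), (5817, 4866), (5818, 5818), (5819, 4867), (5820, 6824), (5821, 6826), (5822,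 6831), (5823, 4868)]
    ⟨e3 q5760 (flp_d L145219) q6751, e3 q5761 (flp_d L137818) q5947, e3 q5762 (flp_d L136314) q4820, e3 q5763 (flp_d L145298) q6760, e3 q5764 (flp_d L145320) q6762, e3 q5765 L145358 q6766, e3 q5766 L140155 q6187, e3 q5767 (flp_d L140605) q6225, e3 q5768 L145387 q6769, e3 q5769 L136381 q5769, e3 q5770 L136388 q5770, e3 q5771 L136393 q4826, e3 q5772 L136397 q4836, e3 q5773 L136405 q5773, e3 q5774 L136412 q4837, e3 q5775 L136418 q4830, e3 q5776 L136424 q4831, e3 q5777 (flp_d L138034) q5971, e3 q5778 (flp_d L139157) q6087, e3 q5779 (flp_d L145454) q6778, e3 q5780 L145483 q6782, e3 q5781 (flp_d L140169) q6189, e3 q5782 L145497 q6784, e3 q5783 (flp_d L136473) q4835, e3 q5784 (flp_d L145433) q6775, e3 q5785 L145523 q6787, e3 q5786 L136498 q5786, e3 q5787 L136503 q5787, e3 q5788 (flp_d L138314) q5999, e3 q5789 L136516 q5789, e3 q5790 L145548 q6791, e3 q5791 L136527 q4848, e3 q5792 L145558 q6793, e3 q5793 (flp_d L139575) q6129, e3 q5794 L145574 q6795, e3 q5795 (flp_d L136556)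 q4849, e3 q5796 (flp_d L140371) q6205, e3 q5797 (flp_d L136570) q4851, e3 q5798 L136581 q5798, e3 q5799 (flp_d L136582) q4853, e3 q5800 (flp_d L136585) q4854, e3 q5801 (flp_d L145606) q6800, e3 q5802 (flp_d L145593) q6798, e3 q5803 L136608 q5803, e3 q5804 L136613 q4856, e3 q5805 L145638 q6806, e3 q5806 L136623 q5414, e3 q5807 L136629 q4862, e3 q5808 L136635 q4863, e3 q5809 (flp_d L138895) q6057, e3 q5810 (flp_d L136643) q4860, e3 q5811 (flp_d L145682) q6813, e3 q5812 (flp_d L145695) q6815, e3 q5813 L145727 q6819, e3 q5814 (flp_d L145662) q6810, e3 q5815 (flp_d L145668) q6811, e3 q5816 L145753 q6822, e3 q5817 L136701 q4866, e3 q5818 L136710 q5818, e3 q5819 L136715 q4867, e3 q5820 (flp_d L145768) q6824, e3 q5821 (flp_d L145782) q6826, e3 q5822 L145833 q6831, e3 q5823 (flp_d L136746) q4868, trivial⟩ (by decide +kernel)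

theorem ce_d_91 : ∀ r, r < 64 → sm gd (Qf (5824 + r)) = Qf (tab Gen.d (5824 + r)) :=
  edges_tab (sm gd) Qf (tab Gen.d) 5824 [(5824, 6393), (5825, 6834), (5826, 4871), (5827, 5827), (5828, 5828), (5829, 6091), (5830, 4877), (5831, 4878), (5832, 6840), (5833, 6838), (5834, 6842), (5835, 4879), (5836, 6844), (5837, 4881), (5838, 4919), (5839, 5839), (5840, 6849), (5841, 4889), (5842, 6851), (5843, 4888), (5844, 6853), (5845, 4890), (5846, 4922), (5847, 4892), (5848, 4924), (5849, 6855), (5850, 4926), (5851, 5851), (5852, 4896), (5853, 4898), (5854, 5854), (5855, 4899), (5856, 6862), (5857, 6864), (5858, 6869), (5859, 4900), (5860, 6571), (5861, 6872), (5862, 4903), (5863, 6861), (5864, 4907), (5865, 5865), (5866, 4908), (5867, 5867), (5868, 6879), (5869, 6875), (5870, 6881), (5871, 4909), (5872, 6883), (5873, 6884), (5874, 4912), (5875, 6882), (5876, 6888), (5877, 4915), (5878, 6843), (5879, 4917), (5880, 6845), (5881, 6890), (5882, 6847), (5883, 4920), (5884, 6854), (5885, 4925), (5886,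 6856), (5887, 6208)]
    ⟨e3 q5824 (flp_d L142111) q6393, e3 q5825 L145869 q6834, e3 q5826 (flp_d L136768) q4871, e3 q5827 L136778 q5827, e3 q5828 L136785 q5828, e3 q5829 (flp_d L139191) q6091, e3 q5830 L136798 q4877, e3 q5831 L136804 q4878, e3 q5832 L145919 q6840, e3 q5833 (flp_d L145909) q6838, e3 q5834 L145936 q6842, e3 q5835 (flp_d L136835) q4879, e3 q5836 L145950 q6844, e3 q5837 (flp_d L136850) q4881, e3 q5838 L136863 q4919, e3 q5839 L136867 q5839, e3 q5840 L145992 q6849, e3 q5841 L136878 q4889, e3 q5842 L146001 q6851, e3 q5843 (flp_d L136886) q4888, e3 q5844 L146011 q6853, e3 q5845 (flp_d L136899) q4890, e3 q5846 L136907 q4922, e3 q5847 (flp_d L136909) q4892, e3 q5848 L136920 q4924, e3 q5849 (flp_d L146026) q6855, e3 q5850 L136927 q4926, e3 q5851 L136936 q5851, e3 q5852 L136940 q4896, e3 q5853 L136945 q4898, e3 q5854 L136952 q5854, e3 q5855 L136956 q4899, e3 q5856 (flp_d L146080) q6862, e3 q5857 (flp_d L146091) q6864, e3 q5858 L146125 q6869, e3 q5859 (flp_d L136985) q4900, e3 q5860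 (flp_d L143625) q6571, e3 q5861 L146146 q6872, e3 q5862 (flp_d L137013) q4903, e3 q5863 (flp_d L146073) q6861, e3 q5864 L137030 q4907, e3 q5865 L137039 q5865, e3 q5866 L137044 q4908, e3 q5867 L137052 q5867, e3 q5868 L146202 q6879, e3 q5869 (flp_d L146171) q6875, e3 q5870 L146225 q6881, e3 q5871 (flp_d L137079) q4909, e3 q5872 (flp_d L146255) q6883, e3 q5873 L146257 q6884, e3 q5874 (flp_d L137101) q4912, e3 q5875 (flp_d L146240) q6882, e3 q5876 L146294 q6888, e3 q5877 (flp_d L137126) q4915, e3 q5878 (flp_d L145948) q6843, e3 q5879 (flp_d L137139) q4917, e3 q5880 (flp_d L145965) q6845, e3 q5881 (flp_d L146313) q6890, e3 q5882 (flp_d L145974) q6847, e3 q5883 (flp_d L137169) q4920, e3 q5884 (flp_d L146021) q6854, e3 q5885 L137184 q4925, e3 q5886 (flp_d L146030) q6856, e3 q5887 L140409 q6208, trivial⟩ (by decide +kernel)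

theorem ce_d_92 : ∀ r, r < 64 → sm gd (Qf (5888 + r)) = Qf (tab Gen.d (5888 + r)) :=
  edges_tab (sm gd) Qf (tab Gen.d) 5888 [(5888, 5915), (5889, 6032), (5890, 5928), (5891, 6857), (5892, 5559), (5893, 5735), (5894, 4929), (5895, 6878), (5896, 6193), (5897, 5897), (5898, 5898), (5899, 5899), (5900, 4935), (5901, 5745), (5902, 5576), (5903, 5903), (5904, 5904), (5905, 5905), (5906, 6887), (5907, 4942), (5908, 5690), (5909, 5468), (5910, 5910), (5911, 5911), (5912, 5592), (5913, 5589), (5914, 5914), (5915, 5888), (5916, 4951), (5917, 5917), (5918, 5633), (5919, 5342), (5920, 5141), (5921, 5921), (5922, 5922), (5923, 5923), (5924, 5924), (5925, 5925), (5926, 6899), (5927, 5927), (5928, 5890), (5929, 4964), (5930, 6920), (5931, 4968), (5932, 6923), (5933, 4967), (5934, 6927), (5935, 6928), (5936, 4969), (5937, 6932), (5938, 6215), (5939, 4975), (5940, 4971), (5941, 6931), (5942, 4973), (5943, 6941), (5944, 6219), (5945, 6936), (5946, 6937), (5947, 5761), (5948, 4977), (5949, 6948), (5950,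 6828), (5951, 6832)]
    ⟨e3 q5888 L137490 q5915, e3 q5889 L138692 q6032, e3 q5890 L138613 q5928, e3 q5891 (flp_d L146037) q6857, e3 q5892 L137232 q5559, e3 q5893 L137248 q5735, e3 q5894 L137255 q4929, e3 q5895 L146200 q6878, e3 q5896 (flp_d L140217) q6193, e3 q5897 L137281 q5897, e3 q5898 L137288 q5898, e3 q5899 L137298 q5899, e3 q5900 L137306 q4935, e3 q5901 L137319 q5745, e3 q5902 L137332 q5576, e3 q5903 L137346 q5903, e3 q5904 L137354 q5904, e3 q5905 L137365 q5905, e3 q5906 (flp_d L146284) q6887, e3 q5907 L137384 q4942, e3 q5908 L137394 q5690, e3 q5909 L137408 q5468, e3 q5910 L137422 q5910, e3 q5911 L137434 q5911, e3 q5912 L137441 q5592, e3 q5913 L137462 q5589, e3 q5914 L137470 q5914, e3 q5915 (flp_d L137490) q5888, e3 q5916 (flp_d L137492) q4951, e3 q5917 L137513 q5917, e3 q5918 L137519 q5633, e3 q5919 L137533 q5342, e3 q5920 L137549 q5141, e3 q5921 L137558 q5921, e3 q5922 L137572 q5922, e3 q5923 L137589 q5923, e3 q5924 L137595 q5924, e3 q5925 L137609 q5925, e3 q5926 (flp_d L146402)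 q6899, e3 q5927 L137629 q5927, e3 q5928 (flp_d L138613) q5890, e3 q5929 (flp_d L137641) q4964, e3 q5930 L146661 q6920, e3 q5931 L137663 q4968, e3 q5932 L146692 q6923, e3 q5933 (flp_d L137680) q4967, e3 q5934 (flp_d L146736) q6927, e3 q5935 L146740 q6928, e3 q5936 (flp_d L137712) q4969, e3 q5937 (flp_d L146787) q6932, e3 q5938 (flp_d L140496) q6215, e3 q5939 L137744 q4975, e3 q5940 L137752 q4971, e3 q5941 (flp_d L146777) q6931, e3 q5942 L137773 q4973, e3 q5943 L146865 q6941, e3 q5944 (flp_d L140540) q6219, e3 q5945 (flp_d L146817) q6936, e3 q5946 (flp_d L146827) q6937, e3 q5947 L137818 q5761, e3 q5948 (flp_d L137821) q4977, e3 q5949 (flp_d L146931) q6948, e3 q5950 L145813 q6828, e3 q5951 (flp_d L145859) q6832, trivial⟩ (by decide +kernel)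

theorem ce_d_93 : ∀ r, r < 64 → sm gd (Qf (5952 + r)) = Qf (tab Gen.d (5952 + r)) :=
  edges_tab (sm gd) Qf (tab Gen.d) 5952 [(5952, 5277), (5953, 5278), (5954, 6835), (5955, 6953), (5956, 4983), (5957, 6957), (5958, 5958), (5959, 5959), (5960, 4985), (5961, 4986), (5962, 6966), (5963, 5002), (5964, 4992), (5965, 4988), (5966, 5004), (5967, 5695), (5968, 5005), (5969, 4994), (5970, 4995), (5971, 5777), (5972, 6969), (5973, 5582), (5974, 6977), (5975, 6978), (5976, 6983), (5977, 5302), (5978, 6985), (5979, 4999), (5980, 6964), (5981, 5981), (5982, 5001), (5983, 6967), (5984, 6968), (5985, 5349), (5986, 6971), (5987, 6973), (5988, 6995), (5989, 5007), (5990, 6996), (5991, 5991), (5992, 5992), (5993, 5009), (5994, 5994), (5995, 5337), (5996, 5996), (5997, 5997), (5998, 5998), (5999, 5788), (6000, 5032), (6001, 6001), (6002, 5014), (6003, 5035), (6004, 5036), (6005, 5024), (6006, 5490), (6007, 5038), (6008, 5637), (6009, 5039), (6010, 5636), (6011, 5499), (6012, 7019), (6013, 5026), (6014,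 5027), (6015, 7022)]
    ⟨e3 q5952 L137858 q5277, e3 q5953 L137868 q5278, e3 q5954 (flp_d L145886) q6835, e3 q5955 L146969 q6953, e3 q5956 (flp_d L137893) q4983, e3 q5957 (flp_d L147026) q6957, e3 q5958 L137919 q5958, e3 q5959 L137926 q5959, e3 q5960 L137931 q4985, e3 q5961 (flp_d L137935) q4986, e3 q5962 (flp_d L147121) q6966, e3 q5963 L137962 q5002, e3 q5964 L137974 q4992, e3 q5965 L137982 q4988, e3 q5966 L137988 q5004, e3 q5967 L138000 q5695, e3 q5968 L138008 q5005, e3 q5969 L138016 q4994, e3 q5970 L138024 q4995, e3 q5971 L138034 q5777, e3 q5972 (flp_d L147153) q6969, e3 q5973 L138055 q5582, e3 q5974 (flp_d L147233) q6977, e3 q5975 (flp_d L147245) q6978, e3 q5976 L147297 q6983, e3 q5977 L138088 q5302, e3 q5978 L147316 q6985, e3 q5979 (flp_d L138100) q4999, e3 q5980 (flp_d L147100) q6964, e3 q5981 L138132 q5981, e3 q5982 L138139 q5001, e3 q5983 (flp_d L147129) q6967, e3 q5984 (flp_d L147141) q6968, e3 q5985 L138168 q5349, e3 q5986 (flp_d L147171) q6971, e3 q5987 (flp_d L147189) q6973,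 e3 q5988 L147431 q6995, e3 q5989 (flp_d L138193) q5007, e3 q5990 (flp_d L147446) q6996, e3 q5991 L138230 q5991, e3 q5992 L138243 q5992, e3 q5993 L138250 q5009, e3 q5994 L138256 q5994, e3 q5995 L138277 q5337, e3 q5996 L138285 q5996, e3 q5997 L138294 q5997, e3 q5998 L138305 q5998, e3 q5999 L138314 q5788, e3 q6000 L138328 q5032, e3 q6001 L138342 q6001, e3 q6002 L138349 q5014, e3 q6003 L138357 q5035, e3 q6004 L138373 q5036, e3 q6005 L138385 q5024, e3 q6006 L138399 q5490, e3 q6007 L138405 q5038, e3 q6008 L138419 q5637, e3 q6009 L138429 q5039, e3 q6010 L138439 q5636, e3 q6011 L138451 q5499, e3 q6012 L147714 q7019, e3 q6013 L138469 q5026, e3 q6014 L138481 q5027, e3 q6015 L147744 q7022, trivial⟩ (by decide +kernel)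

theorem ce_d_94 : ∀ r, r < 64 → sm gd (Qf (6016 + r)) = Qf (tab Gen.d (6016 + r)) :=
  edges_tab (sm gd) Qf (tab Gen.d) 6016 [(6016, 7023), (6017, 7020), (6018, 7024), (6019, 5028), (6020, 6916), (6021, 5030), (6022, 6896), (6023, 7006), (6024, 6024), (6025, 5047), (6026, 7009), (6027, 7010), (6028, 7028), (6029, 7014), (6030, 7030), (6031, 5040), (6032, 5889), (6033, 5147), (6034, 5252), (6035, 6989), (6036, 6177), (6037, 7035), (6038, 5049), (6039, 7039), (6040, 6040), (6041, 7041), (6042, 5051), (6043, 7045), (6044, 7037), (6045, 6045), (6046, 5053), (6047, 5054), (6048, 7054), (6049, 6372), (6050, 5061), (6051, 5056), (6052, 6374), (6053, 7064), (6054, 6376), (6055, 5065), (6056, 5066), (6057, 5809), (6058, 7071), (6059, 6380), (6060, 7058), (6061, 7059), (6062, 5566), (6063, 5063), (6064, 7078), (6065, 7080), (6066, 7084), (6067, 7068), (6068, 7069), (6069, 7087), (6070, 5069), (6071, 6071), (6072, 5070), (6073, 7089), (6074, 7091), (6075, 6765), (6076, 5071), (6077, 5437), (6078,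 7095), (6079, 5074)]
    ⟨e3 q6016 L147752 q7023, e3 q6017 (flp_d L147728) q7020, e3 q6018 L147765 q7024, e3 q6019 (flp_d L138533) q5028, e3 q6020 (flp_d L146620) q6916, e3 q6021 (flp_d L138552) q5030, e3 q6022 (flp_d L146374) q6896, e3 q6023 (flp_d L147565) q7006, e3 q6024 L138589 q6024, e3 q6025 L138610 q5047, e3 q6026 (flp_d L147600) q7009, e3 q6027 (flp_d L147616) q7010, e3 q6028 L147812 q7028, e3 q6029 (flp_d L147664) q7014, e3 q6030 L147832 q7030, e3 q6031 (flp_d L138670) q5040, e3 q6032 (flp_d L138692) q5889, e3 q6033 L138700 q5147, e3 q6034 L138714 q5252, e3 q6035 (flp_d L147379) q6989, e3 q6036 (flp_d L140019) q6177, e3 q6037 L147892 q7035, e3 q6038 (flp_d L138743) q5049, e3 q6039 (flp_d L147924) q7039, e3 q6040 L138770 q6040, e3 q6041 L147941 q7041, e3 q6042 (flp_d L138780) q5051, e3 q6043 (flp_d L147984) q7045, e3 q6044 (flp_d L147913) q7037, e3 q6045 L138809 q6045, e3 q6046 L138814 q5053, e3 q6047 (flp_d L138818) q5054, e3 q6048 (flp_d L148057) q7054, e3 q6049 (flp_d L141927)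 q6372, e3 q6050 L138847 q5061, e3 q6051 L138853 q5056, e3 q6052 (flp_d L141939) q6374, e3 q6053 L148135 q7064, e3 q6054 (flp_d L141953) q6376, e3 q6055 L138877 q5065, e3 q6056 L138885 q5066, e3 q6057 L138895 q5809, e3 q6058 L148181 q7071, e3 q6059 (flp_d L141988) q6380, e3 q6060 (flp_d L148091) q7058, e3 q6061 (flp_d L148101) q7059, e3 q6062 L138936 q5566, e3 q6063 (flp_d L138939) q5063, e3 q6064 (flp_d L148244) q7078, e3 q6065 (flp_d L148253) q7080, e3 q6066 L148280 q7084, e3 q6067 (flp_d L148161) q7068, e3 q6068 (flp_d L148169) q7069, e3 q6069 L148305 q7087, e3 q6070 L138992 q5069, e3 q6071 L139000 q6071, e3 q6072 L139006 q5070, e3 q6073 (flp_d L148322) q7089, e3 q6074 (flp_d L148338) q7091, e3 q6075 (flp_d L145355) q6765, e3 q6076 (flp_d L139032) q5071, e3 q6077 L139043 q5437, e3 q6078 L148366 q7095, e3 q6079 (flp_d L139055) q5074, trivial⟩ (by decide +kernel)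

theorem ce_d_95 : ∀ r, r < 64 → sm gd (Qf (6080 + r)) = Qf (tab Gen.d (6080 + r)) :=
  edges_tab (sm gd) Qf (tab Gen.d) 6080 [(6080, 5194), (6081, 5076), (6082, 7097), (6083, 5168), (6084, 6084), (6085, 5078), (6086, 5171), (6087, 5778), (6088, 5173), (6089, 6089), (6090, 6090), (6091, 5829), (6092, 6092), (6093, 5083), (6094, 5102), (6095, 6095), (6096, 5103), (6097, 5093), (6098, 5094), (6099, 5458), (6100, 5104), (6101, 6101), (6102, 5105), (6103, 6103), (6104, 6104), (6105, 7112), (6106, 5096), (6107, 5097), (6108, 7131), (6109, 7118), (6110, 7119), (6111, 7134), (6112, 7129), (6113, 7136), (6114, 5098), (6115, 6914), (6116, 5100), (6117, 6117), (6118, 7113), (6119, 7115), (6120, 7122), (6121, 5201), (6122, 5108), (6123, 5180), (6124, 6124), (6125, 5479), (6126, 5182), (6127, 5183), (6128, 5583), (6129, 5793), (6130, 7139), (6131, 6131), (6132, 6132), (6133, 7148), (6134, 6134), (6135, 5131), (6136, 5144), (6137, 5145), (6138, 6138), (6139, 5392), (6140, 5135), (6141, 5136), (6142,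 7155), (6143, 6143)]
    ⟨e3 q6080 (flp_d L139076) q5194, e3 q6081 (flp_d L139078) q5076, e3 q6082 (flp_d L148396) q7097, e3 q6083 L139114 q5168, e3 q6084 L139128 q6084, e3 q6085 L139135 q5078, e3 q6086 L139141 q5171, e3 q6087 L139157 q5778, e3 q6088 L139165 q5173, e3 q6089 L139173 q6089, e3 q6090 L139182 q6090, e3 q6091 L139191 q5829, e3 q6092 L139205 q6092, e3 q6093 L139214 q5083, e3 q6094 L139222 q5102, e3 q6095 L139238 q6095, e3 q6096 L139247 q5103, e3 q6097 L139259 q5093, e3 q6098 L139269 q5094, e3 q6099 L139281 q5458, e3 q6100 L139285 q5104, e3 q6101 L139295 q6101, e3 q6102 L139300 q5105, e3 q6103 L139310 q6103, e3 q6104 L139319 q6104, e3 q6105 (flp_d L148578) q7112, e3 q6106 L139334 q5096, e3 q6107 L139342 q5097, e3 q6108 L148767 q7131, e3 q6109 (flp_d L148648) q7118, e3 q6110 (flp_d L148662) q7119, e3 q6111 L148798 q7134, e3 q6112 (flp_d L148753) q7129, e3 q6113 L148819 q7136, e3 q6114 (flp_d L139400) q5098, e3 q6115 (flp_d L146593) q6914, e3 q6116 (flp_d L139416) q5100, e3 q6117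 L139435 q6117, e3 q6118 (flp_d L148582) q7113, e3 q6119 (flp_d L148611) q7115, e3 q6120 (flp_d L148693) q7122, e3 q6121 L139477 q5201, e3 q6122 L139490 q5108, e3 q6123 L139504 q5180, e3 q6124 L139516 q6124, e3 q6125 L139527 q5479, e3 q6126 L139533 q5182, e3 q6127 L139547 q5183, e3 q6128 L139561 q5583, e3 q6129 L139575 q5793, e3 q6130 (flp_d L148859) q7139, e3 q6131 L139595 q6131, e3 q6132 L139604 q6132, e3 q6133 L148962 q7148, e3 q6134 L139619 q6134, e3 q6135 L139634 q5131, e3 q6136 L139638 q5144, e3 q6137 L139652 q5145, e3 q6138 L139666 q6138, e3 q6139 L139681 q5392, e3 q6140 L139689 q5135, e3 q6141 L139703 q5136, e3 q6142 L149047 q7155, e3 q6143 L139723 q6143, trivial⟩ (by decide +kernel)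

theorem ce_d_96 : ∀ r, r < 64 → sm gd (Qf (6144 + r)) = Qf (tab Gen.d (6144 + r)) :=
  edges_tab (sm gd) Qf (tab Gen.d) 6144 [(6144, 5146), (6145, 6145), (6146, 6146), (6147, 7008), (6148, 6148), (6149, 6149), (6150, 7163), (6151, 5138), (6152, 7165), (6153, 5134), (6154, 7153), (6155, 7167), (6156, 5137), (6157, 7031), (6158, 5139), (6159, 6159), (6160, 7150), (6161, 6738), (6162, 7171), (6163, 5149), (6164, 7175), (6165, 5156), (6166, 6166), (6167, 5151), (6168, 5185), (6169, 5505), (6170, 7173), (6171, 6171), (6172, 5155), (6173, 7176), (6174, 7190), (6175, 7178), (6176, 6176), (6177, 6036), (6178, 6739), (6179, 6254), (6180, 7192), (6181, 5162), (6182, 5190), (6183, 7098), (6184, 7099), (6185, 6185), (6186, 7102), (6187, 5766), (6188, 7104), (6189, 5781), (6190, 7142), (6191, 7182), (6192, 6591), (6193, 5896), (6194, 6194), (6195, 5440), (6196, 5193), (6197, 7040), (6198, 7096), (6199, 6199), (6200, 5197), (6201, 5244), (6202, 6202), (6203, 5652), (6204, 5395), (6205, 5796), (6206,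 6206), (6207, 6207)]
    ⟨e3 q6144 L139728 q5146, e3 q6145 L139738 q6145, e3 q6146 L139749 q6146, e3 q6147 (flp_d L147594) q7008, e3 q6148 L139766 q6148, e3 q6149 L139777 q6149, e3 q6150 L149127 q7163, e3 q6151 L139790 q5138, e3 q6152 L149136 q7165, e3 q6153 (flp_d L139802) q5134, e3 q6154 (flp_d L149027) q7153, e3 q6155 L149148 q7167, e3 q6156 (flp_d L139831) q5137, e3 q6157 (flp_d L147852) q7031, e3 q6158 (flp_d L139850) q5139, e3 q6159 L139860 q6159, e3 q6160 (flp_d L148985) q7150, e3 q6161 L145110 q6738, e3 q6162 L149185 q7171, e3 q6163 (flp_d L139893) q5149, e3 q6164 (flp_d L149225) q7175, e3 q6165 L139913 q5156, e3 q6166 L139918 q6166, e3 q6167 L139922 q5151, e3 q6168 L139936 q5185, e3 q6169 L139943 q5505, e3 q6170 (flp_d L149214) q7173, e3 q6171 L139969 q6171, e3 q6172 L139977 q5155, e3 q6173 (flp_d L149231) q7176, e3 q6174 L149378 q7190, e3 q6175 (flp_d L149251) q7178, e3 q6176 L140013 q6176, e3 q6177 L140019 q6036, e3 q6178 L145127 q6739, e3 q6179 (flp_d L140890) q6254, e3 q6180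 L149395 q7192, e3 q6181 (flp_d L140068) q5162, e3 q6182 L140082 q5190, e3 q6183 (flp_d L148406) q7098, e3 q6184 (flp_d L148424) q7099, e3 q6185 L140123 q6185, e3 q6186 (flp_d L148457) q7102, e3 q6187 (flp_d L140155) q5766, e3 q6188 (flp_d L148485) q7104, e3 q6189 L140169 q5781, e3 q6190 (flp_d L148895) q7142, e3 q6191 (flp_d L149283) q7182, e3 q6192 (flp_d L143785) q6591, e3 q6193 L140217 q5896, e3 q6194 L140229 q6194, e3 q6195 L140246 q5440, e3 q6196 L140254 q5193, e3 q6197 L147939 q7040, e3 q6198 (flp_d L148381) q7096, e3 q6199 L140286 q6199, e3 q6200 L140294 q5197, e3 q6201 L140309 q5244, e3 q6202 L140331 q6202, e3 q6203 L140337 q5652, e3 q6204 L140351 q5395, e3 q6205 L140371 q5796, e3 q6206 L140385 q6206, e3 q6207 L140393 q6207, trivial⟩ (by decide +kernel)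

theorem ce_d_97 : ∀ r, r < 64 → sm gd (Qf (6208 + r)) = Qf (tab Gen.d (6208 + r)) :=
  edges_tab (sm gd) Qf (tab Gen.d) 6208 [(6208, 5887), (6209, 5207), (6210, 7203), (6211, 5209), (6212, 7206), (6213, 5210), (6214, 7208), (6215, 5938), (6216, 5215), (6217, 5212), (6218, 7214), (6219, 5944), (6220, 7212), (6221, 5217), (6222, 7216), (6223, 6469), (6224, 6473), (6225, 5767), (6226, 6476), (6227, 5223), (6228, 5232), (6229, 5225), (6230, 5234), (6231, 5235), (6232, 5229), (6233, 5296), (6234, 7196), (6235, 5231), (6236, 7220), (6237, 7221), (6238, 5307), (6239, 7223), (6240, 7224), (6241, 7231), (6242, 5320), (6243, 5246), (6244, 5327), (6245, 5248), (6246, 5249), (6247, 7235), (6248, 5473), (6249, 7236), (6250, 7233), (6251, 7238), (6252, 5250), (6253, 7032), (6254, 6179), (6255, 7241), (6256, 5254), (6257, 7245), (6258, 7246), (6259, 5256), (6260, 7249), (6261, 7243), (6262, 5606), (6263, 5258), (6264, 5259), (6265, 7258), (6266, 6437), (6267, 5266), (6268, 5261), (6269, 6747), (6270,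 7268), (6271, 6749)]
    ⟨e3 q6208 (flp_d L140409) q5887, e3 q6209 (flp_d L140411) q5207, e3 q6210 L149548 q7203, e3 q6211 (flp_d L140436) q5209, e3 q6212 (flp_d L149594) q7206, e3 q6213 (flp_d L140464) q5210, e3 q6214 (flp_d L149620) q7208, e3 q6215 L140496 q5938, e3 q6216 L140508 q5215, e3 q6217 L140516 q5212, e3 q6218 L149676 q7214, e3 q6219 L140540 q5944, e3 q6220 (flp_d L149660) q7212, e3 q6221 (flp_d L140560) q5217, e3 q6222 (flp_d L149708) q7216, e3 q6223 L142722 q6469, e3 q6224 (flp_d L142769) q6473, e3 q6225 L140605 q5767, e3 q6226 (flp_d L142797) q6476, e3 q6227 L140624 q5223, e3 q6228 L140642 q5232, e3 q6229 L140648 q5225, e3 q6230 L140656 q5234, e3 q6231 L140666 q5235, e3 q6232 L140674 q5229, e3 q6233 L140686 q5296, e3 q6234 (flp_d L149454) q7196, e3 q6235 (flp_d L140700) q5231, e3 q6236 (flp_d L149746) q7220, e3 q6237 (flp_d L149760) q7221, e3 q6238 L140734 q5307, e3 q6239 (flp_d L149780) q7223, e3 q6240 (flp_d L149790) q7224, e3 q6241 L149852 q7231, e3 q6242 L140773 q5320,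 e3 q6243 L140781 q5246, e3 q6244 L140795 q5327, e3 q6245 L140803 q5248, e3 q6246 L140813 q5249, e3 q6247 L149889 q7235, e3 q6248 L140831 q5473, e3 q6249 L149897 q7236, e3 q6250 (flp_d L149877) q7233, e3 q6251 L149921 q7238, e3 q6252 (flp_d L140867) q5250, e3 q6253 (flp_d L147866) q7032, e3 q6254 L140890 q6179, e3 q6255 L149954 q7241, e3 q6256 (flp_d L140907) q5254, e3 q6257 (flp_d L149992) q7245, e3 q6258 L149994 q7246, e3 q6259 (flp_d L140931) q5256, e3 q6260 (flp_d L150032) q7249, e3 q6261 (flp_d L149978) q7243, e3 q6262 L140971 q5606, e3 q6263 L140979 q5258, e3 q6264 (flp_d L140981) q5259, e3 q6265 (flp_d L150111) q7258, e3 q6266 (flp_d L142469) q6437, e3 q6267 L141016 q5266, e3 q6268 L141024 q5261, e3 q6269 (flp_d L145187) q6747, e3 q6270 L150193 q7268, e3 q6271 (flp_d L145203) q6749, trivial⟩ (by decide +kernel)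

theorem ce_d_98 : ∀ r, r < 64 → sm gd (Qf (6272 + r)) = Qf (tab Gen.d (6272 + r)) :=
  edges_tab (sm gd) Qf (tab Gen.d) 6272 [(6272, 5270), (6273, 5271), (6274, 7213), (6275, 7275), (6276, 6549), (6277, 7262), (6278, 7263), (6279, 5268), (6280, 7280), (6281, 7282), (6282, 7286), (6283, 7272), (6284, 7273), (6285, 7289), (6286, 5274), (6287, 5619), (6288, 5275), (6289, 7291), (6290, 7293), (6291, 6391), (6292, 5276), (6293, 6951), (6294, 7297), (6295, 5279), (6296, 5280), (6297, 7298), (6298, 6298), (6299, 5282), (6300, 6300), (6301, 5747), (6302, 6302), (6303, 5628), (6304, 5464), (6305, 7219), (6306, 6306), (6307, 5287), (6308, 5305), (6309, 6309), (6310, 5306), (6311, 5297), (6312, 5298), (6313, 7222), (6314, 5308), (6315, 6315), (6316, 5309), (6317, 6317), (6318, 6318), (6319, 7324), (6320, 5299), (6321, 5300), (6322, 7327), (6323, 6959), (6324, 7315), (6325, 7325), (6326, 7330), (6327, 5301), (6328, 6915), (6329, 5303), (6330, 6330), (6331, 7312), (6332, 7332), (6333, 7318), (6334,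 7334), (6335, 5310)]
    ⟨e3 q6272 L141050 q5270, e3 q6273 L141058 q5271, e3 q6274 (flp_d L149674) q7213, e3 q6275 L150245 q7275, e3 q6276 (flp_d L143419) q6549, e3 q6277 (flp_d L150147) q7262, e3 q6278 (flp_d L150157) q7263, e3 q6279 (flp_d L141112) q5268, e3 q6280 (flp_d L150302) q7280, e3 q6281 (flp_d L150316) q7282, e3 q6282 L150353 q7286, e3 q6283 (flp_d L150225) q7272, e3 q6284 (flp_d L150233) q7273, e3 q6285 L150388 q7289, e3 q6286 L141187 q5274, e3 q6287 L141195 q5619, e3 q6288 L141202 q5275, e3 q6289 (flp_d L150410) q7291, e3 q6290 (flp_d L150427) q7293, e3 q6291 (flp_d L142091) q6391, e3 q6292 (flp_d L141236) q5276, e3 q6293 (flp_d L146955) q6951, e3 q6294 L150463 q7297, e3 q6295 (flp_d L141263) q5279, e3 q6296 (flp_d L141272) q5280, e3 q6297 (flp_d L150477) q7298, e3 q6298 L141301 q6298, e3 q6299 L141306 q5282, e3 q6300 L141314 q6300, e3 q6301 (flp_d L141327) q5747, e3 q6302 L141335 q6302, e3 q6303 L141340 q5628, e3 q6304 L141348 q5464, e3 q6305 (flp_d L149740) q7219, e3 q6306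 L141364 q6306, e3 q6307 L141369 q5287, e3 q6308 L141375 q5305, e3 q6309 L141391 q6309, e3 q6310 L141398 q5306, e3 q6311 L141406 q5297, e3 q6312 L141414 q5298, e3 q6313 (flp_d L149774) q7222, e3 q6314 L141428 q5308, e3 q6315 L141438 q6315, e3 q6316 L141443 q5309, e3 q6317 L141451 q6317, e3 q6318 L141458 q6318, e3 q6319 L150704 q7324, e3 q6320 L141471 q5299, e3 q6321 L141477 q5300, e3 q6322 L150724 q7327, e3 q6323 L147047 q6959, e3 q6324 (flp_d L150636) q7315, e3 q6325 (flp_d L150714) q7325, e3 q6326 L150763 q7330, e3 q6327 (flp_d L141527) q5301, e3 q6328 (flp_d L146602) q6915, e3 q6329 (flp_d L141549) q5303, e3 q6330 L141564 q6330, e3 q6331 (flp_d L150609) q7312, e3 q6332 L150783 q7332, e3 q6333 (flp_d L150667) q7318, e3 q6334 L150802 q7334, e3 q6335 (flp_d L141601) q5310, trivial⟩ (by decide +kernel)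

theorem ce_d_99 : ∀ r, r < 64 → sm gd (Qf (6336 + r)) = Qf (tab Gen.d (6336 + r)) :=
  edges_tab (sm gd) Qf (tab Gen.d) 6336 [(6336, 5312), (6337, 6337), (6338, 5394), (6339, 6339), (6340, 6340), (6341, 5594), (6342, 7341), (6343, 5498), (6344, 5485), (6345, 6345), (6346, 7151), (6347, 6347), (6348, 7345), (6349, 5338), (6350, 5482), (6351, 6351), (6352, 5346), (6353, 6353), (6354, 7350), (6355, 6355), (6356, 7352), (6357, 5333), (6358, 5339), (6359, 7355), (6360, 5336), (6361, 7002), (6362, 7015), (6363, 5340), (6364, 5345), (6365, 7357), (6366, 5347), (6367, 6367), (6368, 5351), (6369, 7360), (6370, 7358), (6371, 5353), (6372, 6049), (6373, 5355), (6374, 6052), (6375, 7368), (6376, 6054), (6377, 5363), (6378, 5364), (6379, 5417), (6380, 6059), (6381, 5361), (6382, 7374), (6383, 7376), (6384, 7378), (6385, 7372), (6386, 5367), (6387, 5643), (6388, 5368), (6389, 7380), (6390, 7382), (6391, 6291), (6392, 5369), (6393, 5824), (6394, 7386), (6395, 5372), (6396, 5403), (6397, 5441), (6398,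 5449), (6399, 5452)]
    ⟨e3 q6336 L141610 q5312, e3 q6337 L141620 q6337, e3 q6338 L141633 q5394, e3 q6339 L141641 q6339, e3 q6340 L141652 q6340, e3 q6341 L141659 q5594, e3 q6342 L150866 q7341, e3 q6343 L141675 q5498, e3 q6344 L141687 q5485, e3 q6345 L141695 q6345, e3 q6346 (flp_d L149003) q7151, e3 q6347 L141710 q6347, e3 q6348 L150899 q7345, e3 q6349 L141727 q5338, e3 q6350 L141739 q5482, e3 q6351 L141751 q6351, e3 q6352 L141758 q5346, e3 q6353 L141768 q6353, e3 q6354 L150946 q7350, e3 q6355 L141785 q6355, e3 q6356 L150960 q7352, e3 q6357 (flp_d L141794) q5333, e3 q6358 L141802 q5339, e3 q6359 L150977 q7355, e3 q6360 (flp_d L141812) q5336, e3 q6361 (flp_d L147522) q7002, e3 q6362 (flp_d L147674) q7015, e3 q6363 (flp_d L141851) q5340, e3 q6364 (flp_d L141861) q5345, e3 q6365 L151001 q7357, e3 q6366 (flp_d L141878) q5347, e3 q6367 L141888 q6367, e3 q6368 (flp_d L141889) q5351, e3 q6369 (flp_d L151032) q7360, e3 q6370 (flp_d L151014) q7358, e3 q6371 L141919 q5353, e3 q6372 L141927 q6049,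 e3 q6373 L141933 q5355, e3 q6374 L141939 q6052, e3 q6375 L151092 q7368, e3 q6376 L141953 q6054, e3 q6377 L141961 q5363, e3 q6378 L141969 q5364, e3 q6379 L141979 q5417, e3 q6380 L141988 q6059, e3 q6381 (flp_d L141995) q5361, e3 q6382 (flp_d L151135) q7374, e3 q6383 (flp_d L151151) q7376, e3 q6384 L151164 q7378, e3 q6385 (flp_d L151120) q7372, e3 q6386 L142042 q5367, e3 q6387 L142052 q5643, e3 q6388 L142061 q5368, e3 q6389 (flp_d L151191) q7380, e3 q6390 (flp_d L151210) q7382, e3 q6391 L142091 q6291, e3 q6392 (flp_d L142095) q5369, e3 q6393 L142111 q5824, e3 q6394 L151244 q7386, e3 q6395 (flp_d L142124) q5372, e3 q6396 L142139 q5403, e3 q6397 L142151 q5441, e3 q6398 L142161 q5449, e3 q6399 L142171 q5452, trivial⟩ (by decide +kernel)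

theorem ce_d_100 : ∀ r, r < 64 → sm gd (Qf (6400 + r)) = Qf (tab Gen.d (6400 + r)) :=
  edges_tab (sm gd) Qf (tab Gen.d) 6400 [(6400, 6400), (6401, 5386), (6402, 6402), (6403, 6403), (6404, 7117), (6405, 5382), (6406, 7301), (6407, 7201), (6408, 5384), (6409, 6409), (6410, 7140), (6411, 6411), (6412, 7396), (6413, 7336), (6414, 6698), (6415, 7397), (6416, 5399), (6417, 7401), (6418, 5406), (6419, 5658), (6420, 5401), (6421, 6701), (6422, 7387), (6423, 7399), (6424, 5617), (6425, 5405), (6426, 7402), (6427, 7415), (6428, 7404), (6429, 5662), (6430, 5663), (6431, 7363), (6432, 7422), (6433, 6439), (6434, 5420), (6435, 5421), (6436, 7365), (6437, 6266), (6438, 7431), (6439, 6433), (6440, 5413), (6441, 7435), (6442, 7437), (6443, 7441), (6444, 5427), (6445, 5428), (6446, 7444), (6447, 5418), (6448, 7445), (6449, 7447), (6450, 7451), (6451, 7426), (6452, 7427), (6453, 7254), (6454, 5424), (6455, 5671), (6456, 5425), (6457, 7455), (6458, 7457), (6459, 7462), (6460, 5426), (6461, 7442), (6462,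 7465), (6463, 5429)]
    ⟨e3 q6400 L142177 q6400, e3 q6401 L142182 q5386, e3 q6402 L142192 q6402, e3 q6403 L142201 q6403, e3 q6404 (flp_d L148640) q7117, e3 q6405 L142216 q5382, e3 q6406 (flp_d L150511) q7301, e3 q6407 (flp_d L149523) q7201, e3 q6408 (flp_d L142238) q5384, e3 q6409 L142261 q6409, e3 q6410 (flp_d L148875) q7140, e3 q6411 L142274 q6411, e3 q6412 L151329 q7396, e3 q6413 (flp_d L150819) q7336, e3 q6414 L144756 q6698, e3 q6415 L151332 q7397, e3 q6416 (flp_d L142311) q5399, e3 q6417 (flp_d L151368) q7401, e3 q6418 L142329 q5406, e3 q6419 L142335 q5658, e3 q6420 L142341 q5401, e3 q6421 (flp_d L144794) q6701, e3 q6422 (flp_d L151260) q7387, e3 q6423 (flp_d L151354) q7399, e3 q6424 L142377 q5617, e3 q6425 L142383 q5405, e3 q6426 (flp_d L151374) q7402, e3 q6427 L151474 q7415, e3 q6428 (flp_d L151390) q7404, e3 q6429 L142409 q5662, e3 q6430 L142417 q5663, e3 q6431 (flp_d L151056) q7363, e3 q6432 L151520 q7422, e3 q6433 (flp_d L142487) q6439, e3 q6434 L142447 q5420, e3 q6435 L142453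 q5421, e3 q6436 (flp_d L151074) q7365, e3 q6437 L142469 q6266, e3 q6438 L151594 q7431, e3 q6439 L142487 q6433, e3 q6440 (flp_d L142491) q5413, e3 q6441 (flp_d L151632) q7435, e3 q6442 (flp_d L151642) q7437, e3 q6443 L151660 q7441, e3 q6444 L142513 q5427, e3 q6445 L142519 q5428, e3 q6446 L151676 q7444, e3 q6447 (flp_d L142529) q5418, e3 q6448 (flp_d L151686) q7445, e3 q6449 (flp_d L151700) q7447, e3 q6450 L151738 q7451, e3 q6451 (flp_d L151556) q7426, e3 q6452 (flp_d L151564) q7427, e3 q6453 (flp_d L150076) q7254, e3 q6454 L142599 q5424, e3 q6455 L142605 q5671, e3 q6456 L142611 q5425, e3 q6457 (flp_d L151781) q7455, e3 q6458 (flp_d L151801) q7457, e3 q6459 L151837 q7462, e3 q6460 (flp_d L142643) q5426, e3 q6461 (flp_d L151666) q7442, e3 q6462 L151859 q7465, e3 q6463 (flp_d L142669) q5429, trivial⟩ (by decide +kernel)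

theorem ce_d_101 : ∀ r, r < 64 → sm gd (Qf (6464 + r)) = Qf (tab Gen.d (6464 + r)) :=
  edges_tab (sm gd) Qf (tab Gen.d) 6464 [(6464, 7454), (6465, 5433), (6466, 5682), (6467, 5434), (6468, 5684), (6469, 6223), (6470, 7468), (6471, 7472), (6472, 5435), (6473, 6224), (6474, 6913), (6475, 5438), (6476, 6226), (6477, 5632), (6478, 7226), (6479, 5519), (6480, 6480), (6481, 5520), (6482, 6482), (6483, 6483), (6484, 7101), (6485, 5693), (6486, 5694), (6487, 7316), (6488, 5462), (6489, 5463), (6490, 7308), (6491, 5562), (6492, 5471), (6493, 5564), (6494, 5565), (6495, 7060), (6496, 5567), (6497, 5568), (6498, 7493), (6499, 5465), (6500, 7495), (6501, 5461), (6502, 7483), (6503, 7307), (6504, 6975), (6505, 5466), (6506, 5578), (6507, 5579), (6508, 6508), (6509, 5521), (6510, 6510), (6511, 6999), (6512, 6512), (6513, 7503), (6514, 5699), (6515, 7346), (6516, 5497), (6517, 7342), (6518, 5580), (6519, 5581), (6520, 6970), (6521, 5584), (6522, 7509), (6523, 5586), (6524, 7511), (6525, 5493), (6526,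 7018), (6527, 5495)]
    ⟨e3 q6464 (flp_d L151775) q7454, e3 q6465 L142683 q5433, e3 q6466 L142692 q5682, e3 q6467 L142698 q5434, e3 q6468 L142708 q5684, e3 q6469 (flp_d L142722) q6223, e3 q6470 (flp_d L151881) q7468, e3 q6471 L151921 q7472, e3 q6472 (flp_d L142743) q5435, e3 q6473 L142769 q6224, e3 q6474 (flp_d L146575) q6913, e3 q6475 (flp_d L142780) q5438, e3 q6476 L142797 q6226, e3 q6477 L142807 q5632, e3 q6478 (flp_d L149810) q7226, e3 q6479 L142823 q5519, e3 q6480 L142839 q6480, e3 q6481 L142844 q5520, e3 q6482 L142854 q6482, e3 q6483 L142863 q6483, e3 q6484 (flp_d L148451) q7101, e3 q6485 L142882 q5693, e3 q6486 L142890 q5694, e3 q6487 (flp_d L150648) q7316, e3 q6488 L142908 q5462, e3 q6489 L142918 q5463, e3 q6490 (flp_d L150575) q7308, e3 q6491 L142940 q5562, e3 q6492 L142948 q5471, e3 q6493 L142956 q5564, e3 q6494 L142962 q5565, e3 q6495 (flp_d L148113) q7060, e3 q6496 L142980 q5567, e3 q6497 L142990 q5568, e3 q6498 L152127 q7493, e3 q6499 L143008 q5465, e3 q6500 L152141 q7495,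 e3 q6501 (flp_d L143018) q5461, e3 q6502 (flp_d L152041) q7483, e3 q6503 (flp_d L150563) q7307, e3 q6504 (flp_d L147213) q6975, e3 q6505 (flp_d L143058) q5466, e3 q6506 L143072 q5578, e3 q6507 L143076 q5579, e3 q6508 L143097 q6508, e3 q6509 L143102 q5521, e3 q6510 L143110 q6510, e3 q6511 (flp_d L147486) q6999, e3 q6512 L143127 q6512, e3 q6513 L152209 q7503, e3 q6514 L143142 q5699, e3 q6515 (flp_d L150913) q7346, e3 q6516 L143156 q5497, e3 q6517 (flp_d L150877) q7342, e3 q6518 L143172 q5580, e3 q6519 L143178 q5581, e3 q6520 (flp_d L147167) q6970, e3 q6521 L143194 q5584, e3 q6522 L152252 q7509, e3 q6523 L143210 q5586, e3 q6524 L152268 q7511, e3 q6525 (flp_d L143222) q5493, e3 q6526 (flp_d L147712) q7018, e3 q6527 (flp_d L143232) q5495, trivial⟩ (by decide +kernel)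

theorem ce_d_102 : ∀ r, r < 64 → sm gd (Qf (6528 + r)) = Qf (tab Gen.d (6528 + r)) :=
  edges_tab (sm gd) Qf (tab Gen.d) 6528 [(6528, 7512), (6529, 7017), (6530, 5502), (6531, 7514), (6532, 5506), (6533, 5703), (6534, 5504), (6535, 7515), (6536, 5706), (6537, 5709), (6538, 5512), (6539, 5516), (6540, 6540), (6541, 5517), (6542, 5711), (6543, 5712), (6544, 7517), (6545, 7520), (6546, 7522), (6547, 7475), (6548, 7530), (6549, 6276), (6550, 5523), (6551, 7534), (6552, 7536), (6553, 7540), (6554, 5526), (6555, 6555), (6556, 5527), (6557, 7542), (6558, 7544), (6559, 7549), (6560, 5528), (6561, 5546), (6562, 7552), (6563, 5531), (6564, 5533), (6565, 5716), (6566, 5534), (6567, 7555), (6568, 7557), (6569, 7562), (6570, 5535), (6571, 5860), (6572, 7565), (6573, 5538), (6574, 5549), (6575, 5542), (6576, 5727), (6577, 5543), (6578, 5729), (6579, 7572), (6580, 7568), (6581, 7574), (6582, 5544), (6583, 7576), (6584, 6901), (6585, 5547), (6586, 7575), (6587, 7567), (6588, 5555), (6589, 5740), (6590,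 7581), (6591, 6192)]
    ⟨e3 q6528 (flp_d L152280) q7512, e3 q6529 (flp_d L147696) q7017, e3 q6530 (flp_d L143255) q5502, e3 q6531 (flp_d L152296) q7514, e3 q6532 L143280 q5506, e3 q6533 L143287 q5703, e3 q6534 L143292 q5504, e3 q6535 (flp_d L152305) q7515, e3 q6536 L143308 q5706, e3 q6537 L143321 q5709, e3 q6538 L143328 q5512, e3 q6539 L143334 q5516, e3 q6540 L143349 q6540, e3 q6541 L143355 q5517, e3 q6542 L143362 q5711, e3 q6543 L143367 q5712, e3 q6544 (flp_d L152321) q7517, e3 q6545 (flp_d L152345) q7520, e3 q6546 (flp_d L152365) q7522, e3 q6547 (flp_d L151970) q7475, e3 q6548 L152425 q7530, e3 q6549 L143419 q6276, e3 q6550 (flp_d L143424) q5523, e3 q6551 (flp_d L152469) q7534, e3 q6552 (flp_d L152484) q7536, e3 q6553 L152520 q7540, e3 q6554 L143465 q5526, e3 q6555 L143474 q6555, e3 q6556 L143480 q5527, e3 q6557 (flp_d L152541) q7542, e3 q6558 (flp_d L152564) q7544, e3 q6559 L152602 q7549, e3 q6560 (flp_d L143511) q5528, e3 q6561 L143524 q5546, e3 q6562 L152626 q7552, e3 q6563 (flp_d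 L143540) q5531, e3 q6564 L143556 q5533, e3 q6565 L143567 q5716, e3 q6566 L143574 q5534, e3 q6567 (flp_d L152662) q7555, e3 q6568 (flp_d L152688) q7557, e3 q6569 L152732 q7562, e3 q6570 (flp_d L143609) q5535, e3 q6571 L143625 q5860, e3 q6572 L152761 q7565, e3 q6573 (flp_d L143642) q5538, e3 q6574 L143657 q5549, e3 q6575 L143662 q5542, e3 q6576 L143675 q5727, e3 q6577 L143680 q5543, e3 q6578 L143687 q5729, e3 q6579 L152817 q7572, e3 q6580 (flp_d L152792) q7568, e3 q6581 L152833 q7574, e3 q6582 (flp_d L143712) q5544, e3 q6583 (flp_d L152858) q7576, e3 q6584 (flp_d L146431) q6901, e3 q6585 (flp_d L143734) q5547, e3 q6586 (flp_d L152851) q7575, e3 q6587 (flp_d L152785) q7567, e3 q6588 L143759 q5555, e3 q6589 L143768 q5740, e3 q6590 L152900 q7581, e3 q6591 L143785 q6192, trivial⟩ (by decide +kernel)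

theorem ce_d_103 : ∀ r, r < 64 → sm gd (Qf (6592 + r)) = Qf (tab Gen.d (6592 + r)) :=
  edges_tab (sm gd) Qf (tab Gen.d) 6592 [(6592, 5554), (6593, 7582), (6594, 5556), (6595, 7485), (6596, 7486), (6597, 6940), (6598, 7488), (6599, 7489), (6600, 7588), (6601, 7491), (6602, 7590), (6603, 5569), (6604, 6908), (6605, 5571), (6606, 7591), (6607, 6907), (6608, 5574), (6609, 7305), (6610, 7498), (6611, 7105), (6612, 7506), (6613, 7596), (6614, 7144), (6615, 7598), (6616, 5585), (6617, 7025), (6618, 5587), (6619, 5591), (6620, 5597), (6621, 5602), (6622, 5605), (6623, 7244), (6624, 5604), (6625, 7606), (6626, 7253), (6627, 5607), (6628, 7609), (6629, 5615), (6630, 5609), (6631, 7612), (6632, 5677), (6633, 5612), (6634, 7281), (6635, 5613), (6636, 7616), (6637, 7618), (6638, 7623), (6639, 5614), (6640, 5669), (6641, 7410), (6642, 7615), (6643, 5621), (6644, 7292), (6645, 5622), (6646, 7627), (6647, 6661), (6648, 6912), (6649, 5626), (6650, 6974), (6651, 7013), (6652, 7359), (6653, 5639), (6654,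 5641), (6655, 7375)]
    ⟨e3 q6592 (flp_d L143789) q5554, e3 q6593 L152917 q7582, e3 q6594 (flp_d L143813) q5556, e3 q6595 (flp_d L152061) q7485, e3 q6596 (flp_d L152069) q7486, e3 q6597 (flp_d L146862) q6940, e3 q6598 (flp_d L152087) q7488, e3 q6599 (flp_d L152095) q7489, e3 q6600 L152978 q7588, e3 q6601 (flp_d L152113) q7491, e3 q6602 L152997 q7590, e3 q6603 (flp_d L143897) q5569, e3 q6604 (flp_d L146513) q6908, e3 q6605 (flp_d L143914) q5571, e3 q6606 (flp_d L153011) q7591, e3 q6607 (flp_d L146491) q6907, e3 q6608 (flp_d L143944) q5574, e3 q6609 (flp_d L150545) q7305, e3 q6610 (flp_d L152170) q7498, e3 q6611 (flp_d L148495) q7105, e3 q6612 (flp_d L152234) q7506, e3 q6613 L153049 q7596, e3 q6614 (flp_d L148921) q7144, e3 q6615 L153067 q7598, e3 q6616 (flp_d L144016) q5585, e3 q6617 (flp_d L147785) q7025, e3 q6618 (flp_d L144033) q5587, e3 q6619 L144043 q5591, e3 q6620 L144050 q5597, e3 q6621 (flp_d L144052) q5602, e3 q6622 L144072 q5605, e3 q6623 (flp_d L149985) q7244, e3 q6624 L144087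 q5604, e3 q6625 L153146 q7606, e3 q6626 (flp_d L150066) q7253, e3 q6627 (flp_d L144111) q5607, e3 q6628 (flp_d L153184) q7609, e3 q6629 L144141 q5615, e3 q6630 (flp_d L144148) q5609, e3 q6631 (flp_d L153219) q7612, e3 q6632 L144176 q5677, e3 q6633 L144188 q5612, e3 q6634 (flp_d L150309) q7281, e3 q6635 L144203 q5613, e3 q6636 (flp_d L153262) q7616, e3 q6637 (flp_d L153286) q7618, e3 q6638 L153330 q7623, e3 q6639 (flp_d L144239) q5614, e3 q6640 L144257 q5669, e3 q6641 (flp_d L151436) q7410, e3 q6642 (flp_d L153250) q7615, e3 q6643 L144288 q5621, e3 q6644 (flp_d L150420) q7292, e3 q6645 L144311 q5622, e3 q6646 (flp_d L153380) q7627, e3 q6647 (flp_d L144476) q6661, e3 q6648 (flp_d L146561) q6912, e3 q6649 (flp_d L144343) q5626, e3 q6650 (flp_d L147199) q6974, e3 q6651 (flp_d L147654) q7013, e3 q6652 (flp_d L151026) q7359, e3 q6653 L144393 q5639, e3 q6654 L144405 q5641, e3 q6655 (flp_d L151146) q7375, trivial⟩ (by decide +kernel)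

theorem ce_d_104 : ∀ r, r < 64 → sm gd (Qf (6656 + r)) = Qf (tab Gen.d (6656 + r)) :=
  edges_tab (sm gd) Qf (tab Gen.d) 6656 [(6656, 6660), (6657, 5645), (6658, 7381), (6659, 5646), (6660, 6656), (6661, 6647), (6662, 7198), (6663, 5650), (6664, 7400), (6665, 5656), (6666, 7636), (6667, 5661), (6668, 7405), (6669, 7406), (6670, 7630), (6671, 5660), (6672, 7643), (6673, 7645), (6674, 7419), (6675, 7420), (6676, 5665), (6677, 7644), (6678, 7650), (6679, 5668), (6680, 7446), (6681, 7654), (6682, 5680), (6683, 5673), (6684, 7456), (6685, 5674), (6686, 7458), (6687, 7662), (6688, 7658), (6689, 7664), (6690, 5675), (6691, 7666), (6692, 6972), (6693, 5678), (6694, 7665), (6695, 7657), (6696, 5686), (6697, 7469), (6698, 6414), (6699, 7669), (6700, 5687), (6701, 6421), (6702, 7481), (6703, 5748), (6704, 7513), (6705, 5701), (6706, 5705), (6707, 7516), (6708, 5713), (6709, 7518), (6710, 7672), (6711, 7526), (6712, 7527), (6713, 7678), (6714, 6714), (6715, 5718), (6716, 7556), (6717, 5719), (6718,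 7558), (6719, 7684)]
    ⟨e3 q6656 (flp_d L144462) q6660, e3 q6657 L144430 q5645, e3 q6658 (flp_d L151201) q7381, e3 q6659 L144445 q5646, e3 q6660 L144462 q6656, e3 q6661 L144476 q6647, e3 q6662 (flp_d L149484) q7198, e3 q6663 (flp_d L144485) q5650, e3 q6664 (flp_d L151362) q7400, e3 q6665 L144505 q5656, e3 q6666 L153485 q7636, e3 q6667 L144522 q5661, e3 q6668 (flp_d L151396) q7405, e3 q6669 (flp_d L151402) q7406, e3 q6670 (flp_d L153424) q7630, e3 q6671 (flp_d L144543) q5660, e3 q6672 (flp_d L153546) q7643, e3 q6673 (flp_d L153556) q7645, e3 q6674 (flp_d L151500) q7419, e3 q6675 (flp_d L151508) q7420, e3 q6676 L144580 q5665, e3 q6677 (flp_d L153551) q7644, e3 q6678 (flp_d L153597) q7650, e3 q6679 L144598 q5668, e3 q6680 (flp_d L151694) q7446, e3 q6681 (flp_d L153634) q7654, e3 q6682 L144620 q5680, e3 q6683 L144631 q5673, e3 q6684 (flp_d L151795) q7456, e3 q6685 L144651 q5674, e3 q6686 (flp_d L151809) q7458, e3 q6687 L153703 q7662, e3 q6688 (flp_d L153674) q7658, e3 q6689 L153719 q7664,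 e3 q6690 (flp_d L144685) q5675, e3 q6691 (flp_d L153735) q7666, e3 q6692 (flp_d L147183) q6972, e3 q6693 (flp_d L144704) q5678, e3 q6694 (flp_d L153729) q7665, e3 q6695 (flp_d L153663) q7657, e3 q6696 L144725 q5686, e3 q6697 (flp_d L151892) q7469, e3 q6698 (flp_d L144756) q6414, e3 q6699 L153747 q7669, e3 q6700 (flp_d L144767) q5687, e3 q6701 L144794 q6421, e3 q6702 (flp_d L152023) q7481, e3 q6703 L144806 q5748, e3 q6704 (flp_d L152291) q7513, e3 q6705 L144825 q5701, e3 q6706 L144838 q5705, e3 q6707 (flp_d L152312) q7516, e3 q6708 L144858 q5713, e3 q6709 (flp_d L152330) q7518, e3 q6710 (flp_d L153794) q7672, e3 q6711 (flp_d L152401) q7526, e3 q6712 (flp_d L152406) q7527, e3 q6713 L153849 q7678, e3 q6714 L144904 q6714, e3 q6715 L144914 q5718, e3 q6716 (flp_d L152681) q7556, e3 q6717 L144936 q5719, e3 q6718 (flp_d L152697) q7558, e3 q6719 L153900 q7684, trivial⟩ (by decide +kernel)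

theorem ce_d_105 : ∀ r, r < 64 → sm gd (Qf (6720 + r)) = Qf (tab Gen.d (6720 + r)) :=
  edges_tab (sm gd) Qf (tab Gen.d) 6720 [(6720, 7680), (6721, 7686), (6722, 5720), (6723, 7688), (6724, 6900), (6725, 5723), (6726, 7687), (6727, 5738), (6728, 5731), (6729, 7569), (6730, 7177), (6731, 7693), (6732, 5730), (6733, 7694), (6734, 5732), (6735, 5737), (6736, 5734), (6737, 7695), (6738, 6161), (6739, 6178), (6740, 5743), (6741, 7303), (6742, 5751), (6743, 7698), (6744, 7696), (6745, 6745), (6746, 5753), (6747, 6269), (6748, 7706), (6749, 6271), (6750, 5759), (6751, 5760), (6752, 6938), (6753, 5757), (6754, 7712), (6755, 7714), (6756, 7718), (6757, 7103), (6758, 7710), (6759, 7721), (6760, 5763), (6761, 6761), (6762, 5764), (6763, 7723), (6764, 7725), (6765, 6075), (6766, 5765), (6767, 7195), (6768, 7729), (6769, 5768), (6770, 6770), (6771, 6771), (6772, 6772), (6773, 6963), (6774, 6774), (6775, 5784), (6776, 6776), (6777, 7736), (6778, 5779), (6779, 7738), (6780, 7106), (6781, 7740), (6782,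 5780), (6783, 7200)]
    ⟨e3 q6720 (flp_d L153867) q7680, e3 q6721 L153917 q7686, e3 q6722 (flp_d L144972) q5720, e3 q6723 (flp_d L153934) q7688, e3 q6724 (flp_d L146419) q6900, e3 q6725 (flp_d L144996) q5723, e3 q6726 (flp_d L153927) q7687, e3 q6727 L145015 q5738, e3 q6728 L145026 q5731, e3 q6729 (flp_d L152799) q7569, e3 q6730 L149244 q7177, e3 q6731 L153976 q7693, e3 q6732 (flp_d L145055) q5730, e3 q6733 L153981 q7694, e3 q6734 (flp_d L145069) q5732, e3 q6735 L145083 q5737, e3 q6736 L145088 q5734, e3 q6737 (flp_d L153992) q7695, e3 q6738 (flp_d L145110) q6161, e3 q6739 (flp_d L145127) q6178, e3 q6740 (flp_d L145129) q5743, e3 q6741 L150532 q7303, e3 q6742 (flp_d L145147) q5751, e3 q6743 (flp_d L154017) q7698, e3 q6744 (flp_d L154002) q7696, e3 q6745 L145176 q6745, e3 q6746 L145183 q5753, e3 q6747 L145187 q6269, e3 q6748 L154070 q7706, e3 q6749 L145203 q6271, e3 q6750 L145211 q5759, e3 q6751 L145219 q5760, e3 q6752 (flp_d L146839) q6938, e3 q6753 (flp_d L145229) q5757, e3 q6754 (flp_d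 L154121) q7712, e3 q6755 (flp_d L154136) q7714, e3 q6756 L154171 q7718, e3 q6757 (flp_d L148479) q7103, e3 q6758 (flp_d L154104) q7710, e3 q6759 L154206 q7721, e3 q6760 L145298 q5763, e3 q6761 L145310 q6761, e3 q6762 L145320 q5764, e3 q6763 (flp_d L154225) q7723, e3 q6764 (flp_d L154247) q7725, e3 q6765 L145355 q6075, e3 q6766 (flp_d L145358) q5765, e3 q6767 (flp_d L149441) q7195, e3 q6768 L154285 q7729, e3 q6769 (flp_d L145387) q5768, e3 q6770 L145401 q6770, e3 q6771 L145410 q6771, e3 q6772 L145415 q6772, e3 q6773 (flp_d L147086) q6963, e3 q6774 L145428 q6774, e3 q6775 L145433 q5784, e3 q6776 L145441 q6776, e3 q6777 L154338 q7736, e3 q6778 L145454 q5779, e3 q6779 L154350 q7738, e3 q6780 (flp_d L148509) q7106, e3 q6781 L154366 q7740, e3 q6782 (flp_d L145483) q5780, e3 q6783 (flp_d L149514) q7200, trivial⟩ (by decide +kernel)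

theorem ce_d_106 : ∀ r, r < 64 → sm gd (Qf (6784 + r)) = Qf (tab Gen.d (6784 + r)) :=
  edges_tab (sm gd) Qf (tab Gen.d) 6784 [(6784, 5782), (6785, 6785), (6786, 7742), (6787, 5785), (6788, 7744), (6789, 7745), (6790, 7746), (6791, 5790), (6792, 7748), (6793, 5792), (6794, 7239), (6795, 5794), (6796, 6796), (6797, 6797), (6798, 5802), (6799, 6799), (6800, 5801), (6801, 7756), (6802, 7752), (6803, 6803), (6804, 6804), (6805, 7051), (6806, 5805), (6807, 7762), (6808, 7764), (6809, 7768), (6810, 5814), (6811, 5815), (6812, 7771), (6813, 5811), (6814, 6814), (6815, 5812), (6816, 7773), (6817, 7775), (6818, 7780), (6819, 5813), (6820, 7769), (6821, 7783), (6822, 5816), (6823, 7772), (6824, 5820), (6825, 6825), (6826, 5821), (6827, 6827), (6828, 5950), (6829, 7786), (6830, 7790), (6831, 5822), (6832, 5951), (6833, 7791), (6834, 5825), (6835, 5954), (6836, 6836), (6837, 7795), (6838, 5833), (6839, 7797), (6840, 5832), (6841, 7799), (6842, 5834), (6843, 5878), (6844, 5836), (6845, 5880), (6846,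 7801), (6847, 5882)]
    ⟨e3 q6784 (flp_d L145497) q5782, e3 q6785 L145514 q6785, e3 q6786 L154379 q7742, e3 q6787 (flp_d L145523) q5785, e3 q6788 L154390 q7744, e3 q6789 L154395 q7745, e3 q6790 L154402 q7746, e3 q6791 (flp_d L145548) q5790, e3 q6792 L154409 q7748, e3 q6793 (flp_d L145558) q5792, e3 q6794 (flp_d L149941) q7239, e3 q6795 (flp_d L145574) q5794, e3 q6796 L145584 q6796, e3 q6797 L145588 q6797, e3 q6798 L145593 q5802, e3 q6799 L145601 q6799, e3 q6800 L145606 q5801, e3 q6801 L154463 q7756, e3 q6802 (flp_d L154439) q7752, e3 q6803 L145622 q6803, e3 q6804 L145629 q6804, e3 q6805 (flp_d L148030) q7051, e3 q6806 (flp_d L145638) q5805, e3 q6807 (flp_d L154503) q7762, e3 q6808 (flp_d L154515) q7764, e3 q6809 L154535 q7768, e3 q6810 L145662 q5814, e3 q6811 L145668 q5815, e3 q6812 L154553 q7771, e3 q6813 L145682 q5811, e3 q6814 L145690 q6814, e3 q6815 L145695 q5812, e3 q6816 (flp_d L154571) q7773, e3 q6817 (flp_d L154584) q7775, e3 q6818 L154622 q7780, e3 q6819 (flp_d L145727) q5813,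 e3 q6820 (flp_d L154543) q7769, e3 q6821 L154643 q7783, e3 q6822 (flp_d L145753) q5816, e3 q6823 (flp_d L154563) q7772, e3 q6824 L145768 q5820, e3 q6825 L145777 q6825, e3 q6826 L145782 q5821, e3 q6827 L145794 q6827, e3 q6828 (flp_d L145813) q5950, e3 q6829 (flp_d L154665) q7786, e3 q6830 L154707 q7790, e3 q6831 (flp_d L145833) q5822, e3 q6832 L145859 q5951, e3 q6833 L154720 q7791, e3 q6834 (flp_d L145869) q5825, e3 q6835 L145886 q5954, e3 q6836 L145894 q6836, e3 q6837 L154754 q7795, e3 q6838 L145909 q5833, e3 q6839 L154767 q7797, e3 q6840 (flp_d L145919) q5832, e3 q6841 L154781 q7799, e3 q6842 (flp_d L145936) q5834, e3 q6843 L145948 q5878, e3 q6844 (flp_d L145950) q5836, e3 q6845 L145965 q5880, e3 q6846 (flp_d L154802) q7801, e3 q6847 L145974 q5882, trivial⟩ (by decide +kernel)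

theorem ce_d_107 : ∀ r, r < 64 → sm gd (Qf (6848 + r)) = Qf (tab Gen.d (6848 + r)) :=
  edges_tab (sm gd) Qf (tab Gen.d) 6848 [(6848, 7804), (6849, 5840), (6850, 7805), (6851, 5842), (6852, 7340), (6853, 5844), (6854, 5884), (6855, 5849), (6856, 5886), (6857, 5891), (6858, 6858), (6859, 6859), (6860, 7181), (6861, 5863), (6862, 5856), (6863, 6863), (6864, 5857), (6865, 6865), (6866, 7818), (6867, 7814), (6868, 7820), (6869, 5858), (6870, 7822), (6871, 7823), (6872, 5861), (6873, 7821), (6874, 7813), (6875, 5869), (6876, 6876), (6877, 7830), (6878, 5895), (6879, 5868), (6880, 7831), (6881, 5870), (6882, 5875), (6883, 5872), (6884, 5873), (6885, 7832), (6886, 7825), (6887, 5906), (6888, 5876), (6889, 7800), (6890, 5881), (6891, 7802), (6892, 7202), (6893, 6910), (6894, 7803), (6895, 6919), (6896, 6022), (6897, 7809), (6898, 6918), (6899, 5926), (6900, 6724), (6901, 6584), (6902, 6902), (6903, 7829), (6904, 6904), (6905, 6905), (6906, 6906), (6907, 6607), (6908, 6604), (6909, 6909), (6910,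 6893), (6911, 6911)]
    ⟨e3 q6848 L154826 q7804, e3 q6849 (flp_d L145992) q5840, e3 q6850 L154833 q7805, e3 q6851 (flp_d L146001) q5842, e3 q6852 (flp_d L150862) q7340, e3 q6853 (flp_d L146011) q5844, e3 q6854 L146021 q5884, e3 q6855 L146026 q5849, e3 q6856 L146030 q5886, e3 q6857 L146037 q5891, e3 q6858 L146054 q6858, e3 q6859 L146062 q6859, e3 q6860 (flp_d L149276) q7181, e3 q6861 L146073 q5863, e3 q6862 L146080 q5856, e3 q6863 L146087 q6863, e3 q6864 L146091 q5857, e3 q6865 L146098 q6865, e3 q6866 L154919 q7818, e3 q6867 (flp_d L154897) q7814, e3 q6868 L154934 q7820, e3 q6869 (flp_d L146125) q5858, e3 q6870 (flp_d L154950) q7822, e3 q6871 L154952 q7823, e3 q6872 (flp_d L146146) q5861, e3 q6873 (flp_d L154944) q7821, e3 q6874 (flp_d L154888) q7813, e3 q6875 L146171 q5869, e3 q6876 L146180 q6876, e3 q6877 L155008 q7830, e3 q6878 (flp_d L146200) q5895, e3 q6879 (flp_d L146202) q5868, e3 q6880 L155021 q7831, e3 q6881 (flp_d L146225) q5870, e3 q6882 L146240 q5875, e3 q6883 L146255 q5872,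 e3 q6884 (flp_d L146257) q5873, e3 q6885 (flp_d L155044) q7832, e3 q6886 (flp_d L154972) q7825, e3 q6887 L146284 q5906, e3 q6888 (flp_d L146294) q5876, e3 q6889 (flp_d L154795) q7800, e3 q6890 L146313 q5881, e3 q6891 (flp_d L154806) q7802, e3 q6892 L149546 q7202, e3 q6893 L146543 q6910, e3 q6894 (flp_d L154811) q7803, e3 q6895 L146659 q6919, e3 q6896 L146374 q6022, e3 q6897 (flp_d L154855) q7809, e3 q6898 L146649 q6918, e3 q6899 L146402 q5926, e3 q6900 L146419 q6724, e3 q6901 L146431 q6584, e3 q6902 L146444 q6902, e3 q6903 L155006 q7829, e3 q6904 L146459 q6904, e3 q6905 L146469 q6905, e3 q6906 L146483 q6906, e3 q6907 L146491 q6607, e3 q6908 L146513 q6604, e3 q6909 L146522 q6909, e3 q6910 (flp_d L146543) q6893, e3 q6911 L146557 q6911, trivial⟩ (by decide +kernel)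

theorem ce_d_108 : ∀ r, r < 64 → sm gd (Qf (6912 + r)) = Qf (tab Gen.d (6912 + r)) :=
  edges_tab (sm gd) Qf (tab Gen.d) 6912 [(6912, 6648), (6913, 6474), (6914, 6115), (6915, 6328), (6916, 6020), (6917, 6917), (6918, 6898), (6919, 6895), (6920, 5930), (6921, 7845), (6922, 7846), (6923, 5932), (6924, 7850), (6925, 7843), (6926, 6926), (6927, 5934), (6928, 5935), (6929, 7859), (6930, 7207), (6931, 5941), (6932, 5937), (6933, 7209), (6934, 7868), (6935, 7211), (6936, 5945), (6937, 5946), (6938, 6752), (6939, 7863), (6940, 6597), (6941, 5943), (6942, 7876), (6943, 7878), (6944, 7635), (6945, 7872), (6946, 7873), (6947, 7884), (6948, 5949), (6949, 7886), (6950, 7788), (6951, 6293), (6952, 7792), (6953, 5955), (6954, 7889), (6955, 6955), (6956, 6956), (6957, 5957), (6958, 6958), (6959, 6323), (6960, 6960), (6961, 6961), (6962, 6962), (6963, 6773), (6964, 5980), (6965, 6965), (6966, 5962), (6967, 5983), (6968, 5984), (6969, 5972), (6970, 6520), (6971, 5986), (6972, 6692), (6973, 5987), (6974,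 6650), (6975, 6504)]
    ⟨e3 q6912 L146561 q6648, e3 q6913 L146575 q6474, e3 q6914 L146593 q6115, e3 q6915 L146602 q6328, e3 q6916 L146620 q6020, e3 q6917 L146629 q6917, e3 q6918 (flp_d L146649) q6898, e3 q6919 (flp_d L146659) q6895, e3 q6920 (flp_d L146661) q5930, e3 q6921 (flp_d L155182) q7845, e3 q6922 L155186 q7846, e3 q6923 (flp_d L146692) q5932, e3 q6924 (flp_d L155241) q7850, e3 q6925 (flp_d L155165) q7843, e3 q6926 L146729 q6926, e3 q6927 L146736 q5934, e3 q6928 (flp_d L146740) q5935, e3 q6929 (flp_d L155330) q7859, e3 q6930 (flp_d L149612) q7207, e3 q6931 L146777 q5941, e3 q6932 L146787 q5937, e3 q6933 (flp_d L149628) q7209, e3 q6934 L155412 q7868, e3 q6935 (flp_d L149650) q7211, e3 q6936 L146817 q5945, e3 q6937 L146827 q5946, e3 q6938 L146839 q6752, e3 q6939 (flp_d L155370) q7863, e3 q6940 L146862 q6597, e3 q6941 (flp_d L146865) q5943, e3 q6942 (flp_d L155493) q7876, e3 q6943 (flp_d L155510) q7878, e3 q6944 (flp_d L153482) q7635, e3 q6945 (flp_d L155448) q7872, e3 q6946 (flp_d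 L155462) q7873, e3 q6947 L155571 q7884, e3 q6948 L146931 q5949, e3 q6949 (flp_d L155592) q7886, e3 q6950 L154695 q7788, e3 q6951 L146955 q6293, e3 q6952 (flp_d L154737) q7792, e3 q6953 (flp_d L146969) q5955, e3 q6954 (flp_d L155622) q7889, e3 q6955 L147006 q6955, e3 q6956 L147019 q6956, e3 q6957 L147026 q5957, e3 q6958 L147032 q6958, e3 q6959 (flp_d L147047) q6323, e3 q6960 L147057 q6960, e3 q6961 L147066 q6961, e3 q6962 L147077 q6962, e3 q6963 L147086 q6773, e3 q6964 L147100 q5980, e3 q6965 L147114 q6965, e3 q6966 L147121 q5962, e3 q6967 L147129 q5983, e3 q6968 L147141 q5984, e3 q6969 L147153 q5972, e3 q6970 L147167 q6520, e3 q6971 L147171 q5986, e3 q6972 L147183 q6692, e3 q6973 L147189 q5987, e3 q6974 L147199 q6650, e3 q6975 L147213 q6504, trivial⟩ (by decide +kernel)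

theorem ce_d_109 : ∀ r, r < 64 → sm gd (Qf (6976 + r)) = Qf (tab Gen.d (6976 + r)) :=
  edges_tab (sm gd) Qf (tab Gen.d) 6976 [(6976, 7916), (6977, 5974), (6978, 5975), (6979, 7919), (6980, 7920), (6981, 7917), (6982, 7921), (6983, 5976), (6984, 7842), (6985, 5978), (6986, 7901), (6987, 7902), (6988, 6988), (6989, 6035), (6990, 7905), (6991, 7906), (6992, 7927), (6993, 7910), (6994, 7929), (6995, 5988), (6996, 5990), (6997, 6997), (6998, 6998), (6999, 6511), (7000, 7000), (7001, 7001), (7002, 6361), (7003, 7937), (7004, 7004), (7005, 7939), (7006, 6023), (7007, 7007), (7008, 6147), (7009, 6026), (7010, 6027), (7011, 7944), (7012, 7945), (7013, 6651), (7014, 6029), (7015, 6362), (7016, 7949), (7017, 6529), (7018, 6526), (7019, 6012), (7020, 6017), (7021, 7953), (7022, 6015), (7023, 6016), (7024, 6018), (7025, 6617), (7026, 7955), (7027, 7942), (7028, 6028), (7029, 7957), (7030, 6030), (7031, 6157), (7032, 6253), (7033, 7600), (7034, 7958), (7035, 6037), (7036, 7961), (7037, 6044), (7038,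 7038), (7039, 6039)]
    ⟨e3 q6976 L155935 q7916, e3 q6977 L147233 q5974, e3 q6978 L147245 q5975, e3 q6979 L155967 q7919, e3 q6980 L155975 q7920, e3 q6981 (flp_d L155951) q7917, e3 q6982 L155988 q7921, e3 q6983 (flp_d L147297) q5976, e3 q6984 (flp_d L155156) q7842, e3 q6985 (flp_d L147316) q5978, e3 q6986 (flp_d L155760) q7901, e3 q6987 (flp_d L155778) q7902, e3 q6988 L147358 q6988, e3 q6989 L147379 q6035, e3 q6990 (flp_d L155811) q7905, e3 q6991 (flp_d L155827) q7906, e3 q6992 L156064 q7927, e3 q6993 (flp_d L155875) q7910, e3 q6994 L156086 q7929, e3 q6995 (flp_d L147431) q5988, e3 q6996 L147446 q5990, e3 q6997 L147460 q6997, e3 q6998 L147473 q6998, e3 q6999 L147486 q6511, e3 q7000 L147494 q7000, e3 q7001 L147509 q7001, e3 q7002 L147522 q6361, e3 q7003 L156193 q7937, e3 q7004 L147544 q7004, e3 q7005 L156216 q7939, e3 q7006 L147565 q6023, e3 q7007 L147579 q7007, e3 q7008 L147594 q6147, e3 q7009 L147600 q6026, e3 q7010 L147616 q6027, e3 q7011 L156283 q7944, e3 q7012 L156295 q7945, e3 q7013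 L147654 q6651, e3 q7014 L147664 q6029, e3 q7015 L147674 q6362, e3 q7016 L156347 q7949, e3 q7017 L147696 q6529, e3 q7018 L147712 q6526, e3 q7019 (flp_d L147714) q6012, e3 q7020 L147728 q6017, e3 q7021 L156405 q7953, e3 q7022 (flp_d L147744) q6015, e3 q7023 (flp_d L147752) q6016, e3 q7024 (flp_d L147765) q6018, e3 q7025 L147785 q6617, e3 q7026 (flp_d L156438) q7955, e3 q7027 (flp_d L156261) q7942, e3 q7028 (flp_d L147812) q6028, e3 q7029 L156455 q7957, e3 q7030 (flp_d L147832) q6030, e3 q7031 L147852 q6157, e3 q7032 L147866 q6253, e3 q7033 (flp_d L153095) q7600, e3 q7034 L156466 q7958, e3 q7035 (flp_d L147892) q6037, e3 q7036 (flp_d L156496) q7961, e3 q7037 L147913 q6044, e3 q7038 L147919 q7038, e3 q7039 L147924 q6039, trivial⟩ (by decide +kernel)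

theorem ce_d_110 : ∀ r, r < 64 → sm gd (Qf (7040 + r)) = Qf (tab Gen.d (7040 + r)) :=
  edges_tab (sm gd) Qf (tab Gen.d) 7040 [(7040, 6197), (7041, 6041), (7042, 7970), (7043, 7960), (7044, 7044), (7045, 6043), (7046, 7962), (7047, 7979), (7048, 7964), (7049, 7049), (7050, 7050), (7051, 6805), (7052, 7055), (7053, 7053), (7054, 6048), (7055, 7052), (7056, 7993), (7057, 7364), (7058, 6060), (7059, 6061), (7060, 6495), (7061, 7256), (7062, 8002), (7063, 7367), (7064, 6053), (7065, 8006), (7066, 8008), (7067, 8012), (7068, 6067), (7069, 6068), (7070, 8015), (7071, 6058), (7072, 8016), (7073, 8017), (7074, 7605), (7075, 7997), (7076, 7998), (7077, 8023), (7078, 6064), (7079, 7079), (7080, 6065), (7081, 8025), (7082, 8027), (7083, 8032), (7084, 6066), (7085, 8013), (7086, 8035), (7087, 6069), (7088, 8024), (7089, 6073), (7090, 7090), (7091, 6074), (7092, 8038), (7093, 7727), (7094, 7841), (7095, 6078), (7096, 6198), (7097, 6082), (7098, 6183), (7099, 6184), (7100, 7100), (7101, 6484), (7102,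 6186), (7103, 6757)]
    ⟨e3 q7040 (flp_d L147939) q6197, e3 q7041 (flp_d L147941) q6041, e3 q7042 (flp_d L156575) q7970, e3 q7043 (flp_d L156490) q7960, e3 q7044 L147977 q7044, e3 q7045 L147984 q6043, e3 q7046 (flp_d L156502) q7962, e3 q7047 L156668 q7979, e3 q7048 (flp_d L156516) q7964, e3 q7049 L148012 q7049, e3 q7050 L148021 q7050, e3 q7051 L148030 q6805, e3 q7052 (flp_d L148065) q7055, e3 q7053 L148050 q7053, e3 q7054 L148057 q6048, e3 q7055 L148065 q7052, e3 q7056 L156806 q7993, e3 q7057 (flp_d L151064) q7364, e3 q7058 L148091 q6060, e3 q7059 L148101 q6061, e3 q7060 L148113 q6495, e3 q7061 (flp_d L150096) q7256, e3 q7062 L156890 q8002, e3 q7063 (flp_d L151088) q7367, e3 q7064 (flp_d L148135) q6053, e3 q7065 (flp_d L156923) q8006, e3 q7066 (flp_d L156933) q8008, e3 q7067 L156955 q8012, e3 q7068 L148161 q6067, e3 q7069 L148169 q6068, e3 q7070 L156979 q8015, e3 q7071 (flp_d L148181) q6058, e3 q7072 (flp_d L156992) q8016, e3 q7073 (flp_d L156997) q8017, e3 q7074 (flp_d L153143) q7605,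 e3 q7075 (flp_d L156844) q7997, e3 q7076 (flp_d L156858) q7998, e3 q7077 L157057 q8023, e3 q7078 L148244 q6064, e3 q7079 L148249 q7079, e3 q7080 L148253 q6065, e3 q7081 (flp_d L157074) q8025, e3 q7082 (flp_d L157085) q8027, e3 q7083 L157115 q8032, e3 q7084 (flp_d L148280) q6066, e3 q7085 (flp_d L156965) q8013, e3 q7086 L157138 q8035, e3 q7087 (flp_d L148305) q6069, e3 q7088 (flp_d L157069) q8024, e3 q7089 L148322 q6073, e3 q7090 L148332 q7090, e3 q7091 L148338 q6074, e3 q7092 (flp_d L157162) q8038, e3 q7093 (flp_d L154272) q7727, e3 q7094 (flp_d L155142) q7841, e3 q7095 (flp_d L148366) q6078, e3 q7096 L148381 q6198, e3 q7097 L148396 q6082, e3 q7098 L148406 q6183, e3 q7099 L148424 q6184, e3 q7100 L148438 q7100, e3 q7101 L148451 q6484, e3 q7102 L148457 q6186, e3 q7103 L148479 q6757, trivial⟩ (by decide +kernel)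

theorem ce_d_111 : ∀ r, r < 64 → sm gd (Qf (7104 + r)) = Qf (tab Gen.d (7104 + r)) :=
  edges_tab (sm gd) Qf (tab Gen.d) 7104 [(7104, 6188), (7105, 6611), (7106, 6780), (7107, 8040), (7108, 7108), (7109, 7109), (7110, 8052), (7111, 7111), (7112, 6105), (7113, 6118), (7114, 7114), (7115, 6119), (7116, 7116), (7117, 6404), (7118, 6109), (7119, 6110), (7120, 8060), (7121, 7121), (7122, 6120), (7123, 7123), (7124, 7124), (7125, 7989), (7126, 7126), (7127, 7127), (7128, 8069), (7129, 6112), (7130, 8071), (7131, 6108), (7132, 8058), (7133, 8073), (7134, 6111), (7135, 7930), (7136, 6113), (7137, 7137), (7138, 8054), (7139, 6130), (7140, 6410), (7141, 8077), (7142, 6190), (7143, 7931), (7144, 6614), (7145, 8080), (7146, 7146), (7147, 8082), (7148, 6133), (7149, 8084), (7150, 6160), (7151, 6346), (7152, 8086), (7153, 6154), (7154, 8088), (7155, 6142), (7156, 7156), (7157, 7157), (7158, 7904), (7159, 7159), (7160, 8093), (7161, 7161), (7162, 8095), (7163, 6150), (7164, 7951), (7165, 6152), (7166,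 8096), (7167, 6155)]
    ⟨e3 q7104 L148485 q6188, e3 q7105 L148495 q6611, e3 q7106 L148509 q6780, e3 q7107 (flp_d L157188) q8040, e3 q7108 L148531 q7108, e3 q7109 L148542 q7109, e3 q7110 L157333 q8052, e3 q7111 L148561 q7111, e3 q7112 L148578 q6105, e3 q7113 L148582 q6118, e3 q7114 L148604 q7114, e3 q7115 L148611 q6119, e3 q7116 L148623 q7116, e3 q7117 L148640 q6404, e3 q7118 L148648 q6109, e3 q7119 L148662 q6110, e3 q7120 L157433 q8060, e3 q7121 L148686 q7121, e3 q7122 L148693 q6120, e3 q7123 L148701 q7123, e3 q7124 L148708 q7124, e3 q7125 (flp_d L156764) q7989, e3 q7126 L148723 q7126, e3 q7127 L148736 q7127, e3 q7128 L157526 q8069, e3 q7129 L148753 q6112, e3 q7130 L157539 q8071, e3 q7131 (flp_d L148767) q6108, e3 q7132 (flp_d L157413) q8058, e3 q7133 L157555 q8073, e3 q7134 (flp_d L148798) q6111, e3 q7135 (flp_d L156102) q7930, e3 q7136 (flp_d L148819) q6113, e3 q7137 L148833 q7137, e3 q7138 (flp_d L157362) q8054, e3 q7139 L148859 q6130, e3 q7140 L148875 q6410, e3 q7141 L157592 q8077,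 e3 q7142 L148895 q6190, e3 q7143 (flp_d L156118) q7931, e3 q7144 L148921 q6614, e3 q7145 L157629 q8080, e3 q7146 L148947 q7146, e3 q7147 L157657 q8082, e3 q7148 (flp_d L148962) q6133, e3 q7149 L157673 q8084, e3 q7150 L148985 q6160, e3 q7151 L149003 q6346, e3 q7152 L157700 q8086, e3 q7153 L149027 q6154, e3 q7154 L157729 q8088, e3 q7155 (flp_d L149047) q6142, e3 q7156 L149061 q7156, e3 q7157 L149072 q7157, e3 q7158 (flp_d L155807) q7904, e3 q7159 L149089 q7159, e3 q7160 L157786 q8093, e3 q7161 L149112 q7161, e3 q7162 L157809 q8095, e3 q7163 (flp_d L149127) q6150, e3 q7164 (flp_d L156385) q7951, e3 q7165 (flp_d L149136) q6152, e3 q7166 (flp_d L157821) q8096, e3 q7167 (flp_d L149148) q6155, trivial⟩ (by decide +kernel)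

theorem ce_d_112 : ∀ r, r < 64 → sm gd (Qf (7168 + r)) = Qf (tab Gen.d (7168 + r)) :=
  edges_tab (sm gd) Qf (tab Gen.d) 7168 [(7168, 7168), (7169, 7169), (7170, 7170), (7171, 6162), (7172, 8102), (7173, 6170), (7174, 7174), (7175, 6164), (7176, 6173), (7177, 6730), (7178, 6175), (7179, 7179), (7180, 7180), (7181, 6860), (7182, 6191), (7183, 8103), (7184, 7580), (7185, 8105), (7186, 7186), (7187, 8109), (7188, 8119), (7189, 8111), (7190, 6174), (7191, 7579), (7192, 6180), (7193, 8041), (7194, 8044), (7195, 6767), (7196, 6234), (7197, 7197), (7198, 6662), (7199, 7968), (7200, 6783), (7201, 6407), (7202, 6892), (7203, 6210), (7204, 8124), (7205, 8123), (7206, 6212), (7207, 6930), (7208, 6214), (7209, 6933), (7210, 8132), (7211, 6935), (7212, 6220), (7213, 6274), (7214, 6218), (7215, 8136), (7216, 6222), (7217, 7470), (7218, 7473), (7219, 6305), (7220, 6236), (7221, 6237), (7222, 6313), (7223, 6239), (7224, 6240), (7225, 8142), (7226, 6478), (7227, 8138), (7228, 8144), (7229, 8140), (7230,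 8146), (7231, 6241)]
    ⟨e3 q7168 L149164 q7168, e3 q7169 L149174 q7169, e3 q7170 L149179 q7170, e3 q7171 (flp_d L149185) q6162, e3 q7172 (flp_d L157880) q8102, e3 q7173 L149214 q6170, e3 q7174 L149221 q7174, e3 q7175 L149225 q6164, e3 q7176 L149231 q6173, e3 q7177 (flp_d L149244) q6730, e3 q7178 L149251 q6175, e3 q7179 L149260 q7179, e3 q7180 L149268 q7180, e3 q7181 L149276 q6860, e3 q7182 L149283 q6191, e3 q7183 (flp_d L157888) q8103, e3 q7184 (flp_d L152896) q7580, e3 q7185 (flp_d L157914) q8105, e3 q7186 L149335 q7186, e3 q7187 (flp_d L157941) q8109, e3 q7188 L158038 q8119, e3 q7189 (flp_d L157962) q8111, e3 q7190 (flp_d L149378) q6174, e3 q7191 L152884 q7579, e3 q7192 (flp_d L149395) q6180, e3 q7193 (flp_d L157198) q8041, e3 q7194 (flp_d L157242) q8044, e3 q7195 L149441 q6767, e3 q7196 L149454 q6234, e3 q7197 L149478 q7197, e3 q7198 L149484 q6662, e3 q7199 (flp_d L156550) q7968, e3 q7200 L149514 q6783, e3 q7201 L149523 q6407, e3 q7202 (flp_d L149546) q6892, e3 q7203 (flp_d L149548)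 q6210, e3 q7204 (flp_d L158118) q8124, e3 q7205 (flp_d L158111) q8123, e3 q7206 L149594 q6212, e3 q7207 L149612 q6930, e3 q7208 L149620 q6214, e3 q7209 L149628 q6933, e3 q7210 L158212 q8132, e3 q7211 L149650 q6935, e3 q7212 L149660 q6220, e3 q7213 L149674 q6274, e3 q7214 (flp_d L149676) q6218, e3 q7215 (flp_d L158262) q8136, e3 q7216 L149708 q6222, e3 q7217 L151908 q7470, e3 q7218 (flp_d L151951) q7473, e3 q7219 L149740 q6305, e3 q7220 L149746 q6236, e3 q7221 L149760 q6237, e3 q7222 L149774 q6313, e3 q7223 L149780 q6239, e3 q7224 L149790 q6240, e3 q7225 L158320 q8142, e3 q7226 L149810 q6478, e3 q7227 (flp_d L158286) q8138, e3 q7228 L158343 q8144, e3 q7229 (flp_d L158310) q8140, e3 q7230 L158369 q8146, e3 q7231 (flp_d L149852) q6241, trivial⟩ (by decide +kernel)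

theorem ce_d_113 : ∀ r, r < 64 → sm gd (Qf (7232 + r)) = Qf (tab Gen.d (7232 + r)) :=
  edges_tab (sm gd) Qf (tab Gen.d) 7232 [(7232, 8148), (7233, 6250), (7234, 8150), (7235, 6247), (7236, 6249), (7237, 8151), (7238, 6251), (7239, 6794), (7240, 8152), (7241, 6255), (7242, 8156), (7243, 6261), (7244, 6623), (7245, 6257), (7246, 6258), (7247, 8164), (7248, 8154), (7249, 6260), (7250, 8157), (7251, 8171), (7252, 8159), (7253, 6626), (7254, 6453), (7255, 8126), (7256, 7061), (7257, 7257), (7258, 6265), (7259, 7265), (7260, 8183), (7261, 7430), (7262, 6277), (7263, 6278), (7264, 8129), (7265, 7259), (7266, 8191), (7267, 7705), (7268, 6270), (7269, 8195), (7270, 8197), (7271, 8201), (7272, 6283), (7273, 6284), (7274, 8204), (7275, 6275), (7276, 8205), (7277, 8207), (7278, 7895), (7279, 8187), (7280, 6280), (7281, 6634), (7282, 6281), (7283, 8212), (7284, 8214), (7285, 8219), (7286, 6282), (7287, 8202), (7288, 8222), (7289, 6285), (7290, 8211), (7291, 6289), (7292, 6644), (7293, 6290), (7294,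 8225), (7295, 7384)]
    ⟨e3 q7232 L158387 q8148, e3 q7233 L149877 q6250, e3 q7234 L158409 q8150, e3 q7235 (flp_d L149889) q6247, e3 q7236 (flp_d L149897) q6249, e3 q7237 L158421 q8151, e3 q7238 (flp_d L149921) q6251, e3 q7239 L149941 q6794, e3 q7240 L158432 q8152, e3 q7241 (flp_d L149954) q6255, e3 q7242 (flp_d L158476) q8156, e3 q7243 L149978 q6261, e3 q7244 L149985 q6623, e3 q7245 L149992 q6257, e3 q7246 (flp_d L149994) q6258, e3 q7247 (flp_d L158534) q8164, e3 q7248 (flp_d L158460) q8154, e3 q7249 L150032 q6260, e3 q7250 (flp_d L158482) q8157, e3 q7251 L158600 q8171, e3 q7252 (flp_d L158497) q8159, e3 q7253 L150066 q6626, e3 q7254 L150076 q6453, e3 q7255 (flp_d L158150) q8126, e3 q7256 L150096 q7061, e3 q7257 L150104 q7257, e3 q7258 L150111 q6265, e3 q7259 (flp_d L150175) q7265, e3 q7260 L158713 q8183, e3 q7261 (flp_d L151590) q7430, e3 q7262 L150147 q6277, e3 q7263 L150157 q6278, e3 q7264 (flp_d L158188) q8129, e3 q7265 L150175 q7259, e3 q7266 L158793 q8191, e3 q7267 (flp_d L154068)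 q7705, e3 q7268 (flp_d L150193) q6270, e3 q7269 (flp_d L158824) q8195, e3 q7270 (flp_d L158838) q8197, e3 q7271 L158862 q8201, e3 q7272 L150225 q6283, e3 q7273 L150233 q6284, e3 q7274 L158884 q8204, e3 q7275 (flp_d L150245) q6275, e3 q7276 (flp_d L158903) q8205, e3 q7277 (flp_d L158919) q8207, e3 q7278 L155704 q7895, e3 q7279 (flp_d L158753) q8187, e3 q7280 L150302 q6280, e3 q7281 L150309 q6634, e3 q7282 L150316 q6281, e3 q7283 (flp_d L158972) q8212, e3 q7284 (flp_d L158994) q8214, e3 q7285 L159034 q8219, e3 q7286 (flp_d L150353) q6282, e3 q7287 (flp_d L158872) q8202, e3 q7288 L159068 q8222, e3 q7289 (flp_d L150388) q6285, e3 q7290 (flp_d L158965) q8211, e3 q7291 L150410 q6289, e3 q7292 L150420 q6644, e3 q7293 L150427 q6290, e3 q7294 (flp_d L159102) q8225, e3 q7295 (flp_d L151231) q7384, trivial⟩ (by decide +kernel)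

theorem ce_d_114 : ∀ r, r < 64 → sm gd (Qf (7296 + r)) = Qf (tab Gen.d (7296 + r)) :=
  edges_tab (sm gd) Qf (tab Gen.d) 7296 [(7296, 7840), (7297, 6294), (7298, 6297), (7299, 7299), (7300, 7300), (7301, 6406), (7302, 7302), (7303, 6741), (7304, 7304), (7305, 6609), (7306, 8234), (7307, 6503), (7308, 6490), (7309, 7309), (7310, 8085), (7311, 7311), (7312, 6331), (7313, 7313), (7314, 8240), (7315, 6324), (7316, 6487), (7317, 7317), (7318, 6333), (7319, 7319), (7320, 7320), (7321, 8246), (7322, 7322), (7323, 8248), (7324, 6319), (7325, 6325), (7326, 8251), (7327, 6322), (7328, 7897), (7329, 7946), (7330, 6326), (7331, 8252), (7332, 6332), (7333, 8254), (7334, 6334), (7335, 7335), (7336, 6413), (7337, 8257), (7338, 7338), (7339, 8259), (7340, 6852), (7341, 6342), (7342, 6517), (7343, 8260), (7344, 8261), (7345, 6348), (7346, 6515), (7347, 7347), (7348, 8264), (7349, 8265), (7350, 6354), (7351, 8266), (7352, 6356), (7353, 8083), (7354, 7948), (7355, 6359), (7356, 7356), (7357, 6365), (7358,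 6370), (7359, 6652)]
    ⟨e3 q7296 (flp_d L155126) q7840, e3 q7297 (flp_d L150463) q6294, e3 q7298 L150477 q6297, e3 q7299 L150483 q7299, e3 q7300 L150498 q7300, e3 q7301 L150511 q6406, e3 q7302 L150517 q7302, e3 q7303 (flp_d L150532) q6741, e3 q7304 L150538 q7304, e3 q7305 L150545 q6609, e3 q7306 L159191 q8234, e3 q7307 L150563 q6503, e3 q7308 L150575 q6490, e3 q7309 L150583 q7309, e3 q7310 (flp_d L157696) q8085, e3 q7311 L150602 q7311, e3 q7312 L150609 q6331, e3 q7313 L150619 q7313, e3 q7314 L159245 q8240, e3 q7315 L150636 q6324, e3 q7316 L150648 q6487, e3 q7317 L150660 q7317, e3 q7318 L150667 q6333, e3 q7319 L150675 q7319, e3 q7320 L150680 q7320, e3 q7321 L159295 q8246, e3 q7322 L150693 q7322, e3 q7323 L159309 q8248, e3 q7324 (flp_d L150704) q6319, e3 q7325 L150714 q6325, e3 q7326 L159330 q8251, e3 q7327 (flp_d L150724) q6322, e3 q7328 (flp_d L155719) q7897, e3 q7329 (flp_d L156315) q7946, e3 q7330 (flp_d L150763) q6326, e3 q7331 L159342 q8252, e3 q7332 (flp_d L150783) q6332, e3 q7333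 L159363 q8254, e3 q7334 (flp_d L150802) q6334, e3 q7335 L150812 q7335, e3 q7336 L150819 q6413, e3 q7337 L159381 q8257, e3 q7338 L150841 q7338, e3 q7339 L159402 q8259, e3 q7340 L150862 q6852, e3 q7341 (flp_d L150866) q6342, e3 q7342 L150877 q6517, e3 q7343 L159411 q8260, e3 q7344 L159420 q8261, e3 q7345 (flp_d L150899) q6348, e3 q7346 L150913 q6515, e3 q7347 L150923 q7347, e3 q7348 L159453 q8264, e3 q7349 L159461 q8265, e3 q7350 (flp_d L150946) q6354, e3 q7351 L159470 q8266, e3 q7352 (flp_d L150960) q6356, e3 q7353 (flp_d L157671) q8083, e3 q7354 (flp_d L156343) q7948, e3 q7355 (flp_d L150977) q6359, e3 q7356 L150998 q7356, e3 q7357 (flp_d L151001) q6365, e3 q7358 L151014 q6370, e3 q7359 L151026 q6652, trivial⟩ (by decide +kernel)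

theorem ce_d_115 : ∀ r, r < 64 → sm gd (Qf (7360 + r)) = Qf (tab Gen.d (7360 + r)) :=
  edges_tab (sm gd) Qf (tab Gen.d) 7360 [(7360, 6369), (7361, 8267), (7362, 8269), (7363, 6431), (7364, 7057), (7365, 6436), (7366, 8275), (7367, 7063), (7368, 6375), (7369, 8279), (7370, 8281), (7371, 8284), (7372, 6385), (7373, 8167), (7374, 6382), (7375, 6655), (7376, 6383), (7377, 8288), (7378, 6384), (7379, 8286), (7380, 6389), (7381, 6658), (7382, 6390), (7383, 8296), (7384, 7295), (7385, 8121), (7386, 6394), (7387, 6422), (7388, 8042), (7389, 7389), (7390, 7390), (7391, 8056), (7392, 7392), (7393, 8302), (7394, 8227), (7395, 8303), (7396, 6412), (7397, 6415), (7398, 8304), (7399, 6423), (7400, 6664), (7401, 6417), (7402, 6426), (7403, 8312), (7404, 6428), (7405, 6668), (7406, 6669), (7407, 8271), (7408, 8319), (7409, 8306), (7410, 6641), (7411, 8135), (7412, 8309), (7413, 8324), (7414, 8311), (7415, 6427), (7416, 8328), (7417, 8330), (7418, 8334), (7419, 6674), (7420, 6675), (7421, 8188), (7422,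 6432), (7423, 8337)]
    ⟨e3 q7360 L151032 q6369, e3 q7361 (flp_d L159481) q8267, e3 q7362 (flp_d L159505) q8269, e3 q7363 L151056 q6431, e3 q7364 L151064 q7057, e3 q7365 L151074 q6436, e3 q7366 L159553 q8275, e3 q7367 L151088 q7063, e3 q7368 (flp_d L151092) q6375, e3 q7369 (flp_d L159588) q8279, e3 q7370 (flp_d L159606) q8281, e3 q7371 L159624 q8284, e3 q7372 L151120 q6385, e3 q7373 (flp_d L158570) q8167, e3 q7374 L151135 q6382, e3 q7375 L151146 q6655, e3 q7376 L151151 q6383, e3 q7377 (flp_d L159661) q8288, e3 q7378 (flp_d L151164) q6384, e3 q7379 (flp_d L159643) q8286, e3 q7380 L151191 q6389, e3 q7381 L151201 q6658, e3 q7382 L151210 q6390, e3 q7383 (flp_d L159758) q8296, e3 q7384 L151231 q7295, e3 q7385 (flp_d L158074) q8121, e3 q7386 (flp_d L151244) q6394, e3 q7387 L151260 q6422, e3 q7388 (flp_d L157218) q8042, e3 q7389 L151278 q7389, e3 q7390 L151285 q7390, e3 q7391 (flp_d L157391) q8056, e3 q7392 L151300 q7392, e3 q7393 L159810 q8302, e3 q7394 (flp_d L159125) q8227, e3 q7395 L159815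 q8303, e3 q7396 (flp_d L151329) q6412, e3 q7397 (flp_d L151332) q6415, e3 q7398 (flp_d L159824) q8304, e3 q7399 L151354 q6423, e3 q7400 L151362 q6664, e3 q7401 L151368 q6417, e3 q7402 L151374 q6426, e3 q7403 L159892 q8312, e3 q7404 L151390 q6428, e3 q7405 L151396 q6668, e3 q7406 L151402 q6669, e3 q7407 (flp_d L159527) q8271, e3 q7408 L159932 q8319, e3 q7409 (flp_d L159842) q8306, e3 q7410 L151436 q6641, e3 q7411 (flp_d L158252) q8135, e3 q7412 (flp_d L159866) q8309, e3 q7413 L159980 q8324, e3 q7414 (flp_d L159888) q8311, e3 q7415 (flp_d L151474) q6427, e3 q7416 (flp_d L160019) q8328, e3 q7417 (flp_d L160031) q8330, e3 q7418 L160053 q8334, e3 q7419 L151500 q6674, e3 q7420 L151508 q6675, e3 q7421 (flp_d L158767) q8188, e3 q7422 (flp_d L151520) q6432, e3 q7423 (flp_d L160079) q8337, trivial⟩ (by decide +kernel)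

theorem ce_d_116 : ∀ r, r < 64 → sm gd (Qf (7424 + r)) = Qf (tab Gen.d (7424 + r)) :=
  edges_tab (sm gd) Qf (tab Gen.d) 7424 [(7424, 8339), (7425, 8343), (7426, 6451), (7427, 6452), (7428, 8176), (7429, 8346), (7430, 7261), (7431, 6438), (7432, 8350), (7433, 8352), (7434, 8356), (7435, 6441), (7436, 8329), (7437, 6442), (7438, 8358), (7439, 8360), (7440, 8365), (7441, 6443), (7442, 6461), (7443, 8368), (7444, 6446), (7445, 6448), (7446, 6680), (7447, 6449), (7448, 8371), (7449, 8373), (7450, 8378), (7451, 6450), (7452, 8344), (7453, 8175), (7454, 6464), (7455, 6457), (7456, 6684), (7457, 6458), (7458, 6686), (7459, 8386), (7460, 8382), (7461, 8388), (7462, 6459), (7463, 8390), (7464, 7912), (7465, 6462), (7466, 8389), (7467, 8381), (7468, 6470), (7469, 6697), (7470, 7217), (7471, 8395), (7472, 6471), (7473, 7218), (7474, 7474), (7475, 6547), (7476, 7476), (7477, 7477), (7478, 7975), (7479, 7479), (7480, 8401), (7481, 6702), (7482, 8241), (7483, 6502), (7484, 8235), (7485, 6595), (7486,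 6596), (7487, 7864)]
    ⟨e3 q7424 (flp_d L160095) q8339, e3 q7425 L160125 q8343, e3 q7426 L151556 q6451, e3 q7427 L151564 q6452, e3 q7428 (flp_d L158654) q8176, e3 q7429 L160147 q8346, e3 q7430 L151590 q7261, e3 q7431 (flp_d L151594) q6438, e3 q7432 (flp_d L160187) q8350, e3 q7433 (flp_d L160205) q8352, e3 q7434 L160237 q8356, e3 q7435 L151632 q6441, e3 q7436 (flp_d L160025) q8329, e3 q7437 L151642 q6442, e3 q7438 (flp_d L160253) q8358, e3 q7439 (flp_d L160271) q8360, e3 q7440 L160295 q8365, e3 q7441 (flp_d L151660) q6443, e3 q7442 L151666 q6461, e3 q7443 L160305 q8368, e3 q7444 (flp_d L151676) q6446, e3 q7445 L151686 q6448, e3 q7446 L151694 q6680, e3 q7447 L151700 q6449, e3 q7448 (flp_d L160330) q8371, e3 q7449 (flp_d L160354) q8373, e3 q7450 L160396 q8378, e3 q7451 (flp_d L151738) q6450, e3 q7452 (flp_d L160135) q8344, e3 q7453 (flp_d L158640) q8175, e3 q7454 L151775 q6464, e3 q7455 L151781 q6457, e3 q7456 L151795 q6684, e3 q7457 L151801 q6458, e3 q7458 L151809 q6686, e3 q7459 L160471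 q8386, e3 q7460 (flp_d L160443) q8382, e3 q7461 L160489 q8388, e3 q7462 (flp_d L151837) q6459, e3 q7463 (flp_d L160511) q8390, e3 q7464 (flp_d L155897) q7912, e3 q7465 (flp_d L151859) q6462, e3 q7466 (flp_d L160503) q8389, e3 q7467 (flp_d L160435) q8381, e3 q7468 L151881 q6470, e3 q7469 L151892 q6697, e3 q7470 (flp_d L151908) q7217, e3 q7471 L160550 q8395, e3 q7472 (flp_d L151921) q6471, e3 q7473 L151951 q7218, e3 q7474 L151963 q7474, e3 q7475 L151970 q6547, e3 q7476 L151978 q7476, e3 q7477 L151985 q7477, e3 q7478 (flp_d L156632) q7975, e3 q7479 L152004 q7479, e3 q7480 L160615 q8401, e3 q7481 L152023 q6702, e3 q7482 (flp_d L159259) q8241, e3 q7483 L152041 q6502, e3 q7484 (flp_d L159204) q8235, e3 q7485 L152061 q6595, e3 q7486 L152069 q6596, e3 q7487 (flp_d L155386) q7864, trivial⟩ (by decide +kernel)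

theorem ce_d_117 : ∀ r, r < 64 → sm gd (Qf (7488 + r)) = Qf (tab Gen.d (7488 + r)) :=
  edges_tab (sm gd) Qf (tab Gen.d) 7488 [(7488, 6598), (7489, 6599), (7490, 8408), (7491, 6601), (7492, 8410), (7493, 6498), (7494, 7915), (7495, 6500), (7496, 8411), (7497, 7914), (7498, 6610), (7499, 7499), (7500, 7893), (7501, 8414), (7502, 8415), (7503, 6513), (7504, 7936), (7505, 7950), (7506, 6612), (7507, 8417), (7508, 8418), (7509, 6522), (7510, 7954), (7511, 6524), (7512, 6528), (7513, 6704), (7514, 6531), (7515, 6535), (7516, 6707), (7517, 6544), (7518, 6709), (7519, 8422), (7520, 6545), (7521, 7521), (7522, 6546), (7523, 7523), (7524, 7524), (7525, 8108), (7526, 6711), (7527, 6712), (7528, 8436), (7529, 8427), (7530, 6548), (7531, 8437), (7532, 8439), (7533, 7639), (7534, 6551), (7535, 7535), (7536, 6552), (7537, 8444), (7538, 8446), (7539, 8451), (7540, 6553), (7541, 7541), (7542, 6557), (7543, 7543), (7544, 6558), (7545, 7545), (7546, 8458), (7547, 8454), (7548, 8460), (7549, 6559), (7550,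 8462), (7551, 7837)]
    ⟨e3 q7488 L152087 q6598, e3 q7489 L152095 q6599, e3 q7490 L160678 q8408, e3 q7491 L152113 q6601, e3 q7492 L160696 q8410, e3 q7493 (flp_d L152127) q6498, e3 q7494 (flp_d L155933) q7915, e3 q7495 (flp_d L152141) q6500, e3 q7496 (flp_d L160712) q8411, e3 q7497 (flp_d L155915) q7914, e3 q7498 L152170 q6610, e3 q7499 L152178 q7499, e3 q7500 (flp_d L155675) q7893, e3 q7501 L160728 q8414, e3 q7502 L160737 q8415, e3 q7503 (flp_d L152209) q6513, e3 q7504 (flp_d L156189) q7936, e3 q7505 (flp_d L156371) q7950, e3 q7506 L152234 q6612, e3 q7507 L160750 q8417, e3 q7508 L160758 q8418, e3 q7509 (flp_d L152252) q6522, e3 q7510 (flp_d L156427) q7954, e3 q7511 (flp_d L152268) q6524, e3 q7512 L152280 q6528, e3 q7513 L152291 q6704, e3 q7514 L152296 q6531, e3 q7515 L152305 q6535, e3 q7516 L152312 q6707, e3 q7517 L152321 q6544, e3 q7518 L152330 q6709, e3 q7519 (flp_d L160799) q8422, e3 q7520 L152345 q6545, e3 q7521 L152360 q7521, e3 q7522 L152365 q6546, e3 q7523 L152374 q7523, e3 q7524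 L152384 q7524, e3 q7525 (flp_d L157937) q8108, e3 q7526 L152401 q6711, e3 q7527 L152406 q6712, e3 q7528 L160918 q8436, e3 q7529 (flp_d L160843) q8427, e3 q7530 (flp_d L152425) q6548, e3 q7531 (flp_d L160928) q8437, e3 q7532 (flp_d L160945) q8439, e3 q7533 (flp_d L153514) q7639, e3 q7534 L152469 q6551, e3 q7535 L152479 q7535, e3 q7536 L152484 q6552, e3 q7537 (flp_d L160995) q8444, e3 q7538 (flp_d L161016) q8446, e3 q7539 L161058 q8451, e3 q7540 (flp_d L152520) q6553, e3 q7541 L152535 q7541, e3 q7542 L152541 q6557, e3 q7543 L152558 q7543, e3 q7544 L152564 q6558, e3 q7545 L152573 q7545, e3 q7546 L161121 q8458, e3 q7547 (flp_d L161087) q8454, e3 q7548 L161139 q8460, e3 q7549 (flp_d L152602) q6559, e3 q7550 (flp_d L161159) q8462, e3 q7551 (flp_d L155093) q7837, trivial⟩ (by decide +kernel)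

theorem ce_d_118 : ∀ r, r < 64 → sm gd (Qf (7552 + r)) = Qf (tab Gen.d (7552 + r)) :=
  edges_tab (sm gd) Qf (tab Gen.d) 7552 [(7552, 6562), (7553, 8461), (7554, 7554), (7555, 6567), (7556, 6716), (7557, 6568), (7558, 6718), (7559, 8470), (7560, 8466), (7561, 8472), (7562, 6569), (7563, 8474), (7564, 7836), (7565, 6572), (7566, 8473), (7567, 6587), (7568, 6580), (7569, 6729), (7570, 8480), (7571, 8481), (7572, 6579), (7573, 8484), (7574, 6581), (7575, 6586), (7576, 6583), (7577, 8485), (7578, 8486), (7579, 7191), (7580, 7184), (7581, 6590), (7582, 6593), (7583, 8045), (7584, 8404), (7585, 8489), (7586, 8406), (7587, 8491), (7588, 6600), (7589, 7922), (7590, 6602), (7591, 6606), (7592, 8494), (7593, 8231), (7594, 8048), (7595, 8496), (7596, 6613), (7597, 7956), (7598, 6615), (7599, 7599), (7600, 7033), (7601, 8155), (7602, 8497), (7603, 8160), (7604, 8161), (7605, 7074), (7606, 6625), (7607, 8500), (7608, 7911), (7609, 6628), (7610, 8501), (7611, 8504), (7612, 6631), (7613, 8206), (7614,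 8508), (7615, 6642)]
    ⟨e3 q7552 (flp_d L152626) q6562, e3 q7553 (flp_d L161151) q8461, e3 q7554 L152650 q7554, e3 q7555 L152662 q6567, e3 q7556 L152681 q6716, e3 q7557 L152688 q6568, e3 q7558 L152697 q6718, e3 q7559 L161237 q8470, e3 q7560 (flp_d L161198) q8466, e3 q7561 L161256 q8472, e3 q7562 (flp_d L152732) q6569, e3 q7563 (flp_d L161279) q8474, e3 q7564 (flp_d L155072) q7836, e3 q7565 (flp_d L152761) q6572, e3 q7566 (flp_d L161270) q8473, e3 q7567 L152785 q6587, e3 q7568 L152792 q6580, e3 q7569 L152799 q6729, e3 q7570 L161326 q8480, e3 q7571 L161337 q8481, e3 q7572 (flp_d L152817) q6579, e3 q7573 L161358 q8484, e3 q7574 (flp_d L152833) q6581, e3 q7575 L152851 q6586, e3 q7576 L152858 q6583, e3 q7577 (flp_d L161371) q8485, e3 q7578 L161377 q8486, e3 q7579 (flp_d L152884) q7191, e3 q7580 L152896 q7184, e3 q7581 (flp_d L152900) q6590, e3 q7582 (flp_d L152917) q6593, e3 q7583 (flp_d L157256) q8045, e3 q7584 (flp_d L160648) q8404, e3 q7585 L161409 q8489, e3 q7586 (flp_d L160666) q8406,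 e3 q7587 L161428 q8491, e3 q7588 (flp_d L152978) q6600, e3 q7589 (flp_d L156010) q7922, e3 q7590 (flp_d L152997) q6602, e3 q7591 L153011 q6606, e3 q7592 (flp_d L161452) q8494, e3 q7593 (flp_d L159165) q8231, e3 q7594 (flp_d L157290) q8048, e3 q7595 L161468 q8496, e3 q7596 (flp_d L153049) q6613, e3 q7597 (flp_d L156444) q7956, e3 q7598 (flp_d L153067) q6615, e3 q7599 L153081 q7599, e3 q7600 L153095 q7033, e3 q7601 (flp_d L158469) q8155, e3 q7602 L161475 q8497, e3 q7603 (flp_d L158504) q8160, e3 q7604 (flp_d L158511) q8161, e3 q7605 L153143 q7074, e3 q7606 (flp_d L153146) q6625, e3 q7607 (flp_d L161513) q8500, e3 q7608 (flp_d L155885) q7911, e3 q7609 L153184 q6628, e3 q7610 (flp_d L161523) q8501, e3 q7611 (flp_d L161562) q8504, e3 q7612 L153219 q6631, e3 q7613 (flp_d L158912) q8206, e3 q7614 (flp_d L161621) q8508, e3 q7615 L153250 q6642, trivial⟩ (by decide +kernel)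

theorem ce_d_119 : ∀ r, r < 64 → sm gd (Qf (7616 + r)) = Qf (tab Gen.d (7616 + r)) :=
  edges_tab (sm gd) Qf (tab Gen.d) 7616 [(7616, 6636), (7617, 8213), (7618, 6637), (7619, 8215), (7620, 8513), (7621, 8293), (7622, 8515), (7623, 6638), (7624, 8516), (7625, 7909), (7626, 8295), (7627, 6646), (7628, 7633), (7629, 8270), (7630, 6670), (7631, 8287), (7632, 8289), (7633, 7628), (7634, 8307), (7635, 6944), (7636, 6666), (7637, 8520), (7638, 8522), (7639, 7533), (7640, 8316), (7641, 8317), (7642, 8527), (7643, 6672), (7644, 6677), (7645, 6673), (7646, 8529), (7647, 8531), (7648, 8335), (7649, 7649), (7650, 6678), (7651, 8530), (7652, 8532), (7653, 7653), (7654, 6681), (7655, 8372), (7656, 8374), (7657, 6695), (7658, 6688), (7659, 8383), (7660, 8110), (7661, 8538), (7662, 6687), (7663, 8540), (7664, 6689), (7665, 6694), (7666, 6691), (7667, 8541), (7668, 8542), (7669, 6699), (7670, 8420), (7671, 8421), (7672, 6710), (7673, 7673), (7674, 8546), (7675, 8547), (7676, 8434), (7677, 8548), (7678,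 6713), (7679, 7679)]
    ⟨e3 q7616 L153262 q6636, e3 q7617 (flp_d L158987) q8213, e3 q7618 L153286 q6637, e3 q7619 (flp_d L159003) q8215, e3 q7620 L161679 q8513, e3 q7621 L159722 q8293, e3 q7622 L161701 q8515, e3 q7623 (flp_d L153330) q6638, e3 q7624 (flp_d L161717) q8516, e3 q7625 (flp_d L155865) q7909, e3 q7626 (flp_d L159749) q8295, e3 q7627 L153380 q6646, e3 q7628 (flp_d L153460) q7633, e3 q7629 (flp_d L159515) q8270, e3 q7630 L153424 q6670, e3 q7631 (flp_d L159656) q8287, e3 q7632 (flp_d L159670) q8289, e3 q7633 L153460 q7628, e3 q7634 (flp_d L159850) q8307, e3 q7635 L153482 q6944, e3 q7636 (flp_d L153485) q6666, e3 q7637 (flp_d L161769) q8520, e3 q7638 (flp_d L161782) q8522, e3 q7639 L153514 q7533, e3 q7640 (flp_d L159916) q8316, e3 q7641 (flp_d L159922) q8317, e3 q7642 L161827 q8527, e3 q7643 L153546 q6672, e3 q7644 L153551 q6677, e3 q7645 L153556 q6673, e3 q7646 (flp_d L161839) q8529, e3 q7647 (flp_d L161863) q8531, e3 q7648 (flp_d L160061) q8335, e3 q7649 L153586 q7649, e3 q7650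 L153597 q6678, e3 q7651 (flp_d L161858) q8530, e3 q7652 (flp_d L161870) q8532, e3 q7653 L153624 q7653, e3 q7654 L153634 q6681, e3 q7655 (flp_d L160348) q8372, e3 q7656 (flp_d L160362) q8374, e3 q7657 L153663 q6695, e3 q7658 L153674 q6688, e3 q7659 (flp_d L160451) q8383, e3 q7660 L157954 q8110, e3 q7661 L161916 q8538, e3 q7662 (flp_d L153703) q6687, e3 q7663 L161926 q8540, e3 q7664 (flp_d L153719) q6689, e3 q7665 L153729 q6694, e3 q7666 L153735 q6691, e3 q7667 (flp_d L161942) q8541, e3 q7668 (flp_d L161946) q8542, e3 q7669 (flp_d L153747) q6699, e3 q7670 (flp_d L160779) q8420, e3 q7671 (flp_d L160788) q8421, e3 q7672 L153794 q6710, e3 q7673 L153809 q7673, e3 q7674 L161987 q8546, e3 q7675 L161997 q8547, e3 q7676 (flp_d L160909) q8434, e3 q7677 L162005 q8548, e3 q7678 (flp_d L153849) q6713, e3 q7679 L153857 q7679, trivial⟩ (by decide +kernel)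

theorem ce_d_120 : ∀ r, r < 64 → sm gd (Qf (7680 + r)) = Qf (tab Gen.d (7680 + r)) :=
  edges_tab (sm gd) Qf (tab Gen.d) 7680 [(7680, 6720), (7681, 8467), (7682, 8553), (7683, 8554), (7684, 6719), (7685, 8555), (7686, 6721), (7687, 6726), (7688, 6723), (7689, 8556), (7690, 8558), (7691, 8104), (7692, 8112), (7693, 6731), (7694, 6733), (7695, 6737), (7696, 6744), (7697, 7697), (7698, 6743), (7699, 8559), (7700, 8566), (7701, 8561), (7702, 7702), (7703, 7856), (7704, 8570), (7705, 7267), (7706, 6748), (7707, 8573), (7708, 8575), (7709, 8578), (7710, 6758), (7711, 8580), (7712, 6754), (7713, 7713), (7714, 6755), (7715, 8582), (7716, 8584), (7717, 8589), (7718, 6756), (7719, 8046), (7720, 8592), (7721, 6759), (7722, 8581), (7723, 6763), (7724, 7724), (7725, 6764), (7726, 8595), (7727, 7093), (7728, 8122), (7729, 6768), (7730, 7730), (7731, 8598), (7732, 8599), (7733, 7733), (7734, 8601), (7735, 8602), (7736, 6777), (7737, 8604), (7738, 6779), (7739, 8147), (7740, 6781), (7741, 7741), (7742,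 6786), (7743, 7743)]
    ⟨e3 q7680 L153867 q6720, e3 q7681 (flp_d L161211) q8467, e3 q7682 L162059 q8553, e3 q7683 L162066 q8554, e3 q7684 (flp_d L153900) q6719, e3 q7685 L162073 q8555, e3 q7686 (flp_d L153917) q6721, e3 q7687 L153927 q6726, e3 q7688 L153934 q6723, e3 q7689 (flp_d L162091) q8556, e3 q7690 (flp_d L162109) q8558, e3 q7691 (flp_d L157907) q8104, e3 q7692 (flp_d L157971) q8112, e3 q7693 (flp_d L153976) q6731, e3 q7694 (flp_d L153981) q6733, e3 q7695 L153992 q6737, e3 q7696 L154002 q6744, e3 q7697 L154011 q7697, e3 q7698 L154017 q6743, e3 q7699 (flp_d L162115) q8559, e3 q7700 L162167 q8566, e3 q7701 (flp_d L162134) q8561, e3 q7702 L154045 q7702, e3 q7703 (flp_d L155299) q7856, e3 q7704 L162198 q8570, e3 q7705 L154068 q7267, e3 q7706 (flp_d L154070) q6748, e3 q7707 (flp_d L162225) q8573, e3 q7708 (flp_d L162241) q8575, e3 q7709 L162261 q8578, e3 q7710 L154104 q6758, e3 q7711 L162275 q8580, e3 q7712 L154121 q6754, e3 q7713 L154130 q7713, e3 q7714 L154136 q6755, e3 q7715 (flp_d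 L162297) q8582, e3 q7716 (flp_d L162312) q8584, e3 q7717 L162354 q8589, e3 q7718 (flp_d L154171) q6756, e3 q7719 (flp_d L157270) q8046, e3 q7720 L162385 q8592, e3 q7721 (flp_d L154206) q6759, e3 q7722 (flp_d L162288) q8581, e3 q7723 L154225 q6763, e3 q7724 L154237 q7724, e3 q7725 L154247 q6764, e3 q7726 (flp_d L162419) q8595, e3 q7727 L154272 q7093, e3 q7728 (flp_d L158096) q8122, e3 q7729 (flp_d L154285) q6768, e3 q7730 L154302 q7730, e3 q7731 L162445 q8598, e3 q7732 L162452 q8599, e3 q7733 L154323 q7733, e3 q7734 L162465 q8601, e3 q7735 L162471 q8602, e3 q7736 (flp_d L154338) q6777, e3 q7737 L162482 q8604, e3 q7738 (flp_d L154350) q6779, e3 q7739 (flp_d L158385) q8147, e3 q7740 (flp_d L154366) q6781, e3 q7741 L154378 q7741, e3 q7742 (flp_d L154379) q6786, e3 q7743 L154389 q7743, trivial⟩ (by decide +kernel)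

theorem ce_d_121 : ∀ r, r < 64 → sm gd (Qf (7744 + r)) = Qf (tab Gen.d (7744 + r)) :=
  edges_tab (sm gd) Qf (tab Gen.d) 7744 [(7744, 6788), (7745, 6789), (7746, 6790), (7747, 8613), (7748, 6792), (7749, 8612), (7750, 7750), (7751, 8615), (7752, 6802), (7753, 7753), (7754, 7754), (7755, 7967), (7756, 6801), (7757, 8622), (7758, 8624), (7759, 8627), (7760, 7760), (7761, 8629), (7762, 6807), (7763, 8623), (7764, 6808), (7765, 8631), (7766, 8633), (7767, 8638), (7768, 6809), (7769, 6820), (7770, 8641), (7771, 6812), (7772, 6823), (7773, 6816), (7774, 7774), (7775, 6817), (7776, 7776), (7777, 8648), (7778, 8644), (7779, 8650), (7780, 6818), (7781, 8652), (7782, 8653), (7783, 6821), (7784, 8651), (7785, 8643), (7786, 6829), (7787, 7787), (7788, 6950), (7789, 8659), (7790, 6830), (7791, 6833), (7792, 6952), (7793, 8655), (7794, 8663), (7795, 6837), (7796, 8664), (7797, 6839), (7798, 8233), (7799, 6841), (7800, 6889), (7801, 6846), (7802, 6891), (7803, 6894), (7804, 6848), (7805, 6850), (7806,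 7952), (7807, 7940)]
    ⟨e3 q7744 (flp_d L154390) q6788, e3 q7745 (flp_d L154395) q6789, e3 q7746 (flp_d L154402) q6790, e3 q7747 (flp_d L162537) q8613, e3 q7748 (flp_d L154409) q6792, e3 q7749 (flp_d L162532) q8612, e3 q7750 L154423 q7750, e3 q7751 L162547 q8615, e3 q7752 L154439 q6802, e3 q7753 L154445 q7753, e3 q7754 L154454 q7754, e3 q7755 (flp_d L156542) q7967, e3 q7756 (flp_d L154463) q6801, e3 q7757 (flp_d L162603) q8622, e3 q7758 (flp_d L162613) q8624, e3 q7759 L162629 q8627, e3 q7760 L154488 q7760, e3 q7761 L162641 q8629, e3 q7762 L154503 q6807, e3 q7763 (flp_d L162608) q8623, e3 q7764 L154515 q6808, e3 q7765 (flp_d L162658) q8631, e3 q7766 (flp_d L162670) q8633, e3 q7767 L162698 q8638, e3 q7768 (flp_d L154535) q6809, e3 q7769 L154543 q6820, e3 q7770 L162710 q8641, e3 q7771 (flp_d L154553) q6812, e3 q7772 L154563 q6823, e3 q7773 L154571 q6816, e3 q7774 L154579 q7774, e3 q7775 L154584 q6817, e3 q7776 L154592 q7776, e3 q7777 L162761 q8648, e3 q7778 (flp_d L162736) q8644, e3 q7779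 L162778 q8650, e3 q7780 (flp_d L154622) q6818, e3 q7781 (flp_d L162795) q8652, e3 q7782 L162797 q8653, e3 q7783 (flp_d L154643) q6821, e3 q7784 (flp_d L162788) q8651, e3 q7785 (flp_d L162726) q8643, e3 q7786 L154665 q6829, e3 q7787 L154678 q7787, e3 q7788 (flp_d L154695) q6950, e3 q7789 L162850 q8659, e3 q7790 (flp_d L154707) q6830, e3 q7791 (flp_d L154720) q6833, e3 q7792 L154737 q6952, e3 q7793 (flp_d L162814) q8655, e3 q7794 L162908 q8663, e3 q7795 (flp_d L154754) q6837, e3 q7796 L162917 q8664, e3 q7797 (flp_d L154767) q6839, e3 q7798 (flp_d L159187) q8233, e3 q7799 (flp_d L154781) q6841, e3 q7800 L154795 q6889, e3 q7801 L154802 q6846, e3 q7802 L154806 q6891, e3 q7803 L154811 q6894, e3 q7804 (flp_d L154826) q6848, e3 q7805 (flp_d L154833) q6850, e3 q7806 (flp_d L156401) q7952, e3 q7807 (flp_d L156237) q7940, trivial⟩ (by decide +kernel)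

theorem ce_d_122 : ∀ r, r < 64 → sm gd (Qf (7808 + r)) = Qf (tab Gen.d (7808 + r)) :=
  edges_tab (sm gd) Qf (tab Gen.d) 7808 [(7808, 8087), (7809, 6897), (7810, 7810), (7811, 7811), (7812, 8673), (7813, 6874), (7814, 6867), (7815, 7815), (7816, 8677), (7817, 8678), (7818, 6866), (7819, 8681), (7820, 6868), (7821, 6873), (7822, 6870), (7823, 6871), (7824, 8682), (7825, 6886), (7826, 8684), (7827, 8688), (7828, 8689), (7829, 6903), (7830, 6877), (7831, 6880), (7832, 6885), (7833, 8683), (7834, 8668), (7835, 8669), (7836, 7564), (7837, 7551), (7838, 8550), (7839, 7839), (7840, 7296), (7841, 7094), (7842, 6984), (7843, 6925), (7844, 7844), (7845, 6921), (7846, 6922), (7847, 8697), (7848, 8280), (7849, 7849), (7850, 6924), (7851, 8690), (7852, 8706), (7853, 8692), (7854, 7854), (7855, 7855), (7856, 7703), (7857, 7990), (7858, 7858), (7859, 6929), (7860, 8127), (7861, 8268), (7862, 8128), (7863, 6939), (7864, 7487), (7865, 8130), (7866, 8724), (7867, 8131), (7868, 6934), (7869, 8728), (7870,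 8730), (7871, 8734)]
    ⟨e3 q7808 (flp_d L157725) q8087, e3 q7809 L154855 q6897, e3 q7810 L154863 q7810, e3 q7811 L154873 q7811, e3 q7812 L162982 q8673, e3 q7813 L154888 q6874, e3 q7814 L154897 q6867, e3 q7815 L154904 q7815, e3 q7816 L163007 q8677, e3 q7817 L163014 q8678, e3 q7818 (flp_d L154919) q6866, e3 q7819 L163032 q8681, e3 q7820 (flp_d L154934) q6868, e3 q7821 L154944 q6873, e3 q7822 L154950 q6870, e3 q7823 (flp_d L154952) q6871, e3 q7824 (flp_d L163044) q8682, e3 q7825 L154972 q6886, e3 q7826 (flp_d L163060) q8684, e3 q7827 L163088 q8688, e3 q7828 L163093 q8689, e3 q7829 (flp_d L155006) q6903, e3 q7830 (flp_d L155008) q6877, e3 q7831 (flp_d L155021) q6880, e3 q7832 L155044 q6885, e3 q7833 (flp_d L163056) q8683, e3 q7834 (flp_d L162945) q8668, e3 q7835 (flp_d L162952) q8669, e3 q7836 L155072 q7564, e3 q7837 L155093 q7551, e3 q7838 L162031 q8550, e3 q7839 L155112 q7839, e3 q7840 L155126 q7296, e3 q7841 L155142 q7094, e3 q7842 L155156 q6984, e3 q7843 L155165 q6925, e3 q7844 L155176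 q7844, e3 q7845 L155182 q6921, e3 q7846 (flp_d L155186) q6922, e3 q7847 (flp_d L163185) q8697, e3 q7848 (flp_d L159600) q8280, e3 q7849 L155232 q7849, e3 q7850 L155241 q6924, e3 q7851 (flp_d L163111) q8690, e3 q7852 L163290 q8706, e3 q7853 (flp_d L163132) q8692, e3 q7854 L155275 q7854, e3 q7855 L155288 q7855, e3 q7856 L155299 q7703, e3 q7857 (flp_d L156770) q7990, e3 q7858 L155321 q7858, e3 q7859 L155330 q6929, e3 q7860 (flp_d L158156) q8127, e3 q7861 (flp_d L159499) q8268, e3 q7862 (flp_d L158172) q8128, e3 q7863 L155370 q6939, e3 q7864 L155386 q7487, e3 q7865 (flp_d L158196) q8130, e3 q7866 L163497 q8724, e3 q7867 (flp_d L158208) q8131, e3 q7868 (flp_d L155412) q6934, e3 q7869 (flp_d L163543) q8728, e3 q7870 (flp_d L163561) q8730, e3 q7871 L163595 q8734, trivial⟩ (by decide +kernel)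

theorem ce_d_123 : ∀ r, r < 64 → sm gd (Qf (7872 + r)) = Qf (tab Gen.d (7872 + r)) :=
  edges_tab (sm gd) Qf (tab Gen.d) 7872 [(7872, 6945), (7873, 6946), (7874, 8737), (7875, 8738), (7876, 6942), (7877, 7877), (7878, 6943), (7879, 8740), (7880, 8742), (7881, 8746), (7882, 8735), (7883, 8747), (7884, 6947), (7885, 8739), (7886, 6949), (7887, 8658), (7888, 8661), (7889, 6954), (7890, 7890), (7891, 7891), (7892, 7892), (7893, 7500), (7894, 7894), (7895, 7278), (7896, 7896), (7897, 7328), (7898, 8757), (7899, 7899), (7900, 8759), (7901, 6986), (7902, 6987), (7903, 7903), (7904, 7158), (7905, 6990), (7906, 6991), (7907, 8765), (7908, 8766), (7909, 7625), (7910, 6993), (7911, 7608), (7912, 7464), (7913, 8771), (7914, 7497), (7915, 7494), (7916, 6976), (7917, 6981), (7918, 8775), (7919, 6979), (7920, 6980), (7921, 6982), (7922, 7589), (7923, 8777), (7924, 8760), (7925, 8763), (7926, 8779), (7927, 6992), (7928, 8780), (7929, 6994), (7930, 7135), (7931, 7143), (7932, 8783), (7933, 8784), (7934,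 7934), (7935, 8786)]
    ⟨e3 q7872 L155448 q6945, e3 q7873 L155462 q6946, e3 q7874 L163627 q8737, e3 q7875 L163637 q8738, e3 q7876 L155493 q6942, e3 q7877 L155505 q7877, e3 q7878 L155510 q6943, e3 q7879 (flp_d L163662) q8740, e3 q7880 (flp_d L163679) q8742, e3 q7881 L163714 q8746, e3 q7882 (flp_d L163609) q8735, e3 q7883 L163719 q8747, e3 q7884 (flp_d L155571) q6947, e3 q7885 (flp_d L163654) q8739, e3 q7886 L155592 q6949, e3 q7887 L162848 q8658, e3 q7888 (flp_d L162891) q8661, e3 q7889 L155622 q6954, e3 q7890 L155632 q7890, e3 q7891 L155649 q7891, e3 q7892 L155662 q7892, e3 q7893 L155675 q7500, e3 q7894 L155681 q7894, e3 q7895 (flp_d L155704) q7278, e3 q7896 L155710 q7896, e3 q7897 L155719 q7328, e3 q7898 L163845 q8757, e3 q7899 L155743 q7899, e3 q7900 L163870 q8759, e3 q7901 L155760 q6986, e3 q7902 L155778 q6987, e3 q7903 L155792 q7903, e3 q7904 L155807 q7158, e3 q7905 L155811 q6990, e3 q7906 L155827 q6991, e3 q7907 L163945 q8765, e3 q7908 L163959 q8766, e3 q7909 L155865 q7625, e3 q7910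 L155875 q6993, e3 q7911 L155885 q7608, e3 q7912 L155897 q7464, e3 q7913 L164019 q8771, e3 q7914 L155915 q7497, e3 q7915 L155933 q7494, e3 q7916 (flp_d L155935) q6976, e3 q7917 L155951 q6981, e3 q7918 L164073 q8775, e3 q7919 (flp_d L155967) q6979, e3 q7920 (flp_d L155975) q6980, e3 q7921 (flp_d L155988) q6982, e3 q7922 L156010 q7589, e3 q7923 (flp_d L164108) q8777, e3 q7924 (flp_d L163885) q8760, e3 q7925 (flp_d L163929) q8763, e3 q7926 L164123 q8779, e3 q7927 (flp_d L156064) q6992, e3 q7928 L164134 q8780, e3 q7929 (flp_d L156086) q6994, e3 q7930 L156102 q7135, e3 q7931 L156118 q7143, e3 q7932 L164165 q8783, e3 q7933 L164180 q8784, e3 q7934 L156156 q7934, e3 q7935 L164209 q8786, trivial⟩ (by decide +kernel)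

theorem ce_d_124 : ∀ r, r < 64 → sm gd (Qf (7936 + r)) = Qf (tab Gen.d (7936 + r)) :=
  edges_tab (sm gd) Qf (tab Gen.d) 7936 [(7936, 7504), (7937, 7003), (7938, 8788), (7939, 7005), (7940, 7807), (7941, 8790), (7942, 7027), (7943, 8792), (7944, 7011), (7945, 7012), (7946, 7329), (7947, 8794), (7948, 7354), (7949, 7016), (7950, 7505), (7951, 7164), (7952, 7806), (7953, 7021), (7954, 7510), (7955, 7026), (7956, 7597), (7957, 7029), (7958, 7034), (7959, 8798), (7960, 7043), (7961, 7036), (7962, 7046), (7963, 8805), (7964, 7048), (7965, 7965), (7966, 7966), (7967, 7755), (7968, 7199), (7969, 8797), (7970, 7042), (7971, 8799), (7972, 8815), (7973, 8800), (7974, 7974), (7975, 7478), (7976, 8802), (7977, 8820), (7978, 8804), (7979, 7047), (7980, 8824), (7981, 8826), (7982, 8830), (7983, 7983), (7984, 7984), (7985, 8833), (7986, 8834), (7987, 7992), (7988, 7988), (7989, 7125), (7990, 7857), (7991, 8839), (7992, 7987), (7993, 7056), (7994, 8842), (7995, 8843), (7996, 8847), (7997, 7075), (7998,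 7076), (7999, 8850)]
    ⟨e3 q7936 L156189 q7504, e3 q7937 (flp_d L156193) q7003, e3 q7938 L164239 q8788, e3 q7939 (flp_d L156216) q7005, e3 q7940 L156237 q7807, e3 q7941 L164269 q8790, e3 q7942 L156261 q7027, e3 q7943 L164298 q8792, e3 q7944 (flp_d L156283) q7011, e3 q7945 (flp_d L156295) q7012, e3 q7946 L156315 q7329, e3 q7947 L164330 q8794, e3 q7948 L156343 q7354, e3 q7949 (flp_d L156347) q7016, e3 q7950 L156371 q7505, e3 q7951 L156385 q7164, e3 q7952 L156401 q7806, e3 q7953 (flp_d L156405) q7021, e3 q7954 L156427 q7510, e3 q7955 L156438 q7026, e3 q7956 L156444 q7597, e3 q7957 (flp_d L156455) q7029, e3 q7958 (flp_d L156466) q7034, e3 q7959 (flp_d L164387) q8798, e3 q7960 L156490 q7043, e3 q7961 L156496 q7036, e3 q7962 L156502 q7046, e3 q7963 L164453 q8805, e3 q7964 L156516 q7048, e3 q7965 L156524 q7965, e3 q7966 L156533 q7966, e3 q7967 L156542 q7755, e3 q7968 L156550 q7199, e3 q7969 (flp_d L164381) q8797, e3 q7970 L156575 q7042, e3 q7971 (flp_d L164395) q8799, e3 q7972 L164544 q8815,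 e3 q7973 (flp_d L164411) q8800, e3 q7974 L156619 q7974, e3 q7975 L156632 q7478, e3 q7976 (flp_d L164427) q8802, e3 q7977 L164597 q8820, e3 q7978 (flp_d L164449) q8804, e3 q7979 (flp_d L156668) q7047, e3 q7980 (flp_d L164646) q8824, e3 q7981 (flp_d L164656) q8826, e3 q7982 L164688 q8830, e3 q7983 L156699 q7983, e3 q7984 L156710 q7984, e3 q7985 L164719 q8833, e3 q7986 L164728 q8834, e3 q7987 (flp_d L156800) q7992, e3 q7988 L156749 q7988, e3 q7989 L156764 q7125, e3 q7990 L156770 q7857, e3 q7991 L164787 q8839, e3 q7992 L156800 q7987, e3 q7993 (flp_d L156806) q7056, e3 q7994 (flp_d L164832) q8842, e3 q7995 (flp_d L164838) q8843, e3 q7996 L164876 q8847, e3 q7997 L156844 q7075, e3 q7998 L156858 q7076, e3 q7999 L164908 q8850, trivial⟩ (by decide +kernel)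

theorem ce_d_125 : ∀ r, r < 64 → sm gd (Qf (8000 + r)) = Qf (tab Gen.d (8000 + r)) :=
  edges_tab (sm gd) Qf (tab Gen.d) 8000 [(8000, 8851), (8001, 8178), (8002, 7062), (8003, 8855), (8004, 8857), (8005, 8861), (8006, 7065), (8007, 8825), (8008, 7066), (8009, 8863), (8010, 8865), (8011, 8870), (8012, 7067), (8013, 7085), (8014, 8873), (8015, 7070), (8016, 7072), (8017, 7073), (8018, 8875), (8019, 8876), (8020, 8880), (8021, 8848), (8022, 8881), (8023, 7077), (8024, 7088), (8025, 7081), (8026, 8026), (8027, 7082), (8028, 8028), (8029, 8888), (8030, 8884), (8031, 8890), (8032, 7083), (8033, 8892), (8034, 8782), (8035, 7086), (8036, 8891), (8037, 8883), (8038, 7092), (8039, 8596), (8040, 7107), (8041, 7193), (8042, 7388), (8043, 8896), (8044, 7194), (8045, 7583), (8046, 7719), (8047, 8813), (8048, 7594), (8049, 8901), (8050, 8050), (8051, 8903), (8052, 7110), (8053, 8905), (8054, 7138), (8055, 8055), (8056, 7391), (8057, 8908), (8058, 7132), (8059, 8910), (8060, 7120), (8061, 8061), (8062,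 8062), (8063, 8716)]
    ⟨e3 q8000 L164918 q8851, e3 q8001 (flp_d L158670) q8178, e3 q8002 (flp_d L156890) q7062, e3 q8003 (flp_d L164962) q8855, e3 q8004 (flp_d L164974) q8857, e3 q8005 L165008 q8861, e3 q8006 L156923 q7065, e3 q8007 (flp_d L164651) q8825, e3 q8008 L156933 q7066, e3 q8009 (flp_d L165024) q8863, e3 q8010 (flp_d L165036) q8865, e3 q8011 L165064 q8870, e3 q8012 (flp_d L156955) q7067, e3 q8013 L156965 q7085, e3 q8014 L165078 q8873, e3 q8015 (flp_d L156979) q7070, e3 q8016 L156992 q7072, e3 q8017 L156997 q7073, e3 q8018 (flp_d L165097) q8875, e3 q8019 (flp_d L165106) q8876, e3 q8020 L165142 q8880, e3 q8021 (flp_d L164888) q8848, e3 q8022 L165148 q8881, e3 q8023 (flp_d L157057) q7077, e3 q8024 L157069 q7088, e3 q8025 L157074 q7081, e3 q8026 L157081 q8026, e3 q8027 L157085 q7082, e3 q8028 L157092 q8028, e3 q8029 L165196 q8888, e3 q8030 (flp_d L165176) q8884, e3 q8031 L165215 q8890, e3 q8032 (flp_d L157115) q7083, e3 q8033 (flp_d L165230) q8892, e3 q8034 (flp_d L164161) q8782,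 e3 q8035 (flp_d L157138) q7086, e3 q8036 (flp_d L165224) q8891, e3 q8037 (flp_d L165169) q8883, e3 q8038 L157162 q7092, e3 q8039 (flp_d L162436) q8596, e3 q8040 L157188 q7107, e3 q8041 L157198 q7193, e3 q8042 L157218 q7388, e3 q8043 L165260 q8896, e3 q8044 L157242 q7194, e3 q8045 L157256 q7583, e3 q8046 L157270 q7719, e3 q8047 (flp_d L164526) q8813, e3 q8048 L157290 q7594, e3 q8049 L165327 q8901, e3 q8050 L157316 q8050, e3 q8051 L165355 q8903, e3 q8052 (flp_d L157333) q7110, e3 q8053 L165375 q8905, e3 q8054 L157362 q7138, e3 q8055 L157376 q8055, e3 q8056 L157391 q7391, e3 q8057 L165420 q8908, e3 q8058 L157413 q7132, e3 q8059 L165449 q8910, e3 q8060 (flp_d L157433) q7120, e3 q8061 L157449 q8061, e3 q8062 L157462 q8062, e3 q8063 (flp_d L163411) q8716, trivial⟩ (by decide +kernel)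

theorem ce_d_126 : ∀ r, r < 64 → sm gd (Qf (8064 + r)) = Qf (tab Gen.d (8064 + r)) :=
  edges_tab (sm gd) Qf (tab Gen.d) 8064 [(8064, 8064), (8065, 8065), (8066, 8916), (8067, 8067), (8068, 8918), (8069, 7128), (8070, 8773), (8071, 7130), (8072, 8919), (8073, 7133), (8074, 8074), (8075, 8075), (8076, 8076), (8077, 7141), (8078, 8749), (8079, 8795), (8080, 7145), (8081, 8787), (8082, 7147), (8083, 7353), (8084, 7149), (8085, 7310), (8086, 7152), (8087, 7808), (8088, 7154), (8089, 8930), (8090, 8090), (8091, 8934), (8092, 8789), (8093, 7160), (8094, 8935), (8095, 7162), (8096, 7166), (8097, 8929), (8098, 8928), (8099, 8099), (8100, 8100), (8101, 8101), (8102, 7172), (8103, 7183), (8104, 7691), (8105, 7185), (8106, 8106), (8107, 8107), (8108, 7525), (8109, 7187), (8110, 7660), (8111, 7189), (8112, 7692), (8113, 8938), (8114, 8114), (8115, 8115), (8116, 8952), (8117, 8940), (8118, 8946), (8119, 7188), (8120, 8394), (8121, 7385), (8122, 7728), (8123, 7205), (8124, 7204), (8125, 8953), (8126,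 7255), (8127, 7860)]
    ⟨e3 q8064 L157481 q8064, e3 q8065 L157492 q8065, e3 q8066 L165517 q8916, e3 q8067 L157509 q8067, e3 q8068 L165536 q8918, e3 q8069 (flp_d L157526) q7128, e3 q8070 (flp_d L164053) q8773, e3 q8071 (flp_d L157539) q7130, e3 q8072 (flp_d L165552) q8919, e3 q8073 (flp_d L157555) q7133, e3 q8074 L157573 q8074, e3 q8075 L157585 q8075, e3 q8076 L157588 q8076, e3 q8077 (flp_d L157592) q7141, e3 q8078 (flp_d L163749) q8749, e3 q8079 (flp_d L164344) q8795, e3 q8080 (flp_d L157629) q7145, e3 q8081 (flp_d L164235) q8787, e3 q8082 (flp_d L157657) q7147, e3 q8083 L157671 q7353, e3 q8084 (flp_d L157673) q7149, e3 q8085 L157696 q7310, e3 q8086 (flp_d L157700) q7152, e3 q8087 L157725 q7808, e3 q8088 (flp_d L157729) q7154, e3 q8089 (flp_d L165684) q8930, e3 q8090 L157755 q8090, e3 q8091 L165732 q8934, e3 q8092 (flp_d L164265) q8789, e3 q8093 (flp_d L157786) q7160, e3 q8094 L165741 q8935, e3 q8095 (flp_d L157809) q7162, e3 q8096 L157821 q7166, e3 q8097 (flp_d L165658) q8929, e3 q8098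 (flp_d L165654) q8928, e3 q8099 L157852 q8099, e3 q8100 L157864 q8100, e3 q8101 L157869 q8101, e3 q8102 L157880 q7172, e3 q8103 L157888 q7183, e3 q8104 L157907 q7691, e3 q8105 L157914 q7185, e3 q8106 L157923 q8106, e3 q8107 L157927 q8107, e3 q8108 L157937 q7525, e3 q8109 L157941 q7187, e3 q8110 (flp_d L157954) q7660, e3 q8111 L157962 q7189, e3 q8112 L157971 q7692, e3 q8113 (flp_d L165788) q8938, e3 q8114 L157989 q8114, e3 q8115 L157999 q8115, e3 q8116 L165935 q8952, e3 q8117 (flp_d L165810) q8940, e3 q8118 (flp_d L165879) q8946, e3 q8119 (flp_d L158038) q7188, e3 q8120 L160548 q8394, e3 q8121 L158074 q7385, e3 q8122 L158096 q7728, e3 q8123 L158111 q7205, e3 q8124 L158118 q7204, e3 q8125 (flp_d L165947) q8953, e3 q8126 L158150 q7255, e3 q8127 L158156 q7860, trivial⟩ (by decide +kernel)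

theorem ce_d_127 : ∀ r, r < 64 → sm gd (Qf (8128 + r)) = Qf (tab Gen.d (8128 + r)) :=
  edges_tab (sm gd) Qf (tab Gen.d) 8128 [(8128, 7862), (8129, 7264), (8130, 7865), (8131, 7867), (8132, 7210), (8133, 8960), (8134, 8962), (8135, 7411), (8136, 7215), (8137, 8939), (8138, 7227), (8139, 8965), (8140, 7229), (8141, 8967), (8142, 7225), (8143, 8968), (8144, 7228), (8145, 8969), (8146, 7230), (8147, 7739), (8148, 7232), (8149, 8972), (8150, 7234), (8151, 7237), (8152, 7240), (8153, 8974), (8154, 7248), (8155, 7601), (8156, 7242), (8157, 7250), (8158, 8983), (8159, 7252), (8160, 7603), (8161, 7604), (8162, 8954), (8163, 8973), (8164, 7247), (8165, 8975), (8166, 8977), (8167, 7373), (8168, 8980), (8169, 8994), (8170, 8982), (8171, 7251), (8172, 8997), (8173, 8999), (8174, 9002), (8175, 7453), (8176, 7428), (8177, 9004), (8178, 8001), (8179, 8179), (8180, 8906), (8181, 9008), (8182, 8190), (8183, 7260), (8184, 9011), (8185, 9013), (8186, 9016), (8187, 7279), (8188, 7421), (8189, 9018), (8190,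 8182), (8191, 7266)]
    ⟨e3 q8128 L158172 q7862, e3 q8129 L158188 q7264, e3 q8130 L158196 q7865, e3 q8131 L158208 q7867, e3 q8132 (flp_d L158212) q7210, e3 q8133 (flp_d L166034) q8960, e3 q8134 L166052 q8962, e3 q8135 L158252 q7411, e3 q8136 L158262 q7215, e3 q8137 (flp_d L165800) q8939, e3 q8138 L158286 q7227, e3 q8139 L166086 q8965, e3 q8140 L158310 q7229, e3 q8141 L166108 q8967, e3 q8142 (flp_d L158320) q7225, e3 q8143 L166116 q8968, e3 q8144 (flp_d L158343) q7228, e3 q8145 L166127 q8969, e3 q8146 (flp_d L158369) q7230, e3 q8147 L158385 q7739, e3 q8148 (flp_d L158387) q7232, e3 q8149 L166160 q8972, e3 q8150 (flp_d L158409) q7234, e3 q8151 (flp_d L158421) q7237, e3 q8152 (flp_d L158432) q7240, e3 q8153 (flp_d L166187) q8974, e3 q8154 L158460 q7248, e3 q8155 L158469 q7601, e3 q8156 L158476 q7242, e3 q8157 L158482 q7250, e3 q8158 L166263 q8983, e3 q8159 L158497 q7252, e3 q8160 L158504 q7603, e3 q8161 L158511 q7604, e3 q8162 (flp_d L165966) q8954, e3 q8163 (flp_d L166180) q8973, e3 q8164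 L158534 q7247, e3 q8165 (flp_d L166193) q8975, e3 q8166 (flp_d L166216) q8977, e3 q8167 L158570 q7373, e3 q8168 (flp_d L166243) q8980, e3 q8169 L166363 q8994, e3 q8170 (flp_d L166261) q8982, e3 q8171 (flp_d L158600) q7251, e3 q8172 (flp_d L166395) q8997, e3 q8173 (flp_d L166413) q8999, e3 q8174 L166437 q9002, e3 q8175 L158640 q7453, e3 q8176 L158654 q7428, e3 q8177 L166455 q9004, e3 q8178 L158670 q8001, e3 q8179 L158680 q8179, e3 q8180 (flp_d L165402) q8906, e3 q8181 L166486 q9008, e3 q8182 (flp_d L158789) q8190, e3 q8183 (flp_d L158713) q7260, e3 q8184 (flp_d L166523) q9011, e3 q8185 (flp_d L166541) q9013, e3 q8186 L166565 q9016, e3 q8187 L158753 q7279, e3 q8188 L158767 q7421, e3 q8189 L166583 q9018, e3 q8190 L158789 q8182, e3 q8191 (flp_d L158793) q7266, trivial⟩ (by decide +kernel)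

theorem ce_d_128 : ∀ r, r < 64 → sm gd (Qf (8192 + r)) = Qf (tab Gen.d (8192 + r)) :=
  edges_tab (sm gd) Qf (tab Gen.d) 8192 [(8192, 9021), (8193, 9023), (8194, 9026), (8195, 7269), (8196, 8998), (8197, 7270), (8198, 9028), (8199, 9030), (8200, 9035), (8201, 7271), (8202, 7287), (8203, 9038), (8204, 7274), (8205, 7276), (8206, 7613), (8207, 7277), (8208, 9041), (8209, 9043), (8210, 8754), (8211, 7290), (8212, 7283), (8213, 7617), (8214, 7284), (8215, 7619), (8216, 9052), (8217, 9048), (8218, 9054), (8219, 7285), (8220, 9056), (8221, 8767), (8222, 7288), (8223, 9055), (8224, 9047), (8225, 7294), (8226, 8297), (8227, 7394), (8228, 8228), (8229, 9059), (8230, 8230), (8231, 7593), (8232, 9062), (8233, 7798), (8234, 7306), (8235, 7484), (8236, 9063), (8237, 8237), (8238, 9065), (8239, 9066), (8240, 7314), (8241, 7482), (8242, 8242), (8243, 9069), (8244, 8244), (8245, 9071), (8246, 7321), (8247, 9074), (8248, 7323), (8249, 8904), (8250, 8793), (8251, 7326), (8252, 7331), (8253, 8253), (8254,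 7333), (8255, 8607)]
    ⟨e3 q8192 (flp_d L166621) q9021, e3 q8193 (flp_d L166633) q9023, e3 q8194 L166651 q9026, e3 q8195 L158824 q7269, e3 q8196 (flp_d L166405) q8998, e3 q8197 L158838 q7270, e3 q8198 (flp_d L166667) q9028, e3 q8199 (flp_d L166689) q9030, e3 q8200 L166721 q9035, e3 q8201 (flp_d L158862) q7271, e3 q8202 L158872 q7287, e3 q8203 L166737 q9038, e3 q8204 (flp_d L158884) q7274, e3 q8205 L158903 q7276, e3 q8206 L158912 q7613, e3 q8207 L158919 q7277, e3 q8208 (flp_d L166778) q9041, e3 q8209 (flp_d L166804) q9043, e3 q8210 (flp_d L163813) q8754, e3 q8211 L158965 q7290, e3 q8212 L158972 q7283, e3 q8213 L158987 q7617, e3 q8214 L158994 q7284, e3 q8215 L159003 q7619, e3 q8216 L166885 q9052, e3 q8217 (flp_d L166854) q9048, e3 q8218 L166909 q9054, e3 q8219 (flp_d L159034) q7285, e3 q8220 (flp_d L166941) q9056, e3 q8221 (flp_d L163979) q8767, e3 q8222 (flp_d L159068) q7288, e3 q8223 (flp_d L166928) q9055, e3 q8224 (flp_d L166845) q9047, e3 q8225 L159102 q7294, e3 q8226 (flp_d L159773)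 q8297, e3 q8227 L159125 q7394, e3 q8228 L159135 q8228, e3 q8229 L166967 q9059, e3 q8230 L159158 q8230, e3 q8231 L159165 q7593, e3 q8232 L167000 q9062, e3 q8233 L159187 q7798, e3 q8234 (flp_d L159191) q7306, e3 q8235 L159204 q7484, e3 q8236 L167007 q9063, e3 q8237 L159220 q8237, e3 q8238 L167028 q9065, e3 q8239 L167038 q9066, e3 q8240 (flp_d L159245) q7314, e3 q8241 L159259 q7482, e3 q8242 L159269 q8242, e3 q8243 L167071 q9069, e3 q8244 L159286 q8244, e3 q8245 L167087 q9071, e3 q8246 (flp_d L159295) q7321, e3 q8247 L167104 q9074, e3 q8248 (flp_d L159309) q7323, e3 q8249 (flp_d L165373) q8904, e3 q8250 (flp_d L164326) q8793, e3 q8251 (flp_d L159330) q7326, e3 q8252 (flp_d L159342) q7331, e3 q8253 L159360 q8253, e3 q8254 (flp_d L159363) q7333, e3 q8255 (flp_d L162503) q8607, trivial⟩ (by decide +kernel)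

theorem ce_d_129 : ∀ r, r < 64 → sm gd (Qf (8256 + r)) = Qf (tab Gen.d (8256 + r)) :=
  edges_tab (sm gd) Qf (tab Gen.d) 8256 [(8256, 8256), (8257, 7337), (8258, 9079), (8259, 7339), (8260, 7343), (8261, 7344), (8262, 8927), (8263, 9080), (8264, 7348), (8265, 7349), (8266, 7351), (8267, 7361), (8268, 7861), (8269, 7362), (8270, 7629), (8271, 7407), (8272, 9081), (8273, 9086), (8274, 9087), (8275, 7366), (8276, 9088), (8277, 9090), (8278, 9093), (8279, 7369), (8280, 7848), (8281, 7370), (8282, 9096), (8283, 9100), (8284, 7371), (8285, 8990), (8286, 7379), (8287, 7631), (8288, 7377), (8289, 7632), (8290, 8979), (8291, 8978), (8292, 8945), (8293, 7621), (8294, 9103), (8295, 7626), (8296, 7383), (8297, 8226), (8298, 8895), (8299, 8299), (8300, 9109), (8301, 9110), (8302, 7393), (8303, 7395), (8304, 7398), (8305, 9112), (8306, 7409), (8307, 7634), (8308, 8963), (8309, 7412), (8310, 9118), (8311, 7414), (8312, 7403), (8313, 9122), (8314, 9124), (8315, 9128), (8316, 7640), (8317, 7641), (8318,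 9131), (8319, 7408)]
    ⟨e3 q8256 L159380 q8256, e3 q8257 (flp_d L159381) q7337, e3 q8258 L167148 q9079, e3 q8259 (flp_d L159402) q7339, e3 q8260 (flp_d L159411) q7343, e3 q8261 (flp_d L159420) q7344, e3 q8262 (flp_d L165637) q8927, e3 q8263 L167157 q9080, e3 q8264 (flp_d L159453) q7348, e3 q8265 (flp_d L159461) q7349, e3 q8266 (flp_d L159470) q7351, e3 q8267 L159481 q7361, e3 q8268 L159499 q7861, e3 q8269 L159505 q7362, e3 q8270 L159515 q7629, e3 q8271 L159527 q7407, e3 q8272 (flp_d L167172) q9081, e3 q8273 L167218 q9086, e3 q8274 L167226 q9087, e3 q8275 (flp_d L159553) q7366, e3 q8276 (flp_d L167239) q9088, e3 q8277 (flp_d L167263) q9090, e3 q8278 L167285 q9093, e3 q8279 L159588 q7369, e3 q8280 L159600 q7848, e3 q8281 L159606 q7370, e3 q8282 (flp_d L167319) q9096, e3 q8283 L167349 q9100, e3 q8284 (flp_d L159624) q7371, e3 q8285 (flp_d L166325) q8990, e3 q8286 L159643 q7379, e3 q8287 L159656 q7631, e3 q8288 L159661 q7377, e3 q8289 L159670 q7632, e3 q8290 (flp_d L166238) q8979, e3 q8291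 (flp_d L166225) q8978, e3 q8292 (flp_d L165870) q8945, e3 q8293 (flp_d L159722) q7621, e3 q8294 (flp_d L167373) q9103, e3 q8295 L159749 q7626, e3 q8296 L159758 q7383, e3 q8297 L159773 q8226, e3 q8298 (flp_d L165256) q8895, e3 q8299 L159789 q8299, e3 q8300 L167429 q9109, e3 q8301 L167434 q9110, e3 q8302 (flp_d L159810) q7393, e3 q8303 (flp_d L159815) q7395, e3 q8304 L159824 q7398, e3 q8305 L167449 q9112, e3 q8306 L159842 q7409, e3 q8307 L159850 q7634, e3 q8308 (flp_d L166072) q8963, e3 q8309 L159866 q7412, e3 q8310 L167509 q9118, e3 q8311 L159888 q7414, e3 q8312 (flp_d L159892) q7403, e3 q8313 (flp_d L167552) q9122, e3 q8314 (flp_d L167566) q9124, e3 q8315 L167592 q9128, e3 q8316 L159916 q7640, e3 q8317 L159922 q7641, e3 q8318 L167610 q9131, e3 q8319 (flp_d L159932) q7408, trivial⟩ (by decide +kernel)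

theorem ce_d_130 : ∀ r, r < 64 → sm gd (Qf (8320 + r)) = Qf (tab Gen.d (8320 + r)) :=
  edges_tab (sm gd) Qf (tab Gen.d) 8320 [(8320, 9132), (8321, 9134), (8322, 9135), (8323, 9117), (8324, 7413), (8325, 9138), (8326, 9140), (8327, 9143), (8328, 7416), (8329, 7436), (8330, 7417), (8331, 9145), (8332, 9147), (8333, 9152), (8334, 7418), (8335, 7648), (8336, 9017), (8337, 7423), (8338, 9133), (8339, 7424), (8340, 9156), (8341, 9158), (8342, 9163), (8343, 7425), (8344, 7452), (8345, 9003), (8346, 7429), (8347, 9166), (8348, 9168), (8349, 9171), (8350, 7432), (8351, 9139), (8352, 7433), (8353, 9173), (8354, 9175), (8355, 9180), (8356, 7434), (8357, 8862), (8358, 7438), (8359, 9146), (8360, 7439), (8361, 9148), (8362, 9187), (8363, 9183), (8364, 9189), (8365, 7440), (8366, 9191), (8367, 8770), (8368, 7443), (8369, 9190), (8370, 8370), (8371, 7448), (8372, 7655), (8373, 7449), (8374, 7656), (8375, 9200), (8376, 9196), (8377, 9202), (8378, 7450), (8379, 9203), (8380, 8769), (8381, 7467), (8382,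 7460), (8383, 7659)]
    ⟨e3 q8320 (flp_d L167624) q9132, e3 q8321 L167640 q9134, e3 q8322 L167648 q9135, e3 q8323 (flp_d L167505) q9117, e3 q8324 (flp_d L159980) q7413, e3 q8325 (flp_d L167680) q9138, e3 q8326 (flp_d L167696) q9140, e3 q8327 L167720 q9143, e3 q8328 L160019 q7416, e3 q8329 L160025 q7436, e3 q8330 L160031 q7417, e3 q8331 (flp_d L167740) q9145, e3 q8332 (flp_d L167762) q9147, e3 q8333 L167790 q9152, e3 q8334 (flp_d L160053) q7418, e3 q8335 L160061 q7648, e3 q8336 (flp_d L166579) q9017, e3 q8337 L160079 q7423, e3 q8338 (flp_d L167638) q9133, e3 q8339 L160095 q7424, e3 q8340 (flp_d L167822) q9156, e3 q8341 (flp_d L167848) q9158, e3 q8342 L167886 q9163, e3 q8343 (flp_d L160125) q7425, e3 q8344 L160135 q7452, e3 q8345 (flp_d L166451) q9003, e3 q8346 (flp_d L160147) q7429, e3 q8347 (flp_d L167912) q9166, e3 q8348 (flp_d L167930) q9168, e3 q8349 L167954 q9171, e3 q8350 L160187 q7432, e3 q8351 (flp_d L167689) q9139, e3 q8352 L160205 q7433, e3 q8353 (flp_d L167976) q9173, e3 q8354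 (flp_d L168000) q9175, e3 q8355 L168042 q9180, e3 q8356 (flp_d L160237) q7434, e3 q8357 (flp_d L165018) q8862, e3 q8358 L160253 q7438, e3 q8359 (flp_d L167756) q9146, e3 q8360 L160271 q7439, e3 q8361 (flp_d L167770) q9148, e3 q8362 L168092 q9187, e3 q8363 (flp_d L168066) q9183, e3 q8364 L168102 q9189, e3 q8365 (flp_d L160295) q7440, e3 q8366 (flp_d L168112) q9191, e3 q8367 (flp_d L164017) q8770, e3 q8368 (flp_d L160305) q7443, e3 q8369 (flp_d L168108) q9190, e3 q8370 L160321 q8370, e3 q8371 L160330 q7448, e3 q8372 L160348 q7655, e3 q8373 L160354 q7449, e3 q8374 L160362 q7656, e3 q8375 L168175 q9200, e3 q8376 (flp_d L168141) q9196, e3 q8377 L168200 q9202, e3 q8378 (flp_d L160396) q7450, e3 q8379 (flp_d L168220) q9203, e3 q8380 (flp_d L164001) q8769, e3 q8381 L160435 q7467, e3 q8382 L160443 q7460, e3 q8383 L160451 q7659, trivial⟩ (by decide +kernel)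

theorem ce_d_131 : ∀ r, r < 64 → sm gd (Qf (8384 + r)) = Qf (tab Gen.d (8384 + r)) :=
  edges_tab (sm gd) Qf (tab Gen.d) 8384 [(8384, 9207), (8385, 9208), (8386, 7459), (8387, 9211), (8388, 7461), (8389, 7466), (8390, 7463), (8391, 9212), (8392, 9213), (8393, 9215), (8394, 8120), (8395, 7471), (8396, 8396), (8397, 8702), (8398, 8398), (8399, 9218), (8400, 9219), (8401, 7480), (8402, 8756), (8403, 8772), (8404, 7584), (8405, 9221), (8406, 7586), (8407, 9223), (8408, 7490), (8409, 8776), (8410, 7492), (8411, 7496), (8412, 9226), (8413, 9227), (8414, 7501), (8415, 7502), (8416, 9229), (8417, 7507), (8418, 7508), (8419, 8936), (8420, 7670), (8421, 7671), (8422, 7519), (8423, 8942), (8424, 9232), (8425, 9233), (8426, 8426), (8427, 7529), (8428, 8428), (8429, 8429), (8430, 8801), (8431, 8431), (8432, 8432), (8433, 9242), (8434, 7676), (8435, 9244), (8436, 7528), (8437, 7531), (8438, 8438), (8439, 7532), (8440, 9247), (8441, 9249), (8442, 9254), (8443, 8443), (8444, 7537), (8445, 8445), (8446,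 7538), (8447, 8447)]
    ⟨e3 q8384 L168250 q9207, e3 q8385 L168260 q9208, e3 q8386 (flp_d L160471) q7459, e3 q8387 L168280 q9211, e3 q8388 (flp_d L160489) q7461, e3 q8389 L160503 q7466, e3 q8390 L160511 q7463, e3 q8391 (flp_d L168300) q9212, e3 q8392 (flp_d L168304) q9213, e3 q8393 L168320 q9215, e3 q8394 (flp_d L160548) q8120, e3 q8395 (flp_d L160550) q7471, e3 q8396 L160573 q8396, e3 q8397 (flp_d L163250) q8702, e3 q8398 L160592 q8398, e3 q8399 L168352 q9218, e3 q8400 L168361 q9219, e3 q8401 (flp_d L160615) q7480, e3 q8402 (flp_d L163841) q8756, e3 q8403 (flp_d L164039) q8772, e3 q8404 L160648 q7584, e3 q8405 L168378 q9221, e3 q8406 L160666 q7586, e3 q8407 L168396 q9223, e3 q8408 (flp_d L160678) q7490, e3 q8409 (flp_d L164097) q8776, e3 q8410 (flp_d L160696) q7492, e3 q8411 L160712 q7496, e3 q8412 (flp_d L168422) q9226, e3 q8413 L168428 q9227, e3 q8414 (flp_d L160728) q7501, e3 q8415 (flp_d L160737) q7502, e3 q8416 L168452 q9229, e3 q8417 (flp_d L160750) q7507, e3 q8418 (flp_d L160758)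 q7508, e3 q8419 (flp_d L165767) q8936, e3 q8420 L160779 q7670, e3 q8421 L160788 q7671, e3 q8422 L160799 q7519, e3 q8423 (flp_d L165842) q8942, e3 q8424 L168482 q9232, e3 q8425 L168491 q9233, e3 q8426 L160837 q8426, e3 q8427 L160843 q7529, e3 q8428 L160851 q8428, e3 q8429 L160860 q8429, e3 q8430 (flp_d L164421) q8801, e3 q8431 L160878 q8431, e3 q8432 L160890 q8432, e3 q8433 L168588 q9242, e3 q8434 L160909 q7676, e3 q8435 L168601 q9244, e3 q8436 (flp_d L160918) q7528, e3 q8437 L160928 q7531, e3 q8438 L160939 q8438, e3 q8439 L160945 q7532, e3 q8440 (flp_d L168626) q9247, e3 q8441 (flp_d L168649) q9249, e3 q8442 L168695 q9254, e3 q8443 L160988 q8443, e3 q8444 L160995 q7537, e3 q8445 L161011 q8445, e3 q8446 L161016 q7538, e3 q8447 L161024 q8447, trivial⟩ (by decide +kernel)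

theorem ce_d_132 : ∀ r, r < 64 → sm gd (Qf (8448 + r)) = Qf (tab Gen.d (8448 + r)) :=
  edges_tab (sm gd) Qf (tab Gen.d) 8448 [(8448, 9260), (8449, 9256), (8450, 9262), (8451, 7539), (8452, 9264), (8453, 8453), (8454, 7547), (8455, 8455), (8456, 9269), (8457, 9270), (8458, 7546), (8459, 9273), (8460, 7548), (8461, 7553), (8462, 7550), (8463, 9276), (8464, 9274), (8465, 8465), (8466, 7560), (8467, 7681), (8468, 9280), (8469, 9281), (8470, 7559), (8471, 9284), (8472, 7561), (8473, 7566), (8474, 7563), (8475, 9285), (8476, 9287), (8477, 9288), (8478, 9289), (8479, 8949), (8480, 7570), (8481, 7571), (8482, 9271), (8483, 8680), (8484, 7573), (8485, 7577), (8486, 7578), (8487, 8898), (8488, 9292), (8489, 7585), (8490, 8778), (8491, 7587), (8492, 9263), (8493, 8493), (8494, 7592), (8495, 8796), (8496, 7595), (8497, 7602), (8498, 8987), (8499, 9298), (8500, 7607), (8501, 7610), (8502, 9300), (8503, 8503), (8504, 7611), (8505, 9301), (8506, 9302), (8507, 8507), (8508, 7614), (8509, 9042), (8510,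 9044), (8511, 9049)]
    ⟨e3 q8448 L168749 q9260, e3 q8449 (flp_d L168716) q9256, e3 q8450 L168769 q9262, e3 q8451 (flp_d L161058) q7539, e3 q8452 (flp_d L168790) q9264, e3 q8453 L161079 q8453, e3 q8454 L161087 q7547, e3 q8455 L161098 q8455, e3 q8456 L168833 q9269, e3 q8457 L168844 q9270, e3 q8458 (flp_d L161121) q7546, e3 q8459 L168870 q9273, e3 q8460 (flp_d L161139) q7548, e3 q8461 L161151 q7553, e3 q8462 L161159 q7550, e3 q8463 (flp_d L168897) q9276, e3 q8464 (flp_d L168880) q9274, e3 q8465 L161186 q8465, e3 q8466 L161198 q7560, e3 q8467 L161211 q7681, e3 q8468 L168941 q9280, e3 q8469 L168948 q9281, e3 q8470 (flp_d L161237) q7559, e3 q8471 L168977 q9284, e3 q8472 (flp_d L161256) q7561, e3 q8473 L161270 q7566, e3 q8474 L161279 q7563, e3 q8475 (flp_d L168999) q9285, e3 q8476 (flp_d L169013) q9287, e3 q8477 L169019 q9288, e3 q8478 L169030 q9289, e3 q8479 (flp_d L165910) q8949, e3 q8480 (flp_d L161326) q7570, e3 q8481 (flp_d L161337) q7571, e3 q8482 (flp_d L168861) q9271, e3 q8483 (flp_d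 L163030) q8680, e3 q8484 (flp_d L161358) q7573, e3 q8485 L161371 q7577, e3 q8486 (flp_d L161377) q7578, e3 q8487 (flp_d L165293) q8898, e3 q8488 L169061 q9292, e3 q8489 (flp_d L161409) q7585, e3 q8490 (flp_d L164114) q8778, e3 q8491 (flp_d L161428) q7587, e3 q8492 (flp_d L168781) q9263, e3 q8493 L161449 q8493, e3 q8494 L161452 q7592, e3 q8495 (flp_d L164362) q8796, e3 q8496 (flp_d L161468) q7595, e3 q8497 (flp_d L161475) q7602, e3 q8498 (flp_d L166298) q8987, e3 q8499 L169108 q9298, e3 q8500 L161513 q7607, e3 q8501 L161523 q7610, e3 q8502 (flp_d L169137) q9300, e3 q8503 L161548 q8503, e3 q8504 L161562 q7611, e3 q8505 (flp_d L169157) q9301, e3 q8506 (flp_d L169165) q9302, e3 q8507 L161608 q8507, e3 q8508 L161621 q7614, e3 q8509 (flp_d L166797) q9042, e3 q8510 (flp_d L166813) q9044, e3 q8511 (flp_d L166863) q9049, trivial⟩ (by decide +kernel)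

theorem ce_d_133 : ∀ r, r < 64 → sm gd (Qf (8512 + r)) = Qf (tab Gen.d (8512 + r)) :=
  edges_tab (sm gd) Qf (tab Gen.d) 8512 [(8512, 9305), (8513, 7620), (8514, 9102), (8515, 7622), (8516, 7624), (8517, 9306), (8518, 9104), (8519, 9307), (8520, 7637), (8521, 8521), (8522, 7638), (8523, 9310), (8524, 9314), (8525, 9129), (8526, 9315), (8527, 7642), (8528, 8528), (8529, 7646), (8530, 7651), (8531, 7647), (8532, 7652), (8533, 9045), (8534, 9318), (8535, 9319), (8536, 9197), (8537, 8947), (8538, 7661), (8539, 9012), (8540, 7663), (8541, 7667), (8542, 7668), (8543, 8976), (8544, 9230), (8545, 9323), (8546, 7674), (8547, 7675), (8548, 7677), (8549, 8549), (8550, 7838), (8551, 8941), (8552, 9328), (8553, 7682), (8554, 7683), (8555, 7685), (8556, 7689), (8557, 8557), (8558, 7690), (8559, 7699), (8560, 9331), (8561, 7701), (8562, 8562), (8563, 8563), (8564, 8695), (8565, 9330), (8566, 7700), (8567, 9339), (8568, 9341), (8569, 9342), (8570, 7704), (8571, 9344), (8572, 9346), (8573, 7707), (8574,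 9338), (8575, 7708)]
    ⟨e3 q8512 L169200 q9305, e3 q8513 (flp_d L161679) q7620, e3 q8514 (flp_d L167368) q9102, e3 q8515 (flp_d L161701) q7622, e3 q8516 L161717 q7624, e3 q8517 L169209 q9306, e3 q8518 (flp_d L167384) q9104, e3 q8519 L169222 q9307, e3 q8520 L161769 q7637, e3 q8521 L161778 q8521, e3 q8522 L161782 q7638, e3 q8523 (flp_d L169264) q9310, e3 q8524 L169294 q9314, e3 q8525 (flp_d L167600) q9129, e3 q8526 L169302 q9315, e3 q8527 (flp_d L161827) q7642, e3 q8528 L161835 q8528, e3 q8529 L161839 q7646, e3 q8530 L161858 q7651, e3 q8531 L161863 q7647, e3 q8532 L161870 q7652, e3 q8533 (flp_d L166824) q9045, e3 q8534 (flp_d L169323) q9318, e3 q8535 (flp_d L169332) q9319, e3 q8536 (flp_d L168153) q9197, e3 q8537 (flp_d L165889) q8947, e3 q8538 (flp_d L161916) q7661, e3 q8539 (flp_d L166533) q9012, e3 q8540 (flp_d L161926) q7663, e3 q8541 L161942 q7667, e3 q8542 L161946 q7668, e3 q8543 (flp_d L166208) q8976, e3 q8544 (flp_d L168465) q9230, e3 q8545 L169354 q9323, e3 q8546 (flp_d L161987)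 q7674, e3 q8547 (flp_d L161997) q7675, e3 q8548 (flp_d L162005) q7677, e3 q8549 L162017 q8549, e3 q8550 (flp_d L162031) q7838, e3 q8551 (flp_d L165823) q8941, e3 q8552 L169405 q9328, e3 q8553 (flp_d L162059) q7682, e3 q8554 (flp_d L162066) q7683, e3 q8555 (flp_d L162073) q7685, e3 q8556 L162091 q7689, e3 q8557 L162104 q8557, e3 q8558 L162109 q7690, e3 q8559 L162115 q7699, e3 q8560 L169432 q9331, e3 q8561 L162134 q7701, e3 q8562 L162141 q8562, e3 q8563 L162151 q8563, e3 q8564 (flp_d L163163) q8695, e3 q8565 (flp_d L169430) q9330, e3 q8566 (flp_d L162167) q7700, e3 q8567 (flp_d L169510) q9339, e3 q8568 L169522 q9341, e3 q8569 L169528 q9342, e3 q8570 (flp_d L162198) q7704, e3 q8571 (flp_d L169549) q9344, e3 q8572 L169561 q9346, e3 q8573 L162225 q7707, e3 q8574 (flp_d L169503) q9338, e3 q8575 L162241 q7708, trivial⟩ (by decide +kernel)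

theorem ce_d_134 : ∀ r, r < 64 → sm gd (Qf (8576 + r)) = Qf (tab Gen.d (8576 + r)) :=
  edges_tab (sm gd) Qf (tab Gen.d) 8576 [(8576, 9349), (8577, 9353), (8578, 7709), (8579, 9355), (8580, 7711), (8581, 7722), (8582, 7715), (8583, 8583), (8584, 7716), (8585, 8585), (8586, 9362), (8587, 9358), (8588, 9364), (8589, 7717), (8590, 9366), (8591, 8971), (8592, 7720), (8593, 9365), (8594, 9357), (8595, 7726), (8596, 8039), (8597, 9369), (8598, 7731), (8599, 7732), (8600, 9372), (8601, 7734), (8602, 7735), (8603, 9376), (8604, 7737), (8605, 9375), (8606, 8606), (8607, 8255), (8608, 8608), (8609, 8609), (8610, 8932), (8611, 8931), (8612, 7749), (8613, 7747), (8614, 9228), (8615, 7751), (8616, 9381), (8617, 9383), (8618, 9387), (8619, 8619), (8620, 8620), (8621, 9390), (8622, 7757), (8623, 7763), (8624, 7758), (8625, 9393), (8626, 9397), (8627, 7759), (8628, 9399), (8629, 7761), (8630, 9094), (8631, 7765), (8632, 9392), (8633, 7766), (8634, 9394), (8635, 9406), (8636, 9402), (8637, 9408), (8638,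 7767), (8639, 9410)]
    ⟨e3 q8576 (flp_d L169589) q9349, e3 q8577 L169617 q9353, e3 q8578 (flp_d L162261) q7709, e3 q8579 L169627 q9355, e3 q8580 (flp_d L162275) q7711, e3 q8581 L162288 q7722, e3 q8582 L162297 q7715, e3 q8583 L162306 q8583, e3 q8584 L162312 q7716, e3 q8585 L162321 q8585, e3 q8586 L169687 q9362, e3 q8587 (flp_d L169659) q9358, e3 q8588 L169706 q9364, e3 q8589 (flp_d L162354) q7717, e3 q8590 (flp_d L169731) q9366, e3 q8591 (flp_d L166158) q8971, e3 q8592 (flp_d L162385) q7720, e3 q8593 (flp_d L169721) q9365, e3 q8594 (flp_d L169648) q9357, e3 q8595 L162419 q7726, e3 q8596 L162436 q8039, e3 q8597 L169747 q9369, e3 q8598 (flp_d L162445) q7731, e3 q8599 (flp_d L162452) q7732, e3 q8600 L169768 q9372, e3 q8601 (flp_d L162465) q7734, e3 q8602 (flp_d L162471) q7735, e3 q8603 (flp_d L169795) q9376, e3 q8604 (flp_d L162482) q7737, e3 q8605 (flp_d L169788) q9375, e3 q8606 L162498 q8606, e3 q8607 L162503 q8255, e3 q8608 L162510 q8608, e3 q8609 L162517 q8609, e3 q8610 (flp_d L165714)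 q8932, e3 q8611 (flp_d L165698) q8931, e3 q8612 L162532 q7749, e3 q8613 L162537 q7747, e3 q8614 (flp_d L168450) q9228, e3 q8615 (flp_d L162547) q7751, e3 q8616 (flp_d L169829) q9381, e3 q8617 (flp_d L169845) q9383, e3 q8618 L169879 q9387, e3 q8619 L162578 q8619, e3 q8620 L162587 q8620, e3 q8621 L169904 q9390, e3 q8622 L162603 q7757, e3 q8623 L162608 q7763, e3 q8624 L162613 q7758, e3 q8625 (flp_d L169934) q9393, e3 q8626 L169954 q9397, e3 q8627 (flp_d L162629) q7759, e3 q8628 L169962 q9399, e3 q8629 (flp_d L162641) q7761, e3 q8630 (flp_d L167297) q9094, e3 q8631 L162658 q7765, e3 q8632 (flp_d L169929) q9392, e3 q8633 L162670 q7766, e3 q8634 (flp_d L169941) q9394, e3 q8635 L170012 q9406, e3 q8636 (flp_d L169988) q9402, e3 q8637 L170022 q9408, e3 q8638 (flp_d L162698) q7767, e3 q8639 (flp_d L170032) q9410, trivial⟩ (by decide +kernel)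

theorem ce_d_135 : ∀ r, r < 64 → sm gd (Qf (8640 + r)) = Qf (tab Gen.d (8640 + r)) :=
  edges_tab (sm gd) Qf (tab Gen.d) 8640 [(8640, 9412), (8641, 7770), (8642, 9409), (8643, 7785), (8644, 7778), (8645, 8645), (8646, 9419), (8647, 9420), (8648, 7777), (8649, 9423), (8650, 7779), (8651, 7784), (8652, 7781), (8653, 7782), (8654, 9424), (8655, 7793), (8656, 9426), (8657, 9432), (8658, 7887), (8659, 7789), (8660, 9425), (8661, 7888), (8662, 9433), (8663, 7794), (8664, 7796), (8665, 8774), (8666, 8761), (8667, 9061), (8668, 7834), (8669, 7835), (8670, 8909), (8671, 8671), (8672, 9437), (8673, 7812), (8674, 9439), (8675, 9440), (8676, 9441), (8677, 7816), (8678, 7817), (8679, 9282), (8680, 8483), (8681, 7819), (8682, 7824), (8683, 7833), (8684, 7826), (8685, 8685), (8686, 9448), (8687, 9449), (8688, 7827), (8689, 7828), (8690, 7851), (8691, 9454), (8692, 7853), (8693, 8693), (8694, 8694), (8695, 8564), (8696, 9095), (8697, 7847), (8698, 9089), (8699, 9463), (8700, 9097), (8701, 8701), (8702,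 8397), (8703, 9451)]
    ⟨e3 q8640 L170038 q9412, e3 q8641 (flp_d L162710) q7770, e3 q8642 (flp_d L170028) q9409, e3 q8643 L162726 q7785, e3 q8644 L162736 q7778, e3 q8645 L162744 q8645, e3 q8646 L170086 q9419, e3 q8647 L170094 q9420, e3 q8648 (flp_d L162761) q7777, e3 q8649 L170113 q9423, e3 q8650 (flp_d L162778) q7779, e3 q8651 L162788 q7784, e3 q8652 L162795 q7781, e3 q8653 (flp_d L162797) q7782, e3 q8654 (flp_d L170125) q9424, e3 q8655 L162814 q7793, e3 q8656 (flp_d L170140) q9426, e3 q8657 L170172 q9432, e3 q8658 (flp_d L162848) q7887, e3 q8659 (flp_d L162850) q7789, e3 q8660 (flp_d L170134) q9425, e3 q8661 L162891 q7888, e3 q8662 L170184 q9433, e3 q8663 (flp_d L162908) q7794, e3 q8664 (flp_d L162917) q7796, e3 q8665 (flp_d L164069) q8774, e3 q8666 (flp_d L163905) q8761, e3 q8667 (flp_d L166996) q9061, e3 q8668 L162945 q7834, e3 q8669 L162952 q7835, e3 q8670 (flp_d L165445) q8909, e3 q8671 L162966 q8671, e3 q8672 L170220 q9437, e3 q8673 (flp_d L162982) q7812, e3 q8674 L170234 q9439,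 e3 q8675 L170241 q9440, e3 q8676 L170248 q9441, e3 q8677 (flp_d L163007) q7816, e3 q8678 (flp_d L163014) q7817, e3 q8679 (flp_d L168964) q9282, e3 q8680 L163030 q8483, e3 q8681 (flp_d L163032) q7819, e3 q8682 L163044 q7824, e3 q8683 L163056 q7833, e3 q8684 L163060 q7826, e3 q8685 L163069 q8685, e3 q8686 (flp_d L170303) q9448, e3 q8687 (flp_d L170314) q9449, e3 q8688 (flp_d L163088) q7827, e3 q8689 (flp_d L163093) q7828, e3 q8690 L163111 q7851, e3 q8691 L170363 q9454, e3 q8692 L163132 q7853, e3 q8693 L163141 q8693, e3 q8694 L163151 q8694, e3 q8695 L163163 q8564, e3 q8696 (flp_d L167313) q9095, e3 q8697 L163185 q7847, e3 q8698 (flp_d L167256) q9089, e3 q8699 L170475 q9463, e3 q8700 (flp_d L167329) q9097, e3 q8701 L163235 q8701, e3 q8702 L163250 q8397, e3 q8703 (flp_d L170327) q9451, trivial⟩ (by decide +kernel)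

theorem ce_d_136 : ∀ r, r < 64 → sm gd (Qf (8704 + r)) = Qf (tab Gen.d (8704 + r)) :=
  edges_tab (sm gd) Qf (tab Gen.d) 8704 [(8704, 9468), (8705, 9453), (8706, 7852), (8707, 9471), (8708, 9473), (8709, 9476), (8710, 8710), (8711, 9478), (8712, 8717), (8713, 9391), (8714, 8838), (8715, 8715), (8716, 8063), (8717, 8712), (8718, 8956), (8719, 9082), (8720, 9486), (8721, 9487), (8722, 9488), (8723, 8958), (8724, 7866), (8725, 9491), (8726, 9493), (8727, 9496), (8728, 7869), (8729, 9472), (8730, 7870), (8731, 9498), (8732, 9500), (8733, 9505), (8734, 7871), (8735, 7882), (8736, 9508), (8737, 7874), (8738, 7875), (8739, 7885), (8740, 7879), (8741, 8741), (8742, 7880), (8743, 8743), (8744, 9515), (8745, 9511), (8746, 7881), (8747, 7883), (8748, 9516), (8749, 8078), (8750, 8750), (8751, 9520), (8752, 9521), (8753, 8753), (8754, 8210), (8755, 9524), (8756, 8402), (8757, 7898), (8758, 9526), (8759, 7900), (8760, 7924), (8761, 8666), (8762, 9529), (8763, 7925), (8764, 9531), (8765, 7907), (8766,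 7908), (8767, 8221)]
    ⟨e3 q8704 L170542 q9468, e3 q8705 (flp_d L170359) q9453, e3 q8706 (flp_d L163290) q7852, e3 q8707 (flp_d L170589) q9471, e3 q8708 (flp_d L170611) q9473, e3 q8709 L170637 q9476, e3 q8710 L163333 q8710, e3 q8711 L170661 q9478, e3 q8712 (flp_d L163417) q8717, e3 q8713 (flp_d L169920) q9391, e3 q8714 (flp_d L164779) q8838, e3 q8715 L163394 q8715, e3 q8716 L163411 q8063, e3 q8717 L163417 q8712, e3 q8718 (flp_d L165990) q8956, e3 q8719 (flp_d L167182) q9082, e3 q8720 L170764 q9486, e3 q8721 L170772 q9487, e3 q8722 L170786 q9488, e3 q8723 (flp_d L166016) q8958, e3 q8724 (flp_d L163497) q7866, e3 q8725 (flp_d L170834) q9491, e3 q8726 (flp_d L170858) q9493, e3 q8727 L170886 q9496, e3 q8728 L163543 q7869, e3 q8729 (flp_d L170604) q9472, e3 q8730 L163561 q7870, e3 q8731 (flp_d L170912) q9498, e3 q8732 (flp_d L170934) q9500, e3 q8733 L170978 q9505, e3 q8734 (flp_d L163595) q7871, e3 q8735 L163609 q7882, e3 q8736 L171004 q9508, e3 q8737 (flp_d L163627) q7874, e3 q8738 (flp_d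 L163637) q7875, e3 q8739 L163654 q7885, e3 q8740 L163662 q7879, e3 q8741 L163674 q8741, e3 q8742 L163679 q7880, e3 q8743 L163689 q8743, e3 q8744 L171076 q9515, e3 q8745 (flp_d L171043) q9511, e3 q8746 (flp_d L163714) q7881, e3 q8747 (flp_d L163719) q7883, e3 q8748 (flp_d L171087) q9516, e3 q8749 L163749 q8078, e3 q8750 L163759 q8750, e3 q8751 L171125 q9520, e3 q8752 L171140 q9521, e3 q8753 L163800 q8753, e3 q8754 L163813 q8210, e3 q8755 L171185 q9524, e3 q8756 L163841 q8402, e3 q8757 (flp_d L163845) q7898, e3 q8758 L171209 q9526, e3 q8759 (flp_d L163870) q7900, e3 q8760 L163885 q7924, e3 q8761 L163905 q8666, e3 q8762 L171255 q9529, e3 q8763 L163929 q7925, e3 q8764 L171284 q9531, e3 q8765 (flp_d L163945) q7907, e3 q8766 (flp_d L163959) q7908, e3 q8767 L163979 q8221, trivial⟩ (by decide +kernel)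

theorem ce_d_137 : ∀ r, r < 64 → sm gd (Qf (8768 + r)) = Qf (tab Gen.d (8768 + r)) :=
  edges_tab (sm gd) Qf (tab Gen.d) 8768 [(8768, 9533), (8769, 8380), (8770, 8367), (8771, 7913), (8772, 8403), (8773, 8070), (8774, 8665), (8775, 7918), (8776, 8409), (8777, 7923), (8778, 8490), (8779, 7926), (8780, 7928), (8781, 8970), (8782, 8034), (8783, 7932), (8784, 7933), (8785, 9543), (8786, 7935), (8787, 8081), (8788, 7938), (8789, 8092), (8790, 7941), (8791, 9537), (8792, 7943), (8793, 8250), (8794, 7947), (8795, 8079), (8796, 8495), (8797, 7969), (8798, 7959), (8799, 7971), (8800, 7973), (8801, 8430), (8802, 7976), (8803, 9551), (8804, 7978), (8805, 7963), (8806, 9554), (8807, 9555), (8808, 9559), (8809, 8809), (8810, 8810), (8811, 9562), (8812, 9545), (8813, 8047), (8814, 9547), (8815, 7972), (8816, 9565), (8817, 9567), (8818, 9568), (8819, 9550), (8820, 7977), (8821, 9570), (8822, 9572), (8823, 9575), (8824, 7980), (8825, 8007), (8826, 7981), (8827, 9577), (8828, 9579), (8829, 9584), (8830,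 7982), (8831, 8831)]
    ⟨e3 q8768 L171312 q9533, e3 q8769 L164001 q8380, e3 q8770 L164017 q8367, e3 q8771 (flp_d L164019) q7913, e3 q8772 L164039 q8403, e3 q8773 L164053 q8070, e3 q8774 L164069 q8665, e3 q8775 (flp_d L164073) q7918, e3 q8776 L164097 q8409, e3 q8777 L164108 q7923, e3 q8778 L164114 q8490, e3 q8779 (flp_d L164123) q7926, e3 q8780 (flp_d L164134) q7928, e3 q8781 (flp_d L166147) q8970, e3 q8782 L164161 q8034, e3 q8783 (flp_d L164165) q7932, e3 q8784 (flp_d L164180) q7933, e3 q8785 L171438 q9543, e3 q8786 (flp_d L164209) q7935, e3 q8787 L164235 q8081, e3 q8788 (flp_d L164239) q7938, e3 q8789 L164265 q8092, e3 q8790 (flp_d L164269) q7941, e3 q8791 (flp_d L171374) q9537, e3 q8792 (flp_d L164298) q7943, e3 q8793 L164326 q8250, e3 q8794 (flp_d L164330) q7947, e3 q8795 L164344 q8079, e3 q8796 L164362 q8495, e3 q8797 L164381 q7969, e3 q8798 L164387 q7959, e3 q8799 L164395 q7971, e3 q8800 L164411 q7973, e3 q8801 L164421 q8430, e3 q8802 L164427 q7976, e3 q8803 L171541 q9551, e3 q8804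 L164449 q7978, e3 q8805 (flp_d L164453) q7963, e3 q8806 (flp_d L171582) q9554, e3 q8807 (flp_d L171591) q9555, e3 q8808 L171623 q9559, e3 q8809 L164484 q8809, e3 q8810 L164493 q8810, e3 q8811 L171650 q9562, e3 q8812 (flp_d L171475) q9545, e3 q8813 L164526 q8047, e3 q8814 (flp_d L171501) q9547, e3 q8815 (flp_d L164544) q7972, e3 q8816 (flp_d L171692) q9565, e3 q8817 L171712 q9567, e3 q8818 L171720 q9568, e3 q8819 (flp_d L171535) q9550, e3 q8820 (flp_d L164597) q7977, e3 q8821 (flp_d L171755) q9570, e3 q8822 (flp_d L171781) q9572, e3 q8823 L171813 q9575, e3 q8824 L164646 q7980, e3 q8825 L164651 q8007, e3 q8826 L164656 q7981, e3 q8827 (flp_d L171833) q9577, e3 q8828 (flp_d L171853) q9579, e3 q8829 L171889 q9584, e3 q8830 (flp_d L164688) q7982, e3 q8831 L164702 q8831, trivial⟩ (by decide +kernel)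

theorem ce_d_138 : ∀ r, r < 64 → sm gd (Qf (8832 + r)) = Qf (tab Gen.d (8832 + r)) :=
  edges_tab (sm gd) Qf (tab Gen.d) 8832 [(8832, 9587), (8833, 7985), (8834, 7986), (8835, 9589), (8836, 9591), (8837, 9592), (8838, 8714), (8839, 7991), (8840, 9594), (8841, 9596), (8842, 7994), (8843, 7995), (8844, 9597), (8845, 9598), (8846, 9602), (8847, 7996), (8848, 8021), (8849, 9605), (8850, 7999), (8851, 8000), (8852, 9607), (8853, 9609), (8854, 9612), (8855, 8003), (8856, 9571), (8857, 8004), (8858, 9614), (8859, 9616), (8860, 9621), (8861, 8005), (8862, 8357), (8863, 8009), (8864, 9578), (8865, 8010), (8866, 9580), (8867, 9628), (8868, 9624), (8869, 9630), (8870, 8011), (8871, 9632), (8872, 9536), (8873, 8014), (8874, 9631), (8875, 8018), (8876, 8019), (8877, 9638), (8878, 9636), (8879, 9639), (8880, 8020), (8881, 8022), (8882, 9640), (8883, 8037), (8884, 8030), (8885, 8885), (8886, 9647), (8887, 9648), (8888, 8029), (8889, 9651), (8890, 8031), (8891, 8036), (8892, 8033), (8893, 9652), (8894,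 9653), (8895, 8298)]
    ⟨e3 q8832 L171913 q9587, e3 q8833 (flp_d L164719) q7985, e3 q8834 (flp_d L164728) q7986, e3 q8835 (flp_d L171934) q9589, e3 q8836 L171954 q9591, e3 q8837 L171964 q9592, e3 q8838 L164779 q8714, e3 q8839 (flp_d L164787) q7991, e3 q8840 (flp_d L171998) q9594, e3 q8841 L172022 q9596, e3 q8842 L164832 q7994, e3 q8843 L164838 q7995, e3 q8844 (flp_d L172042) q9597, e3 q8845 (flp_d L172054) q9598, e3 q8846 L172092 q9602, e3 q8847 (flp_d L164876) q7996, e3 q8848 L164888 q8021, e3 q8849 L172118 q9605, e3 q8850 (flp_d L164908) q7999, e3 q8851 (flp_d L164918) q8000, e3 q8852 (flp_d L172147) q9607, e3 q8853 (flp_d L172169) q9609, e3 q8854 L172199 q9612, e3 q8855 L164962 q8003, e3 q8856 (flp_d L171771) q9571, e3 q8857 L164974 q8004, e3 q8858 (flp_d L172223) q9614, e3 q8859 (flp_d L172243) q9616, e3 q8860 L172281 q9621, e3 q8861 (flp_d L165008) q8005, e3 q8862 L165018 q8357, e3 q8863 L165024 q8009, e3 q8864 (flp_d L171848) q9578, e3 q8865 L165036 q8010, e3 q8866 (flp_d L171860)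 q9580, e3 q8867 L172323 q9628, e3 q8868 (flp_d L172301) q9624, e3 q8869 L172335 q9630, e3 q8870 (flp_d L165064) q8011, e3 q8871 (flp_d L172345) q9632, e3 q8872 (flp_d L171358) q9536, e3 q8873 (flp_d L165078) q8014, e3 q8874 (flp_d L172341) q9631, e3 q8875 L165097 q8018, e3 q8876 L165106 q8019, e3 q8877 L172385 q9638, e3 q8878 (flp_d L172372) q9636, e3 q8879 L172392 q9639, e3 q8880 (flp_d L165142) q8020, e3 q8881 (flp_d L165148) q8022, e3 q8882 (flp_d L172407) q9640, e3 q8883 L165169 q8037, e3 q8884 L165176 q8030, e3 q8885 L165183 q8885, e3 q8886 L172456 q9647, e3 q8887 L172463 q9648, e3 q8888 (flp_d L165196) q8029, e3 q8889 L172478 q9651, e3 q8890 (flp_d L165215) q8031, e3 q8891 L165224 q8036, e3 q8892 L165230 q8033, e3 q8893 (flp_d L172493) q9652, e3 q8894 (flp_d L172497) q9653, e3 q8895 L165256 q8298, trivial⟩ (by decide +kernel)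

theorem ce_d_139 : ∀ r, r < 64 → sm gd (Qf (8896 + r)) = Qf (tab Gen.d (8896 + r)) :=
  edges_tab (sm gd) Qf (tab Gen.d) 8896 [(8896, 8043), (8897, 9461), (8898, 8487), (8899, 9659), (8900, 9544), (8901, 8049), (8902, 9525), (8903, 8051), (8904, 8249), (8905, 8053), (8906, 8180), (8907, 9662), (8908, 8057), (8909, 8670), (8910, 8059), (8911, 9663), (8912, 8912), (8913, 9668), (8914, 8914), (8915, 9670), (8916, 8066), (8917, 9672), (8918, 8068), (8919, 8072), (8920, 9673), (8921, 9675), (8922, 8922), (8923, 8923), (8924, 8924), (8925, 8925), (8926, 8926), (8927, 8262), (8928, 8098), (8929, 8097), (8930, 8089), (8931, 8611), (8932, 8610), (8933, 9527), (8934, 8091), (8935, 8094), (8936, 8419), (8937, 9660), (8938, 8113), (8939, 8137), (8940, 8117), (8941, 8551), (8942, 8423), (8943, 8943), (8944, 9681), (8945, 8292), (8946, 8118), (8947, 8537), (8948, 9546), (8949, 8479), (8950, 8950), (8951, 9686), (8952, 8116), (8953, 8125), (8954, 8162), (8955, 9689), (8956, 8718), (8957, 9691), (8958,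 8723), (8959, 9693)]
    ⟨e3 q8896 (flp_d L165260) q8043, e3 q8897 (flp_d L170457) q9461, e3 q8898 L165293 q8487, e3 q8899 L172559 q9659, e3 q8900 (flp_d L171457) q9544, e3 q8901 (flp_d L165327) q8049, e3 q8902 (flp_d L171205) q9525, e3 q8903 (flp_d L165355) q8051, e3 q8904 L165373 q8249, e3 q8905 (flp_d L165375) q8053, e3 q8906 L165402 q8180, e3 q8907 L172597 q9662, e3 q8908 (flp_d L165420) q8057, e3 q8909 L165445 q8670, e3 q8910 (flp_d L165449) q8059, e3 q8911 (flp_d L172625) q9663, e3 q8912 L165477 q8912, e3 q8913 L172681 q9668, e3 q8914 L165502 q8914, e3 q8915 L172706 q9670, e3 q8916 (flp_d L165517) q8066, e3 q8917 L172716 q9672, e3 q8918 (flp_d L165536) q8068, e3 q8919 L165552 q8072, e3 q8920 (flp_d L172742) q9673, e3 q8921 (flp_d L172763) q9675, e3 q8922 L165581 q8922, e3 q8923 L165593 q8923, e3 q8924 L165598 q8924, e3 q8925 L165606 q8925, e3 q8926 L165618 q8926, e3 q8927 L165637 q8262, e3 q8928 L165654 q8098, e3 q8929 L165658 q8097, e3 q8930 L165684 q8089, e3 q8931 L165698 q8611,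 e3 q8932 L165714 q8610, e3 q8933 (flp_d L171237) q9527, e3 q8934 (flp_d L165732) q8091, e3 q8935 (flp_d L165741) q8094, e3 q8936 L165767 q8419, e3 q8937 (flp_d L172586) q9660, e3 q8938 L165788 q8113, e3 q8939 L165800 q8137, e3 q8940 L165810 q8117, e3 q8941 L165823 q8551, e3 q8942 L165842 q8423, e3 q8943 L165851 q8943, e3 q8944 L172825 q9681, e3 q8945 L165870 q8292, e3 q8946 L165879 q8118, e3 q8947 L165889 q8537, e3 q8948 (flp_d L171491) q9546, e3 q8949 L165910 q8479, e3 q8950 L165919 q8950, e3 q8951 L172880 q9686, e3 q8952 (flp_d L165935) q8116, e3 q8953 L165947 q8125, e3 q8954 L165966 q8162, e3 q8955 L172918 q9689, e3 q8956 L165990 q8718, e3 q8957 L172942 q9691, e3 q8958 L166016 q8723, e3 q8959 L172964 q9693, trivial⟩ (by decide +kernel)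

theorem ce_d_140 : ∀ r, r < 64 → sm gd (Qf (8960 + r)) = Qf (tab Gen.d (8960 + r)) :=
  edges_tab (sm gd) Qf (tab Gen.d) 8960 [(8960, 8133), (8961, 9695), (8962, 8134), (8963, 8308), (8964, 9697), (8965, 8139), (8966, 9698), (8967, 8141), (8968, 8143), (8969, 8145), (8970, 8781), (8971, 8591), (8972, 8149), (8973, 8163), (8974, 8153), (8975, 8165), (8976, 8543), (8977, 8166), (8978, 8291), (8979, 8290), (8980, 8168), (8981, 9384), (8982, 8170), (8983, 8158), (8984, 9125), (8985, 9715), (8986, 9718), (8987, 8498), (8988, 9720), (8989, 9703), (8990, 8285), (8991, 9705), (8992, 9723), (8993, 9710), (8994, 8169), (8995, 9725), (8996, 9727), (8997, 8172), (8998, 8196), (8999, 8173), (9000, 9730), (9001, 9734), (9002, 8174), (9003, 8345), (9004, 8177), (9005, 9736), (9006, 9738), (9007, 9739), (9008, 8181), (9009, 9740), (9010, 9742), (9011, 8184), (9012, 8539), (9013, 8185), (9014, 9743), (9015, 9747), (9016, 8186), (9017, 8336), (9018, 8189), (9019, 9750), (9020, 9752), (9021, 8192), (9022,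 9556), (9023, 8193)]
    ⟨e3 q8960 L166034 q8133, e3 q8961 L172984 q9695, e3 q8962 (flp_d L166052) q8134, e3 q8963 L166072 q8308, e3 q8964 L173002 q9697, e3 q8965 (flp_d L166086) q8139, e3 q8966 L173016 q9698, e3 q8967 (flp_d L166108) q8141, e3 q8968 (flp_d L166116) q8143, e3 q8969 (flp_d L166127) q8145, e3 q8970 L166147 q8781, e3 q8971 L166158 q8591, e3 q8972 (flp_d L166160) q8149, e3 q8973 L166180 q8163, e3 q8974 L166187 q8153, e3 q8975 L166193 q8165, e3 q8976 L166208 q8543, e3 q8977 L166216 q8166, e3 q8978 L166225 q8291, e3 q8979 L166238 q8290, e3 q8980 L166243 q8168, e3 q8981 (flp_d L169855) q9384, e3 q8982 L166261 q8170, e3 q8983 (flp_d L166263) q8158, e3 q8984 (flp_d L167576) q9125, e3 q8985 (flp_d L173207) q9715, e3 q8986 L173229 q9718, e3 q8987 L166298 q8498, e3 q8988 L173242 q9720, e3 q8989 (flp_d L173081) q9703, e3 q8990 L166325 q8285, e3 q8991 (flp_d L173103) q9705, e3 q8992 L173277 q9723, e3 q8993 (flp_d L173158) q9710, e3 q8994 (flp_d L166363) q8169, e3 q8995 (flp_d L173305)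 q9725, e3 q8996 L173321 q9727, e3 q8997 L166395 q8172, e3 q8998 L166405 q8196, e3 q8999 L166413 q8173, e3 q9000 (flp_d L173361) q9730, e3 q9001 L173393 q9734, e3 q9002 (flp_d L166437) q8174, e3 q9003 L166451 q8345, e3 q9004 (flp_d L166455) q8177, e3 q9005 (flp_d L173414) q9736, e3 q9006 L173426 q9738, e3 q9007 L173434 q9739, e3 q9008 (flp_d L166486) q8181, e3 q9009 (flp_d L173452) q9740, e3 q9010 L173470 q9742, e3 q9011 L166523 q8184, e3 q9012 L166533 q8539, e3 q9013 L166541 q8185, e3 q9014 (flp_d L173484) q9743, e3 q9015 L173516 q9747, e3 q9016 (flp_d L166565) q8186, e3 q9017 L166579 q8336, e3 q9018 (flp_d L166583) q8189, e3 q9019 (flp_d L173552) q9750, e3 q9020 L173570 q9752, e3 q9021 L166621 q8192, e3 q9022 (flp_d L171601) q9556, e3 q9023 L166633 q8193, trivial⟩ (by decide +kernel)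

theorem ce_d_141 : ∀ r, r < 64 → sm gd (Qf (9024 + r)) = Qf (tab Gen.d (9024 + r)) :=
  edges_tab (sm gd) Qf (tab Gen.d) 9024 [(9024, 9755), (9025, 9759), (9026, 8194), (9027, 9497), (9028, 8198), (9029, 9729), (9030, 8199), (9031, 9731), (9032, 9767), (9033, 9763), (9034, 9769), (9035, 8200), (9036, 9771), (9037, 9532), (9038, 8203), (9039, 9770), (9040, 9040), (9041, 8208), (9042, 8509), (9043, 8209), (9044, 8510), (9045, 8533), (9046, 9775), (9047, 8224), (9048, 8217), (9049, 8511), (9050, 9782), (9051, 9783), (9052, 8216), (9053, 9786), (9054, 8218), (9055, 8223), (9056, 8220), (9057, 9787), (9058, 9789), (9059, 8229), (9060, 9790), (9061, 8667), (9062, 8232), (9063, 8236), (9064, 9792), (9065, 8238), (9066, 8239), (9067, 9657), (9068, 9795), (9069, 8243), (9070, 9797), (9071, 8245), (9072, 9760), (9073, 9661), (9074, 8247), (9075, 9077), (9076, 9076), (9077, 9075), (9078, 9801), (9079, 8258), (9080, 8263), (9081, 8272), (9082, 8719), (9083, 9804), (9084, 9805), (9085, 9806), (9086,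 8273), (9087, 8274)]
    ⟨e3 q9024 (flp_d L173613) q9755, e3 q9025 L173635 q9759, e3 q9026 (flp_d L166651) q8194, e3 q9027 (flp_d L170898) q9497, e3 q9028 L166667 q8198, e3 q9029 (flp_d L173353) q9729, e3 q9030 L166689 q8199, e3 q9031 (flp_d L173371) q9731, e3 q9032 L173693 q9767, e3 q9033 (flp_d L173661) q9763, e3 q9034 L173707 q9769, e3 q9035 (flp_d L166721) q8200, e3 q9036 (flp_d L173729) q9771, e3 q9037 (flp_d L171308) q9532, e3 q9038 (flp_d L166737) q8203, e3 q9039 (flp_d L173721) q9770, e3 q9040 L166768 q9040, e3 q9041 L166778 q8208, e3 q9042 L166797 q8509, e3 q9043 L166804 q8209, e3 q9044 L166813 q8510, e3 q9045 L166824 q8533, e3 q9046 (flp_d L173762) q9775, e3 q9047 L166845 q8224, e3 q9048 L166854 q8217, e3 q9049 L166863 q8511, e3 q9050 L173832 q9782, e3 q9051 L173843 q9783, e3 q9052 (flp_d L166885) q8216, e3 q9053 L173875 q9786, e3 q9054 (flp_d L166909) q8218, e3 q9055 L166928 q8223, e3 q9056 L166941 q8220, e3 q9057 (flp_d L173898) q9787, e3 q9058 L173918 q9789, e3 q9059 (flp_d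 L166967) q8229, e3 q9060 L173929 q9790, e3 q9061 L166996 q8667, e3 q9062 (flp_d L167000) q8232, e3 q9063 (flp_d L167007) q8236, e3 q9064 L173945 q9792, e3 q9065 (flp_d L167028) q8238, e3 q9066 (flp_d L167038) q8239, e3 q9067 (flp_d L172543) q9657, e3 q9068 L173976 q9795, e3 q9069 (flp_d L167071) q8243, e3 q9070 L173995 q9797, e3 q9071 (flp_d L167087) q8245, e3 q9072 (flp_d L173641) q9760, e3 q9073 (flp_d L172590) q9661, e3 q9074 (flp_d L167104) q8247, e3 q9075 (flp_d L167141) q9077, e3 q9076 L167131 q9076, e3 q9077 L167141 q9075, e3 q9078 L174030 q9801, e3 q9079 (flp_d L167148) q8258, e3 q9080 (flp_d L167157) q8263, e3 q9081 L167172 q8272, e3 q9082 L167182 q8719, e3 q9083 L174056 q9804, e3 q9084 L174066 q9805, e3 q9085 L174080 q9806, e3 q9086 (flp_d L167218) q8273, e3 q9087 (flp_d L167226) q8274, trivial⟩ (by decide +kernel)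

theorem ce_d_142 : ∀ r, r < 64 → sm gd (Qf (9088 + r)) = Qf (tab Gen.d (9088 + r)) :=
  edges_tab (sm gd) Qf (tab Gen.d) 9088 [(9088, 8276), (9089, 8698), (9090, 8277), (9091, 9809), (9092, 9813), (9093, 8278), (9094, 8630), (9095, 8696), (9096, 8282), (9097, 8700), (9098, 9819), (9099, 9820), (9100, 8283), (9101, 9821), (9102, 8514), (9103, 8294), (9104, 8518), (9105, 9704), (9106, 9236), (9107, 9682), (9108, 9825), (9109, 8300), (9110, 8301), (9111, 9679), (9112, 8305), (9113, 9788), (9114, 9829), (9115, 9830), (9116, 9831), (9117, 8323), (9118, 8310), (9119, 9834), (9120, 9836), (9121, 9839), (9122, 8313), (9123, 9382), (9124, 8314), (9125, 8984), (9126, 9842), (9127, 9847), (9128, 8315), (9129, 8525), (9130, 9850), (9131, 8318), (9132, 8320), (9133, 8338), (9134, 8321), (9135, 8322), (9136, 9855), (9137, 9857), (9138, 8325), (9139, 8351), (9140, 8326), (9141, 9860), (9142, 9864), (9143, 8327), (9144, 9576), (9145, 8331), (9146, 8359), (9147, 8332), (9148, 8361), (9149, 9871), (9150,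 9867), (9151, 9873)]
    ⟨e3 q9088 L167239 q8276, e3 q9089 L167256 q8698, e3 q9090 L167263 q8277, e3 q9091 (flp_d L174107) q9809, e3 q9092 L174143 q9813, e3 q9093 (flp_d L167285) q8278, e3 q9094 L167297 q8630, e3 q9095 L167313 q8696, e3 q9096 L167319 q8282, e3 q9097 L167329 q8700, e3 q9098 L174195 q9819, e3 q9099 L174199 q9820, e3 q9100 (flp_d L167349) q8283, e3 q9101 (flp_d L174205) q9821, e3 q9102 L167368 q8514, e3 q9103 L167373 q8294, e3 q9104 L167384 q8518, e3 q9105 (flp_d L173092) q9704, e3 q9106 (flp_d L168529) q9236, e3 q9107 (flp_d L172838) q9682, e3 q9108 L174237 q9825, e3 q9109 (flp_d L167429) q8300, e3 q9110 (flp_d L167434) q8301, e3 q9111 (flp_d L172814) q9679, e3 q9112 (flp_d L167449) q8305, e3 q9113 (flp_d L173914) q9788, e3 q9114 L174271 q9829, e3 q9115 L174279 q9830, e3 q9116 L174293 q9831, e3 q9117 L167505 q8323, e3 q9118 (flp_d L167509) q8310, e3 q9119 (flp_d L174327) q9834, e3 q9120 (flp_d L174353) q9836, e3 q9121 L174381 q9839, e3 q9122 L167552 q8313, e3 q9123 (flp_d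 L169840) q9382, e3 q9124 L167566 q8314, e3 q9125 L167576 q8984, e3 q9126 (flp_d L174425) q9842, e3 q9127 L174461 q9847, e3 q9128 (flp_d L167592) q8315, e3 q9129 L167600 q8525, e3 q9130 L174473 q9850, e3 q9131 (flp_d L167610) q8318, e3 q9132 L167624 q8320, e3 q9133 L167638 q8338, e3 q9134 (flp_d L167640) q8321, e3 q9135 (flp_d L167648) q8322, e3 q9136 (flp_d L174523) q9855, e3 q9137 L174539 q9857, e3 q9138 L167680 q8325, e3 q9139 L167689 q8351, e3 q9140 L167696 q8326, e3 q9141 (flp_d L174578) q9860, e3 q9142 L174608 q9864, e3 q9143 (flp_d L167720) q8327, e3 q9144 (flp_d L171824) q9576, e3 q9145 L167740 q8331, e3 q9146 L167756 q8359, e3 q9147 L167762 q8332, e3 q9148 L167770 q8361, e3 q9149 L174666 q9871, e3 q9150 (flp_d L174636) q9867, e3 q9151 L174678 q9873, trivial⟩ (by decide +kernel)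

theorem ce_d_143 : ∀ r, r < 64 → sm gd (Qf (9152 + r)) = Qf (tab Gen.d (9152 + r)) :=
  edges_tab (sm gd) Qf (tab Gen.d) 9152 [(9152, 8333), (9153, 9874), (9154, 9523), (9155, 9608), (9156, 8340), (9157, 9549), (9158, 8341), (9159, 9852), (9160, 9881), (9161, 9877), (9162, 9883), (9163, 8342), (9164, 9884), (9165, 9534), (9166, 8347), (9167, 9854), (9168, 8348), (9169, 9888), (9170, 9892), (9171, 8349), (9172, 9613), (9173, 8353), (9174, 9859), (9175, 8354), (9176, 9861), (9177, 9899), (9178, 9895), (9179, 9901), (9180, 8355), (9181, 9903), (9182, 9623), (9183, 8363), (9184, 9868), (9185, 9908), (9186, 9909), (9187, 8362), (9188, 9912), (9189, 8364), (9190, 8369), (9191, 8366), (9192, 9917), (9193, 9913), (9194, 9915), (9195, 9195), (9196, 8376), (9197, 8536), (9198, 9922), (9199, 9923), (9200, 8375), (9201, 9925), (9202, 8377), (9203, 8379), (9204, 9927), (9205, 9928), (9206, 9684), (9207, 8384), (9208, 8385), (9209, 9910), (9210, 9422), (9211, 8387), (9212, 8391), (9213, 8392), (9214,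 9706), (9215, 8393)]
    ⟨e3 q9152 (flp_d L167790) q8333, e3 q9153 (flp_d L174688) q9874, e3 q9154 (flp_d L171181) q9523, e3 q9155 (flp_d L172162) q9608, e3 q9156 L167822 q8340, e3 q9157 (flp_d L171525) q9549, e3 q9158 L167848 q8341, e3 q9159 (flp_d L174493) q9852, e3 q9160 L174748 q9881, e3 q9161 (flp_d L174710) q9877, e3 q9162 L174766 q9883, e3 q9163 (flp_d L167886) q8342, e3 q9164 (flp_d L174778) q9884, e3 q9165 (flp_d L171336) q9534, e3 q9166 L167912 q8347, e3 q9167 (flp_d L174516) q9854, e3 q9168 L167930 q8348, e3 q9169 (flp_d L174820) q9888, e3 q9170 L174852 q9892, e3 q9171 (flp_d L167954) q8349, e3 q9172 (flp_d L172210) q9613, e3 q9173 L167976 q8353, e3 q9174 (flp_d L174571) q9859, e3 q9175 L168000 q8354, e3 q9176 (flp_d L174587) q9861, e3 q9177 L174920 q9899, e3 q9178 (flp_d L174882) q9895, e3 q9179 L174938 q9901, e3 q9180 (flp_d L168042) q8355, e3 q9181 (flp_d L174956) q9903, e3 q9182 (flp_d L172293) q9623, e3 q9183 L168066 q8363, e3 q9184 (flp_d L174646) q9868, e3 q9185 L174990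 q9908, e3 q9186 L174996 q9909, e3 q9187 (flp_d L168092) q8362, e3 q9188 L175010 q9912, e3 q9189 (flp_d L168102) q8364, e3 q9190 L168108 q8369, e3 q9191 L168112 q8366, e3 q9192 (flp_d L175032) q9917, e3 q9193 (flp_d L175018) q9913, e3 q9194 (flp_d L175024) q9915, e3 q9195 L168132 q9195, e3 q9196 L168141 q8376, e3 q9197 L168153 q8536, e3 q9198 L175070 q9922, e3 q9199 L175080 q9923, e3 q9200 (flp_d L168175) q8375, e3 q9201 L175104 q9925, e3 q9202 (flp_d L168200) q8377, e3 q9203 L168220 q8379, e3 q9204 L175131 q9927, e3 q9205 L175143 q9928, e3 q9206 (flp_d L172863) q9684, e3 q9207 (flp_d L168250) q8384, e3 q9208 (flp_d L168260) q8385, e3 q9209 (flp_d L175004) q9910, e3 q9210 (flp_d L170111) q9422, e3 q9211 (flp_d L168280) q8387, e3 q9212 L168300 q8391, e3 q9213 L168304 q8392, e3 q9214 (flp_d L173113) q9706, e3 q9215 (flp_d L168320) q8393, trivial⟩ (by decide +kernel)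

theorem ce_d_144 : ∀ r, r < 64 → sm gd (Qf (9216 + r)) = Qf (tab Gen.d (9216 + r)) :=
  edges_tab (sm gd) Qf (tab Gen.d) 9216 [(9216, 9935), (9217, 9936), (9218, 8399), (9219, 8400), (9220, 9939), (9221, 8405), (9222, 9538), (9223, 8407), (9224, 9902), (9225, 9674), (9226, 8412), (9227, 8413), (9228, 8614), (9229, 8416), (9230, 8544), (9231, 9945), (9232, 8424), (9233, 8425), (9234, 9234), (9235, 9235), (9236, 9106), (9237, 9237), (9238, 9238), (9239, 9950), (9240, 9240), (9241, 9445), (9242, 8433), (9243, 9953), (9244, 8435), (9245, 9952), (9246, 9246), (9247, 8440), (9248, 9248), (9249, 8441), (9250, 9250), (9251, 9962), (9252, 9958), (9253, 9964), (9254, 8442), (9255, 9255), (9256, 8449), (9257, 9257), (9258, 9969), (9259, 9970), (9260, 8448), (9261, 9973), (9262, 8450), (9263, 8492), (9264, 8452), (9265, 9977), (9266, 9978), (9267, 9979), (9268, 9687), (9269, 8456), (9270, 8457), (9271, 8482), (9272, 9283), (9273, 8459), (9274, 8464), (9275, 9275), (9276, 8463), (9277, 9984), (9278,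 9985), (9279, 9986)]
    ⟨e3 q9216 L175209 q9935, e3 q9217 L175220 q9936, e3 q9218 (flp_d L168352) q8399, e3 q9219 (flp_d L168361) q8400, e3 q9220 L175251 q9939, e3 q9221 (flp_d L168378) q8405, e3 q9222 (flp_d L171380) q9538, e3 q9223 (flp_d L168396) q8407, e3 q9224 (flp_d L174948) q9902, e3 q9225 (flp_d L172757) q9674, e3 q9226 L168422 q8412, e3 q9227 (flp_d L168428) q8413, e3 q9228 L168450 q8614, e3 q9229 (flp_d L168452) q8416, e3 q9230 L168465 q8544, e3 q9231 L175304 q9945, e3 q9232 (flp_d L168482) q8424, e3 q9233 (flp_d L168491) q8425, e3 q9234 L168505 q9234, e3 q9235 L168517 q9235, e3 q9236 L168529 q9106, e3 q9237 L168539 q9237, e3 q9238 L168550 q9238, e3 q9239 L175366 q9950, e3 q9240 L168570 q9240, e3 q9241 (flp_d L170286) q9445, e3 q9242 (flp_d L168588) q8433, e3 q9243 L175398 q9953, e3 q9244 (flp_d L168601) q8435, e3 q9245 (flp_d L175396) q9952, e3 q9246 L168618 q9246, e3 q9247 L168626 q8440, e3 q9248 L168643 q9248, e3 q9249 L168649 q8441, e3 q9250 L168658 q9250, e3 q9251 L175480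 q9962, e3 q9252 (flp_d L175444) q9958, e3 q9253 L175502 q9964, e3 q9254 (flp_d L168695) q8442, e3 q9255 L168707 q9255, e3 q9256 L168716 q8449, e3 q9257 L168726 q9257, e3 q9258 L175549 q9969, e3 q9259 L175559 q9970, e3 q9260 (flp_d L168749) q8448, e3 q9261 L175584 q9973, e3 q9262 (flp_d L168769) q8450, e3 q9263 L168781 q8492, e3 q9264 L168790 q8452, e3 q9265 (flp_d L175620) q9977, e3 q9266 L175625 q9978, e3 q9267 L175635 q9979, e3 q9268 (flp_d L172902) q9687, e3 q9269 (flp_d L168833) q8456, e3 q9270 (flp_d L168844) q8457, e3 q9271 L168861 q8482, e3 q9272 (flp_d L168973) q9283, e3 q9273 (flp_d L168870) q8459, e3 q9274 L168880 q8464, e3 q9275 L168893 q9275, e3 q9276 L168897 q8463, e3 q9277 L175689 q9984, e3 q9278 L175699 q9985, e3 q9279 L175714 q9986, trivial⟩ (by decide +kernel)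

theorem ce_d_145 : ∀ r, r < 64 → sm gd (Qf (9280 + r)) = Qf (tab Gen.d (9280 + r)) :=
  edges_tab (sm gd) Qf (tab Gen.d) 9280 [(9280, 8468), (9281, 8469), (9282, 8679), (9283, 9272), (9284, 8471), (9285, 8475), (9286, 9286), (9287, 8476), (9288, 8477), (9289, 8478), (9290, 9981), (9291, 9539), (9292, 8488), (9293, 9965), (9294, 9974), (9295, 9295), (9296, 9975), (9297, 9992), (9298, 8499), (9299, 9299), (9300, 8502), (9301, 8505), (9302, 8506), (9303, 9994), (9304, 9776), (9305, 8512), (9306, 8517), (9307, 8519), (9308, 9308), (9309, 9309), (9310, 8523), (9311, 9311), (9312, 10001), (9313, 10002), (9314, 8524), (9315, 8526), (9316, 10003), (9317, 9317), (9318, 8534), (9319, 8535), (9320, 9777), (9321, 9778), (9322, 9744), (9323, 8545), (9324, 9324), (9325, 9325), (9326, 9326), (9327, 9327), (9328, 8552), (9329, 9332), (9330, 8565), (9331, 8560), (9332, 9329), (9333, 10015), (9334, 10018), (9335, 9335), (9336, 10020), (9337, 10021), (9338, 8574), (9339, 8567), (9340, 10024), (9341, 8568),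 (9342, 8569), (9343, 9455)]
    ⟨e3 q9280 (flp_d L168941) q8468, e3 q9281 (flp_d L168948) q8469, e3 q9282 L168964 q8679, e3 q9283 L168973 q9272, e3 q9284 (flp_d L168977) q8471, e3 q9285 L168999 q8475, e3 q9286 L169008 q9286, e3 q9287 L169013 q8476, e3 q9288 (flp_d L169019) q8477, e3 q9289 (flp_d L169030) q8478, e3 q9290 (flp_d L175662) q9981, e3 q9291 (flp_d L171392) q9539, e3 q9292 (flp_d L169061) q8488, e3 q9293 (flp_d L175517) q9965, e3 q9294 (flp_d L175598) q9974, e3 q9295 L169089 q9295, e3 q9296 (flp_d L175602) q9975, e3 q9297 L175775 q9992, e3 q9298 (flp_d L169108) q8499, e3 q9299 L169124 q9299, e3 q9300 L169137 q8502, e3 q9301 L169157 q8505, e3 q9302 L169165 q8506, e3 q9303 (flp_d L175800) q9994, e3 q9304 (flp_d L173775) q9776, e3 q9305 (flp_d L169200) q8512, e3 q9306 (flp_d L169209) q8517, e3 q9307 (flp_d L169222) q8519, e3 q9308 L169242 q9308, e3 q9309 L169258 q9309, e3 q9310 L169264 q8523, e3 q9311 L169273 q9311, e3 q9312 L175874 q10001, e3 q9313 L175883 q10002, e3 q9314 (flp_d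 L169294) q8524, e3 q9315 (flp_d L169302) q8526, e3 q9316 (flp_d L175900) q10003, e3 q9317 L169315 q9317, e3 q9318 L169323 q8534, e3 q9319 L169332 q8535, e3 q9320 (flp_d L173790) q9777, e3 q9321 (flp_d L173799) q9778, e3 q9322 (flp_d L173494) q9744, e3 q9323 (flp_d L169354) q8545, e3 q9324 L169378 q9324, e3 q9325 L169385 q9325, e3 q9326 L169396 q9326, e3 q9327 L169401 q9327, e3 q9328 (flp_d L169405) q8552, e3 q9329 (flp_d L169449) q9332, e3 q9330 L169430 q8565, e3 q9331 (flp_d L169432) q8560, e3 q9332 L169449 q9329, e3 q9333 (flp_d L175997) q10015, e3 q9334 L176027 q10018, e3 q9335 L169476 q9335, e3 q9336 L176046 q10020, e3 q9337 L176054 q10021, e3 q9338 L169503 q8574, e3 q9339 L169510 q8567, e3 q9340 L176072 q10024, e3 q9341 (flp_d L169522) q8568, e3 q9342 (flp_d L169528) q8569, e3 q9343 (flp_d L170386) q9455, trivial⟩ (by decide +kernel)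

theorem ce_d_146 : ∀ r, r < 64 → sm gd (Qf (9344 + r)) = Qf (tab Gen.d (9344 + r)) :=
  edges_tab (sm gd) Qf (tab Gen.d) 9344 [(9344, 8571), (9345, 10029), (9346, 8572), (9347, 9492), (9348, 9452), (9349, 8576), (9350, 10022), (9351, 10036), (9352, 10037), (9353, 8577), (9354, 10039), (9355, 8579), (9356, 10038), (9357, 8594), (9358, 8587), (9359, 9359), (9360, 10046), (9361, 10047), (9362, 8586), (9363, 10050), (9364, 8588), (9365, 8593), (9366, 8590), (9367, 10051), (9368, 10052), (9369, 8597), (9370, 9665), (9371, 9664), (9372, 8600), (9373, 10030), (9374, 10059), (9375, 8605), (9376, 8603), (9377, 9938), (9378, 10062), (9379, 9379), (9380, 10063), (9381, 8616), (9382, 9123), (9383, 8617), (9384, 8981), (9385, 10064), (9386, 10069), (9387, 8618), (9388, 9388), (9389, 10072), (9390, 8621), (9391, 8713), (9392, 8632), (9393, 8625), (9394, 8634), (9395, 10078), (9396, 10079), (9397, 8626), (9398, 10081), (9399, 8628), (9400, 10080), (9401, 9815), (9402, 8636), (9403, 10075), (9404, 10087),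 (9405, 10088), (9406, 8635), (9407, 10091)]
    ⟨e3 q9344 L169549 q8571, e3 q9345 L176105 q10029, e3 q9346 (flp_d L169561) q8572, e3 q9347 (flp_d L170850) q9492, e3 q9348 (flp_d L170350) q9452, e3 q9349 L169589 q8576, e3 q9350 (flp_d L176065) q10022, e3 q9351 L176159 q10036, e3 q9352 L176165 q10037, e3 q9353 (flp_d L169617) q8577, e3 q9354 (flp_d L176181) q10039, e3 q9355 (flp_d L169627) q8579, e3 q9356 (flp_d L176175) q10038, e3 q9357 L169648 q8594, e3 q9358 L169659 q8587, e3 q9359 L169668 q9359, e3 q9360 L176230 q10046, e3 q9361 L176241 q10047, e3 q9362 (flp_d L169687) q8586, e3 q9363 L176268 q10050, e3 q9364 (flp_d L169706) q8588, e3 q9365 L169721 q8593, e3 q9366 L169731 q8590, e3 q9367 (flp_d L176287) q10051, e3 q9368 (flp_d L176291) q10052, e3 q9369 (flp_d L169747) q8597, e3 q9370 (flp_d L172655) q9665, e3 q9371 (flp_d L172639) q9664, e3 q9372 (flp_d L169768) q8600, e3 q9373 (flp_d L176113) q10030, e3 q9374 (flp_d L176342) q10059, e3 q9375 L169788 q8605, e3 q9376 L169795 q8603, e3 q9377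 (flp_d L175247) q9938, e3 q9378 (flp_d L176360) q10062, e3 q9379 L169811 q9379, e3 q9380 L176363 q10063, e3 q9381 L169829 q8616, e3 q9382 L169840 q9123, e3 q9383 L169845 q8617, e3 q9384 L169855 q8981, e3 q9385 (flp_d L176376) q10064, e3 q9386 L176420 q10069, e3 q9387 (flp_d L169879) q8618, e3 q9388 L169889 q9388, e3 q9389 L176440 q10072, e3 q9390 (flp_d L169904) q8621, e3 q9391 L169920 q8713, e3 q9392 L169929 q8632, e3 q9393 L169934 q8625, e3 q9394 L169941 q8634, e3 q9395 L176486 q10078, e3 q9396 L176490 q10079, e3 q9397 (flp_d L169954) q8626, e3 q9398 (flp_d L176506) q10081, e3 q9399 (flp_d L169962) q8628, e3 q9400 (flp_d L176500) q10080, e3 q9401 (flp_d L174157) q9815, e3 q9402 L169988 q8636, e3 q9403 (flp_d L176472) q10075, e3 q9404 L176541 q10087, e3 q9405 L176547 q10088, e3 q9406 (flp_d L170012) q8635, e3 q9407 L176563 q10091, trivial⟩ (by decide +kernel)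

theorem ce_d_147 : ∀ r, r < 64 → sm gd (Qf (9408 + r)) = Qf (tab Gen.d (9408 + r)) :=
  edges_tab (sm gd) Qf (tab Gen.d) 9408 [(9408, 8637), (9409, 8642), (9410, 8639), (9411, 10096), (9412, 8640), (9413, 10092), (9414, 9528), (9415, 10094), (9416, 10102), (9417, 10103), (9418, 10104), (9419, 8646), (9420, 8647), (9421, 10089), (9422, 9210), (9423, 8649), (9424, 8654), (9425, 8660), (9426, 8656), (9427, 9654), (9428, 10111), (9429, 10112), (9430, 10116), (9431, 10114), (9432, 8657), (9433, 8662), (9434, 9507), (9435, 9604), (9436, 10119), (9437, 8672), (9438, 9946), (9439, 8674), (9440, 8675), (9441, 8676), (9442, 9987), (9443, 9944), (9444, 9685), (9445, 9241), (9446, 9989), (9447, 10120), (9448, 8686), (9449, 8687), (9450, 9450), (9451, 8703), (9452, 9348), (9453, 8705), (9454, 8691), (9455, 9343), (9456, 10134), (9457, 10137), (9458, 9458), (9459, 10139), (9460, 9816), (9461, 8897), (9462, 9810), (9463, 8699), (9464, 10142), (9465, 10144), (9466, 10145), (9467, 10131), (9468, 8704),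 (9469, 10147), (9470, 10149), (9471, 8707)]
    ⟨e3 q9408 (flp_d L170022) q8637, e3 q9409 L170028 q8642, e3 q9410 L170032 q8639, e3 q9411 (flp_d L176585) q10096, e3 q9412 (flp_d L170038) q8640, e3 q9413 (flp_d L176571) q10092, e3 q9414 (flp_d L171251) q9528, e3 q9415 (flp_d L176577) q10094, e3 q9416 L176617 q10102, e3 q9417 L176629 q10103, e3 q9418 L176637 q10104, e3 q9419 (flp_d L170086) q8646, e3 q9420 (flp_d L170094) q8647, e3 q9421 (flp_d L176555) q10089, e3 q9422 L170111 q9210, e3 q9423 (flp_d L170113) q8649, e3 q9424 L170125 q8654, e3 q9425 L170134 q8660, e3 q9426 L170140 q8656, e3 q9427 (flp_d L172506) q9654, e3 q9428 (flp_d L176697) q10111, e3 q9429 (flp_d L176701) q10112, e3 q9430 L176739 q10116, e3 q9431 (flp_d L176729) q10114, e3 q9432 (flp_d L170172) q8657, e3 q9433 (flp_d L170184) q8662, e3 q9434 (flp_d L171000) q9507, e3 q9435 (flp_d L172114) q9604, e3 q9436 L176782 q10119, e3 q9437 (flp_d L170220) q8672, e3 q9438 (flp_d L175328) q9946, e3 q9439 (flp_d L170234) q8674, e3 q9440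 (flp_d L170241) q8675, e3 q9441 (flp_d L170248) q8676, e3 q9442 (flp_d L175734) q9987, e3 q9443 (flp_d L175300) q9944, e3 q9444 L172878 q9685, e3 q9445 L170286 q9241, e3 q9446 (flp_d L175753) q9989, e3 q9447 (flp_d L176800) q10120, e3 q9448 L170303 q8686, e3 q9449 L170314 q8687, e3 q9450 L170323 q9450, e3 q9451 L170327 q8703, e3 q9452 L170350 q9348, e3 q9453 L170359 q8705, e3 q9454 (flp_d L170363) q8691, e3 q9455 L170386 q9343, e3 q9456 (flp_d L176936) q10134, e3 q9457 L176970 q10137, e3 q9458 L170415 q9458, e3 q9459 L176991 q10139, e3 q9460 (flp_d L174171) q9816, e3 q9461 L170457 q8897, e3 q9462 (flp_d L174118) q9810, e3 q9463 (flp_d L170475) q8699, e3 q9464 (flp_d L177042) q10142, e3 q9465 L177066 q10144, e3 q9466 L177076 q10145, e3 q9467 (flp_d L176899) q10131, e3 q9468 (flp_d L170542) q8704, e3 q9469 (flp_d L177115) q10147, e3 q9470 L177139 q10149, e3 q9471 L170589 q8707, trivial⟩ (by decide +kernel)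

theorem ce_d_148 : ∀ r, r < 64 → sm gd (Qf (9472 + r)) = Qf (tab Gen.d (9472 + r)) :=
  edges_tab (sm gd) Qf (tab Gen.d) 9472 [(9472, 8729), (9473, 8708), (9474, 10150), (9475, 10154), (9476, 8709), (9477, 10156), (9478, 8711), (9479, 9483), (9480, 10074), (9481, 10160), (9482, 10161), (9483, 9479), (9484, 10163), (9485, 10164), (9486, 8720), (9487, 8721), (9488, 8722), (9489, 10167), (9490, 10169), (9491, 8725), (9492, 9347), (9493, 8726), (9494, 10170), (9495, 10173), (9496, 8727), (9497, 9027), (9498, 8731), (9499, 9753), (9500, 8732), (9501, 10151), (9502, 10180), (9503, 10176), (9504, 10182), (9505, 8733), (9506, 10184), (9507, 9434), (9508, 8736), (9509, 10183), (9510, 9995), (9511, 8745), (9512, 9512), (9513, 10106), (9514, 10190), (9515, 8744), (9516, 8748), (9517, 10113), (9518, 10192), (9519, 10194), (9520, 8751), (9521, 8752), (9522, 10195), (9523, 9154), (9524, 8755), (9525, 8902), (9526, 8758), (9527, 8933), (9528, 9414), (9529, 8762), (9530, 10118), (9531, 8764), (9532, 9037),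 (9533, 8768), (9534, 9165), (9535, 10174)]
    ⟨e3 q9472 L170604 q8729, e3 q9473 L170611 q8708, e3 q9474 (flp_d L177154) q10150, e3 q9475 L177194 q10154, e3 q9476 (flp_d L170637) q8709, e3 q9477 L177208 q10156, e3 q9478 (flp_d L170661) q8711, e3 q9479 (flp_d L170732) q9483, e3 q9480 (flp_d L176461) q10074, e3 q9481 L177264 q10160, e3 q9482 L177274 q10161, e3 q9483 L170732 q9479, e3 q9484 L177305 q10163, e3 q9485 L177311 q10164, e3 q9486 (flp_d L170764) q8720, e3 q9487 (flp_d L170772) q8721, e3 q9488 (flp_d L170786) q8722, e3 q9489 (flp_d L177351) q10167, e3 q9490 L177375 q10169, e3 q9491 L170834 q8725, e3 q9492 L170850 q9347, e3 q9493 L170858 q8726, e3 q9494 (flp_d L177391) q10170, e3 q9495 L177421 q10173, e3 q9496 (flp_d L170886) q8727, e3 q9497 L170898 q9027, e3 q9498 L170912 q8731, e3 q9499 (flp_d L173587) q9753, e3 q9500 L170934 q8732, e3 q9501 (flp_d L177167) q10151, e3 q9502 L177487 q10180, e3 q9503 (flp_d L177449) q10176, e3 q9504 L177509 q10182, e3 q9505 (flp_d L170978) q8733, e3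 q9506 (flp_d L177525) q10184, e3 q9507 L171000 q9434, e3 q9508 (flp_d L171004) q8736, e3 q9509 (flp_d L177519) q10183, e3 q9510 (flp_d L175821) q9995, e3 q9511 L171043 q8745, e3 q9512 L171055 q9512, e3 q9513 (flp_d L176660) q10106, e3 q9514 L177581 q10190, e3 q9515 (flp_d L171076) q8744, e3 q9516 L171087 q8748, e3 q9517 L176723 q10113, e3 q9518 (flp_d L177602) q10192, e3 q9519 L177624 q10194, e3 q9520 (flp_d L171125) q8751, e3 q9521 (flp_d L171140) q8752, e3 q9522 L177639 q10195, e3 q9523 L171181 q9154, e3 q9524 (flp_d L171185) q8755, e3 q9525 L171205 q8902, e3 q9526 (flp_d L171209) q8758, e3 q9527 L171237 q8933, e3 q9528 L171251 q9414, e3 q9529 (flp_d L171255) q8762, e3 q9530 (flp_d L176778) q10118, e3 q9531 (flp_d L171284) q8764, e3 q9532 L171308 q9037, e3 q9533 (flp_d L171312) q8768, e3 q9534 L171336 q9165, e3 q9535 (flp_d L177435) q10174, trivial⟩ (by decide +kernel)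

theorem ce_d_149 : ∀ r, r < 64 → sm gd (Qf (9536 + r)) = Qf (tab Gen.d (9536 + r)) :=
  edges_tab (sm gd) Qf (tab Gen.d) 9536 [(9536, 8872), (9537, 8791), (9538, 9222), (9539, 9291), (9540, 9700), (9541, 9701), (9542, 10203), (9543, 8785), (9544, 8900), (9545, 8812), (9546, 8948), (9547, 8814), (9548, 10206), (9549, 9157), (9550, 8819), (9551, 8803), (9552, 10209), (9553, 10211), (9554, 8806), (9555, 8807), (9556, 9022), (9557, 10212), (9558, 10216), (9559, 8808), (9560, 9560), (9561, 10219), (9562, 8811), (9563, 10221), (9564, 10222), (9565, 8816), (9566, 10224), (9567, 8817), (9568, 8818), (9569, 10227), (9570, 8821), (9571, 8856), (9572, 8822), (9573, 10228), (9574, 10232), (9575, 8823), (9576, 9144), (9577, 8827), (9578, 8864), (9579, 8828), (9580, 8866), (9581, 10239), (9582, 10235), (9583, 10241), (9584, 8829), (9585, 10243), (9586, 10197), (9587, 8832), (9588, 10242), (9589, 8835), (9590, 10248), (9591, 8836), (9592, 8837), (9593, 10251), (9594, 8840), (9595, 10253), (9596, 8841),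 (9597, 8844), (9598, 8845), (9599, 10257)]
    ⟨e3 q9536 L171358 q8872, e3 q9537 L171374 q8791, e3 q9538 L171380 q9222, e3 q9539 L171392 q9291, e3 q9540 (flp_d L173049) q9700, e3 q9541 (flp_d L173062) q9701, e3 q9542 L177747 q10203, e3 q9543 (flp_d L171438) q8785, e3 q9544 L171457 q8900, e3 q9545 L171475 q8812, e3 q9546 L171491 q8948, e3 q9547 L171501 q8814, e3 q9548 L177786 q10206, e3 q9549 L171525 q9157, e3 q9550 L171535 q8819, e3 q9551 (flp_d L171541) q8803, e3 q9552 (flp_d L177828) q10209, e3 q9553 L177848 q10211, e3 q9554 L171582 q8806, e3 q9555 L171591 q8807, e3 q9556 L171601 q9022, e3 q9557 (flp_d L177863) q10212, e3 q9558 L177898 q10216, e3 q9559 (flp_d L171623) q8808, e3 q9560 L171635 q9560, e3 q9561 L177918 q10219, e3 q9562 (flp_d L171650) q8811, e3 q9563 L177934 q10221, e3 q9564 L177946 q10222, e3 q9565 L171692 q8816, e3 q9566 L177969 q10224, e3 q9567 (flp_d L171712) q8817, e3 q9568 (flp_d L171720) q8818, e3 q9569 L177998 q10227, e3 q9570 L171755 q8821, e3 q9571 L171771 q8856,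 e3 q9572 L171781 q8822, e3 q9573 (flp_d L178016) q10228, e3 q9574 L178062 q10232, e3 q9575 (flp_d L171813) q8823, e3 q9576 L171824 q9144, e3 q9577 L171833 q8827, e3 q9578 L171848 q8864, e3 q9579 L171853 q8828, e3 q9580 L171860 q8866, e3 q9581 L178119 q10239, e3 q9582 (flp_d L178092) q10235, e3 q9583 L178139 q10241, e3 q9584 (flp_d L171889) q8829, e3 q9585 (flp_d L178155) q10243, e3 q9586 (flp_d L177674) q10197, e3 q9587 (flp_d L171913) q8832, e3 q9588 (flp_d L178149) q10242, e3 q9589 L171934 q8835, e3 q9590 L178192 q10248, e3 q9591 (flp_d L171954) q8836, e3 q9592 (flp_d L171964) q8837, e3 q9593 L178223 q10251, e3 q9594 L171998 q8840, e3 q9595 L178250 q10253, e3 q9596 (flp_d L172022) q8841, e3 q9597 L172042 q8844, e3 q9598 L172054 q8845, e3 q9599 L178296 q10257, trivial⟩ (by decide +kernel)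

theorem ce_d_150 : ∀ r, r < 64 → sm gd (Qf (9600 + r)) = Qf (tab Gen.d (9600 + r)) :=
  edges_tab (sm gd) Qf (tab Gen.d) 9600 [(9600, 10255), (9601, 10259), (9602, 8846), (9603, 10261), (9604, 9435), (9605, 8849), (9606, 10260), (9607, 8852), (9608, 9155), (9609, 8853), (9610, 10266), (9611, 10270), (9612, 8854), (9613, 9172), (9614, 8858), (9615, 9886), (9616, 8859), (9617, 10229), (9618, 10277), (9619, 10273), (9620, 10279), (9621, 8860), (9622, 10281), (9623, 9182), (9624, 8868), (9625, 10236), (9626, 10286), (9627, 10287), (9628, 8867), (9629, 10290), (9630, 8869), (9631, 8874), (9632, 8871), (9633, 10295), (9634, 10291), (9635, 10293), (9636, 8878), (9637, 10300), (9638, 8877), (9639, 8879), (9640, 8882), (9641, 10302), (9642, 9642), (9643, 10304), (9644, 10043), (9645, 10307), (9646, 10308), (9647, 8886), (9648, 8887), (9649, 10288), (9650, 9708), (9651, 8889), (9652, 8893), (9653, 8894), (9654, 9427), (9655, 10314), (9656, 10315), (9657, 9067), (9658, 10202), (9659, 8899), (9660,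 8937), (9661, 9073), (9662, 8907), (9663, 8911)]
    ⟨e3 q9600 (flp_d L178280) q10255, e3 q9601 L178318 q10259, e3 q9602 (flp_d L172092) q8846, e3 q9603 (flp_d L178338) q10261, e3 q9604 L172114 q9435, e3 q9605 (flp_d L172118) q8849, e3 q9606 (flp_d L178332) q10260, e3 q9607 L172147 q8852, e3 q9608 L172162 q9155, e3 q9609 L172169 q8853, e3 q9610 (flp_d L178389) q10266, e3 q9611 L178431 q10270, e3 q9612 (flp_d L172199) q8854, e3 q9613 L172210 q9172, e3 q9614 L172223 q8858, e3 q9615 (flp_d L174792) q9886, e3 q9616 L172243 q8859, e3 q9617 (flp_d L178030) q10229, e3 q9618 L178492 q10277, e3 q9619 (flp_d L178461) q10273, e3 q9620 L178514 q10279, e3 q9621 (flp_d L172281) q8860, e3 q9622 (flp_d L178528) q10281, e3 q9623 L172293 q9182, e3 q9624 L172301 q8868, e3 q9625 (flp_d L178101) q10236, e3 q9626 L178556 q10286, e3 q9627 L178562 q10287, e3 q9628 (flp_d L172323) q8867, e3 q9629 L178576 q10290, e3 q9630 (flp_d L172335) q8869, e3 q9631 L172341 q8874, e3 q9632 L172345 q8871, e3 q9633 (flp_d L178602)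 q10295, e3 q9634 (flp_d L178584) q10291, e3 q9635 (flp_d L178592) q10293, e3 q9636 L172372 q8878, e3 q9637 L178645 q10300, e3 q9638 (flp_d L172385) q8877, e3 q9639 (flp_d L172392) q8879, e3 q9640 L172407 q8882, e3 q9641 (flp_d L178671) q10302, e3 q9642 L172427 q9642, e3 q9643 (flp_d L178684) q10304, e3 q9644 (flp_d L176212) q10043, e3 q9645 L178716 q10307, e3 q9646 L178727 q10308, e3 q9647 (flp_d L172456) q8886, e3 q9648 (flp_d L172463) q8887, e3 q9649 (flp_d L178570) q10288, e3 q9650 (flp_d L173136) q9708, e3 q9651 (flp_d L172478) q8889, e3 q9652 L172493 q8893, e3 q9653 L172497 q8894, e3 q9654 L172506 q9427, e3 q9655 (flp_d L178771) q10314, e3 q9656 (flp_d L178784) q10315, e3 q9657 L172543 q9067, e3 q9658 (flp_d L177733) q10202, e3 q9659 (flp_d L172559) q8899, e3 q9660 L172586 q8937, e3 q9661 L172590 q9073, e3 q9662 (flp_d L172597) q8907, e3 q9663 L172625 q8911, trivial⟩ (by decide +kernel)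

theorem ce_d_151 : ∀ r, r < 64 → sm gd (Qf (9664 + r)) = Qf (tab Gen.d (9664 + r)) :=
  edges_tab (sm gd) Qf (tab Gen.d) 9664 [(9664, 9371), (9665, 9370), (9666, 10322), (9667, 10198), (9668, 8913), (9669, 10325), (9670, 8915), (9671, 10280), (9672, 8917), (9673, 8920), (9674, 9225), (9675, 8921), (9676, 10320), (9677, 10319), (9678, 9678), (9679, 9111), (9680, 10124), (9681, 8944), (9682, 9107), (9683, 9824), (9684, 9206), (9685, 9444), (9686, 8951), (9687, 9268), (9688, 10332), (9689, 8955), (9690, 10334), (9691, 8957), (9692, 10336), (9693, 8959), (9694, 10339), (9695, 8961), (9696, 10340), (9697, 8964), (9698, 8966), (9699, 10337), (9700, 9540), (9701, 9541), (9702, 10344), (9703, 8989), (9704, 9105), (9705, 8991), (9706, 9214), (9707, 10348), (9708, 9650), (9709, 9841), (9710, 8993), (9711, 9714), (9712, 10067), (9713, 10353), (9714, 9711), (9715, 8985), (9716, 9845), (9717, 10357), (9718, 8986), (9719, 10359), (9720, 8988), (9721, 10361), (9722, 10362), (9723, 8992), (9724, 10364),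 (9725, 8995), (9726, 10366), (9727, 8996)]
    ⟨e3 q9664 L172639 q9371, e3 q9665 L172655 q9370, e3 q9666 (flp_d L178871) q10322, e3 q9667 (flp_d L177680) q10198, e3 q9668 (flp_d L172681) q8913, e3 q9669 L178909 q10325, e3 q9670 (flp_d L172706) q8915, e3 q9671 (flp_d L178522) q10280, e3 q9672 (flp_d L172716) q8917, e3 q9673 L172742 q8920, e3 q9674 L172757 q9225, e3 q9675 L172763 q8921, e3 q9676 (flp_d L178843) q10320, e3 q9677 (flp_d L178828) q10319, e3 q9678 L172794 q9678, e3 q9679 L172814 q9111, e3 q9680 (flp_d L176843) q10124, e3 q9681 (flp_d L172825) q8944, e3 q9682 L172838 q9107, e3 q9683 (flp_d L174233) q9824, e3 q9684 L172863 q9206, e3 q9685 (flp_d L172878) q9444, e3 q9686 (flp_d L172880) q8951, e3 q9687 L172902 q9268, e3 q9688 L178993 q10332, e3 q9689 (flp_d L172918) q8955, e3 q9690 L179019 q10334, e3 q9691 (flp_d L172942) q8957, e3 q9692 L179043 q10336, e3 q9693 (flp_d L172964) q8959, e3 q9694 L179069 q10339, e3 q9695 (flp_d L172984) q8961, e3 q9696 (flp_d L179091) q10340, e3 q9697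 (flp_d L173002) q8964, e3 q9698 (flp_d L173016) q8966, e3 q9699 (flp_d L179061) q10337, e3 q9700 L173049 q9540, e3 q9701 L173062 q9541, e3 q9702 L179129 q10344, e3 q9703 L173081 q8989, e3 q9704 L173092 q9105, e3 q9705 L173103 q8991, e3 q9706 L173113 q9214, e3 q9707 L179171 q10348, e3 q9708 L173136 q9650, e3 q9709 (flp_d L174419) q9841, e3 q9710 L173158 q8993, e3 q9711 (flp_d L173199) q9714, e3 q9712 (flp_d L176402) q10067, e3 q9713 L179223 q10353, e3 q9714 L173199 q9711, e3 q9715 L173207 q8985, e3 q9716 (flp_d L174449) q9845, e3 q9717 L179263 q10357, e3 q9718 (flp_d L173229) q8986, e3 q9719 L179273 q10359, e3 q9720 (flp_d L173242) q8988, e3 q9721 L179292 q10361, e3 q9722 L179302 q10362, e3 q9723 (flp_d L173277) q8992, e3 q9724 L179324 q10364, e3 q9725 L173305 q8995, e3 q9726 L179342 q10366, e3 q9727 (flp_d L173321) q8996, trivial⟩ (by decide +kernel)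

theorem ce_d_152 : ∀ r, r < 64 → sm gd (Qf (9728 + r)) = Qf (tab Gen.d (9728 + r)) :=
  edges_tab (sm gd) Qf (tab Gen.d) 9728 [(9728, 9754), (9729, 9029), (9730, 9000), (9731, 9031), (9732, 10373), (9733, 10374), (9734, 9001), (9735, 10375), (9736, 9005), (9737, 10378), (9738, 9006), (9739, 9007), (9740, 9009), (9741, 10382), (9742, 9010), (9743, 9014), (9744, 9322), (9745, 10387), (9746, 10388), (9747, 9015), (9748, 10389), (9749, 9840), (9750, 9019), (9751, 10393), (9752, 9020), (9753, 9499), (9754, 9728), (9755, 9024), (9756, 10214), (9757, 10400), (9758, 10401), (9759, 9025), (9760, 9072), (9761, 10403), (9762, 10117), (9763, 9033), (9764, 10370), (9765, 10409), (9766, 10410), (9767, 9032), (9768, 10413), (9769, 9034), (9770, 9039), (9771, 9036), (9772, 10417), (9773, 10414), (9774, 9774), (9775, 9046), (9776, 9304), (9777, 9320), (9778, 9321), (9779, 9823), (9780, 10422), (9781, 10329), (9782, 9050), (9783, 9051), (9784, 10411), (9785, 10049), (9786, 9053), (9787, 9057), (9788, 9113),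 (9789, 9058), (9790, 9060), (9791, 10367)]
    ⟨e3 q9728 (flp_d L173606) q9754, e3 q9729 L173353 q9029, e3 q9730 L173361 q9000, e3 q9731 L173371 q9031, e3 q9732 L179410 q10373, e3 q9733 L179420 q10374, e3 q9734 (flp_d L173393) q9001, e3 q9735 (flp_d L179440) q10375, e3 q9736 L173414 q9005, e3 q9737 L179455 q10378, e3 q9738 (flp_d L173426) q9006, e3 q9739 (flp_d L173434) q9007, e3 q9740 L173452 q9009, e3 q9741 L179483 q10382, e3 q9742 (flp_d L173470) q9010, e3 q9743 L173484 q9014, e3 q9744 L173494 q9322, e3 q9745 L179527 q10387, e3 q9746 L179537 q10388, e3 q9747 (flp_d L173516) q9015, e3 q9748 (flp_d L179557) q10389, e3 q9749 (flp_d L174399) q9840, e3 q9750 L173552 q9019, e3 q9751 L179587 q10393, e3 q9752 (flp_d L173570) q9020, e3 q9753 L173587 q9499, e3 q9754 L173606 q9728, e3 q9755 L173613 q9024, e3 q9756 (flp_d L177880) q10214, e3 q9757 L179657 q10400, e3 q9758 L179663 q10401, e3 q9759 (flp_d L173635) q9025, e3 q9760 L173641 q9072, e3 q9761 (flp_d L179681) q10403, e3 q9762 (flp_d L176764)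 q10117, e3 q9763 L173661 q9033, e3 q9764 (flp_d L179384) q10370, e3 q9765 L179723 q10409, e3 q9766 L179731 q10410, e3 q9767 (flp_d L173693) q9032, e3 q9768 L179755 q10413, e3 q9769 (flp_d L173707) q9034, e3 q9770 L173721 q9039, e3 q9771 L173729 q9036, e3 q9772 (flp_d L179795) q10417, e3 q9773 (flp_d L179769) q10414, e3 q9774 L173752 q9774, e3 q9775 L173762 q9046, e3 q9776 L173775 q9304, e3 q9777 L173790 q9320, e3 q9778 L173799 q9321, e3 q9779 (flp_d L174222) q9823, e3 q9780 L179842 q10422, e3 q9781 (flp_d L178964) q10329, e3 q9782 (flp_d L173832) q9050, e3 q9783 (flp_d L173843) q9051, e3 q9784 (flp_d L179745) q10411, e3 q9785 (flp_d L176264) q10049, e3 q9786 (flp_d L173875) q9053, e3 q9787 L173898 q9057, e3 q9788 L173914 q9113, e3 q9789 (flp_d L173918) q9058, e3 q9790 (flp_d L173929) q9060, e3 q9791 (flp_d L179356) q10367, trivial⟩ (by decide +kernel)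

theorem ce_d_153 : ∀ r, r < 64 → sm gd (Qf (9792 + r)) = Qf (tab Gen.d (9792 + r)) :=
  edges_tab (sm gd) Qf (tab Gen.d) 9792 [(9792, 9064), (9793, 10383), (9794, 10317), (9795, 9068), (9796, 10394), (9797, 9070), (9798, 10402), (9799, 10433), (9800, 10434), (9801, 9078), (9802, 10436), (9803, 10437), (9804, 9083), (9805, 9084), (9806, 9085), (9807, 10335), (9808, 10333), (9809, 9091), (9810, 9462), (9811, 10445), (9812, 10446), (9813, 9092), (9814, 10448), (9815, 9401), (9816, 9460), (9817, 10452), (9818, 10453), (9819, 9098), (9820, 9099), (9821, 9101), (9822, 10456), (9823, 9779), (9824, 9683), (9825, 9108), (9826, 10447), (9827, 9835), (9828, 10460), (9829, 9114), (9830, 9115), (9831, 9116), (9832, 10463), (9833, 10465), (9834, 9119), (9835, 9827), (9836, 9120), (9837, 10466), (9838, 10470), (9839, 9121), (9840, 9749), (9841, 9709), (9842, 9126), (9843, 10065), (9844, 10476), (9845, 9716), (9846, 10478), (9847, 9127), (9848, 10480), (9849, 10482), (9850, 9130), (9851, 10479), (9852,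 9159), (9853, 10416), (9854, 9167), (9855, 9136)]
    ⟨e3 q9792 (flp_d L173945) q9064, e3 q9793 (flp_d L179499) q10383, e3 q9794 (flp_d L178799) q10317, e3 q9795 (flp_d L173976) q9068, e3 q9796 (flp_d L179603) q10394, e3 q9797 (flp_d L173995) q9070, e3 q9798 (flp_d L179675) q10402, e3 q9799 L179971 q10433, e3 q9800 L179973 q10434, e3 q9801 (flp_d L174030) q9078, e3 q9802 L179990 q10436, e3 q9803 L180000 q10437, e3 q9804 (flp_d L174056) q9083, e3 q9805 (flp_d L174066) q9084, e3 q9806 (flp_d L174080) q9085, e3 q9807 (flp_d L179041) q10335, e3 q9808 (flp_d L179017) q10333, e3 q9809 L174107 q9091, e3 q9810 L174118 q9462, e3 q9811 L180074 q10445, e3 q9812 L180080 q10446, e3 q9813 (flp_d L174143) q9092, e3 q9814 (flp_d L180094) q10448, e3 q9815 L174157 q9401, e3 q9816 L174171 q9460, e3 q9817 L180126 q10452, e3 q9818 L180132 q10453, e3 q9819 (flp_d L174195) q9098, e3 q9820 (flp_d L174199) q9099, e3 q9821 L174205 q9101, e3 q9822 (flp_d L180154) q10456, e3 q9823 L174222 q9779, e3 q9824 L174233 q9683,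 e3 q9825 (flp_d L174237) q9108, e3 q9826 (flp_d L180088) q10447, e3 q9827 (flp_d L174346) q9835, e3 q9828 L180183 q10460, e3 q9829 (flp_d L174271) q9114, e3 q9830 (flp_d L174279) q9115, e3 q9831 (flp_d L174293) q9116, e3 q9832 (flp_d L180214) q10463, e3 q9833 L180232 q10465, e3 q9834 L174327 q9119, e3 q9835 L174346 q9827, e3 q9836 L174353 q9120, e3 q9837 (flp_d L180249) q10466, e3 q9838 L180291 q10470, e3 q9839 (flp_d L174381) q9121, e3 q9840 L174399 q9749, e3 q9841 L174419 q9709, e3 q9842 L174425 q9126, e3 q9843 (flp_d L176387) q10065, e3 q9844 L180355 q10476, e3 q9845 L174449 q9716, e3 q9846 L180369 q10478, e3 q9847 (flp_d L174461) q9127, e3 q9848 (flp_d L180379) q10480, e3 q9849 L180385 q10482, e3 q9850 (flp_d L174473) q9130, e3 q9851 (flp_d L180375) q10479, e3 q9852 L174493 q9159, e3 q9853 (flp_d L179789) q10416, e3 q9854 L174516 q9167, e3 q9855 L174523 q9136, trivial⟩ (by decide +kernel)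

theorem ce_d_154 : ∀ r, r < 64 → sm gd (Qf (9856 + r)) = Qf (tab Gen.d (9856 + r)) :=
  edges_tab (sm gd) Qf (tab Gen.d) 9856 [(9856, 10489), (9857, 9137), (9858, 9887), (9859, 9174), (9860, 9141), (9861, 9176), (9862, 10495), (9863, 10496), (9864, 9142), (9865, 10498), (9866, 10234), (9867, 9150), (9868, 9184), (9869, 10503), (9870, 10504), (9871, 9149), (9872, 10506), (9873, 9151), (9874, 9153), (9875, 10508), (9876, 10267), (9877, 9161), (9878, 10207), (9879, 10513), (9880, 10514), (9881, 9160), (9882, 10516), (9883, 9162), (9884, 9164), (9885, 10518), (9886, 9615), (9887, 9858), (9888, 9169), (9889, 10487), (9890, 10524), (9891, 10525), (9892, 9170), (9893, 10527), (9894, 10272), (9895, 9178), (9896, 10492), (9897, 10532), (9898, 10533), (9899, 9177), (9900, 10536), (9901, 9179), (9902, 9224), (9903, 9181), (9904, 10541), (9905, 10543), (9906, 10544), (9907, 10545), (9908, 9185), (9909, 9186), (9910, 9209), (9911, 10090), (9912, 9188), (9913, 9193), (9914, 10292), (9915, 9194), (9916,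 10363), (9917, 9192), (9918, 10558), (9919, 10559)]
    ⟨e3 q9856 L180439 q10489, e3 q9857 (flp_d L174539) q9137, e3 q9858 (flp_d L174812) q9887, e3 q9859 L174571 q9174, e3 q9860 L174578 q9141, e3 q9861 L174587 q9176, e3 q9862 L180497 q10495, e3 q9863 L180505 q10496, e3 q9864 (flp_d L174608) q9142, e3 q9865 (flp_d L180529) q10498, e3 q9866 (flp_d L178081) q10234, e3 q9867 L174636 q9150, e3 q9868 L174646 q9184, e3 q9869 L180569 q10503, e3 q9870 L180575 q10504, e3 q9871 (flp_d L174666) q9149, e3 q9872 L180585 q10506, e3 q9873 (flp_d L174678) q9151, e3 q9874 L174688 q9153, e3 q9875 (flp_d L180597) q10508, e3 q9876 (flp_d L178402) q10267, e3 q9877 L174710 q9161, e3 q9878 (flp_d L177802) q10207, e3 q9879 L180645 q10513, e3 q9880 L180653 q10514, e3 q9881 (flp_d L174748) q9160, e3 q9882 L180669 q10516, e3 q9883 (flp_d L174766) q9162, e3 q9884 L174778 q9164, e3 q9885 (flp_d L180685) q10518, e3 q9886 L174792 q9615, e3 q9887 L174812 q9858, e3 q9888 L174820 q9169, e3 q9889 (flp_d L180426) q10487, e3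 q9890 L180743 q10524, e3 q9891 L180751 q10525, e3 q9892 (flp_d L174852) q9170, e3 q9893 (flp_d L180771) q10527, e3 q9894 (flp_d L178448) q10272, e3 q9895 L174882 q9178, e3 q9896 (flp_d L180473) q10492, e3 q9897 L180815 q10532, e3 q9898 L180823 q10533, e3 q9899 (flp_d L174920) q9177, e3 q9900 L180849 q10536, e3 q9901 (flp_d L174938) q9179, e3 q9902 L174948 q9224, e3 q9903 L174956 q9181, e3 q9904 (flp_d L180885) q10541, e3 q9905 L180895 q10543, e3 q9906 L180897 q10544, e3 q9907 L180905 q10545, e3 q9908 (flp_d L174990) q9185, e3 q9909 (flp_d L174996) q9186, e3 q9910 L175004 q9209, e3 q9911 (flp_d L176561) q10090, e3 q9912 (flp_d L175010) q9188, e3 q9913 L175018 q9193, e3 q9914 (flp_d L178588) q10292, e3 q9915 L175024 q9194, e3 q9916 (flp_d L179322) q10363, e3 q9917 L175032 q9192, e3 q9918 (flp_d L180977) q10558, e3 q9919 L180979 q10559, trivial⟩ (by decide +kernel)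

theorem ce_d_155 : ∀ r, r < 64 → sm gd (Qf (9920 + r)) = Qf (tab Gen.d (9920 + r)) :=
  edges_tab (sm gd) Qf (tab Gen.d) 9920 [(9920, 10560), (9921, 10561), (9922, 9198), (9923, 9199), (9924, 9972), (9925, 9201), (9926, 9926), (9927, 9204), (9928, 9205), (9929, 10546), (9930, 10548), (9931, 10108), (9932, 10550), (9933, 10565), (9934, 10032), (9935, 9216), (9936, 9217), (9937, 10497), (9938, 9377), (9939, 9220), (9940, 10526), (9941, 10537), (9942, 10327), (9943, 10539), (9944, 9443), (9945, 9231), (9946, 9438), (9947, 9947), (9948, 10311), (9949, 9949), (9950, 9239), (9951, 9980), (9952, 9245), (9953, 9243), (9954, 10127), (9955, 10330), (9956, 10573), (9957, 9957), (9958, 9252), (9959, 9959), (9960, 10579), (9961, 10580), (9962, 9251), (9963, 10582), (9964, 9253), (9965, 9293), (9966, 10585), (9967, 10586), (9968, 10331), (9969, 9258), (9970, 9259), (9971, 10534), (9972, 9924), (9973, 9261), (9974, 9294), (9975, 9296), (9976, 9993), (9977, 9265), (9978, 9266), (9979, 9267), (9980, 9951),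 (9981, 9290), (9982, 10121), (9983, 9983)]
    ⟨e3 q9920 L180988 q10560, e3 q9921 L181004 q10561, e3 q9922 (flp_d L175070) q9198, e3 q9923 (flp_d L175080) q9199, e3 q9924 (flp_d L175582) q9972, e3 q9925 (flp_d L175104) q9201, e3 q9926 L175128 q9926, e3 q9927 (flp_d L175131) q9204, e3 q9928 (flp_d L175143) q9205, e3 q9929 (flp_d L180919) q10546, e3 q9930 (flp_d L180931) q10548, e3 q9931 (flp_d L176676) q10108, e3 q9932 (flp_d L180939) q10550, e3 q9933 L181062 q10565, e3 q9934 (flp_d L176127) q10032, e3 q9935 (flp_d L175209) q9216, e3 q9936 (flp_d L175220) q9217, e3 q9937 (flp_d L180519) q10497, e3 q9938 L175247 q9377, e3 q9939 (flp_d L175251) q9220, e3 q9940 (flp_d L180763) q10526, e3 q9941 (flp_d L180861) q10537, e3 q9942 (flp_d L178940) q10327, e3 q9943 (flp_d L180869) q10539, e3 q9944 L175300 q9443, e3 q9945 (flp_d L175304) q9231, e3 q9946 L175328 q9438, e3 q9947 L175335 q9947, e3 q9948 (flp_d L178756) q10311, e3 q9949 L175359 q9949, e3 q9950 (flp_d L175366) q9239, e3 q9951 (flp_d L175658)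 q9980, e3 q9952 L175396 q9245, e3 q9953 (flp_d L175398) q9243, e3 q9954 (flp_d L176870) q10127, e3 q9955 (flp_d L178978) q10330, e3 q9956 (flp_d L181134) q10573, e3 q9957 L175434 q9957, e3 q9958 L175444 q9252, e3 q9959 L175455 q9959, e3 q9960 L181189 q10579, e3 q9961 L181200 q10580, e3 q9962 (flp_d L175480) q9251, e3 q9963 L181218 q10582, e3 q9964 (flp_d L175502) q9253, e3 q9965 L175517 q9293, e3 q9966 L181245 q10585, e3 q9967 L181256 q10586, e3 q9968 (flp_d L178984) q10331, e3 q9969 (flp_d L175549) q9258, e3 q9970 (flp_d L175559) q9259, e3 q9971 (flp_d L180837) q10534, e3 q9972 L175582 q9924, e3 q9973 (flp_d L175584) q9261, e3 q9974 L175598 q9294, e3 q9975 L175602 q9296, e3 q9976 (flp_d L175792) q9993, e3 q9977 L175620 q9265, e3 q9978 (flp_d L175625) q9266, e3 q9979 (flp_d L175635) q9267, e3 q9980 L175658 q9951, e3 q9981 L175662 q9290, e3 q9982 (flp_d L176814) q10121, e3 q9983 L175688 q9983, trivial⟩ (by decide +kernel)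

theorem ce_d_156 : ∀ r, r < 64 → sm gd (Qf (9984 + r)) = Qf (tab Gen.d (9984 + r)) :=
  edges_tab (sm gd) Qf (tab Gen.d) 9984 [(9984, 9277), (9985, 9278), (9986, 9279), (9987, 9442), (9988, 10123), (9989, 9446), (9990, 10583), (9991, 10584), (9992, 9297), (9993, 9976), (9994, 9303), (9995, 9510), (9996, 10053), (9997, 9997), (9998, 9998), (9999, 10601), (10000, 10602), (10001, 9312), (10002, 9313), (10003, 9316), (10004, 10604), (10005, 10005), (10006, 10606), (10007, 10610), (10008, 10420), (10009, 10421), (10010, 10010), (10011, 10011), (10012, 10012), (10013, 10016), (10014, 10613), (10015, 9333), (10016, 10013), (10017, 10616), (10018, 9334), (10019, 10618), (10020, 9336), (10021, 9337), (10022, 9350), (10023, 10623), (10024, 9340), (10025, 10625), (10026, 10624), (10027, 10135), (10028, 10629), (10029, 9345), (10030, 9373), (10031, 10631), (10032, 9934), (10033, 10132), (10034, 10636), (10035, 10637), (10036, 9351), (10037, 9352), (10038, 9356), (10039, 9354), (10040, 10644), (10041,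 10640), (10042, 10642), (10043, 9644), (10044, 10647), (10045, 10648), (10046, 9360), (10047, 9361)]
    ⟨e3 q9984 (flp_d L175689) q9277, e3 q9985 (flp_d L175699) q9278, e3 q9986 (flp_d L175714) q9279, e3 q9987 L175734 q9442, e3 q9988 (flp_d L176829) q10123, e3 q9989 L175753 q9446, e3 q9990 (flp_d L181235) q10583, e3 q9991 (flp_d L181239) q10584, e3 q9992 (flp_d L175775) q9297, e3 q9993 L175792 q9976, e3 q9994 L175800 q9303, e3 q9995 L175821 q9510, e3 q9996 (flp_d L176304) q10053, e3 q9997 L175839 q9997, e3 q9998 L175851 q9998, e3 q9999 L181407 q10601, e3 q10000 L181418 q10602, e3 q10001 (flp_d L175874) q9312, e3 q10002 (flp_d L175883) q9313, e3 q10003 L175900 q9316, e3 q10004 (flp_d L181445) q10604, e3 q10005 L175912 q10005, e3 q10006 (flp_d L181460) q10606, e3 q10007 L181493 q10610, e3 q10008 (flp_d L179823) q10420, e3 q10009 (flp_d L179838) q10421, e3 q10010 L175953 q10010, e3 q10011 L175963 q10011, e3 q10012 L175973 q10012, e3 q10013 (flp_d L176011) q10016, e3 q10014 L181521 q10613,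 e3 q10015 L175997 q9333, e3 q10016 L176011 q10013, e3 q10017 L181552 q10616, e3 q10018 (flp_d L176027) q9334, e3 q10019 L181566 q10618, e3 q10020 (flp_d L176046) q9336, e3 q10021 (flp_d L176054) q9337, e3 q10022 L176065 q9350, e3 q10023 L181602 q10623, e3 q10024 (flp_d L176072) q9340, e3 q10025 (flp_d L181622) q10625, e3 q10026 (flp_d L181614) q10624, e3 q10027 (flp_d L176952) q10135, e3 q10028 L181646 q10629, e3 q10029 (flp_d L176105) q9345, e3 q10030 L176113 q9373, e3 q10031 (flp_d L181660) q10631, e3 q10032 L176127 q9934, e3 q10033 (flp_d L176914) q10132, e3 q10034 L181694 q10636, e3 q10035 L181702 q10637, e3 q10036 (flp_d L176159) q9351, e3 q10037 (flp_d L176165) q9352, e3 q10038 L176175 q9356, e3 q10039 L176181 q9354, e3 q10040 (flp_d L181750) q10644, e3 q10041 (flp_d L181730) q10640, e3 q10042 (flp_d L181738) q10642, e3 q10043 L176212 q9644, e3 q10044 L181768 q10647, e3 q10045 L181779 q10648, e3 q10046 (flp_d L176230) q9360, e3 q10047 (flp_d L176241) q9361, trivial⟩ (by decide +kernel)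

theorem ce_d_157 : ∀ r, r < 64 → sm gd (Qf (10048 + r)) = Qf (tab Gen.d (10048 + r)) :=
  edges_tab (sm gd) Qf (tab Gen.d) 10048 [(10048, 10638), (10049, 9785), (10050, 9363), (10051, 9367), (10052, 9368), (10053, 9996), (10054, 10654), (10055, 10620), (10056, 10264), (10057, 10323), (10058, 10630), (10059, 9374), (10060, 10659), (10061, 10568), (10062, 9378), (10063, 9380), (10064, 9385), (10065, 9843), (10066, 10663), (10067, 9712), (10068, 10665), (10069, 9386), (10070, 10667), (10071, 10669), (10072, 9389), (10073, 10666), (10074, 9480), (10075, 9403), (10076, 10675), (10077, 10676), (10078, 9395), (10079, 9396), (10080, 9400), (10081, 9398), (10082, 10682), (10083, 10679), (10084, 10684), (10085, 10685), (10086, 10686), (10087, 9404), (10088, 9405), (10089, 9421), (10090, 9911), (10091, 9407), (10092, 9413), (10093, 10455), (10094, 9415), (10095, 10294), (10096, 9411), (10097, 10702), (10098, 10694), (10099, 10696), (10100, 10703), (10101, 10699), (10102, 9416), (10103, 9417), (10104,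 9418), (10105, 10687), (10106, 9513), (10107, 10689), (10108, 9931), (10109, 10691), (10110, 10714), (10111, 9428)]
    ⟨e3 q10048 (flp_d L181714) q10638, e3 q10049 L176264 q9785, e3 q10050 (flp_d L176268) q9363, e3 q10051 L176287 q9367, e3 q10052 L176291 q9368, e3 q10053 L176304 q9996, e3 q10054 (flp_d L181842) q10654, e3 q10055 (flp_d L181587) q10620, e3 q10056 (flp_d L178368) q10264, e3 q10057 (flp_d L178886) q10323, e3 q10058 (flp_d L181654) q10630, e3 q10059 L176342 q9374, e3 q10060 L181878 q10659, e3 q10061 (flp_d L181093) q10568, e3 q10062 L176360 q9378, e3 q10063 (flp_d L176363) q9380, e3 q10064 L176376 q9385, e3 q10065 L176387 q9843, e3 q10066 L181905 q10663, e3 q10067 L176402 q9712, e3 q10068 L181921 q10665, e3 q10069 (flp_d L176420) q9386, e3 q10070 (flp_d L181939) q10667, e3 q10071 L181947 q10669, e3 q10072 (flp_d L176440) q9389, e3 q10073 (flp_d L181933) q10666, e3 q10074 L176461 q9480, e3 q10075 L176472 q9403, e3 q10076 L182001 q10675, e3 q10077 L182007 q10676, e3 q10078 (flp_d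 L176486) q9395, e3 q10079 (flp_d L176490) q9396, e3 q10080 L176500 q9400, e3 q10081 L176506 q9398, e3 q10082 (flp_d L182042) q10682, e3 q10083 (flp_d L182028) q10679, e3 q10084 L182050 q10684, e3 q10085 L182054 q10685, e3 q10086 L182060 q10686, e3 q10087 (flp_d L176541) q9404, e3 q10088 (flp_d L176547) q9405, e3 q10089 L176555 q9421, e3 q10090 L176561 q9911, e3 q10091 (flp_d L176563) q9407, e3 q10092 L176571 q9413, e3 q10093 (flp_d L180150) q10455, e3 q10094 L176577 q9415, e3 q10095 (flp_d L178598) q10294, e3 q10096 L176585 q9411, e3 q10097 (flp_d L182146) q10702, e3 q10098 (flp_d L182112) q10694, e3 q10099 (flp_d L182120) q10696, e3 q10100 L182148 q10703, e3 q10101 (flp_d L182134) q10699, e3 q10102 (flp_d L176617) q9416, e3 q10103 (flp_d L176629) q9417, e3 q10104 (flp_d L176637) q9418, e3 q10105 (flp_d L182072) q10687, e3 q10106 L176660 q9513, e3 q10107 (flp_d L182082) q10689, e3 q10108 L176676 q9931, e3 q10109 (flp_d L182092) q10691, e3 q10110 L182240 q10714, e3 q10111 L176697 q9428, trivial⟩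 (by decide +kernel)

theorem ce_d_158 : ∀ r, r < 64 → sm gd (Qf (10112 + r)) = Qf (tab Gen.d (10112 + r)) :=
  edges_tab (sm gd) Qf (tab Gen.d) 10112 [(10112, 9429), (10113, 9517), (10114, 9431), (10115, 10316), (10116, 9430), (10117, 9762), (10118, 9530), (10119, 9436), (10120, 9447), (10121, 9982), (10122, 10571), (10123, 9988), (10124, 9680), (10125, 10188), (10126, 10218), (10127, 9954), (10128, 10299), (10129, 10717), (10130, 10130), (10131, 9467), (10132, 10033), (10133, 10725), (10134, 9456), (10135, 10027), (10136, 10728), (10137, 9457), (10138, 10730), (10139, 9459), (10140, 10732), (10141, 10733), (10142, 9464), (10143, 10735), (10144, 9465), (10145, 9466), (10146, 10738), (10147, 9469), (10148, 10740), (10149, 9470), (10150, 9474), (10151, 9501), (10152, 10745), (10153, 10746), (10154, 9475), (10155, 10748), (10156, 9477), (10157, 10747), (10158, 10752), (10159, 10753), (10160, 9481), (10161, 9482), (10162, 10756), (10163, 9484), (10164, 9485), (10165, 10760), (10166, 10759),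 (10167, 9489), (10168, 10763), (10169, 9490), (10170, 9494), (10171, 10767), (10172, 10768), (10173, 9495), (10174, 9535), (10175, 10769)]
    ⟨e3 q10112 L176701 q9429, e3 q10113 (flp_d L176723) q9517, e3 q10114 L176729 q9431, e3 q10115 (flp_d L178795) q10316, e3 q10116 (flp_d L176739) q9430, e3 q10117 L176764 q9762, e3 q10118 L176778 q9530, e3 q10119 (flp_d L176782) q9436, e3 q10120 L176800 q9447, e3 q10121 L176814 q9982, e3 q10122 (flp_d L181117) q10571, e3 q10123 L176829 q9988, e3 q10124 L176843 q9680, e3 q10125 (flp_d L177569) q10188, e3 q10126 L177916 q10218, e3 q10127 L176870 q9954, e3 q10128 (flp_d L178643) q10299, e3 q10129 (flp_d L182269) q10717, e3 q10130 L176891 q10130, e3 q10131 L176899 q9467, e3 q10132 L176914 q10033, e3 q10133 L182359 q10725, e3 q10134 L176936 q9456, e3 q10135 L176952 q10027, e3 q10136 L182396 q10728, e3 q10137 (flp_d L176970) q9457, e3 q10138 L182412 q10730, e3 q10139 (flp_d L176991) q9459, e3 q10140 L182435 q10732, e3 q10141 L182449 q10733, e3 q10142 L177042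 q9464, e3 q10143 L182476 q10735, e3 q10144 (flp_d L177066) q9465, e3 q10145 (flp_d L177076) q9466, e3 q10146 L182513 q10738, e3 q10147 L177115 q9469, e3 q10148 L182541 q10740, e3 q10149 (flp_d L177139) q9470, e3 q10150 L177154 q9474, e3 q10151 L177167 q9501, e3 q10152 L182595 q10745, e3 q10153 L182601 q10746, e3 q10154 (flp_d L177194) q9475, e3 q10155 (flp_d L182627) q10748, e3 q10156 (flp_d L177208) q9477, e3 q10157 (flp_d L182619) q10747, e3 q10158 L182669 q10752, e3 q10159 L182683 q10753, e3 q10160 (flp_d L177264) q9481, e3 q10161 (flp_d L177274) q9482, e3 q10162 L182718 q10756, e3 q10163 (flp_d L177305) q9484, e3 q10164 (flp_d L177311) q9485, e3 q10165 (flp_d L182770) q10760, e3 q10166 (flp_d L182760) q10759, e3 q10167 L177351 q9489, e3 q10168 L182794 q10763, e3 q10169 (flp_d L177375) q9490, e3 q10170 L177391 q9494, e3 q10171 L182838 q10767, e3 q10172 L182848 q10768, e3 q10173 (flp_d L177421) q9495, e3 q10174 L177435 q9535, e3 q10175 (flp_d L182870) q10769, trivial⟩ (by decide +kernel)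

theorem ce_d_159 : ∀ r, r < 64 → sm gd (Qf (10176 + r)) = Qf (tab Gen.d (10176 + r)) :=
  edges_tab (sm gd) Qf (tab Gen.d) 10176 [(10176, 9503), (10177, 10396), (10178, 10774), (10179, 10775), (10180, 9502), (10181, 10778), (10182, 9504), (10183, 9509), (10184, 9506), (10185, 10783), (10186, 10779), (10187, 10781), (10188, 10125), (10189, 10707), (10190, 9514), (10191, 10776), (10192, 9518), (10193, 10788), (10194, 9519), (10195, 9522), (10196, 10741), (10197, 9586), (10198, 9667), (10199, 10757), (10200, 10764), (10201, 10792), (10202, 9658), (10203, 9542), (10204, 10794), (10205, 10795), (10206, 9548), (10207, 9878), (10208, 10798), (10209, 9552), (10210, 10800), (10211, 9553), (10212, 9557), (10213, 10803), (10214, 9756), (10215, 10805), (10216, 9558), (10217, 10807), (10218, 10126), (10219, 9561), (10220, 10806), (10221, 9563), (10222, 9564), (10223, 10814), (10224, 9566), (10225, 10816), (10226, 10815), (10227, 9569), (10228, 9573), (10229, 9617), (10230, 10822), (10231, 10823), (10232,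 9574), (10233, 10825), (10234, 9866), (10235, 9582), (10236, 9625), (10237, 10830), (10238, 10831), (10239, 9581)]
    ⟨e3 q10176 L177449 q9503, e3 q10177 (flp_d L179622) q10396, e3 q10178 L182910 q10774, e3 q10179 L182918 q10775, e3 q10180 (flp_d L177487) q9502, e3 q10181 L182940 q10778, e3 q10182 (flp_d L177509) q9504, e3 q10183 L177519 q9509, e3 q10184 L177525 q9506, e3 q10185 (flp_d L182994) q10783, e3 q10186 (flp_d L182964) q10779, e3 q10187 (flp_d L182974) q10781, e3 q10188 L177569 q10125, e3 q10189 (flp_d L182182) q10707, e3 q10190 (flp_d L177581) q9514, e3 q10191 (flp_d L182932) q10776, e3 q10192 L177602 q9518, e3 q10193 (flp_d L183045) q10788, e3 q10194 (flp_d L177624) q9519, e3 q10195 (flp_d L177639) q9522, e3 q10196 (flp_d L182563) q10741, e3 q10197 L177674 q9586, e3 q10198 L177680 q9667, e3 q10199 (flp_d L182740) q10757, e3 q10200 (flp_d L182816) q10764, e3 q10201 L183099 q10792, e3 q10202 L177733 q9658, e3 q10203 (flp_d L177747) q9542, e3 q10204 L183123 q10794, e3 q10205 L183135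 q10795, e3 q10206 (flp_d L177786) q9548, e3 q10207 L177802 q9878, e3 q10208 L183175 q10798, e3 q10209 L177828 q9552, e3 q10210 L183201 q10800, e3 q10211 (flp_d L177848) q9553, e3 q10212 L177863 q9557, e3 q10213 L183230 q10803, e3 q10214 L177880 q9756, e3 q10215 L183246 q10805, e3 q10216 (flp_d L177898) q9558, e3 q10217 (flp_d L183260) q10807, e3 q10218 (flp_d L177916) q10126, e3 q10219 (flp_d L177918) q9561, e3 q10220 (flp_d L183256) q10806, e3 q10221 (flp_d L177934) q9563, e3 q10222 (flp_d L177946) q9564, e3 q10223 L183331 q10814, e3 q10224 (flp_d L177969) q9566, e3 q10225 (flp_d L183359) q10816, e3 q10226 (flp_d L183349) q10815, e3 q10227 (flp_d L177998) q9569, e3 q10228 L178016 q9573, e3 q10229 L178030 q9617, e3 q10230 L183418 q10822, e3 q10231 L183428 q10823, e3 q10232 (flp_d L178062) q9574, e3 q10233 (flp_d L183462) q10825, e3 q10234 L178081 q9866, e3 q10235 L178092 q9582, e3 q10236 L178101 q9625, e3 q10237 L183501 q10830, e3 q10238 L183507 q10831, e3 q10239 (flp_d L178119) q9581, trivial⟩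 (by decide +kernel)

theorem ce_d_160 : ∀ r, r < 64 → sm gd (Qf (10240 + r)) = Qf (tab Gen.d (10240 + r)) :=
  edges_tab (sm gd) Qf (tab Gen.d) 10240 [(10240, 10834), (10241, 9583), (10242, 9588), (10243, 9585), (10244, 10839), (10245, 10835), (10246, 10837), (10247, 10843), (10248, 9590), (10249, 10845), (10250, 10844), (10251, 9593), (10252, 10848), (10253, 9595), (10254, 10850), (10255, 9600), (10256, 10853), (10257, 9599), (10258, 10856), (10259, 9601), (10260, 9606), (10261, 9603), (10262, 10861), (10263, 10857), (10264, 10056), (10265, 10859), (10266, 9610), (10267, 9876), (10268, 10867), (10269, 10868), (10270, 9611), (10271, 10870), (10272, 9894), (10273, 9619), (10274, 10520), (10275, 10875), (10276, 10876), (10277, 9618), (10278, 10879), (10279, 9620), (10280, 9671), (10281, 9622), (10282, 10884), (10283, 10886), (10284, 10887), (10285, 10888), (10286, 9626), (10287, 9627), (10288, 9649), (10289, 10454), (10290, 9629), (10291, 9634), (10292, 9914), (10293, 9635), (10294, 10095),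 (10295, 9633), (10296, 10903), (10297, 10897), (10298, 10900), (10299, 10128), (10300, 9637), (10301, 10854), (10302, 9641), (10303, 10303)]
    ⟨e3 q10240 L183522 q10834, e3 q10241 (flp_d L178139) q9583, e3 q10242 L178149 q9588, e3 q10243 L178155 q9585, e3 q10244 (flp_d L183566) q10839, e3 q10245 (flp_d L183540) q10835, e3 q10246 (flp_d L183550) q10837, e3 q10247 L183608 q10843, e3 q10248 (flp_d L178192) q9590, e3 q10249 (flp_d L183640) q10845, e3 q10250 (flp_d L183630) q10844, e3 q10251 (flp_d L178223) q9593, e3 q10252 L183664 q10848, e3 q10253 (flp_d L178250) q9595, e3 q10254 (flp_d L183698) q10850, e3 q10255 L178280 q9600, e3 q10256 L183722 q10853, e3 q10257 (flp_d L178296) q9599, e3 q10258 L183746 q10856, e3 q10259 (flp_d L178318) q9601, e3 q10260 L178332 q9606, e3 q10261 L178338 q9603, e3 q10262 (flp_d L183798) q10861, e3 q10263 (flp_d L183770) q10857, e3 q10264 L178368 q10056, e3 q10265 (flp_d L183784) q10859, e3 q10266 L178389 q9610, e3 q10267 L178402 q9876, e3 q10268 L183862 q10867,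 e3 q10269 L183870 q10868, e3 q10270 (flp_d L178431) q9611, e3 q10271 (flp_d L183900) q10870, e3 q10272 L178448 q9894, e3 q10273 L178461 q9619, e3 q10274 (flp_d L180701) q10520, e3 q10275 L183943 q10875, e3 q10276 L183951 q10876, e3 q10277 (flp_d L178492) q9618, e3 q10278 L183968 q10879, e3 q10279 (flp_d L178514) q9620, e3 q10280 L178522 q9671, e3 q10281 L178528 q9622, e3 q10282 (flp_d L184008) q10884, e3 q10283 L184016 q10886, e3 q10284 L184020 q10887, e3 q10285 L184026 q10888, e3 q10286 (flp_d L178556) q9626, e3 q10287 (flp_d L178562) q9627, e3 q10288 L178570 q9649, e3 q10289 (flp_d L180146) q10454, e3 q10290 (flp_d L178576) q9629, e3 q10291 L178584 q9634, e3 q10292 L178588 q9914, e3 q10293 L178592 q9635, e3 q10294 L178598 q10095, e3 q10295 L178602 q9633, e3 q10296 (flp_d L184116) q10903, e3 q10297 (flp_d L184078) q10897, e3 q10298 (flp_d L184098) q10900, e3 q10299 L178643 q10128, e3 q10300 (flp_d L178645) q9637, e3 q10301 (flp_d L183738) q10854, e3 q10302 L178671 q9641, e3 q10303 L178681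 q10303, trivial⟩ (by decide +kernel)

theorem ce_d_161 : ∀ r, r < 64 → sm gd (Qf (10304 + r)) = Qf (tab Gen.d (10304 + r)) :=
  edges_tab (sm gd) Qf (tab Gen.d) 10304 [(10304, 9643), (10305, 10907), (10306, 10909), (10307, 9645), (10308, 9646), (10309, 10889), (10310, 10891), (10311, 9948), (10312, 10893), (10313, 10916), (10314, 9655), (10315, 9656), (10316, 10115), (10317, 9794), (10318, 10824), (10319, 9677), (10320, 9676), (10321, 10849), (10322, 9666), (10323, 10057), (10324, 10869), (10325, 9669), (10326, 10880), (10327, 9942), (10328, 10882), (10329, 9781), (10330, 9955), (10331, 9968), (10332, 9688), (10333, 9808), (10334, 9690), (10335, 9807), (10336, 9692), (10337, 9699), (10338, 10812), (10339, 9694), (10340, 9696), (10341, 10932), (10342, 10924), (10343, 10927), (10344, 9702), (10345, 10935), (10346, 10936), (10347, 10937), (10348, 9707), (10349, 10473), (10350, 10940), (10351, 10354), (10352, 10942), (10353, 9713), (10354, 10351), (10355, 10946), (10356, 10947), (10357, 9717),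 (10358, 10949), (10359, 9719), (10360, 10948), (10361, 9721), (10362, 9722), (10363, 9916), (10364, 9724), (10365, 10960), (10366, 9726), (10367, 9791)]
    ⟨e3 q10304 L178684 q9643, e3 q10305 (flp_d L184146) q10907, e3 q10306 (flp_d L184168) q10909, e3 q10307 (flp_d L178716) q9645, e3 q10308 (flp_d L178727) q9646, e3 q10309 (flp_d L184038) q10889, e3 q10310 (flp_d L184048) q10891, e3 q10311 L178756 q9948, e3 q10312 (flp_d L184056) q10893, e3 q10313 L184226 q10916, e3 q10314 L178771 q9655, e3 q10315 L178784 q9656, e3 q10316 L178795 q10115, e3 q10317 L178799 q9794, e3 q10318 (flp_d L183448) q10824, e3 q10319 L178828 q9677, e3 q10320 L178843 q9676, e3 q10321 (flp_d L183686) q10849, e3 q10322 L178871 q9666, e3 q10323 L178886 q10057, e3 q10324 (flp_d L183890) q10869, e3 q10325 (flp_d L178909) q9669, e3 q10326 (flp_d L183984) q10880, e3 q10327 L178940 q9942, e3 q10328 (flp_d L183994) q10882, e3 q10329 L178964 q9781, e3 q10330 L178978 q9955, e3 q10331 L178984 q9968, e3 q10332 (flp_d L178993) q9688,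 e3 q10333 L179017 q9808, e3 q10334 (flp_d L179019) q9690, e3 q10335 L179041 q9807, e3 q10336 (flp_d L179043) q9692, e3 q10337 L179061 q9699, e3 q10338 (flp_d L183315) q10812, e3 q10339 (flp_d L179069) q9694, e3 q10340 L179091 q9696, e3 q10341 (flp_d L184415) q10932, e3 q10342 (flp_d L184333) q10924, e3 q10343 (flp_d L184369) q10927, e3 q10344 (flp_d L179129) q9702, e3 q10345 L184441 q10935, e3 q10346 L184453 q10936, e3 q10347 L184463 q10937, e3 q10348 (flp_d L179171) q9707, e3 q10349 (flp_d L180331) q10473, e3 q10350 L184498 q10940, e3 q10351 (flp_d L179237) q10354, e3 q10352 L184523 q10942, e3 q10353 (flp_d L179223) q9713, e3 q10354 L179237 q10351, e3 q10355 L184554 q10946, e3 q10356 L184562 q10947, e3 q10357 (flp_d L179263) q9717, e3 q10358 (flp_d L184580) q10949, e3 q10359 (flp_d L179273) q9719, e3 q10360 (flp_d L184574) q10948, e3 q10361 (flp_d L179292) q9721, e3 q10362 (flp_d L179302) q9722, e3 q10363 L179322 q9916, e3 q10364 (flp_d L179324) q9724, e3 q10365 L184676 q10960, e3 q10366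 (flp_d L179342) q9726, e3 q10367 L179356 q9791, trivial⟩ (by decide +kernel)

theorem ce_d_162 : ∀ r, r < 64 → sm gd (Qf (10368 + r)) = Qf (tab Gen.d (10368 + r)) :=
  edges_tab (sm gd) Qf (tab Gen.d) 10368 [(10368, 10961), (10369, 10397), (10370, 9764), (10371, 10966), (10372, 10967), (10373, 9732), (10374, 9733), (10375, 9735), (10376, 10970), (10377, 10972), (10378, 9737), (10379, 10974), (10380, 10973), (10381, 10976), (10382, 9741), (10383, 9793), (10384, 10978), (10385, 10981), (10386, 10982), (10387, 9745), (10388, 9746), (10389, 9748), (10390, 10985), (10391, 10472), (10392, 10988), (10393, 9751), (10394, 9796), (10395, 10990), (10396, 10177), (10397, 10369), (10398, 10995), (10399, 10996), (10400, 9757), (10401, 9758), (10402, 9798), (10403, 9761), (10404, 11003), (10405, 11002), (10406, 11006), (10407, 11007), (10408, 11008), (10409, 9765), (10410, 9766), (10411, 9784), (10412, 10639), (10413, 9768), (10414, 9773), (10415, 10780), (10416, 9853), (10417, 9772), (10418, 11019), (10419,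 11020), (10420, 10008), (10421, 10009), (10422, 9780), (10423, 11009), (10424, 11011), (10425, 10651), (10426, 11022), (10427, 10955), (10428, 10958), (10429, 10977), (10430, 11023), (10431, 10989)]
    ⟨e3 q10368 (flp_d L184696) q10961, e3 q10369 (flp_d L179635) q10397, e3 q10370 L179384 q9764, e3 q10371 L184740 q10966, e3 q10372 L184750 q10967, e3 q10373 (flp_d L179410) q9732, e3 q10374 (flp_d L179420) q9733, e3 q10375 L179440 q9735, e3 q10376 (flp_d L184786) q10970, e3 q10377 L184796 q10972, e3 q10378 (flp_d L179455) q9737, e3 q10379 (flp_d L184814) q10974, e3 q10380 (flp_d L184808) q10973, e3 q10381 L184824 q10976, e3 q10382 (flp_d L179483) q9741, e3 q10383 L179499 q9793, e3 q10384 (flp_d L184856) q10978, e3 q10385 L184872 q10981, e3 q10386 L184882 q10982, e3 q10387 (flp_d L179527) q9745, e3 q10388 (flp_d L179537) q9746, e3 q10389 L179557 q9748, e3 q10390 (flp_d L184918) q10985, e3 q10391 (flp_d L180315) q10472, e3 q10392 L184943 q10988, e3 q10393 (flp_d L179587) q9751, e3 q10394 L179603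 q9796, e3 q10395 (flp_d L184971) q10990, e3 q10396 L179622 q10177, e3 q10397 L179635 q10369, e3 q10398 L185019 q10995, e3 q10399 L185027 q10996, e3 q10400 (flp_d L179657) q9757, e3 q10401 (flp_d L179663) q9758, e3 q10402 L179675 q9798, e3 q10403 L179681 q9761, e3 q10404 L185074 q11003, e3 q10405 (flp_d L185072) q11002, e3 q10406 L185086 q11006, e3 q10407 L185090 q11007, e3 q10408 L185100 q11008, e3 q10409 (flp_d L179723) q9765, e3 q10410 (flp_d L179731) q9766, e3 q10411 L179745 q9784, e3 q10412 (flp_d L181722) q10639, e3 q10413 (flp_d L179755) q9768, e3 q10414 L179769 q9773, e3 q10415 (flp_d L182970) q10780, e3 q10416 L179789 q9853, e3 q10417 L179795 q9772, e3 q10418 (flp_d L185204) q11019, e3 q10419 L185206 q11020, e3 q10420 L179823 q10008, e3 q10421 L179838 q10009, e3 q10422 (flp_d L179842) q9780, e3 q10423 (flp_d L185118) q11009, e3 q10424 (flp_d L185138) q11011, e3 q10425 (flp_d L181818) q10651, e3 q10426 L185234 q11022, e3 q10427 (flp_d L184632) q10955, e3 q10428 (flp_d L184664) q10958,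 e3 q10429 (flp_d L184844) q10977, e3 q10430 L185246 q11023, e3 q10431 (flp_d L184961) q10989, trivial⟩ (by decide +kernel)

theorem ce_d_163 : ∀ r, r < 64 → sm gd (Qf (10432 + r)) = Qf (tab Gen.d (10432 + r)) :=
  edges_tab (sm gd) Qf (tab Gen.d) 10432 [(10432, 10999), (10433, 9799), (10434, 9800), (10435, 11024), (10436, 9802), (10437, 9803), (10438, 11029), (10439, 11028), (10440, 10925), (10441, 10926), (10442, 10923), (10443, 11034), (10444, 11035), (10445, 9811), (10446, 9812), (10447, 9826), (10448, 9814), (10449, 11041), (10450, 11043), (10451, 11044), (10452, 9817), (10453, 9818), (10454, 10289), (10455, 10093), (10456, 9822), (10457, 11049), (10458, 11038), (10459, 10467), (10460, 9828), (10461, 11051), (10462, 11050), (10463, 9832), (10464, 11055), (10465, 9833), (10466, 9837), (10467, 10459), (10468, 11059), (10469, 11060), (10470, 9838), (10471, 11062), (10472, 10391), (10473, 10349), (10474, 11066), (10475, 11067), (10476, 9844), (10477, 11070), (10478, 9846), (10479, 9851),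 (10480, 9848), (10481, 11075), (10482, 9849), (10483, 11071), (10484, 10810), (10485, 11073), (10486, 11018), (10487, 9889), (10488, 11083), (10489, 9856), (10490, 11085), (10491, 10521), (10492, 9896), (10493, 11089), (10494, 11090), (10495, 9862)]
    ⟨e3 q10432 (flp_d L185054) q10999, e3 q10433 (flp_d L179971) q9799, e3 q10434 (flp_d L179973) q9800, e3 q10435 (flp_d L185258) q11024, e3 q10436 (flp_d L179990) q9802, e3 q10437 (flp_d L180000) q9803, e3 q10438 (flp_d L185307) q11029, e3 q10439 (flp_d L185295) q11028, e3 q10440 (flp_d L184345) q10925, e3 q10441 (flp_d L184353) q10926, e3 q10442 (flp_d L184315) q10923, e3 q10443 L185343 q11034, e3 q10444 L185353 q11035, e3 q10445 (flp_d L180074) q9811, e3 q10446 (flp_d L180080) q9812, e3 q10447 L180088 q9826, e3 q10448 L180094 q9814, e3 q10449 (flp_d L185400) q11041, e3 q10450 L185410 q11043, e3 q10451 L185418 q11044, e3 q10452 (flp_d L180126) q9817, e3 q10453 (flp_d L180132) q9818, e3 q10454 L180146 q10289, e3 q10455 L180150 q10093, e3 q10456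 L180154 q9822, e3 q10457 (flp_d L185464) q11049, e3 q10458 (flp_d L185384) q11038, e3 q10459 (flp_d L180262) q10467, e3 q10460 (flp_d L180183) q9828, e3 q10461 (flp_d L185482) q11051, e3 q10462 (flp_d L185474) q11050, e3 q10463 L180214 q9832, e3 q10464 L185511 q11055, e3 q10465 (flp_d L180232) q9833, e3 q10466 L180249 q9837, e3 q10467 L180262 q10459, e3 q10468 L185557 q11059, e3 q10469 L185565 q11060, e3 q10470 (flp_d L180291) q9838, e3 q10471 (flp_d L185589) q11062, e3 q10472 L180315 q10391, e3 q10473 L180331 q10349, e3 q10474 L185629 q11066, e3 q10475 L185637 q11067, e3 q10476 (flp_d L180355) q9844, e3 q10477 L185653 q11070, e3 q10478 (flp_d L180369) q9846, e3 q10479 L180375 q9851, e3 q10480 L180379 q9848, e3 q10481 (flp_d L185681) q11075, e3 q10482 (flp_d L180385) q9849, e3 q10483 (flp_d L185667) q11071, e3 q10484 (flp_d L183290) q10810, e3 q10485 (flp_d L185673) q11073, e3 q10486 (flp_d L185196) q11018, e3 q10487 L180426 q9889, e3 q10488 L185742 q11083, e3 q10489 (flp_d L180439) q9856,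 e3 q10490 (flp_d L185768) q11085, e3 q10491 (flp_d L180715) q10521, e3 q10492 L180473 q9896, e3 q10493 L185804 q11089, e3 q10494 L185812 q11090, e3 q10495 (flp_d L180497) q9862, trivial⟩ (by decide +kernel)

theorem ce_d_164 : ∀ r, r < 64 → sm gd (Qf (10496 + r)) = Qf (tab Gen.d (10496 + r)) :=
  edges_tab (sm gd) Qf (tab Gen.d) 10496 [(10496, 9863), (10497, 9937), (10498, 9865), (10499, 11096), (10500, 11098), (10501, 11099), (10502, 11100), (10503, 9869), (10504, 9870), (10505, 11069), (10506, 9872), (10507, 10836), (10508, 9875), (10509, 11106), (10510, 11107), (10511, 11108), (10512, 11109), (10513, 9879), (10514, 9880), (10515, 10535), (10516, 9882), (10517, 11039), (10518, 9885), (10519, 11115), (10520, 10274), (10521, 10491), (10522, 11118), (10523, 11119), (10524, 9890), (10525, 9891), (10526, 9940), (10527, 9893), (10528, 11126), (10529, 11128), (10530, 11129), (10531, 11130), (10532, 9897), (10533, 9898), (10534, 9971), (10535, 10515), (10536, 9900), (10537, 9941), (10538, 10881),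 (10539, 9943), (10540, 10860), (10541, 9904), (10542, 11143), (10543, 9905), (10544, 9906), (10545, 9907), (10546, 9929), (10547, 11145), (10548, 9930), (10549, 10690), (10550, 9932), (10551, 11153), (10552, 10693), (10553, 10896), (10554, 10758), (10555, 10899), (10556, 10956), (10557, 10957), (10558, 9918), (10559, 9919)]
    ⟨e3 q10496 (flp_d L180505) q9863, e3 q10497 L180519 q9937, e3 q10498 L180529 q9865, e3 q10499 (flp_d L185863) q11096, e3 q10500 L185875 q11098, e3 q10501 L185881 q11099, e3 q10502 L185889 q11100, e3 q10503 (flp_d L180569) q9869, e3 q10504 (flp_d L180575) q9870, e3 q10505 (flp_d L185651) q11069, e3 q10506 (flp_d L180585) q9872, e3 q10507 (flp_d L183546) q10836, e3 q10508 L180597 q9875, e3 q10509 (flp_d L185927) q11106, e3 q10510 L185931 q11107, e3 q10511 L185939 q11108, e3 q10512 L185951 q11109, e3 q10513 (flp_d L180645) q9879, e3 q10514 (flp_d L180653) q9880, e3 q10515 (flp_d L180847) q10535, e3 q10516 (flp_d L180669) q9882, e3 q10517 (flp_d L185390) q11039, e3 q10518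 L180685 q9885, e3 q10519 (flp_d L185997) q11115, e3 q10520 L180701 q10274, e3 q10521 L180715 q10491, e3 q10522 L186031 q11118, e3 q10523 L186039 q11119, e3 q10524 (flp_d L180743) q9890, e3 q10525 (flp_d L180751) q9891, e3 q10526 L180763 q9940, e3 q10527 L180771 q9893, e3 q10528 (flp_d L186097) q11126, e3 q10529 L186107 q11128, e3 q10530 L186113 q11129, e3 q10531 L186125 q11130, e3 q10532 (flp_d L180815) q9897, e3 q10533 (flp_d L180823) q9898, e3 q10534 L180837 q9971, e3 q10535 L180847 q10515, e3 q10536 (flp_d L180849) q9900, e3 q10537 L180861 q9941, e3 q10538 (flp_d L183990) q10881, e3 q10539 L180869 q9943, e3 q10540 (flp_d L183794) q10860, e3 q10541 L180885 q9904, e3 q10542 (flp_d L186229) q11143, e3 q10543 (flp_d L180895) q9905, e3 q10544 (flp_d L180897) q9906, e3 q10545 (flp_d L180905) q9907, e3 q10546 L180919 q9929, e3 q10547 (flp_d L186247) q11145, e3 q10548 L180931 q9930, e3 q10549 (flp_d L182088) q10690, e3 q10550 L180939 q9932, e3 q10551 L186297 q11153, e3 q10552 (flp_d L182104)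 q10693, e3 q10553 (flp_d L184074) q10896, e3 q10554 (flp_d L182748) q10758, e3 q10555 (flp_d L184092) q10899, e3 q10556 (flp_d L184644) q10956, e3 q10557 (flp_d L184652) q10957, e3 q10558 L180977 q9918, e3 q10559 (flp_d L180979) q9919, trivial⟩ (by decide +kernel)

theorem ce_d_165 : ∀ r, r < 64 → sm gd (Qf (10560 + r)) = Qf (tab Gen.d (10560 + r)) :=
  edges_tab (sm gd) Qf (tab Gen.d) 10560 [(10560, 9920), (10561, 9921), (10562, 10719), (10563, 10589), (10564, 11144), (10565, 9933), (10566, 11084), (10567, 11093), (10568, 10061), (10569, 11122), (10570, 11124), (10571, 10122), (10572, 11061), (10573, 9956), (10574, 10721), (10575, 11165), (10576, 11167), (10577, 11168), (10578, 10921), (10579, 9960), (10580, 9961), (10581, 11120), (10582, 9963), (10583, 9990), (10584, 9991), (10585, 9966), (10586, 9967), (10587, 11131), (10588, 11133), (10589, 10563), (10590, 11135), (10591, 11175), (10592, 10597), (10593, 10595), (10594, 10671), (10595, 10593), (10596, 10596), (10597, 10592), (10598, 10655),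 (10599, 10720), (10600, 11180), (10601, 9999), (10602, 10000), (10603, 11068), (10604, 10004), (10605, 10605), (10606, 10006), (10607, 11184), (10608, 11176), (10609, 11186), (10610, 10007), (10611, 10611), (10612, 11188), (10613, 10014), (10614, 11191), (10615, 11192), (10616, 10017), (10617, 11194), (10618, 10019), (10619, 11193), (10620, 10055), (10621, 10858), (10622, 11201), (10623, 10023)]
    ⟨e3 q10560 (flp_d L180988) q9920, e3 q10561 (flp_d L181004) q9921, e3 q10562 (flp_d L182288) q10719, e3 q10563 (flp_d L181296) q10589, e3 q10564 (flp_d L186241) q11144, e3 q10565 (flp_d L181062) q9933, e3 q10566 (flp_d L185758) q11084, e3 q10567 (flp_d L185843) q11093, e3 q10568 L181093 q10061, e3 q10569 (flp_d L186073) q11122, e3 q10570 (flp_d L186081) q11124, e3 q10571 L181117 q10122, e3 q10572 (flp_d L185579) q11061, e3 q10573 L181134 q9956, e3 q10574 (flp_d L182318) q10721, e3 q10575 (flp_d L186375) q11165, e3 q10576 L186394 q11167, e3 q10577 L186406 q11168, e3 q10578 (flp_d L184285) q10921,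 e3 q10579 (flp_d L181189) q9960, e3 q10580 (flp_d L181200) q9961, e3 q10581 (flp_d L186055) q11120, e3 q10582 (flp_d L181218) q9963, e3 q10583 L181235 q9990, e3 q10584 L181239 q9991, e3 q10585 (flp_d L181245) q9966, e3 q10586 (flp_d L181256) q9967, e3 q10587 (flp_d L186143) q11131, e3 q10588 (flp_d L186157) q11133, e3 q10589 L181296 q10563, e3 q10590 (flp_d L186171) q11135, e3 q10591 L186481 q11175, e3 q10592 (flp_d L181362) q10597, e3 q10593 (flp_d L181349) q10595, e3 q10594 (flp_d L181972) q10671, e3 q10595 L181349 q10593, e3 q10596 L181357 q10596, e3 q10597 L181362 q10592, e3 q10598 (flp_d L181857) q10655, e3 q10599 (flp_d L182303) q10720, e3 q10600 L186533 q11180, e3 q10601 (flp_d L181407) q9999, e3 q10602 (flp_d L181418) q10000, e3 q10603 (flp_d L185645) q11068, e3 q10604 L181445 q10004, e3 q10605 L181455 q10605, e3 q10606 L181460 q10006, e3 q10607 (flp_d L186573) q11184, e3 q10608 (flp_d L186493) q11176, e3 q10609 (flp_d L186595) q11186, e3 q10610 (flp_d L181493) q10007, e3 q10611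 L181503 q10611, e3 q10612 L186609 q11188, e3 q10613 (flp_d L181521) q10014, e3 q10614 L186630 q11191, e3 q10615 L186638 q11192, e3 q10616 (flp_d L181552) q10017, e3 q10617 (flp_d L186664) q11194, e3 q10618 (flp_d L181566) q10019, e3 q10619 (flp_d L186656) q11193, e3 q10620 L181587 q10055, e3 q10621 (flp_d L183780) q10858, e3 q10622 L186711 q11201, e3 q10623 (flp_d L181602) q10023, trivial⟩ (by decide +kernel)

theorem ce_d_166 : ∀ r, r < 64 → sm gd (Qf (10624 + r)) = Qf (tab Gen.d (10624 + r)) :=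
  edges_tab (sm gd) Qf (tab Gen.d) 10624 [(10624, 10026), (10625, 10025), (10626, 11206), (10627, 11204), (10628, 11208), (10629, 10028), (10630, 10058), (10631, 10031), (10632, 11214), (10633, 11213), (10634, 11217), (10635, 11218), (10636, 10034), (10637, 10035), (10638, 10048), (10639, 10412), (10640, 10041), (10641, 10813), (10642, 10042), (10643, 10782), (10644, 10040), (10645, 11231), (10646, 11228), (10647, 10044), (10648, 10045), (10649, 11219), (10650, 11221), (10651, 10425), (10652, 11223), (10653, 11237), (10654, 10054), (10655, 10598), (10656, 11239), (10657, 11211), (10658, 11240), (10659, 10060), (10660, 11241), (10661, 11243), (10662, 11244), (10663, 10066), (10664, 11247), (10665, 10068), (10666, 10073), (10667, 10070), (10668, 11252), (10669, 10071), (10670, 11248), (10671, 10594), (10672, 11250), (10673, 11258), (10674, 11259), (10675, 10076), (10676, 10077), (10677, 10677), (10678, 11246), (10679, 10083), (10680, 10847), (10681, 10838), (10682, 10082), (10683, 11269),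 (10684, 10084), (10685, 10085), (10686, 10086), (10687, 10105)]
    ⟨e3 q10624 L181614 q10026, e3 q10625 L181622 q10025, e3 q10626 (flp_d L186750) q11206, e3 q10627 (flp_d L186734) q11204, e3 q10628 L186760 q11208, e3 q10629 (flp_d L181646) q10028, e3 q10630 L181654 q10058, e3 q10631 L181660 q10031, e3 q10632 L186795 q11214, e3 q10633 (flp_d L186793) q11213, e3 q10634 L186811 q11217, e3 q10635 L186821 q11218, e3 q10636 (flp_d L181694) q10034, e3 q10637 (flp_d L181702) q10035, e3 q10638 L181714 q10048, e3 q10639 L181722 q10412, e3 q10640 L181730 q10041, e3 q10641 (flp_d L183329) q10813, e3 q10642 L181738 q10042, e3 q10643 (flp_d L182988) q10782, e3 q10644 L181750 q10040, e3 q10645 (flp_d L186917) q11231, e3 q10646 (flp_d L186897) q11228, e3 q10647 (flp_d L181768) q10044, e3 q10648 (flp_d L181779) q10045, e3 q10649 (flp_d L186837) q11219, e3 q10650 (flp_d L186851) q11221, e3 q10651 L181818 q10425, e3 q10652 (flp_d L186863) q11223, e3 q10653 L186969 q11237, e3 q10654 L181842 q10054, e3 q10655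 L181857 q10598, e3 q10656 L186995 q11239, e3 q10657 (flp_d L186781) q11211, e3 q10658 L186999 q11240, e3 q10659 (flp_d L181878) q10060, e3 q10660 (flp_d L187005) q11241, e3 q10661 L187015 q11243, e3 q10662 L187027 q11244, e3 q10663 (flp_d L181905) q10066, e3 q10664 L187044 q11247, e3 q10665 (flp_d L181921) q10068, e3 q10666 L181933 q10073, e3 q10667 L181939 q10070, e3 q10668 (flp_d L187084) q11252, e3 q10669 (flp_d L181947) q10071, e3 q10670 (flp_d L187060) q11248, e3 q10671 L181972 q10594, e3 q10672 (flp_d L187072) q11250, e3 q10673 L187132 q11258, e3 q10674 L187144 q11259, e3 q10675 (flp_d L182001) q10076, e3 q10676 (flp_d L182007) q10077, e3 q10677 L182017 q10677, e3 q10678 (flp_d L187042) q11246, e3 q10679 L182028 q10083, e3 q10680 (flp_d L183662) q10847, e3 q10681 (flp_d L183562) q10838, e3 q10682 L182042 q10082, e3 q10683 (flp_d L187206) q11269, e3 q10684 (flp_d L182050) q10084, e3 q10685 (flp_d L182054) q10085, e3 q10686 (flp_d L182060) q10086, e3 q10687 L182072 q10105, trivial⟩ (by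 decide +kernel)

theorem ce_d_167 : ∀ r, r < 64 → sm gd (Qf (10688 + r)) = Qf (tab Gen.d (10688 + r)) :=
  edges_tab (sm gd) Qf (tab Gen.d) 10688 [(10688, 11271), (10689, 10107), (10690, 10549), (10691, 10109), (10692, 11284), (10693, 10552), (10694, 10098), (10695, 10819), (10696, 10099), (10697, 11290), (10698, 11048), (10699, 10101), (10700, 10901), (10701, 10902), (10702, 10097), (10703, 10100), (10704, 11270), (10705, 11272), (10706, 11274), (10707, 10189), (10708, 11276), (10709, 11299), (10710, 11279), (10711, 11302), (10712, 11282), (10713, 11304), (10714, 10110), (10715, 10917), (10716, 11296), (10717, 10129), (10718, 11163), (10719, 10562), (10720, 10599), (10721, 10574), (10722, 11305), (10723, 11307), (10724, 11308), (10725, 10133), (10726, 11311), (10727, 11312), (10728, 10136), (10729, 11314), (10730, 10138), (10731, 11313), (10732, 10140), (10733, 10141), (10734, 11322), (10735, 10143), (10736, 11324), (10737, 11323), (10738, 10146), (10739, 11328), (10740, 10148), (10741,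 10196), (10742, 11329), (10743, 11332), (10744, 11333), (10745, 10152), (10746, 10153), (10747, 10157), (10748, 10155), (10749, 11340), (10750, 11336), (10751, 11338)]
    ⟨e3 q10688 (flp_d L187222) q11271, e3 q10689 L182082 q10107, e3 q10690 L182088 q10549, e3 q10691 L182092 q10109, e3 q10692 L187300 q11284, e3 q10693 L182104 q10552, e3 q10694 L182112 q10098, e3 q10695 (flp_d L183390) q10819, e3 q10696 L182120 q10099, e3 q10697 L187330 q11290, e3 q10698 (flp_d L185458) q11048, e3 q10699 L182134 q10101, e3 q10700 (flp_d L184106) q10901, e3 q10701 (flp_d L184112) q10902, e3 q10702 L182146 q10097, e3 q10703 (flp_d L182148) q10100, e3 q10704 (flp_d L187218) q11270, e3 q10705 (flp_d L187230) q11272, e3 q10706 (flp_d L187244) q11274, e3 q10707 L182182 q10189, e3 q10708 (flp_d L187252) q11276, e3 q10709 L187400 q11299, e3 q10710 (flp_d L187272) q11279, e3 q10711 L187434 q11302, e3 q10712 (flp_d L187290) q11282, e3 q10713 L187450 q11304, e3 q10714 (flp_d L182240) q10110, e3 q10715 (flp_d L184236)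 q10917, e3 q10716 (flp_d L187368) q11296, e3 q10717 L182269 q10129, e3 q10718 (flp_d L186355) q11163, e3 q10719 L182288 q10562, e3 q10720 L182303 q10599, e3 q10721 L182318 q10574, e3 q10722 (flp_d L187456) q11305, e3 q10723 L187480 q11307, e3 q10724 L187494 q11308, e3 q10725 (flp_d L182359) q10133, e3 q10726 L187523 q11311, e3 q10727 L187537 q11312, e3 q10728 (flp_d L182396) q10136, e3 q10729 (flp_d L187567) q11314, e3 q10730 (flp_d L182412) q10138, e3 q10731 (flp_d L187557) q11313, e3 q10732 (flp_d L182435) q10140, e3 q10733 (flp_d L182449) q10141, e3 q10734 L187654 q11322, e3 q10735 (flp_d L182476) q10143, e3 q10736 (flp_d L187692) q11324, e3 q10737 (flp_d L187680) q11323, e3 q10738 (flp_d L182513) q10146, e3 q10739 L187728 q11328, e3 q10740 (flp_d L182541) q10148, e3 q10741 L182563 q10196, e3 q10742 (flp_d L187756) q11329, e3 q10743 L187774 q11332, e3 q10744 L187786 q11333, e3 q10745 (flp_d L182595) q10152, e3 q10746 (flp_d L182601) q10153, e3 q10747 L182619 q10157, e3 q10748 L182627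 q10155, e3 q10749 (flp_d L187865) q11340, e3 q10750 (flp_d L187823) q11336, e3 q10751 (flp_d L187839) q11338, trivial⟩ (by decide +kernel)

theorem ce_d_168 : ∀ r, r < 64 → sm gd (Qf (10752 + r)) = Qf (tab Gen.d (10752 + r)) :=
  edges_tab (sm gd) Qf (tab Gen.d) 10752 [(10752, 10158), (10753, 10159), (10754, 11344), (10755, 11343), (10756, 10162), (10757, 10199), (10758, 10554), (10759, 10166), (10760, 10165), (10761, 11350), (10762, 11352), (10763, 10168), (10764, 10200), (10765, 11353), (10766, 11356), (10767, 10171), (10768, 10172), (10769, 10175), (10770, 11360), (10771, 11359), (10772, 11363), (10773, 11364), (10774, 10178), (10775, 10179), (10776, 10191), (10777, 10931), (10778, 10181), (10779, 10186), (10780, 10415), (10781, 10187), (10782, 10643), (10783, 10185), (10784, 11377), (10785, 11374), (10786, 11366), (10787, 11368), (10788, 10193), (10789, 11320), (10790, 11326), (10791, 11379), (10792, 10201), (10793, 11380), (10794, 10204), (10795, 10205), (10796, 11367), (10797, 11384),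 (10798, 10208), (10799, 11386), (10800, 10210), (10801, 11387), (10802, 11389), (10803, 10213), (10804, 11392), (10805, 10215), (10806, 10220), (10807, 10217), (10808, 11397), (10809, 11393), (10810, 10484), (10811, 11395), (10812, 10338), (10813, 10641), (10814, 10223), (10815, 10226)]
    ⟨e3 q10752 (flp_d L182669) q10158, e3 q10753 (flp_d L182683) q10159, e3 q10754 (flp_d L187917) q11344, e3 q10755 (flp_d L187905) q11343, e3 q10756 (flp_d L182718) q10162, e3 q10757 L182740 q10199, e3 q10758 L182748 q10554, e3 q10759 L182760 q10166, e3 q10760 L182770 q10165, e3 q10761 (flp_d L187975) q11350, e3 q10762 L187987 q11352, e3 q10763 (flp_d L182794) q10168, e3 q10764 L182816 q10200, e3 q10765 (flp_d L188015) q11353, e3 q10766 L188035 q11356, e3 q10767 (flp_d L182838) q10171, e3 q10768 (flp_d L182848) q10172, e3 q10769 L182870 q10175, e3 q10770 L188083 q11360, e3 q10771 (flp_d L188081) q11359, e3 q10772 L188109 q11363, e3 q10773 L188123 q11364, e3 q10774 (flp_d L182910) q10178, e3 q10775 (flp_d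 L182918) q10179, e3 q10776 L182932 q10191, e3 q10777 (flp_d L184407) q10931, e3 q10778 (flp_d L182940) q10181, e3 q10779 L182964 q10186, e3 q10780 L182970 q10415, e3 q10781 L182974 q10187, e3 q10782 L182988 q10643, e3 q10783 L182994 q10185, e3 q10784 (flp_d L188253) q11377, e3 q10785 (flp_d L188221) q11374, e3 q10786 (flp_d L188147) q11366, e3 q10787 (flp_d L188161) q11368, e3 q10788 L183045 q10193, e3 q10789 (flp_d L187640) q11320, e3 q10790 (flp_d L187714) q11326, e3 q10791 L188267 q11379, e3 q10792 (flp_d L183099) q10201, e3 q10793 (flp_d L188293) q11380, e3 q10794 (flp_d L183123) q10204, e3 q10795 (flp_d L183135) q10205, e3 q10796 (flp_d L188157) q11367, e3 q10797 L188327 q11384, e3 q10798 (flp_d L183175) q10208, e3 q10799 L188351 q11386, e3 q10800 (flp_d L183201) q10210, e3 q10801 (flp_d L188375) q11387, e3 q10802 L188385 q11389, e3 q10803 (flp_d L183230) q10213, e3 q10804 L188410 q11392, e3 q10805 (flp_d L183246) q10215, e3 q10806 L183256 q10220, e3 q10807 L183260 q10217, e3 q10808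 (flp_d L188460) q11397, e3 q10809 (flp_d L188432) q11393, e3 q10810 L183290 q10484, e3 q10811 (flp_d L188444) q11395, e3 q10812 L183315 q10338, e3 q10813 L183329 q10641, e3 q10814 (flp_d L183331) q10223, e3 q10815 L183349 q10226, trivial⟩ (by decide +kernel)

theorem ce_d_169 : ∀ r, r < 64 → sm gd (Qf (10816 + r)) = Qf (tab Gen.d (10816 + r)) :=
  edges_tab (sm gd) Qf (tab Gen.d) 10816 [(10816, 10225), (10817, 11407), (10818, 11405), (10819, 10695), (10820, 11410), (10821, 11411), (10822, 10230), (10823, 10231), (10824, 10318), (10825, 10233), (10826, 11416), (10827, 11418), (10828, 11419), (10829, 11420), (10830, 10237), (10831, 10238), (10832, 10832), (10833, 11391), (10834, 10240), (10835, 10245), (10836, 10507), (10837, 10246), (10838, 10681), (10839, 10244), (10840, 11435), (10841, 11429), (10842, 11432), (10843, 10247), (10844, 10250), (10845, 10249), (10846, 11439), (10847, 10680), (10848, 10252), (10849, 10321), (10850, 10254), (10851, 11446), (10852, 11448), (10853, 10256), (10854,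 10301), (10855, 10922), (10856, 10258), (10857, 10263), (10858, 10621), (10859, 10265), (10860, 10540), (10861, 10262), (10862, 11461), (10863, 11455), (10864, 11458), (10865, 11462), (10866, 11463), (10867, 10268), (10868, 10269), (10869, 10324), (10870, 10271), (10871, 11468), (10872, 11470), (10873, 11471), (10874, 11472), (10875, 10275), (10876, 10276), (10877, 10877), (10878, 11037), (10879, 10278)]
    ⟨e3 q10816 L183359 q10225, e3 q10817 (flp_d L188565) q11407, e3 q10818 (flp_d L188539) q11405, e3 q10819 L183390 q10695, e3 q10820 L188589 q11410, e3 q10821 L188601 q11411, e3 q10822 (flp_d L183418) q10230, e3 q10823 (flp_d L183428) q10231, e3 q10824 L183448 q10318, e3 q10825 L183462 q10233, e3 q10826 (flp_d L188667) q11416, e3 q10827 L188679 q11418, e3 q10828 L188683 q11419, e3 q10829 L188697 q11420, e3 q10830 (flp_d L183501) q10237, e3 q10831 (flp_d L183507) q10238, e3 q10832 L183517 q10832, e3 q10833 (flp_d L188408) q11391, e3 q10834 (flp_d L183522) q10240, e3 q10835 L183540 q10245,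 e3 q10836 L183546 q10507, e3 q10837 L183550 q10246, e3 q10838 L183562 q10681, e3 q10839 L183566 q10244, e3 q10840 (flp_d L188822) q11435, e3 q10841 (flp_d L188762) q11429, e3 q10842 (flp_d L188792) q11432, e3 q10843 (flp_d L183608) q10247, e3 q10844 L183630 q10250, e3 q10845 L183640 q10249, e3 q10846 (flp_d L188865) q11439, e3 q10847 L183662 q10680, e3 q10848 (flp_d L183664) q10252, e3 q10849 L183686 q10321, e3 q10850 L183698 q10254, e3 q10851 (flp_d L188950) q11446, e3 q10852 L188968 q11448, e3 q10853 (flp_d L183722) q10256, e3 q10854 L183738 q10301, e3 q10855 (flp_d L184307) q10922, e3 q10856 (flp_d L183746) q10258, e3 q10857 L183770 q10263, e3 q10858 L183780 q10621, e3 q10859 L183784 q10265, e3 q10860 L183794 q10540, e3 q10861 L183798 q10262, e3 q10862 (flp_d L189102) q11461, e3 q10863 (flp_d L189038) q11455, e3 q10864 (flp_d L189076) q11458, e3 q10865 L189106 q11462, e3 q10866 L189118 q11463, e3 q10867 (flp_d L183862) q10268, e3 q10868 (flp_d L183870) q10269, e3 q10869 L183890 q10324,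 e3 q10870 L183900 q10271, e3 q10871 (flp_d L189173) q11468, e3 q10872 L189183 q11470, e3 q10873 L189193 q11471, e3 q10874 L189205 q11472, e3 q10875 (flp_d L183943) q10275, e3 q10876 (flp_d L183951) q10276, e3 q10877 L183961 q10877, e3 q10878 (flp_d L185378) q11037, e3 q10879 (flp_d L183968) q10278, trivial⟩ (by decide +kernel)

theorem ce_d_170 : ∀ r, r < 64 → sm gd (Qf (10880 + r)) = Qf (tab Gen.d (10880 + r)) :=
  edges_tab (sm gd) Qf (tab Gen.d) 10880 [(10880, 10326), (10881, 10538), (10882, 10328), (10883, 11438), (10884, 10282), (10885, 11486), (10886, 10283), (10887, 10284), (10888, 10285), (10889, 10309), (10890, 11487), (10891, 10310), (10892, 11046), (10893, 10312), (10894, 11499), (10895, 11047), (10896, 10553), (10897, 10297), (10898, 11347), (10899, 10555), (10900, 10298), (10901, 10700), (10902, 10701), (10903, 10296), (10904, 11449), (10905, 11197), (10906, 11451), (10907, 10305), (10908, 11178), (10909, 10306), (10910, 11489), (10911, 11491), (10912, 11494), (10913, 11515),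 (10914, 11497), (10915, 11517), (10916, 10313), (10917, 10715), (10918, 11444), (10919, 11480), (10920, 11518), (10921, 10578), (10922, 10855), (10923, 10442), (10924, 10342), (10925, 10440), (10926, 10441), (10927, 10343), (10928, 11319), (10929, 11415), (10930, 11401), (10931, 10777), (10932, 10341), (10933, 11529), (10934, 11412), (10935, 10345), (10936, 10346), (10937, 10347), (10938, 11534), (10939, 11536), (10940, 10350), (10941, 11539), (10942, 10352), (10943, 10943)]
    ⟨e3 q10880 L183984 q10326, e3 q10881 L183990 q10538, e3 q10882 L183994 q10328, e3 q10883 (flp_d L188859) q11438, e3 q10884 L184008 q10282, e3 q10885 (flp_d L189314) q11486, e3 q10886 (flp_d L184016) q10283, e3 q10887 (flp_d L184020) q10284, e3 q10888 (flp_d L184026) q10285, e3 q10889 L184038 q10309, e3 q10890 (flp_d L189320) q11487, e3 q10891 L184048 q10310, e3 q10892 (flp_d L185448) q11046, e3 q10893 L184056 q10312, e3 q10894 L189394 q11499, e3 q10895 (flp_d L185452) q11047, e3 q10896 L184074 q10553, e3 q10897 L184078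 q10297, e3 q10898 (flp_d L187949) q11347, e3 q10899 L184092 q10555, e3 q10900 L184098 q10298, e3 q10901 L184106 q10700, e3 q10902 L184112 q10701, e3 q10903 L184116 q10296, e3 q10904 (flp_d L188992) q11449, e3 q10905 (flp_d L186691) q11197, e3 q10906 (flp_d L189004) q11451, e3 q10907 L184146 q10305, e3 q10908 (flp_d L186511) q11178, e3 q10909 L184168 q10306, e3 q10910 (flp_d L189334) q11489, e3 q10911 (flp_d L189342) q11491, e3 q10912 (flp_d L189366) q11494, e3 q10913 L189516 q11515, e3 q10914 (flp_d L189382) q11497, e3 q10915 L189533 q11517, e3 q10916 (flp_d L184226) q10313, e3 q10917 L184236 q10715, e3 q10918 (flp_d L188920) q11444, e3 q10919 (flp_d L189270) q11480, e3 q10920 L189539 q11518, e3 q10921 L184285 q10578, e3 q10922 L184307 q10855, e3 q10923 L184315 q10442, e3 q10924 L184333 q10342, e3 q10925 L184345 q10440, e3 q10926 L184353 q10441, e3 q10927 L184369 q10343, e3 q10928 (flp_d L187626) q11319, e3 q10929 (flp_d L188659) q11415, e3 q10930 (flp_d L188500) q11401, e3 q10931 L184407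 q10777, e3 q10932 L184415 q10341, e3 q10933 (flp_d L189679) q11529, e3 q10934 (flp_d L188621) q11412, e3 q10935 (flp_d L184441) q10345, e3 q10936 (flp_d L184453) q10346, e3 q10937 (flp_d L184463) q10347, e3 q10938 (flp_d L189739) q11534, e3 q10939 L189749 q11536, e3 q10940 (flp_d L184498) q10350, e3 q10941 L189784 q11539, e3 q10942 (flp_d L184523) q10352, e3 q10943 L184531 q10943, trivial⟩ (by decide +kernel)

theorem ce_d_171 : ∀ r, r < 64 → sm gd (Qf (10944 + r)) = Qf (tab Gen.d (10944 + r)) :=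
  edges_tab (sm gd) Qf (tab Gen.d) 10944 [(10944, 11541), (10945, 11544), (10946, 10355), (10947, 10356), (10948, 10360), (10949, 10358), (10950, 11550), (10951, 11546), (10952, 11317), (10953, 11548), (10954, 11342), (10955, 10427), (10956, 10556), (10957, 10557), (10958, 10428), (10959, 11454), (10960, 10365), (10961, 10368), (10962, 11484), (10963, 11562), (10964, 11565), (10965, 11566), (10966, 10371), (10967, 10372), (10968, 11545), (10969, 11337), (10970, 10376), (10971, 11571), (10972, 10377), (10973, 10380), (10974, 10379), (10975, 11575), (10976, 10381), (10977, 10429), (10978, 10384), (10979, 11581), (10980, 11580), (10981, 10385), (10982, 10386), (10983, 11121), (10984, 11321), (10985, 10390), (10986, 11588), (10987, 11589), (10988, 10392), (10989, 10431), (10990, 10395), (10991, 11503), (10992, 11593), (10993, 11596), (10994, 11597), (10995, 10398), (10996, 10399), (10997, 10997), (10998, 11210), (10999, 10432), (11000, 11358), (11001, 11433), (11002, 10405), (11003, 10404),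 (11004, 11608), (11005, 11607), (11006, 10406), (11007, 10407)]
    ⟨e3 q10944 (flp_d L189801) q11541, e3 q10945 L189815 q11544, e3 q10946 (flp_d L184554) q10355, e3 q10947 (flp_d L184562) q10356, e3 q10948 L184574 q10360, e3 q10949 L184580 q10358, e3 q10950 (flp_d L189871) q11550, e3 q10951 (flp_d L189845) q11546, e3 q10952 (flp_d L187600) q11317, e3 q10953 (flp_d L189853) q11548, e3 q10954 (flp_d L187891) q11342, e3 q10955 L184632 q10427, e3 q10956 L184644 q10556, e3 q10957 L184652 q10557, e3 q10958 L184664 q10428, e3 q10959 (flp_d L189034) q11454, e3 q10960 (flp_d L184676) q10365, e3 q10961 L184696 q10368, e3 q10962 (flp_d L189304) q11484, e3 q10963 (flp_d L189985) q11562, e3 q10964 L190001 q11565, e3 q10965 L190011 q11566, e3 q10966 (flp_d L184740) q10371, e3 q10967 (flp_d L184750) q10372, e3 q10968 (flp_d L189837) q11545, e3 q10969 (flp_d L187835) q11337, e3 q10970 L184786 q10376, e3 q10971 (flp_d L190071) q11571, e3 q10972 (flp_d L184796) q10377, e3 q10973 L184808 q10380, e3 q10974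 L184814 q10379, e3 q10975 (flp_d L190106) q11575, e3 q10976 (flp_d L184824) q10381, e3 q10977 L184844 q10429, e3 q10978 L184856 q10384, e3 q10979 L190159 q11581, e3 q10980 (flp_d L190155) q11580, e3 q10981 (flp_d L184872) q10385, e3 q10982 (flp_d L184882) q10386, e3 q10983 (flp_d L186065) q11121, e3 q10984 (flp_d L187652) q11321, e3 q10985 L184918 q10390, e3 q10986 (flp_d L190227) q11588, e3 q10987 L190233 q11589, e3 q10988 (flp_d L184943) q10392, e3 q10989 L184961 q10431, e3 q10990 L184971 q10395, e3 q10991 (flp_d L189422) q11503, e3 q10992 (flp_d L190282) q11593, e3 q10993 L190302 q11596, e3 q10994 L190314 q11597, e3 q10995 (flp_d L185019) q10398, e3 q10996 (flp_d L185027) q10399, e3 q10997 L185039 q10997, e3 q10998 (flp_d L186777) q11210, e3 q10999 L185054 q10432, e3 q11000 (flp_d L188073) q11358, e3 q11001 (flp_d L188810) q11433, e3 q11002 L185072 q10405, e3 q11003 (flp_d L185074) q10404, e3 q11004 (flp_d L190402) q11608, e3 q11005 (flp_d L190398) q11607, e3 q11006 (flp_d L185086) q10406,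 e3 q11007 (flp_d L185090) q10407, trivial⟩ (by decide +kernel)

theorem ce_d_172 : ∀ r, r < 64 → sm gd (Qf (11008 + r)) = Qf (tab Gen.d (11008 + r)) :=
  edges_tab (sm gd) Qf (tab Gen.d) 11008 [(11008, 10408), (11009, 10423), (11010, 11611), (11011, 10424), (11012, 11222), (11013, 11618), (11014, 11225), (11015, 11371), (11016, 11346), (11017, 11373), (11018, 10486), (11019, 10418), (11020, 10419), (11021, 11625), (11022, 10426), (11023, 10430), (11024, 10435), (11025, 11626), (11026, 11627), (11027, 11148), (11028, 10439), (11029, 10438), (11030, 11631), (11031, 11522), (11032, 11523), (11033, 11520), (11034, 10443), (11035, 10444), (11036, 11036), (11037, 10878), (11038, 10458), (11039, 10517), (11040, 11445), (11041, 10449), (11042, 11643), (11043, 10450), (11044, 10451), (11045, 11644), (11046, 10892), (11047, 10895), (11048, 10698), (11049, 10457), (11050, 10462), (11051, 10461), (11052, 11652), (11053, 11650), (11054, 11655), (11055, 10464), (11056, 11656), (11057, 11658), (11058,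 11659), (11059, 10468), (11060, 10469), (11061, 10572), (11062, 10471), (11063, 11665), (11064, 11667), (11065, 11668), (11066, 10474), (11067, 10475), (11068, 10603), (11069, 10505), (11070, 10477), (11071, 10483)]
    ⟨e3 q11008 (flp_d L185100) q10408, e3 q11009 L185118 q10423, e3 q11010 (flp_d L190416) q11611, e3 q11011 L185138 q10424, e3 q11012 (flp_d L186859) q11222, e3 q11013 L190478 q11618, e3 q11014 (flp_d L186879) q11225, e3 q11015 (flp_d L188197) q11371, e3 q11016 (flp_d L187939) q11346, e3 q11017 (flp_d L188213) q11373, e3 q11018 L185196 q10486, e3 q11019 L185204 q10418, e3 q11020 (flp_d L185206) q10419, e3 q11021 L190542 q11625, e3 q11022 (flp_d L185234) q10426, e3 q11023 (flp_d L185246) q10430, e3 q11024 L185258 q10435, e3 q11025 (flp_d L190564) q11626, e3 q11026 (flp_d L190568) q11627, e3 q11027 (flp_d L186273) q11148, e3 q11028 L185295 q10439, e3 q11029 L185307 q10438, e3 q11030 (flp_d L190612) q11631, e3 q11031 (flp_d L189601) q11522, e3 q11032 (flp_d L189613) q11523, e3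 q11033 (flp_d L189573) q11520, e3 q11034 (flp_d L185343) q10443, e3 q11035 (flp_d L185353) q10444, e3 q11036 L185371 q11036, e3 q11037 L185378 q10878, e3 q11038 L185384 q10458, e3 q11039 L185390 q10517, e3 q11040 (flp_d L188942) q11445, e3 q11041 L185400 q10449, e3 q11042 (flp_d L190716) q11643, e3 q11043 (flp_d L185410) q10450, e3 q11044 (flp_d L185418) q10451, e3 q11045 (flp_d L190724) q11644, e3 q11046 L185448 q10892, e3 q11047 L185452 q10895, e3 q11048 L185458 q10698, e3 q11049 L185464 q10457, e3 q11050 L185474 q10462, e3 q11051 L185482 q10461, e3 q11052 (flp_d L190792) q11652, e3 q11053 (flp_d L190770) q11650, e3 q11054 L190816 q11655, e3 q11055 (flp_d L185511) q10464, e3 q11056 (flp_d L190832) q11656, e3 q11057 L190844 q11658, e3 q11058 L190856 q11659, e3 q11059 (flp_d L185557) q10468, e3 q11060 (flp_d L185565) q10469, e3 q11061 L185579 q10572, e3 q11062 L185589 q10471, e3 q11063 (flp_d L190917) q11665, e3 q11064 L190931 q11667, e3 q11065 L190943 q11668, e3 q11066 (flp_d L185629) q10474,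 e3 q11067 (flp_d L185637) q10475, e3 q11068 L185645 q10603, e3 q11069 L185651 q10505, e3 q11070 (flp_d L185653) q10477, e3 q11071 L185667 q10483, trivial⟩ (by decide +kernel)

theorem ce_d_173 : ∀ r, r < 64 → sm gd (Qf (11072 + r)) = Qf (tab Gen.d (11072 + r)) :=
  edges_tab (sm gd) Qf (tab Gen.d) 11072 [(11072, 11394), (11073, 10485), (11074, 11630), (11075, 10481), (11076, 11684), (11077, 11676), (11078, 11678), (11079, 11686), (11080, 11681), (11081, 11624), (11082, 11687), (11083, 10488), (11084, 10566), (11085, 10490), (11086, 11692), (11087, 11694), (11088, 11695), (11089, 10493), (11090, 10494), (11091, 11091), (11092, 11661), (11093, 10567), (11094, 11414), (11095, 11406), (11096, 10499), (11097, 11705), (11098, 10500), (11099, 10501), (11100, 10502), (11101, 11707), (11102, 11672), (11103, 11675), (11104, 11428), (11105, 11431), (11106, 10509), (11107, 10510), (11108, 10511), (11109, 10512), (11110, 11716), (11111, 11134), (11112, 11137), (11113, 11327), (11114, 11641), (11115,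 10519), (11116, 11724), (11117, 11725), (11118, 10522), (11119, 10523), (11120, 10581), (11121, 10983), (11122, 10569), (11123, 11466), (11124, 10570), (11125, 11349), (11126, 10528), (11127, 11737), (11128, 10529), (11129, 10530), (11130, 10531), (11131, 10587), (11132, 11739), (11133, 10588), (11134, 11111), (11135, 10590)]
    ⟨e3 q11072 (flp_d L188440) q11394, e3 q11073 L185673 q10485, e3 q11074 (flp_d L190606) q11630, e3 q11075 L185681 q10481, e3 q11076 (flp_d L191051) q11684, e3 q11077 (flp_d L191013) q11676, e3 q11078 (flp_d L191025) q11678, e3 q11079 L191065 q11686, e3 q11080 (flp_d L191039) q11681, e3 q11081 (flp_d L190536) q11624, e3 q11082 L191071 q11687, e3 q11083 (flp_d L185742) q10488, e3 q11084 L185758 q10566, e3 q11085 L185768 q10490, e3 q11086 (flp_d L191128) q11692, e3 q11087 L191140 q11694, e3 q11088 L191150 q11695, e3 q11089 (flp_d L185804) q10493, e3 q11090 (flp_d L185812) q10494, e3 q11091 L185828 q11091, e3 q11092 (flp_d L190885) q11661, e3 q11093 L185843 q10567, e3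 q11094 (flp_d L188645) q11414, e3 q11095 (flp_d L188559) q11406, e3 q11096 L185863 q10499, e3 q11097 (flp_d L191234) q11705, e3 q11098 (flp_d L185875) q10500, e3 q11099 (flp_d L185881) q10501, e3 q11100 (flp_d L185889) q10502, e3 q11101 (flp_d L191254) q11707, e3 q11102 (flp_d L190983) q11672, e3 q11103 (flp_d L190999) q11675, e3 q11104 (flp_d L188758) q11428, e3 q11105 (flp_d L188782) q11431, e3 q11106 L185927 q10509, e3 q11107 (flp_d L185931) q10510, e3 q11108 (flp_d L185939) q10511, e3 q11109 (flp_d L185951) q10512, e3 q11110 (flp_d L191318) q11716, e3 q11111 (flp_d L186167) q11134, e3 q11112 (flp_d L186193) q11137, e3 q11113 (flp_d L187726) q11327, e3 q11114 (flp_d L190704) q11641, e3 q11115 L185997 q10519, e3 q11116 L191376 q11724, e3 q11117 L191388 q11725, e3 q11118 (flp_d L186031) q10522, e3 q11119 (flp_d L186039) q10523, e3 q11120 L186055 q10581, e3 q11121 L186065 q10983, e3 q11122 L186073 q10569, e3 q11123 (flp_d L189157) q11466, e3 q11124 L186081 q10570, e3 q11125 (flp_d L187967)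 q11349, e3 q11126 L186097 q10528, e3 q11127 (flp_d L191496) q11737, e3 q11128 (flp_d L186107) q10529, e3 q11129 (flp_d L186113) q10530, e3 q11130 (flp_d L186125) q10531, e3 q11131 L186143 q10587, e3 q11132 (flp_d L191516) q11739, e3 q11133 L186157 q10588, e3 q11134 L186167 q11111, e3 q11135 L186171 q10590, trivial⟩ (by decide +kernel)

theorem ce_d_174 : ∀ r, r < 64 → sm gd (Qf (11136 + r)) = Qf (tab Gen.d (11136 + r)) :=
  edges_tab (sm gd) Qf (tab Gen.d) 11136 [(11136, 11747), (11137, 11112), (11138, 11481), (11139, 11735), (11140, 11483), (11141, 11459), (11142, 11460), (11143, 10542), (11144, 10564), (11145, 10547), (11146, 11147), (11147, 11146), (11148, 11027), (11149, 11756), (11150, 11662), (11151, 11281), (11152, 11249), (11153, 10551), (11154, 11764), (11155, 11286), (11156, 11502), (11157, 11348), (11158, 11505), (11159, 11557), (11160, 11558), (11161, 11715), (11162, 11690), (11163, 10718), (11164, 11663), (11165, 10575), (11166, 11306), (11167, 10576), (11168, 10577), (11169,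 11726), (11170, 11728), (11171, 11730), (11172, 11738), (11173, 11772), (11174, 11773), (11175, 10591), (11176, 10608), (11177, 11774), (11178, 10908), (11179, 11238), (11180, 10600), (11181, 11669), (11182, 11671), (11183, 11673), (11184, 10607), (11185, 11775), (11186, 10609), (11187, 11706), (11188, 10612), (11189, 11189), (11190, 11781), (11191, 10614), (11192, 10615), (11193, 10619), (11194, 10617), (11195, 11790), (11196, 11786), (11197, 10905), (11198, 11788), (11199, 11795)]
    ⟨e3 q11136 L191582 q11747, e3 q11137 L186193 q11112, e3 q11138 (flp_d L189282) q11481, e3 q11139 (flp_d L191484) q11735, e3 q11140 (flp_d L189292) q11483, e3 q11141 (flp_d L189092) q11459, e3 q11142 (flp_d L189098) q11460, e3 q11143 L186229 q10542, e3 q11144 L186241 q10564, e3 q11145 L186247 q10547, e3 q11146 (flp_d L186263) q11147, e3 q11147 L186263 q11146, e3 q11148 L186273 q11027, e3 q11149 (flp_d L191656) q11756, e3 q11150 (flp_d L190893) q11662, e3 q11151 (flp_d L187284) q11281, e3 q11152 (flp_d L187068)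 q11249, e3 q11153 (flp_d L186297) q10551, e3 q11154 (flp_d L191710) q11764, e3 q11155 (flp_d L187314) q11286, e3 q11156 (flp_d L189412) q11502, e3 q11157 (flp_d L187955) q11348, e3 q11158 (flp_d L189432) q11505, e3 q11159 (flp_d L189935) q11557, e3 q11160 (flp_d L189945) q11558, e3 q11161 (flp_d L191308) q11715, e3 q11162 (flp_d L191102) q11690, e3 q11163 L186355 q10718, e3 q11164 (flp_d L190897) q11663, e3 q11165 L186375 q10575, e3 q11166 (flp_d L187476) q11306, e3 q11167 (flp_d L186394) q10576, e3 q11168 (flp_d L186406) q10577, e3 q11169 (flp_d L191410) q11726, e3 q11170 (flp_d L191426) q11728, e3 q11171 (flp_d L191440) q11730, e3 q11172 (flp_d L191510) q11738, e3 q11173 L191766 q11772, e3 q11174 L191776 q11773, e3 q11175 (flp_d L186481) q10591, e3 q11176 L186493 q10608, e3 q11177 (flp_d L191789) q11774, e3 q11178 L186511 q10908, e3 q11179 (flp_d L186991) q11238, e3 q11180 (flp_d L186533) q10600, e3 q11181 (flp_d L190965) q11669, e3 q11182 (flp_d L190977) q11671, e3 q11183 (flp_d L190987)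 q11673, e3 q11184 L186573 q10607, e3 q11185 (flp_d L191808) q11775, e3 q11186 L186595 q10609, e3 q11187 (flp_d L191246) q11706, e3 q11188 (flp_d L186609) q10612, e3 q11189 L186621 q11189, e3 q11190 (flp_d L191860) q11781, e3 q11191 (flp_d L186630) q10614, e3 q11192 (flp_d L186638) q10615, e3 q11193 L186656 q10619, e3 q11194 L186664 q10617, e3 q11195 (flp_d L191937) q11790, e3 q11196 (flp_d L191905) q11786, e3 q11197 L186691 q10905, e3 q11198 (flp_d L191921) q11788, e3 q11199 L191974 q11795, trivial⟩ (by decide +kernel)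

theorem ce_d_175 : ∀ r, r < 64 → sm gd (Qf (11200 + r)) = Qf (tab Gen.d (11200 + r)) :=
  edges_tab (sm gd) Qf (tab Gen.d) 11200 [(11200, 11457), (11201, 10622), (11202, 11202), (11203, 11785), (11204, 10627), (11205, 11339), (11206, 10626), (11207, 11805), (11208, 10628), (11209, 11209), (11210, 10998), (11211, 10657), (11212, 11812), (11213, 10633), (11214, 10632), (11215, 11815), (11216, 11814), (11217, 10634), (11218, 10635), (11219, 10649), (11220, 11818), (11221, 10650), (11222, 11012), (11223, 10652), (11224, 11828), (11225, 11014), (11226, 11521), (11227, 11402), (11228, 10646), (11229, 11375), (11230, 11376), (11231, 10645), (11232, 11819), (11233, 11823), (11234, 11838), (11235, 11826), (11236, 11840), (11237, 10653), (11238, 11179), (11239, 10656), (11240, 10658), (11241, 10660), (11242, 11843), (11243, 10661), (11244, 10662), (11245, 11245), (11246, 10678), (11247, 10664), (11248, 10670), (11249, 11152), (11250, 10672), (11251, 11396), (11252, 10668), (11253, 11859), (11254,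 11851), (11255, 11853), (11256, 11861), (11257, 11856), (11258, 10673), (11259, 10674), (11260, 11260), (11261, 11863), (11262, 11262), (11263, 11847)]
    ⟨e3 q11200 (flp_d L189066) q11457, e3 q11201 (flp_d L186711) q10622, e3 q11202 L186725 q11202, e3 q11203 (flp_d L191893) q11785, e3 q11204 L186734 q10627, e3 q11205 (flp_d L187859) q11339, e3 q11206 L186750 q10626, e3 q11207 (flp_d L192046) q11805, e3 q11208 (flp_d L186760) q10628, e3 q11209 L186770 q11209, e3 q11210 L186777 q10998, e3 q11211 L186781 q10657, e3 q11212 L192090 q11812, e3 q11213 L186793 q10633, e3 q11214 (flp_d L186795) q10632, e3 q11215 (flp_d L192108) q11815, e3 q11216 (flp_d L192104) q11814, e3 q11217 (flp_d L186811) q10634, e3 q11218 (flp_d L186821) q10635, e3 q11219 L186837 q10649, e3 q11220 (flp_d L192130) q11818, e3 q11221 L186851 q10650, e3 q11222 L186859 q11012, e3 q11223 L186863 q10652, e3 q11224 L192204 q11828, e3 q11225 L186879 q11014, e3 q11226 (flp_d L189595) q11521, e3 q11227 (flp_d L188514) q11402, e3 q11228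 L186897 q10646, e3 q11229 (flp_d L188239) q11375, e3 q11230 (flp_d L188247) q11376, e3 q11231 L186917 q10645, e3 q11232 (flp_d L192140) q11819, e3 q11233 (flp_d L192168) q11823, e3 q11234 L192284 q11838, e3 q11235 (flp_d L192190) q11826, e3 q11236 L192309 q11840, e3 q11237 (flp_d L186969) q10653, e3 q11238 L186991 q11179, e3 q11239 (flp_d L186995) q10656, e3 q11240 (flp_d L186999) q10658, e3 q11241 L187005 q10660, e3 q11242 (flp_d L192331) q11843, e3 q11243 (flp_d L187015) q10661, e3 q11244 (flp_d L187027) q10662, e3 q11245 L187037 q11245, e3 q11246 L187042 q10678, e3 q11247 (flp_d L187044) q10664, e3 q11248 L187060 q10670, e3 q11249 L187068 q11152, e3 q11250 L187072 q10672, e3 q11251 (flp_d L188456) q11396, e3 q11252 L187084 q10668, e3 q11253 (flp_d L192460) q11859, e3 q11254 (flp_d L192400) q11851, e3 q11255 (flp_d L192416) q11853, e3 q11256 L192477 q11861, e3 q11257 (flp_d L192442) q11856, e3 q11258 (flp_d L187132) q10673, e3 q11259 (flp_d L187144) q10674, e3 q11260 L187158 q11260, e3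 q11261 (flp_d L192510) q11863, e3 q11262 L187169 q11262, e3 q11263 (flp_d L192369) q11847, trivial⟩ (by decide +kernel)

theorem ce_d_176 : ∀ r, r < 64 → sm gd (Qf (11264 + r)) = Qf (tab Gen.d (11264 + r)) :=
  edges_tab (sm gd) Qf (tab Gen.d) 11264 [(11264, 11870), (11265, 11850), (11266, 11574), (11267, 11441), (11268, 11434), (11269, 10683), (11270, 10704), (11271, 10688), (11272, 10705), (11273, 11718), (11274, 10706), (11275, 11717), (11276, 10708), (11277, 11884), (11278, 11877), (11279, 10710), (11280, 11889), (11281, 11151), (11282, 10712), (11283, 11893), (11284, 10692), (11285, 11895), (11286, 11155), (11287, 11524), (11288, 11409), (11289, 11354), (11290, 10697), (11291, 11900), (11292, 11649), (11293, 11506), (11294, 11507), (11295, 11508), (11296, 10716), (11297, 11880), (11298, 11905), (11299, 10709), (11300, 11887), (11301, 11907), (11302, 10711), (11303, 11909), (11304, 10713), (11305, 10722), (11306, 11166), (11307, 10723), (11308, 10724), (11309, 11309), (11310, 11913),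 (11311, 10726), (11312, 10727), (11313, 10731), (11314, 10729), (11315, 11922), (11316, 11918), (11317, 10952), (11318, 11920), (11319, 10928), (11320, 10789), (11321, 10984), (11322, 10734), (11323, 10737), (11324, 10736), (11325, 11933), (11326, 10790), (11327, 11113)]
    ⟨e3 q11264 L192553 q11870, e3 q11265 (flp_d L192386) q11850, e3 q11266 (flp_d L190100) q11574, e3 q11267 (flp_d L188887) q11441, e3 q11268 (flp_d L188816) q11434, e3 q11269 L187206 q10683, e3 q11270 L187218 q10704, e3 q11271 L187222 q10688, e3 q11272 L187230 q10705, e3 q11273 (flp_d L191340) q11718, e3 q11274 L187244 q10706, e3 q11275 (flp_d L191330) q11717, e3 q11276 L187252 q10708, e3 q11277 L192646 q11884, e3 q11278 (flp_d L192598) q11877, e3 q11279 L187272 q10710, e3 q11280 L192690 q11889, e3 q11281 L187284 q11151, e3 q11282 L187290 q10712, e3 q11283 L192716 q11893, e3 q11284 (flp_d L187300) q10692, e3 q11285 (flp_d L192732) q11895, e3 q11286 L187314 q11155, e3 q11287 (flp_d L189631) q11524, e3 q11288 (flp_d L188583)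 q11409, e3 q11289 (flp_d L188025) q11354, e3 q11290 (flp_d L187330) q10697, e3 q11291 (flp_d L192756) q11900, e3 q11292 (flp_d L190764) q11649, e3 q11293 (flp_d L189440) q11506, e3 q11294 (flp_d L189446) q11507, e3 q11295 (flp_d L189452) q11508, e3 q11296 L187368 q10716, e3 q11297 (flp_d L192616) q11880, e3 q11298 L192788 q11905, e3 q11299 (flp_d L187400) q10709, e3 q11300 (flp_d L192678) q11887, e3 q11301 L192813 q11907, e3 q11302 (flp_d L187434) q10711, e3 q11303 L192830 q11909, e3 q11304 (flp_d L187450) q10713, e3 q11305 L187456 q10722, e3 q11306 L187476 q11166, e3 q11307 (flp_d L187480) q10723, e3 q11308 (flp_d L187494) q10724, e3 q11309 L187516 q11309, e3 q11310 (flp_d L192888) q11913, e3 q11311 (flp_d L187523) q10726, e3 q11312 (flp_d L187537) q10727, e3 q11313 L187557 q10731, e3 q11314 L187567 q10729, e3 q11315 (flp_d L192983) q11922, e3 q11316 (flp_d L192945) q11918, e3 q11317 L187600 q10952, e3 q11318 (flp_d L192961) q11920, e3 q11319 L187626 q10928, e3 q11320 L187640 q10789, e3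 q11321 L187652 q10984, e3 q11322 (flp_d L187654) q10734, e3 q11323 L187680 q10737, e3 q11324 L187692 q10736, e3 q11325 (flp_d L193125) q11933, e3 q11326 L187714 q10790, e3 q11327 L187726 q11113, trivial⟩ (by decide +kernel)

theorem ce_d_177 : ∀ r, r < 64 → sm gd (Qf (11328 + r)) = Qf (tab Gen.d (11328 + r)) :=
  edges_tab (sm gd) Qf (tab Gen.d) 11328 [(11328, 10739), (11329, 10742), (11330, 11939), (11331, 11938), (11332, 10743), (11333, 10744), (11334, 11334), (11335, 11917), (11336, 10750), (11337, 10969), (11338, 10751), (11339, 11205), (11340, 10749), (11341, 11953), (11342, 10954), (11343, 10755), (11344, 10754), (11345, 11956), (11346, 11016), (11347, 10898), (11348, 11157), (11349, 11125), (11350, 10761), (11351, 11962), (11352, 10762), (11353, 10765), (11354, 11289), (11355, 11964), (11356, 10766), (11357, 11381), (11358, 11000), (11359, 10771), (11360, 10770), (11361, 11971), (11362, 11970), (11363, 10772), (11364, 10773), (11365, 11876), (11366, 10786), (11367, 10796), (11368,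 10787), (11369, 11651), (11370, 11528), (11371, 11015), (11372, 11901), (11373, 11017), (11374, 10785), (11375, 11229), (11376, 11230), (11377, 10784), (11378, 11979), (11379, 10791), (11380, 10793), (11381, 11357), (11382, 11755), (11383, 11978), (11384, 10797), (11385, 11993), (11386, 10799), (11387, 10801), (11388, 11996), (11389, 10802), (11390, 11390), (11391, 10833)]
    ⟨e3 q11328 (flp_d L187728) q10739, e3 q11329 L187756 q10742, e3 q11330 L193197 q11939, e3 q11331 (flp_d L193191) q11938, e3 q11332 (flp_d L187774) q10743, e3 q11333 (flp_d L187786) q10744, e3 q11334 L187804 q11334, e3 q11335 (flp_d L192931) q11917, e3 q11336 L187823 q10750, e3 q11337 L187835 q10969, e3 q11338 L187839 q10751, e3 q11339 L187859 q11205, e3 q11340 L187865 q10749, e3 q11341 (flp_d L193358) q11953, e3 q11342 L187891 q10954, e3 q11343 L187905 q10755, e3 q11344 L187917 q10754, e3 q11345 (flp_d L193396) q11956, e3 q11346 L187939 q11016, e3 q11347 L187949 q10898, e3 q11348 L187955 q11157, e3 q11349 L187967 q11125,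 e3 q11350 L187975 q10761, e3 q11351 (flp_d L193462) q11962, e3 q11352 (flp_d L187987) q10762, e3 q11353 L188015 q10765, e3 q11354 L188025 q11289, e3 q11355 (flp_d L193492) q11964, e3 q11356 (flp_d L188035) q10766, e3 q11357 (flp_d L188305) q11381, e3 q11358 L188073 q11000, e3 q11359 L188081 q10771, e3 q11360 (flp_d L188083) q10770, e3 q11361 (flp_d L193572) q11971, e3 q11362 (flp_d L193560) q11970, e3 q11363 (flp_d L188109) q10772, e3 q11364 (flp_d L188123) q10773, e3 q11365 (flp_d L192594) q11876, e3 q11366 L188147 q10786, e3 q11367 L188157 q10796, e3 q11368 L188161 q10787, e3 q11369 (flp_d L190786) q11651, e3 q11370 (flp_d L189667) q11528, e3 q11371 L188197 q11015, e3 q11372 (flp_d L192770) q11901, e3 q11373 L188213 q11017, e3 q11374 L188221 q10785, e3 q11375 L188239 q11229, e3 q11376 L188247 q11230, e3 q11377 L188253 q10784, e3 q11378 (flp_d L193650) q11979, e3 q11379 (flp_d L188267) q10791, e3 q11380 L188293 q10793, e3 q11381 L188305 q11357, e3 q11382 (flp_d L191652) q11755, e3 q11383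 (flp_d L193642) q11978, e3 q11384 (flp_d L188327) q10797, e3 q11385 (flp_d L193809) q11993, e3 q11386 (flp_d L188351) q10799, e3 q11387 L188375 q10801, e3 q11388 (flp_d L193841) q11996, e3 q11389 (flp_d L188385) q10802, e3 q11390 L188403 q11390, e3 q11391 L188408 q10833, trivial⟩ (by decide +kernel)

theorem ce_d_178 : ∀ r, r < 64 → sm gd (Qf (11392 + r)) = Qf (tab Gen.d (11392 + r)) :=
  edges_tab (sm gd) Qf (tab Gen.d) 11392 [(11392, 10804), (11393, 10809), (11394, 11072), (11395, 10811), (11396, 11251), (11397, 10808), (11398, 12009), (11399, 12010), (11400, 12006), (11401, 10930), (11402, 11227), (11403, 11403), (11404, 11945), (11405, 10818), (11406, 11095), (11407, 10817), (11408, 12018), (11409, 11288), (11410, 10820), (11411, 10821), (11412, 10934), (11413, 11995), (11414, 11094), (11415, 10929), (11416, 10826), (11417, 12027), (11418, 10827), (11419, 10828), (11420, 10829), (11421, 11421), (11422, 12029), (11423, 11423), (11424, 11931), (11425, 11425), (11426, 12041), (11427, 12002),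 (11428, 11104), (11429, 10841), (11430, 11928), (11431, 11105), (11432, 10842), (11433, 11001), (11434, 11268), (11435, 10840), (11436, 11436), (11437, 11443), (11438, 10883), (11439, 10846), (11440, 12054), (11441, 11267), (11442, 11442), (11443, 11437), (11444, 10918), (11445, 11040), (11446, 10851), (11447, 12061), (11448, 10852), (11449, 10904), (11450, 11787), (11451, 10906), (11452, 11549), (11453, 11519), (11454, 10959), (11455, 10863)]
    ⟨e3 q11392 (flp_d L188410) q10804, e3 q11393 L188432 q10809, e3 q11394 L188440 q11072, e3 q11395 L188444 q10811, e3 q11396 L188456 q11251, e3 q11397 L188460 q10808, e3 q11398 (flp_d L193967) q12009, e3 q11399 L193969 q12010, e3 q11400 (flp_d L193943) q12006, e3 q11401 L188500 q10930, e3 q11402 L188514 q11227, e3 q11403 L188528 q11403, e3 q11404 (flp_d L193275) q11945, e3 q11405 L188539 q10818, e3 q11406 L188559 q11095, e3 q11407 L188565 q10817, e3 q11408 (flp_d L194068) q12018, e3 q11409 L188583 q11288, e3 q11410 (flp_d L188589) q10820, e3 q11411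 (flp_d L188601) q10821, e3 q11412 L188621 q10934, e3 q11413 (flp_d L193833) q11995, e3 q11414 L188645 q11094, e3 q11415 L188659 q10929, e3 q11416 L188667 q10826, e3 q11417 (flp_d L194178) q12027, e3 q11418 (flp_d L188679) q10827, e3 q11419 (flp_d L188683) q10828, e3 q11420 (flp_d L188697) q10829, e3 q11421 L188713 q11421, e3 q11422 (flp_d L194195) q12029, e3 q11423 L188724 q11423, e3 q11424 (flp_d L193103) q11931, e3 q11425 L188733 q11425, e3 q11426 L194299 q12041, e3 q11427 (flp_d L193901) q12002, e3 q11428 L188758 q11104, e3 q11429 L188762 q10841, e3 q11430 (flp_d L193062) q11928, e3 q11431 L188782 q11105, e3 q11432 L188792 q10842, e3 q11433 L188810 q11001, e3 q11434 L188816 q11268, e3 q11435 L188822 q10840, e3 q11436 L188838 q11436, e3 q11437 (flp_d L188916) q11443, e3 q11438 L188859 q10883, e3 q11439 L188865 q10846, e3 q11440 (flp_d L194426) q12054, e3 q11441 L188887 q11267, e3 q11442 L188905 q11442, e3 q11443 L188916 q11437, e3 q11444 L188920 q10918, e3 q11445 L188942 q11040, e3 q11446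 L188950 q10851, e3 q11447 (flp_d L194517) q12061, e3 q11448 (flp_d L188968) q10852, e3 q11449 L188992 q10904, e3 q11450 (flp_d L191917) q11787, e3 q11451 L189004 q10906, e3 q11452 (flp_d L189865) q11549, e3 q11453 (flp_d L189559) q11519, e3 q11454 L189034 q10959, e3 q11455 L189038 q10863, trivial⟩ (by decide +kernel)

theorem ce_d_179 : ∀ r, r < 64 → sm gd (Qf (11456 + r)) = Qf (tab Gen.d (11456 + r)) :=
  edges_tab (sm gd) Qf (tab Gen.d) 11456 [(11456, 12072), (11457, 11200), (11458, 10864), (11459, 11141), (11460, 11142), (11461, 10862), (11462, 10865), (11463, 10866), (11464, 11464), (11465, 11573), (11466, 11123), (11467, 11955), (11468, 10871), (11469, 12084), (11470, 10872), (11471, 10873), (11472, 10874), (11473, 11473), (11474, 12086), (11475, 11475), (11476, 11637), (11477, 11477), (11478, 12097), (11479, 11639), (11480, 10919), (11481, 11138), (11482, 12102), (11483, 11140), (11484, 10962), (11485, 12053), (11486, 10885), (11487, 10890), (11488, 11709), (11489, 10910), (11490,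 11708), (11491, 10911), (11492, 11821), (11493, 12107), (11494, 10912), (11495, 12117), (11496, 11647), (11497, 10914), (11498, 12121), (11499, 10894), (11500, 12123), (11501, 11648), (11502, 11156), (11503, 10991), (11504, 11959), (11505, 11158), (11506, 11293), (11507, 11294), (11508, 11295), (11509, 12063), (11510, 12130), (11511, 12066), (11512, 12109), (11513, 12115), (11514, 12132), (11515, 10913), (11516, 12134), (11517, 10915), (11518, 10920), (11519, 11453)]
    ⟨e3 q11456 L194633 q12072, e3 q11457 L189066 q11200, e3 q11458 L189076 q10864, e3 q11459 L189092 q11141, e3 q11460 L189098 q11142, e3 q11461 L189102 q10862, e3 q11462 (flp_d L189106) q10865, e3 q11463 (flp_d L189118) q10866, e3 q11464 L189138 q11464, e3 q11465 (flp_d L190090) q11573, e3 q11466 L189157 q11123, e3 q11467 (flp_d L193388) q11955, e3 q11468 L189173 q10871, e3 q11469 (flp_d L194758) q12084, e3 q11470 (flp_d L189183) q10872, e3 q11471 (flp_d L189193) q10873, e3 q11472 (flp_d L189205) q10874, e3 q11473 L189221 q11473,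 e3 q11474 (flp_d L194785) q12086, e3 q11475 L189232 q11475, e3 q11476 (flp_d L190680) q11637, e3 q11477 L189241 q11477, e3 q11478 L194872 q12097, e3 q11479 (flp_d L190692) q11639, e3 q11480 L189270 q10919, e3 q11481 L189282 q11138, e3 q11482 L194913 q12102, e3 q11483 L189292 q11140, e3 q11484 L189304 q10962, e3 q11485 (flp_d L194416) q12053, e3 q11486 L189314 q10885, e3 q11487 L189320 q10890, e3 q11488 (flp_d L191274) q11709, e3 q11489 L189334 q10910, e3 q11490 (flp_d L191264) q11708, e3 q11491 L189342 q10911, e3 q11492 (flp_d L192156) q11821, e3 q11493 (flp_d L194957) q12107, e3 q11494 L189366 q10912, e3 q11495 L195027 q12117, e3 q11496 (flp_d L190750) q11647, e3 q11497 L189382 q10914, e3 q11498 L195055 q12121, e3 q11499 (flp_d L189394) q10894, e3 q11500 (flp_d L195071) q12123, e3 q11501 (flp_d L190758) q11648, e3 q11502 L189412 q11156, e3 q11503 L189422 q10991, e3 q11504 (flp_d L193432) q11959, e3 q11505 L189432 q11158, e3 q11506 L189440 q11293, e3 q11507 L189446 q11294, e3 q11508 L189452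 q11295, e3 q11509 (flp_d L194539) q12063, e3 q11510 L195117 q12130, e3 q11511 (flp_d L194575) q12066, e3 q11512 (flp_d L194967) q12109, e3 q11513 (flp_d L195015) q12115, e3 q11514 L195135 q12132, e3 q11515 (flp_d L189516) q10913, e3 q11516 L195154 q12134, e3 q11517 (flp_d L189533) q10915, e3 q11518 (flp_d L189539) q10920, e3 q11519 L189559 q11453, trivial⟩ (by decide +kernel)

theorem ce_d_180 : ∀ r, r < 64 → sm gd (Qf (11520 + r)) = Qf (tab Gen.d (11520 + r)) :=
  edges_tab (sm gd) Qf (tab Gen.d) 11520 [(11520, 11033), (11521, 11226), (11522, 11031), (11523, 11032), (11524, 11287), (11525, 11927), (11526, 12026), (11527, 12011), (11528, 11370), (11529, 10933), (11530, 12021), (11531, 11614), (11532, 11532), (11533, 11845), (11534, 10938), (11535, 12147), (11536, 10939), (11537, 11537), (11538, 12150), (11539, 10941), (11540, 11540), (11541, 10944), (11542, 12158), (11543, 12157), (11544, 10945), (11545, 10968), (11546, 10951), (11547, 11919), (11548, 10953), (11549, 11452), (11550, 10950),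 (11551, 12169), (11552, 12163), (11553, 12172), (11554, 12166), (11555, 11954), (11556, 12059), (11557, 11159), (11558, 11160), (11559, 12045), (11560, 12070), (11561, 11852), (11562, 10963), (11563, 12105), (11564, 12179), (11565, 10964), (11566, 10965), (11567, 12181), (11568, 12161), (11569, 12162), (11570, 11950), (11571, 10971), (11572, 11572), (11573, 11465), (11574, 11266), (11575, 10975), (11576, 12190), (11577, 11577), (11578, 11591), (11579, 12016), (11580, 10980), (11581, 10979), (11582, 12195), (11583, 12194)]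
    ⟨e3 q11520 L189573 q11033, e3 q11521 L189595 q11226, e3 q11522 L189601 q11031, e3 q11523 L189613 q11032, e3 q11524 L189631 q11287, e3 q11525 (flp_d L193044) q11927, e3 q11526 (flp_d L194168) q12026, e3 q11527 (flp_d L193987) q12011, e3 q11528 L189667 q11370, e3 q11529 L189679 q10933, e3 q11530 (flp_d L194108) q12021, e3 q11531 (flp_d L190448) q11614, e3 q11532 L189718 q11532, e3 q11533 (flp_d L192354) q11845, e3 q11534 L189739 q10938, e3 q11535 (flp_d L195308) q12147, e3 q11536 (flp_d L189749) q10939, e3 q11537 L189771 q11537, e3 q11538 (flp_d L195343) q12150, e3 q11539 (flp_d L189784) q10941, e3 q11540 L189796 q11540, e3 q11541 L189801 q10944, e3 q11542 L195409 q12158, e3 q11543 (flp_d L195407) q12157, e3 q11544 (flp_d L189815) q10945, e3 q11545 L189837 q10968, e3 q11546 L189845 q10951, e3 q11547 (flp_d L192957) q11919, e3 q11548 L189853 q10953, e3 q11549 L189865 q11452, e3 q11550 L189871 q10950, e3 q11551 (flp_d L195496) q12169, e3 q11552 (flp_d L195448) q12163, e3 q11553 L195522 q12172,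 e3 q11554 (flp_d L195468) q12166, e3 q11555 (flp_d L193370) q11954, e3 q11556 (flp_d L194497) q12059, e3 q11557 L189935 q11159, e3 q11558 L189945 q11160, e3 q11559 (flp_d L194338) q12045, e3 q11560 (flp_d L194613) q12070, e3 q11561 (flp_d L192412) q11852, e3 q11562 L189985 q10963, e3 q11563 (flp_d L194947) q12105, e3 q11564 (flp_d L195592) q12179, e3 q11565 (flp_d L190001) q10964, e3 q11566 (flp_d L190011) q10965, e3 q11567 (flp_d L195612) q12181, e3 q11568 (flp_d L195436) q12161, e3 q11569 (flp_d L195442) q12162, e3 q11570 (flp_d L193324) q11950, e3 q11571 L190071 q10971, e3 q11572 L190083 q11572, e3 q11573 L190090 q11465, e3 q11574 L190100 q11266, e3 q11575 L190106 q10975, e3 q11576 (flp_d L195700) q12190, e3 q11577 L190126 q11577, e3 q11578 (flp_d L190264) q11591, e3 q11579 (flp_d L194052) q12016, e3 q11580 L190155 q10980, e3 q11581 (flp_d L190159) q10979, e3 q11582 (flp_d L195750) q12195, e3 q11583 (flp_d L195738) q12194, trivial⟩ (by decide +kernel)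

theorem ce_d_181 : ∀ r, r < 64 → sm gd (Qf (11584 + r)) = Qf (tab Gen.d (11584 + r)) :=
  edges_tab (sm gd) Qf (tab Gen.d) 11584 [(11584, 12022), (11585, 11729), (11586, 11732), (11587, 11929), (11588, 10986), (11589, 10987), (11590, 11590), (11591, 11578), (11592, 12048), (11593, 10992), (11594, 12126), (11595, 12207), (11596, 10993), (11597, 10994), (11598, 11598), (11599, 12210), (11600, 11600), (11601, 11807), (11602, 12217), (11603, 11810), (11604, 11935), (11605, 11969), (11606, 12049), (11607, 11005), (11608, 11004), (11609, 11816), (11610, 12223), (11611, 11010), (11612, 11613), (11613, 11612), (11614, 11531), (11615, 12226), (11616, 12231), (11617, 11825), (11618, 11013), (11619, 12234), (11620, 11830), (11621, 11983), (11622, 11958), (11623, 11985), (11624, 11081), (11625, 11021), (11626, 11025), (11627, 11026), (11628, 12238), (11629, 11759), (11630, 11074), (11631, 11030), (11632, 12241), (11633, 12139), (11634, 11634), (11635, 12079), (11636, 11636), (11637, 11476), (11638,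 12246), (11639, 11479), (11640, 11949), (11641, 11114), (11642, 12060), (11643, 11042), (11644, 11045), (11645, 11963), (11646, 12252), (11647, 11496)]
    ⟨e3 q11584 (flp_d L194124) q12022, e3 q11585 (flp_d L191436) q11729, e3 q11586 (flp_d L191462) q11732, e3 q11587 (flp_d L193070) q11929, e3 q11588 L190227 q10986, e3 q11589 (flp_d L190233) q10987, e3 q11590 L190253 q11590, e3 q11591 L190264 q11578, e3 q11592 (flp_d L194368) q12048, e3 q11593 L190282 q10992, e3 q11594 (flp_d L195093) q12126, e3 q11595 (flp_d L195873) q12207, e3 q11596 (flp_d L190302) q10993, e3 q11597 (flp_d L190314) q10994, e3 q11598 L190336 q11598, e3 q11599 (flp_d L195910) q12210, e3 q11600 L190351 q11600, e3 q11601 (flp_d L192061) q11807, e3 q11602 L195973 q12217, e3 q11603 (flp_d L192080) q11810, e3 q11604 (flp_d L193153) q11935, e3 q11605 (flp_d L193548) q11969, e3 q11606 (flp_d L194376) q12049, e3 q11607 L190398 q11005, e3 q11608 L190402 q11004, e3 q11609 (flp_d L192114) q11816, e3 q11610 (flp_d L196018) q12223,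 e3 q11611 L190416 q11010, e3 q11612 (flp_d L190436) q11613, e3 q11613 L190436 q11612, e3 q11614 L190448 q11531, e3 q11615 (flp_d L196032) q12226, e3 q11616 L196074 q12231, e3 q11617 (flp_d L192184) q11825, e3 q11618 (flp_d L190478) q11013, e3 q11619 (flp_d L196110) q12234, e3 q11620 (flp_d L192228) q11830, e3 q11621 (flp_d L193692) q11983, e3 q11622 (flp_d L193418) q11958, e3 q11623 (flp_d L193712) q11985, e3 q11624 L190536 q11081, e3 q11625 (flp_d L190542) q11021, e3 q11626 L190564 q11025, e3 q11627 L190568 q11026, e3 q11628 (flp_d L196152) q12238, e3 q11629 (flp_d L191678) q11759, e3 q11630 L190606 q11074, e3 q11631 L190612 q11030, e3 q11632 (flp_d L196184) q12241, e3 q11633 (flp_d L195216) q12139, e3 q11634 L190644 q11634, e3 q11635 (flp_d L194716) q12079, e3 q11636 L190667 q11636, e3 q11637 L190680 q11476, e3 q11638 L196238 q12246, e3 q11639 L190692 q11479, e3 q11640 (flp_d L193316) q11949, e3 q11641 L190704 q11114, e3 q11642 (flp_d L194505) q12060, e3 q11643 L190716 q11042, e3 q11644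 L190724 q11045, e3 q11645 (flp_d L193482) q11963, e3 q11646 (flp_d L196279) q12252, e3 q11647 L190750 q11496, trivial⟩ (by decide +kernel)

theorem ce_d_182 : ∀ r, r < 64 → sm gd (Qf (11648 + r)) = Qf (tab Gen.d (11648 + r)) :=
  edges_tab (sm gd) Qf (tab Gen.d) 11648 [(11648, 11501), (11649, 11292), (11650, 11053), (11651, 11369), (11652, 11052), (11653, 12259), (11654, 12256), (11655, 11054), (11656, 11056), (11657, 12261), (11658, 11057), (11659, 11058), (11660, 11660), (11661, 11092), (11662, 11150), (11663, 11164), (11664, 11977), (11665, 11063), (11666, 12273), (11667, 11064), (11668, 11065), (11669, 11181), (11670, 12274), (11671, 11182), (11672, 11102), (11673, 11183), (11674, 11731), (11675, 11103), (11676, 11077), (11677, 12003), (11678, 11078), (11679, 12291), (11680, 12005), (11681, 11080), (11682, 11742), (11683, 12240), (11684, 11076), (11685, 12289), (11686, 11079), (11687, 11082), (11688, 11688), (11689, 12260), (11690, 11162), (11691, 11932), (11692, 11086), (11693, 12304),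 (11694, 11087), (11695, 11088), (11696, 11696), (11697, 12306), (11698, 11698), (11699, 12265), (11700, 12312), (11701, 12268), (11702, 12302), (11703, 12025), (11704, 12017), (11705, 11097), (11706, 11187), (11707, 11101), (11708, 11490), (11709, 11488), (11710, 12319), (11711, 12282)]
    ⟨e3 q11648 L190758 q11501, e3 q11649 L190764 q11292, e3 q11650 L190770 q11053, e3 q11651 L190786 q11369, e3 q11652 L190792 q11052, e3 q11653 (flp_d L196353) q12259, e3 q11654 (flp_d L196321) q12256, e3 q11655 (flp_d L190816) q11054, e3 q11656 L190832 q11056, e3 q11657 (flp_d L196371) q12261, e3 q11658 (flp_d L190844) q11057, e3 q11659 (flp_d L190856) q11058, e3 q11660 L190876 q11660, e3 q11661 L190885 q11092, e3 q11662 L190893 q11150, e3 q11663 L190897 q11164, e3 q11664 (flp_d L193636) q11977, e3 q11665 L190917 q11063, e3 q11666 (flp_d L196489) q12273, e3 q11667 (flp_d L190931) q11064, e3 q11668 (flp_d L190943) q11065, e3 q11669 L190965 q11181, e3 q11670 (flp_d L196505) q12274, e3 q11671 L190977 q11182,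 e3 q11672 L190983 q11102, e3 q11673 L190987 q11183, e3 q11674 (flp_d L191456) q11731, e3 q11675 L190999 q11103, e3 q11676 L191013 q11077, e3 q11677 (flp_d L193917) q12003, e3 q11678 L191025 q11078, e3 q11679 L196635 q12291, e3 q11680 (flp_d L193933) q12005, e3 q11681 L191039 q11080, e3 q11682 (flp_d L191546) q11742, e3 q11683 (flp_d L196174) q12240, e3 q11684 L191051 q11076, e3 q11685 (flp_d L196623) q12289, e3 q11686 (flp_d L191065) q11079, e3 q11687 (flp_d L191071) q11082, e3 q11688 L191091 q11688, e3 q11689 (flp_d L196365) q12260, e3 q11690 L191102 q11162, e3 q11691 (flp_d L193117) q11932, e3 q11692 L191128 q11086, e3 q11693 (flp_d L196745) q12304, e3 q11694 (flp_d L191140) q11087, e3 q11695 (flp_d L191150) q11088, e3 q11696 L191170 q11696, e3 q11697 (flp_d L196772) q12306, e3 q11698 L191185 q11698, e3 q11699 (flp_d L196422) q12265, e3 q11700 L196820 q12312, e3 q11701 (flp_d L196445) q12268, e3 q11702 (flp_d L196731) q12302, e3 q11703 (flp_d L194154) q12025, e3 q11704 (flp_d L194058)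 q12017, e3 q11705 L191234 q11097, e3 q11706 L191246 q11187, e3 q11707 L191254 q11101, e3 q11708 L191264 q11490, e3 q11709 L191274 q11488, e3 q11710 (flp_d L196873) q12319, e3 q11711 (flp_d L196573) q12282, trivial⟩ (by decide +kernel)

theorem ce_d_183 : ∀ r, r < 64 → sm gd (Qf (11712 + r)) = Qf (tab Gen.d (11712 + r)) :=
  edges_tab (sm gd) Qf (tab Gen.d) 11712 [(11712, 12286), (11713, 12044), (11714, 12047), (11715, 11161), (11716, 11110), (11717, 11275), (11718, 11273), (11719, 12326), (11720, 11745), (11721, 11749), (11722, 11936), (11723, 12250), (11724, 11116), (11725, 11117), (11726, 11169), (11727, 12333), (11728, 11170), (11729, 11585), (11730, 11171), (11731, 11674), (11732, 11586), (11733, 12071), (11734, 12082), (11735, 11139), (11736, 11961), (11737, 11127), (11738, 11172), (11739, 11132), (11740, 11741), (11741, 11740), (11742, 11682), (11743, 12348), (11744, 12353), (11745, 11720), (11746, 12356), (11747, 11136), (11748, 12358), (11749, 11721), (11750, 12101), (11751, 12345),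 (11752, 12104), (11753, 12075), (11754, 12076), (11755, 11382), (11756, 11149), (11757, 11758), (11758, 11757), (11759, 11629), (11760, 12364), (11761, 12269), (11762, 11891), (11763, 11855), (11764, 11154), (11765, 12370), (11766, 12125), (11767, 11960), (11768, 12175), (11769, 12270), (11770, 12332), (11771, 12337), (11772, 11173), (11773, 11174), (11774, 11177), (11775, 11185)]
    ⟨e3 q11712 (flp_d L196599) q12286, e3 q11713 (flp_d L194320) q12044, e3 q11714 (flp_d L194350) q12047, e3 q11715 L191308 q11161, e3 q11716 L191318 q11110, e3 q11717 L191330 q11275, e3 q11718 L191340 q11273, e3 q11719 (flp_d L196925) q12326, e3 q11720 (flp_d L191568) q11745, e3 q11721 (flp_d L191604) q11749, e3 q11722 (flp_d L193161) q11936, e3 q11723 (flp_d L196267) q12250, e3 q11724 (flp_d L191376) q11116, e3 q11725 (flp_d L191388) q11117, e3 q11726 L191410 q11169, e3 q11727 (flp_d L197001) q12333, e3 q11728 L191426 q11170, e3 q11729 L191436 q11585, e3 q11730 L191440 q11171, e3 q11731 L191456 q11674, e3 q11732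 L191462 q11586, e3 q11733 (flp_d L194631) q12071, e3 q11734 (flp_d L194740) q12082, e3 q11735 L191484 q11139, e3 q11736 (flp_d L193452) q11961, e3 q11737 L191496 q11127, e3 q11738 L191510 q11172, e3 q11739 L191516 q11132, e3 q11740 (flp_d L191536) q11741, e3 q11741 L191536 q11740, e3 q11742 L191546 q11682, e3 q11743 (flp_d L197137) q12348, e3 q11744 L197181 q12353, e3 q11745 L191568 q11720, e3 q11746 L197209 q12356, e3 q11747 (flp_d L191582) q11136, e3 q11748 (flp_d L197235) q12358, e3 q11749 L191604 q11721, e3 q11750 (flp_d L194907) q12101, e3 q11751 (flp_d L197111) q12345, e3 q11752 (flp_d L194937) q12104, e3 q11753 (flp_d L194673) q12075, e3 q11754 (flp_d L194679) q12076, e3 q11755 L191652 q11382, e3 q11756 L191656 q11149, e3 q11757 (flp_d L191666) q11758, e3 q11758 L191666 q11757, e3 q11759 L191678 q11629, e3 q11760 (flp_d L197283) q12364, e3 q11761 (flp_d L196453) q12269, e3 q11762 (flp_d L192706) q11891, e3 q11763 (flp_d L192434) q11855, e3 q11764 L191710 q11154, e3 q11765 (flp_d L197331)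 q12370, e3 q11766 (flp_d L195083) q12125, e3 q11767 (flp_d L193440) q11960, e3 q11768 (flp_d L195554) q12175, e3 q11769 (flp_d L196463) q12270, e3 q11770 (flp_d L196987) q12332, e3 q11771 (flp_d L197037) q12337, e3 q11772 (flp_d L191766) q11173, e3 q11773 (flp_d L191776) q11174, e3 q11774 L191789 q11177, e3 q11775 L191808 q11185, trivial⟩ (by decide +kernel)

theorem ce_d_184 : ∀ r, r < 64 → sm gd (Qf (11776 + r)) = Qf (tab Gen.d (11776 + r)) :=
  edges_tab (sm gd) Qf (tab Gen.d) 11776 [(11776, 12275), (11777, 12277), (11778, 12280), (11779, 12283), (11780, 11780), (11781, 11190), (11782, 12376), (11783, 12375), (11784, 11784), (11785, 11203), (11786, 11196), (11787, 11450), (11788, 11198), (11789, 11921), (11790, 11195), (11791, 12388), (11792, 12382), (11793, 12391), (11794, 12385), (11795, 11199), (11796, 12392), (11797, 12074), (11798, 11798), (11799, 12154), (11800, 11800), (11801, 12399), (11802, 12381), (11803, 11951), (11804, 11952), (11805, 11207), (11806, 11806), (11807, 11601),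 (11808, 11808), (11809, 12408), (11810, 11603), (11811, 12100), (11812, 11212), (11813, 12412), (11814, 11216), (11815, 11215), (11816, 11609), (11817, 12416), (11818, 11220), (11819, 11232), (11820, 11937), (11821, 11492), (11822, 12419), (11823, 11233), (11824, 12426), (11825, 11617), (11826, 11235), (11827, 12430), (11828, 11224), (11829, 12432), (11830, 11620), (11831, 12138), (11832, 12012), (11833, 11986), (11834, 11987), (11835, 11988), (11836, 12424), (11837, 12437), (11838, 11234), (11839, 12438)]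
    ⟨e3 q11776 (flp_d L196519) q12275, e3 q11777 (flp_d L196537) q12277, e3 q11778 (flp_d L196561) q12280, e3 q11779 (flp_d L196579) q12283, e3 q11780 L191853 q11780, e3 q11781 L191860 q11190, e3 q11782 L197376 q12376, e3 q11783 (flp_d L197372) q12375, e3 q11784 L191886 q11784, e3 q11785 L191893 q11203, e3 q11786 L191905 q11196, e3 q11787 L191917 q11450, e3 q11788 L191921 q11198, e3 q11789 (flp_d L192977) q11921, e3 q11790 L191937 q11195, e3 q11791 (flp_d L197484) q12388, e3 q11792 (flp_d L197424) q12382, e3 q11793 L197514 q12391, e3 q11794 (flp_d L197460) q12385, e3 q11795 (flp_d L191974) q11199, e3 q11796 (flp_d L197524) q12392, e3 q11797 (flp_d L194663) q12074, e3 q11798 L192000 q11798, e3 q11799 (flp_d L195388) q12154, e3 q11800 L192011 q11800, e3 q11801 L197569 q12399, e3 q11802 (flp_d L197416) q12381, e3 q11803 (flp_d L193342) q11951, e3 q11804 (flp_d L193350) q11952, e3 q11805 L192046 q11207, e3 q11806 L192054 q11806, e3 q11807 L192061 q11601, e3 q11808 L192065 q11808, e3 q11809 L197631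 q12408, e3 q11810 L192080 q11603, e3 q11811 (flp_d L194899) q12100, e3 q11812 (flp_d L192090) q11212, e3 q11813 (flp_d L197660) q12412, e3 q11814 L192104 q11216, e3 q11815 L192108 q11215, e3 q11816 L192114 q11609, e3 q11817 (flp_d L197682) q12416, e3 q11818 L192130 q11220, e3 q11819 L192140 q11232, e3 q11820 (flp_d L193181) q11937, e3 q11821 L192156 q11492, e3 q11822 (flp_d L197704) q12419, e3 q11823 L192168 q11233, e3 q11824 L197764 q12426, e3 q11825 L192184 q11617, e3 q11826 L192190 q11235, e3 q11827 L197800 q12430, e3 q11828 (flp_d L192204) q11224, e3 q11829 (flp_d L197822) q12432, e3 q11830 L192228 q11620, e3 q11831 (flp_d L195206) q12138, e3 q11832 (flp_d L194003) q12012, e3 q11833 (flp_d L193728) q11986, e3 q11834 (flp_d L193736) q11987, e3 q11835 (flp_d L193746) q11988, e3 q11836 (flp_d L197750) q12424, e3 q11837 L197862 q12437, e3 q11838 (flp_d L192284) q11234, e3 q11839 L197872 q12438, trivial⟩ (by decide +kernel)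

theorem ce_d_185 : ∀ r, r < 64 → sm gd (Qf (11840 + r)) = Qf (tab Gen.d (11840 + r)) :=
  edges_tab (sm gd) Qf (tab Gen.d) 11840 [(11840, 11236), (11841, 11841), (11842, 11842), (11843, 11242), (11844, 11844), (11845, 11533), (11846, 11846), (11847, 11263), (11848, 11848), (11849, 12448), (11850, 11265), (11851, 11254), (11852, 11561), (11853, 11255), (11854, 12455), (11855, 11763), (11856, 11257), (11857, 12007), (11858, 12008), (11859, 11253), (11860, 12453), (11861, 11256), (11862, 11862), (11863, 11261), (11864, 11864), (11865, 11911), (11866, 12465), (11867, 12462), (11868, 12468), (11869, 12445), (11870, 11264), (11871, 12471), (11872, 12450), (11873, 12189), (11874, 12055), (11875, 12050), (11876, 11365), (11877, 11278), (11878, 11883), (11879, 12328), (11880, 11297), (11881, 12479), (11882, 12327), (11883, 11878), (11884, 11277), (11885, 12483), (11886, 12475), (11887, 11300), (11888, 12486), (11889, 11280), (11890, 12488), (11891, 11762), (11892, 12491), (11893, 11283), (11894,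 12493), (11895, 11285), (11896, 12495), (11897, 12140), (11898, 12019), (11899, 11965), (11900, 11291), (11901, 11372), (11902, 12498), (11903, 12128)]
    ⟨e3 q11840 (flp_d L192309) q11236, e3 q11841 L192321 q11841, e3 q11842 L192326 q11842, e3 q11843 L192331 q11242, e3 q11844 L192343 q11844, e3 q11845 L192354 q11533, e3 q11846 L192362 q11846, e3 q11847 L192369 q11263, e3 q11848 L192373 q11848, e3 q11849 L197960 q12448, e3 q11850 L192386 q11265, e3 q11851 L192400 q11254, e3 q11852 L192412 q11561, e3 q11853 L192416 q11255, e3 q11854 L198019 q12455, e3 q11855 L192434 q11763, e3 q11856 L192442 q11257, e3 q11857 (flp_d L193957) q12007, e3 q11858 (flp_d L193963) q12008, e3 q11859 L192460 q11253, e3 q11860 (flp_d L198001) q12453, e3 q11861 (flp_d L192477) q11256, e3 q11862 L192499 q11862, e3 q11863 L192510 q11261, e3 q11864 L192520 q11864, e3 q11865 (flp_d L192861) q11911, e3 q11866 L198107 q12465, e3 q11867 (flp_d L198085) q12462, e3 q11868 L198124 q12468, e3 q11869 (flp_d L197939) q12445, e3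 q11870 (flp_d L192553) q11264, e3 q11871 (flp_d L198145) q12471, e3 q11872 (flp_d L197973) q12450, e3 q11873 (flp_d L195692) q12189, e3 q11874 (flp_d L194440) q12055, e3 q11875 (flp_d L194384) q12050, e3 q11876 L192594 q11365, e3 q11877 L192598 q11278, e3 q11878 (flp_d L192644) q11883, e3 q11879 (flp_d L196945) q12328, e3 q11880 L192616 q11297, e3 q11881 L198203 q12479, e3 q11882 (flp_d L196933) q12327, e3 q11883 L192644 q11878, e3 q11884 (flp_d L192646) q11277, e3 q11885 (flp_d L198249) q12483, e3 q11886 (flp_d L198175) q12475, e3 q11887 L192678 q11300, e3 q11888 L198271 q12486, e3 q11889 (flp_d L192690) q11280, e3 q11890 (flp_d L198291) q12488, e3 q11891 L192706 q11762, e3 q11892 L198309 q12491, e3 q11893 (flp_d L192716) q11283, e3 q11894 (flp_d L198325) q12493, e3 q11895 L192732 q11285, e3 q11896 (flp_d L198337) q12495, e3 q11897 (flp_d L195230) q12140, e3 q11898 (flp_d L194080) q12019, e3 q11899 (flp_d L193506) q11965, e3 q11900 L192756 q11291, e3 q11901 L192770 q11372, e3 q11902 (flp_d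 L198353) q12498, e3 q11903 (flp_d L195107) q12128, trivial⟩ (by decide +kernel)

theorem ce_d_186 : ∀ r, r < 64 → sm gd (Qf (11904 + r)) = Qf (tab Gen.d (11904 + r)) :=
  edges_tab (sm gd) Qf (tab Gen.d) 11904 [(11904, 12129), (11905, 11298), (11906, 12501), (11907, 11301), (11908, 11908), (11909, 11303), (11910, 11910), (11911, 11865), (11912, 11912), (11913, 11310), (11914, 12508), (11915, 12507), (11916, 11916), (11917, 11335), (11918, 11316), (11919, 11547), (11920, 11318), (11921, 11789), (11922, 11315), (11923, 12520), (11924, 12514), (11925, 12521), (11926, 12517), (11927, 11525), (11928, 11430), (11929, 11587), (11930, 11930), (11931, 11424), (11932, 11691), (11933, 11325), (11934, 12528), (11935, 11604), (11936, 11722), (11937, 11820), (11938, 11331), (11939, 11330), (11940, 12533), (11941, 12532), (11942, 11942), (11943, 12212), (11944, 11944), (11945, 11404), (11946, 11946), (11947, 12541), (11948, 12513), (11949, 11640), (11950, 11570), (11951, 11803), (11952, 11804), (11953,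 11341), (11954, 11555), (11955, 11467), (11956, 11345), (11957, 12550), (11958, 11622), (11959, 11504), (11960, 11767), (11961, 11736), (11962, 11351), (11963, 11645), (11964, 11355), (11965, 11899), (11966, 12555), (11967, 11975)]
    ⟨e3 q11904 (flp_d L195115) q12129, e3 q11905 (flp_d L192788) q11298, e3 q11906 L198375 q12501, e3 q11907 (flp_d L192813) q11301, e3 q11908 L192829 q11908, e3 q11909 (flp_d L192830) q11303, e3 q11910 L192848 q11910, e3 q11911 L192861 q11865, e3 q11912 L192875 q11912, e3 q11913 L192888 q11310, e3 q11914 L198463 q12508, e3 q11915 (flp_d L198455) q12507, e3 q11916 L192918 q11916, e3 q11917 L192931 q11335, e3 q11918 L192945 q11316, e3 q11919 L192957 q11547, e3 q11920 L192961 q11318, e3 q11921 L192977 q11789, e3 q11922 L192983 q11315, e3 q11923 (flp_d L198609) q12520, e3 q11924 (flp_d L198529) q12514, e3 q11925 L198615 q12521, e3 q11926 (flp_d L198573) q12517, e3 q11927 L193044 q11525, e3 q11928 L193062 q11430, e3 q11929 L193070 q11587, e3 q11930 L193090 q11930,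 e3 q11931 L193103 q11424, e3 q11932 L193117 q11691, e3 q11933 L193125 q11325, e3 q11934 (flp_d L198719) q12528, e3 q11935 L193153 q11604, e3 q11936 L193161 q11722, e3 q11937 L193181 q11820, e3 q11938 L193191 q11331, e3 q11939 (flp_d L193197) q11330, e3 q11940 (flp_d L198795) q12533, e3 q11941 (flp_d L198779) q12532, e3 q11942 L193241 q11942, e3 q11943 (flp_d L195939) q12212, e3 q11944 L193262 q11944, e3 q11945 L193275 q11404, e3 q11946 L193279 q11946, e3 q11947 L198881 q12541, e3 q11948 (flp_d L198519) q12513, e3 q11949 L193316 q11640, e3 q11950 L193324 q11570, e3 q11951 L193342 q11803, e3 q11952 L193350 q11804, e3 q11953 L193358 q11341, e3 q11954 L193370 q11555, e3 q11955 L193388 q11467, e3 q11956 L193396 q11345, e3 q11957 (flp_d L198990) q12550, e3 q11958 L193418 q11622, e3 q11959 L193432 q11504, e3 q11960 L193440 q11767, e3 q11961 L193452 q11736, e3 q11962 L193462 q11351, e3 q11963 L193482 q11645, e3 q11964 L193492 q11355, e3 q11965 L193506 q11899, e3 q11966 (flp_d L199064) q12555, e3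 q11967 (flp_d L193616) q11975, trivial⟩ (by decide +kernel)

theorem ce_d_187 : ∀ r, r < 64 → sm gd (Qf (11968 + r)) = Qf (tab Gen.d (11968 + r)) :=
  edges_tab (sm gd) Qf (tab Gen.d) 11968 [(11968, 11990), (11969, 11605), (11970, 11362), (11971, 11361), (11972, 12023), (11973, 12560), (11974, 12182), (11975, 11967), (11976, 12474), (11977, 11664), (11978, 11383), (11979, 11378), (11980, 12257), (11981, 12258), (11982, 12143), (11983, 11621), (11984, 12499), (11985, 11623), (11986, 11833), (11987, 11834), (11988, 11835), (11989, 11989), (11990, 11968), (11991, 12363), (11992, 12566), (11993, 11385), (11994, 12576), (11995, 11413), (11996, 11388), (11997, 12579), (11998, 11998), (11999, 12203), (12000, 12000), (12001, 12583), (12002, 11427), (12003, 11677), (12004, 12587), (12005, 11680), (12006, 11400), (12007, 11857), (12008, 11858), (12009, 11398), (12010, 11399), (12011, 11527), (12012, 11832), (12013, 12013), (12014, 12595), (12015, 12539), (12016, 11579), (12017, 11704), (12018, 11408),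 (12019, 11898), (12020, 12334), (12021, 11530), (12022, 11584), (12023, 11972), (12024, 12578), (12025, 11703), (12026, 11526), (12027, 11417), (12028, 12028), (12029, 11422), (12030, 12032), (12031, 12031)]
    ⟨e3 q11968 (flp_d L193767) q11990, e3 q11969 L193548 q11605, e3 q11970 L193560 q11362, e3 q11971 L193572 q11361, e3 q11972 (flp_d L194138) q12023, e3 q11973 (flp_d L199132) q12560, e3 q11974 (flp_d L195628) q12182, e3 q11975 L193616 q11967, e3 q11976 (flp_d L198167) q12474, e3 q11977 L193636 q11664, e3 q11978 L193642 q11383, e3 q11979 L193650 q11378, e3 q11980 (flp_d L196337) q12257, e3 q11981 (flp_d L196345) q12258, e3 q11982 (flp_d L195262) q12143, e3 q11983 L193692 q11621, e3 q11984 (flp_d L198367) q12499, e3 q11985 L193712 q11623, e3 q11986 L193728 q11833, e3 q11987 L193736 q11834, e3 q11988 L193746 q11835, e3 q11989 L193760 q11989, e3 q11990 L193767 q11968, e3 q11991 (flp_d L197277) q12363, e3 q11992 (flp_d L199196) q12566, e3 q11993 L193809 q11385, e3 q11994 (flp_d L199324)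 q12576, e3 q11995 L193833 q11413, e3 q11996 L193841 q11388, e3 q11997 (flp_d L199364) q12579, e3 q11998 L193869 q11998, e3 q11999 (flp_d L195837) q12203, e3 q12000 L193884 q12000, e3 q12001 L199406 q12583, e3 q12002 L193901 q11427, e3 q12003 L193917 q11677, e3 q12004 L199437 q12587, e3 q12005 L193933 q11680, e3 q12006 L193943 q11400, e3 q12007 L193957 q11857, e3 q12008 L193963 q11858, e3 q12009 L193967 q11398, e3 q12010 (flp_d L193969) q11399, e3 q12011 L193987 q11527, e3 q12012 L194003 q11832, e3 q12013 L194013 q12013, e3 q12014 L199522 q12595, e3 q12015 (flp_d L198863) q12539, e3 q12016 L194052 q11579, e3 q12017 L194058 q11704, e3 q12018 L194068 q11408, e3 q12019 L194080 q11898, e3 q12020 (flp_d L197015) q12334, e3 q12021 L194108 q11530, e3 q12022 L194124 q11584, e3 q12023 L194138 q11972, e3 q12024 (flp_d L199350) q12578, e3 q12025 L194154 q11703, e3 q12026 L194168 q11526, e3 q12027 L194178 q11417, e3 q12028 L194190 q12028, e3 q12029 L194195 q11422, e3 q12030 (flp_d L194228) q12032, e3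 q12031 L194219 q12031, trivial⟩ (by decide +kernel)

theorem ce_d_188 : ∀ r, r < 64 → sm gd (Qf (12032 + r)) = Qf (tab Gen.d (12032 + r)) :=
  edges_tab (sm gd) Qf (tab Gen.d) 12032 [(12032, 12030), (12033, 12033), (12034, 12614), (12035, 12608), (12036, 12036), (12037, 12619), (12038, 12526), (12039, 12039), (12040, 12623), (12041, 11426), (12042, 12625), (12043, 12585), (12044, 11713), (12045, 11559), (12046, 12523), (12047, 11714), (12048, 11592), (12049, 11606), (12050, 11875), (12051, 12632), (12052, 12058), (12053, 11485), (12054, 11440), (12055, 11874), (12056, 12056), (12057, 12637), (12058, 12052), (12059, 11556), (12060, 11642), (12061, 11447), (12062, 12276), (12063, 11509), (12064, 12644), (12065, 12384), (12066, 11511), (12067, 12167), (12068, 12168), (12069, 12137), (12070, 11560), (12071, 11733), (12072, 11456), (12073, 12652), (12074, 11797), (12075, 11753), (12076, 11754), (12077, 12090), (12078, 12078), (12079, 11635), (12080, 12658), (12081, 12188), (12082, 11734), (12083,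 12549), (12084, 11469), (12085, 12085), (12086, 11474), (12087, 12087), (12088, 12307), (12089, 12089), (12090, 12077), (12091, 12669), (12092, 12664), (12093, 12093), (12094, 12673), (12095, 12245)]
    ⟨e3 q12032 L194228 q12030, e3 q12033 L194232 q12033, e3 q12034 L199734 q12614, e3 q12035 (flp_d L199671) q12608, e3 q12036 L194257 q12036, e3 q12037 L199776 q12619, e3 q12038 (flp_d L198691) q12526, e3 q12039 L194282 q12039, e3 q12040 L199807 q12623, e3 q12041 (flp_d L194299) q11426, e3 q12042 (flp_d L199824) q12625, e3 q12043 (flp_d L199421) q12585, e3 q12044 L194320 q11713, e3 q12045 L194338 q11559, e3 q12046 (flp_d L198651) q12523, e3 q12047 L194350 q11714, e3 q12048 L194368 q11592, e3 q12049 L194376 q11606, e3 q12050 L194384 q11875, e3 q12051 L199894 q12632, e3 q12052 (flp_d L194479) q12058, e3 q12053 L194416 q11485, e3 q12054 L194426 q11440, e3 q12055 L194440 q11874, e3 q12056 L194452 q12056, e3 q12057 L199955 q12637, e3 q12058 L194479 q12052, e3 q12059 L194497 q11556, e3 q12060 L194505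 q11642, e3 q12061 L194517 q11447, e3 q12062 (flp_d L196533) q12276, e3 q12063 L194539 q11509, e3 q12064 L200042 q12644, e3 q12065 (flp_d L197450) q12384, e3 q12066 L194575 q11511, e3 q12067 (flp_d L195482) q12167, e3 q12068 (flp_d L195490) q12168, e3 q12069 (flp_d L195188) q12137, e3 q12070 L194613 q11560, e3 q12071 L194631 q11733, e3 q12072 (flp_d L194633) q11456, e3 q12073 (flp_d L200134) q12652, e3 q12074 L194663 q11797, e3 q12075 L194673 q11753, e3 q12076 L194679 q11754, e3 q12077 (flp_d L194827) q12090, e3 q12078 L194703 q12078, e3 q12079 L194716 q11635, e3 q12080 L200194 q12658, e3 q12081 (flp_d L195682) q12188, e3 q12082 L194740 q11734, e3 q12083 (flp_d L198978) q12549, e3 q12084 L194758 q11469, e3 q12085 L194776 q12085, e3 q12086 L194785 q11474, e3 q12087 L194799 q12087, e3 q12088 (flp_d L196786) q12307, e3 q12089 L194818 q12089, e3 q12090 L194827 q12077, e3 q12091 L200307 q12669, e3 q12092 (flp_d L200257) q12664, e3 q12093 L194845 q12093, e3 q12094 L200336 q12673, e3 q12095 (flp_d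 L196230) q12245, trivial⟩ (by decide +kernel)

theorem ce_d_189 : ∀ r, r < 64 → sm gd (Qf (12096 + r)) = Qf (tab Gen.d (12096 + r)) :=
  edges_tab (sm gd) Qf (tab Gen.d) 12096 [(12096, 12676), (12097, 11478), (12098, 12678), (12099, 12248), (12100, 11811), (12101, 11750), (12102, 11482), (12103, 12682), (12104, 11752), (12105, 11563), (12106, 12635), (12107, 11493), (12108, 12321), (12109, 11512), (12110, 12420), (12111, 12320), (12112, 12196), (12113, 12422), (12114, 12686), (12115, 11513), (12116, 12694), (12117, 11495), (12118, 12696), (12119, 12255), (12120, 12699), (12121, 11498), (12122, 12702), (12123, 11500), (12124, 12704), (12125, 11766), (12126, 11594), (12127, 12552), (12128, 11903), (12129, 11904), (12130, 11510), (12131, 12707), (12132, 11514), (12133, 12133), (12134, 11516), (12135, 12135), (12136, 12136), (12137, 12069), (12138, 11831), (12139, 11633), (12140, 11897), (12141, 12522), (12142, 12606), (12143, 11982), (12144, 12229), (12145, 12715), (12146, 12442), (12147, 11535),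 (12148, 12718), (12149, 12149), (12150, 11538), (12151, 12721), (12152, 12720), (12153, 12153), (12154, 11799), (12155, 12155), (12156, 12728), (12157, 11543), (12158, 11542), (12159, 12731)]
    ⟨e3 q12096 L200353 q12676, e3 q12097 (flp_d L194872) q11478, e3 q12098 (flp_d L200370) q12678, e3 q12099 (flp_d L196253) q12248, e3 q12100 L194899 q11811, e3 q12101 L194907 q11750, e3 q12102 (flp_d L194913) q11482, e3 q12103 (flp_d L200414) q12682, e3 q12104 L194937 q11752, e3 q12105 L194947 q11563, e3 q12106 (flp_d L199935) q12635, e3 q12107 L194957 q11493, e3 q12108 (flp_d L196887) q12321, e3 q12109 L194967 q11512, e3 q12110 (flp_d L197718) q12420, e3 q12111 (flp_d L196879) q12320, e3 q12112 (flp_d L195764) q12196, e3 q12113 (flp_d L197734) q12422, e3 q12114 (flp_d L200450) q12686, e3 q12115 L195015 q11513, e3 q12116 L200508 q12694, e3 q12117 (flp_d L195027) q11495, e3 q12118 (flp_d L200530) q12696, e3 q12119 (flp_d L196309) q12255, e3 q12120 L200552 q12699, e3 q12121 (flp_d L195055) q11498, e3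 q12122 (flp_d L200580) q12702, e3 q12123 L195071 q11500, e3 q12124 (flp_d L200592) q12704, e3 q12125 L195083 q11766, e3 q12126 L195093 q11594, e3 q12127 (flp_d L199020) q12552, e3 q12128 L195107 q11903, e3 q12129 L195115 q11904, e3 q12130 (flp_d L195117) q11510, e3 q12131 L200616 q12707, e3 q12132 (flp_d L195135) q11514, e3 q12133 L195151 q12133, e3 q12134 (flp_d L195154) q11516, e3 q12135 L195168 q12135, e3 q12136 L195181 q12136, e3 q12137 L195188 q12069, e3 q12138 L195206 q11831, e3 q12139 L195216 q11633, e3 q12140 L195230 q11897, e3 q12141 (flp_d L198635) q12522, e3 q12142 (flp_d L199655) q12606, e3 q12143 L195262 q11982, e3 q12144 (flp_d L196060) q12229, e3 q12145 L200712 q12715, e3 q12146 (flp_d L197914) q12442, e3 q12147 L195308 q11535, e3 q12148 (flp_d L200747) q12718, e3 q12149 L195332 q12149, e3 q12150 L195343 q11538, e3 q12151 L200775 q12721, e3 q12152 (flp_d L200769) q12720, e3 q12153 L195379 q12153, e3 q12154 L195388 q11799, e3 q12155 L195392 q12155, e3 q12156 L200849 q12728,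 e3 q12157 L195407 q11543, e3 q12158 (flp_d L195409) q11542, e3 q12159 (flp_d L200866) q12731, trivial⟩ (by decide +kernel)

theorem ce_d_190 : ∀ r, r < 64 → sm gd (Qf (12160 + r)) = Qf (tab Gen.d (12160 + r)) :=
  edges_tab (sm gd) Qf (tab Gen.d) 12160 [(12160, 12730), (12161, 11568), (12162, 11569), (12163, 11552), (12164, 12737), (12165, 12516), (12166, 11554), (12167, 12067), (12168, 12068), (12169, 11551), (12170, 12735), (12171, 12743), (12172, 11553), (12173, 12548), (12174, 12640), (12175, 11768), (12176, 12628), (12177, 12650), (12178, 12452), (12179, 11564), (12180, 12685), (12181, 11567), (12182, 11974), (12183, 12747), (12184, 12733), (12185, 12734), (12186, 12545), (12187, 12751), (12188, 12081), (12189, 11873), (12190, 11576), (12191, 12755), (12192, 12205), (12193, 12598), (12194, 11583), (12195, 11582), (12196, 12112), (12197, 12759), (12198, 12602), (12199, 12339), (12200, 12342), (12201, 12524), (12202, 12202), (12203, 11999), (12204, 12766), (12205, 12192), (12206, 12630),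 (12207, 11595), (12208, 12705), (12209, 12209), (12210, 11599), (12211, 12211), (12212, 11943), (12213, 12774), (12214, 12771), (12215, 12777), (12216, 12406), (12217, 11602), (12218, 12780), (12219, 12410), (12220, 12529), (12221, 12559), (12222, 12631), (12223, 11610)]
    ⟨e3 q12160 (flp_d L200862) q12730, e3 q12161 L195436 q11568, e3 q12162 L195442 q11569, e3 q12163 L195448 q11552, e3 q12164 L200914 q12737, e3 q12165 (flp_d L198561) q12516, e3 q12166 L195468 q11554, e3 q12167 L195482 q12067, e3 q12168 L195490 q12068, e3 q12169 L195496 q11551, e3 q12170 (flp_d L200900) q12735, e3 q12171 L200962 q12743, e3 q12172 (flp_d L195522) q11553, e3 q12173 (flp_d L198962) q12548, e3 q12174 (flp_d L199998) q12640, e3 q12175 L195554 q11768, e3 q12176 (flp_d L199856) q12628, e3 q12177 (flp_d L200104) q12650, e3 q12178 (flp_d L197991) q12452, e3 q12179 L195592 q11564, e3 q12180 (flp_d L200444) q12685, e3 q12181 L195612 q11567, e3 q12182 L195628 q11974, e3 q12183 (flp_d L201010) q12747, e3 q12184 (flp_d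 L200880) q12733, e3 q12185 (flp_d L200892) q12734, e3 q12186 (flp_d L198922) q12545, e3 q12187 L201054 q12751, e3 q12188 L195682 q12081, e3 q12189 L195692 q11873, e3 q12190 L195700 q11576, e3 q12191 L201089 q12755, e3 q12192 (flp_d L195855) q12205, e3 q12193 (flp_d L199555) q12598, e3 q12194 L195738 q11583, e3 q12195 L195750 q11582, e3 q12196 L195764 q12112, e3 q12197 (flp_d L201136) q12759, e3 q12198 (flp_d L199605) q12602, e3 q12199 (flp_d L197059) q12339, e3 q12200 (flp_d L197087) q12342, e3 q12201 (flp_d L198663) q12524, e3 q12202 L195826 q12202, e3 q12203 L195837 q11999, e3 q12204 L201212 q12766, e3 q12205 L195855 q12192, e3 q12206 (flp_d L199878) q12630, e3 q12207 L195873 q11595, e3 q12208 (flp_d L200602) q12705, e3 q12209 L195899 q12209, e3 q12210 L195910 q11599, e3 q12211 L195926 q12211, e3 q12212 L195939 q11943, e3 q12213 L201305 q12774, e3 q12214 (flp_d L201269) q12771, e3 q12215 L201328 q12777, e3 q12216 (flp_d L197619) q12406, e3 q12217 (flp_d L195973) q11602, e3 q12218 (flp_d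 L201355) q12780, e3 q12219 (flp_d L197646) q12410, e3 q12220 (flp_d L198735) q12529, e3 q12221 (flp_d L199116) q12559, e3 q12222 (flp_d L199890) q12631, e3 q12223 L196018 q11610, trivial⟩ (by decide +kernel)

theorem ce_d_191 : ∀ r, r < 64 → sm gd (Qf (12224 + r)) = Qf (tab Gen.d (12224 + r)) :=
  edges_tab (sm gd) Qf (tab Gen.d) 12224 [(12224, 12417), (12225, 12418), (12226, 11615), (12227, 12228), (12228, 12227), (12229, 12144), (12230, 12785), (12231, 11616), (12232, 12789), (12233, 12428), (12234, 11619), (12235, 12791), (12236, 12570), (12237, 12551), (12238, 11628), (12239, 12367), (12240, 11683), (12241, 11632), (12242, 12793), (12243, 12657), (12244, 12796), (12245, 12095), (12246, 11638), (12247, 12799), (12248, 12099), (12249, 12544), (12250, 11723), (12251, 12641), (12252, 11646), (12253, 12554), (12254, 12802), (12255, 12119), (12256, 11654), (12257, 11980), (12258, 11981), (12259, 11653), (12260, 11689), (12261, 11657), (12262, 12808), (12263, 12298), (12264, 12264), (12265,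 11699), (12266, 12266), (12267, 12815), (12268, 11701), (12269, 11761), (12270, 11769), (12271, 12347), (12272, 12565), (12273, 11666), (12274, 11670), (12275, 11776), (12276, 12062), (12277, 11777), (12278, 12827), (12279, 12822), (12280, 11778), (12281, 12338), (12282, 11711), (12283, 11779), (12284, 12340), (12285, 12341), (12286, 11712), (12287, 12290)]
    ⟨e3 q12224 (flp_d L197688) q12417, e3 q12225 (flp_d L197694) q12418, e3 q12226 L196032 q11615, e3 q12227 (flp_d L196046) q12228, e3 q12228 L196046 q12227, e3 q12229 L196060 q12144, e3 q12230 (flp_d L201387) q12785, e3 q12231 (flp_d L196074) q11616, e3 q12232 (flp_d L201431) q12789, e3 q12233 (flp_d L197788) q12428, e3 q12234 L196110 q11619, e3 q12235 (flp_d L201457) q12791, e3 q12236 (flp_d L199240) q12570, e3 q12237 (flp_d L199004) q12551, e3 q12238 L196152 q11628, e3 q12239 (flp_d L197309) q12367, e3 q12240 L196174 q11683, e3 q12241 L196184 q11632, e3 q12242 L201479 q12793, e3 q12243 (flp_d L200188) q12657, e3 q12244 L201504 q12796,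 e3 q12245 L196230 q12095, e3 q12246 (flp_d L196238) q11638, e3 q12247 (flp_d L201553) q12799, e3 q12248 L196253 q12099, e3 q12249 (flp_d L198910) q12544, e3 q12250 L196267 q11723, e3 q12251 (flp_d L200010) q12641, e3 q12252 L196279 q11646, e3 q12253 (flp_d L199048) q12554, e3 q12254 (flp_d L201571) q12802, e3 q12255 L196309 q12119, e3 q12256 L196321 q11654, e3 q12257 L196337 q11980, e3 q12258 L196345 q11981, e3 q12259 L196353 q11653, e3 q12260 L196365 q11689, e3 q12261 L196371 q11657, e3 q12262 (flp_d L201639) q12808, e3 q12263 (flp_d L196688) q12298, e3 q12264 L196409 q12264, e3 q12265 L196422 q11699, e3 q12266 L196426 q12266, e3 q12267 L201713 q12815, e3 q12268 L196445 q11701, e3 q12269 L196453 q11761, e3 q12270 L196463 q11769, e3 q12271 (flp_d L197131) q12347, e3 q12272 (flp_d L199188) q12565, e3 q12273 L196489 q11666, e3 q12274 L196505 q11670, e3 q12275 L196519 q11776, e3 q12276 L196533 q12062, e3 q12277 L196537 q11777, e3 q12278 L201832 q12827, e3 q12279 (flp_d L201776) q12822, e3 q12280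 L196561 q11778, e3 q12281 (flp_d L197053) q12338, e3 q12282 L196573 q11711, e3 q12283 L196579 q11779, e3 q12284 (flp_d L197071) q12340, e3 q12285 (flp_d L197079) q12341, e3 q12286 L196599 q11712, e3 q12287 (flp_d L196633) q12290, trivial⟩ (by decide +kernel)

theorem ce_d_192 : ∀ r, r < 64 → sm gd (Qf (12288 + r)) = Qf (tab Gen.d (12288 + r)) :=
  edges_tab (sm gd) Qf (tab Gen.d) 12288 [(12288, 12586), (12289, 11685), (12290, 12287), (12291, 11679), (12292, 12840), (12293, 12589), (12294, 12335), (12295, 12351), (12296, 12792), (12297, 12297), (12298, 12263), (12299, 12299), (12300, 12848), (12301, 12807), (12302, 11702), (12303, 12527), (12304, 11693), (12305, 12305), (12306, 11697), (12307, 12088), (12308, 12856), (12309, 12854), (12310, 12859), (12311, 12812), (12312, 11700), (12313, 12862), (12314, 12817), (12315, 12851), (12316, 12605), (12317, 12599), (12318, 12601), (12319, 11710), (12320, 12111), (12321, 12108), (12322, 12866), (12323, 12833), (12324, 12627), (12325, 12478), (12326,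 11719), (12327, 11882), (12328, 11879), (12329, 12870), (12330, 12355), (12331, 12530), (12332, 11770), (12333, 11727), (12334, 12020), (12335, 12294), (12336, 12874), (12337, 11771), (12338, 12281), (12339, 12199), (12340, 12284), (12341, 12285), (12342, 12200), (12343, 12651), (12344, 12661), (12345, 11751), (12346, 12553), (12347, 12271), (12348, 11743), (12349, 12350), (12350, 12349), (12351, 12295)]
    ⟨e3 q12288 (flp_d L199431) q12586, e3 q12289 L196623 q11685, e3 q12290 L196633 q12287, e3 q12291 (flp_d L196635) q11679, e3 q12292 (flp_d L201936) q12840, e3 q12293 (flp_d L199463) q12589, e3 q12294 (flp_d L197025) q12335, e3 q12295 (flp_d L197167) q12351, e3 q12296 (flp_d L201471) q12792, e3 q12297 L196675 q12297, e3 q12298 L196688 q12263, e3 q12299 L196692 q12299, e3 q12300 L202003 q12848, e3 q12301 (flp_d L201631) q12807, e3 q12302 L196731 q11702, e3 q12303 (flp_d L198707) q12527, e3 q12304 L196745 q11693, e3 q12305 L196763 q12305, e3 q12306 L196772 q11697, e3 q12307 L196786 q12088,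 e3 q12308 L202086 q12856, e3 q12309 (flp_d L202066) q12854, e3 q12310 L202105 q12859, e3 q12311 (flp_d L201686) q12812, e3 q12312 (flp_d L196820) q11700, e3 q12313 (flp_d L202132) q12862, e3 q12314 (flp_d L201730) q12817, e3 q12315 (flp_d L202034) q12851, e3 q12316 (flp_d L199639) q12605, e3 q12317 (flp_d L199565) q12599, e3 q12318 (flp_d L199597) q12601, e3 q12319 L196873 q11710, e3 q12320 L196879 q12111, e3 q12321 L196887 q12108, e3 q12322 (flp_d L202158) q12866, e3 q12323 (flp_d L201878) q12833, e3 q12324 (flp_d L199840) q12627, e3 q12325 (flp_d L198201) q12478, e3 q12326 L196925 q11719, e3 q12327 L196933 q11882, e3 q12328 L196945 q11879, e3 q12329 (flp_d L202196) q12870, e3 q12330 (flp_d L197203) q12355, e3 q12331 (flp_d L198747) q12530, e3 q12332 L196987 q11770, e3 q12333 L197001 q11727, e3 q12334 L197015 q12020, e3 q12335 L197025 q12294, e3 q12336 (flp_d L202250) q12874, e3 q12337 L197037 q11771, e3 q12338 L197053 q12281, e3 q12339 L197059 q12199, e3 q12340 L197071 q12284, e3 q12341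 L197079 q12285, e3 q12342 L197087 q12200, e3 q12343 (flp_d L200120) q12651, e3 q12344 (flp_d L200223) q12661, e3 q12345 L197111 q11751, e3 q12346 (flp_d L199034) q12553, e3 q12347 L197131 q12271, e3 q12348 L197137 q11743, e3 q12349 (flp_d L197155) q12350, e3 q12350 L197155 q12349, e3 q12351 L197167 q12295, trivial⟩ (by decide +kernel)

theorem ce_d_193 : ∀ r, r < 64 → sm gd (Qf (12352 + r)) = Qf (tab Gen.d (12352 + r)) :=
  edges_tab (sm gd) Qf (tab Gen.d) 12352 [(12352, 12886), (12353, 11744), (12354, 12890), (12355, 12330), (12356, 11746), (12357, 12892), (12358, 11748), (12359, 12894), (12360, 12681), (12361, 12884), (12362, 12654), (12363, 11991), (12364, 11760), (12365, 12366), (12366, 12365), (12367, 12239), (12368, 12818), (12369, 12457), (12370, 11765), (12371, 12823), (12372, 12830), (12373, 12373), (12374, 12898), (12375, 11783), (12376, 11782), (12377, 12901), (12378, 12900), (12379, 12379), (12380, 12906), (12381, 11802), (12382, 11792), (12383, 12911), (12384, 12065), (12385,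 11794), (12386, 12518), (12387, 12519), (12388, 11791), (12389, 12909), (12390, 12917), (12391, 11793), (12392, 11796), (12393, 12902), (12394, 12918), (12395, 12395), (12396, 12922), (12397, 12725), (12398, 12925), (12399, 11801), (12400, 12927), (12401, 12908), (12402, 12546), (12403, 12547), (12404, 12404), (12405, 12931), (12406, 12216), (12407, 12934), (12408, 11809), (12409, 12936), (12410, 12219), (12411, 12680), (12412, 11813), (12413, 12937), (12414, 12940), (12415, 12572)]
    ⟨e3 q12352 (flp_d L202374) q12886, e3 q12353 (flp_d L197181) q11744, e3 q12354 (flp_d L202420) q12890, e3 q12355 L197203 q12330, e3 q12356 (flp_d L197209) q11746, e3 q12357 (flp_d L202436) q12892, e3 q12358 L197235 q11748, e3 q12359 (flp_d L202460) q12894, e3 q12360 (flp_d L200398) q12681, e3 q12361 (flp_d L202354) q12884, e3 q12362 (flp_d L200156) q12654, e3 q12363 L197277 q11991, e3 q12364 L197283 q11760, e3 q12365 (flp_d L197295) q12366, e3 q12366 L197295 q12365, e3 q12367 L197309 q12239, e3 q12368 (flp_d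 L201740) q12818, e3 q12369 (flp_d L198043) q12457, e3 q12370 L197331 q11765, e3 q12371 (flp_d L201786) q12823, e3 q12372 (flp_d L201858) q12830, e3 q12373 L197357 q12373, e3 q12374 L202497 q12898, e3 q12375 L197372 q11783, e3 q12376 (flp_d L197376) q11782, e3 q12377 (flp_d L202520) q12901, e3 q12378 (flp_d L202514) q12900, e3 q12379 L197399 q12379, e3 q12380 L202552 q12906, e3 q12381 L197416 q11802, e3 q12382 L197424 q11792, e3 q12383 L202603 q12911, e3 q12384 L197450 q12065, e3 q12385 L197460 q11794, e3 q12386 (flp_d L198593) q12518, e3 q12387 (flp_d L198601) q12519, e3 q12388 L197484 q11791, e3 q12389 (flp_d L202583) q12909, e3 q12390 L202661 q12917, e3 q12391 (flp_d L197514) q11793, e3 q12392 L197524 q11796, e3 q12393 (flp_d L202527) q12902, e3 q12394 (flp_d L202675) q12918, e3 q12395 L197540 q12395, e3 q12396 L202699 q12922, e3 q12397 (flp_d L200824) q12725, e3 q12398 L202724 q12925, e3 q12399 (flp_d L197569) q11801, e3 q12400 (flp_d L202739) q12927, e3 q12401 (flp_d L202573) q12908,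 e3 q12402 (flp_d L198938) q12546, e3 q12403 (flp_d L198950) q12547, e3 q12404 L197604 q12404, e3 q12405 L202763 q12931, e3 q12406 L197619 q12216, e3 q12407 L202784 q12934, e3 q12408 (flp_d L197631) q11809, e3 q12409 (flp_d L202801) q12936, e3 q12410 L197646 q12219, e3 q12411 (flp_d L200386) q12680, e3 q12412 L197660 q11813, e3 q12413 (flp_d L202808) q12937, e3 q12414 (flp_d L202826) q12940, e3 q12415 (flp_d L199268) q12572, trivial⟩ (by decide +kernel)

theorem ce_d_194 : ∀ r, r < 64 → sm gd (Qf (12416 + r)) = Qf (tab Gen.d (12416 + r)) :=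
  edges_tab (sm gd) Qf (tab Gen.d) 12416 [(12416, 11817), (12417, 12224), (12418, 12225), (12419, 11822), (12420, 12110), (12421, 12531), (12422, 12113), (12423, 12947), (12424, 11836), (12425, 12952), (12426, 11824), (12427, 12954), (12428, 12233), (12429, 12956), (12430, 11827), (12431, 12957), (12432, 11829), (12433, 12959), (12434, 12712), (12435, 12573), (12436, 12960), (12437, 11837), (12438, 11839), (12439, 12439), (12440, 12440), (12441, 12961), (12442, 12146), (12443, 12443), (12444, 12966), (12445, 11869), (12446, 12446), (12447, 12970), (12448, 11849), (12449, 12972), (12450, 11872), (12451, 12454), (12452, 12178), (12453, 11860), (12454, 12451), (12455, 11854), (12456, 12978), (12457, 12369), (12458, 12590), (12459, 12591), (12460, 12592), (12461, 12982), (12462, 11867), (12463, 12985), (12464, 12504), (12465, 11866), (12466, 12988), (12467, 12984), (12468, 11868), (12469, 12990), (12470, 12968), (12471, 11871), (12472, 12994), (12473, 12754), (12474, 11976), (12475, 11886),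 (12476, 12482), (12477, 12872), (12478, 12325), (12479, 11881)]
    ⟨e3 q12416 L197682 q11817, e3 q12417 L197688 q12224, e3 q12418 L197694 q12225, e3 q12419 L197704 q11822, e3 q12420 L197718 q12110, e3 q12421 (flp_d L198763) q12531, e3 q12422 L197734 q12113, e3 q12423 (flp_d L202880) q12947, e3 q12424 L197750 q11836, e3 q12425 L202926 q12952, e3 q12426 (flp_d L197764) q11824, e3 q12427 (flp_d L202948) q12954, e3 q12428 L197788 q12233, e3 q12429 L202962 q12956, e3 q12430 (flp_d L197800) q11827, e3 q12431 (flp_d L202978) q12957, e3 q12432 L197822 q11829, e3 q12433 (flp_d L202996) q12959, e3 q12434 (flp_d L200678) q12712, e3 q12435 (flp_d L199280) q12573, e3 q12436 L203004 q12960, e3 q12437 (flp_d L197862) q11837, e3 q12438 (flp_d L197872) q11839, e3 q12439 L197888 q12439, e3 q12440 L197897 q12440, e3 q12441 L203016 q12961, e3 q12442 L197914 q12146, e3 q12443 L197922 q12443, e3 q12444 L203068 q12966, e3 q12445 L197939 q11869, e3 q12446 L197949 q12446, e3 q12447 L203099 q12970, e3 q12448 (flp_d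 L197960) q11849, e3 q12449 (flp_d L203118) q12972, e3 q12450 L197973 q11872, e3 q12451 (flp_d L198017) q12454, e3 q12452 L197991 q12178, e3 q12453 L198001 q11860, e3 q12454 L198017 q12451, e3 q12455 (flp_d L198019) q11854, e3 q12456 (flp_d L203178) q12978, e3 q12457 L198043 q12369, e3 q12458 (flp_d L199477) q12590, e3 q12459 (flp_d L199485) q12591, e3 q12460 (flp_d L199495) q12592, e3 q12461 L203202 q12982, e3 q12462 L198085 q11867, e3 q12463 L203241 q12985, e3 q12464 (flp_d L198414) q12504, e3 q12465 (flp_d L198107) q11866, e3 q12466 (flp_d L203266) q12988, e3 q12467 (flp_d L203233) q12984, e3 q12468 (flp_d L198124) q11868, e3 q12469 (flp_d L203278) q12990, e3 q12470 (flp_d L203085) q12968, e3 q12471 L198145 q11871, e3 q12472 (flp_d L203300) q12994, e3 q12473 (flp_d L201085) q12754, e3 q12474 L198167 q11976, e3 q12475 L198175 q11886, e3 q12476 (flp_d L198235) q12482, e3 q12477 (flp_d L202220) q12872, e3 q12478 L198201 q12325, e3 q12479 (flp_d L198203) q11881, trivial⟩ (by decide +kernel)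

theorem ce_d_195 : ∀ r, r < 64 → sm gd (Qf (12480 + r)) = Qf (tab Gen.d (12480 + r)) :=
  edges_tab (sm gd) Qf (tab Gen.d) 12480 [(12480, 12998), (12481, 12871), (12482, 12476), (12483, 11885), (12484, 13001), (12485, 13002), (12486, 11888), (12487, 13004), (12488, 11890), (12489, 12991), (12490, 13007), (12491, 11892), (12492, 13009), (12493, 11894), (12494, 13011), (12495, 11896), (12496, 12713), (12497, 12556), (12498, 11902), (12499, 11984), (12500, 12706), (12501, 11906), (12502, 12502), (12503, 13014), (12504, 12464), (12505, 12505), (12506, 13018), (12507, 11915), (12508, 11914), (12509, 13021), (12510, 13020), (12511, 12511), (12512, 13025), (12513, 11948), (12514, 11924), (12515, 13029), (12516, 12165), (12517, 11926), (12518, 12386), (12519, 12387), (12520, 11923), (12521, 11925), (12522, 12141), (12523, 12046), (12524, 12201), (12525, 13037), (12526, 12038), (12527, 12303), (12528, 11934), (12529, 12220), (12530, 12331), (12531, 12421), (12532, 11941), (12533, 11940), (12534,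 13022), (12535, 13043), (12536, 13045), (12537, 12773), (12538, 13048), (12539, 12015), (12540, 13051), (12541, 11947), (12542, 13053), (12543, 13027)]
    ⟨e3 q12480 (flp_d L203344) q12998, e3 q12481 (flp_d L202206) q12871, e3 q12482 L198235 q12476, e3 q12483 L198249 q11885, e3 q12484 (flp_d L203376) q13001, e3 q12485 L203384 q13002, e3 q12486 (flp_d L198271) q11888, e3 q12487 (flp_d L203410) q13004, e3 q12488 L198291 q11890, e3 q12489 (flp_d L203285) q12991, e3 q12490 (flp_d L203434) q13007, e3 q12491 (flp_d L198309) q11892, e3 q12492 (flp_d L203452) q13009, e3 q12493 L198325 q11894, e3 q12494 (flp_d L203464) q13011, e3 q12495 L198337 q11896, e3 q12496 (flp_d L200692) q12713, e3 q12497 (flp_d L199080) q12556, e3 q12498 L198353 q11902, e3 q12499 L198367 q11984, e3 q12500 (flp_d L200612) q12706, e3 q12501 (flp_d L198375) q11906, e3 q12502 L198393 q12502, e3 q12503 L203493 q13014, e3 q12504 L198414 q12464, e3 q12505 L198424 q12505, e3 q12506 L203552 q13018, e3 q12507 L198455 q11915, e3 q12508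 (flp_d L198463) q11914, e3 q12509 (flp_d L203595) q13021, e3 q12510 (flp_d L203581) q13020, e3 q12511 L198488 q12511, e3 q12512 L203632 q13025, e3 q12513 L198519 q11948, e3 q12514 L198529 q11924, e3 q12515 L203687 q13029, e3 q12516 L198561 q12165, e3 q12517 L198573 q11926, e3 q12518 L198593 q12386, e3 q12519 L198601 q12387, e3 q12520 L198609 q11923, e3 q12521 (flp_d L198615) q11925, e3 q12522 L198635 q12141, e3 q12523 L198651 q12046, e3 q12524 L198663 q12201, e3 q12525 L203792 q13037, e3 q12526 L198691 q12038, e3 q12527 L198707 q12303, e3 q12528 L198719 q11934, e3 q12529 L198735 q12220, e3 q12530 L198747 q12331, e3 q12531 L198763 q12421, e3 q12532 L198779 q11941, e3 q12533 L198795 q11940, e3 q12534 (flp_d L203606) q13022, e3 q12535 (flp_d L203895) q13043, e3 q12536 L203915 q13045, e3 q12537 (flp_d L201297) q12773, e3 q12538 L203950 q13048, e3 q12539 L198863 q12015, e3 q12540 L203987 q13051, e3 q12541 (flp_d L198881) q11947, e3 q12542 (flp_d L204014) q13053, e3 q12543 (flp_d L203663) q13027,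 trivial⟩ (by decide +kernel)

theorem ce_d_196 : ∀ r, r < 64 → sm gd (Qf (12544 + r)) = Qf (tab Gen.d (12544 + r)) :=
  edges_tab (sm gd) Qf (tab Gen.d) 12544 [(12544, 12249), (12545, 12186), (12546, 12402), (12547, 12403), (12548, 12173), (12549, 12083), (12550, 11957), (12551, 12237), (12552, 12127), (12553, 12346), (12554, 12253), (12555, 11966), (12556, 12497), (12557, 12563), (12558, 12574), (12559, 12221), (12560, 11973), (12561, 12603), (12562, 12748), (12563, 12557), (12564, 12995), (12565, 12272), (12566, 11992), (12567, 12804), (12568, 12805), (12569, 12806), (12570, 12236), (12571, 13012), (12572, 12415), (12573, 12435), (12574, 12558), (12575, 12895), (12576, 11994), (12577, 13067), (12578, 12024), (12579, 11997), (12580, 13069), (12581, 12765), (12582, 13072), (12583, 12001), (12584, 13074), (12585, 12043), (12586, 12288), (12587, 12004), (12588, 13077), (12589, 12293), (12590, 12458), (12591, 12459), (12592, 12460), (12593, 12593), (12594, 13082), (12595, 12014), (12596, 13084),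 (12597, 13050), (12598, 12193), (12599, 12317), (12600, 12875), (12601, 12318), (12602, 12198), (12603, 12561), (12604, 13068), (12605, 12316), (12606, 12142), (12607, 13091)]
    ⟨e3 q12544 L198910 q12249, e3 q12545 L198922 q12186, e3 q12546 L198938 q12402, e3 q12547 L198950 q12403, e3 q12548 L198962 q12173, e3 q12549 L198978 q12083, e3 q12550 L198990 q11957, e3 q12551 L199004 q12237, e3 q12552 L199020 q12127, e3 q12553 L199034 q12346, e3 q12554 L199048 q12253, e3 q12555 L199064 q11966, e3 q12556 L199080 q12497, e3 q12557 (flp_d L199168) q12563, e3 q12558 (flp_d L199292) q12574, e3 q12559 L199116 q12221, e3 q12560 L199132 q11973, e3 q12561 (flp_d L199619) q12603, e3 q12562 (flp_d L201024) q12748, e3 q12563 L199168 q12557, e3 q12564 (flp_d L203308) q12995, e3 q12565 L199188 q12272, e3 q12566 L199196 q11992, e3 q12567 (flp_d L201603) q12804, e3 q12568 (flp_d L201611) q12805, e3 q12569 (flp_d L201621) q12806, e3 q12570 L199240 q12236, e3 q12571 (flp_d L203480) q13012, e3 q12572 L199268 q12415,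 e3 q12573 L199280 q12435, e3 q12574 L199292 q12558, e3 q12575 (flp_d L202474) q12895, e3 q12576 L199324 q11994, e3 q12577 (flp_d L204208) q13067, e3 q12578 L199350 q12024, e3 q12579 L199364 q11997, e3 q12580 L204236 q13069, e3 q12581 (flp_d L201206) q12765, e3 q12582 L204275 q13072, e3 q12583 (flp_d L199406) q12001, e3 q12584 (flp_d L204300) q13074, e3 q12585 L199421 q12043, e3 q12586 L199431 q12288, e3 q12587 (flp_d L199437) q12004, e3 q12588 (flp_d L204330) q13077, e3 q12589 L199463 q12293, e3 q12590 L199477 q12458, e3 q12591 L199485 q12459, e3 q12592 L199495 q12460, e3 q12593 L199507 q12593, e3 q12594 L204384 q13082, e3 q12595 (flp_d L199522) q12014, e3 q12596 (flp_d L204409) q13084, e3 q12597 (flp_d L203979) q13050, e3 q12598 L199555 q12193, e3 q12599 L199565 q12317, e3 q12600 (flp_d L202264) q12875, e3 q12601 L199597 q12318, e3 q12602 L199605 q12198, e3 q12603 L199619 q12561, e3 q12604 (flp_d L204226) q13068, e3 q12605 L199639 q12316, e3 q12606 L199655 q12142, e3 q12607 L204493 q13091,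 trivial⟩ (by decide +kernel)

theorem ce_d_197 : ∀ r, r < 64 → sm gd (Qf (12608 + r)) = Qf (tab Gen.d (12608 + r)) :=
  edges_tab (sm gd) Qf (tab Gen.d) 12608 [(12608, 12035), (12609, 12612), (12610, 12610), (12611, 13096), (12612, 12609), (12613, 13099), (12614, 12034), (12615, 13101), (12616, 13093), (12617, 12617), (12618, 13104), (12619, 12037), (12620, 13106), (12621, 13039), (12622, 13109), (12623, 12040), (12624, 13111), (12625, 12042), (12626, 13114), (12627, 12324), (12628, 12176), (12629, 13036), (12630, 12206), (12631, 12222), (12632, 12051), (12633, 13117), (12634, 12639), (12635, 12106), (12636, 13119), (12637, 12057), (12638, 13121), (12639, 12634), (12640, 12174), (12641, 12251), (12642, 12825), (12643, 12834), (12644, 12064), (12645, 13126), (12646, 12913), (12647, 12740), (12648, 12741), (12649, 12742), (12650, 12177), (12651, 12343), (12652, 12073), (12653, 13131), (12654, 12362), (12655, 12668), (12656, 13133), (12657, 12243), (12658, 12080), (12659, 13136), (12660, 12753),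 (12661, 12344), (12662, 13057), (12663, 13138), (12664, 12092), (12665, 13141), (12666, 12855), (12667, 13144), (12668, 12655), (12669, 12091), (12670, 13147), (12671, 13140)]
    ⟨e3 q12608 L199671 q12035, e3 q12609 (flp_d L199714) q12612, e3 q12610 L199689 q12610, e3 q12611 L204544 q13096, e3 q12612 L199714 q12609, e3 q12613 L204577 q13099, e3 q12614 (flp_d L199734) q12034, e3 q12615 (flp_d L204602) q13101, e3 q12616 (flp_d L204512) q13093, e3 q12617 L199755 q12617, e3 q12618 L204626 q13104, e3 q12619 (flp_d L199776) q12037, e3 q12620 (flp_d L204645) q13106, e3 q12621 (flp_d L203827) q13039, e3 q12622 L204670 q13109, e3 q12623 (flp_d L199807) q12040, e3 q12624 (flp_d L204699) q13111, e3 q12625 L199824 q12042, e3 q12626 (flp_d L204718) q13114, e3 q12627 L199840 q12324, e3 q12628 L199856 q12176, e3 q12629 (flp_d L203784) q13036, e3 q12630 L199878 q12206, e3 q12631 L199890 q12222, e3 q12632 (flp_d L199894) q12051, e3 q12633 (flp_d L204758) q13117, e3 q12634 (flp_d L199982) q12639, e3 q12635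 L199935 q12106, e3 q12636 L204778 q13119, e3 q12637 (flp_d L199955) q12057, e3 q12638 (flp_d L204807) q13121, e3 q12639 L199982 q12634, e3 q12640 L199998 q12174, e3 q12641 L200010 q12251, e3 q12642 (flp_d L201816) q12825, e3 q12643 (flp_d L201890) q12834, e3 q12644 (flp_d L200042) q12064, e3 q12645 (flp_d L204869) q13126, e3 q12646 (flp_d L202631) q12913, e3 q12647 (flp_d L200944) q12740, e3 q12648 (flp_d L200950) q12741, e3 q12649 (flp_d L200958) q12742, e3 q12650 L200104 q12177, e3 q12651 L200120 q12343, e3 q12652 L200134 q12073, e3 q12653 (flp_d L204927) q13131, e3 q12654 L200156 q12362, e3 q12655 (flp_d L200301) q12668, e3 q12656 L204947 q13133, e3 q12657 L200188 q12243, e3 q12658 (flp_d L200194) q12080, e3 q12659 (flp_d L204986) q13136, e3 q12660 (flp_d L201075) q12753, e3 q12661 L200223 q12344, e3 q12662 (flp_d L204066) q13057, e3 q12663 L204998 q13138, e3 q12664 L200257 q12092, e3 q12665 L205033 q13141, e3 q12666 (flp_d L202078) q12855, e3 q12667 L205070 q13144, e3 q12668 L200301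 q12655, e3 q12669 (flp_d L200307) q12091, e3 q12670 (flp_d L205103) q13147, e3 q12671 (flp_d L205025) q13140, trivial⟩ (by decide +kernel)

theorem ce_d_198 : ∀ r, r < 64 → sm gd (Qf (12672 + r)) = Qf (tab Gen.d (12672 + r)) :=
  edges_tab (sm gd) Qf (tab Gen.d) 12672 [(12672, 13150), (12673, 12094), (12674, 13152), (12675, 12798), (12676, 12096), (12677, 13155), (12678, 12098), (12679, 13158), (12680, 12411), (12681, 12360), (12682, 12103), (12683, 13148), (12684, 13160), (12685, 12180), (12686, 12114), (12687, 12868), (12688, 12761), (12689, 12948), (12690, 12867), (12691, 12760), (12692, 12950), (12693, 13166), (12694, 12116), (12695, 13169), (12696, 12118), (12697, 13107), (12698, 13172), (12699, 12120), (12700, 13175), (12701, 13154), (12702, 12122), (12703, 13178), (12704, 12124), (12705, 12208), (12706, 12500), (12707, 12131), (12708, 12708), (12709, 12709), (12710, 12710), (12711, 12711), (12712, 12434), (12713, 12496), (12714, 12788), (12715, 12145), (12716, 13181), (12717, 12963),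 (12718, 12148), (12719, 13183), (12720, 12152), (12721, 12151), (12722, 13186), (12723, 13185), (12724, 13188), (12725, 12397), (12726, 12726), (12727, 13192), (12728, 12156), (12729, 13194), (12730, 12160), (12731, 12159), (12732, 13197), (12733, 12184), (12734, 12185), (12735, 12170)]
    ⟨e3 q12672 L205124 q13150, e3 q12673 (flp_d L200336) q12094, e3 q12674 (flp_d L205143) q13152, e3 q12675 (flp_d L201539) q12798, e3 q12676 (flp_d L200353) q12096, e3 q12677 (flp_d L205166) q13155, e3 q12678 L200370 q12098, e3 q12679 (flp_d L205183) q13158, e3 q12680 L200386 q12411, e3 q12681 L200398 q12360, e3 q12682 L200414 q12103, e3 q12683 (flp_d L205114) q13148, e3 q12684 (flp_d L205209) q13160, e3 q12685 L200444 q12180, e3 q12686 L200450 q12114, e3 q12687 (flp_d L202176) q12868, e3 q12688 (flp_d L201160) q12761, e3 q12689 (flp_d L202892) q12948, e3 q12690 (flp_d L202166) q12867, e3 q12691 (flp_d L201152) q12760, e3 q12692 (flp_d L202912) q12950, e3 q12693 L205273 q13166, e3 q12694 (flp_d L200508)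 q12116, e3 q12695 (flp_d L205307) q13169, e3 q12696 L200530 q12118, e3 q12697 (flp_d L204658) q13107, e3 q12698 (flp_d L205333) q13172, e3 q12699 (flp_d L200552) q12120, e3 q12700 (flp_d L205361) q13175, e3 q12701 (flp_d L205160) q13154, e3 q12702 L200580 q12122, e3 q12703 (flp_d L205387) q13178, e3 q12704 L200592 q12124, e3 q12705 L200602 q12208, e3 q12706 L200612 q12500, e3 q12707 (flp_d L200616) q12131, e3 q12708 L200636 q12708, e3 q12709 L200643 q12709, e3 q12710 L200654 q12710, e3 q12711 L200663 q12711, e3 q12712 L200678 q12434, e3 q12713 L200692 q12496, e3 q12714 (flp_d L201419) q12788, e3 q12715 (flp_d L200712) q12145, e3 q12716 (flp_d L205425) q13181, e3 q12717 (flp_d L203041) q12963, e3 q12718 L200747 q12148, e3 q12719 L205439 q13183, e3 q12720 L200769 q12152, e3 q12721 (flp_d L200775) q12151, e3 q12722 (flp_d L205478) q13186, e3 q12723 (flp_d L205466) q13185, e3 q12724 L205494 q13188, e3 q12725 L200824 q12397, e3 q12726 L200834 q12726, e3 q12727 L205541 q13192, e3 q12728 (flp_d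 L200849) q12156, e3 q12729 (flp_d L205564) q13194, e3 q12730 L200862 q12160, e3 q12731 L200866 q12159, e3 q12732 (flp_d L205575) q13197, e3 q12733 L200880 q12184, e3 q12734 L200892 q12185, e3 q12735 L200900 q12170, trivial⟩ (by decide +kernel)

theorem ce_d_199 : ∀ r, r < 64 → sm gd (Qf (12736 + r)) = Qf (tab Gen.d (12736 + r)) :=
  edges_tab (sm gd) Qf (tab Gen.d) 12736 [(12736, 13200), (12737, 12164), (12738, 13202), (12739, 13031), (12740, 12647), (12741, 12648), (12742, 12649), (12743, 12171), (12744, 13123), (12745, 13115), (12746, 12975), (12747, 12183), (12748, 12562), (12749, 13206), (12750, 13198), (12751, 12187), (12752, 13208), (12753, 12660), (12754, 12473), (12755, 12191), (12756, 13210), (12757, 12768), (12758, 13086), (12759, 12197), (12760, 12691), (12761, 12688), (12762, 13089), (12763, 12880), (12764, 13214), (12765, 12581), (12766, 12204), (12767, 13217), (12768, 12757), (12769, 13116), (12770, 13219), (12771, 12214), (12772, 13222), (12773, 12537), (12774, 12213), (12775,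 13225), (12776, 13221), (12777, 12215), (12778, 13227), (12779, 12933), (12780, 12218), (12781, 13231), (12782, 13041), (12783, 12945), (12784, 12946), (12785, 12230), (12786, 12787), (12787, 12786), (12788, 12714), (12789, 12232), (12790, 13233), (12791, 12235), (12792, 12296), (12793, 12242), (12794, 13234), (12795, 13135), (12796, 12244), (12797, 13236), (12798, 12675), (12799, 12247)]
    ⟨e3 q12736 L205603 q13200, e3 q12737 (flp_d L200914) q12164, e3 q12738 (flp_d L205627) q13202, e3 q12739 (flp_d L203717) q13031, e3 q12740 L200944 q12647, e3 q12741 L200950 q12648, e3 q12742 L200958 q12649, e3 q12743 (flp_d L200962) q12171, e3 q12744 (flp_d L204831) q13123, e3 q12745 (flp_d L204730) q13115, e3 q12746 (flp_d L203140) q12975, e3 q12747 L201010 q12183, e3 q12748 L201024 q12562, e3 q12749 (flp_d L205661) q13206, e3 q12750 (flp_d L205583) q13198, e3 q12751 (flp_d L201054) q12187, e3 q12752 (flp_d L205693) q13208, e3 q12753 L201075 q12660, e3 q12754 L201085 q12473, e3 q12755 (flp_d L201089)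 q12191, e3 q12756 (flp_d L205711) q13210, e3 q12757 (flp_d L201235) q12768, e3 q12758 (flp_d L204431) q13086, e3 q12759 L201136 q12197, e3 q12760 L201152 q12691, e3 q12761 L201160 q12688, e3 q12762 (flp_d L204471) q13089, e3 q12763 (flp_d L202316) q12880, e3 q12764 L205751 q13214, e3 q12765 L201206 q12581, e3 q12766 (flp_d L201212) q12204, e3 q12767 (flp_d L205794) q13217, e3 q12768 L201235 q12757, e3 q12769 (flp_d L204746) q13116, e3 q12770 L205806 q13219, e3 q12771 L201269 q12214, e3 q12772 L205847 q13222, e3 q12773 L201297 q12537, e3 q12774 (flp_d L201305) q12213, e3 q12775 (flp_d L205896) q13225, e3 q12776 (flp_d L205839) q13221, e3 q12777 (flp_d L201328) q12215, e3 q12778 (flp_d L205912) q13227, e3 q12779 (flp_d L202780) q12933, e3 q12780 L201355 q12218, e3 q12781 (flp_d L205942) q13231, e3 q12782 (flp_d L203861) q13041, e3 q12783 (flp_d L202864) q12945, e3 q12784 (flp_d L202870) q12946, e3 q12785 L201387 q12230, e3 q12786 (flp_d L201403) q12787, e3 q12787 L201403 q12786, e3 q12788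 L201419 q12714, e3 q12789 L201431 q12232, e3 q12790 (flp_d L205954) q13233, e3 q12791 L201457 q12235, e3 q12792 L201471 q12296, e3 q12793 (flp_d L201479) q12242, e3 q12794 (flp_d L205964) q13234, e3 q12795 (flp_d L204974) q13135, e3 q12796 (flp_d L201504) q12244, e3 q12797 (flp_d L205986) q13236, e3 q12798 L201539 q12675, e3 q12799 L201553 q12247, trivial⟩ (by decide +kernel)

theorem ce_d_200 : ∀ r, r < 64 → sm gd (Qf (12800 + r)) = Qf (tab Gen.d (12800 + r)) :=
  edges_tab (sm gd) Qf (tab Gen.d) 12800 [(12800, 13239), (12801, 13055), (12802, 12254), (12803, 13058), (12804, 12567), (12805, 12568), (12806, 12569), (12807, 12301), (12808, 12262), (12809, 12846), (12810, 12810), (12811, 13246), (12812, 12311), (12813, 12813), (12814, 13250), (12815, 12267), (12816, 13252), (12817, 12314), (12818, 12368), (12819, 12873), (12820, 12885), (12821, 13063), (12822, 12279), (12823, 12371), (12824, 12976), (12825, 12642), (12826, 13199), (12827, 12278), (12828, 13261), (12829, 13256), (12830, 12372),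 (12831, 12878), (12832, 12879), (12833, 12323), (12834, 12643), (12835, 12881), (12836, 12882), (12837, 12839), (12838, 13076), (12839, 12837), (12840, 12292), (12841, 13270), (12842, 12876), (12843, 12889), (12844, 12844), (12845, 13273), (12846, 12809), (12847, 13276), (12848, 12300), (12849, 13278), (12850, 13242), (12851, 12315), (12852, 13040), (12853, 13281), (12854, 12309), (12855, 12666), (12856, 12308), (12857, 13285), (12858, 13283), (12859, 12310), (12860, 13287), (12861, 13248), (12862, 12313), (12863, 13290)]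
    ⟨e3 q12800 (flp_d L206017) q13239, e3 q12801 (flp_d L204034) q13055, e3 q12802 L201571 q12254, e3 q12803 (flp_d L204082) q13058, e3 q12804 L201603 q12567, e3 q12805 L201611 q12568, e3 q12806 L201621 q12569, e3 q12807 L201631 q12301, e3 q12808 L201639 q12262, e3 q12809 (flp_d L201985) q12846, e3 q12810 L201657 q12810, e3 q12811 L206092 q13246, e3 q12812 L201686 q12311, e3 q12813 L201698 q12813, e3 q12814 L206143 q13250, e3 q12815 (flp_d L201713) q12267, e3 q12816 (flp_d L206166) q13252, e3 q12817 L201730 q12314, e3 q12818 L201740 q12368, e3 q12819 (flp_d L202242) q12873, e3 q12820 (flp_d L202364) q12885, e3 q12821 (flp_d L204154) q13063, e3 q12822 L201776 q12279, e3 q12823 L201786 q12371, e3 q12824 (flp_d L203158) q12976, e3 q12825 L201816 q12642, e3 q12826 (flp_d L205601) q13199, e3 q12827 (flp_d L201832) q12278, e3 q12828 (flp_d L206260) q13261, e3 q12829 (flp_d L206198) q13256, e3 q12830 L201858 q12372, e3 q12831 (flp_d L202300) q12878, e3 q12832 (flp_d L202308) q12879, e3 q12833 L201878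 q12323, e3 q12834 L201890 q12643, e3 q12835 (flp_d L202326) q12881, e3 q12836 (flp_d L202336) q12882, e3 q12837 (flp_d L201928) q12839, e3 q12838 (flp_d L204316) q13076, e3 q12839 L201928 q12837, e3 q12840 L201936 q12292, e3 q12841 (flp_d L206336) q13270, e3 q12842 (flp_d L202278) q12876, e3 q12843 (flp_d L202408) q12889, e3 q12844 L201954 q12844, e3 q12845 L206358 q13273, e3 q12846 L201985 q12809, e3 q12847 L206395 q13276, e3 q12848 (flp_d L202003) q12300, e3 q12849 (flp_d L206422) q13278, e3 q12850 (flp_d L206047) q13242, e3 q12851 L202034 q12315, e3 q12852 (flp_d L203845) q13040, e3 q12853 L206450 q13281, e3 q12854 L202066 q12309, e3 q12855 L202078 q12666, e3 q12856 (flp_d L202086) q12308, e3 q12857 (flp_d L206503) q13285, e3 q12858 (flp_d L206477) q13283, e3 q12859 (flp_d L202105) q12310, e3 q12860 (flp_d L206515) q13287, e3 q12861 (flp_d L206123) q13248, e3 q12862 L202132 q12313, e3 q12863 (flp_d L206534) q13290, trivial⟩ (by decide +kernel)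

theorem ce_d_201 : ∀ r, r < 64 → sm gd (Qf (12864 + r)) = Qf (tab Gen.d (12864 + r)) :=
  edges_tab (sm gd) Qf (tab Gen.d) 12864 [(12864, 13280), (12865, 13088), (12866, 12322), (12867, 12690), (12868, 12687), (12869, 12997), (12870, 12329), (12871, 12481), (12872, 12477), (12873, 12819), (12874, 12336), (12875, 12600), (12876, 12842), (12877, 13294), (12878, 12831), (12879, 12832), (12880, 12763), (12881, 12835), (12882, 12836), (12883, 13130), (12884, 12361), (12885, 12820), (12886, 12352), (12887, 12888), (12888, 12887), (12889, 12843), (12890, 12354), (12891, 13301), (12892, 12357), (12893, 13302), (12894, 12359), (12895, 12575), (12896, 12896), (12897, 13304), (12898, 12374), (12899, 13306), (12900, 12378), (12901, 12377), (12902, 12393), (12903, 13310), (12904, 12904), (12905, 13314), (12906, 12380), (12907, 13316), (12908, 12401), (12909, 12389), (12910, 13319), (12911, 12383), (12912, 13321), (12913, 12646), (12914, 13032), (12915, 13033), (12916, 13034), (12917, 12390), (12918,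 12394), (12919, 13311), (12920, 13312), (12921, 13327), (12922, 12396), (12923, 13329), (12924, 13190), (12925, 12398), (12926, 13332), (12927, 12400)]
    ⟨e3 q12864 (flp_d L206442) q13280, e3 q12865 (flp_d L204459) q13088, e3 q12866 L202158 q12322, e3 q12867 L202166 q12690, e3 q12868 L202176 q12687, e3 q12869 (flp_d L203330) q12997, e3 q12870 L202196 q12329, e3 q12871 L202206 q12481, e3 q12872 L202220 q12477, e3 q12873 L202242 q12819, e3 q12874 L202250 q12336, e3 q12875 L202264 q12600, e3 q12876 L202278 q12842, e3 q12877 (flp_d L206576) q13294, e3 q12878 L202300 q12831, e3 q12879 L202308 q12832, e3 q12880 L202316 q12763, e3 q12881 L202326 q12835, e3 q12882 L202336 q12836, e3 q12883 (flp_d L204911) q13130, e3 q12884 L202354 q12361, e3 q12885 L202364 q12820, e3 q12886 L202374 q12352, e3 q12887 (flp_d L202394) q12888, e3 q12888 L202394 q12887, e3 q12889 L202408 q12843, e3 q12890 L202420 q12354, e3 q12891 (flp_d L206662) q13301, e3 q12892 L202436 q12357, e3 q12893 (flp_d L206672) q13302, e3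 q12894 L202460 q12359, e3 q12895 L202474 q12575, e3 q12896 L202484 q12896, e3 q12897 L206690 q13304, e3 q12898 (flp_d L202497) q12374, e3 q12899 (flp_d L206709) q13306, e3 q12900 L202514 q12378, e3 q12901 L202520 q12377, e3 q12902 L202527 q12393, e3 q12903 (flp_d L206735) q13310, e3 q12904 L202539 q12904, e3 q12905 L206762 q13314, e3 q12906 (flp_d L202552) q12380, e3 q12907 (flp_d L206781) q13316, e3 q12908 L202573 q12401, e3 q12909 L202583 q12389, e3 q12910 L206807 q13319, e3 q12911 (flp_d L202603) q12383, e3 q12912 (flp_d L206837) q13321, e3 q12913 L202631 q12646, e3 q12914 (flp_d L203739) q13032, e3 q12915 (flp_d L203745) q13033, e3 q12916 (flp_d L203755) q13034, e3 q12917 (flp_d L202661) q12390, e3 q12918 L202675 q12394, e3 q12919 (flp_d L206743) q13311, e3 q12920 (flp_d L206749) q13312, e3 q12921 L206879 q13327, e3 q12922 (flp_d L202699) q12396, e3 q12923 (flp_d L206898) q13329, e3 q12924 (flp_d L205525) q13190, e3 q12925 (flp_d L202724) q12398, e3 q12926 (flp_d L206925) q13332, e3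 q12927 L202739 q12400, trivial⟩ (by decide +kernel)

theorem ce_d_202 : ∀ r, r < 64 → sm gd (Qf (12928 + r)) = Qf (tab Gen.d (12928 + r)) :=
  edges_tab (sm gd) Qf (tab Gen.d) 12928 [(12928, 13335), (12929, 13056), (12930, 13336), (12931, 12405), (12932, 13338), (12933, 12779), (12934, 12407), (12935, 13341), (12936, 12409), (12937, 12413), (12938, 13344), (12939, 13159), (12940, 12414), (12941, 13345), (12942, 13346), (12943, 13066), (12944, 13350), (12945, 12783), (12946, 12784), (12947, 12423), (12948, 12689), (12949, 13042), (12950, 12692), (12951, 13354), (12952, 12425), (12953, 13355), (12954, 12427), (12955, 13357), (12956, 12429), (12957, 12431), (12958, 13358), (12959, 12433), (12960, 12436), (12961, 12441), (12962, 13359), (12963, 12717), (12964, 12964), (12965, 13362), (12966, 12444), (12967, 13364), (12968, 12470), (12969, 13366), (12970, 12447), (12971, 13368), (12972, 12449), (12973, 13371), (12974, 12977), (12975, 12746), (12976, 12824), (12977, 12974), (12978, 12456), (12979,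 13375), (12980, 13080), (12981, 13081), (12982, 12461), (12983, 13377), (12984, 12467), (12985, 12463), (12986, 13379), (12987, 13016), (12988, 12466), (12989, 13382), (12990, 12469), (12991, 12489)]
    ⟨e3 q12928 (flp_d L206942) q13335, e3 q12929 (flp_d L204050) q13056, e3 q12930 L206944 q13336, e3 q12931 (flp_d L202763) q12405, e3 q12932 (flp_d L206963) q13338, e3 q12933 L202780 q12779, e3 q12934 (flp_d L202784) q12407, e3 q12935 (flp_d L206982) q13341, e3 q12936 L202801 q12409, e3 q12937 L202808 q12413, e3 q12938 (flp_d L207001) q13344, e3 q12939 (flp_d L205193) q13159, e3 q12940 L202826 q12414, e3 q12941 (flp_d L207009) q13345, e3 q12942 (flp_d L207017) q13346, e3 q12943 (flp_d L204192) q13066, e3 q12944 L207044 q13350, e3 q12945 L202864 q12783, e3 q12946 L202870 q12784, e3 q12947 L202880 q12423, e3 q12948 L202892 q12689, e3 q12949 (flp_d L203877) q13042, e3 q12950 L202912 q12692, e3 q12951 L207086 q13354, e3 q12952 (flp_d L202926) q12425, e3 q12953 (flp_d L207102) q13355, e3 q12954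 L202948 q12427, e3 q12955 (flp_d L207120) q13357, e3 q12956 (flp_d L202962) q12429, e3 q12957 L202978 q12431, e3 q12958 (flp_d L207132) q13358, e3 q12959 L202996 q12433, e3 q12960 (flp_d L203004) q12436, e3 q12961 (flp_d L203016) q12441, e3 q12962 (flp_d L207146) q13359, e3 q12963 L203041 q12717, e3 q12964 L203053 q12964, e3 q12965 L207170 q13362, e3 q12966 (flp_d L203068) q12444, e3 q12967 (flp_d L207193) q13364, e3 q12968 L203085 q12470, e3 q12969 L207205 q13366, e3 q12970 (flp_d L203099) q12447, e3 q12971 (flp_d L207230) q13368, e3 q12972 L203118 q12449, e3 q12973 (flp_d L207249) q13371, e3 q12974 (flp_d L203166) q12977, e3 q12975 L203140 q12746, e3 q12976 L203158 q12824, e3 q12977 L203166 q12974, e3 q12978 L203178 q12456, e3 q12979 (flp_d L207293) q13375, e3 q12980 (flp_d L204366) q13080, e3 q12981 (flp_d L204378) q13081, e3 q12982 (flp_d L203202) q12461, e3 q12983 (flp_d L207313) q13377, e3 q12984 L203233 q12467, e3 q12985 (flp_d L203241) q12463, e3 q12986 (flp_d L207333) q13379, e3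 q12987 (flp_d L203528) q13016, e3 q12988 L203266 q12466, e3 q12989 (flp_d L207354) q13382, e3 q12990 L203278 q12469, e3 q12991 L203285 q12489, trivial⟩ (by decide +kernel)

theorem ce_d_203 : ∀ r, r < 64 → sm gd (Qf (12992 + r)) = Qf (tab Gen.d (12992 + r)) :=
  edges_tab (sm gd) Qf (tab Gen.d) 12992 [(12992, 13384), (12993, 13381), (12994, 12472), (12995, 12564), (12996, 13000), (12997, 12869), (12998, 12480), (12999, 13388), (13000, 12996), (13001, 12484), (13002, 12485), (13003, 13389), (13004, 12487), (13005, 13228), (13006, 13392), (13007, 12490), (13008, 13385), (13009, 12492), (13010, 13395), (13011, 12494), (13012, 12571), (13013, 13013), (13014, 12503), (13015, 13396), (13016, 12987), (13017, 13398), (13018, 12506), (13019, 13400), (13020, 12510), (13021, 12509), (13022, 12534), (13023, 13403), (13024, 13405), (13025, 12512), (13026, 13407), (13027, 12543), (13028, 13263), (13029, 12515), (13030, 13410), (13031, 12739), (13032, 12914), (13033, 12915), (13034, 12916), (13035, 13035),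 (13036, 12629), (13037, 12525), (13038, 13415), (13039, 12621), (13040, 12852), (13041, 12782), (13042, 12949), (13043, 12535), (13044, 13404), (13045, 12536), (13046, 13418), (13047, 13224), (13048, 12538), (13049, 13420), (13050, 12597), (13051, 12540), (13052, 13422), (13053, 12542), (13054, 13425), (13055, 12801)]
    ⟨e3 q12992 (flp_d L207363) q13384, e3 q12993 (flp_d L207349) q13381, e3 q12994 L203300 q12472, e3 q12995 L203308 q12564, e3 q12996 (flp_d L203362) q13000, e3 q12997 L203330 q12869, e3 q12998 L203344 q12480, e3 q12999 (flp_d L207399) q13388, e3 q13000 L203362 q12996, e3 q13001 L203376 q12484, e3 q13002 (flp_d L203384) q12485, e3 q13003 (flp_d L207413) q13389, e3 q13004 L203410 q12487, e3 q13005 (flp_d L205921) q13228, e3 q13006 (flp_d L207443) q13392, e3 q13007 L203434 q12490, e3 q13008 (flp_d L207371) q13385, e3 q13009 L203452 q12492, e3 q13010 (flp_d L207471) q13395, e3 q13011 L203464 q12494, e3 q13012 L203480 q12571, e3 q13013 L203492 q13013, e3 q13014 (flp_d L203493)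 q12503, e3 q13015 (flp_d L207481) q13396, e3 q13016 L203528 q12987, e3 q13017 L207503 q13398, e3 q13018 (flp_d L203552) q12506, e3 q13019 (flp_d L207536) q13400, e3 q13020 L203581 q12510, e3 q13021 L203595 q12509, e3 q13022 L203606 q12534, e3 q13023 (flp_d L207565) q13403, e3 q13024 L207577 q13405, e3 q13025 (flp_d L203632) q12512, e3 q13026 (flp_d L207610) q13407, e3 q13027 L203663 q12543, e3 q13028 (flp_d L206282) q13263, e3 q13029 (flp_d L203687) q12515, e3 q13030 (flp_d L207650) q13410, e3 q13031 L203717 q12739, e3 q13032 L203739 q12914, e3 q13033 L203745 q12915, e3 q13034 L203755 q12916, e3 q13035 L203773 q13035, e3 q13036 L203784 q12629, e3 q13037 (flp_d L203792) q12525, e3 q13038 (flp_d L207720) q13415, e3 q13039 L203827 q12621, e3 q13040 L203845 q12852, e3 q13041 L203861 q12782, e3 q13042 L203877 q12949, e3 q13043 L203895 q12535, e3 q13044 (flp_d L207575) q13404, e3 q13045 (flp_d L203915) q12536, e3 q13046 (flp_d L207762) q13418, e3 q13047 (flp_d L205882) q13224, e3 q13048 (flp_d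 L203950) q12538, e3 q13049 (flp_d L207786) q13420, e3 q13050 L203979 q12597, e3 q13051 (flp_d L203987) q12540, e3 q13052 (flp_d L207810) q13422, e3 q13053 L204014 q12542, e3 q13054 (flp_d L207839) q13425, e3 q13055 L204034 q12801, trivial⟩ (by decide +kernel)

theorem ce_d_204 : ∀ r, r < 64 → sm gd (Qf (13056 + r)) = Qf (tab Gen.d (13056 + r)) :=
  edges_tab (sm gd) Qf (tab Gen.d) 13056 [(13056, 12929), (13057, 12662), (13058, 12803), (13059, 13062), (13060, 13090), (13061, 13207), (13062, 13059), (13063, 12821), (13064, 13240), (13065, 13241), (13066, 12943), (13067, 12577), (13068, 12604), (13069, 12580), (13070, 13427), (13071, 13216), (13072, 12582), (13073, 13430), (13074, 12584), (13075, 13433), (13076, 12838), (13077, 12588), (13078, 13428), (13079, 13434), (13080, 12980), (13081, 12981), (13082, 12594), (13083, 13437), (13084, 12596), (13085, 13440), (13086, 12758), (13087, 13295), (13088, 12865), (13089, 12762), (13090, 13060), (13091, 12607), (13092, 13442), (13093, 12616), (13094,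 13098), (13095, 13444), (13096, 12611), (13097, 13446), (13098, 13094), (13099, 12613), (13100, 13449), (13101, 12615), (13102, 13452), (13103, 13453), (13104, 12618), (13105, 13455), (13106, 12620), (13107, 12697), (13108, 13459), (13109, 12622), (13110, 13461), (13111, 12624), (13112, 13464), (13113, 13451), (13114, 12626), (13115, 12745), (13116, 12769), (13117, 12633), (13118, 13467), (13119, 12636)]
    ⟨e3 q13056 L204050 q12929, e3 q13057 L204066 q12662, e3 q13058 L204082 q12803, e3 q13059 (flp_d L204142) q13062, e3 q13060 (flp_d L204487) q13090, e3 q13061 (flp_d L205677) q13207, e3 q13062 L204142 q13059, e3 q13063 L204154 q12821, e3 q13064 (flp_d L206027) q13240, e3 q13065 (flp_d L206037) q13241, e3 q13066 L204192 q12943, e3 q13067 L204208 q12577, e3 q13068 L204226 q12604, e3 q13069 (flp_d L204236) q12580, e3 q13070 (flp_d L207863) q13427, e3 q13071 (flp_d L205780) q13216, e3 q13072 (flp_d L204275) q12582, e3 q13073 (flp_d L207900) q13430, e3 q13074 L204300 q12584, e3 q13075 (flp_d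 L207929) q13433, e3 q13076 L204316 q12838, e3 q13077 L204330 q12588, e3 q13078 (flp_d L207876) q13428, e3 q13079 (flp_d L207939) q13434, e3 q13080 L204366 q12980, e3 q13081 L204378 q12981, e3 q13082 (flp_d L204384) q12594, e3 q13083 (flp_d L207977) q13437, e3 q13084 L204409 q12596, e3 q13085 (flp_d L208004) q13440, e3 q13086 L204431 q12758, e3 q13087 (flp_d L206590) q13295, e3 q13088 L204459 q12865, e3 q13089 L204471 q12762, e3 q13090 L204487 q13060, e3 q13091 (flp_d L204493) q12607, e3 q13092 (flp_d L208030) q13442, e3 q13093 L204512 q12616, e3 q13094 (flp_d L204567) q13098, e3 q13095 L208044 q13444, e3 q13096 (flp_d L204544) q12611, e3 q13097 (flp_d L208075) q13446, e3 q13098 L204567 q13094, e3 q13099 (flp_d L204577) q12613, e3 q13100 (flp_d L208110) q13449, e3 q13101 L204602 q12615, e3 q13102 (flp_d L208135) q13452, e3 q13103 L208137 q13453, e3 q13104 (flp_d L204626) q12618, e3 q13105 (flp_d L208168) q13455, e3 q13106 L204645 q12620, e3 q13107 L204658 q12697, e3 q13108 (flp_d L208200)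 q13459, e3 q13109 (flp_d L204670) q12622, e3 q13110 (flp_d L208224) q13461, e3 q13111 L204699 q12624, e3 q13112 (flp_d L208253) q13464, e3 q13113 (flp_d L208130) q13451, e3 q13114 L204718 q12626, e3 q13115 L204730 q12745, e3 q13116 L204746 q12769, e3 q13117 L204758 q12633, e3 q13118 (flp_d L208278) q13467, e3 q13119 (flp_d L204778) q12636, trivial⟩ (by decide +kernel)

theorem ce_d_205 : ∀ r, r < 64 → sm gd (Qf (13120 + r)) = Qf (tab Gen.d (13120 + r)) :=
  edges_tab (sm gd) Qf (tab Gen.d) 13120 [(13120, 13468), (13121, 12638), (13122, 13471), (13123, 12744), (13124, 13259), (13125, 13266), (13126, 12645), (13127, 13473), (13128, 13204), (13129, 13205), (13130, 12883), (13131, 12653), (13132, 13146), (13133, 12656), (13134, 13475), (13135, 12795), (13136, 12659), (13137, 13478), (13138, 12663), (13139, 13479), (13140, 12671), (13141, 12665), (13142, 13481), (13143, 13284), (13144, 12667), (13145, 13483), (13146, 13132), (13147, 12670), (13148, 12683), (13149, 13486), (13150, 12672), (13151,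 13490), (13152, 12674), (13153, 13493), (13154, 12701), (13155, 12677), (13156, 13496), (13157, 13485), (13158, 12679), (13159, 12939), (13160, 12684), (13161, 13487), (13162, 13488), (13163, 13213), (13164, 13353), (13165, 13212), (13166, 12693), (13167, 13502), (13168, 13489), (13169, 12695), (13170, 13456), (13171, 13506), (13172, 12698), (13173, 13460), (13174, 13448), (13175, 12700), (13176, 13510), (13177, 13494), (13178, 12703), (13179, 13179), (13180, 13180), (13181, 12716), (13182, 13513), (13183, 12719)]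
    ⟨e3 q13120 (flp_d L208292) q13468, e3 q13121 L204807 q12638, e3 q13122 (flp_d L208327) q13471, e3 q13123 L204831 q12744, e3 q13124 (flp_d L206238) q13259, e3 q13125 (flp_d L206302) q13266, e3 q13126 L204869 q12645, e3 q13127 (flp_d L208351) q13473, e3 q13128 (flp_d L205645) q13204, e3 q13129 (flp_d L205653) q13205, e3 q13130 L204911 q12883, e3 q13131 L204927 q12653, e3 q13132 (flp_d L205095) q13146, e3 q13133 (flp_d L204947) q12656, e3 q13134 (flp_d L208375) q13475, e3 q13135 L204974 q12795, e3 q13136 L204986 q12659, e3 q13137 (flp_d L208400) q13478, e3 q13138 (flp_d L204998) q12663, e3 q13139 (flp_d L208410) q13479, e3 q13140 L205025 q12671, e3 q13141 (flp_d L205033) q12665, e3 q13142 (flp_d L208436) q13481, e3 q13143 (flp_d L206491) q13284, e3 q13144 (flp_d L205070) q12667, e3 q13145 (flp_d L208460) q13483, e3 q13146 L205095 q13132, e3 q13147 L205103 q12670, e3 q13148 L205114 q12683, e3 q13149 (flp_d L208481) q13486, e3 q13150 (flp_d L205124) q12672, e3 q13151 (flp_d L208519) q13490,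 e3 q13152 L205143 q12674, e3 q13153 (flp_d L208540) q13493, e3 q13154 L205160 q12701, e3 q13155 L205166 q12677, e3 q13156 (flp_d L208565) q13496, e3 q13157 (flp_d L208476) q13485, e3 q13158 L205183 q12679, e3 q13159 L205193 q12939, e3 q13160 L205209 q12684, e3 q13161 (flp_d L208491) q13487, e3 q13162 (flp_d L208499) q13488, e3 q13163 (flp_d L205745) q13213, e3 q13164 (flp_d L207080) q13353, e3 q13165 (flp_d L205737) q13212, e3 q13166 (flp_d L205273) q12693, e3 q13167 (flp_d L208633) q13502, e3 q13168 (flp_d L208513) q13489, e3 q13169 L205307 q12695, e3 q13170 (flp_d L208179) q13456, e3 q13171 (flp_d L208673) q13506, e3 q13172 L205333 q12698, e3 q13173 (flp_d L208212) q13460, e3 q13174 (flp_d L208102) q13448, e3 q13175 L205361 q12700, e3 q13176 (flp_d L208713) q13510, e3 q13177 (flp_d L208550) q13494, e3 q13178 L205387 q12703, e3 q13179 L205403 q13179, e3 q13180 L205416 q13180, e3 q13181 L205425 q12716, e3 q13182 (flp_d L208740) q13513, e3 q13183 (flp_d L205439) q12719, trivial⟩ (by decide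 +kernel)

theorem ce_d_206 : ∀ r, r < 64 → sm gd (Qf (13184 + r)) = Qf (tab Gen.d (13184 + r)) :=
  edges_tab (sm gd) Qf (tab Gen.d) 13184 [(13184, 13514), (13185, 12723), (13186, 12722), (13187, 13517), (13188, 12724), (13189, 13518), (13190, 12924), (13191, 13307), (13192, 12727), (13193, 13521), (13194, 12729), (13195, 13524), (13196, 13402), (13197, 12732), (13198, 12750), (13199, 12826), (13200, 12736), (13201, 13527), (13202, 12738), (13203, 13529), (13204, 13128), (13205, 13129), (13206, 12749), (13207, 13061), (13208, 12752), (13209, 13532), (13210, 12756), (13211, 13534), (13212, 13165), (13213, 13163), (13214, 12764), (13215, 13536), (13216, 13071), (13217, 12767), (13218, 13540), (13219, 12770), (13220, 13541), (13221, 12776), (13222, 12772), (13223, 13543), (13224, 13047), (13225, 12775), (13226, 13546), (13227, 12778), (13228, 13005), (13229, 13548), (13230, 13545), (13231, 12781), (13232, 13352), (13233, 12790), (13234, 12794), (13235, 13552), (13236, 12797), (13237, 13554),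 (13238, 13551), (13239, 12800), (13240, 13064), (13241, 13065), (13242, 12850), (13243, 13275), (13244, 13244), (13245, 13558), (13246, 12811), (13247, 13560)]
    ⟨e3 q13184 (flp_d L208750) q13514, e3 q13185 L205466 q12723, e3 q13186 L205478 q12722, e3 q13187 (flp_d L208777) q13517, e3 q13188 (flp_d L205494) q12724, e3 q13189 (flp_d L208789) q13518, e3 q13190 L205525 q12924, e3 q13191 (flp_d L206720) q13307, e3 q13192 (flp_d L205541) q12727, e3 q13193 (flp_d L208823) q13521, e3 q13194 L205564 q12729, e3 q13195 (flp_d L208846) q13524, e3 q13196 (flp_d L207558) q13402, e3 q13197 L205575 q12732, e3 q13198 L205583 q12750, e3 q13199 L205601 q12826, e3 q13200 (flp_d L205603) q12736, e3 q13201 (flp_d L208870) q13527, e3 q13202 L205627 q12738, e3 q13203 (flp_d L208888) q13529, e3 q13204 L205645 q13128, e3 q13205 L205653 q13129, e3 q13206 L205661 q12749, e3 q13207 L205677 q13061, e3 q13208 L205693 q12752, e3 q13209 (flp_d L208919) q13532, e3 q13210 L205711 q12756, e3 q13211 (flp_d L208936) q13534,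 e3 q13212 L205737 q13165, e3 q13213 L205745 q13163, e3 q13214 (flp_d L205751) q12764, e3 q13215 (flp_d L208960) q13536, e3 q13216 L205780 q13071, e3 q13217 L205794 q12767, e3 q13218 (flp_d L209002) q13540, e3 q13219 (flp_d L205806) q12770, e3 q13220 (flp_d L209014) q13541, e3 q13221 L205839 q12776, e3 q13222 (flp_d L205847) q12772, e3 q13223 (flp_d L209042) q13543, e3 q13224 L205882 q13047, e3 q13225 L205896 q12775, e3 q13226 (flp_d L209075) q13546, e3 q13227 L205912 q12778, e3 q13228 L205921 q13005, e3 q13229 (flp_d L209088) q13548, e3 q13230 (flp_d L209068) q13545, e3 q13231 L205942 q12781, e3 q13232 (flp_d L207070) q13352, e3 q13233 L205954 q12790, e3 q13234 L205964 q12794, e3 q13235 (flp_d L209115) q13552, e3 q13236 L205986 q12797, e3 q13237 (flp_d L209142) q13554, e3 q13238 (flp_d L209110) q13551, e3 q13239 L206017 q12800, e3 q13240 L206027 q13064, e3 q13241 L206037 q13065, e3 q13242 L206047 q12850, e3 q13243 (flp_d L206387) q13275, e3 q13244 L206069 q13244, e3 q13245 L209184 q13558,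 e3 q13246 (flp_d L206092) q12811, e3 q13247 (flp_d L209215) q13560, trivial⟩ (by decide +kernel)

theorem ce_d_207 : ∀ r, r < 64 → sm gd (Qf (13248 + r)) = Qf (tab Gen.d (13248 + r)) :=
  edges_tab (sm gd) Qf (tab Gen.d) 13248 [(13248, 12861), (13249, 13331), (13250, 12814), (13251, 13563), (13252, 12816), (13253, 13566), (13254, 13293), (13255, 13300), (13256, 12829), (13257, 13318), (13258, 13373), (13259, 13124), (13260, 13526), (13261, 12828), (13262, 13571), (13263, 13028), (13264, 13297), (13265, 13298), (13266, 13125), (13267, 13299), (13268, 13269), (13269, 13268), (13270, 12841), (13271, 13296), (13272, 13575), (13273, 12845), (13274, 13577), (13275, 13243), (13276, 12847), (13277, 13579), (13278, 12849), (13279, 13582), (13280, 12864), (13281, 12853), (13282, 13583), (13283, 12858), (13284, 13143), (13285, 12857), (13286, 13586), (13287, 12860), (13288, 13588), (13289, 13585), (13290, 12863), (13291, 13441), (13292, 13387), (13293, 13254), (13294, 12877), (13295, 13087), (13296,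 13271), (13297, 13264), (13298, 13265), (13299, 13267), (13300, 13255), (13301, 12891), (13302, 12893), (13303, 13592), (13304, 12897), (13305, 13594), (13306, 12899), (13307, 13191), (13308, 13598), (13309, 13466), (13310, 12903), (13311, 12919)]
    ⟨e3 q13248 L206123 q12861, e3 q13249 (flp_d L206919) q13331, e3 q13250 (flp_d L206143) q12814, e3 q13251 (flp_d L209249) q13563, e3 q13252 L206166 q12816, e3 q13253 (flp_d L209272) q13566, e3 q13254 (flp_d L206562) q13293, e3 q13255 (flp_d L206648) q13300, e3 q13256 L206198 q12829, e3 q13257 (flp_d L206805) q13318, e3 q13258 (flp_d L207269) q13373, e3 q13259 L206238 q13124, e3 q13260 (flp_d L208858) q13526, e3 q13261 L206260 q12828, e3 q13262 (flp_d L209326) q13571, e3 q13263 L206282 q13028, e3 q13264 (flp_d L206616) q13297, e3 q13265 (flp_d L206626) q13298, e3 q13266 L206302 q13125, e3 q13267 (flp_d L206636) q13299, e3 q13268 (flp_d L206328) q13269, e3 q13269 L206328 q13268, e3 q13270 L206336 q12841, e3 q13271 (flp_d L206606) q13296, e3 q13272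 L209358 q13575, e3 q13273 (flp_d L206358) q12845, e3 q13274 (flp_d L209391) q13577, e3 q13275 L206387 q13243, e3 q13276 (flp_d L206395) q12847, e3 q13277 (flp_d L209415) q13579, e3 q13278 L206422 q12849, e3 q13279 (flp_d L209442) q13582, e3 q13280 L206442 q12864, e3 q13281 (flp_d L206450) q12853, e3 q13282 (flp_d L209452) q13583, e3 q13283 L206477 q12858, e3 q13284 L206491 q13143, e3 q13285 L206503 q12857, e3 q13286 (flp_d L209477) q13586, e3 q13287 L206515 q12860, e3 q13288 (flp_d L209486) q13588, e3 q13289 (flp_d L209472) q13585, e3 q13290 L206534 q12863, e3 q13291 (flp_d L208018) q13441, e3 q13292 (flp_d L207385) q13387, e3 q13293 L206562 q13254, e3 q13294 L206576 q12877, e3 q13295 L206590 q13087, e3 q13296 L206606 q13271, e3 q13297 L206616 q13264, e3 q13298 L206626 q13265, e3 q13299 L206636 q13267, e3 q13300 L206648 q13255, e3 q13301 L206662 q12891, e3 q13302 L206672 q12893, e3 q13303 L209524 q13592, e3 q13304 (flp_d L206690) q12897, e3 q13305 (flp_d L209551) q13594, e3 q13306 L206709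 q12899, e3 q13307 L206720 q13191, e3 q13308 (flp_d L209589) q13598, e3 q13309 (flp_d L208271) q13466, e3 q13310 L206735 q12903, e3 q13311 L206743 q12919, trivial⟩ (by decide +kernel)

theorem ce_d_208 : ∀ r, r < 64 → sm gd (Qf (13312 + r)) = Qf (tab Gen.d (13312 + r)) :=
  edges_tab (sm gd) Qf (tab Gen.d) 13312 [(13312, 12920), (13313, 13604), (13314, 12905), (13315, 13607), (13316, 12907), (13317, 13610), (13318, 13257), (13319, 12910), (13320, 13612), (13321, 12912), (13322, 13614), (13323, 13413), (13324, 13414), (13325, 13602), (13326, 13603), (13327, 12921), (13328, 13618), (13329, 12923), (13330, 13621), (13331, 13249), (13332, 12926), (13333, 13624), (13334, 13470), (13335, 12928), (13336, 12930), (13337, 13626), (13338, 12932), (13339, 13411), (13340, 13630), (13341, 12935), (13342, 13633), (13343, 13439), (13344, 12938), (13345, 12941), (13346, 12942), (13347, 13636), (13348, 13637), (13349, 13639), (13350, 12944), (13351, 13641), (13352, 13232), (13353, 13164), (13354, 12951),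 (13355, 12953), (13356, 13642), (13357, 12955), (13358, 12958), (13359, 12962), (13360, 13644), (13361, 13627), (13362, 12965), (13363, 13646), (13364, 12967), (13365, 13649), (13366, 12969), (13367, 13650), (13368, 12971), (13369, 13653), (13370, 13643), (13371, 12973), (13372, 13374), (13373, 13258), (13374, 13372), (13375, 12979)]
    ⟨e3 q13312 L206749 q12920, e3 q13313 L209630 q13604, e3 q13314 (flp_d L206762) q12905, e3 q13315 (flp_d L209672) q13607, e3 q13316 L206781 q12907, e3 q13317 (flp_d L209697) q13610, e3 q13318 L206805 q13257, e3 q13319 (flp_d L206807) q12910, e3 q13320 (flp_d L209721) q13612, e3 q13321 L206837 q12912, e3 q13322 (flp_d L209745) q13614, e3 q13323 (flp_d L207694) q13413, e3 q13324 (flp_d L207706) q13414, e3 q13325 (flp_d L209618) q13602, e3 q13326 (flp_d L209624) q13603, e3 q13327 (flp_d L206879) q12921, e3 q13328 (flp_d L209782) q13618, e3 q13329 L206898 q12923, e3 q13330 (flp_d L209805) q13621, e3 q13331 L206919 q13249, e3 q13332 L206925 q12926, e3 q13333 (flp_d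 L209828) q13624, e3 q13334 (flp_d L208318) q13470, e3 q13335 L206942 q12928, e3 q13336 (flp_d L206944) q12930, e3 q13337 (flp_d L209840) q13626, e3 q13338 L206963 q12932, e3 q13339 (flp_d L207668) q13411, e3 q13340 (flp_d L209878) q13630, e3 q13341 L206982 q12935, e3 q13342 (flp_d L209897) q13633, e3 q13343 (flp_d L207999) q13439, e3 q13344 L207001 q12938, e3 q13345 L207009 q12941, e3 q13346 L207017 q12942, e3 q13347 (flp_d L209918) q13636, e3 q13348 (flp_d L209926) q13637, e3 q13349 L209938 q13639, e3 q13350 (flp_d L207044) q12944, e3 q13351 (flp_d L209968) q13641, e3 q13352 L207070 q13232, e3 q13353 L207080 q13164, e3 q13354 (flp_d L207086) q12951, e3 q13355 L207102 q12953, e3 q13356 (flp_d L209978) q13642, e3 q13357 L207120 q12955, e3 q13358 L207132 q12958, e3 q13359 L207146 q12962, e3 q13360 (flp_d L210001) q13644, e3 q13361 (flp_d L209855) q13627, e3 q13362 (flp_d L207170) q12965, e3 q13363 (flp_d L210021) q13646, e3 q13364 L207193 q12967, e3 q13365 (flp_d L210046) q13649, e3 q13366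 (flp_d L207205) q12969, e3 q13367 (flp_d L210056) q13650, e3 q13368 L207230 q12971, e3 q13369 (flp_d L210081) q13653, e3 q13370 (flp_d L209992) q13643, e3 q13371 L207249 q12973, e3 q13372 (flp_d L207281) q13374, e3 q13373 L207269 q13258, e3 q13374 L207281 q13372, e3 q13375 L207293 q12979, trivial⟩ (by decide +kernel)

theorem ce_d_209 : ∀ r, r < 64 → sm gd (Qf (13376 + r)) = Qf (tab Gen.d (13376 + r)) :=
  edges_tab (sm gd) Qf (tab Gen.d) 13376 [(13376, 13436), (13377, 12983), (13378, 13657), (13379, 12986), (13380, 13659), (13381, 12993), (13382, 12989), (13383, 13658), (13384, 12992), (13385, 13008), (13386, 13660), (13387, 13292), (13388, 12999), (13389, 13003), (13390, 13537), (13391, 13665), (13392, 13006), (13393, 13549), (13394, 13663), (13395, 13010), (13396, 13015), (13397, 13669), (13398, 13017), (13399, 13670), (13400, 13019), (13401, 13673), (13402, 13196), (13403, 13023), (13404, 13044), (13405, 13024), (13406, 13677), (13407, 13026), (13408, 13680), (13409, 13572), (13410,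 13030), (13411, 13339), (13412, 13682), (13413, 13323), (13414, 13324), (13415, 13038), (13416, 13686), (13417, 13676), (13418, 13046), (13419, 13688), (13420, 13049), (13421, 13690), (13422, 13052), (13423, 13692), (13424, 13687), (13425, 13054), (13426, 13556), (13427, 13070), (13428, 13078), (13429, 13695), (13430, 13073), (13431, 13698), (13432, 13694), (13433, 13075), (13434, 13079), (13435, 13696), (13436, 13376), (13437, 13083), (13438, 13702), (13439, 13343)]
    ⟨e3 q13376 (flp_d L207965) q13436, e3 q13377 L207313 q12983, e3 q13378 (flp_d L210124) q13657, e3 q13379 L207333 q12986, e3 q13380 (flp_d L210139) q13659, e3 q13381 L207349 q12993, e3 q13382 L207354 q12989, e3 q13383 (flp_d L210134) q13658, e3 q13384 L207363 q12992, e3 q13385 L207371 q13008, e3 q13386 (flp_d L210145) q13660, e3 q13387 L207385 q13292, e3 q13388 L207399 q12999, e3 q13389 L207413 q13003, e3 q13390 (flp_d L208973) q13537, e3 q13391 (flp_d L210177) q13665, e3 q13392 L207443 q13006, e3 q13393 (flp_d L209098) q13549,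 e3 q13394 (flp_d L210166) q13663, e3 q13395 L207471 q13010, e3 q13396 L207481 q13015, e3 q13397 (flp_d L210226) q13669, e3 q13398 (flp_d L207503) q13017, e3 q13399 (flp_d L210242) q13670, e3 q13400 L207536 q13019, e3 q13401 (flp_d L210279) q13673, e3 q13402 L207558 q13196, e3 q13403 L207565 q13023, e3 q13404 L207575 q13044, e3 q13405 (flp_d L207577) q13024, e3 q13406 (flp_d L210322) q13677, e3 q13407 L207610 q13026, e3 q13408 (flp_d L210363) q13680, e3 q13409 (flp_d L209338) q13572, e3 q13410 L207650 q13030, e3 q13411 L207668 q13339, e3 q13412 (flp_d L210393) q13682, e3 q13413 L207694 q13323, e3 q13414 L207706 q13324, e3 q13415 L207720 q13038, e3 q13416 (flp_d L210458) q13686, e3 q13417 (flp_d L210314) q13676, e3 q13418 L207762 q13046, e3 q13419 (flp_d L210483) q13688, e3 q13420 L207786 q13049, e3 q13421 (flp_d L210506) q13690, e3 q13422 L207810 q13052, e3 q13423 (flp_d L210531) q13692, e3 q13424 (flp_d L210474) q13687, e3 q13425 L207839 q13054, e3 q13426 (flp_d L209164) q13556, e3 q13427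 L207863 q13070, e3 q13428 L207876 q13078, e3 q13429 (flp_d L210562) q13695, e3 q13430 L207900 q13073, e3 q13431 (flp_d L210595) q13698, e3 q13432 (flp_d L210553) q13694, e3 q13433 L207929 q13075, e3 q13434 L207939 q13079, e3 q13435 (flp_d L210576) q13696, e3 q13436 L207965 q13376, e3 q13437 L207977 q13083, e3 q13438 (flp_d L210640) q13702, e3 q13439 L207999 q13343, trivial⟩ (by decide +kernel)

theorem ce_d_210 : ∀ r, r < 64 → sm gd (Qf (13440 + r)) = Qf (tab Gen.d (13440 + r)) :=
  edges_tab (sm gd) Qf (tab Gen.d) 13440 [(13440, 13085), (13441, 13291), (13442, 13092), (13443, 13705), (13444, 13095), (13445, 13706), (13446, 13097), (13447, 13709), (13448, 13174), (13449, 13100), (13450, 13712), (13451, 13113), (13452, 13102), (13453, 13103), (13454, 13714), (13455, 13105), (13456, 13170), (13457, 13717), (13458, 13708), (13459, 13108), (13460, 13173), (13461, 13110), (13462, 13723), (13463, 13711), (13464, 13112), (13465, 13713), (13466, 13309), (13467, 13118), (13468, 13120), (13469, 13728),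 (13470, 13334), (13471, 13122), (13472, 13574), (13473, 13127), (13474, 13530), (13475, 13134), (13476, 13731), (13477, 13691), (13478, 13137), (13479, 13139), (13480, 13734), (13481, 13142), (13482, 13736), (13483, 13145), (13484, 13738), (13485, 13157), (13486, 13149), (13487, 13161), (13488, 13162), (13489, 13168), (13490, 13151), (13491, 13745), (13492, 13737), (13493, 13153), (13494, 13177), (13495, 13722), (13496, 13156), (13497, 13739), (13498, 13741), (13499, 13742), (13500, 13535), (13501, 13595), (13502, 13167), (13503, 13606)]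
    ⟨e3 q13440 L208004 q13085, e3 q13441 L208018 q13291, e3 q13442 L208030 q13092, e3 q13443 (flp_d L210667) q13705, e3 q13444 (flp_d L208044) q13095, e3 q13445 (flp_d L210679) q13706, e3 q13446 L208075 q13097, e3 q13447 (flp_d L210716) q13709, e3 q13448 L208102 q13174, e3 q13449 L208110 q13100, e3 q13450 (flp_d L210751) q13712, e3 q13451 L208130 q13113, e3 q13452 L208135 q13102, e3 q13453 (flp_d L208137) q13103, e3 q13454 (flp_d L210771) q13714, e3 q13455 L208168 q13105, e3 q13456 L208179 q13170, e3 q13457 (flp_d L210802) q13717, e3 q13458 (flp_d L210709) q13708, e3 q13459 L208200 q13108, e3 q13460 L208212 q13173, e3 q13461 L208224 q13110, e3 q13462 (flp_d L210868) q13723, e3 q13463 (flp_d L210742) q13711, e3 q13464 L208253 q13112, e3 q13465 (flp_d L210759) q13713, e3 q13466 L208271 q13309, e3 q13467 L208278 q13118, e3 q13468 L208292 q13120, e3 q13469 (flp_d L210916) q13728, e3 q13470 L208318 q13334, e3 q13471 L208327 q13122, e3 q13472 (flp_d L209354) q13574, e3 q13473 L208351 q13127, e3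 q13474 (flp_d L208898) q13530, e3 q13475 L208375 q13134, e3 q13476 (flp_d L210949) q13731, e3 q13477 (flp_d L210522) q13691, e3 q13478 L208400 q13137, e3 q13479 L208410 q13139, e3 q13480 (flp_d L210978) q13734, e3 q13481 L208436 q13142, e3 q13482 (flp_d L211005) q13736, e3 q13483 L208460 q13145, e3 q13484 (flp_d L211028) q13738, e3 q13485 L208476 q13157, e3 q13486 L208481 q13149, e3 q13487 L208491 q13161, e3 q13488 L208499 q13162, e3 q13489 L208513 q13168, e3 q13490 L208519 q13151, e3 q13491 (flp_d L211092) q13745, e3 q13492 (flp_d L211019) q13737, e3 q13493 L208540 q13153, e3 q13494 L208550 q13177, e3 q13495 (flp_d L210857) q13722, e3 q13496 L208565 q13156, e3 q13497 (flp_d L211034) q13739, e3 q13498 (flp_d L211059) q13741, e3 q13499 (flp_d L211067) q13742, e3 q13500 (flp_d L208946) q13535, e3 q13501 (flp_d L209566) q13595, e3 q13502 L208633 q13167, e3 q13503 (flp_d L209666) q13606, trivial⟩ (by decide +kernel)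

theorem ce_d_211 : ∀ r, r < 64 → sm gd (Qf (13504 + r)) = Qf (tab Gen.d (13504 + r)) :=
  edges_tab (sm gd) Qf (tab Gen.d) 13504 [(13504, 13753), (13505, 13743), (13506, 13171), (13507, 13718), (13508, 13721), (13509, 13710), (13510, 13176), (13511, 13748), (13512, 13656), (13513, 13182), (13514, 13184), (13515, 13760), (13516, 13668), (13517, 13187), (13518, 13189), (13519, 13763), (13520, 13599), (13521, 13193), (13522, 13766), (13523, 13762), (13524, 13195), (13525, 13674), (13526, 13260), (13527, 13201), (13528, 13770), (13529, 13203), (13530, 13474), (13531, 13553), (13532, 13209), (13533, 13685), (13534, 13211), (13535, 13500), (13536, 13215), (13537, 13390), (13538, 13774), (13539, 13675), (13540, 13218), (13541, 13220), (13542, 13778), (13543, 13223), (13544, 13780), (13545, 13230), (13546, 13226), (13547, 13779), (13548, 13229), (13549, 13393), (13550, 13781), (13551, 13238), (13552, 13235), (13553, 13531), (13554, 13237), (13555, 13786), (13556, 13426), (13557, 13617), (13558,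 13245), (13559, 13790), (13560, 13247), (13561, 13793), (13562, 13622), (13563, 13251), (13564, 13796), (13565, 13662), (13566, 13253), (13567, 13590)]
    ⟨e3 q13504 (flp_d L211170) q13753, e3 q13505 (flp_d L211077) q13743, e3 q13506 L208673 q13171, e3 q13507 (flp_d L210812) q13718, e3 q13508 (flp_d L210843) q13721, e3 q13509 (flp_d L210730) q13710, e3 q13510 L208713 q13176, e3 q13511 (flp_d L211119) q13748, e3 q13512 (flp_d L210113) q13656, e3 q13513 L208740 q13182, e3 q13514 L208750 q13184, e3 q13515 (flp_d L211245) q13760, e3 q13516 (flp_d L210215) q13668, e3 q13517 L208777 q13187, e3 q13518 L208789 q13189, e3 q13519 (flp_d L211278) q13763, e3 q13520 (flp_d L209601) q13599, e3 q13521 L208823 q13193, e3 q13522 (flp_d L211311) q13766, e3 q13523 (flp_d L211269) q13762, e3 q13524 L208846 q13195, e3 q13525 (flp_d L210289) q13674, e3 q13526 L208858 q13260, e3 q13527 L208870 q13201, e3 q13528 (flp_d L211344) q13770, e3 q13529 L208888 q13203, e3 q13530 L208898 q13474, e3 q13531 (flp_d L209131)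 q13553, e3 q13532 L208919 q13209, e3 q13533 (flp_d L210447) q13685, e3 q13534 L208936 q13211, e3 q13535 L208946 q13500, e3 q13536 L208960 q13215, e3 q13537 L208973 q13390, e3 q13538 (flp_d L211387) q13774, e3 q13539 L210302 q13675, e3 q13540 L209002 q13218, e3 q13541 L209014 q13220, e3 q13542 (flp_d L211434) q13778, e3 q13543 L209042 q13223, e3 q13544 (flp_d L211463) q13780, e3 q13545 L209068 q13230, e3 q13546 L209075 q13226, e3 q13547 (flp_d L211452) q13779, e3 q13548 L209088 q13229, e3 q13549 L209098 q13393, e3 q13550 (flp_d L211475) q13781, e3 q13551 L209110 q13238, e3 q13552 L209115 q13235, e3 q13553 L209131 q13531, e3 q13554 L209142 q13237, e3 q13555 (flp_d L211509) q13786, e3 q13556 L209164 q13426, e3 q13557 (flp_d L209776) q13617, e3 q13558 (flp_d L209184) q13245, e3 q13559 (flp_d L211556) q13790, e3 q13560 L209215 q13247, e3 q13561 (flp_d L211595) q13793, e3 q13562 (flp_d L209815) q13622, e3 q13563 L209249 q13251, e3 q13564 (flp_d L211630) q13796, e3 q13565 L210160 q13662, e3 q13566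 L209272 q13253, e3 q13567 (flp_d L209504) q13590, trivial⟩ (by decide +kernel)

theorem ce_d_212 : ∀ r, r < 64 → sm gd (Qf (13568 + r)) = Qf (tab Gen.d (13568 + r)) :=
  edges_tab (sm gd) Qf (tab Gen.d) 13568 [(13568, 13611), (13569, 13655), (13570, 13769), (13571, 13262), (13572, 13409), (13573, 13591), (13574, 13472), (13575, 13272), (13576, 13800), (13577, 13274), (13578, 13803), (13579, 13277), (13580, 13805), (13581, 13735), (13582, 13279), (13583, 13282), (13584, 13808), (13585, 13289), (13586, 13286), (13587, 13697), (13588, 13288), (13589, 13809), (13590, 13567), (13591, 13573), (13592, 13303), (13593, 13812), (13594, 13305), (13595, 13501), (13596, 13815), (13597, 13609), (13598, 13308), (13599, 13520), (13600, 13726), (13601, 13740), (13602, 13325), (13603, 13326), (13604, 13313), (13605, 13824), (13606, 13503), (13607, 13315), (13608, 13828), (13609, 13597), (13610, 13317), (13611, 13568), (13612, 13320), (13613, 13831), (13614, 13322), (13615, 13684), (13616, 13823), (13617,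 13557), (13618, 13328), (13619, 13834), (13620, 13672), (13621, 13330), (13622, 13562), (13623, 13727), (13624, 13333), (13625, 13729), (13626, 13337), (13627, 13361), (13628, 13841), (13629, 13679), (13630, 13340), (13631, 13683)]
    ⟨e3 q13568 (flp_d L209707) q13611, e3 q13569 (flp_d L210095) q13655, e3 q13570 (flp_d L211332) q13769, e3 q13571 L209326 q13262, e3 q13572 L209338 q13409, e3 q13573 (flp_d L209518) q13591, e3 q13574 L209354 q13472, e3 q13575 (flp_d L209358) q13272, e3 q13576 (flp_d L211672) q13800, e3 q13577 L209391 q13274, e3 q13578 (flp_d L211711) q13803, e3 q13579 L209415 q13277, e3 q13580 (flp_d L211736) q13805, e3 q13581 (flp_d L210994) q13735, e3 q13582 L209442 q13279, e3 q13583 L209452 q13282, e3 q13584 (flp_d L211765) q13808, e3 q13585 L209472 q13289, e3 q13586 L209477 q13286, e3 q13587 (flp_d L210588) q13697, e3 q13588 L209486 q13288, e3 q13589 (flp_d L211773) q13809, e3 q13590 L209504 q13567, e3 q13591 L209518 q13573, e3 q13592 (flp_d L209524) q13303, e3 q13593 (flp_d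 L211796) q13812, e3 q13594 L209551 q13305, e3 q13595 L209566 q13501, e3 q13596 (flp_d L211823) q13815, e3 q13597 (flp_d L209688) q13609, e3 q13598 L209589 q13308, e3 q13599 L209601 q13520, e3 q13600 (flp_d L210891) q13726, e3 q13601 (flp_d L211047) q13740, e3 q13602 L209618 q13325, e3 q13603 L209624 q13326, e3 q13604 (flp_d L209630) q13313, e3 q13605 (flp_d L211906) q13824, e3 q13606 L209666 q13503, e3 q13607 L209672 q13315, e3 q13608 (flp_d L211947) q13828, e3 q13609 L209688 q13597, e3 q13610 L209697 q13317, e3 q13611 L209707 q13568, e3 q13612 L209721 q13320, e3 q13613 (flp_d L211981) q13831, e3 q13614 L209745 q13322, e3 q13615 (flp_d L210425) q13684, e3 q13616 (flp_d L211892) q13823, e3 q13617 L209776 q13557, e3 q13618 L209782 q13328, e3 q13619 (flp_d L212014) q13834, e3 q13620 (flp_d L210270) q13672, e3 q13621 L209805 q13330, e3 q13622 L209815 q13562, e3 q13623 (flp_d L210907) q13727, e3 q13624 L209828 q13333, e3 q13625 (flp_d L210928) q13729, e3 q13626 L209840 q13337, e3 q13627 L209855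 q13361, e3 q13628 (flp_d L212067) q13841, e3 q13629 (flp_d L210354) q13679, e3 q13630 L209878 q13340, e3 q13631 (flp_d L210413) q13683, trivial⟩ (by decide +kernel)

theorem ce_d_213 : ∀ r, r < 64 → sm gd (Qf (13632 + r)) = Qf (tab Gen.d (13632 + r)) :=
  edges_tab (sm gd) Qf (tab Gen.d) 13632 [(13632, 13701), (13633, 13342), (13634, 13703), (13635, 13804), (13636, 13347), (13637, 13348), (13638, 13850), (13639, 13349), (13640, 13851), (13641, 13351), (13642, 13356), (13643, 13370), (13644, 13360), (13645, 13842), (13646, 13363), (13647, 13855), (13648, 13759), (13649, 13365), (13650, 13367), (13651, 13858), (13652, 13747), (13653, 13369), (13654, 13852), (13655, 13569), (13656, 13512), (13657, 13378), (13658, 13383), (13659, 13380), (13660, 13386), (13661, 13862), (13662, 13565), (13663, 13394), (13664, 13863), (13665, 13391), (13666, 13775), (13667, 13784), (13668, 13516), (13669, 13397), (13670, 13399), (13671, 13869), (13672, 13620), (13673, 13401), (13674, 13525), (13675, 13539), (13676,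 13417), (13677, 13406), (13678, 13874), (13679, 13629), (13680, 13408), (13681, 13799), (13682, 13412), (13683, 13631), (13684, 13615), (13685, 13533), (13686, 13416), (13687, 13424), (13688, 13419), (13689, 13777), (13690, 13421), (13691, 13477), (13692, 13423), (13693, 13878), (13694, 13432), (13695, 13429)]
    ⟨e3 q13632 (flp_d L210631) q13701, e3 q13633 L209897 q13342, e3 q13634 (flp_d L210648) q13703, e3 q13635 (flp_d L211727) q13804, e3 q13636 L209918 q13347, e3 q13637 L209926 q13348, e3 q13638 (flp_d L212142) q13850, e3 q13639 (flp_d L209938) q13349, e3 q13640 (flp_d L212152) q13851, e3 q13641 L209968 q13351, e3 q13642 L209978 q13356, e3 q13643 L209992 q13370, e3 q13644 L210001 q13360, e3 q13645 (flp_d L212081) q13842, e3 q13646 L210021 q13363, e3 q13647 (flp_d L212195) q13855, e3 q13648 (flp_d L211236) q13759, e3 q13649 L210046 q13365, e3 q13650 L210056 q13367, e3 q13651 (flp_d L212222) q13858, e3 q13652 (flp_d L211110) q13747, e3 q13653 L210081 q13369, e3 q13654 (flp_d L212166)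 q13852, e3 q13655 L210095 q13569, e3 q13656 L210113 q13512, e3 q13657 L210124 q13378, e3 q13658 L210134 q13383, e3 q13659 L210139 q13380, e3 q13660 L210145 q13386, e3 q13661 (flp_d L212257) q13862, e3 q13662 (flp_d L210160) q13565, e3 q13663 L210166 q13394, e3 q13664 (flp_d L212265) q13863, e3 q13665 L210177 q13391, e3 q13666 (flp_d L211401) q13775, e3 q13667 (flp_d L211500) q13784, e3 q13668 L210215 q13516, e3 q13669 L210226 q13397, e3 q13670 L210242 q13399, e3 q13671 (flp_d L212328) q13869, e3 q13672 L210270 q13620, e3 q13673 L210279 q13401, e3 q13674 L210289 q13525, e3 q13675 (flp_d L210302) q13539, e3 q13676 L210314 q13417, e3 q13677 L210322 q13406, e3 q13678 (flp_d L212384) q13874, e3 q13679 L210354 q13629, e3 q13680 L210363 q13408, e3 q13681 (flp_d L211662) q13799, e3 q13682 L210393 q13412, e3 q13683 L210413 q13631, e3 q13684 L210425 q13615, e3 q13685 L210447 q13533, e3 q13686 L210458 q13416, e3 q13687 L210474 q13424, e3 q13688 L210483 q13419, e3 q13689 (flp_d L211423) q13777, e3 q13690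 L210506 q13421, e3 q13691 L210522 q13477, e3 q13692 L210531 q13423, e3 q13693 (flp_d L212446) q13878, e3 q13694 L210553 q13432, e3 q13695 L210562 q13429, trivial⟩ (by decide +kernel)

theorem ce_d_214 : ∀ r, r < 64 → sm gd (Qf (13696 + r)) = Qf (tab Gen.d (13696 + r)) :=
  edges_tab (sm gd) Qf (tab Gen.d) 13696 [(13696, 13435), (13697, 13587), (13698, 13431), (13699, 13882), (13700, 13884), (13701, 13632), (13702, 13438), (13703, 13634), (13704, 13773), (13705, 13443), (13706, 13445), (13707, 13891), (13708, 13458), (13709, 13447), (13710, 13509), (13711, 13463), (13712, 13450), (13713, 13465), (13714, 13454), (13715, 13898), (13716, 13890), (13717, 13457), (13718, 13507), (13719, 13892), (13720, 13792), (13721, 13508), (13722, 13495), (13723, 13462), (13724, 13895), (13725, 13896), (13726, 13600), (13727, 13623), (13728, 13469), (13729, 13625), (13730, 13733), (13731, 13476), (13732, 13880), (13733, 13730), (13734, 13480), (13735, 13581), (13736, 13482), (13737, 13492), (13738, 13484),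 (13739, 13497), (13740, 13601), (13741, 13498), (13742, 13499), (13743, 13505), (13744, 13897), (13745, 13491), (13746, 13913), (13747, 13652), (13748, 13511), (13749, 13904), (13750, 13914), (13751, 13917), (13752, 13816), (13753, 13504), (13754, 13826), (13755, 13919), (13756, 13901), (13757, 13894), (13758, 13861), (13759, 13648)]
    ⟨e3 q13696 L210576 q13435, e3 q13697 L210588 q13587, e3 q13698 L210595 q13431, e3 q13699 (flp_d L212489) q13882, e3 q13700 (flp_d L212518) q13884, e3 q13701 L210631 q13632, e3 q13702 L210640 q13438, e3 q13703 L210648 q13634, e3 q13704 (flp_d L211378) q13773, e3 q13705 L210667 q13443, e3 q13706 L210679 q13445, e3 q13707 (flp_d L212591) q13891, e3 q13708 L210709 q13458, e3 q13709 L210716 q13447, e3 q13710 L210730 q13509, e3 q13711 L210742 q13463, e3 q13712 L210751 q13450, e3 q13713 L210759 q13465, e3 q13714 L210771 q13454, e3 q13715 (flp_d L212672) q13898, e3 q13716 (flp_d L212582) q13890, e3 q13717 L210802 q13457, e3 q13718 L210812 q13507, e3 q13719 (flp_d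 L212603) q13892, e3 q13720 (flp_d L211586) q13792, e3 q13721 L210843 q13508, e3 q13722 L210857 q13495, e3 q13723 L210868 q13462, e3 q13724 (flp_d L212640) q13895, e3 q13725 (flp_d L212648) q13896, e3 q13726 L210891 q13600, e3 q13727 L210907 q13623, e3 q13728 L210916 q13469, e3 q13729 L210928 q13625, e3 q13730 (flp_d L210969) q13733, e3 q13731 L210949 q13476, e3 q13732 (flp_d L212470) q13880, e3 q13733 L210969 q13730, e3 q13734 L210978 q13480, e3 q13735 L210994 q13581, e3 q13736 L211005 q13482, e3 q13737 L211019 q13492, e3 q13738 L211028 q13484, e3 q13739 L211034 q13497, e3 q13740 L211047 q13601, e3 q13741 L211059 q13498, e3 q13742 L211067 q13499, e3 q13743 L211077 q13505, e3 q13744 (flp_d L212661) q13897, e3 q13745 L211092 q13491, e3 q13746 (flp_d L212832) q13913, e3 q13747 L211110 q13652, e3 q13748 L211119 q13511, e3 q13749 (flp_d L212732) q13904, e3 q13750 (flp_d L212840) q13914, e3 q13751 (flp_d L212872) q13917, e3 q13752 (flp_d L211837) q13816, e3 q13753 L211170 q13504, e3 q13754 (flp_d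 L211930) q13826, e3 q13755 (flp_d L212895) q13919, e3 q13756 (flp_d L212703) q13901, e3 q13757 (flp_d L212628) q13894, e3 q13758 (flp_d L212249) q13861, e3 q13759 L211236 q13648, trivial⟩ (by decide +kernel)

theorem ce_d_215 : ∀ r, r < 64 → sm gd (Qf (13760 + r)) = Qf (tab Gen.d (13760 + r)) :=
  edges_tab (sm gd) Qf (tab Gen.d) 13760 [(13760, 13515), (13761, 13867), (13762, 13523), (13763, 13519), (13764, 13819), (13765, 13883), (13766, 13522), (13767, 13929), (13768, 13871), (13769, 13570), (13770, 13528), (13771, 13787), (13772, 13877), (13773, 13704), (13774, 13538), (13775, 13666), (13776, 13872), (13777, 13689), (13778, 13542), (13779, 13547), (13780, 13544), (13781, 13550), (13782, 13939), (13783, 13795), (13784, 13667), (13785, 13940), (13786, 13555), (13787, 13771), (13788, 13943), (13789, 13832), (13790, 13559), (13791, 13947), (13792, 13720), (13793, 13561), (13794, 13837), (13795, 13783), (13796, 13564), (13797, 13865), (13798, 13830), (13799, 13681), (13800, 13576), (13801,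 13952), (13802, 13807), (13803, 13578), (13804, 13635), (13805, 13580), (13806, 13912), (13807, 13802), (13808, 13584), (13809, 13589), (13810, 13885), (13811, 13957), (13812, 13593), (13813, 13960), (13814, 13827), (13815, 13596), (13816, 13752), (13817, 13829), (13818, 13844), (13819, 13764), (13820, 13906), (13821, 13915), (13822, 13916), (13823, 13616)]
    ⟨e3 q13760 L211245 q13515, e3 q13761 (flp_d L212299) q13867, e3 q13762 L211269 q13523, e3 q13763 L211278 q13519, e3 q13764 (flp_d L211866) q13819, e3 q13765 (flp_d L212504) q13883, e3 q13766 L211311 q13522, e3 q13767 (flp_d L212999) q13929, e3 q13768 (flp_d L212350) q13871, e3 q13769 L211332 q13570, e3 q13770 L211344 q13528, e3 q13771 (flp_d L211523) q13787, e3 q13772 (flp_d L212432) q13877, e3 q13773 L211378 q13704, e3 q13774 L211387 q13538, e3 q13775 L211401 q13666, e3 q13776 L212363 q13872, e3 q13777 L211423 q13689, e3 q13778 L211434 q13542, e3 q13779 L211452 q13547, e3 q13780 L211463 q13544, e3 q13781 L211475 q13550, e3 q13782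 (flp_d L213108) q13939, e3 q13783 (flp_d L211621) q13795, e3 q13784 L211500 q13667, e3 q13785 (flp_d L213120) q13940, e3 q13786 L211509 q13555, e3 q13787 L211523 q13771, e3 q13788 (flp_d L213140) q13943, e3 q13789 (flp_d L211997) q13832, e3 q13790 L211556 q13559, e3 q13791 (flp_d L213197) q13947, e3 q13792 L211586 q13720, e3 q13793 L211595 q13561, e3 q13794 (flp_d L212041) q13837, e3 q13795 L211621 q13783, e3 q13796 L211630 q13564, e3 q13797 L212279 q13865, e3 q13798 (flp_d L211967) q13830, e3 q13799 L211662 q13681, e3 q13800 L211672 q13576, e3 q13801 (flp_d L213257) q13952, e3 q13802 (flp_d L211756) q13807, e3 q13803 L211711 q13578, e3 q13804 L211727 q13635, e3 q13805 L211736 q13580, e3 q13806 (flp_d L212820) q13912, e3 q13807 L211756 q13802, e3 q13808 L211765 q13584, e3 q13809 L211773 q13589, e3 q13810 (flp_d L212526) q13885, e3 q13811 (flp_d L213310) q13957, e3 q13812 L211796 q13593, e3 q13813 (flp_d L213341) q13960, e3 q13814 (flp_d L211940) q13827, e3 q13815 L211823 q13596, e3 q13816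 L211837 q13752, e3 q13817 (flp_d L211955) q13829, e3 q13818 (flp_d L212100) q13844, e3 q13819 L211866 q13764, e3 q13820 (flp_d L212749) q13906, e3 q13821 (flp_d L212853) q13915, e3 q13822 (flp_d L212861) q13916, e3 q13823 L211892 q13616, trivial⟩ (by decide +kernel)

theorem ce_d_216 : ∀ r, r < 64 → sm gd (Qf (13824 + r)) = Qf (tab Gen.d (13824 + r)) :=
  edges_tab (sm gd) Qf (tab Gen.d) 13824 [(13824, 13605), (13825, 13969), (13826, 13754), (13827, 13814), (13828, 13608), (13829, 13817), (13830, 13798), (13831, 13613), (13832, 13789), (13833, 13868), (13834, 13619), (13835, 13870), (13836, 13935), (13837, 13794), (13838, 13907), (13839, 13908), (13840, 13873), (13841, 13628), (13842, 13645), (13843, 13875), (13844, 13818), (13845, 13876), (13846, 13887), (13847, 13888), (13848, 13954), (13849, 13951), (13850, 13638), (13851, 13640), (13852, 13654), (13853, 13982), (13854, 13918), (13855, 13647), (13856, 13927), (13857, 13893), (13858, 13651), (13859, 13922), (13860, 13988), (13861, 13758),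 (13862, 13661), (13863, 13664), (13864, 13994), (13865, 13797), (13866, 13936), (13867, 13761), (13868, 13833), (13869, 13671), (13870, 13835), (13871, 13768), (13872, 13776), (13873, 13840), (13874, 13678), (13875, 13843), (13876, 13845), (13877, 13772), (13878, 13693), (13879, 13938), (13880, 13732), (13881, 14003), (13882, 13699), (13883, 13765), (13884, 13700), (13885, 13810), (13886, 14006), (13887, 13846)]
    ⟨e3 q13824 L211906 q13605, e3 q13825 (flp_d L213439) q13969, e3 q13826 L211930 q13754, e3 q13827 L211940 q13814, e3 q13828 L211947 q13608, e3 q13829 L211955 q13817, e3 q13830 L211967 q13798, e3 q13831 L211981 q13613, e3 q13832 L211997 q13789, e3 q13833 (flp_d L212317) q13868, e3 q13834 L212014 q13619, e3 q13835 (flp_d L212340) q13870, e3 q13836 (flp_d L213061) q13935, e3 q13837 L212041 q13794, e3 q13838 (flp_d L212764) q13907, e3 q13839 (flp_d L212776) q13908, e3 q13840 (flp_d L212375) q13873, e3 q13841 L212067 q13628, e3 q13842 L212081 q13645, e3 q13843 (flp_d L212398) q13875,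 e3 q13844 L212100 q13818, e3 q13845 (flp_d L212420) q13876, e3 q13846 (flp_d L212547) q13887, e3 q13847 (flp_d L212555) q13888, e3 q13848 (flp_d L213283) q13954, e3 q13849 (flp_d L213248) q13951, e3 q13850 L212142 q13638, e3 q13851 L212152 q13640, e3 q13852 L212166 q13654, e3 q13853 (flp_d L213585) q13982, e3 q13854 (flp_d L212886) q13918, e3 q13855 L212195 q13647, e3 q13856 (flp_d L212978) q13927, e3 q13857 (flp_d L212619) q13893, e3 q13858 L212222 q13651, e3 q13859 (flp_d L212920) q13922, e3 q13860 (flp_d L213634) q13988, e3 q13861 L212249 q13758, e3 q13862 L212257 q13661, e3 q13863 L212265 q13664, e3 q13864 (flp_d L213690) q13994, e3 q13865 (flp_d L212279) q13797, e3 q13866 (flp_d L213073) q13936, e3 q13867 L212299 q13761, e3 q13868 L212317 q13833, e3 q13869 L212328 q13671, e3 q13870 L212340 q13835, e3 q13871 L212350 q13768, e3 q13872 (flp_d L212363) q13776, e3 q13873 L212375 q13840, e3 q13874 L212384 q13678, e3 q13875 L212398 q13843, e3 q13876 L212420 q13845, e3 q13877 L212432 q13772,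 e3 q13878 L212446 q13693, e3 q13879 (flp_d L213092) q13938, e3 q13880 L212470 q13732, e3 q13881 (flp_d L213811) q14003, e3 q13882 L212489 q13699, e3 q13883 L212504 q13765, e3 q13884 L212518 q13700, e3 q13885 L212526 q13810, e3 q13886 (flp_d L213850) q14006, e3 q13887 L212547 q13846, trivial⟩ (by decide +kernel)

theorem ce_d_217 : ∀ r, r < 64 → sm gd (Qf (13888 + r)) = Qf (tab Gen.d (13888 + r)) :=
  edges_tab (sm gd) Qf (tab Gen.d) 13888 [(13888, 13847), (13889, 13934), (13890, 13716), (13891, 13707), (13892, 13719), (13893, 13857), (13894, 13757), (13895, 13724), (13896, 13725), (13897, 13744), (13898, 13715), (13899, 14011), (13900, 13946), (13901, 13756), (13902, 14012), (13903, 13948), (13904, 13749), (13905, 14014), (13906, 13820), (13907, 13838), (13908, 13839), (13909, 13911), (13910, 14005), (13911, 13909), (13912, 13806), (13913, 13746), (13914, 13750), (13915, 13821), (13916, 13822), (13917, 13751), (13918, 13854), (13919, 13755), (13920, 14015), (13921, 14024), (13922, 13859),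 (13923, 14019), (13924, 13963), (13925, 13971), (13926, 13993), (13927, 13856), (13928, 13996), (13929, 13767), (13930, 14007), (13931, 14031), (13932, 13944), (13933, 14002), (13934, 13889), (13935, 13836), (13936, 13866), (13937, 13999), (13938, 13879), (13939, 13782), (13940, 13785), (13941, 14036), (13942, 13949), (13943, 13788), (13944, 13932), (13945, 13975), (13946, 13900), (13947, 13791), (13948, 13903), (13949, 13942), (13950, 13995), (13951, 13849)]
    ⟨e3 q13888 L212555 q13847, e3 q13889 (flp_d L213046) q13934, e3 q13890 L212582 q13716, e3 q13891 L212591 q13707, e3 q13892 L212603 q13719, e3 q13893 L212619 q13857, e3 q13894 L212628 q13757, e3 q13895 L212640 q13724, e3 q13896 L212648 q13725, e3 q13897 L212661 q13744, e3 q13898 L212672 q13715, e3 q13899 (flp_d L213910) q14011, e3 q13900 (flp_d L213188) q13946, e3 q13901 L212703 q13756, e3 q13902 (flp_d L213922) q14012, e3 q13903 (flp_d L213211) q13948, e3 q13904 L212732 q13749, e3 q13905 (flp_d L213949) q14014, e3 q13906 L212749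 q13820, e3 q13907 L212764 q13838, e3 q13908 L212776 q13839, e3 q13909 (flp_d L212806) q13911, e3 q13910 (flp_d L213837) q14005, e3 q13911 L212806 q13909, e3 q13912 L212820 q13806, e3 q13913 L212832 q13746, e3 q13914 L212840 q13750, e3 q13915 L212853 q13821, e3 q13916 L212861 q13822, e3 q13917 L212872 q13751, e3 q13918 L212886 q13854, e3 q13919 L212895 q13755, e3 q13920 (flp_d L213964) q14015, e3 q13921 (flp_d L214073) q14024, e3 q13922 L212920 q13859, e3 q13923 (flp_d L214008) q14019, e3 q13924 (flp_d L213380) q13963, e3 q13925 (flp_d L213466) q13971, e3 q13926 (flp_d L213681) q13993, e3 q13927 L212978 q13856, e3 q13928 (flp_d L213710) q13996, e3 q13929 L212999 q13767, e3 q13930 (flp_d L213867) q14007, e3 q13931 (flp_d L214152) q14031, e3 q13932 (flp_d L213153) q13944, e3 q13933 (flp_d L213796) q14002, e3 q13934 L213046 q13889, e3 q13935 L213061 q13836, e3 q13936 L213073 q13866, e3 q13937 L213757 q13999, e3 q13938 L213092 q13879, e3 q13939 L213108 q13782, e3 q13940 L213120 q13785, e3 q13941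 (flp_d L214220) q14036, e3 q13942 (flp_d L213225) q13949, e3 q13943 L213140 q13788, e3 q13944 L213153 q13932, e3 q13945 (flp_d L213514) q13975, e3 q13946 L213188 q13900, e3 q13947 L213197 q13791, e3 q13948 L213211 q13903, e3 q13949 L213225 q13942, e3 q13950 L213700 q13995, e3 q13951 L213248 q13849, trivial⟩ (by decide +kernel)

theorem ce_d_218 : ∀ r, r < 64 → sm gd (Qf (13952 + r)) = Qf (tab Gen.d (13952 + r)) :=
  edges_tab (sm gd) Qf (tab Gen.d) 13952 [(13952, 13801), (13953, 13956), (13954, 13848), (13955, 14023), (13956, 13953), (13957, 13811), (13958, 14008), (13959, 13968), (13960, 13813), (13961, 13972), (13962, 13981), (13963, 13924), (13964, 13973), (13965, 13984), (13966, 14025), (13967, 14026), (13968, 13959), (13969, 13825), (13970, 13974), (13971, 13925), (13972, 13961), (13973, 13964), (13974, 13970), (13975, 13945), (13976, 13997), (13977, 13998), (13978, 14034), (13979, 14020), (13980, 14000), (13981, 13962), (13982, 13853), (13983, 14001), (13984, 13965), (13985, 14009),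 (13986, 14043), (13987, 14041), (13988, 13860), (13989, 14027), (13990, 14030), (13991, 14013), (13992, 14029), (13993, 13926), (13994, 13864), (13995, 13950), (13996, 13928), (13997, 13976), (13998, 13977), (13999, 13937), (14000, 13980), (14001, 13983), (14002, 13933), (14003, 13881), (14004, 14035), (14005, 13910), (14006, 13886), (14007, 13930), (14008, 13958), (14009, 13985), (14010, 14033), (14011, 13899), (14012, 13902), (14013, 13991), (14014, 13905), (14015, 13920)]
    ⟨e3 q13952 L213257 q13801, e3 q13953 (flp_d L213302) q13956, e3 q13954 L213283 q13848, e3 q13955 (flp_d L214060) q14023, e3 q13956 L213302 q13953, e3 q13957 L213310 q13811, e3 q13958 (flp_d L213875) q14008, e3 q13959 (flp_d L213428) q13968, e3 q13960 L213341 q13813, e3 q13961 (flp_d L213478) q13972, e3 q13962 (flp_d L213569) q13981, e3 q13963 L213380 q13924, e3 q13964 (flp_d L213488) q13973, e3 q13965 (flp_d L213604) q13984, e3 q13966 (flp_d L214089) q14025, e3 q13967 (flp_d L214097) q14026, e3 q13968 L213428 q13959,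 e3 q13969 L213439 q13825, e3 q13970 (flp_d L213503) q13974, e3 q13971 L213466 q13925, e3 q13972 L213478 q13961, e3 q13973 L213488 q13964, e3 q13974 L213503 q13970, e3 q13975 L213514 q13945, e3 q13976 (flp_d L213727) q13997, e3 q13977 (flp_d L213739) q13998, e3 q13978 (flp_d L214195) q14034, e3 q13979 (flp_d L214021) q14020, e3 q13980 (flp_d L213765) q14000, e3 q13981 L213569 q13962, e3 q13982 L213585 q13853, e3 q13983 (flp_d L213779) q14001, e3 q13984 L213604 q13965, e3 q13985 (flp_d L213888) q14009, e3 q13986 (flp_d L214311) q14043, e3 q13987 (flp_d L214284) q14041, e3 q13988 L213634 q13860, e3 q13989 (flp_d L214109) q14027, e3 q13990 (flp_d L214139) q14030, e3 q13991 (flp_d L213937) q14013, e3 q13992 (flp_d L214128) q14029, e3 q13993 L213681 q13926, e3 q13994 L213690 q13864, e3 q13995 (flp_d L213700) q13950, e3 q13996 L213710 q13928, e3 q13997 L213727 q13976, e3 q13998 L213739 q13977, e3 q13999 (flp_d L213757) q13937, e3 q14000 L213765 q13980, e3 q14001 L213779 q13983, e3 q14002 L213796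 q13933, e3 q14003 L213811 q13881, e3 q14004 (flp_d L214205) q14035, e3 q14005 L213837 q13910, e3 q14006 L213850 q13886, e3 q14007 L213867 q13930, e3 q14008 L213875 q13958, e3 q14009 L213888 q13985, e3 q14010 (flp_d L214178) q14033, e3 q14011 L213910 q13899, e3 q14012 L213922 q13902, e3 q14013 L213937 q13991, e3 q14014 L213949 q13905, e3 q14015 L213964 q13920, trivial⟩ (by decide +kernel)

theorem ce_d_219 : ∀ r, r < 64 → sm gd (Qf (14016 + r)) = Qf (tab Gen.d (14016 + r)) :=
  edges_tab (sm gd) Qf (tab Gen.d) 14016 [(14016, 14065), (14017, 14038), (14018, 14039), (14019, 13923), (14020, 13979), (14021, 14022), (14022, 14021), (14023, 13955), (14024, 13921), (14025, 13966), (14026, 13967), (14027, 13989), (14028, 14067), (14029, 13992), (14030, 13990), (14031, 13931), (14032, 14064), (14033, 14010), (14034, 13978), (14035, 14004), (14036, 13941), (14037, 14040), (14038, 14017), (14039, 14018), (14040, 14037), (14041, 13987), (14042, 14044), (14043, 13986), (14044, 14042), (14045, 14050),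 (14046, 14052), (14047, 14057), (14048, 14058), (14049, 14069), (14050, 14045), (14051, 14053), (14052, 14046), (14053, 14051), (14054, 14062), (14055, 14071), (14056, 14063), (14057, 14047), (14058, 14048), (14059, 14073), (14060, 14070), (14061, 14066), (14062, 14054), (14063, 14056), (14064, 14032), (14065, 14016), (14066, 14061), (14067, 14028), (14068, 14072), (14069, 14049), (14070, 14060), (14071, 14055), (14072, 14068), (14073, 14059), (14074, 14076), (14075, 14079), (14076, 14074), (14077, 14078), (14078, 14077), (14079, 14075)]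
    ⟨e3 q14016 (flp_d L214565) q14065, e3 q14017 (flp_d L214242) q14038, e3 q14018 (flp_d L214256) q14039, e3 q14019 L214008 q13923, e3 q14020 L214021 q13979, e3 q14021 (flp_d L214045) q14022, e3 q14022 L214045 q14021, e3 q14023 L214060 q13955, e3 q14024 L214073 q13921, e3 q14025 L214089 q13966, e3 q14026 L214097 q13967, e3 q14027 L214109 q13989, e3 q14028 (flp_d L214595) q14067, e3 q14029 L214128 q13992, e3 q14030 L214139 q13990, e3 q14031 L214152 q13931, e3 q14032 (flp_d L214555) q14064, e3 q14033 L214178 q14010, e3 q14034 L214195 q13978, e3 q14035 L214205 q14004, e3 q14036 L214220 q13941, e3 q14037 (flp_d L214271) q14040, e3 q14038 L214242 q14017, e3 q14039 L214256 q14018, e3 q14040 L214271 q14037, e3 q14041 L214284 q13987, e3 q14042 (flp_d L214324) q14044, e3 q14043 L214311 q13986, e3 q14044 L214324 q14042, e3 q14045 (flp_d L214392) q14050, e3 q14046 (flp_d L214418) q14052, e3 q14047 (flp_d L214472) q14057, e3 q14048 (flp_d L214483) q14058, e3 q14049 (flp_d L214619) q14069, e3 q14050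 L214392 q14045, e3 q14051 (flp_d L214429) q14053, e3 q14052 L214418 q14046, e3 q14053 L214429 q14051, e3 q14054 (flp_d L214522) q14062, e3 q14055 (flp_d L214650) q14071, e3 q14056 (flp_d L214535) q14063, e3 q14057 L214472 q14047, e3 q14058 L214483 q14048, e3 q14059 (flp_d L214673) q14073, e3 q14060 (flp_d L214632) q14070, e3 q14061 (flp_d L214580) q14066, e3 q14062 L214522 q14054, e3 q14063 L214535 q14056, e3 q14064 L214555 q14032, e3 q14065 L214565 q14016, e3 q14066 L214580 q14061, e3 q14067 L214595 q14028, e3 q14068 (flp_d L214658) q14072, e3 q14069 L214619 q14049, e3 q14070 L214632 q14060, e3 q14071 L214650 q14055, e3 q14072 L214658 q14068, e3 q14073 L214673 q14059, e3 q14074 (flp_d L214718) q14076, e3 q14075 (flp_d L214768) q14079, e3 q14076 L214718 q14074, e3 q14077 (flp_d L214748) q14078, e3 q14078 L214748 q14077, e3 q14079 L214768 q14075, trivial⟩ (by decide +kernel)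

theorem cl_d : ∀ i, i < 14080 → sm gd (Qf i) = Qf (tab Gen.d i) :=
  all_of_chunks (fun i => sm gd (Qf i) = Qf (tab Gen.d i)) 220 0
    ⟨ce_d_0, ce_d_1, ce_d_2, ce_d_3, ce_d_4, ce_d_5, ce_d_6, ce_d_7, ce_d_8, ce_d_9, ce_d_10, ce_d_11, ce_d_12, ce_d_13, ce_d_14, ce_d_15, ce_d_16, ce_d_17, ce_d_18, ce_d_19, ce_d_20, ce_d_21, ce_d_22, ce_d_23, ce_d_24, ce_d_25, ce_d_26, ce_d_27, ce_d_28, ce_d_29, ce_d_30, ce_d_31, ce_d_32, ce_d_33, ce_d_34, ce_d_35, ce_d_36, ce_d_37, ce_d_38, ce_d_39, ce_d_40, ce_d_41, ce_d_42, ce_d_43, ce_d_44, ce_d_45, ce_d_46, ce_d_47, ce_d_48, ce_d_49, ce_d_50, ce_d_51, ce_d_52, ce_d_53, ce_d_54, ce_d_55, ce_d_56, ce_d_57, ce_d_58, ce_d_59, ce_d_60, ce_d_61, ce_d_62, ce_d_63, ce_d_64, ce_d_65, ce_d_66, ce_d_67, ce_d_68, ce_d_69, ce_d_70, ce_d_71, ce_d_72, ce_d_73, ce_d_74, ce_d_75, ce_d_76, ce_d_77, ce_d_78, ce_d_79, ce_d_80, ce_d_81, ce_d_82, ce_d_83, ce_d_84, ce_d_85, ce_d_86, ce_d_87, ce_d_88, ce_d_89, ce_d_90, ce_d_91, ce_d_92, ce_d_93, ce_d_94, ce_d_95, ce_d_96, ce_d_97,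 ce_d_98, ce_d_99, ce_d_100, ce_d_101, ce_d_102, ce_d_103, ce_d_104, ce_d_105, ce_d_106, ce_d_107, ce_d_108, ce_d_109, ce_d_110, ce_d_111, ce_d_112, ce_d_113, ce_d_114, ce_d_115, ce_d_116, ce_d_117, ce_d_118, ce_d_119, ce_d_120, ce_d_121, ce_d_122, ce_d_123, ce_d_124, ce_d_125, ce_d_126, ce_d_127, ce_d_128, ce_d_129, ce_d_130, ce_d_131, ce_d_132, ce_d_133, ce_d_134, ce_d_135, ce_d_136, ce_d_137, ce_d_138, ce_d_139, ce_d_140, ce_d_141, ce_d_142, ce_d_143, ce_d_144, ce_d_145, ce_d_146, ce_d_147, ce_d_148, ce_d_149, ce_d_150, ce_d_151, ce_d_152, ce_d_153, ce_d_154, ce_d_155, ce_d_156, ce_d_157, ce_d_158, ce_d_159, ce_d_160, ce_d_161, ce_d_162, ce_d_163, ce_d_164, ce_d_165, ce_d_166, ce_d_167, ce_d_168, ce_d_169, ce_d_170, ce_d_171, ce_d_172, ce_d_173, ce_d_174, ce_d_175, ce_d_176, ce_d_177, ce_d_178, ce_d_179, ce_d_180, ce_d_181, ce_d_182, ce_d_183, ce_d_184, ce_d_185, ce_d_186, ce_d_187, ce_d_188, ce_d_189, ce_d_190, ce_d_191, ce_d_192, ce_d_193, ce_d_194, ce_d_195, ce_d_196, ce_d_197, ce_d_198,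 ce_d_199, ce_d_200, ce_d_201, ce_d_202, ce_d_203, ce_d_204, ce_d_205, ce_d_206, ce_d_207, ce_d_208, ce_d_209, ce_d_210, ce_d_211, ce_d_212, ce_d_213, ce_d_214, ce_d_215, ce_d_216, ce_d_217, ce_d_218, ce_d_219, trivial⟩
    (fun r hr => absurd hr (Nat.not_lt_zero r))


end Cfsg.Agent.Helper28.FibA
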