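import Cfsg.Agent.Helper28.FibC0

/-!
# The Fi₂₂ presentation, cosets of the subgroup generated by b, …, i: the action of the generator e (helper28; generated)
-/

set_option autoImplicit false
set_option maxRecDepth 100000
set_option linter.unusedSimpArgs false
set_option linter.constructorNameAsVariable false

noncomputable section

namespace Cfsg.Agent.Helper28.FibA

open Cfsg.Spor Cfsg.Spor.Fi22 Cfsg.Agent.Helper28.CosetTable

theorem ce_e_0 : ∀ r, r < 64 → sm ge (Qf (0 + r)) = Qf (tab Gen.e (0 + r)) :=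
  edges_tab (sm ge) Qf (tab Gen.e) 0 [(0, 0), (1, 1), (2, 2), (3, 3), (4, 5), (5, 4), (6, 8), (7, 7), (8, 6), (9, 13), (10, 10), (11, 11), (12, 12), (13, 9), (14, 14), (15, 22), (16, 16), (17, 17), (18, 18), (19, 28), (20, 20), (21, 31), (22, 15), (23, 33), (24, 24), (25, 25), (26, 26), (27, 39), (28, 19), (29, 42), (30, 45), (31, 21), (32, 48), (33, 23), (34, 50), (35, 35), (36, 36), (37, 37), (38, 55), (39, 27), (40, 59), (41, 41), (42, 29), (43, 62), (44, 63), (45, 30), (46, 66), (47, 47), (48, 32), (49, 70), (50, 34), (51, 51), (52, 52), (53, 75), (54, 76), (55, 38), (56, 80), (57, 57), (58, 58), (59, 40), (60, 86), (61, 61), (62, 43), (63, 44)]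
    ⟨e3 q0 L3 q0, e3 q1 L12 q1, e3 q2 L20 q2, e3 q3 L29 q3, e3 q4 L43 q5, e3 q5 (flp_e L43) q4, e3 q6 (flp_e L72) q8, e3 q7 L66 q7, e3 q8 L72 q6, e3 q9 (flp_e L113) q13, e3 q10 L90 q10, e3 q11 L98 q11, e3 q12 L106 q12, e3 q13 L113 q9, e3 q14 L122 q14, e3 q15 L182 q22, e3 q16 L138 q16, e3 q17 L145 q17, e3 q18 L155 q18, e3 q19 L228 q28, e3 q20 L170 q20, e3 q21 L252 q31, e3 q22 (flp_e L182) q15, e3 q23 (flp_e L272) q33, e3 q24 L200 q24, e3 q25 L210 q25, e3 q26 L216 q26, e3 q27 L315 q39, e3 q28 (flp_e L228) q19, e3 q29 (flp_e L345) q42, e3 q30 L366 q45, e3 q31 (flp_e L252) q21, e3 q32 (flp_e L392) q48, e3 q33 L272 q23, e3 q34 (flp_e L407) q50, e3 q35 L287 q35, e3 q36 L297 q36, e3 q37 L304 q37, e3 q38 L444 q55, e3 q39 (flp_e L315) q27, e3 q40 (flp_e L481) q59, e3 q41 L338 q41, e3 q42 L345 q29, e3 q43 (flp_e L507) q62, e3 q44 L512 q63, e3 q45 (flp_e L366) q30, e3 q46 (flp_e L540) q66, e3 q47 L386 q47, e3 q48 L392 q32, e3 q49 (flp_e L571) q70, e3 q50 L407 q34, e3 q51 L418 q51, e3 q52 L425 q52,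 e3 q53 L607 q75, e3 q54 L615 q76, e3 q55 (flp_e L444) q38, e3 q56 (flp_e L654) q80, e3 q57 L467 q57, e3 q58 L474 q58, e3 q59 L481 q40, e3 q60 (flp_e L705) q86, e3 q61 L499 q61, e3 q62 L507 q43, e3 q63 (flp_e L512) q44, trivial⟩ (by decide +kernel)

theorem ce_e_1 : ∀ r, r < 64 → sm ge (Qf (64 + r)) = Qf (tab Gen.e (64 + r)) :=
  edges_tab (sm ge) Qf (tab Gen.e) 64 [(64, 91), (65, 65), (66, 46), (67, 96), (68, 68), (69, 69), (70, 49), (71, 101), (72, 72), (73, 73), (74, 105), (75, 53), (76, 54), (77, 109), (78, 78), (79, 79), (80, 56), (81, 116), (82, 118), (83, 83), (84, 84), (85, 85), (86, 60), (87, 125), (88, 88), (89, 89), (90, 90), (91, 64), (92, 129), (93, 93), (94, 94), (95, 95), (96, 67), (97, 136), (98, 98), (99, 99), (100, 140), (101, 71), (102, 102), (103, 104), (104, 103), (105, 74), (106, 141), (107, 107), (108, 108), (109, 77), (110, 148), (111, 111), (112, 152), (113, 113), (114, 114), (115, 115), (116, 81), (117, 160), (118, 82), (119, 161), (120, 162), (121, 121), (122, 122),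 (123, 123), (124, 169), (125, 87), (126, 172), (127, 127)]
    ⟨e3 q64 (flp_e L750) q91, e3 q65 L534 q65, e3 q66 L540 q46, e3 q67 (flp_e L794) q96, e3 q68 L555 q68, e3 q69 L564 q69, e3 q70 L571 q49, e3 q71 L824 q101, e3 q72 L589 q72, e3 q73 L597 q73, e3 q74 L852 q105, e3 q75 (flp_e L607) q53, e3 q76 (flp_e L615) q54, e3 q77 (flp_e L890) q109, e3 q78 L640 q78, e3 q79 L647 q79, e3 q80 L654 q56, e3 q81 (flp_e L955) q116, e3 q82 L969 q118, e3 q83 L678 q83, e3 q84 L688 q84, e3 q85 L696 q85, e3 q86 L705 q60, e3 q87 L1024 q125, e3 q88 L723 q88, e3 q89 L735 q89, e3 q90 L743 q90, e3 q91 L750 q64, e3 q92 (flp_e L1064) q129, e3 q93 L764 q93, e3 q94 L772 q94, e3 q95 L787 q95, e3 q96 L794 q67, e3 q97 L1116 q136, e3 q98 L811 q98, e3 q99 L817 q99, e3 q100 L1143 q140, e3 q101 (flp_e L824) q71, e3 q102 L833 q102, e3 q103 L88132 q104, e3 q104 (flp_e L88132) q103, e3 q105 (flp_e L852) q74, e3 q106 (flp_e L1155) q141, e3 q107 L874 q107, e3 q108 L882 q108, e3 q109 L890 q77, e3 q110 (flp_e L1238) q148, e3 q111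 L906 q111, e3 q112 L1271 q152, e3 q113 L928 q113, e3 q114 L938 q114, e3 q115 L946 q115, e3 q116 L955 q81, e3 q117 L1344 q160, e3 q118 (flp_e L969) q82, e3 q119 (flp_e L1356) q161, e3 q120 (flp_e L1365) q162, e3 q121 L998 q121, e3 q122 L1005 q122, e3 q123 L1013 q123, e3 q124 L1415 q169, e3 q125 (flp_e L1024) q87, e3 q126 L1438 q172, e3 q127 L1044 q127, trivial⟩ (by decide +kernel)

theorem ce_e_2 : ∀ r, r < 64 → sm ge (Qf (128 + r)) = Qf (tab Gen.e (128 + r)) :=
  edges_tab (sm ge) Qf (tab Gen.e) 128 [(128, 128), (129, 92), (130, 176), (131, 131), (132, 132), (133, 133), (134, 181), (135, 182), (136, 97), (137, 137), (138, 186), (139, 188), (140, 100), (141, 106), (142, 142), (143, 183), (144, 190), (145, 193), (146, 146), (147, 147), (148, 110), (149, 198), (150, 199), (151, 151), (152, 112), (153, 202), (154, 203), (155, 155), (156, 156), (157, 157), (158, 210), (159, 211), (160, 117), (161, 119), (162, 120), (163, 214), (164, 215), (165, 165), (166, 220), (167, 222), (168, 224), (169,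 124), (170, 170), (171, 228), (172, 126), (173, 173), (174, 174), (175, 232), (176, 130), (177, 177), (178, 178), (179, 236), (180, 238), (181, 134), (182, 135), (183, 143), (184, 243), (185, 245), (186, 138), (187, 248), (188, 139), (189, 189), (190, 144), (191, 191)]
    ⟨e3 q128 L1056 q128, e3 q129 L1064 q92, e3 q130 L1478 q176, e3 q131 L1083 q131, e3 q132 L1094 q132, e3 q133 L1100 q133, e3 q134 L1518 q181, e3 q135 L1525 q182, e3 q136 (flp_e L1116) q97, e3 q137 L1126 q137, e3 q138 L1554 q186, e3 q139 L1566 q188, e3 q140 (flp_e L1143) q100, e3 q141 L1155 q106, e3 q142 L1159 q142, e3 q143 (flp_e L1538) q183, e3 q144 (flp_e L1584) q190, e3 q145 L1643 q193, e3 q146 L1219 q146, e3 q147 L1228 q147, e3 q148 L1238 q110, e3 q149 L1698 q198, e3 q150 L1707 q199, e3 q151 L1268 q151, e3 q152 (flp_e L1271) q112, e3 q153 (flp_e L1743) q202, e3 q154 (flp_e L1752) q203, e3 q155 L1308 q155, e3 q156 L1315 q156, e3 q157 L1323 q157, e3 q158 L1810 q210, e3 q159 L1819 q211, e3 q160 (flp_e L1344) q117, e3 q161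 L1356 q119, e3 q162 L1365 q120, e3 q163 (flp_e L1846) q214, e3 q164 (flp_e L1854) q215, e3 q165 L1388 q165, e3 q166 L1891 q220, e3 q167 L1908 q222, e3 q168 L1921 q224, e3 q169 (flp_e L1415) q124, e3 q170 L1429 q170, e3 q171 L1953 q228, e3 q172 (flp_e L1438) q126, e3 q173 L1449 q173, e3 q174 L1460 q174, e3 q175 L1986 q232, e3 q176 (flp_e L1478) q130, e3 q177 L1490 q177, e3 q178 L1502 q178, e3 q179 L2042 q236, e3 q180 L2056 q238, e3 q181 (flp_e L1518) q134, e3 q182 (flp_e L1525) q135, e3 q183 L1538 q143, e3 q184 L2099 q243, e3 q185 L2112 q245, e3 q186 (flp_e L1554) q138, e3 q187 L2133 q248, e3 q188 (flp_e L1566) q139, e3 q189 L1579 q189, e3 q190 L1584 q144, e3 q191 L1591 q191, trivial⟩ (by decide +kernel)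

theorem ce_e_3 : ∀ r, r < 64 → sm ge (Qf (192 + r)) = Qf (tab Gen.e (192 + r)) :=
  edges_tab (sm ge) Qf (tab Gen.e) 192 [(192, 241), (193, 145), (194, 251), (195, 195), (196, 196), (197, 256), (198, 149), (199, 150), (200, 259), (201, 201), (202, 153), (203, 154), (204, 263), (205, 264), (206, 206), (207, 269), (208, 271), (209, 273), (210, 158), (211, 159), (212, 212), (213, 213), (214, 163), (215, 164), (216, 280), (217, 284), (218, 286), (219, 288), (220, 166), (221, 291), (222, 167), (223, 294), (224, 168), (225, 292), (226, 226), (227, 298), (228, 171), (229, 229), (230, 301), (231, 303), (232, 175), (233, 305), (234, 307), (235, 309), (236, 179), (237, 312), (238, 180), (239, 239), (240, 240), (241, 192), (242, 318), (243, 184), (244, 321), (245, 185), (246, 246), (247, 325), (248, 187), (249, 249), (250, 250), (251, 194), (252, 328), (253, 331), (254, 333), (255, 335)]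
    ⟨e3 q192 (flp_e L2087) q241, e3 q193 (flp_e L1643) q145, e3 q194 (flp_e L2216) q251, e3 q195 L1666 q195, e3 q196 L1675 q196, e3 q197 L2254 q256, e3 q198 (flp_e L1698) q149, e3 q199 (flp_e L1707) q150, e3 q200 (flp_e L2305) q259, e3 q201 L1730 q201, e3 q202 L1743 q153, e3 q203 L1752 q154, e3 q204 (flp_e L2346) q263, e3 q205 (flp_e L2354) q264, e3 q206 L1783 q206, e3 q207 L2397 q269, e3 q208 L2413 q271, e3 q209 L2428 q273, e3 q210 (flp_e L1810) q158, e3 q211 (flp_e L1819) q159, e3 q212 L1834 q212, e3 q213 L1840 q213, e3 q214 L1846 q163, e3 q215 L1854 q164, e3 q216 (flp_e L2487) q280, e3 q217 L2517 q284, e3 q218 L2532 q286, e3 q219 L2548 q288, e3 q220 (flp_e L1891) q166, e3 q221 L2571 q291, e3 q222 (flp_e L1908) q167, e3 q223 L2593 q294, e3 q224 (flp_e L1921) q168, e3 q225 (flp_e L2583) q292, e3 q226 L1940 q226, e3 q227 L2625 q298, e3 q228 (flp_e L1953) q171, e3 q229 L1965 q229, e3 q230 L2648 q301, e3 q231 L2662 q303, e3 q232 (flp_e L1986) q175, e3 q233 L2719 q305, e3 q234 L2736 q307, e3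 q235 L2753 q309, e3 q236 (flp_e L2042) q179, e3 q237 L2774 q312, e3 q238 (flp_e L2056) q180, e3 q239 L2068 q239, e3 q240 L2073 q240, e3 q241 L2087 q192, e3 q242 L2828 q318, e3 q243 (flp_e L2099) q184, e3 q244 L2851 q321, e3 q245 (flp_e L2112) q185, e3 q246 L2125 q246, e3 q247 L2878 q325, e3 q248 (flp_e L2133) q187, e3 q249 L2146 q249, e3 q250 L2152 q250, e3 q251 L2216 q194, e3 q252 (flp_e L2975) q328, e3 q253 L2997 q331, e3 q254 L3016 q333, e3 q255 L3031 q335, trivial⟩ (by decide +kernel)

theorem ce_e_4 : ∀ r, r < 64 → sm ge (Qf (256 + r)) = Qf (tab Gen.e (256 + r)) :=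
  edges_tab (sm ge) Qf (tab Gen.e) 256 [(256, 197), (257, 257), (258, 258), (259, 200), (260, 338), (261, 341), (262, 262), (263, 204), (264, 205), (265, 343), (266, 347), (267, 349), (268, 351), (269, 207), (270, 354), (271, 208), (272, 357), (273, 209), (274, 355), (275, 275), (276, 276), (277, 277), (278, 278), (279, 279), (280, 216), (281, 367), (282, 369), (283, 371), (284, 217), (285, 374), (286, 218), (287, 377), (288, 219), (289, 372), (290, 382), (291, 221), (292, 225), (293, 386), (294, 223), (295, 384), (296, 385), (297, 389), (298, 227), (299, 383), (300, 393), (301, 230), (302, 395), (303, 231), (304, 397), (305, 233), (306, 400), (307, 234), (308, 403), (309, 235), (310, 310), (311, 407), (312, 237), (313, 313), (314, 314), (315, 315), (316, 316), (317, 413), (318, 242), (319, 319)]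
    ⟨e3 q256 (flp_e L2254) q197, e3 q257 L2291 q257, e3 q258 L2298 q258, e3 q259 L2305 q200, e3 q260 (flp_e L3099) q338, e3 q261 L3123 q341, e3 q262 L2336 q262, e3 q263 L2346 q204, e3 q264 L2354 q205, e3 q265 (flp_e L3152) q343, e3 q266 L3184 q347, e3 q267 L3202 q349, e3 q268 L3222 q351, e3 q269 (flp_e L2397) q207, e3 q270 L3246 q354, e3 q271 (flp_e L2413) q208, e3 q272 L3268 q357, e3 q273 (flp_e L2428) q209, e3 q274 (flp_e L3258) q355, e3 q275 L2448 q275, e3 q276 L2456 q276, e3 q277 L2461 q277, e3 q278 L2469 q278, e3 q279 L2480 q279, e3 q280 L2487 q216, e3 q281 L3353 q367, e3 q282 L3370 q369, e3 q283 L3385 q371, e3 q284 (flp_e L2517) q217, e3 q285 L3408 q374, e3 q286 (flp_e L2532) q218, e3 q287 L3433 q377, e3 q288 (flp_e L2548) q219, e3 q289 (flp_e L3398) q372, e3 q290 L3473 q382, e3 q291 (flp_e L2571) q221, e3 q292 L2583 q225, e3 q293 L3503 q386, e3 q294 (flp_e L2593) q223, e3 q295 (flp_e L3493) q384, e3 q296 (flp_e L3499) q385, e3 q297 L3527 q389, e3 q298 (flp_e L2625) q227, e3 q299 (flp_e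 L3485) q383, e3 q300 L3557 q393, e3 q301 (flp_e L2648) q230, e3 q302 L3582 q395, e3 q303 (flp_e L2662) q231, e3 q304 L3662 q397, e3 q305 (flp_e L2719) q233, e3 q306 L3687 q400, e3 q307 (flp_e L2736) q234, e3 q308 L3714 q403, e3 q309 (flp_e L2753) q235, e3 q310 L2766 q310, e3 q311 L3740 q407, e3 q312 (flp_e L2774) q237, e3 q313 L2786 q313, e3 q314 L2792 q314, e3 q315 L2799 q315, e3 q316 L2810 q316, e3 q317 L3813 q413, e3 q318 (flp_e L2828) q242, e3 q319 L2843 q319, trivial⟩ (by decide +kernel)

theorem ce_e_5 : ∀ r, r < 64 → sm ge (Qf (320 + r)) = Qf (tab Gen.e (320 + r)) :=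
  edges_tab (sm ge) Qf (tab Gen.e) 320 [(320, 417), (321, 244), (322, 322), (323, 323), (324, 324), (325, 247), (326, 326), (327, 327), (328, 252), (329, 426), (330, 428), (331, 253), (332, 431), (333, 254), (334, 434), (335, 255), (336, 432), (337, 337), (338, 260), (339, 439), (340, 441), (341, 261), (342, 342), (343, 265), (344, 446), (345, 448), (346, 450), (347, 266), (348, 453), (349, 267), (350, 456), (351, 268), (352, 451), (353, 461), (354, 270), (355, 274), (356, 465), (357, 272), (358, 358), (359, 463), (360, 464), (361, 471), (362, 362), (363, 363), (364, 364), (365, 477), (366, 479), (367, 281), (368, 482), (369, 282), (370, 485), (371, 283), (372, 289), (373, 490), (374, 285), (375, 483), (376, 494), (377, 287), (378, 378), (379, 487), (380, 488), (381, 499), (382, 290), (383, 299)]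
    ⟨e3 q320 L3844 q417, e3 q321 (flp_e L2851) q244, e3 q322 L2861 q322, e3 q323 L2870 q323, e3 q324 L2875 q324, e3 q325 (flp_e L2878) q247, e3 q326 L2891 q326, e3 q327 L2898 q327, e3 q328 L2975 q252, e3 q329 L4007 q426, e3 q330 L4022 q428, e3 q331 (flp_e L2997) q253, e3 q332 L4048 q431, e3 q333 (flp_e L3016) q254, e3 q334 L4074 q434, e3 q335 (flp_e L3031) q255, e3 q336 (flp_e L4063) q432, e3 q337 L3091 q337, e3 q338 L3099 q260, e3 q339 L4178 q439, e3 q340 L4195 q441, e3 q341 (flp_e L3123) q261, e3 q342 L3141 q342, e3 q343 L3152 q265, e3 q344 L4237 q446, e3 q345 L4257 q448, e3 q346 L4276 q450, e3 q347 (flp_e L3184) q266, e3 q348 L4302 q453, e3 q349 (flp_e L3202) q267, e3 q350 L4331 q456, e3 q351 (flp_e L3222) q268, e3 q352 (flp_e L4289) q451, e3 q353 L4370 q461, e3 q354 (flp_e L3246) q270, e3 q355 L3258 q274, e3 q356 L4400 q465, e3 q357 (flp_e L3268) q272, e3 q358 L3284 q358, e3 q359 (flp_e L4389) q463, e3 q360 (flp_e L4396) q464, e3 q361 L4446 q471, e3 q362 L3308 q362, e3 q363 L3329 q363,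 e3 q364 L3335 q364, e3 q365 L4500 q477, e3 q366 L4514 q479, e3 q367 (flp_e L3353) q281, e3 q368 L4537 q482, e3 q369 (flp_e L3370) q282, e3 q370 L4563 q485, e3 q371 (flp_e L3385) q283, e3 q372 L3398 q289, e3 q373 L4601 q490, e3 q374 (flp_e L3408) q285, e3 q375 (flp_e L4552) q483, e3 q376 L4636 q494, e3 q377 (flp_e L3433) q287, e3 q378 L3447 q378, e3 q379 (flp_e L4582) q487, e3 q380 (flp_e L4587) q488, e3 q381 L4675 q499, e3 q382 (flp_e L3473) q290, e3 q383 L3485 q299, trivial⟩ (by decide +kernel)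

theorem ce_e_6 : ∀ r, r < 64 → sm ge (Qf (384 + r)) = Qf (tab Gen.e (384 + r)) :=
  edges_tab (sm ge) Qf (tab Gen.e) 384 [(384, 295), (385, 296), (386, 293), (387, 501), (388, 504), (389, 297), (390, 500), (391, 503), (392, 512), (393, 300), (394, 514), (395, 302), (396, 516), (397, 304), (398, 398), (399, 520), (400, 306), (401, 401), (402, 524), (403, 308), (404, 517), (405, 405), (406, 406), (407, 311), (408, 408), (409, 409), (410, 410), (411, 411), (412, 534), (413, 317), (414, 414), (415, 415), (416, 416), (417, 320), (418, 418), (419, 419), (420, 545), (421, 421), (422, 422), (423, 423), (424, 549), (425, 551), (426, 329), (427, 554), (428, 330), (429, 552), (430, 558), (431, 332), (432, 336), (433, 561), (434, 334), (435, 560), (436, 436), (437, 565), (438, 567), (439, 339), (440, 570), (441, 340), (442, 568), (443, 443), (444, 576), (445, 578), (446, 344), (447, 581)]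
    ⟨e3 q384 L3493 q295, e3 q385 L3499 q296, e3 q386 (flp_e L3503) q293, e3 q387 (flp_e L4695) q501, e3 q388 (flp_e L4717) q504, e3 q389 (flp_e L3527) q297, e3 q390 (flp_e L4688) q500, e3 q391 (flp_e L4709) q503, e3 q392 L4774 q512, e3 q393 (flp_e L3557) q300, e3 q394 L4804 q514, e3 q395 (flp_e L3582) q302, e3 q396 L4918 q516, e3 q397 (flp_e L3662) q304, e3 q398 L3676 q398, e3 q399 L4961 q520, e3 q400 (flp_e L3687) q306, e3 q401 L3706 q401, e3 q402 L5000 q524, e3 q403 (flp_e L3714) q308, e3 q404 (flp_e L4931) q517, e3 q405 L3731 q405, e3 q406 L3737 q406, e3 q407 (flp_e L3740) q311, e3 q408 L3753 q408, e3 q409 L3761 q409, e3 q410 L3773 q410, e3 q411 L3778 q411, e3 q412 L5128 q534, e3 q413 (flp_e L3813) q317, e3 q414 L3826 q414, e3 q415 L3835 q415, e3 q416 L3840 q416, e3 q417 (flp_e L3844) q320, e3 q418 L3855 q418, e3 q419 L3863 q419, e3 q420 L5209 q545, e3 q421 L3876 q421, e3 q422 L3886 q422, e3 q423 L3892 q423, e3 q424 L5358 q549, e3 q425 L5375 q551, e3 q426 (flp_e L4007) q329, e3 q427 L5402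 q554, e3 q428 (flp_e L4022) q330, e3 q429 (flp_e L5391) q552, e3 q430 L5446 q558, e3 q431 (flp_e L4048) q332, e3 q432 L4063 q336, e3 q433 L5480 q561, e3 q434 (flp_e L4074) q334, e3 q435 (flp_e L5468) q560, e3 q436 L4157 q436, e3 q437 L5615 q565, e3 q438 L5634 q567, e3 q439 (flp_e L4178) q339, e3 q440 L5660 q570, e3 q441 (flp_e L4195) q340, e3 q442 (flp_e L5648) q568, e3 q443 L4218 q443, e3 q444 L5716 q576, e3 q445 L5734 q578, e3 q446 (flp_e L4237) q344, e3 q447 L5760 q581, trivial⟩ (by decide +kernel)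

theorem ce_e_7 : ∀ r, r < 64 → sm ge (Qf (448 + r)) = Qf (tab Gen.e (448 + r)) :=
  edges_tab (sm ge) Qf (tab Gen.e) 448 [(448, 345), (449, 584), (450, 346), (451, 352), (452, 589), (453, 348), (454, 582), (455, 593), (456, 350), (457, 571), (458, 586), (459, 587), (460, 599), (461, 353), (462, 462), (463, 359), (464, 360), (465, 356), (466, 466), (467, 601), (468, 610), (469, 469), (470, 604), (471, 361), (472, 613), (473, 473), (474, 474), (475, 616), (476, 618), (477, 365), (478, 621), (479, 366), (480, 480), (481, 626), (482, 368), (483, 375), (484, 630), (485, 370), (486, 486), (487, 379), (488, 380), (489, 636), (490, 373), (491, 491), (492, 628), (493, 629), (494, 376), (495, 495), (496, 632), (497, 647), (498, 635), (499, 381), (500, 390), (501, 387), (502, 502), (503, 391), (504, 388), (505, 650), (506, 654), (507, 649), (508, 651), (509, 653), (510, 657), (511, 663)]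
    ⟨e3 q448 (flp_e L4257) q345, e3 q449 L5790 q584, e3 q450 (flp_e L4276) q346, e3 q451 L4289 q352, e3 q452 L5832 q589, e3 q453 (flp_e L4302) q348, e3 q454 (flp_e L5779) q582, e3 q455 L5875 q593, e3 q456 (flp_e L4331) q350, e3 q457 (flp_e L5677) q571, e3 q458 (flp_e L5808) q586, e3 q459 (flp_e L5814) q587, e3 q460 L5919 q599, e3 q461 (flp_e L4370) q353, e3 q462 L4383 q462, e3 q463 L4389 q359, e3 q464 L4396 q360, e3 q465 (flp_e L4400) q356, e3 q466 L4417 q466, e3 q467 (flp_e L5941) q601, e3 q468 L6003 q610, e3 q469 L4436 q469, e3 q470 (flp_e L5958) q604, e3 q471 (flp_e L4446) q361, e3 q472 (flp_e L6042) q613, e3 q473 L4470 q473, e3 q474 L4480 q474, e3 q475 L6076 q616, e3 q476 L6091 q618, e3 q477 (flp_e L4500) q365, e3 q478 L6114 q621, e3 q479 (flp_e L4514) q366, e3 q480 L4527 q480, e3 q481 L6152 q626, e3 q482 (flp_e L4537) q368, e3 q483 L4552 q375, e3 q484 L6186 q630, e3 q485 (flp_e L4563) q370, e3 q486 L4574 q486, e3 q487 L4582 q379, e3 q488 L4587 q380, e3 q489 L6230 q636, e3 q490 (flp_e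 L4601) q373, e3 q491 L4618 q491, e3 q492 (flp_e L6175) q628, e3 q493 (flp_e L6180) q629, e3 q494 (flp_e L4636) q376, e3 q495 L4651 q495, e3 q496 (flp_e L6206) q632, e3 q497 L6321 q647, e3 q498 (flp_e L6225) q635, e3 q499 (flp_e L4675) q381, e3 q500 L4688 q390, e3 q501 L4695 q387, e3 q502 L4704 q502, e3 q503 L4709 q391, e3 q504 L4717 q388, e3 q505 (flp_e L6351) q650, e3 q506 (flp_e L6379) q654, e3 q507 (flp_e L6343) q649, e3 q508 (flp_e L6355) q651, e3 q509 (flp_e L6372) q653, e3 q510 (flp_e L6403) q657, e3 q511 L6447 q663, trivial⟩ (by decide +kernel)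

theorem ce_e_8 : ∀ r, r < 64 → sm ge (Qf (512 + r)) = Qf (tab Gen.e (512 + r)) :=
  edges_tab (sm ge) Qf (tab Gen.e) 512 [(512, 392), (513, 521), (514, 394), (515, 665), (516, 396), (517, 404), (518, 518), (519, 670), (520, 399), (521, 513), (522, 522), (523, 523), (524, 402), (525, 666), (526, 526), (527, 674), (528, 669), (529, 529), (530, 530), (531, 531), (532, 532), (533, 533), (534, 412), (535, 535), (536, 536), (537, 691), (538, 538), (539, 539), (540, 540), (541, 541), (542, 542), (543, 698), (544, 544), (545, 420), (546, 700), (547, 547), (548, 702), (549, 424), (550, 705), (551, 425), (552, 429), (553, 708), (554, 427), (555, 590), (556, 707), (557, 712), (558, 430), (559, 559), (560, 435), (561, 433), (562, 714), (563, 719), (564, 721), (565, 437), (566, 724), (567, 438), (568, 442), (569, 728), (570, 440), (571, 457), (572, 726), (573, 727), (574, 735), (575, 737)]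
    ⟨e3 q512 (flp_e L4774) q392, e3 q513 (flp_e L4977) q521, e3 q514 (flp_e L4804) q394, e3 q515 L6645 q665, e3 q516 (flp_e L4918) q396, e3 q517 L4931 q404, e3 q518 L4940 q518, e3 q519 L6691 q670, e3 q520 (flp_e L4961) q399, e3 q521 L4977 q513, e3 q522 L4988 q522, e3 q523 L4996 q523, e3 q524 (flp_e L5000) q402, e3 q525 (flp_e L6659) q666, e3 q526 L5020 q526, e3 q527 L108559 q674, e3 q528 (flp_e L6680) q669, e3 q529 L5035 q529, e3 q530 L5044 q530, e3 q531 L5052 q531, e3 q532 L5066 q532, e3 q533 L5073 q533, e3 q534 (flp_e L5128) q412, e3 q535 L5142 q535, e3 q536 L5150 q536, e3 q537 L6968 q691, e3 q538 L5163 q538, e3 q539 L5171 q539, e3 q540 L5180 q540, e3 q541 L5189 q541, e3 q542 L5192 q542, e3 q543 L7020 q698, e3 q544 L5206 q544, e3 q545 (flp_e L5209) q420, e3 q546 (flp_e L7039) q700, e3 q547 L5229 q547, e3 q548 L7200 q702, e3 q549 (flp_e L5358) q424, e3 q550 L7227 q705, e3 q551 (flp_e L5375) q425, e3 q552 L5391 q429, e3 q553 L7260 q708, e3 q554 (flp_e L5402) q427, e3 q555 (flp_e L5852) q590,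 e3 q556 (flp_e L7248) q707, e3 q557 L7310 q712, e3 q558 (flp_e L5446) q430, e3 q559 L5460 q559, e3 q560 L5468 q435, e3 q561 (flp_e L5480) q433, e3 q562 (flp_e L7332) q714, e3 q563 L7536 q719, e3 q564 L7553 q721, e3 q565 (flp_e L5615) q437, e3 q566 L7579 q724, e3 q567 (flp_e L5634) q438, e3 q568 L5648 q442, e3 q569 L7613 q728, e3 q570 (flp_e L5660) q440, e3 q571 L5677 q457, e3 q572 (flp_e L7602) q726, e3 q573 (flp_e L7607) q727, e3 q574 L7675 q735, e3 q575 L7696 q737, trivial⟩ (by decide +kernel)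

theorem ce_e_9 : ∀ r, r < 64 → sm ge (Qf (576 + r)) = Qf (tab Gen.e (576 + r)) :=
  edges_tab (sm ge) Qf (tab Gen.e) 576 [(576, 444), (577, 740), (578, 445), (579, 579), (580, 745), (581, 447), (582, 454), (583, 749), (584, 449), (585, 725), (586, 458), (587, 459), (588, 755), (589, 452), (590, 555), (591, 747), (592, 748), (593, 455), (594, 729), (595, 751), (596, 767), (597, 732), (598, 754), (599, 460), (600, 600), (601, 467), (602, 777), (603, 603), (604, 470), (605, 605), (606, 772), (607, 784), (608, 608), (609, 776), (610, 468), (611, 787), (612, 612), (613, 472), (614, 790), (615, 792), (616, 475), (617, 795), (618, 476), (619, 619), (620, 799), (621, 478), (622, 622), (623, 623), (624, 624), (625, 805), (626, 481), (627, 627), (628, 492), (629, 493), (630, 484), (631, 631), (632, 496), (633, 817), (634, 634), (635, 498), (636, 489), (637, 637), (638, 807), (639, 827)]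
    ⟨e3 q576 (flp_e L5716) q444, e3 q577 L7723 q740, e3 q578 (flp_e L5734) q445, e3 q579 L5747 q579, e3 q580 L7765 q745, e3 q581 (flp_e L5760) q447, e3 q582 L5779 q454, e3 q583 L7807 q749, e3 q584 (flp_e L5790) q449, e3 q585 (flp_e L7593) q725, e3 q586 L5808 q458, e3 q587 L5814 q459, e3 q588 L7849 q755, e3 q589 (flp_e L5832) q452, e3 q590 L5852 q555, e3 q591 (flp_e L7793) q747, e3 q592 (flp_e L7801) q748, e3 q593 (flp_e L5875) q455, e3 q594 (flp_e L7631) q729, e3 q595 (flp_e L7829) q751, e3 q596 L7956 q767, e3 q597 (flp_e L7651) q732, e3 q598 (flp_e L7844) q754, e3 q599 (flp_e L5919) q460, e3 q600 L5933 q600, e3 q601 L5941 q467, e3 q602 L8027 q777, e3 q603 L5952 q603, e3 q604 L5958 q470, e3 q605 L5970 q605, e3 q606 (flp_e L7994) q772, e3 q607 L8077 q784, e3 q608 L5991 q608, e3 q609 (flp_e L8023) q776, e3 q610 (flp_e L6003) q468, e3 q611 (flp_e L8121) q787, e3 q612 L6028 q612, e3 q613 L6042 q472, e3 q614 L8185 q790, e3 q615 L8200 q792, e3 q616 (flp_e L6076) q475, e3 q617 L8225 q795, e3 q618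 (flp_e L6091) q476, e3 q619 L6106 q619, e3 q620 L8258 q799, e3 q621 (flp_e L6114) q478, e3 q622 L6126 q622, e3 q623 L6133 q623, e3 q624 L6139 q624, e3 q625 L8300 q805, e3 q626 (flp_e L6152) q481, e3 q627 L6166 q627, e3 q628 L6175 q492, e3 q629 L6180 q493, e3 q630 (flp_e L6186) q484, e3 q631 L6199 q631, e3 q632 L6206 q496, e3 q633 L8393 q817, e3 q634 L6216 q634, e3 q635 L6225 q498, e3 q636 (flp_e L6230) q489, e3 q637 L6248 q637, e3 q638 (flp_e L8324) q807, e3 q639 L8471 q827, trivial⟩ (by decide +kernel)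

theorem ce_e_10 : ∀ r, r < 64 → sm ge (Qf (640 + r)) = Qf (tab Gen.e (640 + r)) :=
  edges_tab (sm ge) Qf (tab Gen.e) 640 [(640, 640), (641, 810), (642, 642), (643, 812), (644, 644), (645, 834), (646, 816), (647, 497), (648, 836), (649, 507), (650, 505), (651, 508), (652, 652), (653, 509), (654, 506), (655, 655), (656, 656), (657, 510), (658, 840), (659, 837), (660, 839), (661, 842), (662, 845), (663, 511), (664, 671), (665, 515), (666, 525), (667, 667), (668, 860), (669, 528), (670, 519), (671, 664), (672, 672), (673, 861), (674, 527), (675, 675), (676, 855), (677, 677), (678, 857), (679, 866), (680, 859), (681, 681), (682, 759), (683, 683), (684, 684), (685, 685), (686, 686), (687, 687), (688, 882), (689, 689), (690, 690), (691, 537), (692, 885), (693, 886), (694, 694), (695, 890), (696, 696), (697, 892), (698, 543), (699, 894), (700, 546), (701, 897), (702, 548), (703, 703)]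
    ⟨e3 q640 L6268 q640, e3 q641 (flp_e L8344) q810, e3 q642 L6290 q642, e3 q643 (flp_e L8364) q812, e3 q644 L6301 q644, e3 q645 L8527 q834, e3 q646 (flp_e L8388) q816, e3 q647 (flp_e L6321) q497, e3 q648 (flp_e L8546) q836, e3 q649 L6343 q507, e3 q650 L6351 q505, e3 q651 L6355 q508, e3 q652 L6367 q652, e3 q653 L6372 q509, e3 q654 L6379 q506, e3 q655 L6389 q655, e3 q656 L6396 q656, e3 q657 L6403 q510, e3 q658 (flp_e L8579) q840, e3 q659 (flp_e L8553) q837, e3 q660 (flp_e L8571) q839, e3 q661 (flp_e L8595) q842, e3 q662 (flp_e L8618) q845, e3 q663 (flp_e L6447) q511, e3 q664 (flp_e L6708) q671, e3 q665 (flp_e L6645) q515, e3 q666 L6659 q525, e3 q667 L6669 q667, e3 q668 L9014 q860, e3 q669 L6680 q528, e3 q670 (flp_e L6691) q519, e3 q671 L6708 q664, e3 q672 L6719 q672, e3 q673 (flp_e L108539) q861, e3 q674 (flp_e L108559) q527, e3 q675 L6743 q675, e3 q676 (flp_e L8971) q855, e3 q677 L6759 q677, e3 q678 (flp_e L8984) q857, e3 q679 L111583 q866, e3 q680 (flp_e L9002) q859, e3 q681 L6783 q681,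 e3 q682 L108759 q759, e3 q683 L6820 q683, e3 q684 L6827 q684, e3 q685 L6929 q685, e3 q686 L6938 q686, e3 q687 L6941 q687, e3 q688 L9404 q882, e3 q689 L6957 q689, e3 q690 L6964 q690, e3 q691 (flp_e L6968) q537, e3 q692 (flp_e L9433) q885, e3 q693 (flp_e L9441) q886, e3 q694 L6996 q694, e3 q695 L9466 q890, e3 q696 L7011 q696, e3 q697 L9482 q892, e3 q698 (flp_e L7020) q543, e3 q699 (flp_e L9500) q894, e3 q700 L7039 q546, e3 q701 L9717 q897, e3 q702 (flp_e L7200) q548, e3 q703 L7216 q703, trivial⟩ (by decide +kernel)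

theorem ce_e_11 : ∀ r, r < 64 → sm ge (Qf (704 + r)) = Qf (tab Gen.e (704 + r)) :=
  edges_tab (sm ge) Qf (tab Gen.e) 704 [(704, 900), (705, 550), (706, 746), (707, 556), (708, 553), (709, 756), (710, 902), (711, 909), (712, 557), (713, 713), (714, 562), (715, 778), (716, 716), (717, 911), (718, 918), (719, 563), (720, 921), (721, 564), (722, 722), (723, 925), (724, 566), (725, 585), (726, 572), (727, 573), (728, 569), (729, 594), (730, 927), (731, 937), (732, 597), (733, 930), (734, 942), (735, 574), (736, 945), (737, 575), (738, 738), (739, 949), (740, 577), (741, 922), (742, 742), (743, 743), (744, 955), (745, 580), (746, 706), (747, 591), (748, 592), (749, 583), (750, 926), (751, 595), (752, 967), (753, 929), (754, 598), (755, 588), (756, 709), (757, 957), (758, 977), (759, 682), (760, 960), (761, 931), (762, 962), (763, 933), (764, 987), (765, 935), (766, 966), (767, 596)]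
    ⟨e3 q704 L9749 q900, e3 q705 (flp_e L7227) q550, e3 q706 (flp_e L7782) q746, e3 q707 L7248 q556, e3 q708 (flp_e L7260) q553, e3 q709 (flp_e L7870) q756, e3 q710 (flp_e L9771) q902, e3 q711 L9843 q909, e3 q712 (flp_e L7310) q557, e3 q713 L7325 q713, e3 q714 L7332 q562, e3 q715 L102028 q778, e3 q716 L7347 q716, e3 q717 (flp_e L9892) q911, e3 q718 L10203 q918, e3 q719 (flp_e L7536) q563, e3 q720 L10228 q921, e3 q721 (flp_e L7553) q564, e3 q722 L7567 q722, e3 q723 L10261 q925, e3 q724 (flp_e L7579) q566, e3 q725 L7593 q585, e3 q726 L7602 q572, e3 q727 L7607 q573, e3 q728 (flp_e L7613) q569, e3 q729 L7631 q594, e3 q730 (flp_e L10287) q927, e3 q731 L10366 q937, e3 q732 L7651 q597, e3 q733 (flp_e L10305) q930, e3 q734 L10408 q942, e3 q735 (flp_e L7675) q574, e3 q736 L10441 q945, e3 q737 (flp_e L7696) q575, e3 q738 L7715 q738, e3 q739 L10482 q949, e3 q740 (flp_e L7723) q577, e3 q741 (flp_e L10243) q922, e3 q742 L7741 q742, e3 q743 L7748 q743, e3 q744 L10522 q955, e3 q745 (flp_e L7765) q580,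 e3 q746 L7782 q706, e3 q747 L7793 q591, e3 q748 L7801 q592, e3 q749 (flp_e L7807) q583, e3 q750 (flp_e L10277) q926, e3 q751 L7829 q595, e3 q752 L10626 q967, e3 q753 (flp_e L10297) q929, e3 q754 L7844 q598, e3 q755 (flp_e L7849) q588, e3 q756 L7870 q709, e3 q757 (flp_e L10552) q957, e3 q758 L10708 q977, e3 q759 (flp_e L108759) q682, e3 q760 (flp_e L10576) q960, e3 q761 (flp_e L10319) q931, e3 q762 (flp_e L10595) q962, e3 q763 (flp_e L10331) q933, e3 q764 L10795 q987, e3 q765 (flp_e L10351) q935, e3 q766 (flp_e L10621) q966, e3 q767 (flp_e L7956) q596, trivial⟩ (by decide +kernel)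

theorem ce_e_12 : ∀ r, r < 64 → sm ge (Qf (768 + r)) = Qf (tab Gen.e (768 + r)) :=
  edges_tab (sm ge) Qf (tab Gen.e) 768 [(768, 991), (769, 992), (770, 940), (771, 771), (772, 606), (773, 773), (774, 999), (775, 775), (776, 609), (777, 602), (778, 715), (779, 1003), (780, 780), (781, 1006), (782, 782), (783, 996), (784, 607), (785, 1009), (786, 786), (787, 611), (788, 788), (789, 1013), (790, 614), (791, 1016), (792, 615), (793, 793), (794, 1020), (795, 617), (796, 796), (797, 797), (798, 798), (799, 620), (800, 800), (801, 801), (802, 1032), (803, 803), (804, 804), (805, 625), (806, 806), (807, 638), (808, 1042), (809, 809), (810, 641), (811, 811), (812, 643), (813, 813), (814, 1052), (815, 815), (816, 646), (817, 633), (818, 1056), (819, 1057), (820, 820), (821, 821), (822, 1037), (823, 823), (824, 1066), (825, 825), (826, 1041), (827, 639), (828, 1069), (829, 1070), (830, 830), (831, 1074)]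
    ⟨e3 q768 (flp_e L10826) q991, e3 q769 (flp_e L10831) q992, e3 q770 (flp_e L10392) q940, e3 q771 L7986 q771, e3 q772 L7994 q606, e3 q773 L7998 q773, e3 q774 L10896 q999, e3 q775 L8015 q775, e3 q776 L8023 q609, e3 q777 (flp_e L8027) q602, e3 q778 (flp_e L102028) q715, e3 q779 (flp_e L10936) q1003, e3 q780 L8049 q780, e3 q781 L10951 q1006, e3 q782 L8065 q782, e3 q783 (flp_e L10877) q996, e3 q784 (flp_e L8077) q607, e3 q785 (flp_e L10997) q1009, e3 q786 L8106 q786, e3 q787 L8121 q611, e3 q788 L8158 q788, e3 q789 L11097 q1013, e3 q790 (flp_e L8185) q614, e3 q791 L11121 q1016, e3 q792 (flp_e L8200) q615, e3 q793 L8216 q793, e3 q794 L11153 q1020, e3 q795 (flp_e L8225) q617, e3 q796 L8240 q796, e3 q797 L8248 q797, e3 q798 L8254 q798, e3 q799 (flp_e L8258) q620, e3 q800 L8270 q800, e3 q801 L8276 q801, e3 q802 L11241 q1032, e3 q803 L8289 q803, e3 q804 L8297 q804, e3 q805 (flp_e L8300) q625, e3 q806 L8316 q806, e3 q807 L8324 q638, e3 q808 L11322 q1042, e3 q809 L8336 q809, e3 q810 L8344 q641, e3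 q811 L8356 q811, e3 q812 L8364 q643, e3 q813 L8368 q813, e3 q814 L11394 q1052, e3 q815 L8380 q815, e3 q816 L8388 q646, e3 q817 (flp_e L8393) q633, e3 q818 (flp_e L11429) q1056, e3 q819 (flp_e L11434) q1057, e3 q820 L8417 q820, e3 q821 L8428 q821, e3 q822 (flp_e L11289) q1037, e3 q823 L8439 q823, e3 q824 L11507 q1066, e3 q825 L8457 q825, e3 q826 (flp_e L11316) q1041, e3 q827 (flp_e L8471) q639, e3 q828 (flp_e L11536) q1069, e3 q829 (flp_e L11544) q1070, e3 q830 L8500 q830, e3 q831 L11573 q1074, trivial⟩ (by decide +kernel)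

theorem ce_e_13 : ∀ r, r < 64 → sm ge (Qf (832 + r)) = Qf (tab Gen.e (832 + r)) :=
  edges_tab (sm ge) Qf (tab Gen.e) 832 [(832, 1049), (833, 1076), (834, 645), (835, 1078), (836, 648), (837, 659), (838, 838), (839, 660), (840, 658), (841, 841), (842, 661), (843, 843), (844, 844), (845, 662), (846, 846), (847, 847), (848, 1080), (849, 1082), (850, 1085), (851, 1096), (852, 1089), (853, 862), (854, 864), (855, 676), (856, 856), (857, 678), (858, 1104), (859, 680), (860, 668), (861, 673), (862, 853), (863, 863), (864, 854), (865, 1105), (866, 679), (867, 867), (868, 980), (869, 1099), (870, 1108), (871, 1101), (872, 872), (873, 1111), (874, 1103), (875, 975), (876, 876), (877, 1121), (878, 878), (879, 879), (880, 1124), (881, 881), (882, 688), (883, 1128), (884, 1129), (885, 692), (886, 693), (887, 1132), (888, 888), (889, 1135), (890, 695), (891, 1137), (892, 697), (893, 1139), (894, 699), (895, 1079)]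
    ⟨e3 q832 (flp_e L11379) q1049, e3 q833 L11590 q1076, e3 q834 (flp_e L8527) q645, e3 q835 (flp_e L11609) q1078, e3 q836 L8546 q648, e3 q837 L8553 q659, e3 q838 L8565 q838, e3 q839 L8571 q660, e3 q840 L8579 q658, e3 q841 L8589 q841, e3 q842 L8595 q661, e3 q843 L8604 q843, e3 q844 L8611 q844, e3 q845 L8618 q662, e3 q846 L8626 q846, e3 q847 L8634 q847, e3 q848 (flp_e L11622) q1080, e3 q849 (flp_e L11642) q1082, e3 q850 (flp_e L11668) q1085, e3 q851 L11751 q1096, e3 q852 (flp_e L11697) q1089, e3 q853 (flp_e L9051) q862, e3 q854 (flp_e L9067) q864, e3 q855 L8971 q676, e3 q856 L8981 q856, e3 q857 L8984 q678, e3 q858 L12217 q1104, e3 q859 L9002 q680, e3 q860 (flp_e L9014) q668, e3 q861 L108539 q673, e3 q862 L9051 q853, e3 q863 L9064 q863, e3 q864 L9067 q854, e3 q865 L111092 q1105, e3 q866 (flp_e L111583) q679, e3 q867 L9095 q867, e3 q868 L108723 q980, e3 q869 (flp_e L12173) q1099, e3 q870 (flp_e L111575) q1108, e3 q871 (flp_e L12190) q1101, e3 q872 L9160 q872, e3 q873 L111050 q1111, e3 q874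 (flp_e L12215) q1103, e3 q875 L111569 q975, e3 q876 L9361 q876, e3 q877 L12712 q1121, e3 q878 L9378 q878, e3 q879 L9386 q879, e3 q880 L12739 q1124, e3 q881 L9402 q881, e3 q882 (flp_e L9404) q688, e3 q883 (flp_e L12772) q1128, e3 q884 (flp_e L12780) q1129, e3 q885 L9433 q692, e3 q886 L9441 q693, e3 q887 (flp_e L12804) q1132, e3 q888 L9455 q888, e3 q889 L12823 q1135, e3 q890 (flp_e L9466) q695, e3 q891 (flp_e L12844) q1137, e3 q892 (flp_e L9482) q697, e3 q893 (flp_e L12857) q1139, e3 q894 L9500 q699, e3 q895 (flp_e L11617) q1079, trivial⟩ (by decide +kernel)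

theorem ce_e_14 : ∀ r, r < 64 → sm ge (Qf (896 + r)) = Qf (tab Gen.e (896 + r)) :=
  edges_tab (sm ge) Qf (tab Gen.e) 896 [(896, 1141), (897, 701), (898, 946), (899, 899), (900, 704), (901, 956), (902, 710), (903, 1151), (904, 959), (905, 971), (906, 1147), (907, 973), (908, 1157), (909, 711), (910, 910), (911, 717), (912, 912), (913, 1000), (914, 914), (915, 1004), (916, 916), (917, 1167), (918, 718), (919, 919), (920, 1171), (921, 720), (922, 741), (923, 923), (924, 924), (925, 723), (926, 750), (927, 730), (928, 1183), (929, 753), (930, 733), (931, 761), (932, 1178), (933, 763), (934, 1193), (935, 765), (936, 1182), (937, 731), (938, 1197), (939, 1198), (940, 770), (941, 1202), (942, 734), (943, 943), (944, 1206), (945, 736), (946, 898), (947, 947), (948, 948), (949, 739), (950, 1172), (951, 951), (952, 1218), (953, 1175), (954, 954), (955, 744), (956, 901), (957, 757), (958, 1228), (959, 904)]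
    ⟨e3 q896 L13131 q1141, e3 q897 (flp_e L9717) q701, e3 q898 (flp_e L10459) q946, e3 q899 L9738 q899, e3 q900 (flp_e L9749) q704, e3 q901 (flp_e L10541) q956, e3 q902 L9771 q710, e3 q903 L13222 q1151, e3 q904 (flp_e L10566) q959, e3 q905 (flp_e L10656) q971, e3 q906 (flp_e L13193) q1147, e3 q907 (flp_e L10671) q973, e3 q908 L13299 q1157, e3 q909 (flp_e L9843) q711, e3 q910 L9883 q910, e3 q911 L9892 q717, e3 q912 L9896 q912, e3 q913 L109678 q1000, e3 q914 L9912 q914, e3 q915 L109318 q1004, e3 q916 L9953 q916, e3 q917 L13808 q1167, e3 q918 (flp_e L10203) q718, e3 q919 L10218 q919, e3 q920 L13840 q1171, e3 q921 (flp_e L10228) q720, e3 q922 L10243 q741, e3 q923 L10251 q923, e3 q924 L10257 q924, e3 q925 (flp_e L10261) q723, e3 q926 L10277 q750, e3 q927 L10287 q730, e3 q928 L13942 q1183, e3 q929 L10297 q753, e3 q930 L10305 q733, e3 q931 L10319 q761, e3 q932 (flp_e L13905) q1178, e3 q933 L10331 q763, e3 q934 L14025 q1193, e3 q935 L10351 q765, e3 q936 (flp_e L13936) q1182, e3 q937 (flp_e L10366)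 q731, e3 q938 (flp_e L14064) q1197, e3 q939 (flp_e L14071) q1198, e3 q940 L10392 q770, e3 q941 L14103 q1202, e3 q942 (flp_e L10408) q734, e3 q943 L10428 q943, e3 q944 L14143 q1206, e3 q945 (flp_e L10441) q736, e3 q946 L10459 q898, e3 q947 L10469 q947, e3 q948 L10478 q948, e3 q949 (flp_e L10482) q739, e3 q950 (flp_e L13855) q1172, e3 q951 L10502 q951, e3 q952 L14242 q1218, e3 q953 (flp_e L13877) q1175, e3 q954 L10519 q954, e3 q955 (flp_e L10522) q744, e3 q956 L10541 q901, e3 q957 L10552 q757, e3 q958 L14328 q1228, e3 q959 L10566 q904, trivial⟩ (by decide +kernel)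

theorem ce_e_15 : ∀ r, r < 64 → sm ge (Qf (960 + r)) = Qf (tab Gen.e (960 + r)) :=
  edges_tab (sm ge) Qf (tab Gen.e) 960 [(960, 760), (961, 1177), (962, 762), (963, 1179), (964, 1238), (965, 1181), (966, 766), (967, 752), (968, 1242), (969, 1243), (970, 1186), (971, 905), (972, 1223), (973, 907), (974, 1252), (975, 875), (976, 1227), (977, 758), (978, 1256), (979, 1257), (980, 868), (981, 1187), (982, 1261), (983, 1189), (984, 1235), (985, 1265), (986, 1192), (987, 764), (988, 1269), (989, 1270), (990, 1196), (991, 768), (992, 769), (993, 993), (994, 1275), (995, 995), (996, 783), (997, 1279), (998, 998), (999, 774), (1000, 913), (1001, 1284), (1002, 1002), (1003, 779), (1004, 915), (1005, 1288), (1006, 781), (1007, 1290), (1008, 1008), (1009, 785), (1010, 1271), (1011, 1011), (1012, 1295), (1013, 789), (1014, 1014), (1015, 1299), (1016, 791), (1017, 1296), (1018, 1018), (1019, 1019), (1020, 794), (1021, 1021), (1022, 1022), (1023, 1311)]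
    ⟨e3 q960 L10576 q760, e3 q961 (flp_e L13895) q1177, e3 q962 L10595 q762, e3 q963 (flp_e L13909) q1179, e3 q964 L14406 q1238, e3 q965 (flp_e L13927) q1181, e3 q966 L10621 q766, e3 q967 (flp_e L10626) q752, e3 q968 (flp_e L14438) q1242, e3 q969 (flp_e L14442) q1243, e3 q970 (flp_e L13965) q1186, e3 q971 L10656 q905, e3 q972 (flp_e L14289) q1223, e3 q973 L10671 q907, e3 q974 L14521 q1252, e3 q975 (flp_e L111569) q875, e3 q976 (flp_e L14322) q1227, e3 q977 (flp_e L10708) q758, e3 q978 (flp_e L14562) q1256, e3 q979 (flp_e L14571) q1257, e3 q980 (flp_e L108723) q868, e3 q981 (flp_e L13974) q1187, e3 q982 L14619 q1261, e3 q983 (flp_e L13993) q1189, e3 q984 (flp_e L14390) q1235, e3 q985 L14647 q1265, e3 q986 (flp_e L14021) q1192, e3 q987 (flp_e L10795) q764, e3 q988 (flp_e L14681) q1269, e3 q989 (flp_e L14687) q1270, e3 q990 (flp_e L14055) q1196, e3 q991 L10826 q768, e3 q992 L10831 q769, e3 q993 L10853 q993, e3 q994 L14762 q1275, e3 q995 L10869 q995, e3 q996 L10877 q783, e3 q997 L14791 q1279,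 e3 q998 L10894 q998, e3 q999 (flp_e L10896) q774, e3 q1000 (flp_e L109678) q913, e3 q1001 (flp_e L14842) q1284, e3 q1002 L10922 q1002, e3 q1003 L10936 q779, e3 q1004 (flp_e L109318) q915, e3 q1005 (flp_e L14882) q1288, e3 q1006 (flp_e L10951) q781, e3 q1007 (flp_e L14906) q1290, e3 q1008 L10980 q1008, e3 q1009 L10997 q785, e3 q1010 (flp_e L14721) q1271, e3 q1011 L11078 q1011, e3 q1012 L15059 q1295, e3 q1013 (flp_e L11097) q789, e3 q1014 L11112 q1014, e3 q1015 L15092 q1299, e3 q1016 (flp_e L11121) q791, e3 q1017 (flp_e L15073) q1296, e3 q1018 L11143 q1018, e3 q1019 L11148 q1019, e3 q1020 (flp_e L11153) q794, e3 q1021 L11168 q1021, e3 q1022 L11175 q1022, e3 q1023 L15186 q1311, trivial⟩ (by decide +kernel)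

theorem ce_e_16 : ∀ r, r < 64 → sm ge (Qf (1024 + r)) = Qf (tab Gen.e (1024 + r)) :=
  edges_tab (sm ge) Qf (tab Gen.e) 1024 [(1024, 1024), (1025, 1025), (1026, 1026), (1027, 1027), (1028, 1028), (1029, 1321), (1030, 1030), (1031, 1031), (1032, 802), (1033, 1325), (1034, 1326), (1035, 1035), (1036, 1036), (1037, 822), (1038, 1038), (1039, 1335), (1040, 1040), (1041, 826), (1042, 808), (1043, 1313), (1044, 1312), (1045, 1045), (1046, 1046), (1047, 1342), (1048, 1048), (1049, 832), (1050, 1346), (1051, 1051), (1052, 814), (1053, 1351), (1054, 1352), (1055, 1055), (1056, 818), (1057, 819), (1058, 1328), (1059, 1327), (1060, 1060), (1061, 1358), (1062, 1062), (1063, 1332), (1064, 1361), (1065, 1065), (1066, 824), (1067, 1365), (1068, 1366), (1069, 828), (1070, 829), (1071, 1302), (1072, 1072), (1073, 1369), (1074, 831), (1075, 1371), (1076, 833), (1077, 1373), (1078, 835), (1079, 895), (1080, 848), (1081, 1081), (1082, 849), (1083, 1083), (1084, 1084), (1085, 850), (1086, 1086), (1087, 1087)]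
    ⟨e3 q1024 L11190 q1024, e3 q1025 L11197 q1025, e3 q1026 L11207 q1026, e3 q1027 L11214 q1027, e3 q1028 L11217 q1028, e3 q1029 L15264 q1321, e3 q1030 L11231 q1030, e3 q1031 L11238 q1031, e3 q1032 (flp_e L11241) q802, e3 q1033 (flp_e L15297) q1325, e3 q1034 (flp_e L15304) q1326, e3 q1035 L11270 q1035, e3 q1036 L11280 q1036, e3 q1037 L11289 q822, e3 q1038 L11293 q1038, e3 q1039 L15372 q1335, e3 q1040 L11309 q1040, e3 q1041 L11316 q826, e3 q1042 (flp_e L11322) q808, e3 q1043 (flp_e L120375) q1313, e3 q1044 L120514 q1312, e3 q1045 L11348 q1045, e3 q1046 L11356 q1046, e3 q1047 L15455 q1342, e3 q1048 L11370 q1048, e3 q1049 L11379 q832, e3 q1050 L15489 q1346, e3 q1051 L11392 q1051, e3 q1052 (flp_e L11394) q814, e3 q1053 (flp_e L15522) q1351, e3 q1054 (flp_e L15528) q1352, e3 q1055 L11422 q1055, e3 q1056 L11429 q818, e3 q1057 L11434 q819, e3 q1058 (flp_e L120477) q1328, e3 q1059 (flp_e L120470) q1327, e3 q1060 L11457 q1060, e3 q1061 L15606 q1358, e3 q1062 L11476 q1062, e3 q1063 (flp_e L15354)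 q1332, e3 q1064 L15634 q1361, e3 q1065 L11503 q1065, e3 q1066 (flp_e L11507) q824, e3 q1067 (flp_e L15670) q1365, e3 q1068 (flp_e L15678) q1366, e3 q1069 L11536 q828, e3 q1070 L11544 q829, e3 q1071 (flp_e L120298) q1302, e3 q1072 L11560 q1072, e3 q1073 L15723 q1369, e3 q1074 (flp_e L11573) q831, e3 q1075 (flp_e L15745) q1371, e3 q1076 (flp_e L11590) q833, e3 q1077 (flp_e L15757) q1373, e3 q1078 L11609 q835, e3 q1079 L11617 q895, e3 q1080 L11622 q848, e3 q1081 L11635 q1081, e3 q1082 L11642 q849, e3 q1083 L11652 q1083, e3 q1084 L11660 q1084, e3 q1085 L11668 q850, e3 q1086 L11677 q1086, e3 q1087 L11685 q1087, trivial⟩ (by decide +kernel)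

theorem ce_e_17 : ∀ r, r < 64 → sm ge (Qf (1088 + r)) = Qf (tab Gen.e (1088 + r)) :=
  edges_tab (sm ge) Qf (tab Gen.e) 1088 [(1088, 1386), (1089, 852), (1090, 1090), (1091, 1091), (1092, 1092), (1093, 1376), (1094, 1391), (1095, 1380), (1096, 851), (1097, 1394), (1098, 1106), (1099, 869), (1100, 1400), (1101, 871), (1102, 1402), (1103, 874), (1104, 858), (1105, 865), (1106, 1098), (1107, 1401), (1108, 870), (1109, 1109), (1110, 1403), (1111, 873), (1112, 1255), (1113, 1397), (1114, 1407), (1115, 1399), (1116, 1248), (1117, 1251), (1118, 1118), (1119, 1416), (1120, 1120), (1121, 877), (1122, 1420), (1123, 1421), (1124, 880), (1125, 1424), (1126, 1425), (1127, 1428), (1128, 883), (1129, 884), (1130, 1430), (1131, 1303), (1132, 887), (1133, 1133), (1134, 1432), (1135, 889), (1136, 1435), (1137, 891), (1138, 1410), (1139, 893), (1140, 1374), (1141, 896), (1142, 1207), (1143, 1143), (1144, 1444), (1145, 1210), (1146, 1222), (1147, 906), (1148, 1224), (1149, 1452), (1150, 1226), (1151, 903)]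
    ⟨e3 q1088 L15859 q1386, e3 q1089 L11697 q852, e3 q1090 L11705 q1090, e3 q1091 L11713 q1091, e3 q1092 L11721 q1092, e3 q1093 (flp_e L15782) q1376, e3 q1094 L15897 q1391, e3 q1095 (flp_e L15814) q1380, e3 q1096 (flp_e L11751) q851, e3 q1097 (flp_e L15923) q1394, e3 q1098 (flp_e L12283) q1106, e3 q1099 L12173 q869, e3 q1100 L16519 q1400, e3 q1101 L12190 q871, e3 q1102 L16552 q1402, e3 q1103 L12215 q874, e3 q1104 (flp_e L12217) q858, e3 q1105 (flp_e L111092) q865, e3 q1106 L12283 q1098, e3 q1107 L111623 q1401, e3 q1108 L111575 q870, e3 q1109 L12316 q1109, e3 q1110 (flp_e L84258) q1403, e3 q1111 (flp_e L111050) q873, e3 q1112 L111542 q1255, e3 q1113 (flp_e L16497) q1397, e3 q1114 L111888 q1407, e3 q1115 (flp_e L16517) q1399, e3 q1116 (flp_e L111556) q1248, e3 q1117 (flp_e L111039) q1251, e3 q1118 L12691 q1118, e3 q1119 L17232 q1416, e3 q1120 L12710 q1120, e3 q1121 (flp_e L12712) q877, e3 q1122 (flp_e L17270) q1420, e3 q1123 (flp_e L17279) q1421, e3 q1124 (flp_e L12739) q880, e3 q1125 (flp_e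 L17304) q1424, e3 q1126 (flp_e L17313) q1425, e3 q1127 L17332 q1428, e3 q1128 L12772 q883, e3 q1129 L12780 q884, e3 q1130 (flp_e L17350) q1430, e3 q1131 L120219 q1303, e3 q1132 L12804 q887, e3 q1133 L12814 q1133, e3 q1134 L17387 q1432, e3 q1135 (flp_e L12823) q889, e3 q1136 (flp_e L17414) q1435, e3 q1137 L12844 q891, e3 q1138 (flp_e L111057) q1410, e3 q1139 L12857 q893, e3 q1140 (flp_e L15765) q1374, e3 q1141 (flp_e L13131) q896, e3 q1142 (flp_e L14161) q1207, e3 q1143 L13151 q1143, e3 q1144 L17832 q1444, e3 q1145 (flp_e L14188) q1210, e3 q1146 (flp_e L14276) q1222, e3 q1147 L13193 q906, e3 q1148 (flp_e L14293) q1224, e3 q1149 L17910 q1452, e3 q1150 (flp_e L14312) q1226, e3 q1151 (flp_e L13222) q903, trivial⟩ (by decide +kernel)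

theorem ce_e_18 : ∀ r, r < 64 → sm ge (Qf (1152 + r)) = Qf (tab Gen.e (1152 + r)) :=
  edges_tab (sm ge) Qf (tab Gen.e) 1152 [(1152, 1455), (1153, 1231), (1154, 1246), (1155, 1459), (1156, 1460), (1157, 908), (1158, 1158), (1159, 1276), (1160, 1160), (1161, 1280), (1162, 1162), (1163, 1285), (1164, 1164), (1165, 1289), (1166, 1470), (1167, 917), (1168, 1168), (1169, 1169), (1170, 1170), (1171, 920), (1172, 950), (1173, 1173), (1174, 1482), (1175, 953), (1176, 1176), (1177, 961), (1178, 932), (1179, 963), (1180, 1492), (1181, 965), (1182, 936), (1183, 928), (1184, 1496), (1185, 1497), (1186, 970), (1187, 981), (1188, 1503), (1189, 983), (1190, 1489), (1191, 1507), (1192, 986), (1193, 934), (1194, 1512), (1195, 1513), (1196, 990), (1197, 938), (1198, 939), (1199, 1517), (1200, 1516), (1201, 1519), (1202, 941), (1203, 1203), (1204, 1204), (1205, 1205), (1206, 944), (1207, 1142), (1208, 1208), (1209, 1531), (1210, 1145), (1211, 1211), (1212, 1476), (1213, 1213), (1214, 1478), (1215, 1541)]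
    ⟨e3 q1152 (flp_e L17950) q1455, e3 q1153 (flp_e L14359) q1231, e3 q1154 (flp_e L14461) q1246, e3 q1155 L17992 q1459, e3 q1156 L18028 q1460, e3 q1157 (flp_e L13299) q908, e3 q1158 L13365 q1158, e3 q1159 (flp_e L99254) q1276, e3 q1160 L13384 q1160, e3 q1161 L99236 q1280, e3 q1162 L13409 q1162, e3 q1163 L99262 q1285, e3 q1164 L13437 q1164, e3 q1165 L109345 q1289, e3 q1166 L18736 q1470, e3 q1167 (flp_e L13808) q917, e3 q1168 L13822 q1168, e3 q1169 L13830 q1169, e3 q1170 L13835 q1170, e3 q1171 (flp_e L13840) q920, e3 q1172 L13855 q950, e3 q1173 L13864 q1173, e3 q1174 L18834 q1482, e3 q1175 L13877 q953, e3 q1176 L13884 q1176, e3 q1177 L13895 q961, e3 q1178 L13905 q932, e3 q1179 L13909 q963, e3 q1180 L18918 q1492, e3 q1181 L13927 q965, e3 q1182 L13936 q936, e3 q1183 (flp_e L13942) q928, e3 q1184 (flp_e L18958) q1496, e3 q1185 (flp_e L18964) q1497, e3 q1186 L13965 q970, e3 q1187 L13974 q981, e3 q1188 L19010 q1503, e3 q1189 L13993 q983, e3 q1190 (flp_e L18898) q1489, e3 q1191 L19046 q1507, e3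 q1192 L14021 q986, e3 q1193 (flp_e L14025) q934, e3 q1194 (flp_e L19095) q1512, e3 q1195 (flp_e L19103) q1513, e3 q1196 L14055 q990, e3 q1197 L14064 q938, e3 q1198 L14071 q939, e3 q1199 (flp_e L19137) q1517, e3 q1200 (flp_e L108885) q1516, e3 q1201 L19165 q1519, e3 q1202 (flp_e L14103) q941, e3 q1203 L14120 q1203, e3 q1204 L14130 q1204, e3 q1205 L14138 q1205, e3 q1206 (flp_e L14143) q944, e3 q1207 L14161 q1142, e3 q1208 L14171 q1208, e3 q1209 L19280 q1531, e3 q1210 L14188 q1145, e3 q1211 L14197 q1211, e3 q1212 (flp_e L18790) q1476, e3 q1213 L14213 q1213, e3 q1214 (flp_e L18802) q1478, e3 q1215 L19364 q1541, trivial⟩ (by decide +kernel)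

theorem ce_e_19 : ∀ r, r < 64 → sm ge (Qf (1216 + r)) = Qf (tab Gen.e (1216 + r)) :=
  edges_tab (sm ge) Qf (tab Gen.e) 1216 [(1216, 1480), (1217, 1217), (1218, 952), (1219, 1545), (1220, 1546), (1221, 1485), (1222, 1146), (1223, 972), (1224, 1148), (1225, 1555), (1226, 1150), (1227, 976), (1228, 958), (1229, 1559), (1230, 1560), (1231, 1153), (1232, 1486), (1233, 1566), (1234, 1488), (1235, 984), (1236, 1570), (1237, 1491), (1238, 964), (1239, 1575), (1240, 1576), (1241, 1495), (1242, 968), (1243, 969), (1244, 1580), (1245, 1582), (1246, 1154), (1247, 1587), (1248, 1116), (1249, 1552), (1250, 1591), (1251, 1117), (1252, 974), (1253, 1596), (1254, 1597), (1255, 1112), (1256, 978), (1257, 979), (1258, 1500), (1259, 1600), (1260, 1502), (1261, 982), (1262, 1604), (1263, 1605), (1264, 1506), (1265, 985), (1266, 1607), (1267, 1608), (1268, 1511), (1269, 988), (1270, 989), (1271, 1010), (1272, 1272), (1273, 1613), (1274, 1274), (1275, 994), (1276, 1159), (1277, 1618), (1278, 1278), (1279, 997)]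
    ⟨e3 q1216 (flp_e L18822) q1480, e3 q1217 L14239 q1217, e3 q1218 (flp_e L14242) q952, e3 q1219 (flp_e L19394) q1545, e3 q1220 (flp_e L19400) q1546, e3 q1221 (flp_e L18862) q1485, e3 q1222 L14276 q1146, e3 q1223 L14289 q972, e3 q1224 L14293 q1148, e3 q1225 L19477 q1555, e3 q1226 L14312 q1150, e3 q1227 L14322 q976, e3 q1228 (flp_e L14328) q958, e3 q1229 (flp_e L19519) q1559, e3 q1230 (flp_e L19527) q1560, e3 q1231 L14359 q1153, e3 q1232 (flp_e L18871) q1486, e3 q1233 L19568 q1566, e3 q1234 (flp_e L18889) q1488, e3 q1235 L14390 q984, e3 q1236 L19596 q1570, e3 q1237 (flp_e L18915) q1491, e3 q1238 (flp_e L14406) q964, e3 q1239 (flp_e L19631) q1575, e3 q1240 (flp_e L19637) q1576, e3 q1241 (flp_e L18949) q1495, e3 q1242 L14438 q968, e3 q1243 L14442 q969, e3 q1244 (flp_e L19663) q1580, e3 q1245 (flp_e L19675) q1582, e3 q1246 L14461 q1154, e3 q1247 L19717 q1587, e3 q1248 L111556 q1116, e3 q1249 (flp_e L19456) q1552, e3 q1250 L19761 q1591, e3 q1251 L111039 q1117, e3 q1252 (flp_e L14521) q974, e3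 q1253 (flp_e L19811) q1596, e3 q1254 (flp_e L19819) q1597, e3 q1255 (flp_e L111542) q1112, e3 q1256 L14562 q978, e3 q1257 L14571 q979, e3 q1258 (flp_e L18984) q1500, e3 q1259 L19906 q1600, e3 q1260 (flp_e L19006) q1502, e3 q1261 (flp_e L14619) q982, e3 q1262 (flp_e L19944) q1604, e3 q1263 (flp_e L19950) q1605, e3 q1264 (flp_e L19040) q1506, e3 q1265 (flp_e L14647) q985, e3 q1266 (flp_e L19980) q1607, e3 q1267 (flp_e L19987) q1608, e3 q1268 (flp_e L19085) q1511, e3 q1269 L14681 q988, e3 q1270 L14687 q989, e3 q1271 L14721 q1010, e3 q1272 L14741 q1272, e3 q1273 L20089 q1613, e3 q1274 L14760 q1274, e3 q1275 (flp_e L14762) q994, e3 q1276 L99254 q1159, e3 q1277 (flp_e L20145) q1618, e3 q1278 L14788 q1278, e3 q1279 (flp_e L14791) q997, trivial⟩ (by decide +kernel)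

theorem ce_e_20 : ∀ r, r < 64 → sm ge (Qf (1280 + r)) = Qf (tab Gen.e (1280 + r)) :=
  edges_tab (sm ge) Qf (tab Gen.e) 1280 [(1280, 1161), (1281, 1621), (1282, 1625), (1283, 1283), (1284, 1001), (1285, 1163), (1286, 1628), (1287, 1581), (1288, 1005), (1289, 1165), (1290, 1007), (1291, 1609), (1292, 1610), (1293, 1293), (1294, 1636), (1295, 1012), (1296, 1017), (1297, 1297), (1298, 1298), (1299, 1015), (1300, 1637), (1301, 1301), (1302, 1071), (1303, 1131), (1304, 1304), (1305, 1305), (1306, 1306), (1307, 1307), (1308, 1651), (1309, 1309), (1310, 1310), (1311, 1023), (1312, 1044), (1313, 1043), (1314, 1314), (1315, 1315), (1316, 1658), (1317, 1317), (1318, 1318), (1319, 1662), (1320, 1320), (1321, 1029), (1322, 1667), (1323, 1668), (1324, 1324), (1325, 1033), (1326, 1034), (1327, 1059), (1328, 1058), (1329, 1329), (1330, 1674), (1331, 1331), (1332, 1063), (1333, 1678), (1334, 1334), (1335, 1039), (1336, 1653), (1337, 1652), (1338, 1338), (1339, 1339), (1340, 1685), (1341, 1341), (1342,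 1047), (1343, 1690)]
    ⟨e3 q1280 (flp_e L99236) q1161, e3 q1281 (flp_e L20176) q1621, e3 q1282 L20202 q1625, e3 q1283 L14826 q1283, e3 q1284 L14842 q1001, e3 q1285 (flp_e L99262) q1163, e3 q1286 (flp_e L20243) q1628, e3 q1287 (flp_e L19669) q1581, e3 q1288 L14882 q1005, e3 q1289 (flp_e L109345) q1165, e3 q1290 L14906 q1007, e3 q1291 (flp_e L20025) q1609, e3 q1292 (flp_e L20065) q1610, e3 q1293 L15032 q1293, e3 q1294 L20473 q1636, e3 q1295 (flp_e L15059) q1012, e3 q1296 L15073 q1017, e3 q1297 L15082 q1297, e3 q1298 L15088 q1298, e3 q1299 (flp_e L15092) q1015, e3 q1300 (flp_e L20488) q1637, e3 q1301 L15114 q1301, e3 q1302 L120298 q1071, e3 q1303 (flp_e L120219) q1131, e3 q1304 L15134 q1304, e3 q1305 L15147 q1305, e3 q1306 L15155 q1306, e3 q1307 L15158 q1307, e3 q1308 L20645 q1651, e3 q1309 L15176 q1309, e3 q1310 L15182 q1310, e3 q1311 (flp_e L15186) q1023, e3 q1312 (flp_e L120514) q1044, e3 q1313 L120375 q1043, e3 q1314 L15217 q1314, e3 q1315 L15225 q1315, e3 q1316 L20732 q1658, e3 q1317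 L15239 q1317, e3 q1318 L15247 q1318, e3 q1319 L20763 q1662, e3 q1320 L15262 q1320, e3 q1321 (flp_e L15264) q1029, e3 q1322 (flp_e L20804) q1667, e3 q1323 (flp_e L20810) q1668, e3 q1324 L15289 q1324, e3 q1325 L15297 q1033, e3 q1326 L15304 q1034, e3 q1327 L120470 q1059, e3 q1328 L120477 q1058, e3 q1329 L15328 q1329, e3 q1330 L20892 q1674, e3 q1331 L15346 q1331, e3 q1332 L15354 q1063, e3 q1333 L20930 q1678, e3 q1334 L15370 q1334, e3 q1335 (flp_e L15372) q1039, e3 q1336 L120396 q1653, e3 q1337 L119816 q1652, e3 q1338 L15402 q1338, e3 q1339 L15438 q1339, e3 q1340 L21048 q1685, e3 q1341 L15453 q1341, e3 q1342 (flp_e L15455) q1047, e3 q1343 (flp_e L21092) q1690, trivial⟩ (by decide +kernel)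

theorem ce_e_21 : ∀ r, r < 64 → sm ge (Qf (1344 + r)) = Qf (tab Gen.e (1344 + r)) :=
  edges_tab (sm ge) Qf (tab Gen.e) 1344 [(1344, 1691), (1345, 1345), (1346, 1050), (1347, 1695), (1348, 1696), (1349, 1700), (1350, 1350), (1351, 1053), (1352, 1054), (1353, 1670), (1354, 1669), (1355, 1355), (1356, 1704), (1357, 1357), (1358, 1061), (1359, 1708), (1360, 1709), (1361, 1064), (1362, 1712), (1363, 1713), (1364, 1716), (1365, 1067), (1366, 1068), (1367, 1642), (1368, 1717), (1369, 1073), (1370, 1720), (1371, 1075), (1372, 1606), (1373, 1077), (1374, 1140), (1375, 1375), (1376, 1093), (1377, 1377), (1378, 1378), (1379, 1732), (1380, 1095), (1381, 1381), (1382, 1382), (1383, 1383), (1384, 1737), (1385, 1385), (1386, 1088), (1387, 1740), (1388, 1388), (1389, 1743), (1390, 1728), (1391, 1094), (1392, 1746), (1393, 1393), (1394, 1097), (1395, 1750), (1396, 1405), (1397, 1113), (1398, 1753), (1399, 1115), (1400, 1100), (1401, 1107), (1402, 1102), (1403, 1110), (1404, 1404), (1405, 1396), (1406,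 1754), (1407, 1114)]
    ⟨e3 q1344 (flp_e L21099) q1691, e3 q1345 L15487 q1345, e3 q1346 (flp_e L15489) q1050, e3 q1347 (flp_e L21131) q1695, e3 q1348 (flp_e L21137) q1696, e3 q1349 L21159 q1700, e3 q1350 L15514 q1350, e3 q1351 L15522 q1053, e3 q1352 L15528 q1054, e3 q1353 L120658 q1670, e3 q1354 L120603 q1669, e3 q1355 L15581 q1355, e3 q1356 L21240 q1704, e3 q1357 L15602 q1357, e3 q1358 (flp_e L15606) q1061, e3 q1359 (flp_e L21281) q1708, e3 q1360 (flp_e L21290) q1709, e3 q1361 (flp_e L15634) q1064, e3 q1362 (flp_e L21316) q1712, e3 q1363 (flp_e L21325) q1713, e3 q1364 L21346 q1716, e3 q1365 L15670 q1067, e3 q1366 L15678 q1068, e3 q1367 (flp_e L119370) q1642, e3 q1368 L21403 q1717, e3 q1369 (flp_e L15723) q1073, e3 q1370 (flp_e L21431) q1720, e3 q1371 L15745 q1075, e3 q1372 (flp_e L19973) q1606, e3 q1373 L15757 q1077, e3 q1374 L15765 q1140, e3 q1375 L15775 q1375, e3 q1376 L15782 q1093, e3 q1377 L15791 q1377, e3 q1378 L15800 q1378, e3 q1379 L21522 q1732, e3 q1380 L15814 q1095, e3 q1381 L15823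 q1381, e3 q1382 L15832 q1382, e3 q1383 L15841 q1383, e3 q1384 L21562 q1737, e3 q1385 L15855 q1385, e3 q1386 (flp_e L15859) q1088, e3 q1387 (flp_e L21583) q1740, e3 q1388 L15875 q1388, e3 q1389 L21599 q1743, e3 q1390 (flp_e L21492) q1728, e3 q1391 (flp_e L15897) q1094, e3 q1392 (flp_e L21627) q1746, e3 q1393 L15918 q1393, e3 q1394 L15923 q1097, e3 q1395 (flp_e L21657) q1750, e3 q1396 (flp_e L16666) q1405, e3 q1397 L16497 q1113, e3 q1398 L22460 q1753, e3 q1399 L16517 q1115, e3 q1400 (flp_e L16519) q1100, e3 q1401 (flp_e L111623) q1107, e3 q1402 (flp_e L16552) q1102, e3 q1403 L84258 q1110, e3 q1404 L16580 q1404, e3 q1405 L16666 q1396, e3 q1406 L112004 q1754, e3 q1407 (flp_e L111888) q1114, trivial⟩ (by decide +kernel)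

theorem ce_e_22 : ∀ r, r < 64 → sm ge (Qf (1408 + r)) = Qf (tab Gen.e (1408 + r)) :=
  edges_tab (sm ge) Qf (tab Gen.e) 1408 [(1408, 1590), (1409, 1595), (1410, 1138), (1411, 1759), (1412, 1752), (1413, 1586), (1414, 1763), (1415, 1415), (1416, 1119), (1417, 1768), (1418, 1769), (1419, 1772), (1420, 1122), (1421, 1123), (1422, 1774), (1423, 1757), (1424, 1125), (1425, 1126), (1426, 1778), (1427, 1427), (1428, 1127), (1429, 1643), (1430, 1130), (1431, 1431), (1432, 1134), (1433, 1781), (1434, 1761), (1435, 1136), (1436, 1721), (1437, 1594), (1438, 1724), (1439, 1525), (1440, 1440), (1441, 1527), (1442, 1790), (1443, 1529), (1444, 1144), (1445, 1793), (1446, 1534), (1447, 1549), (1448, 1798), (1449, 1551), (1450, 1801), (1451, 1554), (1452, 1149), (1453, 1805), (1454, 1558), (1455, 1152), (1456, 1807), (1457, 1584), (1458, 1809), (1459, 1155), (1460, 1156), (1461, 1461), (1462, 1614), (1463, 1463), (1464, 1619), (1465, 1465), (1466, 1622), (1467, 1819), (1468, 1468), (1469, 1629), (1470,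 1166), (1471, 1471)]
    ⟨e3 q1408 (flp_e L111518) q1590, e3 q1409 L111001 q1595, e3 q1410 L111057 q1138, e3 q1411 (flp_e L111970) q1759, e3 q1412 (flp_e L22458) q1752, e3 q1413 L111564 q1586, e3 q1414 L23400 q1763, e3 q1415 L17230 q1415, e3 q1416 (flp_e L17232) q1119, e3 q1417 (flp_e L23446) q1768, e3 q1418 (flp_e L23456) q1769, e3 q1419 L23477 q1772, e3 q1420 L17270 q1122, e3 q1421 L17279 q1123, e3 q1422 (flp_e L23498) q1774, e3 q1423 (flp_e L111021) q1757, e3 q1424 L17304 q1125, e3 q1425 L17313 q1126, e3 q1426 (flp_e L23538) q1778, e3 q1427 L106122 q1427, e3 q1428 (flp_e L17332) q1127, e3 q1429 (flp_e L120225) q1643, e3 q1430 L17350 q1130, e3 q1431 L17361 q1431, e3 q1432 (flp_e L17387) q1134, e3 q1433 (flp_e L23625) q1781, e3 q1434 (flp_e L106405) q1761, e3 q1435 L17414 q1136, e3 q1436 (flp_e L21440) q1721, e3 q1437 L110380 q1594, e3 q1438 (flp_e L21459) q1724, e3 q1439 (flp_e L19231) q1525, e3 q1440 L17805 q1440, e3 q1441 (flp_e L19246) q1527, e3 q1442 L24175 q1790, e3 q1443 (flp_e L19267)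 q1529, e3 q1444 (flp_e L17832) q1144, e3 q1445 (flp_e L24215) q1793, e3 q1446 (flp_e L19316) q1534, e3 q1447 (flp_e L19421) q1549, e3 q1448 L24256 q1798, e3 q1449 (flp_e L19444) q1551, e3 q1450 L24292 q1801, e3 q1451 (flp_e L19474) q1554, e3 q1452 (flp_e L17910) q1149, e3 q1453 (flp_e L24331) q1805, e3 q1454 (flp_e L19508) q1558, e3 q1455 L17950 q1152, e3 q1456 (flp_e L24377) q1807, e3 q1457 (flp_e L19688) q1584, e3 q1458 L24405 q1809, e3 q1459 (flp_e L17992) q1155, e3 q1460 (flp_e L18028) q1156, e3 q1461 L18136 q1461, e3 q1462 (flp_e L99247) q1614, e3 q1463 L18156 q1463, e3 q1464 (flp_e L104701) q1619, e3 q1465 L18192 q1465, e3 q1466 (flp_e L99269) q1622, e3 q1467 L24761 q1819, e3 q1468 L18227 q1468, e3 q1469 L99275 q1629, e3 q1470 (flp_e L18736) q1166, e3 q1471 L18751 q1471, trivial⟩ (by decide +kernel)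

theorem ce_e_23 : ∀ r, r < 64 → sm ge (Qf (1472 + r)) = Qf (tab Gen.e (1472 + r)) :=
  edges_tab (sm ge) Qf (tab Gen.e) 1472 [(1472, 1472), (1473, 1827), (1474, 1474), (1475, 1475), (1476, 1212), (1477, 1477), (1478, 1214), (1479, 1837), (1480, 1216), (1481, 1481), (1482, 1174), (1483, 1841), (1484, 1842), (1485, 1221), (1486, 1232), (1487, 1848), (1488, 1234), (1489, 1190), (1490, 1852), (1491, 1237), (1492, 1180), (1493, 1857), (1494, 1858), (1495, 1241), (1496, 1184), (1497, 1185), (1498, 1862), (1499, 1864), (1500, 1258), (1501, 1868), (1502, 1260), (1503, 1188), (1504, 1873), (1505, 1874), (1506, 1264), (1507, 1191), (1508, 1878), (1509, 1879), (1510, 1510), (1511, 1268), (1512, 1194), (1513, 1195), (1514, 1885), (1515, 1884), (1516, 1200), (1517, 1199), (1518, 1518), (1519, 1201), (1520, 1520), (1521, 1521), (1522, 1895), (1523, 1523), (1524, 1524), (1525, 1439), (1526, 1526), (1527, 1441), (1528, 1905), (1529, 1443), (1530, 1530), (1531, 1209), (1532, 1909), (1533, 1910), (1534,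 1446), (1535, 1831)]
    ⟨e3 q1472 L18760 q1472, e3 q1473 L25484 q1827, e3 q1474 L18770 q1474, e3 q1475 L18778 q1475, e3 q1476 L18790 q1212, e3 q1477 L18799 q1477, e3 q1478 L18802 q1214, e3 q1479 L25564 q1837, e3 q1480 L18822 q1216, e3 q1481 L18830 q1481, e3 q1482 (flp_e L18834) q1174, e3 q1483 (flp_e L25602) q1841, e3 q1484 (flp_e L25610) q1842, e3 q1485 L18862 q1221, e3 q1486 L18871 q1232, e3 q1487 L25655 q1848, e3 q1488 L18889 q1234, e3 q1489 L18898 q1190, e3 q1490 L25691 q1852, e3 q1491 L18915 q1237, e3 q1492 (flp_e L18918) q1180, e3 q1493 (flp_e L25733) q1857, e3 q1494 (flp_e L25741) q1858, e3 q1495 L18949 q1241, e3 q1496 L18958 q1184, e3 q1497 L18964 q1185, e3 q1498 (flp_e L25773) q1862, e3 q1499 (flp_e L25786) q1864, e3 q1500 L18984 q1258, e3 q1501 L25817 q1868, e3 q1502 L19006 q1260, e3 q1503 (flp_e L19010) q1188, e3 q1504 (flp_e L25871) q1873, e3 q1505 (flp_e L25879) q1874, e3 q1506 L19040 q1264, e3 q1507 (flp_e L19046) q1191, e3 q1508 (flp_e L25914) q1878, e3 q1509 (flp_e L25923)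 q1879, e3 q1510 L19078 q1510, e3 q1511 L19085 q1268, e3 q1512 L19095 q1194, e3 q1513 L19103 q1195, e3 q1514 (flp_e L25975) q1885, e3 q1515 L111182 q1884, e3 q1516 L108885 q1200, e3 q1517 L19137 q1199, e3 q1518 L19145 q1518, e3 q1519 (flp_e L19165) q1201, e3 q1520 L19183 q1520, e3 q1521 L19193 q1521, e3 q1522 L26098 q1895, e3 q1523 L19207 q1523, e3 q1524 L19217 q1524, e3 q1525 L19231 q1439, e3 q1526 L19243 q1526, e3 q1527 L19246 q1441, e3 q1528 L26195 q1905, e3 q1529 L19267 q1443, e3 q1530 L19276 q1530, e3 q1531 (flp_e L19280) q1209, e3 q1532 (flp_e L26235) q1909, e3 q1533 (flp_e L26245) q1910, e3 q1534 L19316 q1446, e3 q1535 (flp_e L25516) q1831, trivial⟩ (by decide +kernel)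

theorem ce_e_24 : ∀ r, r < 64 → sm ge (Qf (1536 + r)) = Qf (tab Gen.e (1536 + r)) :=
  edges_tab (sm ge) Qf (tab Gen.e) 1536 [(1536, 1916), (1537, 1833), (1538, 1538), (1539, 1920), (1540, 1836), (1541, 1215), (1542, 1925), (1543, 1926), (1544, 1840), (1545, 1219), (1546, 1220), (1547, 1930), (1548, 1932), (1549, 1447), (1550, 1937), (1551, 1449), (1552, 1249), (1553, 1941), (1554, 1451), (1555, 1225), (1556, 1946), (1557, 1947), (1558, 1454), (1559, 1229), (1560, 1230), (1561, 1950), (1562, 1952), (1563, 1845), (1564, 1956), (1565, 1847), (1566, 1233), (1567, 1961), (1568, 1962), (1569, 1851), (1570, 1236), (1571, 1966), (1572, 1967), (1573, 1971), (1574, 1856), (1575, 1239), (1576, 1240), (1577, 1974), (1578, 1976), (1579, 1579), (1580, 1244), (1581, 1287), (1582, 1245), (1583, 1978), (1584, 1457), (1585, 1983), (1586, 1413), (1587, 1247), (1588, 1988), (1589, 1989), (1590, 1408), (1591, 1250), (1592, 1991), (1593, 1992), (1594, 1437), (1595, 1409), (1596, 1253), (1597, 1254), (1598,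 1995), (1599, 1867)]
    ⟨e3 q1536 L26290 q1916, e3 q1537 (flp_e L25534) q1833, e3 q1538 L19346 q1538, e3 q1539 L26315 q1920, e3 q1540 (flp_e L25561) q1836, e3 q1541 (flp_e L19364) q1215, e3 q1542 (flp_e L26358) q1925, e3 q1543 (flp_e L26364) q1926, e3 q1544 (flp_e L25592) q1840, e3 q1545 L19394 q1219, e3 q1546 L19400 q1220, e3 q1547 (flp_e L26391) q1930, e3 q1548 (flp_e L26403) q1932, e3 q1549 L19421 q1447, e3 q1550 L26443 q1937, e3 q1551 L19444 q1449, e3 q1552 L19456 q1249, e3 q1553 L26487 q1941, e3 q1554 L19474 q1451, e3 q1555 (flp_e L19477) q1225, e3 q1556 (flp_e L26531) q1946, e3 q1557 (flp_e L26539) q1947, e3 q1558 L19508 q1454, e3 q1559 L19519 q1229, e3 q1560 L19527 q1230, e3 q1561 (flp_e L26575) q1950, e3 q1562 (flp_e L26592) q1952, e3 q1563 (flp_e L25632) q1845, e3 q1564 L26619 q1956, e3 q1565 (flp_e L25652) q1847, e3 q1566 (flp_e L19568) q1233, e3 q1567 (flp_e L26664) q1961, e3 q1568 (flp_e L26670) q1962, e3 q1569 (flp_e L25686) q1851, e3 q1570 (flp_e L19596) q1236, e3 q1571 (flp_e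 L26699) q1966, e3 q1572 (flp_e L26705) q1967, e3 q1573 L26728 q1971, e3 q1574 (flp_e L25722) q1856, e3 q1575 L19631 q1239, e3 q1576 L19637 q1240, e3 q1577 (flp_e L26753) q1974, e3 q1578 (flp_e L26769) q1976, e3 q1579 L19660 q1579, e3 q1580 L19663 q1244, e3 q1581 L19669 q1287, e3 q1582 L19675 q1245, e3 q1583 (flp_e L26795) q1978, e3 q1584 L19688 q1457, e3 q1585 L26833 q1983, e3 q1586 (flp_e L111564) q1413, e3 q1587 (flp_e L19717) q1247, e3 q1588 (flp_e L26890) q1988, e3 q1589 (flp_e L26900) q1989, e3 q1590 L111518 q1408, e3 q1591 (flp_e L19761) q1250, e3 q1592 (flp_e L26940) q1991, e3 q1593 (flp_e L26949) q1992, e3 q1594 (flp_e L110380) q1437, e3 q1595 (flp_e L111001) q1409, e3 q1596 L19811 q1253, e3 q1597 L19819 q1254, e3 q1598 L27090 q1995, e3 q1599 (flp_e L25813) q1867, trivial⟩ (by decide +kernel)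

theorem ce_e_25 : ∀ r, r < 64 → sm ge (Qf (1600 + r)) = Qf (tab Gen.e (1600 + r)) :=
  edges_tab (sm ge) Qf (tab Gen.e) 1600 [(1600, 1259), (1601, 2000), (1602, 2001), (1603, 1872), (1604, 1262), (1605, 1263), (1606, 1372), (1607, 1266), (1608, 1267), (1609, 1291), (1610, 1292), (1611, 2008), (1612, 1612), (1613, 1273), (1614, 1462), (1615, 2013), (1616, 2017), (1617, 1617), (1618, 1277), (1619, 1464), (1620, 2020), (1621, 1281), (1622, 1466), (1623, 2026), (1624, 2023), (1625, 1282), (1626, 2029), (1627, 1975), (1628, 1286), (1629, 1469), (1630, 1979), (1631, 1980), (1632, 2002), (1633, 2006), (1634, 2007), (1635, 1635), (1636, 1294), (1637, 1300), (1638, 1638), (1639, 2038), (1640, 1640), (1641, 2040), (1642, 1367), (1643, 1429), (1644, 1644), (1645, 1645), (1646, 2050), (1647, 1647), (1648, 1648), (1649, 2054), (1650, 1650), (1651, 1308), (1652, 1337), (1653, 1336), (1654, 1654), (1655, 1655), (1656, 2061), (1657, 1657), (1658, 1316), (1659, 2066), (1660, 2067), (1661, 1661), (1662,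 1319), (1663, 2071)]
    ⟨e3 q1600 (flp_e L19906) q1259, e3 q1601 (flp_e L27132) q2000, e3 q1602 (flp_e L27140) q2001, e3 q1603 (flp_e L25861) q1872, e3 q1604 L19944 q1262, e3 q1605 L19950 q1263, e3 q1606 L19973 q1372, e3 q1607 L19980 q1266, e3 q1608 L19987 q1267, e3 q1609 L20025 q1291, e3 q1610 L20065 q1292, e3 q1611 L27325 q2008, e3 q1612 L20087 q1612, e3 q1613 (flp_e L20089) q1273, e3 q1614 L99247 q1462, e3 q1615 (flp_e L27381) q2013, e3 q1616 L27410 q2017, e3 q1617 L20129 q1617, e3 q1618 L20145 q1277, e3 q1619 L104701 q1464, e3 q1620 (flp_e L27453) q2020, e3 q1621 L20176 q1281, e3 q1622 L99269 q1466, e3 q1623 L27514 q2026, e3 q1624 (flp_e L27493) q2023, e3 q1625 (flp_e L20202) q1282, e3 q1626 (flp_e L27536) q2029, e3 q1627 (flp_e L26761) q1975, e3 q1628 L20243 q1286, e3 q1629 (flp_e L99275) q1469, e3 q1630 (flp_e L26801) q1979, e3 q1631 (flp_e L26809) q1980, e3 q1632 (flp_e L27180) q2002, e3 q1633 (flp_e L27273) q2006, e3 q1634 (flp_e L27312) q2007, e3 q1635 L20456 q1635, e3 q1636 (flp_e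 L20473) q1294, e3 q1637 L20488 q1300, e3 q1638 L20497 q1638, e3 q1639 (flp_e L27860) q2038, e3 q1640 L20537 q1640, e3 q1641 (flp_e L27873) q2040, e3 q1642 L119370 q1367, e3 q1643 L120225 q1429, e3 q1644 L20561 q1644, e3 q1645 L20600 q1645, e3 q1646 L28066 q2050, e3 q1647 L20618 q1647, e3 q1648 L20625 q1648, e3 q1649 L28101 q2054, e3 q1650 L20643 q1650, e3 q1651 (flp_e L20645) q1308, e3 q1652 (flp_e L119816) q1337, e3 q1653 (flp_e L120396) q1336, e3 q1654 L20672 q1654, e3 q1655 L20713 q1655, e3 q1656 L28233 q2061, e3 q1657 L20730 q1657, e3 q1658 (flp_e L20732) q1316, e3 q1659 (flp_e L28275) q2066, e3 q1660 (flp_e L28282) q2067, e3 q1661 L20761 q1661, e3 q1662 (flp_e L20763) q1319, e3 q1663 (flp_e L28314) q2071, trivial⟩ (by decide +kernel)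

theorem ce_e_26 : ∀ r, r < 64 → sm ge (Qf (1664 + r)) = Qf (tab Gen.e (1664 + r)) :=
  edges_tab (sm ge) Qf (tab Gen.e) 1664 [(1664, 2072), (1665, 2076), (1666, 1666), (1667, 1322), (1668, 1323), (1669, 1354), (1670, 1353), (1671, 1671), (1672, 2080), (1673, 1673), (1674, 1330), (1675, 2052), (1676, 2051), (1677, 1677), (1678, 1333), (1679, 2056), (1680, 2055), (1681, 2087), (1682, 1682), (1683, 2089), (1684, 1684), (1685, 1340), (1686, 2095), (1687, 2096), (1688, 2100), (1689, 1689), (1690, 1343), (1691, 1344), (1692, 2069), (1693, 2068), (1694, 1965), (1695, 1347), (1696, 1348), (1697, 2075), (1698, 2106), (1699, 2073), (1700, 1349), (1701, 2109), (1702, 2111), (1703, 1703), (1704, 1356), (1705, 2116), (1706, 2117), (1707, 2120), (1708, 1359), (1709, 1360), (1710, 2042), (1711, 1990), (1712, 1362), (1713, 1363), (1714, 2045), (1715, 2125), (1716, 1364), (1717, 1368), (1718, 2128), (1719, 1999), (1720, 1370), (1721, 1436), (1722, 2003), (1723, 2004), (1724, 1438), (1725, 1725), (1726,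 1726), (1727, 2139)]
    ⟨e3 q1664 (flp_e L28322) q2072, e3 q1665 L28349 q2076, e3 q1666 L20797 q1666, e3 q1667 L20804 q1322, e3 q1668 L20810 q1323, e3 q1669 (flp_e L120603) q1354, e3 q1670 (flp_e L120658) q1353, e3 q1671 L20871 q1671, e3 q1672 L28449 q2080, e3 q1673 L20890 q1673, e3 q1674 (flp_e L20892) q1330, e3 q1675 (flp_e L119872) q2052, e3 q1676 (flp_e L119836) q2051, e3 q1677 L20926 q1677, e3 q1678 (flp_e L20930) q1333, e3 q1679 (flp_e L119862) q2056, e3 q1680 (flp_e L119829) q2055, e3 q1681 L28571 q2087, e3 q1682 L20958 q1682, e3 q1683 L28666 q2089, e3 q1684 L21046 q1684, e3 q1685 (flp_e L21048) q1340, e3 q1686 (flp_e L28710) q2095, e3 q1687 (flp_e L28718) q2096, e3 q1688 L28746 q2100, e3 q1689 L21083 q1689, e3 q1690 L21092 q1343, e3 q1691 L21099 q1344, e3 q1692 L118937 q2069, e3 q1693 (flp_e L119788) q2068, e3 q1694 (flp_e L26693) q1965, e3 q1695 L21131 q1347, e3 q1696 L21137 q1348, e3 q1697 (flp_e L119675) q2075, e3 q1698 L28851 q2106, e3 q1699 (flp_e L119780) q2073, e3 q1700 (flp_e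 L21159) q1349, e3 q1701 (flp_e L28873) q2109, e3 q1702 L28907 q2111, e3 q1703 L21236 q1703, e3 q1704 (flp_e L21240) q1356, e3 q1705 (flp_e L28956) q2116, e3 q1706 (flp_e L28966) q2117, e3 q1707 L28989 q2120, e3 q1708 L21281 q1359, e3 q1709 L21290 q1360, e3 q1710 L119221 q2042, e3 q1711 (flp_e L26933) q1990, e3 q1712 L21316 q1362, e3 q1713 L21325 q1363, e3 q1714 L119360 q2045, e3 q1715 L29071 q2125, e3 q1716 (flp_e L21346) q1364, e3 q1717 (flp_e L21403) q1368, e3 q1718 (flp_e L29138) q2128, e3 q1719 (flp_e L27124) q1999, e3 q1720 L21431 q1370, e3 q1721 L21440 q1436, e3 q1722 (flp_e L27203) q2003, e3 q1723 (flp_e L27208) q2004, e3 q1724 L21459 q1438, e3 q1725 L21468 q1725, e3 q1726 L21477 q1726, e3 q1727 L29212 q2139, trivial⟩ (by decide +kernel)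

theorem ce_e_27 : ∀ r, r < 64 → sm ge (Qf (1728 + r)) = Qf (tab Gen.e (1728 + r)) :=
  edges_tab (sm ge) Qf (tab Gen.e) 1728 [(1728, 1390), (1729, 1729), (1730, 2143), (1731, 1731), (1732, 1379), (1733, 2146), (1734, 1734), (1735, 2148), (1736, 1736), (1737, 1384), (1738, 2151), (1739, 2150), (1740, 1387), (1741, 2155), (1742, 2156), (1743, 1389), (1744, 2159), (1745, 1745), (1746, 1392), (1747, 2163), (1748, 1748), (1749, 1749), (1750, 1395), (1751, 2167), (1752, 1412), (1753, 1398), (1754, 1406), (1755, 1755), (1756, 1756), (1757, 1423), (1758, 2168), (1759, 1411), (1760, 1987), (1761, 1434), (1762, 1982), (1763, 1414), (1764, 2175), (1765, 2176), (1766, 2180), (1767, 2171), (1768, 1417), (1769, 1418), (1770, 2183), (1771, 1771), (1772, 1419), (1773, 2043), (1774, 1422), (1775, 1775), (1776, 1994), (1777, 2046), (1778, 1426), (1779, 1779), (1780, 2173), (1781, 1433), (1782, 1986), (1783, 2131), (1784, 2190), (1785, 1899), (1786, 2194), (1787, 1901), (1788, 2197), (1789, 1904), (1790,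 1442), (1791, 2201)]
    ⟨e3 q1728 L21492 q1390, e3 q1729 L21502 q1729, e3 q1730 L29246 q2143, e3 q1731 L21518 q1731, e3 q1732 (flp_e L21522) q1379, e3 q1733 (flp_e L29271) q2146, e3 q1734 L21541 q1734, e3 q1735 L29280 q2148, e3 q1736 L21557 q1736, e3 q1737 (flp_e L21562) q1384, e3 q1738 (flp_e L29304) q2151, e3 q1739 (flp_e L29298) q2150, e3 q1740 L21583 q1387, e3 q1741 (flp_e L29328) q2155, e3 q1742 L29331 q2156, e3 q1743 (flp_e L21599) q1389, e3 q1744 (flp_e L29360) q2159, e3 q1745 L21621 q1745, e3 q1746 L21627 q1392, e3 q1747 (flp_e L29393) q2163, e3 q1748 L21643 q1748, e3 q1749 L21650 q1749, e3 q1750 L21657 q1395, e3 q1751 L30510 q2167, e3 q1752 L22458 q1412, e3 q1753 (flp_e L22460) q1398, e3 q1754 (flp_e L112004) q1406, e3 q1755 L22492 q1755, e3 q1756 L22545 q1756, e3 q1757 L111021 q1423, e3 q1758 (flp_e L111997) q2168, e3 q1759 L111970 q1411, e3 q1760 L111527 q1987, e3 q1761 L106405 q1434, e3 q1762 L111879 q1982, e3 q1763 (flp_e L23400) q1414, e3 q1764 (flp_e L31836) q2175, e3 q1765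 (flp_e L31846) q2176, e3 q1766 L31873 q2180, e3 q1767 L90248 q2171, e3 q1768 L23446 q1417, e3 q1769 L23456 q1418, e3 q1770 (flp_e L31910) q2183, e3 q1771 L112282 q1771, e3 q1772 (flp_e L23477) q1419, e3 q1773 L119261 q2043, e3 q1774 L23498 q1422, e3 q1775 L23510 q1775, e3 q1776 (flp_e L111007) q1994, e3 q1777 L119329 q2046, e3 q1778 L23538 q1426, e3 q1779 L112393 q1779, e3 q1780 (flp_e L112257) q2173, e3 q1781 L23625 q1433, e3 q1782 L106426 q1986, e3 q1783 (flp_e L29160) q2131, e3 q1784 L32151 q2190, e3 q1785 (flp_e L26138) q1899, e3 q1786 L32808 q2194, e3 q1787 (flp_e L26161) q1901, e3 q1788 L32841 q2197, e3 q1789 (flp_e L26192) q1904, e3 q1790 (flp_e L24175) q1442, e3 q1791 (flp_e L32888) q2201, trivial⟩ (by decide +kernel)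

theorem ce_e_28 : ∀ r, r < 64 → sm ge (Qf (1792 + r)) = Qf (tab Gen.e (1792 + r)) :=
  edges_tab (sm ge) Qf (tab Gen.e) 1792 [(1792, 1908), (1793, 1445), (1794, 2204), (1795, 1934), (1796, 2207), (1797, 1936), (1798, 1448), (1799, 2211), (1800, 1940), (1801, 1450), (1802, 2214), (1803, 2217), (1804, 1945), (1805, 1453), (1806, 2219), (1807, 1456), (1808, 2220), (1809, 1458), (1810, 1810), (1811, 2009), (1812, 1812), (1813, 2014), (1814, 2228), (1815, 1815), (1816, 2021), (1817, 2230), (1818, 2025), (1819, 1467), (1820, 2233), (1821, 1821), (1822, 1822), (1823, 1823), (1824, 2241), (1825, 1825), (1826, 1826), (1827, 1473), (1828, 2245), (1829, 2246), (1830, 1830), (1831, 1535), (1832, 2252), (1833, 1537), (1834, 1834), (1835, 2256), (1836, 1540), (1837, 1479), (1838, 2261), (1839, 2262), (1840, 1544), (1841, 1483), (1842, 1484), (1843, 2266), (1844, 2268), (1845, 1563), (1846, 2272), (1847, 1565), (1848, 1487), (1849, 2277), (1850, 2278), (1851, 1569), (1852, 1490), (1853, 2282), (1854,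 2283), (1855, 2287)]
    ⟨e3 q1792 (flp_e L26223) q1908, e3 q1793 L24215 q1445, e3 q1794 (flp_e L32935) q2204, e3 q1795 (flp_e L26417) q1934, e3 q1796 L32961 q2207, e3 q1797 (flp_e L26440) q1936, e3 q1798 (flp_e L24256) q1448, e3 q1799 (flp_e L33014) q2211, e3 q1800 (flp_e L26482) q1940, e3 q1801 (flp_e L24292) q1450, e3 q1802 (flp_e L33052) q2214, e3 q1803 L33074 q2217, e3 q1804 (flp_e L26520) q1945, e3 q1805 L24331 q1453, e3 q1806 (flp_e L33114) q2219, e3 q1807 L24377 q1456, e3 q1808 L33166 q2220, e3 q1809 (flp_e L24405) q1458, e3 q1810 L24486 q1810, e3 q1811 L98886 q2009, e3 q1812 L24635 q1812, e3 q1813 L98926 q2014, e3 q1814 L33603 q2228, e3 q1815 L24674 q1815, e3 q1816 (flp_e L104726) q2021, e3 q1817 L33729 q2230, e3 q1818 (flp_e L99281) q2025, e3 q1819 (flp_e L24761) q1467, e3 q1820 (flp_e L33749) q2233, e3 q1821 L25442 q1821, e3 q1822 L25451 q1822, e3 q1823 L25454 q1823, e3 q1824 L34676 q2241, e3 q1825 L25470 q1825, e3 q1826 L25479 q1826, e3 q1827 (flp_e L25484) q1473, e3 q1828 (flp_e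 L34712) q2245, e3 q1829 (flp_e L34718) q2246, e3 q1830 L25509 q1830, e3 q1831 L25516 q1535, e3 q1832 L34765 q2252, e3 q1833 L25534 q1537, e3 q1834 L25542 q1834, e3 q1835 L34798 q2256, e3 q1836 L25561 q1540, e3 q1837 (flp_e L25564) q1479, e3 q1838 (flp_e L34848) q2261, e3 q1839 (flp_e L34856) q2262, e3 q1840 L25592 q1544, e3 q1841 L25602 q1483, e3 q1842 L25610 q1484, e3 q1843 (flp_e L34889) q2266, e3 q1844 (flp_e L34902) q2268, e3 q1845 L25632 q1563, e3 q1846 L34931 q2272, e3 q1847 L25652 q1565, e3 q1848 (flp_e L25655) q1487, e3 q1849 (flp_e L34983) q2277, e3 q1850 (flp_e L34991) q2278, e3 q1851 L25686 q1569, e3 q1852 (flp_e L25691) q1490, e3 q1853 (flp_e L35025) q2282, e3 q1854 (flp_e L35033) q2283, e3 q1855 L35058 q2287, trivial⟩ (by decide +kernel)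

theorem ce_e_29 : ∀ r, r < 64 → sm ge (Qf (1856 + r)) = Qf (tab Gen.e (1856 + r)) :=
  edges_tab (sm ge) Qf (tab Gen.e) 1856 [(1856, 1574), (1857, 1493), (1858, 1494), (1859, 2290), (1860, 2292), (1861, 1861), (1862, 1498), (1863, 1863), (1864, 1499), (1865, 2296), (1866, 2299), (1867, 1599), (1868, 1501), (1869, 2305), (1870, 2306), (1871, 1871), (1872, 1603), (1873, 1504), (1874, 1505), (1875, 2312), (1876, 2311), (1877, 1877), (1878, 1508), (1879, 1509), (1880, 2317), (1881, 2320), (1882, 2316), (1883, 1883), (1884, 1515), (1885, 1514), (1886, 1886), (1887, 1887), (1888, 1888), (1889, 1889), (1890, 1890), (1891, 1891), (1892, 2332), (1893, 1893), (1894, 1894), (1895, 1522), (1896, 2336), (1897, 2337), (1898, 1898), (1899, 1785), (1900, 2343), (1901, 1787), (1902, 1902), (1903, 2347), (1904, 1789), (1905, 1528), (1906, 2352), (1907, 2353), (1908, 1792), (1909, 1532), (1910, 1533), (1911, 2356), (1912, 2358), (1913, 2249), (1914, 2362), (1915, 2251), (1916, 1536), (1917, 2367), (1918,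 2368), (1919, 2255)]
    ⟨e3 q1856 L25722 q1574, e3 q1857 L25733 q1493, e3 q1858 L25741 q1494, e3 q1859 (flp_e L35086) q2290, e3 q1860 (flp_e L35103) q2292, e3 q1861 L25768 q1861, e3 q1862 L25773 q1498, e3 q1863 L25781 q1863, e3 q1864 L25786 q1499, e3 q1865 (flp_e L35135) q2296, e3 q1866 L35155 q2299, e3 q1867 L25813 q1599, e3 q1868 (flp_e L25817) q1501, e3 q1869 (flp_e L35216) q2305, e3 q1870 (flp_e L35226) q2306, e3 q1871 L25853 q1871, e3 q1872 L25861 q1603, e3 q1873 L25871 q1504, e3 q1874 L25879 q1505, e3 q1875 (flp_e L35282) q2312, e3 q1876 (flp_e L111380) q2311, e3 q1877 L25908 q1877, e3 q1878 L25914 q1508, e3 q1879 L25923 q1509, e3 q1880 (flp_e L35344) q2317, e3 q1881 L35384 q2320, e3 q1882 (flp_e L111174) q2316, e3 q1883 L25958 q1883, e3 q1884 (flp_e L111182) q1515, e3 q1885 L25975 q1514, e3 q1886 L25985 q1886, e3 q1887 L26020 q1887, e3 q1888 L26032 q1888, e3 q1889 L26051 q1889, e3 q1890 L26063 q1890, e3 q1891 L26066 q1891, e3 q1892 L35556 q2332, e3 q1893 L26083 q1893, e3 q1894 L26093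 q1894, e3 q1895 (flp_e L26098) q1522, e3 q1896 (flp_e L35594) q2336, e3 q1897 (flp_e L35602) q2337, e3 q1898 L26131 q1898, e3 q1899 L26138 q1785, e3 q1900 L35657 q2343, e3 q1901 L26161 q1787, e3 q1902 L26172 q1902, e3 q1903 L35698 q2347, e3 q1904 L26192 q1789, e3 q1905 (flp_e L26195) q1528, e3 q1906 (flp_e L35750) q2352, e3 q1907 (flp_e L35758) q2353, e3 q1908 L26223 q1792, e3 q1909 L26235 q1532, e3 q1910 L26245 q1533, e3 q1911 (flp_e L35795) q2356, e3 q1912 (flp_e L35812) q2358, e3 q1913 (flp_e L34740) q2249, e3 q1914 L35844 q2362, e3 q1915 (flp_e L34762) q2251, e3 q1916 (flp_e L26290) q1536, e3 q1917 (flp_e L35887) q2367, e3 q1918 (flp_e L35893) q2368, e3 q1919 (flp_e L34793) q2255, trivial⟩ (by decide +kernel)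

theorem ce_e_30 : ∀ r, r < 64 → sm ge (Qf (1920 + r)) = Qf (tab Gen.e (1920 + r)) :=
  edges_tab (sm ge) Qf (tab Gen.e) 1920 [(1920, 1539), (1921, 2372), (1922, 2373), (1923, 2377), (1924, 2260), (1925, 1542), (1926, 1543), (1927, 2380), (1928, 2382), (1929, 1929), (1930, 1547), (1931, 1931), (1932, 1548), (1933, 2386), (1934, 1795), (1935, 2391), (1936, 1797), (1937, 1550), (1938, 2396), (1939, 2397), (1940, 1800), (1941, 1553), (1942, 2401), (1943, 2402), (1944, 2406), (1945, 1804), (1946, 1556), (1947, 1557), (1948, 2408), (1949, 2410), (1950, 1561), (1951, 1951), (1952, 1562), (1953, 2412), (1954, 2414), (1955, 2271), (1956, 1564), (1957, 2420), (1958, 2421), (1959, 2425), (1960, 2276), (1961, 1567), (1962, 1568), (1963, 2428), (1964, 2430), (1965, 1694), (1966, 1571), (1967, 1572), (1968, 2435), (1969, 2440), (1970, 2437), (1971, 1573), (1972, 2443), (1973, 1973), (1974, 1577), (1975, 1627), (1976, 1578), (1977, 2445), (1978, 1583), (1979, 1630), (1980, 1631), (1981, 2450), (1982,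 1762), (1983, 1585)]
    ⟨e3 q1920 (flp_e L26315) q1539, e3 q1921 (flp_e L35923) q2372, e3 q1922 (flp_e L35931) q2373, e3 q1923 L35959 q2377, e3 q1924 (flp_e L34838) q2260, e3 q1925 L26358 q1542, e3 q1926 L26364 q1543, e3 q1927 (flp_e L35985) q2380, e3 q1928 (flp_e L35999) q2382, e3 q1929 L26386 q1929, e3 q1930 L26391 q1547, e3 q1931 L26397 q1931, e3 q1932 L26403 q1548, e3 q1933 (flp_e L36026) q2386, e3 q1934 L26417 q1795, e3 q1935 L36060 q2391, e3 q1936 L26440 q1797, e3 q1937 (flp_e L26443) q1550, e3 q1938 (flp_e L36116) q2396, e3 q1939 (flp_e L36126) q2397, e3 q1940 L26482 q1800, e3 q1941 (flp_e L26487) q1553, e3 q1942 (flp_e L36165) q2401, e3 q1943 (flp_e L36173) q2402, e3 q1944 L36199 q2406, e3 q1945 L26520 q1804, e3 q1946 L26531 q1556, e3 q1947 L26539 q1557, e3 q1948 (flp_e L36228) q2408, e3 q1949 (flp_e L36245) q2410, e3 q1950 L26575 q1561, e3 q1951 L26585 q1951, e3 q1952 L26592 q1562, e3 q1953 (flp_e L36283) q2412, e3 q1954 L36307 q2414, e3 q1955 (flp_e L34928) q2271, e3 q1956 (flp_e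 L26619) q1564, e3 q1957 (flp_e L36350) q2420, e3 q1958 (flp_e L36358) q2421, e3 q1959 L36387 q2425, e3 q1960 (flp_e L34972) q2276, e3 q1961 L26664 q1567, e3 q1962 L26670 q1568, e3 q1963 (flp_e L36416) q2428, e3 q1964 (flp_e L36432) q2430, e3 q1965 L26693 q1694, e3 q1966 L26699 q1571, e3 q1967 L26705 q1572, e3 q1968 (flp_e L36466) q2435, e3 q1969 L36494 q2440, e3 q1970 (flp_e L36476) q2437, e3 q1971 (flp_e L26728) q1573, e3 q1972 (flp_e L36518) q2443, e3 q1973 L26748 q1973, e3 q1974 L26753 q1577, e3 q1975 L26761 q1627, e3 q1976 L26769 q1578, e3 q1977 (flp_e L36549) q2445, e3 q1978 L26795 q1583, e3 q1979 L26801 q1630, e3 q1980 L26809 q1631, e3 q1981 L36612 q2450, e3 q1982 (flp_e L111879) q1762, e3 q1983 (flp_e L26833) q1585, trivial⟩ (by decide +kernel)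

theorem ce_e_31 : ∀ r, r < 64 → sm ge (Qf (1984 + r)) = Qf (tab Gen.e (1984 + r)) :=
  edges_tab (sm ge) Qf (tab Gen.e) 1984 [(1984, 2456), (1985, 2457), (1986, 1782), (1987, 1760), (1988, 1588), (1989, 1589), (1990, 1711), (1991, 1592), (1992, 1593), (1993, 2463), (1994, 1776), (1995, 1598), (1996, 2465), (1997, 2466), (1998, 2303), (1999, 1719), (2000, 1601), (2001, 1602), (2002, 1632), (2003, 1722), (2004, 1723), (2005, 2005), (2006, 1633), (2007, 1634), (2008, 1611), (2009, 1811), (2010, 2477), (2011, 2482), (2012, 2012), (2013, 1615), (2014, 1813), (2015, 2488), (2016, 2485), (2017, 1616), (2018, 2491), (2019, 2429), (2020, 1620), (2021, 1816), (2022, 2496), (2023, 1624), (2024, 2498), (2025, 1818), (2026, 1623), (2027, 2501), (2028, 2500), (2029, 1626), (2030, 2505), (2031, 2446), (2032, 2447), (2033, 2448), (2034, 2449), (2035, 2470), (2036, 2475), (2037, 2476), (2038, 1639), (2039, 2039), (2040, 1641), (2041, 2512), (2042, 1710), (2043, 1773), (2044, 2044), (2045, 1714), (2046,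 1777), (2047, 2047)]
    ⟨e3 q1984 (flp_e L36683) q2456, e3 q1985 (flp_e L36693) q2457, e3 q1986 (flp_e L106426) q1782, e3 q1987 (flp_e L111527) q1760, e3 q1988 L26890 q1588, e3 q1989 L26900 q1589, e3 q1990 L26933 q1711, e3 q1991 L26940 q1592, e3 q1992 L26949 q1593, e3 q1993 L36876 q2463, e3 q1994 L111007 q1776, e3 q1995 (flp_e L27090) q1598, e3 q1996 (flp_e L37026) q2465, e3 q1997 (flp_e L37033) q2466, e3 q1998 (flp_e L35195) q2303, e3 q1999 L27124 q1719, e3 q2000 L27132 q1601, e3 q2001 L27140 q1602, e3 q2002 L27180 q1632, e3 q2003 L27203 q1722, e3 q2004 L27208 q1723, e3 q2005 L27229 q2005, e3 q2006 L27273 q1633, e3 q2007 L27312 q1634, e3 q2008 (flp_e L27325) q1611, e3 q2009 (flp_e L98886) q1811, e3 q2010 (flp_e L37324) q2477, e3 q2011 L37358 q2482, e3 q2012 L27362 q2012, e3 q2013 L27381 q1615, e3 q2014 (flp_e L98926) q1813, e3 q2015 L37430 q2488, e3 q2016 (flp_e L37407) q2485, e3 q2017 (flp_e L27410) q1616, e3 q2018 (flp_e L37456) q2491, e3 q2019 (flp_e L36424) q2429, e3 q2020 L27453 q1620,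 e3 q2021 L104726 q1816, e3 q2022 L37537 q2496, e3 q2023 L27493 q1624, e3 q2024 L37549 q2498, e3 q2025 L99281 q1818, e3 q2026 (flp_e L27514) q1623, e3 q2027 (flp_e L37574) q2501, e3 q2028 (flp_e L37569) q2500, e3 q2029 L27536 q1626, e3 q2030 (flp_e L37600) q2505, e3 q2031 (flp_e L36555) q2446, e3 q2032 (flp_e L36565) q2447, e3 q2033 (flp_e L36596) q2448, e3 q2034 (flp_e L36604) q2449, e3 q2035 (flp_e L37137) q2470, e3 q2036 (flp_e L37237) q2475, e3 q2037 (flp_e L37295) q2476, e3 q2038 L27860 q1639, e3 q2039 L27870 q2039, e3 q2040 L27873 q1641, e3 q2041 (flp_e L38002) q2512, e3 q2042 (flp_e L119221) q1710, e3 q2043 (flp_e L119261) q1773, e3 q2044 L27962 q2044, e3 q2045 (flp_e L119360) q1714, e3 q2046 (flp_e L119329) q1777, e3 q2047 L28043 q2047, trivial⟩ (by decide +kernel)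

theorem ce_e_32 : ∀ r, r < 64 → sm ge (Qf (2048 + r)) = Qf (tab Gen.e (2048 + r)) :=
  edges_tab (sm ge) Qf (tab Gen.e) 2048 [(2048, 2519), (2049, 2049), (2050, 1646), (2051, 1676), (2052, 1675), (2053, 2053), (2054, 1649), (2055, 1680), (2056, 1679), (2057, 2526), (2058, 2058), (2059, 2528), (2060, 2060), (2061, 1656), (2062, 2534), (2063, 2535), (2064, 2539), (2065, 2065), (2066, 1659), (2067, 1660), (2068, 1693), (2069, 1692), (2070, 2371), (2071, 1663), (2072, 1664), (2073, 1699), (2074, 2545), (2075, 1697), (2076, 1665), (2077, 2548), (2078, 2550), (2079, 2079), (2080, 1672), (2081, 2521), (2082, 2520), (2083, 2557), (2084, 2084), (2085, 2400), (2086, 2560), (2087, 1681), (2088, 2562), (2089, 1683), (2090, 2565), (2091, 2566), (2092, 2571), (2093, 2093), (2094, 2419), (2095, 1686), (2096, 1687), (2097, 2538), (2098, 2577), (2099, 2536), (2100, 1688), (2101, 2580), (2102, 2432), (2103, 2433), (2104, 2585), (2105, 2586), (2106, 1698), (2107, 2588), (2108, 2587), (2109, 1701), (2110,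 2592), (2111, 1702)]
    ⟨e3 q2048 L38288 q2519, e3 q2049 L28064 q2049, e3 q2050 (flp_e L28066) q1646, e3 q2051 L119836 q1676, e3 q2052 L119872 q1675, e3 q2053 L28097 q2053, e3 q2054 (flp_e L28101) q1649, e3 q2055 L119829 q1680, e3 q2056 L119862 q1679, e3 q2057 L38416 q2526, e3 q2058 L28138 q2058, e3 q2059 L38509 q2528, e3 q2060 L28231 q2060, e3 q2061 (flp_e L28233) q1656, e3 q2062 (flp_e L38562) q2534, e3 q2063 (flp_e L38570) q2535, e3 q2064 L38597 q2539, e3 q2065 L28267 q2065, e3 q2066 L28275 q1659, e3 q2067 L28282 q1660, e3 q2068 L119788 q1693, e3 q2069 (flp_e L118937) q1692, e3 q2070 (flp_e L35915) q2371, e3 q2071 L28314 q1663, e3 q2072 L28322 q1664, e3 q2073 L119780 q1699, e3 q2074 L38716 q2545, e3 q2075 L119675 q1697, e3 q2076 (flp_e L28349) q1665, e3 q2077 (flp_e L38742) q2548, e3 q2078 L38822 q2550, e3 q2079 L28447 q2079, e3 q2080 (flp_e L28449) q1672, e3 q2081 L118913 q2521, e3 q2082 L119716 q2520, e3 q2083 L38913 q2557, e3 q2084 L28487 q2084, e3 q2085 (flp_e L36159) q2400, e3 q2086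 L39034 q2560, e3 q2087 (flp_e L28571) q1681, e3 q2088 (flp_e L39052) q2562, e3 q2089 (flp_e L28666) q1683, e3 q2090 (flp_e L39161) q2565, e3 q2091 (flp_e L39168) q2566, e3 q2092 L39198 q2571, e3 q2093 L28695 q2093, e3 q2094 (flp_e L36342) q2419, e3 q2095 L28710 q1686, e3 q2096 L28718 q1687, e3 q2097 L119645 q2538, e3 q2098 L39277 q2577, e3 q2099 L119682 q2536, e3 q2100 (flp_e L28746) q1688, e3 q2101 (flp_e L39307) q2580, e3 q2102 (flp_e L36449) q2432, e3 q2103 (flp_e L36455) q2433, e3 q2104 L39382 q2585, e3 q2105 L39393 q2586, e3 q2106 (flp_e L28851) q1698, e3 q2107 (flp_e L39418) q2588, e3 q2108 (flp_e L39412) q2587, e3 q2109 L28873 q1701, e3 q2110 (flp_e L39443) q2592, e3 q2111 (flp_e L28907) q1702, trivial⟩ (by decide +kernel)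

theorem ce_e_33 : ∀ r, r < 64 → sm ge (Qf (2112 + r)) = Qf (tab Gen.e (2112 + r)) :=
  edges_tab (sm ge) Qf (tab Gen.e) 2112 [(2112, 2594), (2113, 2595), (2114, 2599), (2115, 2455), (2116, 1705), (2117, 1706), (2118, 2514), (2119, 2604), (2120, 1707), (2121, 2460), (2122, 2461), (2123, 2609), (2124, 2610), (2125, 1715), (2126, 2611), (2127, 2464), (2128, 1718), (2129, 2467), (2130, 2468), (2131, 1783), (2132, 2619), (2133, 2471), (2134, 2473), (2135, 2135), (2136, 2625), (2137, 2137), (2138, 2627), (2139, 1727), (2140, 2630), (2141, 2632), (2142, 2142), (2143, 1730), (2144, 2635), (2145, 2634), (2146, 1733), (2147, 2639), (2148, 1735), (2149, 2641), (2150, 1739), (2151, 1738), (2152, 2645), (2153, 2643), (2154, 2644), (2155, 1741), (2156, 1742), (2157, 2651), (2158, 2158), (2159, 1744), (2160, 2655), (2161, 2161), (2162, 2162), (2163, 1747), (2164, 2164), (2165, 2165), (2166, 2166), (2167, 1751), (2168, 1758), (2169, 2169), (2170, 2170), (2171, 1767), (2172, 2454), (2173, 1780), (2174,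 2663), (2175, 1764)]
    ⟨e3 q2112 (flp_e L39469) q2594, e3 q2113 (flp_e L39479) q2595, e3 q2114 L39510 q2599, e3 q2115 (flp_e L36675) q2455, e3 q2116 L28956 q1705, e3 q2117 L28966 q1706, e3 q2118 (flp_e L119378) q2514, e3 q2119 L39570 q2604, e3 q2120 (flp_e L28989) q1707, e3 q2121 (flp_e L36808) q2460, e3 q2122 (flp_e L36815) q2461, e3 q2123 L39658 q2609, e3 q2124 L39664 q2610, e3 q2125 (flp_e L29071) q1715, e3 q2126 (flp_e L39676) q2611, e3 q2127 (flp_e L37019) q2464, e3 q2128 L29138 q1718, e3 q2129 (flp_e L37059) q2467, e3 q2130 (flp_e L37065) q2468, e3 q2131 L29160 q1783, e3 q2132 L39786 q2619, e3 q2133 (flp_e L37155) q2471, e3 q2134 (flp_e L37168) q2473, e3 q2135 L29186 q2135, e3 q2136 L39830 q2625, e3 q2137 L29203 q2137, e3 q2138 L39845 q2627, e3 q2139 (flp_e L29212) q1727, e3 q2140 (flp_e L39872) q2630, e3 q2141 L39882 q2632, e3 q2142 L29241 q2142, e3 q2143 (flp_e L29246) q1730, e3 q2144 (flp_e L39910) q2635, e3 q2145 (flp_e L39903) q2634, e3 q2146 L29271 q1733, e3 q2147 (flp_e L39938)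 q2639, e3 q2148 (flp_e L29280) q1735, e3 q2149 (flp_e L39950) q2641, e3 q2150 L29298 q1739, e3 q2151 L29304 q1738, e3 q2152 (flp_e L39978) q2645, e3 q2153 (flp_e L39965) q2643, e3 q2154 (flp_e L39971) q2644, e3 q2155 L29328 q1741, e3 q2156 (flp_e L29331) q1742, e3 q2157 (flp_e L40020) q2651, e3 q2158 L29354 q2158, e3 q2159 L29360 q1744, e3 q2160 (flp_e L40053) q2655, e3 q2161 L29377 q2161, e3 q2162 L29385 q2162, e3 q2163 L29393 q1747, e3 q2164 L29401 q2164, e3 q2165 L29409 q2165, e3 q2166 L29418 q2166, e3 q2167 (flp_e L30510) q1751, e3 q2168 L111997 q1758, e3 q2169 L30539 q2169, e3 q2170 L30559 q2170, e3 q2171 (flp_e L90248) q1767, e3 q2172 L112030 q2454, e3 q2173 L112257 q1780, e3 q2174 (flp_e L112166) q2663, e3 q2175 L31836 q1764, trivial⟩ (by decide +kernel)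

theorem ce_e_34 : ∀ r, r < 64 → sm ge (Qf (2176 + r)) = Qf (tab Gen.e (2176 + r)) :=
  edges_tab (sm ge) Qf (tab Gen.e) 2176 [(2176, 1765), (2177, 2669), (2178, 2178), (2179, 2672), (2180, 1766), (2181, 2459), (2182, 2515), (2183, 1770), (2184, 2184), (2185, 2674), (2186, 2665), (2187, 2453), (2188, 2615), (2189, 2677), (2190, 1784), (2191, 2340), (2192, 2680), (2193, 2342), (2194, 1786), (2195, 2684), (2196, 2346), (2197, 1788), (2198, 2687), (2199, 2690), (2200, 2351), (2201, 1791), (2202, 2693), (2203, 2203), (2204, 1794), (2205, 2695), (2206, 2390), (2207, 1796), (2208, 2700), (2209, 2703), (2210, 2395), (2211, 1799), (2212, 2705), (2213, 2213), (2214, 1802), (2215, 2709), (2216, 2708), (2217, 1803), (2218, 2712), (2219, 1806), (2220, 1808), (2221, 2221), (2222, 2222), (2223, 2478), (2224, 2720), (2225, 2225), (2226, 2722), (2227, 2487), (2228, 1814), (2229, 2725), (2230, 1817), (2231, 2728), (2232, 2727), (2233, 1820), (2234, 2732), (2235, 2235), (2236, 2736), (2237, 2237), (2238,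 2238), (2239, 2740)]
    ⟨e3 q2176 L31846 q1765, e3 q2177 (flp_e L43395) q2669, e3 q2178 L82617 q2178, e3 q2179 L43429 q2672, e3 q2180 (flp_e L31873) q1766, e3 q2181 L106390 q2459, e3 q2182 (flp_e L119334) q2515, e3 q2183 L31910 q1770, e3 q2184 L82594 q2184, e3 q2185 L43556 q2674, e3 q2186 L112245 q2665, e3 q2187 (flp_e L106440) q2453, e3 q2188 (flp_e L39763) q2615, e3 q2189 L43752 q2677, e3 q2190 (flp_e L32151) q1784, e3 q2191 (flp_e L35629) q2340, e3 q2192 L44647 q2680, e3 q2193 (flp_e L35654) q2342, e3 q2194 (flp_e L32808) q1786, e3 q2195 (flp_e L44698) q2684, e3 q2196 (flp_e L35693) q2346, e3 q2197 (flp_e L32841) q1788, e3 q2198 (flp_e L44739) q2687, e3 q2199 L44766 q2690, e3 q2200 (flp_e L35740) q2351, e3 q2201 L32888 q1791, e3 q2202 (flp_e L44805) q2693, e3 q2203 L32927 q2203, e3 q2204 L32935 q1794, e3 q2205 L44857 q2695, e3 q2206 (flp_e L36057) q2390, e3 q2207 (flp_e L32961) q1796, e3 q2208 (flp_e L44913) q2700, e3 q2209 L44941 q2703, e3 q2210 (flp_e L36103) q2395, e3 q2211 L33014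 q1799, e3 q2212 (flp_e L44993) q2705, e3 q2213 L33041 q2213, e3 q2214 L33052 q1802, e3 q2215 L45054 q2709, e3 q2216 (flp_e L45037) q2708, e3 q2217 (flp_e L33074) q1803, e3 q2218 (flp_e L45076) q2712, e3 q2219 L33114 q1806, e3 q2220 (flp_e L33166) q1808, e3 q2221 L33214 q2221, e3 q2222 L33332 q2222, e3 q2223 (flp_e L98828) q2478, e3 q2224 L45713 q2720, e3 q2225 L33548 q2225, e3 q2226 L45799 q2722, e3 q2227 L98984 q2487, e3 q2228 (flp_e L33603) q1814, e3 q2229 (flp_e L45823) q2725, e3 q2230 (flp_e L33729) q1817, e3 q2231 (flp_e L45974) q2728, e3 q2232 (flp_e L45969) q2727, e3 q2233 L33749 q1820, e3 q2234 (flp_e L45998) q2732, e3 q2235 L34633 q2235, e3 q2236 L47200 q2736, e3 q2237 L34648 q2237, e3 q2238 L34657 q2238, e3 q2239 L47232 q2740, trivial⟩ (by decide +kernel)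

theorem ce_e_35 : ∀ r, r < 64 → sm ge (Qf (2240 + r)) = Qf (tab Gen.e (2240 + r)) :=
  edges_tab (sm ge) Qf (tab Gen.e) 2240 [(2240, 2240), (2241, 1824), (2242, 2745), (2243, 2746), (2244, 2244), (2245, 1828), (2246, 1829), (2247, 2750), (2248, 2752), (2249, 1913), (2250, 2756), (2251, 1915), (2252, 1832), (2253, 2761), (2254, 2762), (2255, 1919), (2256, 1835), (2257, 2766), (2258, 2767), (2259, 2771), (2260, 1924), (2261, 1838), (2262, 1839), (2263, 2774), (2264, 2776), (2265, 2265), (2266, 1843), (2267, 2751), (2268, 1844), (2269, 2780), (2270, 2783), (2271, 1955), (2272, 1846), (2273, 2789), (2274, 2790), (2275, 2794), (2276, 1960), (2277, 1849), (2278, 1850), (2279, 2797), (2280, 2799), (2281, 2281), (2282, 1853), (2283, 1854), (2284, 2804), (2285, 2809), (2286, 2806), (2287, 1855), (2288, 2812), (2289, 2289), (2290, 1859), (2291, 2291), (2292, 1860), (2293, 2816), (2294, 2294), (2295, 2295), (2296, 1865), (2297, 2297), (2298, 2298), (2299, 1866), (2300, 2825), (2301, 2826), (2302,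 2302), (2303, 1998)]
    ⟨e3 q2240 L34674 q2240, e3 q2241 (flp_e L34676) q1824, e3 q2242 (flp_e L47274) q2745, e3 q2243 (flp_e L47281) q2746, e3 q2244 L34705 q2244, e3 q2245 L34712 q1828, e3 q2246 L34718 q1829, e3 q2247 (flp_e L47312) q2750, e3 q2248 (flp_e L47325) q2752, e3 q2249 L34740 q1913, e3 q2250 L47356 q2756, e3 q2251 L34762 q1915, e3 q2252 (flp_e L34765) q1832, e3 q2253 (flp_e L47406) q2761, e3 q2254 (flp_e L47414) q2762, e3 q2255 L34793 q1919, e3 q2256 (flp_e L34798) q1835, e3 q2257 (flp_e L47449) q2766, e3 q2258 (flp_e L47459) q2767, e3 q2259 L47489 q2771, e3 q2260 L34838 q1924, e3 q2261 L34848 q1838, e3 q2262 L34856 q1839, e3 q2263 (flp_e L47518) q2774, e3 q2264 (flp_e L47533) q2776, e3 q2265 L34882 q2265, e3 q2266 L34889 q1843, e3 q2267 (flp_e L47319) q2751, e3 q2268 L34902 q1844, e3 q2269 (flp_e L47566) q2780, e3 q2270 L47585 q2783, e3 q2271 L34928 q1955, e3 q2272 (flp_e L34931) q1846, e3 q2273 (flp_e L47639) q2789, e3 q2274 (flp_e L47649) q2790, e3 q2275 L47680 q2794, e3 q2276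 L34972 q1960, e3 q2277 L34983 q1849, e3 q2278 L34991 q1850, e3 q2279 (flp_e L47712) q2797, e3 q2280 (flp_e L47729) q2799, e3 q2281 L35020 q2281, e3 q2282 L35025 q1853, e3 q2283 L35033 q1854, e3 q2284 (flp_e L47774) q2804, e3 q2285 L47808 q2809, e3 q2286 (flp_e L47786) q2806, e3 q2287 (flp_e L35058) q1855, e3 q2288 (flp_e L47830) q2812, e3 q2289 L35079 q2289, e3 q2290 L35086 q1859, e3 q2291 L35096 q2291, e3 q2292 L35103 q1860, e3 q2293 (flp_e L47862) q2816, e3 q2294 L35121 q2294, e3 q2295 L35130 q2295, e3 q2296 L35135 q1865, e3 q2297 L35143 q2297, e3 q2298 L35152 q2298, e3 q2299 (flp_e L35155) q1866, e3 q2300 (flp_e L47953) q2825, e3 q2301 (flp_e L47962) q2826, e3 q2302 L35188 q2302, e3 q2303 L35195 q1998, trivial⟩ (by decide +kernel)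

theorem ce_e_36 : ∀ r, r < 64 → sm ge (Qf (2304 + r)) = Qf (tab Gen.e (2304 + r)) :=
  edges_tab (sm ge) Qf (tab Gen.e) 2304 [(2304, 2304), (2305, 1869), (2306, 1870), (2307, 2835), (2308, 2838), (2309, 2834), (2310, 2310), (2311, 1876), (2312, 1875), (2313, 2313), (2314, 2314), (2315, 2315), (2316, 1882), (2317, 1880), (2318, 2848), (2319, 2849), (2320, 1881), (2321, 2850), (2322, 2322), (2323, 2323), (2324, 2324), (2325, 2325), (2326, 2326), (2327, 2858), (2328, 2328), (2329, 2329), (2330, 2862), (2331, 2331), (2332, 1892), (2333, 2866), (2334, 2867), (2335, 2335), (2336, 1896), (2337, 1897), (2338, 2871), (2339, 2873), (2340, 2191), (2341, 2877), (2342, 2193), (2343, 1900), (2344, 2882), (2345, 2883), (2346, 2196), (2347, 1903), (2348, 2887), (2349, 2888), (2350, 2892), (2351, 2200), (2352, 1906), (2353, 1907), (2354, 2894), (2355, 2896), (2356, 1911), (2357, 2872), (2358, 1912), (2359, 2899), (2360, 2902), (2361, 2755), (2362, 1914), (2363, 2908), (2364, 2909), (2365, 2913), (2366,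 2760), (2367, 1917)]
    ⟨e3 q2304 L35209 q2304, e3 q2305 L35216 q1869, e3 q2306 L35226 q1870, e3 q2307 (flp_e L48044) q2835, e3 q2308 L48088 q2838, e3 q2309 L112132 q2834, e3 q2310 L35265 q2310, e3 q2311 L111380 q1876, e3 q2312 L35282 q1875, e3 q2313 L35292 q2313, e3 q2314 L35319 q2314, e3 q2315 L35325 q2315, e3 q2316 L111174 q1882, e3 q2317 L35344 q1880, e3 q2318 L48221 q2848, e3 q2319 L48234 q2849, e3 q2320 (flp_e L35384) q1881, e3 q2321 (flp_e L48255) q2850, e3 q2322 L35424 q2322, e3 q2323 L35437 q2323, e3 q2324 L35468 q2324, e3 q2325 L35482 q2325, e3 q2326 L35504 q2326, e3 q2327 L48415 q2858, e3 q2328 L35524 q2328, e3 q2329 L35536 q2329, e3 q2330 L48455 q2862, e3 q2331 L35554 q2331, e3 q2332 (flp_e L35556) q1892, e3 q2333 (flp_e L48499) q2866, e3 q2334 (flp_e L48506) q2867, e3 q2335 L35585 q2335, e3 q2336 L35594 q1896, e3 q2337 L35602 q1897, e3 q2338 (flp_e L48541) q2871, e3 q2339 (flp_e L48558) q2873, e3 q2340 L35629 q2191, e3 q2341 L48596 q2877, e3 q2342 L35654 q2193, e3 q2343 (flp_e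 L35657) q1900, e3 q2344 (flp_e L48650) q2882, e3 q2345 (flp_e L48660) q2883, e3 q2346 L35693 q2196, e3 q2347 (flp_e L35698) q1903, e3 q2348 (flp_e L48700) q2887, e3 q2349 (flp_e L48710) q2888, e3 q2350 L48741 q2892, e3 q2351 L35740 q2200, e3 q2352 L35750 q1906, e3 q2353 L35758 q1907, e3 q2354 (flp_e L48771) q2894, e3 q2355 (flp_e L48786) q2896, e3 q2356 L35795 q1911, e3 q2357 (flp_e L48550) q2872, e3 q2358 L35812 q1912, e3 q2359 (flp_e L48825) q2899, e3 q2360 L48848 q2902, e3 q2361 (flp_e L47353) q2755, e3 q2362 (flp_e L35844) q1914, e3 q2363 (flp_e L48900) q2908, e3 q2364 (flp_e L48908) q2909, e3 q2365 L48936 q2913, e3 q2366 (flp_e L47396) q2760, e3 q2367 L35887 q1917, trivial⟩ (by decide +kernel)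

theorem ce_e_37 : ∀ r, r < 64 → sm ge (Qf (2368 + r)) = Qf (tab Gen.e (2368 + r)) :=
  edges_tab (sm ge) Qf (tab Gen.e) 2368 [(2368, 1918), (2369, 2916), (2370, 2918), (2371, 2070), (2372, 1921), (2373, 1922), (2374, 2923), (2375, 2928), (2376, 2925), (2377, 1923), (2378, 2931), (2379, 2379), (2380, 1927), (2381, 2381), (2382, 1928), (2383, 2935), (2384, 2384), (2385, 2385), (2386, 1933), (2387, 2387), (2388, 2388), (2389, 2943), (2390, 2206), (2391, 1935), (2392, 2949), (2393, 2950), (2394, 2954), (2395, 2210), (2396, 1938), (2397, 1939), (2398, 2956), (2399, 2958), (2400, 2085), (2401, 1942), (2402, 1943), (2403, 2962), (2404, 2967), (2405, 2964), (2406, 1944), (2407, 2970), (2408, 1948), (2409, 2409), (2410, 1949), (2411, 2972), (2412, 1953), (2413, 2413), (2414, 1954), (2415, 2976), (2416, 2977), (2417, 2982), (2418, 2787), (2419, 2094), (2420, 1957), (2421, 1958), (2422, 2987), (2423, 2992), (2424, 2989), (2425, 1959), (2426, 2995), (2427, 2427), (2428, 1963), (2429, 2019), (2430,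 1964), (2431, 2997)]
    ⟨e3 q2368 L35893 q1918, e3 q2369 (flp_e L48962) q2916, e3 q2370 (flp_e L48976) q2918, e3 q2371 L35915 q2070, e3 q2372 L35923 q1921, e3 q2373 L35931 q1922, e3 q2374 (flp_e L49015) q2923, e3 q2375 L49050 q2928, e3 q2376 (flp_e L49029) q2925, e3 q2377 (flp_e L35959) q1923, e3 q2378 (flp_e L49078) q2931, e3 q2379 L35980 q2379, e3 q2380 L35985 q1927, e3 q2381 L35993 q2381, e3 q2382 L35999 q1928, e3 q2383 (flp_e L49108) q2935, e3 q2384 L36013 q2384, e3 q2385 L36020 q2385, e3 q2386 L36026 q1933, e3 q2387 L36032 q2387, e3 q2388 L36040 q2388, e3 q2389 L49167 q2943, e3 q2390 L36057 q2206, e3 q2391 (flp_e L36060) q1935, e3 q2392 (flp_e L49232) q2949, e3 q2393 (flp_e L49242) q2950, e3 q2394 L49274 q2954, e3 q2395 L36103 q2210, e3 q2396 L36116 q1938, e3 q2397 L36126 q1939, e3 q2398 (flp_e L49311) q2956, e3 q2399 (flp_e L49332) q2958, e3 q2400 L36159 q2085, e3 q2401 L36165 q1942, e3 q2402 L36173 q1943, e3 q2403 (flp_e L49381) q2962, e3 q2404 L49416 q2967, e3 q2405 (flp_e L49393)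 q2964, e3 q2406 (flp_e L36199) q1944, e3 q2407 (flp_e L49440) q2970, e3 q2408 L36228 q1948, e3 q2409 L36238 q2409, e3 q2410 L36245 q1949, e3 q2411 (flp_e L49473) q2972, e3 q2412 L36283 q1953, e3 q2413 L36304 q2413, e3 q2414 (flp_e L36307) q1954, e3 q2415 (flp_e L49571) q2976, e3 q2416 (flp_e L49577) q2977, e3 q2417 L49607 q2982, e3 q2418 (flp_e L47617) q2787, e3 q2419 L36342 q2094, e3 q2420 L36350 q1957, e3 q2421 L36358 q1958, e3 q2422 (flp_e L49652) q2987, e3 q2423 L49688 q2992, e3 q2424 (flp_e L49666) q2989, e3 q2425 (flp_e L36387) q1959, e3 q2426 (flp_e L49720) q2995, e3 q2427 L36411 q2427, e3 q2428 L36416 q1963, e3 q2429 L36424 q2019, e3 q2430 L36432 q1964, e3 q2431 (flp_e L49753) q2997, trivial⟩ (by decide +kernel)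

theorem ce_e_38 : ∀ r, r < 64 → sm ge (Qf (2432 + r)) = Qf (tab Gen.e (2432 + r)) :=
  edges_tab (sm ge) Qf (tab Gen.e) 2432 [(2432, 2102), (2433, 2103), (2434, 2434), (2435, 1968), (2436, 3007), (2437, 1970), (2438, 3009), (2439, 3005), (2440, 1969), (2441, 3012), (2442, 3011), (2443, 1972), (2444, 3016), (2445, 1977), (2446, 2031), (2447, 2032), (2448, 2033), (2449, 2034), (2450, 1981), (2451, 3022), (2452, 3023), (2453, 2187), (2454, 2172), (2455, 2115), (2456, 1984), (2457, 1985), (2458, 3030), (2459, 2181), (2460, 2121), (2461, 2122), (2462, 3034), (2463, 1993), (2464, 2127), (2465, 1996), (2466, 1997), (2467, 2129), (2468, 2130), (2469, 2469), (2470, 2035), (2471, 2133), (2472, 2472), (2473, 2134), (2474, 2474), (2475, 2036), (2476, 2037), (2477, 2010), (2478, 2223), (2479, 3054), (2480, 3050), (2481, 3056), (2482, 2011), (2483, 3059), (2484, 3062), (2485, 2016), (2486, 3064), (2487, 2227), (2488, 2015), (2489, 3067), (2490, 3066), (2491, 2018), (2492, 3071), (2493, 2998), (2494,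 2999), (2495, 3075)]
    ⟨e3 q2432 L36449 q2102, e3 q2433 L36455 q2103, e3 q2434 L36461 q2434, e3 q2435 L36466 q1968, e3 q2436 L49820 q3007, e3 q2437 L36476 q1970, e3 q2438 L49828 q3009, e3 q2439 (flp_e L49812) q3005, e3 q2440 (flp_e L36494) q1969, e3 q2441 (flp_e L49857) q3012, e3 q2442 (flp_e L49851) q3011, e3 q2443 L36518 q1972, e3 q2444 (flp_e L49884) q3016, e3 q2445 L36549 q1977, e3 q2446 L36555 q2031, e3 q2447 L36565 q2032, e3 q2448 L36596 q2033, e3 q2449 L36604 q2034, e3 q2450 (flp_e L36612) q1981, e3 q2451 (flp_e L50025) q3022, e3 q2452 (flp_e L50036) q3023, e3 q2453 L106440 q2187, e3 q2454 (flp_e L112030) q2172, e3 q2455 L36675 q2115, e3 q2456 L36683 q1984, e3 q2457 L36693 q1985, e3 q2458 L50183 q3030, e3 q2459 (flp_e L106390) q2181, e3 q2460 L36808 q2121, e3 q2461 L36815 q2122, e3 q2462 L50337 q3034, e3 q2463 (flp_e L36876) q1993, e3 q2464 L37019 q2127, e3 q2465 L37026 q1996, e3 q2466 L37033 q1997, e3 q2467 L37059 q2129, e3 q2468 L37065 q2130, e3 q2469 L37089 q2469, e3 q2470 L37137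 q2035, e3 q2471 L37155 q2133, e3 q2472 L37162 q2472, e3 q2473 L37168 q2134, e3 q2474 L37196 q2474, e3 q2475 L37237 q2036, e3 q2476 L37295 q2037, e3 q2477 L37324 q2010, e3 q2478 L98828 q2223, e3 q2479 L50993 q3054, e3 q2480 (flp_e L50963) q3050, e3 q2481 L51009 q3056, e3 q2482 (flp_e L37358) q2011, e3 q2483 (flp_e L51037) q3059, e3 q2484 L51085 q3062, e3 q2485 L37407 q2016, e3 q2486 L51099 q3064, e3 q2487 (flp_e L98984) q2227, e3 q2488 (flp_e L37430) q2015, e3 q2489 (flp_e L51128) q3067, e3 q2490 (flp_e L51122) q3066, e3 q2491 L37456 q2018, e3 q2492 (flp_e L51158) q3071, e3 q2493 (flp_e L49761) q2998, e3 q2494 (flp_e L49771) q2999, e3 q2495 L51263 q3075, trivial⟩ (by decide +kernel)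

theorem ce_e_39 : ∀ r, r < 64 → sm ge (Qf (2496 + r)) = Qf (tab Gen.e (2496 + r)) :=
  edges_tab (sm ge) Qf (tab Gen.e) 2496 [(2496, 2022), (2497, 3078), (2498, 2024), (2499, 3081), (2500, 2028), (2501, 2027), (2502, 3085), (2503, 3083), (2504, 3084), (2505, 2030), (2506, 3017), (2507, 3018), (2508, 3019), (2509, 3020), (2510, 3043), (2511, 3048), (2512, 2041), (2513, 3093), (2514, 2118), (2515, 2182), (2516, 3097), (2517, 3098), (2518, 2518), (2519, 2048), (2520, 2082), (2521, 2081), (2522, 3105), (2523, 2523), (2524, 2886), (2525, 2960), (2526, 2057), (2527, 3108), (2528, 2059), (2529, 3111), (2530, 3112), (2531, 3117), (2532, 2532), (2533, 2907), (2534, 2062), (2535, 2063), (2536, 2099), (2537, 3123), (2538, 2097), (2539, 2064), (2540, 3126), (2541, 2920), (2542, 2921), (2543, 3131), (2544, 3132), (2545, 2074), (2546, 3134), (2547, 3133), (2548, 2077), (2549, 3138), (2550, 2078), (2551, 3100), (2552, 3099), (2553, 3142), (2554, 2554), (2555, 2948), (2556, 3145), (2557, 2083), (2558,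 3147), (2559, 2961)]
    ⟨e3 q2496 (flp_e L37537) q2022, e3 q2497 (flp_e L51287) q3078, e3 q2498 (flp_e L37549) q2024, e3 q2499 (flp_e L51304) q3081, e3 q2500 L37569 q2028, e3 q2501 L37574 q2027, e3 q2502 (flp_e L51334) q3085, e3 q2503 (flp_e L51320) q3083, e3 q2504 (flp_e L51327) q3084, e3 q2505 L37600 q2030, e3 q2506 (flp_e L49924) q3017, e3 q2507 (flp_e L49934) q3018, e3 q2508 (flp_e L49989) q3019, e3 q2509 (flp_e L49997) q3020, e3 q2510 (flp_e L50699) q3043, e3 q2511 (flp_e L50847) q3048, e3 q2512 L38002 q2041, e3 q2513 (flp_e L51866) q3093, e3 q2514 L119378 q2118, e3 q2515 L119334 q2182, e3 q2516 L52168 q3097, e3 q2517 L52259 q3098, e3 q2518 L38286 q2518, e3 q2519 (flp_e L38288) q2048, e3 q2520 (flp_e L119716) q2082, e3 q2521 (flp_e L118913) q2081, e3 q2522 L52358 q3105, e3 q2523 L38325 q2523, e3 q2524 (flp_e L48692) q2886, e3 q2525 L119504 q2960, e3 q2526 (flp_e L38416) q2057, e3 q2527 (flp_e L52508) q3108, e3 q2528 (flp_e L38509) q2059, e3 q2529 (flp_e L52622) q3111, e3 q2530 (flp_e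 L52631) q3112, e3 q2531 L52668 q3117, e3 q2532 L38548 q2532, e3 q2533 (flp_e L48892) q2907, e3 q2534 L38562 q2062, e3 q2535 L38570 q2063, e3 q2536 (flp_e L119682) q2099, e3 q2537 L52747 q3123, e3 q2538 (flp_e L119645) q2097, e3 q2539 (flp_e L38597) q2064, e3 q2540 (flp_e L52773) q3126, e3 q2541 (flp_e L48993) q2920, e3 q2542 (flp_e L49000) q2921, e3 q2543 L52885 q3131, e3 q2544 L52898 q3132, e3 q2545 (flp_e L38716) q2074, e3 q2546 (flp_e L52927) q3134, e3 q2547 (flp_e L52920) q3133, e3 q2548 L38742 q2077, e3 q2549 (flp_e L52956) q3138, e3 q2550 (flp_e L38822) q2078, e3 q2551 (flp_e L118773) q3100, e3 q2552 (flp_e L118766) q3099, e3 q2553 L53082 q3142, e3 q2554 L38855 q2554, e3 q2555 (flp_e L49224) q2948, e3 q2556 L53167 q3145, e3 q2557 (flp_e L38913) q2083, e3 q2558 (flp_e L53193) q3147, e3 q2559 (flp_e L49364) q2961, trivial⟩ (by decide +kernel)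

theorem ce_e_40 : ∀ r, r < 64 → sm ge (Qf (2560 + r)) = Qf (tab Gen.e (2560 + r)) :=
  edges_tab (sm ge) Qf (tab Gen.e) 2560 [(2560, 2086), (2561, 3150), (2562, 2088), (2563, 3153), (2564, 2975), (2565, 2090), (2566, 2091), (2567, 3115), (2568, 3160), (2569, 3113), (2570, 3162), (2571, 2092), (2572, 3165), (2573, 2984), (2574, 2985), (2575, 3170), (2576, 3171), (2577, 2098), (2578, 3173), (2579, 3172), (2580, 2101), (2581, 3177), (2582, 3001), (2583, 3179), (2584, 3003), (2585, 2104), (2586, 2105), (2587, 2108), (2588, 2107), (2589, 3185), (2590, 3183), (2591, 3184), (2592, 2110), (2593, 3021), (2594, 2112), (2595, 2113), (2596, 3094), (2597, 3195), (2598, 3196), (2599, 2114), (2600, 3027), (2601, 3028), (2602, 3201), (2603, 3202), (2604, 2119), (2605, 3203), (2606, 3031), (2607, 3205), (2608, 3033), (2609, 2123), (2610, 2124), (2611, 2126), (2612, 3035), (2613, 3036), (2614, 3037), (2615, 2188), (2616, 3213), (2617, 3039), (2618, 3041), (2619, 2132), (2620, 3216), (2621, 3044), (2622,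 3219), (2623, 2623)]
    ⟨e3 q2560 (flp_e L39034) q2086, e3 q2561 (flp_e L53331) q3150, e3 q2562 L39052 q2088, e3 q2563 (flp_e L53359) q3153, e3 q2564 (flp_e L49565) q2975, e3 q2565 L39161 q2090, e3 q2566 L39168 q2091, e3 q2567 (flp_e L118088) q3115, e3 q2568 L53536 q3160, e3 q2569 L118781 q3113, e3 q2570 L53548 q3162, e3 q2571 (flp_e L39198) q2092, e3 q2572 (flp_e L53573) q3165, e3 q2573 (flp_e L49629) q2984, e3 q2574 (flp_e L49637) q2985, e3 q2575 L53640 q3170, e3 q2576 L53655 q3171, e3 q2577 (flp_e L39277) q2098, e3 q2578 (flp_e L53688) q3173, e3 q2579 (flp_e L53680) q3172, e3 q2580 L39307 q2101, e3 q2581 (flp_e L53721) q3177, e3 q2582 (flp_e L49783) q3001, e3 q2583 L53760 q3179, e3 q2584 (flp_e L49795) q3003, e3 q2585 (flp_e L39382) q2104, e3 q2586 (flp_e L39393) q2105, e3 q2587 L39412 q2108, e3 q2588 L39418 q2107, e3 q2589 (flp_e L53854) q3185, e3 q2590 (flp_e L53840) q3183, e3 q2591 (flp_e L53846) q3184, e3 q2592 L39443 q2110, e3 q2593 (flp_e L50016) q3021, e3 q2594 L39469 q2112, e3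 q2595 L39479 q2113, e3 q2596 L119161 q3094, e3 q2597 L53943 q3195, e3 q2598 L53949 q3196, e3 q2599 (flp_e L39510) q2114, e3 q2600 (flp_e L50108) q3027, e3 q2601 (flp_e L50116) q3028, e3 q2602 L54021 q3201, e3 q2603 L54028 q3202, e3 q2604 (flp_e L39570) q2119, e3 q2605 (flp_e L54042) q3203, e3 q2606 (flp_e L50284) q3031, e3 q2607 L54109 q3205, e3 q2608 (flp_e L50298) q3033, e3 q2609 (flp_e L39658) q2123, e3 q2610 (flp_e L39664) q2124, e3 q2611 L39676 q2126, e3 q2612 (flp_e L50540) q3035, e3 q2613 (flp_e L50549) q3036, e3 q2614 (flp_e L50556) q3037, e3 q2615 L39763 q2188, e3 q2616 L54265 q3213, e3 q2617 (flp_e L50607) q3039, e3 q2618 (flp_e L50622) q3041, e3 q2619 (flp_e L39786) q2132, e3 q2620 (flp_e L54290) q3216, e3 q2621 (flp_e L50738) q3044, e3 q2622 L54307 q3219, e3 q2623 L39819 q2623, trivial⟩ (by decide +kernel)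

theorem ce_e_41 : ∀ r, r < 64 → sm ge (Qf (2624 + r)) = Qf (tab Gen.e (2624 + r)) :=
  edges_tab (sm ge) Qf (tab Gen.e) 2624 [(2624, 3221), (2625, 2136), (2626, 3224), (2627, 2138), (2628, 3228), (2629, 3223), (2630, 2140), (2631, 3232), (2632, 2141), (2633, 3234), (2634, 2145), (2635, 2144), (2636, 3238), (2637, 3236), (2638, 3237), (2639, 2147), (2640, 2640), (2641, 2149), (2642, 3244), (2643, 2153), (2644, 2154), (2645, 2152), (2646, 3245), (2647, 3246), (2648, 2648), (2649, 2649), (2650, 2650), (2651, 2157), (2652, 3256), (2653, 2653), (2654, 2654), (2655, 2160), (2656, 2656), (2657, 2657), (2658, 2658), (2659, 2659), (2660, 2741), (2661, 2661), (2662, 2662), (2663, 2174), (2664, 2664), (2665, 2186), (2666, 3265), (2667, 3026), (2668, 3095), (2669, 2177), (2670, 2670), (2671, 2671), (2672, 2179), (2673, 3270), (2674, 2185), (2675, 3025), (2676, 3272), (2677, 2189), (2678, 3273), (2679, 2876), (2680, 2192), (2681, 3278), (2682, 3281), (2683, 2881), (2684, 2195), (2685, 3284), (2686,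 2686), (2687, 2198)]
    ⟨e3 q2624 L54325 q3221, e3 q2625 (flp_e L39830) q2136, e3 q2626 (flp_e L54352) q3224, e3 q2627 (flp_e L39845) q2138, e3 q2628 (flp_e L54379) q3228, e3 q2629 (flp_e L54344) q3223, e3 q2630 L39872 q2140, e3 q2631 (flp_e L54410) q3232, e3 q2632 (flp_e L39882) q2141, e3 q2633 (flp_e L54424) q3234, e3 q2634 L39903 q2145, e3 q2635 L39910 q2144, e3 q2636 (flp_e L54456) q3238, e3 q2637 (flp_e L54441) q3236, e3 q2638 (flp_e L54448) q3237, e3 q2639 L39938 q2147, e3 q2640 L39945 q2640, e3 q2641 L39950 q2149, e3 q2642 (flp_e L54498) q3244, e3 q2643 L39965 q2153, e3 q2644 L39971 q2154, e3 q2645 L39978 q2152, e3 q2646 (flp_e L54506) q3245, e3 q2647 (flp_e L54513) q3246, e3 q2648 L39997 q2648, e3 q2649 L40005 q2649, e3 q2650 L40013 q2650, e3 q2651 L40020 q2157, e3 q2652 (flp_e L54586) q3256, e3 q2653 L40037 q2653, e3 q2654 L40045 q2654, e3 q2655 L40053 q2160, e3 q2656 L40062 q2656, e3 q2657 L40071 q2657, e3 q2658 L40081 q2658, e3 q2659 L40086 q2659, e3 q2660 (flp_e L120942) q2741,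 e3 q2661 L40099 q2661, e3 q2662 L41620 q2662, e3 q2663 L112166 q2174, e3 q2664 L41666 q2664, e3 q2665 (flp_e L112245) q2186, e3 q2666 (flp_e L112265) q3265, e3 q2667 (flp_e L106395) q3026, e3 q2668 L118682 q3095, e3 q2669 L43395 q2177, e3 q2670 L82606 q2670, e3 q2671 L82689 q2671, e3 q2672 (flp_e L43429) q2179, e3 q2673 L59265 q3270, e3 q2674 (flp_e L43556) q2185, e3 q2675 (flp_e L112240) q3025, e3 q2676 L59645 q3272, e3 q2677 (flp_e L43752) q2189, e3 q2678 L60843 q3273, e3 q2679 (flp_e L48593) q2876, e3 q2680 (flp_e L44647) q2192, e3 q2681 (flp_e L60908) q3278, e3 q2682 L60935 q3281, e3 q2683 (flp_e L48638) q2881, e3 q2684 L44698 q2195, e3 q2685 (flp_e L60982) q3284, e3 q2686 L44724 q2686, e3 q2687 L44739 q2198, trivial⟩ (by decide +kernel)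

theorem ce_e_42 : ∀ r, r < 64 → sm ge (Qf (2688 + r)) = Qf (tab Gen.e (2688 + r)) :=
  edges_tab (sm ge) Qf (tab Gen.e) 2688 [(2688, 3288), (2689, 3287), (2690, 2199), (2691, 3291), (2692, 2692), (2693, 2202), (2694, 2694), (2695, 2205), (2696, 3297), (2697, 3301), (2698, 2947), (2699, 2699), (2700, 2208), (2701, 3306), (2702, 3305), (2703, 2209), (2704, 3309), (2705, 2212), (2706, 2706), (2707, 3313), (2708, 2216), (2709, 2215), (2710, 3316), (2711, 3315), (2712, 2218), (2713, 3320), (2714, 2714), (2715, 2715), (2716, 2716), (2717, 3325), (2718, 3052), (2719, 3327), (2720, 2224), (2721, 3330), (2722, 2226), (2723, 3333), (2724, 3332), (2725, 2229), (2726, 3337), (2727, 2232), (2728, 2231), (2729, 3340), (2730, 3338), (2731, 3339), (2732, 2234), (2733, 2733), (2734, 3346), (2735, 2735), (2736, 2236), (2737, 3351), (2738, 3352), (2739, 2739), (2740, 2239), (2741, 2660), (2742, 3355), (2743, 3359), (2744, 2744), (2745, 2242), (2746, 2243), (2747, 3361), (2748, 3363), (2749, 2749), (2750,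 2247), (2751, 2267)]
    ⟨e3 q2688 L61055 q3288, e3 q2689 (flp_e L61035) q3287, e3 q2690 (flp_e L44766) q2199, e3 q2691 (flp_e L61081) q3291, e3 q2692 L44799 q2692, e3 q2693 L44805 q2202, e3 q2694 L44856 q2694, e3 q2695 (flp_e L44857) q2205, e3 q2696 (flp_e L61200) q3297, e3 q2697 L61234 q3301, e3 q2698 (flp_e L49209) q2947, e3 q2699 L44898 q2699, e3 q2700 L44913 q2208, e3 q2701 L61311 q3306, e3 q2702 (flp_e L61290) q3305, e3 q2703 (flp_e L44941) q2209, e3 q2704 (flp_e L61341) q3309, e3 q2705 L44993 q2212, e3 q2706 L45017 q2706, e3 q2707 L61446 q3313, e3 q2708 L45037 q2216, e3 q2709 (flp_e L45054) q2215, e3 q2710 (flp_e L61481) q3316, e3 q2711 (flp_e L61475) q3315, e3 q2712 L45076 q2218, e3 q2713 (flp_e L61506) q3320, e3 q2714 L45186 q2714, e3 q2715 L45264 q2715, e3 q2716 L45424 q2716, e3 q2717 L62374 q3325, e3 q2718 (flp_e L98745) q3052, e3 q2719 L62389 q3327, e3 q2720 (flp_e L45713) q2224, e3 q2721 (flp_e L62417) q3330, e3 q2722 (flp_e L45799) q2226, e3 q2723 (flp_e L62537) q3333, e3 q2724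 (flp_e L62531) q3332, e3 q2725 L45823 q2229, e3 q2726 (flp_e L62565) q3337, e3 q2727 L45969 q2232, e3 q2728 L45974 q2231, e3 q2729 (flp_e L62792) q3340, e3 q2730 (flp_e L62779) q3338, e3 q2731 (flp_e L62785) q3339, e3 q2732 L45998 q2234, e3 q2733 L47180 q2733, e3 q2734 L64428 q3346, e3 q2735 L47198 q2735, e3 q2736 (flp_e L47200) q2236, e3 q2737 (flp_e L64475) q3351, e3 q2738 (flp_e L64482) q3352, e3 q2739 L47229 q2739, e3 q2740 (flp_e L47232) q2239, e3 q2741 L120942 q2660, e3 q2742 (flp_e L64523) q3355, e3 q2743 L64550 q3359, e3 q2744 L47266 q2744, e3 q2745 L47274 q2242, e3 q2746 L47281 q2243, e3 q2747 (flp_e L64578) q3361, e3 q2748 (flp_e L64594) q3363, e3 q2749 L47307 q2749, e3 q2750 L47312 q2247, e3 q2751 L47319 q2267, trivial⟩ (by decide +kernel)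

theorem ce_e_43 : ∀ r, r < 64 → sm ge (Qf (2752 + r)) = Qf (tab Gen.e (2752 + r)) :=
  edges_tab (sm ge) Qf (tab Gen.e) 2752 [(2752, 2248), (2753, 3367), (2754, 3370), (2755, 2361), (2756, 2250), (2757, 3376), (2758, 3377), (2759, 3381), (2760, 2366), (2761, 2253), (2762, 2254), (2763, 3384), (2764, 3386), (2765, 2765), (2766, 2257), (2767, 2258), (2768, 3391), (2769, 3396), (2770, 3393), (2771, 2259), (2772, 3399), (2773, 2773), (2774, 2263), (2775, 3362), (2776, 2264), (2777, 3403), (2778, 2778), (2779, 3366), (2780, 2269), (2781, 3368), (2782, 3369), (2783, 2270), (2784, 3414), (2785, 3415), (2786, 3420), (2787, 2418), (2788, 2788), (2789, 2273), (2790, 2274), (2791, 3425), (2792, 3430), (2793, 3427), (2794, 2275), (2795, 3433), (2796, 2796), (2797, 2279), (2798, 2798), (2799, 2280), (2800, 3437), (2801, 2801), (2802, 2802), (2803, 2803), (2804, 2284), (2805, 3448), (2806, 2286), (2807, 3450), (2808, 3446), (2809, 2285), (2810, 3453), (2811, 3452), (2812, 2288), (2813, 3457), (2814,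 2814), (2815, 2815)]
    ⟨e3 q2752 L47325 q2248, e3 q2753 (flp_e L64625) q3367, e3 q2754 L64644 q3370, e3 q2755 L47353 q2361, e3 q2756 (flp_e L47356) q2250, e3 q2757 (flp_e L64707) q3376, e3 q2758 (flp_e L64717) q3377, e3 q2759 L64747 q3381, e3 q2760 L47396 q2366, e3 q2761 L47406 q2253, e3 q2762 L47414 q2254, e3 q2763 (flp_e L64776) q3384, e3 q2764 (flp_e L64791) q3386, e3 q2765 L47442 q2765, e3 q2766 L47449 q2257, e3 q2767 L47459 q2258, e3 q2768 (flp_e L64841) q3391, e3 q2769 L64882 q3396, e3 q2770 (flp_e L64857) q3393, e3 q2771 (flp_e L47489) q2259, e3 q2772 (flp_e L64908) q3399, e3 q2773 L47511 q2773, e3 q2774 L47518 q2263, e3 q2775 (flp_e L64587) q3362, e3 q2776 L47533 q2264, e3 q2777 (flp_e L64939) q3403, e3 q2778 L47552 q2778, e3 q2779 (flp_e L64619) q3366, e3 q2780 L47566 q2269, e3 q2781 (flp_e L64632) q3368, e3 q2782 (flp_e L64641) q3369, e3 q2783 (flp_e L47585) q2270, e3 q2784 (flp_e L65024) q3414, e3 q2785 (flp_e L65032) q3415, e3 q2786 L65063 q3420, e3 q2787 L47617 q2418, e3 q2788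 L47632 q2788, e3 q2789 L47639 q2273, e3 q2790 L47649 q2274, e3 q2791 (flp_e L65115) q3425, e3 q2792 L65157 q3430, e3 q2793 (flp_e L65131) q3427, e3 q2794 (flp_e L47680) q2275, e3 q2795 (flp_e L65187) q3433, e3 q2796 L47705 q2796, e3 q2797 L47712 q2279, e3 q2798 L47722 q2798, e3 q2799 L47729 q2280, e3 q2800 (flp_e L65221) q3437, e3 q2801 L47751 q2801, e3 q2802 L47758 q2802, e3 q2803 L47767 q2803, e3 q2804 L47774 q2284, e3 q2805 L65306 q3448, e3 q2806 L47786 q2286, e3 q2807 L65316 q3450, e3 q2808 (flp_e L65294) q3446, e3 q2809 (flp_e L47808) q2285, e3 q2810 (flp_e L65339) q3453, e3 q2811 (flp_e L65334) q3452, e3 q2812 L47830 q2288, e3 q2813 (flp_e L65366) q3457, e3 q2814 L47844 q2814, e3 q2815 L47855 q2815, trivial⟩ (by decide +kernel)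

theorem ce_e_44 : ∀ r, r < 64 → sm ge (Qf (2816 + r)) = Qf (tab Gen.e (2816 + r)) :=
  edges_tab (sm ge) Qf (tab Gen.e) 2816 [(2816, 2293), (2817, 2817), (2818, 2818), (2819, 2819), (2820, 2820), (2821, 2821), (2822, 2822), (2823, 2823), (2824, 2824), (2825, 2300), (2826, 2301), (2827, 3471), (2828, 3475), (2829, 3470), (2830, 2830), (2831, 2831), (2832, 2832), (2833, 2833), (2834, 2309), (2835, 2307), (2836, 3484), (2837, 3485), (2838, 2308), (2839, 3486), (2840, 2840), (2841, 2841), (2842, 3489), (2843, 2843), (2844, 3494), (2845, 2845), (2846, 3497), (2847, 3499), (2848, 2318), (2849, 2319), (2850, 2321), (2851, 2851), (2852, 2852), (2853, 2853), (2854, 2854), (2855, 2855), (2856, 3505), (2857, 2857), (2858, 2327), (2859, 3509), (2860, 3510), (2861, 2861), (2862, 2330), (2863, 3513), (2864, 3515), (2865, 2865), (2866, 2333), (2867, 2334), (2868, 3518), (2869, 3520), (2870, 2870), (2871, 2338), (2872, 2357), (2873, 2339), (2874, 3524), (2875, 3527), (2876, 2679), (2877, 2341), (2878,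 3533), (2879, 3534)]
    ⟨e3 q2816 L47862 q2293, e3 q2817 L47870 q2817, e3 q2818 L47881 q2818, e3 q2819 L47894 q2819, e3 q2820 L47903 q2820, e3 q2821 L47912 q2821, e3 q2822 L47917 q2822, e3 q2823 L47926 q2823, e3 q2824 L47947 q2824, e3 q2825 L47953 q2300, e3 q2826 L47962 q2301, e3 q2827 (flp_e L65546) q3471, e3 q2828 L65596 q3475, e3 q2829 (flp_e L112121) q3470, e3 q2830 L47995 q2830, e3 q2831 L48007 q2831, e3 q2832 L48016 q2832, e3 q2833 L48023 q2833, e3 q2834 (flp_e L112132) q2309, e3 q2835 L48044 q2307, e3 q2836 L65704 q3484, e3 q2837 L65719 q3485, e3 q2838 (flp_e L48088) q2308, e3 q2839 (flp_e L65743) q3486, e3 q2840 L48131 q2840, e3 q2841 L48146 q2841, e3 q2842 L65815 q3489, e3 q2843 L48170 q2843, e3 q2844 L65853 q3494, e3 q2845 L48183 q2845, e3 q2846 L65893 q3497, e3 q2847 L65914 q3499, e3 q2848 (flp_e L48221) q2318, e3 q2849 (flp_e L48234) q2319, e3 q2850 L48255 q2321, e3 q2851 L48289 q2851, e3 q2852 L48303 q2852, e3 q2853 L48349 q2853, e3 q2854 L48370 q2854, e3 q2855 L48392 q2855,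 e3 q2856 L66151 q3505, e3 q2857 L48413 q2857, e3 q2858 (flp_e L48415) q2327, e3 q2859 (flp_e L66202) q3509, e3 q2860 (flp_e L66211) q3510, e3 q2861 L48452 q2861, e3 q2862 (flp_e L48455) q2330, e3 q2863 (flp_e L66257) q3513, e3 q2864 L66285 q3515, e3 q2865 L48491 q2865, e3 q2866 L48499 q2333, e3 q2867 L48506 q2334, e3 q2868 (flp_e L66314) q3518, e3 q2869 (flp_e L66330) q3520, e3 q2870 L48534 q2870, e3 q2871 L48541 q2338, e3 q2872 L48550 q2357, e3 q2873 L48558 q2339, e3 q2874 (flp_e L66367) q3524, e3 q2875 L66390 q3527, e3 q2876 L48593 q2679, e3 q2877 (flp_e L48596) q2341, e3 q2878 (flp_e L66464) q3533, e3 q2879 (flp_e L66474) q3534, trivial⟩ (by decide +kernel)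

theorem ce_e_45 : ∀ r, r < 64 → sm ge (Qf (2880 + r)) = Qf (tab Gen.e (2880 + r)) :=
  edges_tab (sm ge) Qf (tab Gen.e) 2880 [(2880, 3538), (2881, 2683), (2882, 2344), (2883, 2345), (2884, 3540), (2885, 3542), (2886, 2524), (2887, 2348), (2888, 2349), (2889, 3545), (2890, 3549), (2891, 3547), (2892, 2350), (2893, 3552), (2894, 2354), (2895, 3519), (2896, 2355), (2897, 3555), (2898, 3523), (2899, 2359), (2900, 3525), (2901, 3526), (2902, 2360), (2903, 3563), (2904, 3564), (2905, 3569), (2906, 3374), (2907, 2533), (2908, 2363), (2909, 2364), (2910, 3574), (2911, 3579), (2912, 3576), (2913, 2365), (2914, 3582), (2915, 2915), (2916, 2369), (2917, 2917), (2918, 2370), (2919, 3586), (2920, 2541), (2921, 2542), (2922, 2922), (2923, 2374), (2924, 3597), (2925, 2376), (2926, 3599), (2927, 3595), (2928, 2375), (2929, 3602), (2930, 3601), (2931, 2378), (2932, 3606), (2933, 2933), (2934, 2934), (2935, 2383), (2936, 2936), (2937, 2937), (2938, 2938), (2939, 2939), (2940, 2940), (2941, 2941), (2942,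 2942), (2943, 2389)]
    ⟨e3 q2880 L66505 q3538, e3 q2881 L48638 q2683, e3 q2882 L48650 q2344, e3 q2883 L48660 q2345, e3 q2884 (flp_e L66539) q3540, e3 q2885 (flp_e L66558) q3542, e3 q2886 L48692 q2524, e3 q2887 L48700 q2348, e3 q2888 L48710 q2349, e3 q2889 (flp_e L66612) q3545, e3 q2890 L66654 q3549, e3 q2891 (flp_e L66628) q3547, e3 q2892 (flp_e L48741) q2350, e3 q2893 (flp_e L66682) q3552, e3 q2894 L48771 q2354, e3 q2895 (flp_e L66323) q3519, e3 q2896 L48786 q2355, e3 q2897 (flp_e L66714) q3555, e3 q2898 (flp_e L66359) q3523, e3 q2899 L48825 q2359, e3 q2900 (flp_e L66376) q3525, e3 q2901 (flp_e L66387) q3526, e3 q2902 (flp_e L48848) q2360, e3 q2903 (flp_e L66812) q3563, e3 q2904 (flp_e L66820) q3564, e3 q2905 L66857 q3569, e3 q2906 (flp_e L64686) q3374, e3 q2907 L48892 q2533, e3 q2908 L48900 q2363, e3 q2909 L48908 q2364, e3 q2910 (flp_e L66904) q3574, e3 q2911 L66939 q3579, e3 q2912 (flp_e L66918) q3576, e3 q2913 (flp_e L48936) q2365, e3 q2914 (flp_e L66967) q3582, e3 q2915 L48957 q2915,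 e3 q2916 L48962 q2369, e3 q2917 L48970 q2917, e3 q2918 L48976 q2370, e3 q2919 (flp_e L66997) q3586, e3 q2920 L48993 q2541, e3 q2921 L49000 q2542, e3 q2922 L49008 q2922, e3 q2923 L49015 q2374, e3 q2924 L67072 q3597, e3 q2925 L49029 q2376, e3 q2926 L67084 q3599, e3 q2927 (flp_e L67064) q3595, e3 q2928 (flp_e L49050) q2375, e3 q2929 (flp_e L67117) q3602, e3 q2930 (flp_e L67110) q3601, e3 q2931 L49078 q2378, e3 q2932 (flp_e L67148) q3606, e3 q2933 L49093 q2933, e3 q2934 L49102 q2934, e3 q2935 L49108 q2383, e3 q2936 L49114 q2936, e3 q2937 L49122 q2937, e3 q2938 L49132 q2938, e3 q2939 L49147 q2939, e3 q2940 L49154 q2940, e3 q2941 L49162 q2941, e3 q2942 L49165 q2942, e3 q2943 (flp_e L49167) q2389, trivial⟩ (by decide +kernel)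

theorem ce_e_46 : ∀ r, r < 64 → sm ge (Qf (2944 + r)) = Qf (tab Gen.e (2944 + r)) :=
  edges_tab (sm ge) Qf (tab Gen.e) 2944 [(2944, 3618), (2945, 3619), (2946, 3624), (2947, 2698), (2948, 2555), (2949, 2392), (2950, 2393), (2951, 3628), (2952, 3633), (2953, 3630), (2954, 2394), (2955, 3636), (2956, 2398), (2957, 2957), (2958, 2399), (2959, 3638), (2960, 2525), (2961, 2559), (2962, 2403), (2963, 3646), (2964, 2405), (2965, 3544), (2966, 3644), (2967, 2404), (2968, 3650), (2969, 3649), (2970, 2407), (2971, 3654), (2972, 2411), (2973, 2973), (2974, 2974), (2975, 2564), (2976, 2415), (2977, 2416), (2978, 3660), (2979, 3666), (2980, 3662), (2981, 3668), (2982, 2417), (2983, 3671), (2984, 2573), (2985, 2574), (2986, 2986), (2987, 2422), (2988, 3680), (2989, 2424), (2990, 3682), (2991, 3678), (2992, 2423), (2993, 3685), (2994, 3684), (2995, 2426), (2996, 3689), (2997, 2431), (2998, 2493), (2999, 2494), (3000, 3692), (3001, 2582), (3002, 3697), (3003, 2584), (3004, 3699), (3005, 2439), (3006,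 3702), (3007, 2436)]
    ⟨e3 q2944 (flp_e L67275) q3618, e3 q2945 (flp_e L67285) q3619, e3 q2946 L67324 q3624, e3 q2947 L49209 q2698, e3 q2948 L49224 q2555, e3 q2949 L49232 q2392, e3 q2950 L49242 q2393, e3 q2951 (flp_e L67379) q3628, e3 q2952 L67422 q3633, e3 q2953 (flp_e L67395) q3630, e3 q2954 (flp_e L49274) q2394, e3 q2955 (flp_e L67454) q3636, e3 q2956 L49311 q2398, e3 q2957 L49323 q2957, e3 q2958 L49332 q2399, e3 q2959 (flp_e L67495) q3638, e3 q2960 (flp_e L119504) q2525, e3 q2961 L49364 q2559, e3 q2962 L49381 q2403, e3 q2963 L67584 q3646, e3 q2964 L49393 q2405, e3 q2965 (flp_e L119606) q3544, e3 q2966 (flp_e L67572) q3644, e3 q2967 (flp_e L49416) q2404, e3 q2968 (flp_e L67619) q3650, e3 q2969 (flp_e L67614) q3649, e3 q2970 L49440 q2407, e3 q2971 (flp_e L67648) q3654, e3 q2972 L49473 q2411, e3 q2973 L49481 q2973, e3 q2974 L49492 q2974, e3 q2975 L49565 q2564, e3 q2976 L49571 q2415, e3 q2977 L49577 q2416, e3 q2978 (flp_e L67830) q3660, e3 q2979 L67868 q3666, e3 q2980 (flp_e L67842) q3662,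 e3 q2981 L67882 q3668, e3 q2982 (flp_e L49607) q2417, e3 q2983 (flp_e L67908) q3671, e3 q2984 L49629 q2573, e3 q2985 L49637 q2574, e3 q2986 L49645 q2986, e3 q2987 L49652 q2422, e3 q2988 L67981 q3680, e3 q2989 L49666 q2424, e3 q2990 L67993 q3682, e3 q2991 (flp_e L67971) q3678, e3 q2992 (flp_e L49688) q2423, e3 q2993 (flp_e L68030) q3685, e3 q2994 (flp_e L68022) q3684, e3 q2995 L49720 q2426, e3 q2996 (flp_e L68065) q3689, e3 q2997 L49753 q2431, e3 q2998 L49761 q2493, e3 q2999 L49771 q2494, e3 q3000 L68127 q3692, e3 q3001 L49783 q2582, e3 q3002 L68160 q3697, e3 q3003 L49795 q2584, e3 q3004 L68187 q3699, e3 q3005 L49812 q2439, e3 q3006 L68203 q3702, e3 q3007 (flp_e L49820) q2436, trivial⟩ (by decide +kernel)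

theorem ce_e_47 : ∀ r, r < 64 → sm ge (Qf (3008 + r)) = Qf (tab Gen.e (3008 + r)) :=
  edges_tab (sm ge) Qf (tab Gen.e) 3008 [(3008, 3705), (3009, 2438), (3010, 3708), (3011, 2442), (3012, 2441), (3013, 3712), (3014, 3710), (3015, 3711), (3016, 2444), (3017, 2506), (3018, 2507), (3019, 2508), (3020, 2509), (3021, 2593), (3022, 2451), (3023, 2452), (3024, 3724), (3025, 2675), (3026, 2667), (3027, 2600), (3028, 2601), (3029, 3729), (3030, 2458), (3031, 2606), (3032, 3731), (3033, 2608), (3034, 2462), (3035, 2612), (3036, 2613), (3037, 2614), (3038, 3038), (3039, 2617), (3040, 3040), (3041, 2618), (3042, 3042), (3043, 2510), (3044, 2621), (3045, 3045), (3046, 3046), (3047, 3047), (3048, 2511), (3049, 3748), (3050, 2480), (3051, 3751), (3052, 2718), (3053, 3753), (3054, 2479), (3055, 3756), (3056, 2481), (3057, 3760), (3058, 3755), (3059, 2483), (3060, 3764), (3061, 3766), (3062, 2484), (3063, 3769), (3064, 2486), (3065, 3772), (3066, 2490), (3067, 2489), (3068, 3776), (3069, 3774), (3070,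 3775), (3071, 2492)]
    ⟨e3 q3008 (flp_e L68223) q3705, e3 q3009 (flp_e L49828) q2438, e3 q3010 (flp_e L68238) q3708, e3 q3011 L49851 q2442, e3 q3012 L49857 q2441, e3 q3013 (flp_e L68271) q3712, e3 q3014 (flp_e L68255) q3710, e3 q3015 (flp_e L68263) q3711, e3 q3016 L49884 q2444, e3 q3017 L49924 q2506, e3 q3018 L49934 q2507, e3 q3019 L49989 q2508, e3 q3020 L49997 q2509, e3 q3021 L50016 q2593, e3 q3022 L50025 q2451, e3 q3023 L50036 q2452, e3 q3024 L68556 q3724, e3 q3025 L112240 q2675, e3 q3026 L106395 q2667, e3 q3027 L50108 q2600, e3 q3028 L50116 q2601, e3 q3029 L68690 q3729, e3 q3030 (flp_e L50183) q2458, e3 q3031 L50284 q2606, e3 q3032 L68872 q3731, e3 q3033 L50298 q2608, e3 q3034 (flp_e L50337) q2462, e3 q3035 L50540 q2612, e3 q3036 L50549 q2613, e3 q3037 L50556 q2614, e3 q3038 L50579 q3038, e3 q3039 L50607 q2617, e3 q3040 L50615 q3040, e3 q3041 L50622 q2618, e3 q3042 L50655 q3042, e3 q3043 L50699 q2510, e3 q3044 L50738 q2621, e3 q3045 L50744 q3045, e3 q3046 L50752 q3046, e3 q3047 L50786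 q3047, e3 q3048 L50847 q2511, e3 q3049 L69734 q3748, e3 q3050 L50963 q2480, e3 q3051 L69758 q3751, e3 q3052 L98745 q2718, e3 q3053 L69777 q3753, e3 q3054 (flp_e L50993) q2479, e3 q3055 (flp_e L69805) q3756, e3 q3056 (flp_e L51009) q2481, e3 q3057 (flp_e L69834) q3760, e3 q3058 (flp_e L69798) q3755, e3 q3059 L51037 q2483, e3 q3060 (flp_e L69867) q3764, e3 q3061 L69923 q3766, e3 q3062 (flp_e L51085) q2484, e3 q3063 (flp_e L69953) q3769, e3 q3064 (flp_e L51099) q2486, e3 q3065 (flp_e L69973) q3772, e3 q3066 L51122 q2490, e3 q3067 L51128 q2489, e3 q3068 (flp_e L70007) q3776, e3 q3069 (flp_e L69991) q3774, e3 q3070 (flp_e L69999) q3775, e3 q3071 L51158 q2492, trivial⟩ (by decide +kernel)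

theorem ce_e_48 : ∀ r, r < 64 → sm ge (Qf (3072 + r)) = Qf (tab Gen.e (3072 + r)) :=
  edges_tab (sm ge) Qf (tab Gen.e) 3072 [(3072, 3690), (3073, 3691), (3074, 3783), (3075, 2495), (3076, 3786), (3077, 3077), (3078, 2497), (3079, 3790), (3080, 3080), (3081, 2499), (3082, 3793), (3083, 2503), (3084, 2504), (3085, 2502), (3086, 3794), (3087, 3795), (3088, 3088), (3089, 3716), (3090, 3717), (3091, 3718), (3092, 3743), (3093, 2513), (3094, 2596), (3095, 2668), (3096, 3802), (3097, 2516), (3098, 2517), (3099, 2552), (3100, 2551), (3101, 3806), (3102, 3102), (3103, 3532), (3104, 3626), (3105, 2522), (3106, 3809), (3107, 3496), (3108, 2527), (3109, 3811), (3110, 3562), (3111, 2529), (3112, 2530), (3113, 2569), (3114, 3818), (3115, 2567), (3116, 3820), (3117, 2531), (3118, 3823), (3119, 3571), (3120, 3572), (3121, 3828), (3122, 3829), (3123, 2537), (3124, 3831), (3125, 3830), (3126, 2540), (3127, 3835), (3128, 3590), (3129, 3836), (3130, 3592), (3131, 2543), (3132, 2544), (3133, 2547), (3134,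 2546), (3135, 3841)]
    ⟨e3 q3072 (flp_e L68107) q3690, e3 q3073 (flp_e L68117) q3691, e3 q3074 L70180 q3783, e3 q3075 (flp_e L51263) q2495, e3 q3076 (flp_e L70204) q3786, e3 q3077 L51281 q3077, e3 q3078 L51287 q2497, e3 q3079 (flp_e L70230) q3790, e3 q3080 L51300 q3080, e3 q3081 L51304 q2499, e3 q3082 (flp_e L70250) q3793, e3 q3083 L51320 q2503, e3 q3084 L51327 q2504, e3 q3085 L51334 q2502, e3 q3086 (flp_e L70259) q3794, e3 q3087 (flp_e L70266) q3795, e3 q3088 L51358 q3088, e3 q3089 (flp_e L68350) q3716, e3 q3090 (flp_e L68360) q3717, e3 q3091 (flp_e L68433) q3718, e3 q3092 (flp_e L69411) q3743, e3 q3093 L51866 q2513, e3 q3094 (flp_e L119161) q2596, e3 q3095 (flp_e L118682) q2668, e3 q3096 L71258 q3802, e3 q3097 (flp_e L52168) q2516, e3 q3098 (flp_e L52259) q2517, e3 q3099 L118766 q2552, e3 q3100 L118773 q2551, e3 q3101 L71563 q3806, e3 q3102 L52302 q3102, e3 q3103 (flp_e L66456) q3532, e3 q3104 (flp_e L119472) q3626, e3 q3105 (flp_e L52358) q2522, e3 q3106 (flp_e L71671) q3809, e3 q3107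 (flp_e L119459) q3496, e3 q3108 L52508 q2527, e3 q3109 (flp_e L71853) q3811, e3 q3110 (flp_e L66804) q3562, e3 q3111 L52622 q2529, e3 q3112 L52631 q2530, e3 q3113 (flp_e L118781) q2569, e3 q3114 L72061 q3818, e3 q3115 L118088 q2567, e3 q3116 L72077 q3820, e3 q3117 (flp_e L52668) q2531, e3 q3118 (flp_e L72108) q3823, e3 q3119 (flp_e L66882) q3571, e3 q3120 (flp_e L66889) q3572, e3 q3121 L72179 q3828, e3 q3122 L72192 q3829, e3 q3123 (flp_e L52747) q2537, e3 q3124 (flp_e L72221) q3831, e3 q3125 (flp_e L72214) q3830, e3 q3126 L52773 q2540, e3 q3127 (flp_e L72250) q3835, e3 q3128 (flp_e L67026) q3590, e3 q3129 L72349 q3836, e3 q3130 (flp_e L67041) q3592, e3 q3131 (flp_e L52885) q2543, e3 q3132 (flp_e L52898) q2544, e3 q3133 L52920 q2547, e3 q3134 L52927 q2546, e3 q3135 (flp_e L72480) q3841, trivial⟩ (by decide +kernel)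

theorem ce_e_49 : ∀ r, r < 64 → sm ge (Qf (3136 + r)) = Qf (tab Gen.e (3136 + r)) :=
  edges_tab (sm ge) Qf (tab Gen.e) 3136 [(3136, 3839), (3137, 3840), (3138, 2549), (3139, 3617), (3140, 3848), (3141, 3849), (3142, 2553), (3143, 3852), (3144, 3627), (3145, 2556), (3146, 3855), (3147, 2558), (3148, 3858), (3149, 3642), (3150, 2561), (3151, 3498), (3152, 3589), (3153, 2563), (3154, 3656), (3155, 3657), (3156, 3658), (3157, 3868), (3158, 3870), (3159, 3871), (3160, 2568), (3161, 3874), (3162, 2570), (3163, 3878), (3164, 3873), (3165, 2572), (3166, 3882), (3167, 3674), (3168, 3884), (3169, 3676), (3170, 2575), (3171, 2576), (3172, 2579), (3173, 2578), (3174, 3890), (3175, 3888), (3176, 3889), (3177, 2581), (3178, 3695), (3179, 2583), (3180, 3895), (3181, 3181), (3182, 3182), (3183, 2590), (3184, 2591), (3185, 2589), (3186, 3898), (3187, 3899), (3188, 3861), (3189, 3719), (3190, 3720), (3191, 3721), (3192, 3910), (3193, 3912), (3194, 3913), (3195, 2597), (3196, 2598), (3197, 3914), (3198,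 3726), (3199, 3918)]
    ⟨e3 q3136 (flp_e L72464) q3839, e3 q3137 (flp_e L72471) q3840, e3 q3138 L52956 q2549, e3 q3139 (flp_e L67267) q3617, e3 q3140 L72646 q3848, e3 q3141 L72658 q3849, e3 q3142 (flp_e L53082) q2553, e3 q3143 (flp_e L72681) q3852, e3 q3144 (flp_e L67358) q3627, e3 q3145 (flp_e L53167) q2556, e3 q3146 (flp_e L72796) q3855, e3 q3147 L53193 q2558, e3 q3148 (flp_e L72834) q3858, e3 q3149 (flp_e L67549) q3642, e3 q3150 L53331 q2561, e3 q3151 (flp_e L120864) q3498, e3 q3152 (flp_e L119451) q3589, e3 q3153 L53359 q2563, e3 q3154 (flp_e L67803) q3656, e3 q3155 (flp_e L67813) q3657, e3 q3156 (flp_e L67819) q3658, e3 q3157 L73245 q3868, e3 q3158 L73266 q3870, e3 q3159 L73281 q3871, e3 q3160 (flp_e L53536) q2568, e3 q3161 (flp_e L73306) q3874, e3 q3162 (flp_e L53548) q2570, e3 q3163 (flp_e L73333) q3878, e3 q3164 (flp_e L73300) q3873, e3 q3165 L53573 q2572, e3 q3166 (flp_e L73360) q3882, e3 q3167 (flp_e L67932) q3674, e3 q3168 L73397 q3884, e3 q3169 (flp_e L67948) q3676, e3 q3170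 (flp_e L53640) q2575, e3 q3171 (flp_e L53655) q2576, e3 q3172 L53680 q2579, e3 q3173 L53688 q2578, e3 q3174 (flp_e L73521) q3890, e3 q3175 (flp_e L73503) q3888, e3 q3176 (flp_e L73511) q3889, e3 q3177 L53721 q2581, e3 q3178 (flp_e L68150) q3695, e3 q3179 (flp_e L53760) q2583, e3 q3180 (flp_e L73592) q3895, e3 q3181 L53804 q3181, e3 q3182 L53820 q3182, e3 q3183 L53840 q2590, e3 q3184 L53846 q2591, e3 q3185 L53854 q2589, e3 q3186 (flp_e L73677) q3898, e3 q3187 (flp_e L73685) q3899, e3 q3188 (flp_e L73056) q3861, e3 q3189 (flp_e L68450) q3719, e3 q3190 (flp_e L68465) q3720, e3 q3191 (flp_e L68474) q3721, e3 q3192 L73782 q3910, e3 q3193 L73800 q3912, e3 q3194 L73808 q3913, e3 q3195 (flp_e L53943) q2597, e3 q3196 (flp_e L53949) q2598, e3 q3197 (flp_e L73821) q3914, e3 q3198 (flp_e L68630) q3726, e3 q3199 L73888 q3918, trivial⟩ (by decide +kernel)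

theorem ce_e_50 : ∀ r, r < 64 → sm ge (Qf (3200 + r)) = Qf (tab Gen.e (3200 + r)) :=
  edges_tab (sm ge) Qf (tab Gen.e) 3200 [(3200, 3728), (3201, 2602), (3202, 2603), (3203, 2605), (3204, 3730), (3205, 2607), (3206, 3922), (3207, 3207), (3208, 3733), (3209, 3734), (3210, 3927), (3211, 3735), (3212, 3737), (3213, 2616), (3214, 3930), (3215, 3739), (3216, 2620), (3217, 3932), (3218, 3933), (3219, 2622), (3220, 3936), (3221, 2624), (3222, 3940), (3223, 2629), (3224, 2626), (3225, 3944), (3226, 3226), (3227, 3939), (3228, 2628), (3229, 3950), (3230, 3942), (3231, 3943), (3232, 2631), (3233, 3233), (3234, 2633), (3235, 3957), (3236, 2637), (3237, 2638), (3238, 2636), (3239, 3958), (3240, 3959), (3241, 3241), (3242, 3242), (3243, 3243), (3244, 2642), (3245, 2646), (3246, 2647), (3247, 3247), (3248, 3967), (3249, 3356), (3250, 3250), (3251, 3970), (3252, 3252), (3253, 3253), (3254, 3254), (3255, 3255), (3256, 2652), (3257, 3979), (3258, 3258), (3259, 3259), (3260, 3260), (3261, 3261), (3262,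 3347), (3263, 3263)]
    ⟨e3 q3200 (flp_e L68646) q3728, e3 q3201 (flp_e L54021) q2602, e3 q3202 (flp_e L54028) q2603, e3 q3203 L54042 q2605, e3 q3204 (flp_e L68860) q3730, e3 q3205 (flp_e L54109) q2607, e3 q3206 (flp_e L74069) q3922, e3 q3207 L54162 q3207, e3 q3208 (flp_e L69187) q3733, e3 q3209 (flp_e L69194) q3734, e3 q3210 L74219 q3927, e3 q3211 (flp_e L69208) q3735, e3 q3212 (flp_e L69225) q3737, e3 q3213 (flp_e L54265) q2616, e3 q3214 (flp_e L74248) q3930, e3 q3215 (flp_e L69292) q3739, e3 q3216 L54290 q2620, e3 q3217 (flp_e L74269) q3932, e3 q3218 L74272 q3933, e3 q3219 (flp_e L54307) q2622, e3 q3220 (flp_e L74301) q3936, e3 q3221 (flp_e L54325) q2624, e3 q3222 (flp_e L74331) q3940, e3 q3223 L54344 q2629, e3 q3224 L54352 q2626, e3 q3225 (flp_e L74363) q3944, e3 q3226 L54368 q3226, e3 q3227 (flp_e L74324) q3939, e3 q3228 L54379 q2628, e3 q3229 (flp_e L74406) q3950, e3 q3230 (flp_e L74346) q3942, e3 q3231 (flp_e L74354) q3943, e3 q3232 L54410 q2631, e3 q3233 L54418 q3233, e3 q3234 L54424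 q2633, e3 q3235 (flp_e L74461) q3957, e3 q3236 L54441 q2637, e3 q3237 L54448 q2638, e3 q3238 L54456 q2636, e3 q3239 (flp_e L74470) q3958, e3 q3240 (flp_e L74478) q3959, e3 q3241 L54478 q3241, e3 q3242 L54485 q3242, e3 q3243 L54492 q3243, e3 q3244 L54498 q2642, e3 q3245 L54506 q2646, e3 q3246 L54513 q2647, e3 q3247 L54520 q3247, e3 q3248 (flp_e L74536) q3967, e3 q3249 (flp_e L120951) q3356, e3 q3250 L54537 q3250, e3 q3251 L74577 q3970, e3 q3252 L54551 q3252, e3 q3253 L54560 q3253, e3 q3254 L54568 q3254, e3 q3255 L54577 q3255, e3 q3256 L54586 q2652, e3 q3257 L74644 q3979, e3 q3258 L54604 q3258, e3 q3259 L54613 q3259, e3 q3260 L54624 q3260, e3 q3261 L54630 q3261, e3 q3262 (flp_e L120958) q3347, e3 q3263 L54646 q3263, trivial⟩ (by decide +kernel)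

theorem ce_e_51 : ∀ r, r < 64 → sm ge (Qf (3264 + r)) = Qf (tab Gen.e (3264 + r)) :=
  edges_tab (sm ge) Qf (tab Gen.e) 3264 [(3264, 3264), (3265, 2666), (3266, 3725), (3267, 3985), (3268, 3268), (3269, 3269), (3270, 2673), (3271, 3986), (3272, 2676), (3273, 2678), (3274, 3988), (3275, 3992), (3276, 3531), (3277, 3277), (3278, 2681), (3279, 3997), (3280, 3996), (3281, 2682), (3282, 4000), (3283, 3283), (3284, 2685), (3285, 3285), (3286, 4007), (3287, 2689), (3288, 2688), (3289, 4010), (3290, 4009), (3291, 2691), (3292, 4014), (3293, 3293), (3294, 3294), (3295, 3295), (3296, 3296), (3297, 2696), (3298, 4022), (3299, 4020), (3300, 4024), (3301, 2697), (3302, 4027), (3303, 3303), (3304, 4031), (3305, 2702), (3306, 2701), (3307, 4034), (3308, 4033), (3309, 2704), (3310, 4038), (3311, 4039), (3312, 3312), (3313, 2707), (3314, 4042), (3315, 2711), (3316, 2710), (3317, 4046), (3318, 4044), (3319, 4045), (3320, 2713), (3321, 3321), (3322, 3322), (3323, 3323), (3324, 4052), (3325, 2717), (3326,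 4055), (3327, 2719)]
    ⟨e3 q3264 L56768 q3264, e3 q3265 L112265 q2666, e3 q3266 (flp_e L120736) q3725, e3 q3267 L121083 q3985, e3 q3268 L120730 q3268, e3 q3269 L59249 q3269, e3 q3270 (flp_e L59265) q2673, e3 q3271 L121092 q3986, e3 q3272 (flp_e L59645) q2676, e3 q3273 (flp_e L60843) q2678, e3 q3274 (flp_e L121118) q3988, e3 q3275 L121148 q3992, e3 q3276 (flp_e L66442) q3531, e3 q3277 L60893 q3277, e3 q3278 L60908 q2681, e3 q3279 L121183 q3997, e3 q3280 (flp_e L121181) q3996, e3 q3281 (flp_e L60935) q2682, e3 q3282 (flp_e L121209) q4000, e3 q3283 L60974 q3283, e3 q3284 L60982 q2685, e3 q3285 L61007 q3285, e3 q3286 L121250 q4007, e3 q3287 L61035 q2689, e3 q3288 (flp_e L61055) q2688, e3 q3289 (flp_e L121275) q4010, e3 q3290 (flp_e L121268) q4009, e3 q3291 L61081 q2691, e3 q3292 (flp_e L121304) q4014, e3 q3293 L61116 q3293, e3 q3294 L61124 q3294, e3 q3295 L61179 q3295, e3 q3296 L61185 q3296, e3 q3297 L61200 q2696, e3 q3298 L121352 q4022, e3 q3299 (flp_e L121341) q4020, e3 q3300 L121365 q4024,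 e3 q3301 (flp_e L61234) q2697, e3 q3302 (flp_e L121391) q4027, e3 q3303 L61262 q3303, e3 q3304 L121413 q4031, e3 q3305 L61290 q2702, e3 q3306 (flp_e L61311) q2701, e3 q3307 (flp_e L121440) q4034, e3 q3308 (flp_e L121432) q4033, e3 q3309 L61341 q2704, e3 q3310 (flp_e L121473) q4038, e3 q3311 L121477 q4039, e3 q3312 L61422 q3312, e3 q3313 (flp_e L61446) q2707, e3 q3314 (flp_e L121494) q4042, e3 q3315 L61475 q2711, e3 q3316 L61481 q2710, e3 q3317 (flp_e L121517) q4046, e3 q3318 (flp_e L121502) q4044, e3 q3319 (flp_e L121509) q4045, e3 q3320 L61506 q2713, e3 q3321 L61645 q3321, e3 q3322 L61661 q3322, e3 q3323 L61784 q3323, e3 q3324 L121550 q4052, e3 q3325 (flp_e L62374) q2717, e3 q3326 (flp_e L121578) q4055, e3 q3327 (flp_e L62389) q2719, trivial⟩ (by decide +kernel)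

theorem ce_e_52 : ∀ r, r < 64 → sm ge (Qf (3328 + r)) = Qf (tab Gen.e (3328 + r)) :=
  edges_tab (sm ge) Qf (tab Gen.e) 3328 [(3328, 4059), (3329, 4054), (3330, 2721), (3331, 4063), (3332, 2724), (3333, 2723), (3334, 4066), (3335, 4064), (3336, 4065), (3337, 2726), (3338, 2730), (3339, 2731), (3340, 2729), (3341, 4070), (3342, 4071), (3343, 3343), (3344, 4076), (3345, 3345), (3346, 2734), (3347, 3262), (3348, 4080), (3349, 4084), (3350, 3350), (3351, 2737), (3352, 2738), (3353, 4086), (3354, 4088), (3355, 2742), (3356, 3249), (3357, 4093), (3358, 4090), (3359, 2743), (3360, 4096), (3361, 2747), (3362, 2775), (3363, 2748), (3364, 4099), (3365, 3365), (3366, 2779), (3367, 2753), (3368, 2781), (3369, 2782), (3370, 2754), (3371, 4110), (3372, 4111), (3373, 4116), (3374, 2906), (3375, 3375), (3376, 2757), (3377, 2758), (3378, 4121), (3379, 4126), (3380, 4123), (3381, 2759), (3382, 4129), (3383, 3383), (3384, 2763), (3385, 4087), (3386, 2764), (3387, 4133), (3388, 3388), (3389, 3389), (3390,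 3390), (3391, 2768)]
    ⟨e3 q3328 (flp_e L121607) q4059, e3 q3329 (flp_e L121571) q4054, e3 q3330 L62417 q2721, e3 q3331 (flp_e L121638) q4063, e3 q3332 L62531 q2724, e3 q3333 L62537 q2723, e3 q3334 (flp_e L121661) q4066, e3 q3335 (flp_e L121646) q4064, e3 q3336 (flp_e L121653) q4065, e3 q3337 L62565 q2726, e3 q3338 L62779 q2730, e3 q3339 L62785 q2731, e3 q3340 L62792 q2729, e3 q3341 (flp_e L121690) q4070, e3 q3342 (flp_e L121697) q4071, e3 q3343 L62813 q3343, e3 q3344 L121727 q4076, e3 q3345 L64426 q3345, e3 q3346 (flp_e L64428) q2734, e3 q3347 L120958 q3262, e3 q3348 (flp_e L121766) q4080, e3 q3349 L121802 q4084, e3 q3350 L64467 q3350, e3 q3351 L64475 q2737, e3 q3352 L64482 q2738, e3 q3353 (flp_e L121826) q4086, e3 q3354 (flp_e L121844) q4088, e3 q3355 L64523 q2742, e3 q3356 L120951 q3249, e3 q3357 L121893 q4093, e3 q3358 (flp_e L121865) q4090, e3 q3359 (flp_e L64550) q2743, e3 q3360 (flp_e L121925) q4096, e3 q3361 L64578 q2747, e3 q3362 L64587 q2775, e3 q3363 L64594 q2748, e3 q3364 (flp_e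 L121955) q4099, e3 q3365 L64611 q3365, e3 q3366 L64619 q2779, e3 q3367 L64625 q2753, e3 q3368 L64632 q2781, e3 q3369 L64641 q2782, e3 q3370 (flp_e L64644) q2754, e3 q3371 (flp_e L122054) q4110, e3 q3372 (flp_e L122064) q4111, e3 q3373 L122102 q4116, e3 q3374 L64686 q2906, e3 q3375 L64700 q3375, e3 q3376 L64707 q2757, e3 q3377 L64717 q2758, e3 q3378 (flp_e L122156) q4121, e3 q3379 L122197 q4126, e3 q3380 (flp_e L122172) q4123, e3 q3381 (flp_e L64747) q2759, e3 q3382 (flp_e L122223) q4129, e3 q3383 L64769 q3383, e3 q3384 L64776 q2763, e3 q3385 (flp_e L121837) q4087, e3 q3386 L64791 q2764, e3 q3387 (flp_e L122254) q4133, e3 q3388 L64813 q3388, e3 q3389 L64821 q3389, e3 q3390 L64832 q3390, e3 q3391 L64841 q2768, trivial⟩ (by decide +kernel)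

theorem ce_e_53 : ∀ r, r < 64 → sm ge (Qf (3392 + r)) = Qf (tab Gen.e (3392 + r)) :=
  edges_tab (sm ge) Qf (tab Gen.e) 3392 [(3392, 4144), (3393, 2770), (3394, 4146), (3395, 4142), (3396, 2769), (3397, 4149), (3398, 4148), (3399, 2772), (3400, 4153), (3401, 3401), (3402, 4098), (3403, 2777), (3404, 4100), (3405, 4101), (3406, 4161), (3407, 3407), (3408, 4104), (3409, 4105), (3410, 4106), (3411, 4107), (3412, 4108), (3413, 3413), (3414, 2784), (3415, 2785), (3416, 4173), (3417, 4179), (3418, 4175), (3419, 4181), (3420, 2786), (3421, 4184), (3422, 3422), (3423, 3423), (3424, 3424), (3425, 2791), (3426, 4194), (3427, 2793), (3428, 4196), (3429, 4192), (3430, 2792), (3431, 4199), (3432, 4198), (3433, 2795), (3434, 4203), (3435, 3435), (3436, 3436), (3437, 2800), (3438, 3438), (3439, 3439), (3440, 4209), (3441, 3441), (3442, 4214), (3443, 3443), (3444, 3444), (3445, 4219), (3446, 2808), (3447, 4222), (3448, 2805), (3449, 4225), (3450, 2807), (3451, 4228), (3452, 2811), (3453, 2810), (3454,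 4232), (3455, 4230)]
    ⟨e3 q3392 L122349 q4144, e3 q3393 L64857 q2770, e3 q3394 L122363 q4146, e3 q3395 (flp_e L122337) q4142, e3 q3396 (flp_e L64882) q2769, e3 q3397 (flp_e L122394) q4149, e3 q3398 (flp_e L122388) q4148, e3 q3399 L64908 q2772, e3 q3400 (flp_e L122425) q4153, e3 q3401 L64923 q3401, e3 q3402 (flp_e L121946) q4098, e3 q3403 L64939 q2777, e3 q3404 (flp_e L121964) q4100, e3 q3405 (flp_e L121978) q4101, e3 q3406 L122486 q4161, e3 q3407 L64969 q3407, e3 q3408 (flp_e L122001) q4104, e3 q3409 (flp_e L122011) q4105, e3 q3410 (flp_e L122018) q4106, e3 q3411 (flp_e L122027) q4107, e3 q3412 (flp_e L122032) q4108, e3 q3413 L65019 q3413, e3 q3414 L65024 q2784, e3 q3415 L65032 q2785, e3 q3416 (flp_e L122594) q4173, e3 q3417 L122637 q4179, e3 q3418 (flp_e L122608) q4175, e3 q3419 L122650 q4181, e3 q3420 (flp_e L65063) q2786, e3 q3421 (flp_e L122676) q4184, e3 q3422 L65086 q3422, e3 q3423 L65095 q3423, e3 q3424 L65106 q3424, e3 q3425 L65115 q2791, e3 q3426 L122764 q4194, e3 q3427 L65131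 q2793, e3 q3428 L122778 q4196, e3 q3429 (flp_e L122750) q4192, e3 q3430 (flp_e L65157) q2792, e3 q3431 (flp_e L122809) q4199, e3 q3432 (flp_e L122802) q4198, e3 q3433 L65187 q2795, e3 q3434 (flp_e L122844) q4203, e3 q3435 L65203 q3435, e3 q3436 L65214 q3436, e3 q3437 L65221 q2800, e3 q3438 L65231 q3438, e3 q3439 L65242 q3439, e3 q3440 L122903 q4209, e3 q3441 L65259 q3441, e3 q3442 L122946 q4214, e3 q3443 L65272 q3443, e3 q3444 L65281 q3444, e3 q3445 L122984 q4219, e3 q3446 L65294 q2808, e3 q3447 L123002 q4222, e3 q3448 (flp_e L65306) q2805, e3 q3449 (flp_e L123025) q4225, e3 q3450 (flp_e L65316) q2807, e3 q3451 (flp_e L123043) q4228, e3 q3452 L65334 q2811, e3 q3453 L65339 q2810, e3 q3454 (flp_e L123072) q4232, e3 q3455 (flp_e L123059) q4230, trivial⟩ (by decide +kernel)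

theorem ce_e_54 : ∀ r, r < 64 → sm ge (Qf (3456 + r)) = Qf (tab Gen.e (3456 + r)) :=
  edges_tab (sm ge) Qf (tab Gen.e) 3456 [(3456, 4231), (3457, 2813), (3458, 3458), (3459, 3459), (3460, 3460), (3461, 3461), (3462, 3462), (3463, 3463), (3464, 3464), (3465, 3465), (3466, 3466), (3467, 3467), (3468, 3468), (3469, 3469), (3470, 2829), (3471, 2827), (3472, 4251), (3473, 4253), (3474, 4254), (3475, 2828), (3476, 4256), (3477, 3477), (3478, 4257), (3479, 3479), (3480, 4262), (3481, 3481), (3482, 4265), (3483, 4267), (3484, 2836), (3485, 2837), (3486, 2839), (3487, 3487), (3488, 3488), (3489, 2842), (3490, 4270), (3491, 4273), (3492, 3492), (3493, 4276), (3494, 2844), (3495, 4278), (3496, 3107), (3497, 2846), (3498, 3151), (3499, 2847), (3500, 3500), (3501, 3501), (3502, 3502), (3503, 4281), (3504, 3504), (3505, 2856), (3506, 4285), (3507, 4287), (3508, 3508), (3509, 2859), (3510, 2860), (3511, 4289), (3512, 4291), (3513, 2863), (3514, 4293), (3515, 2864), (3516, 4294), (3517, 3517), (3518,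 2868), (3519, 2895)]
    ⟨e3 q3456 (flp_e L123065) q4231, e3 q3457 L65366 q2813, e3 q3458 L65384 q3458, e3 q3459 L65393 q3459, e3 q3460 L65404 q3460, e3 q3461 L65409 q3461, e3 q3462 L65420 q3462, e3 q3463 L65460 q3463, e3 q3464 L65469 q3464, e3 q3465 L65483 q3465, e3 q3466 L65492 q3466, e3 q3467 L65507 q3467, e3 q3468 L65519 q3468, e3 q3469 L65527 q3469, e3 q3470 L112121 q2829, e3 q3471 L65546 q2827, e3 q3472 L123236 q4251, e3 q3473 L123255 q4253, e3 q3474 L123267 q4254, e3 q3475 (flp_e L65596) q2828, e3 q3476 (flp_e L123294) q4256, e3 q3477 L65618 q3477, e3 q3478 L123301 q4257, e3 q3479 L65646 q3479, e3 q3480 L123349 q4262, e3 q3481 L65661 q3481, e3 q3482 L123379 q4265, e3 q3483 L123399 q4267, e3 q3484 (flp_e L65704) q2836, e3 q3485 (flp_e L65719) q2837, e3 q3486 L65743 q2839, e3 q3487 L65780 q3487, e3 q3488 L65794 q3488, e3 q3489 (flp_e L65815) q2842, e3 q3490 (flp_e L123430) q4270, e3 q3491 L123460 q4273, e3 q3492 L65842 q3492, e3 q3493 L123494 q4276, e3 q3494 (flp_e L65853) q2844, e3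 q3495 (flp_e L123517) q4278, e3 q3496 L119459 q3107, e3 q3497 (flp_e L65893) q2846, e3 q3498 L120864 q3151, e3 q3499 (flp_e L65914) q2847, e3 q3500 L66005 q3500, e3 q3501 L66030 q3501, e3 q3502 L66092 q3502, e3 q3503 L123544 q4281, e3 q3504 L66149 q3504, e3 q3505 (flp_e L66151) q2856, e3 q3506 (flp_e L123596) q4285, e3 q3507 L123614 q4287, e3 q3508 L66192 q3508, e3 q3509 L66202 q2859, e3 q3510 L66211 q2860, e3 q3511 (flp_e L123645) q4289, e3 q3512 (flp_e L123665) q4291, e3 q3513 L66257 q2863, e3 q3514 (flp_e L123688) q4293, e3 q3515 (flp_e L66285) q2864, e3 q3516 (flp_e L123700) q4294, e3 q3517 L66308 q3517, e3 q3518 L66314 q2868, e3 q3519 L66323 q2895, trivial⟩ (by decide +kernel)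

theorem ce_e_55 : ∀ r, r < 64 → sm ge (Qf (3520 + r)) = Qf (tab Gen.e (3520 + r)) :=
  edges_tab (sm ge) Qf (tab Gen.e) 3520 [(3520, 2869), (3521, 4297), (3522, 3522), (3523, 2898), (3524, 2874), (3525, 2900), (3526, 2901), (3527, 2875), (3528, 4307), (3529, 4308), (3530, 4313), (3531, 3276), (3532, 3103), (3533, 2878), (3534, 2879), (3535, 4316), (3536, 4320), (3537, 4318), (3538, 2880), (3539, 4323), (3540, 2884), (3541, 4290), (3542, 2885), (3543, 4326), (3544, 2965), (3545, 2889), (3546, 4334), (3547, 2891), (3548, 4332), (3549, 2890), (3550, 4336), (3551, 4272), (3552, 2893), (3553, 4338), (3554, 4296), (3555, 2897), (3556, 4298), (3557, 4299), (3558, 4302), (3559, 4303), (3560, 4304), (3561, 4305), (3562, 3110), (3563, 2903), (3564, 2904), (3565, 4352), (3566, 4358), (3567, 4354), (3568, 4360), (3569, 2905), (3570, 4363), (3571, 3119), (3572, 3120), (3573, 3573), (3574, 2910), (3575, 4373), (3576, 2912), (3577, 4375), (3578, 4371), (3579, 2911), (3580, 4378), (3581, 4377), (3582,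 2914), (3583, 4382)]
    ⟨e3 q3520 L66330 q2869, e3 q3521 (flp_e L123730) q4297, e3 q3522 L66349 q3522, e3 q3523 L66359 q2898, e3 q3524 L66367 q2874, e3 q3525 L66376 q2900, e3 q3526 L66387 q2901, e3 q3527 (flp_e L66390) q2875, e3 q3528 (flp_e L123828) q4307, e3 q3529 (flp_e L123840) q4308, e3 q3530 L123890 q4313, e3 q3531 L66442 q3276, e3 q3532 L66456 q3103, e3 q3533 L66464 q2878, e3 q3534 L66474 q2879, e3 q3535 (flp_e L123927) q4316, e3 q3536 L123962 q4320, e3 q3537 (flp_e L123943) q4318, e3 q3538 (flp_e L66505) q2880, e3 q3539 (flp_e L124000) q4323, e3 q3540 L66539 q2884, e3 q3541 (flp_e L123656) q4290, e3 q3542 L66558 q2885, e3 q3543 (flp_e L124031) q4326, e3 q3544 L119606 q2965, e3 q3545 L66612 q2889, e3 q3546 L124107 q4334, e3 q3547 L66628 q2891, e3 q3548 (flp_e L124095) q4332, e3 q3549 (flp_e L66654) q2890, e3 q3550 (flp_e L124131) q4336, e3 q3551 L123458 q4272, e3 q3552 L66682 q2893, e3 q3553 (flp_e L124151) q4338, e3 q3554 (flp_e L123721) q4296, e3 q3555 L66714 q2897, e3 q3556 (flp_e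 L123737) q4298, e3 q3557 (flp_e L123747) q4299, e3 q3558 (flp_e L123774) q4302, e3 q3559 (flp_e L123781) q4303, e3 q3560 (flp_e L123792) q4304, e3 q3561 (flp_e L123799) q4305, e3 q3562 L66804 q3110, e3 q3563 L66812 q2903, e3 q3564 L66820 q2904, e3 q3565 (flp_e L124268) q4352, e3 q3566 L124315 q4358, e3 q3567 (flp_e L124284) q4354, e3 q3568 L124333 q4360, e3 q3569 (flp_e L66857) q2905, e3 q3570 (flp_e L124365) q4363, e3 q3571 L66882 q3119, e3 q3572 L66889 q3120, e3 q3573 L66897 q3573, e3 q3574 L66904 q2910, e3 q3575 L124441 q4373, e3 q3576 L66918 q2912, e3 q3577 L124453 q4375, e3 q3578 (flp_e L124431) q4371, e3 q3579 (flp_e L66939) q2911, e3 q3580 (flp_e L124488) q4378, e3 q3581 (flp_e L124481) q4377, e3 q3582 L66967 q2914, e3 q3583 (flp_e L124523) q4382, trivial⟩ (by decide +kernel)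

theorem ce_e_56 : ∀ r, r < 64 → sm ge (Qf (3584 + r)) = Qf (tab Gen.e (3584 + r)) :=
  edges_tab (sm ge) Qf (tab Gen.e) 3584 [(3584, 3584), (3585, 3585), (3586, 2919), (3587, 3587), (3588, 3588), (3589, 3152), (3590, 3128), (3591, 4393), (3592, 3130), (3593, 3593), (3594, 4398), (3595, 2927), (3596, 4401), (3597, 2924), (3598, 4404), (3599, 2926), (3600, 4407), (3601, 2930), (3602, 2929), (3603, 4410), (3604, 4408), (3605, 4409), (3606, 2932), (3607, 3607), (3608, 3608), (3609, 3609), (3610, 3610), (3611, 3611), (3612, 3612), (3613, 3613), (3614, 3614), (3615, 3615), (3616, 3616), (3617, 3139), (3618, 2944), (3619, 2945), (3620, 4424), (3621, 4430), (3622, 4426), (3623, 4432), (3624, 2946), (3625, 4435), (3626, 3104), (3627, 3144), (3628, 2951), (3629, 4442), (3630, 2953), (3631, 4315), (3632, 4440), (3633, 2952), (3634, 4446), (3635, 4445), (3636, 2955), (3637, 4450), (3638, 2959), (3639, 3639), (3640, 3640), (3641, 4331), (3642, 3149), (3643, 4329), (3644, 2966), (3645, 4456), (3646,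 2963), (3647, 4459)]
    ⟨e3 q3584 L66982 q3584, e3 q3585 L66991 q3585, e3 q3586 L66997 q2919, e3 q3587 L67005 q3587, e3 q3588 L67013 q3588, e3 q3589 L119451 q3152, e3 q3590 L67026 q3128, e3 q3591 L124606 q4393, e3 q3592 L67041 q3130, e3 q3593 L67049 q3593, e3 q3594 L124645 q4398, e3 q3595 L67064 q2927, e3 q3596 L124671 q4401, e3 q3597 (flp_e L67072) q2924, e3 q3598 (flp_e L124694) q4404, e3 q3599 (flp_e L67084) q2926, e3 q3600 (flp_e L124713) q4407, e3 q3601 L67110 q2930, e3 q3602 L67117 q2929, e3 q3603 (flp_e L124742) q4410, e3 q3604 (flp_e L124724) q4408, e3 q3605 (flp_e L124733) q4409, e3 q3606 L67148 q2932, e3 q3607 L67164 q3607, e3 q3608 L67169 q3608, e3 q3609 L67179 q3609, e3 q3610 L67184 q3610, e3 q3611 L67192 q3611, e3 q3612 L67197 q3612, e3 q3613 L67236 q3613, e3 q3614 L67244 q3614, e3 q3615 L67252 q3615, e3 q3616 L67257 q3616, e3 q3617 L67267 q3139, e3 q3618 L67275 q2944, e3 q3619 L67285 q2945, e3 q3620 (flp_e L124869) q4424, e3 q3621 L124922 q4430, e3 q3622 (flp_e L124885) q4426,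 e3 q3623 L124936 q4432, e3 q3624 (flp_e L67324) q2946, e3 q3625 (flp_e L124966) q4435, e3 q3626 L119472 q3104, e3 q3627 L67358 q3144, e3 q3628 L67379 q2951, e3 q3629 L125024 q4442, e3 q3630 L67395 q2953, e3 q3631 (flp_e L123915) q4315, e3 q3632 (flp_e L125010) q4440, e3 q3633 (flp_e L67422) q2952, e3 q3634 (flp_e L125064) q4446, e3 q3635 (flp_e L125057) q4445, e3 q3636 L67454 q2955, e3 q3637 (flp_e L125103) q4450, e3 q3638 L67495 q2959, e3 q3639 L67505 q3639, e3 q3640 L67518 q3640, e3 q3641 (flp_e L124085) q4331, e3 q3642 L67549 q3149, e3 q3643 (flp_e L124062) q4329, e3 q3644 L67572 q2966, e3 q3645 L125146 q4456, e3 q3646 (flp_e L67584) q2963, e3 q3647 (flp_e L125169) q4459, trivial⟩ (by decide +kernel)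

theorem ce_e_57 : ∀ r, r < 64 → sm ge (Qf (3648 + r)) = Qf (tab Gen.e (3648 + r)) :=
  edges_tab (sm ge) Qf (tab Gen.e) 3648 [(3648, 4330), (3649, 2969), (3650, 2968), (3651, 4391), (3652, 4275), (3653, 4461), (3654, 2971), (3655, 3655), (3656, 3154), (3657, 3155), (3658, 3156), (3659, 3659), (3660, 2978), (3661, 4474), (3662, 2980), (3663, 4477), (3664, 4472), (3665, 4479), (3666, 2979), (3667, 4482), (3668, 2981), (3669, 4486), (3670, 4481), (3671, 2983), (3672, 4490), (3673, 4491), (3674, 3167), (3675, 4496), (3676, 3169), (3677, 4498), (3678, 2991), (3679, 4501), (3680, 2988), (3681, 4504), (3682, 2990), (3683, 4507), (3684, 2994), (3685, 2993), (3686, 4511), (3687, 4509), (3688, 4510), (3689, 2996), (3690, 3072), (3691, 3073), (3692, 3000), (3693, 4517), (3694, 4519), (3695, 3178), (3696, 4522), (3697, 3002), (3698, 4525), (3699, 3004), (3700, 4528), (3701, 4531), (3702, 3006), (3703, 4534), (3704, 4224), (3705, 3008), (3706, 4538), (3707, 3707), (3708, 3010), (3709, 4541), (3710,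 3014), (3711, 3015)]
    ⟨e3 q3648 (flp_e L124071) q4330, e3 q3649 L67614 q2969, e3 q3650 L67619 q2968, e3 q3651 (flp_e L124595) q4391, e3 q3652 (flp_e L123492) q4275, e3 q3653 (flp_e L125180) q4461, e3 q3654 L67648 q2971, e3 q3655 L67703 q3655, e3 q3656 L67803 q3154, e3 q3657 L67813 q3155, e3 q3658 L67819 q3156, e3 q3659 L67825 q3659, e3 q3660 L67830 q2978, e3 q3661 L125266 q4474, e3 q3662 L67842 q2980, e3 q3663 L125287 q4477, e3 q3664 (flp_e L125260) q4472, e3 q3665 L125304 q4479, e3 q3666 (flp_e L67868) q2979, e3 q3667 (flp_e L125332) q4482, e3 q3668 (flp_e L67882) q2981, e3 q3669 (flp_e L125361) q4486, e3 q3670 (flp_e L125326) q4481, e3 q3671 L67908 q2983, e3 q3672 (flp_e L125390) q4490, e3 q3673 L125395 q4491, e3 q3674 L67932 q3167, e3 q3675 L125444 q4496, e3 q3676 L67948 q3169, e3 q3677 L125458 q4498, e3 q3678 L67971 q2991, e3 q3679 L125484 q4501, e3 q3680 (flp_e L67981) q2988, e3 q3681 (flp_e L125516) q4504, e3 q3682 (flp_e L67993) q2990, e3 q3683 (flp_e L125537) q4507, e3 q3684 L68022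 q2994, e3 q3685 L68030 q2993, e3 q3686 (flp_e L125580) q4511, e3 q3687 (flp_e L125560) q4509, e3 q3688 (flp_e L125570) q4510, e3 q3689 L68065 q2996, e3 q3690 L68107 q3072, e3 q3691 L68117 q3073, e3 q3692 (flp_e L68127) q3000, e3 q3693 (flp_e L125638) q4517, e3 q3694 L125648 q4519, e3 q3695 L68150 q3178, e3 q3696 L125676 q4522, e3 q3697 (flp_e L68160) q3002, e3 q3698 (flp_e L125703) q4525, e3 q3699 (flp_e L68187) q3004, e3 q3700 (flp_e L125721) q4528, e3 q3701 L125737 q4531, e3 q3702 (flp_e L68203) q3006, e3 q3703 (flp_e L125765) q4534, e3 q3704 (flp_e L123019) q4224, e3 q3705 L68223 q3008, e3 q3706 (flp_e L125787) q4538, e3 q3707 L68233 q3707, e3 q3708 L68238 q3010, e3 q3709 (flp_e L125811) q4541, e3 q3710 L68255 q3014, e3 q3711 L68263 q3015, trivial⟩ (by decide +kernel)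

theorem ce_e_58 : ∀ r, r < 64 → sm ge (Qf (3712 + r)) = Qf (tab Gen.e (3712 + r)) :=
  edges_tab (sm ge) Qf (tab Gen.e) 3712 [(3712, 3013), (3713, 4542), (3714, 4543), (3715, 4464), (3716, 3089), (3717, 3090), (3718, 3091), (3719, 3189), (3720, 3190), (3721, 3191), (3722, 4555), (3723, 4556), (3724, 3024), (3725, 3266), (3726, 3198), (3727, 4558), (3728, 3200), (3729, 3029), (3730, 3204), (3731, 3032), (3732, 4560), (3733, 3208), (3734, 3209), (3735, 3211), (3736, 3736), (3737, 3212), (3738, 3738), (3739, 3215), (3740, 3740), (3741, 3741), (3742, 3742), (3743, 3092), (3744, 3744), (3745, 3745), (3746, 3746), (3747, 4574), (3748, 3049), (3749, 4577), (3750, 4579), (3751, 3051), (3752, 4582), (3753, 3053), (3754, 4586), (3755, 3058), (3756, 3055), (3757, 4590), (3758, 4057), (3759, 4585), (3760, 3057), (3761, 4596), (3762, 4588), (3763, 4589), (3764, 3060), (3765, 4602), (3766, 3061), (3767, 4605), (3768, 3768), (3769, 3063), (3770, 4609), (3771, 3771), (3772, 3065), (3773, 4612), (3774,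 3069), (3775, 3070)]
    ⟨e3 q3712 L68271 q3013, e3 q3713 (flp_e L125821) q4542, e3 q3714 (flp_e L125829) q4543, e3 q3715 (flp_e L125204) q4464, e3 q3716 L68350 q3089, e3 q3717 L68360 q3090, e3 q3718 L68433 q3091, e3 q3719 L68450 q3189, e3 q3720 L68465 q3190, e3 q3721 L68474 q3191, e3 q3722 L125927 q4555, e3 q3723 L125936 q4556, e3 q3724 (flp_e L68556) q3024, e3 q3725 L120736 q3266, e3 q3726 L68630 q3198, e3 q3727 L125956 q4558, e3 q3728 L68646 q3200, e3 q3729 (flp_e L68690) q3029, e3 q3730 L68860 q3204, e3 q3731 (flp_e L68872) q3032, e3 q3732 (flp_e L125979) q4560, e3 q3733 L69187 q3208, e3 q3734 L69194 q3209, e3 q3735 L69208 q3211, e3 q3736 L69217 q3736, e3 q3737 L69225 q3212, e3 q3738 L69256 q3738, e3 q3739 L69292 q3215, e3 q3740 L69300 q3740, e3 q3741 L69309 q3741, e3 q3742 L69348 q3742, e3 q3743 L69411 q3092, e3 q3744 L69465 q3744, e3 q3745 L69473 q3745, e3 q3746 L69527 q3746, e3 q3747 L126091 q4574, e3 q3748 (flp_e L69734) q3049, e3 q3749 (flp_e L126123) q4577, e3 q3750 L126137 q4579,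 e3 q3751 (flp_e L69758) q3051, e3 q3752 (flp_e L126173) q4582, e3 q3753 (flp_e L69777) q3053, e3 q3754 (flp_e L126205) q4586, e3 q3755 L69798 q3058, e3 q3756 L69805 q3055, e3 q3757 (flp_e L126239) q4590, e3 q3758 (flp_e L121594) q4057, e3 q3759 (flp_e L126198) q4585, e3 q3760 L69834 q3057, e3 q3761 (flp_e L126283) q4596, e3 q3762 (flp_e L126221) q4588, e3 q3763 (flp_e L126230) q4589, e3 q3764 L69867 q3060, e3 q3765 L126333 q4602, e3 q3766 (flp_e L69923) q3061, e3 q3767 (flp_e L126363) q4605, e3 q3768 L69946 q3768, e3 q3769 L69953 q3063, e3 q3770 (flp_e L126400) q4609, e3 q3771 L69968 q3771, e3 q3772 L69973 q3065, e3 q3773 (flp_e L126429) q4612, e3 q3774 L69991 q3069, e3 q3775 L69999 q3070, trivial⟩ (by decide +kernel)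

theorem ce_e_59 : ∀ r, r < 64 → sm ge (Qf (3776 + r)) = Qf (tab Gen.e (3776 + r)) :=
  edges_tab (sm ge) Qf (tab Gen.e) 3776 [(3776, 3068), (3777, 4613), (3778, 4614), (3779, 3779), (3780, 4515), (3781, 4516), (3782, 4620), (3783, 3074), (3784, 4623), (3785, 3785), (3786, 3076), (3787, 4627), (3788, 3788), (3789, 3789), (3790, 3079), (3791, 3791), (3792, 3792), (3793, 3082), (3794, 3086), (3795, 3087), (3796, 3796), (3797, 4634), (3798, 4092), (3799, 3799), (3800, 4548), (3801, 4638), (3802, 3096), (3803, 4306), (3804, 4422), (3805, 4641), (3806, 3101), (3807, 4644), (3808, 4264), (3809, 3106), (3810, 4646), (3811, 3109), (3812, 4348), (3813, 4349), (3814, 4350), (3815, 4654), (3816, 4656), (3817, 4657), (3818, 3114), (3819, 4660), (3820, 3116), (3821, 4664), (3822, 4659), (3823, 3118), (3824, 4668), (3825, 4366), (3826, 4669), (3827, 4368), (3828, 3121), (3829, 3122), (3830, 3125), (3831, 3124), (3832, 4674), (3833, 4672), (3834, 4673), (3835, 3127), (3836, 3129), (3837, 3837), (3838,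 3838), (3839, 3136)]
    ⟨e3 q3776 L70007 q3068, e3 q3777 (flp_e L126439) q4613, e3 q3778 (flp_e L126447) q4614, e3 q3779 L70034 q3779, e3 q3780 (flp_e L125614) q4515, e3 q3781 (flp_e L125628) q4516, e3 q3782 L126498 q4620, e3 q3783 (flp_e L70180) q3074, e3 q3784 (flp_e L126528) q4623, e3 q3785 L70199 q3785, e3 q3786 L70204 q3076, e3 q3787 (flp_e L126560) q4627, e3 q3788 L70217 q3788, e3 q3789 L70224 q3789, e3 q3790 L70230 q3079, e3 q3791 L70236 q3791, e3 q3792 L70244 q3792, e3 q3793 L70250 q3082, e3 q3794 L70259 q3086, e3 q3795 L70266 q3087, e3 q3796 L70277 q3796, e3 q3797 (flp_e L126622) q4634, e3 q3798 (flp_e L121887) q4092, e3 q3799 L70296 q3799, e3 q3800 (flp_e L125867) q4548, e3 q3801 L126651 q4638, e3 q3802 (flp_e L71258) q3096, e3 q3803 (flp_e L123814) q4306, e3 q3804 (flp_e L124851) q4422, e3 q3805 L126685 q4641, e3 q3806 (flp_e L71563) q3101, e3 q3807 (flp_e L126718) q4644, e3 q3808 L123377 q4264, e3 q3809 L71671 q3106, e3 q3810 (flp_e L126738) q4646, e3 q3811 L71853 q3109, e3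 q3812 (flp_e L124230) q4348, e3 q3813 (flp_e L124241) q4349, e3 q3814 (flp_e L124251) q4350, e3 q3815 L126811 q4654, e3 q3816 L126834 q4656, e3 q3817 L126846 q4657, e3 q3818 (flp_e L72061) q3114, e3 q3819 (flp_e L126881) q4660, e3 q3820 (flp_e L72077) q3116, e3 q3821 (flp_e L126919) q4664, e3 q3822 (flp_e L126871) q4659, e3 q3823 L72108 q3118, e3 q3824 (flp_e L126953) q4668, e3 q3825 (flp_e L124393) q4366, e3 q3826 L126956 q4669, e3 q3827 (flp_e L124408) q4368, e3 q3828 (flp_e L72179) q3121, e3 q3829 (flp_e L72192) q3122, e3 q3830 L72214 q3125, e3 q3831 L72221 q3124, e3 q3832 (flp_e L127010) q4674, e3 q3833 (flp_e L126992) q4672, e3 q3834 (flp_e L127001) q4673, e3 q3835 L72250 q3127, e3 q3836 (flp_e L72349) q3129, e3 q3837 L72422 q3837, e3 q3838 L72441 q3838, e3 q3839 L72464 q3136, trivial⟩ (by decide +kernel)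

theorem ce_e_60 : ∀ r, r < 64 → sm ge (Qf (3840 + r)) = Qf (tab Gen.e (3840 + r)) :=
  edges_tab (sm ge) Qf (tab Gen.e) 3840 [(3840, 3137), (3841, 3135), (3842, 4681), (3843, 4682), (3844, 4647), (3845, 4421), (3846, 4423), (3847, 4688), (3848, 3140), (3849, 3141), (3850, 4692), (3851, 4689), (3852, 3143), (3853, 4696), (3854, 4438), (3855, 3146), (3856, 4279), (3857, 4365), (3858, 3148), (3859, 4136), (3860, 4389), (3861, 3188), (3862, 4465), (3863, 4466), (3864, 4468), (3865, 4708), (3866, 4470), (3867, 4710), (3868, 3157), (3869, 4712), (3870, 3158), (3871, 3159), (3872, 4716), (3873, 3164), (3874, 3161), (3875, 4720), (3876, 3876), (3877, 4715), (3878, 3163), (3879, 4726), (3880, 4718), (3881, 4719), (3882, 3166), (3883, 4494), (3884, 3168), (3885, 4732), (3886, 3886), (3887, 3887), (3888, 3175), (3889, 3176), (3890, 3174), (3891, 4735), (3892, 4736), (3893, 4699), (3894, 3894), (3895, 3180), (3896, 3896), (3897, 3897), (3898, 3186), (3899, 3187), (3900, 4390), (3901, 4743), (3902,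 4156), (3903, 4702)]
    ⟨e3 q3840 L72471 q3137, e3 q3841 L72480 q3135, e3 q3842 (flp_e L127077) q4681, e3 q3843 (flp_e L127088) q4682, e3 q3844 (flp_e L126746) q4647, e3 q3845 (flp_e L124833) q4421, e3 q3846 (flp_e L124859) q4423, e3 q3847 L127126 q4688, e3 q3848 (flp_e L72646) q3140, e3 q3849 (flp_e L72658) q3141, e3 q3850 (flp_e L127153) q4692, e3 q3851 (flp_e L127135) q4689, e3 q3852 L72681 q3143, e3 q3853 (flp_e L127179) q4696, e3 q3854 (flp_e L124992) q4438, e3 q3855 L72796 q3146, e3 q3856 (flp_e L123525) q4279, e3 q3857 (flp_e L124386) q4365, e3 q3858 L72834 q3148, e3 q3859 L122286 q4136, e3 q3860 (flp_e L124576) q4389, e3 q3861 L73056 q3188, e3 q3862 (flp_e L125214) q4465, e3 q3863 (flp_e L125222) q4466, e3 q3864 (flp_e L125234) q4468, e3 q3865 L127257 q4708, e3 q3866 (flp_e L125248) q4470, e3 q3867 L127270 q4710, e3 q3868 (flp_e L73245) q3157, e3 q3869 L127282 q4712, e3 q3870 (flp_e L73266) q3158, e3 q3871 (flp_e L73281) q3159, e3 q3872 (flp_e L127314) q4716, e3 q3873 L73300 q3164,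 e3 q3874 L73306 q3161, e3 q3875 (flp_e L127342) q4720, e3 q3876 L73320 q3876, e3 q3877 (flp_e L127306) q4715, e3 q3878 L73333 q3163, e3 q3879 (flp_e L127388) q4726, e3 q3880 (flp_e L127328) q4718, e3 q3881 (flp_e L127334) q4719, e3 q3882 L73360 q3166, e3 q3883 (flp_e L125430) q4494, e3 q3884 (flp_e L73397) q3168, e3 q3885 (flp_e L127430) q4732, e3 q3886 L73455 q3886, e3 q3887 L73477 q3887, e3 q3888 L73503 q3175, e3 q3889 L73511 q3176, e3 q3890 L73521 q3174, e3 q3891 (flp_e L127455) q4735, e3 q3892 (flp_e L127465) q4736, e3 q3893 (flp_e L127203) q4699, e3 q3894 L73588 q3894, e3 q3895 L73592 q3180, e3 q3896 L73637 q3896, e3 q3897 L73655 q3897, e3 q3898 L73677 q3186, e3 q3899 L73685 q3187, e3 q3900 (flp_e L124586) q4390, e3 q3901 (flp_e L127513) q4743, e3 q3902 (flp_e L122451) q4156, e3 q3903 (flp_e L127219) q4702, trivial⟩ (by decide +kernel)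

theorem ce_e_61 : ∀ r, r < 64 → sm ge (Qf (3904 + r)) = Qf (tab Gen.e (3904 + r)) :=
  edges_tab (sm ge) Qf (tab Gen.e) 3904 [(3904, 4549), (3905, 4550), (3906, 4551), (3907, 4751), (3908, 4553), (3909, 3981), (3910, 3192), (3911, 4753), (3912, 3193), (3913, 3194), (3914, 3197), (3915, 3915), (3916, 3978), (3917, 4557), (3918, 3199), (3919, 4755), (3920, 3920), (3921, 3921), (3922, 3206), (3923, 4757), (3924, 4561), (3925, 4761), (3926, 4563), (3927, 3210), (3928, 4763), (3929, 4564), (3930, 3214), (3931, 4765), (3932, 3217), (3933, 3218), (3934, 4768), (3935, 3935), (3936, 3220), (3937, 4772), (3938, 3938), (3939, 3227), (3940, 3222), (3941, 4778), (3942, 3230), (3943, 3231), (3944, 3225), (3945, 4783), (3946, 3946), (3947, 3947), (3948, 4776), (3949, 4777), (3950, 3229), (3951, 4792), (3952, 4780), (3953, 4781), (3954, 3954), (3955, 3955), (3956, 3956), (3957, 3235), (3958, 3239), (3959, 3240), (3960, 3960), (3961, 4799), (3962, 4081), (3963, 3963), (3964, 3964), (3965, 3965), (3966,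 3966), (3967, 3248)]
    ⟨e3 q3904 (flp_e L125878) q4549, e3 q3905 (flp_e L125887) q4550, e3 q3906 (flp_e L125896) q4551, e3 q3907 L127564 q4751, e3 q3908 (flp_e L125914) q4553, e3 q3909 (flp_e L121056) q3981, e3 q3910 (flp_e L73782) q3192, e3 q3911 L127580 q4753, e3 q3912 (flp_e L73800) q3193, e3 q3913 (flp_e L73808) q3194, e3 q3914 L73821 q3197, e3 q3915 L73831 q3915, e3 q3916 L121050 q3978, e3 q3917 (flp_e L125950) q4557, e3 q3918 (flp_e L73888) q3199, e3 q3919 (flp_e L127604) q4755, e3 q3920 L73949 q3920, e3 q3921 L74065 q3921, e3 q3922 L74069 q3206, e3 q3923 L127617 q4757, e3 q3924 (flp_e L125988) q4561, e3 q3925 L127645 q4761, e3 q3926 (flp_e L126000) q4563, e3 q3927 (flp_e L74219) q3210, e3 q3928 (flp_e L127662) q4763, e3 q3929 (flp_e L126009) q4564, e3 q3930 L74248 q3214, e3 q3931 (flp_e L127678) q4765, e3 q3932 L74269 q3217, e3 q3933 (flp_e L74272) q3218, e3 q3934 (flp_e L127699) q4768, e3 q3935 L74294 q3935, e3 q3936 L74301 q3220, e3 q3937 (flp_e L127734) q4772, e3 q3938 L74318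 q3938, e3 q3939 L74324 q3227, e3 q3940 L74331 q3222, e3 q3941 (flp_e L127777) q4778, e3 q3942 L74346 q3230, e3 q3943 L74354 q3231, e3 q3944 L74363 q3225, e3 q3945 L127812 q4783, e3 q3946 L74377 q3946, e3 q3947 L74386 q3947, e3 q3948 (flp_e L127761) q4776, e3 q3949 (flp_e L127768) q4777, e3 q3950 L74406 q3229, e3 q3951 L127895 q4792, e3 q3952 (flp_e L127792) q4780, e3 q3953 (flp_e L127801) q4781, e3 q3954 L74438 q3954, e3 q3955 L74446 q3955, e3 q3956 L74454 q3956, e3 q3957 L74461 q3235, e3 q3958 L74470 q3239, e3 q3959 L74478 q3240, e3 q3960 L74486 q3960, e3 q3961 (flp_e L127968) q4799, e3 q3962 (flp_e L121779) q4081, e3 q3963 L74507 q3963, e3 q3964 L74515 q3964, e3 q3965 L74523 q3965, e3 q3966 L74531 q3966, e3 q3967 L74536 q3248, trivial⟩ (by decide +kernel)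

theorem ce_e_62 : ∀ r, r < 64 → sm ge (Qf (3968 + r)) = Qf (tab Gen.e (3968 + r)) :=
  edges_tab (sm ge) Qf (tab Gen.e) 3968 [(3968, 4091), (3969, 3969), (3970, 3251), (3971, 3972), (3972, 3971), (3973, 4806), (3974, 3974), (3975, 3975), (3976, 3976), (3977, 3977), (3978, 3916), (3979, 3257), (3980, 3980), (3981, 3909), (3982, 3982), (3983, 3983), (3984, 4812), (3985, 3267), (3986, 3271), (3987, 3987), (3988, 3274), (3989, 4818), (3990, 4816), (3991, 4820), (3992, 3275), (3993, 4823), (3994, 3994), (3995, 4828), (3996, 3280), (3997, 3279), (3998, 4831), (3999, 4830), (4000, 3282), (4001, 4835), (4002, 4002), (4003, 4003), (4004, 4840), (4005, 4005), (4006, 4842), (4007, 3286), (4008, 4845), (4009, 3290), (4010, 3289), (4011, 4849), (4012, 4847), (4013, 4848), (4014, 3292), (4015, 4015), (4016, 4016), (4017, 4017), (4018, 4018), (4019, 4858), (4020, 3299), (4021, 4860), (4022, 3298), (4023, 4863), (4024, 3300), (4025, 4867), (4026, 4862), (4027, 3302), (4028, 4871), (4029, 4872), (4030,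 4030), (4031, 3304)]
    ⟨e3 q3968 (flp_e L121879) q4091, e3 q3969 L74548 q3969, e3 q3970 (flp_e L74577) q3251, e3 q3971 L127835 q3972, e3 q3972 (flp_e L127835) q3971, e3 q3973 (flp_e L128022) q4806, e3 q3974 L74610 q3974, e3 q3975 L74616 q3975, e3 q3976 L74624 q3976, e3 q3977 L74634 q3977, e3 q3978 (flp_e L121050) q3916, e3 q3979 (flp_e L74644) q3257, e3 q3980 L74657 q3980, e3 q3981 L121056 q3909, e3 q3982 L74673 q3982, e3 q3983 L74702 q3983, e3 q3984 L128074 q4812, e3 q3985 (flp_e L121083) q3267, e3 q3986 (flp_e L121092) q3271, e3 q3987 L121109 q3987, e3 q3988 L121118 q3274, e3 q3989 L128127 q4818, e3 q3990 (flp_e L128115) q4816, e3 q3991 L128144 q4820, e3 q3992 (flp_e L121148) q3275, e3 q3993 (flp_e L128176) q4823, e3 q3994 L121170 q3994, e3 q3995 L128205 q4828, e3 q3996 L121181 q3280, e3 q3997 (flp_e L121183) q3279, e3 q3998 (flp_e L128230) q4831, e3 q3999 (flp_e L128223) q4830, e3 q4000 L121209 q3282, e3 q4001 (flp_e L128259) q4835, e3 q4002 L121223 q4002, e3 q4003 L121233 q4003, e3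 q4004 L128289 q4840, e3 q4005 L121245 q4005, e3 q4006 L128302 q4842, e3 q4007 (flp_e L121250) q3286, e3 q4008 (flp_e L128325) q4845, e3 q4009 L121268 q3290, e3 q4010 L121275 q3289, e3 q4011 (flp_e L128353) q4849, e3 q4012 (flp_e L128336) q4847, e3 q4013 (flp_e L128344) q4848, e3 q4014 L121304 q3292, e3 q4015 L121312 q4015, e3 q4016 L121317 q4016, e3 q4017 L121321 q4017, e3 q4018 L121330 q4018, e3 q4019 L128406 q4858, e3 q4020 L121341 q3299, e3 q4021 L128418 q4860, e3 q4022 (flp_e L121352) q3298, e3 q4023 (flp_e L128446) q4863, e3 q4024 (flp_e L121365) q3300, e3 q4025 (flp_e L128475) q4867, e3 q4026 (flp_e L128440) q4862, e3 q4027 L121391 q3302, e3 q4028 (flp_e L128502) q4871, e3 q4029 L128506 q4872, e3 q4030 L121412 q4030, e3 q4031 (flp_e L121413) q3304, trivial⟩ (by decide +kernel)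

theorem ce_e_63 : ∀ r, r < 64 → sm ge (Qf (4032 + r)) = Qf (tab Gen.e (4032 + r)) :=
  edges_tab (sm ge) Qf (tab Gen.e) 4032 [(4032, 4875), (4033, 3308), (4034, 3307), (4035, 4879), (4036, 4877), (4037, 4878), (4038, 3310), (4039, 3311), (4040, 4884), (4041, 4458), (4042, 3314), (4043, 4888), (4044, 3318), (4045, 3319), (4046, 3317), (4047, 4889), (4048, 4890), (4049, 4235), (4050, 4050), (4051, 4051), (4052, 3324), (4053, 4899), (4054, 3329), (4055, 3326), (4056, 4903), (4057, 3758), (4058, 4898), (4059, 3328), (4060, 4909), (4061, 4901), (4062, 4902), (4063, 3331), (4064, 3335), (4065, 3336), (4066, 3334), (4067, 4914), (4068, 4915), (4069, 4069), (4070, 3341), (4071, 3342), (4072, 4072), (4073, 4920), (4074, 4925), (4075, 4075), (4076, 3344), (4077, 4927), (4078, 4931), (4079, 4079), (4080, 3348), (4081, 3962), (4082, 4936), (4083, 4933), (4084, 3349), (4085, 4939), (4086, 3353), (4087, 3385), (4088, 3354), (4089, 4942), (4090, 3358), (4091, 3968), (4092, 3798), (4093, 3357), (4094,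 4947), (4095, 4946)]
    ⟨e3 q4032 (flp_e L128531) q4875, e3 q4033 L121432 q3308, e3 q4034 L121440 q3307, e3 q4035 (flp_e L128562) q4879, e3 q4036 (flp_e L128543) q4877, e3 q4037 (flp_e L128552) q4878, e3 q4038 L121473 q3310, e3 q4039 (flp_e L121477) q3311, e3 q4040 (flp_e L128597) q4884, e3 q4041 (flp_e L125163) q4458, e3 q4042 L121494 q3314, e3 q4043 (flp_e L128615) q4888, e3 q4044 L121502 q3318, e3 q4045 L121509 q3319, e3 q4046 L121517 q3317, e3 q4047 (flp_e L128621) q4889, e3 q4048 (flp_e L128629) q4890, e3 q4049 (flp_e L123093) q4235, e3 q4050 L121543 q4050, e3 q4051 L121549 q4051, e3 q4052 (flp_e L121550) q3324, e3 q4053 (flp_e L128685) q4899, e3 q4054 L121571 q3329, e3 q4055 L121578 q3326, e3 q4056 (flp_e L128717) q4903, e3 q4057 L121594 q3758, e3 q4058 (flp_e L128678) q4898, e3 q4059 L121607 q3328, e3 q4060 (flp_e L128762) q4909, e3 q4061 (flp_e L128700) q4901, e3 q4062 (flp_e L128708) q4902, e3 q4063 L121638 q3331, e3 q4064 L121646 q3335, e3 q4065 L121653 q3336, e3 q4066 L121661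 q3334, e3 q4067 (flp_e L128804) q4914, e3 q4068 (flp_e L128812) q4915, e3 q4069 L121685 q4069, e3 q4070 L121690 q3341, e3 q4071 L121697 q3342, e3 q4072 L121706 q4072, e3 q4073 (flp_e L128850) q4920, e3 q4074 L128879 q4925, e3 q4075 L121723 q4075, e3 q4076 (flp_e L121727) q3344, e3 q4077 (flp_e L128897) q4927, e3 q4078 L128927 q4931, e3 q4079 L121757 q4079, e3 q4080 L121766 q3348, e3 q4081 L121779 q3962, e3 q4082 L128981 q4936, e3 q4083 (flp_e L128951) q4933, e3 q4084 (flp_e L121802) q3349, e3 q4085 (flp_e L129017) q4939, e3 q4086 L121826 q3353, e3 q4087 L121837 q3385, e3 q4088 L121844 q3354, e3 q4089 (flp_e L129048) q4942, e3 q4090 L121865 q3358, e3 q4091 L121879 q3968, e3 q4092 L121887 q3798, e3 q4093 (flp_e L121893) q3357, e3 q4094 (flp_e L129107) q4947, e3 q4095 (flp_e L129096) q4946, trivial⟩ (by decide +kernel)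

theorem ce_e_64 : ∀ r, r < 64 → sm ge (Qf (4096 + r)) = Qf (tab Gen.e (4096 + r)) :=
  edges_tab (sm ge) Qf (tab Gen.e) 4096 [(4096, 3360), (4097, 4951), (4098, 3402), (4099, 3364), (4100, 3404), (4101, 3405), (4102, 4957), (4103, 4103), (4104, 3408), (4105, 3409), (4106, 3410), (4107, 3411), (4108, 3412), (4109, 4109), (4110, 3371), (4111, 3372), (4112, 4969), (4113, 4975), (4114, 4971), (4115, 4977), (4116, 3373), (4117, 4980), (4118, 4118), (4119, 4119), (4120, 4120), (4121, 3378), (4122, 4990), (4123, 3380), (4124, 4992), (4125, 4988), (4126, 3379), (4127, 4995), (4128, 4994), (4129, 3382), (4130, 4999), (4131, 4131), (4132, 4941), (4133, 3387), (4134, 4943), (4135, 4944), (4136, 3859), (4137, 4137), (4138, 5011), (4139, 4139), (4140, 4140), (4141, 5016), (4142, 3395), (4143, 5019), (4144, 3392), (4145, 5022), (4146, 3394), (4147, 5024), (4148, 3398), (4149, 3397), (4150, 5028), (4151, 5026), (4152, 5027), (4153, 3400), (4154, 5033), (4155, 4155), (4156, 3902), (4157, 4952), (4158,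 4953), (4159, 4954)]
    ⟨e3 q4096 L121925 q3360, e3 q4097 (flp_e L129143) q4951, e3 q4098 L121946 q3402, e3 q4099 L121955 q3364, e3 q4100 L121964 q3404, e3 q4101 L121978 q3405, e3 q4102 L129204 q4957, e3 q4103 L121994 q4103, e3 q4104 L122001 q3408, e3 q4105 L122011 q3409, e3 q4106 L122018 q3410, e3 q4107 L122027 q3411, e3 q4108 L122032 q3412, e3 q4109 L122047 q4109, e3 q4110 L122054 q3371, e3 q4111 L122064 q3372, e3 q4112 (flp_e L129325) q4969, e3 q4113 L129377 q4975, e3 q4114 (flp_e L129343) q4971, e3 q4115 L129394 q4977, e3 q4116 (flp_e L122102) q3373, e3 q4117 (flp_e L129426) q4980, e3 q4118 L122128 q4118, e3 q4119 L122136 q4119, e3 q4120 L122147 q4120, e3 q4121 L122156 q3378, e3 q4122 L129515 q4990, e3 q4123 L122172 q3380, e3 q4124 L129529 q4992, e3 q4125 (flp_e L129501) q4988, e3 q4126 (flp_e L122197) q3379, e3 q4127 (flp_e L129560) q4995, e3 q4128 (flp_e L129554) q4994, e3 q4129 L122223 q3382, e3 q4130 (flp_e L129591) q4999, e3 q4131 L122238 q4131, e3 q4132 (flp_e L129039) q4941,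 e3 q4133 L122254 q3387, e3 q4134 (flp_e L129059) q4943, e3 q4135 (flp_e L129073) q4944, e3 q4136 (flp_e L122286) q3859, e3 q4137 L122293 q4137, e3 q4138 L129690 q5011, e3 q4139 L122309 q4139, e3 q4140 L122320 q4140, e3 q4141 L129734 q5016, e3 q4142 L122337 q3395, e3 q4143 L129762 q5019, e3 q4144 (flp_e L122349) q3392, e3 q4145 (flp_e L129792) q5022, e3 q4146 (flp_e L122363) q3394, e3 q4147 (flp_e L129808) q5024, e3 q4148 L122388 q3398, e3 q4149 L122394 q3397, e3 q4150 (flp_e L129847) q5028, e3 q4151 (flp_e L129830) q5026, e3 q4152 (flp_e L129839) q5027, e3 q4153 L122425 q3400, e3 q4154 L129887 q5033, e3 q4155 L122442 q4155, e3 q4156 L122451 q3902, e3 q4157 (flp_e L129155) q4952, e3 q4158 (flp_e L129165) q4953, e3 q4159 (flp_e L129179) q4954, trivial⟩ (by decide +kernel)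

theorem ce_e_65 : ∀ r, r < 64 → sm ge (Qf (4160 + r)) = Qf (tab Gen.e (4160 + r)) :=
  edges_tab (sm ge) Qf (tab Gen.e) 4160 [(4160, 4955), (4161, 3406), (4162, 5041), (4163, 4959), (4164, 4960), (4165, 4961), (4166, 4962), (4167, 4963), (4168, 4964), (4169, 4169), (4170, 4170), (4171, 4171), (4172, 4172), (4173, 3416), (4174, 5058), (4175, 3418), (4176, 5061), (4177, 5056), (4178, 5063), (4179, 3417), (4180, 5066), (4181, 3419), (4182, 5070), (4183, 5065), (4184, 3421), (4185, 5074), (4186, 5075), (4187, 4187), (4188, 5080), (4189, 4189), (4190, 4190), (4191, 5085), (4192, 3429), (4193, 5088), (4194, 3426), (4195, 5091), (4196, 3428), (4197, 5094), (4198, 3432), (4199, 3431), (4200, 5098), (4201, 5096), (4202, 5097), (4203, 3434), (4204, 4204), (4205, 4205), (4206, 4206), (4207, 4207), (4208, 4208), (4209, 3440), (4210, 5106), (4211, 5110), (4212, 4212), (4213, 5113), (4214, 3442), (4215, 5116), (4216, 5118), (4217, 4217), (4218, 5121), (4219, 3445), (4220, 5124), (4221, 5127), (4222,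 3447), (4223, 5130)]
    ⟨e3 q4160 (flp_e L129188) q4955, e3 q4161 (flp_e L122486) q3406, e3 q4162 (flp_e L129966) q5041, e3 q4163 (flp_e L129229) q4959, e3 q4164 (flp_e L129243) q4960, e3 q4165 (flp_e L129249) q4961, e3 q4166 (flp_e L129258) q4962, e3 q4167 (flp_e L129267) q4963, e3 q4168 (flp_e L129274) q4964, e3 q4169 L122558 q4169, e3 q4170 L122571 q4170, e3 q4171 L122578 q4171, e3 q4172 L122587 q4172, e3 q4173 L122594 q3416, e3 q4174 L130111 q5058, e3 q4175 L122608 q3418, e3 q4176 L130132 q5061, e3 q4177 (flp_e L130101) q5056, e3 q4178 L130148 q5063, e3 q4179 (flp_e L122637) q3417, e3 q4180 (flp_e L130172) q5066, e3 q4181 (flp_e L122650) q3419, e3 q4182 (flp_e L130200) q5070, e3 q4183 (flp_e L130166) q5065, e3 q4184 L122676 q3421, e3 q4185 (flp_e L130230) q5074, e3 q4186 L130234 q5075, e3 q4187 L122705 q4187, e3 q4188 L130285 q5080, e3 q4189 L122722 q4189, e3 q4190 L122733 q4190, e3 q4191 L130333 q5085, e3 q4192 L122750 q3429, e3 q4193 L130355 q5088, e3 q4194 (flp_e L122764) q3426,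 e3 q4195 (flp_e L130386) q5091, e3 q4196 (flp_e L122778) q3428, e3 q4197 (flp_e L130408) q5094, e3 q4198 L122802 q3432, e3 q4199 L122809 q3431, e3 q4200 (flp_e L130445) q5098, e3 q4201 (flp_e L130428) q5096, e3 q4202 (flp_e L130436) q5097, e3 q4203 L122844 q3434, e3 q4204 L122854 q4204, e3 q4205 L122865 q4205, e3 q4206 L122880 q4206, e3 q4207 L122889 q4207, e3 q4208 L122900 q4208, e3 q4209 (flp_e L122903) q3440, e3 q4210 (flp_e L130522) q5106, e3 q4211 L130565 q5110, e3 q4212 L122933 q4212, e3 q4213 L130594 q5113, e3 q4214 (flp_e L122946) q3442, e3 q4215 (flp_e L130624) q5116, e3 q4216 L130634 q5118, e3 q4217 L122969 q4217, e3 q4218 L130667 q5121, e3 q4219 (flp_e L122984) q3445, e3 q4220 (flp_e L130706) q5124, e3 q4221 L130722 q5127, e3 q4222 (flp_e L123002) q3447, e3 q4223 (flp_e L130751) q5130, trivial⟩ (by decide +kernel)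

theorem ce_e_66 : ∀ r, r < 64 → sm ge (Qf (4224 + r)) = Qf (tab Gen.e (4224 + r)) :=
  edges_tab (sm ge) Qf (tab Gen.e) 4224 [(4224, 3704), (4225, 3449), (4226, 5134), (4227, 4227), (4228, 3451), (4229, 5137), (4230, 3455), (4231, 3456), (4232, 3454), (4233, 5138), (4234, 5139), (4235, 4049), (4236, 4236), (4237, 4237), (4238, 4238), (4239, 4239), (4240, 4240), (4241, 4241), (4242, 4242), (4243, 4243), (4244, 4244), (4245, 5152), (4246, 4246), (4247, 5157), (4248, 4248), (4249, 5160), (4250, 5162), (4251, 3472), (4252, 5163), (4253, 3473), (4254, 3474), (4255, 5165), (4256, 3476), (4257, 3478), (4258, 5166), (4259, 5169), (4260, 4260), (4261, 5172), (4262, 3480), (4263, 5174), (4264, 3808), (4265, 3482), (4266, 5177), (4267, 3483), (4268, 4268), (4269, 4269), (4270, 3490), (4271, 5179), (4272, 3551), (4273, 3491), (4274, 5181), (4275, 3652), (4276, 3493), (4277, 5184), (4278, 3495), (4279, 3856), (4280, 4280), (4281, 3503), (4282, 5185), (4283, 5188), (4284, 4284), (4285, 3506), (4286,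 5190), (4287, 3507)]
    ⟨e3 q4224 L123019 q3704, e3 q4225 L123025 q3449, e3 q4226 (flp_e L130775) q5134, e3 q4227 L123039 q4227, e3 q4228 L123043 q3451, e3 q4229 (flp_e L130797) q5137, e3 q4230 L123059 q3455, e3 q4231 L123065 q3456, e3 q4232 L123072 q3454, e3 q4233 (flp_e L130805) q5138, e3 q4234 (flp_e L130812) q5139, e3 q4235 L123093 q4049, e3 q4236 L123099 q4236, e3 q4237 L123112 q4237, e3 q4238 L123123 q4238, e3 q4239 L123134 q4239, e3 q4240 L123139 q4240, e3 q4241 L123152 q4241, e3 q4242 L123163 q4242, e3 q4243 L123171 q4243, e3 q4244 L123179 q4244, e3 q4245 L130923 q5152, e3 q4246 L123198 q4246, e3 q4247 L130974 q5157, e3 q4248 L123215 q4248, e3 q4249 L131003 q5160, e3 q4250 L131022 q5162, e3 q4251 (flp_e L123236) q3472, e3 q4252 L131028 q5163, e3 q4253 (flp_e L123255) q3473, e3 q4254 (flp_e L123267) q3474, e3 q4255 (flp_e L131056) q5165, e3 q4256 L123294 q3476, e3 q4257 (flp_e L123301) q3478, e3 q4258 (flp_e L131067) q5166, e3 q4259 L131098 q5169, e3 q4260 L123336 q4260, e3 q4261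 L131129 q5172, e3 q4262 (flp_e L123349) q3480, e3 q4263 (flp_e L131155) q5174, e3 q4264 (flp_e L123377) q3808, e3 q4265 (flp_e L123379) q3482, e3 q4266 L131184 q5177, e3 q4267 (flp_e L123399) q3483, e3 q4268 L123411 q4268, e3 q4269 L123422 q4269, e3 q4270 L123430 q3490, e3 q4271 (flp_e L131214) q5179, e3 q4272 (flp_e L123458) q3551, e3 q4273 (flp_e L123460) q3491, e3 q4274 (flp_e L131241) q5181, e3 q4275 L123492 q3652, e3 q4276 (flp_e L123494) q3493, e3 q4277 (flp_e L131279) q5184, e3 q4278 L123517 q3495, e3 q4279 L123525 q3856, e3 q4280 L123537 q4280, e3 q4281 (flp_e L123544) q3503, e3 q4282 (flp_e L131291) q5185, e3 q4283 L131322 q5188, e3 q4284 L123587 q4284, e3 q4285 L123596 q3506, e3 q4286 (flp_e L131349) q5190, e3 q4287 (flp_e L123614) q3507, trivial⟩ (by decide +kernel)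

theorem ce_e_67 : ∀ r, r < 64 → sm ge (Qf (4288 + r)) = Qf (tab Gen.e (4288 + r)) :=
  edges_tab (sm ge) Qf (tab Gen.e) 4288 [(4288, 5191), (4289, 3511), (4290, 3541), (4291, 3512), (4292, 5193), (4293, 3514), (4294, 3516), (4295, 4295), (4296, 3554), (4297, 3521), (4298, 3556), (4299, 3557), (4300, 4956), (4301, 4301), (4302, 3558), (4303, 3559), (4304, 3560), (4305, 3561), (4306, 3803), (4307, 3528), (4308, 3529), (4309, 5210), (4310, 5215), (4311, 5212), (4312, 5217), (4313, 3530), (4314, 5220), (4315, 3631), (4316, 3535), (4317, 5227), (4318, 3537), (4319, 5225), (4320, 3536), (4321, 5229), (4322, 5168), (4323, 3539), (4324, 5231), (4325, 5192), (4326, 3543), (4327, 5194), (4328, 5195), (4329, 3643), (4330, 3648), (4331, 3641), (4332, 3548), (4333, 5107), (4334, 3546), (4335, 5242), (4336, 3550), (4337, 5180), (4338, 3553), (4339, 5198), (4340, 5199), (4341, 5200), (4342, 5201), (4343, 5202), (4344, 5204), (4345, 5205), (4346, 5206), (4347, 5207), (4348, 3812), (4349, 3813), (4350,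 3814), (4351, 4351)]
    ⟨e3 q4288 (flp_e L131362) q5191, e3 q4289 L123645 q3511, e3 q4290 L123656 q3541, e3 q4291 L123665 q3512, e3 q4292 (flp_e L131386) q5193, e3 q4293 L123688 q3514, e3 q4294 L123700 q3516, e3 q4295 L123711 q4295, e3 q4296 L123721 q3554, e3 q4297 L123730 q3521, e3 q4298 L123737 q3556, e3 q4299 L123747 q3557, e3 q4300 L129202 q4956, e3 q4301 L123763 q4301, e3 q4302 L123774 q3558, e3 q4303 L123781 q3559, e3 q4304 L123792 q3560, e3 q4305 L123799 q3561, e3 q4306 L123814 q3803, e3 q4307 L123828 q3528, e3 q4308 L123840 q3529, e3 q4309 (flp_e L131565) q5210, e3 q4310 L131620 q5215, e3 q4311 (flp_e L131585) q5212, e3 q4312 L131644 q5217, e3 q4313 (flp_e L123890) q3530, e3 q4314 (flp_e L131680) q5220, e3 q4315 L123915 q3631, e3 q4316 L123927 q3535, e3 q4317 L131751 q5227, e3 q4318 L123943 q3537, e3 q4319 (flp_e L131737) q5225, e3 q4320 (flp_e L123962) q3536, e3 q4321 (flp_e L131775) q5229, e3 q4322 L131096 q5168, e3 q4323 L124000 q3539, e3 q4324 (flp_e L131795) q5231, e3 q4325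 (flp_e L131375) q5192, e3 q4326 L124031 q3543, e3 q4327 (flp_e L131395) q5194, e3 q4328 (flp_e L131407) q5195, e3 q4329 L124062 q3643, e3 q4330 L124071 q3648, e3 q4331 L124085 q3641, e3 q4332 L124095 q3548, e3 q4333 (flp_e L130537) q5107, e3 q4334 (flp_e L124107) q3546, e3 q4335 (flp_e L131897) q5242, e3 q4336 L124131 q3550, e3 q4337 (flp_e L131227) q5180, e3 q4338 L124151 q3553, e3 q4339 (flp_e L131435) q5198, e3 q4340 (flp_e L131452) q5199, e3 q4341 (flp_e L131460) q5200, e3 q4342 (flp_e L131472) q5201, e3 q4343 (flp_e L131479) q5202, e3 q4344 (flp_e L131497) q5204, e3 q4345 (flp_e L131506) q5205, e3 q4346 (flp_e L131517) q5206, e3 q4347 (flp_e L131526) q5207, e3 q4348 L124230 q3812, e3 q4349 L124241 q3813, e3 q4350 L124251 q3814, e3 q4351 L124261 q4351, trivial⟩ (by decide +kernel)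

theorem ce_e_68 : ∀ r, r < 64 → sm ge (Qf (4352 + r)) = Qf (tab Gen.e (4352 + r)) :=
  edges_tab (sm ge) Qf (tab Gen.e) 4352 [(4352, 3565), (4353, 5263), (4354, 3567), (4355, 5266), (4356, 5261), (4357, 5268), (4358, 3566), (4359, 5271), (4360, 3568), (4361, 5275), (4362, 5270), (4363, 3570), (4364, 5279), (4365, 3857), (4366, 3825), (4367, 5284), (4368, 3827), (4369, 4369), (4370, 5289), (4371, 3578), (4372, 5292), (4373, 3575), (4374, 5295), (4375, 3577), (4376, 5298), (4377, 3581), (4378, 3580), (4379, 5301), (4380, 5299), (4381, 5300), (4382, 3583), (4383, 4383), (4384, 4384), (4385, 4385), (4386, 4386), (4387, 4387), (4388, 4388), (4389, 3860), (4390, 3900), (4391, 3651), (4392, 5316), (4393, 3591), (4394, 5319), (4395, 5321), (4396, 4396), (4397, 5323), (4398, 3594), (4399, 5326), (4400, 5329), (4401, 3596), (4402, 5332), (4403, 5021), (4404, 3598), (4405, 5336), (4406, 4406), (4407, 3600), (4408, 3604), (4409, 3605), (4410, 3603), (4411, 5339), (4412, 5340), (4413, 5245), (4414,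 4414), (4415, 4415)]
    ⟨e3 q4352 L124268 q3565, e3 q4353 L132077 q5263, e3 q4354 L124284 q3567, e3 q4355 L132103 q5266, e3 q4356 (flp_e L132069) q5261, e3 q4357 L132126 q5268, e3 q4358 (flp_e L124315) q3566, e3 q4359 (flp_e L132160) q5271, e3 q4360 (flp_e L124333) q3568, e3 q4361 (flp_e L132198) q5275, e3 q4362 (flp_e L132152) q5270, e3 q4363 L124365 q3570, e3 q4364 (flp_e L132234) q5279, e3 q4365 L124386 q3857, e3 q4366 L124393 q3825, e3 q4367 L132276 q5284, e3 q4368 L124408 q3827, e3 q4369 L124416 q4369, e3 q4370 L132315 q5289, e3 q4371 L124431 q3578, e3 q4372 L132337 q5292, e3 q4373 (flp_e L124441) q3575, e3 q4374 (flp_e L132364) q5295, e3 q4375 (flp_e L124453) q3577, e3 q4376 (flp_e L132383) q5298, e3 q4377 L124481 q3581, e3 q4378 L124488 q3580, e3 q4379 (flp_e L132412) q5301, e3 q4380 (flp_e L132394) q5299, e3 q4381 (flp_e L132403) q5300, e3 q4382 L124523 q3583, e3 q4383 L124534 q4383, e3 q4384 L124541 q4384, e3 q4385 L124551 q4385, e3 q4386 L124556 q4386, e3 q4387 L124564 q4387,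 e3 q4388 L124569 q4388, e3 q4389 L124576 q3860, e3 q4390 L124586 q3900, e3 q4391 L124595 q3651, e3 q4392 L132539 q5316, e3 q4393 (flp_e L124606) q3591, e3 q4394 (flp_e L132568) q5319, e3 q4395 L132578 q5321, e3 q4396 L124634 q4396, e3 q4397 L132591 q5323, e3 q4398 (flp_e L124645) q3594, e3 q4399 (flp_e L132626) q5326, e3 q4400 L132644 q5329, e3 q4401 (flp_e L124671) q3596, e3 q4402 (flp_e L132673) q5332, e3 q4403 (flp_e L129784) q5021, e3 q4404 L124694 q3598, e3 q4405 (flp_e L132697) q5336, e3 q4406 L124707 q4406, e3 q4407 L124713 q3600, e3 q4408 L124724 q3604, e3 q4409 L124733 q3605, e3 q4410 L124742 q3603, e3 q4411 (flp_e L132724) q5339, e3 q4412 (flp_e L132733) q5340, e3 q4413 (flp_e L131928) q5245, e3 q4414 L124778 q4414, e3 q4415 L124785 q4415, trivial⟩ (by decide +kernel)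

theorem ce_e_69 : ∀ r, r < 64 → sm ge (Qf (4416 + r)) = Qf (tab Gen.e (4416 + r)) :=
  edges_tab (sm ge) Qf (tab Gen.e) 4416 [(4416, 4416), (4417, 4417), (4418, 4418), (4419, 4419), (4420, 4420), (4421, 3845), (4422, 3804), (4423, 3846), (4424, 3620), (4425, 5357), (4426, 3622), (4427, 5209), (4428, 5355), (4429, 5361), (4430, 3621), (4431, 5364), (4432, 3623), (4433, 5368), (4434, 5363), (4435, 3625), (4436, 5372), (4437, 5224), (4438, 3854), (4439, 5222), (4440, 3632), (4441, 5377), (4442, 3629), (4443, 5380), (4444, 5223), (4445, 3635), (4446, 3634), (4447, 5282), (4448, 5182), (4449, 5382), (4450, 3637), (4451, 4451), (4452, 4452), (4453, 5238), (4454, 5239), (4455, 5237), (4456, 3645), (4457, 5391), (4458, 4041), (4459, 3647), (4460, 5394), (4461, 3653), (4462, 5183), (4463, 5312), (4464, 3715), (4465, 3862), (4466, 3863), (4467, 5402), (4468, 3864), (4469, 5407), (4470, 3866), (4471, 5410), (4472, 3664), (4473, 5413), (4474, 3661), (4475, 5416), (4476, 5418), (4477, 3663), (4478,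 5421), (4479, 3665)]
    ⟨e3 q4416 L124793 q4416, e3 q4417 L124803 q4417, e3 q4418 L124810 q4418, e3 q4419 L124820 q4419, e3 q4420 L124827 q4420, e3 q4421 L124833 q3845, e3 q4422 L124851 q3804, e3 q4423 L124859 q3846, e3 q4424 L124869 q3620, e3 q4425 L132883 q5357, e3 q4426 L124885 q3622, e3 q4427 (flp_e L131551) q5209, e3 q4428 (flp_e L132871) q5355, e3 q4429 L132922 q5361, e3 q4430 (flp_e L124922) q3621, e3 q4431 (flp_e L132950) q5364, e3 q4432 (flp_e L124936) q3623, e3 q4433 (flp_e L132986) q5368, e3 q4434 (flp_e L132944) q5363, e3 q4435 L124966 q3625, e3 q4436 (flp_e L133018) q5372, e3 q4437 (flp_e L131727) q5224, e3 q4438 L124992 q3854, e3 q4439 (flp_e L131704) q5222, e3 q4440 L125010 q3632, e3 q4441 L133055 q5377, e3 q4442 (flp_e L125024) q3629, e3 q4443 (flp_e L133086) q5380, e3 q4444 (flp_e L131713) q5223, e3 q4445 L125057 q3635, e3 q4446 L125064 q3634, e3 q4447 (flp_e L132263) q5282, e3 q4448 (flp_e L131252) q5182, e3 q4449 (flp_e L133101) q5382, e3 q4450 L125103 q3637, e3 q4451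 L125110 q4451, e3 q4452 L125123 q4452, e3 q4453 (flp_e L131857) q5238, e3 q4454 (flp_e L131871) q5239, e3 q4455 (flp_e L131849) q5237, e3 q4456 (flp_e L125146) q3645, e3 q4457 (flp_e L133178) q5391, e3 q4458 L125163 q4041, e3 q4459 L125169 q3647, e3 q4460 (flp_e L133196) q5394, e3 q4461 L125180 q3653, e3 q4462 (flp_e L131265) q5183, e3 q4463 (flp_e L132503) q5312, e3 q4464 L125204 q3715, e3 q4465 L125214 q3862, e3 q4466 L125222 q3863, e3 q4467 L133254 q5402, e3 q4468 L125234 q3864, e3 q4469 L133291 q5407, e3 q4470 L125248 q3866, e3 q4471 L133311 q5410, e3 q4472 L125260 q3664, e3 q4473 L133335 q5413, e3 q4474 (flp_e L125266) q3661, e3 q4475 (flp_e L133355) q5416, e3 q4476 L133361 q5418, e3 q4477 (flp_e L125287) q3663, e3 q4478 (flp_e L133391) q5421, e3 q4479 (flp_e L125304) q3665, trivial⟩ (by decide +kernel)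

theorem ce_e_70 : ∀ r, r < 64 → sm ge (Qf (4480 + r)) = Qf (tab Gen.e (4480 + r)) :=
  edges_tab (sm ge) Qf (tab Gen.e) 4480 [(4480, 5425), (4481, 3670), (4482, 3667), (4483, 5429), (4484, 4865), (4485, 5424), (4486, 3669), (4487, 5435), (4488, 5427), (4489, 5428), (4490, 3672), (4491, 3673), (4492, 5440), (4493, 5442), (4494, 3883), (4495, 5445), (4496, 3675), (4497, 5448), (4498, 3677), (4499, 5451), (4500, 5454), (4501, 3679), (4502, 5457), (4503, 5090), (4504, 3681), (4505, 5461), (4506, 4506), (4507, 3683), (4508, 5464), (4509, 3687), (4510, 3688), (4511, 3686), (4512, 5465), (4513, 5466), (4514, 5385), (4515, 3780), (4516, 3781), (4517, 3693), (4518, 5244), (4519, 3694), (4520, 5341), (4521, 5475), (4522, 3696), (4523, 5478), (4524, 5115), (4525, 3698), (4526, 5482), (4527, 5390), (4528, 3700), (4529, 5485), (4530, 5486), (4531, 3701), (4532, 5489), (4533, 5129), (4534, 3703), (4535, 5493), (4536, 5132), (4537, 5133), (4538, 3706), (4539, 4539), (4540, 4540), (4541, 3709), (4542,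 3713), (4543, 3714)]
    ⟨e3 q4480 (flp_e L133428) q5425, e3 q4481 L125326 q3670, e3 q4482 L125332 q3667, e3 q4483 (flp_e L133460) q5429, e3 q4484 (flp_e L128460) q4865, e3 q4485 (flp_e L133420) q5424, e3 q4486 L125361 q3669, e3 q4487 (flp_e L133507) q5435, e3 q4488 (flp_e L133444) q5427, e3 q4489 (flp_e L133452) q5428, e3 q4490 L125390 q3672, e3 q4491 (flp_e L125395) q3673, e3 q4492 (flp_e L133547) q5440, e3 q4493 L133559 q5442, e3 q4494 L125430 q3883, e3 q4495 L133589 q5445, e3 q4496 (flp_e L125444) q3675, e3 q4497 (flp_e L133624) q5448, e3 q4498 (flp_e L125458) q3677, e3 q4499 (flp_e L133648) q5451, e3 q4500 L133668 q5454, e3 q4501 (flp_e L125484) q3679, e3 q4502 (flp_e L133700) q5457, e3 q4503 (flp_e L130378) q5090, e3 q4504 L125516 q3681, e3 q4505 (flp_e L133730) q5461, e3 q4506 L125530 q4506, e3 q4507 L125537 q3683, e3 q4508 (flp_e L133758) q5464, e3 q4509 L125560 q3687, e3 q4510 L125570 q3688, e3 q4511 L125580 q3686, e3 q4512 (flp_e L133770) q5465, e3 q4513 (flp_e L133780) q5466,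 e3 q4514 (flp_e L133131) q5385, e3 q4515 L125614 q3780, e3 q4516 L125628 q3781, e3 q4517 L125638 q3693, e3 q4518 (flp_e L131915) q5244, e3 q4519 (flp_e L125648) q3694, e3 q4520 (flp_e L132747) q5341, e3 q4521 L133858 q5475, e3 q4522 (flp_e L125676) q3696, e3 q4523 (flp_e L133887) q5478, e3 q4524 (flp_e L130619) q5115, e3 q4525 L125703 q3698, e3 q4526 (flp_e L133913) q5482, e3 q4527 (flp_e L133171) q5390, e3 q4528 L125721 q3700, e3 q4529 (flp_e L133937) q5485, e3 q4530 L133941 q5486, e3 q4531 (flp_e L125737) q3701, e3 q4532 (flp_e L133969) q5489, e3 q4533 (flp_e L130744) q5129, e3 q4534 L125765 q3703, e3 q4535 (flp_e L133999) q5493, e3 q4536 (flp_e L130763) q5132, e3 q4537 (flp_e L130769) q5133, e3 q4538 L125787 q3706, e3 q4539 L125793 q4539, e3 q4540 L125802 q4540, e3 q4541 L125811 q3709, e3 q4542 L125821 q3713, e3 q4543 L125829 q3714, trivial⟩ (by decide +kernel)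

theorem ce_e_71 : ∀ r, r < 64 → sm ge (Qf (4544 + r)) = Qf (tab Gen.e (4544 + r)) :=
  edges_tab (sm ge) Qf (tab Gen.e) 4544 [(4544, 5314), (4545, 5499), (4546, 5036), (4547, 5397), (4548, 3800), (4549, 3904), (4550, 3905), (4551, 3906), (4552, 5507), (4553, 3908), (4554, 5509), (4555, 3722), (4556, 3723), (4557, 3917), (4558, 3727), (4559, 5510), (4560, 3732), (4561, 3924), (4562, 5514), (4563, 3926), (4564, 3929), (4565, 4565), (4566, 4566), (4567, 4567), (4568, 4568), (4569, 4569), (4570, 4570), (4571, 4571), (4572, 4572), (4573, 5523), (4574, 3747), (4575, 5527), (4576, 4576), (4577, 3749), (4578, 5531), (4579, 3750), (4580, 5534), (4581, 4581), (4582, 3752), (4583, 5538), (4584, 4897), (4585, 3759), (4586, 3754), (4587, 5544), (4588, 3762), (4589, 3763), (4590, 3757), (4591, 5549), (4592, 4905), (4593, 4906), (4594, 5542), (4595, 5543), (4596, 3761), (4597, 5558), (4598, 5546), (4599, 5547), (4600, 4600), (4601, 5562), (4602, 3765), (4603, 5565), (4604, 4604), (4605, 3767), (4606,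 5569), (4607, 4607)]
    ⟨e3 q4544 (flp_e L132526) q5314, e3 q4545 (flp_e L134041) q5499, e3 q4546 (flp_e L129924) q5036, e3 q4547 (flp_e L133216) q5397, e3 q4548 L125867 q3800, e3 q4549 L125878 q3904, e3 q4550 L125887 q3905, e3 q4551 L125896 q3906, e3 q4552 L134104 q5507, e3 q4553 L125914 q3908, e3 q4554 L134124 q5509, e3 q4555 (flp_e L125927) q3722, e3 q4556 (flp_e L125936) q3723, e3 q4557 L125950 q3917, e3 q4558 (flp_e L125956) q3727, e3 q4559 (flp_e L134137) q5510, e3 q4560 L125979 q3732, e3 q4561 L125988 q3924, e3 q4562 L134166 q5514, e3 q4563 L126000 q3926, e3 q4564 L126009 q3929, e3 q4565 L126016 q4565, e3 q4566 L126028 q4566, e3 q4567 L126035 q4567, e3 q4568 L126042 q4568, e3 q4569 L126053 q4569, e3 q4570 L126060 q4570, e3 q4571 L126068 q4571, e3 q4572 L126078 q4572, e3 q4573 L134238 q5523, e3 q4574 (flp_e L126091) q3747, e3 q4575 (flp_e L134277) q5527, e3 q4576 L126115 q4576, e3 q4577 L126123 q3749, e3 q4578 (flp_e L134316) q5531, e3 q4579 (flp_e L126137) q3750, e3 q4580 (flp_e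 L134343) q5534, e3 q4581 L126165 q4581, e3 q4582 L126173 q3752, e3 q4583 (flp_e L134384) q5538, e3 q4584 (flp_e L128670) q4897, e3 q4585 L126198 q3759, e3 q4586 L126205 q3754, e3 q4587 (flp_e L134428) q5544, e3 q4588 L126221 q3762, e3 q4589 L126230 q3763, e3 q4590 L126239 q3757, e3 q4591 L134468 q5549, e3 q4592 (flp_e L128730) q4905, e3 q4593 (flp_e L128740) q4906, e3 q4594 (flp_e L134410) q5542, e3 q4595 (flp_e L134419) q5543, e3 q4596 L126283 q3761, e3 q4597 L134530 q5558, e3 q4598 (flp_e L134445) q5546, e3 q4599 (flp_e L134454) q5547, e3 q4600 L126321 q4600, e3 q4601 L134565 q5562, e3 q4602 (flp_e L126333) q3765, e3 q4603 (flp_e L134595) q5565, e3 q4604 L126356 q4604, e3 q4605 L126363 q3767, e3 q4606 (flp_e L134632) q5569, e3 q4607 L126383 q4607, trivial⟩ (by decide +kernel)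

theorem ce_e_72 : ∀ r, r < 64 → sm ge (Qf (4608 + r)) = Qf (tab Gen.e (4608 + r)) :=
  edges_tab (sm ge) Qf (tab Gen.e) 4608 [(4608, 4608), (4609, 3770), (4610, 4610), (4611, 4611), (4612, 3773), (4613, 3777), (4614, 3778), (4615, 4615), (4616, 5576), (4617, 4935), (4618, 4618), (4619, 5471), (4620, 3782), (4621, 5581), (4622, 4622), (4623, 3784), (4624, 5585), (4625, 4625), (4626, 4626), (4627, 3787), (4628, 4628), (4629, 4629), (4630, 4630), (4631, 4631), (4632, 4632), (4633, 4633), (4634, 3797), (4635, 4945), (4636, 4636), (4637, 5595), (4638, 3801), (4639, 5208), (4640, 5350), (4641, 3805), (4642, 5598), (4643, 5175), (4644, 3807), (4645, 5600), (4646, 3810), (4647, 3844), (4648, 5253), (4649, 5254), (4650, 5256), (4651, 5606), (4652, 5258), (4653, 5607), (4654, 3815), (4655, 5609), (4656, 3816), (4657, 3817), (4658, 5613), (4659, 3822), (4660, 3819), (4661, 5617), (4662, 4662), (4663, 5612), (4664, 3821), (4665, 5623), (4666, 5615), (4667, 5616), (4668, 3824), (4669, 3826), (4670,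 4670), (4671, 4671)]
    ⟨e3 q4608 L126393 q4608, e3 q4609 L126400 q3770, e3 q4610 L126411 q4610, e3 q4611 L126422 q4611, e3 q4612 L126429 q3773, e3 q4613 L126439 q3777, e3 q4614 L126447 q3778, e3 q4615 L126459 q4615, e3 q4616 (flp_e L134701) q5576, e3 q4617 (flp_e L128975) q4935, e3 q4618 L126482 q4618, e3 q4619 (flp_e L133828) q5471, e3 q4620 (flp_e L126498) q3782, e3 q4621 (flp_e L134745) q5581, e3 q4622 L126522 q4622, e3 q4623 L126528 q3784, e3 q4624 (flp_e L134780) q5585, e3 q4625 L126545 q4625, e3 q4626 L126553 q4626, e3 q4627 L126560 q3787, e3 q4628 L126570 q4628, e3 q4629 L126578 q4629, e3 q4630 L126588 q4630, e3 q4631 L126596 q4631, e3 q4632 L126604 q4632, e3 q4633 L126616 q4633, e3 q4634 L126622 q3797, e3 q4635 (flp_e L129083) q4945, e3 q4636 L126637 q4636, e3 q4637 L134860 q5595, e3 q4638 (flp_e L126651) q3801, e3 q4639 (flp_e L131534) q5208, e3 q4640 (flp_e L132827) q5350, e3 q4641 (flp_e L126685) q3805, e3 q4642 (flp_e L134891) q5598, e3 q4643 (flp_e L131162) q5175, e3 q4644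 L126718 q3807, e3 q4645 (flp_e L134911) q5600, e3 q4646 L126738 q3810, e3 q4647 L126746 q3844, e3 q4648 (flp_e L131993) q5253, e3 q4649 (flp_e L132004) q5254, e3 q4650 (flp_e L132024) q5256, e3 q4651 L134959 q5606, e3 q4652 (flp_e L132042) q5258, e3 q4653 L134969 q5607, e3 q4654 (flp_e L126811) q3815, e3 q4655 L134992 q5609, e3 q4656 (flp_e L126834) q3816, e3 q4657 (flp_e L126846) q3817, e3 q4658 (flp_e L135036) q5613, e3 q4659 L126871 q3822, e3 q4660 L126881 q3819, e3 q4661 (flp_e L135077) q5617, e3 q4662 L126904 q4662, e3 q4663 (flp_e L135027) q5612, e3 q4664 L126919 q3821, e3 q4665 (flp_e L135131) q5623, e3 q4666 (flp_e L135057) q5615, e3 q4667 (flp_e L135067) q5616, e3 q4668 L126953 q3824, e3 q4669 (flp_e L126956) q3826, e3 q4670 L126976 q4670, e3 q4671 L126986 q4671, trivial⟩ (by decide +kernel)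

theorem ce_e_73 : ∀ r, r < 64 → sm ge (Qf (4672 + r)) = Qf (tab Gen.e (4672 + r)) :=
  edges_tab (sm ge) Qf (tab Gen.e) 4672 [(4672, 3833), (4673, 3834), (4674, 3832), (4675, 5631), (4676, 5632), (4677, 5601), (4678, 4678), (4679, 4679), (4680, 4680), (4681, 3842), (4682, 3843), (4683, 5637), (4684, 5035), (4685, 5196), (4686, 5351), (4687, 5353), (4688, 3847), (4689, 3851), (4690, 4690), (4691, 5641), (4692, 3850), (4693, 5647), (4694, 5176), (4695, 5255), (4696, 3853), (4697, 4982), (4698, 5280), (4699, 3893), (4700, 5007), (4701, 5032), (4702, 3903), (4703, 5399), (4704, 5658), (4705, 5401), (4706, 5405), (4707, 5660), (4708, 3865), (4709, 5663), (4710, 3867), (4711, 4711), (4712, 3869), (4713, 4713), (4714, 4714), (4715, 3877), (4716, 3872), (4717, 5675), (4718, 3880), (4719, 3881), (4720, 3875), (4721, 5680), (4722, 4722), (4723, 4723), (4724, 5673), (4725, 5674), (4726, 3879), (4727, 5689), (4728, 5677), (4729, 5678), (4730, 5651), (4731, 4731), (4732, 3885), (4733, 4733), (4734,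 4734), (4735, 3891)]
    ⟨e3 q4672 L126992 q3833, e3 q4673 L127001 q3834, e3 q4674 L127010 q3832, e3 q4675 (flp_e L135208) q5631, e3 q4676 (flp_e L135219) q5632, e3 q4677 (flp_e L134919) q5601, e3 q4678 L127044 q4678, e3 q4679 L127053 q4679, e3 q4680 L127065 q4680, e3 q4681 L127077 q3842, e3 q4682 L127088 q3843, e3 q4683 (flp_e L135261) q5637, e3 q4684 (flp_e L129911) q5035, e3 q4685 L131420 q5196, e3 q4686 (flp_e L132837) q5351, e3 q4687 (flp_e L132853) q5353, e3 q4688 (flp_e L127126) q3847, e3 q4689 L127135 q3851, e3 q4690 L127142 q4690, e3 q4691 (flp_e L135305) q5641, e3 q4692 L127153 q3850, e3 q4693 (flp_e L135345) q5647, e3 q4694 L131182 q5176, e3 q4695 (flp_e L132016) q5255, e3 q4696 L127179 q3853, e3 q4697 L129450 q4982, e3 q4698 (flp_e L132244) q5280, e3 q4699 L127203 q3893, e3 q4700 (flp_e L129659) q5007, e3 q4701 L129885 q5032, e3 q4702 L127219 q3903, e3 q4703 (flp_e L133238) q5399, e3 q4704 L135435 q5658, e3 q4705 (flp_e L133252) q5401, e3 q4706 (flp_e L133283) q5405, e3 q4707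 L135447 q5660, e3 q4708 (flp_e L127257) q3865, e3 q4709 (flp_e L135471) q5663, e3 q4710 (flp_e L127270) q3867, e3 q4711 L127281 q4711, e3 q4712 (flp_e L127282) q3869, e3 q4713 L127294 q4713, e3 q4714 L127299 q4714, e3 q4715 L127306 q3877, e3 q4716 L127314 q3872, e3 q4717 (flp_e L135555) q5675, e3 q4718 L127328 q3880, e3 q4719 L127334 q3881, e3 q4720 L127342 q3875, e3 q4721 L135584 q5680, e3 q4722 L127356 q4722, e3 q4723 L127365 q4723, e3 q4724 (flp_e L135537) q5673, e3 q4725 (flp_e L135545) q5674, e3 q4726 L127388 q3879, e3 q4727 L135674 q5689, e3 q4728 (flp_e L135568) q5677, e3 q4729 (flp_e L135576) q5678, e3 q4730 (flp_e L135384) q5651, e3 q4731 L127424 q4731, e3 q4732 L127430 q3885, e3 q4733 L127439 q4733, e3 q4734 L127446 q4734, e3 q4735 L127455 q3891, trivial⟩ (by decide +kernel)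

theorem ce_e_74 : ∀ r, r < 64 → sm ge (Qf (4736 + r)) = Qf (tab Gen.e (4736 + r)) :=
  edges_tab (sm ge) Qf (tab Gen.e) 4736 [(4736, 3892), (4737, 5281), (4738, 5695), (4739, 5002), (4740, 5654), (4741, 4741), (4742, 4742), (4743, 3901), (4744, 5015), (4745, 5313), (4746, 5502), (4747, 5703), (4748, 5504), (4749, 5505), (4750, 4794), (4751, 3907), (4752, 5706), (4753, 3911), (4754, 4754), (4755, 3919), (4756, 4756), (4757, 3923), (4758, 4791), (4759, 5709), (4760, 5512), (4761, 3925), (4762, 5712), (4763, 3928), (4764, 5714), (4765, 3931), (4766, 4766), (4767, 4767), (4768, 3934), (4769, 5720), (4770, 4770), (4771, 4771), (4772, 3937), (4773, 5725), (4774, 4774), (4775, 4775), (4776, 3948), (4777, 3949), (4778, 3941), (4779, 5734), (4780, 3952), (4781, 3953), (4782, 4782), (4783, 3945), (4784, 4785), (4785, 4784), (4786, 5738), (4787, 4787), (4788, 4788), (4789, 5731), (4790, 5732), (4791, 4758), (4792, 3951), (4793, 5735), (4794, 4750), (4795, 4795), (4796, 4796), (4797, 4797), (4798,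 4798), (4799, 3961)]
    ⟨e3 q4736 L127465 q3892, e3 q4737 (flp_e L132254) q5281, e3 q4738 (flp_e L135736) q5695, e3 q4739 (flp_e L129619) q5002, e3 q4740 (flp_e L135406) q5654, e3 q4741 L127500 q4741, e3 q4742 L127506 q4742, e3 q4743 L127513 q3901, e3 q4744 L129732 q5015, e3 q4745 (flp_e L132511) q5313, e3 q4746 (flp_e L134064) q5502, e3 q4747 L135804 q5703, e3 q4748 (flp_e L134080) q5504, e3 q4749 (flp_e L134091) q5505, e3 q4750 L127924 q4794, e3 q4751 (flp_e L127564) q3907, e3 q4752 (flp_e L135834) q5706, e3 q4753 (flp_e L127580) q3911, e3 q4754 L127598 q4754, e3 q4755 L127604 q3919, e3 q4756 L127612 q4756, e3 q4757 (flp_e L127617) q3923, e3 q4758 L127893 q4791, e3 q4759 L135866 q5709, e3 q4760 (flp_e L134153) q5512, e3 q4761 (flp_e L127645) q3925, e3 q4762 (flp_e L135893) q5712, e3 q4763 L127662 q3928, e3 q4764 (flp_e L135910) q5714, e3 q4765 L127678 q3931, e3 q4766 L127687 q4766, e3 q4767 L127693 q4767, e3 q4768 L127699 q3934, e3 q4769 (flp_e L135956) q5720, e3 q4770 L127717 q4770,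 e3 q4771 L127726 q4771, e3 q4772 L127734 q3937, e3 q4773 L135996 q5725, e3 q4774 L127748 q4774, e3 q4775 L127755 q4775, e3 q4776 L127761 q3948, e3 q4777 L127768 q3949, e3 q4778 L127777 q3941, e3 q4779 L136066 q5734, e3 q4780 L127792 q3952, e3 q4781 L127801 q3953, e3 q4782 L127810 q4782, e3 q4783 (flp_e L127812) q3945, e3 q4784 (flp_e L127833) q4785, e3 q4785 L127833 q4784, e3 q4786 (flp_e L136106) q5738, e3 q4787 L127859 q4787, e3 q4788 L127866 q4788, e3 q4789 (flp_e L136050) q5731, e3 q4790 (flp_e L136059) q5732, e3 q4791 (flp_e L127893) q4758, e3 q4792 (flp_e L127895) q3951, e3 q4793 (flp_e L136078) q5735, e3 q4794 (flp_e L127924) q4750, e3 q4795 L127929 q4795, e3 q4796 L127944 q4796, e3 q4797 L127953 q4797, e3 q4798 L127962 q4798, e3 q4799 L127968 q3961, trivial⟩ (by decide +kernel)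

theorem ce_e_75 : ∀ r, r < 64 → sm ge (Qf (4800 + r)) = Qf (tab Gen.e (4800 + r)) :=
  edges_tab (sm ge) Qf (tab Gen.e) 4800 [(4800, 4934), (4801, 4801), (4802, 4802), (4803, 4803), (4804, 4949), (4805, 4805), (4806, 3973), (4807, 4808), (4808, 4807), (4809, 5164), (4810, 4810), (4811, 4811), (4812, 3984), (4813, 4813), (4814, 4814), (4815, 5755), (4816, 3990), (4817, 5757), (4818, 3989), (4819, 5760), (4820, 3991), (4821, 5764), (4822, 5759), (4823, 3993), (4824, 5768), (4825, 5770), (4826, 4826), (4827, 5773), (4828, 3995), (4829, 5776), (4830, 3999), (4831, 3998), (4832, 5780), (4833, 5778), (4834, 5779), (4835, 4001), (4836, 4836), (4837, 4837), (4838, 4838), (4839, 5123), (4840, 4004), (4841, 5787), (4842, 4006), (4843, 5789), (4844, 5109), (4845, 4008), (4846, 5792), (4847, 4012), (4848, 4013), (4849, 4011), (4850, 5793), (4851, 5794), (4852, 5031), (4853, 4853), (4854, 4854), (4855, 5803), (4856, 4856), (4857, 5805), (4858, 4019), (4859, 5808), (4860, 4021), (4861, 5812), (4862,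 4026), (4863, 4023)]
    ⟨e3 q4800 (flp_e L128966) q4934, e3 q4801 L127983 q4801, e3 q4802 L127987 q4802, e3 q4803 L128000 q4803, e3 q4804 (flp_e L129126) q4949, e3 q4805 L128013 q4805, e3 q4806 L128022 q3973, e3 q4807 (flp_e L128039) q4808, e3 q4808 L128039 q4807, e3 q4809 (flp_e L131046) q5164, e3 q4810 L128057 q4810, e3 q4811 L128067 q4811, e3 q4812 (flp_e L128074) q3984, e3 q4813 L128090 q4813, e3 q4814 L128100 q4814, e3 q4815 L136253 q5755, e3 q4816 L128115 q3990, e3 q4817 L136269 q5757, e3 q4818 (flp_e L128127) q3989, e3 q4819 (flp_e L136303) q5760, e3 q4820 (flp_e L128144) q3991, e3 q4821 (flp_e L136337) q5764, e3 q4822 (flp_e L136295) q5759, e3 q4823 L128176 q3993, e3 q4824 (flp_e L136371) q5768, e3 q4825 L136382 q5770, e3 q4826 L128198 q4826, e3 q4827 L136399 q5773, e3 q4828 (flp_e L128205) q3995, e3 q4829 (flp_e L136426) q5776, e3 q4830 L128223 q3999, e3 q4831 L128230 q3998, e3 q4832 (flp_e L136454) q5780, e3 q4833 (flp_e L136437) q5778, e3 q4834 (flp_e L136445) q5779, e3 q4835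 L128259 q4001, e3 q4836 L128265 q4836, e3 q4837 L128275 q4837, e3 q4838 L128282 q4838, e3 q4839 (flp_e L130700) q5123, e3 q4840 (flp_e L128289) q4004, e3 q4841 (flp_e L136504) q5787, e3 q4842 (flp_e L128302) q4006, e3 q4843 (flp_e L136517) q5789, e3 q4844 L130563 q5109, e3 q4845 L128325 q4008, e3 q4846 (flp_e L136535) q5792, e3 q4847 L128336 q4012, e3 q4848 L128344 q4013, e3 q4849 L128353 q4011, e3 q4850 (flp_e L136542) q5793, e3 q4851 (flp_e L136551) q5794, e3 q4852 (flp_e L129872) q5031, e3 q4853 L128382 q4853, e3 q4854 L128390 q4854, e3 q4855 L136602 q5803, e3 q4856 L128401 q4856, e3 q4857 L136615 q5805, e3 q4858 (flp_e L128406) q4019, e3 q4859 (flp_e L136637) q5808, e3 q4860 (flp_e L128418) q4021, e3 q4861 (flp_e L136664) q5812, e3 q4862 L128440 q4026, e3 q4863 L128446 q4023, trivial⟩ (by decide +kernel)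

theorem ce_e_76 : ∀ r, r < 64 → sm ge (Qf (4864 + r)) = Qf (tab Gen.e (4864 + r)) :=
  edges_tab (sm ge) Qf (tab Gen.e) 4864 [(4864, 5816), (4865, 4484), (4866, 5811), (4867, 4025), (4868, 5822), (4869, 5814), (4870, 5815), (4871, 4028), (4872, 4029), (4873, 5828), (4874, 5379), (4875, 4032), (4876, 5832), (4877, 4036), (4878, 4037), (4879, 4035), (4880, 5833), (4881, 5834), (4882, 5101), (4883, 5120), (4884, 4040), (4885, 5840), (4886, 5112), (4887, 5393), (4888, 4043), (4889, 4047), (4890, 4048), (4891, 5140), (4892, 5844), (4893, 5849), (4894, 5143), (4895, 5851), (4896, 4896), (4897, 4584), (4898, 4058), (4899, 4053), (4900, 5858), (4901, 4061), (4902, 4062), (4903, 4056), (4904, 5863), (4905, 4592), (4906, 4593), (4907, 5856), (4908, 5857), (4909, 4060), (4910, 5872), (4911, 5860), (4912, 5861), (4913, 4913), (4914, 4067), (4915, 4068), (4916, 4916), (4917, 5876), (4918, 5881), (4919, 4919), (4920, 4073), (4921, 5885), (4922, 4922), (4923, 5888), (4924, 5890), (4925, 4074), (4926,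 4926), (4927, 4077)]
    ⟨e3 q4864 (flp_e L136694) q5816, e3 q4865 L128460 q4484, e3 q4866 (flp_e L136656) q5811, e3 q4867 L128475 q4025, e3 q4868 (flp_e L136742) q5822, e3 q4869 (flp_e L136679) q5814, e3 q4870 (flp_e L136686) q5815, e3 q4871 L128502 q4028, e3 q4872 (flp_e L128506) q4029, e3 q4873 (flp_e L136786) q5828, e3 q4874 (flp_e L133078) q5379, e3 q4875 L128531 q4032, e3 q4876 (flp_e L136812) q5832, e3 q4877 L128543 q4036, e3 q4878 L128552 q4037, e3 q4879 L128562 q4035, e3 q4880 (flp_e L136820) q5833, e3 q4881 (flp_e L136830) q5834, e3 q4882 (flp_e L130472) q5101, e3 q4883 L130665 q5120, e3 q4884 L128597 q4040, e3 q4885 (flp_e L136872) q5840, e3 q4886 L130592 q5112, e3 q4887 (flp_e L133190) q5393, e3 q4888 L128615 q4043, e3 q4889 L128621 q4047, e3 q4890 L128629 q4048, e3 q4891 (flp_e L130820) q5140, e3 q4892 (flp_e L136894) q5844, e3 q4893 L136922 q5849, e3 q4894 (flp_e L130838) q5143, e3 q4895 L136931 q5851, e3 q4896 L128666 q4896, e3 q4897 L128670 q4584, e3 q4898 L128678 q4058,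 e3 q4899 L128685 q4053, e3 q4900 (flp_e L136982) q5858, e3 q4901 L128700 q4061, e3 q4902 L128708 q4062, e3 q4903 L128717 q4056, e3 q4904 L137020 q5863, e3 q4905 L128730 q4592, e3 q4906 L128740 q4593, e3 q4907 (flp_e L136965) q5856, e3 q4908 (flp_e L136973) q5857, e3 q4909 L128762 q4060, e3 q4910 L137084 q5872, e3 q4911 (flp_e L136999) q5860, e3 q4912 (flp_e L137008) q5861, e3 q4913 L128798 q4913, e3 q4914 L128804 q4067, e3 q4915 L128812 q4068, e3 q4916 L128822 q4916, e3 q4917 (flp_e L137121) q5876, e3 q4918 L137156 q5881, e3 q4919 L128843 q4919, e3 q4920 L128850 q4073, e3 q4921 L137180 q5885, e3 q4922 L128863 q4922, e3 q4923 L137199 q5888, e3 q4924 L137213 q5890, e3 q4925 (flp_e L128879) q4074, e3 q4926 L128887 q4926, e3 q4927 L128897 q4077, trivial⟩ (by decide +kernel)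

theorem ce_e_77 : ∀ r, r < 64 → sm ge (Qf (4928 + r)) = Qf (tab Gen.e (4928 + r)) :=
  edges_tab (sm ge) Qf (tab Gen.e) 4928 [(4928, 5893), (4929, 5892), (4930, 5895), (4931, 4078), (4932, 5898), (4933, 4083), (4934, 4800), (4935, 4617), (4936, 4082), (4937, 5902), (4938, 5901), (4939, 4085), (4940, 5906), (4941, 4132), (4942, 4089), (4943, 4134), (4944, 4135), (4945, 4635), (4946, 4095), (4947, 4094), (4948, 5913), (4949, 4804), (4950, 5912), (4951, 4097), (4952, 4157), (4953, 4158), (4954, 4159), (4955, 4160), (4956, 4300), (4957, 4102), (4958, 5922), (4959, 4163), (4960, 4164), (4961, 4165), (4962, 4166), (4963, 4167), (4964, 4168), (4965, 4965), (4966, 4966), (4967, 4967), (4968, 4968), (4969, 4112), (4970, 5939), (4971, 4114), (4972, 5941), (4973, 5937), (4974, 5943), (4975, 4113), (4976, 5946), (4977, 4115), (4978, 5950), (4979, 5945), (4980, 4117), (4981, 5954), (4982, 4697), (4983, 4983), (4984, 5959), (4985, 4985), (4986, 4986), (4987, 5964), (4988, 4125), (4989, 5967), (4990,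 4122), (4991, 5970)]
    ⟨e3 q4928 L137240 q5893, e3 q4929 (flp_e L137234) q5892, e3 q4930 L137259 q5895, e3 q4931 (flp_e L128927) q4078, e3 q4932 (flp_e L137289) q5898, e3 q4933 L128951 q4083, e3 q4934 L128966 q4800, e3 q4935 L128975 q4617, e3 q4936 (flp_e L128981) q4082, e3 q4937 (flp_e L137334) q5902, e3 q4938 (flp_e L137322) q5901, e3 q4939 L129017 q4085, e3 q4940 (flp_e L137374) q5906, e3 q4941 L129039 q4132, e3 q4942 L129048 q4089, e3 q4943 L129059 q4134, e3 q4944 L129073 q4135, e3 q4945 L129083 q4635, e3 q4946 L129096 q4095, e3 q4947 L129107 q4094, e3 q4948 (flp_e L137456) q5913, e3 q4949 L129126 q4804, e3 q4950 (flp_e L137443) q5912, e3 q4951 L129143 q4097, e3 q4952 L129155 q4157, e3 q4953 L129165 q4158, e3 q4954 L129179 q4159, e3 q4955 L129188 q4160, e3 q4956 (flp_e L129202) q4300, e3 q4957 (flp_e L129204) q4102, e3 q4958 (flp_e L137573) q5922, e3 q4959 L129229 q4163, e3 q4960 L129243 q4164, e3 q4961 L129249 q4165, e3 q4962 L129258 q4166, e3 q4963 L129267 q4167, e3 q4964 L129274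 q4168, e3 q4965 L129282 q4965, e3 q4966 L129296 q4966, e3 q4967 L129305 q4967, e3 q4968 L129316 q4968, e3 q4969 L129325 q4112, e3 q4970 L137738 q5939, e3 q4971 L129343 q4114, e3 q4972 L137756 q5941, e3 q4973 (flp_e L137726) q5937, e3 q4974 L137778 q5943, e3 q4975 (flp_e L129377) q4113, e3 q4976 (flp_e L137808) q5946, e3 q4977 (flp_e L129394) q4115, e3 q4978 (flp_e L137841) q5950, e3 q4979 (flp_e L137800) q5945, e3 q4980 L129426 q4117, e3 q4981 (flp_e L137878) q5954, e3 q4982 (flp_e L129450) q4697, e3 q4983 L129457 q4983, e3 q4984 L137920 q5959, e3 q4985 L129473 q4985, e3 q4986 L129484 q4986, e3 q4987 L137966 q5964, e3 q4988 L129501 q4125, e3 q4989 L137992 q5967, e3 q4990 (flp_e L129515) q4122, e3 q4991 (flp_e L138026) q5970, trivial⟩ (by decide +kernel)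

theorem ce_e_78 : ∀ r, r < 64 → sm ge (Qf (4992 + r)) = Qf (tab Gen.e (4992 + r)) :=
  edges_tab (sm ge) Qf (tab Gen.e) 4992 [(4992, 4124), (4993, 5972), (4994, 4128), (4995, 4127), (4996, 5976), (4997, 5974), (4998, 5975), (4999, 4130), (5000, 5981), (5001, 5001), (5002, 4739), (5003, 5907), (5004, 5908), (5005, 5909), (5006, 5910), (5007, 4700), (5008, 5992), (5009, 5009), (5010, 5995), (5011, 4138), (5012, 5998), (5013, 6001), (5014, 5014), (5015, 4744), (5016, 4141), (5017, 6005), (5018, 6008), (5019, 4143), (5020, 6011), (5021, 4403), (5022, 4145), (5023, 6015), (5024, 4147), (5025, 6016), (5026, 4151), (5027, 4152), (5028, 4150), (5029, 6017), (5030, 6018), (5031, 4852), (5032, 4701), (5033, 4154), (5034, 6024), (5035, 4684), (5036, 4546), (5037, 5917), (5038, 5918), (5039, 5919), (5040, 5920), (5041, 4162), (5042, 6032), (5043, 5924), (5044, 5925), (5045, 5926), (5046, 5927), (5047, 5928), (5048, 5048), (5049, 5049), (5050, 6040), (5051, 5051), (5052, 6045), (5053, 5053), (5054,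 5054), (5055, 6050)]
    ⟨e3 q4992 (flp_e L129529) q4124, e3 q4993 (flp_e L138042) q5972, e3 q4994 L129554 q4128, e3 q4995 L129560 q4127, e3 q4996 (flp_e L138081) q5976, e3 q4997 (flp_e L138064) q5974, e3 q4998 (flp_e L138073) q5975, e3 q4999 L129591 q4130, e3 q5000 L138121 q5981, e3 q5001 L129608 q5001, e3 q5002 L129619 q4739, e3 q5003 (flp_e L137386) q5907, e3 q5004 (flp_e L137396) q5908, e3 q5005 (flp_e L137410) q5909, e3 q5006 (flp_e L137419) q5910, e3 q5007 L129659 q4700, e3 q5008 L138233 q5992, e3 q5009 L129678 q5009, e3 q5010 L138267 q5995, e3 q5011 (flp_e L129690) q4138, e3 q5012 (flp_e L138306) q5998, e3 q5013 L138332 q6001, e3 q5014 L129719 q5014, e3 q5015 (flp_e L129732) q4744, e3 q5016 (flp_e L129734) q4141, e3 q5017 (flp_e L138387) q6005, e3 q5018 L138409 q6008, e3 q5019 (flp_e L129762) q4143, e3 q5020 (flp_e L138453) q6011, e3 q5021 L129784 q4403, e3 q5022 L129792 q4145, e3 q5023 (flp_e L138491) q6015, e3 q5024 L129808 q4147, e3 q5025 (flp_e L138499) q6016, e3 q5026 L129830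 q4151, e3 q5027 L129839 q4152, e3 q5028 L129847 q4150, e3 q5029 (flp_e L138512) q6017, e3 q5030 (flp_e L138526) q6018, e3 q5031 L129872 q4852, e3 q5032 (flp_e L129885) q4701, e3 q5033 (flp_e L129887) q4154, e3 q5034 (flp_e L138590) q6024, e3 q5035 L129911 q4684, e3 q5036 L129924 q4546, e3 q5037 (flp_e L137507) q5917, e3 q5038 (flp_e L137521) q5918, e3 q5039 (flp_e L137535) q5919, e3 q5040 (flp_e L137544) q5920, e3 q5041 L129966 q4162, e3 q5042 (flp_e L138685) q6032, e3 q5043 (flp_e L137596) q5924, e3 q5044 (flp_e L137610) q5925, e3 q5045 (flp_e L137620) q5926, e3 q5046 (flp_e L137630) q5927, e3 q5047 (flp_e L137637) q5928, e3 q5048 L130036 q5048, e3 q5049 L130045 q5049, e3 q5050 L138760 q6040, e3 q5051 L130062 q5051, e3 q5052 L138803 q6045, e3 q5053 L130077 q5053, e3 q5054 L130086 q5054, e3 q5055 L138841 q6050, trivial⟩ (by decide +kernel)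

theorem ce_e_79 : ∀ r, r < 64 → sm ge (Qf (5056 + r)) = Qf (tab Gen.e (5056 + r)) :=
  edges_tab (sm ge) Qf (tab Gen.e) 5056 [(5056, 4177), (5057, 6053), (5058, 4174), (5059, 6056), (5060, 6058), (5061, 4176), (5062, 6061), (5063, 4178), (5064, 6065), (5065, 4183), (5066, 4180), (5067, 6069), (5068, 5366), (5069, 6064), (5070, 4182), (5071, 6075), (5072, 6067), (5073, 6068), (5074, 4185), (5075, 4186), (5076, 6080), (5077, 6084), (5078, 5078), (5079, 6087), (5080, 4188), (5081, 6090), (5082, 6092), (5083, 5083), (5084, 6095), (5085, 4191), (5086, 6098), (5087, 6101), (5088, 4193), (5089, 6104), (5090, 4503), (5091, 4195), (5092, 6108), (5093, 5093), (5094, 4197), (5095, 6111), (5096, 4201), (5097, 4202), (5098, 4200), (5099, 6112), (5100, 6113), (5101, 4882), (5102, 5102), (5103, 5103), (5104, 5104), (5105, 5105), (5106, 4210), (5107, 4333), (5108, 6121), (5109, 4844), (5110, 4211), (5111, 6124), (5112, 4886), (5113, 4213), (5114, 6129), (5115, 4524), (5116, 4215), (5117, 6133), (5118,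 4216), (5119, 6134)]
    ⟨e3 q5056 L130101 q4177, e3 q5057 L138863 q6053, e3 q5058 (flp_e L130111) q4174, e3 q5059 (flp_e L138887) q6056, e3 q5060 L138897 q6058, e3 q5061 (flp_e L130132) q4176, e3 q5062 (flp_e L138925) q6061, e3 q5063 (flp_e L130148) q4178, e3 q5064 (flp_e L138955) q6065, e3 q5065 L130166 q4183, e3 q5066 L130172 q4180, e3 q5067 (flp_e L138984) q6069, e3 q5068 (flp_e L132972) q5366, e3 q5069 (flp_e L138948) q6064, e3 q5070 L130200 q4182, e3 q5071 (flp_e L139028) q6075, e3 q5072 (flp_e L138969) q6067, e3 q5073 (flp_e L138976) q6068, e3 q5074 L130230 q4185, e3 q5075 (flp_e L130234) q4186, e3 q5076 (flp_e L139071) q6080, e3 q5077 L139118 q6084, e3 q5078 L130270 q5078, e3 q5079 L139147 q6087, e3 q5080 (flp_e L130285) q4188, e3 q5081 (flp_e L139183) q6090, e3 q5082 L139195 q6092, e3 q5083 L130316 q5083, e3 q5084 L139228 q6095, e3 q5085 (flp_e L130333) q4191, e3 q5086 (flp_e L139271) q6098, e3 q5087 L139291 q6101, e3 q5088 (flp_e L130355) q4193, e3 q5089 (flp_e L139320) q6104,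 e3 q5090 L130378 q4503, e3 q5091 L130386 q4195, e3 q5092 (flp_e L139352) q6108, e3 q5093 L130402 q5093, e3 q5094 L130408 q4197, e3 q5095 (flp_e L139376) q6111, e3 q5096 L130428 q4201, e3 q5097 L130436 q4202, e3 q5098 L130445 q4200, e3 q5099 (flp_e L139386) q6112, e3 q5100 (flp_e L139395) q6113, e3 q5101 L130472 q4882, e3 q5102 L130478 q5102, e3 q5103 L130493 q5103, e3 q5104 L130502 q5104, e3 q5105 L130513 q5105, e3 q5106 L130522 q4210, e3 q5107 L130537 q4333, e3 q5108 (flp_e L139479) q6121, e3 q5109 (flp_e L130563) q4844, e3 q5110 (flp_e L130565) q4211, e3 q5111 (flp_e L139517) q6124, e3 q5112 (flp_e L130592) q4886, e3 q5113 (flp_e L130594) q4213, e3 q5114 (flp_e L139577) q6129, e3 q5115 L130619 q4524, e3 q5116 L130624 q4215, e3 q5117 (flp_e L139611) q6133, e3 q5118 (flp_e L130634) q4216, e3 q5119 (flp_e L139620) q6134, trivial⟩ (by decide +kernel)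

theorem ce_e_80 : ∀ r, r < 64 → sm ge (Qf (5120 + r)) = Qf (tab Gen.e (5120 + r)) :=
  edges_tab (sm ge) Qf (tab Gen.e) 5120 [(5120, 4883), (5121, 4218), (5122, 6138), (5123, 4839), (5124, 4220), (5125, 6142), (5126, 6143), (5127, 4221), (5128, 6146), (5129, 4533), (5130, 4223), (5131, 6150), (5132, 4536), (5133, 4537), (5134, 4226), (5135, 5135), (5136, 5136), (5137, 4229), (5138, 4233), (5139, 4234), (5140, 4891), (5141, 6157), (5142, 6028), (5143, 4894), (5144, 5144), (5145, 5145), (5146, 5146), (5147, 5147), (5148, 6161), (5149, 5149), (5150, 6166), (5151, 5151), (5152, 4245), (5153, 6168), (5154, 6171), (5155, 5155), (5156, 6174), (5157, 4247), (5158, 6176), (5159, 6178), (5160, 4249), (5161, 6180), (5162, 4250), (5163, 4252), (5164, 4809), (5165, 4255), (5166, 4258), (5167, 6182), (5168, 4322), (5169, 4259), (5170, 6185), (5171, 6187), (5172, 4261), (5173, 6189), (5174, 4263), (5175, 4643), (5176, 4694), (5177, 4266), (5178, 5178), (5179, 4271), (5180, 4337), (5181, 4274), (5182,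 4448), (5183, 4462)]
    ⟨e3 q5120 (flp_e L130665) q4883, e3 q5121 (flp_e L130667) q4218, e3 q5122 (flp_e L139667) q6138, e3 q5123 L130700 q4839, e3 q5124 L130706 q4220, e3 q5125 (flp_e L139711) q6142, e3 q5126 L139715 q6143, e3 q5127 (flp_e L130722) q4221, e3 q5128 (flp_e L139750) q6146, e3 q5129 L130744 q4533, e3 q5130 L130751 q4223, e3 q5131 (flp_e L139786) q6150, e3 q5132 L130763 q4536, e3 q5133 L130769 q4537, e3 q5134 L130775 q4226, e3 q5135 L130782 q5135, e3 q5136 L130791 q5136, e3 q5137 L130797 q4229, e3 q5138 L130805 q4233, e3 q5139 L130812 q4234, e3 q5140 L130820 q4891, e3 q5141 (flp_e L139843) q6157, e3 q5142 (flp_e L138646) q6028, e3 q5143 L130838 q4894, e3 q5144 L130849 q5144, e3 q5145 L130862 q5145, e3 q5146 L130875 q5146, e3 q5147 L130884 q5147, e3 q5148 L139874 q6161, e3 q5149 L130905 q5149, e3 q5150 L139915 q6166, e3 q5151 L130918 q5151, e3 q5152 (flp_e L130923) q4245, e3 q5153 (flp_e L139931) q6168, e3 q5154 L139960 q6171, e3 q5155 L130962 q5155, e3 q5156 L139993 q6174,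 e3 q5157 (flp_e L130974) q4247, e3 q5158 (flp_e L140014) q6176, e3 q5159 L140033 q6178, e3 q5160 (flp_e L131003) q4249, e3 q5161 L140057 q6180, e3 q5162 (flp_e L131022) q4250, e3 q5163 (flp_e L131028) q4252, e3 q5164 L131046 q4809, e3 q5165 L131056 q4255, e3 q5166 L131067 q4258, e3 q5167 (flp_e L140084) q6182, e3 q5168 (flp_e L131096) q4322, e3 q5169 (flp_e L131098) q4259, e3 q5170 (flp_e L140124) q6185, e3 q5171 L140144 q6187, e3 q5172 (flp_e L131129) q4261, e3 q5173 (flp_e L140171) q6189, e3 q5174 L131155 q4263, e3 q5175 L131162 q4643, e3 q5176 (flp_e L131182) q4694, e3 q5177 (flp_e L131184) q4266, e3 q5178 L131200 q5178, e3 q5179 L131214 q4271, e3 q5180 L131227 q4337, e3 q5181 L131241 q4274, e3 q5182 L131252 q4448, e3 q5183 L131265 q4462, trivial⟩ (by decide +kernel)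

theorem ce_e_81 : ∀ r, r < 64 → sm ge (Qf (5184 + r)) = Qf (tab Gen.e (5184 + r)) :=
  edges_tab (sm ge) Qf (tab Gen.e) 5184 [(5184, 4277), (5185, 4282), (5186, 6191), (5187, 6192), (5188, 4283), (5189, 6194), (5190, 4286), (5191, 4288), (5192, 4325), (5193, 4292), (5194, 4327), (5195, 4328), (5196, 4685), (5197, 5197), (5198, 4339), (5199, 4340), (5200, 4341), (5201, 4342), (5202, 4343), (5203, 5921), (5204, 4344), (5205, 4345), (5206, 4346), (5207, 4347), (5208, 4639), (5209, 4427), (5210, 4309), (5211, 6216), (5212, 4311), (5213, 6214), (5214, 6218), (5215, 4310), (5216, 6220), (5217, 4312), (5218, 6223), (5219, 6183), (5220, 4314), (5221, 6226), (5222, 4439), (5223, 4444), (5224, 4437), (5225, 4319), (5226, 6081), (5227, 4317), (5228, 6232), (5229, 4321), (5230, 6184), (5231, 4324), (5232, 6195), (5233, 6196), (5234, 6197), (5235, 6198), (5236, 6199), (5237, 4455), (5238, 4453), (5239, 4454), (5240, 5989), (5241, 6122), (5242, 4335), (5243, 6248), (5244, 4518), (5245, 4413), (5246,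 6201), (5247, 6202)]
    ⟨e3 q5184 L131279 q4277, e3 q5185 L131291 q4282, e3 q5186 (flp_e L140194) q6191, e3 q5187 L140200 q6192, e3 q5188 (flp_e L131322) q4283, e3 q5189 (flp_e L140230) q6194, e3 q5190 L131349 q4286, e3 q5191 L131362 q4288, e3 q5192 L131375 q4325, e3 q5193 L131386 q4292, e3 q5194 L131395 q4327, e3 q5195 L131407 q4328, e3 q5196 (flp_e L131420) q4685, e3 q5197 L131428 q5197, e3 q5198 L131435 q4339, e3 q5199 L131452 q4340, e3 q5200 L131460 q4341, e3 q5201 L131472 q4342, e3 q5202 L131479 q4343, e3 q5203 (flp_e L137559) q5921, e3 q5204 L131497 q4344, e3 q5205 L131506 q4345, e3 q5206 L131517 q4346, e3 q5207 L131526 q4347, e3 q5208 L131534 q4639, e3 q5209 L131551 q4427, e3 q5210 L131565 q4309, e3 q5211 L140498 q6216, e3 q5212 L131585 q4311, e3 q5213 (flp_e L140484) q6214, e3 q5214 L140520 q6218, e3 q5215 (flp_e L131620) q4310, e3 q5216 (flp_e L140554) q6220, e3 q5217 (flp_e L131644) q4312, e3 q5218 (flp_e L140583) q6223, e3 q5219 (flp_e L140093) q6183, e3 q5220 L131680 q4314,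 e3 q5221 (flp_e L140615) q6226, e3 q5222 L131704 q4439, e3 q5223 L131713 q4444, e3 q5224 L131727 q4437, e3 q5225 L131737 q4319, e3 q5226 (flp_e L139088) q6081, e3 q5227 (flp_e L131751) q4317, e3 q5228 (flp_e L140676) q6232, e3 q5229 L131775 q4321, e3 q5230 (flp_e L140109) q6184, e3 q5231 L131795 q4324, e3 q5232 (flp_e L140239) q6195, e3 q5233 (flp_e L140256) q6196, e3 q5234 (flp_e L140262) q6197, e3 q5235 (flp_e L140274) q6198, e3 q5236 (flp_e L140283) q6199, e3 q5237 L131849 q4455, e3 q5238 L131857 q4453, e3 q5239 L131871 q4454, e3 q5240 (flp_e L138201) q5989, e3 q5241 (flp_e L139492) q6122, e3 q5242 L131897 q4335, e3 q5243 (flp_e L140827) q6248, e3 q5244 L131915 q4518, e3 q5245 L131928 q4413, e3 q5246 (flp_e L140311) q6201, e3 q5247 (flp_e L140325) q6202, trivial⟩ (by decide +kernel)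

theorem ce_e_82 : ∀ r, r < 64 → sm ge (Qf (5248 + r)) = Qf (tab Gen.e (5248 + r)) :=
  edges_tab (sm ge) Qf (tab Gen.e) 5248 [(5248, 6203), (5249, 6204), (5250, 6205), (5251, 6207), (5252, 6208), (5253, 4648), (5254, 4649), (5255, 4695), (5256, 4650), (5257, 6262), (5258, 4652), (5259, 5259), (5260, 6267), (5261, 4356), (5262, 6270), (5263, 4353), (5264, 6273), (5265, 6275), (5266, 4355), (5267, 6278), (5268, 4357), (5269, 6281), (5270, 4362), (5271, 4359), (5272, 6285), (5273, 5762), (5274, 6280), (5275, 4361), (5276, 6291), (5277, 6283), (5278, 6284), (5279, 4364), (5280, 4698), (5281, 4737), (5282, 4447), (5283, 6301), (5284, 4367), (5285, 6304), (5286, 6306), (5287, 5287), (5288, 6309), (5289, 4370), (5290, 6312), (5291, 6315), (5292, 4372), (5293, 6318), (5294, 5969), (5295, 4374), (5296, 6322), (5297, 5297), (5298, 4376), (5299, 4380), (5300, 4381), (5301, 4379), (5302, 6325), (5303, 6326), (5304, 6235), (5305, 5305), (5306, 5306), (5307, 5307), (5308, 5308), (5309, 5309), (5310,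 5310), (5311, 6000)]
    ⟨e3 q5248 (flp_e L140339) q6203, e3 q5249 (flp_e L140353) q6204, e3 q5250 (flp_e L140366) q6205, e3 q5251 (flp_e L140394) q6207, e3 q5252 (flp_e L140403) q6208, e3 q5253 L131993 q4648, e3 q5254 L132004 q4649, e3 q5255 L132016 q4695, e3 q5256 L132024 q4650, e3 q5257 L140961 q6262, e3 q5258 L132042 q4652, e3 q5259 L132052 q5259, e3 q5260 L141006 q6267, e3 q5261 L132069 q4356, e3 q5262 L141032 q6270, e3 q5263 (flp_e L132077) q4353, e3 q5264 (flp_e L141060) q6273, e3 q5265 L141068 q6275, e3 q5266 (flp_e L132103) q4355, e3 q5267 (flp_e L141106) q6278, e3 q5268 (flp_e L132126) q4357, e3 q5269 (flp_e L141135) q6281, e3 q5270 L132152 q4362, e3 q5271 L132160 q4359, e3 q5272 (flp_e L141176) q6285, e3 q5273 (flp_e L136320) q5762, e3 q5274 (flp_e L141126) q6280, e3 q5275 L132198 q4361, e3 q5276 (flp_e L141231) q6291, e3 q5277 (flp_e L141156) q6283, e3 q5278 (flp_e L141166) q6284, e3 q5279 L132234 q4364, e3 q5280 L132244 q4698, e3 q5281 L132254 q4737, e3 q5282 L132263 q4447,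 e3 q5283 L141317 q6301, e3 q5284 (flp_e L132276) q4367, e3 q5285 (flp_e L141350) q6304, e3 q5286 L141360 q6306, e3 q5287 L132304 q5287, e3 q5288 L141381 q6309, e3 q5289 (flp_e L132315) q4370, e3 q5290 (flp_e L141416) q6312, e3 q5291 L141434 q6315, e3 q5292 (flp_e L132337) q4372, e3 q5293 (flp_e L141459) q6318, e3 q5294 (flp_e L138018) q5969, e3 q5295 L132364 q4374, e3 q5296 (flp_e L141485) q6322, e3 q5297 L132377 q5297, e3 q5298 L132383 q4376, e3 q5299 L132394 q4380, e3 q5300 L132403 q4381, e3 q5301 L132412 q4379, e3 q5302 (flp_e L141512) q6325, e3 q5303 (flp_e L141521) q6326, e3 q5304 (flp_e L140707) q6235, e3 q5305 L132444 q5305, e3 q5306 L132456 q5306, e3 q5307 L132463 q5307, e3 q5308 L132471 q5308, e3 q5309 L132481 q5309, e3 q5310 L132488 q5310, e3 q5311 L138330 q6000, trivial⟩ (by decide +kernel)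

theorem ce_e_83 : ∀ r, r < 64 → sm ge (Qf (5312 + r)) = Qf (tab Gen.e (5312 + r)) :=
  edges_tab (sm ge) Qf (tab Gen.e) 5312 [(5312, 4463), (5313, 4745), (5314, 4544), (5315, 6140), (5316, 4392), (5317, 6341), (5318, 5997), (5319, 4394), (5320, 6344), (5321, 4395), (5322, 6345), (5323, 4397), (5324, 6347), (5325, 5991), (5326, 4399), (5327, 6350), (5328, 6351), (5329, 4400), (5330, 6353), (5331, 6010), (5332, 4402), (5333, 6356), (5334, 6013), (5335, 6014), (5336, 4405), (5337, 5337), (5338, 5338), (5339, 4411), (5340, 4412), (5341, 4520), (5342, 6362), (5343, 6027), (5344, 6200), (5345, 5345), (5346, 5346), (5347, 5347), (5348, 6367), (5349, 5349), (5350, 4640), (5351, 4686), (5352, 6213), (5353, 4687), (5354, 6211), (5355, 4428), (5356, 6375), (5357, 4425), (5358, 6378), (5359, 6210), (5360, 6212), (5361, 4429), (5362, 6383), (5363, 4434), (5364, 4431), (5365, 6260), (5366, 5068), (5367, 6382), (5368, 4433), (5369, 6391), (5370, 6186), (5371, 6385), (5372, 4436), (5373, 6228), (5374,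 6229), (5375, 6227)]
    ⟨e3 q5312 L132503 q4463, e3 q5313 L132511 q4745, e3 q5314 L132526 q4544, e3 q5315 (flp_e L139691) q6140, e3 q5316 (flp_e L132539) q4392, e3 q5317 (flp_e L141661) q6341, e3 q5318 (flp_e L138297) q5997, e3 q5319 L132568 q4394, e3 q5320 (flp_e L141683) q6344, e3 q5321 (flp_e L132578) q4395, e3 q5322 (flp_e L141696) q6345, e3 q5323 (flp_e L132591) q4397, e3 q5324 (flp_e L141711) q6347, e3 q5325 L138231 q5991, e3 q5326 L132626 q4399, e3 q5327 (flp_e L141735) q6350, e3 q5328 L141743 q6351, e3 q5329 (flp_e L132644) q4400, e3 q5330 (flp_e L141769) q6353, e3 q5331 (flp_e L138443) q6010, e3 q5332 L132673 q4402, e3 q5333 (flp_e L141792) q6356, e3 q5334 (flp_e L138471) q6013, e3 q5335 (flp_e L138483) q6014, e3 q5336 L132697 q4405, e3 q5337 L132704 q5337, e3 q5338 L132714 q5338, e3 q5339 L132724 q4411, e3 q5340 L132733 q4412, e3 q5341 L132747 q4520, e3 q5342 (flp_e L141843) q6362, e3 q5343 (flp_e L138636) q6027, e3 q5344 (flp_e L140296) q6200, e3 q5345 L132781 q5345, e3 q5346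 L132791 q5346, e3 q5347 L132800 q5347, e3 q5348 L141885 q6367, e3 q5349 L132813 q5349, e3 q5350 L132827 q4640, e3 q5351 L132837 q4686, e3 q5352 (flp_e L140472) q6213, e3 q5353 L132853 q4687, e3 q5354 (flp_e L140446) q6211, e3 q5355 L132871 q4428, e3 q5356 L141945 q6375, e3 q5357 (flp_e L132883) q4425, e3 q5358 (flp_e L141971) q6378, e3 q5359 (flp_e L140430) q6210, e3 q5360 (flp_e L140456) q6212, e3 q5361 (flp_e L132922) q4429, e3 q5362 (flp_e L142014) q6383, e3 q5363 L132944 q4434, e3 q5364 L132950 q4431, e3 q5365 (flp_e L140949) q6260, e3 q5366 L132972 q5068, e3 q5367 (flp_e L142007) q6382, e3 q5368 L132986 q4433, e3 q5369 (flp_e L142088) q6391, e3 q5370 L140142 q6186, e3 q5371 (flp_e L142033) q6385, e3 q5372 L133018 q4436, e3 q5373 (flp_e L140636) q6228, e3 q5374 (flp_e L140650) q6229, e3 q5375 (flp_e L140626) q6227, trivial⟩ (by decide +kernel)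

theorem ce_e_84 : ∀ r, r < 64 → sm ge (Qf (5376 + r)) = Qf (tab Gen.e (5376 + r)) :=
  edges_tab (sm ge) Qf (tab Gen.e) 5376 [(5376, 6400), (5377, 4441), (5378, 6403), (5379, 4874), (5380, 4443), (5381, 6406), (5382, 4449), (5383, 6190), (5384, 6297), (5385, 4514), (5386, 5386), (5387, 6243), (5388, 6244), (5389, 6242), (5390, 4527), (5391, 4457), (5392, 6412), (5393, 4887), (5394, 4460), (5395, 5990), (5396, 6023), (5397, 4547), (5398, 6414), (5399, 4703), (5400, 6419), (5401, 4705), (5402, 4467), (5403, 6421), (5404, 6424), (5405, 4706), (5406, 6427), (5407, 4469), (5408, 6430), (5409, 6432), (5410, 4471), (5411, 6435), (5412, 6438), (5413, 4473), (5414, 6442), (5415, 6055), (5416, 4475), (5417, 6446), (5418, 4476), (5419, 6449), (5420, 5420), (5421, 4478), (5422, 6453), (5423, 5810), (5424, 4485), (5425, 4480), (5426, 6459), (5427, 4488), (5428, 4489), (5429, 4483), (5430, 6464), (5431, 5818), (5432, 5819), (5433, 6457), (5434, 6458), (5435, 4487), (5436, 6473), (5437, 6461), (5438,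 6462), (5439, 6395)]
    ⟨e3 q5376 L142173 q6400, e3 q5377 (flp_e L133055) q4441, e3 q5378 (flp_e L142202) q6403, e3 q5379 L133078 q4874, e3 q5380 L133086 q4443, e3 q5381 (flp_e L142226) q6406, e3 q5382 L133101 q4449, e3 q5383 (flp_e L140181) q6190, e3 q5384 (flp_e L141285) q6297, e3 q5385 L133131 q4514, e3 q5386 L133141 q5386, e3 q5387 (flp_e L140783) q6243, e3 q5388 (flp_e L140791) q6244, e3 q5389 (flp_e L140767) q6242, e3 q5390 L133171 q4527, e3 q5391 L133178 q4457, e3 q5392 (flp_e L142283) q6412, e3 q5393 L133190 q4887, e3 q5394 L133196 q4460, e3 q5395 (flp_e L138212) q5990, e3 q5396 (flp_e L138575) q6023, e3 q5397 L133216 q4547, e3 q5398 L142291 q6414, e3 q5399 L133238 q4703, e3 q5400 L142331 q6419, e3 q5401 L133252 q4705, e3 q5402 (flp_e L133254) q4467, e3 q5403 (flp_e L142349) q6421, e3 q5404 L142367 q6424, e3 q5405 L133283 q4706, e3 q5406 L142395 q6427, e3 q5407 (flp_e L133291) q4469, e3 q5408 (flp_e L142419) q6430, e3 q5409 L142427 q6432, e3 q5410 (flp_e L133311) q4471, e3 q5411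 (flp_e L142455) q6435, e3 q5412 L142473 q6438, e3 q5413 (flp_e L133335) q4473, e3 q5414 (flp_e L142503) q6442, e3 q5415 (flp_e L138879) q6055, e3 q5416 L133355 q4475, e3 q5417 (flp_e L142527) q6446, e3 q5418 (flp_e L133361) q4476, e3 q5419 (flp_e L142550) q6449, e3 q5420 L133386 q5420, e3 q5421 L133391 q4478, e3 q5422 (flp_e L142589) q6453, e3 q5423 (flp_e L136647) q5810, e3 q5424 L133420 q4485, e3 q5425 L133428 q4480, e3 q5426 (flp_e L142639) q6459, e3 q5427 L133444 q4488, e3 q5428 L133452 q4489, e3 q5429 L133460 q4483, e3 q5430 L142675 q6464, e3 q5431 (flp_e L136707) q5818, e3 q5432 (flp_e L136717) q5819, e3 q5433 (flp_e L142619) q6457, e3 q5434 (flp_e L142629) q6458, e3 q5435 L133507 q4487, e3 q5436 L142758 q6473, e3 q5437 (flp_e L142655) q6461, e3 q5438 (flp_e L142663) q6462, e3 q5439 (flp_e L142133) q6395, trivial⟩ (by decide +kernel)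

theorem ce_e_85 : ∀ r, r < 64 → sm ge (Qf (5440 + r)) = Qf (tab Gen.e (5440 + r)) :=
  edges_tab (sm ge) Qf (tab Gen.e) 5440 [(5440, 4492), (5441, 6234), (5442, 4493), (5443, 6327), (5444, 6480), (5445, 4495), (5446, 6483), (5447, 6089), (5448, 4497), (5449, 6487), (5450, 6402), (5451, 4499), (5452, 6490), (5453, 6491), (5454, 4500), (5455, 6494), (5456, 6103), (5457, 4502), (5458, 6498), (5459, 6106), (5460, 6107), (5461, 4505), (5462, 5462), (5463, 5463), (5464, 4508), (5465, 4512), (5466, 4513), (5467, 6299), (5468, 6504), (5469, 5984), (5470, 6409), (5471, 4619), (5472, 6003), (5473, 6360), (5474, 6508), (5475, 4521), (5476, 6510), (5477, 6128), (5478, 4523), (5479, 6513), (5480, 6131), (5481, 6132), (5482, 4526), (5483, 5994), (5484, 6411), (5485, 4529), (5486, 4530), (5487, 6519), (5488, 6145), (5489, 4532), (5490, 6522), (5491, 6148), (5492, 6149), (5493, 4535), (5494, 6151), (5495, 6152), (5496, 6338), (5497, 5497), (5498, 5498), (5499, 4545), (5500, 6004), (5501, 6337), (5502,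 4746), (5503, 6533)]
    ⟨e3 q5440 L133547 q4492, e3 q5441 (flp_e L140694) q6234, e3 q5442 (flp_e L133559) q4493, e3 q5443 (flp_e L141535) q6327, e3 q5444 L142831 q6480, e3 q5445 (flp_e L133589) q4495, e3 q5446 (flp_e L142864) q6483, e3 q5447 (flp_e L139176) q6089, e3 q5448 L133624 q4497, e3 q5449 (flp_e L142898) q6487, e3 q5450 (flp_e L142193) q6402, e3 q5451 L133648 q4499, e3 q5452 (flp_e L142928) q6490, e3 q5453 L142932 q6491, e3 q5454 (flp_e L133668) q4500, e3 q5455 (flp_e L142964) q6494, e3 q5456 (flp_e L139311) q6103, e3 q5457 L133700 q4502, e3 q5458 (flp_e L143000) q6498, e3 q5459 (flp_e L139336) q6106, e3 q5460 (flp_e L139344) q6107, e3 q5461 L133730 q4505, e3 q5462 L133738 q5462, e3 q5463 L133749 q5463, e3 q5464 L133758 q4508, e3 q5465 L133770 q4512, e3 q5466 L133780 q4513, e3 q5467 (flp_e L141308) q6299, e3 q5468 (flp_e L143052) q6504, e3 q5469 (flp_e L138158) q5984, e3 q5470 (flp_e L142252) q6409, e3 q5471 L133828 q4619, e3 q5472 (flp_e L138359) q6003, e3 q5473 (flp_e L141820)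 q6360, e3 q5474 L143089 q6508, e3 q5475 (flp_e L133858) q4521, e3 q5476 (flp_e L143111) q6510, e3 q5477 (flp_e L139565) q6128, e3 q5478 L133887 q4523, e3 q5479 (flp_e L143134) q6513, e3 q5480 (flp_e L139596) q6131, e3 q5481 (flp_e L139605) q6132, e3 q5482 L133913 q4526, e3 q5483 (flp_e L138265) q5994, e3 q5484 (flp_e L142275) q6411, e3 q5485 L133937 q4529, e3 q5486 (flp_e L133941) q4530, e3 q5487 (flp_e L143180) q6519, e3 q5488 (flp_e L139741) q6145, e3 q5489 L133969 q4532, e3 q5490 (flp_e L143202) q6522, e3 q5491 (flp_e L139767) q6148, e3 q5492 (flp_e L139778) q6149, e3 q5493 L133999 q4535, e3 q5494 (flp_e L139792) q6151, e3 q5495 (flp_e L139798) q6152, e3 q5496 (flp_e L141629) q6338, e3 q5497 L134021 q5497, e3 q5498 L134032 q5498, e3 q5499 L134041 q4545, e3 q5500 (flp_e L138375) q6004, e3 q5501 (flp_e L141621) q6337, e3 q5502 L134064 q4746, e3 q5503 L143282 q6533, trivial⟩ (by decide +kernel)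

theorem ce_e_86 : ∀ r, r < 64 → sm ge (Qf (5504 + r)) = Qf (tab Gen.e (5504 + r)) :=
  edges_tab (sm ge) Qf (tab Gen.e) 5504 [(5504, 4748), (5505, 4749), (5506, 5744), (5507, 4552), (5508, 6536), (5509, 4554), (5510, 4559), (5511, 6537), (5512, 4760), (5513, 6540), (5514, 4562), (5515, 6543), (5516, 5516), (5517, 5517), (5518, 5518), (5519, 5519), (5520, 5520), (5521, 5521), (5522, 6548), (5523, 4573), (5524, 6552), (5525, 5532), (5526, 5526), (5527, 4575), (5528, 6559), (5529, 5529), (5530, 5530), (5531, 4578), (5532, 5525), (5533, 5533), (5534, 4580), (5535, 6569), (5536, 5536), (5537, 5537), (5538, 4583), (5539, 6574), (5540, 5854), (5541, 5855), (5542, 4594), (5543, 4595), (5544, 4587), (5545, 6583), (5546, 4598), (5547, 4599), (5548, 5548), (5549, 4591), (5550, 5727), (5551, 5726), (5552, 6587), (5553, 5867), (5554, 5868), (5555, 6580), (5556, 6581), (5557, 5708), (5558, 4597), (5559, 6584), (5560, 5705), (5561, 5561), (5562, 4601), (5563, 6596), (5564, 5564), (5565, 4603), (5566,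 6600), (5567, 5567)]
    ⟨e3 q5504 L134080 q4748, e3 q5505 L134091 q4749, e3 q5506 L136169 q5744, e3 q5507 (flp_e L134104) q4552, e3 q5508 (flp_e L143310) q6536, e3 q5509 (flp_e L134124) q4554, e3 q5510 L134137 q4559, e3 q5511 L143314 q6537, e3 q5512 L134153 q4760, e3 q5513 L143340 q6540, e3 q5514 (flp_e L134166) q4562, e3 q5515 (flp_e L143369) q6543, e3 q5516 L134178 q5516, e3 q5517 L134190 q5517, e3 q5518 L134199 q5518, e3 q5519 L134205 q5519, e3 q5520 L134216 q5520, e3 q5521 L134224 q5521, e3 q5522 L143402 q6548, e3 q5523 (flp_e L134238) q4573, e3 q5524 (flp_e L143446) q6552, e3 q5525 (flp_e L134328) q5532, e3 q5526 L134271 q5526, e3 q5527 L134277 q4575, e3 q5528 (flp_e L143506) q6559, e3 q5529 L134297 q5529, e3 q5530 L134308 q5530, e3 q5531 L134316 q4578, e3 q5532 L134328 q5525, e3 q5533 L134337 q5533, e3 q5534 L134343 q4580, e3 q5535 (flp_e L143603) q6569, e3 q5536 L134364 q5536, e3 q5537 L134376 q5537, e3 q5538 L134384 q4583, e3 q5539 L143654 q6574, e3 q5540 (flp_e L136950) q5854,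 e3 q5541 (flp_e L136958) q5855, e3 q5542 L134410 q4594, e3 q5543 L134419 q4595, e3 q5544 L134428 q4587, e3 q5545 L143717 q6583, e3 q5546 L134445 q4598, e3 q5547 L134454 q4599, e3 q5548 L134467 q5548, e3 q5549 (flp_e L134468) q4591, e3 q5550 (flp_e L136021) q5727, e3 q5551 (flp_e L136013) q5726, e3 q5552 (flp_e L143753) q6587, e3 q5553 (flp_e L137053) q5867, e3 q5554 (flp_e L137060) q5868, e3 q5555 (flp_e L143697) q6580, e3 q5556 (flp_e L143706) q6581, e3 q5557 (flp_e L135861) q5708, e3 q5558 (flp_e L134530) q4597, e3 q5559 (flp_e L143728) q6584, e3 q5560 (flp_e L135821) q5705, e3 q5561 L134560 q5561, e3 q5562 (flp_e L134565) q4601, e3 q5563 (flp_e L143838) q6596, e3 q5564 L134590 q5564, e3 q5565 L134595 q4603, e3 q5566 (flp_e L143871) q6600, e3 q5567 L134613 q5567, trivial⟩ (by decide +kernel)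

theorem ce_e_87 : ∀ r, r < 64 → sm ge (Qf (5568 + r)) = Qf (tab Gen.e (5568 + r)) :=
  edges_tab (sm ge) Qf (tab Gen.e) 5568 [(5568, 5568), (5569, 4606), (5570, 5570), (5571, 5571), (5572, 5572), (5573, 5573), (5574, 5574), (5575, 5575), (5576, 4616), (5577, 5900), (5578, 5578), (5579, 5579), (5580, 5580), (5581, 4621), (5582, 6613), (5583, 5583), (5584, 5584), (5585, 4624), (5586, 5586), (5587, 5587), (5588, 6156), (5589, 5589), (5590, 5911), (5591, 5591), (5592, 5592), (5593, 5914), (5594, 5594), (5595, 4637), (5596, 5596), (5597, 6177), (5598, 4642), (5599, 5688), (5600, 4645), (5601, 4677), (5602, 6255), (5603, 6623), (5604, 6257), (5605, 6625), (5606, 4651), (5607, 4653), (5608, 5608), (5609, 4655), (5610, 5610), (5611, 5611), (5612, 4663), (5613, 4658), (5614, 6638), (5615, 4666), (5616, 4667), (5617, 4661), (5618, 6642), (5619, 5619), (5620, 5620), (5621, 6636), (5622, 6637), (5623, 4665), (5624, 5648), (5625, 6640), (5626, 6641), (5627, 5692), (5628, 5628), (5629, 5629), (5630,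 5630), (5631, 4675)]
    ⟨e3 q5568 L134623 q5568, e3 q5569 L134632 q4606, e3 q5570 L134643 q5570, e3 q5571 L134652 q5571, e3 q5572 L134663 q5572, e3 q5573 L134672 q5573, e3 q5574 L134681 q5574, e3 q5575 L134694 q5575, e3 q5576 L134701 q4616, e3 q5577 (flp_e L137308) q5900, e3 q5578 L134719 q5578, e3 q5579 L134724 q5579, e3 q5580 L134739 q5580, e3 q5581 L134745 q4621, e3 q5582 (flp_e L143992) q6613, e3 q5583 L134763 q5583, e3 q5584 L134772 q5584, e3 q5585 L134780 q4624, e3 q5586 L134789 q5586, e3 q5587 L134798 q5587, e3 q5588 (flp_e L139836) q6156, e3 q5589 L134810 q5589, e3 q5590 (flp_e L137429) q5911, e3 q5591 L134826 q5591, e3 q5592 L134835 q5592, e3 q5593 (flp_e L137471) q5914, e3 q5594 L134853 q5594, e3 q5595 (flp_e L134860) q4637, e3 q5596 L134876 q5596, e3 q5597 L140029 q6177, e3 q5598 L134891 q4642, e3 q5599 L135672 q5688, e3 q5600 L134911 q4645, e3 q5601 L134919 q4677, e3 q5602 (flp_e L140903) q6255, e3 q5603 L144076 q6623, e3 q5604 (flp_e L140919) q6257, e3 q5605 L144090 q6625,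 e3 q5606 (flp_e L134959) q4651, e3 q5607 (flp_e L134969) q4653, e3 q5608 L134991 q5608, e3 q5609 (flp_e L134992) q4655, e3 q5610 L135013 q5610, e3 q5611 L135019 q5611, e3 q5612 L135027 q4663, e3 q5613 L135036 q4658, e3 q5614 (flp_e L144235) q6638, e3 q5615 L135057 q4666, e3 q5616 L135067 q4667, e3 q5617 L135077 q4661, e3 q5618 L144275 q6642, e3 q5619 L135095 q5619, e3 q5620 L135105 q5620, e3 q5621 (flp_e L144215) q6636, e3 q5622 (flp_e L144224) q6637, e3 q5623 L135131 q4665, e3 q5624 (flp_e L135360) q5648, e3 q5625 (flp_e L144259) q6640, e3 q5626 (flp_e L144271) q6641, e3 q5627 (flp_e L135706) q5692, e3 q5628 L135175 q5628, e3 q5629 L135184 q5629, e3 q5630 L135196 q5630, e3 q5631 L135208 q4675, trivial⟩ (by decide +kernel)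

theorem ce_e_88 : ∀ r, r < 64 → sm ge (Qf (5632 + r)) = Qf (tab Gen.e (5632 + r)) :=
  edges_tab (sm ge) Qf (tab Gen.e) 5632 [(5632, 4676), (5633, 6651), (5634, 6026), (5635, 5698), (5636, 5636), (5637, 4683), (5638, 6652), (5639, 6369), (5640, 5640), (5641, 4691), (5642, 6656), (5643, 5643), (5644, 5644), (5645, 6179), (5646, 6254), (5647, 4693), (5648, 5624), (5649, 5931), (5650, 6258), (5651, 4730), (5652, 5955), (5653, 5980), (5654, 4740), (5655, 6664), (5656, 6417), (5657, 6666), (5658, 4704), (5659, 6669), (5660, 4707), (5661, 6673), (5662, 5662), (5663, 4709), (5664, 5664), (5665, 5665), (5666, 5666), (5667, 5667), (5668, 5668), (5669, 5669), (5670, 6682), (5671, 5671), (5672, 5672), (5673, 4724), (5674, 4725), (5675, 4717), (5676, 6691), (5677, 4728), (5678, 4729), (5679, 6259), (5680, 4721), (5681, 5682), (5682, 5681), (5683, 6695), (5684, 5684), (5685, 5685), (5686, 6688), (5687, 6689), (5688, 5599), (5689, 4727), (5690, 6692), (5691, 5983), (5692, 5627), (5693, 5693), (5694,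 5694), (5695, 4738)]
    ⟨e3 q5632 L135219 q4676, e3 q5633 (flp_e L144368) q6651, e3 q5634 (flp_e L138623) q6026, e3 q5635 (flp_e L135756) q5698, e3 q5636 L135251 q5636, e3 q5637 L135261 q4683, e3 q5638 L144374 q6652, e3 q5639 (flp_e L141903) q6369, e3 q5640 L135299 q5640, e3 q5641 L135305 q4691, e3 q5642 L144421 q6656, e3 q5643 L135317 q5643, e3 q5644 L135325 q5644, e3 q5645 L140055 q6179, e3 q5646 (flp_e L140894) q6254, e3 q5647 L135345 q4693, e3 q5648 L135360 q5624, e3 q5649 L137669 q5931, e3 q5650 (flp_e L140927) q6258, e3 q5651 L135384 q4730, e3 q5652 (flp_e L137887) q5955, e3 q5653 L138119 q5980, e3 q5654 L135406 q4740, e3 q5655 L144494 q6664, e3 q5656 (flp_e L142323) q6417, e3 q5657 L144511 q6666, e3 q5658 (flp_e L135435) q4704, e3 q5659 (flp_e L144535) q6669, e3 q5660 (flp_e L135447) q4707, e3 q5661 (flp_e L144559) q6673, e3 q5662 L135466 q5662, e3 q5663 L135471 q4709, e3 q5664 L135478 q5664, e3 q5665 L135484 q5665, e3 q5666 L135491 q5666, e3 q5667 L135498 q5667, e3 q5668 L135505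 q5668, e3 q5669 L135510 q5669, e3 q5670 L144616 q6682, e3 q5671 L135523 q5671, e3 q5672 L135530 q5672, e3 q5673 L135537 q4724, e3 q5674 L135545 q4725, e3 q5675 L135555 q4717, e3 q5676 L144689 q6691, e3 q5677 L135568 q4728, e3 q5678 L135576 q4729, e3 q5679 (flp_e L140939) q6259, e3 q5680 (flp_e L135584) q4721, e3 q5681 (flp_e L135605) q5682, e3 q5682 L135605 q5681, e3 q5683 (flp_e L144717) q6695, e3 q5684 L135627 q5684, e3 q5685 L135638 q5685, e3 q5686 (flp_e L144671) q6688, e3 q5687 (flp_e L144681) q6689, e3 q5688 (flp_e L135672) q5599, e3 q5689 (flp_e L135674) q4727, e3 q5690 (flp_e L144700) q6692, e3 q5691 (flp_e L138147) q5983, e3 q5692 L135706 q5627, e3 q5693 L135719 q5693, e3 q5694 L135727 q5694, e3 q5695 L135736 q4738, trivial⟩ (by decide +kernel)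

theorem ce_e_89 : ∀ r, r < 64 → sm ge (Qf (5696 + r)) = Qf (tab Gen.e (5696 + r)) :=
  edges_tab (sm ge) Qf (tab Gen.e) 5696 [(5696, 5963), (5697, 6298), (5698, 5635), (5699, 5699), (5700, 6704), (5701, 6531), (5702, 5736), (5703, 4747), (5704, 6707), (5705, 5560), (5706, 4752), (5707, 5707), (5708, 5557), (5709, 4759), (5710, 6709), (5711, 5711), (5712, 4762), (5713, 6713), (5714, 4764), (5715, 6714), (5716, 5716), (5717, 5717), (5718, 5718), (5719, 5719), (5720, 4769), (5721, 6723), (5722, 5722), (5723, 5723), (5724, 5724), (5725, 4773), (5726, 5551), (5727, 5550), (5728, 6727), (5729, 5729), (5730, 5730), (5731, 4789), (5732, 4790), (5733, 6736), (5734, 4779), (5735, 4793), (5736, 5702), (5737, 5737), (5738, 4786), (5739, 5740), (5740, 5739), (5741, 6181), (5742, 5742), (5743, 6733), (5744, 5506), (5745, 5745), (5746, 5904), (5747, 5747), (5748, 5748), (5749, 5750), (5750, 5749), (5751, 5751), (5752, 6745), (5753, 5753), (5754, 6748), (5755, 4815), (5756, 6751), (5757, 4817), (5758,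 6755), (5759, 4822)]
    ⟨e3 q5696 L137964 q5963, e3 q5697 (flp_e L141295) q6298, e3 q5698 L135756 q5635, e3 q5699 L135769 q5699, e3 q5700 L144808 q6704, e3 q5701 (flp_e L143267) q6531, e3 q5702 (flp_e L136089) q5736, e3 q5703 (flp_e L135804) q4747, e3 q5704 (flp_e L144850) q6707, e3 q5705 L135821 q5560, e3 q5706 L135834 q4752, e3 q5707 L135849 q5707, e3 q5708 L135861 q5557, e3 q5709 (flp_e L135866) q4759, e3 q5710 (flp_e L144865) q6709, e3 q5711 L135888 q5711, e3 q5712 L135893 q4762, e3 q5713 (flp_e L144897) q6713, e3 q5714 L135910 q4764, e3 q5715 L144900 q6714, e3 q5716 L135923 q5716, e3 q5717 L135932 q5717, e3 q5718 L135940 q5718, e3 q5719 L135948 q5719, e3 q5720 L135956 q4769, e3 q5721 L144977 q6723, e3 q5722 L135974 q5722, e3 q5723 L135984 q5723, e3 q5724 L135994 q5724, e3 q5725 (flp_e L135996) q4773, e3 q5726 L136013 q5551, e3 q5727 L136021 q5550, e3 q5728 (flp_e L145017) q6727, e3 q5729 L136039 q5729, e3 q5730 L136044 q5730, e3 q5731 L136050 q4789, e3 q5732 L136059 q4790, e3 q5733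 L145085 q6736, e3 q5734 (flp_e L136066) q4779, e3 q5735 L136078 q4793, e3 q5736 L136089 q5702, e3 q5737 L136097 q5737, e3 q5738 L136106 q4786, e3 q5739 (flp_e L136124) q5740, e3 q5740 L136124 q5739, e3 q5741 (flp_e L140074) q6181, e3 q5742 L136146 q5742, e3 q5743 (flp_e L145065) q6733, e3 q5744 (flp_e L136169) q5506, e3 q5745 L136175 q5745, e3 q5746 (flp_e L137355) q5904, e3 q5747 L136191 q5747, e3 q5748 L136197 q5748, e3 q5749 (flp_e L136214) q5750, e3 q5750 L136214 q5749, e3 q5751 L136231 q5751, e3 q5752 L145168 q6745, e3 q5753 L136246 q5753, e3 q5754 L145191 q6748, e3 q5755 (flp_e L136253) q4815, e3 q5756 (flp_e L145221) q6751, e3 q5757 (flp_e L136269) q4817, e3 q5758 (flp_e L145253) q6755, e3 q5759 L136295 q4822, trivial⟩ (by decide +kernel)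

theorem ce_e_90 : ∀ r, r < 64 → sm ge (Qf (5760 + r)) = Qf (tab Gen.e (5760 + r)) :=
  edges_tab (sm ge) Qf (tab Gen.e) 5760 [(5760, 4819), (5761, 6759), (5762, 5273), (5763, 6754), (5764, 4821), (5765, 6765), (5766, 6757), (5767, 6758), (5768, 4824), (5769, 6097), (5770, 4825), (5771, 6772), (5772, 6774), (5773, 4827), (5774, 6776), (5775, 6083), (5776, 4829), (5777, 6779), (5778, 4833), (5779, 4834), (5780, 4832), (5781, 6780), (5782, 6781), (5783, 5979), (5784, 5784), (5785, 5785), (5786, 6141), (5787, 4841), (5788, 6789), (5789, 4843), (5790, 6790), (5791, 6123), (5792, 4846), (5793, 4850), (5794, 4851), (5795, 6019), (5796, 6794), (5797, 6249), (5798, 6022), (5799, 6797), (5800, 6799), (5801, 5801), (5802, 6801), (5803, 4855), (5804, 6804), (5805, 4857), (5806, 6808), (5807, 6377), (5808, 4859), (5809, 6812), (5810, 5423), (5811, 4866), (5812, 4861), (5813, 6818), (5814, 4869), (5815, 4870), (5816, 4864), (5817, 6823), (5818, 5431), (5819, 5432), (5820, 6816), (5821, 6817), (5822,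 4868), (5823, 6832)]
    ⟨e3 q5760 L136303 q4819, e3 q5761 (flp_e L145290) q6759, e3 q5762 L136320 q5273, e3 q5763 (flp_e L145244) q6754, e3 q5764 L136337 q4821, e3 q5765 (flp_e L145352) q6765, e3 q5766 (flp_e L145271) q6757, e3 q5767 (flp_e L145280) q6758, e3 q5768 L136371 q4824, e3 q5769 (flp_e L139263) q6097, e3 q5770 (flp_e L136382) q4825, e3 q5771 (flp_e L145416) q6772, e3 q5772 L145424 q6774, e3 q5773 (flp_e L136399) q4827, e3 q5774 (flp_e L145442) q6776, e3 q5775 L139116 q6083, e3 q5776 L136426 q4829, e3 q5777 (flp_e L145462) q6779, e3 q5778 L136437 q4833, e3 q5779 L136445 q4834, e3 q5780 L136454 q4832, e3 q5781 (flp_e L145469) q6780, e3 q5782 (flp_e L145478) q6781, e3 q5783 (flp_e L138106) q5979, e3 q5784 L136485 q5784, e3 q5785 L136492 q5785, e3 q5786 (flp_e L139705) q6141, e3 q5787 L136504 q4841, e3 q5788 (flp_e L145538) q6789, e3 q5789 L136517 q4843, e3 q5790 (flp_e L145546) q6790, e3 q5791 (flp_e L139506) q6123, e3 q5792 L136535 q4846, e3 q5793 L136542 q4850, e3 q5794 L136551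 q4851, e3 q5795 (flp_e L138538) q6019, e3 q5796 (flp_e L145569) q6794, e3 q5797 (flp_e L140841) q6249, e3 q5798 (flp_e L138563) q6022, e3 q5799 L145585 q6797, e3 q5800 L145595 q6799, e3 q5801 L136597 q5801, e3 q5802 L145608 q6801, e3 q5803 (flp_e L136602) q4855, e3 q5804 (flp_e L145630) q6804, e3 q5805 (flp_e L136615) q4857, e3 q5806 (flp_e L145652) q6808, e3 q5807 (flp_e L141963) q6377, e3 q5808 L136637 q4859, e3 q5809 (flp_e L145676) q6812, e3 q5810 L136647 q5423, e3 q5811 L136656 q4866, e3 q5812 L136664 q4861, e3 q5813 (flp_e L145724) q6818, e3 q5814 L136679 q4869, e3 q5815 L136686 q4870, e3 q5816 L136694 q4864, e3 q5817 L145758 q6823, e3 q5818 L136707 q5431, e3 q5819 L136717 q5432, e3 q5820 (flp_e L145705) q6816, e3 q5821 (flp_e L145714) q6817, e3 q5822 L136742 q4868, e3 q5823 L145847 q6832, trivial⟩ (by decide +kernel)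

theorem ce_e_91 : ∀ r, r < 64 → sm ge (Qf (5824 + r)) = Qf (tab Gen.e (5824 + r)) :=
  edges_tab (sm ge) Qf (tab Gen.e) 5824 [(5824, 6820), (5825, 6821), (5826, 6079), (5827, 6136), (5828, 4873), (5829, 6837), (5830, 6126), (5831, 6405), (5832, 4876), (5833, 4880), (5834, 4881), (5835, 6114), (5836, 6841), (5837, 6846), (5838, 6117), (5839, 6137), (5840, 4885), (5841, 6127), (5842, 6413), (5843, 6153), (5844, 4892), (5845, 6855), (5846, 6159), (5847, 6251), (5848, 6025), (5849, 4893), (5850, 5923), (5851, 4895), (5852, 6859), (5853, 6861), (5854, 5540), (5855, 5541), (5856, 4907), (5857, 4908), (5858, 4900), (5859, 6870), (5860, 4911), (5861, 4912), (5862, 5862), (5863, 4904), (5864, 6716), (5865, 6715), (5866, 6874), (5867, 5553), (5868, 5554), (5869, 6867), (5870, 6868), (5871, 6883), (5872, 4910), (5873, 6871), (5874, 6886), (5875, 5875), (5876, 4917), (5877, 6890), (5878, 5878), (5879, 6893), (5880, 6895), (5881, 4918), (5882, 5882), (5883, 5915), (5884, 6020), (5885, 4921), (5886,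 5886), (5887, 6898)]
    ⟨e3 q5824 (flp_e L145740) q6820, e3 q5825 (flp_e L145748) q6821, e3 q5826 (flp_e L139061) q6079, e3 q5827 (flp_e L139640) q6136, e3 q5828 L136786 q4873, e3 q5829 (flp_e L145901) q6837, e3 q5830 (flp_e L139535) q6126, e3 q5831 (flp_e L142218) q6405, e3 q5832 L136812 q4876, e3 q5833 L136820 q4880, e3 q5834 L136830 q4881, e3 q5835 (flp_e L139405) q6114, e3 q5836 (flp_e L145931) q6841, e3 q5837 L145967 q6846, e3 q5838 (flp_e L139429) q6117, e3 q5839 (flp_e L139654) q6137, e3 q5840 L136872 q4885, e3 q5841 (flp_e L139549) q6127, e3 q5842 (flp_e L142287) q6413, e3 q5843 (flp_e L139804) q6153, e3 q5844 L136894 q4892, e3 q5845 L146023 q6855, e3 q5846 (flp_e L139857) q6159, e3 q5847 (flp_e L140860) q6251, e3 q5848 (flp_e L138604) q6025, e3 q5849 (flp_e L136922) q4893, e3 q5850 (flp_e L137584) q5923, e3 q5851 (flp_e L136931) q4895, e3 q5852 (flp_e L146063) q6859, e3 q5853 L146070 q6861, e3 q5854 L136950 q5540, e3 q5855 L136958 q5541, e3 q5856 L136965 q4907, e3 q5857 L136973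 q4908, e3 q5858 L136982 q4900, e3 q5859 L146129 q6870, e3 q5860 L136999 q4911, e3 q5861 L137008 q4912, e3 q5862 L137019 q5862, e3 q5863 (flp_e L137020) q4904, e3 q5864 (flp_e L144926) q6716, e3 q5865 (flp_e L144916) q6715, e3 q5866 (flp_e L146163) q6874, e3 q5867 L137053 q5553, e3 q5868 L137060 q5554, e3 q5869 (flp_e L146111) q6867, e3 q5870 (flp_e L146120) q6868, e3 q5871 L146244 q6883, e3 q5872 (flp_e L137084) q4910, e3 q5873 (flp_e L146141) q6871, e3 q5874 L146274 q6886, e3 q5875 L137113 q5875, e3 q5876 L137121 q4917, e3 q5877 L146308 q6890, e3 q5878 L137137 q5878, e3 q5879 L146329 q6893, e3 q5880 L146357 q6895, e3 q5881 (flp_e L137156) q4918, e3 q5882 L137165 q5882, e3 q5883 (flp_e L137483) q5915, e3 q5884 (flp_e L138546) q6020, e3 q5885 (flp_e L137180) q4921, e3 q5886 L137189 q5886, e3 q5887 L146387 q6898, trivial⟩ (by decide +kernel)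

theorem ce_e_92 : ∀ r, r < 64 → sm ge (Qf (5888 + r)) = Qf (tab Gen.e (5888 + r)) :=
  edges_tab (sm ge) Qf (tab Gen.e) 5888 [(5888, 4923), (5889, 5929), (5890, 4924), (5891, 5891), (5892, 4929), (5893, 4928), (5894, 6901), (5895, 4930), (5896, 6879), (5897, 6900), (5898, 4932), (5899, 6882), (5900, 5577), (5901, 4938), (5902, 4937), (5903, 6908), (5904, 5746), (5905, 6907), (5906, 4940), (5907, 5003), (5908, 5004), (5909, 5005), (5910, 5006), (5911, 5590), (5912, 4950), (5913, 4948), (5914, 5593), (5915, 5883), (5916, 5916), (5917, 5037), (5918, 5038), (5919, 5039), (5920, 5040), (5921, 5203), (5922, 4958), (5923, 5850), (5924, 5043), (5925, 5044), (5926, 5045), (5927, 5046), (5928, 5047), (5929, 5889), (5930, 5930), (5931, 5649), (5932, 5932), (5933, 6926), (5934, 5934), (5935, 5935), (5936, 6931), (5937, 4973), (5938, 6934), (5939, 4970), (5940, 6937), (5941, 4972), (5942, 6939), (5943, 4974), (5944, 6943), (5945, 4979), (5946, 4976), (5947, 6947), (5948, 6221), (5949, 6942), (5950,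 4978), (5951, 6831)]
    ⟨e3 q5888 (flp_e L137199) q4923, e3 q5889 L138617 q5929, e3 q5890 (flp_e L137213) q4924, e3 q5891 L137223 q5891, e3 q5892 L137234 q4929, e3 q5893 (flp_e L137240) q4928, e3 q5894 (flp_e L146433) q6901, e3 q5895 (flp_e L137259) q4930, e3 q5896 (flp_e L146210) q6879, e3 q5897 (flp_e L146422) q6900, e3 q5898 L137289 q4932, e3 q5899 L146242 q6882, e3 q5900 L137308 q5577, e3 q5901 L137322 q4938, e3 q5902 L137334 q4937, e3 q5903 (flp_e L146507) q6908, e3 q5904 L137355 q5746, e3 q5905 (flp_e L146493) q6907, e3 q5906 L137374 q4940, e3 q5907 L137386 q5003, e3 q5908 L137396 q5004, e3 q5909 L137410 q5005, e3 q5910 L137419 q5006, e3 q5911 L137429 q5590, e3 q5912 L137443 q4950, e3 q5913 L137456 q4948, e3 q5914 L137471 q5593, e3 q5915 L137483 q5883, e3 q5916 L137499 q5916, e3 q5917 L137507 q5037, e3 q5918 L137521 q5038, e3 q5919 L137535 q5039, e3 q5920 L137544 q5040, e3 q5921 L137559 q5203, e3 q5922 L137573 q4958, e3 q5923 L137584 q5850, e3 q5924 L137596 q5043, e3 q5925 L137610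 q5044, e3 q5926 L137620 q5045, e3 q5927 L137630 q5046, e3 q5928 L137637 q5047, e3 q5929 (flp_e L138617) q5889, e3 q5930 L137654 q5930, e3 q5931 (flp_e L137669) q5649, e3 q5932 L137677 q5932, e3 q5933 L146721 q6926, e3 q5934 L137696 q5934, e3 q5935 L137707 q5935, e3 q5936 L146769 q6931, e3 q5937 L137726 q4973, e3 q5938 L146797 q6934, e3 q5939 (flp_e L137738) q4970, e3 q5940 (flp_e L146829) q6937, e3 q5941 (flp_e L137756) q4972, e3 q5942 (flp_e L146847) q6939, e3 q5943 (flp_e L137778) q4974, e3 q5944 (flp_e L146884) q6943, e3 q5945 L137800 q4979, e3 q5946 L137808 q4976, e3 q5947 (flp_e L146922) q6947, e3 q5948 (flp_e L140567) q6221, e3 q5949 (flp_e L146876) q6942, e3 q5950 L137841 q4978, e3 q5951 L145845 q6831, trivial⟩ (by decide +kernel)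

theorem ce_e_93 : ∀ r, r < 64 → sm ge (Qf (5952 + r)) = Qf (tab Gen.e (5952 + r)) :=
  edges_tab (sm ge) Qf (tab Gen.e) 5952 [(5952, 6945), (5953, 6946), (5954, 4981), (5955, 5652), (5956, 6956), (5957, 5957), (5958, 6959), (5959, 4984), (5960, 6962), (5961, 6965), (5962, 5962), (5963, 5696), (5964, 4987), (5965, 6969), (5966, 6972), (5967, 4989), (5968, 6975), (5969, 5294), (5970, 4991), (5971, 6979), (5972, 4993), (5973, 6980), (5974, 4997), (5975, 4998), (5976, 4996), (5977, 6981), (5978, 6982), (5979, 5783), (5980, 5653), (5981, 5000), (5982, 6988), (5983, 5691), (5984, 5469), (5985, 6911), (5986, 6912), (5987, 6913), (5988, 6914), (5989, 5240), (5990, 5395), (5991, 5325), (5992, 5008), (5993, 6998), (5994, 5483), (5995, 5010), (5996, 7002), (5997, 5318), (5998, 5012), (5999, 7005), (6000, 5311), (6001, 5013), (6002, 7007), (6003, 5472), (6004, 5500), (6005, 5017), (6006, 7012), (6007, 7013), (6008, 5018), (6009, 7015), (6010, 5331), (6011, 5020), (6012, 7018), (6013, 5334), (6014,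 5335), (6015, 5023)]
    ⟨e3 q5952 (flp_e L146901) q6945, e3 q5953 (flp_e L146912) q6946, e3 q5954 L137878 q4981, e3 q5955 L137887 q5652, e3 q5956 L147009 q6956, e3 q5957 L137906 q5957, e3 q5958 L147037 q6959, e3 q5959 (flp_e L137920) q4984, e3 q5960 (flp_e L147078) q6962, e3 q5961 L147104 q6965, e3 q5962 L137949 q5962, e3 q5963 (flp_e L137964) q5696, e3 q5964 (flp_e L137966) q4987, e3 q5965 (flp_e L147155) q6969, e3 q5966 L147177 q6972, e3 q5967 (flp_e L137992) q4989, e3 q5968 (flp_e L147215) q6975, e3 q5969 L138018 q5294, e3 q5970 L138026 q4991, e3 q5971 (flp_e L147255) q6979, e3 q5972 L138042 q4993, e3 q5973 (flp_e L147263) q6980, e3 q5974 L138064 q4997, e3 q5975 L138073 q4998, e3 q5976 L138081 q4996, e3 q5977 (flp_e L147276) q6981, e3 q5978 (flp_e L147290) q6982, e3 q5979 L138106 q5783, e3 q5980 (flp_e L138119) q5653, e3 q5981 (flp_e L138121) q5000, e3 q5982 (flp_e L147359) q6988, e3 q5983 L138147 q5691, e3 q5984 L138158 q5469, e3 q5985 (flp_e L146551) q6911, e3 q5986 (flp_e L146563)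 q6912, e3 q5987 (flp_e L146577) q6913, e3 q5988 (flp_e L146588) q6914, e3 q5989 L138201 q5240, e3 q5990 L138212 q5395, e3 q5991 (flp_e L138231) q5325, e3 q5992 (flp_e L138233) q5008, e3 q5993 (flp_e L147474) q6998, e3 q5994 L138265 q5483, e3 q5995 (flp_e L138267) q5010, e3 q5996 (flp_e L147524) q7002, e3 q5997 L138297 q5318, e3 q5998 L138306 q5012, e3 q5999 (flp_e L147555) q7005, e3 q6000 (flp_e L138330) q5311, e3 q6001 (flp_e L138332) q5013, e3 q6002 (flp_e L147580) q7007, e3 q6003 L138359 q5472, e3 q6004 L138375 q5500, e3 q6005 L138387 q5017, e3 q6006 (flp_e L147638) q7012, e3 q6007 L147644 q7013, e3 q6008 (flp_e L138409) q5018, e3 q6009 (flp_e L147676) q7015, e3 q6010 L138443 q5331, e3 q6011 L138453 q5020, e3 q6012 (flp_e L147708) q7018, e3 q6013 L138471 q5334, e3 q6014 L138483 q5335, e3 q6015 L138491 q5023, trivial⟩ (by decide +kernel)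

theorem ce_e_94 : ∀ r, r < 64 → sm ge (Qf (6016 + r)) = Qf (tab Gen.e (6016 + r)) :=
  edges_tab (sm ge) Qf (tab Gen.e) 6016 [(6016, 5025), (6017, 5029), (6018, 5030), (6019, 5795), (6020, 5884), (6021, 7026), (6022, 5798), (6023, 5396), (6024, 5034), (6025, 5848), (6026, 5634), (6027, 5343), (6028, 5142), (6029, 6915), (6030, 6916), (6031, 7031), (6032, 5042), (6033, 6917), (6034, 6918), (6035, 6919), (6036, 7033), (6037, 6037), (6038, 7038), (6039, 6039), (6040, 5050), (6041, 7040), (6042, 7044), (6043, 6043), (6044, 7047), (6045, 5052), (6046, 7050), (6047, 7053), (6048, 6048), (6049, 7056), (6050, 5055), (6051, 7059), (6052, 7062), (6053, 5057), (6054, 7066), (6055, 5415), (6056, 5059), (6057, 7070), (6058, 5060), (6059, 7073), (6060, 6060), (6061, 5062), (6062, 7077), (6063, 6381), (6064, 5069), (6065, 5064), (6066, 7083), (6067, 5072), (6068, 5073), (6069, 5067), (6070, 7088), (6071, 6387), (6072, 6388), (6073, 7081), (6074, 7082), (6075, 5071), (6076, 6766), (6077, 7085), (6078,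 7086), (6079, 5826)]
    ⟨e3 q6016 L138499 q5025, e3 q6017 L138512 q5029, e3 q6018 L138526 q5030, e3 q6019 L138538 q5795, e3 q6020 L138546 q5884, e3 q6021 L147787 q7026, e3 q6022 L138563 q5798, e3 q6023 L138575 q5396, e3 q6024 L138590 q5034, e3 q6025 L138604 q5848, e3 q6026 L138623 q5634, e3 q6027 L138636 q5343, e3 q6028 L138646 q5142, e3 q6029 (flp_e L146604) q6915, e3 q6030 (flp_e L146615) q6916, e3 q6031 L147843 q7031, e3 q6032 L138685 q5042, e3 q6033 (flp_e L146630) q6917, e3 q6034 (flp_e L146642) q6918, e3 q6035 (flp_e L146655) q6919, e3 q6036 L147869 q7033, e3 q6037 L138740 q6037, e3 q6038 L147915 q7038, e3 q6039 L138755 q6039, e3 q6040 (flp_e L138760) q5050, e3 q6041 (flp_e L147934) q7040, e3 q6042 L147969 q7044, e3 q6043 L138792 q6043, e3 q6044 L147996 q7047, e3 q6045 (flp_e L138803) q5052, e3 q6046 (flp_e L148022) q7050, e3 q6047 L148042 q7053, e3 q6048 L138830 q6048, e3 q6049 L148073 q7056, e3 q6050 (flp_e L138841) q5055, e3 q6051 (flp_e L148103) q7059, e3 q6052 L148121 q7062,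 e3 q6053 (flp_e L138863) q5057, e3 q6054 (flp_e L148149) q7066, e3 q6055 L138879 q5415, e3 q6056 L138887 q5059, e3 q6057 (flp_e L148179) q7070, e3 q6058 (flp_e L138897) q5060, e3 q6059 (flp_e L148200) q7073, e3 q6060 L138920 q6060, e3 q6061 L138925 q5062, e3 q6062 (flp_e L148236) q7077, e3 q6063 (flp_e L141998) q6381, e3 q6064 L138948 q5069, e3 q6065 L138955 q5064, e3 q6066 (flp_e L148277) q7083, e3 q6067 L138969 q5072, e3 q6068 L138976 q5073, e3 q6069 L138984 q5067, e3 q6070 L148312 q7088, e3 q6071 (flp_e L142049) q6387, e3 q6072 (flp_e L142063) q6388, e3 q6073 (flp_e L148260) q7081, e3 q6074 (flp_e L148268) q7082, e3 q6075 L139028 q5071, e3 q6076 (flp_e L145365) q6766, e3 q6077 (flp_e L148292) q7085, e3 q6078 (flp_e L148300) q7086, e3 q6079 L139061 q5826, trivial⟩ (by decide +kernel)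

theorem ce_e_95 : ∀ r, r < 64 → sm ge (Qf (6080 + r)) = Qf (tab Gen.e (6080 + r)) :=
  edges_tab (sm ge) Qf (tab Gen.e) 6080 [(6080, 5076), (6081, 5226), (6082, 7096), (6083, 5775), (6084, 5077), (6085, 7100), (6086, 7103), (6087, 5079), (6088, 7106), (6089, 5447), (6090, 5081), (6091, 7110), (6092, 5082), (6093, 7111), (6094, 7114), (6095, 5084), (6096, 7116), (6097, 5769), (6098, 5086), (6099, 7120), (6100, 7121), (6101, 5087), (6102, 7124), (6103, 5456), (6104, 5089), (6105, 7128), (6106, 5459), (6107, 5460), (6108, 5092), (6109, 6109), (6110, 6110), (6111, 5095), (6112, 5099), (6113, 5100), (6114, 5835), (6115, 7135), (6116, 6992), (6117, 5838), (6118, 6118), (6119, 6119), (6120, 6120), (6121, 5108), (6122, 5241), (6123, 5791), (6124, 5111), (6125, 7141), (6126, 5830), (6127, 5841), (6128, 5477), (6129, 5114), (6130, 7145), (6131, 5480), (6132, 5481), (6133, 5117), (6134, 5119), (6135, 7149), (6136, 5827), (6137, 5839), (6138, 5122), (6139, 7152), (6140, 5315), (6141, 5786), (6142,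 5125), (6143, 5126)]
    ⟨e3 q6080 L139071 q5076, e3 q6081 L139088 q5226, e3 q6082 (flp_e L148383) q7096, e3 q6083 (flp_e L139116) q5775, e3 q6084 (flp_e L139118) q5077, e3 q6085 (flp_e L148439) q7100, e3 q6086 L148469 q7103, e3 q6087 (flp_e L139147) q5079, e3 q6088 (flp_e L148511) q7106, e3 q6089 L139176 q5447, e3 q6090 L139183 q5081, e3 q6091 (flp_e L148551) q7110, e3 q6092 (flp_e L139195) q5082, e3 q6093 (flp_e L148562) q7111, e3 q6094 L148594 q7114, e3 q6095 (flp_e L139228) q5084, e3 q6096 (flp_e L148624) q7116, e3 q6097 L139263 q5769, e3 q6098 L139271 q5086, e3 q6099 (flp_e L148672) q7120, e3 q6100 L148676 q7121, e3 q6101 (flp_e L139291) q5087, e3 q6102 (flp_e L148709) q7124, e3 q6103 L139311 q5456, e3 q6104 L139320 q5089, e3 q6105 (flp_e L148747) q7128, e3 q6106 L139336 q5459, e3 q6107 L139344 q5460, e3 q6108 L139352 q5092, e3 q6109 L139359 q6109, e3 q6110 L139368 q6110, e3 q6111 L139376 q5095, e3 q6112 L139386 q5099, e3 q6113 L139395 q5100, e3 q6114 L139405 q5835, e3 q6115 (flp_e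 L148812) q7135, e3 q6116 (flp_e L147409) q6992, e3 q6117 L139429 q5838, e3 q6118 L139440 q6118, e3 q6119 L139455 q6119, e3 q6120 L139468 q6120, e3 q6121 L139479 q5108, e3 q6122 L139492 q5241, e3 q6123 L139506 q5791, e3 q6124 L139517 q5111, e3 q6125 (flp_e L148883) q7141, e3 q6126 L139535 q5830, e3 q6127 L139549 q5841, e3 q6128 L139565 q5477, e3 q6129 L139577 q5114, e3 q6130 (flp_e L148935) q7145, e3 q6131 L139596 q5480, e3 q6132 L139605 q5481, e3 q6133 L139611 q5117, e3 q6134 L139620 q5119, e3 q6135 (flp_e L148973) q7149, e3 q6136 L139640 q5827, e3 q6137 L139654 q5839, e3 q6138 L139667 q5122, e3 q6139 (flp_e L149013) q7152, e3 q6140 L139691 q5315, e3 q6141 L139705 q5786, e3 q6142 L139711 q5125, e3 q6143 (flp_e L139715) q5126, trivial⟩ (by decide +kernel)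

theorem ce_e_96 : ∀ r, r < 64 → sm ge (Qf (6144 + r)) = Qf (tab Gen.e (6144 + r)) :=
  edges_tab (sm ge) Qf (tab Gen.e) 6144 [(6144, 7157), (6145, 5488), (6146, 5128), (6147, 7160), (6148, 5491), (6149, 5492), (6150, 5131), (6151, 5494), (6152, 5495), (6153, 5843), (6154, 6154), (6155, 6155), (6156, 5588), (6157, 5141), (6158, 7028), (6159, 5846), (6160, 6160), (6161, 5148), (6162, 6740), (6163, 7174), (6164, 6164), (6165, 7177), (6166, 5150), (6167, 7180), (6168, 5153), (6169, 7182), (6170, 7184), (6171, 5154), (6172, 7186), (6173, 7188), (6174, 5156), (6175, 7191), (6176, 5158), (6177, 5597), (6178, 5159), (6179, 5645), (6180, 5161), (6181, 5741), (6182, 5167), (6183, 5219), (6184, 5230), (6185, 5170), (6186, 5370), (6187, 5171), (6188, 7195), (6189, 5173), (6190, 5383), (6191, 5186), (6192, 5187), (6193, 6592), (6194, 5189), (6195, 5232), (6196, 5233), (6197, 5234), (6198, 5235), (6199, 5236), (6200, 5344), (6201, 5246), (6202, 5247), (6203, 5248), (6204, 5249), (6205, 5250), (6206,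 6857), (6207, 5251)]
    ⟨e3 q6144 (flp_e L149073) q7157, e3 q6145 L139741 q5488, e3 q6146 L139750 q5128, e3 q6147 (flp_e L149100) q7160, e3 q6148 L139767 q5491, e3 q6149 L139778 q5492, e3 q6150 L139786 q5131, e3 q6151 L139792 q5494, e3 q6152 L139798 q5495, e3 q6153 L139804 q5843, e3 q6154 L139813 q6154, e3 q6155 L139825 q6155, e3 q6156 L139836 q5588, e3 q6157 L139843 q5141, e3 q6158 (flp_e L147821) q7028, e3 q6159 L139857 q5846, e3 q6160 L139867 q6160, e3 q6161 (flp_e L139874) q5148, e3 q6162 L145139 q6740, e3 q6163 L149216 q7174, e3 q6164 L139903 q6164, e3 q6165 L149235 q7177, e3 q6166 (flp_e L139915) q5150, e3 q6167 (flp_e L149269) q7180, e3 q6168 L139931 q5153, e3 q6169 (flp_e L149285) q7182, e3 q6170 L149306 q7184, e3 q6171 (flp_e L139960) q5154, e3 q6172 (flp_e L149336) q7186, e3 q6173 L149357 q7188, e3 q6174 (flp_e L139993) q5156, e3 q6175 (flp_e L149392) q7191, e3 q6176 L140014 q5158, e3 q6177 (flp_e L140029) q5597, e3 q6178 (flp_e L140033) q5159, e3 q6179 (flp_e L140055) q5645,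 e3 q6180 (flp_e L140057) q5161, e3 q6181 L140074 q5741, e3 q6182 L140084 q5167, e3 q6183 L140093 q5219, e3 q6184 L140109 q5230, e3 q6185 L140124 q5170, e3 q6186 (flp_e L140142) q5370, e3 q6187 (flp_e L140144) q5171, e3 q6188 (flp_e L149443) q7195, e3 q6189 L140171 q5173, e3 q6190 L140181 q5383, e3 q6191 L140194 q5186, e3 q6192 (flp_e L140200) q5187, e3 q6193 L143799 q6592, e3 q6194 L140230 q5189, e3 q6195 L140239 q5232, e3 q6196 L140256 q5233, e3 q6197 L140262 q5234, e3 q6198 L140274 q5235, e3 q6199 L140283 q5236, e3 q6200 L140296 q5344, e3 q6201 L140311 q5246, e3 q6202 L140325 q5247, e3 q6203 L140339 q5248, e3 q6204 L140353 q5249, e3 q6205 L140366 q5250, e3 q6206 (flp_e L146039) q6857, e3 q6207 L140394 q5251, trivial⟩ (by decide +kernel)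

theorem ce_e_97 : ∀ r, r < 64 → sm ge (Qf (6208 + r)) = Qf (tab Gen.e (6208 + r)) :=
  edges_tab (sm ge) Qf (tab Gen.e) 6208 [(6208, 5252), (6209, 6899), (6210, 5359), (6211, 5354), (6212, 5360), (6213, 5352), (6214, 5213), (6215, 7210), (6216, 5211), (6217, 7212), (6218, 5214), (6219, 7215), (6220, 5216), (6221, 5948), (6222, 7183), (6223, 5218), (6224, 6472), (6225, 7193), (6226, 5221), (6227, 5375), (6228, 5373), (6229, 5374), (6230, 7041), (6231, 7097), (6232, 5228), (6233, 7226), (6234, 5441), (6235, 5304), (6236, 6701), (6237, 7196), (6238, 7197), (6239, 7198), (6240, 7199), (6241, 7200), (6242, 5389), (6243, 5387), (6244, 5388), (6245, 6953), (6246, 6996), (6247, 7139), (6248, 5243), (6249, 5797), (6250, 7201), (6251, 5847), (6252, 7239), (6253, 7202), (6254, 5646), (6255, 5602), (6256, 7244), (6257, 5604), (6258, 5650), (6259, 5679), (6260, 5365), (6261, 7251), (6262, 5257), (6263, 7254), (6264, 7257), (6265, 6265), (6266, 7260), (6267, 5260), (6268, 7263), (6269, 7266), (6270,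 5262), (6271, 7270)]
    ⟨e3 q6208 L140403 q5252, e3 q6209 (flp_e L146404) q6899, e3 q6210 L140430 q5359, e3 q6211 L140446 q5354, e3 q6212 L140456 q5360, e3 q6213 L140472 q5352, e3 q6214 L140484 q5213, e3 q6215 L149634 q7210, e3 q6216 (flp_e L140498) q5211, e3 q6217 (flp_e L149662) q7212, e3 q6218 (flp_e L140520) q5214, e3 q6219 (flp_e L149696) q7215, e3 q6220 L140554 q5216, e3 q6221 L140567 q5948, e3 q6222 L149304 q7183, e3 q6223 L140583 q5218, e3 q6224 L142756 q6472, e3 q6225 (flp_e L149415) q7193, e3 q6226 L140615 q5221, e3 q6227 L140626 q5375, e3 q6228 L140636 q5373, e3 q6229 L140650 q5374, e3 q6230 (flp_e L147949) q7041, e3 q6231 (flp_e L148398) q7097, e3 q6232 L140676 q5228, e3 q6233 (flp_e L149806) q7226, e3 q6234 L140694 q5441, e3 q6235 L140707 q5304, e3 q6236 (flp_e L144785) q6701, e3 q6237 (flp_e L149456) q7196, e3 q6238 (flp_e L149472) q7197, e3 q6239 (flp_e L149486) q7198, e3 q6240 (flp_e L149500) q7199, e3 q6241 (flp_e L149509) q7200, e3 q6242 L140767 q5389, e3 q6243 L140783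 q5387, e3 q6244 L140791 q5388, e3 q6245 (flp_e L146977) q6953, e3 q6246 (flp_e L147448) q6996, e3 q6247 (flp_e L148853) q7139, e3 q6248 L140827 q5243, e3 q6249 L140841 q5797, e3 q6250 (flp_e L149525) q7201, e3 q6251 L140860 q5847, e3 q6252 L149932 q7239, e3 q6253 (flp_e L149540) q7202, e3 q6254 L140894 q5646, e3 q6255 L140903 q5602, e3 q6256 L149980 q7244, e3 q6257 L140919 q5604, e3 q6258 L140927 q5650, e3 q6259 L140939 q5679, e3 q6260 L140949 q5365, e3 q6261 L150044 q7251, e3 q6262 (flp_e L140961) q5257, e3 q6263 (flp_e L150078) q7254, e3 q6264 L150098 q7257, e3 q6265 L140997 q6265, e3 q6266 L150123 q7260, e3 q6267 (flp_e L141006) q5260, e3 q6268 (flp_e L150159) q7263, e3 q6269 L150181 q7266, e3 q6270 (flp_e L141032) q5262, e3 q6271 (flp_e L150211) q7270, trivial⟩ (by decide +kernel)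

theorem ce_e_98 : ∀ r, r < 64 → sm ge (Qf (6272 + r)) = Qf (tab Gen.e (6272 + r)) :=
  edges_tab (sm ge) Qf (tab Gen.e) 6272 [(6272, 6936), (6273, 5264), (6274, 7274), (6275, 5265), (6276, 7277), (6277, 6277), (6278, 5267), (6279, 6753), (6280, 5274), (6281, 5269), (6282, 7285), (6283, 5277), (6284, 5278), (6285, 5272), (6286, 7290), (6287, 6761), (6288, 6762), (6289, 7283), (6290, 7284), (6291, 5276), (6292, 6392), (6293, 7287), (6294, 7288), (6295, 6476), (6296, 6964), (6297, 5384), (6298, 5697), (6299, 5467), (6300, 7303), (6301, 5283), (6302, 7305), (6303, 6961), (6304, 5285), (6305, 7308), (6306, 5286), (6307, 7309), (6308, 7311), (6309, 5288), (6310, 7313), (6311, 6955), (6312, 5290), (6313, 7316), (6314, 7317), (6315, 5291), (6316, 7320), (6317, 6974), (6318, 5293), (6319, 7323), (6320, 6977), (6321, 6978), (6322, 5296), (6323, 6323), (6324, 6324), (6325, 5302), (6326, 5303), (6327, 5443), (6328, 7329), (6329, 7027), (6330, 6507), (6331, 6331), (6332, 6332), (6333, 6333), (6334,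 6334), (6335, 7335)]
    ⟨e3 q6272 (flp_e L146819) q6936, e3 q6273 L141060 q5264, e3 q6274 (flp_e L150243) q7274, e3 q6275 (flp_e L141068) q5265, e3 q6276 (flp_e L150269) q7277, e3 q6277 L141099 q6277, e3 q6278 L141106 q5267, e3 q6279 (flp_e L145234) q6753, e3 q6280 L141126 q5274, e3 q6281 L141135 q5269, e3 q6282 (flp_e L150347) q7285, e3 q6283 L141156 q5277, e3 q6284 L141166 q5278, e3 q6285 L141176 q5272, e3 q6286 L150400 q7290, e3 q6287 (flp_e L145307) q6761, e3 q6288 (flp_e L145322) q6762, e3 q6289 (flp_e L150325) q7283, e3 q6290 (flp_e L150336) q7284, e3 q6291 L141231 q5276, e3 q6292 (flp_e L142103) q6392, e3 q6293 (flp_e L150372) q7287, e3 q6294 (flp_e L150382) q7288, e3 q6295 (flp_e L142792) q6476, e3 q6296 L147102 q6964, e3 q6297 L141285 q5384, e3 q6298 L141295 q5697, e3 q6299 L141308 q5467, e3 q6300 L150524 q7303, e3 q6301 (flp_e L141317) q5283, e3 q6302 (flp_e L150547) q7305, e3 q6303 (flp_e L147069) q6961, e3 q6304 L141350 q5285, e3 q6305 (flp_e L150571) q7308, e3 q6306 (flp_e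 L141360) q5286, e3 q6307 (flp_e L150584) q7309, e3 q6308 L150592 q7311, e3 q6309 (flp_e L141381) q5288, e3 q6310 (flp_e L150620) q7313, e3 q6311 L147007 q6955, e3 q6312 L141416 q5290, e3 q6313 (flp_e L150644) q7316, e3 q6314 L150652 q7317, e3 q6315 (flp_e L141434) q5291, e3 q6316 (flp_e L150681) q7320, e3 q6317 (flp_e L147203) q6974, e3 q6318 L141459 q5293, e3 q6319 (flp_e L150702) q7323, e3 q6320 (flp_e L147235) q6977, e3 q6321 (flp_e L147247) q6978, e3 q6322 L141485 q5296, e3 q6323 L141492 q6323, e3 q6324 L141502 q6324, e3 q6325 L141512 q5302, e3 q6326 L141521 q5303, e3 q6327 L141535 q5443, e3 q6328 (flp_e L150755) q7329, e3 q6329 (flp_e L147806) q7027, e3 q6330 (flp_e L143078) q6507, e3 q6331 L141571 q6331, e3 q6332 L141580 q6332, e3 q6333 L141592 q6333, e3 q6334 L141599 q6334, e3 q6335 L150807 q7335, trivial⟩ (by decide +kernel)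

theorem ce_e_99 : ∀ r, r < 64 → sm ge (Qf (6336 + r)) = Qf (tab Gen.e (6336 + r)) :=
  edges_tab (sm ge) Qf (tab Gen.e) 6336 [(6336, 7006), (6337, 5501), (6338, 5496), (6339, 7118), (6340, 7153), (6341, 5317), (6342, 7340), (6343, 7004), (6344, 5320), (6345, 5322), (6346, 7343), (6347, 5324), (6348, 7344), (6349, 6997), (6350, 5327), (6351, 5328), (6352, 7347), (6353, 5330), (6354, 7349), (6355, 7017), (6356, 5333), (6357, 7353), (6358, 7020), (6359, 7021), (6360, 5473), (6361, 6361), (6362, 5342), (6363, 7010), (6364, 7356), (6365, 6365), (6366, 7169), (6367, 5348), (6368, 7359), (6369, 5639), (6370, 7207), (6371, 7208), (6372, 7205), (6373, 7206), (6374, 7366), (6375, 5356), (6376, 7370), (6377, 5807), (6378, 5358), (6379, 7373), (6380, 7204), (6381, 6063), (6382, 5367), (6383, 5362), (6384, 7242), (6385, 5371), (6386, 7379), (6387, 6071), (6388, 6072), (6389, 7187), (6390, 7377), (6391, 5369), (6392, 6292), (6393, 7194), (6394, 7247), (6395, 5439), (6396, 7220), (6397, 7221), (6398,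 7222), (6399, 7219)]
    ⟨e3 q6336 (flp_e L147567) q7006, e3 q6337 L141621 q5501, e3 q6338 L141629 q5496, e3 q6339 (flp_e L148650) q7118, e3 q6340 (flp_e L149029) q7153, e3 q6341 L141661 q5317, e3 q6342 (flp_e L150858) q7340, e3 q6343 (flp_e L147545) q7004, e3 q6344 L141683 q5320, e3 q6345 L141696 q5322, e3 q6346 (flp_e L150885) q7343, e3 q6347 L141711 q5324, e3 q6348 (flp_e L150893) q7344, e3 q6349 (flp_e L147461) q6997, e3 q6350 L141735 q5327, e3 q6351 (flp_e L141743) q5328, e3 q6352 (flp_e L150924) q7347, e3 q6353 L141769 q5330, e3 q6354 (flp_e L150942) q7349, e3 q6355 (flp_e L147698) q7017, e3 q6356 L141792 q5333, e3 q6357 L150967 q7353, e3 q6358 (flp_e L147730) q7020, e3 q6359 (flp_e L147740) q7021, e3 q6360 L141820 q5473, e3 q6361 L141831 q6361, e3 q6362 L141843 q5342, e3 q6363 (flp_e L147618) q7010, e3 q6364 L150989 q7356, e3 q6365 L141874 q6365, e3 q6366 (flp_e L149167) q7169, e3 q6367 (flp_e L141885) q5348, e3 q6368 L151016 q7359, e3 q6369 L141903 q5639, e3 q6370 (flp_e L149606)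 q7207, e3 q6371 (flp_e L149622) q7208, e3 q6372 (flp_e L149580) q7205, e3 q6373 (flp_e L149596) q7206, e3 q6374 L151076 q7366, e3 q6375 (flp_e L141945) q5356, e3 q6376 (flp_e L151108) q7370, e3 q6377 L141963 q5807, e3 q6378 L141971 q5358, e3 q6379 (flp_e L151130) q7373, e3 q6380 (flp_e L149568) q7204, e3 q6381 L141998 q6063, e3 q6382 L142007 q5367, e3 q6383 L142014 q5362, e3 q6384 (flp_e L149968) q7242, e3 q6385 L142033 q5371, e3 q6386 L151179 q7379, e3 q6387 L142049 q6071, e3 q6388 L142063 q6072, e3 q6389 L149355 q7187, e3 q6390 (flp_e L151160) q7377, e3 q6391 L142088 q5369, e3 q6392 L142103 q6292, e3 q6393 (flp_e L149429) q7194, e3 q6394 (flp_e L150010) q7247, e3 q6395 L142133 q5439, e3 q6396 (flp_e L149748) q7220, e3 q6397 (flp_e L149762) q7221, e3 q6398 (flp_e L149770) q7222, e3 q6399 (flp_e L149734) q7219, trivial⟩ (by decide +kernel)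

theorem ce_e_100 : ∀ r, r < 64 → sm ge (Qf (6400 + r)) = Qf (tab Gen.e (6400 + r)) :=
  edges_tab (sm ge) Qf (tab Gen.e) 6400 [(6400, 5376), (6401, 7390), (6402, 5450), (6403, 5378), (6404, 7393), (6405, 5831), (6406, 5381), (6407, 6954), (6408, 6987), (6409, 5470), (6410, 7232), (6411, 5484), (6412, 5392), (6413, 5842), (6414, 5398), (6415, 6700), (6416, 7400), (6417, 5656), (6418, 7403), (6419, 5400), (6420, 7406), (6421, 5403), (6422, 7218), (6423, 7408), (6424, 5404), (6425, 7289), (6426, 7413), (6427, 5406), (6428, 7417), (6429, 7049), (6430, 5408), (6431, 7421), (6432, 5409), (6433, 7424), (6434, 7389), (6435, 5411), (6436, 7428), (6437, 7429), (6438, 5412), (6439, 7433), (6440, 6806), (6441, 7065), (6442, 5414), (6443, 7440), (6444, 7068), (6445, 7069), (6446, 5417), (6447, 6550), (6448, 6448), (6449, 5419), (6450, 7450), (6451, 6451), (6452, 6452), (6453, 5422), (6454, 7454), (6455, 6814), (6456, 6815), (6457, 5433), (6458, 5434), (6459, 5426), (6460, 7463), (6461, 5437), (6462,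 5438), (6463, 7249)]
    ⟨e3 q6400 (flp_e L142173) q5376, e3 q6401 (flp_e L151286) q7390, e3 q6402 L142193 q5450, e3 q6403 L142202 q5378, e3 q6404 (flp_e L151311) q7393, e3 q6405 L142218 q5831, e3 q6406 L142226 q5381, e3 q6407 (flp_e L146988) q6954, e3 q6408 (flp_e L147342) q6987, e3 q6409 L142252 q5470, e3 q6410 (flp_e L149865) q7232, e3 q6411 L142275 q5484, e3 q6412 L142283 q5392, e3 q6413 L142287 q5842, e3 q6414 (flp_e L142291) q5398, e3 q6415 L144779 q6700, e3 q6416 L151356 q7400, e3 q6417 L142323 q5656, e3 q6418 L151382 q7403, e3 q6419 (flp_e L142331) q5400, e3 q6420 (flp_e L151404) q7406, e3 q6421 L142349 q5403, e3 q6422 (flp_e L149724) q7218, e3 q6423 L151410 q7408, e3 q6424 (flp_e L142367) q5404, e3 q6425 (flp_e L150398) q7289, e3 q6426 L151456 q7413, e3 q6427 (flp_e L142395) q5406, e3 q6428 (flp_e L151488) q7417, e3 q6429 (flp_e L148015) q7049, e3 q6430 L142419 q5408, e3 q6431 (flp_e L151516) q7421, e3 q6432 (flp_e L142427) q5409, e3 q6433 (flp_e L151540) q7424, e3 q6434 (flp_e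 L151279) q7389, e3 q6435 L142455 q5411, e3 q6436 (flp_e L151572) q7428, e3 q6437 L151576 q7429, e3 q6438 (flp_e L142473) q5412, e3 q6439 (flp_e L151616) q7433, e3 q6440 (flp_e L145642) q6806, e3 q6441 (flp_e L148143) q7065, e3 q6442 L142503 q5414, e3 q6443 (flp_e L151658) q7440, e3 q6444 (flp_e L148163) q7068, e3 q6445 (flp_e L148171) q7069, e3 q6446 L142527 q5417, e3 q6447 (flp_e L143430) q6550, e3 q6448 L142543 q6448, e3 q6449 L142550 q5419, e3 q6450 (flp_e L151732) q7450, e3 q6451 L142571 q6451, e3 q6452 L142580 q6452, e3 q6453 L142589 q5422, e3 q6454 L151771 q7454, e3 q6455 (flp_e L145688) q6814, e3 q6456 (flp_e L145697) q6815, e3 q6457 L142619 q5433, e3 q6458 L142629 q5434, e3 q6459 L142639 q5426, e3 q6460 L151843 q7463, e3 q6461 L142655 q5437, e3 q6462 L142663 q5438, e3 q6463 (flp_e L150034) q7249, trivial⟩ (by decide +kernel)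

theorem ce_e_101 : ∀ r, r < 64 → sm ge (Qf (6464 + r)) = Qf (tab Gen.e (6464 + r)) :=
  edges_tab (sm ge) Qf (tab Gen.e) 6464 [(6464, 5430), (6465, 6684), (6466, 6683), (6467, 7467), (6468, 6827), (6469, 6828), (6470, 7460), (6471, 7461), (6472, 6224), (6473, 5436), (6474, 7464), (6475, 6991), (6476, 6295), (6477, 7009), (6478, 7327), (6479, 7474), (6480, 5444), (6481, 7477), (6482, 7105), (6483, 5446), (6484, 7480), (6485, 7108), (6486, 7109), (6487, 5449), (6488, 7000), (6489, 7392), (6490, 5452), (6491, 5453), (6492, 7486), (6493, 7123), (6494, 5455), (6495, 7490), (6496, 7126), (6497, 7127), (6498, 5458), (6499, 7129), (6500, 7130), (6501, 7301), (6502, 6502), (6503, 6503), (6504, 5468), (6505, 6968), (6506, 7300), (6507, 6330), (6508, 5474), (6509, 7499), (6510, 5476), (6511, 7501), (6512, 7144), (6513, 5479), (6514, 7146), (6515, 7147), (6516, 7001), (6517, 7395), (6518, 7156), (6519, 5487), (6520, 7507), (6521, 7159), (6522, 5490), (6523, 7161), (6524, 7162), (6525, 7155), (6526,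 7164), (6527, 7011)]
    ⟨e3 q6464 (flp_e L142675) q5430, e3 q6465 (flp_e L144641) q6684, e3 q6466 (flp_e L144633) q6683, e3 q6467 (flp_e L151875) q7467, e3 q6468 (flp_e L145795) q6827, e3 q6469 (flp_e L145808) q6828, e3 q6470 (flp_e L151821) q7460, e3 q6471 (flp_e L151831) q7461, e3 q6472 (flp_e L142756) q6224, e3 q6473 (flp_e L142758) q5436, e3 q6474 (flp_e L151853) q7464, e3 q6475 (flp_e L147399) q6991, e3 q6476 L142792 q6295, e3 q6477 (flp_e L147602) q7009, e3 q6478 (flp_e L150732) q7327, e3 q6479 L151953 q7474, e3 q6480 (flp_e L142831) q5444, e3 q6481 (flp_e L151986) q7477, e3 q6482 (flp_e L148499) q7105, e3 q6483 L142864 q5446, e3 q6484 (flp_e L152013) q7480, e3 q6485 (flp_e L148532) q7108, e3 q6486 (flp_e L148543) q7109, e3 q6487 L142898 q5449, e3 q6488 (flp_e L147495) q7000, e3 q6489 (flp_e L151301) q7392, e3 q6490 L142928 q5452, e3 q6491 (flp_e L142932) q5453, e3 q6492 (flp_e L152071) q7486, e3 q6493 (flp_e L148702) q7123, e3 q6494 L142964 q5455, e3 q6495 (flp_e L152103) q7490,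 e3 q6496 (flp_e L148724) q7126, e3 q6497 (flp_e L148737) q7127, e3 q6498 L143000 q5458, e3 q6499 (flp_e L148755) q7129, e3 q6500 (flp_e L148763) q7130, e3 q6501 (flp_e L150507) q7301, e3 q6502 L143030 q6502, e3 q6503 L143041 q6503, e3 q6504 L143052 q5468, e3 q6505 (flp_e L147143) q6968, e3 q6506 (flp_e L150499) q7300, e3 q6507 L143078 q6330, e3 q6508 (flp_e L143089) q5474, e3 q6509 (flp_e L152179) q7499, e3 q6510 L143111 q5476, e3 q6511 (flp_e L152195) q7501, e3 q6512 (flp_e L148923) q7144, e3 q6513 L143134 q5479, e3 q6514 (flp_e L148948) q7146, e3 q6515 (flp_e L148956) q7147, e3 q6516 (flp_e L147510) q7001, e3 q6517 (flp_e L151325) q7395, e3 q6518 (flp_e L149064) q7156, e3 q6519 L143180 q5487, e3 q6520 (flp_e L152242) q7507, e3 q6521 (flp_e L149090) q7159, e3 q6522 L143202 q5490, e3 q6523 (flp_e L149113) q7161, e3 q6524 (flp_e L149123) q7162, e3 q6525 (flp_e L149051) q7155, e3 q6526 (flp_e L149132) q7164, e3 q6527 (flp_e L147628) q7011, trivial⟩ (by decide +kernel)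

theorem ce_e_102 : ∀ r, r < 64 → sm ge (Qf (6528 + r)) = Qf (tab Gen.e (6528 + r)) :=
  edges_tab (sm ge) Qf (tab Gen.e) 6528 [(6528, 7337), (6529, 6529), (6530, 7513), (6531, 5701), (6532, 6734), (6533, 5503), (6534, 7516), (6535, 6594), (6536, 5508), (6537, 5511), (6538, 7518), (6539, 7521), (6540, 5513), (6541, 7524), (6542, 7179), (6543, 5515), (6544, 7528), (6545, 6545), (6546, 6546), (6547, 6547), (6548, 5522), (6549, 7532), (6550, 6447), (6551, 6551), (6552, 5524), (6553, 7539), (6554, 7541), (6555, 6565), (6556, 6566), (6557, 6557), (6558, 6558), (6559, 5528), (6560, 7550), (6561, 6561), (6562, 6562), (6563, 6563), (6564, 7554), (6565, 6555), (6566, 6556), (6567, 6567), (6568, 6568), (6569, 5535), (6570, 7563), (6571, 6571), (6572, 6572), (6573, 6573), (6574, 5539), (6575, 6576), (6576, 6575), (6577, 7567), (6578, 6865), (6579, 6866), (6580, 5555), (6581, 5556), (6582, 7576), (6583, 5545), (6584, 5559), (6585, 6706), (6586, 6586), (6587, 5552), (6588, 6729), (6589, 6728), (6590,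 7578), (6591, 6878)]
    ⟨e3 q6528 (flp_e L150829) q7337, e3 q6529 L143248 q6529, e3 q6530 L152282 q7513, e3 q6531 L143267 q5701, e3 q6532 (flp_e L145076) q6734, e3 q6533 (flp_e L143282) q5503, e3 q6534 (flp_e L152314) q7516, e3 q6535 L143822 q6594, e3 q6536 L143310 q5508, e3 q6537 (flp_e L143314) q5511, e3 q6538 (flp_e L152332) q7518, e3 q6539 L152352 q7521, e3 q6540 (flp_e L143340) q5513, e3 q6541 (flp_e L152385) q7524, e3 q6542 (flp_e L149263) q7179, e3 q6543 L143369 q5515, e3 q6544 (flp_e L152413) q7528, e3 q6545 L143378 q6545, e3 q6546 L143390 q6546, e3 q6547 L143399 q6547, e3 q6548 (flp_e L143402) q5522, e3 q6549 (flp_e L152450) q7532, e3 q6550 L143430 q6447, e3 q6551 L143439 q6551, e3 q6552 L143446 q5524, e3 q6553 (flp_e L152515) q7539, e3 q6554 L152530 q7541, e3 q6555 (flp_e L143563) q6565, e3 q6556 (flp_e L143576) q6566, e3 q6557 L143489 q6557, e3 q6558 L143498 q6558, e3 q6559 L143506 q5528, e3 q6560 L152608 q7550, e3 q6561 L143526 q6561, e3 q6562 L143536 q6562, e3 q6563 L143548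 q6563, e3 q6564 L152645 q7554, e3 q6565 L143563 q6555, e3 q6566 L143576 q6556, e3 q6567 L143585 q6567, e3 q6568 L143595 q6568, e3 q6569 L143603 q5535, e3 q6570 L152739 q7563, e3 q6571 L143627 q6571, e3 q6572 L143637 q6572, e3 q6573 L143651 q6573, e3 q6574 (flp_e L143654) q5539, e3 q6575 (flp_e L143669) q6576, e3 q6576 L143669 q6575, e3 q6577 (flp_e L152787) q7567, e3 q6578 (flp_e L146099) q6865, e3 q6579 (flp_e L146104) q6866, e3 q6580 L143697 q5555, e3 q6581 L143706 q5556, e3 q6582 L152853 q7576, e3 q6583 (flp_e L143717) q5545, e3 q6584 L143728 q5559, e3 q6585 (flp_e L144840) q6706, e3 q6586 L143746 q6586, e3 q6587 L143753 q5552, e3 q6588 (flp_e L145036) q6729, e3 q6589 (flp_e L145028) q6728, e3 q6590 (flp_e L152873) q7578, e3 q6591 (flp_e L146195) q6878, trivial⟩ (by decide +kernel)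

theorem ce_e_103 : ∀ r, r < 64 → sm ge (Qf (6592 + r)) = Qf (tab Gen.e (6592 + r)) :=
  edges_tab (sm ge) Qf (tab Gen.e) 6592 [(6592, 6193), (6593, 7573), (6594, 6535), (6595, 6595), (6596, 5563), (6597, 7585), (6598, 6598), (6599, 6599), (6600, 5566), (6601, 6601), (6602, 6602), (6603, 7134), (6604, 6604), (6605, 6906), (6606, 6606), (6607, 6607), (6608, 6909), (6609, 6609), (6610, 6610), (6611, 6611), (6612, 6612), (6613, 5582), (6614, 6614), (6615, 6615), (6616, 7023), (6617, 6617), (6618, 7599), (6619, 7168), (6620, 7600), (6621, 7601), (6622, 7602), (6623, 5603), (6624, 7604), (6625, 5605), (6626, 6626), (6627, 6627), (6628, 6628), (6629, 6629), (6630, 6630), (6631, 6631), (6632, 6632), (6633, 7615), (6634, 6634), (6635, 6635), (6636, 5621), (6637, 5622), (6638, 5614), (6639, 7624), (6640, 5625), (6641, 5626), (6642, 5618), (6643, 6644), (6644, 6643), (6645, 7626), (6646, 7621), (6647, 7622), (6648, 7625), (6649, 6990), (6650, 6650), (6651, 5633), (6652, 5638), (6653, 7629), (6654,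 6660), (6655, 6655)]
    ⟨e3 q6592 (flp_e L143799) q6193, e3 q6593 (flp_e L152827) q7573, e3 q6594 (flp_e L143822) q6535, e3 q6595 L143831 q6595, e3 q6596 L143838 q5563, e3 q6597 (flp_e L152956) q7585, e3 q6598 L143856 q6598, e3 q6599 L143864 q6599, e3 q6600 L143871 q5566, e3 q6601 L143882 q6601, e3 q6602 L143893 q6602, e3 q6603 (flp_e L148805) q7134, e3 q6604 L143908 q6604, e3 q6605 (flp_e L146478) q6906, e3 q6606 L143927 q6606, e3 q6607 L143937 q6607, e3 q6608 (flp_e L146523) q6909, e3 q6609 L143958 q6609, e3 q6610 L143967 q6610, e3 q6611 L143975 q6611, e3 q6612 L143984 q6612, e3 q6613 L143992 q5582, e3 q6614 L144002 q6614, e3 q6615 L144012 q6615, e3 q6616 (flp_e L147763) q7023, e3 q6617 L144027 q6617, e3 q6618 (flp_e L153076) q7599, e3 q6619 (flp_e L149159) q7168, e3 q6620 L153082 q7600, e3 q6621 L153098 q7601, e3 q6622 L153108 q7602, e3 q6623 (flp_e L144076) q5603, e3 q6624 (flp_e L153131) q7604, e3 q6625 (flp_e L144090) q5605, e3 q6626 L144110 q6626, e3 q6627 L144123 q6627, e3 q6628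 L144134 q6628, e3 q6629 L144143 q6629, e3 q6630 L144159 q6630, e3 q6631 L144169 q6631, e3 q6632 L144178 q6632, e3 q6633 L153245 q7615, e3 q6634 L144195 q6634, e3 q6635 L144205 q6635, e3 q6636 L144215 q5621, e3 q6637 L144224 q5622, e3 q6638 L144235 q5614, e3 q6639 L153337 q7624, e3 q6640 L144259 q5625, e3 q6641 L144271 q5626, e3 q6642 (flp_e L144275) q5618, e3 q6643 (flp_e L144299) q6644, e3 q6644 L144299 q6643, e3 q6645 (flp_e L153367) q7626, e3 q6646 (flp_e L153313) q7621, e3 q6647 (flp_e L153326) q7622, e3 q6648 (flp_e L153355) q7625, e3 q6649 (flp_e L147386) q6990, e3 q6650 L144358 q6650, e3 q6651 L144368 q5633, e3 q6652 (flp_e L144374) q5638, e3 q6653 (flp_e L153407) q7629, e3 q6654 (flp_e L144464) q6660, e3 q6655 L144418 q6655, trivial⟩ (by decide +kernel)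

theorem ce_e_104 : ∀ r, r < 64 → sm ge (Qf (6656 + r)) = Qf (tab Gen.e (6656 + r)) :=
  edges_tab (sm ge) Qf (tab Gen.e) 6656 [(6656, 5642), (6657, 6659), (6658, 7627), (6659, 6657), (6660, 6654), (6661, 7240), (6662, 6922), (6663, 6986), (6664, 5655), (6665, 7634), (6666, 5657), (6667, 7638), (6668, 6668), (6669, 5659), (6670, 7642), (6671, 7636), (6672, 6672), (6673, 5661), (6674, 6674), (6675, 6675), (6676, 7649), (6677, 6677), (6678, 6678), (6679, 7653), (6680, 6680), (6681, 6681), (6682, 5670), (6683, 6466), (6684, 6465), (6685, 7657), (6686, 6686), (6687, 6687), (6688, 5686), (6689, 5687), (6690, 7666), (6691, 5676), (6692, 5690), (6693, 6967), (6694, 7248), (6695, 5683), (6696, 6697), (6697, 6696), (6698, 7192), (6699, 7663), (6700, 6415), (6701, 6236), (6702, 6702), (6703, 7299), (6704, 5700), (6705, 7671), (6706, 6585), (6707, 5704), (6708, 7674), (6709, 5710), (6710, 7675), (6711, 6711), (6712, 6712), (6713, 5713), (6714, 5715), (6715, 5865), (6716, 5864), (6717, 7679), (6718,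 6718), (6719, 6719)]
    ⟨e3 q6656 (flp_e L144421) q5642, e3 q6657 L144451 q6659, e3 q6658 (flp_e L153382) q7627, e3 q6659 (flp_e L144451) q6657, e3 q6660 L144464 q6654, e3 q6661 (flp_e L149950) q7240, e3 q6662 (flp_e L146686) q6922, e3 q6663 (flp_e L147327) q6986, e3 q6664 (flp_e L144494) q5655, e3 q6665 (flp_e L153466) q7634, e3 q6666 (flp_e L144511) q5657, e3 q6667 (flp_e L153504) q7638, e3 q6668 L144530 q6668, e3 q6669 L144535 q5659, e3 q6670 (flp_e L153540) q7642, e3 q6671 (flp_e L153488) q7636, e3 q6672 L144553 q6672, e3 q6673 L144559 q5661, e3 q6674 L144565 q6674, e3 q6675 L144572 q6675, e3 q6676 L153581 q7649, e3 q6677 L144587 q6677, e3 q6678 L144593 q6678, e3 q6679 L153620 q7653, e3 q6680 L144604 q6680, e3 q6681 L144613 q6681, e3 q6682 (flp_e L144616) q5670, e3 q6683 L144633 q6466, e3 q6684 L144641 q6465, e3 q6685 (flp_e L153665) q7657, e3 q6686 L144659 q6686, e3 q6687 L144664 q6687, e3 q6688 L144671 q5686, e3 q6689 L144681 q5687, e3 q6690 L153731 q7666, e3 q6691 (flp_e L144689)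 q5676, e3 q6692 L144700 q5690, e3 q6693 (flp_e L147131) q6967, e3 q6694 (flp_e L150020) q7248, e3 q6695 L144717 q5683, e3 q6696 (flp_e L144737) q6697, e3 q6697 L144737 q6696, e3 q6698 (flp_e L149405) q7192, e3 q6699 (flp_e L153715) q7663, e3 q6700 (flp_e L144779) q6415, e3 q6701 L144785 q6236, e3 q6702 L144801 q6702, e3 q6703 (flp_e L150484) q7299, e3 q6704 (flp_e L144808) q5700, e3 q6705 (flp_e L153779) q7671, e3 q6706 L144840 q6585, e3 q6707 L144850 q5704, e3 q6708 (flp_e L153816) q7674, e3 q6709 L144865 q5710, e3 q6710 (flp_e L153825) q7675, e3 q6711 L144884 q6711, e3 q6712 L144890 q6712, e3 q6713 L144897 q5713, e3 q6714 (flp_e L144900) q5715, e3 q6715 L144916 q5865, e3 q6716 L144926 q5864, e3 q6717 (flp_e L153858) q7679, e3 q6718 L144944 q6718, e3 q6719 L144951 q6719, trivial⟩ (by decide +kernel)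

theorem ce_e_105 : ∀ r, r < 64 → sm ge (Qf (6720 + r)) = Qf (tab Gen.e (6720 + r)) :=
  edges_tab (sm ge) Qf (tab Gen.e) 6720 [(6720, 6720), (6721, 6721), (6722, 7688), (6723, 5721), (6724, 6724), (6725, 6904), (6726, 6726), (6727, 5728), (6728, 6589), (6729, 6588), (6730, 7190), (6731, 6731), (6732, 7523), (6733, 5743), (6734, 6532), (6735, 6858), (6736, 5733), (6737, 6737), (6738, 6739), (6739, 6738), (6740, 6162), (6741, 6741), (6742, 7697), (6743, 6743), (6744, 7700), (6745, 5752), (6746, 7702), (6747, 7704), (6748, 5754), (6749, 7708), (6750, 7098), (6751, 5756), (6752, 7711), (6753, 6279), (6754, 5763), (6755, 5758), (6756, 7717), (6757, 5766), (6758, 5767), (6759, 5761), (6760, 7722), (6761, 6287), (6762, 6288), (6763, 7715), (6764, 7716), (6765, 5765), (6766, 6076), (6767, 7719), (6768, 7720), (6769, 6835), (6770, 7058), (6771, 7119), (6772, 5771), (6773, 7732), (6774, 5772), (6775, 7733), (6776, 5774), (6777, 7735), (6778, 7099), (6779, 5777), (6780, 5781), (6781, 5782), (6782,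 6983), (6783, 7739)]
    ⟨e3 q6720 L144959 q6720, e3 q6721 L144969 q6721, e3 q6722 L153929 q7688, e3 q6723 (flp_e L144977) q5721, e3 q6724 L144991 q6724, e3 q6725 (flp_e L146460) q6904, e3 q6726 L145007 q6726, e3 q6727 L145017 q5728, e3 q6728 L145028 q6589, e3 q6729 L145036 q6588, e3 q6730 (flp_e L149383) q7190, e3 q6731 L145052 q6731, e3 q6732 (flp_e L152377) q7523, e3 q6733 L145065 q5743, e3 q6734 L145076 q6532, e3 q6735 (flp_e L146057) q6858, e3 q6736 (flp_e L145085) q5733, e3 q6737 L145094 q6737, e3 q6738 (flp_e L145119) q6739, e3 q6739 L145119 q6738, e3 q6740 (flp_e L145139) q6162, e3 q6741 L145143 q6741, e3 q6742 L154004 q7697, e3 q6743 L145161 q6743, e3 q6744 L154025 q7700, e3 q6745 (flp_e L145168) q5752, e3 q6746 (flp_e L154046) q7702, e3 q6747 L154056 q7704, e3 q6748 (flp_e L145191) q5754, e3 q6749 (flp_e L154090) q7708, e3 q6750 (flp_e L148408) q7098, e3 q6751 L145221 q5756, e3 q6752 (flp_e L154114) q7711, e3 q6753 L145234 q6279, e3 q6754 L145244 q5763, e3 q6755 L145253 q5758,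 e3 q6756 (flp_e L154168) q7717, e3 q6757 L145271 q5766, e3 q6758 L145280 q5767, e3 q6759 L145290 q5761, e3 q6760 L154213 q7722, e3 q6761 L145307 q6287, e3 q6762 L145322 q6288, e3 q6763 (flp_e L154147) q7715, e3 q6764 (flp_e L154157) q7716, e3 q6765 L145352 q5765, e3 q6766 L145365 q6076, e3 q6767 (flp_e L154191) q7719, e3 q6768 (flp_e L154201) q7720, e3 q6769 (flp_e L145880) q6835, e3 q6770 (flp_e L148095) q7058, e3 q6771 (flp_e L148664) q7119, e3 q6772 L145416 q5771, e3 q6773 (flp_e L154315) q7732, e3 q6774 (flp_e L145424) q5772, e3 q6775 (flp_e L154324) q7733, e3 q6776 L145442 q5774, e3 q6777 (flp_e L154336) q7735, e3 q6778 (flp_e L148426) q7099, e3 q6779 L145462 q5777, e3 q6780 L145469 q5781, e3 q6781 L145478 q5782, e3 q6782 (flp_e L147302) q6983, e3 q6783 (flp_e L154361) q7739, trivial⟩ (by decide +kernel)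

theorem ce_e_106 : ∀ r, r < 64 → sm ge (Qf (6784 + r)) = Qf (tab Gen.e (6784 + r)) :=
  edges_tab (sm ge) Qf (tab Gen.e) 6784 [(6784, 7228), (6785, 6847), (6786, 6786), (6787, 7743), (6788, 7154), (6789, 5788), (6790, 5790), (6791, 7747), (6792, 7140), (6793, 7022), (6794, 5796), (6795, 7236), (6796, 7025), (6797, 5799), (6798, 7751), (6799, 5800), (6800, 7754), (6801, 5802), (6802, 7758), (6803, 7113), (6804, 5804), (6805, 7761), (6806, 6440), (6807, 7369), (6808, 5806), (6809, 7767), (6810, 7102), (6811, 7372), (6812, 5809), (6813, 7772), (6814, 6455), (6815, 6456), (6816, 5820), (6817, 5821), (6818, 5813), (6819, 7781), (6820, 5824), (6821, 5825), (6822, 7087), (6823, 5817), (6824, 7655), (6825, 7654), (6826, 7785), (6827, 6468), (6828, 6469), (6829, 7778), (6830, 7779), (6831, 5951), (6832, 5823), (6833, 7782), (6834, 7793), (6835, 6769), (6836, 7150), (6837, 5829), (6838, 7142), (6839, 7394), (6840, 7131), (6841, 5836), (6842, 7801), (6843, 7137), (6844, 7237), (6845, 6989), (6846,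 5837), (6847, 6785)]
    ⟨e3 q6784 (flp_e L149828) q7228, e3 q6785 (flp_e L145976) q6847, e3 q6786 L145521 q6786, e3 q6787 L154384 q7743, e3 q6788 (flp_e L149041) q7154, e3 q6789 L145538 q5788, e3 q6790 L145546 q5790, e3 q6791 L154405 q7747, e3 q6792 (flp_e L148869) q7140, e3 q6793 (flp_e L147748) q7022, e3 q6794 L145569 q5796, e3 q6795 (flp_e L149906) q7236, e3 q6796 (flp_e L147778) q7025, e3 q6797 (flp_e L145585) q5799, e3 q6798 L154429 q7751, e3 q6799 (flp_e L145595) q5800, e3 q6800 (flp_e L154455) q7754, e3 q6801 (flp_e L145608) q5802, e3 q6802 (flp_e L154476) q7758, e3 q6803 L148592 q7113, e3 q6804 L145630 q5804, e3 q6805 (flp_e L154495) q7761, e3 q6806 L145642 q6440, e3 q6807 (flp_e L151102) q7369, e3 q6808 L145652 q5806, e3 q6809 (flp_e L154533) q7767, e3 q6810 L148467 q7102, e3 q6811 (flp_e L151122) q7372, e3 q6812 L145676 q5809, e3 q6813 L154559 q7772, e3 q6814 L145688 q6455, e3 q6815 L145697 q6456, e3 q6816 L145705 q5820, e3 q6817 L145714 q5821, e3 q6818 L145724 q5813, e3 q6819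 L154627 q7781, e3 q6820 L145740 q5824, e3 q6821 L145748 q5825, e3 q6822 (flp_e L148310) q7087, e3 q6823 (flp_e L145758) q5817, e3 q6824 (flp_e L153646) q7655, e3 q6825 (flp_e L153636) q7654, e3 q6826 (flp_e L154657) q7785, e3 q6827 L145795 q6468, e3 q6828 L145808 q6469, e3 q6829 (flp_e L154607) q7778, e3 q6830 (flp_e L154617) q7779, e3 q6831 (flp_e L145845) q5951, e3 q6832 (flp_e L145847) q5823, e3 q6833 (flp_e L154638) q7782, e3 q6834 L154741 q7793, e3 q6835 L145880 q6769, e3 q6836 (flp_e L148987) q7150, e3 q6837 L145901 q5829, e3 q6838 (flp_e L148897) q7142, e3 q6839 (flp_e L151317) q7394, e3 q6840 (flp_e L148771) q7131, e3 q6841 L145931 q5836, e3 q6842 L154797 q7801, e3 q6843 (flp_e L148830) q7137, e3 q6844 (flp_e L149914) q7237, e3 q6845 (flp_e L147373) q6989, e3 q6846 (flp_e L145967) q5837, e3 q6847 L145976 q6785, trivial⟩ (by decide +kernel)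

theorem ce_e_107 : ∀ r, r < 64 → sm ge (Qf (6848 + r)) = Qf (tab Gen.e (6848 + r)) :=
  edges_tab (sm ge) Qf (tab Gen.e) 6848 [(6848, 7151), (6849, 7148), (6850, 7143), (6851, 7807), (6852, 7166), (6853, 7238), (6854, 7030), (6855, 5845), (6856, 7170), (6857, 6206), (6858, 6735), (6859, 5852), (6860, 7812), (6861, 5853), (6862, 7556), (6863, 7555), (6864, 7813), (6865, 6578), (6866, 6579), (6867, 5869), (6868, 5870), (6869, 7822), (6870, 5859), (6871, 5873), (6872, 7825), (6873, 6873), (6874, 5866), (6875, 7681), (6876, 7680), (6877, 7827), (6878, 6591), (6879, 5896), (6880, 7819), (6881, 7833), (6882, 5899), (6883, 5871), (6884, 6885), (6885, 6884), (6886, 5874), (6887, 6887), (6888, 6910), (6889, 6984), (6890, 5877), (6891, 6891), (6892, 6894), (6893, 5879), (6894, 6892), (6895, 5880), (6896, 6896), (6897, 6897), (6898, 5887), (6899, 6209), (6900, 5897), (6901, 5894), (6902, 7837), (6903, 7670), (6904, 6725), (6905, 7836), (6906, 6605), (6907, 5905), (6908, 5903), (6909, 6608), (6910,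 6888), (6911, 5985)]
    ⟨e3 q6848 (flp_e L148997) q7151, e3 q6849 (flp_e L148966) q7148, e3 q6850 (flp_e L148907) q7143, e3 q6851 L154845 q7807, e3 q6852 (flp_e L149144) q7166, e3 q6853 (flp_e L149930) q7238, e3 q6854 (flp_e L147841) q7030, e3 q6855 (flp_e L146023) q5845, e3 q6856 (flp_e L149180) q7170, e3 q6857 L146039 q6206, e3 q6858 L146057 q6735, e3 q6859 L146063 q5852, e3 q6860 (flp_e L154881) q7812, e3 q6861 (flp_e L146070) q5853, e3 q6862 (flp_e L152675) q7556, e3 q6863 (flp_e L152664) q7555, e3 q6864 (flp_e L154890) q7813, e3 q6865 L146099 q6578, e3 q6866 L146104 q6579, e3 q6867 L146111 q5869, e3 q6868 L146120 q5870, e3 q6869 L154946 q7822, e3 q6870 (flp_e L146129) q5859, e3 q6871 L146141 q5873, e3 q6872 L154966 q7825, e3 q6873 L146157 q6873, e3 q6874 L146163 q5866, e3 q6875 (flp_e L153879) q7681, e3 q6876 (flp_e L153869) q7680, e3 q6877 (flp_e L154985) q7827, e3 q6878 L146195 q6591, e3 q6879 L146210 q5896, e3 q6880 (flp_e L154929) q7819, e3 q6881 L155048 q7833, e3 q6882 (flp_e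 L146242) q5899, e3 q6883 (flp_e L146244) q5871, e3 q6884 (flp_e L146341) q6885, e3 q6885 L146341 q6884, e3 q6886 (flp_e L146274) q5874, e3 q6887 L146286 q6887, e3 q6888 (flp_e L146536) q6910, e3 q6889 (flp_e L147310) q6984, e3 q6890 (flp_e L146308) q5877, e3 q6891 L146318 q6891, e3 q6892 L146355 q6894, e3 q6893 (flp_e L146329) q5879, e3 q6894 (flp_e L146355) q6892, e3 q6895 (flp_e L146357) q5880, e3 q6896 L146376 q6896, e3 q6897 L146385 q6897, e3 q6898 (flp_e L146387) q5887, e3 q6899 L146404 q6209, e3 q6900 L146422 q5897, e3 q6901 L146433 q5894, e3 q6902 (flp_e L155087) q7837, e3 q6903 (flp_e L153770) q7670, e3 q6904 L146460 q6725, e3 q6905 (flp_e L155074) q7836, e3 q6906 L146478 q6605, e3 q6907 L146493 q5905, e3 q6908 L146507 q5903, e3 q6909 L146523 q6608, e3 q6910 L146536 q6888, e3 q6911 L146551 q5985, trivial⟩ (by decide +kernel)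

theorem ce_e_108 : ∀ r, r < 64 → sm ge (Qf (6912 + r)) = Qf (tab Gen.e (6912 + r)) :=
  edges_tab (sm ge) Qf (tab Gen.e) 6912 [(6912, 5986), (6913, 5987), (6914, 5988), (6915, 6029), (6916, 6030), (6917, 6033), (6918, 6034), (6919, 6035), (6920, 7844), (6921, 6921), (6922, 6662), (6923, 7849), (6924, 6924), (6925, 7852), (6926, 5933), (6927, 7855), (6928, 7858), (6929, 6929), (6930, 7861), (6931, 5936), (6932, 7863), (6933, 7866), (6934, 5938), (6935, 7870), (6936, 6272), (6937, 5940), (6938, 7874), (6939, 5942), (6940, 7875), (6941, 7214), (6942, 5949), (6943, 5944), (6944, 7881), (6945, 5952), (6946, 5953), (6947, 5947), (6948, 7885), (6949, 7879), (6950, 7880), (6951, 7882), (6952, 7883), (6953, 6245), (6954, 6407), (6955, 6311), (6956, 5956), (6957, 7892), (6958, 7895), (6959, 5958), (6960, 7897), (6961, 6303), (6962, 5960), (6963, 7900), (6964, 6296), (6965, 5961), (6966, 7903), (6967, 6693), (6968, 6505), (6969, 5965), (6970, 7908), (6971, 7909), (6972, 5966), (6973, 7912), (6974,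 6317), (6975, 5968)]
    ⟨e3 q6912 L146563 q5986, e3 q6913 L146577 q5987, e3 q6914 L146588 q5988, e3 q6915 L146604 q6029, e3 q6916 L146615 q6030, e3 q6917 L146630 q6033, e3 q6918 L146642 q6034, e3 q6919 L146655 q6035, e3 q6920 L155167 q7844, e3 q6921 L146675 q6921, e3 q6922 L146686 q6662, e3 q6923 L155222 q7849, e3 q6924 L146708 q6924, e3 q6925 L155253 q7852, e3 q6926 (flp_e L146721) q5933, e3 q6927 (flp_e L155289) q7855, e3 q6928 L155311 q7858, e3 q6929 L146756 q6929, e3 q6930 L155344 q7861, e3 q6931 (flp_e L146769) q5936, e3 q6932 (flp_e L155372) q7863, e3 q6933 L155396 q7866, e3 q6934 (flp_e L146797) q5938, e3 q6935 (flp_e L155432) q7870, e3 q6936 L146819 q6272, e3 q6937 L146829 q5940, e3 q6938 (flp_e L155474) q7874, e3 q6939 L146847 q5942, e3 q6940 (flp_e L155482) q7875, e3 q6941 (flp_e L149684) q7214, e3 q6942 L146876 q5949, e3 q6943 L146884 q5944, e3 q6944 (flp_e L155541) q7881, e3 q6945 L146901 q5952, e3 q6946 L146912 q5953, e3 q6947 L146922 q5947, e3 q6948 L155580 q7885, e3 q6949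 (flp_e L155520) q7879, e3 q6950 (flp_e L155531) q7880, e3 q6951 (flp_e L155550) q7882, e3 q6952 (flp_e L155564) q7883, e3 q6953 L146977 q6245, e3 q6954 L146988 q6407, e3 q6955 (flp_e L147007) q6311, e3 q6956 (flp_e L147009) q5956, e3 q6957 (flp_e L155663) q7892, e3 q6958 L155692 q7895, e3 q6959 (flp_e L147037) q5958, e3 q6960 (flp_e L155721) q7897, e3 q6961 L147069 q6303, e3 q6962 L147078 q5960, e3 q6963 (flp_e L155754) q7900, e3 q6964 (flp_e L147102) q6296, e3 q6965 (flp_e L147104) q5961, e3 q6966 (flp_e L155793) q7903, e3 q6967 L147131 q6693, e3 q6968 L147143 q6505, e3 q6969 L147155 q5965, e3 q6970 (flp_e L155849) q7908, e3 q6971 L155855 q7909, e3 q6972 (flp_e L147177) q5966, e3 q6973 (flp_e L155899) q7912, e3 q6974 L147203 q6317, e3 q6975 L147215 q5968, trivial⟩ (by decide +kernel)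

theorem ce_e_109 : ∀ r, r < 64 → sm ge (Qf (6976 + r)) = Qf (tab Gen.e (6976 + r)) :=
  edges_tab (sm ge) Qf (tab Gen.e) 6976 [(6976, 7915), (6977, 6320), (6978, 6321), (6979, 5971), (6980, 5973), (6981, 5977), (6982, 5978), (6983, 6782), (6984, 6889), (6985, 7923), (6986, 6663), (6987, 6408), (6988, 5982), (6989, 6845), (6990, 6649), (6991, 6475), (6992, 6116), (6993, 7840), (6994, 7841), (6995, 7930), (6996, 6246), (6997, 6349), (6998, 5993), (6999, 7933), (7000, 6488), (7001, 6516), (7002, 5996), (7003, 7936), (7004, 6343), (7005, 5999), (7006, 6336), (7007, 6002), (7008, 7941), (7009, 6477), (7010, 6363), (7011, 6527), (7012, 6006), (7013, 6007), (7014, 7946), (7015, 6009), (7016, 7948), (7017, 6355), (7018, 6012), (7019, 7951), (7020, 6358), (7021, 6359), (7022, 6793), (7023, 6616), (7024, 7955), (7025, 6796), (7026, 6021), (7027, 6329), (7028, 6158), (7029, 7842), (7030, 6854), (7031, 6031), (7032, 7803), (7033, 6036), (7034, 7669), (7035, 7877), (7036, 7036), (7037, 7963), (7038,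 6038), (7039, 7966)]
    ⟨e3 q6976 (flp_e L155929) q7915, e3 q6977 L147235 q6320, e3 q6978 L147247 q6321, e3 q6979 L147255 q5971, e3 q6980 L147263 q5973, e3 q6981 L147276 q5977, e3 q6982 L147290 q5978, e3 q6983 L147302 q6782, e3 q6984 L147310 q6889, e3 q6985 L156012 q7923, e3 q6986 L147327 q6663, e3 q6987 L147342 q6408, e3 q6988 L147359 q5982, e3 q6989 L147373 q6845, e3 q6990 L147386 q6649, e3 q6991 L147399 q6475, e3 q6992 L147409 q6116, e3 q6993 (flp_e L155128) q7840, e3 q6994 (flp_e L155137) q7841, e3 q6995 L156093 q7930, e3 q6996 L147448 q6246, e3 q6997 L147461 q6349, e3 q6998 L147474 q5993, e3 q6999 (flp_e L156142) q7933, e3 q7000 L147495 q6488, e3 q7001 L147510 q6516, e3 q7002 L147524 q5996, e3 q7003 (flp_e L156183) q7936, e3 q7004 L147545 q6343, e3 q7005 L147555 q5999, e3 q7006 L147567 q6336, e3 q7007 L147580 q6002, e3 q7008 (flp_e L156247) q7941, e3 q7009 L147602 q6477, e3 q7010 L147618 q6363, e3 q7011 L147628 q6527, e3 q7012 L147638 q6006, e3 q7013 (flp_e L147644) q6007, e3 q7014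 (flp_e L156317) q7946, e3 q7015 L147676 q6009, e3 q7016 (flp_e L156337) q7948, e3 q7017 L147698 q6355, e3 q7018 L147708 q6012, e3 q7019 L156375 q7951, e3 q7020 L147730 q6358, e3 q7021 L147740 q6359, e3 q7022 L147748 q6793, e3 q7023 L147763 q6616, e3 q7024 L156429 q7955, e3 q7025 L147778 q6796, e3 q7026 (flp_e L147787) q6021, e3 q7027 L147806 q6329, e3 q7028 L147821 q6158, e3 q7029 (flp_e L155151) q7842, e3 q7030 L147841 q6854, e3 q7031 (flp_e L147843) q6031, e3 q7032 (flp_e L154813) q7803, e3 q7033 (flp_e L147869) q6036, e3 q7034 L153760 q7669, e3 q7035 (flp_e L155501) q7877, e3 q7036 L147904 q7036, e3 q7037 L156508 q7963, e3 q7038 (flp_e L147915) q6038, e3 q7039 (flp_e L156534) q7966, trivial⟩ (by decide +kernel)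

theorem ce_e_110 : ∀ r, r < 64 → sm ge (Qf (7040 + r)) = Qf (tab Gen.e (7040 + r)) :=
  edges_tab (sm ge) Qf (tab Gen.e) 7040 [(7040, 6041), (7041, 6230), (7042, 7968), (7043, 7972), (7044, 6042), (7045, 7974), (7046, 7977), (7047, 6044), (7048, 7981), (7049, 6429), (7050, 6046), (7051, 7985), (7052, 7986), (7053, 6047), (7054, 7988), (7055, 7991), (7056, 6049), (7057, 7995), (7058, 6770), (7059, 6051), (7060, 7999), (7061, 8000), (7062, 6052), (7063, 8004), (7064, 7368), (7065, 6441), (7066, 6054), (7067, 8011), (7068, 6444), (7069, 6445), (7070, 6057), (7071, 7203), (7072, 7072), (7073, 6059), (7074, 8020), (7075, 7075), (7076, 7076), (7077, 6062), (7078, 8024), (7079, 7375), (7080, 7376), (7081, 6073), (7082, 6074), (7083, 6066), (7084, 8033), (7085, 6077), (7086, 6078), (7087, 6822), (7088, 6070), (7089, 7651), (7090, 7650), (7091, 8037), (7092, 8030), (7093, 8031), (7094, 8034), (7095, 7926), (7096, 6082), (7097, 6231), (7098, 6750), (7099, 6778), (7100, 6085), (7101, 8043), (7102,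 6810), (7103, 6086)]
    ⟨e3 q7040 L147934 q6041, e3 q7041 L147949 q6230, e3 q7042 (flp_e L156552) q7968, e3 q7043 L156597 q7972, e3 q7044 (flp_e L147969) q6042, e3 q7045 (flp_e L156620) q7974, e3 q7046 L156648 q7977, e3 q7047 (flp_e L147996) q6044, e3 q7048 (flp_e L156683) q7981, e3 q7049 L148015 q6429, e3 q7050 L148022 q6046, e3 q7051 (flp_e L156719) q7985, e3 q7052 L156723 q7986, e3 q7053 (flp_e L148042) q6047, e3 q7054 (flp_e L156750) q7988, e3 q7055 L156780 q7991, e3 q7056 (flp_e L148073) q6049, e3 q7057 (flp_e L156828) q7995, e3 q7058 L148095 q6770, e3 q7059 L148103 q6051, e3 q7060 (flp_e L156868) q7999, e3 q7061 L156872 q8000, e3 q7062 (flp_e L148121) q6052, e3 q7063 (flp_e L156909) q8004, e3 q7064 (flp_e L151096) q7368, e3 q7065 L148143 q6441, e3 q7066 L148149 q6054, e3 q7067 (flp_e L156953) q8011, e3 q7068 L148163 q6444, e3 q7069 L148171 q6445, e3 q7070 L148179 q6057, e3 q7071 (flp_e L149557) q7203, e3 q7072 L148194 q7072, e3 q7073 L148200 q6059, e3 q7074 (flp_e L157027) q8020,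 e3 q7075 L148219 q7075, e3 q7076 L148229 q7076, e3 q7077 L148236 q6062, e3 q7078 L157066 q8024, e3 q7079 (flp_e L151142) q7375, e3 q7080 (flp_e L151153) q7376, e3 q7081 L148260 q6073, e3 q7082 L148268 q6074, e3 q7083 L148277 q6066, e3 q7084 L157119 q8033, e3 q7085 L148292 q6077, e3 q7086 L148300 q6078, e3 q7087 L148310 q6822, e3 q7088 (flp_e L148312) q6070, e3 q7089 (flp_e L153608) q7651, e3 q7090 (flp_e L153599) q7650, e3 q7091 (flp_e L157155) q8037, e3 q7092 (flp_e L157101) q8030, e3 q7093 (flp_e L157110) q8031, e3 q7094 (flp_e L157131) q8034, e3 q7095 (flp_e L156057) q7926, e3 q7096 L148383 q6082, e3 q7097 L148398 q6231, e3 q7098 L148408 q6750, e3 q7099 L148426 q6778, e3 q7100 L148439 q6085, e3 q7101 (flp_e L157228) q8043, e3 q7102 (flp_e L148467) q6810, e3 q7103 (flp_e L148469) q6086, trivial⟩ (by decide +kernel)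

theorem ce_e_111 : ∀ r, r < 64 → sm ge (Qf (7104 + r)) = Qf (tab Gen.e (7104 + r)) :=
  edges_tab (sm ge) Qf (tab Gen.e) 7104 [(7104, 8046), (7105, 6482), (7106, 6088), (7107, 8049), (7108, 6485), (7109, 6486), (7110, 6091), (7111, 6093), (7112, 8053), (7113, 6803), (7114, 6094), (7115, 8055), (7116, 6096), (7117, 8057), (7118, 6339), (7119, 6771), (7120, 6099), (7121, 6100), (7122, 8062), (7123, 6493), (7124, 6102), (7125, 8066), (7126, 6496), (7127, 6497), (7128, 6105), (7129, 6499), (7130, 6500), (7131, 6840), (7132, 7132), (7133, 7133), (7134, 6603), (7135, 6115), (7136, 7927), (7137, 6843), (7138, 7138), (7139, 6247), (7140, 6792), (7141, 6125), (7142, 6838), (7143, 6850), (7144, 6512), (7145, 6130), (7146, 6514), (7147, 6515), (7148, 6849), (7149, 6135), (7150, 6836), (7151, 6848), (7152, 6139), (7153, 6340), (7154, 6788), (7155, 6525), (7156, 6518), (7157, 6144), (7158, 8091), (7159, 6521), (7160, 6147), (7161, 6523), (7162, 6524), (7163, 8084), (7164, 6526), (7165, 7944), (7166,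 6852), (7167, 8100)]
    ⟨e3 q7104 (flp_e L157272) q8046, e3 q7105 L148499 q6482, e3 q7106 L148511 q6088, e3 q7107 (flp_e L157304) q8049, e3 q7108 L148532 q6485, e3 q7109 L148543 q6486, e3 q7110 L148551 q6091, e3 q7111 L148562 q6093, e3 q7112 (flp_e L157348) q8053, e3 q7113 (flp_e L148592) q6803, e3 q7114 (flp_e L148594) q6094, e3 q7115 (flp_e L157377) q8055, e3 q7116 L148624 q6096, e3 q7117 (flp_e L157399) q8057, e3 q7118 L148650 q6339, e3 q7119 L148664 q6771, e3 q7120 L148672 q6099, e3 q7121 (flp_e L148676) q6100, e3 q7122 (flp_e L157463) q8062, e3 q7123 L148702 q6493, e3 q7124 L148709 q6102, e3 q7125 (flp_e L157501) q8066, e3 q7126 L148724 q6496, e3 q7127 L148737 q6497, e3 q7128 L148747 q6105, e3 q7129 L148755 q6499, e3 q7130 L148763 q6500, e3 q7131 L148771 q6840, e3 q7132 L148780 q7132, e3 q7133 L148792 q7133, e3 q7134 L148805 q6603, e3 q7135 L148812 q6115, e3 q7136 (flp_e L156075) q7927, e3 q7137 L148830 q6843, e3 q7138 L148842 q7138, e3 q7139 L148853 q6247, e3 q7140 L148869 q6792,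 e3 q7141 L148883 q6125, e3 q7142 L148897 q6838, e3 q7143 L148907 q6850, e3 q7144 L148923 q6512, e3 q7145 L148935 q6130, e3 q7146 L148948 q6514, e3 q7147 L148956 q6515, e3 q7148 L148966 q6849, e3 q7149 L148973 q6135, e3 q7150 L148987 q6836, e3 q7151 L148997 q6848, e3 q7152 L149013 q6139, e3 q7153 L149029 q6340, e3 q7154 L149041 q6788, e3 q7155 L149051 q6525, e3 q7156 L149064 q6518, e3 q7157 L149073 q6144, e3 q7158 (flp_e L157766) q8091, e3 q7159 L149090 q6521, e3 q7160 L149100 q6147, e3 q7161 L149113 q6523, e3 q7162 L149123 q6524, e3 q7163 (flp_e L157683) q8084, e3 q7164 L149132 q6526, e3 q7165 (flp_e L156291) q7944, e3 q7166 L149144 q6852, e3 q7167 L157855 q8100, trivial⟩ (by decide +kernel)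

theorem ce_e_112 : ∀ r, r < 64 → sm ge (Qf (7168 + r)) = Qf (tab Gen.e (7168 + r)) :=
  edges_tab (sm ge) Qf (tab Gen.e) 7168 [(7168, 6619), (7169, 6366), (7170, 6856), (7171, 7694), (7172, 7582), (7173, 8104), (7174, 6163), (7175, 8107), (7176, 8110), (7177, 6165), (7178, 8112), (7179, 6542), (7180, 6167), (7181, 8116), (7182, 6169), (7183, 6222), (7184, 6170), (7185, 7581), (7186, 6172), (7187, 6389), (7188, 6173), (7189, 8120), (7190, 6730), (7191, 6175), (7192, 6698), (7193, 6225), (7194, 6393), (7195, 6188), (7196, 6237), (7197, 6238), (7198, 6239), (7199, 6240), (7200, 6241), (7201, 6250), (7202, 6253), (7203, 7071), (7204, 6380), (7205, 6372), (7206, 6373), (7207, 6370), (7208, 6371), (7209, 7969), (7210, 6215), (7211, 8133), (7212, 6217), (7213, 8135), (7214, 6941), (7215, 6219), (7216, 8137), (7217, 8117), (7218, 6422), (7219, 6399), (7220, 6396), (7221, 6397), (7222, 6398), (7223, 7846), (7224, 7970), (7225, 8040), (7226, 6233), (7227, 7473), (7228, 6784), (7229, 8121), (7230,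 8122), (7231, 8147)]
    ⟨e3 q7168 L149159 q6619, e3 q7169 L149167 q6366, e3 q7170 L149180 q6856, e3 q7171 (flp_e L153988) q7694, e3 q7172 L152929 q7582, e3 q7173 L157898 q8104, e3 q7174 (flp_e L149216) q6163, e3 q7175 (flp_e L157928) q8107, e3 q7176 L157948 q8110, e3 q7177 (flp_e L149235) q6165, e3 q7178 (flp_e L157973) q8112, e3 q7179 L149263 q6542, e3 q7180 L149269 q6167, e3 q7181 (flp_e L158007) q8116, e3 q7182 L149285 q6169, e3 q7183 (flp_e L149304) q6222, e3 q7184 (flp_e L149306) q6170, e3 q7185 L152915 q7581, e3 q7186 L149336 q6172, e3 q7187 (flp_e L149355) q6389, e3 q7188 (flp_e L149357) q6173, e3 q7189 (flp_e L158061) q8120, e3 q7190 L149383 q6730, e3 q7191 L149392 q6175, e3 q7192 L149405 q6698, e3 q7193 L149415 q6225, e3 q7194 L149429 q6393, e3 q7195 L149443 q6188, e3 q7196 L149456 q6237, e3 q7197 L149472 q6238, e3 q7198 L149486 q6239, e3 q7199 L149500 q6240, e3 q7200 L149509 q6241, e3 q7201 L149525 q6250, e3 q7202 L149540 q6253, e3 q7203 L149557 q7071, e3 q7204 L149568 q6380,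 e3 q7205 L149580 q6372, e3 q7206 L149596 q6373, e3 q7207 L149606 q6370, e3 q7208 L149622 q6371, e3 q7209 (flp_e L156561) q7969, e3 q7210 (flp_e L149634) q6215, e3 q7211 (flp_e L158230) q8133, e3 q7212 L149662 q6217, e3 q7213 (flp_e L158248) q8135, e3 q7214 L149684 q6941, e3 q7215 L149696 q6219, e3 q7216 L158268 q8137, e3 q7217 (flp_e L158017) q8117, e3 q7218 L149724 q6422, e3 q7219 L149734 q6399, e3 q7220 L149748 q6396, e3 q7221 L149762 q6397, e3 q7222 L149770 q6398, e3 q7223 (flp_e L155196) q7846, e3 q7224 (flp_e L156577) q7970, e3 q7225 (flp_e L157182) q8040, e3 q7226 L149806 q6233, e3 q7227 (flp_e L151941) q7473, e3 q7228 L149828 q6784, e3 q7229 (flp_e L158076) q8121, e3 q7230 (flp_e L158091) q8122, e3 q7231 L158376 q8147, trivial⟩ (by decide +kernel)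

theorem ce_e_113 : ∀ r, r < 64 → sm ge (Qf (7232 + r)) = Qf (tab Gen.e (7232 + r)) :=
  edges_tab (sm ge) Qf (tab Gen.e) 7232 [(7232, 6410), (7233, 7889), (7234, 7931), (7235, 8080), (7236, 6795), (7237, 6844), (7238, 6853), (7239, 6252), (7240, 6661), (7241, 8155), (7242, 6384), (7243, 8158), (7244, 6256), (7245, 8161), (7246, 7901), (7247, 6394), (7248, 6694), (7249, 6463), (7250, 8169), (7251, 6261), (7252, 8173), (7253, 7854), (7254, 6263), (7255, 8176), (7256, 8177), (7257, 6264), (7258, 8179), (7259, 8181), (7260, 6266), (7261, 8185), (7262, 7890), (7263, 6268), (7264, 8188), (7265, 8189), (7266, 6269), (7267, 8193), (7268, 7706), (7269, 7869), (7270, 6271), (7271, 8200), (7272, 7872), (7273, 7873), (7274, 6274), (7275, 7530), (7276, 7276), (7277, 6276), (7278, 7278), (7279, 7279), (7280, 8211), (7281, 7713), (7282, 7714), (7283, 6289), (7284, 6290), (7285, 6282), (7286, 8220), (7287, 6293), (7288, 6294), (7289, 6425), (7290, 6286), (7291, 7617), (7292, 7616), (7293, 8224), (7294,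 8217), (7295, 8218)]
    ⟨e3 q7232 L149865 q6410, e3 q7233 (flp_e L155624) q7889, e3 q7234 (flp_e L156112) q7931, e3 q7235 (flp_e L157637) q8080, e3 q7236 L149906 q6795, e3 q7237 L149914 q6844, e3 q7238 L149930 q6853, e3 q7239 (flp_e L149932) q6252, e3 q7240 L149950 q6661, e3 q7241 L158462 q8155, e3 q7242 L149968 q6384, e3 q7243 L158485 q8158, e3 q7244 (flp_e L149980) q6256, e3 q7245 (flp_e L158513) q8161, e3 q7246 (flp_e L155762) q7901, e3 q7247 L150010 q6394, e3 q7248 L150020 q6694, e3 q7249 L150034 q6463, e3 q7250 L158584 q8169, e3 q7251 (flp_e L150044) q6261, e3 q7252 (flp_e L158622) q8173, e3 q7253 (flp_e L155278) q7854, e3 q7254 L150078 q6263, e3 q7255 (flp_e L158650) q8176, e3 q7256 L158658 q8177, e3 q7257 (flp_e L150098) q6264, e3 q7258 (flp_e L158681) q8179, e3 q7259 L158691 q8181, e3 q7260 (flp_e L150123) q6266, e3 q7261 (flp_e L158735) q8185, e3 q7262 (flp_e L155633) q7890, e3 q7263 L150159 q6268, e3 q7264 (flp_e L158763) q8188, e3 q7265 L158771 q8189, e3 q7266 (flp_e L150181)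 q6269, e3 q7267 (flp_e L158810) q8193, e3 q7268 (flp_e L154076) q7706, e3 q7269 (flp_e L155424) q7869, e3 q7270 L150211 q6271, e3 q7271 (flp_e L158860) q8200, e3 q7272 (flp_e L155450) q7872, e3 q7273 (flp_e L155464) q7873, e3 q7274 L150243 q6274, e3 q7275 (flp_e L152432) q7530, e3 q7276 L150261 q7276, e3 q7277 L150269 q6276, e3 q7278 L150281 q7278, e3 q7279 L150292 q7279, e3 q7280 L158960 q8211, e3 q7281 (flp_e L154128) q7713, e3 q7282 (flp_e L154138) q7714, e3 q7283 L150325 q6289, e3 q7284 L150336 q6290, e3 q7285 L150347 q6282, e3 q7286 L159043 q8220, e3 q7287 L150372 q6293, e3 q7288 L150382 q6294, e3 q7289 L150398 q6425, e3 q7290 (flp_e L150400) q6286, e3 q7291 (flp_e L153273) q7617, e3 q7292 (flp_e L153264) q7616, e3 q7293 (flp_e L159095) q8224, e3 q7294 (flp_e L159017) q8217, e3 q7295 (flp_e L159028) q8218, trivial⟩ (by decide +kernel)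

theorem ce_e_114 : ∀ r, r < 64 → sm ge (Qf (7296 + r)) = Qf (tab Gen.e (7296 + r)) :=
  edges_tab (sm ge) Qf (tab Gen.e) 7296 [(7296, 8221), (7297, 7925), (7298, 7902), (7299, 6703), (7300, 6506), (7301, 6501), (7302, 7997), (7303, 6300), (7304, 8231), (7305, 6302), (7306, 8233), (7307, 7899), (7308, 6305), (7309, 6307), (7310, 8236), (7311, 6308), (7312, 8237), (7313, 6310), (7314, 8239), (7315, 7891), (7316, 6313), (7317, 6314), (7318, 8242), (7319, 7911), (7320, 6316), (7321, 8245), (7322, 7914), (7323, 6319), (7324, 8249), (7325, 7917), (7326, 7918), (7327, 6478), (7328, 7328), (7329, 6328), (7330, 7942), (7331, 7331), (7332, 8253), (7333, 7333), (7334, 8256), (7335, 6335), (7336, 7940), (7337, 6528), (7338, 8058), (7339, 8087), (7340, 6342), (7341, 8096), (7342, 7938), (7343, 6346), (7344, 6348), (7345, 8262), (7346, 7932), (7347, 6352), (7348, 8263), (7349, 6354), (7350, 8097), (7351, 7950), (7352, 8083), (7353, 6357), (7354, 7952), (7355, 7943), (7356, 6364), (7357, 8075), (7358,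 8268), (7359, 6368)]
    ⟨e3 q7296 (flp_e L159060) q8221, e3 q7297 (flp_e L156047) q7925, e3 q7298 (flp_e L155780) q7902, e3 q7299 L150484 q6703, e3 q7300 L150499 q6506, e3 q7301 L150507 q6501, e3 q7302 (flp_e L156846) q7997, e3 q7303 (flp_e L150524) q6300, e3 q7304 (flp_e L159167) q8231, e3 q7305 L150547 q6302, e3 q7306 (flp_e L159183) q8233, e3 q7307 (flp_e L155744) q7899, e3 q7308 L150571 q6305, e3 q7309 L150584 q6307, e3 q7310 (flp_e L159212) q8236, e3 q7311 (flp_e L150592) q6308, e3 q7312 (flp_e L159221) q8237, e3 q7313 L150620 q6310, e3 q7314 (flp_e L159239) q8239, e3 q7315 (flp_e L155650) q7891, e3 q7316 L150644 q6313, e3 q7317 (flp_e L150652) q6314, e3 q7318 (flp_e L159270) q8242, e3 q7319 (flp_e L155889) q7911, e3 q7320 L150681 q6316, e3 q7321 (flp_e L159293) q8245, e3 q7322 (flp_e L155917) q7914, e3 q7323 L150702 q6319, e3 q7324 L159318 q8249, e3 q7325 (flp_e L155953) q7917, e3 q7326 (flp_e L155963) q7918, e3 q7327 L150732 q6478, e3 q7328 L150743 q7328, e3 q7329 L150755 q6328,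 e3 q7330 (flp_e L156263) q7942, e3 q7331 L150779 q7331, e3 q7332 L159351 q8253, e3 q7333 L150798 q7333, e3 q7334 L159375 q8256, e3 q7335 (flp_e L150807) q6335, e3 q7336 (flp_e L156231) q7940, e3 q7337 L150829 q6528, e3 q7338 (flp_e L157415) q8058, e3 q7339 (flp_e L157719) q8087, e3 q7340 L150858 q6342, e3 q7341 (flp_e L157816) q8096, e3 q7342 (flp_e L156208) q7938, e3 q7343 L150885 q6346, e3 q7344 L150893 q6348, e3 q7345 L159431 q8262, e3 q7346 (flp_e L156128) q7932, e3 q7347 L150924 q6352, e3 q7348 (flp_e L159449) q8263, e3 q7349 L150942 q6354, e3 q7350 (flp_e L157825) q8097, e3 q7351 (flp_e L156365) q7950, e3 q7352 (flp_e L157666) q8083, e3 q7353 (flp_e L150967) q6357, e3 q7354 (flp_e L156395) q7952, e3 q7355 (flp_e L156275) q7943, e3 q7356 (flp_e L150989) q6364, e3 q7357 (flp_e L157578) q8075, e3 q7358 L159489 q8268, e3 q7359 (flp_e L151016) q6368, trivial⟩ (by decide +kernel)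

theorem ce_e_115 : ∀ r, r < 64 → sm ge (Qf (7360 + r)) = Qf (tab Gen.e (7360 + r)) :=
  edges_tab (sm ge) Qf (tab Gen.e) 7360 [(7360, 8270), (7361, 8127), (7362, 8128), (7363, 8129), (7364, 8125), (7365, 8126), (7366, 6374), (7367, 8277), (7368, 7064), (7369, 6807), (7370, 6376), (7371, 8283), (7372, 6811), (7373, 6379), (7374, 8286), (7375, 7079), (7376, 7080), (7377, 6390), (7378, 8291), (7379, 6386), (7380, 8292), (7381, 8293), (7382, 8294), (7383, 8118), (7384, 8153), (7385, 7847), (7386, 7924), (7387, 8138), (7388, 8139), (7389, 6434), (7390, 6401), (7391, 8300), (7392, 6489), (7393, 6404), (7394, 6839), (7395, 6517), (7396, 8086), (7397, 7664), (7398, 7472), (7399, 8305), (7400, 6416), (7401, 8307), (7402, 8310), (7403, 6418), (7404, 8314), (7405, 7965), (7406, 6420), (7407, 8318), (7408, 6423), (7409, 8223), (7410, 7905), (7411, 8204), (7412, 8322), (7413, 6426), (7414, 8326), (7415, 8312), (7416, 7980), (7417, 6428), (7418, 8333), (7419, 7983), (7420, 7984), (7421, 6431), (7422,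 7431), (7423, 8276)]
    ⟨e3 q7360 (flp_e L159517) q8270, e3 q7361 (flp_e L158158) q8127, e3 q7362 (flp_e L158174) q8128, e3 q7363 (flp_e L158184) q8129, e3 q7364 (flp_e L158132) q8125, e3 q7365 (flp_e L158144) q8126, e3 q7366 (flp_e L151076) q6374, e3 q7367 (flp_e L159574) q8277, e3 q7368 L151096 q7064, e3 q7369 L151102 q6807, e3 q7370 L151108 q6376, e3 q7371 (flp_e L159622) q8283, e3 q7372 L151122 q6811, e3 q7373 L151130 q6379, e3 q7374 L159640 q8286, e3 q7375 L151142 q7079, e3 q7376 L151153 q7080, e3 q7377 L151160 q6390, e3 q7378 L159681 q8291, e3 q7379 (flp_e L151179) q6386, e3 q7380 (flp_e L159703) q8292, e3 q7381 (flp_e L159716) q8293, e3 q7382 (flp_e L159731) q8294, e3 q7383 (flp_e L158032) q8118, e3 q7384 (flp_e L158448) q8153, e3 q7385 (flp_e L155206) q7847, e3 q7386 (flp_e L156031) q7924, e3 q7387 (flp_e L158288) q8138, e3 q7388 (flp_e L158298) q8139, e3 q7389 L151279 q6434, e3 q7390 L151286 q6401, e3 q7391 (flp_e L159798) q8300, e3 q7392 L151301 q6489, e3 q7393 L151311 q6404,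 e3 q7394 L151317 q6839, e3 q7395 L151325 q6517, e3 q7396 (flp_e L157710) q8086, e3 q7397 (flp_e L153725) q7664, e3 q7398 L151935 q7472, e3 q7399 L159828 q8305, e3 q7400 (flp_e L151356) q6416, e3 q7401 (flp_e L159852) q8307, e3 q7402 L159872 q8310, e3 q7403 (flp_e L151382) q6418, e3 q7404 (flp_e L159906) q8314, e3 q7405 (flp_e L156527) q7965, e3 q7406 L151404 q6420, e3 q7407 (flp_e L159930) q8318, e3 q7408 (flp_e L151410) q6423, e3 q7409 (flp_e L159082) q8223, e3 q7410 (flp_e L155813) q7905, e3 q7411 (flp_e L158894) q8204, e3 q7412 L159962 q8322, e3 q7413 (flp_e L151456) q6426, e3 q7414 (flp_e L160001) q8326, e3 q7415 (flp_e L159896) q8312, e3 q7416 (flp_e L156677) q7980, e3 q7417 L151488 q6428, e3 q7418 (flp_e L160049) q8333, e3 q7419 (flp_e L156700) q7983, e3 q7420 (flp_e L156711) q7984, e3 q7421 L151516 q6431, e3 q7422 (flp_e L151602) q7431, e3 q7423 (flp_e L159566) q8276, trivial⟩ (by decide +kernel)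

theorem ce_e_116 : ∀ r, r < 64 → sm ge (Qf (7424 + r)) = Qf (tab Gen.e (7424 + r)) :=
  edges_tab (sm ge) Qf (tab Gen.e) 7424 [(7424, 6433), (7425, 8342), (7426, 7894), (7427, 8299), (7428, 6436), (7429, 6437), (7430, 8348), (7431, 7422), (7432, 8003), (7433, 6439), (7434, 8355), (7435, 8357), (7436, 7763), (7437, 7764), (7438, 8009), (7439, 8010), (7440, 6443), (7441, 8366), (7442, 8013), (7443, 8014), (7444, 8167), (7445, 8370), (7446, 7535), (7447, 7536), (7448, 7448), (7449, 7449), (7450, 6450), (7451, 8379), (7452, 7452), (7453, 7453), (7454, 6454), (7455, 7456), (7456, 7455), (7457, 8381), (7458, 7776), (7459, 7777), (7460, 6470), (7461, 6471), (7462, 8390), (7463, 6460), (7464, 6474), (7465, 7906), (7466, 8166), (7467, 6467), (7468, 7659), (7469, 7658), (7470, 8393), (7471, 8387), (7472, 7398), (7473, 7227), (7474, 6479), (7475, 8396), (7476, 8045), (7477, 6481), (7478, 8399), (7479, 8048), (7480, 6484), (7481, 8050), (7482, 8051), (7483, 7934), (7484, 8301), (7485, 8061), (7486,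 6492), (7487, 8405)]
    ⟨e3 q7424 L151540 q6433, e3 q7425 (flp_e L160121) q8342, e3 q7426 (flp_e L155690) q7894, e3 q7427 (flp_e L159790) q8299, e3 q7428 L151572 q6436, e3 q7429 (flp_e L151576) q6437, e3 q7430 (flp_e L160169) q8348, e3 q7431 L151602 q7422, e3 q7432 (flp_e L156901) q8003, e3 q7433 L151616 q6439, e3 q7434 (flp_e L160233) q8355, e3 q7435 L160245 q8357, e3 q7436 (flp_e L154509) q7763, e3 q7437 (flp_e L154517) q7764, e3 q7438 (flp_e L156939) q8009, e3 q7439 (flp_e L156945) q8010, e3 q7440 L151658 q6443, e3 q7441 L160297 q8366, e3 q7442 (flp_e L156967) q8013, e3 q7443 (flp_e L156975) q8014, e3 q7444 (flp_e L158566) q8167, e3 q7445 L160317 q8370, e3 q7446 (flp_e L152475) q7535, e3 q7447 (flp_e L152486) q7536, e3 q7448 L151710 q7448, e3 q7449 L151721 q7449, e3 q7450 L151732 q6450, e3 q7451 L160406 q8379, e3 q7452 L151755 q7452, e3 q7453 L151766 q7453, e3 q7454 (flp_e L151771) q6454, e3 q7455 (flp_e L151789) q7456, e3 q7456 L151789 q7455, e3 q7457 (flp_e L160437) q8381, e3 q7458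 (flp_e L154593) q7776, e3 q7459 (flp_e L154599) q7777, e3 q7460 L151821 q6470, e3 q7461 L151831 q6471, e3 q7462 L160505 q8390, e3 q7463 (flp_e L151843) q6460, e3 q7464 L151853 q6474, e3 q7465 (flp_e L155829) q7906, e3 q7466 (flp_e L158556) q8166, e3 q7467 L151875 q6467, e3 q7468 (flp_e L153684) q7659, e3 q7469 (flp_e L153676) q7658, e3 q7470 (flp_e L160533) q8393, e3 q7471 (flp_e L160483) q8387, e3 q7472 (flp_e L151935) q7398, e3 q7473 L151941 q7227, e3 q7474 (flp_e L151953) q6479, e3 q7475 (flp_e L160574) q8396, e3 q7476 (flp_e L157260) q8045, e3 q7477 L151986 q6481, e3 q7478 (flp_e L160599) q8399, e3 q7479 (flp_e L157292) q8048, e3 q7480 L152013 q6484, e3 q7481 (flp_e L157317) q8050, e3 q7482 (flp_e L157327) q8051, e3 q7483 (flp_e L156157) q7934, e3 q7484 (flp_e L159806) q8301, e3 q7485 (flp_e L157452) q8061, e3 q7486 L152071 q6492, e3 q7487 (flp_e L160658) q8405, trivial⟩ (by decide +kernel)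

theorem ce_e_117 : ∀ r, r < 64 → sm ge (Qf (7488 + r)) = Qf (tab Gen.e (7488 + r)) :=
  edges_tab (sm ge) Qf (tab Gen.e) 7488 [(7488, 8064), (7489, 8065), (7490, 6495), (7491, 8067), (7492, 8068), (7493, 8060), (7494, 8070), (7495, 7907), (7496, 8229), (7497, 7497), (7498, 8228), (7499, 6509), (7500, 8413), (7501, 6511), (7502, 8079), (7503, 8077), (7504, 8081), (7505, 7935), (7506, 8090), (7507, 6520), (7508, 8092), (7509, 7945), (7510, 8094), (7511, 8419), (7512, 8089), (7513, 6530), (7514, 8421), (7515, 7574), (7516, 6534), (7517, 8424), (7518, 6538), (7519, 8425), (7520, 8426), (7521, 6539), (7522, 8429), (7523, 6732), (7524, 6541), (7525, 8433), (7526, 8114), (7527, 8115), (7528, 6544), (7529, 7529), (7530, 7275), (7531, 7531), (7532, 6549), (7533, 8442), (7534, 8443), (7535, 7446), (7536, 7447), (7537, 7537), (7538, 7538), (7539, 6553), (7540, 8452), (7541, 6554), (7542, 7543), (7543, 7542), (7544, 8453), (7545, 7558), (7546, 7559), (7547, 7547), (7548, 7548), (7549, 8462), (7550,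 6560), (7551, 7551)]
    ⟨e3 q7488 (flp_e L157482) q8064, e3 q7489 (flp_e L157493) q8065, e3 q7490 L152103 q6495, e3 q7491 (flp_e L157510) q8067, e3 q7492 (flp_e L157522) q8068, e3 q7493 (flp_e L157439) q8060, e3 q7494 (flp_e L157535) q8070, e3 q7495 (flp_e L155839) q7907, e3 q7496 (flp_e L159146) q8229, e3 q7497 L152161 q7497, e3 q7498 (flp_e L159136) q8228, e3 q7499 L152179 q6509, e3 q7500 (flp_e L160722) q8413, e3 q7501 L152195 q6511, e3 q7502 (flp_e L157621) q8079, e3 q7503 (flp_e L157600) q8077, e3 q7504 (flp_e L157649) q8081, e3 q7505 (flp_e L156169) q7935, e3 q7506 (flp_e L157756) q8090, e3 q7507 L152242 q6520, e3 q7508 (flp_e L157778) q8092, e3 q7509 (flp_e L156305) q7945, e3 q7510 (flp_e L157801) q8094, e3 q7511 (flp_e L160768) q8419, e3 q7512 (flp_e L157743) q8089, e3 q7513 (flp_e L152282) q6530, e3 q7514 (flp_e L160790) q8421, e3 q7515 (flp_e L152842) q7574, e3 q7516 L152314 q6534, e3 q7517 (flp_e L160815) q8424, e3 q7518 L152332 q6538, e3 q7519 (flp_e L160824) q8425, e3 q7520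 L160828 q8426, e3 q7521 (flp_e L152352) q6539, e3 q7522 (flp_e L160861) q8429, e3 q7523 L152377 q6732, e3 q7524 L152385 q6541, e3 q7525 (flp_e L160900) q8433, e3 q7526 (flp_e L157990) q8114, e3 q7527 (flp_e L158000) q8115, e3 q7528 L152413 q6544, e3 q7529 L152422 q7529, e3 q7530 L152432 q7275, e3 q7531 L152442 q7531, e3 q7532 L152450 q6549, e3 q7533 (flp_e L160979) q8442, e3 q7534 L160984 q8443, e3 q7535 L152475 q7446, e3 q7536 L152486 q7447, e3 q7537 L152496 q7537, e3 q7538 L152506 q7538, e3 q7539 L152515 q6553, e3 q7540 L161065 q8452, e3 q7541 (flp_e L152530) q6554, e3 q7542 (flp_e L152552) q7543, e3 q7543 L152552 q7542, e3 q7544 (flp_e L161080) q8453, e3 q7545 (flp_e L152699) q7558, e3 q7546 (flp_e L152708) q7559, e3 q7547 L152588 q7547, e3 q7548 L152598 q7548, e3 q7549 L161153 q8462, e3 q7550 (flp_e L152608) q6560, e3 q7551 L152620 q7551, trivial⟩ (by decide +kernel)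

theorem ce_e_118 : ∀ r, r < 64 → sm ge (Qf (7552 + r)) = Qf (tab Gen.e (7552 + r)) :=
  edges_tab (sm ge) Qf (tab Gen.e) 7552 [(7552, 7673), (7553, 7553), (7554, 6564), (7555, 6863), (7556, 6862), (7557, 8465), (7558, 7545), (7559, 7546), (7560, 7560), (7561, 7561), (7562, 8474), (7563, 6570), (7564, 7564), (7565, 7839), (7566, 7566), (7567, 6577), (7568, 7569), (7569, 7568), (7570, 8477), (7571, 7817), (7572, 8483), (7573, 6593), (7574, 7515), (7575, 7811), (7576, 6582), (7577, 7577), (7578, 6590), (7579, 7692), (7580, 7691), (7581, 7185), (7582, 7172), (7583, 7583), (7584, 7584), (7585, 6597), (7586, 7586), (7587, 7587), (7588, 8023), (7589, 7589), (7590, 8493), (7591, 8074), (7592, 7592), (7593, 7593), (7594, 7594), (7595, 7595), (7596, 7920), (7597, 7597), (7598, 8099), (7599, 6618), (7600, 6620), (7601, 6621), (7602, 6622), (7603, 7603), (7604, 6624), (7605, 8499), (7606, 8497), (7607, 7607), (7608, 7608), (7609, 8503), (7610, 7610), (7611, 7611), (7612, 8507), (7613, 7613), (7614,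 7614), (7615, 6633)]
    ⟨e3 q7552 (flp_e L153804) q7673, e3 q7553 L152639 q7553, e3 q7554 (flp_e L152645) q6564, e3 q7555 L152664 q6863, e3 q7556 L152675 q6862, e3 q7557 (flp_e L161187) q8465, e3 q7558 L152699 q7545, e3 q7559 L152708 q7546, e3 q7560 L152717 q7560, e3 q7561 L152727 q7561, e3 q7562 L161272 q8474, e3 q7563 (flp_e L152739) q6570, e3 q7564 L152754 q7564, e3 q7565 (flp_e L155113) q7839, e3 q7566 L152775 q7566, e3 q7567 L152787 q6577, e3 q7568 (flp_e L152801) q7569, e3 q7569 L152801 q7568, e3 q7570 (flp_e L161306) q8477, e3 q7571 (flp_e L154915) q7817, e3 q7572 L161351 q8483, e3 q7573 L152827 q6593, e3 q7574 L152842 q7515, e3 q7575 (flp_e L154874) q7811, e3 q7576 (flp_e L152853) q6582, e3 q7577 L152864 q7577, e3 q7578 L152873 q6590, e3 q7579 (flp_e L153968) q7692, e3 q7580 (flp_e L153958) q7691, e3 q7581 (flp_e L152915) q7185, e3 q7582 (flp_e L152929) q7172, e3 q7583 L152937 q7583, e3 q7584 L152947 q7584, e3 q7585 L152956 q6597, e3 q7586 L152965 q7586, e3 q7587 L152974 q7587,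 e3 q7588 (flp_e L157064) q8023, e3 q7589 L152991 q7589, e3 q7590 L161440 q8493, e3 q7591 (flp_e L157568) q8074, e3 q7592 L153015 q7592, e3 q7593 L153023 q7593, e3 q7594 L153035 q7594, e3 q7595 L153045 q7595, e3 q7596 (flp_e L155986) q7920, e3 q7597 L153061 q7597, e3 q7598 L157853 q8099, e3 q7599 L153076 q6618, e3 q7600 (flp_e L153082) q6620, e3 q7601 (flp_e L153098) q6621, e3 q7602 (flp_e L153108) q6622, e3 q7603 L153125 q7603, e3 q7604 L153131 q6624, e3 q7605 (flp_e L161502) q8499, e3 q7606 (flp_e L161485) q8497, e3 q7607 L153164 q7607, e3 q7608 L153171 q7608, e3 q7609 L161538 q8503, e3 q7610 L153196 q7610, e3 q7611 L153207 q7611, e3 q7612 L161599 q8507, e3 q7613 L153230 q7613, e3 q7614 L153240 q7614, e3 q7615 (flp_e L153245) q6633, trivial⟩ (by decide +kernel)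

theorem ce_e_119 : ∀ r, r < 64 → sm ge (Qf (7616 + r)) = Qf (tab Gen.e (7616 + r)) :=
  edges_tab (sm ge) Qf (tab Gen.e) 7616 [(7616, 7292), (7617, 7291), (7618, 8295), (7619, 7619), (7620, 7620), (7621, 6646), (7622, 6647), (7623, 8516), (7624, 6639), (7625, 6648), (7626, 6645), (7627, 6658), (7628, 8514), (7629, 6653), (7630, 8517), (7631, 7633), (7632, 7632), (7633, 7631), (7634, 6665), (7635, 8519), (7636, 6671), (7637, 7637), (7638, 6667), (7639, 8524), (7640, 7640), (7641, 7641), (7642, 6670), (7643, 8528), (7644, 8521), (7645, 8522), (7646, 7646), (7647, 7647), (7648, 7648), (7649, 6676), (7650, 7090), (7651, 7089), (7652, 7652), (7653, 6679), (7654, 6825), (7655, 6824), (7656, 7656), (7657, 6685), (7658, 7469), (7659, 7468), (7660, 8119), (7661, 7661), (7662, 8428), (7663, 6699), (7664, 7397), (7665, 8543), (7666, 6690), (7667, 7860), (7668, 8165), (7669, 7034), (7670, 6903), (7671, 6705), (7672, 8545), (7673, 7552), (7674, 6708), (7675, 6710), (7676, 7676), (7677, 7677), (7678,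 8546), (7679, 6717)]
    ⟨e3 q7616 L153264 q7292, e3 q7617 L153273 q7291, e3 q7618 (flp_e L159744) q8295, e3 q7619 L153295 q7619, e3 q7620 L153303 q7620, e3 q7621 L153313 q6646, e3 q7622 L153326 q6647, e3 q7623 L161710 q8516, e3 q7624 (flp_e L153337) q6639, e3 q7625 L153355 q6648, e3 q7626 L153367 q6645, e3 q7627 L153382 q6658, e3 q7628 (flp_e L161695) q8514, e3 q7629 L153407 q6653, e3 q7630 (flp_e L161729) q8517, e3 q7631 (flp_e L153455) q7633, e3 q7632 L153445 q7632, e3 q7633 L153455 q7631, e3 q7634 L153466 q6665, e3 q7635 (flp_e L161757) q8519, e3 q7636 L153488 q6671, e3 q7637 L153496 q7637, e3 q7638 L153504 q6667, e3 q7639 (flp_e L161803) q8524, e3 q7640 L153525 q7640, e3 q7641 L153533 q7641, e3 q7642 L153540 q6670, e3 q7643 L161832 q8528, e3 q7644 (flp_e L161776) q8521, e3 q7645 (flp_e L161784) q8522, e3 q7646 L153563 q7646, e3 q7647 L153571 q7647, e3 q7648 L153578 q7648, e3 q7649 (flp_e L153581) q6676, e3 q7650 L153599 q7090, e3 q7651 L153608 q7089, e3 q7652 L153619 q7652, e3 q7653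 (flp_e L153620) q6679, e3 q7654 L153636 q6825, e3 q7655 L153646 q6824, e3 q7656 L153656 q7656, e3 q7657 L153665 q6685, e3 q7658 L153676 q7469, e3 q7659 L153684 q7468, e3 q7660 (flp_e L158049) q8119, e3 q7661 L153700 q7661, e3 q7662 (flp_e L160854) q8428, e3 q7663 L153715 q6699, e3 q7664 L153725 q7397, e3 q7665 L161952 q8543, e3 q7666 (flp_e L153731) q6690, e3 q7667 L155342 q7860, e3 q7668 (flp_e L158540) q8165, e3 q7669 (flp_e L153760) q7034, e3 q7670 L153770 q6903, e3 q7671 L153779 q6705, e3 q7672 (flp_e L161980) q8545, e3 q7673 L153804 q7552, e3 q7674 L153816 q6708, e3 q7675 L153825 q6710, e3 q7676 L153836 q7676, e3 q7677 L153845 q7677, e3 q7678 (flp_e L161995) q8546, e3 q7679 L153858 q6717, trivial⟩ (by decide +kernel)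

theorem ce_e_120 : ∀ r, r < 64 → sm ge (Qf (7680 + r)) = Qf (tab Gen.e (7680 + r)) :=
  edges_tab (sm ge) Qf (tab Gen.e) 7680 [(7680, 6876), (7681, 6875), (7682, 8550), (7683, 7683), (7684, 8431), (7685, 7685), (7686, 8557), (7687, 7810), (7688, 6722), (7689, 7838), (7690, 7690), (7691, 7580), (7692, 7579), (7693, 8432), (7694, 7171), (7695, 7753), (7696, 8560), (7697, 6742), (7698, 8563), (7699, 7994), (7700, 6744), (7701, 8567), (7702, 6746), (7703, 8569), (7704, 6747), (7705, 8571), (7706, 7268), (7707, 7971), (7708, 6749), (7709, 8577), (7710, 8041), (7711, 6752), (7712, 8581), (7713, 7281), (7714, 7282), (7715, 6763), (7716, 6764), (7717, 6756), (7718, 8590), (7719, 6767), (7720, 6768), (7721, 7884), (7722, 6760), (7723, 8509), (7724, 8508), (7725, 8594), (7726, 8587), (7727, 8588), (7728, 8591), (7729, 8143), (7730, 7998), (7731, 8059), (7732, 6773), (7733, 6775), (7734, 8600), (7735, 6777), (7736, 8603), (7737, 8042), (7738, 7919), (7739, 6783), (7740, 8144), (7741, 7922), (7742,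 8608), (7743, 6787)]
    ⟨e3 q7680 L153869 q6876, e3 q7681 L153879 q6875, e3 q7682 (flp_e L162024) q8550, e3 q7683 L153895 q7683, e3 q7684 (flp_e L160879) q8431, e3 q7685 L153912 q7685, e3 q7686 L162095 q8557, e3 q7687 (flp_e L154864) q7810, e3 q7688 (flp_e L153929) q6722, e3 q7689 (flp_e L155103) q7838, e3 q7690 L153948 q7690, e3 q7691 L153958 q7580, e3 q7692 L153968 q7579, e3 q7693 (flp_e L160891) q8432, e3 q7694 L153988 q7171, e3 q7695 (flp_e L154448) q7753, e3 q7696 L162120 q8560, e3 q7697 (flp_e L154004) q6742, e3 q7698 (flp_e L162152) q8563, e3 q7699 (flp_e L156822) q7994, e3 q7700 (flp_e L154025) q6744, e3 q7701 (flp_e L162178) q8567, e3 q7702 L154046 q6746, e3 q7703 (flp_e L162194) q8569, e3 q7704 (flp_e L154056) q6747, e3 q7705 (flp_e L162211) q8571, e3 q7706 L154076 q7268, e3 q7707 L156595 q7971, e3 q7708 L154090 q6749, e3 q7709 (flp_e L162259) q8577, e3 q7710 (flp_e L157200) q8041, e3 q7711 L154114 q6752, e3 q7712 L162283 q8581, e3 q7713 L154128 q7281, e3 q7714 L154138 q7282,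 e3 q7715 L154147 q6763, e3 q7716 L154157 q6764, e3 q7717 L154168 q6756, e3 q7718 L162360 q8590, e3 q7719 L154191 q6767, e3 q7720 L154201 q6768, e3 q7721 (flp_e L155578) q7884, e3 q7722 (flp_e L154213) q6760, e3 q7723 (flp_e L161638) q8509, e3 q7724 (flp_e L161623) q8508, e3 q7725 (flp_e L162406) q8594, e3 q7726 (flp_e L162338) q8587, e3 q7727 (flp_e L162349) q8588, e3 q7728 (flp_e L162380) q8591, e3 q7729 (flp_e L158338) q8143, e3 q7730 (flp_e L156860) q7998, e3 q7731 (flp_e L157427) q8059, e3 q7732 L154315 q6773, e3 q7733 L154324 q6775, e3 q7734 (flp_e L162463) q8600, e3 q7735 L154336 q6777, e3 q7736 L162476 q8603, e3 q7737 (flp_e L157212) q8042, e3 q7738 (flp_e L155971) q7919, e3 q7739 L154361 q6783, e3 q7740 (flp_e L158352) q8144, e3 q7741 (flp_e L156003) q7922, e3 q7742 L162505 q8608, e3 q7743 (flp_e L154384) q6787, trivial⟩ (by decide +kernel)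

theorem ce_e_121 : ∀ r, r < 64 → sm ge (Qf (7744 + r)) = Qf (tab Gen.e (7744 + r)) :=
  edges_tab (sm ge) Qf (tab Gen.e) 7744 [(7744, 8610), (7745, 7939), (7746, 8613), (7747, 6791), (7748, 8148), (7749, 7954), (7750, 7956), (7751, 6798), (7752, 8617), (7753, 7695), (7754, 6800), (7755, 8621), (7756, 8615), (7757, 7990), (7758, 6802), (7759, 8626), (7760, 8054), (7761, 6805), (7762, 8630), (7763, 7436), (7764, 7437), (7765, 7976), (7766, 8282), (7767, 6809), (7768, 8639), (7769, 8044), (7770, 8285), (7771, 8015), (7772, 6813), (7773, 8372), (7774, 8371), (7775, 8643), (7776, 7458), (7777, 7459), (7778, 6829), (7779, 6830), (7780, 8652), (7781, 6819), (7782, 6833), (7783, 8655), (7784, 8036), (7785, 6826), (7786, 8536), (7787, 8504), (7788, 8657), (7789, 8649), (7790, 8660), (7791, 8145), (7792, 8662), (7793, 6834), (7794, 8085), (7795, 8052), (7796, 8078), (7797, 8666), (7798, 8072), (7799, 8151), (7800, 7957), (7801, 6842), (7802, 8076), (7803, 7032), (7804, 8260), (7805, 8150), (7806,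 7949), (7807, 6851)]
    ⟨e3 q7744 L162519 q8610, e3 q7745 (flp_e L156222) q7939, e3 q7746 L162534 q8613, e3 q7747 (flp_e L154405) q6791, e3 q7748 (flp_e L158397) q8148, e3 q7749 (flp_e L156419) q7954, e3 q7750 (flp_e L156446) q7956, e3 q7751 (flp_e L154429) q6798, e3 q7752 (flp_e L162566) q8617, e3 q7753 L154448 q7695, e3 q7754 L154455 q6800, e3 q7755 (flp_e L162596) q8621, e3 q7756 (flp_e L162550) q8615, e3 q7757 L156778 q7990, e3 q7758 L154476 q6802, e3 q7759 (flp_e L162625) q8626, e3 q7760 (flp_e L157364) q8054, e3 q7761 L154495 q6805, e3 q7762 L162648 q8630, e3 q7763 L154509 q7436, e3 q7764 L154517 q7437, e3 q7765 L156646 q7976, e3 q7766 (flp_e L159614) q8282, e3 q7767 L154533 q6809, e3 q7768 L162700 q8639, e3 q7769 (flp_e L157244) q8044, e3 q7770 (flp_e L159636) q8285, e3 q7771 (flp_e L156983) q8015, e3 q7772 (flp_e L154559) q6813, e3 q7773 (flp_e L160342) q8372, e3 q7774 (flp_e L160332) q8371, e3 q7775 (flp_e L162728) q8643, e3 q7776 L154593 q7458, e3 q7777 L154599 q7459, e3 q7778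 L154607 q6829, e3 q7779 L154617 q6830, e3 q7780 L162790 q8652, e3 q7781 (flp_e L154627) q6819, e3 q7782 L154638 q6833, e3 q7783 L162809 q8655, e3 q7784 (flp_e L157147) q8036, e3 q7785 L154657 q6826, e3 q7786 (flp_e L161898) q8536, e3 q7787 (flp_e L161564) q8504, e3 q7788 (flp_e L162829) q8657, e3 q7789 (flp_e L162773) q8649, e3 q7790 L162864 q8660, e3 q7791 (flp_e L158362) q8145, e3 q7792 L162893 q8662, e3 q7793 (flp_e L154741) q6834, e3 q7794 (flp_e L157690) q8085, e3 q7795 (flp_e L157339) q8052, e3 q7796 (flp_e L157607) q8078, e3 q7797 L162933 q8666, e3 q7798 (flp_e L157551) q8072, e3 q7799 (flp_e L158430) q8151, e3 q7800 (flp_e L156464) q7957, e3 q7801 (flp_e L154797) q6842, e3 q7802 (flp_e L157589) q8076, e3 q7803 L154813 q7032, e3 q7804 (flp_e L159417) q8260, e3 q7805 (flp_e L158417) q8150, e3 q7806 L156357 q7949, e3 q7807 (flp_e L154845) q6851, trivial⟩ (by decide +kernel)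

theorem ce_e_122 : ∀ r, r < 64 → sm ge (Qf (7808 + r)) = Qf (tab Gen.e (7808 + r)) :=
  edges_tab (sm ge) Qf (tab Gen.e) 7808 [(7808, 8098), (7809, 8101), (7810, 7687), (7811, 7575), (7812, 6860), (7813, 6864), (7814, 8467), (7815, 8466), (7816, 8674), (7817, 7571), (7818, 8680), (7819, 6880), (7820, 8683), (7821, 8685), (7822, 6869), (7823, 7832), (7824, 7831), (7825, 6872), (7826, 7826), (7827, 6877), (7828, 8552), (7829, 8551), (7830, 8544), (7831, 7824), (7832, 7823), (7833, 6881), (7834, 7888), (7835, 7835), (7836, 6905), (7837, 6902), (7838, 7689), (7839, 7565), (7840, 6993), (7841, 6994), (7842, 7029), (7843, 8691), (7844, 6920), (7845, 8694), (7846, 7223), (7847, 7385), (7848, 8699), (7849, 6923), (7850, 8701), (7851, 8704), (7852, 6925), (7853, 8708), (7854, 7253), (7855, 6927), (7856, 8711), (7857, 8713), (7858, 6928), (7859, 8715), (7860, 7667), (7861, 6930), (7862, 8719), (7863, 6932), (7864, 8721), (7865, 8722), (7866, 6933), (7867, 8726), (7868, 8132), (7869, 7269), (7870,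 6935), (7871, 8733)]
    ⟨e3 q7808 (flp_e L157837) q8098, e3 q7809 (flp_e L157870) q8101, e3 q7810 L154864 q7687, e3 q7811 L154874 q7575, e3 q7812 L154881 q6860, e3 q7813 L154890 q6864, e3 q7814 (flp_e L161213) q8467, e3 q7815 (flp_e L161200) q8466, e3 q7816 (flp_e L162991) q8674, e3 q7817 L154915 q7571, e3 q7818 L163025 q8680, e3 q7819 L154929 q6880, e3 q7820 L163048 q8683, e3 q7821 L163063 q8685, e3 q7822 (flp_e L154946) q6869, e3 q7823 L155046 q7832, e3 q7824 L155030 q7831, e3 q7825 (flp_e L154966) q6872, e3 q7826 L154977 q7826, e3 q7827 L154985 q6877, e3 q7828 (flp_e L162051) q8552, e3 q7829 (flp_e L162039) q8551, e3 q7830 (flp_e L161965) q8544, e3 q7831 (flp_e L155030) q7824, e3 q7832 (flp_e L155046) q7823, e3 q7833 (flp_e L155048) q6881, e3 q7834 (flp_e L155610) q7888, e3 q7835 L155063 q7835, e3 q7836 L155074 q6905, e3 q7837 L155087 q6902, e3 q7838 L155103 q7689, e3 q7839 L155113 q7565, e3 q7840 L155128 q6993, e3 q7841 L155137 q6994, e3 q7842 L155151 q7029, e3 q7843 L163116 q8691,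 e3 q7844 (flp_e L155167) q6920, e3 q7845 (flp_e L163152) q8694, e3 q7846 L155196 q7223, e3 q7847 L155206 q7385, e3 q7848 L163207 q8699, e3 q7849 (flp_e L155222) q6923, e3 q7850 (flp_e L163236) q8701, e3 q7851 L163268 q8704, e3 q7852 (flp_e L155253) q6925, e3 q7853 (flp_e L163315) q8708, e3 q7854 L155278 q7253, e3 q7855 L155289 q6927, e3 q7856 (flp_e L163346) q8711, e3 q7857 L163364 q8713, e3 q7858 (flp_e L155311) q6928, e3 q7859 (flp_e L163395) q8715, e3 q7860 (flp_e L155342) q7667, e3 q7861 (flp_e L155344) q6930, e3 q7862 (flp_e L163447) q8719, e3 q7863 L155372 q6932, e3 q7864 (flp_e L163467) q8721, e3 q7865 L163473 q8722, e3 q7866 (flp_e L155396) q6933, e3 q7867 (flp_e L163525) q8726, e3 q7868 (flp_e L158220) q8132, e3 q7869 L155424 q7269, e3 q7870 L155432 q6935, e3 q7871 (flp_e L163593) q8733, trivial⟩ (by decide +kernel)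

theorem ce_e_123 : ∀ r, r < 64 → sm ge (Qf (7872 + r)) = Qf (tab Gen.e (7872 + r)) :=
  edges_tab (sm ge) Qf (tab Gen.e) 7872 [(7872, 7272), (7873, 7273), (7874, 6938), (7875, 6940), (7876, 8739), (7877, 7035), (7878, 8136), (7879, 6949), (7880, 6950), (7881, 6944), (7882, 6951), (7883, 6952), (7884, 7721), (7885, 6948), (7886, 8505), (7887, 8745), (7888, 7834), (7889, 7233), (7890, 7262), (7891, 7315), (7892, 6957), (7893, 8752), (7894, 7426), (7895, 6958), (7896, 8754), (7897, 6960), (7898, 8756), (7899, 7307), (7900, 6963), (7901, 7246), (7902, 7298), (7903, 6966), (7904, 8762), (7905, 7410), (7906, 7465), (7907, 7495), (7908, 6970), (7909, 6971), (7910, 8767), (7911, 7319), (7912, 6973), (7913, 8770), (7914, 7322), (7915, 6976), (7916, 8773), (7917, 7325), (7918, 7326), (7919, 7738), (7920, 7596), (7921, 8777), (7922, 7741), (7923, 6985), (7924, 7386), (7925, 7297), (7926, 7095), (7927, 7136), (7928, 8661), (7929, 8782), (7930, 6995), (7931, 7234), (7932, 7346), (7933, 6999), (7934,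 7483), (7935, 7505)]
    ⟨e3 q7872 L155450 q7272, e3 q7873 L155464 q7273, e3 q7874 L155474 q6938, e3 q7875 L155482 q6940, e3 q7876 L163650 q8739, e3 q7877 L155501 q7035, e3 q7878 (flp_e L158264) q8136, e3 q7879 L155520 q6949, e3 q7880 L155531 q6950, e3 q7881 L155541 q6944, e3 q7882 L155550 q6951, e3 q7883 L155564 q6952, e3 q7884 L155578 q7721, e3 q7885 (flp_e L155580) q6948, e3 q7886 (flp_e L161580) q8505, e3 q7887 (flp_e L163706) q8745, e3 q7888 L155610 q7834, e3 q7889 L155624 q7233, e3 q7890 L155633 q7262, e3 q7891 L155650 q7315, e3 q7892 L155663 q6957, e3 q7893 (flp_e L163786) q8752, e3 q7894 L155690 q7426, e3 q7895 (flp_e L155692) q6958, e3 q7896 (flp_e L163815) q8754, e3 q7897 L155721 q6960, e3 q7898 (flp_e L163835) q8756, e3 q7899 L155744 q7307, e3 q7900 L155754 q6963, e3 q7901 L155762 q7246, e3 q7902 L155780 q7298, e3 q7903 L155793 q6966, e3 q7904 (flp_e L163915) q8762, e3 q7905 L155813 q7410, e3 q7906 L155829 q7465, e3 q7907 L155839 q7495, e3 q7908 L155849 q6970, e3 q7909 (flp_e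 L155855) q6971, e3 q7910 (flp_e L163981) q8767, e3 q7911 L155889 q7319, e3 q7912 L155899 q6973, e3 q7913 (flp_e L164013) q8770, e3 q7914 L155917 q7322, e3 q7915 L155929 q6976, e3 q7916 L164043 q8773, e3 q7917 L155953 q7325, e3 q7918 L155963 q7326, e3 q7919 L155971 q7738, e3 q7920 L155986 q7596, e3 q7921 L164099 q8777, e3 q7922 L156003 q7741, e3 q7923 (flp_e L156012) q6985, e3 q7924 L156031 q7386, e3 q7925 L156047 q7297, e3 q7926 L156057 q7095, e3 q7927 L156075 q7136, e3 q7928 (flp_e L162881) q8661, e3 q7929 L164152 q8782, e3 q7930 (flp_e L156093) q6995, e3 q7931 L156112 q7234, e3 q7932 L156128 q7346, e3 q7933 L156142 q6999, e3 q7934 L156157 q7483, e3 q7935 L156169 q7505, trivial⟩ (by decide +kernel)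

theorem ce_e_124 : ∀ r, r < 64 → sm ge (Qf (7936 + r)) = Qf (tab Gen.e (7936 + r)) :=
  edges_tab (sm ge) Qf (tab Gen.e) 7936 [(7936, 7003), (7937, 8787), (7938, 7342), (7939, 7745), (7940, 7336), (7941, 7008), (7942, 7330), (7943, 7355), (7944, 7165), (7945, 7509), (7946, 7014), (7947, 8793), (7948, 7016), (7949, 7806), (7950, 7351), (7951, 7019), (7952, 7354), (7953, 8792), (7954, 7749), (7955, 7024), (7956, 7750), (7957, 7800), (7958, 8540), (7959, 8395), (7960, 8729), (7961, 8743), (7962, 8803), (7963, 7037), (7964, 8807), (7965, 7405), (7966, 7039), (7967, 8811), (7968, 7042), (7969, 7209), (7970, 7224), (7971, 7707), (7972, 7043), (7973, 8816), (7974, 7045), (7975, 8818), (7976, 7765), (7977, 7046), (7978, 8822), (7979, 8805), (7980, 7416), (7981, 7048), (7982, 8829), (7983, 7419), (7984, 7420), (7985, 7051), (7986, 7052), (7987, 8835), (7988, 7054), (7989, 8837), (7990, 7757), (7991, 7055), (7992, 8840), (7993, 8123), (7994, 7699), (7995, 7057), (7996, 8846), (7997, 7302), (7998,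 7730), (7999, 7060)]
    ⟨e3 q7936 L156183 q7003, e3 q7937 L164224 q8787, e3 q7938 L156208 q7342, e3 q7939 L156222 q7745, e3 q7940 L156231 q7336, e3 q7941 L156247 q7008, e3 q7942 L156263 q7330, e3 q7943 L156275 q7355, e3 q7944 L156291 q7165, e3 q7945 L156305 q7509, e3 q7946 L156317 q7014, e3 q7947 (flp_e L164320) q8793, e3 q7948 L156337 q7016, e3 q7949 (flp_e L156357) q7806, e3 q7950 L156365 q7351, e3 q7951 (flp_e L156375) q7019, e3 q7952 L156395 q7354, e3 q7953 (flp_e L164310) q8792, e3 q7954 L156419 q7749, e3 q7955 (flp_e L156429) q7024, e3 q7956 L156446 q7750, e3 q7957 L156464 q7800, e3 q7958 (flp_e L161932) q8540, e3 q7959 L160565 q8395, e3 q7960 (flp_e L163551) q8729, e3 q7961 (flp_e L163690) q8743, e3 q7962 L164433 q8803, e3 q7963 (flp_e L156508) q7037, e3 q7964 (flp_e L164472) q8807, e3 q7965 L156527 q7405, e3 q7966 L156534 q7039, e3 q7967 (flp_e L164502) q8811, e3 q7968 L156552 q7042, e3 q7969 L156561 q7209, e3 q7970 L156577 q7224, e3 q7971 (flp_e L156595) q7707, e3 q7972 (flp_e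 L156597) q7043, e3 q7973 (flp_e L164559) q8816, e3 q7974 L156620 q7045, e3 q7975 (flp_e L164577) q8818, e3 q7976 (flp_e L156646) q7765, e3 q7977 (flp_e L156648) q7046, e3 q7978 (flp_e L164629) q8822, e3 q7979 (flp_e L164456) q8805, e3 q7980 L156677 q7416, e3 q7981 L156683 q7048, e3 q7982 (flp_e L164684) q8829, e3 q7983 L156700 q7419, e3 q7984 L156711 q7420, e3 q7985 L156719 q7051, e3 q7986 (flp_e L156723) q7052, e3 q7987 (flp_e L164745) q8835, e3 q7988 L156750 q7054, e3 q7989 (flp_e L164765) q8837, e3 q7990 (flp_e L156778) q7757, e3 q7991 (flp_e L156780) q7055, e3 q7992 (flp_e L164808) q8840, e3 q7993 (flp_e L158103) q8123, e3 q7994 L156822 q7699, e3 q7995 L156828 q7057, e3 q7996 (flp_e L164872) q8846, e3 q7997 L156846 q7302, e3 q7998 L156860 q7730, e3 q7999 L156868 q7060, trivial⟩ (by decide +kernel)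

theorem ce_e_125 : ∀ r, r < 64 → sm ge (Qf (8000 + r)) = Qf (tab Gen.e (8000 + r)) :=
  edges_tab (sm ge) Qf (tab Gen.e) 8000 [(8000, 7061), (8001, 8853), (8002, 8275), (8003, 7432), (8004, 7063), (8005, 8860), (8006, 8862), (8007, 8280), (8008, 8281), (8009, 7438), (8010, 7439), (8011, 7067), (8012, 8871), (8013, 7442), (8014, 7443), (8015, 7771), (8016, 8562), (8017, 8124), (8018, 8018), (8019, 8019), (8020, 7074), (8021, 8021), (8022, 8022), (8023, 7588), (8024, 7078), (8025, 8530), (8026, 8529), (8027, 8883), (8028, 8289), (8029, 8290), (8030, 7092), (8031, 7093), (8032, 8892), (8033, 7084), (8034, 7094), (8035, 8779), (8036, 7784), (8037, 7091), (8038, 8535), (8039, 8889), (8040, 7225), (8041, 7710), (8042, 7737), (8043, 7101), (8044, 7769), (8045, 7476), (8046, 7104), (8047, 8899), (8048, 7479), (8049, 7107), (8050, 7481), (8051, 7482), (8052, 7795), (8053, 7112), (8054, 7760), (8055, 7115), (8056, 8907), (8057, 7117), (8058, 7338), (8059, 7731), (8060, 7493), (8061, 7485), (8062,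 7122), (8063, 8913)]
    ⟨e3 q8000 (flp_e L156872) q7061, e3 q8001 (flp_e L164945) q8853, e3 q8002 (flp_e L159558) q8275, e3 q8003 L156901 q7432, e3 q8004 L156909 q7063, e3 q8005 (flp_e L165006) q8860, e3 q8006 L165014 q8862, e3 q8007 (flp_e L159596) q8280, e3 q8008 (flp_e L159608) q8281, e3 q8009 L156939 q7438, e3 q8010 L156945 q7439, e3 q8011 L156953 q7067, e3 q8012 L165066 q8871, e3 q8013 L156967 q7442, e3 q8014 L156975 q7443, e3 q8015 L156983 q7771, e3 q8016 (flp_e L162144) q8562, e3 q8017 (flp_e L158120) q8124, e3 q8018 L157008 q8018, e3 q8019 L157019 q8019, e3 q8020 L157027 q7074, e3 q8021 L157038 q8021, e3 q8022 L157051 q8022, e3 q8023 L157064 q7588, e3 q8024 (flp_e L157066) q7078, e3 q8025 (flp_e L161852) q8530, e3 q8026 L161843 q8529, e3 q8027 (flp_e L165171) q8883, e3 q8028 (flp_e L159672) q8289, e3 q8029 (flp_e L159679) q8290, e3 q8030 L157101 q7092, e3 q8031 L157110 q7093, e3 q8032 L165226 q8892, e3 q8033 (flp_e L157119) q7084, e3 q8034 L157131 q7094, e3 q8035 (flp_e L164132)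 q8779, e3 q8036 L157147 q7784, e3 q8037 L157155 q7091, e3 q8038 (flp_e L161888) q8535, e3 q8039 (flp_e L165208) q8889, e3 q8040 L157182 q7225, e3 q8041 L157200 q7710, e3 q8042 L157212 q7737, e3 q8043 L157228 q7101, e3 q8044 L157244 q7769, e3 q8045 L157260 q7476, e3 q8046 L157272 q7104, e3 q8047 (flp_e L165307) q8899, e3 q8048 L157292 q7479, e3 q8049 L157304 q7107, e3 q8050 L157317 q7481, e3 q8051 L157327 q7482, e3 q8052 L157339 q7795, e3 q8053 L157348 q7112, e3 q8054 L157364 q7760, e3 q8055 L157377 q7115, e3 q8056 (flp_e L165412) q8907, e3 q8057 L157399 q7117, e3 q8058 L157415 q7338, e3 q8059 L157427 q7731, e3 q8060 L157439 q7493, e3 q8061 L157452 q7485, e3 q8062 L157463 q7122, e3 q8063 (flp_e L165490) q8913, trivial⟩ (by decide +kernel)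

theorem ce_e_126 : ∀ r, r < 64 → sm ge (Qf (8064 + r)) = Qf (tab Gen.e (8064 + r)) :=
  edges_tab (sm ge) Qf (tab Gen.e) 8064 [(8064, 7488), (8065, 7489), (8066, 7125), (8067, 7491), (8068, 7492), (8069, 8905), (8070, 7494), (8071, 8765), (8072, 7798), (8073, 8923), (8074, 7591), (8075, 7357), (8076, 7802), (8077, 7503), (8078, 7796), (8079, 7502), (8080, 7235), (8081, 7504), (8082, 8783), (8083, 7352), (8084, 7163), (8085, 7794), (8086, 7396), (8087, 7339), (8088, 8932), (8089, 7512), (8090, 7506), (8091, 7158), (8092, 7508), (8093, 8790), (8094, 7510), (8095, 8936), (8096, 7341), (8097, 7350), (8098, 7808), (8099, 7598), (8100, 7167), (8101, 7809), (8102, 8484), (8103, 8939), (8104, 7173), (8105, 8486), (8106, 8555), (8107, 7175), (8108, 8944), (8109, 8945), (8110, 7176), (8111, 8947), (8112, 7178), (8113, 8949), (8114, 7526), (8115, 7527), (8116, 7181), (8117, 7217), (8118, 7383), (8119, 7660), (8120, 7189), (8121, 7229), (8122, 7230), (8123, 7993), (8124, 8017), (8125, 7364), (8126,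 7365), (8127, 7361)]
    ⟨e3 q8064 L157482 q7488, e3 q8065 L157493 q7489, e3 q8066 L157501 q7125, e3 q8067 L157510 q7491, e3 q8068 L157522 q7492, e3 q8069 (flp_e L165387) q8905, e3 q8070 L157535 q7494, e3 q8071 (flp_e L163955) q8765, e3 q8072 L157551 q7798, e3 q8073 L165584 q8923, e3 q8074 L157568 q7591, e3 q8075 L157578 q7357, e3 q8076 L157589 q7802, e3 q8077 L157600 q7503, e3 q8078 L157607 q7796, e3 q8079 L157621 q7502, e3 q8080 L157637 q7235, e3 q8081 L157649 q7504, e3 q8082 (flp_e L164177) q8783, e3 q8083 L157666 q7352, e3 q8084 L157683 q7163, e3 q8085 L157690 q7794, e3 q8086 L157710 q7396, e3 q8087 L157719 q7339, e3 q8088 L165702 q8932, e3 q8089 L157743 q7512, e3 q8090 L157756 q7506, e3 q8091 L157766 q7158, e3 q8092 L157778 q7508, e3 q8093 (flp_e L164281) q8790, e3 q8094 L157801 q7510, e3 q8095 L165756 q8936, e3 q8096 L157816 q7341, e3 q8097 L157825 q7350, e3 q8098 L157837 q7808, e3 q8099 (flp_e L157853) q7598, e3 q8100 (flp_e L157855) q7167, e3 q8101 L157870 q7809, e3 q8102 (flp_e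 L161367) q8484, e3 q8103 L165790 q8939, e3 q8104 (flp_e L157898) q7173, e3 q8105 (flp_e L161384) q8486, e3 q8106 L162082 q8555, e3 q8107 L157928 q7175, e3 q8108 (flp_e L165857) q8944, e3 q8109 L165861 q8945, e3 q8110 (flp_e L157948) q7176, e3 q8111 (flp_e L165891) q8947, e3 q8112 L157973 q7178, e3 q8113 (flp_e L165906) q8949, e3 q8114 L157990 q7526, e3 q8115 L158000 q7527, e3 q8116 L158007 q7181, e3 q8117 L158017 q7217, e3 q8118 L158032 q7383, e3 q8119 L158049 q7660, e3 q8120 L158061 q7189, e3 q8121 L158076 q7229, e3 q8122 L158091 q7230, e3 q8123 L158103 q7993, e3 q8124 L158120 q8017, e3 q8125 L158132 q7364, e3 q8126 L158144 q7365, e3 q8127 L158158 q7361, trivial⟩ (by decide +kernel)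

theorem ce_e_127 : ∀ r, r < 64 → sm ge (Qf (8128 + r)) = Qf (tab Gen.e (8128 + r)) :=
  edges_tab (sm ge) Qf (tab Gen.e) 8128 [(8128, 7362), (8129, 7363), (8130, 8696), (8131, 8812), (8132, 7868), (8133, 7211), (8134, 8961), (8135, 7213), (8136, 7878), (8137, 7216), (8138, 7387), (8139, 7388), (8140, 8697), (8141, 8813), (8142, 8901), (8143, 7729), (8144, 7740), (8145, 7791), (8146, 8971), (8147, 7231), (8148, 7748), (8149, 8749), (8150, 7805), (8151, 7799), (8152, 8515), (8153, 7384), (8154, 8976), (8155, 7241), (8156, 8978), (8157, 8981), (8158, 7243), (8159, 8985), (8160, 8693), (8161, 7245), (8162, 8988), (8163, 8712), (8164, 8760), (8165, 7668), (8166, 7466), (8167, 7444), (8168, 8844), (8169, 7250), (8170, 8995), (8171, 8983), (8172, 8707), (8173, 7252), (8174, 9001), (8175, 8710), (8176, 7255), (8177, 7256), (8178, 9005), (8179, 7258), (8180, 9007), (8181, 7259), (8182, 9009), (8183, 8346), (8184, 8698), (8185, 7261), (8186, 9015), (8187, 8750), (8188, 7264), (8189, 7265), (8190,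 9019), (8191, 8570)]
    ⟨e3 q8128 L158174 q7362, e3 q8129 L158184 q7363, e3 q8130 (flp_e L163169) q8696, e3 q8131 (flp_e L164510) q8812, e3 q8132 L158220 q7868, e3 q8133 L158230 q7211, e3 q8134 (flp_e L166046) q8961, e3 q8135 L158248 q7213, e3 q8136 L158264 q7878, e3 q8137 (flp_e L158268) q7216, e3 q8138 L158288 q7387, e3 q8139 L158298 q7388, e3 q8140 (flp_e L163187) q8697, e3 q8141 (flp_e L164520) q8813, e3 q8142 (flp_e L165335) q8901, e3 q8143 L158338 q7729, e3 q8144 L158352 q7740, e3 q8145 L158362 q7791, e3 q8146 L166149 q8971, e3 q8147 (flp_e L158376) q7231, e3 q8148 L158397 q7748, e3 q8149 (flp_e L163743) q8749, e3 q8150 L158417 q7805, e3 q8151 L158430 q7799, e3 q8152 (flp_e L161708) q8515, e3 q8153 L158448 q7384, e3 q8154 L166200 q8976, e3 q8155 (flp_e L158462) q7241, e3 q8156 (flp_e L166227) q8978, e3 q8157 L166251 q8981, e3 q8158 (flp_e L158485) q7243, e3 q8159 (flp_e L166285) q8985, e3 q8160 (flp_e L163144) q8693, e3 q8161 L158513 q7245, e3 q8162 (flp_e L166307) q8988, e3 q8163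 L163362 q8712, e3 q8164 (flp_e L163887) q8760, e3 q8165 L158540 q7668, e3 q8166 L158556 q7466, e3 q8167 L158566 q7444, e3 q8168 (flp_e L164850) q8844, e3 q8169 (flp_e L158584) q7250, e3 q8170 (flp_e L166377) q8995, e3 q8171 (flp_e L166271) q8983, e3 q8172 (flp_e L163305) q8707, e3 q8173 L158622 q7252, e3 q8174 (flp_e L166431) q9001, e3 q8175 (flp_e L163334) q8710, e3 q8176 L158650 q7255, e3 q8177 (flp_e L158658) q7256, e3 q8178 (flp_e L166468) q9005, e3 q8179 L158681 q7258, e3 q8180 (flp_e L166484) q9007, e3 q8181 (flp_e L158691) q7259, e3 q8182 (flp_e L166503) q9009, e3 q8183 (flp_e L160155) q8346, e3 q8184 L163205 q8698, e3 q8185 L158735 q7261, e3 q8186 (flp_e L166559) q9015, e3 q8187 (flp_e L163760) q8750, e3 q8188 L158763 q7264, e3 q8189 (flp_e L158771) q7265, e3 q8190 (flp_e L166602) q9019, e3 q8191 (flp_e L162203) q8570, trivial⟩ (by decide +kernel)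

theorem ce_e_128 : ∀ r, r < 64 → sm ge (Qf (8192 + r)) = Qf (tab Gen.e (8192 + r)) :=
  edges_tab (sm ge) Qf (tab Gen.e) 8192 [(8192, 8725), (8193, 7267), (8194, 9025), (8195, 9027), (8196, 8574), (8197, 8575), (8198, 8731), (8199, 8732), (8200, 7271), (8201, 9036), (8202, 8735), (8203, 8736), (8204, 7411), (8205, 9040), (8206, 8438), (8207, 8439), (8208, 8208), (8209, 8209), (8210, 8210), (8211, 7280), (8212, 8213), (8213, 8212), (8214, 9047), (8215, 8585), (8216, 8586), (8217, 7294), (8218, 7295), (8219, 9056), (8220, 7286), (8221, 7296), (8222, 8763), (8223, 7409), (8224, 7293), (8225, 8511), (8226, 9053), (8227, 8761), (8228, 7498), (8229, 7496), (8230, 8848), (8231, 7304), (8232, 9061), (8233, 7306), (8234, 8919), (8235, 8758), (8236, 7310), (8237, 7312), (8238, 9064), (8239, 7314), (8240, 9067), (8241, 8751), (8242, 7318), (8243, 9068), (8244, 8769), (8245, 7321), (8246, 9073), (8247, 8772), (8248, 8904), (8249, 7324), (8250, 8774), (8251, 8791), (8252, 9076), (8253, 7332), (8254,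 8925), (8255, 9078)]
    ⟨e3 q8192 (flp_e L163515) q8725, e3 q8193 L158810 q7267, e3 q8194 (flp_e L166649) q9025, e3 q8195 L166655 q9027, e3 q8196 (flp_e L162233) q8574, e3 q8197 (flp_e L162243) q8575, e3 q8198 (flp_e L163571) q8731, e3 q8199 (flp_e L163583) q8732, e3 q8200 L158860 q7271, e3 q8201 L166725 q9036, e3 q8202 (flp_e L163611) q8735, e3 q8203 (flp_e L163623) q8736, e3 q8204 L158894 q7411, e3 q8205 L166763 q9040, e3 q8206 (flp_e L160935) q8438, e3 q8207 (flp_e L160947) q8439, e3 q8208 L158930 q8208, e3 q8209 L158942 q8209, e3 q8210 L158953 q8210, e3 q8211 (flp_e L158960) q7280, e3 q8212 (flp_e L158981) q8213, e3 q8213 L158981 q8212, e3 q8214 (flp_e L166847) q9047, e3 q8215 (flp_e L162322) q8585, e3 q8216 (flp_e L162329) q8586, e3 q8217 L159017 q7294, e3 q8218 L159028 q7295, e3 q8219 L166932 q9056, e3 q8220 (flp_e L159043) q7286, e3 q8221 L159060 q7296, e3 q8222 (flp_e L163931) q8763, e3 q8223 L159082 q7409, e3 q8224 L159095 q7293, e3 q8225 (flp_e L161661) q8511, e3 q8226 (flp_e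 L166901) q9053, e3 q8227 (flp_e L163899) q8761, e3 q8228 L159136 q7498, e3 q8229 L159146 q7496, e3 q8230 (flp_e L164890) q8848, e3 q8231 L159167 q7304, e3 q8232 (flp_e L166992) q9061, e3 q8233 L159183 q7306, e3 q8234 (flp_e L165547) q8919, e3 q8235 (flp_e L163862) q8758, e3 q8236 L159212 q7310, e3 q8237 L159221 q7312, e3 q8238 (flp_e L167022) q9064, e3 q8239 L159239 q7314, e3 q8240 L167049 q9067, e3 q8241 (flp_e L163772) q8751, e3 q8242 L159270 q7318, e3 q8243 (flp_e L167067) q9068, e3 q8244 (flp_e L164003) q8769, e3 q8245 L159293 q7321, e3 q8246 L167098 q9073, e3 q8247 (flp_e L164033) q8772, e3 q8248 (flp_e L165368) q8904, e3 q8249 (flp_e L159318) q7324, e3 q8250 (flp_e L164063) q8774, e3 q8251 (flp_e L164290) q8791, e3 q8252 L167122 q9076, e3 q8253 (flp_e L159351) q7332, e3 q8254 (flp_e L165607) q8925, e3 q8255 L167143 q9078, trivial⟩ (by decide +kernel)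

theorem ce_e_129 : ∀ r, r < 64 → sm ge (Qf (8256 + r)) = Qf (tab Gen.e (8256 + r)) :=
  edges_tab (sm ge) Qf (tab Gen.e) 8256 [(8256, 7334), (8257, 8930), (8258, 8909), (8259, 8928), (8260, 7804), (8261, 8927), (8262, 7345), (8263, 7348), (8264, 8920), (8265, 8929), (8266, 8786), (8267, 8541), (8268, 7358), (8269, 9082), (8270, 7360), (8271, 9084), (8272, 8956), (8273, 8957), (8274, 8955), (8275, 8002), (8276, 7423), (8277, 7367), (8278, 9092), (8279, 9094), (8280, 8007), (8281, 8008), (8282, 7766), (8283, 7371), (8284, 9101), (8285, 7770), (8286, 7374), (8287, 9102), (8288, 9103), (8289, 8028), (8290, 8029), (8291, 7378), (8292, 7380), (8293, 7381), (8294, 7382), (8295, 7618), (8296, 9107), (8297, 8518), (8298, 8964), (8299, 7427), (8300, 7391), (8301, 7484), (8302, 8908), (8303, 8788), (8304, 8388), (8305, 7399), (8306, 9113), (8307, 7401), (8308, 9115), (8309, 9116), (8310, 7402), (8311, 9120), (8312, 7415), (8313, 8806), (8314, 7404), (8315, 9127), (8316, 8809), (8317, 8810), (8318,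 7407), (8319, 9112)]
    ⟨e3 q8256 (flp_e L159375) q7334, e3 q8257 (flp_e L165673) q8930, e3 q8258 (flp_e L165439) q8909, e3 q8259 (flp_e L165643) q8928, e3 q8260 L159417 q7804, e3 q8261 (flp_e L165628) q8927, e3 q8262 (flp_e L159431) q7345, e3 q8263 L159449 q7348, e3 q8264 (flp_e L165558) q8920, e3 q8265 (flp_e L165660) q8929, e3 q8266 (flp_e L164221) q8786, e3 q8267 (flp_e L161936) q8541, e3 q8268 (flp_e L159489) q7358, e3 q8269 (flp_e L167184) q9082, e3 q8270 L159517 q7360, e3 q8271 (flp_e L167202) q9084, e3 q8272 (flp_e L165992) q8956, e3 q8273 (flp_e L166002) q8957, e3 q8274 (flp_e L165976) q8955, e3 q8275 L159558 q8002, e3 q8276 L159566 q7423, e3 q8277 L159574 q7367, e3 q8278 (flp_e L167283) q9092, e3 q8279 L167293 q9094, e3 q8280 L159596 q8007, e3 q8281 L159608 q8008, e3 q8282 L159614 q7766, e3 q8283 L159622 q7371, e3 q8284 L167351 q9101, e3 q8285 L159636 q7770, e3 q8286 (flp_e L159640) q7374, e3 q8287 (flp_e L167362) q9102, e3 q8288 (flp_e L167375) q9103, e3 q8289 L159672 q8028,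 e3 q8290 L159679 q8029, e3 q8291 (flp_e L159681) q7378, e3 q8292 L159703 q7380, e3 q8293 L159716 q7381, e3 q8294 L159731 q7382, e3 q8295 L159744 q7618, e3 q8296 (flp_e L167413) q9107, e3 q8297 (flp_e L161743) q8518, e3 q8298 (flp_e L166080) q8964, e3 q8299 L159790 q7427, e3 q8300 L159798 q7391, e3 q8301 L159806 q7484, e3 q8302 (flp_e L165430) q8908, e3 q8303 (flp_e L164251) q8788, e3 q8304 (flp_e L160497) q8388, e3 q8305 (flp_e L159828) q7399, e3 q8306 (flp_e L167469) q9113, e3 q8307 L159852 q7401, e3 q8308 (flp_e L167485) q9115, e3 q8309 L167489 q9116, e3 q8310 (flp_e L159872) q7402, e3 q8311 (flp_e L167534) q9120, e3 q8312 L159896 q7415, e3 q8313 (flp_e L164466) q8806, e3 q8314 L159906 q7404, e3 q8315 (flp_e L167590) q9127, e3 q8316 (flp_e L164485) q8809, e3 q8317 (flp_e L164494) q8810, e3 q8318 L159930 q7407, e3 q8319 (flp_e L167461) q9112, trivial⟩ (by decide +kernel)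

theorem ce_e_130 : ∀ r, r < 64 → sm ge (Qf (8320 + r)) = Qf (tab Gen.e (8320 + r)) :=
  edges_tab (sm ge) Qf (tab Gen.e) 8320 [(8320, 8717), (8321, 9039), (8322, 7412), (8323, 9136), (8324, 9118), (8325, 8821), (8326, 7414), (8327, 9142), (8328, 9144), (8329, 9123), (8330, 9124), (8331, 8827), (8332, 8828), (8333, 7418), (8334, 9153), (8335, 8831), (8336, 8832), (8337, 9155), (8338, 8351), (8339, 8352), (8340, 8703), (8341, 9091), (8342, 7425), (8343, 9164), (8344, 8753), (8345, 9108), (8346, 8183), (8347, 8852), (8348, 7430), (8349, 9170), (8350, 9172), (8351, 8338), (8352, 8339), (8353, 8858), (8354, 8859), (8355, 7434), (8356, 9181), (8357, 7435), (8358, 8359), (8359, 8358), (8360, 9182), (8361, 8634), (8362, 8635), (8363, 8868), (8364, 8869), (8365, 9191), (8366, 7441), (8367, 8872), (8368, 8764), (8369, 8992), (8370, 7445), (8371, 7774), (8372, 7773), (8373, 9195), (8374, 8447), (8375, 8448), (8376, 8376), (8377, 8377), (8378, 9203), (8379, 7451), (8380, 8380), (8381, 7457), (8382,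 8383), (8383, 8382)]
    ⟨e3 q8320 (flp_e L163419) q8717, e3 q8321 (flp_e L166753) q9039, e3 q8322 (flp_e L159962) q7412, e3 q8323 (flp_e L167661) q9136, e3 q8324 (flp_e L167516) q9118, e3 q8325 (flp_e L164617) q8821, e3 q8326 L160001 q7414, e3 q8327 (flp_e L167714) q9142, e3 q8328 L167728 q9144, e3 q8329 (flp_e L167560) q9123, e3 q8330 (flp_e L167568) q9124, e3 q8331 (flp_e L164666) q8827, e3 q8332 (flp_e L164676) q8828, e3 q8333 L160049 q7418, e3 q8334 L167794 q9153, e3 q8335 (flp_e L164703) q8831, e3 q8336 (flp_e L164713) q8832, e3 q8337 L167806 q9155, e3 q8338 (flp_e L160195) q8351, e3 q8339 (flp_e L160207) q8352, e3 q8340 L163266 q8703, e3 q8341 (flp_e L167273) q9091, e3 q8342 L160121 q7425, e3 q8343 L167892 q9164, e3 q8344 (flp_e L163801) q8753, e3 q8345 (flp_e L167425) q9108, e3 q8346 L160155 q8183, e3 q8347 (flp_e L164935) q8852, e3 q8348 L160169 q7430, e3 q8349 (flp_e L167950) q9170, e3 q8350 L167962 q9172, e3 q8351 L160195 q8338, e3 q8352 L160207 q8339, e3 q8353 (flp_e L164984)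 q8858, e3 q8354 (flp_e L164996) q8859, e3 q8355 L160233 q7434, e3 q8356 L168048 q9181, e3 q8357 (flp_e L160245) q7435, e3 q8358 (flp_e L160261) q8359, e3 q8359 L160261 q8358, e3 q8360 (flp_e L168060) q9182, e3 q8361 (flp_e L162678) q8634, e3 q8362 (flp_e L162684) q8635, e3 q8363 (flp_e L165052) q8868, e3 q8364 (flp_e L165060) q8869, e3 q8365 L168110 q9191, e3 q8366 (flp_e L160297) q7441, e3 q8367 (flp_e L165074) q8872, e3 q8368 (flp_e L163941) q8764, e3 q8369 (flp_e L166347) q8992, e3 q8370 (flp_e L160317) q7445, e3 q8371 L160332 q7774, e3 q8372 L160342 q7773, e3 q8373 (flp_e L168133) q9195, e3 q8374 (flp_e L161025) q8447, e3 q8375 (flp_e L161033) q8448, e3 q8376 L160378 q8376, e3 q8377 L160391 q8377, e3 q8378 L168210 q9203, e3 q8379 (flp_e L160406) q7451, e3 q8380 L160424 q8380, e3 q8381 L160437 q7457, e3 q8382 (flp_e L160453) q8383, e3 q8383 L160453 q8382, trivial⟩ (by decide +kernel)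

theorem ce_e_131 : ∀ r, r < 64 → sm ge (Qf (8384 + r)) = Qf (tab Gen.e (8384 + r)) :=
  edges_tab (sm ge) Qf (tab Gen.e) 8384 [(8384, 9204), (8385, 8647), (8386, 9210), (8387, 7471), (8388, 8304), (8389, 9214), (8390, 7462), (8391, 8718), (8392, 8991), (8393, 7470), (8394, 8537), (8395, 7959), (8396, 7475), (8397, 9216), (8398, 8898), (8399, 7478), (8400, 8900), (8401, 8896), (8402, 8902), (8403, 8785), (8404, 8912), (8405, 7487), (8406, 8914), (8407, 8915), (8408, 8850), (8409, 8917), (8410, 9225), (8411, 8911), (8412, 9058), (8413, 7500), (8414, 8784), (8415, 9228), (8416, 8933), (8417, 8766), (8418, 8931), (8419, 7511), (8420, 8941), (8421, 7514), (8422, 9231), (8423, 8480), (8424, 7517), (8425, 7519), (8426, 7520), (8427, 9235), (8428, 7662), (8429, 7522), (8430, 9239), (8431, 7684), (8432, 7693), (8433, 7525), (8434, 8950), (8435, 8951), (8436, 9232), (8437, 9246), (8438, 8206), (8439, 8207), (8440, 8440), (8441, 8441), (8442, 7533), (8443, 7534), (8444, 8445), (8445, 8444), (8446,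 9255), (8447, 8374)]
    ⟨e3 q8384 (flp_e L168228) q9204, e3 q8385 (flp_e L162757) q8647, e3 q8386 L168272 q9210, e3 q8387 L160483 q7471, e3 q8388 L160497 q8304, e3 q8389 L168312 q9214, e3 q8390 (flp_e L160505) q7462, e3 q8391 (flp_e L163435) q8718, e3 q8392 (flp_e L166337) q8991, e3 q8393 L160533 q7470, e3 q8394 (flp_e L161908) q8537, e3 q8395 (flp_e L160565) q7959, e3 q8396 L160574 q7475, e3 q8397 (flp_e L168338) q9216, e3 q8398 (flp_e L165295) q8898, e3 q8399 L160599 q7478, e3 q8400 (flp_e L165319) q8900, e3 q8401 (flp_e L165270) q8896, e3 q8402 (flp_e L165347) q8902, e3 q8403 (flp_e L164201) q8785, e3 q8404 (flp_e L165478) q8912, e3 q8405 L160658 q7487, e3 q8406 (flp_e L165503) q8914, e3 q8407 (flp_e L165513) q8915, e3 q8408 (flp_e L164914) q8850, e3 q8409 (flp_e L165528) q8917, e3 q8410 L168410 q9225, e3 q8411 (flp_e L165465) q8911, e3 q8412 (flp_e L166961) q9058, e3 q8413 L160722 q7500, e3 q8414 (flp_e L164192) q8784, e3 q8415 (flp_e L168439) q9228, e3 q8416 (flp_e L165724) q8933,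 e3 q8417 (flp_e L163969) q8766, e3 q8418 L165700 q8931, e3 q8419 L160768 q7511, e3 q8420 (flp_e L165829) q8941, e3 q8421 L160790 q7514, e3 q8422 (flp_e L168476) q9231, e3 q8423 L161335 q8480, e3 q8424 L160815 q7517, e3 q8425 L160824 q7519, e3 q8426 (flp_e L160828) q7520, e3 q8427 (flp_e L168518) q9235, e3 q8428 L160854 q7662, e3 q8429 L160861 q7522, e3 q8430 (flp_e L168559) q9239, e3 q8431 L160879 q7684, e3 q8432 L160891 q7693, e3 q8433 L160900 q7525, e3 q8434 (flp_e L165920) q8950, e3 q8435 (flp_e L165929) q8951, e3 q8436 (flp_e L168487) q9232, e3 q8437 L168613 q9246, e3 q8438 L160935 q8206, e3 q8439 L160947 q8207, e3 q8440 L160958 q8440, e3 q8441 L160969 q8441, e3 q8442 L160979 q7533, e3 q8443 (flp_e L160984) q7534, e3 q8444 (flp_e L161005) q8445, e3 q8445 L161005 q8444, e3 q8446 (flp_e L168708) q9255, e3 q8447 L161025 q8374, trivial⟩ (by decide +kernel)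

theorem ce_e_132 : ∀ r, r < 64 → sm ge (Qf (8448 + r)) = Qf (tab Gen.e (8448 + r)) :=
  edges_tab (sm ge) Qf (tab Gen.e) 8448 [(8448, 8375), (8449, 8449), (8450, 8450), (8451, 9264), (8452, 7540), (8453, 7544), (8454, 8455), (8455, 8454), (8456, 9266), (8457, 8469), (8458, 9272), (8459, 8459), (8460, 8549), (8461, 9275), (8462, 7549), (8463, 8463), (8464, 8464), (8465, 7557), (8466, 7815), (8467, 7814), (8468, 9277), (8469, 8457), (8470, 9283), (8471, 8471), (8472, 9286), (8473, 8671), (8474, 7562), (8475, 8689), (8476, 8476), (8477, 7570), (8478, 8479), (8479, 8478), (8480, 8423), (8481, 9241), (8482, 8672), (8483, 7572), (8484, 8102), (8485, 8620), (8486, 8105), (8487, 8487), (8488, 8488), (8489, 8738), (8490, 8490), (8491, 9295), (8492, 8882), (8493, 7590), (8494, 8924), (8495, 8495), (8496, 8922), (8497, 7606), (8498, 8498), (8499, 7605), (8500, 9299), (8501, 9237), (8502, 8502), (8503, 7609), (8504, 7787), (8505, 7886), (8506, 8506), (8507, 7612), (8508, 7724), (8509, 7723), (8510,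 8510), (8511, 8225)]
    ⟨e3 q8448 L161033 q8375, e3 q8449 L161043 q8449, e3 q8450 L161054 q8450, e3 q8451 L168783 q9264, e3 q8452 (flp_e L161065) q7540, e3 q8453 L161080 q7544, e3 q8454 (flp_e L161099) q8455, e3 q8455 L161099 q8454, e3 q8456 (flp_e L168807) q9266, e3 q8457 (flp_e L161231) q8469, e3 q8458 L168863 q9272, e3 q8459 L161133 q8459, e3 q8460 (flp_e L162014) q8549, e3 q8461 L168885 q9275, e3 q8462 (flp_e L161153) q7549, e3 q8463 L161168 q8463, e3 q8464 L161173 q8464, e3 q8465 L161187 q7557, e3 q8466 L161200 q7815, e3 q8467 L161213 q7814, e3 q8468 (flp_e L168907) q9277, e3 q8469 L161231 q8457, e3 q8470 L168966 q9283, e3 q8471 L161249 q8471, e3 q8472 L169001 q9286, e3 q8473 (flp_e L162967) q8671, e3 q8474 (flp_e L161272) q7562, e3 q8475 L163107 q8689, e3 q8476 L161294 q8476, e3 q8477 L161306 q7570, e3 q8478 (flp_e L161318) q8479, e3 q8479 L161318 q8478, e3 q8480 (flp_e L161335) q8423, e3 q8481 (flp_e L168582) q9241, e3 q8482 (flp_e L162976) q8672, e3 q8483 (flp_e L161351) q7572,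 e3 q8484 L161367 q8102, e3 q8485 (flp_e L162588) q8620, e3 q8486 L161384 q8105, e3 q8487 L161394 q8487, e3 q8488 L161405 q8488, e3 q8489 (flp_e L163648) q8738, e3 q8490 L161422 q8490, e3 q8491 L169082 q9295, e3 q8492 (flp_e L165161) q8882, e3 q8493 (flp_e L161440) q7590, e3 q8494 (flp_e L165599) q8924, e3 q8495 L161462 q8495, e3 q8496 L165582 q8922, e3 q8497 L161485 q7606, e3 q8498 L161492 q8498, e3 q8499 L161502 q7605, e3 q8500 L169118 q9299, e3 q8501 (flp_e L168540) q9237, e3 q8502 L161533 q8502, e3 q8503 (flp_e L161538) q7609, e3 q8504 L161564 q7787, e3 q8505 L161580 q7886, e3 q8506 L161594 q8506, e3 q8507 (flp_e L161599) q7612, e3 q8508 L161623 q7724, e3 q8509 L161638 q7723, e3 q8510 L161651 q8510, e3 q8511 L161661 q8225, trivial⟩ (by decide +kernel)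

theorem ce_e_133 : ∀ r, r < 64 → sm ge (Qf (8512 + r)) = Qf (tab Gen.e (8512 + r)) :=
  edges_tab (sm ge) Qf (tab Gen.e) 8512 [(8512, 8512), (8513, 9234), (8514, 7628), (8515, 8152), (8516, 7623), (8517, 7630), (8518, 8297), (8519, 7635), (8520, 9308), (8521, 7644), (8522, 7645), (8523, 8523), (8524, 7639), (8525, 8525), (8526, 8526), (8527, 9306), (8528, 7643), (8529, 8026), (8530, 8025), (8531, 9317), (8532, 9311), (8533, 9312), (8534, 8534), (8535, 8038), (8536, 7786), (8537, 8394), (8538, 9238), (8539, 9119), (8540, 7958), (8541, 8267), (8542, 8616), (8543, 7665), (8544, 7830), (8545, 7672), (8546, 7678), (8547, 9323), (8548, 9326), (8549, 8460), (8550, 7682), (8551, 7829), (8552, 7828), (8553, 8556), (8554, 9240), (8555, 8106), (8556, 8553), (8557, 7686), (8558, 8619), (8559, 9329), (8560, 7696), (8561, 9333), (8562, 8016), (8563, 7698), (8564, 9336), (8565, 8845), (8566, 9331), (8567, 7701), (8568, 9340), (8569, 7703), (8570, 8191), (8571, 7705), (8572, 9345), (8573, 9347), (8574,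 8196), (8575, 8197)]
    ⟨e3 q8512 L161674 q8512, e3 q8513 (flp_e L168508) q9234, e3 q8514 L161695 q7628, e3 q8515 L161708 q8152, e3 q8516 (flp_e L161710) q7623, e3 q8517 L161729 q7630, e3 q8518 L161743 q8297, e3 q8519 L161757 q7635, e3 q8520 L169235 q9308, e3 q8521 L161776 q7644, e3 q8522 L161784 q7645, e3 q8523 L161791 q8523, e3 q8524 L161803 q7639, e3 q8525 L161814 q8525, e3 q8526 L161823 q8526, e3 q8527 (flp_e L169220) q9306, e3 q8528 (flp_e L161832) q7643, e3 q8529 (flp_e L161843) q8026, e3 q8530 L161852 q8025, e3 q8531 (flp_e L169316) q9317, e3 q8532 (flp_e L169274) q9311, e3 q8533 (flp_e L169279) q9312, e3 q8534 L161880 q8534, e3 q8535 L161888 q8038, e3 q8536 L161898 q7786, e3 q8537 L161908 q8394, e3 q8538 (flp_e L168551) q9238, e3 q8539 (flp_e L167526) q9119, e3 q8540 L161932 q7958, e3 q8541 L161936 q8267, e3 q8542 (flp_e L162560) q8616, e3 q8543 (flp_e L161952) q7665, e3 q8544 L161965 q7830, e3 q8545 L161980 q7672, e3 q8546 L161995 q7678, e3 q8547 (flp_e L169366) q9323, e3 q8548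 L169388 q9326, e3 q8549 L162014 q8460, e3 q8550 L162024 q7682, e3 q8551 L162039 q7829, e3 q8552 L162051 q7828, e3 q8553 L162093 q8556, e3 q8554 (flp_e L168571) q9240, e3 q8555 (flp_e L162082) q8106, e3 q8556 (flp_e L162093) q8553, e3 q8557 (flp_e L162095) q7686, e3 q8558 (flp_e L162579) q8619, e3 q8559 L169418 q9329, e3 q8560 (flp_e L162120) q7696, e3 q8561 (flp_e L169461) q9333, e3 q8562 L162144 q8016, e3 q8563 L162152 q7698, e3 q8564 (flp_e L169486) q9336, e3 q8565 (flp_e L164864) q8845, e3 q8566 (flp_e L169437) q9331, e3 q8567 L162178 q7701, e3 q8568 (flp_e L169518) q9340, e3 q8569 L162194 q7703, e3 q8570 L162203 q8191, e3 q8571 L162211 q7705, e3 q8572 (flp_e L169559) q9345, e3 q8573 L169567 q9347, e3 q8574 L162233 q8196, e3 q8575 L162243 q8197, trivial⟩ (by decide +kernel)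

theorem ce_e_134 : ∀ r, r < 64 → sm ge (Qf (8576 + r)) = Qf (tab Gen.e (8576 + r)) :=
  edges_tab (sm ge) Qf (tab Gen.e) 8576 [(8576, 8814), (8577, 7709), (8578, 9354), (8579, 8895), (8580, 8737), (8581, 7712), (8582, 9042), (8583, 9041), (8584, 9357), (8585, 8215), (8586, 8216), (8587, 7726), (8588, 7727), (8589, 9366), (8590, 7718), (8591, 7728), (8592, 8968), (8593, 8748), (8594, 7725), (8595, 9304), (8596, 9363), (8597, 8849), (8598, 9370), (8599, 8759), (8600, 7734), (8601, 9374), (8602, 9376), (8603, 7736), (8604, 8965), (8605, 8776), (8606, 8778), (8607, 9380), (8608, 7742), (8609, 8796), (8610, 7744), (8611, 8789), (8612, 8935), (8613, 7746), (8614, 8795), (8615, 7756), (8616, 8542), (8617, 7752), (8618, 9386), (8619, 8558), (8620, 8485), (8621, 7755), (8622, 9391), (8623, 9382), (8624, 9383), (8625, 8838), (8626, 7759), (8627, 9398), (8628, 8906), (8629, 8833), (8630, 7762), (8631, 9157), (8632, 9156), (8633, 9401), (8634, 8361), (8635, 8362), (8636, 8819), (8637, 9099), (8638,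 9410), (8639, 7768)]
    ⟨e3 q8576 (flp_e L164538) q8814, e3 q8577 L162259 q7709, e3 q8578 L169621 q9354, e3 q8579 (flp_e L165250) q8895, e3 q8580 (flp_e L163633) q8737, e3 q8581 (flp_e L162283) q7712, e3 q8582 (flp_e L166791) q9042, e3 q8583 (flp_e L166780) q9041, e3 q8584 (flp_e L169650) q9357, e3 q8585 L162322 q8215, e3 q8586 L162329 q8216, e3 q8587 L162338 q7726, e3 q8588 L162349 q7727, e3 q8589 L169723 q9366, e3 q8590 (flp_e L162360) q7718, e3 q8591 L162380 q7728, e3 q8592 (flp_e L166125) q8968, e3 q8593 (flp_e L163734) q8748, e3 q8594 L162406 q7725, e3 q8595 (flp_e L169192) q9304, e3 q8596 (flp_e L169701) q9363, e3 q8597 (flp_e L164902) q8849, e3 q8598 L169754 q9370, e3 q8599 (flp_e L163876) q8759, e3 q8600 L162463 q7734, e3 q8601 L169777 q9374, e3 q8602 L169790 q9376, e3 q8603 (flp_e L162476) q7736, e3 q8604 (flp_e L166096) q8965, e3 q8605 (flp_e L164089) q8776, e3 q8606 (flp_e L164116) q8778, e3 q8607 L169817 q9380, e3 q8608 (flp_e L162505) q7742, e3 q8609 (flp_e L164364) q8796,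 e3 q8610 (flp_e L162519) q7744, e3 q8611 (flp_e L164256) q8789, e3 q8612 (flp_e L165753) q8935, e3 q8613 (flp_e L162534) q7746, e3 q8614 (flp_e L164346) q8795, e3 q8615 L162550 q7756, e3 q8616 L162560 q8542, e3 q8617 L162566 q7752, e3 q8618 (flp_e L169875) q9386, e3 q8619 L162579 q8558, e3 q8620 L162588 q8485, e3 q8621 L162596 q7755, e3 q8622 L169911 q9391, e3 q8623 (flp_e L169838) q9382, e3 q8624 (flp_e L169847) q9383, e3 q8625 (flp_e L164781) q8838, e3 q8626 L162625 q7759, e3 q8627 L169958 q9398, e3 q8628 (flp_e L165396) q8906, e3 q8629 (flp_e L164725) q8833, e3 q8630 (flp_e L162648) q7762, e3 q8631 (flp_e L167836) q9157, e3 q8632 (flp_e L167824) q9156, e3 q8633 (flp_e L169980) q9401, e3 q8634 L162678 q8361, e3 q8635 L162684 q8362, e3 q8636 (flp_e L164591) q8819, e3 q8637 (flp_e L167345) q9099, e3 q8638 L170030 q9410, e3 q8639 (flp_e L162700) q7768, trivial⟩ (by decide +kernel)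

theorem ce_e_135 : ∀ r, r < 64 → sm ge (Qf (8640 + r)) = Qf (tab Gen.e (8640 + r)) :=
  edges_tab (sm ge) Qf (tab Gen.e) 8640 [(8640, 8897), (8641, 9414), (8642, 8874), (8643, 7775), (8644, 9197), (8645, 9196), (8646, 9416), (8647, 8385), (8648, 9422), (8649, 7789), (8650, 9425), (8651, 9427), (8652, 7780), (8653, 8969), (8654, 9430), (8655, 7783), (8656, 8894), (8657, 7788), (8658, 9303), (8659, 8686), (8660, 7790), (8661, 7928), (8662, 7792), (8663, 9063), (8664, 8972), (8665, 8794), (8666, 7797), (8667, 8921), (8668, 8780), (8669, 8926), (8670, 8937), (8671, 8473), (8672, 8482), (8673, 8952), (8674, 7816), (8675, 9279), (8676, 9278), (8677, 9443), (8678, 9445), (8679, 9447), (8680, 7818), (8681, 8682), (8682, 8681), (8683, 7820), (8684, 9450), (8685, 7821), (8686, 8659), (8687, 8687), (8688, 9230), (8689, 8475), (8690, 9452), (8691, 7843), (8692, 9456), (8693, 8160), (8694, 7845), (8695, 9459), (8696, 8130), (8697, 8140), (8698, 8184), (8699, 7848), (8700, 9464), (8701, 7850), (8702,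 9466), (8703, 8340)]
    ⟨e3 q8640 (flp_e L165279) q8897, e3 q8641 L170052 q9414, e3 q8642 (flp_e L165088) q8874, e3 q8643 L162728 q7775, e3 q8644 (flp_e L168155) q9197, e3 q8645 (flp_e L168143) q9196, e3 q8646 (flp_e L170068) q9416, e3 q8647 L162757 q8385, e3 q8648 L170105 q9422, e3 q8649 L162773 q7789, e3 q8650 L170127 q9425, e3 q8651 L170145 q9427, e3 q8652 (flp_e L162790) q7780, e3 q8653 (flp_e L166138) q8969, e3 q8654 L170162 q9430, e3 q8655 (flp_e L162809) q7783, e3 q8656 (flp_e L165239) q8894, e3 q8657 L162829 q7788, e3 q8658 (flp_e L169177) q9303, e3 q8659 (flp_e L163072) q8686, e3 q8660 (flp_e L162864) q7790, e3 q8661 L162881 q7928, e3 q8662 (flp_e L162893) q7792, e3 q8663 (flp_e L167013) q9063, e3 q8664 (flp_e L166168) q8972, e3 q8665 (flp_e L164338) q8794, e3 q8666 (flp_e L162933) q7797, e3 q8667 (flp_e L165568) q8921, e3 q8668 (flp_e L164143) q8780, e3 q8669 (flp_e L165619) q8926, e3 q8670 (flp_e L165773) q8937, e3 q8671 L162967 q8473, e3 q8672 L162976 q8482, e3 q8673 (flp_e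 L165938) q8952, e3 q8674 L162991 q7816, e3 q8675 (flp_e L168933) q9279, e3 q8676 (flp_e L168920) q9278, e3 q8677 L170265 q9443, e3 q8678 L170280 q9445, e3 q8679 L170294 q9447, e3 q8680 (flp_e L163025) q7818, e3 q8681 L163046 q8682, e3 q8682 (flp_e L163046) q8681, e3 q8683 (flp_e L163048) q7820, e3 q8684 L170318 q9450, e3 q8685 (flp_e L163063) q7821, e3 q8686 L163072 q8659, e3 q8687 L163085 q8687, e3 q8688 (flp_e L168467) q9230, e3 q8689 (flp_e L163107) q8475, e3 q8690 L170339 q9452, e3 q8691 (flp_e L163116) q7843, e3 q8692 (flp_e L170398) q9456, e3 q8693 L163144 q8160, e3 q8694 L163152 q7845, e3 q8695 (flp_e L170425) q9459, e3 q8696 L163169 q8130, e3 q8697 L163187 q8140, e3 q8698 (flp_e L163205) q8184, e3 q8699 (flp_e L163207) q7848, e3 q8700 (flp_e L170498) q9464, e3 q8701 L163236 q7850, e3 q8702 (flp_e L170520) q9466, e3 q8703 (flp_e L163266) q8340, trivial⟩ (by decide +kernel)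

theorem ce_e_136 : ∀ r, r < 64 → sm ge (Qf (8704 + r)) = Qf (tab Gen.e (8704 + r)) :=
  edges_tab (sm ge) Qf (tab Gen.e) 8704 [(8704, 7851), (8705, 9469), (8706, 9454), (8707, 8172), (8708, 7853), (8709, 9475), (8710, 8175), (8711, 7856), (8712, 8163), (8713, 7857), (8714, 9480), (8715, 7859), (8716, 9482), (8717, 8320), (8718, 8391), (8719, 7862), (8720, 9485), (8721, 7864), (8722, 7865), (8723, 9489), (8724, 8797), (8725, 8192), (8726, 7867), (8727, 9495), (8728, 9497), (8729, 7960), (8730, 8960), (8731, 8198), (8732, 8199), (8733, 7871), (8734, 9506), (8735, 8202), (8736, 8203), (8737, 8580), (8738, 8489), (8739, 7876), (8740, 9301), (8741, 9300), (8742, 9432), (8743, 7961), (8744, 8963), (8745, 7887), (8746, 9307), (8747, 9433), (8748, 8593), (8749, 8149), (8750, 8187), (8751, 8241), (8752, 7893), (8753, 8344), (8754, 7896), (8755, 9523), (8756, 7898), (8757, 9525), (8758, 8235), (8759, 8599), (8760, 8164), (8761, 8227), (8762, 7904), (8763, 8222), (8764, 8368), (8765, 8071), (8766,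 8417), (8767, 7910)]
    ⟨e3 q8704 (flp_e L163268) q7851, e3 q8705 (flp_e L170566) q9469, e3 q8706 (flp_e L170372) q9454, e3 q8707 L163305 q8172, e3 q8708 L163315 q7853, e3 q8709 (flp_e L170633) q9475, e3 q8710 L163334 q8175, e3 q8711 L163346 q7856, e3 q8712 (flp_e L163362) q8163, e3 q8713 (flp_e L163364) q7857, e3 q8714 (flp_e L170694) q9480, e3 q8715 L163395 q7859, e3 q8716 (flp_e L170716) q9482, e3 q8717 L163419 q8320, e3 q8718 L163435 q8391, e3 q8719 L163447 q7862, e3 q8720 (flp_e L170758) q9485, e3 q8721 L163467 q7864, e3 q8722 (flp_e L163473) q7865, e3 q8723 (flp_e L170810) q9489, e3 q8724 (flp_e L164373) q8797, e3 q8725 L163515 q8192, e3 q8726 L163525 q7867, e3 q8727 (flp_e L170882) q9495, e3 q8728 L170892 q9497, e3 q8729 L163551 q7960, e3 q8730 (flp_e L166036) q8960, e3 q8731 L163571 q8198, e3 q8732 L163583 q8199, e3 q8733 L163593 q7871, e3 q8734 L170982 q9506, e3 q8735 L163611 q8202, e3 q8736 L163623 q8203, e3 q8737 L163633 q8580, e3 q8738 L163648 q8489, e3 q8739 (flp_e L163650)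 q7876, e3 q8740 (flp_e L169151) q9301, e3 q8741 (flp_e L169139) q9300, e3 q8742 (flp_e L170182) q9432, e3 q8743 L163690 q7961, e3 q8744 (flp_e L166068) q8963, e3 q8745 L163706 q7887, e3 q8746 (flp_e L169233) q9307, e3 q8747 (flp_e L170195) q9433, e3 q8748 L163734 q8593, e3 q8749 L163743 q8149, e3 q8750 L163760 q8187, e3 q8751 L163772 q8241, e3 q8752 L163786 q7893, e3 q8753 L163801 q8344, e3 q8754 L163815 q7896, e3 q8755 (flp_e L171175) q9523, e3 q8756 L163835 q7898, e3 q8757 L171194 q9525, e3 q8758 L163862 q8235, e3 q8759 L163876 q8599, e3 q8760 L163887 q8164, e3 q8761 L163899 q8227, e3 q8762 L163915 q7904, e3 q8763 L163931 q8222, e3 q8764 L163941 q8368, e3 q8765 L163955 q8071, e3 q8766 L163969 q8417, e3 q8767 L163981 q7910, trivial⟩ (by decide +kernel)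

theorem ce_e_137 : ∀ r, r < 64 → sm ge (Qf (8768 + r)) = Qf (tab Gen.e (8768 + r)) :=
  edges_tab (sm ge) Qf (tab Gen.e) 8768 [(8768, 9532), (8769, 8244), (8770, 7913), (8771, 9536), (8772, 8247), (8773, 7916), (8774, 8250), (8775, 9537), (8776, 8605), (8777, 7921), (8778, 8606), (8779, 8035), (8780, 8668), (8781, 9542), (8782, 7929), (8783, 8082), (8784, 8414), (8785, 8403), (8786, 8266), (8787, 7937), (8788, 8303), (8789, 8611), (8790, 8093), (8791, 8251), (8792, 7953), (8793, 7947), (8794, 8665), (8795, 8614), (8796, 8609), (8797, 8724), (8798, 9211), (8799, 9492), (8800, 9501), (8801, 9514), (8802, 9549), (8803, 7962), (8804, 9552), (8805, 7979), (8806, 8313), (8807, 7964), (8808, 9558), (8809, 8316), (8810, 8317), (8811, 7967), (8812, 8131), (8813, 8141), (8814, 8576), (8815, 9472), (8816, 7973), (8817, 9566), (8818, 7975), (8819, 8636), (8820, 9551), (8821, 8325), (8822, 7978), (8823, 9574), (8824, 9576), (8825, 9463), (8826, 9555), (8827, 8331), (8828, 8332), (8829, 7982), (8830,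 9585), (8831, 8335)]
    ⟨e3 q8768 (flp_e L171302) q9532, e3 q8769 L164003 q8244, e3 q8770 L164013 q7913, e3 q8771 L171348 q9536, e3 q8772 L164033 q8247, e3 q8773 (flp_e L164043) q7916, e3 q8774 L164063 q8250, e3 q8775 L171362 q9537, e3 q8776 L164089 q8605, e3 q8777 (flp_e L164099) q7921, e3 q8778 L164116 q8606, e3 q8779 L164132 q8035, e3 q8780 L164143 q8668, e3 q8781 L171425 q9542, e3 q8782 (flp_e L164152) q7929, e3 q8783 L164177 q8082, e3 q8784 L164192 q8414, e3 q8785 L164201 q8403, e3 q8786 L164221 q8266, e3 q8787 (flp_e L164224) q7937, e3 q8788 L164251 q8303, e3 q8789 L164256 q8611, e3 q8790 L164281 q8093, e3 q8791 L164290 q8251, e3 q8792 L164310 q7953, e3 q8793 L164320 q7947, e3 q8794 L164338 q8665, e3 q8795 L164346 q8614, e3 q8796 L164364 q8609, e3 q8797 L164373 q8724, e3 q8798 (flp_e L168288) q9211, e3 q8799 (flp_e L170846) q9492, e3 q8800 (flp_e L170944) q9501, e3 q8801 (flp_e L171070) q9514, e3 q8802 L171513 q9549, e3 q8803 (flp_e L164433) q7962, e3 q8804 (flp_e L171563) q9552,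 e3 q8805 L164456 q7979, e3 q8806 L164466 q8313, e3 q8807 L164472 q7964, e3 q8808 (flp_e L171621) q9558, e3 q8809 L164485 q8316, e3 q8810 L164494 q8317, e3 q8811 L164502 q7967, e3 q8812 L164510 q8131, e3 q8813 L164520 q8141, e3 q8814 L164538 q8576, e3 q8815 (flp_e L170600) q9472, e3 q8816 L164559 q7973, e3 q8817 (flp_e L171704) q9566, e3 q8818 L164577 q7975, e3 q8819 L164591 q8636, e3 q8820 (flp_e L171553) q9551, e3 q8821 L164617 q8325, e3 q8822 L164629 q7978, e3 q8823 (flp_e L171807) q9574, e3 q8824 L171821 q9576, e3 q8825 (flp_e L170486) q9463, e3 q8826 (flp_e L171593) q9555, e3 q8827 L164666 q8331, e3 q8828 L164676 q8332, e3 q8829 L164684 q7982, e3 q8830 L171893 q9585, e3 q8831 L164703 q8335, trivial⟩ (by decide +kernel)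

theorem ce_e_138 : ∀ r, r < 64 → sm ge (Qf (8832 + r)) = Qf (tab Gen.e (8832 + r)) :=
  edges_tab (sm ge) Qf (tab Gen.e) 8832 [(8832, 8336), (8833, 8629), (8834, 8839), (8835, 7987), (8836, 9590), (8837, 7989), (8838, 8625), (8839, 8834), (8840, 7992), (8841, 9595), (8842, 9332), (8843, 8953), (8844, 8168), (8845, 8565), (8846, 7996), (8847, 9603), (8848, 8230), (8849, 8597), (8850, 8408), (8851, 9004), (8852, 8347), (8853, 8001), (8854, 9611), (8855, 9613), (8856, 9089), (8857, 9090), (8858, 8353), (8859, 8354), (8860, 8005), (8861, 9622), (8862, 8006), (8863, 9146), (8864, 9145), (8865, 9623), (8866, 9097), (8867, 9098), (8868, 8363), (8869, 8364), (8870, 9632), (8871, 8012), (8872, 8367), (8873, 9531), (8874, 8642), (8875, 9309), (8876, 9335), (8877, 8954), (8878, 8878), (8879, 8879), (8880, 9298), (8881, 9642), (8882, 8492), (8883, 8027), (8884, 9319), (8885, 9318), (8886, 9644), (8887, 9106), (8888, 9650), (8889, 8039), (8890, 9364), (8891, 9654), (8892, 8032), (8893, 9540), (8894,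 8656), (8895, 8579)]
    ⟨e3 q8832 L164713 q8336, e3 q8833 L164725 q8629, e3 q8834 (flp_e L164798) q8839, e3 q8835 L164745 q7987, e3 q8836 (flp_e L171946) q9590, e3 q8837 L164765 q7989, e3 q8838 L164781 q8625, e3 q8839 L164798 q8834, e3 q8840 L164808 q7992, e3 q8841 (flp_e L172014) q9595, e3 q8842 (flp_e L169453) q9332, e3 q8843 (flp_e L165949) q8953, e3 q8844 L164850 q8168, e3 q8845 L164864 q8565, e3 q8846 L164872 q7996, e3 q8847 L172096 q9603, e3 q8848 L164890 q8230, e3 q8849 L164902 q8597, e3 q8850 L164914 q8408, e3 q8851 (flp_e L166460) q9004, e3 q8852 L164935 q8347, e3 q8853 L164945 q8001, e3 q8854 (flp_e L172193) q9611, e3 q8855 L172205 q9613, e3 q8856 (flp_e L167250) q9089, e3 q8857 (flp_e L167265) q9090, e3 q8858 L164984 q8353, e3 q8859 L164996 q8354, e3 q8860 L165006 q8005, e3 q8861 L172285 q9622, e3 q8862 (flp_e L165014) q8006, e3 q8863 (flp_e L167750) q9146, e3 q8864 (flp_e L167742) q9145, e3 q8865 (flp_e L172295) q9623, e3 q8866 (flp_e L167331) q9097, e3 q8867 (flp_e L167339)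 q9098, e3 q8868 L165052 q8363, e3 q8869 L165060 q8364, e3 q8870 L172343 q9632, e3 q8871 (flp_e L165066) q8012, e3 q8872 L165074 q8367, e3 q8873 (flp_e L171292) q9531, e3 q8874 L165088 q8642, e3 q8875 (flp_e L169252) q9309, e3 q8876 (flp_e L169477) q9335, e3 q8877 (flp_e L165960) q8954, e3 q8878 L165122 q8878, e3 q8879 L165136 q8879, e3 q8880 (flp_e L169116) q9298, e3 q8881 L172418 q9642, e3 q8882 L165161 q8492, e3 q8883 L165171 q8027, e3 q8884 (flp_e L169334) q9319, e3 q8885 (flp_e L169325) q9318, e3 q8886 (flp_e L172442) q9644, e3 q8887 (flp_e L167400) q9106, e3 q8888 L172473 q9650, e3 q8889 L165208 q8039, e3 q8890 (flp_e L169714) q9364, e3 q8891 L172501 q9654, e3 q8892 (flp_e L165226) q8032, e3 q8893 (flp_e L171405) q9540, e3 q8894 L165239 q8656, e3 q8895 L165250 q8579, trivial⟩ (by decide +kernel)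

theorem ce_e_139 : ∀ r, r < 64 → sm ge (Qf (8896 + r)) = Qf (tab Gen.e (8896 + r)) :=
  edges_tab (sm ge) Qf (tab Gen.e) 8896 [(8896, 8401), (8897, 8640), (8898, 8398), (8899, 8047), (8900, 8400), (8901, 8142), (8902, 8402), (8903, 9520), (8904, 8248), (8905, 8069), (8906, 8628), (8907, 8056), (8908, 8302), (8909, 8258), (8910, 9665), (8911, 8411), (8912, 8404), (8913, 8063), (8914, 8406), (8915, 8407), (8916, 9592), (8917, 8409), (8918, 9674), (8919, 8234), (8920, 8264), (8921, 8667), (8922, 8496), (8923, 8073), (8924, 8494), (8925, 8254), (8926, 8669), (8927, 8261), (8928, 8259), (8929, 8265), (8930, 8257), (8931, 8418), (8932, 8088), (8933, 8416), (8934, 9529), (8935, 8612), (8936, 8095), (8937, 8670), (8938, 9289), (8939, 8103), (8940, 9215), (8941, 8420), (8942, 9288), (8943, 9284), (8944, 8108), (8945, 8109), (8946, 9682), (8947, 8111), (8948, 9684), (8949, 8113), (8950, 8434), (8951, 8435), (8952, 8673), (8953, 8843), (8954, 8877), (8955, 8274), (8956, 8272), (8957, 8273), (8958,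 9460), (8959, 9563)]
    ⟨e3 q8896 L165270 q8401, e3 q8897 L165279 q8640, e3 q8898 L165295 q8398, e3 q8899 L165307 q8047, e3 q8900 L165319 q8400, e3 q8901 L165335 q8142, e3 q8902 L165347 q8402, e3 q8903 (flp_e L171137) q9520, e3 q8904 L165368 q8248, e3 q8905 L165387 q8069, e3 q8906 L165396 q8628, e3 q8907 L165412 q8056, e3 q8908 L165430 q8302, e3 q8909 L165439 q8258, e3 q8910 L172643 q9665, e3 q8911 L165465 q8411, e3 q8912 L165478 q8404, e3 q8913 L165490 q8063, e3 q8914 L165503 q8406, e3 q8915 L165513 q8407, e3 q8916 (flp_e L171974) q9592, e3 q8917 L165528 q8409, e3 q8918 L172746 q9674, e3 q8919 L165547 q8234, e3 q8920 L165558 q8264, e3 q8921 L165568 q8667, e3 q8922 (flp_e L165582) q8496, e3 q8923 (flp_e L165584) q8073, e3 q8924 L165599 q8494, e3 q8925 L165607 q8254, e3 q8926 L165619 q8669, e3 q8927 L165628 q8261, e3 q8928 L165643 q8259, e3 q8929 L165660 q8265, e3 q8930 L165673 q8257, e3 q8931 (flp_e L165700) q8418, e3 q8932 (flp_e L165702) q8088, e3 q8933 L165724 q8416, e3 q8934 (flp_e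 L171267) q9529, e3 q8935 L165753 q8612, e3 q8936 (flp_e L165756) q8095, e3 q8937 L165773 q8670, e3 q8938 (flp_e L169037) q9289, e3 q8939 (flp_e L165790) q8103, e3 q8940 (flp_e L168330) q9215, e3 q8941 L165829 q8420, e3 q8942 (flp_e L169024) q9288, e3 q8943 L168988 q9284, e3 q8944 L165857 q8108, e3 q8945 (flp_e L165861) q8109, e3 q8946 (flp_e L172840) q9682, e3 q8947 L165891 q8111, e3 q8948 (flp_e L172859) q9684, e3 q8949 L165906 q8113, e3 q8950 L165920 q8434, e3 q8951 L165929 q8435, e3 q8952 L165938 q8673, e3 q8953 L165949 q8843, e3 q8954 L165960 q8877, e3 q8955 L165976 q8274, e3 q8956 L165992 q8272, e3 q8957 L166002 q8273, e3 q8958 (flp_e L170439) q9460, e3 q8959 (flp_e L171663) q9563, trivial⟩ (by decide +kernel)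

theorem ce_e_140 : ∀ r, r < 64 → sm ge (Qf (8960 + r)) = Qf (tab Gen.e (8960 + r)) :=
  edges_tab (sm ge) Qf (tab Gen.e) 8960 [(8960, 8730), (8961, 8134), (8962, 9696), (8963, 8744), (8964, 8298), (8965, 8604), (8966, 9461), (8967, 9659), (8968, 8592), (8969, 8653), (8970, 9702), (8971, 8146), (8972, 8664), (8973, 9132), (8974, 9054), (8975, 9381), (8976, 8154), (8977, 9706), (8978, 8156), (8979, 9708), (8980, 9709), (8981, 8157), (8982, 9712), (8983, 8171), (8984, 9455), (8985, 8159), (8986, 9717), (8987, 9458), (8988, 8162), (8989, 9479), (8990, 9528), (8991, 8392), (8992, 8369), (8993, 9600), (8994, 9384), (8995, 8170), (8996, 9726), (8997, 9728), (8998, 9714), (8999, 9715), (9000, 9474), (9001, 8174), (9002, 9735), (9003, 9477), (9004, 8851), (9005, 8178), (9006, 9737), (9007, 8180), (9008, 9018), (9009, 8182), (9010, 9741), (9011, 9571), (9012, 9167), (9013, 9168), (9014, 9462), (9015, 8186), (9016, 9748), (9017, 9519), (9018, 9008), (9019, 8190), (9020, 9751), (9021, 9753), (9022,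 9343), (9023, 9344)]
    ⟨e3 q8960 L166036 q8730, e3 q8961 L166046 q8134, e3 q8962 L172994 q9696, e3 q8963 L166068 q8744, e3 q8964 L166080 q8298, e3 q8965 L166096 q8604, e3 q8966 (flp_e L170451) q9461, e3 q8967 (flp_e L172569) q9659, e3 q8968 L166125 q8592, e3 q8969 L166138 q8653, e3 q8970 L173064 q9702, e3 q8971 (flp_e L166149) q8146, e3 q8972 L166168 q8664, e3 q8973 (flp_e L167626) q9132, e3 q8974 (flp_e L166918) q9054, e3 q8975 L169833 q9381, e3 q8976 (flp_e L166200) q8154, e3 q8977 (flp_e L173115) q9706, e3 q8978 L166227 q8156, e3 q8979 (flp_e L173132) q9708, e3 q8980 L173138 q9709, e3 q8981 (flp_e L166251) q8157, e3 q8982 (flp_e L173178) q9712, e3 q8983 L166271 q8171, e3 q8984 (flp_e L170390) q9455, e3 q8985 L166285 q8159, e3 q8986 (flp_e L173227) q9717, e3 q8987 (flp_e L170416) q9458, e3 q8988 L166307 q8162, e3 q8989 (flp_e L170680) q9479, e3 q8990 (flp_e L171245) q9528, e3 q8991 L166337 q8392, e3 q8992 L166347 q8369, e3 q8993 (flp_e L172072) q9600, e3 q8994 (flp_e L169857) q9384,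 e3 q8995 L166377 q8170, e3 q8996 (flp_e L173315) q9726, e3 q8997 L173327 q9728, e3 q8998 (flp_e L173193) q9714, e3 q8999 (flp_e L173209) q9715, e3 q9000 (flp_e L170621) q9474, e3 q9001 L166431 q8174, e3 q9002 L173403 q9735, e3 q9003 (flp_e L170653) q9477, e3 q9004 L166460 q8851, e3 q9005 L166468 q8178, e3 q9006 (flp_e L173424) q9737, e3 q9007 L166484 q8180, e3 q9008 (flp_e L166592) q9018, e3 q9009 L166503 q8182, e3 q9010 (flp_e L173464) q9741, e3 q9011 (flp_e L171767) q9571, e3 q9012 (flp_e L167920) q9167, e3 q9013 (flp_e L167932) q9168, e3 q9014 (flp_e L170469) q9462, e3 q9015 L166559 q8186, e3 q9016 L173526 q9748, e3 q9017 (flp_e L171117) q9519, e3 q9018 L166592 q9008, e3 q9019 L166602 q8190, e3 q9020 (flp_e L173566) q9751, e3 q9021 L173580 q9753, e3 q9022 (flp_e L169542) q9343, e3 q9023 (flp_e L169551) q9344, trivial⟩ (by decide +kernel)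

theorem ce_e_141 : ∀ r, r < 64 → sm ge (Qf (9024 + r)) = Qf (tab Gen.e (9024 + r)) :=
  edges_tab (sm ge) Qf (tab Gen.e) 9024 [(9024, 9494), (9025, 8194), (9026, 9761), (9027, 8195), (9028, 9029), (9029, 9028), (9030, 9762), (9031, 9350), (9032, 9351), (9033, 9503), (9034, 9504), (9035, 9771), (9036, 8201), (9037, 9507), (9038, 9530), (9039, 8321), (9040, 8205), (9041, 8583), (9042, 8582), (9043, 9774), (9044, 9250), (9045, 9251), (9046, 9046), (9047, 8214), (9048, 9049), (9049, 9048), (9050, 9779), (9051, 9361), (9052, 9785), (9053, 8226), (9054, 8974), (9055, 9788), (9056, 8219), (9057, 9483), (9058, 8412), (9059, 9663), (9060, 9604), (9061, 8232), (9062, 9675), (9063, 8663), (9064, 8238), (9065, 9794), (9066, 9657), (9067, 8240), (9068, 8243), (9069, 9676), (9070, 9534), (9071, 9661), (9072, 9799), (9073, 8246), (9074, 9543), (9075, 9800), (9076, 8252), (9077, 9655), (9078, 8255), (9079, 9660), (9080, 9673), (9081, 9212), (9082, 8269), (9083, 9803), (9084, 8271), (9085, 9690), (9086,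 9807), (9087, 9808)]
    ⟨e3 q9024 (flp_e L170870) q9494, e3 q9025 L166649 q8194, e3 q9026 L173643 q9761, e3 q9027 (flp_e L166655) q8195, e3 q9028 (flp_e L166677) q9029, e3 q9029 L166677 q9028, e3 q9030 (flp_e L173653) q9762, e3 q9031 (flp_e L169599) q9350, e3 q9032 (flp_e L169607) q9351, e3 q9033 (flp_e L170962) q9503, e3 q9034 (flp_e L170974) q9504, e3 q9035 L173725 q9771, e3 q9036 (flp_e L166725) q8201, e3 q9037 (flp_e L170994) q9507, e3 q9038 (flp_e L171276) q9530, e3 q9039 L166753 q8321, e3 q9040 (flp_e L166763) q8205, e3 q9041 L166780 q8583, e3 q9042 L166791 q8582, e3 q9043 (flp_e L173753) q9774, e3 q9044 (flp_e L168659) q9250, e3 q9045 (flp_e L168668) q9251, e3 q9046 L166833 q9046, e3 q9047 L166847 q8214, e3 q9048 (flp_e L166865) q9049, e3 q9049 L166865 q9048, e3 q9050 (flp_e L173808) q9779, e3 q9051 (flp_e L169683) q9361, e3 q9052 L173864 q9785, e3 q9053 L166901 q8226, e3 q9054 L166918 q8974, e3 q9055 L173902 q9788, e3 q9056 (flp_e L166932) q8219, e3 q9057 (flp_e L170734) q9483,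 e3 q9058 L166961 q8412, e3 q9059 (flp_e L172616) q9663, e3 q9060 (flp_e L172108) q9604, e3 q9061 L166992 q8232, e3 q9062 (flp_e L172765) q9675, e3 q9063 L167013 q8663, e3 q9064 L167022 q8238, e3 q9065 L173964 q9794, e3 q9066 (flp_e L172534) q9657, e3 q9067 (flp_e L167049) q8240, e3 q9068 L167067 q8243, e3 q9069 (flp_e L172772) q9676, e3 q9070 (flp_e L171330) q9534, e3 q9071 (flp_e L172592) q9661, e3 q9072 L174011 q9799, e3 q9073 (flp_e L167098) q8246, e3 q9074 (flp_e L171450) q9543, e3 q9075 L174017 q9800, e3 q9076 (flp_e L167122) q8252, e3 q9077 (flp_e L172510) q9655, e3 q9078 (flp_e L167143) q8255, e3 q9079 (flp_e L172577) q9660, e3 q9080 L172744 q9673, e3 q9081 (flp_e L168292) q9212, e3 q9082 L167184 q8269, e3 q9083 (flp_e L174050) q9803, e3 q9084 L167202 q8271, e3 q9085 (flp_e L172936) q9690, e3 q9086 L174088 q9807, e3 q9087 L174094 q9808, trivial⟩ (by decide +kernel)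

theorem ce_e_142 : ∀ r, r < 64 → sm ge (Qf (9088 + r)) = Qf (tab Gen.e (9088 + r)) :=
  edges_tab (sm ge) Qf (tab Gen.e) 9088 [(9088, 9608), (9089, 8856), (9090, 8857), (9091, 8341), (9092, 8278), (9093, 9814), (9094, 8279), (9095, 9488), (9096, 9815), (9097, 8866), (9098, 8867), (9099, 8637), (9100, 9821), (9101, 8284), (9102, 8287), (9103, 8288), (9104, 9786), (9105, 9823), (9106, 8887), (9107, 8296), (9108, 8345), (9109, 9662), (9110, 9526), (9111, 9207), (9112, 8319), (9113, 8306), (9114, 9828), (9115, 8308), (9116, 8309), (9117, 9832), (9118, 8324), (9119, 8539), (9120, 8311), (9121, 9838), (9122, 9840), (9123, 8329), (9124, 8330), (9125, 9556), (9126, 9557), (9127, 8315), (9128, 9848), (9129, 9560), (9130, 9561), (9131, 9805), (9132, 8973), (9133, 9827), (9134, 9853), (9135, 9831), (9136, 8323), (9137, 9856), (9138, 9858), (9139, 9835), (9140, 9836), (9141, 9573), (9142, 8327), (9143, 9865), (9144, 8328), (9145, 8864), (9146, 8863), (9147, 9866), (9148, 9843), (9149, 9844), (9150,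 9582), (9151, 9583)]
    ⟨e3 q9088 (flp_e L172158) q9608, e3 q9089 L167250 q8856, e3 q9090 L167265 q8857, e3 q9091 L167273 q8341, e3 q9092 L167283 q8278, e3 q9093 L174147 q9814, e3 q9094 (flp_e L167293) q8279, e3 q9095 (flp_e L170798) q9488, e3 q9096 (flp_e L174159) q9815, e3 q9097 L167331 q8866, e3 q9098 L167339 q8867, e3 q9099 L167345 q8637, e3 q9100 L174203 q9821, e3 q9101 (flp_e L167351) q8284, e3 q9102 L167362 q8287, e3 q9103 L167375 q8288, e3 q9104 (flp_e L173886) q9786, e3 q9105 (flp_e L174218) q9823, e3 q9106 L167400 q8887, e3 q9107 L167413 q8296, e3 q9108 L167425 q8345, e3 q9109 (flp_e L172609) q9662, e3 q9110 (flp_e L171221) q9526, e3 q9111 L168258 q9207, e3 q9112 L167461 q8319, e3 q9113 L167469 q8306, e3 q9114 (flp_e L174267) q9828, e3 q9115 L167485 q8308, e3 q9116 (flp_e L167489) q8309, e3 q9117 (flp_e L174308) q9832, e3 q9118 L167516 q8324, e3 q9119 L167526 q8539, e3 q9120 L167534 q8311, e3 q9121 (flp_e L174375) q9838, e3 q9122 L174391 q9840, e3 q9123 L167560 q8329, e3 q9124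 L167568 q8330, e3 q9125 (flp_e L171603) q9556, e3 q9126 (flp_e L171613) q9557, e3 q9127 L167590 q8315, e3 q9128 L174463 q9848, e3 q9129 (flp_e L171636) q9560, e3 q9130 (flp_e L171644) q9561, e3 q9131 (flp_e L174076) q9805, e3 q9132 L167626 q8973, e3 q9133 (flp_e L174255) q9827, e3 q9134 L174497 q9853, e3 q9135 (flp_e L174300) q9831, e3 q9136 L167661 q8323, e3 q9137 (flp_e L174533) q9856, e3 q9138 L174547 q9858, e3 q9139 (flp_e L174340) q9835, e3 q9140 (flp_e L174355) q9836, e3 q9141 (flp_e L171793) q9573, e3 q9142 L167714 q8327, e3 q9143 L174616 q9865, e3 q9144 (flp_e L167728) q8328, e3 q9145 L167742 q8864, e3 q9146 L167750 q8863, e3 q9147 (flp_e L174628) q9866, e3 q9148 (flp_e L174435) q9843, e3 q9149 (flp_e L174441) q9844, e3 q9150 (flp_e L171873) q9582, e3 q9151 (flp_e L171883) q9583, trivial⟩ (by decide +kernel)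

theorem ce_e_143 : ∀ r, r < 64 → sm ge (Qf (9152 + r)) = Qf (tab Gen.e (9152 + r)) :=
  edges_tab (sm ge) Qf (tab Gen.e) 9152 [(9152, 9874), (9153, 8334), (9154, 9586), (9155, 8337), (9156, 8632), (9157, 8631), (9158, 9876), (9159, 9176), (9160, 9177), (9161, 9467), (9162, 9812), (9163, 9884), (9164, 8343), (9165, 9522), (9166, 9886), (9167, 9012), (9168, 9013), (9169, 9610), (9170, 8349), (9171, 9893), (9172, 8350), (9173, 9174), (9174, 9173), (9175, 9894), (9176, 9159), (9177, 9160), (9178, 9619), (9179, 9620), (9180, 9903), (9181, 8356), (9182, 8360), (9183, 9184), (9184, 9183), (9185, 9905), (9186, 9405), (9187, 9911), (9188, 9629), (9189, 9914), (9190, 9916), (9191, 8365), (9192, 9633), (9193, 9484), (9194, 9722), (9195, 8373), (9196, 8645), (9197, 8644), (9198, 9919), (9199, 9259), (9200, 9924), (9201, 9201), (9202, 9926), (9203, 8378), (9204, 8384), (9205, 9206), (9206, 9205), (9207, 9111), (9208, 9931), (9209, 9933), (9210, 8386), (9211, 8798), (9212, 9081), (9213, 9385), (9214,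 8389), (9215, 8940)]
    ⟨e3 q9152 L174684 q9874, e3 q9153 (flp_e L167794) q8334, e3 q9154 (flp_e L171905) q9586, e3 q9155 (flp_e L167806) q8337, e3 q9156 L167824 q8632, e3 q9157 L167836 q8631, e3 q9158 (flp_e L174700) q9876, e3 q9159 (flp_e L168010) q9176, e3 q9160 (flp_e L168020) q9177, e3 q9161 (flp_e L170536) q9467, e3 q9162 (flp_e L174139) q9812, e3 q9163 L174772 q9884, e3 q9164 (flp_e L167892) q8343, e3 q9165 (flp_e L171161) q9522, e3 q9166 L174784 q9886, e3 q9167 L167920 q9012, e3 q9168 L167932 q9013, e3 q9169 (flp_e L172181) q9610, e3 q9170 L167950 q8349, e3 q9171 L174858 q9893, e3 q9172 (flp_e L167962) q8350, e3 q9173 (flp_e L167988) q9174, e3 q9174 L167988 q9173, e3 q9175 (flp_e L174872) q9894, e3 q9176 L168010 q9159, e3 q9177 L168020 q9160, e3 q9178 (flp_e L172265) q9619, e3 q9179 (flp_e L172277) q9620, e3 q9180 L174950 q9903, e3 q9181 (flp_e L168048) q8356, e3 q9182 L168060 q8360, e3 q9183 (flp_e L168074) q9184, e3 q9184 L168074 q9183, e3 q9185 (flp_e L174968) q9905, e3 q9186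 (flp_e L170008) q9405, e3 q9187 L175006 q9911, e3 q9188 (flp_e L172331) q9629, e3 q9189 L175020 q9914, e3 q9190 L175026 q9916, e3 q9191 (flp_e L168110) q8365, e3 q9192 (flp_e L172351) q9633, e3 q9193 (flp_e L170746) q9484, e3 q9194 (flp_e L173271) q9722, e3 q9195 L168133 q8373, e3 q9196 L168143 q8645, e3 q9197 L168155 q8644, e3 q9198 (flp_e L175040) q9919, e3 q9199 (flp_e L168743) q9259, e3 q9200 L175092 q9924, e3 q9201 L168193 q9201, e3 q9202 L175118 q9926, e3 q9203 (flp_e L168210) q8378, e3 q9204 L168228 q8384, e3 q9205 (flp_e L168242) q9206, e3 q9206 L168242 q9205, e3 q9207 (flp_e L168258) q9111, e3 q9208 L175171 q9931, e3 q9209 L175189 q9933, e3 q9210 (flp_e L168272) q8386, e3 q9211 L168288 q8798, e3 q9212 L168292 q9081, e3 q9213 (flp_e L169867) q9385, e3 q9214 (flp_e L168312) q8389, e3 q9215 L168330 q8940, trivial⟩ (by decide +kernel)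

theorem ce_e_144 : ∀ r, r < 64 → sm ge (Qf (9216 + r)) = Qf (tab Gen.e (9216 + r)) :=
  edges_tab (sm ge) Qf (tab Gen.e) 9216 [(9216, 8397), (9217, 9658), (9218, 9568), (9219, 9938), (9220, 9667), (9221, 9487), (9222, 9669), (9223, 9942), (9224, 9606), (9225, 8410), (9226, 9666), (9227, 9521), (9228, 8415), (9229, 9664), (9230, 8688), (9231, 8422), (9232, 8436), (9233, 9945), (9234, 8513), (9235, 8427), (9236, 9948), (9237, 8501), (9238, 8538), (9239, 8430), (9240, 8554), (9241, 8481), (9242, 9681), (9243, 9685), (9244, 9955), (9245, 9269), (9246, 8437), (9247, 9248), (9248, 9247), (9249, 9957), (9250, 9044), (9251, 9045), (9252, 9252), (9253, 9253), (9254, 9314), (9255, 8446), (9256, 9257), (9257, 9256), (9258, 9966), (9259, 9199), (9260, 9972), (9261, 9261), (9262, 9327), (9263, 9976), (9264, 8451), (9265, 9265), (9266, 8456), (9267, 9268), (9268, 9267), (9269, 9245), (9270, 9980), (9271, 9982), (9272, 8458), (9273, 9324), (9274, 9983), (9275, 8461), (9276, 9325), (9277, 8468), (9278,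 8676), (9279, 8675)]
    ⟨e3 q9216 L168338 q8397, e3 q9217 (flp_e L172551) q9658, e3 q9218 (flp_e L171730) q9568, e3 q9219 L175236 q9938, e3 q9220 (flp_e L172673) q9667, e3 q9221 (flp_e L170782) q9487, e3 q9222 (flp_e L172698) q9669, e3 q9223 L175275 q9942, e3 q9224 (flp_e L172134) q9606, e3 q9225 (flp_e L168410) q8410, e3 q9226 (flp_e L172661) q9666, e3 q9227 (flp_e L171152) q9521, e3 q9228 L168439 q8415, e3 q9229 L172641 q9664, e3 q9230 L168467 q8688, e3 q9231 L168476 q8422, e3 q9232 L168487 q8436, e3 q9233 (flp_e L175315) q9945, e3 q9234 L168508 q8513, e3 q9235 L168518 q8427, e3 q9236 (flp_e L175347) q9948, e3 q9237 L168540 q8501, e3 q9238 L168551 q8538, e3 q9239 L168559 q8430, e3 q9240 L168571 q8554, e3 q9241 L168582 q8481, e3 q9242 (flp_e L172830) q9681, e3 q9243 (flp_e L172872) q9685, e3 q9244 L175416 q9955, e3 q9245 L168842 q9269, e3 q9246 (flp_e L168613) q8437, e3 q9247 (flp_e L168637) q9248, e3 q9248 L168637 q9247, e3 q9249 (flp_e L175435) q9957, e3 q9250 L168659 q9044, e3 q9251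 L168668 q9045, e3 q9252 L168679 q9252, e3 q9253 L168691 q9253, e3 q9254 (flp_e L169300) q9314, e3 q9255 L168708 q8446, e3 q9256 (flp_e L168727) q9257, e3 q9257 L168727 q9256, e3 q9258 (flp_e L175523) q9966, e3 q9259 L168743 q9199, e3 q9260 L175574 q9972, e3 q9261 L168763 q9261, e3 q9262 (flp_e L169402) q9327, e3 q9263 L175609 q9976, e3 q9264 (flp_e L168783) q8451, e3 q9265 L168799 q9265, e3 q9266 L168807 q8456, e3 q9267 (flp_e L168825) q9268, e3 q9268 L168825 q9267, e3 q9269 (flp_e L168842) q9245, e3 q9270 L175650 q9980, e3 q9271 L175670 q9982, e3 q9272 (flp_e L168863) q8458, e3 q9273 (flp_e L169371) q9324, e3 q9274 L175681 q9983, e3 q9275 (flp_e L168885) q8461, e3 q9276 L169386 q9325, e3 q9277 L168907 q8468, e3 q9278 L168920 q8676, e3 q9279 L168933 q8675, trivial⟩ (by decide +kernel)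

theorem ce_e_145 : ∀ r, r < 64 → sm ge (Qf (9280 + r)) = Qf (tab Gen.e (9280 + r)) :=
  edges_tab (sm ge) Qf (tab Gen.e) 9280 [(9280, 9988), (9281, 9951), (9282, 9436), (9283, 8470), (9284, 8943), (9285, 9328), (9286, 8472), (9287, 9388), (9288, 8942), (9289, 8938), (9290, 9389), (9291, 9291), (9292, 9678), (9293, 9510), (9294, 9991), (9295, 8491), (9296, 9643), (9297, 9297), (9298, 8880), (9299, 8500), (9300, 8741), (9301, 8740), (9302, 9949), (9303, 8658), (9304, 8595), (9305, 9947), (9306, 8527), (9307, 8746), (9308, 8520), (9309, 8875), (9310, 9997), (9311, 8532), (9312, 8533), (9313, 9313), (9314, 9254), (9315, 10005), (9316, 9995), (9317, 8531), (9318, 8885), (9319, 8884), (9320, 10007), (9321, 10000), (9322, 9837), (9323, 8547), (9324, 9273), (9325, 9276), (9326, 8548), (9327, 9262), (9328, 9285), (9329, 8559), (9330, 10013), (9331, 8566), (9332, 8842), (9333, 8561), (9334, 10017), (9335, 8876), (9336, 8564), (9337, 9601), (9338, 9711), (9339, 10015), (9340, 8568), (9341, 10025),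 (9342, 9478), (9343, 9022)]
    ⟨e3 q9280 L175738 q9988, e3 q9281 (flp_e L175380) q9951, e3 q9282 (flp_e L170214) q9436, e3 q9283 (flp_e L168966) q8470, e3 q9284 (flp_e L168988) q8943, e3 q9285 (flp_e L169414) q9328, e3 q9286 (flp_e L169001) q8472, e3 q9287 (flp_e L169890) q9388, e3 q9288 L169024 q8942, e3 q9289 L169037 q8938, e3 q9290 (flp_e L169898) q9389, e3 q9291 L169055 q9291, e3 q9292 (flp_e L172795) q9678, e3 q9293 (flp_e L171028) q9510, e3 q9294 (flp_e L175768) q9991, e3 q9295 (flp_e L169082) q8491, e3 q9296 (flp_e L172432) q9643, e3 q9297 L169104 q9297, e3 q9298 L169116 q8880, e3 q9299 (flp_e L169118) q8500, e3 q9300 L169139 q8741, e3 q9301 L169151 q8740, e3 q9302 (flp_e L175360) q9949, e3 q9303 L169177 q8658, e3 q9304 L169192 q8595, e3 q9305 (flp_e L175336) q9947, e3 q9306 L169220 q8527, e3 q9307 L169233 q8746, e3 q9308 (flp_e L169235) q8520, e3 q9309 L169252 q8875, e3 q9310 (flp_e L175840) q9997, e3 q9311 L169274 q8532, e3 q9312 L169279 q8533, e3 q9313 L169288 q9313, e3 q9314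 L169300 q9254, e3 q9315 L175907 q10005, e3 q9316 (flp_e L175812) q9995, e3 q9317 L169316 q8531, e3 q9318 L169325 q8885, e3 q9319 L169334 q8884, e3 q9320 (flp_e L175925) q10007, e3 q9321 (flp_e L175870) q10000, e3 q9322 (flp_e L174365) q9837, e3 q9323 L169366 q8547, e3 q9324 L169371 q9273, e3 q9325 (flp_e L169386) q9276, e3 q9326 (flp_e L169388) q8548, e3 q9327 L169402 q9262, e3 q9328 L169414 q9285, e3 q9329 (flp_e L169418) q8559, e3 q9330 (flp_e L175983) q10013, e3 q9331 L169437 q8566, e3 q9332 L169453 q8842, e3 q9333 L169461 q8561, e3 q9334 (flp_e L176023) q10017, e3 q9335 L169477 q8876, e3 q9336 L169486 q8564, e3 q9337 (flp_e L172086) q9601, e3 q9338 (flp_e L173171) q9711, e3 q9339 (flp_e L175999) q10015, e3 q9340 L169518 q8568, e3 q9341 L176078 q10025, e3 q9342 (flp_e L170669) q9478, e3 q9343 L169542 q9022, trivial⟩ (by decide +kernel)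

theorem ce_e_146 : ∀ r, r < 64 → sm ge (Qf (9344 + r)) = Qf (tab Gen.e (9344 + r)) :=
  edges_tab (sm ge) Qf (tab Gen.e) 9344 [(9344, 9023), (9345, 8572), (9346, 10031), (9347, 8573), (9348, 9468), (9349, 10032), (9350, 9031), (9351, 9032), (9352, 9564), (9353, 10039), (9354, 8578), (9355, 9697), (9356, 9509), (9357, 8584), (9358, 9776), (9359, 9775), (9360, 10043), (9361, 9051), (9362, 10049), (9363, 8596), (9364, 8890), (9365, 10053), (9366, 8589), (9367, 9700), (9368, 9518), (9369, 10056), (9370, 8598), (9371, 9527), (9372, 10059), (9373, 10060), (9374, 8601), (9375, 9672), (9376, 8602), (9377, 9544), (9378, 9538), (9379, 9539), (9380, 8607), (9381, 8975), (9382, 8623), (9383, 8624), (9384, 8994), (9385, 9213), (9386, 8618), (9387, 10070), (9388, 9287), (9389, 9290), (9390, 9562), (9391, 8622), (9392, 9451), (9393, 10074), (9394, 10065), (9395, 10066), (9396, 9593), (9397, 10081), (9398, 8627), (9399, 9739), (9400, 9588), (9401, 8633), (9402, 9878), (9403, 9877), (9404, 10084), (9405,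 9186), (9406, 10090), (9407, 9569)]
    ⟨e3 q9344 L169551 q9023, e3 q9345 L169559 q8572, e3 q9346 L176115 q10031, e3 q9347 (flp_e L169567) q8573, e3 q9348 (flp_e L170554) q9468, e3 q9349 (flp_e L176129) q10032, e3 q9350 L169599 q9031, e3 q9351 L169607 q9032, e3 q9352 (flp_e L171679) q9564, e3 q9353 L176177 q10039, e3 q9354 (flp_e L169621) q8578, e3 q9355 (flp_e L173012) q9697, e3 q9356 (flp_e L171020) q9509, e3 q9357 L169650 q8584, e3 q9358 (flp_e L173777) q9776, e3 q9359 (flp_e L173764) q9775, e3 q9360 (flp_e L176208) q10043, e3 q9361 L169683 q9051, e3 q9362 L176255 q10049, e3 q9363 L169701 q8596, e3 q9364 L169714 q8890, e3 q9365 L176295 q10053, e3 q9366 (flp_e L169723) q8589, e3 q9367 (flp_e L173042) q9700, e3 q9368 (flp_e L171102) q9518, e3 q9369 L176322 q10056, e3 q9370 (flp_e L169754) q8598, e3 q9371 (flp_e L171228) q9527, e3 q9372 L176337 q10059, e3 q9373 L176344 q10060, e3 q9374 (flp_e L169777) q8601, e3 q9375 (flp_e L172728) q9672, e3 q9376 (flp_e L169790) q8602, e3 q9377 (flp_e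 L171459) q9544, e3 q9378 (flp_e L171382) q9538, e3 q9379 (flp_e L171394) q9539, e3 q9380 (flp_e L169817) q8607, e3 q9381 (flp_e L169833) q8975, e3 q9382 L169838 q8623, e3 q9383 L169847 q8624, e3 q9384 L169857 q8994, e3 q9385 L169867 q9213, e3 q9386 L169875 q8618, e3 q9387 L176424 q10070, e3 q9388 L169890 q9287, e3 q9389 L169898 q9290, e3 q9390 (flp_e L171654) q9562, e3 q9391 (flp_e L169911) q8622, e3 q9392 L170337 q9451, e3 q9393 (flp_e L176463) q10074, e3 q9394 (flp_e L176389) q10065, e3 q9395 (flp_e L176394) q10066, e3 q9396 (flp_e L171983) q9593, e3 q9397 L176502 q10081, e3 q9398 (flp_e L169958) q8627, e3 q9399 (flp_e L173442) q9739, e3 q9400 (flp_e L171924) q9588, e3 q9401 L169980 q8633, e3 q9402 (flp_e L174724) q9878, e3 q9403 (flp_e L174712) q9877, e3 q9404 (flp_e L176523) q10084, e3 q9405 L170008 q9186, e3 q9406 L176557 q10090, e3 q9407 (flp_e L171739) q9569, trivial⟩ (by decide +kernel)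

theorem ce_e_147 : ∀ r, r < 64 → sm ge (Qf (9408 + r)) = Qf (tab Gen.e (9408 + r)) :=
  edges_tab (sm ge) Qf (tab Gen.e) 9408 [(9408, 10093), (9409, 10095), (9410, 8638), (9411, 9822), (9412, 9698), (9413, 10100), (9414, 8641), (9415, 9635), (9416, 8646), (9417, 9921), (9418, 9920), (9419, 10106), (9420, 10108), (9421, 10110), (9422, 8648), (9423, 9448), (9424, 10113), (9425, 8650), (9426, 10115), (9427, 8651), (9428, 9701), (9429, 9541), (9430, 8654), (9431, 9656), (9432, 8742), (9433, 8747), (9434, 9533), (9435, 9677), (9436, 9282), (9437, 10121), (9438, 9687), (9439, 9944), (9440, 9442), (9441, 10124), (9442, 9440), (9443, 8677), (9444, 10127), (9445, 8678), (9446, 10129), (9447, 8679), (9448, 9423), (9449, 10130), (9450, 8684), (9451, 9392), (9452, 8690), (9453, 10132), (9454, 8706), (9455, 8984), (9456, 8692), (9457, 10136), (9458, 8987), (9459, 8695), (9460, 8958), (9461, 8966), (9462, 9014), (9463, 8825), (9464, 8700), (9465, 10143), (9466, 8702), (9467, 9161), (9468, 9348), (9469,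 8705), (9470, 10148), (9471, 9754)]
    ⟨e3 q9408 L176573 q10093, e3 q9409 L176579 q10095, e3 q9410 (flp_e L170030) q8638, e3 q9411 (flp_e L174213) q9822, e3 q9412 (flp_e L173026) q9698, e3 q9413 L176605 q10100, e3 q9414 (flp_e L170052) q8641, e3 q9415 (flp_e L172361) q9635, e3 q9416 L170068 q8646, e3 q9417 (flp_e L175062) q9921, e3 q9418 (flp_e L175050) q9920, e3 q9419 L176652 q10106, e3 q9420 L176669 q10108, e3 q9421 L176686 q10110, e3 q9422 (flp_e L170105) q8648, e3 q9423 (flp_e L170305) q9448, e3 q9424 L176710 q10113, e3 q9425 (flp_e L170127) q8650, e3 q9426 L176732 q10115, e3 q9427 (flp_e L170145) q8651, e3 q9428 (flp_e L173055) q9701, e3 q9429 (flp_e L171418) q9541, e3 q9430 (flp_e L170162) q8654, e3 q9431 (flp_e L172525) q9656, e3 q9432 L170182 q8742, e3 q9433 L170195 q8747, e3 q9434 (flp_e L171320) q9533, e3 q9435 (flp_e L172784) q9677, e3 q9436 L170214 q9282, e3 q9437 L176804 q10121, e3 q9438 (flp_e L172895) q9687, e3 q9439 (flp_e L175296) q9944, e3 q9440 L170263 q9442, e3 q9441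 L176833 q10124, e3 q9442 (flp_e L170263) q9440, e3 q9443 (flp_e L170265) q8677, e3 q9444 L176862 q10127, e3 q9445 (flp_e L170280) q8678, e3 q9446 L176879 q10129, e3 q9447 (flp_e L170294) q8679, e3 q9448 L170305 q9423, e3 q9449 L176885 q10130, e3 q9450 (flp_e L170318) q8684, e3 q9451 (flp_e L170337) q9392, e3 q9452 (flp_e L170339) q8690, e3 q9453 (flp_e L176916) q10132, e3 q9454 L170372 q8706, e3 q9455 L170390 q8984, e3 q9456 L170398 q8692, e3 q9457 (flp_e L176964) q10136, e3 q9458 L170416 q8987, e3 q9459 L170425 q8695, e3 q9460 L170439 q8958, e3 q9461 L170451 q8966, e3 q9462 L170469 q9014, e3 q9463 L170486 q8825, e3 q9464 L170498 q8700, e3 q9465 (flp_e L177058) q10143, e3 q9466 L170520 q8702, e3 q9467 L170536 q9161, e3 q9468 L170554 q9348, e3 q9469 L170566 q8705, e3 q9470 (flp_e L177131) q10148, e3 q9471 (flp_e L173600) q9754, trivial⟩ (by decide +kernel)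

theorem ce_e_148 : ∀ r, r < 64 → sm ge (Qf (9472 + r)) = Qf (tab Gen.e (9472 + r)) :=
  edges_tab (sm ge) Qf (tab Gen.e) 9472 [(9472, 8815), (9473, 10134), (9474, 9000), (9475, 8709), (9476, 10155), (9477, 9003), (9478, 9342), (9479, 8989), (9480, 8714), (9481, 10159), (9482, 8716), (9483, 9057), (9484, 9193), (9485, 8720), (9486, 10165), (9487, 9221), (9488, 9095), (9489, 8723), (9490, 10168), (9491, 9499), (9492, 8799), (9493, 9545), (9494, 9024), (9495, 8727), (9496, 10175), (9497, 8728), (9498, 9729), (9499, 9491), (9500, 10117), (9501, 8800), (9502, 9694), (9503, 9033), (9504, 9034), (9505, 10184), (9506, 8734), (9507, 9037), (9508, 10118), (9509, 9356), (9510, 9293), (9511, 9994), (9512, 9925), (9513, 10102), (9514, 8801), (9515, 9830), (9516, 9996), (9517, 10116), (9518, 9368), (9519, 9017), (9520, 8903), (9521, 9227), (9522, 9165), (9523, 8755), (9524, 10197), (9525, 8757), (9526, 9110), (9527, 9371), (9528, 8990), (9529, 8934), (9530, 9038), (9531, 8873), (9532, 8768), (9533, 9434),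 (9534, 9070), (9535, 10201)]
    ⟨e3 q9472 L170600 q8815, e3 q9473 (flp_e L176938) q10134, e3 q9474 L170621 q9000, e3 q9475 L170633 q8709, e3 q9476 L177200 q10155, e3 q9477 L170653 q9003, e3 q9478 L170669 q9342, e3 q9479 L170680 q8989, e3 q9480 L170694 q8714, e3 q9481 (flp_e L177256) q10159, e3 q9482 L170716 q8716, e3 q9483 L170734 q9057, e3 q9484 L170746 q9193, e3 q9485 L170758 q8720, e3 q9486 L177321 q10165, e3 q9487 L170782 q9221, e3 q9488 L170798 q9095, e3 q9489 L170810 q8723, e3 q9490 (flp_e L177367) q10168, e3 q9491 (flp_e L170924) q9499, e3 q9492 L170846 q8799, e3 q9493 (flp_e L171477) q9545, e3 q9494 L170870 q9024, e3 q9495 L170882 q8727, e3 q9496 L177437 q10175, e3 q9497 (flp_e L170892) q8728, e3 q9498 (flp_e L173347) q9729, e3 q9499 L170924 q9491, e3 q9500 (flp_e L176758) q10117, e3 q9501 L170944 q8800, e3 q9502 (flp_e L172978) q9694, e3 q9503 L170962 q9033, e3 q9504 L170974 q9034, e3 q9505 L177521 q10184, e3 q9506 (flp_e L170982) q8734, e3 q9507 L170994 q9037, e3 q9508 (flp_e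 L176772) q10118, e3 q9509 L171020 q9356, e3 q9510 L171028 q9293, e3 q9511 (flp_e L175802) q9994, e3 q9512 L175116 q9925, e3 q9513 L176627 q10102, e3 q9514 L171070 q8801, e3 q9515 (flp_e L174289) q9830, e3 q9516 (flp_e L175827) q9996, e3 q9517 (flp_e L176752) q10116, e3 q9518 L171102 q9368, e3 q9519 L171117 q9017, e3 q9520 L171137 q8903, e3 q9521 L171152 q9227, e3 q9522 L171161 q9165, e3 q9523 L171175 q8755, e3 q9524 L177663 q10197, e3 q9525 (flp_e L171194) q8757, e3 q9526 L171221 q9110, e3 q9527 L171228 q9371, e3 q9528 L171245 q8990, e3 q9529 L171267 q8934, e3 q9530 L171276 q9038, e3 q9531 L171292 q8873, e3 q9532 L171302 q8768, e3 q9533 L171320 q9434, e3 q9534 L171330 q9070, e3 q9535 L177717 q10201, trivial⟩ (by decide +kernel)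

theorem ce_e_149 : ∀ r, r < 64 → sm ge (Qf (9536 + r)) = Qf (tab Gen.e (9536 + r)) :=
  edges_tab (sm ge) Qf (tab Gen.e) 9536 [(9536, 8771), (9537, 8775), (9538, 9378), (9539, 9379), (9540, 8893), (9541, 9429), (9542, 8781), (9543, 9074), (9544, 9377), (9545, 9493), (9546, 9928), (9547, 9934), (9548, 10179), (9549, 8802), (9550, 10207), (9551, 8820), (9552, 8804), (9553, 10210), (9554, 9749), (9555, 8826), (9556, 9125), (9557, 9126), (9558, 8808), (9559, 10217), (9560, 9129), (9561, 9130), (9562, 9390), (9563, 8959), (9564, 9352), (9565, 10151), (9566, 8817), (9567, 10225), (9568, 9218), (9569, 9407), (9570, 9887), (9571, 9011), (9572, 10209), (9573, 9141), (9574, 8823), (9575, 10233), (9576, 8824), (9577, 9578), (9578, 9577), (9579, 10234), (9580, 10142), (9581, 10213), (9582, 9150), (9583, 9151), (9584, 10243), (9585, 8830), (9586, 9154), (9587, 10194), (9588, 9400), (9589, 9594), (9590, 8836), (9591, 10249), (9592, 8916), (9593, 9396), (9594, 9589), (9595, 8841), (9596, 10254), (9597,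 9841), (9598, 10016), (9599, 9688)]
    ⟨e3 q9536 (flp_e L171348) q8771, e3 q9537 (flp_e L171362) q8775, e3 q9538 L171382 q9378, e3 q9539 L171394 q9379, e3 q9540 L171405 q8893, e3 q9541 L171418 q9429, e3 q9542 (flp_e L171425) q8781, e3 q9543 L171450 q9074, e3 q9544 L171459 q9377, e3 q9545 L171477 q9493, e3 q9546 (flp_e L175151) q9928, e3 q9547 (flp_e L175201) q9934, e3 q9548 (flp_e L177481) q10179, e3 q9549 (flp_e L171513) q8802, e3 q9550 (flp_e L177804) q10207, e3 q9551 L171553 q8820, e3 q9552 L171563 q8804, e3 q9553 (flp_e L177842) q10210, e3 q9554 (flp_e L173539) q9749, e3 q9555 L171593 q8826, e3 q9556 L171603 q9125, e3 q9557 L171613 q9126, e3 q9558 L171621 q8808, e3 q9559 L177900 q10217, e3 q9560 L171636 q9129, e3 q9561 L171644 q9130, e3 q9562 L171654 q9390, e3 q9563 L171663 q8959, e3 q9564 L171679 q9352, e3 q9565 (flp_e L177169) q10151, e3 q9566 L171704 q8817, e3 q9567 L177979 q10225, e3 q9568 L171730 q9218, e3 q9569 L171739 q9407, e3 q9570 (flp_e L174806) q9887, e3 q9571 L171767 q9011,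 e3 q9572 (flp_e L177830) q10209, e3 q9573 L171793 q9141, e3 q9574 L171807 q8823, e3 q9575 L178072 q10233, e3 q9576 (flp_e L171821) q8824, e3 q9577 (flp_e L171842) q9578, e3 q9578 L171842 q9577, e3 q9579 (flp_e L178083) q10234, e3 q9580 (flp_e L177044) q10142, e3 q9581 (flp_e L177872) q10213, e3 q9582 L171873 q9150, e3 q9583 L171883 q9151, e3 q9584 L178151 q10243, e3 q9585 (flp_e L171893) q8830, e3 q9586 L171905 q9154, e3 q9587 (flp_e L177636) q10194, e3 q9588 L171924 q9400, e3 q9589 (flp_e L172000) q9594, e3 q9590 L171946 q8836, e3 q9591 L178202 q10249, e3 q9592 L171974 q8916, e3 q9593 L171983 q9396, e3 q9594 L172000 q9589, e3 q9595 L172014 q8841, e3 q9596 L178262 q10254, e3 q9597 (flp_e L174413) q9841, e3 q9598 (flp_e L176013) q10016, e3 q9599 (flp_e L172910) q9688, trivial⟩ (by decide +kernel)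

theorem ce_e_150 : ∀ r, r < 64 → sm ge (Qf (9600 + r)) = Qf (tab Gen.e (9600 + r)) :=
  edges_tab (sm ge) Qf (tab Gen.e) 9600 [(9600, 8993), (9601, 9337), (9602, 10261), (9603, 8847), (9604, 9060), (9605, 10264), (9606, 9224), (9607, 9615), (9608, 9088), (9609, 9736), (9610, 9169), (9611, 8854), (9612, 10271), (9613, 8855), (9614, 9859), (9615, 9607), (9616, 10272), (9617, 9810), (9618, 9811), (9619, 9178), (9620, 9179), (9621, 10281), (9622, 8861), (9623, 8865), (9624, 9868), (9625, 9867), (9626, 10283), (9627, 9818), (9628, 10289), (9629, 9188), (9630, 10292), (9631, 10294), (9632, 8870), (9633, 9192), (9634, 10199), (9635, 9415), (9636, 9998), (9637, 10019), (9638, 9720), (9639, 10303), (9640, 9993), (9641, 10306), (9642, 8881), (9643, 9296), (9644, 8886), (9645, 10009), (9646, 10008), (9647, 10046), (9648, 10311), (9649, 10313), (9650, 8888), (9651, 10050), (9652, 10051), (9653, 10316), (9654, 8891), (9655, 9077), (9656, 9431), (9657, 9066), (9658, 9217), (9659, 8967), (9660, 9079),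 (9661, 9071), (9662, 9109), (9663, 9059)]
    ⟨e3 q9600 L172072 q8993, e3 q9601 L172086 q9337, e3 q9602 L178334 q10261, e3 q9603 (flp_e L172096) q8847, e3 q9604 L172108 q9060, e3 q9605 L178356 q10264, e3 q9606 L172134 q9224, e3 q9607 (flp_e L172234) q9615, e3 q9608 L172158 q9088, e3 q9609 (flp_e L173416) q9736, e3 q9610 L172181 q9169, e3 q9611 L172193 q8854, e3 q9612 L178439 q10271, e3 q9613 (flp_e L172205) q8855, e3 q9614 (flp_e L174565) q9859, e3 q9615 L172234 q9607, e3 q9616 (flp_e L178450) q10272, e3 q9617 (flp_e L174120) q9810, e3 q9618 (flp_e L174131) q9811, e3 q9619 L172265 q9178, e3 q9620 L172277 q9179, e3 q9621 L178524 q10281, e3 q9622 (flp_e L172285) q8861, e3 q9623 L172295 q8865, e3 q9624 (flp_e L174648) q9868, e3 q9625 (flp_e L174638) q9867, e3 q9626 (flp_e L178540) q10283, e3 q9627 (flp_e L174189) q9818, e3 q9628 L178572 q10289, e3 q9629 L172331 q9188, e3 q9630 L178586 q10292, e3 q9631 L178594 q10294, e3 q9632 (flp_e L172343) q8870, e3 q9633 L172351 q9192, e3 q9634 (flp_e L177695)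 q10199, e3 q9635 L172361 q9415, e3 q9636 (flp_e L175852) q9998, e3 q9637 (flp_e L176040) q10019, e3 q9638 (flp_e L173249) q9720, e3 q9639 L178673 q10303, e3 q9640 (flp_e L175787) q9993, e3 q9641 L178703 q10306, e3 q9642 (flp_e L172418) q8881, e3 q9643 L172432 q9296, e3 q9644 L172442 q8886, e3 q9645 (flp_e L175943) q10009, e3 q9646 (flp_e L175934) q10008, e3 q9647 (flp_e L176237) q10046, e3 q9648 L178746 q10311, e3 q9649 L178763 q10313, e3 q9650 (flp_e L172473) q8888, e3 q9651 (flp_e L176276) q10050, e3 q9652 (flp_e L176282) q10051, e3 q9653 L178789 q10316, e3 q9654 (flp_e L172501) q8891, e3 q9655 L172510 q9077, e3 q9656 L172525 q9431, e3 q9657 L172534 q9066, e3 q9658 L172551 q9217, e3 q9659 L172569 q8967, e3 q9660 L172577 q9079, e3 q9661 L172592 q9071, e3 q9662 L172609 q9109, e3 q9663 L172616 q9059, trivial⟩ (by decide +kernel)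

theorem ce_e_151 : ∀ r, r < 64 → sm ge (Qf (9664 + r)) = Qf (tab Gen.e (9664 + r)) :=
  edges_tab (sm ge) Qf (tab Gen.e) 9664 [(9664, 9229), (9665, 8910), (9666, 9226), (9667, 9220), (9668, 10161), (9669, 9222), (9670, 10327), (9671, 10250), (9672, 9375), (9673, 9080), (9674, 8918), (9675, 9062), (9676, 9069), (9677, 9435), (9678, 9292), (9679, 9927), (9680, 9985), (9681, 9242), (9682, 8946), (9683, 10329), (9684, 8948), (9685, 9243), (9686, 10330), (9687, 9438), (9688, 9599), (9689, 10333), (9690, 9085), (9691, 10335), (9692, 10140), (9693, 10338), (9694, 9502), (9695, 10340), (9696, 8962), (9697, 9355), (9698, 9412), (9699, 10318), (9700, 9367), (9701, 9428), (9702, 8970), (9703, 9787), (9704, 9782), (9705, 10064), (9706, 8977), (9707, 10347), (9708, 8979), (9709, 8980), (9710, 10349), (9711, 9338), (9712, 8982), (9713, 10352), (9714, 8998), (9715, 8999), (9716, 10135), (9717, 8986), (9718, 10358), (9719, 10138), (9720, 9638), (9721, 10158), (9722, 9194), (9723, 10363), (9724, 10258),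 (9725, 10067), (9726, 8996), (9727, 10368)]
    ⟨e3 q9664 (flp_e L172641) q9229, e3 q9665 (flp_e L172643) q8910, e3 q9666 L172661 q9226, e3 q9667 L172673 q9220, e3 q9668 (flp_e L177286) q10161, e3 q9669 L172698 q9222, e3 q9670 L178929 q10327, e3 q9671 (flp_e L178212) q10250, e3 q9672 L172728 q9375, e3 q9673 (flp_e L172744) q9080, e3 q9674 (flp_e L172746) q8918, e3 q9675 L172765 q9062, e3 q9676 L172772 q9069, e3 q9677 L172784 q9435, e3 q9678 L172795 q9292, e3 q9679 (flp_e L175139) q9927, e3 q9680 L175712 q9985, e3 q9681 L172830 q9242, e3 q9682 L172840 q8946, e3 q9683 (flp_e L178958) q10329, e3 q9684 L172859 q8948, e3 q9685 L172872 q9243, e3 q9686 L178968 q10330, e3 q9687 L172895 q9438, e3 q9688 L172910 q9599, e3 q9689 L179007 q10333, e3 q9690 L172936 q9085, e3 q9691 L179029 q10335, e3 q9692 (flp_e L177011) q10140, e3 q9693 L179063 q10338, e3 q9694 L172978 q9502, e3 q9695 L179081 q10340, e3 q9696 (flp_e L172994) q8962, e3 q9697 L173012 q9355, e3 q9698 L173026 q9412, e3 q9699 (flp_e L178816)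 q10318, e3 q9700 L173042 q9367, e3 q9701 L173055 q9428, e3 q9702 (flp_e L173064) q8970, e3 q9703 (flp_e L173892) q9787, e3 q9704 L173841 q9782, e3 q9705 (flp_e L176378) q10064, e3 q9706 L173115 q8977, e3 q9707 (flp_e L179167) q10347, e3 q9708 L173132 q8979, e3 q9709 (flp_e L173138) q8980, e3 q9710 (flp_e L179188) q10349, e3 q9711 L173171 q9338, e3 q9712 L173178 q8982, e3 q9713 (flp_e L179221) q10352, e3 q9714 L173193 q8998, e3 q9715 L173209 q8999, e3 q9716 (flp_e L176954) q10135, e3 q9717 L173227 q8986, e3 q9718 L179267 q10358, e3 q9719 (flp_e L176985) q10138, e3 q9720 L173249 q9638, e3 q9721 (flp_e L177240) q10158, e3 q9722 L173271 q9194, e3 q9723 L179312 q10363, e3 q9724 (flp_e L178310) q10258, e3 q9725 (flp_e L176404) q10067, e3 q9726 L173315 q8996, e3 q9727 L179358 q10368, trivial⟩ (by decide +kernel)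

theorem ce_e_152 : ∀ r, r < 64 → sm ge (Qf (9728 + r)) = Qf (tab Gen.e (9728 + r)) :=
  edges_tab (sm ge) Qf (tab Gen.e) 9728 [(9728, 8997), (9729, 9498), (9730, 10369), (9731, 10354), (9732, 10355), (9733, 10153), (9734, 10375), (9735, 9002), (9736, 9609), (9737, 9006), (9738, 10379), (9739, 9399), (9740, 9750), (9741, 9010), (9742, 10384), (9743, 10229), (9744, 9889), (9745, 9890), (9746, 10141), (9747, 10389), (9748, 9016), (9749, 9554), (9750, 9740), (9751, 9020), (9752, 10395), (9753, 9021), (9754, 9471), (9755, 10396), (9756, 10027), (9757, 10028), (9758, 10172), (9759, 10403), (9760, 10404), (9761, 9026), (9762, 9030), (9763, 9764), (9764, 9763), (9765, 10406), (9766, 10035), (9767, 10412), (9768, 10181), (9769, 10415), (9770, 10416), (9771, 9035), (9772, 10185), (9773, 10162), (9774, 9043), (9775, 9359), (9776, 9358), (9777, 10419), (9778, 9961), (9779, 9050), (9780, 9781), (9781, 9780), (9782, 9704), (9783, 10425), (9784, 10426), (9785, 9052), (9786, 9104), (9787, 9703), (9788,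 9055), (9789, 10322), (9790, 10319), (9791, 10328)]
    ⟨e3 q9728 (flp_e L173327) q8997, e3 q9729 L173347 q9498, e3 q9730 (flp_e L179370) q10369, e3 q9731 (flp_e L179239) q10354, e3 q9732 (flp_e L179251) q10355, e3 q9733 (flp_e L177186) q10153, e3 q9734 L179430 q10375, e3 q9735 (flp_e L173403) q9002, e3 q9736 L173416 q9609, e3 q9737 L173424 q9006, e3 q9738 L179459 q10379, e3 q9739 L173442 q9399, e3 q9740 (flp_e L173554) q9750, e3 q9741 L173464 q9010, e3 q9742 L179501 q10384, e3 q9743 (flp_e L178032) q10229, e3 q9744 (flp_e L174830) q9889, e3 q9745 (flp_e L174840) q9890, e3 q9746 (flp_e L177027) q10141, e3 q9747 L179547 q10389, e3 q9748 (flp_e L173526) q9016, e3 q9749 L173539 q9554, e3 q9750 L173554 q9740, e3 q9751 L173566 q9020, e3 q9752 L179605 q10395, e3 q9753 (flp_e L173580) q9021, e3 q9754 L173600 q9471, e3 q9755 (flp_e L179624) q10396, e3 q9756 (flp_e L176096) q10027, e3 q9757 (flp_e L176103) q10028, e3 q9758 (flp_e L177413) q10172, e3 q9759 L179677 q10403, e3 q9760 L179683 q10404,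 e3 q9761 (flp_e L173643) q9026, e3 q9762 L173653 q9030, e3 q9763 (flp_e L173671) q9764, e3 q9764 L173671 q9763, e3 q9765 (flp_e L179697) q10406, e3 q9766 (flp_e L176155) q10035, e3 q9767 L179749 q10412, e3 q9768 (flp_e L177501) q10181, e3 q9769 L179773 q10415, e3 q9770 L179777 q10416, e3 q9771 (flp_e L173725) q9035, e3 q9772 (flp_e L177533) q10185, e3 q9773 (flp_e L177297) q10162, e3 q9774 L173753 q9043, e3 q9775 L173764 q9359, e3 q9776 L173777 q9358, e3 q9777 (flp_e L179806) q10419, e3 q9778 (flp_e L175474) q9961, e3 q9779 L173808 q9050, e3 q9780 (flp_e L173824) q9781, e3 q9781 L173824 q9780, e3 q9782 (flp_e L173841) q9704, e3 q9783 L179881 q10425, e3 q9784 L179894 q10426, e3 q9785 (flp_e L173864) q9052, e3 q9786 L173886 q9104, e3 q9787 L173892 q9703, e3 q9788 (flp_e L173902) q9055, e3 q9789 (flp_e L178873) q10322, e3 q9790 (flp_e L178830) q10319, e3 q9791 (flp_e L178946) q10328, trivial⟩ (by decide +kernel)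

theorem ce_e_153 : ∀ r, r < 64 → sm ge (Qf (9792 + r)) = Qf (tab Gen.e (9792 + r)) :=
  edges_tab (sm ge) Qf (tab Gen.e) 9792 [(9792, 10317), (9793, 10430), (9794, 9065), (9795, 10320), (9796, 10297), (9797, 10195), (9798, 10246), (9799, 9072), (9800, 9075), (9801, 10063), (9802, 9929), (9803, 9083), (9804, 10438), (9805, 9131), (9806, 10440), (9807, 9086), (9808, 9087), (9809, 10267), (9810, 9617), (9811, 9618), (9812, 9162), (9813, 10448), (9814, 9093), (9815, 9096), (9816, 10167), (9817, 10450), (9818, 9627), (9819, 10454), (9820, 10455), (9821, 9100), (9822, 9411), (9823, 9105), (9824, 10422), (9825, 10156), (9826, 10321), (9827, 9133), (9828, 9114), (9829, 10461), (9830, 9515), (9831, 9135), (9832, 9117), (9833, 10464), (9834, 9854), (9835, 9139), (9836, 9140), (9837, 9322), (9838, 9121), (9839, 10471), (9840, 9122), (9841, 9597), (9842, 10472), (9843, 9148), (9844, 9149), (9845, 10214), (9846, 10215), (9847, 10480), (9848, 9128), (9849, 10218), (9850, 10484), (9851, 10439), (9852,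 10459), (9853, 9134), (9854, 9834), (9855, 10463)]
    ⟨e3 q9792 (flp_e L178801) q10317, e3 q9793 L179939 q10430, e3 q9794 (flp_e L173964) q9065, e3 q9795 (flp_e L178845) q10320, e3 q9796 (flp_e L178612) q10297, e3 q9797 (flp_e L177651) q10195, e3 q9798 (flp_e L178174) q10246, e3 q9799 (flp_e L174011) q9072, e3 q9800 (flp_e L174017) q9075, e3 q9801 (flp_e L176367) q10063, e3 q9802 (flp_e L175157) q9929, e3 q9803 L174050 q9083, e3 q9804 L180010 q10438, e3 q9805 L174076 q9131, e3 q9806 L180030 q10440, e3 q9807 (flp_e L174088) q9086, e3 q9808 (flp_e L174094) q9087, e3 q9809 (flp_e L178404) q10267, e3 q9810 L174120 q9617, e3 q9811 L174131 q9618, e3 q9812 L174139 q9162, e3 q9813 L180090 q10448, e3 q9814 (flp_e L174147) q9093, e3 q9815 L174159 q9096, e3 q9816 (flp_e L177353) q10167, e3 q9817 (flp_e L180108) q10450, e3 q9818 L174189 q9627, e3 q9819 L180142 q10454, e3 q9820 L180148 q10455, e3 q9821 (flp_e L174203) q9100, e3 q9822 L174213 q9411, e3 q9823 L174218 q9105, e3 q9824 (flp_e L179853) q10422,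 e3 q9825 (flp_e L177220) q10156, e3 q9826 (flp_e L178860) q10321, e3 q9827 L174255 q9133, e3 q9828 L174267 q9114, e3 q9829 L180189 q10461, e3 q9830 L174289 q9515, e3 q9831 L174300 q9135, e3 q9832 L174308 q9117, e3 q9833 (flp_e L180226) q10464, e3 q9834 (flp_e L174512) q9854, e3 q9835 L174340 q9139, e3 q9836 L174355 q9140, e3 q9837 L174365 q9322, e3 q9838 L174375 q9121, e3 q9839 L180299 q10471, e3 q9840 (flp_e L174391) q9122, e3 q9841 L174413 q9597, e3 q9842 (flp_e L180317) q10472, e3 q9843 L174435 q9148, e3 q9844 L174441 q9149, e3 q9845 (flp_e L177882) q10214, e3 q9846 (flp_e L177892) q10215, e3 q9847 L180377 q10480, e3 q9848 (flp_e L174463) q9128, e3 q9849 (flp_e L177910) q10218, e3 q9850 L180401 q10484, e3 q9851 (flp_e L180022) q10439, e3 q9852 (flp_e L180177) q10459, e3 q9853 (flp_e L174497) q9134, e3 q9854 L174512 q9834, e3 q9855 (flp_e L180216) q10463, trivial⟩ (by decide +kernel)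

theorem ce_e_154 : ∀ r, r < 64 → sm ge (Qf (9856 + r)) = Qf (tab Gen.e (9856 + r)) :=
  edges_tab (sm ge) Qf (tab Gen.e) 9856 [(9856, 9137), (9857, 10490), (9858, 9138), (9859, 9614), (9860, 10491), (9861, 10467), (9862, 10468), (9863, 10231), (9864, 10498), (9865, 9143), (9866, 9147), (9867, 9625), (9868, 9624), (9869, 10500), (9870, 10475), (9871, 10505), (9872, 10240), (9873, 10507), (9874, 9152), (9875, 10244), (9876, 9158), (9877, 9403), (9878, 9402), (9879, 10510), (9880, 9898), (9881, 10515), (9882, 10146), (9883, 10517), (9884, 9163), (9885, 10449), (9886, 9166), (9887, 9570), (9888, 10520), (9889, 9744), (9890, 9745), (9891, 10269), (9892, 10527), (9893, 9171), (9894, 9175), (9895, 9896), (9896, 9895), (9897, 10529), (9898, 9880), (9899, 10535), (9900, 10278), (9901, 10538), (9902, 10540), (9903, 9180), (9904, 10282), (9905, 9185), (9906, 9907), (9907, 9906), (9908, 10547), (9909, 10549), (9910, 10551), (9911, 9187), (9912, 10553), (9913, 10554), (9914, 9189), (9915, 10556), (9916,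 9190), (9917, 10555), (9918, 10296), (9919, 9198)]
    ⟨e3 q9856 L174533 q9137, e3 q9857 L180447 q10490, e3 q9858 (flp_e L174547) q9138, e3 q9859 L174565 q9614, e3 q9860 (flp_e L180460) q10491, e3 q9861 (flp_e L180264) q10467, e3 q9862 (flp_e L180275) q10468, e3 q9863 (flp_e L178054) q10231, e3 q9864 L180521 q10498, e3 q9865 (flp_e L174616) q9143, e3 q9866 L174628 q9147, e3 q9867 L174638 q9625, e3 q9868 L174648 q9624, e3 q9869 (flp_e L180541) q10500, e3 q9870 (flp_e L180351) q10475, e3 q9871 L180581 q10505, e3 q9872 (flp_e L178131) q10240, e3 q9873 L180591 q10507, e3 q9874 (flp_e L174684) q9152, e3 q9875 (flp_e L178163) q10244, e3 q9876 L174700 q9158, e3 q9877 L174712 q9403, e3 q9878 L174724 q9402, e3 q9879 (flp_e L180611) q10510, e3 q9880 (flp_e L174914) q9898, e3 q9881 L180661 q10515, e3 q9882 (flp_e L177099) q10146, e3 q9883 L180677 q10517, e3 q9884 (flp_e L174772) q9163, e3 q9885 (flp_e L180102) q10449, e3 q9886 (flp_e L174784) q9166, e3 q9887 L174806 q9570, e3 q9888 (flp_e L180703)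 q10520, e3 q9889 L174830 q9744, e3 q9890 L174840 q9745, e3 q9891 (flp_e L178423) q10269, e3 q9892 L180765 q10527, e3 q9893 (flp_e L174858) q9171, e3 q9894 L174872 q9175, e3 q9895 (flp_e L174894) q9896, e3 q9896 L174894 q9895, e3 q9897 (flp_e L180785) q10529, e3 q9898 L174914 q9880, e3 q9899 L180839 q10535, e3 q9900 (flp_e L178506) q10278, e3 q9901 L180863 q10538, e3 q9902 L180875 q10540, e3 q9903 (flp_e L174950) q9180, e3 q9904 (flp_e L178534) q10282, e3 q9905 L174968 q9185, e3 q9906 (flp_e L174982) q9907, e3 q9907 L174982 q9906, e3 q9908 L180923 q10547, e3 q9909 L180933 q10549, e3 q9910 L180945 q10551, e3 q9911 (flp_e L175006) q9187, e3 q9912 L180955 q10553, e3 q9913 L180959 q10554, e3 q9914 (flp_e L175020) q9189, e3 q9915 L180967 q10556, e3 q9916 (flp_e L175026) q9190, e3 q9917 (flp_e L180965) q10555, e3 q9918 (flp_e L178608) q10296, e3 q9919 L175040 q9198, trivial⟩ (by decide +kernel)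

theorem ce_e_155 : ∀ r, r < 64 → sm ge (Qf (9920 + r)) = Qf (tab Gen.e (9920 + r)) :=
  edges_tab (sm ge) Qf (tab Gen.e) 9920 [(9920, 9418), (9921, 9417), (9922, 10562), (9923, 10563), (9924, 9200), (9925, 9512), (9926, 9202), (9927, 9679), (9928, 9546), (9929, 9802), (9930, 10469), (9931, 9208), (9932, 10068), (9933, 9209), (9934, 9547), (9935, 10145), (9936, 10568), (9937, 10226), (9938, 9219), (9939, 10323), (9940, 10166), (9941, 10570), (9942, 9223), (9943, 10265), (9944, 9439), (9945, 9233), (9946, 9979), (9947, 9305), (9948, 9236), (9949, 9302), (9950, 10190), (9951, 9281), (9952, 9978), (9953, 9954), (9954, 9953), (9955, 9244), (9956, 9969), (9957, 9249), (9958, 9959), (9959, 9958), (9960, 10576), (9961, 9778), (9962, 10001), (9963, 9963), (9964, 10012), (9965, 10003), (9966, 9258), (9967, 9968), (9968, 9967), (9969, 9956), (9970, 10589), (9971, 10591), (9972, 9260), (9973, 10010), (9974, 10006), (9975, 10592), (9976, 9263), (9977, 10011), (9978, 9952), (9979, 9946), (9980, 9270),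 (9981, 10594), (9982, 9271), (9983, 9274)]
    ⟨e3 q9920 L175050 q9418, e3 q9921 L175062 q9417, e3 q9922 L181020 q10562, e3 q9923 L181034 q10563, e3 q9924 (flp_e L175092) q9200, e3 q9925 (flp_e L175116) q9512, e3 q9926 (flp_e L175118) q9202, e3 q9927 L175139 q9679, e3 q9928 L175151 q9546, e3 q9929 L175157 q9802, e3 q9930 (flp_e L180285) q10469, e3 q9931 (flp_e L175171) q9208, e3 q9932 (flp_e L176414) q10068, e3 q9933 (flp_e L175189) q9209, e3 q9934 L175201 q9547, e3 q9935 (flp_e L177088) q10145, e3 q9936 L181082 q10568, e3 q9937 (flp_e L177989) q10226, e3 q9938 (flp_e L175236) q9219, e3 q9939 (flp_e L178888) q10323, e3 q9940 (flp_e L177333) q10166, e3 q9941 (flp_e L181107) q10570, e3 q9942 (flp_e L175275) q9223, e3 q9943 (flp_e L178374) q10265, e3 q9944 L175296 q9439, e3 q9945 L175315 q9233, e3 q9946 (flp_e L175646) q9979, e3 q9947 L175336 q9305, e3 q9948 L175347 q9236, e3 q9949 L175360 q9302, e3 q9950 (flp_e L177591) q10190, e3 q9951 L175380 q9281, e3 q9952 (flp_e L175632) q9978, e3 q9953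 L175414 q9954, e3 q9954 (flp_e L175414) q9953, e3 q9955 (flp_e L175416) q9244, e3 q9956 L175557 q9969, e3 q9957 L175435 q9249, e3 q9958 (flp_e L175456) q9959, e3 q9959 L175456 q9958, e3 q9960 (flp_e L181161) q10576, e3 q9961 L175474 q9778, e3 q9962 (flp_e L175879) q10001, e3 q9963 L175496 q9963, e3 q9964 (flp_e L175974) q10012, e3 q9965 (flp_e L175897) q10003, e3 q9966 L175523 q9258, e3 q9967 (flp_e L175541) q9968, e3 q9968 L175541 q9967, e3 q9969 (flp_e L175557) q9956, e3 q9970 L181287 q10589, e3 q9971 L181308 q10591, e3 q9972 (flp_e L175574) q9260, e3 q9973 (flp_e L175954) q10010, e3 q9974 (flp_e L175917) q10006, e3 q9975 L181316 q10592, e3 q9976 (flp_e L175609) q9263, e3 q9977 (flp_e L175964) q10011, e3 q9978 L175632 q9952, e3 q9979 L175646 q9946, e3 q9980 (flp_e L175650) q9270, e3 q9981 L181332 q10594, e3 q9982 (flp_e L175670) q9271, e3 q9983 (flp_e L175681) q9274, trivial⟩ (by decide +kernel)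

theorem ce_e_156 : ∀ r, r < 64 → sm ge (Qf (9984 + r)) = Qf (tab Gen.e (9984 + r)) :=
  edges_tab (sm ge) Qf (tab Gen.e) 9984 [(9984, 10123), (9985, 9680), (9986, 9987), (9987, 9986), (9988, 9280), (9989, 10071), (9990, 10305), (9991, 9294), (9992, 10596), (9993, 9640), (9994, 9511), (9995, 9316), (9996, 9516), (9997, 9310), (9998, 9636), (9999, 10599), (10000, 9321), (10001, 9962), (10002, 10605), (10003, 9965), (10004, 10608), (10005, 9315), (10006, 9974), (10007, 9320), (10008, 9646), (10009, 9645), (10010, 9973), (10011, 9977), (10012, 9964), (10013, 9330), (10014, 10612), (10015, 9339), (10016, 9598), (10017, 9334), (10018, 10617), (10019, 9637), (10020, 10139), (10021, 10621), (10022, 10351), (10023, 10614), (10024, 10625), (10025, 9341), (10026, 10157), (10027, 9756), (10028, 9757), (10029, 10631), (10030, 10632), (10031, 9346), (10032, 9349), (10033, 10147), (10034, 10634), (10035, 9766), (10036, 10639), (10037, 10641), (10038, 10643), (10039, 9353), (10040, 10341), (10041, 10342),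 (10042, 10187), (10043, 9360), (10044, 10421), (10045, 10420), (10046, 9647), (10047, 10651)]
    ⟨e3 q9984 L176831 q10123, e3 q9985 (flp_e L175712) q9680, e3 q9986 L175736 q9987, e3 q9987 (flp_e L175736) q9986, e3 q9988 (flp_e L175738) q9280, e3 q9989 (flp_e L176434) q10071, e3 q9990 L178701 q10305, e3 q9991 L175768 q9294, e3 q9992 L181351 q10596, e3 q9993 L175787 q9640, e3 q9994 L175802 q9511, e3 q9995 L175812 q9316, e3 q9996 L175827 q9516, e3 q9997 L175840 q9310, e3 q9998 L175852 q9636, e3 q9999 (flp_e L181386) q10599, e3 q10000 L175870 q9321, e3 q10001 L175879 q9962, e3 q10002 L181447 q10605, e3 q10003 L175897 q9965, e3 q10004 L181475 q10608, e3 q10005 (flp_e L175907) q9315, e3 q10006 L175917 q9974, e3 q10007 L175925 q9320, e3 q10008 L175934 q9646, e3 q10009 L175943 q9645, e3 q10010 L175954 q9973, e3 q10011 L175964 q9977, e3 q10012 L175974 q9964, e3 q10013 L175983 q9330, e3 q10014 (flp_e L181517) q10612, e3 q10015 L175999 q9339, e3 q10016 L176013 q9598, e3 q10017 L176023 q9334, e3 q10018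 L181558 q10617, e3 q10019 L176040 q9637, e3 q10020 (flp_e L177000) q10139, e3 q10021 L181589 q10621, e3 q10022 (flp_e L179212) q10351, e3 q10023 (flp_e L181534) q10614, e3 q10024 L181616 q10625, e3 q10025 (flp_e L176078) q9341, e3 q10026 (flp_e L177227) q10157, e3 q10027 L176096 q9756, e3 q10028 L176103 q9757, e3 q10029 L181656 q10631, e3 q10030 L181662 q10632, e3 q10031 (flp_e L176115) q9346, e3 q10032 L176129 q9349, e3 q10033 (flp_e L177117) q10147, e3 q10034 (flp_e L181680) q10634, e3 q10035 L176155 q9766, e3 q10036 L181716 q10639, e3 q10037 L181732 q10641, e3 q10038 L181740 q10643, e3 q10039 (flp_e L176177) q9353, e3 q10040 (flp_e L179101) q10341, e3 q10041 (flp_e L179107) q10342, e3 q10042 (flp_e L177549) q10187, e3 q10043 L176208 q9360, e3 q10044 (flp_e L179832) q10421, e3 q10045 (flp_e L179817) q10420, e3 q10046 L176237 q9647, e3 q10047 L181808 q10651, trivial⟩ (by decide +kernel)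

theorem ce_e_157 : ∀ r, r < 64 → sm ge (Qf (10048 + r)) = Qf (tab Gen.e (10048 + r)) :=
  edges_tab (sm ge) Qf (tab Gen.e) 10048 [(10048, 10653), (10049, 9362), (10050, 9651), (10051, 9652), (10052, 10655), (10053, 9365), (10054, 10193), (10055, 10656), (10056, 9369), (10057, 10198), (10058, 10658), (10059, 9372), (10060, 9373), (10061, 10202), (10062, 10325), (10063, 9801), (10064, 9705), (10065, 9394), (10066, 9395), (10067, 9725), (10068, 9932), (10069, 10667), (10070, 9387), (10071, 9989), (10072, 10671), (10073, 10220), (10074, 9393), (10075, 10131), (10076, 10673), (10077, 10662), (10078, 10678), (10079, 10680), (10080, 10681), (10081, 9397), (10082, 10441), (10083, 10380), (10084, 9404), (10085, 10512), (10086, 10511), (10087, 10688), (10088, 10690), (10089, 10692), (10090, 9406), (10091, 10695), (10092, 10697), (10093, 9408), (10094, 10700), (10095, 9409), (10096, 10698), (10097, 10457), (10098, 10343), (10099, 10200), (10100, 9413), (10101, 10298), (10102, 9513), (10103, 10125),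 (10104, 10707), (10105, 10709), (10106, 9419), (10107, 10711), (10108, 9420), (10109, 10713), (10110, 9421), (10111, 10112)]
    ⟨e3 q10048 L181827 q10653, e3 q10049 (flp_e L176255) q9362, e3 q10050 L176276 q9651, e3 q10051 L176282 q9652, e3 q10052 L181849 q10655, e3 q10053 (flp_e L176295) q9365, e3 q10054 (flp_e L177615) q10193, e3 q10055 L181861 q10656, e3 q10056 (flp_e L176322) q9369, e3 q10057 (flp_e L177682) q10198, e3 q10058 L181873 q10658, e3 q10059 (flp_e L176337) q9372, e3 q10060 (flp_e L176344) q9373, e3 q10061 (flp_e L177735) q10202, e3 q10062 (flp_e L178921) q10325, e3 q10063 L176367 q9801, e3 q10064 L176378 q9705, e3 q10065 L176389 q9394, e3 q10066 L176394 q9395, e3 q10067 L176404 q9725, e3 q10068 L176414 q9932, e3 q10069 L181935 q10667, e3 q10070 (flp_e L176424) q9387, e3 q10071 L176434 q9989, e3 q10072 L181965 q10671, e3 q10073 (flp_e L177931) q10220, e3 q10074 L176463 q9393, e3 q10075 (flp_e L176901) q10131, e3 q10076 (flp_e L181988) q10673, e3 q10077 (flp_e L181901) q10662,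 e3 q10078 L182018 q10678, e3 q10079 L182030 q10680, e3 q10080 L182034 q10681, e3 q10081 (flp_e L176502) q9397, e3 q10082 (flp_e L180042) q10441, e3 q10083 (flp_e L179469) q10380, e3 q10084 L176523 q9404, e3 q10085 (flp_e L180637) q10512, e3 q10086 (flp_e L180623) q10511, e3 q10087 L182074 q10688, e3 q10088 L182084 q10690, e3 q10089 L182096 q10692, e3 q10090 (flp_e L176557) q9406, e3 q10091 L182114 q10695, e3 q10092 L182124 q10697, e3 q10093 (flp_e L176573) q9408, e3 q10094 L182136 q10700, e3 q10095 (flp_e L176579) q9409, e3 q10096 (flp_e L182130) q10698, e3 q10097 (flp_e L180160) q10457, e3 q10098 (flp_e L179121) q10343, e3 q10099 (flp_e L177709) q10200, e3 q10100 (flp_e L176605) q9413, e3 q10101 (flp_e L178628) q10298, e3 q10102 (flp_e L176627) q9513, e3 q10103 (flp_e L176849) q10125, e3 q10104 L182173 q10707, e3 q10105 L182196 q10709, e3 q10106 (flp_e L176652) q9419, e3 q10107 L182217 q10711, e3 q10108 (flp_e L176669) q9420, e3 q10109 L182232 q10713, e3 q10110 (flp_e L176686) q9421, e3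 q10111 L176708 q10112, trivial⟩ (by decide +kernel)

theorem ce_e_158 : ∀ r, r < 64 → sm ge (Qf (10112 + r)) = Qf (tab Gen.e (10112 + r)) :=
  edges_tab (sm ge) Qf (tab Gen.e) 10112 [(10112, 10111), (10113, 9424), (10114, 10715), (10115, 9426), (10116, 9517), (10117, 9500), (10118, 9508), (10119, 10120), (10120, 10119), (10121, 9437), (10122, 10331), (10123, 9984), (10124, 9441), (10125, 10103), (10126, 10721), (10127, 9444), (10128, 10722), (10129, 9446), (10130, 9449), (10131, 10075), (10132, 9453), (10133, 10724), (10134, 9473), (10135, 9716), (10136, 9457), (10137, 10729), (10138, 9719), (10139, 10020), (10140, 9692), (10141, 9746), (10142, 9580), (10143, 9465), (10144, 10736), (10145, 9935), (10146, 9882), (10147, 10033), (10148, 9470), (10149, 10742), (10150, 10397), (10151, 9565), (10152, 10726), (10153, 9733), (10154, 10748), (10155, 9476), (10156, 9825), (10157, 10026), (10158, 9721), (10159, 9481), (10160, 10754), (10161, 9668), (10162, 9773), (10163, 10758), (10164, 10760), (10165,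 9486), (10166, 9940), (10167, 9816), (10168, 9490), (10169, 10765), (10170, 10177), (10171, 10204), (10172, 9758), (10173, 10769), (10174, 10770), (10175, 9496)]
    ⟨e3 q10112 (flp_e L176708) q10111, e3 q10113 (flp_e L176710) q9424, e3 q10114 L182244 q10715, e3 q10115 (flp_e L176732) q9426, e3 q10116 L176752 q9517, e3 q10117 L176758 q9500, e3 q10118 L176772 q9508, e3 q10119 L176802 q10120, e3 q10120 (flp_e L176802) q10119, e3 q10121 (flp_e L176804) q9437, e3 q10122 (flp_e L178986) q10331, e3 q10123 (flp_e L176831) q9984, e3 q10124 (flp_e L176833) q9441, e3 q10125 L176849 q10103, e3 q10126 L182311 q10721, e3 q10127 (flp_e L176862) q9444, e3 q10128 L182322 q10722, e3 q10129 (flp_e L176879) q9446, e3 q10130 (flp_e L176885) q9449, e3 q10131 L176901 q10075, e3 q10132 L176916 q9453, e3 q10133 (flp_e L182351) q10724, e3 q10134 L176938 q9473, e3 q10135 L176954 q9716, e3 q10136 L176964 q9457, e3 q10137 L182404 q10729, e3 q10138 L176985 q9719, e3 q10139 L177000 q10020, e3 q10140 L177011 q9692, e3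 q10141 L177027 q9746, e3 q10142 L177044 q9580, e3 q10143 L177058 q9465, e3 q10144 L182488 q10736, e3 q10145 L177088 q9935, e3 q10146 L177099 q9882, e3 q10147 L177117 q10033, e3 q10148 L177131 q9470, e3 q10149 L182565 q10742, e3 q10150 (flp_e L179637) q10397, e3 q10151 L177169 q9565, e3 q10152 (flp_e L182374) q10726, e3 q10153 L177186 q9733, e3 q10154 L182621 q10748, e3 q10155 (flp_e L177200) q9476, e3 q10156 L177220 q9825, e3 q10157 L177227 q10026, e3 q10158 L177240 q9721, e3 q10159 L177256 q9481, e3 q10160 L182695 q10754, e3 q10161 L177286 q9668, e3 q10162 L177297 q9773, e3 q10163 L182742 q10758, e3 q10164 L182762 q10760, e3 q10165 (flp_e L177321) q9486, e3 q10166 L177333 q9940, e3 q10167 L177353 q9816, e3 q10168 L177367 q9490, e3 q10169 L182818 q10765, e3 q10170 (flp_e L177463) q10177, e3 q10171 (flp_e L177766) q10204, e3 q10172 L177413 q9758, e3 q10173 L182862 q10769, e3 q10174 L182872 q10770, e3 q10175 (flp_e L177437) q9496, trivial⟩ (by decide +kernel)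

theorem ce_e_159 : ∀ r, r < 64 → sm ge (Qf (10176 + r)) = Qf (tab Gen.e (10176 + r)) :=
  edges_tab (sm ge) Qf (tab Gen.e) 10176 [(10176, 10370), (10177, 10170), (10178, 10704), (10179, 9548), (10180, 10777), (10181, 9768), (10182, 10780), (10183, 10782), (10184, 9505), (10185, 9772), (10186, 10716), (10187, 10042), (10188, 10561), (10189, 10560), (10190, 9950), (10191, 10462), (10192, 10598), (10193, 10054), (10194, 9587), (10195, 9797), (10196, 10791), (10197, 9524), (10198, 10057), (10199, 9634), (10200, 10099), (10201, 9535), (10202, 10061), (10203, 10344), (10204, 10171), (10205, 10564), (10206, 10796), (10207, 9550), (10208, 10797), (10209, 9572), (10210, 9553), (10211, 10801), (10212, 10391), (10213, 9581), (10214, 9845), (10215, 9846), (10216, 10807), (10217, 9559), (10218, 9849), (10219, 10810), (10220, 10073), (10221, 10812), (10222, 10813), (10223, 10744), (10224, 10816), (10225, 9567), (10226, 9937), (10227, 10819), (10228, 10521), (10229, 9743), (10230, 10799), (10231, 9863),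 (10232, 10825), (10233, 9575), (10234, 9579), (10235, 10236), (10236, 10235), (10237, 10827), (10238, 10734), (10239, 10833)]
    ⟨e3 q10176 (flp_e L179386) q10370, e3 q10177 L177463 q10170, e3 q10178 (flp_e L182154) q10704, e3 q10179 L177481 q9548, e3 q10180 L182934 q10777, e3 q10181 L177501 q9768, e3 q10182 L182966 q10780, e3 q10183 L182982 q10782, e3 q10184 (flp_e L177521) q9505, e3 q10185 L177533 q9772, e3 q10186 (flp_e L182259) q10716, e3 q10187 L177549 q10042, e3 q10188 (flp_e L181016) q10561, e3 q10189 L181002 q10560, e3 q10190 L177591 q9950, e3 q10191 (flp_e L180201) q10462, e3 q10192 (flp_e L181372) q10598, e3 q10193 L177615 q10054, e3 q10194 L177636 q9587, e3 q10195 L177651 q9797, e3 q10196 L183084 q10791, e3 q10197 (flp_e L177663) q9524, e3 q10198 L177682 q10057, e3 q10199 L177695 q9634, e3 q10200 L177709 q10099, e3 q10201 (flp_e L177717) q9535, e3 q10202 L177735 q10061, e3 q10203 (flp_e L179140) q10344, e3 q10204 L177766 q10171, e3 q10205 (flp_e L181052) q10564, e3 q10206 L183151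 q10796, e3 q10207 L177804 q9550, e3 q10208 (flp_e L183167) q10797, e3 q10209 L177830 q9572, e3 q10210 L177842 q9553, e3 q10211 L183211 q10801, e3 q10212 (flp_e L179570) q10391, e3 q10213 L177872 q9581, e3 q10214 L177882 q9845, e3 q10215 L177892 q9846, e3 q10216 L183258 q10807, e3 q10217 (flp_e L177900) q9559, e3 q10218 L177910 q9849, e3 q10219 L183281 q10810, e3 q10220 L177931 q10073, e3 q10221 L183305 q10812, e3 q10222 L183317 q10813, e3 q10223 (flp_e L182589) q10744, e3 q10224 L183351 q10816, e3 q10225 (flp_e L177979) q9567, e3 q10226 L177989 q9937, e3 q10227 L183382 q10819, e3 q10228 (flp_e L180717) q10521, e3 q10229 L178032 q9743, e3 q10230 (flp_e L183193) q10799, e3 q10231 L178054 q9863, e3 q10232 L183452 q10825, e3 q10233 (flp_e L178072) q9575, e3 q10234 L178083 q9579, e3 q10235 (flp_e L178103) q10236, e3 q10236 L178103 q10235, e3 q10237 (flp_e L183475) q10827, e3 q10238 (flp_e L182468) q10734, e3 q10239 L183518 q10833, trivial⟩ (by decide +kernel)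

theorem ce_e_160 : ∀ r, r < 64 → sm ge (Qf (10240 + r)) = Qf (tab Gen.e (10240 + r)) :=
  edges_tab (sm ge) Qf (tab Gen.e) 10240 [(10240, 9872), (10241, 10836), (10242, 10838), (10243, 9584), (10244, 9875), (10245, 10789), (10246, 9798), (10247, 10252), (10248, 10845), (10249, 9591), (10250, 9671), (10251, 10847), (10252, 10247), (10253, 10850), (10254, 9596), (10255, 10473), (10256, 10615), (10257, 10855), (10258, 9724), (10259, 10858), (10260, 10860), (10261, 9602), (10262, 10846), (10263, 10864), (10264, 9605), (10265, 9943), (10266, 10274), (10267, 9809), (10268, 10377), (10269, 9891), (10270, 10870), (10271, 9612), (10272, 9616), (10273, 10492), (10274, 10266), (10275, 10872), (10276, 10444), (10277, 10878), (10278, 9900), (10279, 10881), (10280, 10883), (10281, 9621), (10282, 9904), (10283, 9626), (10284, 10502), (10285, 10501), (10286, 10890), (10287, 10892), (10288, 10894), (10289, 9628), (10290, 10896), (10291, 10898), (10292, 9630), (10293, 10901), (10294, 9631), (10295, 10899),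 (10296, 9918), (10297, 9796), (10298, 10101), (10299, 10600), (10300, 10905), (10301, 10360), (10302, 10908), (10303, 9639)]
    ⟨e3 q10240 L178131 q9872, e3 q10241 L183542 q10836, e3 q10242 L183556 q10838, e3 q10243 (flp_e L178151) q9584, e3 q10244 L178163 q9875, e3 q10245 (flp_e L183058) q10789, e3 q10246 L178174 q9798, e3 q10247 (flp_e L178244) q10252, e3 q10248 L183632 q10845, e3 q10249 (flp_e L178202) q9591, e3 q10250 L178212 q9671, e3 q10251 L183650 q10847, e3 q10252 L178244 q10247, e3 q10253 L183688 q10850, e3 q10254 (flp_e L178262) q9596, e3 q10255 (flp_e L180333) q10473, e3 q10256 (flp_e L181546) q10615, e3 q10257 L183740 q10855, e3 q10258 L178310 q9724, e3 q10259 L183772 q10858, e3 q10260 L183788 q10860, e3 q10261 (flp_e L178334) q9602, e3 q10262 (flp_e L183648) q10846, e3 q10263 L183822 q10864, e3 q10264 (flp_e L178356) q9605, e3 q10265 L178374 q9943, e3 q10266 (flp_e L178474) q10274, e3 q10267 L178404 q9809, e3 q10268 (flp_e L179453) q10377, e3 q10269 L178423 q9891, e3 q10270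 L183892 q10870, e3 q10271 (flp_e L178439) q9612, e3 q10272 L178450 q9616, e3 q10273 (flp_e L180475) q10492, e3 q10274 L178474 q10266, e3 q10275 (flp_e L183913) q10872, e3 q10276 (flp_e L180066) q10444, e3 q10277 L183962 q10878, e3 q10278 L178506 q9900, e3 q10279 L183986 q10881, e3 q10280 L184000 q10883, e3 q10281 (flp_e L178524) q9621, e3 q10282 L178534 q9904, e3 q10283 L178540 q9626, e3 q10284 (flp_e L180561) q10502, e3 q10285 (flp_e L180551) q10501, e3 q10286 L184040 q10890, e3 q10287 L184050 q10892, e3 q10288 L184060 q10894, e3 q10289 (flp_e L178572) q9628, e3 q10290 L184070 q10896, e3 q10291 L184086 q10898, e3 q10292 (flp_e L178586) q9630, e3 q10293 L184102 q10901, e3 q10294 (flp_e L178594) q9631, e3 q10295 (flp_e L184094) q10899, e3 q10296 L178608 q9918, e3 q10297 L178612 q9796, e3 q10298 L178628 q10101, e3 q10299 (flp_e L181399) q10600, e3 q10300 L184128 q10905, e3 q10301 (flp_e L179286) q10360, e3 q10302 L184156 q10908, e3 q10303 (flp_e L178673) q9639, trivial⟩ (by decide +kernel)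

theorem ce_e_161 : ∀ r, r < 64 → sm ge (Qf (10304 + r)) = Qf (tab Gen.e (10304 + r)) :=
  edges_tab (sm ge) Qf (tab Gen.e) 10304 [(10304, 10597), (10305, 9990), (10306, 9641), (10307, 10647), (10308, 10648), (10309, 10649), (10310, 10913), (10311, 9648), (10312, 10915), (10313, 9649), (10314, 10434), (10315, 10917), (10316, 9653), (10317, 9792), (10318, 9699), (10319, 9790), (10320, 9795), (10321, 9826), (10322, 9789), (10323, 9939), (10324, 10755), (10325, 10062), (10326, 10920), (10327, 9670), (10328, 9791), (10329, 9683), (10330, 9686), (10331, 10122), (10332, 10922), (10333, 9689), (10334, 10925), (10335, 9691), (10336, 10928), (10337, 10929), (10338, 9693), (10339, 10931), (10340, 9695), (10341, 10040), (10342, 10041), (10343, 10098), (10344, 10203), (10345, 10423), (10346, 10661), (10347, 9707), (10348, 10938), (10349, 9710), (10350, 10939), (10351, 10022), (10352, 9713), (10353, 10944), (10354, 9731), (10355, 9732), (10356, 10727), (10357, 10949), (10358, 9718), (10359, 10952), (10360,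 10301), (10361, 10954), (10362, 10956), (10363, 9723), (10364, 10959), (10365, 10664), (10366, 10961), (10367, 10962)]
    ⟨e3 q10304 (flp_e L181364) q10597, e3 q10305 (flp_e L178701) q9990, e3 q10306 (flp_e L178703) q9641, e3 q10307 (flp_e L181775) q10647, e3 q10308 (flp_e L181788) q10648, e3 q10309 (flp_e L181795) q10649, e3 q10310 L184201 q10913, e3 q10311 (flp_e L178746) q9648, e3 q10312 L184219 q10915, e3 q10313 (flp_e L178763) q9649, e3 q10314 (flp_e L179985) q10434, e3 q10315 L184230 q10917, e3 q10316 (flp_e L178789) q9653, e3 q10317 L178801 q9792, e3 q10318 L178816 q9699, e3 q10319 L178830 q9790, e3 q10320 L178845 q9795, e3 q10321 L178860 q9826, e3 q10322 L178873 q9789, e3 q10323 L178888 q9939, e3 q10324 (flp_e L182707) q10755, e3 q10325 L178921 q10062, e3 q10326 L184268 q10920, e3 q10327 (flp_e L178929) q9670, e3 q10328 L178946 q9791, e3 q10329 L178958 q9683, e3 q10330 (flp_e L178968) q9686, e3 q10331 L178986 q10122, e3 q10332 L184295 q10922, e3 q10333 (flp_e L179007) q9689, e3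 q10334 L184335 q10925, e3 q10335 (flp_e L179029) q9691, e3 q10336 L184371 q10928, e3 q10337 L184379 q10929, e3 q10338 (flp_e L179063) q9693, e3 q10339 L184395 q10931, e3 q10340 (flp_e L179081) q9695, e3 q10341 L179101 q10040, e3 q10342 L179107 q10041, e3 q10343 L179121 q10098, e3 q10344 L179140 q10203, e3 q10345 (flp_e L179861) q10423, e3 q10346 (flp_e L181892) q10661, e3 q10347 L179167 q9707, e3 q10348 L184473 q10938, e3 q10349 L179188 q9710, e3 q10350 (flp_e L184490) q10939, e3 q10351 L179212 q10022, e3 q10352 L179221 q9713, e3 q10353 L184532 q10944, e3 q10354 L179239 q9731, e3 q10355 L179251 q9732, e3 q10356 (flp_e L182390) q10727, e3 q10357 L184576 q10949, e3 q10358 (flp_e L179267) q9718, e3 q10359 L184596 q10952, e3 q10360 L179286 q10301, e3 q10361 L184614 q10954, e3 q10362 L184634 q10956, e3 q10363 (flp_e L179312) q9723, e3 q10364 L184666 q10959, e3 q10365 (flp_e L181915) q10664, e3 q10366 L184686 q10961, e3 q10367 L184698 q10962, trivial⟩ (by decide +kernel)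

theorem ce_e_162 : ∀ r, r < 64 → sm ge (Qf (10368 + r)) = Qf (tab Gen.e (10368 + r)) :=
  edges_tab (sm ge) Qf (tab Gen.e) 10368 [(10368, 9727), (10369, 9730), (10370, 10176), (10371, 10964), (10372, 10945), (10373, 10968), (10374, 10969), (10375, 9734), (10376, 10749), (10377, 10268), (10378, 10974), (10379, 9738), (10380, 10083), (10381, 10392), (10382, 10978), (10383, 10979), (10384, 9742), (10385, 10821), (10386, 10523), (10387, 10983), (10388, 10984), (10389, 9747), (10390, 10975), (10391, 10212), (10392, 10381), (10393, 10990), (10394, 10991), (10395, 9752), (10396, 9755), (10397, 10150), (10398, 10993), (10399, 10628), (10400, 10998), (10401, 11000), (10402, 11001), (10403, 9759), (10404, 9760), (10405, 10771), (10406, 9765), (10407, 10408), (10408, 10407), (10409, 11010), (10410, 11012), (10411, 11013), (10412, 9767), (10413, 11015), (10414, 11016), (10415, 9769), (10416, 9770), (10417, 11017), (10418, 10784), (10419, 9777), (10420, 10045), (10421, 10044), (10422, 9824), (10423,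 10345), (10424, 11021), (10425, 9783), (10426, 9784), (10427, 10918), (10428, 10841), (10429, 10818), (10430, 9793), (10431, 10842)]
    ⟨e3 q10368 (flp_e L179358) q9727, e3 q10369 L179370 q9730, e3 q10370 L179386 q10176, e3 q10371 (flp_e L184716) q10964, e3 q10372 (flp_e L184546) q10945, e3 q10373 L184762 q10968, e3 q10374 L184772 q10969, e3 q10375 (flp_e L179430) q9734, e3 q10376 (flp_e L182637) q10749, e3 q10377 L179453 q10268, e3 q10378 L184810 q10974, e3 q10379 (flp_e L179459) q9738, e3 q10380 L179469 q10083, e3 q10381 (flp_e L179583) q10392, e3 q10382 L184846 q10978, e3 q10383 L184858 q10979, e3 q10384 (flp_e L179501) q9742, e3 q10385 (flp_e L183412) q10821, e3 q10386 (flp_e L180737) q10523, e3 q10387 L184894 q10983, e3 q10388 L184904 q10984, e3 q10389 (flp_e L179547) q9747, e3 q10390 (flp_e L184822) q10975, e3 q10391 L179570 q10212, e3 q10392 L179583 q10381, e3 q10393 L184963 q10990, e3 q10394 L184973 q10991, e3 q10395 (flp_e L179605) q9752, e3 q10396 L179624 q9755, e3 q10397 L179637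 q10150, e3 q10398 (flp_e L184998) q10993, e3 q10399 (flp_e L181642) q10628, e3 q10400 L185040 q10998, e3 q10401 L185056 q11000, e3 q10402 L185060 q11001, e3 q10403 (flp_e L179677) q9759, e3 q10404 (flp_e L179683) q9760, e3 q10405 (flp_e L182882) q10771, e3 q10406 L179697 q9765, e3 q10407 (flp_e L179715) q10408, e3 q10408 L179715 q10407, e3 q10409 L185122 q11010, e3 q10410 L185142 q11012, e3 q10411 L185148 q11013, e3 q10412 (flp_e L179749) q9767, e3 q10413 L185166 q11015, e3 q10414 L185172 q11016, e3 q10415 (flp_e L179773) q9769, e3 q10416 (flp_e L179777) q9770, e3 q10417 (flp_e L185186) q11017, e3 q10418 (flp_e L183002) q10784, e3 q10419 L179806 q9777, e3 q10420 L179817 q10045, e3 q10421 L179832 q10044, e3 q10422 L179853 q9824, e3 q10423 L179861 q10345, e3 q10424 L185218 q11021, e3 q10425 (flp_e L179881) q9783, e3 q10426 (flp_e L179894) q9784, e3 q10427 (flp_e L184240) q10918, e3 q10428 (flp_e L183580) q10841, e3 q10429 (flp_e L183369) q10818, e3 q10430 (flp_e L179939) q9793, e3 q10431 (flp_e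 L183597) q10842, trivial⟩ (by decide +kernel)

theorem ce_e_163 : ∀ r, r < 64 → sm ge (Qf (10432 + r)) = Qf (tab Gen.e (10432 + r)) :=
  edges_tab (sm ge) Qf (tab Gen.e) 10432 [(10432, 10790), (10433, 11003), (10434, 10314), (10435, 10660), (10436, 11027), (10437, 11029), (10438, 9804), (10439, 9851), (10440, 9806), (10441, 10082), (10442, 10851), (10443, 10866), (10444, 10276), (10445, 11037), (10446, 11039), (10447, 11040), (10448, 9813), (10449, 9885), (10450, 9817), (10451, 10762), (10452, 11045), (10453, 11046), (10454, 9819), (10455, 9820), (10456, 11048), (10457, 10097), (10458, 10750), (10459, 9852), (10460, 11051), (10461, 9829), (10462, 10191), (10463, 9855), (10464, 9833), (10465, 11056), (10466, 10487), (10467, 9861), (10468, 9862), (10469, 9930), (10470, 11062), (10471, 9839), (10472, 9842), (10473, 10255), (10474, 11064), (10475, 9870), (10476, 11069), (10477, 10804), (10478, 11072), (10479, 11074), (10480, 9847), (10481, 10808), (10482, 10574), (10483, 11079), (10484, 9850),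 (10485, 10587), (10486, 11031), (10487, 10466), (10488, 11054), (10489, 11085), (10490, 9857), (10491, 9860), (10492, 10273), (10493, 11087), (10494, 11058), (10495, 11092)]
    ⟨e3 q10432 (flp_e L183073) q10790, e3 q10433 (flp_e L185076) q11003, e3 q10434 L179985 q10314, e3 q10435 (flp_e L181883) q10660, e3 q10436 L185277 q11027, e3 q10437 L185297 q11029, e3 q10438 (flp_e L180010) q9804, e3 q10439 L180022 q9851, e3 q10440 (flp_e L180030) q9806, e3 q10441 L180042 q10082, e3 q10442 (flp_e L183708) q10851, e3 q10443 (flp_e L183856) q10866, e3 q10444 L180066 q10276, e3 q10445 L185372 q11037, e3 q10446 L185386 q11039, e3 q10447 L185392 q11040, e3 q10448 (flp_e L180090) q9813, e3 q10449 L180102 q9885, e3 q10450 L180108 q9817, e3 q10451 (flp_e L182786) q10762, e3 q10452 L185434 q11045, e3 q10453 L185438 q11046, e3 q10454 (flp_e L180142) q9819, e3 q10455 (flp_e L180148) q9820, e3 q10456 (flp_e L185460) q11048, e3 q10457 L180160 q10097, e3 q10458 (flp_e L182643) q10750, e3 q10459 L180177 q9852,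 e3 q10460 L185476 q11051, e3 q10461 (flp_e L180189) q9829, e3 q10462 L180201 q10191, e3 q10463 L180216 q9855, e3 q10464 L180226 q9833, e3 q10465 L185519 q11056, e3 q10466 (flp_e L180428) q10487, e3 q10467 L180264 q9861, e3 q10468 L180275 q9862, e3 q10469 L180285 q9930, e3 q10470 L185581 q11062, e3 q10471 (flp_e L180299) q9839, e3 q10472 L180317 q9842, e3 q10473 L180333 q10255, e3 q10474 (flp_e L185605) q11064, e3 q10475 L180351 q9870, e3 q10476 L185647 q11069, e3 q10477 (flp_e L183240) q10804, e3 q10478 L185669 q11072, e3 q10479 L185675 q11074, e3 q10480 (flp_e L180377) q9847, e3 q10481 (flp_e L183268) q10808, e3 q10482 (flp_e L181143) q10574, e3 q10483 L185705 q11079, e3 q10484 (flp_e L180401) q9850, e3 q10485 (flp_e L181272) q10587, e3 q10486 (flp_e L185325) q11031, e3 q10487 L180428 q10466, e3 q10488 (flp_e L185507) q11054, e3 q10489 L185760 q11085, e3 q10490 (flp_e L180447) q9857, e3 q10491 L180460 q9860, e3 q10492 L180475 q10273, e3 q10493 (flp_e L185781) q11087, e3 q10494 (flp_e L185549)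 q11058, e3 q10495 L185829 q11092, trivial⟩ (by decide +kernel)

theorem ce_e_164 : ∀ r, r < 64 → sm ge (Qf (10496 + r)) = Qf (tab Gen.e (10496 + r)) :=
  edges_tab (sm ge) Qf (tab Gen.e) 10496 [(10496, 11094), (10497, 11095), (10498, 9864), (10499, 10826), (10500, 9869), (10501, 10285), (10502, 10284), (10503, 11101), (10504, 11102), (10505, 9871), (10506, 11104), (10507, 9873), (10508, 11105), (10509, 10840), (10510, 9879), (10511, 10086), (10512, 10085), (10513, 11110), (10514, 11111), (10515, 9881), (10516, 11113), (10517, 9883), (10518, 11114), (10519, 11042), (10520, 9888), (10521, 10228), (10522, 11116), (10523, 10386), (10524, 11121), (10525, 11123), (10526, 11125), (10527, 9892), (10528, 10871), (10529, 9897), (10530, 10531), (10531, 10530), (10532, 11132), (10533, 11134), (10534, 11136), (10535, 9899), (10536, 11138), (10537, 11139), (10538, 9901), (10539, 11141), (10540, 9902), (10541, 11140), (10542, 10885), (10543, 11145), (10544, 11146), (10545, 11147), (10546, 11148), (10547,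 9908), (10548, 11150), (10549, 9909), (10550, 11152), (10551, 9910), (10552, 11149), (10553, 9912), (10554, 9913), (10555, 9917), (10556, 9915), (10557, 11157), (10558, 11158), (10559, 10719)]
    ⟨e3 q10496 L185845 q11094, e3 q10497 L185851 q11095, e3 q10498 (flp_e L180521) q9864, e3 q10499 (flp_e L183470) q10826, e3 q10500 L180541 q9869, e3 q10501 L180551 q10285, e3 q10502 L180561 q10284, e3 q10503 L185899 q11101, e3 q10504 L185903 q11102, e3 q10505 (flp_e L180581) q9871, e3 q10506 L185913 q11104, e3 q10507 (flp_e L180591) q9873, e3 q10508 (flp_e L185923) q11105, e3 q10509 (flp_e L183574) q10840, e3 q10510 L180611 q9879, e3 q10511 L180623 q10086, e3 q10512 L180637 q10085, e3 q10513 L185961 q11110, e3 q10514 L185967 q11111, e3 q10515 (flp_e L180661) q9881, e3 q10516 L185981 q11113, e3 q10517 (flp_e L180677) q9883, e3 q10518 (flp_e L185991) q11114, e3 q10519 (flp_e L185406) q11042, e3 q10520 L180703 q9888, e3 q10521 L180717 q10228, e3 q10522 (flp_e L186009) q11116, e3 q10523 L180737 q10386,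 e3 q10524 L186057 q11121, e3 q10525 L186075 q11123, e3 q10526 L186085 q11125, e3 q10527 (flp_e L180765) q9892, e3 q10528 (flp_e L183906) q10871, e3 q10529 L180785 q9897, e3 q10530 (flp_e L180807) q10531, e3 q10531 L180807 q10530, e3 q10532 L186145 q11132, e3 q10533 L186159 q11134, e3 q10534 L186181 q11136, e3 q10535 (flp_e L180839) q9899, e3 q10536 L186197 q11138, e3 q10537 L186203 q11139, e3 q10538 (flp_e L180863) q9901, e3 q10539 L186213 q11141, e3 q10540 (flp_e L180875) q9902, e3 q10541 (flp_e L186211) q11140, e3 q10542 (flp_e L184014) q10885, e3 q10543 L186245 q11145, e3 q10544 L186249 q11146, e3 q10545 L186257 q11147, e3 q10546 L186265 q11148, e3 q10547 (flp_e L180923) q9908, e3 q10548 L186281 q11150, e3 q10549 (flp_e L180933) q9909, e3 q10550 L186291 q11152, e3 q10551 (flp_e L180945) q9910, e3 q10552 (flp_e L186279) q11149, e3 q10553 (flp_e L180955) q9912, e3 q10554 (flp_e L180959) q9913, e3 q10555 L180965 q9917, e3 q10556 (flp_e L180967) q9915, e3 q10557 (flp_e L186317) q11157, e3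 q10558 (flp_e L186321) q11158, e3 q10559 (flp_e L182290) q10719, trivial⟩ (by decide +kernel)

theorem ce_e_165 : ∀ r, r < 64 → sm ge (Qf (10560 + r)) = Qf (tab Gen.e (10560 + r)) :=
  edges_tab (sm ge) Qf (tab Gen.e) 10560 [(10560, 10189), (10561, 10188), (10562, 9922), (10563, 9923), (10564, 10205), (10565, 11153), (10566, 10737), (10567, 11162), (10568, 9936), (10569, 10863), (10570, 9941), (10571, 10586), (10572, 10786), (10573, 10585), (10574, 10482), (10575, 10579), (10576, 9960), (10577, 10578), (10578, 10577), (10579, 10575), (10580, 10602), (10581, 10603), (10582, 10611), (10583, 10609), (10584, 10606), (10585, 10573), (10586, 10571), (10587, 10485), (10588, 11173), (10589, 9970), (10590, 11174), (10591, 9971), (10592, 9975), (10593, 10607), (10594, 9981), (10595, 11177), (10596, 9992), (10597, 10304), (10598, 10192), (10599, 9999), (10600, 10299), (10601, 11166), (10602, 10580), (10603, 10581), (10604, 11185), (10605, 10002), (10606, 10584), (10607, 10593), (10608, 10004), (10609,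 10583), (10610, 11020), (10611, 10582), (10612, 10014), (10613, 11190), (10614, 10023), (10615, 10256), (10616, 11194), (10617, 10018), (10618, 11197), (10619, 10731), (10620, 11199), (10621, 10021), (10622, 10941), (10623, 11203)]
    ⟨e3 q10560 (flp_e L181002) q10189, e3 q10561 L181016 q10188, e3 q10562 (flp_e L181020) q9922, e3 q10563 (flp_e L181034) q9923, e3 q10564 L181052 q10205, e3 q10565 (flp_e L186299) q11153, e3 q10566 (flp_e L182502) q10737, e3 q10567 (flp_e L186340) q11162, e3 q10568 (flp_e L181082) q9936, e3 q10569 L183820 q10863, e3 q10570 L181107 q9941, e3 q10571 (flp_e L181266) q10586, e3 q10572 (flp_e L183024) q10786, e3 q10573 (flp_e L181253) q10585, e3 q10574 L181143 q10482, e3 q10575 L181198 q10579, e3 q10576 L181161 q9960, e3 q10577 (flp_e L181181) q10578, e3 q10578 L181181 q10577, e3 q10579 (flp_e L181198) q10575, e3 q10580 (flp_e L181425) q10602, e3 q10581 (flp_e L181432) q10603, e3 q10582 (flp_e L181504) q10611, e3 q10583 (flp_e L181490) q10609, e3 q10584 (flp_e L181462)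 q10606, e3 q10585 L181253 q10573, e3 q10586 L181266 q10571, e3 q10587 L181272 q10485, e3 q10588 L186460 q11173, e3 q10589 (flp_e L181287) q9970, e3 q10590 L186469 q11174, e3 q10591 (flp_e L181308) q9971, e3 q10592 (flp_e L181316) q9975, e3 q10593 L181473 q10607, e3 q10594 (flp_e L181332) q9981, e3 q10595 L186499 q11177, e3 q10596 (flp_e L181351) q9992, e3 q10597 L181364 q10304, e3 q10598 L181372 q10192, e3 q10599 L181386 q9999, e3 q10600 L181399 q10299, e3 q10601 (flp_e L186385) q11166, e3 q10602 L181425 q10580, e3 q10603 L181432 q10581, e3 q10604 L186581 q11185, e3 q10605 (flp_e L181447) q10002, e3 q10606 L181462 q10584, e3 q10607 (flp_e L181473) q10593, e3 q10608 (flp_e L181475) q10004, e3 q10609 L181490 q10583, e3 q10610 (flp_e L185215) q11020, e3 q10611 L181504 q10582, e3 q10612 L181517 q10014, e3 q10613 L186622 q11190, e3 q10614 L181534 q10023, e3 q10615 L181546 q10256, e3 q10616 L186658 q11194, e3 q10617 (flp_e L181558) q10018, e3 q10618 L186683 q11197, e3 q10619 (flp_e L182428) q10731,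 e3 q10620 L186699 q11199, e3 q10621 (flp_e L181589) q10021, e3 q10622 (flp_e L184517) q10941, e3 q10623 L186726 q11203, trivial⟩ (by decide +kernel)

theorem ce_e_166 : ∀ r, r < 64 → sm ge (Qf (10624 + r)) = Qf (tab Gen.e (10624 + r)) :=
  edges_tab (sm ge) Qf (tab Gen.e) 10624 [(10624, 11205), (10625, 10024), (10626, 10923), (10627, 10751), (10628, 10399), (10629, 11210), (10630, 11212), (10631, 10029), (10632, 10030), (10633, 10930), (10634, 10034), (10635, 10739), (10636, 11220), (10637, 11222), (10638, 11224), (10639, 10036), (10640, 11226), (10641, 10037), (10642, 11229), (10643, 10038), (10644, 11227), (10645, 10933), (10646, 10785), (10647, 10307), (10648, 10308), (10649, 10309), (10650, 11234), (10651, 10047), (10652, 11236), (10653, 10048), (10654, 11238), (10655, 10052), (10656, 10055), (10657, 10919), (10658, 10058), (10659, 11214), (10660, 10435), (10661, 10346), (10662, 10077), (10663, 11246), (10664, 10365), (10665, 11249), (10666, 11251), (10667, 10069), (10668, 11030), (10669,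 10717), (10670, 11256), (10671, 10072), (10672, 10811), (10673, 10076), (10674, 10723), (10675, 11261), (10676, 11263), (10677, 11264), (10678, 10078), (10679, 11266), (10680, 10079), (10681, 10080), (10682, 11267), (10683, 11032), (10684, 11271), (10685, 11273), (10686, 11275), (10687, 11277)]
    ⟨e3 q10624 L186738 q11205, e3 q10625 (flp_e L181616) q10024, e3 q10626 (flp_e L184319) q10923, e3 q10627 (flp_e L182656) q10751, e3 q10628 L181642 q10399, e3 q10629 L186771 q11210, e3 q10630 L186785 q11212, e3 q10631 (flp_e L181656) q10029, e3 q10632 (flp_e L181662) q10030, e3 q10633 (flp_e L184393) q10930, e3 q10634 L181680 q10034, e3 q10635 (flp_e L182533) q10739, e3 q10636 L186839 q11220, e3 q10637 L186853 q11222, e3 q10638 L186867 q11224, e3 q10639 (flp_e L181716) q10036, e3 q10640 L186883 q11226, e3 q10641 (flp_e L181732) q10037, e3 q10642 L186903 q11229, e3 q10643 (flp_e L181740) q10038, e3 q10644 (flp_e L186893) q11227, e3 q10645 (flp_e L184425) q10933, e3 q10646 (flp_e L183008) q10785,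 e3 q10647 L181775 q10307, e3 q10648 L181788 q10308, e3 q10649 L181795 q10309, e3 q10650 L186936 q11234, e3 q10651 (flp_e L181808) q10047, e3 q10652 L186958 q11236, e3 q10653 (flp_e L181827) q10048, e3 q10654 L186981 q11238, e3 q10655 (flp_e L181849) q10052, e3 q10656 (flp_e L181861) q10055, e3 q10657 (flp_e L184257) q10919, e3 q10658 (flp_e L181873) q10058, e3 q10659 (flp_e L186797) q11214, e3 q10660 L181883 q10435, e3 q10661 L181892 q10346, e3 q10662 L181901 q10077, e3 q10663 L187038 q11246, e3 q10664 L181915 q10365, e3 q10665 L187062 q11249, e3 q10666 L187076 q11251, e3 q10667 (flp_e L181935) q10069, e3 q10668 (flp_e L185317) q11030, e3 q10669 (flp_e L182271) q10717, e3 q10670 L187114 q11256, e3 q10671 (flp_e L181965) q10072, e3 q10672 (flp_e L183296) q10811, e3 q10673 L181988 q10076, e3 q10674 (flp_e L182336) q10723, e3 q10675 L187159 q11261, e3 q10676 L187170 q11263, e3 q10677 L187176 q11264, e3 q10678 (flp_e L182018) q10078, e3 q10679 L187186 q11266, e3 q10680 (flp_e L182030) q10079,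 e3 q10681 (flp_e L182034) q10080, e3 q10682 (flp_e L187196) q11267, e3 q10683 (flp_e L185331) q11032, e3 q10684 L187220 q11271, e3 q10685 L187232 q11273, e3 q10686 L187246 q11275, e3 q10687 L187258 q11277, trivial⟩ (by decide +kernel)

theorem ce_e_167 : ∀ r, r < 64 → sm ge (Qf (10688 + r)) = Qf (tab Gen.e (10688 + r)) :=
  edges_tab (sm ge) Qf (tab Gen.e) 10688 [(10688, 10087), (10689, 11280), (10690, 10088), (10691, 11283), (10692, 10089), (10693, 11278), (10694, 11287), (10695, 10091), (10696, 11289), (10697, 10092), (10698, 10096), (10699, 11293), (10700, 10094), (10701, 11291), (10702, 11292), (10703, 11290), (10704, 10178), (10705, 10708), (10706, 11298), (10707, 10104), (10708, 10705), (10709, 10105), (10710, 11301), (10711, 10107), (10712, 11303), (10713, 10109), (10714, 11284), (10715, 10114), (10716, 10186), (10717, 10669), (10718, 10921), (10719, 10559), (10720, 11306), (10721, 10126), (10722, 10128), (10723, 10674), (10724, 10133), (10725, 11310), (10726, 10152), (10727, 10356),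 (10728, 11314), (10729, 10137), (10730, 11317), (10731, 10619), (10732, 11319), (10733, 11321), (10734, 10238), (10735, 11324), (10736, 10144), (10737, 10566), (10738, 11327), (10739, 10635), (10740, 11329), (10741, 11330), (10742, 10149), (10743, 10994), (10744, 10223), (10745, 11335), (10746, 11337), (10747, 11339), (10748, 10154), (10749, 10376), (10750, 10458), (10751, 10627)]
    ⟨e3 q10688 (flp_e L182074) q10087, e3 q10689 L187276 q11280, e3 q10690 (flp_e L182084) q10088, e3 q10691 L187294 q11283, e3 q10692 (flp_e L182096) q10089, e3 q10693 (flp_e L187268) q11278, e3 q10694 L187318 q11287, e3 q10695 (flp_e L182114) q10091, e3 q10696 L187326 q11289, e3 q10697 (flp_e L182124) q10092, e3 q10698 L182130 q10096, e3 q10699 L187344 q11293, e3 q10700 (flp_e L182136) q10094, e3 q10701 (flp_e L187338) q11291, e3 q10702 (flp_e L187342) q11292, e3 q10703 (flp_e L187332) q11290, e3 q10704 L182154 q10178, e3 q10705 L182194 q10708, e3 q10706 L187385 q11298, e3 q10707 (flp_e L182173) q10104, e3 q10708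 (flp_e L182194) q10705, e3 q10709 (flp_e L182196) q10105, e3 q10710 L187423 q11301, e3 q10711 (flp_e L182217) q10107, e3 q10712 L187442 q11303, e3 q10713 (flp_e L182232) q10109, e3 q10714 (flp_e L187304) q11284, e3 q10715 (flp_e L182244) q10114, e3 q10716 L182259 q10186, e3 q10717 L182271 q10669, e3 q10718 (flp_e L184287) q10921, e3 q10719 L182290 q10559, e3 q10720 L187468 q11306, e3 q10721 (flp_e L182311) q10126, e3 q10722 (flp_e L182322) q10128, e3 q10723 L182336 q10674, e3 q10724 L182351 q10133, e3 q10725 L187517 q11310, e3 q10726 L182374 q10152, e3 q10727 L182390 q10356, e3 q10728 L187559 q11314, e3 q10729 (flp_e L182404) q10137, e3 q10730 L187590 q11317, e3 q10731 L182428 q10619, e3 q10732 L187614 q11319, e3 q10733 L187642 q11321, e3 q10734 L182468 q10238, e3 q10735 L187682 q11324, e3 q10736 (flp_e L182488) q10144, e3 q10737 L182502 q10566, e3 q10738 L187716 q11327, e3 q10739 L182533 q10635, e3 q10740 L187744 q11329, e3 q10741 L187758 q11330, e3 q10742 (flp_e L182565) q10149, e3 q10743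 (flp_e L185011) q10994, e3 q10744 L182589 q10223, e3 q10745 L187805 q11335, e3 q10746 L187825 q11337, e3 q10747 L187851 q11339, e3 q10748 (flp_e L182621) q10154, e3 q10749 L182637 q10376, e3 q10750 L182643 q10458, e3 q10751 L182656 q10627, trivial⟩ (by decide +kernel)

theorem ce_e_168 : ∀ r, r < 64 → sm ge (Qf (10752 + r)) = Qf (tab Gen.e (10752 + r)) :=
  edges_tab (sm ge) Qf (tab Gen.e) 10752 [(10752, 11342), (10753, 11344), (10754, 10160), (10755, 10324), (10756, 11346), (10757, 11347), (10758, 10163), (10759, 11349), (10760, 10164), (10761, 11345), (10762, 10451), (10763, 11353), (10764, 11354), (10765, 10169), (10766, 10773), (10767, 11357), (10768, 11358), (10769, 10173), (10770, 10174), (10771, 10405), (10772, 10965), (10773, 10766), (10774, 11365), (10775, 11367), (10776, 11369), (10777, 10180), (10778, 11371), (10779, 11372), (10780, 10182), (10781, 11375), (10782, 10183), (10783, 11373), (10784, 10418), (10785, 10646), (10786, 10572), (10787, 11053), (10788, 11179), (10789, 10245),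 (10790, 10432), (10791, 10196), (10792, 11360), (10793, 10934), (10794, 11381), (10795, 11382), (10796, 10206), (10797, 10208), (10798, 11385), (10799, 10230), (10800, 11387), (10801, 10211), (10802, 10987), (10803, 11391), (10804, 10477), (10805, 11394), (10806, 11396), (10807, 10216), (10808, 10481), (10809, 11399), (10810, 10219), (10811, 10672), (10812, 10221), (10813, 10222), (10814, 11404), (10815, 11406)]
    ⟨e3 q10752 L187879 q11342, e3 q10753 L187907 q11344, e3 q10754 (flp_e L182695) q10160, e3 q10755 L182707 q10324, e3 q10756 L187927 q11346, e3 q10757 L187941 q11347, e3 q10758 (flp_e L182742) q10163, e3 q10759 L187957 q11349, e3 q10760 (flp_e L182762) q10164, e3 q10761 (flp_e L187925) q11345, e3 q10762 L182786 q10451, e3 q10763 L188003 q11353, e3 q10764 L188017 q11354, e3 q10765 (flp_e L182818) q10169, e3 q10766 (flp_e L182904) q10773, e3 q10767 L188051 q11357, e3 q10768 L188061 q11358, e3 q10769 (flp_e L182862) q10173, e3 q10770 (flp_e L182872) q10174, e3 q10771 L182882 q10405,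 e3 q10772 (flp_e L184732) q10965, e3 q10773 L182904 q10766, e3 q10774 L188133 q11365, e3 q10775 L188149 q11367, e3 q10776 L188171 q11369, e3 q10777 (flp_e L182934) q10180, e3 q10778 L188185 q11371, e3 q10779 L188199 q11372, e3 q10780 (flp_e L182966) q10182, e3 q10781 L188231 q11375, e3 q10782 (flp_e L182982) q10183, e3 q10783 (flp_e L188215) q11373, e3 q10784 L183002 q10418, e3 q10785 L183008 q10646, e3 q10786 L183024 q10572, e3 q10787 (flp_e L185492) q11053, e3 q10788 (flp_e L186524) q11179, e3 q10789 L183058 q10245, e3 q10790 L183073 q10432, e3 q10791 (flp_e L183084) q10196, e3 q10792 (flp_e L188093) q11360, e3 q10793 (flp_e L184437) q10934, e3 q10794 L188295 q11381, e3 q10795 L188307 q11382, e3 q10796 (flp_e L183151) q10206, e3 q10797 L183167 q10208, e3 q10798 L188343 q11385, e3 q10799 L183193 q10230, e3 q10800 L188367 q11387, e3 q10801 (flp_e L183211) q10211, e3 q10802 (flp_e L184935) q10987, e3 q10803 L188404 q11391, e3 q10804 L183240 q10477, e3 q10805 L188434 q11394, e3 q10806 L188452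 q11396, e3 q10807 (flp_e L183258) q10216, e3 q10808 L183268 q10481, e3 q10809 L188470 q11399, e3 q10810 (flp_e L183281) q10219, e3 q10811 L183296 q10672, e3 q10812 (flp_e L183305) q10221, e3 q10813 (flp_e L183317) q10222, e3 q10814 L188529 q11404, e3 q10815 L188551 q11406, trivial⟩ (by decide +kernel)

theorem ce_e_169 : ∀ r, r < 64 → sm ge (Qf (10816 + r)) = Qf (tab Gen.e (10816 + r)) :=
  edges_tab (sm ge) Qf (tab Gen.e) 10816 [(10816, 10224), (10817, 11401), (10818, 10429), (10819, 10227), (10820, 11117), (10821, 10385), (10822, 11413), (10823, 11414), (10824, 11415), (10825, 10232), (10826, 10499), (10827, 10237), (10828, 10829), (10829, 10828), (10830, 11422), (10831, 11424), (10832, 11426), (10833, 10239), (10834, 11428), (10835, 11430), (10836, 10241), (10837, 11433), (10838, 10242), (10839, 11431), (10840, 10509), (10841, 10428), (10842, 10431), (10843, 11437), (10844, 11438), (10845, 10248), (10846, 10262), (10847, 10251), (10848, 11443), (10849, 11445), (10850, 10253), (10851,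 10442), (10852, 11065), (10853, 11450), (10854, 11452), (10855, 10257), (10856, 11454), (10857, 11456), (10858, 10259), (10859, 11459), (10860, 10260), (10861, 11457), (10862, 11440), (10863, 10569), (10864, 10263), (10865, 10874), (10866, 10443), (10867, 11465), (10868, 11466), (10869, 11467), (10870, 10270), (10871, 10528), (10872, 10275), (10873, 11088), (10874, 10865), (10875, 11474), (10876, 11476), (10877, 11478), (10878, 10277), (10879, 11481)]
    ⟨e3 q10816 (flp_e L183351) q10224, e3 q10817 (flp_e L188504) q11401, e3 q10818 L183369 q10429, e3 q10819 (flp_e L183382) q10227, e3 q10820 (flp_e L186023) q11117, e3 q10821 L183412 q10385, e3 q10822 L188625 q11413, e3 q10823 L188635 q11414, e3 q10824 L188647 q11415, e3 q10825 (flp_e L183452) q10232, e3 q10826 L183470 q10499, e3 q10827 L183475 q10237, e3 q10828 (flp_e L183493) q10829, e3 q10829 L183493 q10828, e3 q10830 L188714 q11422, e3 q10831 L188725 q11424, e3 q10832 L188738 q11426, e3 q10833 (flp_e L183518) q10239, e3 q10834 L188748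 q11428, e3 q10835 L188774 q11430, e3 q10836 (flp_e L183542) q10241, e3 q10837 L188802 q11433, e3 q10838 (flp_e L183556) q10242, e3 q10839 (flp_e L188786) q11431, e3 q10840 L183574 q10509, e3 q10841 L183580 q10428, e3 q10842 L183597 q10431, e3 q10843 L188839 q11437, e3 q10844 L188849 q11438, e3 q10845 (flp_e L183632) q10248, e3 q10846 L183648 q10262, e3 q10847 (flp_e L183650) q10251, e3 q10848 L188906 q11443, e3 q10849 L188932 q11445, e3 q10850 (flp_e L183688) q10253, e3 q10851 L183708 q10442, e3 q10852 (flp_e L185621) q11065, e3 q10853 L188994 q11450, e3 q10854 L189010 q11452, e3 q10855 (flp_e L183740) q10257, e3 q10856 L189022 q11454, e3 q10857 L189050 q11456, e3 q10858 (flp_e L183772) q10259, e3 q10859 L189086 q11459, e3 q10860 (flp_e L183788) q10260, e3 q10861 (flp_e L189070) q11457, e3 q10862 (flp_e L188877) q11440, e3 q10863 (flp_e L183820) q10569, e3 q10864 (flp_e L183822) q10263, e3 q10865 (flp_e L183937) q10874, e3 q10866 L183856 q10443, e3 q10867 L189139 q11465, e3 q10868 L189147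 q11466, e3 q10869 L189159 q11467, e3 q10870 (flp_e L183892) q10270, e3 q10871 L183906 q10528, e3 q10872 L183913 q10275, e3 q10873 (flp_e L185796) q11088, e3 q10874 L183937 q10865, e3 q10875 L189222 q11474, e3 q10876 L189233 q11476, e3 q10877 L189246 q11478, e3 q10878 (flp_e L183962) q10277, e3 q10879 L189272 q11481, trivial⟩ (by decide +kernel)

theorem ce_e_170 : ∀ r, r < 64 → sm ge (Qf (10880 + r)) = Qf (tab Gen.e (10880 + r)) :=
  edges_tab (sm ge) Qf (tab Gen.e) 10880 [(10880, 11482), (10881, 10279), (10882, 11484), (10883, 10280), (10884, 11483), (10885, 10542), (10886, 11487), (10887, 11488), (10888, 11490), (10889, 11492), (10890, 10286), (10891, 11495), (10892, 10287), (10893, 11498), (10894, 10288), (10895, 11493), (10896, 10290), (10897, 11503), (10898, 10291), (10899, 10295), (10900, 11506), (10901, 10293), (10902, 11504), (10903, 11505), (10904, 11510), (10905, 10300), (10906, 10953), (10907, 11186), (10908, 10302), (10909, 11178), (10910, 11232), (10911, 11025), (10912, 11514),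 (10913, 10310), (10914, 11516), (10915, 10312), (10916, 11499), (10917, 10315), (10918, 10427), (10919, 10657), (10920, 10326), (10921, 10718), (10922, 10332), (10923, 10626), (10924, 11521), (10925, 10334), (10926, 11441), (10927, 11524), (10928, 10336), (10929, 10337), (10930, 10633), (10931, 10339), (10932, 11402), (10933, 10645), (10934, 10793), (10935, 11531), (10936, 11533), (10937, 11534), (10938, 10348), (10939, 10350), (10940, 11538), (10941, 10622), (10942, 11541), (10943, 11542)]
    ⟨e3 q10880 L189284 q11482, e3 q10881 (flp_e L183986) q10279, e3 q10882 L189296 q11484, e3 q10883 (flp_e L184000) q10280, e3 q10884 (flp_e L189294) q11483, e3 q10885 L184014 q10542, e3 q10886 L189316 q11487, e3 q10887 L189322 q11488, e3 q10888 L189336 q11490, e3 q10889 L189352 q11492, e3 q10890 (flp_e L184040) q10286, e3 q10891 L189370 q11495, e3 q10892 (flp_e L184050) q10287, e3 q10893 L189388 q11498, e3 q10894 (flp_e L184060) q10288, e3 q10895 (flp_e L189362) q11493, e3 q10896 (flp_e L184070) q10290,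 e3 q10897 L189414 q11503, e3 q10898 (flp_e L184086) q10291, e3 q10899 L184094 q10295, e3 q10900 L189436 q11506, e3 q10901 (flp_e L184102) q10293, e3 q10902 (flp_e L189428) q11504, e3 q10903 (flp_e L189434) q11505, e3 q10904 L189465 q11510, e3 q10905 (flp_e L184128) q10300, e3 q10906 (flp_e L184607) q10953, e3 q10907 (flp_e L186597) q11186, e3 q10908 (flp_e L184156) q10302, e3 q10909 (flp_e L186513) q11178, e3 q10910 (flp_e L186923) q11232, e3 q10911 (flp_e L185267) q11025, e3 q10912 L189506 q11514, e3 q10913 (flp_e L184201) q10310, e3 q10914 L189526 q11516, e3 q10915 (flp_e L184219) q10312, e3 q10916 (flp_e L189396) q11499, e3 q10917 (flp_e L184230) q10315, e3 q10918 L184240 q10427, e3 q10919 L184257 q10657, e3 q10920 (flp_e L184268) q10326, e3 q10921 L184287 q10718, e3 q10922 (flp_e L184295) q10332, e3 q10923 L184319 q10626, e3 q10924 L189581 q11521, e3 q10925 (flp_e L184335) q10334, e3 q10926 (flp_e L188893) q11441, e3 q10927 L189621 q11524, e3 q10928 (flp_e L184371) q10336, e3 q10929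 (flp_e L184379) q10337, e3 q10930 L184393 q10633, e3 q10931 (flp_e L184395) q10339, e3 q10932 (flp_e L188518) q11402, e3 q10933 L184425 q10645, e3 q10934 L184437 q10793, e3 q10935 L189698 q11531, e3 q10936 L189719 q11533, e3 q10937 L189729 q11534, e3 q10938 (flp_e L184473) q10348, e3 q10939 L184490 q10350, e3 q10940 L189772 q11538, e3 q10941 L184517 q10622, e3 q10942 L189797 q11541, e3 q10943 L189803 q11542, trivial⟩ (by decide +kernel)

theorem ce_e_171 : ∀ r, r < 64 → sm ge (Qf (10944 + r)) = Qf (tab Gen.e (10944 + r)) :=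
  edges_tab (sm ge) Qf (tab Gen.e) 10944 [(10944, 10353), (10945, 10372), (10946, 11545), (10947, 11547), (10948, 11549), (10949, 10357), (10950, 11315), (10951, 11553), (10952, 10359), (10953, 10906), (10954, 10361), (10955, 11556), (10956, 10362), (10957, 11555), (10958, 11559), (10959, 10364), (10960, 11561), (10961, 10366), (10962, 10367), (10963, 11331), (10964, 10371), (10965, 10772), (10966, 11567), (10967, 11568), (10968, 10373), (10969, 10374), (10970, 11570), (10971, 11341), (10972, 11573), (10973, 11574), (10974, 10378), (10975, 10390), (10976, 11578), (10977, 11579), (10978, 10382), (10979, 10383), (10980, 11525), (10981, 11584), (10982, 11585), (10983, 10387), (10984, 10388), (10985, 11587), (10986, 11576), (10987, 10802), (10988, 11591), (10989, 11592), (10990, 10393), (10991, 10394), (10992, 11355), (10993, 10398), (10994, 10743), (10995, 11599), (10996, 11601), (10997, 11602), (10998, 10400), (10999, 11604), (11000, 10401), (11001, 10402), (11002, 11605), (11003, 10433),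 (11004, 11361), (11005, 11362), (11006, 11611), (11007, 11612)]
    ⟨e3 q10944 (flp_e L184532) q10353, e3 q10945 L184546 q10372, e3 q10946 L189829 q11545, e3 q10947 L189847 q11547, e3 q10948 L189857 q11549, e3 q10949 (flp_e L184576) q10357, e3 q10950 (flp_e L187577) q11315, e3 q10951 L189886 q11553, e3 q10952 (flp_e L184596) q10359, e3 q10953 L184607 q10906, e3 q10954 (flp_e L184614) q10361, e3 q10955 L189917 q11556, e3 q10956 (flp_e L184634) q10362, e3 q10957 (flp_e L189915) q11555, e3 q10958 L189951 q11559, e3 q10959 (flp_e L184666) q10364, e3 q10960 L189969 q11561, e3 q10961 (flp_e L184686) q10366, e3 q10962 (flp_e L184698) q10367, e3 q10963 (flp_e L187772) q11331, e3 q10964 L184716 q10371, e3 q10965 L184732 q10772, e3 q10966 L190027 q11567, e3 q10967 L190035 q11568, e3 q10968 (flp_e L184762) q10373, e3 q10969 (flp_e L184772) q10374, e3 q10970 (flp_e L190063) q11570, e3 q10971 (flp_e L187875) q11341, e3 q10972 L190084 q11573, e3 q10973 L190092 q11574, e3 q10974 (flp_e L184810) q10378,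 e3 q10975 L184822 q10390, e3 q10976 L190127 q11578, e3 q10977 L190137 q11579, e3 q10978 (flp_e L184846) q10382, e3 q10979 (flp_e L184858) q10383, e3 q10980 (flp_e L189641) q11525, e3 q10981 L190183 q11584, e3 q10982 L190191 q11585, e3 q10983 (flp_e L184894) q10387, e3 q10984 (flp_e L184904) q10388, e3 q10985 (flp_e L190219) q11587, e3 q10986 (flp_e L190112) q11576, e3 q10987 L184935 q10802, e3 q10988 L190254 q11591, e3 q10989 L190266 q11592, e3 q10990 (flp_e L184963) q10393, e3 q10991 (flp_e L184973) q10394, e3 q10992 (flp_e L188033) q11355, e3 q10993 L184998 q10398, e3 q10994 L185011 q10743, e3 q10995 L190337 q11599, e3 q10996 L190352 q11601, e3 q10997 L190358 q11602, e3 q10998 (flp_e L185040) q10400, e3 q10999 L190372 q11604, e3 q11000 (flp_e L185056) q10401, e3 q11001 (flp_e L185060) q10402, e3 q11002 (flp_e L190384) q11605, e3 q11003 L185076 q10433, e3 q11004 (flp_e L188101) q11361, e3 q11005 (flp_e L188107) q11362, e3 q11006 L190412 q11611, e3 q11007 L190418 q11612, trivial⟩ (by decide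 +kernel)

theorem ce_e_172 : ∀ r, r < 64 → sm ge (Qf (11008 + r)) = Qf (tab Gen.e (11008 + r)) :=
  edges_tab (sm ge) Qf (tab Gen.e) 11008 [(11008, 11613), (11009, 11614), (11010, 10409), (11011, 11616), (11012, 10410), (11013, 10411), (11014, 11615), (11015, 10413), (11016, 10414), (11017, 10417), (11018, 11622), (11019, 11623), (11020, 10610), (11021, 10424), (11022, 11618), (11023, 11581), (11024, 11609), (11025, 10911), (11026, 11242), (11027, 10436), (11028, 11630), (11029, 10437), (11030, 10668), (11031, 10486), (11032, 10683), (11033, 11447), (11034, 11635), (11035, 11637), (11036, 11638), (11037, 10445), (11038, 11640), (11039, 10446), (11040, 10447), (11041, 11641), (11042, 10519), (11043, 11644), (11044, 11645), (11045, 10452), (11046, 10453), (11047, 11646), (11048, 10456), (11049, 11649), (11050, 11651), (11051, 10460), (11052, 11629), (11053, 10787), (11054, 10488), (11055, 11656), (11056, 10465), (11057, 11082), (11058, 10494), (11059, 11661), (11060, 11662), (11061, 11664),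 (11062, 10470), (11063, 11388), (11064, 10474), (11065, 10852), (11066, 11670), (11067, 11672), (11068, 11674), (11069, 10476), (11070, 11677), (11071, 11679)]
    ⟨e3 q11008 L190428 q11613, e3 q11009 L190438 q11614, e3 q11010 (flp_e L185122) q10409, e3 q11011 L190458 q11616, e3 q11012 (flp_e L185142) q10410, e3 q11013 (flp_e L185148) q10411, e3 q11014 (flp_e L190456) q11615, e3 q11015 (flp_e L185166) q10413, e3 q11016 (flp_e L185172) q10414, e3 q11017 L185186 q10417, e3 q11018 (flp_e L190520) q11622, e3 q11019 (flp_e L190526) q11623, e3 q11020 L185215 q10610, e3 q11021 (flp_e L185218) q10424, e3 q11022 (flp_e L190486) q11618, e3 q11023 (flp_e L190167) q11581, e3 q11024 (flp_e L190406) q11609, e3 q11025 L185267 q10911, e3 q11026 (flp_e L187012) q11242, e3 q11027 (flp_e L185277) q10436, e3 q11028 L190594 q11630, e3 q11029 (flp_e L185297) q10437, e3 q11030 L185317 q10668, e3 q11031 L185325 q10486, e3 q11032 L185331 q10683, e3 q11033 (flp_e L188962) q11447, e3 q11034 L190645 q11635, e3 q11035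 L190668 q11637, e3 q11036 L190682 q11638, e3 q11037 (flp_e L185372) q10445, e3 q11038 L190696 q11640, e3 q11039 (flp_e L185386) q10446, e3 q11040 (flp_e L185392) q10447, e3 q11041 (flp_e L190706) q11641, e3 q11042 L185406 q10519, e3 q11043 L190718 q11644, e3 q11044 L190726 q11645, e3 q11045 (flp_e L185434) q10452, e3 q11046 (flp_e L185438) q10453, e3 q11047 (flp_e L190744) q11646, e3 q11048 L185460 q10456, e3 q11049 (flp_e L190766) q11649, e3 q11050 L190778 q11651, e3 q11051 (flp_e L185476) q10460, e3 q11052 (flp_e L190592) q11629, e3 q11053 L185492 q10787, e3 q11054 L185507 q10488, e3 q11055 L190824 q11656, e3 q11056 (flp_e L185519) q10465, e3 q11057 (flp_e L185736) q11082, e3 q11058 L185549 q10494, e3 q11059 L190877 q11661, e3 q11060 L190887 q11662, e3 q11061 L190905 q11664, e3 q11062 (flp_e L185581) q10470, e3 q11063 (flp_e L188383) q11388, e3 q11064 L185605 q10474, e3 q11065 L185621 q10852, e3 q11066 L190967 q11670, e3 q11067 L190979 q11672, e3 q11068 L190991 q11674, e3 q11069 (flp_e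 L185647) q10476, e3 q11070 L191015 q11677, e3 q11071 L191029 q11679, trivial⟩ (by decide +kernel)

theorem ce_e_173 : ∀ r, r < 64 → sm ge (Qf (11072 + r)) = Qf (tab Gen.e (11072 + r)) :=
  edges_tab (sm ge) Qf (tab Gen.e) 11072 [(11072, 10478), (11073, 11682), (11074, 10479), (11075, 11680), (11076, 11398), (11077, 11078), (11078, 11077), (11079, 10483), (11080, 11169), (11081, 11633), (11082, 11057), (11083, 11689), (11084, 11691), (11085, 10489), (11086, 11409), (11087, 10493), (11088, 10873), (11089, 11697), (11090, 11699), (11091, 11700), (11092, 10495), (11093, 11702), (11094, 10496), (11095, 10497), (11096, 11703), (11097, 11417), (11098, 11707), (11099, 11708), (11100, 11709), (11101, 10503), (11102, 10504), (11103, 11710), (11104, 10506), (11105, 10508), (11106, 11714), (11107, 11716), (11108, 11717), (11109, 11718), (11110, 10513), (11111, 10514), (11112, 11719), (11113, 10516), (11114, 10518), (11115, 11723), (11116, 10522), (11117, 10820), (11118, 11727), (11119, 11729), (11120,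 11731), (11121, 10524), (11122, 11733), (11123, 10525), (11124, 11735), (11125, 10526), (11126, 11734), (11127, 11469), (11128, 11739), (11129, 11740), (11130, 11741), (11131, 11742), (11132, 10532), (11133, 11744), (11134, 10533), (11135, 11746)]
    ⟨e3 q11072 (flp_e L185669) q10478, e3 q11073 L191041 q11682, e3 q11074 (flp_e L185675) q10479, e3 q11075 (flp_e L191035) q11680, e3 q11076 (flp_e L188466) q11398, e3 q11077 L185703 q11078, e3 q11078 (flp_e L185703) q11077, e3 q11079 (flp_e L185705) q10483, e3 q11080 (flp_e L186425) q11169, e3 q11081 (flp_e L190632) q11633, e3 q11082 L185736 q11057, e3 q11083 L191092 q11689, e3 q11084 L191114 q11691, e3 q11085 (flp_e L185760) q10489, e3 q11086 (flp_e L188587) q11409, e3 q11087 L185781 q10493, e3 q11088 L185796 q10873, e3 q11089 L191171 q11697, e3 q11090 L191186 q11699, e3 q11091 L191196 q11700, e3 q11092 (flp_e L185829) q10495, e3 q11093 L191210 q11702, e3 q11094 (flp_e L185845) q10496, e3 q11095 (flp_e L185851) q10497, e3 q11096 (flp_e L191222)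 q11703, e3 q11097 (flp_e L188675) q11417, e3 q11098 L191248 q11707, e3 q11099 L191256 q11708, e3 q11100 L191266 q11709, e3 q11101 (flp_e L185899) q10503, e3 q11102 (flp_e L185903) q10504, e3 q11103 (flp_e L191280) q11710, e3 q11104 (flp_e L185913) q10506, e3 q11105 L185923 q10508, e3 q11106 (flp_e L191298) q11714, e3 q11107 L191310 q11716, e3 q11108 L191320 q11717, e3 q11109 L191332 q11718, e3 q11110 (flp_e L185961) q10513, e3 q11111 (flp_e L185967) q10514, e3 q11112 (flp_e L191348) q11719, e3 q11113 (flp_e L185981) q10516, e3 q11114 L185991 q10518, e3 q11115 (flp_e L191374) q11723, e3 q11116 L186009 q10522, e3 q11117 L186023 q10820, e3 q11118 L191412 q11727, e3 q11119 L191428 q11729, e3 q11120 L191446 q11731, e3 q11121 (flp_e L186057) q10524, e3 q11122 L191466 q11733, e3 q11123 (flp_e L186075) q10525, e3 q11124 L191478 q11735, e3 q11125 (flp_e L186085) q10526, e3 q11126 (flp_e L191476) q11734, e3 q11127 (flp_e L189181) q11469, e3 q11128 L191512 q11739, e3 q11129 L191518 q11740, e3 q11130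 L191528 q11741, e3 q11131 L191538 q11742, e3 q11132 (flp_e L186145) q10532, e3 q11133 L191556 q11744, e3 q11134 (flp_e L186159) q10533, e3 q11135 L191572 q11746, trivial⟩ (by decide +kernel)

theorem ce_e_174 : ∀ r, r < 64 → sm ge (Qf (11136 + r)) = Qf (tab Gen.e (11136 + r)) :=
  edges_tab (sm ge) Qf (tab Gen.e) 11136 [(11136, 10534), (11137, 11743), (11138, 10536), (11139, 10537), (11140, 10541), (11141, 10539), (11142, 11751), (11143, 11752), (11144, 11755), (11145, 10543), (11146, 10544), (11147, 10545), (11148, 10546), (11149, 10552), (11150, 10548), (11151, 11758), (11152, 10550), (11153, 10565), (11154, 11759), (11155, 11760), (11156, 11722), (11157, 10557), (11158, 10558), (11159, 11350), (11160, 11767), (11161, 11297), (11162, 10567), (11163, 11168), (11164, 11172), (11165, 11167), (11166, 10601), (11167, 11165), (11168, 11163), (11169, 11080), (11170, 11182), (11171, 11183), (11172, 11164), (11173, 10588), (11174, 10590), (11175, 11747), (11176, 11775), (11177, 10595), (11178,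 10909), (11179, 10788), (11180, 11305), (11181, 11685), (11182, 11170), (11183, 11171), (11184, 11774), (11185, 10604), (11186, 10907), (11187, 11530), (11188, 11781), (11189, 11782), (11190, 10613), (11191, 11785), (11192, 11787), (11193, 11789), (11194, 10616), (11195, 11519), (11196, 11793), (11197, 10618), (11198, 11318), (11199, 10620)]
    ⟨e3 q11136 (flp_e L186181) q10534, e3 q11137 (flp_e L191554) q11743, e3 q11138 (flp_e L186197) q10536, e3 q11139 (flp_e L186203) q10537, e3 q11140 L186211 q10541, e3 q11141 (flp_e L186213) q10539, e3 q11142 (flp_e L191620) q11751, e3 q11143 (flp_e L191626) q11752, e3 q11144 L191640 q11755, e3 q11145 (flp_e L186245) q10543, e3 q11146 (flp_e L186249) q10544, e3 q11147 (flp_e L186257) q10545, e3 q11148 (flp_e L186265) q10546, e3 q11149 L186279 q10552, e3 q11150 (flp_e L186281) q10548, e3 q11151 (flp_e L191670) q11758, e3 q11152 (flp_e L186291) q10550, e3 q11153 L186299 q10565, e3 q11154 (flp_e L191682) q11759, e3 q11155 (flp_e L191686) q11760, e3 q11156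 (flp_e L191368) q11722, e3 q11157 L186317 q10557, e3 q11158 L186321 q10558, e3 q11159 (flp_e L187977) q11350, e3 q11160 (flp_e L191728) q11767, e3 q11161 L187383 q11297, e3 q11162 L186340 q10567, e3 q11163 (flp_e L186417) q11168, e3 q11164 (flp_e L186449) q11172, e3 q11165 (flp_e L186403) q11167, e3 q11166 L186385 q10601, e3 q11167 L186403 q11165, e3 q11168 L186417 q11163, e3 q11169 L186425 q11080, e3 q11170 (flp_e L186559) q11182, e3 q11171 (flp_e L186566) q11183, e3 q11172 L186449 q11164, e3 q11173 (flp_e L186460) q10588, e3 q11174 (flp_e L186469) q10590, e3 q11175 (flp_e L191590) q11747, e3 q11176 L191798 q11775, e3 q11177 (flp_e L186499) q10595, e3 q11178 L186513 q10909, e3 q11179 L186524 q10788, e3 q11180 (flp_e L187458) q11305, e3 q11181 (flp_e L191057) q11685, e3 q11182 L186559 q11170, e3 q11183 L186566 q11171, e3 q11184 L191796 q11774, e3 q11185 (flp_e L186581) q10604, e3 q11186 L186597 q10907, e3 q11187 (flp_e L189693) q11530, e3 q11188 L191854 q11781, e3 q11189 L191862 q11782,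 e3 q11190 (flp_e L186622) q10613, e3 q11191 L191887 q11785, e3 q11192 L191907 q11787, e3 q11193 L191925 q11789, e3 q11194 (flp_e L186658) q10616, e3 q11195 (flp_e L189565) q11519, e3 q11196 L191957 q11793, e3 q11197 (flp_e L186683) q10618, e3 q11198 (flp_e L187606) q11318, e3 q11199 (flp_e L186699) q10620, trivial⟩ (by decide +kernel)

theorem ce_e_175 : ∀ r, r < 64 → sm ge (Qf (11200 + r)) = Qf (tab Gen.e (11200 + r)) :=
  edges_tab (sm ge) Qf (tab Gen.e) 11200 [(11200, 11439), (11201, 11799), (11202, 11801), (11203, 10623), (11204, 11803), (11205, 10624), (11206, 11446), (11207, 11520), (11208, 11807), (11209, 11809), (11210, 10629), (11211, 11811), (11212, 10630), (11213, 11407), (11214, 10659), (11215, 11526), (11216, 11527), (11217, 11818), (11218, 11820), (11219, 11821), (11220, 10636), (11221, 11824), (11222, 10637), (11223, 11827), (11224, 10638), (11225, 11822), (11226, 10640), (11227, 10644), (11228, 11833), (11229, 10642), (11230, 11831), (11231, 11832), (11232, 10910), (11233,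 11837), (11234, 10650), (11235, 11839), (11236, 10652), (11237, 11828), (11238, 10654), (11239, 11795), (11240, 11812), (11241, 11816), (11242, 11026), (11243, 11845), (11244, 11847), (11245, 11849), (11246, 10663), (11247, 11852), (11248, 11854), (11249, 10665), (11250, 11857), (11251, 10666), (11252, 11855), (11253, 11632), (11254, 11255), (11255, 11254), (11256, 10670), (11257, 11400), (11258, 11863), (11259, 11865), (11260, 11866), (11261, 10675), (11262, 11868), (11263, 10676)]
    ⟨e3 q11200 (flp_e L188869) q11439, e3 q11201 L192001 q11799, e3 q11202 L192014 q11801, e3 q11203 (flp_e L186726) q10623, e3 q11204 L192028 q11803, e3 q11205 (flp_e L186738) q10624, e3 q11206 (flp_e L188954) q11446, e3 q11207 (flp_e L189575) q11520, e3 q11208 L192055 q11807, e3 q11209 L192070 q11809, e3 q11210 (flp_e L186771) q10629, e3 q11211 L192084 q11811, e3 q11212 (flp_e L186785) q10630, e3 q11213 (flp_e L188569) q11407, e3 q11214 L186797 q10659, e3 q11215 (flp_e L189651) q11526, e3 q11216 (flp_e L189657)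 q11527, e3 q11217 L192122 q11818, e3 q11218 L192142 q11820, e3 q11219 L192148 q11821, e3 q11220 (flp_e L186839) q10636, e3 q11221 L192172 q11824, e3 q11222 (flp_e L186853) q10637, e3 q11223 L192198 q11827, e3 q11224 (flp_e L186867) q10638, e3 q11225 (flp_e L192164) q11822, e3 q11226 (flp_e L186883) q10640, e3 q11227 L186893 q10644, e3 q11228 L192246 q11833, e3 q11229 (flp_e L186903) q10642, e3 q11230 (flp_e L192238) q11831, e3 q11231 (flp_e L192244) q11832, e3 q11232 L186923 q10910, e3 q11233 L192272 q11837, e3 q11234 (flp_e L186936) q10650, e3 q11235 L192296 q11839, e3 q11236 (flp_e L186958) q10652, e3 q11237 (flp_e L192212) q11828, e3 q11238 (flp_e L186981) q10654, e3 q11239 (flp_e L191978) q11795, e3 q11240 (flp_e L192094) q11812, e3 q11241 (flp_e L192112) q11816, e3 q11242 L187012 q11026, e3 q11243 L192344 q11845, e3 q11244 L192363 q11847, e3 q11245 L192378 q11849, e3 q11246 (flp_e L187038) q10663, e3 q11247 L192402 q11852, e3 q11248 L192424 q11854, e3 q11249 (flp_e L187062) q10665,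 e3 q11250 L192446 q11857, e3 q11251 (flp_e L187076) q10666, e3 q11252 (flp_e L192438) q11855, e3 q11253 (flp_e L190622) q11632, e3 q11254 L187112 q11255, e3 q11255 (flp_e L187112) q11254, e3 q11256 (flp_e L187114) q10670, e3 q11257 (flp_e L188487) q11400, e3 q11258 L192500 q11863, e3 q11259 L192521 q11865, e3 q11260 L192527 q11866, e3 q11261 (flp_e L187159) q10675, e3 q11262 L192539 q11868, e3 q11263 (flp_e L187170) q10676, trivial⟩ (by decide +kernel)

theorem ce_e_176 : ∀ r, r < 64 → sm ge (Qf (11264 + r)) = Qf (tab Gen.e (11264 + r)) :=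
  edges_tab (sm ge) Qf (tab Gen.e) 11264 [(11264, 10677), (11265, 11867), (11266, 10679), (11267, 10682), (11268, 11873), (11269, 11874), (11270, 11876), (11271, 10684), (11272, 11878), (11273, 10685), (11274, 11881), (11275, 10686), (11276, 11883), (11277, 10687), (11278, 10693), (11279, 11888), (11280, 10689), (11281, 11882), (11282, 11892), (11283, 10691), (11284, 10714), (11285, 11885), (11286, 11886), (11287, 10694), (11288, 11750), (11289, 10696), (11290, 10703), (11291, 10701), (11292, 10702), (11293, 10699), (11294, 11899), (11295, 11902), (11296, 11901), (11297, 11161), (11298, 10706), (11299, 11884), (11300, 11906), (11301, 10710), (11302, 11889), (11303, 10712), (11304, 11893), (11305, 11180), (11306, 10720), (11307, 11911), (11308, 11913), (11309, 11914), (11310, 10725), (11311, 11917), (11312, 11919), (11313, 11921), (11314, 10728), (11315, 10950), (11316, 11925), (11317, 10730), (11318, 11198), (11319, 10732), (11320, 11928), (11321, 10733), (11322, 11931), (11323, 11932),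 (11324, 10735), (11325, 11927), (11326, 11935), (11327, 10738)]
    ⟨e3 q11264 (flp_e L187176) q10677, e3 q11265 (flp_e L192537) q11867, e3 q11266 (flp_e L187186) q10679, e3 q11267 L187196 q10682, e3 q11268 (flp_e L192572) q11873, e3 q11269 (flp_e L192576) q11874, e3 q11270 L192586 q11876, e3 q11271 (flp_e L187220) q10684, e3 q11272 L192602 q11878, e3 q11273 (flp_e L187232) q10685, e3 q11274 L192626 q11881, e3 q11275 (flp_e L187246) q10686, e3 q11276 L192638 q11883, e3 q11277 (flp_e L187258) q10687, e3 q11278 L187268 q10693, e3 q11279 L192684 q11888, e3 q11280 (flp_e L187276) q10689, e3 q11281 (flp_e L192636) q11882, e3 q11282 L192710 q11892, e3 q11283 (flp_e L187294) q10691, e3 q11284 L187304 q10714, e3 q11285 (flp_e L192666) q11885, e3 q11286 (flp_e L192670) q11886, e3 q11287 (flp_e L187318) q10694, e3 q11288 (flp_e L191614) q11750, e3 q11289 (flp_e L187326) q10696, e3 q11290 L187332 q10703, e3 q11291 L187338 q10701, e3 q11292 L187342 q10702, e3 q11293 (flp_e L187344) q10699, e3 q11294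 (flp_e L192752) q11899, e3 q11295 (flp_e L192778) q11902, e3 q11296 (flp_e L192766) q11901, e3 q11297 (flp_e L187383) q11161, e3 q11298 (flp_e L187385) q10706, e3 q11299 (flp_e L192656) q11884, e3 q11300 L192802 q11906, e3 q11301 (flp_e L187423) q10710, e3 q11302 (flp_e L192696) q11889, e3 q11303 (flp_e L187442) q10712, e3 q11304 (flp_e L192720) q11893, e3 q11305 L187458 q11180, e3 q11306 (flp_e L187468) q10720, e3 q11307 L192849 q11911, e3 q11308 L192876 q11913, e3 q11309 L192890 q11914, e3 q11310 (flp_e L187517) q10725, e3 q11311 L192919 q11917, e3 q11312 L192947 q11919, e3 q11313 L192967 q11921, e3 q11314 (flp_e L187559) q10728, e3 q11315 L187577 q10950, e3 q11316 L193009 q11925, e3 q11317 (flp_e L187590) q10730, e3 q11318 L187606 q11198, e3 q11319 (flp_e L187614) q10732, e3 q11320 L193050 q11928, e3 q11321 (flp_e L187642) q10733, e3 q11322 L193091 q11931, e3 q11323 L193105 q11932, e3 q11324 (flp_e L187682) q10735, e3 q11325 (flp_e L193048) q11927, e3 q11326 L193141 q11935, e3 q11327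 (flp_e L187716) q10738, trivial⟩ (by decide +kernel)

theorem ce_e_177 : ∀ r, r < 64 → sm ge (Qf (11328 + r)) = Qf (tab Gen.e (11328 + r)) :=
  edges_tab (sm ge) Qf (tab Gen.e) 11328 [(11328, 11937), (11329, 10740), (11330, 10741), (11331, 10963), (11332, 11943), (11333, 11945), (11334, 11947), (11335, 10745), (11336, 11949), (11337, 10746), (11338, 11951), (11339, 10747), (11340, 11950), (11341, 10971), (11342, 10752), (11343, 11955), (11344, 10753), (11345, 10761), (11346, 10756), (11347, 10757), (11348, 11954), (11349, 10759), (11350, 11159), (11351, 11957), (11352, 11963), (11353, 10763), (11354, 10764), (11355, 10992), (11356, 11967), (11357, 10767), (11358, 10768), (11359, 11969), (11360, 10792), (11361, 11004), (11362, 11005), (11363, 11974), (11364, 11975), (11365, 10774), (11366, 11977), (11367, 10775), (11368, 11980), (11369, 10776), (11370, 11976), (11371, 10778), (11372, 10779), (11373, 10783), (11374, 11986), (11375, 10781), (11376, 11984), (11377, 11985), (11378, 11654), (11379,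 11939), (11380, 11972), (11381, 10794), (11382, 10795), (11383, 11990), (11384, 11993), (11385, 10798), (11386, 11995), (11387, 10800), (11388, 11063), (11389, 11999), (11390, 12001), (11391, 10803)]
    ⟨e3 q11328 L193167 q11937, e3 q11329 (flp_e L187744) q10740, e3 q11330 (flp_e L187758) q10741, e3 q11331 L187772 q10963, e3 q11332 L193242 q11943, e3 q11333 L193263 q11945, e3 q11334 L193290 q11947, e3 q11335 (flp_e L187805) q10745, e3 q11336 L193304 q11949, e3 q11337 (flp_e L187825) q10746, e3 q11338 L193330 q11951, e3 q11339 (flp_e L187851) q10747, e3 q11340 (flp_e L193328) q11950, e3 q11341 L187875 q10971, e3 q11342 (flp_e L187879) q10752, e3 q11343 L193376 q11955, e3 q11344 (flp_e L187907) q10753, e3 q11345 L187925 q10761, e3 q11346 (flp_e L187927) q10756, e3 q11347 (flp_e L187941) q10757, e3 q11348 (flp_e L193374) q11954, e3 q11349 (flp_e L187957) q10759, e3 q11350 L187977 q11159, e3 q11351 (flp_e L193408) q11957, e3 q11352 L193468 q11963, e3 q11353 (flp_e L188003) q10763, e3 q11354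 (flp_e L188017) q10764, e3 q11355 L188033 q10992, e3 q11356 L193518 q11967, e3 q11357 (flp_e L188051) q10767, e3 q11358 (flp_e L188061) q10768, e3 q11359 (flp_e L193552) q11969, e3 q11360 L188093 q10792, e3 q11361 L188101 q11004, e3 q11362 L188107 q11005, e3 q11363 L193596 q11974, e3 q11364 L193608 q11975, e3 q11365 (flp_e L188133) q10774, e3 q11366 L193626 q11977, e3 q11367 (flp_e L188149) q10775, e3 q11368 L193660 q11980, e3 q11369 (flp_e L188171) q10776, e3 q11370 (flp_e L193624) q11976, e3 q11371 (flp_e L188185) q10778, e3 q11372 (flp_e L188199) q10779, e3 q11373 L188215 q10783, e3 q11374 L193716 q11986, e3 q11375 (flp_e L188231) q10781, e3 q11376 (flp_e L193706) q11984, e3 q11377 (flp_e L193714) q11985, e3 q11378 (flp_e L190806) q11654, e3 q11379 (flp_e L193209) q11939, e3 q11380 (flp_e L193584) q11972, e3 q11381 (flp_e L188295) q10794, e3 q11382 (flp_e L188307) q10795, e3 q11383 (flp_e L193771) q11990, e3 q11384 L193795 q11993, e3 q11385 (flp_e L188343) q10798, e3 q11386 L193819 q11995,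 e3 q11387 (flp_e L188367) q10800, e3 q11388 L188383 q11063, e3 q11389 L193870 q11999, e3 q11390 L193893 q12001, e3 q11391 (flp_e L188404) q10803, trivial⟩ (by decide +kernel)

theorem ce_e_178 : ∀ r, r < 64 → sm ge (Qf (11392 + r)) = Qf (tab Gen.e (11392 + r)) :=
  edges_tab (sm ge) Qf (tab Gen.e) 11392 [(11392, 12003), (11393, 12004), (11394, 10805), (11395, 12007), (11396, 10806), (11397, 12005), (11398, 11076), (11399, 10809), (11400, 11257), (11401, 10817), (11402, 10932), (11403, 12014), (11404, 10814), (11405, 12016), (11406, 10815), (11407, 11213), (11408, 12011), (11409, 11086), (11410, 12020), (11411, 12022), (11412, 12023), (11413, 10822), (11414, 10823), (11415, 10824), (11416, 12025), (11417, 11097), (11418, 12029), (11419, 12030), (11420, 12032), (11421, 12034), (11422, 10830), (11423, 12037), (11424, 10831), (11425, 12040), (11426, 10832), (11427, 12035), (11428, 10834), (11429, 12045), (11430, 10835), (11431, 10839), (11432, 12048), (11433, 10837), (11434, 12046), (11435,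 12047), (11436, 12051), (11437, 10843), (11438, 10844), (11439, 11200), (11440, 10862), (11441, 10926), (11442, 12057), (11443, 10848), (11444, 12059), (11445, 10849), (11446, 11206), (11447, 11033), (11448, 12062), (11449, 12064), (11450, 10853), (11451, 12067), (11452, 10854), (11453, 12065), (11454, 10856), (11455, 12071)]
    ⟨e3 q11392 L193905 q12003, e3 q11393 L193919 q12004, e3 q11394 (flp_e L188434) q10805, e3 q11395 L193949 q12007, e3 q11396 (flp_e L188452) q10806, e3 q11397 (flp_e L193937) q12005, e3 q11398 L188466 q11076, e3 q11399 (flp_e L188470) q10809, e3 q11400 L188487 q11257, e3 q11401 L188504 q10817, e3 q11402 L188518 q10932, e3 q11403 L194024 q12014, e3 q11404 (flp_e L188529) q10814, e3 q11405 L194040 q12016, e3 q11406 (flp_e L188551) q10815, e3 q11407 L188569 q11213, e3 q11408 (flp_e L193989) q12011, e3 q11409 L188587 q11086, e3 q11410 L194088 q12020, e3 q11411 L194112 q12022, e3 q11412 L194126 q12023, e3 q11413 (flp_e L188625) q10822, e3 q11414 (flp_e L188635) q10823,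 e3 q11415 (flp_e L188647) q10824, e3 q11416 (flp_e L194158) q12025, e3 q11417 L188675 q11097, e3 q11418 L194191 q12029, e3 q11419 L194197 q12030, e3 q11420 L194220 q12032, e3 q11421 L194243 q12034, e3 q11422 (flp_e L188714) q10830, e3 q11423 L194264 q12037, e3 q11424 (flp_e L188725) q10831, e3 q11425 L194291 q12040, e3 q11426 (flp_e L188738) q10832, e3 q11427 (flp_e L194253) q12035, e3 q11428 (flp_e L188748) q10834, e3 q11429 L194326 q12045, e3 q11430 (flp_e L188774) q10835, e3 q11431 L188786 q10839, e3 q11432 L194356 q12048, e3 q11433 (flp_e L188802) q10837, e3 q11434 (flp_e L194346) q12046, e3 q11435 (flp_e L194352) q12047, e3 q11436 L194388 q12051, e3 q11437 (flp_e L188839) q10843, e3 q11438 (flp_e L188849) q10844, e3 q11439 L188869 q11200, e3 q11440 L188877 q10862, e3 q11441 L188893 q10926, e3 q11442 L194463 q12057, e3 q11443 (flp_e L188906) q10848, e3 q11444 L194485 q12059, e3 q11445 (flp_e L188932) q10849, e3 q11446 L188954 q11206, e3 q11447 L188962 q11033, e3 q11448 L194525 q12062,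 e3 q11449 L194551 q12064, e3 q11450 (flp_e L188994) q10853, e3 q11451 L194585 q12067, e3 q11452 (flp_e L189010) q10854, e3 q11453 (flp_e L194569) q12065, e3 q11454 (flp_e L189022) q10856, e3 q11455 L194619 q12071, trivial⟩ (by decide +kernel)

theorem ce_e_179 : ∀ r, r < 64 → sm ge (Qf (11456 + r)) = Qf (tab Gen.e (11456 + r)) :=
  edges_tab (sm ge) Qf (tab Gen.e) 11456 [(11456, 10857), (11457, 10861), (11458, 12072), (11459, 10859), (11460, 12073), (11461, 12074), (11462, 12077), (11463, 12079), (11464, 12080), (11465, 10867), (11466, 10868), (11467, 10869), (11468, 12082), (11469, 11127), (11470, 12086), (11471, 12088), (11472, 12090), (11473, 12091), (11474, 10875), (11475, 12094), (11476, 10876), (11477, 12096), (11478, 10877), (11479, 12092), (11480, 12100), (11481, 10879), (11482, 10880), (11483, 10884), (11484, 10882), (11485, 12103), (11486, 12104), (11487, 10886), (11488, 10887), (11489, 12110), (11490, 10888), (11491, 12112), (11492, 10889), (11493, 10895), (11494, 12116), (11495,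 10891), (11496, 12111), (11497, 12120), (11498, 10893), (11499, 10916), (11500, 12113), (11501, 12114), (11502, 12070), (11503, 10897), (11504, 10902), (11505, 10903), (11506, 10900), (11507, 12126), (11508, 12127), (11509, 11779), (11510, 10904), (11511, 11554), (11512, 11628), (11513, 12131), (11514, 10912), (11515, 12117), (11516, 10914), (11517, 12121), (11518, 12102), (11519, 11195)]
    ⟨e3 q11456 (flp_e L189050) q10857, e3 q11457 L189070 q10861, e3 q11458 (flp_e L194645) q12072, e3 q11459 (flp_e L189086) q10859, e3 q11460 (flp_e L194655) q12073, e3 q11461 (flp_e L194665) q12074, e3 q11462 L194683 q12077, e3 q11463 L194704 q12079, e3 q11464 L194718 q12080, e3 q11465 (flp_e L189139) q10867, e3 q11466 (flp_e L189147) q10868, e3 q11467 (flp_e L189159) q10869, e3 q11468 (flp_e L194744) q12082, e3 q11469 L189181 q11127, e3 q11470 L194777 q12086, e3 q11471 L194800 q12088, e3 q11472 L194819 q12090, e3 q11473 L194829 q12091, e3 q11474 (flp_e L189222) q10875, e3 q11475 L194852 q12094, e3 q11476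 (flp_e L189233) q10876, e3 q11477 L194864 q12096, e3 q11478 (flp_e L189246) q10877, e3 q11479 (flp_e L194841) q12092, e3 q11480 L194887 q12100, e3 q11481 (flp_e L189272) q10879, e3 q11482 (flp_e L189284) q10880, e3 q11483 L189294 q10884, e3 q11484 (flp_e L189296) q10882, e3 q11485 (flp_e L194931) q12103, e3 q11486 (flp_e L194939) q12104, e3 q11487 (flp_e L189316) q10886, e3 q11488 (flp_e L189322) q10887, e3 q11489 L194977 q12110, e3 q11490 (flp_e L189336) q10888, e3 q11491 L194989 q12112, e3 q11492 (flp_e L189352) q10889, e3 q11493 L189362 q10895, e3 q11494 L195021 q12116, e3 q11495 (flp_e L189370) q10891, e3 q11496 (flp_e L194987) q12111, e3 q11497 L195049 q12120, e3 q11498 (flp_e L189388) q10893, e3 q11499 L189396 q10916, e3 q11500 (flp_e L195005) q12113, e3 q11501 (flp_e L195009) q12114, e3 q11502 (flp_e L194617) q12070, e3 q11503 (flp_e L189414) q10897, e3 q11504 L189428 q10902, e3 q11505 L189434 q10903, e3 q11506 (flp_e L189436) q10900, e3 q11507 (flp_e L195095) q12126, e3 q11508 (flp_e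 L195101) q12127, e3 q11509 (flp_e L191843) q11779, e3 q11510 (flp_e L189465) q10904, e3 q11511 (flp_e L189899) q11554, e3 q11512 (flp_e L190577) q11628, e3 q11513 L195123 q12131, e3 q11514 (flp_e L189506) q10912, e3 q11515 (flp_e L195037) q12117, e3 q11516 (flp_e L189526) q10914, e3 q11517 (flp_e L195059) q12121, e3 q11518 (flp_e L194925) q12102, e3 q11519 L189565 q11195, trivial⟩ (by decide +kernel)

theorem ce_e_180 : ∀ r, r < 64 → sm ge (Qf (11520 + r)) = Qf (tab Gen.e (11520 + r)) :=
  edges_tab (sm ge) Qf (tab Gen.e) 11520 [(11520, 11207), (11521, 10924), (11522, 11958), (11523, 12055), (11524, 10927), (11525, 10980), (11526, 11215), (11527, 11216), (11528, 11991), (11529, 12012), (11530, 11187), (11531, 10935), (11532, 12145), (11533, 10936), (11534, 10937), (11535, 12144), (11536, 12150), (11537, 12151), (11538, 10940), (11539, 12154), (11540, 12156), (11541, 10942), (11542, 10943), (11543, 11915), (11544, 12161), (11545, 10946), (11546, 12164), (11547, 10947), (11548, 12167), (11549,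 10948), (11550, 12165), (11551, 11923), (11552, 12171), (11553, 10951), (11554, 11511), (11555, 10957), (11556, 10955), (11557, 11956), (11558, 12173), (11559, 10958), (11560, 11936), (11561, 10960), (11562, 11983), (11563, 11940), (11564, 11941), (11565, 12181), (11566, 12182), (11567, 10966), (11568, 10967), (11569, 12183), (11570, 10970), (11571, 12186), (11572, 12187), (11573, 10972), (11574, 10973), (11575, 11929), (11576, 10986), (11577, 12191), (11578, 10976), (11579, 10977), (11580, 11933), (11581, 11023), (11582, 12140), (11583, 12141)]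
    ⟨e3 q11520 L189575 q11207, e3 q11521 (flp_e L189581) q10924, e3 q11522 (flp_e L193424) q11958, e3 q11523 (flp_e L194442) q12055, e3 q11524 (flp_e L189621) q10927, e3 q11525 L189641 q10980, e3 q11526 L189651 q11215, e3 q11527 L189657 q11216, e3 q11528 (flp_e L193785) q11991, e3 q11529 (flp_e L194005) q12012, e3 q11530 L189693 q11187, e3 q11531 (flp_e L189698) q10935, e3 q11532 L195282 q12145, e3 q11533 (flp_e L189719) q10936, e3 q11534 (flp_e L189729) q10937, e3 q11535 (flp_e L195280) q12144, e3 q11536 L195333 q12150, e3 q11537 L195345 q12151, e3 q11538 (flp_e L189772) q10940, e3 q11539 L195380 q12154, e3 q11540 L195399 q12156, e3 q11541 (flp_e L189797) q10942, e3 q11542 (flp_e L189803) q10943, e3 q11543 (flp_e L192904) q11915, e3 q11544 L195424 q12161, e3 q11545 (flp_e L189829) q10946, e3 q11546 L195454 q12164, e3 q11547 (flp_e L189847) q10947, e3 q11548 L195476 q12167, e3 q11549 (flp_e L189857) q10948, e3 q11550 (flp_e L195464) q12165, e3 q11551 (flp_e L192993) q11923, e3 q11552 L195509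 q12171, e3 q11553 (flp_e L189886) q10951, e3 q11554 L189899 q11511, e3 q11555 L189915 q10957, e3 q11556 (flp_e L189917) q10955, e3 q11557 (flp_e L193400) q11956, e3 q11558 (flp_e L195534) q12173, e3 q11559 (flp_e L189951) q10958, e3 q11560 (flp_e L193165) q11936, e3 q11561 (flp_e L189969) q10960, e3 q11562 (flp_e L193696) q11983, e3 q11563 (flp_e L193219) q11940, e3 q11564 (flp_e L193225) q11941, e3 q11565 L195604 q12181, e3 q11566 L195614 q12182, e3 q11567 (flp_e L190027) q10966, e3 q11568 (flp_e L190035) q10967, e3 q11569 (flp_e L195638) q12183, e3 q11570 L190063 q10970, e3 q11571 (flp_e L195666) q12186, e3 q11572 L195670 q12187, e3 q11573 (flp_e L190084) q10972, e3 q11574 (flp_e L190092) q10973, e3 q11575 (flp_e L193074) q11929, e3 q11576 L190112 q10986, e3 q11577 L195702 q12191, e3 q11578 (flp_e L190127) q10976, e3 q11579 (flp_e L190137) q10977, e3 q11580 (flp_e L193129) q11933, e3 q11581 L190167 q11023, e3 q11582 (flp_e L195234) q12140, e3 q11583 (flp_e L195242) q12141, trivial⟩ (by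 decide +kernel)

theorem ce_e_181 : ∀ r, r < 64 → sm ge (Qf (11584 + r)) = Qf (tab Gen.e (11584 + r)) :=
  edges_tab (sm ge) Qf (tab Gen.e) 11584 [(11584, 10981), (11585, 10982), (11586, 12198), (11587, 10985), (11588, 12201), (11589, 12203), (11590, 12204), (11591, 10988), (11592, 10989), (11593, 12044), (11594, 11965), (11595, 11966), (11596, 12210), (11597, 12212), (11598, 12213), (11599, 10995), (11600, 12215), (11601, 10996), (11602, 10997), (11603, 12214), (11604, 10999), (11605, 11002), (11606, 12220), (11607, 12221), (11608, 12128), (11609, 11024), (11610, 11973), (11611, 11006), (11612, 11007), (11613, 11008), (11614, 11009), (11615, 11014), (11616, 11011), (11617, 12228), (11618, 11022), (11619, 12229), (11620, 12230), (11621, 11938), (11622, 11018), (11623, 11019), (11624, 12237), (11625, 12231), (11626, 12196), (11627, 12225), (11628, 11512), (11629, 11052), (11630, 11028), (11631, 11763), (11632, 11253), (11633, 11081), (11634, 12242), (11635, 11034), (11636, 12244), (11637,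 11035), (11638, 11036), (11639, 12243), (11640, 11038), (11641, 11041), (11642, 12249), (11643, 12250), (11644, 11043), (11645, 11044), (11646, 11047), (11647, 12253)]
    ⟨e3 q11584 (flp_e L190183) q10981, e3 q11585 (flp_e L190191) q10982, e3 q11586 (flp_e L195782) q12198, e3 q11587 L190219 q10985, e3 q11588 (flp_e L195810) q12201, e3 q11589 L195827 q12203, e3 q11590 L195839 q12204, e3 q11591 (flp_e L190254) q10988, e3 q11592 (flp_e L190266) q10989, e3 q11593 (flp_e L194324) q12044, e3 q11594 (flp_e L193508) q11965, e3 q11595 (flp_e L193516) q11966, e3 q11596 L195900 q12210, e3 q11597 L195927 q12212, e3 q11598 L195941 q12213, e3 q11599 (flp_e L190337) q10995, e3 q11600 L195957 q12215, e3 q11601 (flp_e L190352) q10996, e3 q11602 (flp_e L190358) q10997, e3 q11603 (flp_e L195955) q12214, e3 q11604 (flp_e L190372) q10999, e3 q11605 L190384 q11002, e3 q11606 (flp_e L196000) q12220, e3 q11607 (flp_e L196006) q12221, e3 q11608 (flp_e L195109) q12128, e3 q11609 L190406 q11024, e3 q11610 (flp_e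 L193594) q11973, e3 q11611 (flp_e L190412) q11006, e3 q11612 (flp_e L190418) q11007, e3 q11613 (flp_e L190428) q11008, e3 q11614 (flp_e L190438) q11009, e3 q11615 L190456 q11014, e3 q11616 (flp_e L190458) q11011, e3 q11617 (flp_e L196050) q12228, e3 q11618 L190486 q11022, e3 q11619 (flp_e L196064) q12229, e3 q11620 (flp_e L196070) q12230, e3 q11621 (flp_e L193195) q11938, e3 q11622 L190520 q11018, e3 q11623 L190526 q11019, e3 q11624 (flp_e L196142) q12237, e3 q11625 (flp_e L196084) q12231, e3 q11626 (flp_e L195760) q12196, e3 q11627 (flp_e L196026) q12225, e3 q11628 L190577 q11512, e3 q11629 L190592 q11052, e3 q11630 (flp_e L190594) q11028, e3 q11631 (flp_e L191706) q11763, e3 q11632 L190622 q11253, e3 q11633 L190632 q11081, e3 q11634 L196192 q12242, e3 q11635 (flp_e L190645) q11034, e3 q11636 L196210 q12244, e3 q11637 (flp_e L190668) q11035, e3 q11638 (flp_e L190682) q11036, e3 q11639 (flp_e L196208) q12243, e3 q11640 (flp_e L190696) q11038, e3 q11641 L190706 q11041, e3 q11642 (flp_e L196261)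 q12249, e3 q11643 (flp_e L196269) q12250, e3 q11644 (flp_e L190718) q11043, e3 q11645 (flp_e L190726) q11044, e3 q11646 L190744 q11047, e3 q11647 (flp_e L196297) q12253, trivial⟩ (by decide +kernel)

theorem ce_e_182 : ∀ r, r < 64 → sm ge (Qf (11648 + r)) = Qf (tab Gen.e (11648 + r)) :=
  edges_tab (sm ge) Qf (tab Gen.e) 11648 [(11648, 12254), (11649, 11049), (11650, 12257), (11651, 11050), (11652, 11764), (11653, 12239), (11654, 11378), (11655, 12260), (11656, 11055), (11657, 11994), (11658, 12263), (11659, 12265), (11660, 12267), (11661, 11059), (11662, 11060), (11663, 12271), (11664, 11061), (11665, 12269), (11666, 11997), (11667, 12274), (11668, 12276), (11669, 12278), (11670, 11066), (11671, 12281), (11672, 11067), (11673, 12284), (11674, 11068), (11675, 12279), (11676, 12287), (11677, 11070), (11678, 12290), (11679, 11071), (11680, 11075), (11681, 12294), (11682, 11073), (11683, 12292), (11684, 12293), (11685, 11181), (11686, 12291), (11687, 12298), (11688, 12300), (11689, 11083),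 (11690, 12302), (11691, 11084), (11692, 12101), (11693, 12019), (11694, 12306), (11695, 12307), (11696, 12308), (11697, 11089), (11698, 12310), (11699, 11090), (11700, 11091), (11701, 12309), (11702, 11093), (11703, 11096), (11704, 12315), (11705, 12316), (11706, 12318), (11707, 11098), (11708, 11099), (11709, 11100), (11710, 11103), (11711, 12321)]
    ⟨e3 q11648 (flp_e L196301) q12254, e3 q11649 L190766 q11049, e3 q11650 L196329 q12257, e3 q11651 (flp_e L190778) q11050, e3 q11652 (flp_e L191712) q11764, e3 q11653 (flp_e L196162) q12239, e3 q11654 L190806 q11378, e3 q11655 L196357 q12260, e3 q11656 (flp_e L190824) q11055, e3 q11657 (flp_e L193817) q11994, e3 q11658 L196387 q12263, e3 q11659 L196410 q12265, e3 q11660 L196433 q12267, e3 q11661 (flp_e L190877) q11059, e3 q11662 (flp_e L190887) q11060, e3 q11663 L196469 q12271, e3 q11664 (flp_e L190905) q11061, e3 q11665 (flp_e L196457) q12269, e3 q11666 (flp_e L193851) q11997, e3 q11667 L196495 q12274, e3 q11668 L196521 q12276, e3 q11669 L196545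 q12278, e3 q11670 (flp_e L190967) q11066, e3 q11671 L196565 q12281, e3 q11672 (flp_e L190979) q11067, e3 q11673 L196585 q12284, e3 q11674 (flp_e L190991) q11068, e3 q11675 (flp_e L196557) q12279, e3 q11676 L196603 q12287, e3 q11677 (flp_e L191015) q11070, e3 q11678 L196629 q12290, e3 q11679 (flp_e L191029) q11071, e3 q11680 L191035 q11075, e3 q11681 L196653 q12294, e3 q11682 (flp_e L191041) q11073, e3 q11683 (flp_e L196647) q12292, e3 q11684 (flp_e L196651) q12293, e3 q11685 L191057 q11181, e3 q11686 (flp_e L196641) q12291, e3 q11687 L196676 q12298, e3 q11688 L196703 q12300, e3 q11689 (flp_e L191092) q11083, e3 q11690 L196719 q12302, e3 q11691 (flp_e L191114) q11084, e3 q11692 (flp_e L194911) q12101, e3 q11693 (flp_e L194082) q12019, e3 q11694 L196764 q12306, e3 q11695 L196774 q12307, e3 q11696 L196788 q12308, e3 q11697 (flp_e L191171) q11089, e3 q11698 L196802 q12310, e3 q11699 (flp_e L191186) q11090, e3 q11700 (flp_e L191196) q11091, e3 q11701 (flp_e L196800) q12309, e3 q11702 (flp_e L191210)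 q11093, e3 q11703 L191222 q11096, e3 q11704 (flp_e L196845) q12315, e3 q11705 (flp_e L196851) q12316, e3 q11706 L196863 q12318, e3 q11707 (flp_e L191248) q11098, e3 q11708 (flp_e L191256) q11099, e3 q11709 (flp_e L191266) q11100, e3 q11710 L191280 q11103, e3 q11711 (flp_e L196893) q12321, trivial⟩ (by decide +kernel)

theorem ce_e_183 : ∀ r, r < 64 → sm ge (Qf (11712 + r)) = Qf (tab Gen.e (11712 + r)) :=
  edges_tab (sm ge) Qf (tab Gen.e) 11712 [(11712, 12322), (11713, 11964), (11714, 11106), (11715, 12325), (11716, 11107), (11717, 11108), (11718, 11109), (11719, 11112), (11720, 12328), (11721, 12329), (11722, 11156), (11723, 11115), (11724, 12333), (11725, 12334), (11726, 12335), (11727, 11118), (11728, 12338), (11729, 11119), (11730, 12340), (11731, 11120), (11732, 12336), (11733, 11122), (11734, 11126), (11735, 11124), (11736, 12343), (11737, 12344), (11738, 12347), (11739, 11128), (11740, 11129), (11741, 11130), (11742, 11131), (11743, 11137), (11744, 11133), (11745, 12350), (11746,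 11135), (11747, 11175), (11748, 12351), (11749, 12352), (11750, 11288), (11751, 11142), (11752, 11143), (11753, 11961), (11754, 12361), (11755, 11144), (11756, 11877), (11757, 12327), (11758, 11151), (11759, 11154), (11760, 11155), (11761, 11996), (11762, 12366), (11763, 11631), (11764, 11652), (11765, 12367), (11766, 12331), (11767, 11160), (11768, 11962), (11769, 11770), (11770, 11769), (11771, 11778), (11772, 12353), (11773, 12356), (11774, 11184), (11775, 11176)]
    ⟨e3 q11712 (flp_e L196897) q12322, e3 q11713 (flp_e L193496) q11964, e3 q11714 L191298 q11106, e3 q11715 L196913 q12325, e3 q11716 (flp_e L191310) q11107, e3 q11717 (flp_e L191320) q11108, e3 q11718 (flp_e L191332) q11109, e3 q11719 L191348 q11112, e3 q11720 (flp_e L196949) q12328, e3 q11721 (flp_e L196955) q12329, e3 q11722 L191368 q11156, e3 q11723 L191374 q11115, e3 q11724 L196991 q12333, e3 q11725 L197003 q12334, e3 q11726 L197017 q12335, e3 q11727 (flp_e L191412) q11118, e3 q11728 L197043 q12338, e3 q11729 (flp_e L191428)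 q11119, e3 q11730 L197063 q12340, e3 q11731 (flp_e L191446) q11120, e3 q11732 (flp_e L197033) q12336, e3 q11733 (flp_e L191466) q11122, e3 q11734 L191476 q11126, e3 q11735 (flp_e L191478) q11124, e3 q11736 (flp_e L197099) q12343, e3 q11737 (flp_e L197105) q12344, e3 q11738 L197121 q12347, e3 q11739 (flp_e L191512) q11128, e3 q11740 (flp_e L191518) q11129, e3 q11741 (flp_e L191528) q11130, e3 q11742 (flp_e L191538) q11131, e3 q11743 L191554 q11137, e3 q11744 (flp_e L191556) q11133, e3 q11745 (flp_e L197159) q12350, e3 q11746 (flp_e L191572) q11135, e3 q11747 L191590 q11175, e3 q11748 (flp_e L197171) q12351, e3 q11749 (flp_e L197177) q12352, e3 q11750 L191614 q11288, e3 q11751 L191620 q11142, e3 q11752 L191626 q11143, e3 q11753 (flp_e L193454) q11961, e3 q11754 (flp_e L197259) q12361, e3 q11755 (flp_e L191640) q11144, e3 q11756 (flp_e L192600) q11877, e3 q11757 (flp_e L196939) q12327, e3 q11758 L191670 q11151, e3 q11759 L191682 q11154, e3 q11760 L191686 q11155, e3 q11761 (flp_e L193845) q11996,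 e3 q11762 (flp_e L197297) q12366, e3 q11763 L191706 q11631, e3 q11764 L191712 q11652, e3 q11765 (flp_e L197311) q12367, e3 q11766 (flp_e L196971) q12331, e3 q11767 L191728 q11160, e3 q11768 (flp_e L193464) q11962, e3 q11769 (flp_e L191747) q11770, e3 q11770 L191747 q11769, e3 q11771 (flp_e L191834) q11778, e3 q11772 (flp_e L197191) q12353, e3 q11773 (flp_e L197215) q12356, e3 q11774 (flp_e L191796) q11184, e3 q11775 (flp_e L191798) q11176, trivial⟩ (by decide +kernel)

theorem ce_e_184 : ∀ r, r < 64 → sm ge (Qf (11776 + r)) = Qf (tab Gen.e (11776 + r)) :=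
  edges_tab (sm ge) Qf (tab Gen.e) 11776 [(11776, 11860), (11777, 12170), (11778, 11771), (11779, 11509), (11780, 12374), (11781, 11188), (11782, 11189), (11783, 12052), (11784, 12380), (11785, 11191), (11786, 12383), (11787, 11192), (11788, 12386), (11789, 11193), (11790, 12384), (11791, 12137), (11792, 12390), (11793, 11196), (11794, 11926), (11795, 11239), (11796, 12053), (11797, 12054), (11798, 12396), (11799, 11201), (11800, 12398), (11801, 11202), (11802, 12058), (11803, 11204), (11804, 12060), (11805, 12061), (11806, 12405), (11807, 11208), (11808, 12407), (11809, 11209), (11810, 12015), (11811, 11211), (11812, 11240), (11813, 12017), (11814, 12018), (11815, 12415), (11816, 11241), (11817, 12142), (11818, 11217), (11819, 12420), (11820, 11218), (11821, 11219), (11822, 11225), (11823, 12425), (11824, 11221), (11825, 12421), (11826, 12429), (11827, 11223), (11828, 11237), (11829, 12422), (11830, 12423), (11831, 11230), (11832, 11231), (11833, 11228), (11834, 12195), (11835, 12434),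 (11836, 12436), (11837, 11233), (11838, 12426), (11839, 11235)]
    ⟨e3 q11776 (flp_e L192468) q11860, e3 q11777 L195507 q12170, e3 q11778 L191834 q11771, e3 q11779 L191843 q11509, e3 q11780 L197362 q12374, e3 q11781 (flp_e L191854) q11188, e3 q11782 (flp_e L191862) q11189, e3 q11783 (flp_e L194408) q12052, e3 q11784 L197404 q12380, e3 q11785 (flp_e L191887) q11191, e3 q11786 L197434 q12383, e3 q11787 (flp_e L191907) q11192, e3 q11788 L197466 q12386, e3 q11789 (flp_e L191925) q11193, e3 q11790 (flp_e L197456) q12384, e3 q11791 (flp_e L195190) q12137, e3 q11792 L197500 q12390, e3 q11793 (flp_e L191957) q11196, e3 q11794 (flp_e L193025) q11926, e3 q11795 L191978 q11239, e3 q11796 (flp_e L194420) q12053, e3 q11797 (flp_e L194428) q12054, e3 q11798 L197545 q12396, e3 q11799 (flp_e L192001) q11201, e3 q11800 L197563 q12398, e3 q11801 (flp_e L192014) q11202, e3 q11802 (flp_e L194483) q12058, e3 q11803 (flp_e L192028) q11204, e3 q11804 (flp_e L194509) q12060, e3 q11805 (flp_e L194519) q12061, e3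 q11806 L197609 q12405, e3 q11807 (flp_e L192055) q11208, e3 q11808 L197623 q12407, e3 q11809 (flp_e L192070) q11209, e3 q11810 (flp_e L194038) q12015, e3 q11811 (flp_e L192084) q11211, e3 q11812 L192094 q11240, e3 q11813 (flp_e L194062) q12017, e3 q11814 (flp_e L194070) q12018, e3 q11815 L197672 q12415, e3 q11816 L192112 q11241, e3 q11817 (flp_e L195252) q12142, e3 q11818 (flp_e L192122) q11217, e3 q11819 L197710 q12420, e3 q11820 (flp_e L192142) q11218, e3 q11821 (flp_e L192148) q11219, e3 q11822 L192164 q11225, e3 q11823 L197758 q12425, e3 q11824 (flp_e L192172) q11221, e3 q11825 (flp_e L197726) q12421, e3 q11826 L197792 q12429, e3 q11827 (flp_e L192198) q11223, e3 q11828 L192212 q11237, e3 q11829 (flp_e L197738) q12422, e3 q11830 (flp_e L197744) q12423, e3 q11831 L192238 q11230, e3 q11832 L192244 q11231, e3 q11833 (flp_e L192246) q11228, e3 q11834 (flp_e L195752) q12195, e3 q11835 (flp_e L197842) q12434, e3 q11836 L197848 q12436, e3 q11837 (flp_e L192272) q11233, e3 q11838 (flp_e L197774)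 q12426, e3 q11839 (flp_e L192296) q11235, trivial⟩ (by decide +kernel)

theorem ce_e_185 : ∀ r, r < 64 → sm ge (Qf (11840 + r)) = Qf (tab Gen.e (11840 + r)) :=
  edges_tab (sm ge) Qf (tab Gen.e) 11840 [(11840, 12430), (11841, 12393), (11842, 12413), (11843, 12418), (11844, 12441), (11845, 11243), (11846, 12444), (11847, 11244), (11848, 12447), (11849, 11245), (11850, 12442), (11851, 12451), (11852, 11247), (11853, 12454), (11854, 11248), (11855, 11252), (11856, 12458), (11857, 11250), (11858, 12456), (11859, 12457), (11860, 11776), (11861, 12455), (11862, 12461), (11863, 11258), (11864, 12463), (11865, 11259), (11866, 11260), (11867, 11265), (11868, 11262), (11869, 12464), (11870, 11870), (11871, 12466), (11872, 12467), (11873, 11268), (11874, 11269), (11875, 12473), (11876, 11270), (11877, 11756), (11878, 11272), (11879, 12349), (11880, 12478), (11881, 11274), (11882, 11281), (11883, 11276), (11884, 11299), (11885, 11285), (11886, 11286), (11887, 12485), (11888, 11279), (11889, 11302),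 (11890, 12480), (11891, 12481), (11892, 11282), (11893, 11304), (11894, 12482), (11895, 12258), (11896, 12484), (11897, 11987), (11898, 12360), (11899, 11294), (11900, 11959), (11901, 11296), (11902, 11295), (11903, 11971)]
    ⟨e3 q11840 (flp_e L197806) q12430, e3 q11841 (flp_e L197530) q12393, e3 q11842 (flp_e L197666) q12413, e3 q11843 (flp_e L197696) q12418, e3 q11844 L197898 q12441, e3 q11845 (flp_e L192344) q11243, e3 q11846 L197929 q12444, e3 q11847 (flp_e L192363) q11244, e3 q11848 L197952 q12447, e3 q11849 (flp_e L192378) q11245, e3 q11850 (flp_e L197918) q12442, e3 q11851 L197977 q12451, e3 q11852 (flp_e L192402) q11247, e3 q11853 L198009 q12454, e3 q11854 (flp_e L192424) q11248, e3 q11855 L192438 q11252, e3 q11856 L198049 q12458, e3 q11857 (flp_e L192446) q11250, e3 q11858 (flp_e L198037) q12456, e3 q11859 (flp_e L198045) q12457, e3 q11860 L192468 q11776, e3 q11861 (flp_e L198029) q12455, e3 q11862 L198067 q12461, e3 q11863 (flp_e L192500) q11258, e3 q11864 L198091 q12463, e3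 q11865 (flp_e L192521) q11259, e3 q11866 (flp_e L192527) q11260, e3 q11867 L192537 q11265, e3 q11868 (flp_e L192539) q11262, e3 q11869 (flp_e L198105) q12464, e3 q11870 L192555 q11870, e3 q11871 (flp_e L198116) q12466, e3 q11872 (flp_e L198120) q12467, e3 q11873 L192572 q11268, e3 q11874 L192576 q11269, e3 q11875 (flp_e L198157) q12473, e3 q11876 (flp_e L192586) q11270, e3 q11877 L192600 q11756, e3 q11878 (flp_e L192602) q11272, e3 q11879 (flp_e L197149) q12349, e3 q11880 L198191 q12478, e3 q11881 (flp_e L192626) q11274, e3 q11882 L192636 q11281, e3 q11883 (flp_e L192638) q11276, e3 q11884 L192656 q11299, e3 q11885 L192666 q11285, e3 q11886 L192670 q11286, e3 q11887 L198263 q12485, e3 q11888 (flp_e L192684) q11279, e3 q11889 L192696 q11302, e3 q11890 (flp_e L198223) q12480, e3 q11891 (flp_e L198227) q12481, e3 q11892 (flp_e L192710) q11282, e3 q11893 L192720 q11304, e3 q11894 (flp_e L198239) q12482, e3 q11895 (flp_e L196347) q12258, e3 q11896 (flp_e L198259) q12484, e3 q11897 (flp_e L193738)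 q11987, e3 q11898 (flp_e L197251) q12360, e3 q11899 L192752 q11294, e3 q11900 (flp_e L193434) q11959, e3 q11901 L192766 q11296, e3 q11902 L192778 q11295, e3 q11903 (flp_e L193574) q11971, trivial⟩ (by decide +kernel)

theorem ce_e_186 : ∀ r, r < 64 → sm ge (Qf (11904 + r)) = Qf (tab Gen.e (11904 + r)) :=
  edges_tab (sm ge) Qf (tab Gen.e) 11904 [(11904, 12497), (11905, 12479), (11906, 11300), (11907, 12486), (11908, 12489), (11909, 12491), (11910, 12503), (11911, 11307), (11912, 12506), (11913, 11308), (11914, 11309), (11915, 11543), (11916, 12512), (11917, 11311), (11918, 12515), (11919, 11312), (11920, 12518), (11921, 11313), (11922, 12516), (11923, 11551), (11924, 12372), (11925, 11316), (11926, 11794), (11927, 11325), (11928, 11320), (11929, 11575), (11930, 12525), (11931, 11322), (11932, 11323), (11933, 11580), (11934, 12522), (11935, 11326), (11936, 11560), (11937, 11328), (11938, 11621), (11939, 11379), (11940, 11563), (11941, 11564), (11942, 12536), (11943, 11332), (11944, 12538),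 (11945, 11333), (11946, 12540), (11947, 11334), (11948, 12537), (11949, 11336), (11950, 11340), (11951, 11338), (11952, 12544), (11953, 12545), (11954, 11348), (11955, 11343), (11956, 11557), (11957, 11351), (11958, 11522), (11959, 11900), (11960, 12548), (11961, 11753), (11962, 11768), (11963, 11352), (11964, 11713), (11965, 11594), (11966, 11595), (11967, 11356)]
    ⟨e3 q11904 (flp_e L198349) q12497, e3 q11905 (flp_e L198215) q12479, e3 q11906 (flp_e L192802) q11300, e3 q11907 (flp_e L198279) q12486, e3 q11908 (flp_e L198301) q12489, e3 q11909 (flp_e L198313) q12491, e3 q11910 L198394 q12503, e3 q11911 (flp_e L192849) q11307, e3 q11912 L198437 q12506, e3 q11913 (flp_e L192876) q11308, e3 q11914 (flp_e L192890) q11309, e3 q11915 L192904 q11543, e3 q11916 L198501 q12512, e3 q11917 (flp_e L192919) q11311, e3 q11918 L198543 q12515, e3 q11919 (flp_e L192947) q11312, e3 q11920 L198585 q12518, e3 q11921 (flp_e L192967) q11313, e3 q11922 (flp_e L198567) q12516, e3 q11923 L192993 q11551, e3 q11924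 (flp_e L197348) q12372, e3 q11925 (flp_e L193009) q11316, e3 q11926 L193025 q11794, e3 q11927 L193048 q11325, e3 q11928 (flp_e L193050) q11320, e3 q11929 L193074 q11575, e3 q11930 L198671 q12525, e3 q11931 (flp_e L193091) q11322, e3 q11932 (flp_e L193105) q11323, e3 q11933 L193129 q11580, e3 q11934 (flp_e L198637) q12522, e3 q11935 (flp_e L193141) q11326, e3 q11936 L193165 q11560, e3 q11937 (flp_e L193167) q11328, e3 q11938 L193195 q11621, e3 q11939 L193209 q11379, e3 q11940 L193219 q11563, e3 q11941 L193225 q11564, e3 q11942 L198823 q12536, e3 q11943 (flp_e L193242) q11332, e3 q11944 L198845 q12538, e3 q11945 (flp_e L193263) q11333, e3 q11946 L198869 q12540, e3 q11947 (flp_e L193290) q11334, e3 q11948 (flp_e L198843) q12537, e3 q11949 (flp_e L193304) q11336, e3 q11950 L193328 q11340, e3 q11951 (flp_e L193330) q11338, e3 q11952 (flp_e L198914) q12544, e3 q11953 (flp_e L198924) q12545, e3 q11954 L193374 q11348, e3 q11955 (flp_e L193376) q11343, e3 q11956 L193400 q11557, e3 q11957 L193408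 q11351, e3 q11958 L193424 q11522, e3 q11959 L193434 q11900, e3 q11960 (flp_e L198964) q12548, e3 q11961 L193454 q11753, e3 q11962 L193464 q11768, e3 q11963 (flp_e L193468) q11352, e3 q11964 L193496 q11713, e3 q11965 L193508 q11594, e3 q11966 L193516 q11595, e3 q11967 (flp_e L193518) q11356, trivial⟩ (by decide +kernel)

theorem ce_e_187 : ∀ r, r < 64 → sm ge (Qf (11968 + r)) = Qf (tab Gen.e (11968 + r)) :=
  edges_tab (sm ge) Qf (tab Gen.e) 11968 [(11968, 12557), (11969, 11359), (11970, 12559), (11971, 11903), (11972, 11380), (11973, 11610), (11974, 11363), (11975, 11364), (11976, 11370), (11977, 11366), (11978, 12563), (11979, 12567), (11980, 11368), (11981, 12483), (11982, 12564), (11983, 11562), (11984, 11376), (11985, 11377), (11986, 11374), (11987, 11897), (11988, 12571), (11989, 12534), (11990, 11383), (11991, 11528), (11992, 12574), (11993, 11384), (11994, 11657), (11995, 11386), (11996, 11761), (11997, 11666), (11998, 12580), (11999, 11389), (12000, 12582), (12001, 11390), (12002,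 12581), (12003, 11392), (12004, 11393), (12005, 11397), (12006, 12590), (12007, 11395), (12008, 12588), (12009, 12589), (12010, 12587), (12011, 11408), (12012, 11529), (12013, 12594), (12014, 11403), (12015, 11810), (12016, 11405), (12017, 11813), (12018, 11814), (12019, 11693), (12020, 11410), (12021, 12601), (12022, 11411), (12023, 11412), (12024, 12600), (12025, 11416), (12026, 12572), (12027, 12605), (12028, 12607), (12029, 11418), (12030, 11419), (12031, 12611)]
    ⟨e3 q11968 (flp_e L199096) q12557, e3 q11969 L193552 q11359, e3 q11970 (flp_e L199118) q12559, e3 q11971 L193574 q11903, e3 q11972 L193584 q11380, e3 q11973 L193594 q11610, e3 q11974 (flp_e L193596) q11363, e3 q11975 (flp_e L193608) q11364, e3 q11976 L193624 q11370, e3 q11977 (flp_e L193626) q11366, e3 q11978 (flp_e L199172) q12563, e3 q11979 L199202 q12567, e3 q11980 (flp_e L193660) q11368, e3 q11981 (flp_e L198253) q12483, e3 q11982 (flp_e L199178) q12564, e3 q11983 L193696 q11562, e3 q11984 L193706 q11376, e3 q11985 L193714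 q11377, e3 q11986 (flp_e L193716) q11374, e3 q11987 L193738 q11897, e3 q11988 (flp_e L199256) q12571, e3 q11989 (flp_e L198809) q12534, e3 q11990 L193771 q11383, e3 q11991 L193785 q11528, e3 q11992 (flp_e L199294) q12574, e3 q11993 (flp_e L193795) q11384, e3 q11994 L193817 q11657, e3 q11995 (flp_e L193819) q11386, e3 q11996 L193845 q11761, e3 q11997 L193851 q11666, e3 q11998 L199370 q12580, e3 q11999 (flp_e L193870) q11389, e3 q12000 L199396 q12582, e3 q12001 (flp_e L193893) q11390, e3 q12002 (flp_e L199394) q12581, e3 q12003 (flp_e L193905) q11392, e3 q12004 (flp_e L193919) q11393, e3 q12005 L193937 q11397, e3 q12006 L199469 q12590, e3 q12007 (flp_e L193949) q11395, e3 q12008 (flp_e L199457) q12588, e3 q12009 (flp_e L199465) q12589, e3 q12010 (flp_e L199447) q12587, e3 q12011 L193989 q11408, e3 q12012 L194005 q11529, e3 q12013 L199510 q12594, e3 q12014 (flp_e L194024) q11403, e3 q12015 L194038 q11810, e3 q12016 (flp_e L194040) q11405, e3 q12017 L194062 q11813, e3 q12018 L194070 q11814,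 e3 q12019 L194082 q11693, e3 q12020 (flp_e L194088) q11410, e3 q12021 L199583 q12601, e3 q12022 (flp_e L194112) q11411, e3 q12023 (flp_e L194126) q11412, e3 q12024 (flp_e L199581) q12600, e3 q12025 L194158 q11416, e3 q12026 (flp_e L199272) q12572, e3 q12027 (flp_e L199641) q12605, e3 q12028 L199661 q12607, e3 q12029 (flp_e L194191) q11418, e3 q12030 (flp_e L194197) q11419, e3 q12031 L199702 q12611, trivial⟩ (by decide +kernel)

theorem ce_e_188 : ∀ r, r < 64 → sm ge (Qf (12032 + r)) = Qf (tab Gen.e (12032 + r)) :=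
  edges_tab (sm ge) Qf (tab Gen.e) 12032 [(12032, 11420), (12033, 12613), (12034, 11421), (12035, 11427), (12036, 12618), (12037, 11423), (12038, 12612), (12039, 12622), (12040, 11425), (12041, 12041), (12042, 12615), (12043, 12616), (12044, 11593), (12045, 11429), (12046, 11434), (12047, 11435), (12048, 11432), (12049, 12628), (12050, 12629), (12051, 11436), (12052, 11783), (12053, 11796), (12054, 11797), (12055, 11523), (12056, 12636), (12057, 11442), (12058, 11802), (12059, 11444), (12060, 11804), (12061, 11805), (12062, 11448), (12063, 12643), (12064, 11449), (12065, 11453), (12066, 12647), (12067, 11451), (12068, 12645), (12069, 12646), (12070, 11502), (12071, 11455), (12072, 11458), (12073, 11460), (12074, 11461), (12075, 12651), (12076, 12653), (12077, 11462), (12078, 12656), (12079, 11463), (12080, 11464), (12081, 12655), (12082, 11468), (12083, 12546), (12084, 12661), (12085, 12663), (12086, 11470), (12087, 12665), (12088, 11471), (12089, 12667), (12090, 11472), (12091, 11473),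 (12092, 11479), (12093, 12672), (12094, 11475), (12095, 12668)]
    ⟨e3 q12032 (flp_e L194220) q11420, e3 q12033 L199722 q12613, e3 q12034 (flp_e L194243) q11421, e3 q12035 L194253 q11427, e3 q12036 L199766 q12618, e3 q12037 (flp_e L194264) q11423, e3 q12038 (flp_e L199720) q12612, e3 q12039 L199795 q12622, e3 q12040 (flp_e L194291) q11425, e3 q12041 L194301 q12041, e3 q12042 (flp_e L199743) q12615, e3 q12043 (flp_e L199747) q12616, e3 q12044 L194324 q11593, e3 q12045 (flp_e L194326) q11429, e3 q12046 L194346 q11434, e3 q12047 L194352 q11435, e3 q12048 (flp_e L194356) q11432, e3 q12049 (flp_e L199860) q12628, e3 q12050 (flp_e L199866) q12629, e3 q12051 (flp_e L194388) q11436, e3 q12052 L194408 q11783, e3 q12053 L194420 q11796, e3 q12054 L194428 q11797, e3 q12055 L194442 q11523, e3 q12056 L199943 q12636, e3 q12057 (flp_e L194463) q11442, e3 q12058 L194483 q11802, e3 q12059 (flp_e L194485) q11444, e3 q12060 L194509 q11804, e3 q12061 L194519 q11805, e3 q12062 (flp_e L194525) q11448, e3 q12063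 L200030 q12643, e3 q12064 (flp_e L194551) q11449, e3 q12065 L194569 q11453, e3 q12066 L200070 q12647, e3 q12067 (flp_e L194585) q11451, e3 q12068 (flp_e L200058) q12645, e3 q12069 (flp_e L200066) q12646, e3 q12070 L194617 q11502, e3 q12071 (flp_e L194619) q11455, e3 q12072 L194645 q11458, e3 q12073 L194655 q11460, e3 q12074 L194665 q11461, e3 q12075 (flp_e L200124) q12651, e3 q12076 (flp_e L200146) q12653, e3 q12077 (flp_e L194683) q11462, e3 q12078 L200170 q12656, e3 q12079 (flp_e L194704) q11463, e3 q12080 (flp_e L194718) q11464, e3 q12081 (flp_e L200168) q12655, e3 q12082 L194744 q11468, e3 q12083 (flp_e L198942) q12546, e3 q12084 (flp_e L200225) q12661, e3 q12085 L200241 q12663, e3 q12086 (flp_e L194777) q11470, e3 q12087 L200265 q12665, e3 q12088 (flp_e L194800) q11471, e3 q12089 L200287 q12667, e3 q12090 (flp_e L194819) q11472, e3 q12091 (flp_e L194829) q11473, e3 q12092 L194841 q11479, e3 q12093 L200326 q12672, e3 q12094 (flp_e L194852) q11475, e3 q12095 (flp_e L200305) q12668, trivial⟩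 (by decide +kernel)

theorem ce_e_189 : ∀ r, r < 64 → sm ge (Qf (12096 + r)) = Qf (tab Gen.e (12096 + r)) :=
  edges_tab (sm ge) Qf (tab Gen.e) 12096 [(12096, 11477), (12097, 12097), (12098, 12670), (12099, 12671), (12100, 11480), (12101, 11692), (12102, 11518), (12103, 11485), (12104, 11486), (12105, 12630), (12106, 12684), (12107, 12252), (12108, 12642), (12109, 12688), (12110, 11489), (12111, 11496), (12112, 11491), (12113, 11500), (12114, 11501), (12115, 12693), (12116, 11494), (12117, 11515), (12118, 12689), (12119, 12690), (12120, 11497), (12121, 11517), (12122, 12691), (12123, 12432), (12124, 12692), (12125, 12650), (12126, 11507), (12127, 11508), (12128, 11608), (12129, 12705), (12130, 12644), (12131, 11513), (12132, 12694), (12133, 12697), (12134, 12699), (12135, 12701), (12136, 12683), (12137, 11791), (12138, 12499), (12139, 12551), (12140, 11582), (12141, 11583), (12142, 11817), (12143, 12575), (12144, 11535), (12145, 11532), (12146, 12462), (12147, 12234), (12148, 12714), (12149,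 12719), (12150, 11536), (12151, 11537), (12152, 12504), (12153, 12724), (12154, 11539), (12155, 12727), (12156, 11540), (12157, 12725), (12158, 12158), (12159, 12509)]
    ⟨e3 q12096 (flp_e L194864) q11477, e3 q12097 L194874 q12097, e3 q12098 (flp_e L200316) q12670, e3 q12099 (flp_e L200322) q12671, e3 q12100 (flp_e L194887) q11480, e3 q12101 L194911 q11692, e3 q12102 L194925 q11518, e3 q12103 L194931 q11485, e3 q12104 L194939 q11486, e3 q12105 (flp_e L199882) q12630, e3 q12106 (flp_e L200436) q12684, e3 q12107 (flp_e L196283) q12252, e3 q12108 (flp_e L200028) q12642, e3 q12109 L200460 q12688, e3 q12110 (flp_e L194977) q11489, e3 q12111 L194987 q11496, e3 q12112 (flp_e L194989) q11491, e3 q12113 L195005 q11500, e3 q12114 L195009 q11501, e3 q12115 L200502 q12693, e3 q12116 (flp_e L195021) q11494, e3 q12117 L195037 q11515, e3 q12118 (flp_e L200476) q12689, e3 q12119 (flp_e L200480) q12690, e3 q12120 (flp_e L195049) q11497, e3 q12121 L195059 q11517, e3 q12122 (flp_e L200492) q12691, e3 q12123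 (flp_e L197826) q12432, e3 q12124 (flp_e L200498) q12692, e3 q12125 (flp_e L200106) q12650, e3 q12126 L195095 q11507, e3 q12127 L195101 q11508, e3 q12128 L195109 q11608, e3 q12129 (flp_e L200604) q12705, e3 q12130 (flp_e L200048) q12644, e3 q12131 (flp_e L195123) q11513, e3 q12132 (flp_e L200516) q12694, e3 q12133 (flp_e L200540) q12697, e3 q12134 (flp_e L200556) q12699, e3 q12135 (flp_e L200570) q12701, e3 q12136 (flp_e L200428) q12683, e3 q12137 L195190 q11791, e3 q12138 (flp_e L198363) q12499, e3 q12139 (flp_e L199006) q12551, e3 q12140 L195234 q11582, e3 q12141 L195242 q11583, e3 q12142 L195252 q11817, e3 q12143 (flp_e L199308) q12575, e3 q12144 L195280 q11535, e3 q12145 (flp_e L195282) q11532, e3 q12146 (flp_e L198089) q12462, e3 q12147 (flp_e L196114) q12234, e3 q12148 (flp_e L200706) q12714, e3 q12149 L200753 q12719, e3 q12150 (flp_e L195333) q11536, e3 q12151 (flp_e L195345) q11537, e3 q12152 (flp_e L198420) q12504, e3 q12153 L200806 q12724, e3 q12154 (flp_e L195380) q11539, e3 q12155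 L200839 q12727, e3 q12156 (flp_e L195399) q11540, e3 q12157 (flp_e L200828) q12725, e3 q12158 L195411 q12158, e3 q12159 (flp_e L198476) q12509, trivial⟩ (by decide +kernel)

theorem ce_e_190 : ∀ r, r < 64 → sm ge (Qf (12160 + r)) = Qf (tab Gen.e (12160 + r)) :=
  edges_tab (sm ge) Qf (tab Gen.e) 12160 [(12160, 12510), (12161, 11544), (12162, 12288), (12163, 12736), (12164, 11546), (12165, 11550), (12166, 12740), (12167, 11548), (12168, 12738), (12169, 12739), (12170, 11777), (12171, 11552), (12172, 12737), (12173, 11558), (12174, 12549), (12175, 12550), (12176, 12529), (12177, 12530), (12178, 12562), (12179, 12570), (12180, 12535), (12181, 11565), (12182, 11566), (12183, 11569), (12184, 12748), (12185, 12749), (12186, 11571), (12187, 11572), (12188, 12245), (12189, 12523), (12190, 12524), (12191, 11577), (12192, 12526), (12193, 12527), (12194, 12528), (12195, 11834), (12196, 11626), (12197, 12713), (12198, 11586), (12199, 12578), (12200, 12762), (12201, 11588), (12202, 12764), (12203, 11589),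 (12204, 11590), (12205, 12609), (12206, 12533), (12207, 12627), (12208, 12556), (12209, 12770), (12210, 11596), (12211, 12772), (12212, 11597), (12213, 11598), (12214, 11603), (12215, 11600), (12216, 12773), (12217, 12217), (12218, 12775), (12219, 12776), (12220, 11606), (12221, 11607), (12222, 12782), (12223, 12706)]
    ⟨e3 q12160 (flp_e L198482) q12510, e3 q12161 (flp_e L195424) q11544, e3 q12162 (flp_e L196619) q12288, e3 q12163 L200908 q12736, e3 q12164 (flp_e L195454) q11546, e3 q12165 L195464 q11550, e3 q12166 L200934 q12740, e3 q12167 (flp_e L195476) q11548, e3 q12168 (flp_e L200926) q12738, e3 q12169 (flp_e L200932) q12739, e3 q12170 (flp_e L195507) q11777, e3 q12171 (flp_e L195509) q11552, e3 q12172 (flp_e L200918) q12737, e3 q12173 L195534 q11558, e3 q12174 (flp_e L198982) q12549, e3 q12175 (flp_e L198992) q12550, e3 q12176 (flp_e L198739) q12529, e3 q12177 (flp_e L198749) q12530, e3 q12178 (flp_e L199160) q12562, e3 q12179 (flp_e L199242) q12570, e3 q12180 (flp_e L198819) q12535,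 e3 q12181 (flp_e L195604) q11565, e3 q12182 (flp_e L195614) q11566, e3 q12183 L195638 q11569, e3 q12184 (flp_e L201030) q12748, e3 q12185 (flp_e L201038) q12749, e3 q12186 L195666 q11571, e3 q12187 (flp_e L195670) q11572, e3 q12188 (flp_e L196236) q12245, e3 q12189 (flp_e L198655) q12523, e3 q12190 (flp_e L198665) q12524, e3 q12191 (flp_e L195702) q11577, e3 q12192 (flp_e L198697) q12526, e3 q12193 (flp_e L198711) q12527, e3 q12194 (flp_e L198721) q12528, e3 q12195 L195752 q11834, e3 q12196 L195760 q11626, e3 q12197 (flp_e L200694) q12713, e3 q12198 L195782 q11586, e3 q12199 (flp_e L199356) q12578, e3 q12200 (flp_e L201172) q12762, e3 q12201 L195810 q11588, e3 q12202 L201188 q12764, e3 q12203 (flp_e L195827) q11589, e3 q12204 (flp_e L195839) q11590, e3 q12205 (flp_e L199685) q12609, e3 q12206 (flp_e L198799) q12533, e3 q12207 (flp_e L199842) q12627, e3 q12208 (flp_e L199082) q12556, e3 q12209 L201251 q12770, e3 q12210 (flp_e L195900) q11596, e3 q12211 L201277 q12772, e3 q12212 (flp_e L195927)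 q11597, e3 q12213 (flp_e L195941) q11598, e3 q12214 L195955 q11603, e3 q12215 (flp_e L195957) q11600, e3 q12216 (flp_e L201303) q12773, e3 q12217 L195977 q12217, e3 q12218 (flp_e L201318) q12775, e3 q12219 (flp_e L201324) q12776, e3 q12220 L196000 q11606, e3 q12221 L196006 q11607, e3 q12222 (flp_e L201371) q12782, e3 q12223 (flp_e L200614) q12706, trivial⟩ (by decide +kernel)

theorem ce_e_191 : ∀ r, r < 64 → sm ge (Qf (12224 + r)) = Qf (tab Gen.e (12224 + r)) :=
  edges_tab (sm ge) Qf (tab Gen.e) 12224 [(12224, 12700), (12225, 11627), (12226, 12419), (12227, 12531), (12228, 11617), (12229, 11619), (12230, 11620), (12231, 11625), (12232, 12576), (12233, 12787), (12234, 12147), (12235, 12788), (12236, 12532), (12237, 11624), (12238, 12761), (12239, 11653), (12240, 12357), (12241, 12369), (12242, 11634), (12243, 11639), (12244, 11636), (12245, 12188), (12246, 12246), (12247, 12794), (12248, 12795), (12249, 11642), (12250, 11643), (12251, 12801), (12252, 12107), (12253, 11647), (12254, 11648),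 (12255, 12803), (12256, 12804), (12257, 11650), (12258, 11895), (12259, 12370), (12260, 11655), (12261, 12789), (12262, 12577), (12263, 11658), (12264, 12811), (12265, 11659), (12266, 12814), (12267, 11660), (12268, 12809), (12269, 11665), (12270, 12819), (12271, 11663), (12272, 12488), (12273, 12818), (12274, 11667), (12275, 12824), (12276, 11668), (12277, 12826), (12278, 11669), (12279, 11675), (12280, 12831), (12281, 11671), (12282, 12825), (12283, 12834), (12284, 11673), (12285, 12828), (12286, 12829), (12287, 11676)]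
    ⟨e3 q12224 (flp_e L200566) q12700, e3 q12225 L196026 q11627, e3 q12226 (flp_e L197708) q12419, e3 q12227 (flp_e L198769) q12531, e3 q12228 L196050 q11617, e3 q12229 L196064 q11619, e3 q12230 L196070 q11620, e3 q12231 L196084 q11625, e3 q12232 (flp_e L199330) q12576, e3 q12233 (flp_e L201405) q12787, e3 q12234 L196114 q12147, e3 q12235 (flp_e L201421) q12788, e3 q12236 (flp_e L198781) q12532, e3 q12237 L196142 q11624, e3 q12238 (flp_e L201162) q12761, e3 q12239 L196162 q11653, e3 q12240 (flp_e L197227) q12357, e3 q12241 (flp_e L197325) q12369, e3 q12242 (flp_e L196192) q11634, e3 q12243 L196208 q11639, e3 q12244 (flp_e L196210) q11636, e3 q12245 L196236 q12188, e3 q12246 L196242 q12246, e3 q12247 (flp_e L201492) q12794, e3 q12248 (flp_e L201498) q12795, e3 q12249 L196261 q11642, e3 q12250 L196269 q11643, e3 q12251 (flp_e L201565) q12801, e3 q12252 L196283 q12107, e3 q12253 L196297 q11647, e3 q12254 L196301 q11648, e3 q12255 (flp_e L201585) q12803, e3 q12256 L201593 q12804, e3 q12257 (flp_e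 L196329) q11650, e3 q12258 L196347 q11895, e3 q12259 (flp_e L197333) q12370, e3 q12260 (flp_e L196357) q11655, e3 q12261 (flp_e L201435) q12789, e3 q12262 (flp_e L199336) q12577, e3 q12263 (flp_e L196387) q11658, e3 q12264 L201668 q12811, e3 q12265 (flp_e L196410) q11659, e3 q12266 L201703 q12814, e3 q12267 (flp_e L196433) q11660, e3 q12268 (flp_e L201653) q12809, e3 q12269 L196457 q11665, e3 q12270 L201746 q12819, e3 q12271 (flp_e L196469) q11663, e3 q12272 (flp_e L198295) q12488, e3 q12273 (flp_e L201742) q12818, e3 q12274 (flp_e L196495) q11667, e3 q12275 L201798 q12824, e3 q12276 (flp_e L196521) q11668, e3 q12277 L201824 q12826, e3 q12278 (flp_e L196545) q11669, e3 q12279 L196557 q11675, e3 q12280 L201864 q12831, e3 q12281 (flp_e L196565) q11671, e3 q12282 (flp_e L201822) q12825, e3 q12283 L201882 q12834, e3 q12284 (flp_e L196585) q11673, e3 q12285 (flp_e L201846) q12828, e3 q12286 (flp_e L201850) q12829, e3 q12287 (flp_e L196603) q11676, trivial⟩ (by decide +kernel)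

theorem ce_e_192 : ∀ r, r < 64 → sm ge (Qf (12288 + r)) = Qf (tab Gen.e (12288 + r)) :=
  edges_tab (sm ge) Qf (tab Gen.e) 12288 [(12288, 12162), (12289, 12827), (12290, 11678), (12291, 11686), (12292, 11683), (12293, 11684), (12294, 11681), (12295, 12839), (12296, 12841), (12297, 12845), (12298, 11687), (12299, 12847), (12300, 11688), (12301, 12666), (12302, 11690), (12303, 12680), (12304, 12681), (12305, 12853), (12306, 11694), (12307, 11695), (12308, 11696), (12309, 11701), (12310, 11698), (12311, 12855), (12312, 12312), (12313, 12857), (12314, 12858), (12315, 11704), (12316, 11705), (12317, 12864), (12318, 11706), (12319, 12822), (12320, 12554), (12321, 11711), (12322, 11712), (12323, 12868), (12324, 12555), (12325, 11715), (12326, 12348), (12327, 11757), (12328, 11720), (12329, 11721), (12330, 12872), (12331, 11766), (12332, 12873), (12333, 11724), (12334, 11725), (12335, 11726), (12336, 11732), (12337, 12878), (12338, 11728), (12339, 12875), (12340, 11730), (12341, 12876), (12342,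 12877), (12343, 11736), (12344, 11737), (12345, 12652), (12346, 12883), (12347, 11738), (12348, 12326), (12349, 11879), (12350, 11745), (12351, 11748)]
    ⟨e3 q12288 L196619 q12162, e3 q12289 (flp_e L201838) q12827, e3 q12290 (flp_e L196629) q11678, e3 q12291 L196641 q11686, e3 q12292 L196647 q11683, e3 q12293 L196651 q11684, e3 q12294 (flp_e L196653) q11681, e3 q12295 (flp_e L201930) q12839, e3 q12296 (flp_e L201942) q12841, e3 q12297 L201967 q12845, e3 q12298 (flp_e L196676) q11687, e3 q12299 L201991 q12847, e3 q12300 (flp_e L196703) q11688, e3 q12301 (flp_e L200285) q12666, e3 q12302 (flp_e L196719) q11690, e3 q12303 (flp_e L200390) q12680, e3 q12304 (flp_e L200400) q12681, e3 q12305 L202050 q12853, e3 q12306 (flp_e L196764) q11694, e3 q12307 (flp_e L196774) q11695, e3 q12308 (flp_e L196788) q11696, e3 q12309 L196800 q11701, e3 q12310 (flp_e L196802) q11698, e3 q12311 (flp_e L202084) q12855, e3 q12312 L196824 q12312, e3 q12313 (flp_e L202095) q12857, e3 q12314 (flp_e L202101) q12858,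 e3 q12315 L196845 q11704, e3 q12316 L196851 q11705, e3 q12317 (flp_e L202146) q12864, e3 q12318 (flp_e L196863) q11706, e3 q12319 (flp_e L201782) q12822, e3 q12320 (flp_e L199054) q12554, e3 q12321 L196893 q11711, e3 q12322 L196897 q11712, e3 q12323 (flp_e L202178) q12868, e3 q12324 (flp_e L199066) q12555, e3 q12325 (flp_e L196913) q11715, e3 q12326 (flp_e L197139) q12348, e3 q12327 L196939 q11757, e3 q12328 L196949 q11720, e3 q12329 L196955 q11721, e3 q12330 (flp_e L202222) q12872, e3 q12331 L196971 q11766, e3 q12332 L202228 q12873, e3 q12333 (flp_e L196991) q11724, e3 q12334 (flp_e L197003) q11725, e3 q12335 (flp_e L197017) q11726, e3 q12336 L197033 q11732, e3 q12337 L202292 q12878, e3 q12338 (flp_e L197043) q11728, e3 q12339 (flp_e L202270) q12875, e3 q12340 (flp_e L197063) q11730, e3 q12341 (flp_e L202282) q12876, e3 q12342 (flp_e L202288) q12877, e3 q12343 L197099 q11736, e3 q12344 L197105 q11737, e3 q12345 (flp_e L200138) q12652, e3 q12346 (flp_e L202348) q12883, e3 q12347 (flp_e L197121)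 q11738, e3 q12348 L197139 q12326, e3 q12349 L197149 q11879, e3 q12350 L197159 q11745, e3 q12351 L197171 q11748, trivial⟩ (by decide +kernel)

theorem ce_e_193 : ∀ r, r < 64 → sm ge (Qf (12352 + r)) = Qf (tab Gen.e (12352 + r)) :=
  edges_tab (sm ge) Qf (tab Gen.e) 12352 [(12352, 11749), (12353, 11772), (12354, 12591), (12355, 12888), (12356, 11773), (12357, 12240), (12358, 12837), (12359, 12889), (12360, 11898), (12361, 11754), (12362, 12553), (12363, 12474), (12364, 12475), (12365, 12871), (12366, 11762), (12367, 11765), (12368, 12579), (12369, 12241), (12370, 12259), (12371, 12389), (12372, 11924), (12373, 12897), (12374, 11780), (12375, 12381), (12376, 12376), (12377, 12633), (12378, 12634), (12379, 12905), (12380, 11784), (12381, 12375), (12382, 12910), (12383, 11786), (12384, 11790), (12385, 12914), (12386, 11788), (12387, 12912), (12388, 12913), (12389, 12371), (12390, 11792), (12391, 12911), (12392, 12682), (12393, 11841), (12394, 12635), (12395, 12921), (12396, 11798), (12397, 12507),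 (12398, 11800), (12399, 12399), (12400, 12638), (12401, 12639), (12402, 12640), (12403, 12641), (12404, 12930), (12405, 11806), (12406, 12513), (12407, 11808), (12408, 12408), (12409, 12596), (12410, 12597), (12411, 12598), (12412, 12851), (12413, 11842), (12414, 12599), (12415, 11815)]
    ⟨e3 q12352 L197177 q11749, e3 q12353 L197191 q11772, e3 q12354 (flp_e L199489) q12591, e3 q12355 (flp_e L202396) q12888, e3 q12356 L197215 q11773, e3 q12357 L197227 q12240, e3 q12358 (flp_e L201912) q12837, e3 q12359 (flp_e L202410) q12889, e3 q12360 L197251 q11898, e3 q12361 L197259 q11754, e3 q12362 (flp_e L199036) q12553, e3 q12363 (flp_e L198171) q12474, e3 q12364 (flp_e L198177) q12475, e3 q12365 (flp_e L202208) q12871, e3 q12366 L197297 q11762, e3 q12367 L197311 q11765, e3 q12368 (flp_e L199366) q12579, e3 q12369 L197325 q12241, e3 q12370 L197333 q12259, e3 q12371 L197498 q12389, e3 q12372 L197348 q11924, e3 q12373 L202489 q12897, e3 q12374 (flp_e L197362) q11780, e3 q12375 (flp_e L197420) q12381,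 e3 q12376 L197380 q12376, e3 q12377 (flp_e L199915) q12633, e3 q12378 (flp_e L199921) q12634, e3 q12379 L202546 q12905, e3 q12380 (flp_e L197404) q11784, e3 q12381 L197420 q12375, e3 q12382 L202593 q12910, e3 q12383 (flp_e L197434) q11786, e3 q12384 L197456 q11790, e3 q12385 L202639 q12914, e3 q12386 (flp_e L197466) q11788, e3 q12387 (flp_e L202623) q12912, e3 q12388 (flp_e L202633) q12913, e3 q12389 (flp_e L197498) q12371, e3 q12390 (flp_e L197500) q11792, e3 q12391 (flp_e L202611) q12911, e3 q12392 (flp_e L200418) q12682, e3 q12393 L197530 q11841, e3 q12394 (flp_e L199937) q12635, e3 q12395 L202691 q12921, e3 q12396 (flp_e L197545) q11798, e3 q12397 (flp_e L198461) q12507, e3 q12398 (flp_e L197563) q11800, e3 q12399 L197573 q12399, e3 q12400 (flp_e L199974) q12638, e3 q12401 (flp_e L199984) q12639, e3 q12402 (flp_e L200002) q12640, e3 q12403 (flp_e L200012) q12641, e3 q12404 L202755 q12930, e3 q12405 (flp_e L197609) q11806, e3 q12406 (flp_e L198525) q12513, e3 q12407 (flp_e L197623) q11808,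 e3 q12408 L197635 q12408, e3 q12409 (flp_e L199535) q12596, e3 q12410 (flp_e L199541) q12597, e3 q12411 (flp_e L199559) q12598, e3 q12412 (flp_e L202038) q12851, e3 q12413 L197666 q11842, e3 q12414 (flp_e L199567) q12599, e3 q12415 (flp_e L197672) q11815, trivial⟩ (by decide +kernel)

theorem ce_e_194 : ∀ r, r < 64 → sm ge (Qf (12416 + r)) = Qf (tab Gen.e (12416 + r)) :=
  edges_tab (sm ge) Qf (tab Gen.e) 12416 [(12416, 12943), (12417, 12944), (12418, 11843), (12419, 12226), (12420, 11819), (12421, 11825), (12422, 11829), (12423, 11830), (12424, 12951), (12425, 11823), (12426, 11838), (12427, 12948), (12428, 12949), (12429, 11826), (12430, 11840), (12431, 12760), (12432, 12123), (12433, 12950), (12434, 11835), (12435, 12759), (12436, 11836), (12437, 12952), (12438, 12956), (12439, 12920), (12440, 12942), (12441, 11844), (12442, 11850), (12443, 12965), (12444, 11846), (12445, 12720), (12446, 12969), (12447, 11848), (12448, 12448), (12449, 12962), (12450, 12963), (12451, 11851), (12452, 12733),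 (12453, 12976), (12454, 11853), (12455, 11861), (12456, 11858), (12457, 11859), (12458, 11856), (12459, 12977), (12460, 12979), (12461, 11862), (12462, 12146), (12463, 11864), (12464, 11869), (12465, 12465), (12466, 11871), (12467, 11872), (12468, 12468), (12469, 12986), (12470, 12987), (12471, 12993), (12472, 12989), (12473, 11875), (12474, 12363), (12475, 12364), (12476, 12568), (12477, 12887), (12478, 11880), (12479, 11905)]
    ⟨e3 q12416 (flp_e L202848) q12943, e3 q12417 (flp_e L202856) q12944, e3 q12418 L197696 q11843, e3 q12419 L197708 q12226, e3 q12420 (flp_e L197710) q11819, e3 q12421 L197726 q11825, e3 q12422 L197738 q11829, e3 q12423 L197744 q11830, e3 q12424 L202918 q12951, e3 q12425 (flp_e L197758) q11823, e3 q12426 L197774 q11838, e3 q12427 (flp_e L202896) q12948, e3 q12428 (flp_e L202902) q12949, e3 q12429 (flp_e L197792) q11826, e3 q12430 L197806 q11840, e3 q12431 (flp_e L201148) q12760, e3 q12432 L197826 q12123, e3 q12433 (flp_e L202914) q12950, e3 q12434 L197842 q11835,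 e3 q12435 (flp_e L201138) q12759, e3 q12436 (flp_e L197848) q11836, e3 q12437 (flp_e L202934) q12952, e3 q12438 (flp_e L202970) q12956, e3 q12439 (flp_e L202687) q12920, e3 q12440 (flp_e L202840) q12942, e3 q12441 (flp_e L197898) q11844, e3 q12442 L197918 q11850, e3 q12443 L203058 q12965, e3 q12444 (flp_e L197929) q11846, e3 q12445 (flp_e L200773) q12720, e3 q12446 L203091 q12969, e3 q12447 (flp_e L197952) q11848, e3 q12448 L197964 q12448, e3 q12449 (flp_e L203033) q12962, e3 q12450 (flp_e L203043) q12963, e3 q12451 (flp_e L197977) q11851, e3 q12452 (flp_e L200886) q12733, e3 q12453 L203148 q12976, e3 q12454 (flp_e L198009) q11853, e3 q12455 L198029 q11861, e3 q12456 L198037 q11858, e3 q12457 L198045 q11859, e3 q12458 (flp_e L198049) q11856, e3 q12459 (flp_e L203170) q12977, e3 q12460 (flp_e L203186) q12979, e3 q12461 (flp_e L198067) q11862, e3 q12462 L198089 q12146, e3 q12463 (flp_e L198091) q11864, e3 q12464 L198105 q11869, e3 q12465 L198109 q12465, e3 q12466 L198116 q11871, e3 q12467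 L198120 q11872, e3 q12468 L198128 q12468, e3 q12469 (flp_e L203254) q12986, e3 q12470 (flp_e L203258) q12987, e3 q12471 L203295 q12993, e3 q12472 (flp_e L203272) q12989, e3 q12473 L198157 q11875, e3 q12474 L198171 q12363, e3 q12475 L198177 q12364, e3 q12476 (flp_e L199222) q12568, e3 q12477 (flp_e L202382) q12887, e3 q12478 (flp_e L198191) q11880, e3 q12479 L198215 q11905, trivial⟩ (by decide +kernel)

theorem ce_e_195 : ∀ r, r < 64 → sm ge (Qf (12480 + r)) = Qf (tab Gen.e (12480 + r)) :=
  edges_tab (sm ge) Qf (tab Gen.e) 12480 [(12480, 11890), (12481, 11891), (12482, 11894), (12483, 11981), (12484, 11896), (12485, 11887), (12486, 11907), (12487, 12997), (12488, 12272), (12489, 11908), (12490, 12999), (12491, 11909), (12492, 12561), (12493, 12805), (12494, 13000), (12495, 12806), (12496, 12573), (12497, 11904), (12498, 12552), (12499, 12138), (12500, 12560), (12501, 13002), (12502, 13005), (12503, 11910), (12504, 12152), (12505, 13017), (12506, 11912), (12507, 12397), (12508, 12508), (12509,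 12159), (12510, 12160), (12511, 13024), (12512, 11916), (12513, 12406), (12514, 13028), (12515, 11918), (12516, 11922), (12517, 13032), (12518, 11920), (12519, 13030), (12520, 13031), (12521, 13029), (12522, 11934), (12523, 12189), (12524, 12190), (12525, 11930), (12526, 12192), (12527, 12193), (12528, 12194), (12529, 12176), (12530, 12177), (12531, 12227), (12532, 12236), (12533, 12206), (12534, 11989), (12535, 12180), (12536, 11942), (12537, 11948), (12538, 11944), (12539, 12771), (12540, 11946), (12541, 12541), (12542, 13046), (12543, 13047)]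
    ⟨e3 q12480 L198223 q11890, e3 q12481 L198227 q11891, e3 q12482 L198239 q11894, e3 q12483 L198253 q11981, e3 q12484 L198259 q11896, e3 q12485 (flp_e L198263) q11887, e3 q12486 L198279 q11907, e3 q12487 (flp_e L203334) q12997, e3 q12488 L198295 q12272, e3 q12489 L198301 q11908, e3 q12490 (flp_e L203354) q12999, e3 q12491 L198313 q11909, e3 q12492 (flp_e L199146) q12561, e3 q12493 (flp_e L201613) q12805, e3 q12494 (flp_e L203364) q13000, e3 q12495 (flp_e L201623) q12806, e3 q12496 (flp_e L199282) q12573, e3 q12497 L198349 q11904, e3 q12498 (flp_e L199022) q12552, e3 q12499 L198363 q12138, e3 q12500 (flp_e L199134) q12560, e3 q12501 (flp_e L203392) q13002, e3 q12502 (flp_e L203422) q13005, e3 q12503 (flp_e L198394) q11910, e3 q12504 L198420 q12152, e3 q12505 L203538 q13017, e3 q12506 (flp_e L198437) q11912, e3 q12507 L198461 q12397, e3 q12508 L198467 q12508, e3 q12509 L198476 q12159, e3 q12510 L198482 q12160, e3 q12511 L203618 q13024, e3 q12512 (flp_e L198501) q11916, e3 q12513 L198525 q12406,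 e3 q12514 L203673 q13028, e3 q12515 (flp_e L198543) q11918, e3 q12516 L198567 q11922, e3 q12517 L203725 q13032, e3 q12518 (flp_e L198585) q11920, e3 q12519 (flp_e L203709) q13030, e3 q12520 (flp_e L203719) q13031, e3 q12521 (flp_e L203697) q13029, e3 q12522 L198637 q11934, e3 q12523 L198655 q12189, e3 q12524 L198665 q12190, e3 q12525 (flp_e L198671) q11930, e3 q12526 L198697 q12192, e3 q12527 L198711 q12193, e3 q12528 L198721 q12194, e3 q12529 L198739 q12176, e3 q12530 L198749 q12177, e3 q12531 L198769 q12227, e3 q12532 L198781 q12236, e3 q12533 L198799 q12206, e3 q12534 L198809 q11989, e3 q12535 L198819 q12180, e3 q12536 (flp_e L198823) q11942, e3 q12537 L198843 q11948, e3 q12538 (flp_e L198845) q11944, e3 q12539 (flp_e L201275) q12771, e3 q12540 (flp_e L198869) q11946, e3 q12541 L198885 q12541, e3 q12542 (flp_e L203936) q13046, e3 q12543 (flp_e L203944) q13047, trivial⟩ (by decide +kernel)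

theorem ce_e_196 : ∀ r, r < 64 → sm ge (Qf (12544 + r)) = Qf (tab Gen.e (12544 + r)) :=
  edges_tab (sm ge) Qf (tab Gen.e) 12544 [(12544, 11952), (12545, 11953), (12546, 12083), (12547, 13055), (12548, 11960), (12549, 12174), (12550, 12175), (12551, 12139), (12552, 12498), (12553, 12362), (12554, 12320), (12555, 12324), (12556, 12208), (12557, 11968), (12558, 13059), (12559, 11970), (12560, 12500), (12561, 12492), (12562, 12178), (12563, 11978), (12564, 11982), (12565, 12998), (12566, 13062), (12567, 11979), (12568, 12476), (12569, 13001), (12570, 12179), (12571, 11988), (12572, 12026), (12573, 12496), (12574, 11992), (12575, 12143), (12576, 12232), (12577, 12262), (12578, 12199), (12579, 12368), (12580, 11998), (12581, 12002), (12582, 12000), (12583, 12583), (12584, 13070), (12585, 13071), (12586, 12747), (12587, 12010), (12588, 12008), (12589, 12009), (12590, 12006), (12591, 12354), (12592, 13079), (12593, 13078), (12594, 12013), (12595, 12595), (12596, 12409), (12597, 12410), (12598,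 12411), (12599, 12414), (12600, 12024), (12601, 12021), (12602, 12874), (12603, 13064), (12604, 13087), (12605, 12027), (12606, 13066), (12607, 12028)]
    ⟨e3 q12544 L198914 q11952, e3 q12545 L198924 q11953, e3 q12546 L198942 q12083, e3 q12547 (flp_e L204036) q13055, e3 q12548 L198964 q11960, e3 q12549 L198982 q12174, e3 q12550 L198992 q12175, e3 q12551 L199006 q12139, e3 q12552 L199022 q12498, e3 q12553 L199036 q12362, e3 q12554 L199054 q12320, e3 q12555 L199066 q12324, e3 q12556 L199082 q12208, e3 q12557 L199096 q11968, e3 q12558 (flp_e L204100) q13059, e3 q12559 L199118 q11970, e3 q12560 L199134 q12500, e3 q12561 L199146 q12492, e3 q12562 L199160 q12178, e3 q12563 L199172 q11978, e3 q12564 L199178 q11982, e3 q12565 (flp_e L203348) q12998, e3 q12566 (flp_e L204144) q13062, e3 q12567 (flp_e L199202) q11979, e3 q12568 L199222 q12476, e3 q12569 (flp_e L203378) q13001, e3 q12570 L199242 q12179, e3 q12571 L199256 q11988, e3 q12572 L199272 q12026, e3 q12573 L199282 q12496, e3 q12574 L199294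 q11992, e3 q12575 L199308 q12143, e3 q12576 L199330 q12232, e3 q12577 L199336 q12262, e3 q12578 L199356 q12199, e3 q12579 L199366 q12368, e3 q12580 (flp_e L199370) q11998, e3 q12581 L199394 q12002, e3 q12582 (flp_e L199396) q12000, e3 q12583 L199410 q12583, e3 q12584 (flp_e L204259) q13070, e3 q12585 (flp_e L204267) q13071, e3 q12586 (flp_e L201014) q12747, e3 q12587 L199447 q12010, e3 q12588 L199457 q12008, e3 q12589 L199465 q12009, e3 q12590 (flp_e L199469) q12006, e3 q12591 L199489 q12354, e3 q12592 (flp_e L204354) q13079, e3 q12593 (flp_e L204342) q13078, e3 q12594 (flp_e L199510) q12013, e3 q12595 L199526 q12595, e3 q12596 L199535 q12409, e3 q12597 L199541 q12410, e3 q12598 L199559 q12411, e3 q12599 L199567 q12414, e3 q12600 L199581 q12024, e3 q12601 (flp_e L199583) q12021, e3 q12602 (flp_e L202256) q12874, e3 q12603 (flp_e L204170) q13064, e3 q12604 (flp_e L204445) q13087, e3 q12605 L199641 q12027, e3 q12606 (flp_e L204194) q13066, e3 q12607 (flp_e L199661) q12028, trivial⟩ (by decide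 +kernel)

theorem ce_e_197 : ∀ r, r < 64 → sm ge (Qf (12608 + r)) = Qf (tab Gen.e (12608 + r)) :=
  edges_tab (sm ge) Qf (tab Gen.e) 12608 [(12608, 12765), (12609, 12205), (12610, 13095), (12611, 12031), (12612, 12038), (12613, 12033), (12614, 12614), (12615, 12042), (12616, 12043), (12617, 13103), (12618, 12036), (12619, 12619), (12620, 13097), (12621, 13098), (12622, 12039), (12623, 12623), (12624, 13100), (12625, 13113), (12626, 13102), (12627, 12207), (12628, 12049), (12629, 12050), (12630, 12105), (12631, 13115), (12632, 12632), (12633, 12377), (12634, 12378), (12635, 12394), (12636, 12056), (12637, 12637), (12638, 12400), (12639, 12401), (12640, 12402), (12641, 12403), (12642, 12108), (12643, 12063), (12644, 12130), (12645, 12068), (12646, 12069), (12647, 12066), (12648, 13125), (12649, 13127), (12650, 12125), (12651, 12075), (12652, 12345), (12653, 12076), (12654, 13130), (12655, 12081), (12656, 12078), (12657, 12664), (12658, 12658), (12659, 13052), (12660, 13132), (12661, 12084),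 (12662, 13056), (12663, 12085), (12664, 12657), (12665, 12087), (12666, 12301), (12667, 12089), (12668, 12095), (12669, 12669), (12670, 12098), (12671, 12099)]
    ⟨e3 q12608 (flp_e L201210) q12765, e3 q12609 L199685 q12205, e3 q12610 L204530 q13095, e3 q12611 (flp_e L199702) q12031, e3 q12612 L199720 q12038, e3 q12613 (flp_e L199722) q12033, e3 q12614 L199736 q12614, e3 q12615 L199743 q12042, e3 q12616 L199747 q12043, e3 q12617 L204612 q13103, e3 q12618 (flp_e L199766) q12036, e3 q12619 L199780 q12619, e3 q12620 (flp_e L204563) q13097, e3 q12621 (flp_e L204569) q13098, e3 q12622 (flp_e L199795) q12039, e3 q12623 L199811 q12623, e3 q12624 (flp_e L204598) q13100, e3 q12625 L204711 q13113, e3 q12626 (flp_e L204608) q13102, e3 q12627 L199842 q12207, e3 q12628 L199860 q12049, e3 q12629 L199866 q12050, e3 q12630 L199882 q12105, e3 q12631 (flp_e L204732) q13115, e3 q12632 L199902 q12632, e3 q12633 L199915 q12377, e3 q12634 L199921 q12378, e3 q12635 L199937 q12394, e3 q12636 (flp_e L199943) q12056,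 e3 q12637 L199963 q12637, e3 q12638 L199974 q12400, e3 q12639 L199984 q12401, e3 q12640 L200002 q12402, e3 q12641 L200012 q12403, e3 q12642 L200028 q12108, e3 q12643 (flp_e L200030) q12063, e3 q12644 L200048 q12130, e3 q12645 L200058 q12068, e3 q12646 L200066 q12069, e3 q12647 (flp_e L200070) q12066, e3 q12648 (flp_e L204863) q13125, e3 q12649 (flp_e L204877) q13127, e3 q12650 L200106 q12125, e3 q12651 L200124 q12075, e3 q12652 L200138 q12345, e3 q12653 L200146 q12076, e3 q12654 (flp_e L204913) q13130, e3 q12655 L200168 q12081, e3 q12656 (flp_e L200170) q12078, e3 q12657 (flp_e L200263) q12664, e3 q12658 L200200 q12658, e3 q12659 (flp_e L204008) q13052, e3 q12660 (flp_e L204941) q13132, e3 q12661 L200225 q12084, e3 q12662 (flp_e L204052) q13056, e3 q12663 (flp_e L200241) q12085, e3 q12664 L200263 q12657, e3 q12665 (flp_e L200265) q12087, e3 q12666 L200285 q12301, e3 q12667 (flp_e L200287) q12089, e3 q12668 L200305 q12095, e3 q12669 L200309 q12669, e3 q12670 L200316 q12098, e3 q12671 L200322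 q12099, trivial⟩ (by decide +kernel)

theorem ce_e_198 : ∀ r, r < 64 → sm ge (Qf (12672 + r)) = Qf (tab Gen.e (12672 + r)) :=
  edges_tab (sm ge) Qf (tab Gen.e) 12672 [(12672, 12093), (12673, 12673), (12674, 13145), (12675, 13146), (12676, 12676), (12677, 13110), (12678, 13157), (12679, 13149), (12680, 12303), (12681, 12304), (12682, 12392), (12683, 12136), (12684, 12106), (12685, 13116), (12686, 12802), (12687, 13124), (12688, 12109), (12689, 12118), (12690, 12119), (12691, 12122), (12692, 12124), (12693, 12115), (12694, 12132), (12695, 13163), (12696, 12954), (12697, 12133), (12698, 13164), (12699, 12134), (12700, 12224), (12701, 12135), (12702, 12957), (12703, 13165), (12704, 12959), (12705, 12129), (12706, 12223), (12707, 13166), (12708, 13168), (12709, 13170), (12710, 13174), (12711, 13162), (12712, 13012), (12713, 12197), (12714, 12148), (12715, 12715), (12716, 12983), (12717, 12984), (12718, 12791), (12719, 12149), (12720, 12445), (12721, 12721), (12722, 13015), (12723, 13016), (12724,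 12153), (12725, 12157), (12726, 13191), (12727, 12155), (12728, 12728), (12729, 13189), (12730, 13190), (12731, 13196), (12732, 13023), (12733, 12452), (12734, 12838), (12735, 13199)]
    ⟨e3 q12672 (flp_e L200326) q12093, e3 q12673 L200340 q12673, e3 q12674 (flp_e L205087) q13145, e3 q12675 (flp_e L205097) q13146, e3 q12676 L200357 q12676, e3 q12677 (flp_e L204693) q13110, e3 q12678 L205178 q13157, e3 q12679 (flp_e L205120) q13149, e3 q12680 L200390 q12303, e3 q12681 L200400 q12304, e3 q12682 L200418 q12392, e3 q12683 L200428 q12136, e3 q12684 L200436 q12106, e3 q12685 (flp_e L204748) q13116, e3 q12686 (flp_e L201573) q12802, e3 q12687 (flp_e L204847) q13124, e3 q12688 (flp_e L200460) q12109, e3 q12689 L200476 q12118, e3 q12690 L200480 q12119, e3 q12691 L200492 q12122, e3 q12692 L200498 q12124, e3 q12693 (flp_e L200502) q12115, e3 q12694 L200516 q12132, e3 q12695 (flp_e L205251) q13163, e3 q12696 (flp_e L202952) q12954, e3 q12697 L200540 q12133, e3 q12698 (flp_e L205257) q13164, e3 q12699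 L200556 q12134, e3 q12700 L200566 q12224, e3 q12701 L200570 q12135, e3 q12702 (flp_e L202982) q12957, e3 q12703 (flp_e L205267) q13165, e3 q12704 (flp_e L202998) q12959, e3 q12705 L200604 q12129, e3 q12706 L200614 q12223, e3 q12707 (flp_e L205283) q13166, e3 q12708 (flp_e L205295) q13168, e3 q12709 (flp_e L205315) q13170, e3 q12710 (flp_e L205353) q13174, e3 q12711 (flp_e L205237) q13162, e3 q12712 (flp_e L203474) q13012, e3 q12713 L200694 q12197, e3 q12714 L200706 q12148, e3 q12715 L200720 q12715, e3 q12716 (flp_e L203225) q12983, e3 q12717 (flp_e L203235) q12984, e3 q12718 (flp_e L201459) q12791, e3 q12719 (flp_e L200753) q12149, e3 q12720 L200773 q12445, e3 q12721 L200783 q12721, e3 q12722 (flp_e L203520) q13015, e3 q12723 (flp_e L203530) q13016, e3 q12724 (flp_e L200806) q12153, e3 q12725 L200828 q12157, e3 q12726 L205531 q13191, e3 q12727 (flp_e L200839) q12155, e3 q12728 L200853 q12728, e3 q12729 (flp_e L205517) q13189, e3 q12730 (flp_e L205527) q13190, e3 q12731 L205570 q13196, e3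 q12732 (flp_e L203614) q13023, e3 q12733 L200886 q12452, e3 q12734 (flp_e L201918) q12838, e3 q12735 L205593 q13199, trivial⟩ (by decide +kernel)

theorem ce_e_199 : ∀ r, r < 64 → sm ge (Qf (12736 + r)) = Qf (tab Gen.e (12736 + r)) :=
  edges_tab (sm ge) Qf (tab Gen.e) 12736 [(12736, 12163), (12737, 12172), (12738, 12168), (12739, 12169), (12740, 12166), (12741, 13201), (12742, 13203), (12743, 13200), (12744, 13057), (12745, 13041), (12746, 13061), (12747, 12586), (12748, 12184), (12749, 12185), (12750, 13207), (12751, 12751), (12752, 12797), (12753, 12798), (12754, 13036), (12755, 12755), (12756, 13038), (12757, 13039), (12758, 13040), (12759, 12435), (12760, 12431), (12761, 12238), (12762, 12200), (12763, 13068), (12764, 12202), (12765, 12608), (12766, 12766), (12767, 13044), (12768, 13094), (12769, 13043), (12770, 12209), (12771, 12539), (12772, 12211), (12773, 12216), (12774, 12774), (12775, 12218), (12776, 12219), (12777, 12777), (12778, 13223), (12779, 13224), (12780, 13230), (12781,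 13226), (12782, 12222), (12783, 13176), (12784, 13167), (12785, 12947), (12786, 13042), (12787, 12233), (12788, 12235), (12789, 12261), (12790, 13067), (12791, 12718), (12792, 12893), (12793, 12793), (12794, 12247), (12795, 12248), (12796, 12796), (12797, 12752), (12798, 12753), (12799, 13238)]
    ⟨e3 q12736 (flp_e L200908) q12163, e3 q12737 L200918 q12172, e3 q12738 L200926 q12168, e3 q12739 L200932 q12169, e3 q12740 (flp_e L200934) q12166, e3 q12741 (flp_e L205621) q13201, e3 q12742 (flp_e L205637) q13203, e3 q12743 (flp_e L205611) q13200, e3 q12744 (flp_e L204068) q13057, e3 q12745 (flp_e L203863) q13041, e3 q12746 (flp_e L204130) q13061, e3 q12747 L201014 q12586, e3 q12748 L201030 q12184, e3 q12749 L201038 q12185, e3 q12750 (flp_e L205679) q13207, e3 q12751 L201060 q12751, e3 q12752 (flp_e L201531) q12797, e3 q12753 (flp_e L201541) q12798, e3 q12754 (flp_e L203786) q13036, e3 q12755 L201097 q12755, e3 q12756 (flp_e L203819) q13038, e3 q12757 (flp_e L203829) q13039, e3 q12758 (flp_e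 L203847) q13040, e3 q12759 L201138 q12435, e3 q12760 L201148 q12431, e3 q12761 L201162 q12238, e3 q12762 L201172 q12200, e3 q12763 (flp_e L204228) q13068, e3 q12764 (flp_e L201188) q12202, e3 q12765 L201210 q12608, e3 q12766 L201220 q12766, e3 q12767 (flp_e L203911) q13044, e3 q12768 (flp_e L204522) q13094, e3 q12769 (flp_e L203897) q13043, e3 q12770 (flp_e L201251) q12209, e3 q12771 L201275 q12539, e3 q12772 (flp_e L201277) q12211, e3 q12773 L201303 q12216, e3 q12774 L201309 q12774, e3 q12775 L201318 q12218, e3 q12776 L201324 q12219, e3 q12777 L201334 q12777, e3 q12778 (flp_e L205874) q13223, e3 q12779 (flp_e L205884) q13224, e3 q12780 L205933 q13230, e3 q12781 (flp_e L205904) q13226, e3 q12782 L201371 q12222, e3 q12783 (flp_e L205369) q13176, e3 q12784 (flp_e L205291) q13167, e3 q12785 (flp_e L202882) q12947, e3 q12786 (flp_e L203879) q13042, e3 q12787 L201405 q12233, e3 q12788 L201421 q12235, e3 q12789 L201435 q12261, e3 q12790 (flp_e L204210) q13067, e3 q12791 L201459 q12718, e3 q12792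 (flp_e L202448) q12893, e3 q12793 L201483 q12793, e3 q12794 L201492 q12247, e3 q12795 L201498 q12248, e3 q12796 L201516 q12796, e3 q12797 L201531 q12752, e3 q12798 L201541 q12753, e3 q12799 L206008 q13238, trivial⟩ (by decide +kernel)

theorem ce_e_200 : ∀ r, r < 64 → sm ge (Qf (12800 + r)) = Qf (tab Gen.e (12800 + r)) :=
  edges_tab (sm ge) Qf (tab Gen.e) 12800 [(12800, 13235), (12801, 12251), (12802, 12686), (12803, 12255), (12804, 12256), (12805, 12493), (12806, 12495), (12807, 12812), (12808, 13233), (12809, 12268), (12810, 13245), (12811, 12264), (12812, 12807), (12813, 13249), (12814, 12266), (12815, 12815), (12816, 13008), (12817, 13243), (12818, 12273), (12819, 12270), (12820, 13004), (12821, 13007), (12822, 12319), (12823, 13257), (12824, 12275), (12825, 12282), (12826, 12277), (12827, 12289), (12828, 12285), (12829, 12286), (12830, 13263), (12831, 12280), (12832, 13258), (12833, 13259), (12834, 12283), (12835, 13260), (12836, 13262), (12837, 12358), (12838, 12734), (12839, 12295),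 (12840, 12892), (12841, 12296), (12842, 13261), (12843, 13269), (12844, 13272), (12845, 12297), (12846, 12854), (12847, 12299), (12848, 12848), (12849, 13142), (12850, 13143), (12851, 12412), (12852, 13159), (12853, 12305), (12854, 12846), (12855, 12311), (12856, 12856), (12857, 12313), (12858, 12314), (12859, 12859), (12860, 13073), (12861, 13284), (12862, 13289), (12863, 13286)]
    ⟨e3 q12800 (flp_e L205972) q13235, e3 q12801 L201565 q12251, e3 q12802 L201573 q12686, e3 q12803 L201585 q12255, e3 q12804 (flp_e L201593) q12256, e3 q12805 L201613 q12493, e3 q12806 L201623 q12495, e3 q12807 (flp_e L201692) q12812, e3 q12808 (flp_e L205956) q13233, e3 q12809 L201653 q12268, e3 q12810 L206080 q13245, e3 q12811 (flp_e L201668) q12264, e3 q12812 L201692 q12807, e3 q12813 L206133 q13249, e3 q12814 (flp_e L201703) q12266, e3 q12815 L201719 q12815, e3 q12816 (flp_e L203444) q13008, e3 q12817 (flp_e L206057) q13243, e3 q12818 L201742 q12273, e3 q12819 (flp_e L201746) q12270, e3 q12820 (flp_e L203414)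 q13004, e3 q12821 (flp_e L203436) q13007, e3 q12822 L201782 q12319, e3 q12823 L206208 q13257, e3 q12824 (flp_e L201798) q12275, e3 q12825 L201822 q12282, e3 q12826 (flp_e L201824) q12277, e3 q12827 L201838 q12289, e3 q12828 L201846 q12285, e3 q12829 L201850 q12286, e3 q12830 L206274 q13263, e3 q12831 (flp_e L201864) q12280, e3 q12832 (flp_e L206230) q13258, e3 q12833 (flp_e L206240) q13259, e3 q12834 (flp_e L201882) q12283, e3 q12835 (flp_e L206254) q13260, e3 q12836 (flp_e L206268) q13262, e3 q12837 L201912 q12358, e3 q12838 L201918 q12734, e3 q12839 L201930 q12295, e3 q12840 (flp_e L202440) q12892, e3 q12841 L201942 q12296, e3 q12842 (flp_e L206262) q13261, e3 q12843 (flp_e L206330) q13269, e3 q12844 L206344 q13272, e3 q12845 (flp_e L201967) q12297, e3 q12846 (flp_e L202070) q12854, e3 q12847 (flp_e L201991) q12299, e3 q12848 L202009 q12848, e3 q12849 (flp_e L205056) q13142, e3 q12850 (flp_e L205064) q13143, e3 q12851 L202038 q12412, e3 q12852 (flp_e L205195) q13159, e3 q12853 (flp_e L202050)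 q12305, e3 q12854 L202070 q12846, e3 q12855 L202084 q12311, e3 q12856 L202088 q12856, e3 q12857 L202095 q12313, e3 q12858 L202101 q12314, e3 q12859 L202111 q12859, e3 q12860 (flp_e L204294) q13073, e3 q12861 (flp_e L206493) q13284, e3 q12862 L206529 q13289, e3 q12863 (flp_e L206509) q13286, trivial⟩ (by decide +kernel)

theorem ce_e_201 : ∀ r, r < 64 → sm ge (Qf (12864 + r)) = Qf (tab Gen.e (12864 + r)) :=
  edges_tab (sm ge) Qf (tab Gen.e) 12864 [(12864, 12317), (12865, 13003), (12866, 13256), (12867, 13058), (12868, 12323), (12869, 12885), (12870, 12886), (12871, 12365), (12872, 12330), (12873, 12332), (12874, 12602), (12875, 12339), (12876, 12341), (12877, 12342), (12878, 12337), (12879, 13080), (12880, 13295), (12881, 13128), (12882, 13296), (12883, 12346), (12884, 13131), (12885, 12869), (12886, 12870), (12887, 12477), (12888, 12355), (12889, 12359), (12890, 12974), (12891, 13081), (12892, 12840), (12893, 12792), (12894, 13268), (12895, 12995), (12896, 13303), (12897, 12373), (12898,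 12898), (12899, 12907), (12900, 12908), (12901, 13309), (12902, 12902), (12903, 13118), (12904, 13313), (12905, 12379), (12906, 12906), (12907, 12899), (12908, 12900), (12909, 13318), (12910, 12382), (12911, 12391), (12912, 12387), (12913, 12388), (12914, 12385), (12915, 13320), (12916, 13322), (12917, 13319), (12918, 13160), (12919, 13161), (12920, 12439), (12921, 12395), (12922, 12922), (12923, 13019), (12924, 13020), (12925, 12925), (12926, 13120), (12927, 13334)]
    ⟨e3 q12864 L202146 q12317, e3 q12865 (flp_e L203402) q13003, e3 q12866 (flp_e L206200) q13256, e3 q12867 (flp_e L204084) q13058, e3 q12868 L202178 q12323, e3 q12869 (flp_e L202368) q12885, e3 q12870 (flp_e L202376) q12886, e3 q12871 L202208 q12365, e3 q12872 L202222 q12330, e3 q12873 (flp_e L202228) q12332, e3 q12874 L202256 q12602, e3 q12875 L202270 q12339, e3 q12876 L202282 q12341, e3 q12877 L202288 q12342, e3 q12878 (flp_e L202292) q12337, e3 q12879 (flp_e L204370) q13080, e3 q12880 (flp_e L206592) q13295, e3 q12881 (flp_e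 L204893) q13128, e3 q12882 (flp_e L206608) q13296, e3 q12883 L202348 q12346, e3 q12884 (flp_e L204929) q13131, e3 q12885 L202368 q12869, e3 q12886 L202376 q12870, e3 q12887 L202382 q12477, e3 q12888 L202396 q12355, e3 q12889 L202410 q12359, e3 q12890 (flp_e L203134) q12974, e3 q12891 (flp_e L204380) q13081, e3 q12892 L202440 q12840, e3 q12893 L202448 q12792, e3 q12894 (flp_e L206318) q13268, e3 q12895 (flp_e L203310) q12995, e3 q12896 L206680 q13303, e3 q12897 (flp_e L202489) q12373, e3 q12898 L202503 q12898, e3 q12899 (flp_e L202567) q12907, e3 q12900 (flp_e L202575) q12908, e3 q12901 L206728 q13309, e3 q12902 L202526 q12902, e3 q12903 (flp_e L204770) q13118, e3 q12904 L206754 q13313, e3 q12905 (flp_e L202546) q12379, e3 q12906 L202558 q12906, e3 q12907 L202567 q12899, e3 q12908 L202575 q12900, e3 q12909 L206793 q13318, e3 q12910 (flp_e L202593) q12382, e3 q12911 L202611 q12391, e3 q12912 L202623 q12387, e3 q12913 L202633 q12388, e3 q12914 (flp_e L202639) q12385, e3 q12915 (flp_e L206829)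 q13320, e3 q12916 (flp_e L206847) q13322, e3 q12917 (flp_e L206817) q13319, e3 q12918 (flp_e L205211) q13160, e3 q12919 (flp_e L205225) q13161, e3 q12920 L202687 q12439, e3 q12921 (flp_e L202691) q12395, e3 q12922 L202705 q12922, e3 q12923 (flp_e L203573) q13019, e3 q12924 (flp_e L203583) q13020, e3 q12925 L202728 q12925, e3 q12926 (flp_e L204799) q13120, e3 q12927 L206933 q13334, trivial⟩ (by decide +kernel)

theorem ce_e_202 : ∀ r, r < 64 → sm ge (Qf (12928 + r)) = Qf (tab Gen.e (12928 + r)) :=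
  edges_tab (sm ge) Qf (tab Gen.e) 12928 [(12928, 13122), (12929, 13123), (12930, 12404), (12931, 12931), (12932, 13026), (12933, 13027), (12934, 12934), (12935, 13083), (12936, 13343), (12937, 12937), (12938, 13085), (12939, 13086), (12940, 13280), (12941, 13277), (12942, 12440), (12943, 12416), (12944, 12417), (12945, 13349), (12946, 13351), (12947, 12785), (12948, 12427), (12949, 12428), (12950, 12433), (12951, 12424), (12952, 12437), (12953, 13213), (12954, 12696), (12955, 13353), (12956, 12438), (12957, 12702), (12958, 13212), (12959, 12704), (12960, 13354), (12961, 12961), (12962, 12449), (12963, 12450), (12964, 13361), (12965, 12443), (12966, 12966), (12967, 13184), (12968, 13185), (12969, 12446), (12970, 12970), (12971, 13177), (12972, 13370), (12973, 13360), (12974, 12890), (12975, 13198), (12976, 12453), (12977, 12459), (12978, 13077), (12979, 12460), (12980, 13373), (12981, 13374), (12982, 12982), (12983, 12716), (12984, 12717), (12985, 12985), (12986, 12469), (12987, 12470),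 (12988, 13381), (12989, 12472), (12990, 13383), (12991, 12991)]
    ⟨e3 q12928 (flp_e L204817) q13122, e3 q12929 (flp_e L204833) q13123, e3 q12930 (flp_e L202755) q12404, e3 q12931 L202769 q12931, e3 q12932 (flp_e L203655) q13026, e3 q12933 (flp_e L203665) q13027, e3 q12934 L202788 q12934, e3 q12935 (flp_e L204405) q13083, e3 q12936 L206992 q13343, e3 q12937 L202807 q12937, e3 q12938 (flp_e L204417) q13085, e3 q12939 (flp_e L204433) q13086, e3 q12940 (flp_e L206444) q13280, e3 q12941 (flp_e L206416) q13277, e3 q12942 L202840 q12440, e3 q12943 L202848 q12416, e3 q12944 L202856 q12417, e3 q12945 (flp_e L207040) q13349, e3 q12946 (flp_e L207062) q13351, e3 q12947 L202882 q12785, e3 q12948 L202896 q12427, e3 q12949 L202902 q12428, e3 q12950 L202914 q12433, e3 q12951 (flp_e L202918) q12424, e3 q12952 L202934 q12437, e3 q12953 (flp_e L205747) q13213, e3 q12954 L202952 q12696, e3 q12955 (flp_e L207082) q13353, e3 q12956 L202970 q12438, e3 q12957 L202982 q12702, e3 q12958 (flp_e L205731) q13212,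 e3 q12959 L202998 q12704, e3 q12960 (flp_e L207096) q13354, e3 q12961 L203024 q12961, e3 q12962 L203033 q12449, e3 q12963 L203043 q12450, e3 q12964 L207160 q13361, e3 q12965 (flp_e L203058) q12443, e3 q12966 L203074 q12966, e3 q12967 (flp_e L205458) q13184, e3 q12968 (flp_e L205468) q13185, e3 q12969 (flp_e L203091) q12446, e3 q12970 L203105 q12970, e3 q12971 (flp_e L205381) q13177, e3 q12972 L207240 q13370, e3 q12973 (flp_e L207154) q13360, e3 q12974 L203134 q12890, e3 q12975 (flp_e L205585) q13198, e3 q12976 (flp_e L203148) q12453, e3 q12977 L203170 q12459, e3 q12978 (flp_e L204334) q13077, e3 q12979 L203186 q12460, e3 q12980 (flp_e L207273) q13373, e3 q12981 (flp_e L207283) q13374, e3 q12982 L203212 q12982, e3 q12983 L203225 q12716, e3 q12984 L203235 q12717, e3 q12985 L203245 q12985, e3 q12986 L203254 q12469, e3 q12987 L203258 q12470, e3 q12988 L207347 q13381, e3 q12989 L203272 q12472, e3 q12990 L207356 q13383, e3 q12991 L203284 q12991, trivial⟩ (by decide +kernel)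

theorem ce_e_203 : ∀ r, r < 64 → sm ge (Qf (12992 + r)) = Qf (tab Gen.e (12992 + r)) :=
  edges_tab (sm ge) Qf (tab Gen.e) 12992 [(12992, 13380), (12993, 12471), (12994, 13386), (12995, 12895), (12996, 13065), (12997, 12487), (12998, 12565), (12999, 12490), (13000, 12494), (13001, 12569), (13002, 12501), (13003, 12865), (13004, 12820), (13005, 12502), (13006, 13387), (13007, 12821), (13008, 12816), (13009, 13240), (13010, 13060), (13011, 13241), (13012, 12712), (13013, 13390), (13014, 13014), (13015, 12722), (13016, 12723), (13017, 12505), (13018, 13018), (13019, 12923), (13020, 12924), (13021, 13402), (13022, 13022), (13023, 12732), (13024, 12511), (13025, 13025), (13026, 12932), (13027, 12933), (13028, 12514), (13029, 12521), (13030, 12519), (13031, 12520), (13032, 12517), (13033, 13409), (13034, 13412), (13035, 13411), (13036, 12754), (13037, 13037), (13038, 12756), (13039, 12757), (13040, 12758), (13041, 12745), (13042, 12786), (13043, 12769), (13044, 12767), (13045, 13045), (13046,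 12542), (13047, 12543), (13048, 13048), (13049, 13220), (13050, 13221), (13051, 13051), (13052, 12659), (13053, 13424), (13054, 13419), (13055, 12547)]
    ⟨e3 q12992 (flp_e L207341) q13380, e3 q12993 (flp_e L203295) q12471, e3 q12994 (flp_e L207375) q13386, e3 q12995 L203310 q12895, e3 q12996 (flp_e L204178) q13065, e3 q12997 L203334 q12487, e3 q12998 L203348 q12565, e3 q12999 L203354 q12490, e3 q13000 L203364 q12494, e3 q13001 L203378 q12569, e3 q13002 L203392 q12501, e3 q13003 L203402 q12865, e3 q13004 L203414 q12820, e3 q13005 L203422 q12502, e3 q13006 (flp_e L207387) q13387, e3 q13007 L203436 q12821, e3 q13008 L203444 q12816, e3 q13009 (flp_e L206029) q13240, e3 q13010 (flp_e L204116) q13060, e3 q13011 (flp_e L206039) q13241, e3 q13012 L203474 q12712, e3 q13013 (flp_e L207425) q13390, e3 q13014 L203505 q13014, e3 q13015 L203520 q12722, e3 q13016 L203530 q12723, e3 q13017 (flp_e L203538) q12505, e3 q13018 L203562 q13018, e3 q13019 L203573 q12923, e3 q13020 L203583 q12924, e3 q13021 L207554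 q13402, e3 q13022 L203603 q13022, e3 q13023 L203614 q12732, e3 q13024 (flp_e L203618) q12511, e3 q13025 L203642 q13025, e3 q13026 L203655 q12932, e3 q13027 L203665 q12933, e3 q13028 (flp_e L203673) q12514, e3 q13029 L203697 q12521, e3 q13030 L203709 q12519, e3 q13031 L203719 q12520, e3 q13032 (flp_e L203725) q12517, e3 q13033 (flp_e L207642) q13409, e3 q13034 (flp_e L207678) q13412, e3 q13035 (flp_e L207664) q13411, e3 q13036 L203786 q12754, e3 q13037 L203804 q13037, e3 q13038 L203819 q12756, e3 q13039 L203829 q12757, e3 q13040 L203847 q12758, e3 q13041 L203863 q12745, e3 q13042 L203879 q12786, e3 q13043 L203897 q12769, e3 q13044 L203911 q12767, e3 q13045 L203923 q13045, e3 q13046 L203936 q12542, e3 q13047 L203944 q12543, e3 q13048 L203960 q13048, e3 q13049 (flp_e L205831) q13220, e3 q13050 (flp_e L205841) q13221, e3 q13051 L203995 q13051, e3 q13052 L204008 q12659, e3 q13053 L207828 q13424, e3 q13054 (flp_e L207774) q13419, e3 q13055 L204036 q12547, trivial⟩ (by decide +kernel)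

theorem ce_e_204 : ∀ r, r < 64 → sm ge (Qf (13056 + r)) = Qf (tab Gen.e (13056 + r)) :=
  edges_tab (sm ge) Qf (tab Gen.e) 13056 [(13056, 12662), (13057, 12744), (13058, 12867), (13059, 12558), (13060, 13010), (13061, 12746), (13062, 12566), (13063, 13388), (13064, 12603), (13065, 12996), (13066, 12606), (13067, 12790), (13068, 12763), (13069, 13069), (13070, 12584), (13071, 12585), (13072, 13072), (13073, 12860), (13074, 13432), (13075, 13429), (13076, 13206), (13077, 12978), (13078, 12593), (13079, 12592), (13080, 12879), (13081, 12891), (13082, 13082), (13083, 12935), (13084, 13439), (13085, 12938), (13086, 12939), (13087, 12604), (13088, 13293), (13089, 13294), (13090, 13426), (13091, 13091), (13092, 13215), (13093, 13216), (13094, 12768), (13095, 12610), (13096, 13096), (13097, 12620), (13098, 12621), (13099, 13099), (13100, 12624), (13101, 13451), (13102, 12626), (13103, 12617), (13104, 13104), (13105, 13445), (13106, 13458), (13107, 13107), (13108, 13447), (13109, 13109), (13110,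 12677), (13111, 13463), (13112, 13450), (13113, 12625), (13114, 13465), (13115, 12631), (13116, 12685), (13117, 13466), (13118, 12903), (13119, 13119)]
    ⟨e3 q13056 L204052 q12662, e3 q13057 L204068 q12744, e3 q13058 L204084 q12867, e3 q13059 L204100 q12558, e3 q13060 L204116 q13010, e3 q13061 L204130 q12746, e3 q13062 L204144 q12566, e3 q13063 (flp_e L207401) q13388, e3 q13064 L204170 q12603, e3 q13065 L204178 q12996, e3 q13066 L204194 q12606, e3 q13067 L204210 q12790, e3 q13068 L204228 q12763, e3 q13069 L204246 q13069, e3 q13070 L204259 q12584, e3 q13071 L204267 q12585, e3 q13072 L204281 q13072, e3 q13073 L204294 q12860, e3 q13074 L207918 q13432, e3 q13075 (flp_e L207888) q13429, e3 q13076 (flp_e L205663) q13206, e3 q13077 L204334 q12978, e3 q13078 L204342 q12593, e3 q13079 L204354 q12592, e3 q13080 L204370 q12879, e3 q13081 L204380 q12891, e3 q13082 L204392 q13082, e3 q13083 L204405 q12935, e3 q13084 L207995 q13439, e3 q13085 L204417 q12938, e3 q13086 L204433 q12939, e3 q13087 L204445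 q12604, e3 q13088 (flp_e L206568) q13293, e3 q13089 (flp_e L206578) q13294, e3 q13090 (flp_e L207851) q13426, e3 q13091 L204499 q13091, e3 q13092 (flp_e L205772) q13215, e3 q13093 (flp_e L205782) q13216, e3 q13094 L204522 q12768, e3 q13095 (flp_e L204530) q12610, e3 q13096 L204552 q13096, e3 q13097 L204563 q12620, e3 q13098 L204569 q12621, e3 q13099 L204585 q13099, e3 q13100 L204598 q12624, e3 q13101 L208128 q13451, e3 q13102 L204608 q12626, e3 q13103 (flp_e L204612) q12617, e3 q13104 L204632 q13104, e3 q13105 (flp_e L208069) q13445, e3 q13106 L208193 q13458, e3 q13107 L204655 q13107, e3 q13108 (flp_e L208085) q13447, e3 q13109 L204680 q13109, e3 q13110 L204693 q12677, e3 q13111 L208242 q13463, e3 q13112 (flp_e L208122) q13450, e3 q13113 (flp_e L204711) q12625, e3 q13114 (flp_e L208259) q13465, e3 q13115 L204732 q12631, e3 q13116 L204748 q12685, e3 q13117 L208263 q13466, e3 q13118 L204770 q12903, e3 q13119 L204786 q13119, trivial⟩ (by decide +kernel)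

theorem ce_e_205 : ∀ r, r < 64 → sm ge (Qf (13120 + r)) = Qf (tab Gen.e (13120 + r)) :=
  edges_tab (sm ge) Qf (tab Gen.e) 13120 [(13120, 12926), (13121, 13470), (13122, 12928), (13123, 12929), (13124, 12687), (13125, 12648), (13126, 13202), (13127, 12649), (13128, 12881), (13129, 13472), (13130, 12654), (13131, 12884), (13132, 12660), (13133, 13133), (13134, 13139), (13135, 13140), (13136, 13477), (13137, 13423), (13138, 13138), (13139, 13134), (13140, 13135), (13141, 13141), (13142, 12849), (13143, 12850), (13144, 13144), (13145, 12674), (13146, 12675), (13147, 13485), (13148, 13148), (13149, 12679), (13150, 13150), (13151, 13454), (13152, 13492), (13153, 13484), (13154, 13154), (13155, 13495), (13156, 13462), (13157, 12678), (13158, 13497), (13159, 12852), (13160, 12918), (13161, 12919), (13162, 12711), (13163, 12695), (13164, 12698), (13165, 12703), (13166, 12707), (13167, 12784), (13168, 12708), (13169, 13355), (13170, 12709), (13171, 13500), (13172, 13357), (13173, 13247), (13174,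 12710), (13175, 13350), (13176, 12783), (13177, 12971), (13178, 13358), (13179, 13501), (13180, 13503), (13181, 13512), (13182, 13378), (13183, 13183)]
    ⟨e3 q13120 L204799 q12926, e3 q13121 L208310 q13470, e3 q13122 L204817 q12928, e3 q13123 L204833 q12929, e3 q13124 L204847 q12687, e3 q13125 L204863 q12648, e3 q13126 (flp_e L205629) q13202, e3 q13127 L204877 q12649, e3 q13128 L204893 q12881, e3 q13129 (flp_e L208341) q13472, e3 q13130 L204913 q12654, e3 q13131 L204929 q12884, e3 q13132 L204941 q12660, e3 q13133 L204957 q13133, e3 q13134 (flp_e L205019) q13139, e3 q13135 (flp_e L205027) q13140, e3 q13136 L208391 q13477, e3 q13137 (flp_e L207822) q13423, e3 q13138 L205008 q13138, e3 q13139 L205019 q13134, e3 q13140 L205027 q13135, e3 q13141 L205043 q13141, e3 q13142 L205056 q12849, e3 q13143 L205064 q12850, e3 q13144 L205078 q13144, e3 q13145 L205087 q12674, e3 q13146 L205097 q12675, e3 q13147 L208474 q13485, e3 q13148 L205111 q13148, e3 q13149 L205120 q12679, e3 q13150 L205130 q13150,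 e3 q13151 (flp_e L208162) q13454, e3 q13152 L208533 q13492, e3 q13153 (flp_e L208470) q13484, e3 q13154 L205155 q13154, e3 q13155 L208554 q13495, e3 q13156 (flp_e L208236) q13462, e3 q13157 (flp_e L205178) q12678, e3 q13158 (flp_e L208571) q13497, e3 q13159 L205195 q12852, e3 q13160 L205211 q12918, e3 q13161 L205225 q12919, e3 q13162 L205237 q12711, e3 q13163 L205251 q12695, e3 q13164 L205257 q12698, e3 q13165 L205267 q12703, e3 q13166 L205283 q12707, e3 q13167 L205291 q12784, e3 q13168 L205295 q12708, e3 q13169 (flp_e L207106) q13355, e3 q13170 L205315 q12709, e3 q13171 (flp_e L208607) q13500, e3 q13172 (flp_e L207122) q13357, e3 q13173 (flp_e L206115) q13247, e3 q13174 L205353 q12710, e3 q13175 (flp_e L207052) q13350, e3 q13176 L205369 q12783, e3 q13177 L205381 q12971, e3 q13178 (flp_e L207134) q13358, e3 q13179 (flp_e L208617) q13501, e3 q13180 (flp_e L208645) q13503, e3 q13181 L208727 q13512, e3 q13182 (flp_e L207325) q13378, e3 q13183 L205449 q13183, trivial⟩ (by decide +kernel)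

theorem ce_e_206 : ∀ r, r < 64 → sm ge (Qf (13184 + r)) = Qf (tab Gen.e (13184 + r)) :=
  edges_tab (sm ge) Qf (tab Gen.e) 13184 [(13184, 12967), (13185, 12968), (13186, 13516), (13187, 13397), (13188, 13188), (13189, 12729), (13190, 12730), (13191, 12726), (13192, 13192), (13193, 13435), (13194, 13523), (13195, 13519), (13196, 12731), (13197, 13525), (13198, 12975), (13199, 12735), (13200, 12743), (13201, 12741), (13202, 13126), (13203, 12742), (13204, 13526), (13205, 13528), (13206, 13076), (13207, 12750), (13208, 13531), (13209, 13237), (13210, 13533), (13211, 13416), (13212, 12958), (13213, 12953), (13214, 13214), (13215, 13092), (13216, 13093), (13217, 13539), (13218, 13417), (13219, 13219), (13220, 13049), (13221, 13050), (13222, 13222), (13223, 12778), (13224, 12779), (13225, 13545), (13226, 12781), (13227, 13547), (13228, 13228), (13229, 13544), (13230, 12780), (13231, 13550), (13232, 13504), (13233, 12808), (13234, 13551), (13235, 12800), (13236, 13553), (13237, 13209), (13238,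 12799), (13239, 13555), (13240, 13009), (13241, 13011), (13242, 13248), (13243, 12817), (13244, 13557), (13245, 12810), (13246, 13246), (13247, 13173)]
    ⟨e3 q13184 L205458 q12967, e3 q13185 L205468 q12968, e3 q13186 L208766 q13516, e3 q13187 (flp_e L207495) q13397, e3 q13188 L205504 q13188, e3 q13189 L205517 q12729, e3 q13190 L205527 q12730, e3 q13191 (flp_e L205531) q12726, e3 q13192 L205549 q13192, e3 q13193 (flp_e L207953) q13435, e3 q13194 L208837 q13523, e3 q13195 (flp_e L208801) q13519, e3 q13196 (flp_e L205570) q12731, e3 q13197 (flp_e L208850) q13525, e3 q13198 L205585 q12975, e3 q13199 (flp_e L205593) q12735, e3 q13200 L205611 q12743, e3 q13201 L205621 q12741, e3 q13202 L205629 q13126, e3 q13203 L205637 q12742, e3 q13204 (flp_e L208862) q13526, e3 q13205 (flp_e L208880) q13528, e3 q13206 L205663 q13076, e3 q13207 L205679 q12750, e3 q13208 L208904 q13531, e3 q13209 (flp_e L206000) q13237, e3 q13210 L208923 q13533, e3 q13211 (flp_e L207734) q13416, e3 q13212 L205731 q12958, e3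 q13213 L205747 q12953, e3 q13214 L205761 q13214, e3 q13215 L205772 q13092, e3 q13216 L205782 q13093, e3 q13217 L208989 q13539, e3 q13218 (flp_e L207750) q13417, e3 q13219 L205816 q13219, e3 q13220 L205831 q13049, e3 q13221 L205841 q13050, e3 q13222 L205859 q13222, e3 q13223 L205874 q12778, e3 q13224 L205884 q12779, e3 q13225 L209064 q13545, e3 q13226 L205904 q12781, e3 q13227 L209077 q13547, e3 q13228 L205920 q13228, e3 q13229 (flp_e L209056) q13544, e3 q13230 (flp_e L205933) q12780, e3 q13231 (flp_e L209104) q13550, e3 q13232 (flp_e L208655) q13504, e3 q13233 L205956 q12808, e3 q13234 L209106 q13551, e3 q13235 L205972 q12800, e3 q13236 L209119 q13553, e3 q13237 L206000 q13209, e3 q13238 (flp_e L206008) q12799, e3 q13239 (flp_e L209154) q13555, e3 q13240 L206029 q13009, e3 q13241 L206039 q13011, e3 q13242 (flp_e L206125) q13248, e3 q13243 L206057 q12817, e3 q13244 L209170 q13557, e3 q13245 (flp_e L206080) q12810, e3 q13246 L206102 q13246, e3 q13247 L206115 q13173, trivial⟩ (by decide +kernel)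

theorem ce_e_207 : ∀ r, r < 64 → sm ge (Qf (13248 + r)) = Qf (tab Gen.e (13248 + r)) :=
  edges_tab (sm ge) Qf (tab Gen.e) 13248 [(13248, 13242), (13249, 12813), (13250, 13250), (13251, 13393), (13252, 13565), (13253, 13394), (13254, 13389), (13255, 13392), (13256, 12866), (13257, 12823), (13258, 12832), (13259, 12833), (13260, 12835), (13261, 12842), (13262, 12836), (13263, 12830), (13264, 13568), (13265, 13569), (13266, 13527), (13267, 13570), (13268, 12894), (13269, 12843), (13270, 13302), (13271, 13571), (13272, 12844), (13273, 13273), (13274, 13282), (13275, 13283), (13276, 13276), (13277, 12941), (13278, 13581), (13279, 13482), (13280, 12940), (13281, 13281), (13282, 13274), (13283, 13275), (13284, 12861), (13285, 13585), (13286, 12863), (13287, 13587), (13288, 13431), (13289, 12862), (13290, 13589), (13291, 13391), (13292, 13300), (13293, 13088), (13294, 13089), (13295, 12880), (13296, 12882), (13297, 13413), (13298, 13436), (13299, 13474), (13300, 13292), (13301, 13372), (13302,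 13270), (13303, 12896), (13304, 13304), (13305, 13315), (13306, 13597), (13307, 13307), (13308, 13317), (13309, 12901), (13310, 13600), (13311, 13601)]
    ⟨e3 q13248 L206125 q13242, e3 q13249 (flp_e L206133) q12813, e3 q13250 L206151 q13250, e3 q13251 (flp_e L207455) q13393, e3 q13252 L209263 q13565, e3 q13253 (flp_e L207463) q13394, e3 q13254 (flp_e L207417) q13389, e3 q13255 (flp_e L207445) q13392, e3 q13256 L206200 q12866, e3 q13257 (flp_e L206208) q12823, e3 q13258 L206230 q12832, e3 q13259 L206240 q12833, e3 q13260 L206254 q12835, e3 q13261 L206262 q12842, e3 q13262 L206268 q12836, e3 q13263 (flp_e L206274) q12830, e3 q13264 (flp_e L209296) q13568, e3 q13265 (flp_e L209304) q13569, e3 q13266 (flp_e L208874) q13527, e3 q13267 (flp_e L209316) q13570, e3 q13268 L206318 q12894, e3 q13269 L206330 q12843, e3 q13270 (flp_e L206674) q13302, e3 q13271 (flp_e L209328) q13571, e3 q13272 (flp_e L206344) q12844, e3 q13273 L206368 q13273, e3 q13274 (flp_e L206471) q13282, e3 q13275 (flp_e L206479)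 q13283, e3 q13276 L206403 q13276, e3 q13277 L206416 q12941, e3 q13278 L209433 q13581, e3 q13279 (flp_e L208448) q13482, e3 q13280 L206444 q12940, e3 q13281 L206460 q13281, e3 q13282 L206471 q13274, e3 q13283 L206479 q13275, e3 q13284 L206493 q12861, e3 q13285 L209470 q13585, e3 q13286 L206509 q12863, e3 q13287 L209479 q13587, e3 q13288 (flp_e L207912) q13431, e3 q13289 (flp_e L206529) q12862, e3 q13290 (flp_e L209494) q13589, e3 q13291 (flp_e L207433) q13391, e3 q13292 (flp_e L206650) q13300, e3 q13293 L206568 q13088, e3 q13294 L206578 q13089, e3 q13295 L206592 q12880, e3 q13296 L206608 q12882, e3 q13297 (flp_e L207700) q13413, e3 q13298 (flp_e L207967) q13436, e3 q13299 (flp_e L208363) q13474, e3 q13300 L206650 q13292, e3 q13301 (flp_e L207255) q13372, e3 q13302 L206674 q13270, e3 q13303 (flp_e L206680) q12896, e3 q13304 L206696 q13304, e3 q13305 (flp_e L206773) q13315, e3 q13306 L209578 q13597, e3 q13307 L206719 q13307, e3 q13308 (flp_e L206789) q13317, e3 q13309 (flp_e L206728) q12901,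 e3 q13310 (flp_e L209605) q13600, e3 q13311 (flp_e L209611) q13601, trivial⟩ (by decide +kernel)

theorem ce_e_208 : ∀ r, r < 64 → sm ge (Qf (13312 + r)) = Qf (tab Gen.e (13312 + r)) :=
  edges_tab (sm ge) Qf (tab Gen.e) 13312 [(13312, 13312), (13313, 12904), (13314, 13314), (13315, 13305), (13316, 13609), (13317, 13308), (13318, 12909), (13319, 12917), (13320, 12915), (13321, 13410), (13322, 12916), (13323, 13611), (13324, 13613), (13325, 13498), (13326, 13499), (13327, 13327), (13328, 13399), (13329, 13620), (13330, 13401), (13331, 13331), (13332, 13623), (13333, 13469), (13334, 12927), (13335, 13625), (13336, 13336), (13337, 13406), (13338, 13629), (13339, 13339), (13340, 13408), (13341, 13632), (13342, 13438), (13343, 12936), (13344, 13634), (13345, 13635), (13346, 13346), (13347, 13580), (13348, 13576), (13349, 12945), (13350, 13175), (13351, 12946), (13352, 13640), (13353, 12955), (13354, 12960), (13355, 13169), (13356, 13535), (13357, 13172), (13358, 13178), (13359, 13643), (13360,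 12973), (13361, 12964), (13362, 13362), (13363, 13505), (13364, 13648), (13365, 13515), (13366, 13366), (13367, 13509), (13368, 13652), (13369, 13511), (13370, 12972), (13371, 13654), (13372, 13301), (13373, 12980), (13374, 12981), (13375, 13434)]
    ⟨e3 q13312 L206751 q13312, e3 q13313 (flp_e L206754) q12904, e3 q13314 L206766 q13314, e3 q13315 L206773 q13305, e3 q13316 L209682 q13609, e3 q13317 L206789 q13308, e3 q13318 (flp_e L206793) q12909, e3 q13319 L206817 q12917, e3 q13320 L206829 q12915, e3 q13321 (flp_e L207654) q13410, e3 q13322 L206847 q12916, e3 q13323 (flp_e L209713) q13611, e3 q13324 (flp_e L209733) q13613, e3 q13325 (flp_e L208581) q13498, e3 q13326 (flp_e L208595) q13499, e3 q13327 L206885 q13327, e3 q13328 (flp_e L207528) q13399, e3 q13329 L209794 q13620, e3 q13330 (flp_e L207546) q13401, e3 q13331 L206916 q13331, e3 q13332 L209819 q13623, e3 q13333 (flp_e L208304) q13469, e3 q13334 (flp_e L206933) q12927, e3 q13335 (flp_e L209834) q13625, e3 q13336 L206950 q13336, e3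 q13337 (flp_e L207602) q13406, e3 q13338 L209867 q13629, e3 q13339 L206971 q13339, e3 q13340 (flp_e L207622) q13408, e3 q13341 L209888 q13632, e3 q13342 (flp_e L207989) q13438, e3 q13343 (flp_e L206992) q12936, e3 q13344 (flp_e L209903) q13634, e3 q13345 (flp_e L209909) q13635, e3 q13346 L207019 q13346, e3 q13347 (flp_e L209427) q13580, e3 q13348 (flp_e L209383) q13576, e3 q13349 L207040 q12945, e3 q13350 L207052 q13175, e3 q13351 L207062 q12946, e3 q13352 (flp_e L209958) q13640, e3 q13353 L207082 q12955, e3 q13354 L207096 q12960, e3 q13355 L207106 q13169, e3 q13356 (flp_e L208948) q13535, e3 q13357 L207122 q13172, e3 q13358 L207134 q13178, e3 q13359 L209986 q13643, e3 q13360 L207154 q12973, e3 q13361 (flp_e L207160) q12964, e3 q13362 L207178 q13362, e3 q13363 (flp_e L208667) q13505, e3 q13364 L210035 q13648, e3 q13365 (flp_e L208760) q13515, e3 q13366 L207213 q13366, e3 q13367 (flp_e L208707) q13509, e3 q13368 L210068 q13652, e3 q13369 (flp_e L208723) q13511, e3 q13370 (flp_e L207240) q12972,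 e3 q13371 (flp_e L210087) q13654, e3 q13372 L207255 q13301, e3 q13373 L207273 q12980, e3 q13374 L207283 q12981, e3 q13375 (flp_e L207941) q13434, trivial⟩ (by decide +kernel)

theorem ce_e_209 : ∀ r, r < 64 → sm ge (Qf (13376 + r)) = Qf (tab Gen.e (13376 + r)) :=
  edges_tab (sm ge) Qf (tab Gen.e) 13376 [(13376, 13655), (13377, 13656), (13378, 13182), (13379, 13658), (13380, 12992), (13381, 12988), (13382, 13660), (13383, 12990), (13384, 13661), (13385, 13662), (13386, 12994), (13387, 13006), (13388, 13063), (13389, 13254), (13390, 13013), (13391, 13291), (13392, 13255), (13393, 13251), (13394, 13253), (13395, 13556), (13396, 13668), (13397, 13187), (13398, 13398), (13399, 13328), (13400, 13672), (13401, 13330), (13402, 13021), (13403, 13674), (13404, 13675), (13405, 13405), (13406, 13337), (13407, 13679), (13408, 13340), (13409, 13033), (13410, 13321), (13411, 13035), (13412, 13034), (13413, 13297), (13414, 13681), (13415, 13685), (13416, 13211), (13417, 13218), (13418, 13687), (13419,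 13054), (13420, 13689), (13421, 13542), (13422, 13691), (13423, 13137), (13424, 13053), (13425, 13693), (13426, 13090), (13427, 13694), (13428, 13428), (13429, 13075), (13430, 13697), (13431, 13288), (13432, 13074), (13433, 13699), (13434, 13375), (13435, 13193), (13436, 13298), (13437, 13701), (13438, 13342), (13439, 13084)]
    ⟨e3 q13376 (flp_e L210097) q13655, e3 q13377 L210103 q13656, e3 q13378 L207325 q13182, e3 q13379 L210130 q13658, e3 q13380 L207341 q12992, e3 q13381 (flp_e L207347) q12988, e3 q13382 (flp_e L210147) q13660, e3 q13383 (flp_e L207356) q12990, e3 q13384 (flp_e L210151) q13661, e3 q13385 (flp_e L210157) q13662, e3 q13386 L207375 q12994, e3 q13387 L207387 q13006, e3 q13388 L207401 q13063, e3 q13389 L207417 q13254, e3 q13390 L207425 q13013, e3 q13391 L207433 q13291, e3 q13392 L207445 q13255, e3 q13393 L207455 q13251, e3 q13394 L207463 q13253, e3 q13395 (flp_e L209166) q13556, e3 q13396 L210203 q13668, e3 q13397 L207495 q13187, e3 q13398 L207515 q13398, e3 q13399 L207528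 q13328, e3 q13400 L210262 q13672, e3 q13401 L207546 q13330, e3 q13402 (flp_e L207554) q13021, e3 q13403 (flp_e L210291) q13674, e3 q13404 (flp_e L210299) q13675, e3 q13405 L207587 q13405, e3 q13406 L207602 q13337, e3 q13407 L210344 q13679, e3 q13408 L207622 q13340, e3 q13409 L207642 q13033, e3 q13410 L207654 q13321, e3 q13411 L207664 q13035, e3 q13412 L207678 q13034, e3 q13413 L207700 q13297, e3 q13414 (flp_e L210379) q13681, e3 q13415 L210435 q13685, e3 q13416 L207734 q13211, e3 q13417 L207750 q13218, e3 q13418 L210466 q13687, e3 q13419 L207774 q13054, e3 q13420 L210489 q13689, e3 q13421 (flp_e L209028) q13542, e3 q13422 L210514 q13691, e3 q13423 L207822 q13137, e3 q13424 (flp_e L207828) q13053, e3 q13425 (flp_e L210541) q13693, e3 q13426 L207851 q13090, e3 q13427 L210545 q13694, e3 q13428 L207873 q13428, e3 q13429 L207888 q13075, e3 q13430 L210580 q13697, e3 q13431 L207912 q13288, e3 q13432 (flp_e L207918) q13074, e3 q13433 (flp_e L210605) q13699, e3 q13434 L207941 q13375, e3 q13435 L207953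 q13193, e3 q13436 L207967 q13298, e3 q13437 L210623 q13701, e3 q13438 L207989 q13342, e3 q13439 (flp_e L207995) q13084, trivial⟩ (by decide +kernel)

theorem ce_e_210 : ∀ r, r < 64 → sm ge (Qf (13440 + r)) = Qf (tab Gen.e (13440 + r)) :=
  edges_tab (sm ge) Qf (tab Gen.e) 13440 [(13440, 13703), (13441, 13590), (13442, 13704), (13443, 13538), (13444, 13444), (13445, 13105), (13446, 13708), (13447, 13108), (13448, 13448), (13449, 13711), (13450, 13112), (13451, 13101), (13452, 13713), (13453, 13453), (13454, 13151), (13455, 13716), (13456, 13456), (13457, 13707), (13458, 13106), (13459, 13719), (13460, 13720), (13461, 13722), (13462, 13156), (13463, 13111), (13464, 13724), (13465, 13114), (13466, 13117), (13467, 13726), (13468, 13727), (13469, 13333), (13470, 13121), (13471, 13729), (13472, 13129), (13473, 13529), (13474, 13299), (13475, 13730), (13476, 13480), (13477, 13136), (13478, 13732), (13479, 13733), (13480, 13476), (13481, 13735), (13482, 13279), (13483, 13737), (13484, 13153), (13485,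 13147), (13486, 13739), (13487, 13740), (13488, 13488), (13489, 13489), (13490, 13744), (13491, 13715), (13492, 13152), (13493, 13746), (13494, 13747), (13495, 13155), (13496, 13749), (13497, 13158), (13498, 13325), (13499, 13326), (13500, 13171), (13501, 13179), (13502, 13641), (13503, 13180)]
    ⟨e3 q13440 (flp_e L210650) q13703, e3 q13441 (flp_e L209506) q13590, e3 q13442 L210654 q13704, e3 q13443 (flp_e L208981) q13538, e3 q13444 L208054 q13444, e3 q13445 L208069 q13105, e3 q13446 L210701 q13708, e3 q13447 L208085 q13108, e3 q13448 L208097 q13448, e3 q13449 L210734 q13711, e3 q13450 L208122 q13112, e3 q13451 (flp_e L208128) q13101, e3 q13452 (flp_e L210761) q13713, e3 q13453 L208149 q13453, e3 q13454 L208162 q13151, e3 q13455 L210791 q13716, e3 q13456 L208176 q13456, e3 q13457 (flp_e L210693) q13707, e3 q13458 (flp_e L208193) q13106, e3 q13459 (flp_e L210818) q13719, e3 q13460 (flp_e L210828) q13720, e3 q13461 L210847 q13722, e3 q13462 L208236 q13156, e3 q13463 (flp_e L208242) q13111,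 e3 q13464 (flp_e L210878) q13724, e3 q13465 L208259 q13114, e3 q13466 (flp_e L208263) q13117, e3 q13467 (flp_e L210893) q13726, e3 q13468 L210899 q13727, e3 q13469 L208304 q13333, e3 q13470 (flp_e L208310) q13121, e3 q13471 (flp_e L210930) q13729, e3 q13472 L208341 q13129, e3 q13473 (flp_e L208890) q13529, e3 q13474 L208363 q13299, e3 q13475 L210934 q13730, e3 q13476 (flp_e L208420) q13480, e3 q13477 (flp_e L208391) q13136, e3 q13478 (flp_e L210959) q13732, e3 q13479 L210961 q13733, e3 q13480 L208420 q13476, e3 q13481 L210984 q13735, e3 q13482 L208448 q13279, e3 q13483 L211011 q13737, e3 q13484 L208470 q13153, e3 q13485 (flp_e L208474) q13147, e3 q13486 (flp_e L211036) q13739, e3 q13487 (flp_e L211044) q13740, e3 q13488 L208501 q13488, e3 q13489 L208506 q13489, e3 q13490 L211081 q13744, e3 q13491 (flp_e L210783) q13715, e3 q13492 (flp_e L208533) q13152, e3 q13493 (flp_e L211098) q13746, e3 q13494 L211102 q13747, e3 q13495 (flp_e L208554) q13155, e3 q13496 (flp_e L211127) q13749, e3 q13497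 L208571 q13158, e3 q13498 L208581 q13325, e3 q13499 L208595 q13326, e3 q13500 L208607 q13171, e3 q13501 L208617 q13179, e3 q13502 (flp_e L209970) q13641, e3 q13503 L208645 q13180, trivial⟩ (by decide +kernel)

theorem ce_e_211 : ∀ r, r < 64 → sm ge (Qf (13504 + r)) = Qf (tab Gen.e (13504 + r)) :=
  edges_tab (sm ge) Qf (tab Gen.e) 13504 [(13504, 13232), (13505, 13363), (13506, 13642), (13507, 13559), (13508, 13561), (13509, 13367), (13510, 13639), (13511, 13369), (13512, 13181), (13513, 13758), (13514, 13759), (13515, 13365), (13516, 13186), (13517, 13761), (13518, 13762), (13519, 13195), (13520, 13683), (13521, 13765), (13522, 13700), (13523, 13194), (13524, 13767), (13525, 13197), (13526, 13204), (13527, 13266), (13528, 13205), (13529, 13473), (13530, 13769), (13531, 13208), (13532, 13771), (13533, 13210), (13534, 13772), (13535, 13356), (13536, 13773), (13537, 13537), (13538, 13443), (13539, 13217), (13540, 13776), (13541, 13777), (13542, 13421), (13543, 13779), (13544, 13229), (13545,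 13225), (13546, 13781), (13547, 13227), (13548, 13782), (13549, 13783), (13550, 13231), (13551, 13234), (13552, 13786), (13553, 13236), (13554, 13787), (13555, 13239), (13556, 13395), (13557, 13244), (13558, 13558), (13559, 13507), (13560, 13792), (13561, 13508), (13562, 13666), (13563, 13795), (13564, 13667), (13565, 13252), (13566, 13797), (13567, 13665)]
    ⟨e3 q13504 L208655 q13232, e3 q13505 L208667 q13363, e3 q13506 (flp_e L209980) q13642, e3 q13507 (flp_e L209207) q13559, e3 q13508 (flp_e L209227) q13561, e3 q13509 L208707 q13367, e3 q13510 (flp_e L209948) q13639, e3 q13511 L208723 q13369, e3 q13512 (flp_e L208727) q13181, e3 q13513 (flp_e L211226) q13758, e3 q13514 L211228 q13759, e3 q13515 L208760 q13365, e3 q13516 (flp_e L208766) q13186, e3 q13517 (flp_e L211255) q13761, e3 q13518 L211259 q13762, e3 q13519 L208801 q13195, e3 q13520 (flp_e L210409) q13683, e3 q13521 L211296 q13765, e3 q13522 (flp_e L210615) q13700, e3 q13523 (flp_e L208837) q13194, e3 q13524 (flp_e L211321) q13767,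 e3 q13525 L208850 q13197, e3 q13526 L208862 q13204, e3 q13527 L208874 q13266, e3 q13528 L208880 q13205, e3 q13529 L208890 q13473, e3 q13530 (flp_e L211334) q13769, e3 q13531 (flp_e L208904) q13208, e3 q13532 (flp_e L211358) q13771, e3 q13533 (flp_e L208923) q13210, e3 q13534 (flp_e L211368) q13772, e3 q13535 L208948 q13356, e3 q13536 L211370 q13773, e3 q13537 L208970 q13537, e3 q13538 L208981 q13443, e3 q13539 (flp_e L208989) q13217, e3 q13540 (flp_e L211409) q13776, e3 q13541 L211411 q13777, e3 q13542 L209028 q13421, e3 q13543 L211440 q13779, e3 q13544 L209056 q13229, e3 q13545 (flp_e L209064) q13225, e3 q13546 (flp_e L211477) q13781, e3 q13547 (flp_e L209077) q13227, e3 q13548 (flp_e L211483) q13782, e3 q13549 (flp_e L211491) q13783, e3 q13550 L209104 q13231, e3 q13551 (flp_e L209106) q13234, e3 q13552 (flp_e L211511) q13786, e3 q13553 (flp_e L209119) q13236, e3 q13554 (flp_e L211525) q13787, e3 q13555 L209154 q13239, e3 q13556 L209166 q13395, e3 q13557 (flp_e L209170) q13244, e3 q13558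 L209194 q13558, e3 q13559 L209207 q13507, e3 q13560 L211576 q13792, e3 q13561 L209227 q13508, e3 q13562 (flp_e L210189) q13666, e3 q13563 L211613 q13795, e3 q13564 (flp_e L210199) q13667, e3 q13565 (flp_e L209263) q13252, e3 q13566 (flp_e L211640) q13797, e3 q13567 (flp_e L210179) q13665, trivial⟩ (by decide +kernel)

theorem ce_e_212 : ∀ r, r < 64 → sm ge (Qf (13568 + r)) = Qf (tab Gen.e (13568 + r)) :=
  edges_tab (sm ge) Qf (tab Gen.e) 13568 [(13568, 13264), (13569, 13265), (13570, 13267), (13571, 13271), (13572, 13612), (13573, 13798), (13574, 13770), (13575, 13575), (13576, 13348), (13577, 13802), (13578, 13584), (13579, 13804), (13580, 13347), (13581, 13278), (13582, 13806), (13583, 13807), (13584, 13578), (13585, 13285), (13586, 13809), (13587, 13287), (13588, 13810), (13589, 13290), (13590, 13441), (13591, 13684), (13592, 13592), (13593, 13605), (13594, 13814), (13595, 13595), (13596, 13608), (13597, 13306), (13598, 13817), (13599, 13818), (13600, 13310), (13601, 13311), (13602,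 13821), (13603, 13822), (13604, 13604), (13605, 13593), (13606, 13606), (13607, 13827), (13608, 13596), (13609, 13316), (13610, 13829), (13611, 13323), (13612, 13572), (13613, 13324), (13614, 13682), (13615, 13830), (13616, 13751), (13617, 13617), (13618, 13833), (13619, 13671), (13620, 13329), (13621, 13835), (13622, 13836), (13623, 13332), (13624, 13838), (13625, 13335), (13626, 13840), (13627, 13627), (13628, 13678), (13629, 13338), (13630, 13843), (13631, 13844)]
    ⟨e3 q13568 L209296 q13264, e3 q13569 L209304 q13265, e3 q13570 L209316 q13267, e3 q13571 L209328 q13271, e3 q13572 (flp_e L209725) q13612, e3 q13573 (flp_e L211648) q13798, e3 q13574 (flp_e L211346) q13770, e3 q13575 L209368 q13575, e3 q13576 L209383 q13348, e3 q13577 L211694 q13802, e3 q13578 (flp_e L209462) q13584, e3 q13579 L211719 q13804, e3 q13580 L209427 q13347, e3 q13581 (flp_e L209433) q13278, e3 q13582 (flp_e L211746) q13806, e3 q13583 L211748 q13807, e3 q13584 L209462 q13578, e3 q13585 (flp_e L209470) q13285, e3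 q13586 (flp_e L211775) q13809, e3 q13587 (flp_e L209479) q13287, e3 q13588 (flp_e L211779) q13810, e3 q13589 L209494 q13290, e3 q13590 L209506 q13441, e3 q13591 (flp_e L210427) q13684, e3 q13592 L209534 q13592, e3 q13593 (flp_e L209651) q13605, e3 q13594 L211812 q13814, e3 q13595 L209563 q13595, e3 q13596 (flp_e L209678) q13608, e3 q13597 (flp_e L209578) q13306, e3 q13598 (flp_e L211845) q13817, e3 q13599 (flp_e L211855) q13818, e3 q13600 L209605 q13310, e3 q13601 L209611 q13311, e3 q13602 (flp_e L211875) q13821, e3 q13603 (flp_e L211883) q13822, e3 q13604 L209640 q13604, e3 q13605 L209651 q13593, e3 q13606 L209657 q13606, e3 q13607 L211936 q13827, e3 q13608 L209678 q13596, e3 q13609 (flp_e L209682) q13316, e3 q13610 (flp_e L211957) q13829, e3 q13611 L209713 q13323, e3 q13612 L209725 q13572, e3 q13613 L209733 q13324, e3 q13614 (flp_e L210395) q13682, e3 q13615 (flp_e L211969) q13830, e3 q13616 (flp_e L211142) q13751, e3 q13617 L209769 q13617, e3 q13618 L212003 q13833, e3 q13619 (flp_e L210254)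 q13671, e3 q13620 (flp_e L209794) q13329, e3 q13621 (flp_e L212022) q13835, e3 q13622 L212026 q13836, e3 q13623 (flp_e L209819) q13332, e3 q13624 (flp_e L212049) q13838, e3 q13625 L209834 q13335, e3 q13626 L212056 q13840, e3 q13627 L209852 q13627, e3 q13628 (flp_e L210336) q13678, e3 q13629 (flp_e L209867) q13338, e3 q13630 (flp_e L212089) q13843, e3 q13631 (flp_e L212097) q13844, trivial⟩ (by decide +kernel)

theorem ce_e_213 : ∀ r, r < 64 → sm ge (Qf (13632 + r)) = Qf (tab Gen.e (13632 + r)) :=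
  edges_tab (sm ge) Qf (tab Gen.e) 13632 [(13632, 13341), (13633, 13846), (13634, 13344), (13635, 13345), (13636, 13848), (13637, 13849), (13638, 13801), (13639, 13510), (13640, 13352), (13641, 13502), (13642, 13506), (13643, 13359), (13644, 13852), (13645, 13752), (13646, 13854), (13647, 13755), (13648, 13364), (13649, 13856), (13650, 13857), (13651, 13757), (13652, 13368), (13653, 13859), (13654, 13371), (13655, 13376), (13656, 13377), (13657, 13861), (13658, 13379), (13659, 13862), (13660, 13382), (13661, 13384), (13662, 13385), (13663, 13865), (13664, 13811), (13665, 13567), (13666, 13562), (13667, 13564), (13668, 13396), (13669, 13867), (13670, 13868), (13671, 13619), (13672, 13400), (13673, 13870), (13674, 13403), (13675, 13404), (13676, 13872), (13677, 13873), (13678, 13628), (13679, 13407), (13680, 13875), (13681, 13414), (13682, 13614), (13683, 13520), (13684, 13591), (13685, 13415), (13686, 13877), (13687, 13418), (13688, 13878), (13689, 13420), (13690, 13879), (13691, 13422),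 (13692, 13880), (13693, 13425), (13694, 13427), (13695, 13882)]
    ⟨e3 q13632 (flp_e L209888) q13341, e3 q13633 (flp_e L212112) q13846, e3 q13634 L209903 q13344, e3 q13635 L209909 q13345, e3 q13636 (flp_e L212123) q13848, e3 q13637 (flp_e L212133) q13849, e3 q13638 (flp_e L211686) q13801, e3 q13639 L209948 q13510, e3 q13640 L209958 q13352, e3 q13641 L209970 q13502, e3 q13642 L209980 q13506, e3 q13643 (flp_e L209986) q13359, e3 q13644 (flp_e L212168) q13852, e3 q13645 (flp_e L211162) q13752, e3 q13646 L212180 q13854, e3 q13647 (flp_e L211194) q13755, e3 q13648 (flp_e L210035) q13364, e3 q13649 (flp_e L212203) q13856, e3 q13650 L212207 q13857, e3 q13651 (flp_e L211216) q13757, e3 q13652 (flp_e L210068) q13368, e3 q13653 (flp_e L212234) q13859, e3 q13654 L210087 q13371, e3 q13655 L210097 q13376, e3 q13656 (flp_e L210103) q13377, e3 q13657 (flp_e L212251) q13861, e3 q13658 (flp_e L210130) q13379, e3 q13659 (flp_e L212259) q13862, e3 q13660 L210147 q13382, e3 q13661 L210151 q13384, e3 q13662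 L210157 q13385, e3 q13663 (flp_e L212275) q13865, e3 q13664 (flp_e L211785) q13811, e3 q13665 L210179 q13567, e3 q13666 L210189 q13562, e3 q13667 L210199 q13564, e3 q13668 (flp_e L210203) q13396, e3 q13669 (flp_e L212301) q13867, e3 q13670 L212307 q13868, e3 q13671 L210254 q13619, e3 q13672 (flp_e L210262) q13400, e3 q13673 (flp_e L212342) q13870, e3 q13674 L210291 q13403, e3 q13675 L210299 q13404, e3 q13676 (flp_e L212359) q13872, e3 q13677 L212365 q13873, e3 q13678 L210336 q13628, e3 q13679 (flp_e L210344) q13407, e3 q13680 (flp_e L212400) q13875, e3 q13681 L210379 q13414, e3 q13682 L210395 q13614, e3 q13683 L210409 q13520, e3 q13684 L210427 q13591, e3 q13685 (flp_e L210435) q13415, e3 q13686 (flp_e L212434) q13877, e3 q13687 (flp_e L210466) q13418, e3 q13688 (flp_e L212448) q13878, e3 q13689 (flp_e L210489) q13420, e3 q13690 (flp_e L212458) q13879, e3 q13691 (flp_e L210514) q13422, e3 q13692 (flp_e L212472) q13880, e3 q13693 L210541 q13425, e3 q13694 (flp_e L210545) q13427, e3 q13695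 (flp_e L212491) q13882, trivial⟩ (by decide +kernel)

theorem ce_e_214 : ∀ r, r < 64 → sm ge (Qf (13696 + r)) = Qf (tab Gen.e (13696 + r)) :=
  edges_tab (sm ge) Qf (tab Gen.e) 13696 [(13696, 13883), (13697, 13430), (13698, 13885), (13699, 13433), (13700, 13522), (13701, 13437), (13702, 13887), (13703, 13440), (13704, 13442), (13705, 13889), (13706, 13890), (13707, 13457), (13708, 13446), (13709, 13892), (13710, 13893), (13711, 13449), (13712, 13895), (13713, 13452), (13714, 13897), (13715, 13491), (13716, 13455), (13717, 13899), (13718, 13900), (13719, 13459), (13720, 13460), (13721, 13903), (13722, 13461), (13723, 13904), (13724, 13464), (13725, 13888), (13726, 13467), (13727, 13468), (13728, 13907), (13729, 13471), (13730, 13475), (13731, 13909), (13732, 13478), (13733, 13479), (13734, 13911), (13735, 13481), (13736, 13912), (13737, 13483), (13738, 13913), (13739, 13486), (13740, 13487), (13741, 13915), (13742, 13916), (13743, 13918), (13744, 13490), (13745, 13920), (13746, 13493), (13747,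 13494), (13748, 13922), (13749, 13496), (13750, 13908), (13751, 13616), (13752, 13645), (13753, 13851), (13754, 13789), (13755, 13647), (13756, 13791), (13757, 13651), (13758, 13513), (13759, 13514)]
    ⟨e3 q13696 (flp_e L212501) q13883, e3 q13697 (flp_e L210580) q13430, e3 q13698 (flp_e L212528) q13885, e3 q13699 L210605 q13433, e3 q13700 L210615 q13522, e3 q13701 (flp_e L210623) q13437, e3 q13702 (flp_e L212549) q13887, e3 q13703 L210650 q13440, e3 q13704 (flp_e L210654) q13442, e3 q13705 (flp_e L212566) q13889, e3 q13706 L212572 q13890, e3 q13707 L210693 q13457, e3 q13708 (flp_e L210701) q13446, e3 q13709 (flp_e L212605) q13892, e3 q13710 L212611 q13893, e3 q13711 (flp_e L210734) q13449, e3 q13712 (flp_e L212642) q13895, e3 q13713 L210761 q13452, e3 q13714 L212651 q13897, e3 q13715 L210783 q13491, e3 q13716 (flp_e L210791) q13455, e3 q13717 (flp_e L212682) q13899, e3 q13718 (flp_e L212690) q13900, e3 q13719 L210818 q13459, e3 q13720 L210828 q13460, e3 q13721 (flp_e L212718) q13903, e3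 q13722 (flp_e L210847) q13461, e3 q13723 (flp_e L212734) q13904, e3 q13724 L210878 q13464, e3 q13725 (flp_e L212559) q13888, e3 q13726 L210893 q13467, e3 q13727 (flp_e L210899) q13468, e3 q13728 (flp_e L212766) q13907, e3 q13729 L210930 q13471, e3 q13730 (flp_e L210934) q13475, e3 q13731 (flp_e L212789) q13909, e3 q13732 L210959 q13478, e3 q13733 (flp_e L210961) q13479, e3 q13734 (flp_e L212808) q13911, e3 q13735 (flp_e L210984) q13481, e3 q13736 (flp_e L212822) q13912, e3 q13737 (flp_e L211011) q13483, e3 q13738 (flp_e L212834) q13913, e3 q13739 L211036 q13486, e3 q13740 L211044 q13487, e3 q13741 (flp_e L212849) q13915, e3 q13742 (flp_e L212863) q13916, e3 q13743 L212878 q13918, e3 q13744 (flp_e L211081) q13490, e3 q13745 (flp_e L212905) q13920, e3 q13746 L211098 q13493, e3 q13747 (flp_e L211102) q13494, e3 q13748 (flp_e L212922) q13922, e3 q13749 L211127 q13496, e3 q13750 (flp_e L212780) q13908, e3 q13751 L211142 q13616, e3 q13752 L211162 q13645, e3 q13753 (flp_e L212154) q13851, e3 q13754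 (flp_e L211548) q13789, e3 q13755 L211194 q13647, e3 q13756 (flp_e L211568) q13791, e3 q13757 L211216 q13651, e3 q13758 L211226 q13513, e3 q13759 (flp_e L211228) q13514, trivial⟩ (by decide +kernel)

theorem ce_e_215 : ∀ r, r < 64 → sm ge (Qf (13760 + r)) = Qf (tab Gen.e (13760 + r)) :=
  edges_tab (sm ge) Qf (tab Gen.e) 13760 [(13760, 13927), (13761, 13517), (13762, 13518), (13763, 13929), (13764, 13876), (13765, 13521), (13766, 13930), (13767, 13524), (13768, 13926), (13769, 13530), (13770, 13574), (13771, 13532), (13772, 13534), (13773, 13536), (13774, 13934), (13775, 13935), (13776, 13540), (13777, 13541), (13778, 13938), (13779, 13543), (13780, 13939), (13781, 13546), (13782, 13548), (13783, 13549), (13784, 13942), (13785, 13933), (13786, 13552), (13787, 13554), (13788, 13906), (13789, 13754), (13790, 13946), (13791, 13756), (13792, 13560), (13793, 13948), (13794, 13866), (13795, 13563), (13796, 13949), (13797, 13566), (13798, 13573), (13799, 13831), (13800, 13951), (13801, 13638),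 (13802, 13577), (13803, 13953), (13804, 13579), (13805, 13954), (13806, 13582), (13807, 13583), (13808, 13956), (13809, 13586), (13810, 13588), (13811, 13664), (13812, 13959), (13813, 13825), (13814, 13594), (13815, 13961), (13816, 13962), (13817, 13598), (13818, 13599), (13819, 13965), (13820, 13928), (13821, 13602), (13822, 13603), (13823, 13967)]
    ⟨e3 q13760 (flp_e L212980) q13927, e3 q13761 L211255 q13517, e3 q13762 (flp_e L211259) q13518, e3 q13763 (flp_e L213001) q13929, e3 q13764 (flp_e L212414) q13876, e3 q13765 (flp_e L211296) q13521, e3 q13766 (flp_e L213013) q13930, e3 q13767 L211321 q13524, e3 q13768 (flp_e L212969) q13926, e3 q13769 L211334 q13530, e3 q13770 L211346 q13574, e3 q13771 L211358 q13532, e3 q13772 L211368 q13534, e3 q13773 (flp_e L211370) q13536, e3 q13774 (flp_e L213048) q13934, e3 q13775 (flp_e L213058) q13935, e3 q13776 L211409 q13540, e3 q13777 (flp_e L211411) q13541, e3 q13778 (flp_e L213094) q13938, e3 q13779 (flp_e L211440) q13543, e3 q13780 (flp_e L213110)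 q13939, e3 q13781 L211477 q13546, e3 q13782 L211483 q13548, e3 q13783 L211491 q13549, e3 q13784 (flp_e L213134) q13942, e3 q13785 (flp_e L213037) q13933, e3 q13786 L211511 q13552, e3 q13787 L211525 q13554, e3 q13788 (flp_e L212755) q13906, e3 q13789 L211548 q13754, e3 q13790 L213178 q13946, e3 q13791 L211568 q13756, e3 q13792 (flp_e L211576) q13560, e3 q13793 (flp_e L213213) q13948, e3 q13794 (flp_e L212287) q13866, e3 q13795 (flp_e L211613) q13563, e3 q13796 (flp_e L213227) q13949, e3 q13797 L211640 q13566, e3 q13798 L211648 q13573, e3 q13799 (flp_e L211983) q13831, e3 q13800 L213238 q13951, e3 q13801 L211686 q13638, e3 q13802 (flp_e L211694) q13577, e3 q13803 (flp_e L213271) q13953, e3 q13804 (flp_e L211719) q13579, e3 q13805 (flp_e L213285) q13954, e3 q13806 L211746 q13582, e3 q13807 (flp_e L211748) q13583, e3 q13808 (flp_e L213304) q13956, e3 q13809 L211775 q13586, e3 q13810 L211779 q13588, e3 q13811 L211785 q13664, e3 q13812 L213320 q13959, e3 q13813 (flp_e L211918) q13825, e3 q13814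 (flp_e L211812) q13594, e3 q13815 (flp_e L213351) q13961, e3 q13816 (flp_e L213363) q13962, e3 q13817 L211845 q13598, e3 q13818 L211855 q13599, e3 q13819 (flp_e L213397) q13965, e3 q13820 (flp_e L212990) q13928, e3 q13821 L211875 q13602, e3 q13822 L211883 q13603, e3 q13823 (flp_e L213410) q13967, trivial⟩ (by decide +kernel)

theorem ce_e_216 : ∀ r, r < 64 → sm ge (Qf (13824 + r)) = Qf (tab Gen.e (13824 + r)) :=
  edges_tab (sm ge) Qf (tab Gen.e) 13824 [(13824, 13968), (13825, 13813), (13826, 13970), (13827, 13607), (13828, 13972), (13829, 13610), (13830, 13615), (13831, 13799), (13832, 13974), (13833, 13618), (13834, 13976), (13835, 13621), (13836, 13622), (13837, 13978), (13838, 13624), (13839, 13955), (13840, 13626), (13841, 13980), (13842, 13981), (13843, 13630), (13844, 13631), (13845, 13984), (13846, 13633), (13847, 13937), (13848, 13636), (13849, 13637), (13850, 13987), (13851, 13753), (13852, 13644), (13853, 13924), (13854, 13646), (13855, 13989), (13856, 13649), (13857, 13650),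 (13858, 13991), (13859, 13653), (13860, 13950), (13861, 13657), (13862, 13659), (13863, 13910), (13864, 13958), (13865, 13663), (13866, 13794), (13867, 13669), (13868, 13670), (13869, 13997), (13870, 13673), (13871, 13944), (13872, 13676), (13873, 13677), (13874, 14000), (13875, 13680), (13876, 13764), (13877, 13686), (13878, 13688), (13879, 13690), (13880, 13692), (13881, 14002), (13882, 13695), (13883, 13696), (13884, 14007), (13885, 13698), (13886, 14004), (13887, 13702)]
    ⟨e3 q13824 L213416 q13968, e3 q13825 L211918 q13813, e3 q13826 L213445 q13970, e3 q13827 (flp_e L211936) q13607, e3 q13828 (flp_e L213480) q13972, e3 q13829 L211957 q13610, e3 q13830 L211969 q13615, e3 q13831 L211983 q13799, e3 q13832 L213491 q13974, e3 q13833 (flp_e L212003) q13618, e3 q13834 (flp_e L213524) q13976, e3 q13835 L212022 q13621, e3 q13836 (flp_e L212026) q13622, e3 q13837 (flp_e L213541) q13978, e3 q13838 L212049 q13624, e3 q13839 (flp_e L213293) q13955, e3 q13840 (flp_e L212056) q13626, e3 q13841 (flp_e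 L213554) q13980, e3 q13842 (flp_e L213566) q13981, e3 q13843 L212089 q13630, e3 q13844 L212097 q13631, e3 q13845 (flp_e L213600) q13984, e3 q13846 L212112 q13633, e3 q13847 (flp_e L213081) q13937, e3 q13848 L212123 q13636, e3 q13849 L212133 q13637, e3 q13850 (flp_e L213624) q13987, e3 q13851 L212154 q13753, e3 q13852 L212168 q13644, e3 q13853 (flp_e L212941) q13924, e3 q13854 (flp_e L212180) q13646, e3 q13855 (flp_e L213645) q13989, e3 q13856 L212203 q13649, e3 q13857 (flp_e L212207) q13650, e3 q13858 (flp_e L213662) q13991, e3 q13859 L212234 q13653, e3 q13860 (flp_e L213235) q13950, e3 q13861 L212251 q13657, e3 q13862 L212259 q13659, e3 q13863 (flp_e L212797) q13910, e3 q13864 (flp_e L213317) q13958, e3 q13865 L212275 q13663, e3 q13866 L212287 q13794, e3 q13867 L212301 q13669, e3 q13868 (flp_e L212307) q13670, e3 q13869 (flp_e L213729) q13997, e3 q13870 L212342 q13673, e3 q13871 (flp_e L213159) q13944, e3 q13872 L212359 q13676, e3 q13873 (flp_e L212365) q13677, e3 q13874 (flp_e L213767)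 q14000, e3 q13875 L212400 q13680, e3 q13876 L212414 q13764, e3 q13877 L212434 q13686, e3 q13878 L212448 q13688, e3 q13879 L212458 q13690, e3 q13880 L212472 q13692, e3 q13881 (flp_e L213802) q14002, e3 q13882 L212491 q13695, e3 q13883 L212501 q13696, e3 q13884 (flp_e L213863) q14007, e3 q13885 L212528 q13698, e3 q13886 (flp_e L213828) q14004, e3 q13887 L212549 q13702, trivial⟩ (by decide +kernel)

theorem ce_e_217 : ∀ r, r < 64 → sm ge (Qf (13888 + r)) = Qf (tab Gen.e (13888 + r)) :=
  edges_tab (sm ge) Qf (tab Gen.e) 13888 [(13888, 13725), (13889, 13705), (13890, 13706), (13891, 14011), (13892, 13709), (13893, 13710), (13894, 14013), (13895, 13712), (13896, 13999), (13897, 13714), (13898, 14015), (13899, 13717), (13900, 13718), (13901, 14017), (13902, 14001), (13903, 13721), (13904, 13723), (13905, 14009), (13906, 13788), (13907, 13728), (13908, 13750), (13909, 13731), (13910, 13863), (13911, 13734), (13912, 13736), (13913, 13738), (13914, 14023), (13915, 13741), (13916, 13742), (13917,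 14026), (13918, 13743), (13919, 14027), (13920, 13745), (13921, 13998), (13922, 13748), (13923, 14020), (13924, 13853), (13925, 13945), (13926, 13768), (13927, 13760), (13928, 13820), (13929, 13763), (13930, 13766), (13931, 13988), (13932, 13993), (13933, 13785), (13934, 13774), (13935, 13775), (13936, 14034), (13937, 13847), (13938, 13778), (13939, 13780), (13940, 14003), (13941, 14006), (13942, 13784), (13943, 13996), (13944, 13871), (13945, 13925), (13946, 13790), (13947, 14038), (13948, 13793), (13949, 13796), (13950, 13860), (13951, 13800)]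
    ⟨e3 q13888 L212559 q13725, e3 q13889 L212566 q13705, e3 q13890 (flp_e L212572) q13706, e3 q13891 (flp_e L213912) q14011, e3 q13892 L212605 q13709, e3 q13893 (flp_e L212611) q13710, e3 q13894 (flp_e L213939) q14013, e3 q13895 L212642 q13712, e3 q13896 (flp_e L213752) q13999, e3 q13897 (flp_e L212651) q13714, e3 q13898 (flp_e L213966) q14015, e3 q13899 L212682 q13717, e3 q13900 L212690 q13718, e3 q13901 (flp_e L213981) q14017, e3 q13902 (flp_e L213785) q14001, e3 q13903 L212718 q13721, e3 q13904 L212734 q13723, e3 q13905 (flp_e L213892) q14009, e3 q13906 L212755 q13788, e3 q13907 L212766 q13728, e3 q13908 L212780 q13750, e3 q13909 L212789 q13731, e3 q13910 L212797 q13863, e3 q13911 L212808 q13734, e3 q13912 L212822 q13736, e3 q13913 L212834 q13738, e3 q13914 (flp_e L214064) q14023, e3 q13915 L212849 q13741, e3 q13916 L212863 q13742, e3 q13917 (flp_e L214099) q14026, e3 q13918 (flp_e L212878) q13743, e3 q13919 (flp_e L214111) q14027, e3 q13920 L212905 q13745, e3 q13921 (flp_e L213743) q13998,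 e3 q13922 L212922 q13748, e3 q13923 (flp_e L214025) q14020, e3 q13924 L212941 q13853, e3 q13925 (flp_e L213170) q13945, e3 q13926 L212969 q13768, e3 q13927 L212980 q13760, e3 q13928 L212990 q13820, e3 q13929 L213001 q13763, e3 q13930 L213013 q13766, e3 q13931 (flp_e L213636) q13988, e3 q13932 (flp_e L213685) q13993, e3 q13933 L213037 q13785, e3 q13934 L213048 q13774, e3 q13935 L213058 q13775, e3 q13936 (flp_e L214191) q14034, e3 q13937 L213081 q13847, e3 q13938 L213094 q13778, e3 q13939 L213110 q13780, e3 q13940 (flp_e L213815) q14003, e3 q13941 (flp_e L213854) q14006, e3 q13942 L213134 q13784, e3 q13943 (flp_e L213716) q13996, e3 q13944 L213159 q13871, e3 q13945 L213170 q13925, e3 q13946 (flp_e L213178) q13790, e3 q13947 (flp_e L214244) q14038, e3 q13948 L213213 q13793, e3 q13949 L213227 q13796, e3 q13950 L213235 q13860, e3 q13951 (flp_e L213238) q13800, trivial⟩ (by decide +kernel)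

theorem ce_e_218 : ∀ r, r < 64 → sm ge (Qf (13952 + r)) = Qf (tab Gen.e (13952 + r)) :=
  edges_tab (sm ge) Qf (tab Gen.e) 13952 [(13952, 14041), (13953, 13803), (13954, 13805), (13955, 13839), (13956, 13808), (13957, 14005), (13958, 13864), (13959, 13812), (13960, 14045), (13961, 13815), (13962, 13816), (13963, 14047), (13964, 14030), (13965, 13819), (13966, 14014), (13967, 13823), (13968, 13824), (13969, 14050), (13970, 13826), (13971, 14051), (13972, 13828), (13973, 14018), (13974, 13832), (13975, 14053), (13976, 13834), (13977, 14042), (13978, 13837), (13979, 14043), (13980, 13841), (13981, 13842), (13982, 14057), (13983, 14033), (13984, 13845), (13985, 14025), (13986, 14019), (13987, 13850), (13988, 13931), (13989, 13855), (13990, 14039), (13991, 13858), (13992, 14040), (13993, 13932), (13994, 14021), (13995, 14031), (13996, 13943), (13997, 13869), (13998, 13921), (13999, 13896), (14000, 13874), (14001, 13902), (14002, 13881), (14003, 13940), (14004, 13886), (14005, 13957), (14006,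 13941), (14007, 13884), (14008, 14022), (14009, 13905), (14010, 14012), (14011, 13891), (14012, 14010), (14013, 13894), (14014, 13966), (14015, 13898)]
    ⟨e3 q13952 (flp_e L214286) q14041, e3 q13953 L213271 q13803, e3 q13954 L213285 q13805, e3 q13955 L213293 q13839, e3 q13956 L213304 q13808, e3 q13957 (flp_e L213841) q14005, e3 q13958 L213317 q13864, e3 q13959 (flp_e L213320) q13812, e3 q13960 (flp_e L214339) q14045, e3 q13961 L213351 q13815, e3 q13962 L213363 q13816, e3 q13963 (flp_e L214360) q14047, e3 q13964 (flp_e L214143) q14030, e3 q13965 L213397 q13819, e3 q13966 (flp_e L213953) q14014, e3 q13967 L213410 q13823, e3 q13968 (flp_e L213416) q13824, e3 q13969 (flp_e L214394) q14050, e3 q13970 (flp_e L213445) q13826, e3 q13971 (flp_e L214408) q14051, e3 q13972 L213480 q13828, e3 q13973 (flp_e L213993) q14018, e3 q13974 (flp_e L213491) q13832, e3 q13975 (flp_e L214431) q14053, e3 q13976 L213524 q13834, e3 q13977 (flp_e L214302) q14042, e3 q13978 L213541 q13837, e3 q13979 (flp_e L214315)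 q14043, e3 q13980 L213554 q13841, e3 q13981 L213566 q13842, e3 q13982 (flp_e L214468) q14057, e3 q13983 (flp_e L214182) q14033, e3 q13984 L213600 q13845, e3 q13985 (flp_e L214084) q14025, e3 q13986 (flp_e L214012) q14019, e3 q13987 L213624 q13850, e3 q13988 L213636 q13931, e3 q13989 L213645 q13855, e3 q13990 (flp_e L214262) q14039, e3 q13991 L213662 q13858, e3 q13992 (flp_e L214275) q14040, e3 q13993 L213685 q13932, e3 q13994 (flp_e L214036) q14021, e3 q13995 (flp_e L214158) q14031, e3 q13996 L213716 q13943, e3 q13997 L213729 q13869, e3 q13998 L213743 q13921, e3 q13999 L213752 q13896, e3 q14000 L213767 q13874, e3 q14001 L213785 q13902, e3 q14002 L213802 q13881, e3 q14003 L213815 q13940, e3 q14004 L213828 q13886, e3 q14005 L213841 q13957, e3 q14006 L213854 q13941, e3 q14007 L213863 q13884, e3 q14008 (flp_e L214049) q14022, e3 q14009 L213892 q13905, e3 q14010 (flp_e L213928) q14012, e3 q14011 L213912 q13891, e3 q14012 L213928 q14010, e3 q14013 L213939 q13894, e3 q14014 L213953 q13966, e3 q14015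 L213966 q13898, trivial⟩ (by decide +kernel)

theorem ce_e_219 : ∀ r, r < 64 → sm ge (Qf (14016 + r)) = Qf (tab Gen.e (14016 + r)) :=
  edges_tab (sm ge) Qf (tab Gen.e) 14016 [(14016, 14063), (14017, 13901), (14018, 13973), (14019, 13986), (14020, 13923), (14021, 13994), (14022, 14008), (14023, 13914), (14024, 14044), (14025, 13985), (14026, 13917), (14027, 13919), (14028, 14062), (14029, 14032), (14030, 13964), (14031, 13995), (14032, 14029), (14033, 13983), (14034, 13936), (14035, 14036), (14036, 14035), (14037, 14064), (14038, 13947), (14039, 13990), (14040, 13992), (14041, 13952), (14042, 13977), (14043, 13979), (14044, 14024), (14045, 13960), (14046, 14070), (14047, 13963), (14048, 14066), (14049, 14065), (14050, 13969), (14051, 13971), (14052, 14068), (14053, 13975), (14054, 14073), (14055, 14061), (14056, 14069), (14057, 13982), (14058, 14071), (14059, 14067), (14060, 14072), (14061, 14055), (14062, 14028), (14063, 14016), (14064, 14037), (14065, 14049), (14066, 14048), (14067, 14059),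 (14068, 14052), (14069, 14056), (14070, 14046), (14071, 14058), (14072, 14060), (14073, 14054), (14074, 14075), (14075, 14074), (14076, 14077), (14077, 14076), (14078, 14079), (14079, 14078)]
    ⟨e3 q14016 (flp_e L214541) q14063, e3 q14017 L213981 q13901, e3 q14018 L213993 q13973, e3 q14019 L214012 q13986, e3 q14020 L214025 q13923, e3 q14021 L214036 q13994, e3 q14022 L214049 q14008, e3 q14023 L214064 q13914, e3 q14024 (flp_e L214328) q14044, e3 q14025 L214084 q13985, e3 q14026 L214099 q13917, e3 q14027 L214111 q13919, e3 q14028 (flp_e L214526) q14062, e3 q14029 (flp_e L214169) q14032, e3 q14030 L214143 q13964, e3 q14031 L214158 q13995, e3 q14032 L214169 q14029, e3 q14033 L214182 q13983, e3 q14034 L214191 q13936, e3 q14035 (flp_e L214226) q14036, e3 q14036 L214226 q14035, e3 q14037 (flp_e L214550) q14064, e3 q14038 L214244 q13947, e3 q14039 L214262 q13990, e3 q14040 L214275 q13992, e3 q14041 L214286 q13952, e3 q14042 L214302 q13977, e3 q14043 L214315 q13979, e3 q14044 L214328 q14024, e3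 q14045 L214339 q13960, e3 q14046 (flp_e L214636) q14070, e3 q14047 L214360 q13963, e3 q14048 (flp_e L214584) q14066, e3 q14049 (flp_e L214571) q14065, e3 q14050 L214394 q13969, e3 q14051 L214408 q13971, e3 q14052 (flp_e L214606) q14068, e3 q14053 L214431 q13975, e3 q14054 (flp_e L214679) q14073, e3 q14055 (flp_e L214511) q14061, e3 q14056 (flp_e L214621) q14069, e3 q14057 L214468 q13982, e3 q14058 (flp_e L214645) q14071, e3 q14059 (flp_e L214599) q14067, e3 q14060 (flp_e L214664) q14072, e3 q14061 L214511 q14055, e3 q14062 L214526 q14028, e3 q14063 L214541 q14016, e3 q14064 L214550 q14037, e3 q14065 L214571 q14049, e3 q14066 L214584 q14048, e3 q14067 L214599 q14059, e3 q14068 L214606 q14052, e3 q14069 L214621 q14056, e3 q14070 L214636 q14046, e3 q14071 L214645 q14058, e3 q14072 L214664 q14060, e3 q14073 L214679 q14054, e3 q14074 (flp_e L214703) q14075, e3 q14075 L214703 q14074, e3 q14076 (flp_e L214737) q14077, e3 q14077 L214737 q14076, e3 q14078 (flp_e L214763) q14079, e3 q14079 L214763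 q14078, trivial⟩ (by decide +kernel)

theorem cl_e : ∀ i, i < 14080 → sm ge (Qf i) = Qf (tab Gen.e i) :=
  all_of_chunks (fun i => sm ge (Qf i) = Qf (tab Gen.e i)) 220 0
    ⟨ce_e_0, ce_e_1, ce_e_2, ce_e_3, ce_e_4, ce_e_5, ce_e_6, ce_e_7, ce_e_8, ce_e_9, ce_e_10, ce_e_11, ce_e_12, ce_e_13, ce_e_14, ce_e_15, ce_e_16, ce_e_17, ce_e_18, ce_e_19, ce_e_20, ce_e_21, ce_e_22, ce_e_23, ce_e_24, ce_e_25, ce_e_26, ce_e_27, ce_e_28, ce_e_29, ce_e_30, ce_e_31, ce_e_32, ce_e_33, ce_e_34, ce_e_35, ce_e_36, ce_e_37, ce_e_38, ce_e_39, ce_e_40, ce_e_41, ce_e_42, ce_e_43, ce_e_44, ce_e_45, ce_e_46, ce_e_47, ce_e_48, ce_e_49, ce_e_50, ce_e_51, ce_e_52, ce_e_53, ce_e_54, ce_e_55, ce_e_56, ce_e_57, ce_e_58, ce_e_59, ce_e_60, ce_e_61, ce_e_62, ce_e_63, ce_e_64, ce_e_65, ce_e_66, ce_e_67, ce_e_68, ce_e_69, ce_e_70, ce_e_71, ce_e_72, ce_e_73, ce_e_74, ce_e_75, ce_e_76, ce_e_77, ce_e_78, ce_e_79, ce_e_80, ce_e_81, ce_e_82, ce_e_83, ce_e_84, ce_e_85, ce_e_86, ce_e_87, ce_e_88, ce_e_89, ce_e_90, ce_e_91, ce_e_92,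 ce_e_93, ce_e_94, ce_e_95, ce_e_96, ce_e_97, ce_e_98, ce_e_99, ce_e_100, ce_e_101, ce_e_102, ce_e_103, ce_e_104, ce_e_105, ce_e_106, ce_e_107, ce_e_108, ce_e_109, ce_e_110, ce_e_111, ce_e_112, ce_e_113, ce_e_114, ce_e_115, ce_e_116, ce_e_117, ce_e_118, ce_e_119, ce_e_120, ce_e_121, ce_e_122, ce_e_123, ce_e_124, ce_e_125, ce_e_126, ce_e_127, ce_e_128, ce_e_129, ce_e_130, ce_e_131, ce_e_132, ce_e_133, ce_e_134, ce_e_135, ce_e_136, ce_e_137, ce_e_138, ce_e_139, ce_e_140, ce_e_141, ce_e_142, ce_e_143, ce_e_144, ce_e_145, ce_e_146, ce_e_147, ce_e_148, ce_e_149, ce_e_150, ce_e_151, ce_e_152, ce_e_153, ce_e_154, ce_e_155, ce_e_156, ce_e_157, ce_e_158, ce_e_159, ce_e_160, ce_e_161, ce_e_162, ce_e_163, ce_e_164, ce_e_165, ce_e_166, ce_e_167, ce_e_168, ce_e_169, ce_e_170, ce_e_171, ce_e_172, ce_e_173, ce_e_174, ce_e_175, ce_e_176, ce_e_177, ce_e_178, ce_e_179, ce_e_180, ce_e_181, ce_e_182, ce_e_183, ce_e_184, ce_e_185, ce_e_186, ce_e_187, ce_e_188, ce_e_189, ce_e_190, ce_e_191, ce_e_192, ce_e_193,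 ce_e_194, ce_e_195, ce_e_196, ce_e_197, ce_e_198, ce_e_199, ce_e_200, ce_e_201, ce_e_202, ce_e_203, ce_e_204, ce_e_205, ce_e_206, ce_e_207, ce_e_208, ce_e_209, ce_e_210, ce_e_211, ce_e_212, ce_e_213, ce_e_214, ce_e_215, ce_e_216, ce_e_217, ce_e_218, ce_e_219, trivial⟩
    (fun r hr => absurd hr (Nat.not_lt_zero r))


end Cfsg.Agent.Helper28.FibA
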