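import Cfsg.Agent.Helper28.FibC0

/-!
# The Fi₂₂ presentation, cosets of the subgroup generated by b, …, i: the action of the generator f (helper28; generated)
-/

set_option autoImplicit false
set_option maxRecDepth 100000
set_option linter.unusedSimpArgs false
set_option linter.constructorNameAsVariable false

noncomputable section

namespace Cfsg.Agent.Helper28.FibA

open Cfsg.Spor Cfsg.Spor.Fi22 Cfsg.Agent.Helper28.CosetTable

theorem ce_f_0 : ∀ r, r < 64 → sm gf (Qf (0 + r)) = Qf (tab Gen.f (0 + r)) :=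
  edges_tab (sm gf) Qf (tab Gen.f) 0 [(0, 0), (1, 1), (2, 2), (3, 3), (4, 4), (5, 7), (6, 6), (7, 5), (8, 11), (9, 9), (10, 10), (11, 8), (12, 15), (13, 16), (14, 14), (15, 12), (16, 13), (17, 21), (18, 23), (19, 19), (20, 20), (21, 17), (22, 22), (23, 18), (24, 30), (25, 32), (26, 34), (27, 27), (28, 41), (29, 29), (30, 24), (31, 31), (32, 25), (33, 33), (34, 26), (35, 44), (36, 46), (37, 49), (38, 38), (39, 58), (40, 40), (41, 28), (42, 61), (43, 43), (44, 35), (45, 45), (46, 36), (47, 47), (48, 48), (49, 37), (50, 50), (51, 64), (52, 67), (53, 71), (54, 54), (55, 79), (56, 56), (57, 82), (58, 39), (59, 85), (60, 60), (61, 42), (62, 88), (63, 63)]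
    ⟨e3 q0 L4 q0, e3 q1 L13 q1, e3 q2 L21 q2, e3 q3 L30 q3, e3 q4 L39 q4, e3 q5 L59 q7, e3 q6 L56 q6, e3 q7 (flp_f L59) q5, e3 q8 (flp_f L99) q11, e3 q9 L81 q9, e3 q10 L92 q10, e3 q11 L99 q8, e3 q12 (flp_f L130) q15, e3 q13 (flp_f L139) q16, e3 q14 L123 q14, e3 q15 L130 q12, e3 q16 L139 q13, e3 q17 (flp_f L178) q21, e3 q18 (flp_f L195) q23, e3 q19 L161 q19, e3 q20 L171 q20, e3 q21 L178 q17, e3 q22 L188 q22, e3 q23 L195 q18, e3 q24 (flp_f L248) q30, e3 q25 (flp_f L265) q32, e3 q26 (flp_f L279) q34, e3 q27 L223 q27, e3 q28 L332 q41, e3 q29 L242 q29, e3 q30 L248 q24, e3 q31 L258 q31, e3 q32 L265 q25, e3 q33 L274 q33, e3 q34 L279 q26, e3 q35 (flp_f L362) q44, e3 q36 (flp_f L379) q46, e3 q37 (flp_f L400) q49, e3 q38 L310 q38, e3 q39 L468 q58, e3 q40 L329 q40, e3 q41 (flp_f L332) q28, e3 q42 (flp_f L500) q61, e3 q43 L353 q43, e3 q44 L362 q35, e3 q45 L372 q45, e3 q46 L379 q36, e3 q47 L384 q47, e3 q48 L394 q48, e3 q49 L400 q37, e3 q50 L409 q50, e3 q51 (flp_f L527) q64, e3 q52 (flp_f L548) q67, e3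 q53 (flp_f L578) q71, e3 q54 L439 q54, e3 q55 L641 q79, e3 q56 L458 q56, e3 q57 L667 q82, e3 q58 (flp_f L468) q39, e3 q59 (flp_f L697) q85, e3 q60 L490 q60, e3 q61 L500 q42, e3 q62 (flp_f L724) q88, e3 q63 L519 q63, trivial⟩ (by decide +kernel)

theorem ce_f_1 : ∀ r, r < 64 → sm gf (Qf (64 + r)) = Qf (tab Gen.f (64 + r)) :=
  edges_tab (sm gf) Qf (tab Gen.f) 64 [(64, 51), (65, 65), (66, 66), (67, 52), (68, 68), (69, 69), (70, 70), (71, 53), (72, 72), (73, 92), (74, 97), (75, 106), (76, 108), (77, 77), (78, 112), (79, 55), (80, 115), (81, 81), (82, 57), (83, 119), (84, 120), (85, 59), (86, 123), (87, 87), (88, 62), (89, 126), (90, 90), (91, 91), (92, 73), (93, 93), (94, 94), (95, 95), (96, 96), (97, 74), (98, 98), (99, 99), (100, 100), (101, 141), (102, 102), (103, 130), (104, 135), (105, 143), (106, 75), (107, 145), (108, 76), (109, 147), (110, 110), (111, 150), (112, 78), (113, 153), (114, 154), (115, 80), (116, 157), (117, 117), (118, 118), (119, 83), (120, 84), (121, 163), (122, 164),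 (123, 86), (124, 167), (125, 170), (126, 89), (127, 171)]
    ⟨e3 q64 L527 q51, e3 q65 L533 q65, e3 q66 L542 q66, e3 q67 L548 q52, e3 q68 L556 q68, e3 q69 L565 q69, e3 q70 L573 q70, e3 q71 L578 q53, e3 q72 L587 q72, e3 q73 (flp_f L759) q92, e3 q74 (flp_f L802) q97, e3 q75 L860 q106, e3 q76 L875 q108, e3 q77 L631 q77, e3 q78 L913 q112, e3 q79 (flp_f L641) q55, e3 q80 (flp_f L947) q115, e3 q81 L663 q81, e3 q82 (flp_f L667) q57, e3 q83 (flp_f L980) q119, e3 q84 (flp_f L990) q120, e3 q85 L697 q59, e3 q86 (flp_f L1014) q123, e3 q87 L713 q87, e3 q88 L724 q62, e3 q89 (flp_f L1036) q126, e3 q90 L742 q90, e3 q91 L752 q91, e3 q92 L759 q73, e3 q93 L765 q93, e3 q94 L773 q94, e3 q95 L788 q95, e3 q96 L796 q96, e3 q97 L802 q74, e3 q98 L812 q98, e3 q99 L818 q99, e3 q100 L822 q100, e3 q101 L1149 q141, e3 q102 L834 q102, e3 q103 (flp_f L1073) q130, e3 q104 (flp_f L1110) q135, e3 q105 L1189 q143, e3 q106 (flp_f L860) q75, e3 q107 L1204 q145, e3 q108 (flp_f L875) q76, e3 q109 (flp_f L1229) q147, e3 q110 L900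 q110, e3 q111 L1253 q150, e3 q112 (flp_f L913) q78, e3 q113 (flp_f L1286) q153, e3 q114 (flp_f L1296) q154, e3 q115 L947 q80, e3 q116 (flp_f L1324) q157, e3 q117 L964 q117, e3 q118 L975 q118, e3 q119 L980 q83, e3 q120 L990 q84, e3 q121 (flp_f L1374) q163, e3 q122 (flp_f L1381) q164, e3 q123 L1014 q86, e3 q124 (flp_f L1403) q167, e3 q125 L1423 q170, e3 q126 L1036 q89, e3 q127 (flp_f L1433) q171, trivial⟩ (by decide +kernel)

theorem ce_f_2 : ∀ r, r < 64 → sm gf (Qf (128 + r)) = Qf (tab Gen.f (128 + r)) :=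
  edges_tab (sm gf) Qf (tab Gen.f) 128 [(128, 128), (129, 129), (130, 103), (131, 131), (132, 132), (133, 133), (134, 134), (135, 104), (136, 183), (137, 137), (138, 138), (139, 139), (140, 189), (141, 101), (142, 142), (143, 105), (144, 144), (145, 107), (146, 194), (147, 109), (148, 196), (149, 149), (150, 111), (151, 200), (152, 152), (153, 113), (154, 114), (155, 204), (156, 205), (157, 116), (158, 208), (159, 159), (160, 212), (161, 161), (162, 162), (163, 121), (164, 122), (165, 216), (166, 217), (167, 124), (168, 221), (169, 225), (170, 125), (171, 127), (172, 172), (173, 227), (174, 174), (175, 175), (176, 182), (177, 177), (178, 178), (179, 179), (180, 180), (181, 239), (182, 176), (183, 136), (184, 184), (185, 185), (186, 246), (187, 187), (188, 249), (189, 140), (190, 226), (191, 191)]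
    ⟨e3 q128 L1057 q128, e3 q129 L1066 q129, e3 q130 L1073 q103, e3 q131 L1084 q131, e3 q132 L1095 q132, e3 q133 L1101 q133, e3 q134 L1106 q134, e3 q135 L1110 q104, e3 q136 L1532 q183, e3 q137 L1127 q137, e3 q138 L1133 q138, e3 q139 L1139 q139, e3 q140 L1573 q189, e3 q141 (flp_f L1149) q101, e3 q142 L1160 q142, e3 q143 (flp_f L1189) q105, e3 q144 L1203 q144, e3 q145 (flp_f L1204) q107, e3 q146 (flp_f L1658) q194, e3 q147 L1229 q109, e3 q148 (flp_f L1676) q196, e3 q149 L1248 q149, e3 q150 (flp_f L1253) q111, e3 q151 (flp_f L1722) q200, e3 q152 L1277 q152, e3 q153 L1286 q113, e3 q154 L1296 q114, e3 q155 (flp_f L1765) q204, e3 q156 (flp_f L1772) q205, e3 q157 L1324 q116, e3 q158 (flp_f L1800) q208, e3 q159 L1337 q159, e3 q160 L1828 q212, e3 q161 L1358 q161, e3 q162 L1367 q162, e3 q163 L1374 q121, e3 q164 L1381 q122, e3 q165 (flp_f L1862) q216, e3 q166 (flp_f L1870) q217, e3 q167 L1403 q124, e3 q168 (flp_f L1902) q221, e3 q169 L1930 q225, e3 q170 (flp_f L1423) q125, e3 q171 L1433 q127, e3 q172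 L1446 q172, e3 q173 (flp_f L1947) q227, e3 q174 L1461 q174, e3 q175 L1467 q175, e3 q176 L108176 q182, e3 q177 L1491 q177, e3 q178 L1503 q178, e3 q179 L1510 q179, e3 q180 L1515 q180, e3 q181 L2061 q239, e3 q182 (flp_f L108176) q176, e3 q183 (flp_f L1532) q136, e3 q184 L1543 q184, e3 q185 L1550 q185, e3 q186 L2119 q246, e3 q187 L1564 q187, e3 q188 L2139 q249, e3 q189 (flp_f L1573) q140, e3 q190 (flp_f L1943) q226, e3 q191 L1592 q191, trivial⟩ (by decide +kernel)

theorem ce_f_3 : ∀ r, r < 64 → sm gf (Qf (192 + r)) = Qf (tab Gen.f (192 + r)) :=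
  edges_tab (sm gf) Qf (tab Gen.f) 192 [(192, 192), (193, 193), (194, 146), (195, 252), (196, 148), (197, 254), (198, 257), (199, 199), (200, 151), (201, 260), (202, 202), (203, 203), (204, 155), (205, 156), (206, 265), (207, 266), (208, 158), (209, 270), (210, 274), (211, 276), (212, 160), (213, 213), (214, 214), (215, 215), (216, 165), (217, 166), (218, 282), (219, 283), (220, 289), (221, 168), (222, 292), (223, 290), (224, 295), (225, 169), (226, 190), (227, 173), (228, 228), (229, 297), (230, 230), (231, 231), (232, 240), (233, 233), (234, 234), (235, 235), (236, 310), (237, 237), (238, 314), (239, 181), (240, 232), (241, 277), (242, 242), (243, 319), (244, 244), (245, 323), (246, 186), (247, 247), (248, 326), (249, 188), (250, 296), (251, 251), (252, 195), (253, 329), (254, 197), (255, 332)]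
    ⟨e3 q192 L1642 q192, e3 q193 L1650 q193, e3 q194 L1658 q146, e3 q195 (flp_f L2225) q252, e3 q196 L1676 q148, e3 q197 (flp_f L2242) q254, e3 q198 L2284 q257, e3 q199 L1715 q199, e3 q200 L1722 q151, e3 q201 (flp_f L2314) q260, e3 q202 L1745 q202, e3 q203 L1754 q203, e3 q204 L1765 q155, e3 q205 L1772 q156, e3 q206 (flp_f L2366) q265, e3 q207 (flp_f L2375) q266, e3 q208 L1800 q158, e3 q209 (flp_f L2408) q270, e3 q210 L2435 q274, e3 q211 L2449 q276, e3 q212 (flp_f L1828) q160, e3 q213 L1838 q213, e3 q214 L1848 q214, e3 q215 L1856 q215, e3 q216 L1862 q165, e3 q217 L1870 q166, e3 q218 (flp_f L2502) q282, e3 q219 (flp_f L2511) q283, e3 q220 L2557 q289, e3 q221 L1902 q168, e3 q222 L2578 q292, e3 q223 (flp_f L2567) q290, e3 q224 L2601 q295, e3 q225 (flp_f L1930) q169, e3 q226 L1943 q190, e3 q227 L1947 q173, e3 q228 L1961 q228, e3 q229 (flp_f L2619) q297, e3 q230 L1976 q230, e3 q231 L1983 q231, e3 q232 (flp_f L108169) q240, e3 q233 L2023 q233, e3 q234 L2033 q234, e3 q235 L2039 q235, e3 q236 L2759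 q310, e3 q237 L2052 q237, e3 q238 L2787 q314, e3 q239 (flp_f L2061) q181, e3 q240 L108169 q232, e3 q241 (flp_f L2464) q277, e3 q242 L2094 q242, e3 q243 L2836 q319, e3 q244 L2109 q244, e3 q245 L2863 q323, e3 q246 (flp_f L2119) q186, e3 q247 L2130 q247, e3 q248 L2885 q326, e3 q249 (flp_f L2139) q188, e3 q250 (flp_f L2614) q296, e3 q251 L2218 q251, e3 q252 L2225 q195, e3 q253 (flp_f L2984) q329, e3 q254 L2242 q197, e3 q255 (flp_f L3011) q332, trivial⟩ (by decide +kernel)

theorem ce_f_4 : ∀ r, r < 64 → sm gf (Qf (256 + r)) = Qf (tab Gen.f (256 + r)) :=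
  edges_tab (sm gf) Qf (tab Gen.f) 256 [(256, 336), (257, 198), (258, 258), (259, 259), (260, 201), (261, 339), (262, 262), (263, 263), (264, 264), (265, 206), (266, 207), (267, 345), (268, 346), (269, 352), (270, 209), (271, 355), (272, 353), (273, 359), (274, 210), (275, 361), (276, 211), (277, 241), (278, 278), (279, 279), (280, 280), (281, 281), (282, 218), (283, 219), (284, 372), (285, 368), (286, 375), (287, 370), (288, 379), (289, 220), (290, 223), (291, 384), (292, 222), (293, 381), (294, 387), (295, 224), (296, 250), (297, 229), (298, 298), (299, 299), (300, 300), (301, 316), (302, 302), (303, 313), (304, 304), (305, 398), (306, 306), (307, 401), (308, 308), (309, 405), (310, 236), (311, 311), (312, 409), (313, 303), (314, 238), (315, 360), (316, 301), (317, 317), (318, 415), (319, 243)]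
    ⟨e3 q256 L3040 q336, e3 q257 (flp_f L2284) q198, e3 q258 L2295 q258, e3 q259 L2307 q259, e3 q260 L2314 q201, e3 q261 (flp_f L3108) q339, e3 q262 L2333 q262, e3 q263 L2348 q263, e3 q264 L2356 q264, e3 q265 L2366 q206, e3 q266 L2375 q207, e3 q267 (flp_f L3171) q345, e3 q268 (flp_f L3179) q346, e3 q269 L3230 q352, e3 q270 L2408 q209, e3 q271 L3252 q355, e3 q272 (flp_f L3240) q353, e3 q273 L3285 q359, e3 q274 (flp_f L2435) q210, e3 q275 L3299 q361, e3 q276 (flp_f L2449) q211, e3 q277 L2464 q241, e3 q278 L2470 q278, e3 q279 L2481 q279, e3 q280 L2489 q280, e3 q281 L2496 q281, e3 q282 L2502 q218, e3 q283 L2511 q219, e3 q284 L3393 q372, e3 q285 (flp_f L3363) q368, e3 q286 L3418 q375, e3 q287 (flp_f L3380) q370, e3 q288 L3449 q379, e3 q289 (flp_f L2557) q220, e3 q290 L2567 q223, e3 q291 L3487 q384, e3 q292 (flp_f L2578) q222, e3 q293 (flp_f L3468) q381, e3 q294 L3512 q387, e3 q295 (flp_f L2601) q224, e3 q296 L2614 q250, e3 q297 L2619 q229, e3 q298 L2633 q298, e3 q299 L2637 q299, e3 q300 L2645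 q300, e3 q301 (flp_f L108193) q316, e3 q302 L2659 q302, e3 q303 (flp_f L109795) q313, e3 q304 L2713 q304, e3 q305 L3669 q398, e3 q306 L2730 q306, e3 q307 L3696 q401, e3 q308 L2748 q308, e3 q309 L3725 q405, e3 q310 (flp_f L2759) q236, e3 q311 L2772 q311, e3 q312 L3754 q409, e3 q313 L109795 q303, e3 q314 (flp_f L2787) q238, e3 q315 (flp_f L3297) q360, e3 q316 L108193 q301, e3 q317 L2824 q317, e3 q318 L3827 q415, e3 q319 (flp_f L2836) q243, trivial⟩ (by decide +kernel)

theorem ce_f_5 : ∀ r, r < 64 → sm gf (Qf (320 + r)) = Qf (tab Gen.f (320 + r)) :=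
  edges_tab (sm gf) Qf (tab Gen.f) 320 [(320, 320), (321, 419), (322, 420), (323, 245), (324, 380), (325, 422), (326, 248), (327, 388), (328, 328), (329, 253), (330, 425), (331, 429), (332, 255), (333, 432), (334, 430), (335, 435), (336, 256), (337, 337), (338, 338), (339, 261), (340, 438), (341, 442), (342, 342), (343, 343), (344, 344), (345, 267), (346, 268), (347, 451), (348, 447), (349, 454), (350, 449), (351, 458), (352, 269), (353, 272), (354, 463), (355, 271), (356, 460), (357, 467), (358, 468), (359, 273), (360, 315), (361, 275), (362, 472), (363, 363), (364, 364), (365, 365), (366, 366), (367, 480), (368, 285), (369, 483), (370, 287), (371, 487), (372, 284), (373, 481), (374, 492), (375, 286), (376, 484), (377, 496), (378, 497), (379, 288), (380, 324), (381, 293), (382, 501), (383, 502)]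
    ⟨e3 q320 L2847 q320, e3 q321 L3857 q419, e3 q322 L3864 q420, e3 q323 (flp_f L2863) q245, e3 q324 (flp_f L3462) q380, e3 q325 L3879 q422, e3 q326 (flp_f L2885) q248, e3 q327 (flp_f L3525) q388, e3 q328 L2977 q328, e3 q329 L2984 q253, e3 q330 (flp_f L4002) q425, e3 q331 L4032 q429, e3 q332 L3011 q255, e3 q333 L4056 q432, e3 q334 (flp_f L4043) q430, e3 q335 L4092 q435, e3 q336 (flp_f L3040) q256, e3 q337 L3092 q337, e3 q338 L3101 q338, e3 q339 L3108 q261, e3 q340 (flp_f L4170) q438, e3 q341 L4204 q442, e3 q342 L3142 q342, e3 q343 L3154 q343, e3 q344 L3162 q344, e3 q345 L3171 q267, e3 q346 L3179 q268, e3 q347 L4283 q451, e3 q348 (flp_f L4249) q447, e3 q349 L4313 q454, e3 q350 (flp_f L4269) q449, e3 q351 L4346 q458, e3 q352 (flp_f L3230) q269, e3 q353 L3240 q272, e3 q354 L4384 q463, e3 q355 (flp_f L3252) q271, e3 q356 (flp_f L4366) q460, e3 q357 L4418 q467, e3 q358 L4425 q468, e3 q359 (flp_f L3285) q273, e3 q360 L3297 q315, e3 q361 (flp_f L3299) q275, e3 q362 (flp_f L4463) q472, e3 q363 L3330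 q363, e3 q364 L3336 q364, e3 q365 L3342 q365, e3 q366 L3349 q366, e3 q367 L4521 q480, e3 q368 L3363 q285, e3 q369 L4546 q483, e3 q370 L3380 q287, e3 q371 L4575 q487, e3 q372 (flp_f L3393) q284, e3 q373 (flp_f L4531) q481, e3 q374 L4619 q492, e3 q375 (flp_f L3418) q286, e3 q376 (flp_f L4557) q484, e3 q377 L4653 q496, e3 q378 L4659 q497, e3 q379 (flp_f L3449) q288, e3 q380 L3462 q324, e3 q381 L3468 q293, e3 q382 L4690 q501, e3 q383 L4697 q502, trivial⟩ (by decide +kernel)

theorem ce_f_6 : ∀ r, r < 64 → sm gf (Qf (384 + r)) = Qf (tab Gen.f (384 + r)) :=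
  edges_tab (sm gf) Qf (tab Gen.f) 384 [(384, 291), (385, 385), (386, 505), (387, 294), (388, 327), (389, 389), (390, 390), (391, 391), (392, 392), (393, 410), (394, 394), (395, 408), (396, 396), (397, 518), (398, 305), (399, 399), (400, 522), (401, 307), (402, 402), (403, 526), (404, 527), (405, 309), (406, 459), (407, 531), (408, 395), (409, 312), (410, 393), (411, 470), (412, 412), (413, 536), (414, 537), (415, 318), (416, 493), (417, 541), (418, 543), (419, 321), (420, 322), (421, 498), (422, 325), (423, 506), (424, 424), (425, 330), (426, 552), (427, 550), (428, 556), (429, 331), (430, 334), (431, 560), (432, 333), (433, 557), (434, 562), (435, 335), (436, 436), (437, 437), (438, 340), (439, 568), (440, 566), (441, 572), (442, 341), (443, 443), (444, 444), (445, 445), (446, 579), (447, 348)]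
    ⟨e3 q384 (flp_f L3487) q291, e3 q385 L3502 q385, e3 q386 L4721 q505, e3 q387 (flp_f L3512) q294, e3 q388 L3525 q327, e3 q389 L3536 q389, e3 q390 L3541 q390, e3 q391 L3548 q391, e3 q392 L3553 q392, e3 q393 (flp_f L109820) q410, e3 q394 L3578 q394, e3 q395 L109918 q408, e3 q396 L3657 q396, e3 q397 L4933 q518, e3 q398 (flp_f L3669) q305, e3 q399 L3681 q399, e3 q400 L4979 q522, e3 q401 (flp_f L3696) q307, e3 q402 L3711 q402, e3 q403 L5012 q526, e3 q404 L5021 q527, e3 q405 (flp_f L3725) q309, e3 q406 (flp_f L4359) q459, e3 q407 L5045 q531, e3 q408 (flp_f L109918) q395, e3 q409 (flp_f L3754) q312, e3 q410 L109820 q393, e3 q411 (flp_f L4444) q470, e3 q412 L3808 q412, e3 q413 L5143 q536, e3 q414 L5151 q537, e3 q415 (flp_f L3827) q318, e3 q416 (flp_f L4634) q493, e3 q417 L5182 q541, e3 q418 L5195 q543, e3 q419 (flp_f L3857) q321, e3 q420 (flp_f L3864) q322, e3 q421 (flp_f L4673) q498, e3 q422 (flp_f L3879) q325, e3 q423 (flp_f L4734) q506, e3 q424 L3995 q424, e3 q425 L4002 q330, e3 q426 L5384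 q552, e3 q427 (flp_f L5369) q550, e3 q428 L5418 q556, e3 q429 (flp_f L4032) q331, e3 q430 L4043 q334, e3 q431 L5461 q560, e3 q432 (flp_f L4056) q333, e3 q433 (flp_f L5440) q557, e3 q434 L5498 q562, e3 q435 (flp_f L4092) q335, e3 q436 L4158 q436, e3 q437 L4164 q437, e3 q438 L4170 q340, e3 q439 L5642 q568, e3 q440 (flp_f L5627) q566, e3 q441 L5679 q572, e3 q442 (flp_f L4204) q341, e3 q443 L4219 q443, e3 q444 L4228 q444, e3 q445 L4234 q445, e3 q446 L5740 q579, e3 q447 L4249 q348, trivial⟩ (by decide +kernel)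

theorem ce_f_7 : ∀ r, r < 64 → sm gf (Qf (448 + r)) = Qf (tab Gen.f (448 + r)) :=
  edges_tab (sm gf) Qf (tab Gen.f) 448 [(448, 582), (449, 350), (450, 586), (451, 347), (452, 580), (453, 591), (454, 349), (455, 583), (456, 595), (457, 596), (458, 351), (459, 406), (460, 356), (461, 601), (462, 602), (463, 354), (464, 464), (465, 606), (466, 607), (467, 357), (468, 358), (469, 611), (470, 411), (471, 471), (472, 362), (473, 573), (474, 474), (475, 475), (476, 476), (477, 619), (478, 478), (479, 623), (480, 367), (481, 373), (482, 628), (483, 369), (484, 376), (485, 632), (486, 633), (487, 371), (488, 488), (489, 625), (490, 638), (491, 639), (492, 374), (493, 416), (494, 643), (495, 645), (496, 377), (497, 378), (498, 421), (499, 650), (500, 652), (501, 382), (502, 383), (503, 656), (504, 504), (505, 386), (506, 423), (507, 507), (508, 508), (509, 509), (510, 510), (511, 511)]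
    ⟨e3 q448 L5770 q582, e3 q449 L4269 q350, e3 q450 L5802 q586, e3 q451 (flp_f L4283) q347, e3 q452 (flp_f L5752) q580, e3 q453 L5854 q591, e3 q454 (flp_f L4313) q349, e3 q455 (flp_f L5785) q583, e3 q456 L5891 q595, e3 q457 L5899 q596, e3 q458 (flp_f L4346) q351, e3 q459 L4359 q406, e3 q460 L4366 q356, e3 q461 L5934 q601, e3 q462 L5943 q602, e3 q463 (flp_f L4384) q354, e3 q464 L4399 q464, e3 q465 L5971 q606, e3 q466 L5978 q607, e3 q467 (flp_f L4418) q357, e3 q468 (flp_f L4425) q358, e3 q469 (flp_f L6022) q611, e3 q470 L4444 q411, e3 q471 L4451 q471, e3 q472 L4463 q362, e3 q473 L88031 q573, e3 q474 L4481 q474, e3 q475 L4487 q475, e3 q476 L4495 q476, e3 q477 L6099 q619, e3 q478 L4511 q478, e3 q479 L6127 q623, e3 q480 (flp_f L4521) q367, e3 q481 L4531 q373, e3 q482 L6167 q628, e3 q483 (flp_f L4546) q369, e3 q484 L4557 q376, e3 q485 L6200 q632, e3 q486 L6208 q633, e3 q487 (flp_f L4575) q371, e3 q488 L4591 q488, e3 q489 (flp_f L6145) q625, e3 q490 L6249 q638, e3 q491 L6256 q639, e3 q492 (flp_f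 L4619) q374, e3 q493 L4634 q416, e3 q494 L6292 q643, e3 q495 L6306 q645, e3 q496 (flp_f L4653) q377, e3 q497 (flp_f L4659) q378, e3 q498 L4673 q421, e3 q499 L6345 q650, e3 q500 L6360 q652, e3 q501 (flp_f L4690) q382, e3 q502 (flp_f L4697) q383, e3 q503 (flp_f L6397) q656, e3 q504 L4720 q504, e3 q505 (flp_f L4721) q386, e3 q506 L4734 q423, e3 q507 L4741 q507, e3 q508 L4746 q508, e3 q509 L4755 q509, e3 q510 L4763 q510, e3 q511 L4769 q511, trivial⟩ (by decide +kernel)

theorem ce_f_8 : ∀ r, r < 64 → sm gf (Qf (512 + r)) = Qf (tab Gen.f (512 + r)) :=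
  edges_tab (sm gf) Qf (tab Gen.f) 512 [(512, 532), (513, 528), (514, 530), (515, 515), (516, 667), (517, 668), (518, 397), (519, 519), (520, 672), (521, 673), (522, 400), (523, 592), (524, 677), (525, 679), (526, 403), (527, 404), (528, 513), (529, 598), (530, 514), (531, 407), (532, 512), (533, 609), (534, 686), (535, 688), (536, 413), (537, 414), (538, 693), (539, 641), (540, 695), (541, 417), (542, 697), (543, 418), (544, 646), (545, 545), (546, 648), (547, 658), (548, 548), (549, 703), (550, 427), (551, 707), (552, 426), (553, 704), (554, 710), (555, 711), (556, 428), (557, 433), (558, 714), (559, 715), (560, 431), (561, 717), (562, 434), (563, 563), (564, 564), (565, 722), (566, 440), (567, 726), (568, 439), (569, 723), (570, 730), (571, 731), (572, 441), (573, 473), (574, 574), (575, 575)]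
    ⟨e3 q512 L109891 q532, e3 q513 (flp_f L108593) q528, e3 q514 (flp_f L109803) q530, e3 q515 L4914 q515, e3 q516 L6661 q667, e3 q517 L6670 q668, e3 q518 (flp_f L4933) q397, e3 q519 L4955 q519, e3 q520 L6710 q672, e3 q521 L6720 q673, e3 q522 (flp_f L4979) q400, e3 q523 (flp_f L5873) q592, e3 q524 L6751 q677, e3 q525 L6765 q679, e3 q526 (flp_f L5012) q403, e3 q527 (flp_f L5021) q404, e3 q528 L108593 q513, e3 q529 (flp_f L5917) q598, e3 q530 L109803 q514, e3 q531 (flp_f L5045) q407, e3 q532 (flp_f L109891) q512, e3 q533 (flp_f L6001) q609, e3 q534 L6930 q686, e3 q535 L6945 q688, e3 q536 (flp_f L5143) q413, e3 q537 (flp_f L5151) q414, e3 q538 (flp_f L6988) q693, e3 q539 (flp_f L6281) q641, e3 q540 L6998 q695, e3 q541 (flp_f L5182) q417, e3 q542 L7014 q697, e3 q543 (flp_f L5195) q418, e3 q544 (flp_f L6319) q646, e3 q545 L5215 q545, e3 q546 (flp_f L6334) q648, e3 q547 (flp_f L6414) q658, e3 q548 L5355 q548, e3 q549 L7208 q703, e3 q550 L5369 q427, e3 q551 L7240 q707, e3 q552 (flp_f L5384) q426,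 e3 q553 (flp_f L7220) q704, e3 q554 L7277 q710, e3 q555 L7284 q711, e3 q556 (flp_f L5418) q428, e3 q557 L5440 q433, e3 q558 L7326 q714, e3 q559 L7334 q715, e3 q560 (flp_f L5461) q431, e3 q561 L7369 q717, e3 q562 (flp_f L5498) q434, e3 q563 L5602 q563, e3 q564 L5609 q564, e3 q565 L7560 q722, e3 q566 L5627 q440, e3 q567 L7595 q726, e3 q568 (flp_f L5642) q439, e3 q569 (flp_f L7573) q723, e3 q570 L7633 q730, e3 q571 L7641 q731, e3 q572 (flp_f L5679) q441, e3 q573 (flp_f L88031) q473, e3 q574 L5701 q574, e3 q575 L5710 q575, trivial⟩ (by decide +kernel)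

theorem ce_f_9 : ∀ r, r < 64 → sm gf (Qf (576 + r)) = Qf (tab Gen.f (576 + r)) :=
  edges_tab (sm gf) Qf (tab Gen.f) 576 [(576, 738), (577, 577), (578, 742), (579, 446), (580, 452), (581, 747), (582, 448), (583, 455), (584, 751), (585, 752), (586, 450), (587, 587), (588, 744), (589, 757), (590, 758), (591, 453), (592, 523), (593, 762), (594, 764), (595, 456), (596, 457), (597, 769), (598, 529), (599, 772), (600, 774), (601, 461), (602, 462), (603, 779), (604, 604), (605, 781), (606, 465), (607, 466), (608, 785), (609, 533), (610, 610), (611, 469), (612, 733), (613, 613), (614, 614), (615, 615), (616, 793), (617, 617), (618, 797), (619, 477), (620, 620), (621, 801), (622, 802), (623, 479), (624, 624), (625, 489), (626, 807), (627, 808), (628, 482), (629, 629), (630, 812), (631, 814), (632, 485), (633, 486), (634, 819), (635, 635), (636, 822), (637, 824), (638, 490), (639, 491)]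
    ⟨e3 q576 L7705 q738, e3 q577 L5729 q577, e3 q578 L7736 q742, e3 q579 (flp_f L5740) q446, e3 q580 L5752 q452, e3 q581 L7784 q747, e3 q582 (flp_f L5770) q448, e3 q583 L5785 q455, e3 q584 L7821 q751, e3 q585 L7831 q752, e3 q586 (flp_f L5802) q450, e3 q587 L5818 q587, e3 q588 (flp_f L7757) q744, e3 q589 L7872 q757, e3 q590 L7881 q758, e3 q591 (flp_f L5854) q453, e3 q592 L5873 q523, e3 q593 L7917 q762, e3 q594 L7932 q764, e3 q595 (flp_f L5891) q456, e3 q596 (flp_f L5899) q457, e3 q597 (flp_f L7969) q769, e3 q598 L5917 q529, e3 q599 L7987 q772, e3 q600 L8004 q774, e3 q601 (flp_f L5934) q461, e3 q602 (flp_f L5943) q462, e3 q603 (flp_f L8044) q779, e3 q604 L5961 q604, e3 q605 L8052 q781, e3 q606 (flp_f L5971) q465, e3 q607 (flp_f L5978) q466, e3 q608 (flp_f L8099) q785, e3 q609 L6001 q533, e3 q610 L6008 q610, e3 q611 L6022 q469, e3 q612 (flp_f L109730) q733, e3 q613 L6044 q613, e3 q614 L6064 q614, e3 q615 L6071 q615, e3 q616 L8209 q793, e3 q617 L6087 q617, e3 q618 L8241 q797, e3 q619 (flp_f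 L6099) q477, e3 q620 L6110 q620, e3 q621 L8271 q801, e3 q622 L8277 q802, e3 q623 (flp_f L6127) q479, e3 q624 L6141 q624, e3 q625 L6145 q489, e3 q626 L8317 q807, e3 q627 L8326 q808, e3 q628 (flp_f L6167) q482, e3 q629 L6185 q629, e3 q630 L8357 q812, e3 q631 L8370 q814, e3 q632 (flp_f L6200) q485, e3 q633 (flp_f L6208) q486, e3 q634 (flp_f L8408) q819, e3 q635 L6229 q635, e3 q636 L8429 q822, e3 q637 L8445 q824, e3 q638 (flp_f L6249) q490, e3 q639 (flp_f L6256) q491, trivial⟩ (by decide +kernel)

theorem ce_f_10 : ∀ r, r < 64 → sm gf (Qf (640 + r)) = Qf (tab Gen.f (640 + r)) :=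
  edges_tab (sm gf) Qf (tab Gen.f) 640 [(640, 829), (641, 539), (642, 831), (643, 494), (644, 833), (645, 495), (646, 544), (647, 647), (648, 546), (649, 838), (650, 499), (651, 841), (652, 500), (653, 844), (654, 654), (655, 655), (656, 503), (657, 847), (658, 547), (659, 659), (660, 660), (661, 661), (662, 662), (663, 683), (664, 680), (665, 856), (666, 858), (667, 516), (668, 517), (669, 861), (670, 863), (671, 865), (672, 520), (673, 521), (674, 860), (675, 760), (676, 870), (677, 524), (678, 873), (679, 525), (680, 664), (681, 766), (682, 768), (683, 663), (684, 783), (685, 877), (686, 534), (687, 880), (688, 535), (689, 884), (690, 826), (691, 691), (692, 828), (693, 538), (694, 889), (695, 540), (696, 832), (697, 542), (698, 698), (699, 835), (700, 895), (701, 701), (702, 899), (703, 549)]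
    ⟨e3 q640 (flp_f L8492) q829, e3 q641 L6281 q539, e3 q642 L8504 q831, e3 q643 (flp_f L6292) q494, e3 q644 L8521 q833, e3 q645 (flp_f L6306) q495, e3 q646 L6319 q544, e3 q647 L6326 q647, e3 q648 L6334 q546, e3 q649 L8557 q838, e3 q650 (flp_f L6345) q499, e3 q651 L8583 q841, e3 q652 (flp_f L6360) q500, e3 q653 (flp_f L8612) q844, e3 q654 L6382 q654, e3 q655 L6391 q655, e3 q656 L6397 q503, e3 q657 (flp_f L8635) q847, e3 q658 L6414 q547, e3 q659 L6420 q659, e3 q660 L6429 q660, e3 q661 L6437 q661, e3 q662 L6444 q662, e3 q663 (flp_f L109829) q683, e3 q664 (flp_f L109812) q680, e3 q665 L8973 q856, e3 q666 L8990 q858, e3 q667 (flp_f L6661) q516, e3 q668 (flp_f L6670) q517, e3 q669 (flp_f L9032) q861, e3 q670 L9053 q863, e3 q671 L9074 q865, e3 q672 (flp_f L6710) q520, e3 q673 (flp_f L6720) q521, e3 q674 L87565 q860, e3 q675 (flp_f L7909) q760, e3 q676 L9142 q870, e3 q677 (flp_f L6751) q524, e3 q678 L9163 q873, e3 q679 (flp_f L6765) q525, e3 q680 L109812 q664, e3 q681 (flp_f L7954) q766, e3 q682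 (flp_f L7964) q768, e3 q683 L109829 q663, e3 q684 (flp_f L8075) q783, e3 q685 L9364 q877, e3 q686 (flp_f L6930) q534, e3 q687 L9390 q880, e3 q688 (flp_f L6945) q535, e3 q689 (flp_f L9424) q884, e3 q690 (flp_f L8469) q826, e3 q691 L6975 q691, e3 q692 (flp_f L8486) q828, e3 q693 L6988 q538, e3 q694 L9459 q889, e3 q695 (flp_f L6998) q540, e3 q696 (flp_f L8519) q832, e3 q697 (flp_f L7014) q542, e3 q698 L7026 q698, e3 q699 (flp_f L8540) q835, e3 q700 L9503 q895, e3 q701 L7196 q701, e3 q702 L9731 q899, e3 q703 (flp_f L7208) q549, trivial⟩ (by decide +kernel)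

theorem ce_f_11 : ∀ r, r < 64 → sm gf (Qf (704 + r)) = Qf (tab Gen.f (704 + r)) :=
  edges_tab (sm gf) Qf (tab Gen.f) 704 [(704, 553), (705, 902), (706, 903), (707, 551), (708, 906), (709, 908), (710, 554), (711, 555), (712, 911), (713, 913), (714, 558), (715, 559), (716, 915), (717, 561), (718, 718), (719, 919), (720, 720), (721, 923), (722, 565), (723, 569), (724, 927), (725, 928), (726, 567), (727, 727), (728, 932), (729, 934), (730, 570), (731, 571), (732, 939), (733, 612), (734, 734), (735, 943), (736, 736), (737, 947), (738, 576), (739, 739), (740, 951), (741, 952), (742, 578), (743, 743), (744, 588), (745, 957), (746, 958), (747, 581), (748, 748), (749, 962), (750, 964), (751, 584), (752, 585), (753, 969), (754, 754), (755, 972), (756, 974), (757, 589), (758, 590), (759, 979), (760, 675), (761, 982), (762, 593), (763, 985), (764, 594), (765, 989), (766, 681), (767, 937)]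
    ⟨e3 q704 L7220 q553, e3 q705 L9764 q902, e3 q706 L9773 q903, e3 q707 (flp_f L7240) q551, e3 q708 L9805 q906, e3 q709 L9820 q908, e3 q710 (flp_f L7277) q554, e3 q711 (flp_f L7284) q555, e3 q712 L9884 q911, e3 q713 L9901 q913, e3 q714 (flp_f L7326) q558, e3 q715 (flp_f L7334) q559, e3 q716 (flp_f L9946) q915, e3 q717 (flp_f L7369) q561, e3 q718 L7530 q718, e3 q719 L10211 q919, e3 q720 L7548 q720, e3 q721 L10245 q923, e3 q722 (flp_f L7560) q565, e3 q723 L7573 q569, e3 q724 L10279 q927, e3 q725 L10289 q928, e3 q726 (flp_f L7595) q567, e3 q727 L7612 q727, e3 q728 L10321 q932, e3 q729 L10339 q934, e3 q730 (flp_f L7633) q570, e3 q731 (flp_f L7641) q571, e3 q732 (flp_f L10385) q939, e3 q733 L109730 q612, e3 q734 L7669 q734, e3 q735 L10418 q943, e3 q736 L7690 q736, e3 q737 L10461 q947, e3 q738 (flp_f L7705) q576, e3 q739 L7720 q739, e3 q740 L10495 q951, e3 q741 L10503 q952, e3 q742 (flp_f L7736) q578, e3 q743 L7750 q743, e3 q744 L7757 q588, e3 q745 L10543 q957, e3 q746 L10554 q958, e3 q747 (flp_f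 L7784) q581, e3 q748 L7806 q748, e3 q749 L10587 q962, e3 q750 L10602 q964, e3 q751 (flp_f L7821) q584, e3 q752 (flp_f L7831) q585, e3 q753 (flp_f L10637) q969, e3 q754 L7848 q754, e3 q755 L10658 q972, e3 q756 L10680 q974, e3 q757 (flp_f L7872) q589, e3 q758 (flp_f L7881) q590, e3 q759 (flp_f L10733) q979, e3 q760 L7909 q675, e3 q761 L10756 q982, e3 q762 (flp_f L7917) q593, e3 q763 L10780 q985, e3 q764 (flp_f L7932) q594, e3 q765 (flp_f L10811) q989, e3 q766 L7954 q681, e3 q767 (flp_f L10371) q937, trivial⟩ (by decide +kernel)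

theorem ce_f_12 : ∀ r, r < 64 → sm gf (Qf (768 + r)) = Qf (tab Gen.f (768 + r)) :=
  edges_tab (sm gf) Qf (tab Gen.f) 768 [(768, 682), (769, 597), (770, 938), (771, 994), (772, 599), (773, 997), (774, 600), (775, 1001), (776, 776), (777, 777), (778, 778), (779, 603), (780, 1005), (781, 605), (782, 1007), (783, 684), (784, 784), (785, 608), (786, 936), (787, 787), (788, 788), (789, 789), (790, 1014), (791, 791), (792, 1018), (793, 616), (794, 794), (795, 1022), (796, 1023), (797, 618), (798, 798), (799, 1027), (800, 1029), (801, 621), (802, 622), (803, 1034), (804, 804), (805, 1037), (806, 1039), (807, 626), (808, 627), (809, 1044), (810, 810), (811, 1047), (812, 630), (813, 1050), (814, 631), (815, 1054), (816, 816), (817, 817), (818, 818), (819, 634), (820, 1059), (821, 1061), (822, 636), (823, 1064), (824, 637), (825, 1068), (826, 690), (827, 827), (828, 692), (829, 640), (830, 1073), (831, 642)]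
    ⟨e3 q768 L7964 q682, e3 q769 L7969 q597, e3 q770 (flp_f L108737) q938, e3 q771 L10858 q994, e3 q772 (flp_f L7987) q599, e3 q773 L10881 q997, e3 q774 (flp_f L8004) q600, e3 q775 (flp_f L10916) q1001, e3 q776 L8026 q776, e3 q777 L8033 q777, e3 q778 L8040 q778, e3 q779 L8044 q603, e3 q780 (flp_f L10948) q1005, e3 q781 (flp_f L8052) q605, e3 q782 (flp_f L10973) q1007, e3 q783 L8075 q684, e3 q784 L8083 q784, e3 q785 L8099 q608, e3 q786 L109835 q936, e3 q787 L8123 q787, e3 q788 L8157 q788, e3 q789 L8179 q789, e3 q790 L11105 q1014, e3 q791 L8195 q791, e3 q792 L11135 q1018, e3 q793 (flp_f L8209) q616, e3 q794 L8220 q794, e3 q795 L11169 q1022, e3 q796 L11176 q1023, e3 q797 (flp_f L8241) q618, e3 q798 L8257 q798, e3 q799 L11208 q1027, e3 q800 L11221 q1029, e3 q801 (flp_f L8271) q621, e3 q802 (flp_f L8277) q622, e3 q803 (flp_f L11261) q1034, e3 q804 L8299 q804, e3 q805 L11281 q1037, e3 q806 L11297 q1039, e3 q807 (flp_f L8317) q626, e3 q808 (flp_f L8326) q627, e3 q809 (flp_f L11341) q1044, e3 q810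 L8349 q810, e3 q811 L11358 q1047, e3 q812 (flp_f L8357) q630, e3 q813 L11384 q1050, e3 q814 (flp_f L8370) q631, e3 q815 (flp_f L11412) q1054, e3 q816 L8392 q816, e3 q817 L8398 q817, e3 q818 L8404 q818, e3 q819 L8408 q634, e3 q820 (flp_f L11451) q1059, e3 q821 L11462 q1061, e3 q822 (flp_f L8429) q636, e3 q823 L11491 q1064, e3 q824 (flp_f L8445) q637, e3 q825 (flp_f L11528) q1068, e3 q826 L8469 q690, e3 q827 L8477 q827, e3 q828 L8486 q692, e3 q829 L8492 q640, e3 q830 L11566 q1073, e3 q831 (flp_f L8504) q642, trivial⟩ (by decide +kernel)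

theorem ce_f_13 : ∀ r, r < 64 → sm gf (Qf (832 + r)) = Qf (tab Gen.f (832 + r)) :=
  edges_tab (sm gf) Qf (tab Gen.f) 832 [(832, 696), (833, 644), (834, 834), (835, 699), (836, 1079), (837, 1081), (838, 649), (839, 1084), (840, 840), (841, 651), (842, 1087), (843, 843), (844, 653), (845, 1091), (846, 846), (847, 657), (848, 848), (849, 849), (850, 850), (851, 851), (852, 852), (853, 871), (854, 874), (855, 1100), (856, 665), (857, 1102), (858, 666), (859, 1105), (860, 674), (861, 669), (862, 1107), (863, 670), (864, 1110), (865, 671), (866, 1104), (867, 976), (868, 978), (869, 1114), (870, 676), (871, 853), (872, 984), (873, 678), (874, 854), (875, 988), (876, 1119), (877, 685), (878, 1123), (879, 1063), (880, 687), (881, 1126), (882, 882), (883, 1067), (884, 689), (885, 1131), (886, 886), (887, 1071), (888, 1134), (889, 694), (890, 890), (891, 1075), (892, 892), (893, 1077), (894, 1140), (895, 700)]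
    ⟨e3 q832 L8519 q696, e3 q833 (flp_f L8521) q644, e3 q834 L8532 q834, e3 q835 L8540 q699, e3 q836 L11612 q1079, e3 q837 L11628 q1081, e3 q838 (flp_f L8557) q649, e3 q839 (flp_f L11661) q1084, e3 q840 L8582 q840, e3 q841 (flp_f L8583) q651, e3 q842 (flp_f L11686) q1087, e3 q843 L8606 q843, e3 q844 L8612 q653, e3 q845 (flp_f L11714) q1091, e3 q846 L8627 q846, e3 q847 L8635 q657, e3 q848 L8641 q848, e3 q849 L8652 q849, e3 q850 L8660 q850, e3 q851 L8666 q851, e3 q852 L8675 q852, e3 q853 (flp_f L111673) q871, e3 q854 (flp_f L111680) q874, e3 q855 L12178 q1100, e3 q856 (flp_f L8973) q665, e3 q857 L12202 q1102, e3 q858 (flp_f L8990) q666, e3 q859 (flp_f L12238) q1105, e3 q860 (flp_f L87565) q674, e3 q861 L9032 q669, e3 q862 L12289 q1107, e3 q863 (flp_f L9053) q670, e3 q864 L12320 q1110, e3 q865 (flp_f L9074) q671, e3 q866 L111065 q1104, e3 q867 (flp_f L10706) q976, e3 q868 (flp_f L10726) q978, e3 q869 L12411 q1114, e3 q870 (flp_f L9142) q676, e3 q871 L111673 q853, e3 q872 (flp_f L10778) q984,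 e3 q873 (flp_f L9163) q678, e3 q874 L111680 q854, e3 q875 (flp_f L10805) q988, e3 q876 L12696 q1119, e3 q877 (flp_f L9364) q685, e3 q878 (flp_f L12735) q1123, e3 q879 (flp_f L11489) q1063, e3 q880 (flp_f L9390) q687, e3 q881 (flp_f L12759) q1126, e3 q882 L9411 q882, e3 q883 (flp_f L11522) q1067, e3 q884 L9424 q689, e3 q885 L12792 q1131, e3 q886 L9443 q886, e3 q887 (flp_f L11552) q1071, e3 q888 L12816 q1134, e3 q889 (flp_f L9459) q694, e3 q890 L9473 q890, e3 q891 (flp_f L11588) q1075, e3 q892 L9488 q892, e3 q893 (flp_f L11603) q1077, e3 q894 L12860 q1140, e3 q895 (flp_f L9503) q700, trivial⟩ (by decide +kernel)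

theorem ce_f_14 : ∀ r, r < 64 → sm gf (Qf (896 + r)) = Qf (tab Gen.f (896 + r)) :=
  edges_tab (sm gf) Qf (tab Gen.f) 896 [(896, 896), (897, 1143), (898, 1144), (899, 702), (900, 1147), (901, 1149), (902, 705), (903, 706), (904, 1152), (905, 1155), (906, 708), (907, 1156), (908, 709), (909, 977), (910, 1159), (911, 712), (912, 1161), (913, 713), (914, 1163), (915, 716), (916, 1165), (917, 917), (918, 1169), (919, 719), (920, 920), (921, 1173), (922, 1174), (923, 721), (924, 924), (925, 1178), (926, 1180), (927, 724), (928, 725), (929, 1185), (930, 930), (931, 1188), (932, 728), (933, 1191), (934, 729), (935, 1195), (936, 786), (937, 767), (938, 770), (939, 732), (940, 1200), (941, 941), (942, 1204), (943, 735), (944, 944), (945, 1208), (946, 1209), (947, 737), (948, 948), (949, 1213), (950, 1215), (951, 740), (952, 741), (953, 1220), (954, 954), (955, 1223), (956, 1225), (957, 745), (958, 746), (959, 1230)]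
    ⟨e3 q896 L9712 q896, e3 q897 L13145 q1143, e3 q898 L13152 q1144, e3 q899 (flp_f L9731) q702, e3 q900 L13184 q1147, e3 q901 L13199 q1149, e3 q902 (flp_f L9764) q705, e3 q903 (flp_f L9773) q706, e3 q904 (flp_f L13239) q1152, e3 q905 L13257 q1155, e3 q906 (flp_f L9805) q708, e3 q907 L13286 q1156, e3 q908 (flp_f L9820) q709, e3 q909 (flp_f L10715) q977, e3 q910 L13369 q1159, e3 q911 (flp_f L9884) q712, e3 q912 L13397 q1161, e3 q913 (flp_f L9901) q713, e3 q914 (flp_f L13431) q1163, e3 q915 L9946 q716, e3 q916 (flp_f L13471) q1165, e3 q917 L10197 q917, e3 q918 L13823 q1169, e3 q919 (flp_f L10211) q719, e3 q920 L10224 q920, e3 q921 L13857 q1173, e3 q922 L13865 q1174, e3 q923 (flp_f L10245) q721, e3 q924 L10260 q924, e3 q925 L13897 q1178, e3 q926 L13915 q1180, e3 q927 (flp_f L10279) q724, e3 q928 (flp_f L10289) q725, e3 q929 (flp_f L13959) q1185, e3 q930 L10310 q930, e3 q931 L13981 q1188, e3 q932 (flp_f L10321) q728, e3 q933 L14008 q1191, e3 q934 (flp_f L10339) q729, e3 q935 (flp_f L14047) q1195,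 e3 q936 (flp_f L109835) q786, e3 q937 L10371 q767, e3 q938 L108737 q770, e3 q939 L10385 q732, e3 q940 (flp_f L14087) q1200, e3 q941 L10401 q941, e3 q942 L14121 q1204, e3 q943 (flp_f L10418) q735, e3 q944 L10435 q944, e3 q945 L14163 q1208, e3 q946 L14172 q1209, e3 q947 (flp_f L10461) q737, e3 q948 L10481 q948, e3 q949 L14206 q1213, e3 q950 L14221 q1215, e3 q951 (flp_f L10495) q740, e3 q952 (flp_f L10503) q741, e3 q953 (flp_f L14258) q1220, e3 q954 L10521 q954, e3 q955 L14278 q1223, e3 q956 L14300 q1225, e3 q957 (flp_f L10543) q745, e3 q958 (flp_f L10554) q746, e3 q959 (flp_f L14351) q1230, trivial⟩ (by decide +kernel)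

theorem ce_f_15 : ∀ r, r < 64 → sm gf (Qf (960 + r)) = Qf (tab Gen.f (960 + r)) :=
  edges_tab (sm gf) Qf (tab Gen.f) 960 [(960, 960), (961, 1233), (962, 749), (963, 1236), (964, 750), (965, 1240), (966, 966), (967, 1183), (968, 968), (969, 753), (970, 1245), (971, 1247), (972, 755), (973, 1250), (974, 756), (975, 1254), (976, 867), (977, 909), (978, 868), (979, 759), (980, 1199), (981, 1259), (982, 761), (983, 1263), (984, 872), (985, 763), (986, 1267), (987, 1193), (988, 875), (989, 765), (990, 1194), (991, 1257), (992, 1198), (993, 1273), (994, 771), (995, 1277), (996, 996), (997, 773), (998, 1281), (999, 999), (1000, 1000), (1001, 775), (1002, 1286), (1003, 1003), (1004, 1004), (1005, 780), (1006, 1006), (1007, 782), (1008, 1190), (1009, 1009), (1010, 1010), (1011, 1011), (1012, 1012), (1013, 1297), (1014, 790), (1015, 1015), (1016, 1301), (1017, 1302), (1018, 792), (1019, 1019), (1020, 1306), (1021, 1308), (1022, 795), (1023, 796)]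
    ⟨e3 q960 L10581 q960, e3 q961 L14371 q1233, e3 q962 (flp_f L10587) q749, e3 q963 L14395 q1236, e3 q964 (flp_f L10602) q750, e3 q965 (flp_f L14423) q1240, e3 q966 L10625 q966, e3 q967 (flp_f L13948) q1183, e3 q968 L10634 q968, e3 q969 L10637 q753, e3 q970 (flp_f L14455) q1245, e3 q971 L14469 q1247, e3 q972 (flp_f L10658) q755, e3 q973 L14503 q1250, e3 q974 (flp_f L10680) q756, e3 q975 (flp_f L14543) q1254, e3 q976 L10706 q867, e3 q977 L10715 q909, e3 q978 L10726 q868, e3 q979 L10733 q759, e3 q980 (flp_f L108871) q1199, e3 q981 L14602 q1259, e3 q982 (flp_f L10756) q761, e3 q983 (flp_f L14635) q1263, e3 q984 L10778 q872, e3 q985 (flp_f L10780) q763, e3 q986 (flp_f L14666) q1267, e3 q987 (flp_f L14031) q1193, e3 q988 L10805 q875, e3 q989 L10811 q765, e3 q990 (flp_f L110852) q1194, e3 q991 L108909 q1257, e3 q992 (flp_f L14073) q1198, e3 q993 L14745 q1273, e3 q994 (flp_f L10858) q771, e3 q995 (flp_f L14782) q1277, e3 q996 L10880 q996, e3 q997 (flp_f L10881) q773, e3 q998 (flp_f L14813) q1281,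 e3 q999 L10903 q999, e3 q1000 L10911 q1000, e3 q1001 L10916 q775, e3 q1002 (flp_f L14856) q1286, e3 q1003 L10938 q1003, e3 q1004 L10942 q1004, e3 q1005 L10948 q780, e3 q1006 L10957 q1006, e3 q1007 L10973 q782, e3 q1008 (flp_f L109737) q1190, e3 q1009 L10999 q1009, e3 q1010 L11035 q1010, e3 q1011 L11079 q1011, e3 q1012 L11092 q1012, e3 q1013 L15075 q1297, e3 q1014 (flp_f L11105) q790, e3 q1015 L11115 q1015, e3 q1016 L15107 q1301, e3 q1017 L15115 q1302, e3 q1018 (flp_f L11135) q792, e3 q1019 L11152 q1019, e3 q1020 L15148 q1306, e3 q1021 L15164 q1308, e3 q1022 (flp_f L11169) q795, e3 q1023 (flp_f L11176) q796, trivial⟩ (by decide +kernel)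

theorem ce_f_16 : ∀ r, r < 64 → sm gf (Qf (1024 + r)) = Qf (tab Gen.f (1024 + r)) :=
  edges_tab (sm gf) Qf (tab Gen.f) 1024 [(1024, 1313), (1025, 1025), (1026, 1316), (1027, 799), (1028, 1319), (1029, 800), (1030, 1323), (1031, 1031), (1032, 1032), (1033, 1033), (1034, 803), (1035, 1328), (1036, 1330), (1037, 805), (1038, 1333), (1039, 806), (1040, 1337), (1041, 1041), (1042, 1042), (1043, 1043), (1044, 809), (1045, 1325), (1046, 1340), (1047, 811), (1048, 1344), (1049, 1049), (1050, 813), (1051, 1348), (1052, 1052), (1053, 1053), (1054, 815), (1055, 1354), (1056, 1314), (1057, 1057), (1058, 1058), (1059, 820), (1060, 1356), (1061, 821), (1062, 1360), (1063, 879), (1064, 823), (1065, 1363), (1066, 1066), (1067, 883), (1068, 825), (1069, 1303), (1070, 1070), (1071, 887), (1072, 1368), (1073, 830), (1074, 1074), (1075, 891), (1076, 1076), (1077, 893), (1078, 1374), (1079, 836), (1080, 1375), (1081, 837), (1082, 1378), (1083, 1083), (1084, 839), (1085, 1382), (1086, 1086), (1087, 842)]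
    ⟨e3 q1024 (flp_f L15210) q1313, e3 q1025 L11200 q1025, e3 q1026 L15227 q1316, e3 q1027 (flp_f L11208) q799, e3 q1028 L15250 q1319, e3 q1029 (flp_f L11221) q800, e3 q1030 (flp_f L15281) q1323, e3 q1031 L11240 q1031, e3 q1032 L11247 q1032, e3 q1033 L11255 q1033, e3 q1034 L11261 q803, e3 q1035 (flp_f L15322) q1328, e3 q1036 L15332 q1330, e3 q1037 (flp_f L11281) q805, e3 q1038 L15360 q1333, e3 q1039 (flp_f L11297) q806, e3 q1040 (flp_f L15394) q1337, e3 q1041 L11321 q1041, e3 q1042 L11329 q1042, e3 q1043 L11337 q1043, e3 q1044 L11341 q809, e3 q1045 (flp_f L120491) q1325, e3 q1046 L15441 q1340, e3 q1047 (flp_f L11358) q811, e3 q1048 (flp_f L15476) q1344, e3 q1049 L11383 q1049, e3 q1050 (flp_f L11384) q813, e3 q1051 (flp_f L15503) q1348, e3 q1052 L11400 q1052, e3 q1053 L11407 q1053, e3 q1054 L11412 q815, e3 q1055 (flp_f L15547) q1354, e3 q1056 (flp_f L120501) q1314, e3 q1057 L11436 q1057, e3 q1058 L11441 q1058, e3 q1059 L11451 q820, e3 q1060 L15588 q1356, e3 q1061 (flp_f L11462) q821, e3 q1062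 (flp_f L15630) q1360, e3 q1063 L11489 q879, e3 q1064 (flp_f L11491) q823, e3 q1065 (flp_f L15656) q1363, e3 q1066 L11513 q1066, e3 q1067 L11522 q883, e3 q1068 L11528 q825, e3 q1069 L120261 q1303, e3 q1070 L11546 q1070, e3 q1071 L11552 q887, e3 q1072 L15716 q1368, e3 q1073 (flp_f L11566) q830, e3 q1074 L11579 q1074, e3 q1075 L11588 q891, e3 q1076 L11596 q1076, e3 q1077 L11603 q893, e3 q1078 L15760 q1374, e3 q1079 (flp_f L11612) q836, e3 q1080 L15768 q1375, e3 q1081 (flp_f L11628) q837, e3 q1082 (flp_f L15801) q1378, e3 q1083 L11654 q1083, e3 q1084 L11661 q839, e3 q1085 (flp_f L15833) q1382, e3 q1086 L11679 q1086, e3 q1087 L11686 q842, trivial⟩ (by decide +kernel)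

theorem ce_f_17 : ∀ r, r < 64 → sm gf (Qf (1088 + r)) = Qf (tab Gen.f (1088 + r)) :=
  edges_tab (sm gf) Qf (tab Gen.f) 1088 [(1088, 1384), (1089, 1385), (1090, 1090), (1091, 845), (1092, 1092), (1093, 1093), (1094, 1094), (1095, 1095), (1096, 1393), (1097, 1097), (1098, 1115), (1099, 1398), (1100, 855), (1101, 1401), (1102, 857), (1103, 1403), (1104, 866), (1105, 859), (1106, 1406), (1107, 862), (1108, 1400), (1109, 1249), (1110, 864), (1111, 1402), (1112, 1253), (1113, 1411), (1114, 869), (1115, 1098), (1116, 1262), (1117, 1266), (1118, 1414), (1119, 876), (1120, 1418), (1121, 1121), (1122, 1359), (1123, 878), (1124, 1124), (1125, 1362), (1126, 881), (1127, 1427), (1128, 1429), (1129, 1129), (1130, 1367), (1131, 885), (1132, 1296), (1133, 1133), (1134, 888), (1135, 1135), (1136, 1370), (1137, 1436), (1138, 1138), (1139, 1438), (1140, 894), (1141, 1440), (1142, 1442), (1143, 897), (1144, 898), (1145, 1445), (1146, 1448), (1147, 900), (1148, 1450), (1149, 901), (1150, 1453), (1151, 1228)]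
    ⟨e3 q1088 (flp_f L15848) q1384, e3 q1089 (flp_f L15856) q1385, e3 q1090 L11706 q1090, e3 q1091 L11714 q845, e3 q1092 L11722 q1092, e3 q1093 L11732 q1093, e3 q1094 L11738 q1094, e3 q1095 L11748 q1095, e3 q1096 L15913 q1393, e3 q1097 L11763 q1097, e3 q1098 L111900 q1115, e3 q1099 L16502 q1398, e3 q1100 (flp_f L12178) q855, e3 q1101 (flp_f L16540) q1401, e3 q1102 (flp_f L12202) q857, e3 q1103 (flp_f L16574) q1403, e3 q1104 (flp_f L111065) q866, e3 q1105 L12238 q859, e3 q1106 L16673 q1406, e3 q1107 (flp_f L12289) q862, e3 q1108 (flp_f L111630) q1400, e3 q1109 (flp_f L14501) q1249, e3 q1110 (flp_f L12320) q864, e3 q1111 (flp_f L111043) q1402, e3 q1112 (flp_f L14537) q1253, e3 q1113 L16853 q1411, e3 q1114 (flp_f L12411) q869, e3 q1115 (flp_f L111900) q1098, e3 q1116 (flp_f L14629) q1262, e3 q1117 (flp_f L14659) q1266, e3 q1118 L17216 q1414, e3 q1119 (flp_f L12696) q876, e3 q1120 (flp_f L17255) q1418, e3 q1121 L12720 q1121, e3 q1122 (flp_f L15623) q1359, e3 q1123 L12735 q878, e3 q1124 L12746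 q1124, e3 q1125 (flp_f L15649) q1362, e3 q1126 L12759 q881, e3 q1127 (flp_f L17328) q1427, e3 q1128 L17338 q1429, e3 q1129 L12782 q1129, e3 q1130 (flp_f L15686) q1367, e3 q1131 (flp_f L12792) q885, e3 q1132 L115456 q1296, e3 q1133 L12812 q1133, e3 q1134 (flp_f L12816) q888, e3 q1135 L12830 q1135, e3 q1136 (flp_f L15738) q1370, e3 q1137 L17417 q1436, e3 q1138 L12850 q1138, e3 q1139 L17437 q1438, e3 q1140 (flp_f L12860) q894, e3 q1141 L17797 q1440, e3 q1142 L17812 q1442, e3 q1143 (flp_f L13145) q897, e3 q1144 (flp_f L13152) q898, e3 q1145 (flp_f L17854) q1445, e3 q1146 L17871 q1448, e3 q1147 (flp_f L13184) q900, e3 q1148 L17900 q1450, e3 q1149 (flp_f L13199) q901, e3 q1150 (flp_f L17927) q1453, e3 q1151 (flp_f L14336) q1228, trivial⟩ (by decide +kernel)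

theorem ce_f_18 : ∀ r, r < 64 → sm gf (Qf (1152 + r)) = Qf (tab Gen.f (1152 + r)) :=
  edges_tab (sm gf) Qf (tab Gen.f) 1152 [(1152, 904), (1153, 1456), (1154, 1458), (1155, 905), (1156, 907), (1157, 1252), (1158, 1462), (1159, 910), (1160, 1464), (1161, 912), (1162, 1466), (1163, 914), (1164, 1469), (1165, 916), (1166, 1166), (1167, 1472), (1168, 1473), (1169, 918), (1170, 1170), (1171, 1477), (1172, 1479), (1173, 921), (1174, 922), (1175, 1484), (1176, 1176), (1177, 1487), (1178, 925), (1179, 1490), (1180, 926), (1181, 1494), (1182, 1182), (1183, 967), (1184, 1184), (1185, 929), (1186, 1499), (1187, 1501), (1188, 931), (1189, 1505), (1190, 1008), (1191, 933), (1192, 1509), (1193, 987), (1194, 990), (1195, 935), (1196, 1515), (1197, 1516), (1198, 992), (1199, 980), (1200, 940), (1201, 1201), (1202, 1521), (1203, 1522), (1204, 942), (1205, 1205), (1206, 1526), (1207, 1528), (1208, 945), (1209, 946), (1210, 1533), (1211, 1211), (1212, 1536), (1213, 949), (1214, 1539), (1215, 950)]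
    ⟨e3 q1152 L13239 q904, e3 q1153 (flp_f L17967) q1456, e3 q1154 L17977 q1458, e3 q1155 (flp_f L13257) q905, e3 q1156 (flp_f L13286) q907, e3 q1157 (flp_f L14527) q1252, e3 q1158 L18142 q1462, e3 q1159 (flp_f L13369) q910, e3 q1160 (flp_f L18184) q1464, e3 q1161 (flp_f L13397) q912, e3 q1162 (flp_f L18215) q1466, e3 q1163 L13431 q914, e3 q1164 (flp_f L18257) q1469, e3 q1165 L13471 q916, e3 q1166 L13803 q1166, e3 q1167 L18752 q1472, e3 q1168 L18761 q1473, e3 q1169 (flp_f L13823) q918, e3 q1170 L13839 q1170, e3 q1171 L18792 q1477, e3 q1172 L18810 q1479, e3 q1173 (flp_f L13857) q921, e3 q1174 (flp_f L13865) q922, e3 q1175 (flp_f L18856) q1484, e3 q1176 L13887 q1176, e3 q1177 L18877 q1487, e3 q1178 (flp_f L13897) q925, e3 q1179 L18904 q1490, e3 q1180 (flp_f L13915) q926, e3 q1181 (flp_f L18941) q1494, e3 q1182 L13941 q1182, e3 q1183 L13948 q967, e3 q1184 L13956 q1184, e3 q1185 L13959 q929, e3 q1186 (flp_f L18977) q1499, e3 q1187 L18991 q1501, e3 q1188 (flp_f L13981) q931, e3 q1189 (flp_f L19032)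 q1505, e3 q1190 L109737 q1008, e3 q1191 (flp_f L14008) q933, e3 q1192 (flp_f L19070) q1509, e3 q1193 L14031 q987, e3 q1194 L110852 q990, e3 q1195 L14047 q935, e3 q1196 (flp_f L19121) q1515, e3 q1197 L19125 q1516, e3 q1198 L14073 q992, e3 q1199 L108871 q980, e3 q1200 L14087 q940, e3 q1201 L14096 q1201, e3 q1202 L19184 q1521, e3 q1203 L19194 q1522, e3 q1204 (flp_f L14121) q942, e3 q1205 L14142 q1205, e3 q1206 L19233 q1526, e3 q1207 L19255 q1528, e3 q1208 (flp_f L14163) q945, e3 q1209 (flp_f L14172) q946, e3 q1210 (flp_f L19308) q1533, e3 q1211 L14200 q1211, e3 q1212 L19328 q1536, e3 q1213 (flp_f L14206) q949, e3 q1214 L19349 q1539, e3 q1215 (flp_f L14221) q950, trivial⟩ (by decide +kernel)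

theorem ce_f_19 : ∀ r, r < 64 → sm gf (Qf (1216 + r)) = Qf (tab Gen.f (1216 + r)) :=
  edges_tab (sm gf) Qf (tab Gen.f) 1216 [(1216, 1543), (1217, 1217), (1218, 1482), (1219, 1219), (1220, 953), (1221, 1548), (1222, 1550), (1223, 955), (1224, 1553), (1225, 956), (1226, 1557), (1227, 1227), (1228, 1151), (1229, 1229), (1230, 959), (1231, 1562), (1232, 1564), (1233, 961), (1234, 1568), (1235, 1235), (1236, 963), (1237, 1572), (1238, 1492), (1239, 1239), (1240, 965), (1241, 1578), (1242, 1579), (1243, 1497), (1244, 1244), (1245, 970), (1246, 1585), (1247, 971), (1248, 1589), (1249, 1109), (1250, 973), (1251, 1593), (1252, 1157), (1253, 1112), (1254, 975), (1255, 1514), (1256, 1517), (1257, 991), (1258, 1598), (1259, 981), (1260, 1602), (1261, 1503), (1262, 1116), (1263, 983), (1264, 1504), (1265, 1507), (1266, 1117), (1267, 986), (1268, 1508), (1269, 1597), (1270, 1513), (1271, 1518), (1272, 1611), (1273, 993), (1274, 1615), (1275, 1275), (1276, 1276), (1277, 995), (1278, 1620), (1279, 1279)]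
    ⟨e3 q1216 (flp_f L19380) q1543, e3 q1217 L14241 q1217, e3 q1218 (flp_f L18841) q1482, e3 q1219 L14253 q1219, e3 q1220 L14258 q953, e3 q1221 (flp_f L19415) q1548, e3 q1222 L19428 q1550, e3 q1223 (flp_f L14278) q955, e3 q1224 L19462 q1553, e3 q1225 (flp_f L14300) q956, e3 q1226 (flp_f L19500) q1557, e3 q1227 L14327 q1227, e3 q1228 L14336 q1151, e3 q1229 L14346 q1229, e3 q1230 L14351 q959, e3 q1231 (flp_f L19544) q1562, e3 q1232 L19553 q1564, e3 q1233 (flp_f L14371) q961, e3 q1234 (flp_f L19585) q1568, e3 q1235 L14394 q1235, e3 q1236 (flp_f L14395) q963, e3 q1237 (flp_f L19611) q1572, e3 q1238 (flp_f L18926) q1492, e3 q1239 L14418 q1239, e3 q1240 L14423 q965, e3 q1241 (flp_f L19654) q1578, e3 q1242 L19656 q1579, e3 q1243 (flp_f L18966) q1497, e3 q1244 L14446 q1244, e3 q1245 L14455 q970, e3 q1246 L19697 q1585, e3 q1247 (flp_f L14469) q971, e3 q1248 (flp_f L19745) q1589, e3 q1249 L14501 q1109, e3 q1250 (flp_f L14503) q973, e3 q1251 (flp_f L19786) q1593, e3 q1252 L14527 q1157, e3 q1253 L14537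 q1112, e3 q1254 L14543 q975, e3 q1255 (flp_f L110880) q1514, e3 q1256 (flp_f L109074) q1517, e3 q1257 (flp_f L108909) q991, e3 q1258 L19891 q1598, e3 q1259 (flp_f L14602) q981, e3 q1260 (flp_f L19928) q1602, e3 q1261 (flp_f L19016) q1503, e3 q1262 L14629 q1116, e3 q1263 L14635 q983, e3 q1264 L111536 q1504, e3 q1265 (flp_f L19053) q1507, e3 q1266 L14659 q1117, e3 q1267 L14666 q986, e3 q1268 L110837 q1508, e3 q1269 (flp_f L108933) q1597, e3 q1270 (flp_f L19105) q1513, e3 q1271 (flp_f L19143) q1518, e3 q1272 L20074 q1611, e3 q1273 (flp_f L14745) q993, e3 q1274 (flp_f L20114) q1615, e3 q1275 L14769 q1275, e3 q1276 L14777 q1276, e3 q1277 L14782 q995, e3 q1278 (flp_f L20159) q1620, e3 q1279 L14798 q1279, trivial⟩ (by decide +kernel)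

theorem ce_f_20 : ∀ r, r < 64 → sm gf (Qf (1280 + r)) = Qf (tab Gen.f (1280 + r)) :=
  edges_tab (sm gf) Qf (tab Gen.f) 1280 [(1280, 1280), (1281, 998), (1282, 1623), (1283, 1624), (1284, 1284), (1285, 1285), (1286, 1002), (1287, 1287), (1288, 1288), (1289, 1289), (1290, 1290), (1291, 1291), (1292, 1292), (1293, 1293), (1294, 1294), (1295, 1638), (1296, 1132), (1297, 1013), (1298, 1298), (1299, 1640), (1300, 1642), (1301, 1016), (1302, 1017), (1303, 1069), (1304, 1304), (1305, 1646), (1306, 1020), (1307, 1649), (1308, 1021), (1309, 1653), (1310, 1310), (1311, 1311), (1312, 1312), (1313, 1024), (1314, 1056), (1315, 1656), (1316, 1026), (1317, 1660), (1318, 1318), (1319, 1028), (1320, 1664), (1321, 1321), (1322, 1322), (1323, 1030), (1324, 1670), (1325, 1045), (1326, 1326), (1327, 1327), (1328, 1035), (1329, 1672), (1330, 1036), (1331, 1676), (1332, 1332), (1333, 1038), (1334, 1680), (1335, 1335), (1336, 1336), (1337, 1040), (1338, 1667), (1339, 1683), (1340, 1046), (1341, 1687), (1342, 1342),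 (1343, 1343)]
    ⟨e3 q1280 L14807 q1280, e3 q1281 L14813 q998, e3 q1282 (flp_f L20190) q1623, e3 q1283 (flp_f L20199) q1624, e3 q1284 L14844 q1284, e3 q1285 L14849 q1285, e3 q1286 L14856 q1002, e3 q1287 L14876 q1287, e3 q1288 L14884 q1288, e3 q1289 L14889 q1289, e3 q1290 L14908 q1290, e3 q1291 L14948 q1291, e3 q1292 L14992 q1292, e3 q1293 L15033 q1293, e3 q1294 L15054 q1294, e3 q1295 L20490 q1638, e3 q1296 (flp_f L115456) q1132, e3 q1297 (flp_f L15075) q1013, e3 q1298 L15091 q1298, e3 q1299 L20529 q1640, e3 q1300 L20543 q1642, e3 q1301 (flp_f L15107) q1016, e3 q1302 (flp_f L15115) q1017, e3 q1303 (flp_f L120261) q1069, e3 q1304 L15138 q1304, e3 q1305 L20604 q1646, e3 q1306 (flp_f L15148) q1020, e3 q1307 L20629 q1649, e3 q1308 (flp_f L15164) q1021, e3 q1309 (flp_f L20666) q1653, e3 q1310 L15185 q1310, e3 q1311 L15194 q1311, e3 q1312 L15204 q1312, e3 q1313 L15210 q1024, e3 q1314 L120501 q1056, e3 q1315 L20718 q1656, e3 q1316 (flp_f L15227) q1026, e3 q1317 (flp_f L20752) q1660, e3 q1318 L15249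 q1318, e3 q1319 (flp_f L15250) q1028, e3 q1320 (flp_f L20783) q1664, e3 q1321 L15269 q1321, e3 q1322 L15276 q1322, e3 q1323 L15281 q1030, e3 q1324 (flp_f L20826) q1670, e3 q1325 L120491 q1045, e3 q1326 L15306 q1326, e3 q1327 L15312 q1327, e3 q1328 L15322 q1035, e3 q1329 L20876 q1672, e3 q1330 (flp_f L15332) q1036, e3 q1331 (flp_f L20917) q1676, e3 q1332 L15359 q1332, e3 q1333 (flp_f L15360) q1038, e3 q1334 (flp_f L20948) q1680, e3 q1335 L15380 q1335, e3 q1336 L15389 q1336, e3 q1337 L15394 q1040, e3 q1338 L120507 q1667, e3 q1339 L21036 q1683, e3 q1340 (flp_f L15441) q1046, e3 q1341 (flp_f L21068) q1687, e3 q1342 L15462 q1342, e3 q1343 L15470 q1343, trivial⟩ (by decide +kernel)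

theorem ce_f_21 : ∀ r, r < 64 → sm gf (Qf (1344 + r)) = Qf (tab Gen.f (1344 + r)) :=
  edges_tab (sm gf) Qf (tab Gen.f) 1344 [(1344, 1048), (1345, 1693), (1346, 1346), (1347, 1347), (1348, 1051), (1349, 1698), (1350, 1699), (1351, 1654), (1352, 1352), (1353, 1353), (1354, 1055), (1355, 1702), (1356, 1060), (1357, 1706), (1358, 1358), (1359, 1122), (1360, 1062), (1361, 1361), (1362, 1125), (1363, 1065), (1364, 1715), (1365, 1643), (1366, 1366), (1367, 1130), (1368, 1072), (1369, 1369), (1370, 1136), (1371, 1721), (1372, 1372), (1373, 1724), (1374, 1078), (1375, 1080), (1376, 1726), (1377, 1377), (1378, 1082), (1379, 1730), (1380, 1731), (1381, 1381), (1382, 1085), (1383, 1383), (1384, 1088), (1385, 1089), (1386, 1739), (1387, 1738), (1388, 1388), (1389, 1389), (1390, 1390), (1391, 1745), (1392, 1392), (1393, 1096), (1394, 1749), (1395, 1395), (1396, 1412), (1397, 1751), (1398, 1099), (1399, 1754), (1400, 1108), (1401, 1101), (1402, 1111), (1403, 1103), (1404, 1757), (1405, 1758), (1406,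 1106), (1407, 1753)]
    ⟨e3 q1344 L15476 q1048, e3 q1345 (flp_f L21120) q1693, e3 q1346 L15493 q1346, e3 q1347 L15498 q1347, e3 q1348 L15503 q1051, e3 q1349 (flp_f L21149) q1698, e3 q1350 (flp_f L21157) q1699, e3 q1351 L119889 q1654, e3 q1352 L15530 q1352, e3 q1353 L15536 q1353, e3 q1354 L15547 q1055, e3 q1355 L21222 q1702, e3 q1356 (flp_f L15588) q1060, e3 q1357 (flp_f L21265) q1706, e3 q1358 L15613 q1358, e3 q1359 L15623 q1122, e3 q1360 L15630 q1062, e3 q1361 L15641 q1361, e3 q1362 L15649 q1125, e3 q1363 L15656 q1065, e3 q1364 (flp_f L21342) q1715, e3 q1365 (flp_f L120227) q1643, e3 q1366 L15680 q1366, e3 q1367 L15686 q1130, e3 q1368 (flp_f L15716) q1072, e3 q1369 L15730 q1369, e3 q1370 L15738 q1136, e3 q1371 L21434 q1721, e3 q1372 L15751 q1372, e3 q1373 L21453 q1724, e3 q1374 (flp_f L15760) q1078, e3 q1375 (flp_f L15768) q1080, e3 q1376 (flp_f L21478) q1726, e3 q1377 L15793 q1377, e3 q1378 L15801 q1082, e3 q1379 (flp_f L21510) q1730, e3 q1380 (flp_f L21519) q1731, e3 q1381 L15824 q1381,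 e3 q1382 L15833 q1085, e3 q1383 L15842 q1383, e3 q1384 L15848 q1088, e3 q1385 L15856 q1089, e3 q1386 L21573 q1739, e3 q1387 (flp_f L21571) q1738, e3 q1388 L15876 q1388, e3 q1389 L15885 q1389, e3 q1390 L15894 q1390, e3 q1391 L21615 q1745, e3 q1392 L15911 q1392, e3 q1393 (flp_f L15913) q1096, e3 q1394 (flp_f L21651) q1749, e3 q1395 L15930 q1395, e3 q1396 (flp_f L111950) q1412, e3 q1397 L22445 q1751, e3 q1398 (flp_f L16502) q1099, e3 q1399 (flp_f L22485) q1754, e3 q1400 L111630 q1108, e3 q1401 L16540 q1101, e3 q1402 L111043 q1111, e3 q1403 L16574 q1103, e3 q1404 (flp_f L22574) q1757, e3 q1405 L22674 q1758, e3 q1406 (flp_f L16673) q1106, e3 q1407 L111071 q1753, trivial⟩ (by decide +kernel)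

theorem ce_f_22 : ∀ r, r < 64 → sm gf (Qf (1408 + r)) = Qf (tab Gen.f (1408 + r)) :=
  edges_tab (sm gf) Qf (tab Gen.f) 1408 [(1408, 1588), (1409, 1592), (1410, 1756), (1411, 1113), (1412, 1396), (1413, 1601), (1414, 1118), (1415, 1765), (1416, 1416), (1417, 1705), (1418, 1120), (1419, 1771), (1420, 1773), (1421, 1421), (1422, 1710), (1423, 1423), (1424, 1777), (1425, 1425), (1426, 1714), (1427, 1127), (1428, 1428), (1429, 1128), (1430, 1637), (1431, 1431), (1432, 1432), (1433, 1718), (1434, 1434), (1435, 1783), (1436, 1137), (1437, 1784), (1438, 1139), (1439, 1786), (1440, 1141), (1441, 1788), (1442, 1142), (1443, 1791), (1444, 1531), (1445, 1145), (1446, 1794), (1447, 1796), (1448, 1146), (1449, 1799), (1450, 1148), (1451, 1802), (1452, 1555), (1453, 1150), (1454, 1806), (1455, 1560), (1456, 1153), (1457, 1808), (1458, 1154), (1459, 1587), (1460, 1591), (1461, 1811), (1462, 1158), (1463, 1813), (1464, 1160), (1465, 1816), (1466, 1162), (1467, 1817), (1468, 1818), (1469, 1164), (1470,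 1822), (1471, 1824)]
    ⟨e3 q1408 (flp_f L19737) q1588, e3 q1409 (flp_f L19779) q1592, e3 q1410 L111059 q1756, e3 q1411 (flp_f L16853) q1113, e3 q1412 L111950 q1396, e3 q1413 (flp_f L19920) q1601, e3 q1414 (flp_f L17216) q1118, e3 q1415 (flp_f L23423) q1765, e3 q1416 L17240 q1416, e3 q1417 (flp_f L21257) q1705, e3 q1418 L17255 q1120, e3 q1419 (flp_f L23473) q1771, e3 q1420 L23484 q1773, e3 q1421 L17281 q1421, e3 q1422 (flp_f L21299) q1710, e3 q1423 L17295 q1423, e3 q1424 L23525 q1777, e3 q1425 L17315 q1425, e3 q1426 (flp_f L21334) q1714, e3 q1427 L17328 q1127, e3 q1428 L82114 q1428, e3 q1429 (flp_f L17338) q1128, e3 q1430 (flp_f L120207) q1637, e3 q1431 L17359 q1431, e3 q1432 L17394 q1432, e3 q1433 (flp_f L21418) q1718, e3 q1434 L17406 q1434, e3 q1435 L23642 q1783, e3 q1436 (flp_f L17417) q1137, e3 q1437 L23650 q1784, e3 q1438 (flp_f L17437) q1139, e3 q1439 L24135 q1786, e3 q1440 (flp_f L17797) q1141, e3 q1441 L24161 q1788, e3 q1442 (flp_f L17812) q1142, e3 q1443 (flp_f L24191) q1791, e3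 q1444 (flp_f L19289) q1531, e3 q1445 L17854 q1145, e3 q1446 (flp_f L24234) q1794, e3 q1447 L24242 q1796, e3 q1448 (flp_f L17871) q1146, e3 q1449 (flp_f L24279) q1799, e3 q1450 (flp_f L17900) q1148, e3 q1451 (flp_f L24306) q1802, e3 q1452 (flp_f L19485) q1555, e3 q1453 L17927 q1150, e3 q1454 (flp_f L24348) q1806, e3 q1455 (flp_f L19529) q1560, e3 q1456 L17967 q1153, e3 q1457 L24388 q1808, e3 q1458 (flp_f L17977) q1154, e3 q1459 (flp_f L19725) q1587, e3 q1460 (flp_f L19768) q1591, e3 q1461 L24619 q1811, e3 q1462 (flp_f L18142) q1158, e3 q1463 (flp_f L24660) q1813, e3 q1464 L18184 q1160, e3 q1465 (flp_f L24712) q1816, e3 q1466 L18215 q1162, e3 q1467 (flp_f L24750) q1817, e3 q1468 (flp_f L24758) q1818, e3 q1469 L18257 q1164, e3 q1470 L25443 q1822, e3 q1471 L25459 q1824, trivial⟩ (by decide +kernel)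

theorem ce_f_23 : ∀ r, r < 64 → sm gf (Qf (1472 + r)) = Qf (tab Gen.f (1472 + r)) :=
  edges_tab (sm gf) Qf (tab Gen.f) 1472 [(1472, 1167), (1473, 1168), (1474, 1829), (1475, 1475), (1476, 1832), (1477, 1171), (1478, 1835), (1479, 1172), (1480, 1839), (1481, 1481), (1482, 1218), (1483, 1483), (1484, 1175), (1485, 1844), (1486, 1846), (1487, 1177), (1488, 1850), (1489, 1489), (1490, 1179), (1491, 1854), (1492, 1238), (1493, 1493), (1494, 1181), (1495, 1860), (1496, 1861), (1497, 1243), (1498, 1498), (1499, 1186), (1500, 1866), (1501, 1187), (1502, 1870), (1503, 1261), (1504, 1264), (1505, 1189), (1506, 1876), (1507, 1265), (1508, 1268), (1509, 1192), (1510, 1881), (1511, 1882), (1512, 1884), (1513, 1270), (1514, 1255), (1515, 1196), (1516, 1197), (1517, 1256), (1518, 1271), (1519, 1890), (1520, 1892), (1521, 1202), (1522, 1203), (1523, 1897), (1524, 1524), (1525, 1900), (1526, 1206), (1527, 1903), (1528, 1207), (1529, 1907), (1530, 1530), (1531, 1444), (1532, 1532), (1533, 1210), (1534,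 1912), (1535, 1914)]
    ⟨e3 q1472 (flp_f L18752) q1167, e3 q1473 (flp_f L18761) q1168, e3 q1474 (flp_f L25500) q1829, e3 q1475 L18782 q1475, e3 q1476 L25522 q1832, e3 q1477 (flp_f L18792) q1171, e3 q1478 L25546 q1835, e3 q1479 (flp_f L18810) q1172, e3 q1480 (flp_f L25586) q1839, e3 q1481 L18833 q1481, e3 q1482 L18841 q1218, e3 q1483 L18851 q1483, e3 q1484 L18856 q1175, e3 q1485 (flp_f L25625) q1844, e3 q1486 L25637 q1846, e3 q1487 (flp_f L18877) q1177, e3 q1488 (flp_f L25678) q1850, e3 q1489 L18903 q1489, e3 q1490 (flp_f L18904) q1179, e3 q1491 (flp_f L25711) q1854, e3 q1492 L18926 q1238, e3 q1493 L18936 q1493, e3 q1494 L18941 q1181, e3 q1495 (flp_f L25758) q1860, e3 q1496 L25762 q1861, e3 q1497 L18966 q1243, e3 q1498 L18970 q1498, e3 q1499 L18977 q1186, e3 q1500 L25800 q1866, e3 q1501 (flp_f L18991) q1187, e3 q1502 (flp_f L25844) q1870, e3 q1503 L19016 q1261, e3 q1504 (flp_f L111536) q1264, e3 q1505 L19032 q1189, e3 q1506 (flp_f L25897) q1876, e3 q1507 L19053 q1265, e3 q1508 (flp_f L110837)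 q1268, e3 q1509 L19070 q1192, e3 q1510 (flp_f L25939) q1881, e3 q1511 (flp_f L25948) q1882, e3 q1512 L25961 q1884, e3 q1513 L19105 q1270, e3 q1514 L110880 q1255, e3 q1515 L19121 q1196, e3 q1516 (flp_f L19125) q1197, e3 q1517 L109074 q1256, e3 q1518 L19143 q1271, e3 q1519 L26052 q1890, e3 q1520 L26072 q1892, e3 q1521 (flp_f L19184) q1202, e3 q1522 (flp_f L19194) q1203, e3 q1523 (flp_f L26120) q1897, e3 q1524 L19221 q1524, e3 q1525 L26145 q1900, e3 q1526 (flp_f L19233) q1206, e3 q1527 L26176 q1903, e3 q1528 (flp_f L19255) q1207, e3 q1529 (flp_f L26217) q1907, e3 q1530 L19279 q1530, e3 q1531 L19289 q1444, e3 q1532 L19301 q1532, e3 q1533 L19308 q1210, e3 q1534 (flp_f L26264) q1912, e3 q1535 L26275 q1914, trivial⟩ (by decide +kernel)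

theorem ce_f_24 : ∀ r, r < 64 → sm gf (Qf (1536 + r)) = Qf (tab Gen.f (1536 + r)) :=
  edges_tab (sm gf) Qf (tab Gen.f) 1536 [(1536, 1212), (1537, 1918), (1538, 1538), (1539, 1214), (1540, 1922), (1541, 1837), (1542, 1542), (1543, 1216), (1544, 1928), (1545, 1929), (1546, 1842), (1547, 1547), (1548, 1221), (1549, 1935), (1550, 1222), (1551, 1939), (1552, 1552), (1553, 1224), (1554, 1943), (1555, 1452), (1556, 1556), (1557, 1226), (1558, 1949), (1559, 1887), (1560, 1455), (1561, 1561), (1562, 1231), (1563, 1954), (1564, 1232), (1565, 1958), (1566, 1848), (1567, 1567), (1568, 1234), (1569, 1964), (1570, 1852), (1571, 1571), (1572, 1237), (1573, 1969), (1574, 1970), (1575, 1973), (1576, 1858), (1577, 1577), (1578, 1241), (1579, 1242), (1580, 1951), (1581, 1863), (1582, 1864), (1583, 1583), (1584, 1981), (1585, 1246), (1586, 1985), (1587, 1459), (1588, 1408), (1589, 1248), (1590, 1875), (1591, 1460), (1592, 1409), (1593, 1251), (1594, 1993), (1595, 1880), (1596, 1885), (1597, 1269), (1598,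 1258), (1599, 1997)]
    ⟨e3 q1536 (flp_f L19328) q1212, e3 q1537 (flp_f L26306) q1918, e3 q1538 L19348 q1538, e3 q1539 (flp_f L19349) q1214, e3 q1540 (flp_f L26336) q1922, e3 q1541 (flp_f L25571) q1837, e3 q1542 L19375 q1542, e3 q1543 L19380 q1216, e3 q1544 (flp_f L26379) q1928, e3 q1545 L26381 q1929, e3 q1546 (flp_f L25612) q1842, e3 q1547 L19406 q1547, e3 q1548 L19415 q1221, e3 q1549 L26424 q1935, e3 q1550 (flp_f L19428) q1222, e3 q1551 (flp_f L26472) q1939, e3 q1552 L19461 q1552, e3 q1553 (flp_f L19462) q1224, e3 q1554 (flp_f L26508) q1943, e3 q1555 L19485 q1452, e3 q1556 L19495 q1556, e3 q1557 L19500 q1226, e3 q1558 (flp_f L26556) q1949, e3 q1559 L109068 q1887, e3 q1560 L19529 q1455, e3 q1561 L19535 q1561, e3 q1562 L19544 q1231, e3 q1563 L26608 q1954, e3 q1564 (flp_f L19553) q1232, e3 q1565 (flp_f L26640) q1958, e3 q1566 (flp_f L25663) q1848, e3 q1567 L19580 q1567, e3 q1568 L19585 q1234, e3 q1569 (flp_f L26687) q1964, e3 q1570 (flp_f L25697) q1852, e3 q1571 L19606 q1571, e3 q1572 L19611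 q1237, e3 q1573 (flp_f L26716) q1969, e3 q1574 (flp_f L26726) q1970, e3 q1575 L26742 q1973, e3 q1576 (flp_f L25743) q1858, e3 q1577 L19643 q1577, e3 q1578 L19654 q1241, e3 q1579 (flp_f L19656) q1242, e3 q1580 (flp_f L109129) q1951, e3 q1581 (flp_f L25779) q1863, e3 q1582 (flp_f L25788) q1864, e3 q1583 L19681 q1583, e3 q1584 L26811 q1981, e3 q1585 (flp_f L19697) q1246, e3 q1586 (flp_f L26861) q1985, e3 q1587 L19725 q1459, e3 q1588 L19737 q1408, e3 q1589 L19745 q1248, e3 q1590 L111614 q1875, e3 q1591 L19768 q1460, e3 q1592 L19779 q1409, e3 q1593 L19786 q1251, e3 q1594 (flp_f L26965) q1993, e3 q1595 L110867 q1880, e3 q1596 L104322 q1885, e3 q1597 L108933 q1269, e3 q1598 (flp_f L19891) q1258, e3 q1599 (flp_f L27109) q1997, trivial⟩ (by decide +kernel)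

theorem ce_f_25 : ∀ r, r < 64 → sm gf (Qf (1600 + r)) = Qf (tab Gen.f (1600 + r)) :=
  edges_tab (sm gf) Qf (tab Gen.f) 1600 [(1600, 1868), (1601, 1413), (1602, 1260), (1603, 1869), (1604, 1989), (1605, 1874), (1606, 1877), (1607, 1992), (1608, 1879), (1609, 1886), (1610, 1888), (1611, 1272), (1612, 2010), (1613, 1613), (1614, 1614), (1615, 1274), (1616, 2015), (1617, 2016), (1618, 1618), (1619, 1619), (1620, 1278), (1621, 1621), (1622, 1622), (1623, 1282), (1624, 1283), (1625, 2028), (1626, 2027), (1627, 1627), (1628, 1628), (1629, 1629), (1630, 1630), (1631, 1631), (1632, 1632), (1633, 1633), (1634, 1634), (1635, 1635), (1636, 2039), (1637, 1430), (1638, 1295), (1639, 2042), (1640, 1299), (1641, 2045), (1642, 1300), (1643, 1365), (1644, 1644), (1645, 2048), (1646, 1305), (1647, 2052), (1648, 1648), (1649, 1307), (1650, 2056), (1651, 1651), (1652, 1652), (1653, 1309), (1654, 1351), (1655, 2059), (1656, 1315), (1657, 2063), (1658, 1658), (1659, 1659), (1660, 1317), (1661, 2069), (1662,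 1662), (1663, 1663)]
    ⟨e3 q1600 (flp_f L25825) q1868, e3 q1601 L19920 q1413, e3 q1602 L19928 q1260, e3 q1603 (flp_f L112045) q1869, e3 q1604 L111415 q1989, e3 q1605 (flp_f L25881) q1874, e3 q1606 (flp_f L25904) q1877, e3 q1607 (flp_f L110885) q1992, e3 q1608 (flp_f L25925) q1879, e3 q1609 (flp_f L25983) q1886, e3 q1610 (flp_f L26033) q1888, e3 q1611 (flp_f L20074) q1272, e3 q1612 (flp_f L27347) q2010, e3 q1613 L20097 q1613, e3 q1614 L20107 q1614, e3 q1615 L20114 q1274, e3 q1616 (flp_f L27397) q2015, e3 q1617 (flp_f L27407) q2016, e3 q1618 L20147 q1618, e3 q1619 L20152 q1619, e3 q1620 L20159 q1278, e3 q1621 L20178 q1621, e3 q1622 L20184 q1622, e3 q1623 L20190 q1282, e3 q1624 L20199 q1283, e3 q1625 L27526 q2028, e3 q1626 (flp_f L27524) q2027, e3 q1627 L20236 q1627, e3 q1628 L20245 q1628, e3 q1629 L20251 q1629, e3 q1630 L20278 q1630, e3 q1631 L20286 q1631, e3 q1632 L20309 q1632, e3 q1633 L20357 q1633, e3 q1634 L20397 q1634, e3 q1635 L20457 q1635, e3 q1636 L27862 q2039, e3 q1637 L120207 q1430,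 e3 q1638 (flp_f L20490) q1295, e3 q1639 L27941 q2042, e3 q1640 (flp_f L20529) q1299, e3 q1641 L27967 q2045, e3 q1642 (flp_f L20543) q1300, e3 q1643 L120227 q1365, e3 q1644 L20565 q1644, e3 q1645 L28050 q2048, e3 q1646 (flp_f L20604) q1305, e3 q1647 (flp_f L28090) q2052, e3 q1648 L20628 q1648, e3 q1649 (flp_f L20629) q1307, e3 q1650 (flp_f L28125) q2056, e3 q1651 L20652 q1651, e3 q1652 L20661 q1652, e3 q1653 L20666 q1309, e3 q1654 (flp_f L119889) q1351, e3 q1655 L28217 q2059, e3 q1656 (flp_f L20718) q1315, e3 q1657 (flp_f L28253) q2063, e3 q1658 L20738 q1658, e3 q1659 L20746 q1659, e3 q1660 L20752 q1317, e3 q1661 (flp_f L28300) q2069, e3 q1662 L20769 q1662, e3 q1663 L20776 q1663, trivial⟩ (by decide +kernel)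

theorem ce_f_26 : ∀ r, r < 64 → sm gf (Qf (1664 + r)) = Qf (tab Gen.f (1664 + r)) :=
  edges_tab (sm gf) Qf (tab Gen.f) 1664 [(1664, 1320), (1665, 2074), (1666, 2075), (1667, 1338), (1668, 1668), (1669, 1669), (1670, 1324), (1671, 2078), (1672, 1329), (1673, 2082), (1674, 1674), (1675, 1675), (1676, 1331), (1677, 2066), (1678, 1678), (1679, 1679), (1680, 1334), (1681, 2086), (1682, 2071), (1683, 1339), (1684, 2091), (1685, 1685), (1686, 1686), (1687, 1341), (1688, 2098), (1689, 2099), (1690, 2053), (1691, 1691), (1692, 1692), (1693, 1345), (1694, 1694), (1695, 2058), (1696, 1696), (1697, 1697), (1698, 1349), (1699, 1350), (1700, 2108), (1701, 2107), (1702, 1355), (1703, 2113), (1704, 1704), (1705, 1417), (1706, 1357), (1707, 2119), (1708, 2043), (1709, 1709), (1710, 1422), (1711, 1711), (1712, 2046), (1713, 1713), (1714, 1426), (1715, 1364), (1716, 2126), (1717, 1717), (1718, 1433), (1719, 1719), (1720, 2131), (1721, 1371), (1722, 2132), (1723, 1723), (1724, 1373), (1725, 1725), (1726,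 1376), (1727, 2136)]
    ⟨e3 q1664 L20783 q1320, e3 q1665 (flp_f L28338) q2074, e3 q1666 (flp_f L28347) q2075, e3 q1667 (flp_f L120507) q1338, e3 q1668 L20812 q1668, e3 q1669 L20817 q1669, e3 q1670 L20826 q1324, e3 q1671 L28435 q2078, e3 q1672 (flp_f L20876) q1329, e3 q1673 (flp_f L28473) q2082, e3 q1674 L20901 q1674, e3 q1675 L20911 q1675, e3 q1676 L20917 q1331, e3 q1677 L118839 q2066, e3 q1678 L20936 q1678, e3 q1679 L20943 q1679, e3 q1680 L20948 q1334, e3 q1681 (flp_f L28560) q2086, e3 q1682 L119691 q2071, e3 q1683 (flp_f L21036) q1339, e3 q1684 (flp_f L28683) q2091, e3 q1685 L21054 q1685, e3 q1686 L21061 q1686, e3 q1687 L21068 q1341, e3 q1688 (flp_f L28734) q2098, e3 q1689 (flp_f L28744) q2099, e3 q1690 (flp_f L119904) q2053, e3 q1691 L21101 q1691, e3 q1692 L21108 q1692, e3 q1693 L21120 q1345, e3 q1694 L21124 q1694, e3 q1695 (flp_f L119896) q2058, e3 q1696 L21139 q1696, e3 q1697 L21144 q1697, e3 q1698 L21149 q1349, e3 q1699 L21157 q1350, e3 q1700 L28863 q2108, e3 q1701 (flp_f L28861)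 q2107, e3 q1702 (flp_f L21222) q1355, e3 q1703 (flp_f L28932) q2113, e3 q1704 L21248 q1704, e3 q1705 L21257 q1417, e3 q1706 L21265 q1357, e3 q1707 (flp_f L28985) q2119, e3 q1708 L119248 q2043, e3 q1709 L21292 q1709, e3 q1710 L21299 q1422, e3 q1711 L21308 q1711, e3 q1712 L119411 q2046, e3 q1713 L21327 q1713, e3 q1714 L21334 q1426, e3 q1715 L21342 q1364, e3 q1716 L29076 q2126, e3 q1717 L21410 q1717, e3 q1718 L21418 q1433, e3 q1719 L21424 q1719, e3 q1720 L29153 q2131, e3 q1721 (flp_f L21434) q1371, e3 q1722 L29163 q2132, e3 q1723 L21451 q1723, e3 q1724 (flp_f L21453) q1373, e3 q1725 L21470 q1725, e3 q1726 L21478 q1376, e3 q1727 (flp_f L29195) q2136, trivial⟩ (by decide +kernel)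

theorem ce_f_27 : ∀ r, r < 64 → sm gf (Qf (1728 + r)) = Qf (tab Gen.f (1728 + r)) :=
  edges_tab (sm gf) Qf (tab Gen.f) 1728 [(1728, 2137), (1729, 1729), (1730, 1379), (1731, 1380), (1732, 2145), (1733, 2144), (1734, 1734), (1735, 1735), (1736, 1736), (1737, 2150), (1738, 1387), (1739, 1386), (1740, 2154), (1741, 2152), (1742, 1742), (1743, 2158), (1744, 1744), (1745, 1391), (1746, 2162), (1747, 1747), (1748, 1748), (1749, 1394), (1750, 2165), (1751, 1397), (1752, 2168), (1753, 1407), (1754, 1399), (1755, 2171), (1756, 1410), (1757, 1404), (1758, 1405), (1759, 2167), (1760, 1984), (1761, 2170), (1762, 1996), (1763, 1763), (1764, 2112), (1765, 1415), (1766, 2178), (1767, 1767), (1768, 2182), (1769, 1769), (1770, 2118), (1771, 1419), (1772, 1772), (1773, 1420), (1774, 2038), (1775, 1775), (1776, 2185), (1777, 1424), (1778, 2040), (1779, 2124), (1780, 1780), (1781, 2188), (1782, 2189), (1783, 1435), (1784, 1437), (1785, 2192), (1786, 1439), (1787, 2195), (1788, 1441), (1789, 2198), (1790,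 1905), (1791, 1443)]
    ⟨e3 q1728 (flp_f L29204) q2137, e3 q1729 L21503 q1729, e3 q1730 L21510 q1379, e3 q1731 L21519 q1380, e3 q1732 L29259 q2145, e3 q1733 (flp_f L29257) q2144, e3 q1734 L21542 q1734, e3 q1735 L21549 q1735, e3 q1736 L21558 q1736, e3 q1737 L29294 q2150, e3 q1738 L21571 q1387, e3 q1739 (flp_f L21573) q1386, e3 q1740 (flp_f L29323) q2154, e3 q1741 (flp_f L29309) q2152, e3 q1742 L21594 q1742, e3 q1743 L29348 q2158, e3 q1744 L21613 q1744, e3 q1745 (flp_f L21615) q1391, e3 q1746 (flp_f L29386) q2162, e3 q1747 L21635 q1747, e3 q1748 L21645 q1748, e3 q1749 L21651 q1394, e3 q1750 (flp_f L29410) q2165, e3 q1751 (flp_f L22445) q1397, e3 q1752 (flp_f L30532) q2168, e3 q1753 (flp_f L111071) q1407, e3 q1754 L22485 q1399, e3 q1755 (flp_f L30592) q2171, e3 q1756 (flp_f L111059) q1410, e3 q1757 L22574 q1404, e3 q1758 (flp_f L22674) q1405, e3 q1759 (flp_f L111986) q2167, e3 q1760 (flp_f L26853) q1984, e3 q1761 L106407 q2170, e3 q1762 (flp_f L27102) q1996, e3 q1763 L23408 q1763, e3 q1764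 (flp_f L28924) q2112, e3 q1765 L23423 q1415, e3 q1766 (flp_f L31864) q2178, e3 q1767 L23436 q1767, e3 q1768 L31895 q2182, e3 q1769 L23458 q1769, e3 q1770 (flp_f L28976) q2118, e3 q1771 L23473 q1419, e3 q1772 L112450 q1772, e3 q1773 (flp_f L23484) q1420, e3 q1774 L119290 q2038, e3 q1775 L23508 q1775, e3 q1776 L31969 q2185, e3 q1777 (flp_f L23525) q1424, e3 q1778 (flp_f L119345) q2040, e3 q1779 (flp_f L29065) q2124, e3 q1780 L23618 q1780, e3 q1781 L32120 q2188, e3 q1782 L32128 q2189, e3 q1783 (flp_f L23642) q1435, e3 q1784 (flp_f L23650) q1437, e3 q1785 L32794 q2192, e3 q1786 (flp_f L24135) q1439, e3 q1787 (flp_f L32830) q2195, e3 q1788 (flp_f L24161) q1441, e3 q1789 (flp_f L32861) q2198, e3 q1790 (flp_f L26202) q1905, e3 q1791 L24191 q1443, trivial⟩ (by decide +kernel)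

theorem ce_f_28 : ∀ r, r < 64 → sm gf (Qf (1792 + r)) = Qf (tab Gen.f (1792 + r)) :=
  edges_tab (sm gf) Qf (tab Gen.f) 1792 [(1792, 2202), (1793, 1910), (1794, 1446), (1795, 2205), (1796, 1447), (1797, 2208), (1798, 1937), (1799, 1449), (1800, 2212), (1801, 1941), (1802, 1451), (1803, 2215), (1804, 2216), (1805, 1947), (1806, 1454), (1807, 1952), (1808, 1457), (1809, 1983), (1810, 1990), (1811, 1461), (1812, 2223), (1813, 1463), (1814, 2226), (1815, 2227), (1816, 1465), (1817, 1467), (1818, 1468), (1819, 2232), (1820, 2231), (1821, 2236), (1822, 1470), (1823, 2239), (1824, 1471), (1825, 2243), (1826, 1826), (1827, 1827), (1828, 1828), (1829, 1474), (1830, 2248), (1831, 2250), (1832, 1476), (1833, 2254), (1834, 1834), (1835, 1478), (1836, 2258), (1837, 1541), (1838, 1838), (1839, 1480), (1840, 2264), (1841, 2265), (1842, 1546), (1843, 1843), (1844, 1485), (1845, 2270), (1846, 1486), (1847, 2274), (1848, 1566), (1849, 1849), (1850, 1488), (1851, 2280), (1852, 1570), (1853, 1853), (1854,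 1491), (1855, 2285)]
    ⟨e3 q1792 (flp_f L32903) q2202, e3 q1793 (flp_f L26247) q1910, e3 q1794 L24234 q1446, e3 q1795 L32947 q2205, e3 q1796 (flp_f L24242) q1447, e3 q1797 (flp_f L32981) q2208, e3 q1798 (flp_f L26453) q1937, e3 q1799 L24279 q1449, e3 q1800 (flp_f L33035) q2212, e3 q1801 (flp_f L26493) q1941, e3 q1802 L24306 q1451, e3 q1803 (flp_f L33063) q2215, e3 q1804 (flp_f L33072) q2216, e3 q1805 (flp_f L26541) q1947, e3 q1806 L24348 q1454, e3 q1807 (flp_f L26594) q1952, e3 q1808 (flp_f L24388) q1457, e3 q1809 (flp_f L26841) q1983, e3 q1810 (flp_f L26929) q1990, e3 q1811 (flp_f L24619) q1461, e3 q1812 (flp_f L33532) q2223, e3 q1813 L24660 q1463, e3 q1814 (flp_f L33591) q2226, e3 q1815 (flp_f L33600) q2227, e3 q1816 L24712 q1465, e3 q1817 L24750 q1467, e3 q1818 L24758 q1468, e3 q1819 L33740 q2232, e3 q1820 (flp_f L33738) q2231, e3 q1821 L34637 q2236, e3 q1822 (flp_f L25443) q1470, e3 q1823 L34662 q2239, e3 q1824 (flp_f L25459) q1471, e3 q1825 (flp_f L34695) q2243, e3 q1826 L25483 q1826,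 e3 q1827 L25489 q1827, e3 q1828 L25496 q1828, e3 q1829 L25500 q1474, e3 q1830 (flp_f L34734) q2248, e3 q1831 L34747 q2250, e3 q1832 (flp_f L25522) q1476, e3 q1833 (flp_f L34787) q2254, e3 q1834 L25545 q1834, e3 q1835 (flp_f L25546) q1478, e3 q1836 (flp_f L34824) q2258, e3 q1837 L25571 q1541, e3 q1838 L25581 q1838, e3 q1839 L25586 q1480, e3 q1840 (flp_f L34871) q2264, e3 q1841 L34875 q2265, e3 q1842 L25612 q1546, e3 q1843 L25618 q1843, e3 q1844 L25625 q1485, e3 q1845 L34917 q2270, e3 q1846 (flp_f L25637) q1486, e3 q1847 (flp_f L34957) q2274, e3 q1848 L25663 q1566, e3 q1849 L25673 q1849, e3 q1850 L25678 q1488, e3 q1851 (flp_f L35008) q2280, e3 q1852 L25697 q1570, e3 q1853 L25706 q1853, e3 q1854 L25711 q1491, e3 q1855 (flp_f L35046) q2285, trivial⟩ (by decide +kernel)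

theorem ce_f_29 : ∀ r, r < 64 → sm gf (Qf (1856 + r)) = Qf (tab Gen.f (1856 + r)) :=
  edges_tab (sm gf) Qf (tab Gen.f) 1856 [(1856, 2286), (1857, 2289), (1858, 1576), (1859, 1859), (1860, 1495), (1861, 1496), (1862, 2294), (1863, 1581), (1864, 1582), (1865, 1865), (1866, 1500), (1867, 2301), (1868, 1600), (1869, 1603), (1870, 1502), (1871, 2308), (1872, 2309), (1873, 2311), (1874, 1605), (1875, 1590), (1876, 1506), (1877, 1606), (1878, 2316), (1879, 1608), (1880, 1595), (1881, 1510), (1882, 1511), (1883, 2321), (1884, 1512), (1885, 1596), (1886, 1609), (1887, 1559), (1888, 1610), (1889, 2327), (1890, 1519), (1891, 2330), (1892, 1520), (1893, 2334), (1894, 1894), (1895, 1895), (1896, 1896), (1897, 1523), (1898, 2339), (1899, 2341), (1900, 1525), (1901, 2345), (1902, 1902), (1903, 1527), (1904, 2349), (1905, 1790), (1906, 1906), (1907, 1529), (1908, 2355), (1909, 2324), (1910, 1793), (1911, 1911), (1912, 1534), (1913, 2360), (1914, 1535), (1915, 2364), (1916, 2252), (1917, 1917), (1918,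 1537), (1919, 2370)]
    ⟨e3 q1856 (flp_f L35054) q2286, e3 q1857 L35071 q2289, e3 q1858 L25743 q1576, e3 q1859 L25749 q1859, e3 q1860 L25758 q1495, e3 q1861 (flp_f L25762) q1496, e3 q1862 (flp_f L35122) q2294, e3 q1863 L25779 q1581, e3 q1864 L25788 q1582, e3 q1865 L25795 q1865, e3 q1866 (flp_f L25800) q1500, e3 q1867 (flp_f L35179) q2301, e3 q1868 L25825 q1600, e3 q1869 L112045 q1603, e3 q1870 L25844 q1502, e3 q1871 (flp_f L35244) q2308, e3 q1872 (flp_f L35254) q2309, e3 q1873 L35268 q2311, e3 q1874 L25881 q1605, e3 q1875 (flp_f L111614) q1590, e3 q1876 L25897 q1506, e3 q1877 L25904 q1606, e3 q1878 L35328 q2316, e3 q1879 L25925 q1608, e3 q1880 (flp_f L110867) q1595, e3 q1881 L25939 q1510, e3 q1882 L25948 q1511, e3 q1883 (flp_f L35396) q2321, e3 q1884 (flp_f L25961) q1512, e3 q1885 (flp_f L104322) q1596, e3 q1886 L25983 q1609, e3 q1887 (flp_f L109068) q1559, e3 q1888 L26033 q1610, e3 q1889 L35509 q2327, e3 q1890 (flp_f L26052) q1519, e3 q1891 L35541 q2330, e3 q1892 (flp_f L26072) q1520,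 e3 q1893 (flp_f L35575) q2334, e3 q1894 L26097 q1894, e3 q1895 L26105 q1895, e3 q1896 L26114 q1896, e3 q1897 L26120 q1523, e3 q1898 (flp_f L35622) q2339, e3 q1899 L35638 q2341, e3 q1900 (flp_f L26145) q1525, e3 q1901 (flp_f L35685) q2345, e3 q1902 L26175 q1902, e3 q1903 (flp_f L26176) q1527, e3 q1904 (flp_f L35725) q2349, e3 q1905 L26202 q1790, e3 q1906 L26212 q1906, e3 q1907 L26217 q1529, e3 q1908 (flp_f L35773) q2355, e3 q1909 (flp_f L109080) q2324, e3 q1910 L26247 q1793, e3 q1911 L26255 q1911, e3 q1912 L26264 q1534, e3 q1913 L35829 q2360, e3 q1914 (flp_f L26275) q1535, e3 q1915 (flp_f L35865) q2364, e3 q1916 (flp_f L34772) q2252, e3 q1917 L26301 q1917, e3 q1918 L26306 q1537, e3 q1919 (flp_f L35908) q2370, trivial⟩ (by decide +kernel)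

theorem ce_f_30 : ∀ r, r < 64 → sm gf (Qf (1920 + r)) = Qf (tab Gen.f (1920 + r)) :=
  edges_tab (sm gf) Qf (tab Gen.f) 1920 [(1920, 2256), (1921, 1921), (1922, 1540), (1923, 2375), (1924, 2376), (1925, 2379), (1926, 2262), (1927, 1927), (1928, 1544), (1929, 1545), (1930, 2384), (1931, 2267), (1932, 2268), (1933, 1933), (1934, 2389), (1935, 1549), (1936, 2393), (1937, 1798), (1938, 1938), (1939, 1551), (1940, 2399), (1941, 1801), (1942, 1942), (1943, 1554), (1944, 2404), (1945, 2405), (1946, 2322), (1947, 1805), (1948, 1948), (1949, 1558), (1950, 2295), (1951, 1580), (1952, 1807), (1953, 1953), (1954, 1563), (1955, 2416), (1956, 2272), (1957, 1957), (1958, 1565), (1959, 2423), (1960, 2424), (1961, 2427), (1962, 2278), (1963, 1963), (1964, 1569), (1965, 2281), (1966, 2434), (1967, 2283), (1968, 1968), (1969, 1573), (1970, 1574), (1971, 2442), (1972, 2441), (1973, 1575), (1974, 2409), (1975, 2291), (1976, 2292), (1977, 1977), (1978, 2413), (1979, 2297), (1980, 2298), (1981, 1584), (1982,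 2452), (1983, 1809)]
    ⟨e3 q1920 (flp_f L34806) q2256, e3 q1921 L26329 q1921, e3 q1922 L26336 q1540, e3 q1923 (flp_f L35946) q2375, e3 q1924 (flp_f L35957) q2376, e3 q1925 L35975 q2379, e3 q1926 (flp_f L34858) q2262, e3 q1927 L26370 q1927, e3 q1928 L26379 q1544, e3 q1929 (flp_f L26381) q1545, e3 q1930 (flp_f L36014) q2384, e3 q1931 (flp_f L34895) q2267, e3 q1932 (flp_f L34904) q2268, e3 q1933 L26410 q1933, e3 q1934 L36041 q2389, e3 q1935 (flp_f L26424) q1549, e3 q1936 (flp_f L36087) q2393, e3 q1937 L26453 q1798, e3 q1938 L26465 q1938, e3 q1939 L26472 q1551, e3 q1940 (flp_f L36147) q2399, e3 q1941 L26493 q1801, e3 q1942 L26503 q1942, e3 q1943 L26508 q1554, e3 q1944 (flp_f L36186) q2404, e3 q1945 (flp_f L36195) q2405, e3 q1946 (flp_f L109086) q2322, e3 q1947 L26541 q1805, e3 q1948 L26547 q1948, e3 q1949 L26556 q1558, e3 q1950 L109098 q2295, e3 q1951 L109129 q1580, e3 q1952 L26594 q1807, e3 q1953 L26603 q1953, e3 q1954 (flp_f L26608) q1563, e3 q1955 (flp_f L36322) q2416, e3 q1956 (flp_f L34939)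 q2272, e3 q1957 L26633 q1957, e3 q1958 L26640 q1565, e3 q1959 (flp_f L36373) q2423, e3 q1960 (flp_f L36385) q2424, e3 q1961 L36405 q2427, e3 q1962 (flp_f L34993) q2278, e3 q1963 L26676 q1963, e3 q1964 L26687 q1569, e3 q1965 (flp_f L35014) q2281, e3 q1966 L36457 q2434, e3 q1967 (flp_f L35035) q2283, e3 q1968 L26711 q1968, e3 q1969 L26716 q1573, e3 q1970 L26726 q1574, e3 q1971 L36508 q2442, e3 q1972 (flp_f L36506) q2441, e3 q1973 (flp_f L26742) q1575, e3 q1974 L108978 q2409, e3 q1975 (flp_f L35094) q2291, e3 q1976 (flp_f L35105) q2292, e3 q1977 L26777 q1977, e3 q1978 L109179 q2413, e3 q1979 (flp_f L35144) q2297, e3 q1980 (flp_f L35153) q2298, e3 q1981 (flp_f L26811) q1584, e3 q1982 (flp_f L36643) q2452, e3 q1983 L26841 q1809, trivial⟩ (by decide +kernel)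

theorem ce_f_31 : ∀ r, r < 64 → sm gf (Qf (1984 + r)) = Qf (tab Gen.f (1984 + r)) :=
  edges_tab (sm gf) Qf (tab Gen.f) 1984 [(1984, 1760), (1985, 1586), (1986, 2458), (1987, 2307), (1988, 2312), (1989, 1604), (1990, 1810), (1991, 2317), (1992, 1607), (1993, 1594), (1994, 2319), (1995, 2299), (1996, 1762), (1997, 1599), (1998, 2300), (1999, 2304), (2000, 2457), (2001, 2306), (2002, 2313), (2003, 2462), (2004, 2315), (2005, 2318), (2006, 2323), (2007, 2325), (2008, 2008), (2009, 2009), (2010, 1612), (2011, 2479), (2012, 2480), (2013, 2013), (2014, 2014), (2015, 1616), (2016, 1617), (2017, 2490), (2018, 2489), (2019, 2019), (2020, 2020), (2021, 2021), (2022, 2022), (2023, 2023), (2024, 2024), (2025, 2025), (2026, 2500), (2027, 1626), (2028, 1625), (2029, 2504), (2030, 2502), (2031, 2031), (2032, 2032), (2033, 2033), (2034, 2034), (2035, 2035), (2036, 2036), (2037, 2037), (2038, 1774), (2039, 1636), (2040, 1778), (2041, 2514), (2042, 1639), (2043, 1708), (2044, 2044), (2045, 1641), (2046,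 1712), (2047, 2517)]
    ⟨e3 q1984 L26853 q1760, e3 q1985 L26861 q1586, e3 q1986 (flp_f L36711) q2458, e3 q1987 L112014 q2307, e3 q1988 L111349 q2312, e3 q1989 (flp_f L111415) q1604, e3 q1990 L26929 q1810, e3 q1991 L111193 q2317, e3 q1992 L110885 q1607, e3 q1993 L26965 q1594, e3 q1994 (flp_f L111766) q2319, e3 q1995 (flp_f L35162) q2299, e3 q1996 L27102 q1762, e3 q1997 L27109 q1599, e3 q1998 L82978 q2300, e3 q1999 (flp_f L35205) q2304, e3 q2000 L102716 q2457, e3 q2001 (flp_f L35228) q2306, e3 q2002 (flp_f L35290) q2313, e3 q2003 (flp_f L110555) q2462, e3 q2004 (flp_f L35326) q2315, e3 q2005 (flp_f L35351) q2318, e3 q2006 (flp_f L35438) q2323, e3 q2007 (flp_f L35483) q2325, e3 q2008 L27332 q2008, e3 q2009 L27341 q2009, e3 q2010 L27347 q1612, e3 q2011 (flp_f L37340) q2479, e3 q2012 (flp_f L37349) q2480, e3 q2013 L27383 q2013, e3 q2014 L27390 q2014, e3 q2015 L27397 q1616, e3 q2016 L27407 q1617, e3 q2017 L37444 q2490, e3 q2018 (flp_f L37442) q2489, e3 q2019 L27446 q2019, e3 q2020 L27455 q2020,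 e3 q2021 L27461 q2021, e3 q2022 L27486 q2022, e3 q2023 L27495 q2023, e3 q2024 L27500 q2024, e3 q2025 L27510 q2025, e3 q2026 L37564 q2500, e3 q2027 L27524 q1626, e3 q2028 (flp_f L27526) q1625, e3 q2029 (flp_f L37595) q2504, e3 q2030 (flp_f L37579) q2502, e3 q2031 L27573 q2031, e3 q2032 L27582 q2032, e3 q2033 L27614 q2033, e3 q2034 L27622 q2034, e3 q2035 L27659 q2035, e3 q2036 L27702 q2036, e3 q2037 L27759 q2037, e3 q2038 (flp_f L119290) q1774, e3 q2039 (flp_f L27862) q1636, e3 q2040 L119345 q1778, e3 q2041 L38119 q2514, e3 q2042 (flp_f L27941) q1639, e3 q2043 (flp_f L119248) q1708, e3 q2044 L27966 q2044, e3 q2045 (flp_f L27967) q1641, e3 q2046 (flp_f L119411) q1712, e3 q2047 L38270 q2517, trivial⟩ (by decide +kernel)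

theorem ce_f_32 : ∀ r, r < 64 → sm gf (Qf (2048 + r)) = Qf (tab Gen.f (2048 + r)) :=
  edges_tab (sm gf) Qf (tab Gen.f) 2048 [(2048, 1645), (2049, 2521), (2050, 2050), (2051, 2051), (2052, 1647), (2053, 1690), (2054, 2054), (2055, 2055), (2056, 1650), (2057, 2525), (2058, 1695), (2059, 1655), (2060, 2530), (2061, 2061), (2062, 2062), (2063, 1657), (2064, 2537), (2065, 2538), (2066, 1677), (2067, 2067), (2068, 2068), (2069, 1661), (2070, 2070), (2071, 1682), (2072, 2072), (2073, 2073), (2074, 1665), (2075, 1666), (2076, 2547), (2077, 2546), (2078, 1671), (2079, 2552), (2080, 2080), (2081, 2081), (2082, 1673), (2083, 2556), (2084, 2534), (2085, 2085), (2086, 1681), (2087, 2561), (2088, 2541), (2089, 2089), (2090, 2090), (2091, 1684), (2092, 2568), (2093, 2569), (2094, 2094), (2095, 2523), (2096, 2096), (2097, 2097), (2098, 1688), (2099, 1689), (2100, 2579), (2101, 2578), (2102, 2527), (2103, 2103), (2104, 2104), (2105, 2105), (2106, 2587), (2107, 1701), (2108, 1700), (2109, 2591), (2110,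 2589), (2111, 2111)]
    ⟨e3 q2048 (flp_f L28050) q1645, e3 q2049 (flp_f L38312) q2521, e3 q2050 L28074 q2050, e3 q2051 L28084 q2051, e3 q2052 L28090 q1647, e3 q2053 L119904 q1690, e3 q2054 L28109 q2054, e3 q2055 L28118 q2055, e3 q2056 L28125 q1650, e3 q2057 (flp_f L38404) q2525, e3 q2058 L119896 q1695, e3 q2059 (flp_f L28217) q1655, e3 q2060 (flp_f L38532) q2530, e3 q2061 L28239 q2061, e3 q2062 L28246 q2062, e3 q2063 L28253 q1657, e3 q2064 (flp_f L38586) q2537, e3 q2065 (flp_f L38595) q2538, e3 q2066 (flp_f L118839) q1677, e3 q2067 L28284 q2067, e3 q2068 L28290 q2068, e3 q2069 L28300 q1661, e3 q2070 L28306 q2070, e3 q2071 (flp_f L119691) q1682, e3 q2072 L28324 q2072, e3 q2073 L28331 q2073, e3 q2074 L28338 q1665, e3 q2075 L28347 q1666, e3 q2076 L38730 q2547, e3 q2077 (flp_f L38728) q2546, e3 q2078 (flp_f L28435) q1671, e3 q2079 (flp_f L38843) q2552, e3 q2080 L28457 q2080, e3 q2081 L28466 q2081, e3 q2082 L28473 q1673, e3 q2083 (flp_f L38900) q2556, e3 q2084 (flp_f L119700) q2534, e3 q2085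 L28531 q2085, e3 q2086 L28560 q1681, e3 q2087 L39044 q2561, e3 q2088 (flp_f L119696) q2541, e3 q2089 L28671 q2089, e3 q2090 L28677 q2090, e3 q2091 L28683 q1684, e3 q2092 (flp_f L39183) q2568, e3 q2093 (flp_f L39190) q2569, e3 q2094 L28701 q2094, e3 q2095 L118926 q2523, e3 q2096 L28720 q2096, e3 q2097 L28727 q2097, e3 q2098 L28734 q1688, e3 q2099 L28744 q1689, e3 q2100 L39293 q2579, e3 q2101 (flp_f L39291) q2578, e3 q2102 (flp_f L119525) q2527, e3 q2103 L28811 q2103, e3 q2104 L28828 q2104, e3 q2105 L28839 q2105, e3 q2106 L39408 q2587, e3 q2107 L28861 q1701, e3 q2108 (flp_f L28863) q1700, e3 q2109 (flp_f L39437) q2591, e3 q2110 (flp_f L39424) q2589, e3 q2111 L28915 q2111, trivial⟩ (by decide +kernel)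

theorem ce_f_33 : ∀ r, r < 64 → sm gf (Qf (2112 + r)) = Qf (tab Gen.f (2112 + r)) :=
  edges_tab (sm gf) Qf (tab Gen.f) 2112 [(2112, 1764), (2113, 1703), (2114, 2597), (2115, 2115), (2116, 2515), (2117, 2117), (2118, 1770), (2119, 1707), (2120, 2605), (2121, 2516), (2122, 2122), (2123, 2123), (2124, 1779), (2125, 2611), (2126, 1716), (2127, 2127), (2128, 2615), (2129, 2616), (2130, 2130), (2131, 1720), (2132, 1722), (2133, 2620), (2134, 2134), (2135, 2135), (2136, 1727), (2137, 1728), (2138, 2624), (2139, 2629), (2140, 2626), (2141, 2141), (2142, 2142), (2143, 2634), (2144, 1733), (2145, 1732), (2146, 2638), (2147, 2636), (2148, 2640), (2149, 2149), (2150, 1737), (2151, 2644), (2152, 1741), (2153, 2153), (2154, 1740), (2155, 2647), (2156, 2650), (2157, 2157), (2158, 1743), (2159, 2654), (2160, 2160), (2161, 2161), (2162, 1746), (2163, 2657), (2164, 2164), (2165, 1750), (2166, 2660), (2167, 1759), (2168, 1752), (2169, 2663), (2170, 1761), (2171, 1755), (2172, 2451), (2173, 2662), (2174,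 2174), (2175, 2668)]
    ⟨e3 q2112 L28924 q1764, e3 q2113 L28932 q1703, e3 q2114 (flp_f L39499) q2597, e3 q2115 L28947 q2115, e3 q2116 (flp_f L119336) q2515, e3 q2117 L28968 q2117, e3 q2118 L28976 q1770, e3 q2119 L28985 q1707, e3 q2120 L39576 q2605, e3 q2121 (flp_f L119513) q2516, e3 q2122 L29036 q2122, e3 q2123 L29060 q2123, e3 q2124 L29065 q1779, e3 q2125 L39671 q2611, e3 q2126 (flp_f L29076) q1716, e3 q2127 L29131 q2127, e3 q2128 L39756 q2615, e3 q2129 L39766 q2616, e3 q2130 L29151 q2130, e3 q2131 (flp_f L29153) q1720, e3 q2132 (flp_f L29163) q1722, e3 q2133 (flp_f L39795) q2620, e3 q2134 L29179 q2134, e3 q2135 L29187 q2135, e3 q2136 L29195 q1727, e3 q2137 L29204 q1728, e3 q2138 (flp_f L39827) q2624, e3 q2139 L39858 q2629, e3 q2140 (flp_f L39843) q2626, e3 q2141 L29232 q2141, e3 q2142 L29242 q2142, e3 q2143 L39898 q2634, e3 q2144 L29257 q1733, e3 q2145 (flp_f L29259) q1732, e3 q2146 (flp_f L39932) q2638, e3 q2147 (flp_f L39916) q2636, e3 q2148 L39941 q2640, e3 q2149 L29291 q2149, e3 q2150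 (flp_f L29294) q1737, e3 q2151 (flp_f L39973) q2644, e3 q2152 L29309 q1741, e3 q2153 L29317 q2153, e3 q2154 L29323 q1740, e3 q2155 (flp_f L39991) q2647, e3 q2156 L40006 q2650, e3 q2157 L29346 q2157, e3 q2158 (flp_f L29348) q1743, e3 q2159 (flp_f L40046) q2654, e3 q2160 L29368 q2160, e3 q2161 L29379 q2161, e3 q2162 L29386 q1746, e3 q2163 (flp_f L40072) q2657, e3 q2164 L29402 q2164, e3 q2165 L29410 q1750, e3 q2166 (flp_f L40094) q2660, e3 q2167 L111986 q1759, e3 q2168 L30532 q1752, e3 q2169 (flp_f L41651) q2663, e3 q2170 (flp_f L106407) q1761, e3 q2171 L30592 q1755, e3 q2172 (flp_f L36634) q2451, e3 q2173 (flp_f L112269) q2662, e3 q2174 L31827 q2174, e3 q2175 L43380 q2668, trivial⟩ (by decide +kernel)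

theorem ce_f_34 : ∀ r, r < 64 → sm gf (Qf (2176 + r)) = Qf (tab Gen.f (2176 + r)) :=
  edges_tab (sm gf) Qf (tab Gen.f) 2176 [(2176, 2176), (2177, 2596), (2178, 1766), (2179, 2671), (2180, 2180), (2181, 2673), (2182, 1768), (2183, 2512), (2184, 2603), (2185, 1776), (2186, 2186), (2187, 2676), (2188, 1781), (2189, 1782), (2190, 2463), (2191, 2678), (2192, 1785), (2193, 2681), (2194, 2343), (2195, 1787), (2196, 2685), (2197, 2347), (2198, 1789), (2199, 2688), (2200, 2689), (2201, 2353), (2202, 1792), (2203, 2357), (2204, 2358), (2205, 1795), (2206, 2696), (2207, 2391), (2208, 1797), (2209, 2701), (2210, 2702), (2211, 2397), (2212, 1800), (2213, 2400), (2214, 2402), (2215, 1803), (2216, 1804), (2217, 2711), (2218, 2710), (2219, 2410), (2220, 2450), (2221, 2455), (2222, 2461), (2223, 1812), (2224, 2717), (2225, 2718), (2226, 1814), (2227, 1815), (2228, 2724), (2229, 2723), (2230, 2727), (2231, 1820), (2232, 1819), (2233, 2731), (2234, 2729), (2235, 2734), (2236, 1821), (2237, 2738), (2238,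 2238), (2239, 1823)]
    ⟨e3 q2176 L31848 q2176, e3 q2177 (flp_f L39489) q2596, e3 q2178 L31864 q1766, e3 q2179 (flp_f L43418) q2671, e3 q2180 L82656 q2180, e3 q2181 L43443 q2673, e3 q2182 (flp_f L31895) q1768, e3 q2183 L119302 q2512, e3 q2184 (flp_f L39564) q2603, e3 q2185 (flp_f L31969) q1776, e3 q2186 L32103 q2186, e3 q2187 L43729 q2676, e3 q2188 (flp_f L32120) q1781, e3 q2189 (flp_f L32128) q1782, e3 q2190 L106235 q2463, e3 q2191 L44629 q2678, e3 q2192 (flp_f L32794) q1785, e3 q2193 (flp_f L44667) q2681, e3 q2194 (flp_f L35666) q2343, e3 q2195 L32830 q1787, e3 q2196 (flp_f L44717) q2685, e3 q2197 (flp_f L35706) q2347, e3 q2198 L32861 q1789, e3 q2199 (flp_f L44754) q2688, e3 q2200 (flp_f L44764) q2689, e3 q2201 (flp_f L35760) q2353, e3 q2202 L32903 q1792, e3 q2203 (flp_f L35803) q2357, e3 q2204 (flp_f L35814) q2358, e3 q2205 (flp_f L32947) q1795, e3 q2206 (flp_f L44877) q2696, e3 q2207 (flp_f L36068) q2391, e3 q2208 L32981 q1797, e3 q2209 (flp_f L44928) q2701, e3 q2210 (flp_f L44939)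 q2702, e3 q2211 (flp_f L36128) q2397, e3 q2212 L33035 q1800, e3 q2213 (flp_f L36153) q2400, e3 q2214 (flp_f L36175) q2402, e3 q2215 L33063 q1803, e3 q2216 L33072 q1804, e3 q2217 L45067 q2711, e3 q2218 (flp_f L45065) q2710, e3 q2219 (flp_f L36247) q2410, e3 q2220 (flp_f L36621) q2450, e3 q2221 (flp_f L36671) q2455, e3 q2222 (flp_f L36817) q2461, e3 q2223 L33532 q1812, e3 q2224 (flp_f L45693) q2717, e3 q2225 (flp_f L45703) q2718, e3 q2226 L33591 q1814, e3 q2227 L33600 q1815, e3 q2228 L45812 q2724, e3 q2229 (flp_f L45810) q2723, e3 q2230 L45965 q2727, e3 q2231 L33738 q1820, e3 q2232 (flp_f L33740) q1819, e3 q2233 (flp_f L45993) q2731, e3 q2234 (flp_f L45979) q2729, e3 q2235 L47184 q2734, e3 q2236 (flp_f L34637) q1821, e3 q2237 (flp_f L47219) q2738, e3 q2238 L34661 q2238, e3 q2239 (flp_f L34662) q1823, trivial⟩ (by decide +kernel)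

theorem ce_f_35 : ∀ r, r < 64 → sm gf (Qf (2240 + r)) = Qf (tab Gen.f (2240 + r)) :=
  edges_tab (sm gf) Qf (tab Gen.f) 2240 [(2240, 2742), (2241, 2241), (2242, 2242), (2243, 1825), (2244, 2748), (2245, 2749), (2246, 2246), (2247, 2247), (2248, 1830), (2249, 2754), (2250, 1831), (2251, 2758), (2252, 1916), (2253, 2253), (2254, 1833), (2255, 2764), (2256, 1920), (2257, 2257), (2258, 1836), (2259, 2769), (2260, 2770), (2261, 2773), (2262, 1926), (2263, 2263), (2264, 1840), (2265, 1841), (2266, 2778), (2267, 1931), (2268, 1932), (2269, 2269), (2270, 1845), (2271, 2785), (2272, 1956), (2273, 2273), (2274, 1847), (2275, 2792), (2276, 2793), (2277, 2796), (2278, 1962), (2279, 2279), (2280, 1851), (2281, 1965), (2282, 2803), (2283, 1967), (2284, 2284), (2285, 1855), (2286, 1856), (2287, 2811), (2288, 2810), (2289, 1857), (2290, 2814), (2291, 1975), (2292, 1976), (2293, 2293), (2294, 1862), (2295, 1950), (2296, 2819), (2297, 1979), (2298, 1980), (2299, 1995), (2300, 1998), (2301, 1867), (2302,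 2828), (2303, 2829)]
    ⟨e3 q2240 (flp_f L47252) q2742, e3 q2241 L34682 q2241, e3 q2242 L34690 q2242, e3 q2243 L34695 q1825, e3 q2244 (flp_f L47299) q2748, e3 q2245 L47302 q2749, e3 q2246 L34720 q2246, e3 q2247 L34724 q2247, e3 q2248 L34734 q1830, e3 q2249 L47338 q2754, e3 q2250 (flp_f L34747) q1831, e3 q2251 (flp_f L47382) q2758, e3 q2252 L34772 q1916, e3 q2253 L34782 q2253, e3 q2254 L34787 q1833, e3 q2255 (flp_f L47429) q2764, e3 q2256 L34806 q1920, e3 q2257 L34817 q2257, e3 q2258 L34824 q1836, e3 q2259 (flp_f L47476) q2769, e3 q2260 (flp_f L47485) q2770, e3 q2261 L47504 q2773, e3 q2262 L34858 q1926, e3 q2263 L34864 q2263, e3 q2264 L34871 q1840, e3 q2265 (flp_f L34875) q1841, e3 q2266 (flp_f L47553) q2778, e3 q2267 L34895 q1931, e3 q2268 L34904 q1932, e3 q2269 L34912 q2269, e3 q2270 (flp_f L34917) q1845, e3 q2271 (flp_f L47605) q2785, e3 q2272 L34939 q1956, e3 q2273 L34950 q2273, e3 q2274 L34957 q1847, e3 q2275 (flp_f L47666) q2792, e3 q2276 (flp_f L47676) q2793, e3 q2277 L47697 q2796,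 e3 q2278 L34993 q1962, e3 q2279 L34999 q2279, e3 q2280 L35008 q1851, e3 q2281 L35014 q1965, e3 q2282 L47761 q2803, e3 q2283 L35035 q1967, e3 q2284 L35041 q2284, e3 q2285 L35046 q1855, e3 q2286 L35054 q1856, e3 q2287 L47819 q2811, e3 q2288 (flp_f L47817) q2810, e3 q2289 (flp_f L35071) q1857, e3 q2290 (flp_f L47845) q2814, e3 q2291 L35094 q1975, e3 q2292 L35105 q1976, e3 q2293 L35114 q2293, e3 q2294 L35122 q1862, e3 q2295 (flp_f L109098) q1950, e3 q2296 (flp_f L47895) q2819, e3 q2297 L35144 q1979, e3 q2298 L35153 q1980, e3 q2299 L35162 q1995, e3 q2300 (flp_f L82978) q1998, e3 q2301 L35179 q1867, e3 q2302 (flp_f L47980) q2828, e3 q2303 (flp_f L47988) q2829, trivial⟩ (by decide +kernel)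

theorem ce_f_36 : ∀ r, r < 64 → sm gf (Qf (2304 + r)) = Qf (tab Gen.f (2304 + r)) :=
  edges_tab (sm gf) Qf (tab Gen.f) 2304 [(2304, 1999), (2305, 2834), (2306, 2001), (2307, 1987), (2308, 1871), (2309, 1872), (2310, 2839), (2311, 1873), (2312, 1988), (2313, 2002), (2314, 2842), (2315, 2004), (2316, 1878), (2317, 1991), (2318, 2005), (2319, 1994), (2320, 2320), (2321, 1883), (2322, 1946), (2323, 2006), (2324, 1909), (2325, 2007), (2326, 2856), (2327, 1889), (2328, 2860), (2329, 2329), (2330, 1891), (2331, 2863), (2332, 2332), (2333, 2333), (2334, 1893), (2335, 2869), (2336, 2870), (2337, 2337), (2338, 2338), (2339, 1898), (2340, 2875), (2341, 1899), (2342, 2879), (2343, 2194), (2344, 2344), (2345, 1901), (2346, 2885), (2347, 2197), (2348, 2348), (2349, 1904), (2350, 2890), (2351, 2891), (2352, 2853), (2353, 2201), (2354, 2354), (2355, 1908), (2356, 2820), (2357, 2203), (2358, 2204), (2359, 2359), (2360, 1913), (2361, 2904), (2362, 2756), (2363, 2363), (2364, 1915), (2365, 2911), (2366,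 2912), (2367, 2915)]
    ⟨e3 q2304 L35205 q1999, e3 q2305 L48026 q2834, e3 q2306 L35228 q2001, e3 q2307 (flp_f L112014) q1987, e3 q2308 L35244 q1871, e3 q2309 L35254 q1872, e3 q2310 (flp_f L48102) q2839, e3 q2311 (flp_f L35268) q1873, e3 q2312 (flp_f L111349) q1988, e3 q2313 L35290 q2002, e3 q2314 L48158 q2842, e3 q2315 L35326 q2004, e3 q2316 (flp_f L35328) q1878, e3 q2317 (flp_f L111193) q1991, e3 q2318 L35351 q2005, e3 q2319 L111766 q1994, e3 q2320 L35389 q2320, e3 q2321 L35396 q1883, e3 q2322 L109086 q1946, e3 q2323 L35438 q2006, e3 q2324 L109080 q1909, e3 q2325 L35483 q2007, e3 q2326 L48398 q2856, e3 q2327 (flp_f L35509) q1889, e3 q2328 (flp_f L48440) q2860, e3 q2329 L35540 q2329, e3 q2330 (flp_f L35541) q1891, e3 q2331 (flp_f L48476) q2863, e3 q2332 L35562 q2332, e3 q2333 L35570 q2333, e3 q2334 L35575 q1893, e3 q2335 (flp_f L48524) q2869, e3 q2336 L48527 q2870, e3 q2337 L35604 q2337, e3 q2338 L35610 q2338, e3 q2339 L35622 q1898, e3 q2340 L48573 q2875, e3 q2341 (flp_f L35638) q1899,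 e3 q2342 (flp_f L48623) q2879, e3 q2343 L35666 q2194, e3 q2344 L35678 q2344, e3 q2345 L35685 q1901, e3 q2346 (flp_f L48679) q2885, e3 q2347 L35706 q2197, e3 q2348 L35718 q2348, e3 q2349 L35725 q1904, e3 q2350 (flp_f L48727) q2890, e3 q2351 (flp_f L48737) q2891, e3 q2352 (flp_f L104037) q2853, e3 q2353 L35760 q2201, e3 q2354 L35766 q2354, e3 q2355 L35773 q1908, e3 q2356 (flp_f L109105) q2820, e3 q2357 L35803 q2203, e3 q2358 L35814 q2204, e3 q2359 L35824 q2359, e3 q2360 (flp_f L35829) q1913, e3 q2361 (flp_f L48869) q2904, e3 q2362 (flp_f L47364) q2756, e3 q2363 L35858 q2363, e3 q2364 L35865 q1915, e3 q2365 (flp_f L48923) q2911, e3 q2366 (flp_f L48934) q2912, e3 q2367 L48952 q2915, trivial⟩ (by decide +kernel)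

theorem ce_f_37 : ∀ r, r < 64 → sm gf (Qf (2368 + r)) = Qf (tab Gen.f (2368 + r)) :=
  edges_tab (sm gf) Qf (tab Gen.f) 2368 [(2368, 2762), (2369, 2369), (2370, 1919), (2371, 2765), (2372, 2922), (2373, 2767), (2374, 2374), (2375, 1923), (2376, 1924), (2377, 2930), (2378, 2929), (2379, 1925), (2380, 2933), (2381, 2775), (2382, 2776), (2383, 2383), (2384, 1930), (2385, 2900), (2386, 2938), (2387, 2781), (2388, 2782), (2389, 1934), (2390, 2945), (2391, 2207), (2392, 2392), (2393, 1936), (2394, 2952), (2395, 2953), (2396, 2840), (2397, 2211), (2398, 2398), (2399, 1940), (2400, 2213), (2401, 2851), (2402, 2214), (2403, 2403), (2404, 1944), (2405, 1945), (2406, 2969), (2407, 2968), (2408, 2815), (2409, 1974), (2410, 2219), (2411, 2411), (2412, 2821), (2413, 1978), (2414, 2783), (2415, 2415), (2416, 1955), (2417, 2979), (2418, 2980), (2419, 2788), (2420, 2986), (2421, 2790), (2422, 2422), (2423, 1959), (2424, 1960), (2425, 2994), (2426, 2993), (2427, 1961), (2428, 2957), (2429, 2798), (2430,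 2799), (2431, 2431)]
    ⟨e3 q2368 (flp_f L47416) q2762, e3 q2369 L35899 q2369, e3 q2370 L35908 q1919, e3 q2371 (flp_f L47437) q2765, e3 q2372 L49002 q2922, e3 q2373 (flp_f L47461) q2767, e3 q2374 L35939 q2374, e3 q2375 L35946 q1923, e3 q2376 L35957 q1924, e3 q2377 L49066 q2930, e3 q2378 (flp_f L49064) q2929, e3 q2379 (flp_f L35975) q1925, e3 q2380 (flp_f L49094) q2933, e3 q2381 (flp_f L47526) q2775, e3 q2382 (flp_f L47535) q2776, e3 q2383 L36006 q2383, e3 q2384 L36014 q1930, e3 q2385 L93050 q2900, e3 q2386 (flp_f L49133) q2938, e3 q2387 (flp_f L47574) q2781, e3 q2388 (flp_f L47583) q2782, e3 q2389 (flp_f L36041) q1934, e3 q2390 (flp_f L49194) q2945, e3 q2391 L36068 q2207, e3 q2392 L36080 q2392, e3 q2393 L36087 q1936, e3 q2394 (flp_f L49259) q2952, e3 q2395 (flp_f L49270) q2953, e3 q2396 L104637 q2840, e3 q2397 L36128 q2211, e3 q2398 L36136 q2398, e3 q2399 L36147 q1940, e3 q2400 L36153 q2213, e3 q2401 L92138 q2851, e3 q2402 L36175 q2214, e3 q2403 L36181 q2403, e3 q2404 L36186 q1944, e3 q2405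 L36195 q1945, e3 q2406 L49428 q2969, e3 q2407 (flp_f L49426) q2968, e3 q2408 (flp_f L109109) q2815, e3 q2409 (flp_f L108978) q1974, e3 q2410 L36247 q2219, e3 q2411 L36256 q2411, e3 q2412 (flp_f L109139) q2821, e3 q2413 (flp_f L109179) q1978, e3 q2414 (flp_f L47591) q2783, e3 q2415 L36317 q2415, e3 q2416 L36322 q1955, e3 q2417 (flp_f L49590) q2979, e3 q2418 (flp_f L49598) q2980, e3 q2419 (flp_f L47626) q2788, e3 q2420 L49639 q2986, e3 q2421 (flp_f L47651) q2790, e3 q2422 L36366 q2422, e3 q2423 L36373 q1959, e3 q2424 L36385 q1960, e3 q2425 L49706 q2994, e3 q2426 (flp_f L49704) q2993, e3 q2427 (flp_f L36405) q1961, e3 q2428 L104696 q2957, e3 q2429 (flp_f L47720) q2798, e3 q2430 (flp_f L47731) q2799, e3 q2431 L36440 q2431, trivial⟩ (by decide +kernel)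

theorem ce_f_38 : ∀ r, r < 64 → sm gf (Qf (2432 + r)) = Qf (tab Gen.f (2432 + r)) :=
  edges_tab (sm gf) Qf (tab Gen.f) 2432 [(2432, 3000), (2433, 2802), (2434, 1966), (2435, 2973), (2436, 2805), (2437, 2806), (2438, 2438), (2439, 2439), (2440, 3011), (2441, 1972), (2442, 1971), (2443, 3015), (2444, 3013), (2445, 2974), (2446, 2817), (2447, 2818), (2448, 2822), (2449, 2823), (2450, 2220), (2451, 2172), (2452, 1982), (2453, 3024), (2454, 2827), (2455, 2221), (2456, 2835), (2457, 2000), (2458, 1986), (2459, 2837), (2460, 2846), (2461, 2222), (2462, 2003), (2463, 2190), (2464, 2824), (2465, 3023), (2466, 2826), (2467, 3029), (2468, 2833), (2469, 2836), (2470, 2841), (2471, 3032), (2472, 2844), (2473, 2845), (2474, 2847), (2475, 2852), (2476, 2854), (2477, 2477), (2478, 2478), (2479, 2011), (2480, 2012), (2481, 3053), (2482, 3058), (2483, 3055), (2484, 2484), (2485, 2485), (2486, 2486), (2487, 2487), (2488, 3066), (2489, 2018), (2490, 2017), (2491, 3070), (2492, 3068), (2493, 2493), (2494,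 2494), (2495, 2495)]
    ⟨e3 q2432 L49773 q3000, e3 q2433 (flp_f L47759) q2802, e3 q2434 (flp_f L36457) q1966, e3 q2435 (flp_f L103606) q2973, e3 q2436 (flp_f L47780) q2805, e3 q2437 (flp_f L47788) q2806, e3 q2438 L36480 q2438, e3 q2439 L36491 q2439, e3 q2440 L49845 q3011, e3 q2441 L36506 q1972, e3 q2442 (flp_f L36508) q1971, e3 q2443 (flp_f L49878) q3015, e3 q2444 (flp_f L49863) q3013, e3 q2445 L94340 q2974, e3 q2446 (flp_f L47871) q2817, e3 q2447 (flp_f L47882) q2818, e3 q2448 (flp_f L47918) q2822, e3 q2449 (flp_f L47927) q2823, e3 q2450 L36621 q2220, e3 q2451 L36634 q2172, e3 q2452 L36643 q1982, e3 q2453 (flp_f L50056) q3024, e3 q2454 (flp_f L112128) q2827, e3 q2455 L36671 q2221, e3 q2456 (flp_f L111249) q2835, e3 q2457 (flp_f L102716) q2000, e3 q2458 L36711 q1986, e3 q2459 L83310 q2837, e3 q2460 L110712 q2846, e3 q2461 L36817 q2222, e3 q2462 L110555 q2003, e3 q2463 (flp_f L106235) q2190, e3 q2464 (flp_f L47943) q2824, e3 q2465 (flp_f L102725) q3023, e3 q2466 (flp_f L47964) q2826, e3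 q2467 L110571 q3029, e3 q2468 (flp_f L48024) q2833, e3 q2469 (flp_f L48052) q2836, e3 q2470 (flp_f L48147) q2841, e3 q2471 (flp_f L110706) q3032, e3 q2472 (flp_f L48176) q2844, e3 q2473 (flp_f L48184) q2845, e3 q2474 (flp_f L48217) q2847, e3 q2475 (flp_f L48304) q2852, e3 q2476 (flp_f L48371) q2854, e3 q2477 L37326 q2477, e3 q2478 L37332 q2478, e3 q2479 L37340 q2011, e3 q2480 L37349 q2012, e3 q2481 (flp_f L50989) q3053, e3 q2482 L51023 q3058, e3 q2483 (flp_f L51007) q3055, e3 q2484 L37399 q2484, e3 q2485 L37409 q2485, e3 q2486 L37415 q2486, e3 q2487 L37426 q2487, e3 q2488 L51116 q3066, e3 q2489 L37442 q2018, e3 q2490 (flp_f L37444) q2017, e3 q2491 (flp_f L51152) q3070, e3 q2492 (flp_f L51134) q3068, e3 q2493 L37496 q2493, e3 q2494 L37505 q2494, e3 q2495 L37533 q2495, trivial⟩ (by decide +kernel)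

theorem ce_f_39 : ∀ r, r < 64 → sm gf (Qf (2496 + r)) = Qf (tab Gen.f (2496 + r)) :=
  edges_tab (sm gf) Qf (tab Gen.f) 2496 [(2496, 3077), (2497, 2497), (2498, 3080), (2499, 2499), (2500, 2026), (2501, 3084), (2502, 2030), (2503, 2503), (2504, 2029), (2505, 3087), (2506, 2506), (2507, 2507), (2508, 2508), (2509, 2509), (2510, 2510), (2511, 2511), (2512, 2183), (2513, 3094), (2514, 2041), (2515, 2116), (2516, 2121), (2517, 2047), (2518, 3100), (2519, 2519), (2520, 2520), (2521, 2049), (2522, 3104), (2523, 2095), (2524, 2524), (2525, 2057), (2526, 3107), (2527, 2102), (2528, 2528), (2529, 2529), (2530, 2060), (2531, 3114), (2532, 3115), (2533, 2533), (2534, 2084), (2535, 2535), (2536, 2536), (2537, 2064), (2538, 2065), (2539, 3125), (2540, 3124), (2541, 2088), (2542, 2542), (2543, 2543), (2544, 2544), (2545, 3133), (2546, 2077), (2547, 2076), (2548, 3137), (2549, 3135), (2550, 2550), (2551, 2551), (2552, 2079), (2553, 3140), (2554, 3111), (2555, 2555), (2556, 2083), (2557, 3146), (2558,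 3119), (2559, 2559)]
    ⟨e3 q2496 L51275 q3077, e3 q2497 L37548 q2497, e3 q2498 L51295 q3080, e3 q2499 L37561 q2499, e3 q2500 (flp_f L37564) q2026, e3 q2501 (flp_f L51329) q3084, e3 q2502 L37579 q2030, e3 q2503 L37590 q2503, e3 q2504 L37595 q2029, e3 q2505 (flp_f L51348) q3087, e3 q2506 L37639 q2506, e3 q2507 L37648 q2507, e3 q2508 L37702 q2508, e3 q2509 L37710 q2509, e3 q2510 L37754 q2510, e3 q2511 L37817 q2511, e3 q2512 (flp_f L119302) q2183, e3 q2513 L52037 q3094, e3 q2514 (flp_f L38119) q2041, e3 q2515 L119336 q2116, e3 q2516 L119513 q2121, e3 q2517 (flp_f L38270) q2047, e3 q2518 (flp_f L52286) q3100, e3 q2519 L38296 q2519, e3 q2520 L38305 q2520, e3 q2521 L38312 q2049, e3 q2522 (flp_f L52346) q3104, e3 q2523 (flp_f L118926) q2095, e3 q2524 L38368 q2524, e3 q2525 L38404 q2057, e3 q2526 L52498 q3107, e3 q2527 L119525 q2102, e3 q2528 L38516 q2528, e3 q2529 L38524 q2529, e3 q2530 L38532 q2060, e3 q2531 (flp_f L52650) q3114, e3 q2532 (flp_f L52659) q3115, e3 q2533 L38554 q2533, e3 q2534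 L119700 q2084, e3 q2535 L38572 q2535, e3 q2536 L38579 q2536, e3 q2537 L38586 q2064, e3 q2538 L38595 q2065, e3 q2539 L52761 q3125, e3 q2540 (flp_f L52759) q3124, e3 q2541 L119696 q2088, e3 q2542 L38666 q2542, e3 q2543 L38689 q2543, e3 q2544 L38703 q2544, e3 q2545 L52915 q3133, e3 q2546 L38728 q2077, e3 q2547 (flp_f L38730) q2076, e3 q2548 (flp_f L52949) q3137, e3 q2549 (flp_f L52934) q3135, e3 q2550 L38829 q2550, e3 q2551 L38837 q2551, e3 q2552 L38843 q2079, e3 q2553 (flp_f L53066) q3140, e3 q2554 (flp_f L117596) q3111, e3 q2555 L38863 q2555, e3 q2556 L38900 q2083, e3 q2557 L53181 q3146, e3 q2558 L119530 q3119, e3 q2559 L38990 q2559, trivial⟩ (by decide +kernel)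

theorem ce_f_40 : ∀ r, r < 64 → sm gf (Qf (2560 + r)) = Qf (tab Gen.f (2560 + r)) :=
  edges_tab (sm gf) Qf (tab Gen.f) 2560 [(2560, 3150), (2561, 2087), (2562, 3152), (2563, 3128), (2564, 2564), (2565, 3102), (2566, 2566), (2567, 2567), (2568, 2092), (2569, 2093), (2570, 3159), (2571, 3164), (2572, 3161), (2573, 3106), (2574, 2574), (2575, 2575), (2576, 2576), (2577, 3172), (2578, 2101), (2579, 2100), (2580, 3176), (2581, 3174), (2582, 3109), (2583, 2583), (2584, 2584), (2585, 3181), (2586, 3182), (2587, 2106), (2588, 3184), (2589, 2110), (2590, 2590), (2591, 2109), (2592, 3187), (2593, 2593), (2594, 3095), (2595, 2595), (2596, 2177), (2597, 2114), (2598, 3194), (2599, 3197), (2600, 3096), (2601, 2601), (2602, 2602), (2603, 2184), (2604, 3203), (2605, 2120), (2606, 2864), (2607, 2607), (2608, 2608), (2609, 3207), (2610, 2610), (2611, 2125), (2612, 2612), (2613, 3210), (2614, 2614), (2615, 2128), (2616, 2129), (2617, 3214), (2618, 2618), (2619, 3034), (2620, 2133), (2621, 3217), (2622,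 2622), (2623, 2623)]
    ⟨e3 q2560 L53328 q3150, e3 q2561 (flp_f L39044) q2087, e3 q2562 (flp_f L53354) q3152, e3 q2563 L116490 q3128, e3 q2564 L39155 q2564, e3 q2565 (flp_f L118832) q3102, e3 q2566 L39170 q2566, e3 q2567 L39176 q2567, e3 q2568 L39183 q2092, e3 q2569 L39190 q2093, e3 q2570 (flp_f L53531) q3159, e3 q2571 L53563 q3164, e3 q2572 (flp_f L53546) q3161, e3 q2573 L119437 q3106, e3 q2574 L39225 q2574, e3 q2575 L39248 q2575, e3 q2576 L39263 q2576, e3 q2577 L53674 q3172, e3 q2578 L39291 q2101, e3 q2579 (flp_f L39293) q2100, e3 q2580 (flp_f L53713) q3176, e3 q2581 (flp_f L53696) q3174, e3 q2582 L119554 q3109, e3 q2583 L39352 q2583, e3 q2584 L39360 q2584, e3 q2585 L53799 q3181, e3 q2586 L53816 q3182, e3 q2587 (flp_f L39408) q2106, e3 q2588 (flp_f L53848) q3184, e3 q2589 L39424 q2110, e3 q2590 L39431 q2590, e3 q2591 L39437 q2109, e3 q2592 (flp_f L53868) q3187, e3 q2593 L39460 q2593, e3 q2594 L118583 q3095, e3 q2595 L39481 q2595, e3 q2596 L39489 q2177, e3 q2597 L39499 q2114, e3 q2598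 (flp_f L53938) q3194, e3 q2599 L53958 q3197, e3 q2600 L119418 q3096, e3 q2601 L39531 q2601, e3 q2602 L39558 q2602, e3 q2603 L39564 q2184, e3 q2604 L54036 q3203, e3 q2605 (flp_f L39576) q2120, e3 q2606 (flp_f L119487) q2864, e3 q2607 L39626 q2607, e3 q2608 L39632 q2608, e3 q2609 L54156 q3207, e3 q2610 L82312 q2610, e3 q2611 (flp_f L39671) q2125, e3 q2612 L39740 q2612, e3 q2613 L54242 q3210, e3 q2614 L39754 q2614, e3 q2615 (flp_f L39756) q2128, e3 q2616 (flp_f L39766) q2129, e3 q2617 (flp_f L54276) q3214, e3 q2618 L39785 q2618, e3 q2619 L106196 q3034, e3 q2620 L39795 q2133, e3 q2621 (flp_f L54297) q3217, e3 q2622 L39810 q2622, e3 q2623 L39820 q2623, trivial⟩ (by decide +kernel)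

theorem ce_f_41 : ∀ r, r < 64 → sm gf (Qf (2624 + r)) = Qf (tab Gen.f (2624 + r)) :=
  edges_tab (sm gf) Qf (tab Gen.f) 2624 [(2624, 2138), (2625, 3223), (2626, 2140), (2627, 3227), (2628, 3222), (2629, 2139), (2630, 3231), (2631, 3225), (2632, 3233), (2633, 2633), (2634, 2143), (2635, 3237), (2636, 2147), (2637, 2637), (2638, 2146), (2639, 3240), (2640, 2148), (2641, 3243), (2642, 2642), (2643, 3242), (2644, 2151), (2645, 3246), (2646, 2646), (2647, 2155), (2648, 3249), (2649, 3251), (2650, 2156), (2651, 3255), (2652, 2652), (2653, 2653), (2654, 2159), (2655, 3259), (2656, 2656), (2657, 2163), (2658, 3262), (2659, 2659), (2660, 2166), (2661, 2745), (2662, 2173), (2663, 2169), (2664, 3265), (2665, 3264), (2666, 2666), (2667, 3267), (2668, 2175), (2669, 3093), (2670, 3193), (2671, 2179), (2672, 2672), (2673, 2181), (2674, 2849), (2675, 3271), (2676, 2187), (2677, 3030), (2678, 2191), (2679, 3274), (2680, 2877), (2681, 2193), (2682, 3279), (2683, 3280), (2684, 2883), (2685, 2196), (2686,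 2886), (2687, 2888)]
    ⟨e3 q2624 L39827 q2138, e3 q2625 L54338 q3223, e3 q2626 L39843 q2140, e3 q2627 L54369 q3227, e3 q2628 (flp_f L54336) q3222, e3 q2629 (flp_f L39858) q2139, e3 q2630 (flp_f L54403) q3231, e3 q2631 (flp_f L54359) q3225, e3 q2632 L54413 q3233, e3 q2633 L39895 q2633, e3 q2634 (flp_f L39898) q2143, e3 q2635 (flp_f L54450) q3237, e3 q2636 L39916 q2147, e3 q2637 L39925 q2637, e3 q2638 L39932 q2146, e3 q2639 (flp_f L54471) q3240, e3 q2640 (flp_f L39941) q2148, e3 q2641 (flp_f L54493) q3243, e3 q2642 L39957 q2642, e3 q2643 (flp_f L54486) q3242, e3 q2644 L39973 q2151, e3 q2645 (flp_f L54515) q3246, e3 q2646 L39985 q2646, e3 q2647 L39991 q2155, e3 q2648 (flp_f L54531) q3249, e3 q2649 L54541 q3251, e3 q2650 (flp_f L40006) q2156, e3 q2651 (flp_f L54578) q3255, e3 q2652 L40029 q2652, e3 q2653 L40039 q2653, e3 q2654 L40046 q2159, e3 q2655 (flp_f L54614) q3259, e3 q2656 L40063 q2656, e3 q2657 L40072 q2163, e3 q2658 (flp_f L54639) q3262, e3 q2659 L40087 q2659, e3 q2660 L40094 q2166,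 e3 q2661 L120988 q2745, e3 q2662 L112269 q2173, e3 q2663 L41651 q2169, e3 q2664 (flp_f L56848) q3265, e3 q2665 L82728 q3264, e3 q2666 L43360 q2666, e3 q2667 L59147 q3267, e3 q2668 (flp_f L43380) q2175, e3 q2669 L118542 q3093, e3 q2670 (flp_f L53930) q3193, e3 q2671 L43418 q2179, e3 q2672 L82682 q2672, e3 q2673 (flp_f L43443) q2181, e3 q2674 (flp_f L90380) q2849, e3 q2675 L59615 q3271, e3 q2676 (flp_f L43729) q2187, e3 q2677 L106209 q3030, e3 q2678 (flp_f L44629) q2191, e3 q2679 (flp_f L60869) q3274, e3 q2680 (flp_f L48604) q2877, e3 q2681 L44667 q2193, e3 q2682 (flp_f L60923) q3279, e3 q2683 (flp_f L60933) q3280, e3 q2684 (flp_f L48662) q2883, e3 q2685 L44717 q2196, e3 q2686 (flp_f L48687) q2886, e3 q2687 (flp_f L48712) q2888, trivial⟩ (by decide +kernel)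

theorem ce_f_42 : ∀ r, r < 64 → sm gf (Qf (2688 + r)) = Qf (tab Gen.f (2688 + r)) :=
  edges_tab (sm gf) Qf (tab Gen.f) 2688 [(2688, 2199), (2689, 2200), (2690, 3290), (2691, 3289), (2692, 2895), (2693, 2896), (2694, 2901), (2695, 2943), (2696, 2206), (2697, 3298), (2698, 3299), (2699, 2948), (2700, 2950), (2701, 2209), (2702, 2210), (2703, 3308), (2704, 3307), (2705, 2958), (2706, 2961), (2707, 2963), (2708, 2964), (2709, 3315), (2710, 2218), (2711, 2217), (2712, 3319), (2713, 3317), (2714, 3021), (2715, 3028), (2716, 3033), (2717, 2224), (2718, 2225), (2719, 3324), (2720, 3329), (2721, 3326), (2722, 3332), (2723, 2229), (2724, 2228), (2725, 3336), (2726, 3334), (2727, 2230), (2728, 3339), (2729, 2234), (2730, 2730), (2731, 2233), (2732, 3342), (2733, 3344), (2734, 2235), (2735, 3348), (2736, 2736), (2737, 2737), (2738, 2237), (2739, 3354), (2740, 2740), (2741, 2741), (2742, 2240), (2743, 3357), (2744, 3358), (2745, 2661), (2746, 2746), (2747, 2747), (2748, 2244), (2749, 2245), (2750,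 3365), (2751, 2751)]
    ⟨e3 q2688 L44754 q2199, e3 q2689 L44764 q2200, e3 q2690 L61070 q3290, e3 q2691 (flp_f L61068) q3289, e3 q2692 (flp_f L48779) q2895, e3 q2693 (flp_f L48788) q2896, e3 q2694 (flp_f L48846) q2901, e3 q2695 (flp_f L49175) q2943, e3 q2696 L44877 q2206, e3 q2697 (flp_f L61215) q3298, e3 q2698 (flp_f L61224) q3299, e3 q2699 (flp_f L49218) q2948, e3 q2700 (flp_f L49244) q2950, e3 q2701 L44928 q2209, e3 q2702 L44939 q2210, e3 q2703 L61328 q3308, e3 q2704 (flp_f L61326) q3307, e3 q2705 (flp_f L49334) q2958, e3 q2706 (flp_f L49366) q2961, e3 q2707 (flp_f L49387) q2963, e3 q2708 (flp_f L49395) q2964, e3 q2709 L61470 q3315, e3 q2710 L45065 q2218, e3 q2711 (flp_f L45067) q2217, e3 q2712 (flp_f L61500) q3319, e3 q2713 (flp_f L61487) q3317, e3 q2714 (flp_f L50012) q3021, e3 q2715 (flp_f L50118) q3028, e3 q2716 (flp_f L50300) q3033, e3 q2717 L45693 q2224, e3 q2718 L45703 q2225, e3 q2719 (flp_f L62369) q3324, e3 q2720 L62404 q3329, e3 q2721 (flp_f L62387) q3326, e3 q2722 L62526 q3332,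 e3 q2723 L45810 q2229, e3 q2724 (flp_f L45812) q2228, e3 q2725 (flp_f L62559) q3336, e3 q2726 (flp_f L62543) q3334, e3 q2727 (flp_f L45965) q2230, e3 q2728 (flp_f L62787) q3339, e3 q2729 L45979 q2234, e3 q2730 L45988 q2730, e3 q2731 L45993 q2233, e3 q2732 (flp_f L62805) q3342, e3 q2733 L64414 q3344, e3 q2734 (flp_f L47184) q2235, e3 q2735 (flp_f L64451) q3348, e3 q2736 L47206 q2736, e3 q2737 L47214 q2737, e3 q2738 L47219 q2237, e3 q2739 (flp_f L64500) q3354, e3 q2740 L47238 q2740, e3 q2741 L47246 q2741, e3 q2742 L47252 q2240, e3 q2743 (flp_f L64537) q3357, e3 q2744 (flp_f L64547) q3358, e3 q2745 (flp_f L120988) q2661, e3 q2746 L47283 q2746, e3 q2747 L47288 q2747, e3 q2748 L47299 q2244, e3 q2749 (flp_f L47302) q2245, e3 q2750 (flp_f L64612) q3365, e3 q2751 L47318 q2751, trivial⟩ (by decide +kernel)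

theorem ce_f_43 : ∀ r, r < 64 → sm gf (Qf (2752 + r)) = Qf (tab Gen.f (2752 + r)) :=
  edges_tab (sm gf) Qf (tab Gen.f) 2752 [(2752, 2752), (2753, 2753), (2754, 2249), (2755, 3372), (2756, 2362), (2757, 2757), (2758, 2251), (2759, 3379), (2760, 3380), (2761, 3383), (2762, 2368), (2763, 2763), (2764, 2255), (2765, 2371), (2766, 3390), (2767, 2373), (2768, 2768), (2769, 2259), (2770, 2260), (2771, 3398), (2772, 3397), (2773, 2261), (2774, 3401), (2775, 2381), (2776, 2382), (2777, 2777), (2778, 2266), (2779, 3406), (2780, 3407), (2781, 2387), (2782, 2388), (2783, 2414), (2784, 2784), (2785, 2271), (2786, 3417), (2787, 3418), (2788, 2419), (2789, 3424), (2790, 2421), (2791, 2791), (2792, 2275), (2793, 2276), (2794, 3432), (2795, 3431), (2796, 2277), (2797, 3435), (2798, 2429), (2799, 2430), (2800, 2800), (2801, 3440), (2802, 2433), (2803, 2282), (2804, 3444), (2805, 2436), (2806, 2437), (2807, 2807), (2808, 2808), (2809, 3452), (2810, 2288), (2811, 2287), (2812, 3456), (2813, 3454), (2814,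 2290), (2815, 2408)]
    ⟨e3 q2752 L47327 q2752, e3 q2753 L47334 q2753, e3 q2754 (flp_f L47338) q2249, e3 q2755 (flp_f L64670) q3372, e3 q2756 L47364 q2362, e3 q2757 L47375 q2757, e3 q2758 L47382 q2251, e3 q2759 (flp_f L64734) q3379, e3 q2760 (flp_f L64743) q3380, e3 q2761 L64762 q3383, e3 q2762 L47416 q2368, e3 q2763 L47422 q2763, e3 q2764 L47429 q2255, e3 q2765 L47437 q2371, e3 q2766 L64824 q3390, e3 q2767 L47461 q2373, e3 q2768 L47469 q2768, e3 q2769 L47476 q2259, e3 q2770 L47485 q2260, e3 q2771 L64895 q3398, e3 q2772 (flp_f L64893) q3397, e3 q2773 (flp_f L47504) q2261, e3 q2774 (flp_f L64924) q3401, e3 q2775 L47526 q2381, e3 q2776 L47535 q2382, e3 q2777 L47543 q2777, e3 q2778 L47553 q2266, e3 q2779 (flp_f L64960) q3406, e3 q2780 (flp_f L64970) q3407, e3 q2781 L47574 q2387, e3 q2782 L47583 q2388, e3 q2783 L47591 q2414, e3 q2784 L47600 q2784, e3 q2785 L47605 q2271, e3 q2786 (flp_f L65047) q3417, e3 q2787 (flp_f L65054) q3418, e3 q2788 L47626 q2419, e3 q2789 L65098 q3424, e3 q2790 L47651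 q2421, e3 q2791 L47659 q2791, e3 q2792 L47666 q2275, e3 q2793 L47676 q2276, e3 q2794 L65172 q3432, e3 q2795 (flp_f L65170) q3431, e3 q2796 (flp_f L47697) q2277, e3 q2797 (flp_f L65204) q3435, e3 q2798 L47720 q2429, e3 q2799 L47731 q2430, e3 q2800 L47740 q2800, e3 q2801 L65245 q3440, e3 q2802 L47759 q2433, e3 q2803 (flp_f L47761) q2282, e3 q2804 (flp_f L65282) q3444, e3 q2805 L47780 q2436, e3 q2806 L47788 q2437, e3 q2807 L47794 q2807, e3 q2808 L47803 q2808, e3 q2809 L65330 q3452, e3 q2810 L47817 q2288, e3 q2811 (flp_f L47819) q2287, e3 q2812 (flp_f L65361) q3456, e3 q2813 (flp_f L65344) q3454, e3 q2814 L47845 q2290, e3 q2815 L109109 q2408, trivial⟩ (by decide +kernel)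

theorem ce_f_44 : ∀ r, r < 64 → sm gf (Qf (2816 + r)) = Qf (tab Gen.f (2816 + r)) :=
  edges_tab (sm gf) Qf (tab Gen.f) 2816 [(2816, 3458), (2817, 2446), (2818, 2447), (2819, 2296), (2820, 2356), (2821, 2412), (2822, 2448), (2823, 2449), (2824, 2464), (2825, 3470), (2826, 2466), (2827, 2454), (2828, 2302), (2829, 2303), (2830, 3474), (2831, 3476), (2832, 3478), (2833, 2468), (2834, 2305), (2835, 2456), (2836, 2469), (2837, 2459), (2838, 2838), (2839, 2310), (2840, 2396), (2841, 2470), (2842, 2314), (2843, 3490), (2844, 2472), (2845, 2473), (2846, 2460), (2847, 2474), (2848, 2848), (2849, 2674), (2850, 2850), (2851, 2401), (2852, 2475), (2853, 2352), (2854, 2476), (2855, 3503), (2856, 2326), (2857, 3506), (2858, 2858), (2859, 2859), (2860, 2328), (2861, 3512), (2862, 2862), (2863, 2331), (2864, 2606), (2865, 3514), (2866, 3517), (2867, 2867), (2868, 2868), (2869, 2335), (2870, 2336), (2871, 3522), (2872, 2872), (2873, 2873), (2874, 2874), (2875, 2340), (2876, 3529), (2877, 2680), (2878,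 2878), (2879, 2342)]
    ⟨e3 q2816 (flp_f L65385) q3458, e3 q2817 L47871 q2446, e3 q2818 L47882 q2447, e3 q2819 L47895 q2296, e3 q2820 L109105 q2356, e3 q2821 L109139 q2412, e3 q2822 L47918 q2448, e3 q2823 L47927 q2449, e3 q2824 L47943 q2464, e3 q2825 L65530 q3470, e3 q2826 L47964 q2466, e3 q2827 L112128 q2454, e3 q2828 L47980 q2302, e3 q2829 L47988 q2303, e3 q2830 (flp_f L65592) q3474, e3 q2831 (flp_f L65610) q3476, e3 q2832 L65632 q3478, e3 q2833 L48024 q2468, e3 q2834 (flp_f L48026) q2305, e3 q2835 L111249 q2456, e3 q2836 L48052 q2469, e3 q2837 (flp_f L83310) q2459, e3 q2838 L48094 q2838, e3 q2839 L48102 q2310, e3 q2840 (flp_f L104637) q2396, e3 q2841 L48147 q2470, e3 q2842 (flp_f L48158) q2314, e3 q2843 (flp_f L65828) q3490, e3 q2844 L48176 q2472, e3 q2845 L48184 q2473, e3 q2846 (flp_f L110712) q2460, e3 q2847 L48217 q2474, e3 q2848 L48226 q2848, e3 q2849 L90380 q2674, e3 q2850 L48257 q2850, e3 q2851 (flp_f L92138) q2401, e3 q2852 L48304 q2475, e3 q2853 L104037 q2352, e3 q2854 L48371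 q2476, e3 q2855 L66132 q3503, e3 q2856 (flp_f L48398) q2326, e3 q2857 (flp_f L66175) q3506, e3 q2858 L48423 q2858, e3 q2859 L48433 q2859, e3 q2860 L48440 q2328, e3 q2861 (flp_f L66233) q3512, e3 q2862 L48461 q2862, e3 q2863 L48476 q2331, e3 q2864 L119487 q2606, e3 q2865 (flp_f L66282) q3514, e3 q2866 L66302 q3517, e3 q2867 L48508 q2867, e3 q2868 L48513 q2868, e3 q2869 L48524 q2335, e3 q2870 (flp_f L48527) q2336, e3 q2871 (flp_f L66350) q3522, e3 q2872 L48549 q2872, e3 q2873 L48560 q2873, e3 q2874 L48569 q2874, e3 q2875 (flp_f L48573) q2340, e3 q2876 (flp_f L66423) q3529, e3 q2877 L48604 q2680, e3 q2878 L48616 q2878, e3 q2879 L48623 q2342, trivial⟩ (by decide +kernel)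

theorem ce_f_45 : ∀ r, r < 64 → sm gf (Qf (2880 + r)) = Qf (tab Gen.f (2880 + r)) :=
  edges_tab (sm gf) Qf (tab Gen.f) 2880 [(2880, 3536), (2881, 3537), (2882, 3502), (2883, 2684), (2884, 2884), (2885, 2346), (2886, 2686), (2887, 3500), (2888, 2687), (2889, 2889), (2890, 2350), (2891, 2351), (2892, 3551), (2893, 3550), (2894, 3463), (2895, 2692), (2896, 2693), (2897, 2897), (2898, 3408), (2899, 3464), (2900, 2385), (2901, 2694), (2902, 3370), (2903, 2903), (2904, 2361), (2905, 3566), (2906, 3567), (2907, 3375), (2908, 3573), (2909, 3377), (2910, 2910), (2911, 2365), (2912, 2366), (2913, 3581), (2914, 3580), (2915, 2367), (2916, 3584), (2917, 3385), (2918, 3386), (2919, 2919), (2920, 3589), (2921, 3389), (2922, 2372), (2923, 3593), (2924, 3392), (2925, 3393), (2926, 2926), (2927, 2927), (2928, 3601), (2929, 2378), (2930, 2377), (2931, 3605), (2932, 3603), (2933, 2380), (2934, 3559), (2935, 3607), (2936, 3404), (2937, 3405), (2938, 2386), (2939, 3560), (2940, 3410), (2941, 3411), (2942,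 3412), (2943, 2695)]
    ⟨e3 q2880 (flp_f L66491) q3536, e3 q2881 (flp_f L66501) q3537, e3 q2882 (flp_f L103143) q3502, e3 q2883 L48662 q2684, e3 q2884 L48670 q2884, e3 q2885 L48679 q2346, e3 q2886 L48687 q2686, e3 q2887 (flp_f L104327) q3500, e3 q2888 L48712 q2687, e3 q2889 L48720 q2889, e3 q2890 L48727 q2350, e3 q2891 L48737 q2351, e3 q2892 L66668 q3551, e3 q2893 (flp_f L66666) q3550, e3 q2894 (flp_f L104046) q3463, e3 q2895 L48779 q2692, e3 q2896 L48788 q2693, e3 q2897 L48796 q2897, e3 q2898 (flp_f L93139) q3408, e3 q2899 (flp_f L109019) q3464, e3 q2900 (flp_f L93050) q2385, e3 q2901 L48846 q2694, e3 q2902 (flp_f L64652) q3370, e3 q2903 L48862 q2903, e3 q2904 L48869 q2361, e3 q2905 (flp_f L66837) q3566, e3 q2906 (flp_f L66847) q3567, e3 q2907 (flp_f L64695) q3375, e3 q2908 L66891 q3573, e3 q2909 (flp_f L64719) q3377, e3 q2910 L48916 q2910, e3 q2911 L48923 q2365, e3 q2912 L48934 q2366, e3 q2913 L66955 q3581, e3 q2914 (flp_f L66953) q3580, e3 q2915 (flp_f L48952) q2367, e3 q2916 (flp_f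 L66983) q3584, e3 q2917 (flp_f L64784) q3385, e3 q2918 (flp_f L64793) q3386, e3 q2919 L48983 q2919, e3 q2920 L67014 q3589, e3 q2921 (flp_f L64822) q3389, e3 q2922 (flp_f L49002) q2372, e3 q2923 (flp_f L67050) q3593, e3 q2924 (flp_f L64849) q3392, e3 q2925 (flp_f L64859) q3393, e3 q2926 L49035 q2926, e3 q2927 L49047 q2927, e3 q2928 L67103 q3601, e3 q2929 L49064 q2378, e3 q2930 (flp_f L49066) q2377, e3 q2931 (flp_f L67141) q3605, e3 q2932 (flp_f L67124) q3603, e3 q2933 L49094 q2380, e3 q2934 L103621 q3559, e3 q2935 (flp_f L67165) q3607, e3 q2936 (flp_f L64947) q3404, e3 q2937 (flp_f L64956) q3405, e3 q2938 L49133 q2386, e3 q2939 (flp_f L104009) q3560, e3 q2940 (flp_f L64993) q3410, e3 q2941 (flp_f L65002) q3411, e3 q2942 (flp_f L65006) q3412, e3 q2943 L49175 q2695, trivial⟩ (by decide +kernel)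

theorem ce_f_46 : ∀ r, r < 64 → sm gf (Qf (2944 + r)) = Qf (tab Gen.f (2944 + r)) :=
  edges_tab (sm gf) Qf (tab Gen.f) 2944 [(2944, 2944), (2945, 2390), (2946, 3621), (2947, 3622), (2948, 2699), (2949, 3487), (2950, 2700), (2951, 2951), (2952, 2394), (2953, 2395), (2954, 3635), (2955, 3634), (2956, 3436), (2957, 2428), (2958, 2705), (2959, 2959), (2960, 3496), (2961, 2706), (2962, 3459), (2963, 2707), (2964, 2708), (2965, 2965), (2966, 2966), (2967, 3649), (2968, 2407), (2969, 2406), (2970, 3653), (2971, 3651), (2972, 3460), (2973, 2435), (2974, 2445), (2975, 3413), (2976, 3659), (2977, 3415), (2978, 2978), (2979, 2417), (2980, 2418), (2981, 3665), (2982, 3670), (2983, 3667), (2984, 3673), (2985, 3423), (2986, 2420), (2987, 3639), (2988, 3426), (2989, 3427), (2990, 2990), (2991, 2991), (2992, 3684), (2993, 2426), (2994, 2425), (2995, 3688), (2996, 3686), (2997, 3640), (2998, 3438), (2999, 3439), (3000, 2432), (3001, 3693), (3002, 3442), (3003, 3443), (3004, 3645), (3005, 3655), (3006,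 3447), (3007, 3704)]
    ⟨e3 q2944 L49187 q2944, e3 q2945 L49194 q2390, e3 q2946 (flp_f L67302) q3621, e3 q2947 (flp_f L67312) q3622, e3 q2948 L49218 q2699, e3 q2949 (flp_f L104640) q3487, e3 q2950 L49244 q2700, e3 q2951 L49252 q2951, e3 q2952 L49259 q2394, e3 q2953 L49270 q2395, e3 q2954 L67438 q3635, e3 q2955 (flp_f L67436) q3634, e3 q2956 (flp_f L91670) q3436, e3 q2957 (flp_f L104696) q2428, e3 q2958 L49334 q2705, e3 q2959 L49345 q2959, e3 q2960 (flp_f L110601) q3496, e3 q2961 L49366 q2706, e3 q2962 (flp_f L92132) q3459, e3 q2963 L49387 q2707, e3 q2964 L49395 q2708, e3 q2965 L49401 q2965, e3 q2966 L49411 q2966, e3 q2967 L67609 q3649, e3 q2968 L49426 q2407, e3 q2969 (flp_f L49428) q2406, e3 q2970 (flp_f L67643) q3653, e3 q2971 (flp_f L67624) q3651, e3 q2972 L94312 q3460, e3 q2973 L103606 q2435, e3 q2974 (flp_f L94340) q2445, e3 q2975 (flp_f L65015) q3413, e3 q2976 L67821 q3659, e3 q2977 (flp_f L65034) q3415, e3 q2978 L49583 q2978, e3 q2979 L49590 q2417, e3 q2980 L49598 q2418, e3 q2981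 (flp_f L67862) q3665, e3 q2982 L67898 q3670, e3 q2983 (flp_f L67880) q3667, e3 q2984 L67918 q3673, e3 q2985 (flp_f L65096) q3423, e3 q2986 (flp_f L49639) q2420, e3 q2987 L94211 q3639, e3 q2988 (flp_f L65123) q3426, e3 q2989 (flp_f L65133) q3427, e3 q2990 L49672 q2990, e3 q2991 L49685 q2991, e3 q2992 L68014 q3684, e3 q2993 L49704 q2426, e3 q2994 (flp_f L49706) q2425, e3 q2995 (flp_f L68057) q3688, e3 q2996 (flp_f L68038) q3686, e3 q2997 L104722 q3640, e3 q2998 (flp_f L65232) q3438, e3 q2999 (flp_f L65243) q3439, e3 q3000 (flp_f L49773) q2432, e3 q3001 (flp_f L68138) q3693, e3 q3002 (flp_f L65264) q3442, e3 q3003 (flp_f L65273) q3443, e3 q3004 (flp_f L103519) q3645, e3 q3005 L103538 q3655, e3 q3006 (flp_f L65302) q3447, e3 q3007 L68215 q3704, trivial⟩ (by decide +kernel)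

theorem ce_f_47 : ∀ r, r < 64 → sm gf (Qf (3008 + r)) = Qf (tab Gen.f (3008 + r)) :=
  edges_tab (sm gf) Qf (tab Gen.f) 3008 [(3008, 3449), (3009, 3707), (3010, 3010), (3011, 2440), (3012, 3711), (3013, 2444), (3014, 3014), (3015, 2443), (3016, 3714), (3017, 3461), (3018, 3462), (3019, 3465), (3020, 3466), (3021, 2714), (3022, 3471), (3023, 2465), (3024, 2453), (3025, 3723), (3026, 3473), (3027, 3482), (3028, 2715), (3029, 2467), (3030, 2677), (3031, 3491), (3032, 2471), (3033, 2716), (3034, 2619), (3035, 3467), (3036, 3722), (3037, 3469), (3038, 3472), (3039, 3727), (3040, 3480), (3041, 3481), (3042, 3483), (3043, 3488), (3044, 3732), (3045, 3493), (3046, 3495), (3047, 3498), (3048, 3501), (3049, 3049), (3050, 3050), (3051, 3051), (3052, 3052), (3053, 2481), (3054, 3755), (3055, 2483), (3056, 3759), (3057, 3754), (3058, 2482), (3059, 3763), (3060, 3757), (3061, 3061), (3062, 3768), (3063, 3063), (3064, 3771), (3065, 3065), (3066, 2488), (3067, 3775), (3068, 2492), (3069, 3069), (3070,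 2491), (3071, 3778)]
    ⟨e3 q3008 (flp_f L65314) q3449, e3 q3009 L68227 q3707, e3 q3010 L49842 q3010, e3 q3011 (flp_f L49845) q2440, e3 q3012 (flp_f L68265) q3711, e3 q3013 L49863 q2444, e3 q3014 L49873 q3014, e3 q3015 L49878 q2443, e3 q3016 (flp_f L68286) q3714, e3 q3017 (flp_f L65410) q3461, e3 q3018 (flp_f L65421) q3462, e3 q3019 (flp_f L65484) q3465, e3 q3020 (flp_f L65493) q3466, e3 q3021 L50012 q2714, e3 q3022 (flp_f L102592) q3471, e3 q3023 L102725 q2465, e3 q3024 L50056 q2453, e3 q3025 (flp_f L68549) q3723, e3 q3026 L112216 q3473, e3 q3027 (flp_f L110607) q3482, e3 q3028 L50118 q2715, e3 q3029 (flp_f L110571) q2467, e3 q3030 (flp_f L106209) q2677, e3 q3031 (flp_f L84722) q3491, e3 q3032 L110706 q2471, e3 q3033 L50300 q2716, e3 q3034 (flp_f L106196) q2619, e3 q3035 (flp_f L65508) q3467, e3 q3036 (flp_f L102730) q3722, e3 q3037 (flp_f L65528) q3469, e3 q3038 (flp_f L65555) q3472, e3 q3039 L102382 q3727, e3 q3040 (flp_f L65653) q3480, e3 q3041 (flp_f L65662) q3481, e3 q3042 (flp_f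 L65700) q3483, e3 q3043 (flp_f L65795) q3488, e3 q3044 (flp_f L110683) q3732, e3 q3045 (flp_f L65849) q3493, e3 q3046 (flp_f L65865) q3495, e3 q3047 (flp_f L65911) q3498, e3 q3048 (flp_f L66031) q3501, e3 q3049 L50956 q3049, e3 q3050 L50965 q3050, e3 q3051 L50972 q3051, e3 q3052 L50982 q3052, e3 q3053 L50989 q2481, e3 q3054 L69791 q3755, e3 q3055 L51007 q2483, e3 q3056 L69822 q3759, e3 q3057 (flp_f L69789) q3754, e3 q3058 (flp_f L51023) q2482, e3 q3059 (flp_f L69860) q3763, e3 q3060 (flp_f L69812) q3757, e3 q3061 L51081 q3061, e3 q3062 L69939 q3768, e3 q3063 L51098 q3063, e3 q3064 L69962 q3771, e3 q3065 L51113 q3065, e3 q3066 (flp_f L51116) q2488, e3 q3067 (flp_f L70001) q3775, e3 q3068 L51134 q2492, e3 q3069 L51146 q3069, e3 q3070 L51152 q2491, e3 q3071 (flp_f L70023) q3778, trivial⟩ (by decide +kernel)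

theorem ce_f_48 : ∀ r, r < 64 → sm gf (Qf (3072 + r)) = Qf (tab Gen.f (3072 + r)) :=
  edges_tab (sm gf) Qf (tab Gen.f) 3072 [(3072, 3072), (3073, 3073), (3074, 3074), (3075, 3785), (3076, 3076), (3077, 2496), (3078, 3789), (3079, 3079), (3080, 2498), (3081, 3792), (3082, 3082), (3083, 3791), (3084, 2501), (3085, 3795), (3086, 3086), (3087, 2505), (3088, 3798), (3089, 3089), (3090, 3090), (3091, 3091), (3092, 3092), (3093, 2669), (3094, 2513), (3095, 2594), (3096, 2600), (3097, 3497), (3098, 3098), (3099, 3099), (3100, 2518), (3101, 3804), (3102, 2565), (3103, 3103), (3104, 2522), (3105, 3808), (3106, 2573), (3107, 2526), (3108, 3692), (3109, 2582), (3110, 3110), (3111, 2554), (3112, 3112), (3113, 3113), (3114, 2531), (3115, 2532), (3116, 3817), (3117, 3822), (3118, 3819), (3119, 2558), (3120, 3120), (3121, 3121), (3122, 3122), (3123, 3830), (3124, 2540), (3125, 2539), (3126, 3834), (3127, 3832), (3128, 2563), (3129, 3129), (3130, 3130), (3131, 3837), (3132, 3838), (3133, 2545), (3134,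 3840), (3135, 2549)]
    ⟨e3 q3072 L51199 q3072, e3 q3073 L51208 q3073, e3 q3074 L51260 q3074, e3 q3075 L70194 q3785, e3 q3076 L51274 q3076, e3 q3077 (flp_f L51275) q2496, e3 q3078 (flp_f L70225) q3789, e3 q3079 L51292 q3079, e3 q3080 (flp_f L51295) q2498, e3 q3081 (flp_f L70245) q3792, e3 q3082 L51311 q3082, e3 q3083 (flp_f L70239) q3791, e3 q3084 L51329 q2501, e3 q3085 (flp_f L70268) q3795, e3 q3086 L51342 q3086, e3 q3087 L51348 q2505, e3 q3088 (flp_f L70289) q3798, e3 q3089 L51411 q3089, e3 q3090 L51420 q3090, e3 q3091 L51492 q3091, e3 q3092 L51555 q3092, e3 q3093 (flp_f L118542) q2669, e3 q3094 (flp_f L52037) q2513, e3 q3095 (flp_f L118583) q2594, e3 q3096 (flp_f L119418) q2600, e3 q3097 (flp_f L118473) q3497, e3 q3098 L52268 q3098, e3 q3099 L52278 q3099, e3 q3100 L52286 q2518, e3 q3101 (flp_f L71544) q3804, e3 q3102 L118832 q2565, e3 q3103 L52310 q3103, e3 q3104 L52346 q2522, e3 q3105 L71661 q3808, e3 q3106 (flp_f L119437) q2573, e3 q3107 (flp_f L52498) q2526, e3 q3108 (flp_f L118437)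 q3692, e3 q3109 (flp_f L119554) q2582, e3 q3110 L52614 q3110, e3 q3111 L117596 q2554, e3 q3112 L52633 q3112, e3 q3113 L52641 q3113, e3 q3114 L52650 q2531, e3 q3115 L52659 q2532, e3 q3116 (flp_f L72057) q3817, e3 q3117 L72094 q3822, e3 q3118 (flp_f L72075) q3819, e3 q3119 (flp_f L119530) q2558, e3 q3120 L52697 q3120, e3 q3121 L52720 q3121, e3 q3122 L52734 q3122, e3 q3123 L72209 q3830, e3 q3124 L52759 q2540, e3 q3125 (flp_f L52761) q2539, e3 q3126 (flp_f L72243) q3834, e3 q3127 (flp_f L72228) q3832, e3 q3128 (flp_f L116490) q2563, e3 q3129 L52844 q3129, e3 q3130 L52852 q3130, e3 q3131 L72416 q3837, e3 q3132 L72436 q3838, e3 q3133 (flp_f L52915) q2545, e3 q3134 (flp_f L72473) q3840, e3 q3135 L52934 q2549, trivial⟩ (by decide +kernel)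

theorem ce_f_49 : ∀ r, r < 64 → sm gf (Qf (3136 + r)) = Qf (tab Gen.f (3136 + r)) :=
  edges_tab (sm gf) Qf (tab Gen.f) 3136 [(3136, 3136), (3137, 2548), (3138, 3843), (3139, 3139), (3140, 2553), (3141, 3847), (3142, 3851), (3143, 3813), (3144, 3144), (3145, 3855), (3146, 2557), (3147, 3857), (3148, 3825), (3149, 3149), (3150, 2560), (3151, 3151), (3152, 2562), (3153, 3860), (3154, 3154), (3155, 3807), (3156, 3156), (3157, 3157), (3158, 3158), (3159, 2570), (3160, 3873), (3161, 2572), (3162, 3877), (3163, 3872), (3164, 2571), (3165, 3881), (3166, 3875), (3167, 3810), (3168, 3168), (3169, 3169), (3170, 3886), (3171, 3887), (3172, 2577), (3173, 3889), (3174, 2581), (3175, 3175), (3176, 2580), (3177, 3892), (3178, 3553), (3179, 3894), (3180, 3180), (3181, 2585), (3182, 2586), (3183, 3897), (3184, 2588), (3185, 3899), (3186, 3186), (3187, 2592), (3188, 3902), (3189, 3189), (3190, 3801), (3191, 3191), (3192, 3192), (3193, 2670), (3194, 2598), (3195, 3914), (3196, 3916), (3197, 2599), (3198,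 3507), (3199, 3199)]
    ⟨e3 q3136 L52942 q3136, e3 q3137 L52949 q2548, e3 q3138 (flp_f L72496) q3843, e3 q3139 L53034 q3139, e3 q3140 L53066 q2553, e3 q3141 (flp_f L72642) q3847, e3 q3142 L72671 q3851, e3 q3143 (flp_f L118794) q3813, e3 q3144 L53111 q3144, e3 q3145 L72791 q3855, e3 q3146 (flp_f L53181) q2557, e3 q3147 (flp_f L72827) q3857, e3 q3148 (flp_f L119559) q3825, e3 q3149 L53276 q3149, e3 q3150 (flp_f L53328) q2560, e3 q3151 L53349 q3151, e3 q3152 L53354 q2562, e3 q3153 (flp_f L73051) q3860, e3 q3154 L53470 q3154, e3 q3155 (flp_f L118700) q3807, e3 q3156 L53484 q3156, e3 q3157 L53505 q3157, e3 q3158 L53518 q3158, e3 q3159 L53531 q2570, e3 q3160 L73296 q3873, e3 q3161 L53546 q2572, e3 q3162 L73321 q3877, e3 q3163 (flp_f L73294) q3872, e3 q3164 (flp_f L53563) q2571, e3 q3165 (flp_f L73354) q3881, e3 q3166 (flp_f L73312) q3875, e3 q3167 (flp_f L118406) q3810, e3 q3168 L53602 q3168, e3 q3169 L53612 q3169, e3 q3170 L73448 q3886, e3 q3171 L73471 q3887, e3 q3172 (flp_f L53674) q2577, e3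 q3173 (flp_f L73513) q3889, e3 q3174 L53696 q2581, e3 q3175 L53705 q3175, e3 q3176 L53713 q2580, e3 q3177 (flp_f L73539) q3892, e3 q3178 (flp_f L119543) q3553, e3 q3179 L73583 q3894, e3 q3180 L53770 q3180, e3 q3181 (flp_f L53799) q2585, e3 q3182 (flp_f L53816) q2586, e3 q3183 (flp_f L73656) q3897, e3 q3184 L53848 q2588, e3 q3185 (flp_f L73687) q3899, e3 q3186 L53861 q3186, e3 q3187 L53868 q2592, e3 q3188 (flp_f L73700) q3902, e3 q3189 L53877 q3189, e3 q3190 (flp_f L118607) q3801, e3 q3191 L53895 q3191, e3 q3192 L53923 q3192, e3 q3193 L53930 q2670, e3 q3194 L53938 q2598, e3 q3195 L73815 q3914, e3 q3196 L73833 q3916, e3 q3197 (flp_f L53958) q2599, e3 q3198 (flp_f L118625) q3507, e3 q3199 L53984 q3199, trivial⟩ (by decide +kernel)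

theorem ce_f_50 : ∀ r, r < 64 → sm gf (Qf (3200 + r)) = Qf (tab Gen.f (3200 + r)) :=
  edges_tab (sm gf) Qf (tab Gen.f) 3200 [(3200, 3200), (3201, 3920), (3202, 3202), (3203, 2604), (3204, 3516), (3205, 3921), (3206, 3206), (3207, 2609), (3208, 3923), (3209, 3209), (3210, 2613), (3211, 3928), (3212, 3212), (3213, 3729), (3214, 2617), (3215, 3931), (3216, 3731), (3217, 2621), (3218, 3218), (3219, 3935), (3220, 3220), (3221, 3939), (3222, 2628), (3223, 2625), (3224, 3943), (3225, 2631), (3226, 3945), (3227, 2627), (3228, 3949), (3229, 3941), (3230, 3230), (3231, 2630), (3232, 3953), (3233, 2632), (3234, 3956), (3235, 3235), (3236, 3955), (3237, 2635), (3238, 3959), (3239, 3239), (3240, 2639), (3241, 3962), (3242, 2643), (3243, 2641), (3244, 3965), (3245, 3964), (3246, 2645), (3247, 3968), (3248, 3248), (3249, 2648), (3250, 3361), (3251, 2649), (3252, 3972), (3253, 3973), (3254, 3254), (3255, 2651), (3256, 3977), (3257, 3257), (3258, 3258), (3259, 2655), (3260, 3981), (3261, 3261), (3262,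 2658), (3263, 3351)]
    ⟨e3 q3200 L53991 q3200, e3 q3201 L73942 q3920, e3 q3202 L112409 q3202, e3 q3203 (flp_f L54036) q2604, e3 q3204 (flp_f L119495) q3516, e3 q3205 L74060 q3921, e3 q3206 L54119 q3206, e3 q3207 (flp_f L54156) q2609, e3 q3208 L74193 q3923, e3 q3209 L54241 q3209, e3 q3210 (flp_f L54242) q2613, e3 q3211 (flp_f L74232) q3928, e3 q3212 L54264 q3212, e3 q3213 (flp_f L102391) q3729, e3 q3214 L54276 q2617, e3 q3215 (flp_f L74256) q3931, e3 q3216 (flp_f L106189) q3731, e3 q3217 L54297 q2621, e3 q3218 L54303 q3218, e3 q3219 L74288 q3935, e3 q3220 L54322 q3220, e3 q3221 L74319 q3939, e3 q3222 L54336 q2628, e3 q3223 (flp_f L54338) q2625, e3 q3224 (flp_f L74356) q3943, e3 q3225 L54359 q2631, e3 q3226 L74365 q3945, e3 q3227 (flp_f L54369) q2627, e3 q3228 (flp_f L74399) q3949, e3 q3229 (flp_f L74338) q3941, e3 q3230 L54395 q3230, e3 q3231 L54403 q2630, e3 q3232 (flp_f L74430) q3953, e3 q3233 (flp_f L54413) q2632, e3 q3234 (flp_f L74455) q3956, e3 q3235 L54432 q3235, e3 q3236 (flp_f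 L74447) q3955, e3 q3237 L54450 q2635, e3 q3238 (flp_f L74480) q3959, e3 q3239 L54464 q3239, e3 q3240 L54471 q2639, e3 q3241 (flp_f L74499) q3962, e3 q3242 L54486 q2643, e3 q3243 L54493 q2641, e3 q3244 (flp_f L74524) q3965, e3 q3245 (flp_f L74516) q3964, e3 q3246 L54515 q2645, e3 q3247 (flp_f L74543) q3968, e3 q3248 L54525 q3248, e3 q3249 L54531 q2648, e3 q3250 (flp_f L120981) q3361, e3 q3251 (flp_f L54541) q2649, e3 q3252 (flp_f L74594) q3972, e3 q3253 (flp_f L74603) q3973, e3 q3254 L54570 q3254, e3 q3255 L54578 q2651, e3 q3256 (flp_f L74635) q3977, e3 q3257 L54594 q3257, e3 q3258 L54605 q3258, e3 q3259 L54614 q2655, e3 q3260 (flp_f L74667) q3981, e3 q3261 L54631 q3261, e3 q3262 L54639 q2658, e3 q3263 (flp_f L121022) q3351, trivial⟩ (by decide +kernel)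

theorem ce_f_51 : ∀ r, r < 64 → sm gf (Qf (3264 + r)) = Qf (tab Gen.f (3264 + r)) :=
  edges_tab (sm gf) Qf (tab Gen.f) 3264 [(3264, 2665), (3265, 2664), (3266, 3984), (3267, 2667), (3268, 3911), (3269, 3269), (3270, 3485), (3271, 2675), (3272, 3724), (3273, 3527), (3274, 2679), (3275, 3989), (3276, 3990), (3277, 3532), (3278, 3534), (3279, 2682), (3280, 2683), (3281, 3999), (3282, 3998), (3283, 3541), (3284, 3542), (3285, 3544), (3286, 3546), (3287, 3547), (3288, 4009), (3289, 2691), (3290, 2690), (3291, 4013), (3292, 4011), (3293, 3556), (3294, 3557), (3295, 3561), (3296, 3617), (3297, 3619), (3298, 2697), (3299, 2698), (3300, 4021), (3301, 4026), (3302, 4023), (3303, 3627), (3304, 3629), (3305, 3630), (3306, 4033), (3307, 2704), (3308, 2703), (3309, 4037), (3310, 4035), (3311, 3641), (3312, 3642), (3313, 4041), (3314, 3647), (3315, 2709), (3316, 4045), (3317, 2713), (3318, 3318), (3319, 2712), (3320, 4048), (3321, 3719), (3322, 3721), (3323, 3728), (3324, 2719), (3325, 4054), (3326,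 2721), (3327, 4058)]
    ⟨e3 q3264 (flp_f L82728) q2665, e3 q3265 L56848 q2664, e3 q3266 L121072 q3984, e3 q3267 (flp_f L59147) q2667, e3 q3268 (flp_f L73793) q3911, e3 q3269 L96835 q3269, e3 q3270 (flp_f L120738) q3485, e3 q3271 (flp_f L59615) q2675, e3 q3272 (flp_f L120880) q3724, e3 q3273 (flp_f L66400) q3527, e3 q3274 L60869 q2679, e3 q3275 (flp_f L121126) q3989, e3 q3276 (flp_f L121137) q3990, e3 q3277 (flp_f L66451) q3532, e3 q3278 (flp_f L66476) q3534, e3 q3279 L60923 q2682, e3 q3280 L60933 q2683, e3 q3281 L121198 q3999, e3 q3282 (flp_f L121196) q3998, e3 q3283 (flp_f L66549) q3541, e3 q3284 (flp_f L66560) q3542, e3 q3285 (flp_f L66593) q3544, e3 q3286 (flp_f L66620) q3546, e3 q3287 (flp_f L66630) q3547, e3 q3288 L121262 q4009, e3 q3289 L61068 q2691, e3 q3290 (flp_f L61070) q2690, e3 q3291 (flp_f L121297) q4013, e3 q3292 (flp_f L121282) q4011, e3 q3293 (flp_f L66722) q3556, e3 q3294 (flp_f L66731) q3557, e3 q3295 (flp_f L66793) q3561, e3 q3296 (flp_f L67263) q3617, e3 q3297 (flp_f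 L67287) q3619, e3 q3298 L61215 q2697, e3 q3299 L61224 q2698, e3 q3300 (flp_f L121345) q4021, e3 q3301 L121382 q4026, e3 q3302 (flp_f L121363) q4023, e3 q3303 (flp_f L67360) q3627, e3 q3304 (flp_f L67387) q3629, e3 q3305 (flp_f L67397) q3630, e3 q3306 L121425 q4033, e3 q3307 L61326 q2704, e3 q3308 (flp_f L61328) q2703, e3 q3309 (flp_f L121465) q4037, e3 q3310 (flp_f L121448) q4035, e3 q3311 (flp_f L67541) q3641, e3 q3312 (flp_f L67551) q3642, e3 q3313 L121486 q4041, e3 q3314 (flp_f L67592) q3647, e3 q3315 (flp_f L61470) q2709, e3 q3316 (flp_f L121511) q4045, e3 q3317 L61487 q2713, e3 q3318 L61495 q3318, e3 q3319 L61500 q2712, e3 q3320 (flp_f L121531) q4048, e3 q3321 (flp_f L68452) q3719, e3 q3322 (flp_f L68476) q3721, e3 q3323 (flp_f L68648) q3728, e3 q3324 L62369 q2719, e3 q3325 L121565 q4054, e3 q3326 L62387 q2721, e3 q3327 L121596 q4058, trivial⟩ (by decide +kernel)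

theorem ce_f_52 : ∀ r, r < 64 → sm gf (Qf (3328 + r)) = Qf (tab Gen.f (3328 + r)) :=
  edges_tab (sm gf) Qf (tab Gen.f) 3328 [(3328, 4053), (3329, 2720), (3330, 4062), (3331, 4056), (3332, 2722), (3333, 4065), (3334, 2726), (3335, 3335), (3336, 2725), (3337, 4068), (3338, 3788), (3339, 2728), (3340, 4071), (3341, 3341), (3342, 2732), (3343, 4074), (3344, 2733), (3345, 4077), (3346, 3346), (3347, 3347), (3348, 2735), (3349, 4082), (3350, 4083), (3351, 3263), (3352, 3352), (3353, 3353), (3354, 2739), (3355, 3355), (3356, 3356), (3357, 2743), (3358, 2744), (3359, 4095), (3360, 4094), (3361, 3250), (3362, 3362), (3363, 3363), (3364, 3364), (3365, 2750), (3366, 4102), (3367, 4103), (3368, 3368), (3369, 3369), (3370, 2902), (3371, 3371), (3372, 2755), (3373, 4113), (3374, 4114), (3375, 2907), (3376, 4120), (3377, 2909), (3378, 3378), (3379, 2759), (3380, 2760), (3381, 4128), (3382, 4127), (3383, 2761), (3384, 4131), (3385, 2917), (3386, 2918), (3387, 3387), (3388, 4136), (3389, 2921), (3390,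 2766), (3391, 4140)]
    ⟨e3 q3328 (flp_f L121563) q4053, e3 q3329 (flp_f L62404) q2720, e3 q3330 (flp_f L121631) q4062, e3 q3331 (flp_f L121585) q4056, e3 q3332 (flp_f L62526) q2722, e3 q3333 (flp_f L121655) q4065, e3 q3334 L62543 q2726, e3 q3335 L62553 q3335, e3 q3336 L62559 q2725, e3 q3337 (flp_f L121676) q4068, e3 q3338 L120773 q3788, e3 q3339 L62787 q2728, e3 q3340 (flp_f L121699) q4071, e3 q3341 L62799 q3341, e3 q3342 L62805 q2732, e3 q3343 (flp_f L121717) q4074, e3 q3344 (flp_f L64414) q2733, e3 q3345 (flp_f L121743) q4077, e3 q3346 L64435 q3346, e3 q3347 L64444 q3347, e3 q3348 L64451 q2735, e3 q3349 (flp_f L121788) q4082, e3 q3350 (flp_f L121799) q4083, e3 q3351 L121022 q3263, e3 q3352 L64484 q3352, e3 q3353 L64489 q3353, e3 q3354 L64500 q2739, e3 q3355 L64525 q3355, e3 q3356 L64531 q3356, e3 q3357 L64537 q2743, e3 q3358 L64547 q2744, e3 q3359 L121912 q4095, e3 q3360 (flp_f L121910) q4094, e3 q3361 L120981 q3250, e3 q3362 L64586 q3362, e3 q3363 L64596 q3363, e3 q3364 L64604 q3364,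 e3 q3365 L64612 q2750, e3 q3366 (flp_f L121985) q4102, e3 q3367 (flp_f L121995) q4103, e3 q3368 L64634 q3368, e3 q3369 L64643 q3369, e3 q3370 L64652 q2902, e3 q3371 L64663 q3371, e3 q3372 L64670 q2755, e3 q3373 (flp_f L122083) q4113, e3 q3374 (flp_f L122092) q4114, e3 q3375 L64695 q2907, e3 q3376 L122139 q4120, e3 q3377 L64719 q2909, e3 q3378 L64727 q3378, e3 q3379 L64734 q2759, e3 q3380 L64743 q2760, e3 q3381 L122210 q4128, e3 q3382 (flp_f L122208) q4127, e3 q3383 (flp_f L64762) q2761, e3 q3384 (flp_f L122239) q4131, e3 q3385 L64784 q2917, e3 q3386 L64793 q2918, e3 q3387 L64801 q3387, e3 q3388 L122275 q4136, e3 q3389 L64822 q2921, e3 q3390 (flp_f L64824) q2766, e3 q3391 (flp_f L122321) q4140, trivial⟩ (by decide +kernel)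

theorem ce_f_53 : ∀ r, r < 64 → sm gf (Qf (3392 + r)) = Qf (tab Gen.f (3392 + r)) :=
  edges_tab (sm gf) Qf (tab Gen.f) 3392 [(3392, 2924), (3393, 2925), (3394, 3394), (3395, 3395), (3396, 4148), (3397, 2772), (3398, 2771), (3399, 4152), (3400, 4150), (3401, 2774), (3402, 4154), (3403, 4155), (3404, 2936), (3405, 2937), (3406, 2779), (3407, 2780), (3408, 2898), (3409, 4162), (3410, 2940), (3411, 2941), (3412, 2942), (3413, 2975), (3414, 4172), (3415, 2977), (3416, 3416), (3417, 2786), (3418, 2787), (3419, 4178), (3420, 4183), (3421, 4180), (3422, 4186), (3423, 2985), (3424, 2789), (3425, 4190), (3426, 2988), (3427, 2989), (3428, 3428), (3429, 3429), (3430, 4198), (3431, 2795), (3432, 2794), (3433, 4202), (3434, 4200), (3435, 2797), (3436, 2956), (3437, 4204), (3438, 2998), (3439, 2999), (3440, 2801), (3441, 4210), (3442, 3002), (3443, 3003), (3444, 2804), (3445, 4216), (3446, 4217), (3447, 3006), (3448, 4224), (3449, 3008), (3450, 4227), (3451, 3451), (3452, 2809), (3453, 4231), (3454,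 2813), (3455, 3455)]
    ⟨e3 q3392 L64849 q2924, e3 q3393 L64859 q2925, e3 q3394 L64867 q3394, e3 q3395 L64877 q3395, e3 q3396 L122383 q4148, e3 q3397 L64893 q2772, e3 q3398 (flp_f L64895) q2771, e3 q3399 (flp_f L122419) q4152, e3 q3400 (flp_f L122400) q4150, e3 q3401 L64924 q2774, e3 q3402 (flp_f L122433) q4154, e3 q3403 (flp_f L122443) q4155, e3 q3404 L64947 q2936, e3 q3405 L64956 q2937, e3 q3406 L64960 q2779, e3 q3407 L64970 q2780, e3 q3408 L93139 q2898, e3 q3409 (flp_f L122502) q4162, e3 q3410 L64993 q2940, e3 q3411 L65002 q2941, e3 q3412 L65006 q2942, e3 q3413 L65015 q2975, e3 q3414 L122581 q4172, e3 q3415 L65034 q2977, e3 q3416 L65040 q3416, e3 q3417 L65047 q2786, e3 q3418 L65054 q2787, e3 q3419 (flp_f L122633) q4178, e3 q3420 L122663 q4183, e3 q3421 (flp_f L122648) q4180, e3 q3422 L122687 q4186, e3 q3423 L65096 q2985, e3 q3424 (flp_f L65098) q2789, e3 q3425 (flp_f L122734) q4190, e3 q3426 L65123 q2988, e3 q3427 L65133 q2989, e3 q3428 L65141 q3428, e3 q3429 L65152 q3429, e3 q3430 L122796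 q4198, e3 q3431 L65170 q2795, e3 q3432 (flp_f L65172) q2794, e3 q3433 (flp_f L122837) q4202, e3 q3434 (flp_f L122816) q4200, e3 q3435 L65204 q2797, e3 q3436 L91670 q2956, e3 q3437 (flp_f L122855) q4204, e3 q3438 L65232 q2998, e3 q3439 L65243 q2999, e3 q3440 (flp_f L65245) q2801, e3 q3441 (flp_f L122919) q4210, e3 q3442 L65264 q3002, e3 q3443 L65273 q3003, e3 q3444 L65282 q2804, e3 q3445 (flp_f L122959) q4216, e3 q3446 (flp_f L122970) q4217, e3 q3447 L65302 q3006, e3 q3448 L123015 q4224, e3 q3449 L65314 q3008, e3 q3450 L123033 q4227, e3 q3451 L65327 q3451, e3 q3452 (flp_f L65330) q2809, e3 q3453 (flp_f L123067) q4231, e3 q3454 L65344 q2813, e3 q3455 L65355 q3455, trivial⟩ (by decide +kernel)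

theorem ce_f_54 : ∀ r, r < 64 → sm gf (Qf (3456 + r)) = Qf (tab Gen.f (3456 + r)) :=
  edges_tab (sm gf) Qf (tab Gen.f) 3456 [(3456, 2812), (3457, 4234), (3458, 2816), (3459, 2962), (3460, 2972), (3461, 3017), (3462, 3018), (3463, 2894), (3464, 2899), (3465, 3019), (3466, 3020), (3467, 3035), (3468, 4245), (3469, 3037), (3470, 2825), (3471, 3022), (3472, 3038), (3473, 3026), (3474, 2830), (3475, 3475), (3476, 2831), (3477, 4255), (3478, 2832), (3479, 4258), (3480, 3040), (3481, 3041), (3482, 3027), (3483, 3042), (3484, 3484), (3485, 3270), (3486, 3486), (3487, 2949), (3488, 3043), (3489, 3489), (3490, 2843), (3491, 3031), (3492, 4271), (3493, 3045), (3494, 3494), (3495, 3046), (3496, 2960), (3497, 3097), (3498, 3047), (3499, 3499), (3500, 2887), (3501, 3048), (3502, 2882), (3503, 2855), (3504, 4282), (3505, 3505), (3506, 2857), (3507, 3198), (3508, 4286), (3509, 3983), (3510, 3510), (3511, 3511), (3512, 2861), (3513, 3513), (3514, 2865), (3515, 4273), (3516, 3204), (3517, 2866), (3518,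 4295), (3519, 3519)]
    ⟨e3 q3456 L65361 q2812, e3 q3457 (flp_f L123086) q4234, e3 q3458 L65385 q2816, e3 q3459 L92132 q2962, e3 q3460 (flp_f L94312) q2972, e3 q3461 L65410 q3017, e3 q3462 L65421 q3018, e3 q3463 L104046 q2894, e3 q3464 L109019 q2899, e3 q3465 L65484 q3019, e3 q3466 L65493 q3020, e3 q3467 L65508 q3035, e3 q3468 L123182 q4245, e3 q3469 L65528 q3037, e3 q3470 (flp_f L65530) q2825, e3 q3471 L102592 q3022, e3 q3472 L65555 q3038, e3 q3473 (flp_f L112216) q3026, e3 q3474 L65592 q2830, e3 q3475 L65602 q3475, e3 q3476 L65610 q2831, e3 q3477 (flp_f L123283) q4255, e3 q3478 (flp_f L65632) q2832, e3 q3479 (flp_f L123316) q4258, e3 q3480 L65653 q3040, e3 q3481 L65662 q3041, e3 q3482 L110607 q3027, e3 q3483 L65700 q3042, e3 q3484 L65710 q3484, e3 q3485 L120738 q3270, e3 q3486 L65745 q3486, e3 q3487 L104640 q2949, e3 q3488 L65795 q3043, e3 q3489 L65824 q3489, e3 q3490 L65828 q2843, e3 q3491 L84722 q3031, e3 q3492 (flp_f L123442) q4271, e3 q3493 L65849 q3045, e3 q3494 L65859 q3494, e3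 q3495 L65865 q3046, e3 q3496 L110601 q2960, e3 q3497 L118473 q3097, e3 q3498 L65911 q3047, e3 q3499 L65919 q3499, e3 q3500 L104327 q2887, e3 q3501 L66031 q3048, e3 q3502 L103143 q2882, e3 q3503 (flp_f L66132) q2855, e3 q3504 (flp_f L123564) q4282, e3 q3505 L66158 q3505, e3 q3506 L66175 q2857, e3 q3507 L118625 q3198, e3 q3508 (flp_f L123609) q4286, e3 q3509 (flp_f L121060) q3983, e3 q3510 L66213 q3510, e3 q3511 L66220 q3511, e3 q3512 L66233 q2861, e3 q3513 L66259 q3513, e3 q3514 L66282 q2865, e3 q3515 (flp_f L123470) q4273, e3 q3516 L119495 q3204, e3 q3517 (flp_f L66302) q2866, e3 q3518 (flp_f L123712) q4295, e3 q3519 L66322 q3519, trivial⟩ (by decide +kernel)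

theorem ce_f_55 : ∀ r, r < 64 → sm gf (Qf (3520 + r)) = Qf (tab Gen.f (3520 + r)) :=
  edges_tab (sm gf) Qf (tab Gen.f) 3520 [(3520, 3520), (3521, 3521), (3522, 2871), (3523, 4300), (3524, 4301), (3525, 3525), (3526, 3526), (3527, 3273), (3528, 3528), (3529, 2876), (3530, 4310), (3531, 4311), (3532, 3277), (3533, 4280), (3534, 3278), (3535, 3535), (3536, 2880), (3537, 2881), (3538, 4322), (3539, 4321), (3540, 4240), (3541, 3283), (3542, 3284), (3543, 3543), (3544, 3285), (3545, 4236), (3546, 3286), (3547, 3287), (3548, 3548), (3549, 4272), (3550, 2893), (3551, 2892), (3552, 4337), (3553, 3178), (3554, 4163), (3555, 4241), (3556, 3293), (3557, 3294), (3558, 4164), (3559, 2934), (3560, 2939), (3561, 3295), (3562, 4109), (3563, 4351), (3564, 4111), (3565, 3565), (3566, 2905), (3567, 2906), (3568, 4357), (3569, 4362), (3570, 4359), (3571, 4365), (3572, 4119), (3573, 2908), (3574, 4369), (3575, 4122), (3576, 4123), (3577, 3577), (3578, 3578), (3579, 4377), (3580, 2914), (3581, 2913), (3582,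 4381), (3583, 4379)]
    ⟨e3 q3520 L66332 q3520, e3 q3521 L66340 q3521, e3 q3522 L66350 q2871, e3 q3523 (flp_f L123754) q4300, e3 q3524 (flp_f L123764) q4301, e3 q3525 L66378 q3525, e3 q3526 L66389 q3526, e3 q3527 L66400 q3273, e3 q3528 L66414 q3528, e3 q3529 L66423 q2876, e3 q3530 (flp_f L123863) q4310, e3 q3531 (flp_f L123877) q4311, e3 q3532 L66451 q3277, e3 q3533 (flp_f L123538) q4280, e3 q3534 L66476 q3278, e3 q3535 L66484 q3535, e3 q3536 L66491 q2880, e3 q3537 L66501 q2881, e3 q3538 L123986 q4322, e3 q3539 (flp_f L123980) q4321, e3 q3540 (flp_f L123140) q4240, e3 q3541 L66549 q3283, e3 q3542 L66560 q3284, e3 q3543 L66570 q3543, e3 q3544 L66593 q3285, e3 q3545 (flp_f L123100) q4236, e3 q3546 L66620 q3286, e3 q3547 L66630 q3287, e3 q3548 L66649 q3548, e3 q3549 (flp_f L123450) q4272, e3 q3550 L66666 q2893, e3 q3551 (flp_f L66668) q2892, e3 q3552 (flp_f L124143) q4337, e3 q3553 L119543 q3178, e3 q3554 (flp_f L122510) q4163, e3 q3555 (flp_f L123153) q4241, e3 q3556 L66722 q3293, e3 q3557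 L66731 q3294, e3 q3558 (flp_f L122523) q4164, e3 q3559 (flp_f L103621) q2934, e3 q3560 L104009 q2939, e3 q3561 L66793 q3295, e3 q3562 (flp_f L122043) q4109, e3 q3563 L124253 q4351, e3 q3564 (flp_f L122066) q4111, e3 q3565 L66828 q3565, e3 q3566 L66837 q2905, e3 q3567 L66847 q2906, e3 q3568 (flp_f L124310) q4357, e3 q3569 L124351 q4362, e3 q3570 (flp_f L124331) q4359, e3 q3571 L124377 q4365, e3 q3572 (flp_f L122137) q4119, e3 q3573 (flp_f L66891) q2908, e3 q3574 (flp_f L124417) q4369, e3 q3575 (flp_f L122164) q4122, e3 q3576 (flp_f L122174) q4123, e3 q3577 L66924 q3577, e3 q3578 L66936 q3578, e3 q3579 L124474 q4377, e3 q3580 L66953 q2914, e3 q3581 (flp_f L66955) q2913, e3 q3582 (flp_f L124516) q4381, e3 q3583 (flp_f L124495) q4379, trivial⟩ (by decide +kernel)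

theorem ce_f_56 : ∀ r, r < 64 → sm gf (Qf (3584 + r)) = Qf (tab Gen.f (3584 + r)) :=
  edges_tab (sm gf) Qf (tab Gen.f) 3584 [(3584, 2916), (3585, 4345), (3586, 4383), (3587, 4134), (3588, 4135), (3589, 2920), (3590, 4389), (3591, 4138), (3592, 4139), (3593, 2923), (3594, 4395), (3595, 4396), (3596, 4143), (3597, 4403), (3598, 4145), (3599, 4406), (3600, 3600), (3601, 2928), (3602, 4409), (3603, 2932), (3604, 3604), (3605, 2931), (3606, 4412), (3607, 2935), (3608, 4341), (3609, 4346), (3610, 4158), (3611, 4159), (3612, 4160), (3613, 4347), (3614, 4166), (3615, 4167), (3616, 4168), (3617, 3296), (3618, 4268), (3619, 3297), (3620, 3620), (3621, 2946), (3622, 2947), (3623, 4429), (3624, 4434), (3625, 4431), (3626, 4264), (3627, 3303), (3628, 4205), (3629, 3304), (3630, 3305), (3631, 3631), (3632, 3632), (3633, 4445), (3634, 2955), (3635, 2954), (3636, 4449), (3637, 4447), (3638, 4206), (3639, 2987), (3640, 2997), (3641, 3311), (3642, 3312), (3643, 4218), (3644, 4237), (3645, 3004), (3646,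 4458), (3647, 3314)]
    ⟨e3 q3584 L66983 q2916, e3 q3585 (flp_f L124204) q4345, e3 q3586 (flp_f L124535) q4383, e3 q3587 (flp_f L122264) q4134, e3 q3588 (flp_f L122273) q4135, e3 q3589 (flp_f L67014) q2920, e3 q3590 (flp_f L124578) q4389, e3 q3591 (flp_f L122300) q4138, e3 q3592 (flp_f L122310) q4139, e3 q3593 L67050 q2923, e3 q3594 (flp_f L124626) q4395, e3 q3595 (flp_f L124635) q4396, e3 q3596 (flp_f L122345) q4143, e3 q3597 L124682 q4403, e3 q3598 (flp_f L122361) q4145, e3 q3599 L124700 q4406, e3 q3600 L67100 q3600, e3 q3601 (flp_f L67103) q2928, e3 q3602 (flp_f L124735) q4409, e3 q3603 L67124 q2932, e3 q3604 L67135 q3604, e3 q3605 L67141 q2931, e3 q3606 (flp_f L124761) q4412, e3 q3607 L67165 q2935, e3 q3608 (flp_f L124171) q4341, e3 q3609 (flp_f L124215) q4346, e3 q3610 (flp_f L122466) q4158, e3 q3611 (flp_f L122475) q4159, e3 q3612 (flp_f L122481) q4160, e3 q3613 (flp_f L124223) q4347, e3 q3614 (flp_f L122538) q4166, e3 q3615 (flp_f L122547) q4167, e3 q3616 (flp_f L122553) q4168, e3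 q3617 L67263 q3296, e3 q3618 (flp_f L123412) q4268, e3 q3619 L67287 q3297, e3 q3620 L67295 q3620, e3 q3621 L67302 q2946, e3 q3622 L67312 q2947, e3 q3623 (flp_f L124915) q4429, e3 q3624 L124952 q4434, e3 q3625 (flp_f L124934) q4431, e3 q3626 (flp_f L123369) q4264, e3 q3627 L67360 q3303, e3 q3628 (flp_f L122866) q4205, e3 q3629 L67387 q3304, e3 q3630 L67397 q3305, e3 q3631 L67405 q3631, e3 q3632 L67417 q3632, e3 q3633 L125050 q4445, e3 q3634 L67436 q2955, e3 q3635 (flp_f L67438) q2954, e3 q3636 (flp_f L125096) q4449, e3 q3637 (flp_f L125071) q4447, e3 q3638 (flp_f L122881) q4206, e3 q3639 (flp_f L94211) q2987, e3 q3640 (flp_f L104722) q2997, e3 q3641 L67541 q3311, e3 q3642 L67551 q3312, e3 q3643 (flp_f L122978) q4218, e3 q3644 (flp_f L123113) q4237, e3 q3645 L103519 q3004, e3 q3646 L125159 q4458, e3 q3647 L67592 q3314, trivial⟩ (by decide +kernel)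

theorem ce_f_57 : ∀ r, r < 64 → sm gf (Qf (3648 + r)) = Qf (tab Gen.f (3648 + r)) :=
  edges_tab (sm gf) Qf (tab Gen.f) 3648 [(3648, 3648), (3649, 2967), (3650, 4461), (3651, 2971), (3652, 3652), (3653, 2970), (3654, 4463), (3655, 3005), (3656, 4169), (3657, 4467), (3658, 4171), (3659, 2976), (3660, 4451), (3661, 4174), (3662, 4175), (3663, 3663), (3664, 3664), (3665, 2981), (3666, 4481), (3667, 2983), (3668, 4485), (3669, 4480), (3670, 2982), (3671, 4489), (3672, 4483), (3673, 2984), (3674, 4492), (3675, 4188), (3676, 4189), (3677, 4441), (3678, 4452), (3679, 4193), (3680, 4503), (3681, 4195), (3682, 4506), (3683, 3683), (3684, 2992), (3685, 4510), (3686, 2996), (3687, 3687), (3688, 2995), (3689, 4513), (3690, 4207), (3691, 4208), (3692, 3108), (3693, 3001), (3694, 4453), (3695, 4518), (3696, 4213), (3697, 4524), (3698, 4215), (3699, 4527), (3700, 4457), (3701, 4221), (3702, 4533), (3703, 4223), (3704, 3007), (3705, 4537), (3706, 4226), (3707, 3009), (3708, 4540), (3709, 3709), (3710,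 4539), (3711, 3012)]
    ⟨e3 q3648 L67606 q3648, e3 q3649 (flp_f L67609) q2967, e3 q3650 (flp_f L125182) q4461, e3 q3651 L67624 q2971, e3 q3652 L67637 q3652, e3 q3653 L67643 q2970, e3 q3654 (flp_f L125195) q4463, e3 q3655 (flp_f L103538) q3005, e3 q3656 (flp_f L122559) q4169, e3 q3657 L125224 q4467, e3 q3658 (flp_f L122579) q4171, e3 q3659 (flp_f L67821) q2976, e3 q3660 (flp_f L125111) q4451, e3 q3661 (flp_f L122602) q4174, e3 q3662 (flp_f L122610) q4175, e3 q3663 L67848 q3663, e3 q3664 L67857 q3664, e3 q3665 L67862 q2981, e3 q3666 L125320 q4481, e3 q3667 L67880 q2983, e3 q3668 L125347 q4485, e3 q3669 (flp_f L125318) q4480, e3 q3670 (flp_f L67898) q2982, e3 q3671 (flp_f L125384) q4489, e3 q3672 (flp_f L125338) q4483, e3 q3673 (flp_f L67918) q2984, e3 q3674 (flp_f L125412) q4492, e3 q3675 (flp_f L122712) q4188, e3 q3676 (flp_f L122723) q4189, e3 q3677 (flp_f L125020) q4441, e3 q3678 (flp_f L125124) q4452, e3 q3679 (flp_f L122760) q4193, e3 q3680 L125504 q4503, e3 q3681 (flp_f L122776) q4195,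 e3 q3682 L125522 q4506, e3 q3683 L68011 q3683, e3 q3684 (flp_f L68014) q2992, e3 q3685 (flp_f L125572) q4510, e3 q3686 L68038 q2996, e3 q3687 L68050 q3687, e3 q3688 L68057 q2995, e3 q3689 (flp_f L125599) q4513, e3 q3690 (flp_f L122890) q4207, e3 q3691 (flp_f L122901) q4208, e3 q3692 L118437 q3108, e3 q3693 L68138 q3001, e3 q3694 (flp_f L125128) q4453, e3 q3695 (flp_f L125646) q4518, e3 q3696 (flp_f L122940) q4213, e3 q3697 L125693 q4524, e3 q3698 (flp_f L122955) q4215, e3 q3699 L125709 q4527, e3 q3700 (flp_f L125157) q4457, e3 q3701 (flp_f L123000) q4221, e3 q3702 L125753 q4533, e3 q3703 (flp_f L123013) q4223, e3 q3704 (flp_f L68215) q3007, e3 q3705 (flp_f L125783) q4537, e3 q3706 (flp_f L123029) q4226, e3 q3707 (flp_f L68227) q3009, e3 q3708 (flp_f L125803) q4540, e3 q3709 L68246 q3709, e3 q3710 (flp_f L125796) q4539, e3 q3711 L68265 q3012, trivial⟩ (by decide +kernel)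

theorem ce_f_58 : ∀ r, r < 64 → sm gf (Qf (3712 + r)) = Qf (tab Gen.f (3712 + r)) :=
  edges_tab (sm gf) Qf (tab Gen.f) 3712 [(3712, 4543), (3713, 3713), (3714, 3016), (3715, 4546), (3716, 4238), (3717, 4239), (3718, 4242), (3719, 3321), (3720, 4249), (3721, 3322), (3722, 3036), (3723, 3025), (3724, 3272), (3725, 4252), (3726, 4259), (3727, 3039), (3728, 3323), (3729, 3213), (3730, 4274), (3731, 3216), (3732, 3044), (3733, 4554), (3734, 4244), (3735, 4552), (3736, 4247), (3737, 4248), (3738, 4250), (3739, 4559), (3740, 4261), (3741, 4263), (3742, 4266), (3743, 4269), (3744, 4275), (3745, 4277), (3746, 4279), (3747, 3747), (3748, 4576), (3749, 3749), (3750, 3750), (3751, 4581), (3752, 3752), (3753, 4585), (3754, 3057), (3755, 3054), (3756, 4589), (3757, 3060), (3758, 4591), (3759, 3056), (3760, 4595), (3761, 4587), (3762, 3762), (3763, 3059), (3764, 4599), (3765, 3765), (3766, 4604), (3767, 3767), (3768, 3062), (3769, 4608), (3770, 3770), (3771, 3064), (3772, 4611), (3773, 3773), (3774,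 4610), (3775, 3067)]
    ⟨e3 q3712 (flp_f L125831) q4543, e3 q3713 L68279 q3713, e3 q3714 L68286 q3016, e3 q3715 (flp_f L125850) q4546, e3 q3716 (flp_f L123124) q4238, e3 q3717 (flp_f L123135) q4239, e3 q3718 (flp_f L123164) q4242, e3 q3719 L68452 q3321, e3 q3720 (flp_f L123225) q4249, e3 q3721 L68476 q3322, e3 q3722 L102730 q3036, e3 q3723 L68549 q3025, e3 q3724 L120880 q3272, e3 q3725 (flp_f L123247) q4252, e3 q3726 (flp_f L123326) q4259, e3 q3727 (flp_f L102382) q3039, e3 q3728 L68648 q3323, e3 q3729 L102391 q3213, e3 q3730 (flp_f L123477) q4274, e3 q3731 L106189 q3216, e3 q3732 L110683 q3044, e3 q3733 (flp_f L125923) q4554, e3 q3734 (flp_f L123180) q4244, e3 q3735 (flp_f L125905) q4552, e3 q3736 (flp_f L123206) q4247, e3 q3737 (flp_f L123216) q4248, e3 q3738 (flp_f L123234) q4250, e3 q3739 (flp_f L125972) q4559, e3 q3740 (flp_f L123345) q4261, e3 q3741 (flp_f L123363) q4263, e3 q3742 (flp_f L123397) q4266, e3 q3743 (flp_f L123423) q4269, e3 q3744 (flp_f L123485) q4275, e3 q3745 (flp_f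 L123511) q4277, e3 q3746 (flp_f L123527) q4279, e3 q3747 L69732 q3747, e3 q3748 L126107 q4576, e3 q3749 L69749 q3749, e3 q3750 L69753 q3750, e3 q3751 L126156 q4581, e3 q3752 L69774 q3752, e3 q3753 L126191 q4585, e3 q3754 L69789 q3057, e3 q3755 (flp_f L69791) q3054, e3 q3756 (flp_f L126232) q4589, e3 q3757 L69812 q3060, e3 q3758 L126243 q4591, e3 q3759 (flp_f L69822) q3056, e3 q3760 (flp_f L126276) q4595, e3 q3761 (flp_f L126212) q4587, e3 q3762 L69853 q3762, e3 q3763 L69860 q3059, e3 q3764 (flp_f L126309) q4599, e3 q3765 L69921 q3765, e3 q3766 L126349 q4604, e3 q3767 L69938 q3767, e3 q3768 (flp_f L69939) q3062, e3 q3769 (flp_f L126394) q4608, e3 q3770 L69959 q3770, e3 q3771 (flp_f L69962) q3064, e3 q3772 (flp_f L126423) q4611, e3 q3773 L69981 q3773, e3 q3774 (flp_f L126414) q4610, e3 q3775 L70001 q3067, trivial⟩ (by decide +kernel)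

theorem ce_f_59 : ∀ r, r < 64 → sm gf (Qf (3776 + r)) = Qf (tab Gen.f (3776 + r)) :=
  edges_tab (sm gf) Qf (tab Gen.f) 3776 [(3776, 4614), (3777, 3777), (3778, 3071), (3779, 4617), (3780, 3780), (3781, 3781), (3782, 3782), (3783, 4622), (3784, 3784), (3785, 3075), (3786, 4626), (3787, 3787), (3788, 3338), (3789, 3078), (3790, 4629), (3791, 3083), (3792, 3081), (3793, 4632), (3794, 4631), (3795, 3085), (3796, 4635), (3797, 3797), (3798, 3088), (3799, 4099), (3800, 3800), (3801, 3190), (3802, 4265), (3803, 3803), (3804, 3101), (3805, 4640), (3806, 4643), (3807, 3155), (3808, 3105), (3809, 4491), (3810, 3167), (3811, 4517), (3812, 3812), (3813, 3143), (3814, 3814), (3815, 3815), (3816, 3816), (3817, 3116), (3818, 4659), (3819, 3118), (3820, 4663), (3821, 4658), (3822, 3117), (3823, 4667), (3824, 4661), (3825, 3148), (3826, 3826), (3827, 3827), (3828, 4670), (3829, 4671), (3830, 3123), (3831, 4673), (3832, 3127), (3833, 3833), (3834, 3126), (3835, 4676), (3836, 4678), (3837, 3131), (3838,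 3132), (3839, 4680)]
    ⟨e3 q3776 (flp_f L126449) q4614, e3 q3777 L70016 q3777, e3 q3778 L70023 q3071, e3 q3779 (flp_f L126473) q4617, e3 q3780 L70087 q3780, e3 q3781 L70096 q3781, e3 q3782 L70178 q3782, e3 q3783 L126516 q4622, e3 q3784 L70193 q3784, e3 q3785 (flp_f L70194) q3075, e3 q3786 (flp_f L126554) q4626, e3 q3787 L70210 q3787, e3 q3788 (flp_f L120773) q3338, e3 q3789 L70225 q3078, e3 q3790 (flp_f L126579) q4629, e3 q3791 L70239 q3083, e3 q3792 L70245 q3081, e3 q3793 (flp_f L126605) q4632, e3 q3794 (flp_f L126597) q4631, e3 q3795 L70268 q3085, e3 q3796 (flp_f L126631) q4635, e3 q3797 L70281 q3797, e3 q3798 L70289 q3088, e3 q3799 (flp_f L121957) q4099, e3 q3800 L70372 q3800, e3 q3801 L118607 q3190, e3 q3802 (flp_f L123391) q4265, e3 q3803 L71504 q3803, e3 q3804 L71544 q3101, e3 q3805 (flp_f L126676) q4640, e3 q3806 L126704 q4643, e3 q3807 L118700 q3155, e3 q3808 (flp_f L71661) q3105, e3 q3809 (flp_f L125404) q4491, e3 q3810 L118406 q3167, e3 q3811 (flp_f L125640) q4517, e3 q3812 L71979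 q3812, e3 q3813 L118794 q3143, e3 q3814 L71996 q3814, e3 q3815 L72023 q3815, e3 q3816 L72040 q3816, e3 q3817 L72057 q3116, e3 q3818 L126865 q4659, e3 q3819 L72075 q3118, e3 q3820 L126905 q4663, e3 q3821 (flp_f L126861) q4658, e3 q3822 (flp_f L72094) q3117, e3 q3823 (flp_f L126945) q4667, e3 q3824 (flp_f L126891) q4661, e3 q3825 L119559 q3148, e3 q3826 L72137 q3826, e3 q3827 L72145 q3827, e3 q3828 L126966 q4670, e3 q3829 L126977 q4671, e3 q3830 (flp_f L72209) q3123, e3 q3831 (flp_f L127003) q4673, e3 q3832 L72228 q3127, e3 q3833 L72236 q3833, e3 q3834 L72243 q3126, e3 q3835 (flp_f L127028) q4676, e3 q3836 L127036 q4678, e3 q3837 (flp_f L72416) q3131, e3 q3838 (flp_f L72436) q3132, e3 q3839 (flp_f L127068) q4680, trivial⟩ (by decide +kernel)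

theorem ce_f_60 : ∀ r, r < 64 → sm gf (Qf (3840 + r)) = Qf (tab Gen.f (3840 + r)) :=
  edges_tab (sm gf) Qf (tab Gen.f) 3840 [(3840, 3134), (3841, 4682), (3842, 3842), (3843, 3138), (3844, 4684), (3845, 3845), (3846, 3846), (3847, 3141), (3848, 4689), (3849, 4691), (3850, 4648), (3851, 3142), (3852, 4695), (3853, 4650), (3854, 3854), (3855, 3145), (3856, 3856), (3857, 3147), (3858, 4698), (3859, 3859), (3860, 3153), (3861, 4701), (3862, 4642), (3863, 3863), (3864, 4645), (3865, 3865), (3866, 3866), (3867, 3867), (3868, 4711), (3869, 3869), (3870, 4713), (3871, 4715), (3872, 3163), (3873, 3160), (3874, 4719), (3875, 3166), (3876, 4721), (3877, 3162), (3878, 4725), (3879, 4717), (3880, 3880), (3881, 3165), (3882, 4729), (3883, 4324), (3884, 4731), (3885, 3885), (3886, 3170), (3887, 3171), (3888, 4734), (3889, 3173), (3890, 4736), (3891, 3891), (3892, 3177), (3893, 4739), (3894, 3179), (3895, 4742), (3896, 4681), (3897, 3183), (3898, 4679), (3899, 3185), (3900, 4744), (3901, 3901), (3902,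 3188), (3903, 4098)]
    ⟨e3 q3840 L72473 q3134, e3 q3841 (flp_f L127090) q4682, e3 q3842 L72488 q3842, e3 q3843 L72496 q3138, e3 q3844 (flp_f L127104) q4684, e3 q3845 L72571 q3845, e3 q3846 L72589 q3846, e3 q3847 L72642 q3141, e3 q3848 L127131 q4689, e3 q3849 L127143 q4691, e3 q3850 L126759 q4648, e3 q3851 (flp_f L72671) q3142, e3 q3852 (flp_f L127173) q4695, e3 q3853 (flp_f L126775) q4650, e3 q3854 L72723 q3854, e3 q3855 (flp_f L72791) q3145, e3 q3856 L72820 q3856, e3 q3857 L72827 q3147, e3 q3858 (flp_f L127196) q4698, e3 q3859 L73045 q3859, e3 q3860 L73051 q3153, e3 q3861 (flp_f L127214) q4701, e3 q3862 (flp_f L126701) q4642, e3 q3863 L73190 q3863, e3 q3864 (flp_f L126727) q4645, e3 q3865 L73208 q3865, e3 q3866 L73215 q3866, e3 q3867 L73242 q3867, e3 q3868 L127275 q4711, e3 q3869 L73260 q3869, e3 q3870 L127290 q4713, e3 q3871 L127300 q4715, e3 q3872 L73294 q3163, e3 q3873 (flp_f L73296) q3160, e3 q3874 (flp_f L127336) q4719, e3 q3875 L73312 q3166, e3 q3876 L127344 q4721, e3 q3877 (flp_f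 L73321) q3162, e3 q3878 (flp_f L127380) q4725, e3 q3879 (flp_f L127322) q4717, e3 q3880 L73348 q3880, e3 q3881 L73354 q3165, e3 q3882 (flp_f L127409) q4729, e3 q3883 (flp_f L124009) q4324, e3 q3884 L127417 q4731, e3 q3885 L73411 q3885, e3 q3886 (flp_f L73448) q3170, e3 q3887 (flp_f L73471) q3171, e3 q3888 (flp_f L127447) q4734, e3 q3889 L73513 q3173, e3 q3890 (flp_f L127467) q4736, e3 q3891 L73530 q3891, e3 q3892 L73539 q3177, e3 q3893 (flp_f L127486) q4739, e3 q3894 (flp_f L73583) q3179, e3 q3895 (flp_f L127507) q4742, e3 q3896 (flp_f L127079) q4681, e3 q3897 L73656 q3183, e3 q3898 (flp_f L127056) q4679, e3 q3899 L73687 q3185, e3 q3900 (flp_f L127519) q4744, e3 q3901 L73695 q3901, e3 q3902 L73700 q3188, e3 q3903 (flp_f L121940) q4098, trivial⟩ (by decide +kernel)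

theorem ce_f_61 : ∀ r, r < 64 → sm gf (Qf (3904 + r)) = Qf (tab Gen.f (3904 + r)) :=
  edges_tab (sm gf) Qf (tab Gen.f) 3904 [(3904, 4637), (3905, 3905), (3906, 4283), (3907, 3907), (3908, 3908), (3909, 3909), (3910, 3982), (3911, 3268), (3912, 3912), (3913, 3978), (3914, 3195), (3915, 3979), (3916, 3196), (3917, 4288), (3918, 4754), (3919, 3919), (3920, 3201), (3921, 3205), (3922, 4756), (3923, 3208), (3924, 4758), (3925, 3925), (3926, 3926), (3927, 4555), (3928, 3211), (3929, 4764), (3930, 4558), (3931, 3215), (3932, 4560), (3933, 4767), (3934, 3934), (3935, 3219), (3936, 4771), (3937, 3937), (3938, 4773), (3939, 3221), (3940, 4777), (3941, 3229), (3942, 4770), (3943, 3224), (3944, 4781), (3945, 3226), (3946, 4785), (3947, 4786), (3948, 3948), (3949, 3228), (3950, 4790), (3951, 4779), (3952, 3952), (3953, 3232), (3954, 4794), (3955, 3236), (3956, 3234), (3957, 4797), (3958, 4796), (3959, 3238), (3960, 4800), (3961, 3961), (3962, 3241), (3963, 4086), (3964, 3245), (3965, 3244), (3966,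 4804), (3967, 4803)]
    ⟨e3 q3904 (flp_f L126643) q4637, e3 q3905 L73722 q3905, e3 q3906 (flp_f L123575) q4283, e3 q3907 L73745 q3907, e3 q3908 L73753 q3908, e3 q3909 L73779 q3909, e3 q3910 (flp_f L121062) q3982, e3 q3911 L73793 q3268, e3 q3912 L120731 q3912, e3 q3913 L121052 q3978, e3 q3914 (flp_f L73815) q3195, e3 q3915 L121070 q3979, e3 q3916 (flp_f L73833) q3196, e3 q3917 (flp_f L123632) q4288, e3 q3918 L127590 q4754, e3 q3919 L73900 q3919, e3 q3920 (flp_f L73942) q3201, e3 q3921 (flp_f L74060) q3205, e3 q3922 (flp_f L127613) q4756, e3 q3923 (flp_f L74193) q3208, e3 q3924 (flp_f L127628) q4758, e3 q3925 L74210 q3925, e3 q3926 L74218 q3926, e3 q3927 (flp_f L125934) q4555, e3 q3928 L74232 q3211, e3 q3929 (flp_f L127671) q4764, e3 q3930 (flp_f L125964) q4558, e3 q3931 L74256 q3215, e3 q3932 (flp_f L125981) q4560, e3 q3933 L127688 q4767, e3 q3934 L74285 q3934, e3 q3935 (flp_f L74288) q3219, e3 q3936 (flp_f L127727) q4771, e3 q3937 L74310 q3937, e3 q3938 L127738 q4773, e3 q3939 (flp_f L74319)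 q3221, e3 q3940 (flp_f L127770) q4777, e3 q3941 L74338 q3229, e3 q3942 (flp_f L127718) q4770, e3 q3943 L74356 q3224, e3 q3944 (flp_f L127803) q4781, e3 q3945 (flp_f L74365) q3226, e3 q3946 (flp_f L127831) q4785, e3 q3947 (flp_f L127852) q4786, e3 q3948 L74393 q3948, e3 q3949 L74399 q3228, e3 q3950 (flp_f L127883) q4790, e3 q3951 (flp_f L127782) q4779, e3 q3952 L74422 q3952, e3 q3953 L74430 q3232, e3 q3954 (flp_f L127918) q4794, e3 q3955 L74447 q3236, e3 q3956 L74455 q3234, e3 q3957 (flp_f L127954) q4797, e3 q3958 (flp_f L127945) q4796, e3 q3959 L74480 q3238, e3 q3960 (flp_f L127976) q4800, e3 q3961 L74492 q3961, e3 q3962 L74499 q3241, e3 q3963 (flp_f L121828) q4086, e3 q3964 L74516 q3245, e3 q3965 L74524 q3244, e3 q3966 (flp_f L128008) q4804, e3 q3967 (flp_f L128001) q4803, trivial⟩ (by decide +kernel)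

theorem ce_f_62 : ∀ r, r < 64 → sm gf (Qf (3968 + r)) = Qf (tab Gen.f (3968 + r)) :=
  edges_tab (sm gf) Qf (tab Gen.f) 3968 [(3968, 3247), (3969, 4146), (3970, 3970), (3971, 3971), (3972, 3252), (3973, 3253), (3974, 4808), (3975, 4809), (3976, 3976), (3977, 3256), (3978, 3913), (3979, 3915), (3980, 3980), (3981, 3260), (3982, 3910), (3983, 3509), (3984, 3266), (3985, 4253), (3986, 4556), (3987, 4306), (3988, 4308), (3989, 3275), (3990, 3276), (3991, 4817), (3992, 4822), (3993, 4819), (3994, 4315), (3995, 4317), (3996, 4318), (3997, 4830), (3998, 3282), (3999, 3281), (4000, 4834), (4001, 4832), (4002, 4327), (4003, 4328), (4004, 4329), (4005, 4330), (4006, 4333), (4007, 4844), (4008, 4335), (4009, 3288), (4010, 4848), (4011, 3292), (4012, 4012), (4013, 3291), (4014, 4851), (4015, 4342), (4016, 4343), (4017, 4421), (4018, 4423), (4019, 4425), (4020, 4426), (4021, 3300), (4022, 4862), (4023, 3302), (4024, 4866), (4025, 4861), (4026, 3301), (4027, 4870), (4028, 4864), (4029, 4437), (4030,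 4438), (4031, 4874)]
    ⟨e3 q3968 L74543 q3247, e3 q3969 L122372 q4146, e3 q3970 L74582 q3970, e3 q3971 L74589 q3971, e3 q3972 L74594 q3252, e3 q3973 L74603 q3253, e3 q3974 (flp_f L128041) q4808, e3 q3975 (flp_f L128049) q4809, e3 q3976 L74625 q3976, e3 q3977 L74635 q3256, e3 q3978 (flp_f L121052) q3913, e3 q3979 (flp_f L121070) q3915, e3 q3980 L74658 q3980, e3 q3981 L74667 q3260, e3 q3982 L121062 q3910, e3 q3983 L121060 q3509, e3 q3984 (flp_f L121072) q3266, e3 q3985 (flp_f L123265) q4253, e3 q3986 (flp_f L125944) q4556, e3 q3987 (flp_f L123810) q4306, e3 q3988 (flp_f L123842) q4308, e3 q3989 L121126 q3275, e3 q3990 L121137 q3276, e3 q3991 (flp_f L128121) q4817, e3 q3992 L128163 q4822, e3 q3993 (flp_f L128142) q4819, e3 q3994 (flp_f L123917) q4315, e3 q3995 (flp_f L123935) q4317, e3 q3996 (flp_f L123945) q4318, e3 q3997 L128217 q4830, e3 q3998 L121196 q3282, e3 q3999 (flp_f L121198) q3281, e3 q4000 (flp_f L128252) q4834, e3 q4001 (flp_f L128237) q4832, e3 q4002 (flp_f L124041) q4327, e3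 q4003 (flp_f L124052) q4328, e3 q4004 (flp_f L124058) q4329, e3 q4005 (flp_f L124073) q4330, e3 q4006 (flp_f L124103) q4333, e3 q4007 L128313 q4844, e3 q4008 (flp_f L124123) q4335, e3 q4009 (flp_f L121262) q3288, e3 q4010 (flp_f L128346) q4848, e3 q4011 L121282 q3292, e3 q4012 L121291 q4012, e3 q4013 L121297 q3291, e3 q4014 (flp_f L128369) q4851, e3 q4015 (flp_f L124180) q4342, e3 q4016 (flp_f L124186) q4343, e3 q4017 (flp_f L124835) q4421, e3 q4018 (flp_f L124861) q4423, e3 q4019 (flp_f L124877) q4425, e3 q4020 (flp_f L124887) q4426, e3 q4021 L121345 q3300, e3 q4022 L128435 q4862, e3 q4023 L121363 q3302, e3 q4024 L128462 q4866, e3 q4025 (flp_f L128433) q4861, e3 q4026 (flp_f L121382) q3301, e3 q4027 (flp_f L128496) q4870, e3 q4028 (flp_f L128452) q4864, e3 q4029 (flp_f L124982) q4437, e3 q4030 (flp_f L124994) q4438, e3 q4031 L128519 q4874, trivial⟩ (by decide +kernel)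

theorem ce_f_63 : ∀ r, r < 64 → sm gf (Qf (4032 + r)) = Qf (tab Gen.f (4032 + r)) :=
  edges_tab (sm gf) Qf (tab Gen.f) 4032 [(4032, 4443), (4033, 3306), (4034, 4878), (4035, 3310), (4036, 4036), (4037, 3309), (4038, 4881), (4039, 4883), (4040, 4454), (4041, 3313), (4042, 4887), (4043, 4460), (4044, 4625), (4045, 3316), (4046, 4890), (4047, 4047), (4048, 3320), (4049, 4893), (4050, 4550), (4051, 4553), (4052, 4898), (4053, 3328), (4054, 3325), (4055, 4902), (4056, 3331), (4057, 4904), (4058, 3327), (4059, 4908), (4060, 4900), (4061, 4061), (4062, 3330), (4063, 4912), (4064, 4607), (4065, 3333), (4066, 4915), (4067, 4067), (4068, 3337), (4069, 4918), (4070, 4628), (4071, 3340), (4072, 4921), (4073, 4073), (4074, 3343), (4075, 4924), (4076, 4076), (4077, 3345), (4078, 4928), (4079, 4929), (4080, 4080), (4081, 4081), (4082, 3349), (4083, 3350), (4084, 4938), (4085, 4937), (4086, 3963), (4087, 4087), (4088, 4088), (4089, 4089), (4090, 4090), (4091, 4091), (4092, 4092), (4093, 4946), (4094,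 3360), (4095, 3359)]
    ⟨e3 q4032 (flp_f L125036) q4443, e3 q4033 (flp_f L121425) q3306, e3 q4034 (flp_f L128554) q4878, e3 q4035 L121448 q3310, e3 q4036 L121458 q4036, e3 q4037 L121465 q3309, e3 q4038 (flp_f L128580) q4881, e3 q4039 L128589 q4883, e3 q4040 (flp_f L125138) q4454, e3 q4041 (flp_f L121486) q3313, e3 q4042 (flp_f L128611) q4887, e3 q4043 (flp_f L125173) q4460, e3 q4044 (flp_f L126547) q4625, e3 q4045 L121511 q3316, e3 q4046 (flp_f L128631) q4890, e3 q4047 L121524 q4047, e3 q4048 L121531 q3320, e3 q4049 (flp_f L128647) q4893, e3 q4050 (flp_f L125889) q4550, e3 q4051 (flp_f L125916) q4553, e3 q4052 L128672 q4898, e3 q4053 L121563 q3328, e3 q4054 (flp_f L121565) q3325, e3 q4055 (flp_f L128710) q4902, e3 q4056 L121585 q3331, e3 q4057 L128720 q4904, e3 q4058 (flp_f L121596) q3327, e3 q4059 (flp_f L128755) q4908, e3 q4060 (flp_f L128692) q4900, e3 q4061 L121624 q4061, e3 q4062 L121631 q3330, e3 q4063 (flp_f L128788) q4912, e3 q4064 (flp_f L126385) q4607, e3 q4065 L121655 q3333,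 e3 q4066 (flp_f L128814) q4915, e3 q4067 L121669 q4067, e3 q4068 L121676 q3337, e3 q4069 (flp_f L128835) q4918, e3 q4070 (flp_f L126571) q4628, e3 q4071 L121699 q3340, e3 q4072 (flp_f L128858) q4921, e3 q4073 L121710 q4073, e3 q4074 L121717 q3343, e3 q4075 (flp_f L128875) q4924, e3 q4076 L121735 q4076, e3 q4077 L121743 q3345, e3 q4078 (flp_f L128909) q4928, e3 q4079 (flp_f L128917) q4929, e3 q4080 L121768 q4080, e3 q4081 L121781 q4081, e3 q4082 L121788 q3349, e3 q4083 L121799 q3350, e3 q4084 L129002 q4938, e3 q4085 (flp_f L129000) q4937, e3 q4086 L121828 q3963, e3 q4087 L121836 q4087, e3 q4088 L121846 q4088, e3 q4089 L121854 q4089, e3 q4090 L121867 q4090, e3 q4091 L121874 q4091, e3 q4092 L121889 q4092, e3 q4093 L129088 q4946, e3 q4094 L121910 q3360, e3 q4095 (flp_f L121912) q3359, trivial⟩ (by decide +kernel)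

theorem ce_f_64 : ∀ r, r < 64 → sm gf (Qf (4096 + r)) = Qf (tab Gen.f (4096 + r)) :=
  edges_tab (sm gf) Qf (tab Gen.f) 4096 [(4096, 4950), (4097, 4948), (4098, 3903), (4099, 3799), (4100, 4100), (4101, 4101), (4102, 3366), (4103, 3367), (4104, 4956), (4105, 4958), (4106, 4106), (4107, 4107), (4108, 4108), (4109, 3562), (4110, 4968), (4111, 3564), (4112, 4112), (4113, 3373), (4114, 3374), (4115, 4974), (4116, 4979), (4117, 4976), (4118, 4982), (4119, 3572), (4120, 3376), (4121, 4986), (4122, 3575), (4123, 3576), (4124, 4124), (4125, 4125), (4126, 4994), (4127, 3382), (4128, 3381), (4129, 4998), (4130, 4996), (4131, 3384), (4132, 5000), (4133, 5001), (4134, 3587), (4135, 3588), (4136, 3388), (4137, 5007), (4138, 3591), (4139, 3592), (4140, 3391), (4141, 5013), (4142, 5014), (4143, 3596), (4144, 5021), (4145, 3598), (4146, 3969), (4147, 4147), (4148, 3396), (4149, 5027), (4150, 3400), (4151, 4151), (4152, 3399), (4153, 5030), (4154, 3402), (4155, 3403), (4156, 5032), (4157, 5034), (4158,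 3610), (4159, 3611)]
    ⟨e3 q4096 (flp_f L129136) q4950, e3 q4097 (flp_f L129116) q4948, e3 q4098 L121940 q3903, e3 q4099 L121957 q3799, e3 q4100 L121966 q4100, e3 q4101 L121980 q4101, e3 q4102 L121985 q3366, e3 q4103 L121995 q3367, e3 q4104 (flp_f L129195) q4956, e3 q4105 (flp_f L129223) q4958, e3 q4106 L122020 q4106, e3 q4107 L122029 q4107, e3 q4108 L122034 q4108, e3 q4109 L122043 q3562, e3 q4110 L129308 q4968, e3 q4111 L122066 q3564, e3 q4112 L122074 q4112, e3 q4113 L122083 q3373, e3 q4114 L122092 q3374, e3 q4115 (flp_f L129374) q4974, e3 q4116 L129409 q4979, e3 q4117 (flp_f L129392) q4976, e3 q4118 L129439 q4982, e3 q4119 L122137 q3572, e3 q4120 (flp_f L122139) q3376, e3 q4121 (flp_f L129485) q4986, e3 q4122 L122164 q3575, e3 q4123 L122174 q3576, e3 q4124 L122182 q4124, e3 q4125 L122192 q4125, e3 q4126 L129549 q4994, e3 q4127 L122208 q3382, e3 q4128 (flp_f L122210) q3381, e3 q4129 (flp_f L129585) q4998, e3 q4130 (flp_f L129566) q4996, e3 q4131 L122239 q3384, e3 q4132 (flp_f L129599)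 q5000, e3 q4133 (flp_f L129609) q5001, e3 q4134 L122264 q3587, e3 q4135 L122273 q3588, e3 q4136 (flp_f L122275) q3388, e3 q4137 (flp_f L129661) q5007, e3 q4138 L122300 q3591, e3 q4139 L122310 q3592, e3 q4140 L122321 q3391, e3 q4141 (flp_f L129709) q5013, e3 q4142 (flp_f L129720) q5014, e3 q4143 L122345 q3596, e3 q4144 L129778 q5021, e3 q4145 L122361 q3598, e3 q4146 (flp_f L122372) q3969, e3 q4147 L122380 q4147, e3 q4148 (flp_f L122383) q3396, e3 q4149 (flp_f L129841) q5027, e3 q4150 L122400 q3400, e3 q4151 L122412 q4151, e3 q4152 L122419 q3399, e3 q4153 (flp_f L129863) q5030, e3 q4154 L122433 q3402, e3 q4155 L122443 q3403, e3 q4156 (flp_f L129878) q5032, e3 q4157 (flp_f L129905) q5034, e3 q4158 L122466 q3610, e3 q4159 L122475 q3611, trivial⟩ (by decide +kernel)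

theorem ce_f_65 : ∀ r, r < 64 → sm gf (Qf (4160 + r)) = Qf (tab Gen.f (4160 + r)) :=
  edges_tab (sm gf) Qf (tab Gen.f) 4160 [(4160, 3612), (4161, 4957), (4162, 3409), (4163, 3554), (4164, 3558), (4165, 5042), (4166, 3614), (4167, 3615), (4168, 3616), (4169, 3656), (4170, 5050), (4171, 3658), (4172, 3414), (4173, 5054), (4174, 3661), (4175, 3662), (4176, 4176), (4177, 4177), (4178, 3419), (4179, 5065), (4180, 3421), (4181, 5069), (4182, 5064), (4183, 3420), (4184, 5073), (4185, 5067), (4186, 3422), (4187, 5076), (4188, 3675), (4189, 3676), (4190, 3425), (4191, 5082), (4192, 5083), (4193, 3679), (4194, 5090), (4195, 3681), (4196, 5093), (4197, 4197), (4198, 3430), (4199, 5097), (4200, 3434), (4201, 4201), (4202, 3433), (4203, 5100), (4204, 3437), (4205, 3628), (4206, 3638), (4207, 3690), (4208, 3691), (4209, 4209), (4210, 3441), (4211, 5107), (4212, 5108), (4213, 3696), (4214, 5115), (4215, 3698), (4216, 3445), (4217, 3446), (4218, 3643), (4219, 5123), (4220, 5119), (4221, 3701), (4222,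 5129), (4223, 3703)]
    ⟨e3 q4160 L122481 q3612, e3 q4161 (flp_f L129215) q4957, e3 q4162 L122502 q3409, e3 q4163 L122510 q3554, e3 q4164 L122523 q3558, e3 q4165 (flp_f L129974) q5042, e3 q4166 L122538 q3614, e3 q4167 L122547 q3615, e3 q4168 L122553 q3616, e3 q4169 L122559 q3656, e3 q4170 L130048 q5050, e3 q4171 L122579 q3658, e3 q4172 (flp_f L122581) q3414, e3 q4173 (flp_f L130087) q5054, e3 q4174 L122602 q3661, e3 q4175 L122610 q3662, e3 q4176 L122618 q4176, e3 q4177 L122626 q4177, e3 q4178 L122633 q3419, e3 q4179 L130161 q5065, e3 q4180 L122648 q3421, e3 q4181 L130189 q5069, e3 q4182 (flp_f L130159) q5064, e3 q4183 (flp_f L122663) q3420, e3 q4184 (flp_f L130224) q5073, e3 q4185 (flp_f L130178) q5067, e3 q4186 (flp_f L122687) q3422, e3 q4187 (flp_f L130252) q5076, e3 q4188 L122712 q3675, e3 q4189 L122723 q3676, e3 q4190 L122734 q3425, e3 q4191 (flp_f L130304) q5082, e3 q4192 (flp_f L130317) q5083, e3 q4193 L122760 q3679, e3 q4194 L130372 q5090, e3 q4195 L122776 q3681, e3 q4196 L130396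 q5093, e3 q4197 L122793 q4197, e3 q4198 (flp_f L122796) q3430, e3 q4199 (flp_f L130438) q5097, e3 q4200 L122816 q3434, e3 q4201 L122829 q4201, e3 q4202 L122837 q3433, e3 q4203 (flp_f L130463) q5100, e3 q4204 L122855 q3437, e3 q4205 L122866 q3628, e3 q4206 L122881 q3638, e3 q4207 L122890 q3690, e3 q4208 L122901 q3691, e3 q4209 L122914 q4209, e3 q4210 L122919 q3441, e3 q4211 (flp_f L130531) q5107, e3 q4212 (flp_f L130545) q5108, e3 q4213 L122940 q3696, e3 q4214 L130614 q5115, e3 q4215 L122955 q3698, e3 q4216 L122959 q3445, e3 q4217 L122970 q3446, e3 q4218 L122978 q3643, e3 q4219 L130690 q5123, e3 q4220 (flp_f L130651) q5119, e3 q4221 L123000 q3701, e3 q4222 L130739 q5129, e3 q4223 L123013 q3703, trivial⟩ (by decide +kernel)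

theorem ce_f_66 : ∀ r, r < 64 → sm gf (Qf (4224 + r)) = Qf (tab Gen.f (4224 + r)) :=
  edges_tab (sm gf) Qf (tab Gen.f) 4224 [(4224, 3448), (4225, 5133), (4226, 3706), (4227, 3450), (4228, 5136), (4229, 4229), (4230, 5135), (4231, 3453), (4232, 5139), (4233, 4233), (4234, 3457), (4235, 5142), (4236, 3545), (4237, 3644), (4238, 3716), (4239, 3717), (4240, 3540), (4241, 3555), (4242, 3718), (4243, 5148), (4244, 3734), (4245, 3468), (4246, 5153), (4247, 3736), (4248, 3737), (4249, 3720), (4250, 3738), (4251, 4251), (4252, 3725), (4253, 3985), (4254, 4254), (4255, 3477), (4256, 4256), (4257, 4257), (4258, 3479), (4259, 3726), (4260, 5167), (4261, 3740), (4262, 4262), (4263, 3741), (4264, 3626), (4265, 3802), (4266, 3742), (4267, 4267), (4268, 3618), (4269, 3743), (4270, 4270), (4271, 3492), (4272, 3549), (4273, 3515), (4274, 3730), (4275, 3744), (4276, 4276), (4277, 3745), (4278, 4278), (4279, 3746), (4280, 3533), (4281, 4281), (4282, 3504), (4283, 3906), (4284, 5186), (4285, 4285), (4286,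 3508), (4287, 5169)]
    ⟨e3 q4224 (flp_f L123015) q3448, e3 q4225 (flp_f L130771) q5133, e3 q4226 L123029 q3706, e3 q4227 (flp_f L123033) q3450, e3 q4228 (flp_f L130792) q5136, e3 q4229 L123050 q4229, e3 q4230 (flp_f L130784) q5135, e3 q4231 L123067 q3453, e3 q4232 (flp_f L130814) q5139, e3 q4233 L123080 q4233, e3 q4234 L123086 q3457, e3 q4235 (flp_f L130831) q5142, e3 q4236 L123100 q3545, e3 q4237 L123113 q3644, e3 q4238 L123124 q3716, e3 q4239 L123135 q3717, e3 q4240 L123140 q3540, e3 q4241 L123153 q3555, e3 q4242 L123164 q3718, e3 q4243 L130891 q5148, e3 q4244 L123180 q3734, e3 q4245 (flp_f L123182) q3468, e3 q4246 (flp_f L130940) q5153, e3 q4247 L123206 q3736, e3 q4248 L123216 q3737, e3 q4249 L123225 q3720, e3 q4250 L123234 q3738, e3 q4251 L123243 q4251, e3 q4252 L123247 q3725, e3 q4253 L123265 q3985, e3 q4254 L123274 q4254, e3 q4255 L123283 q3477, e3 q4256 L123296 q4256, e3 q4257 L123311 q4257, e3 q4258 L123316 q3479, e3 q4259 L123326 q3726, e3 q4260 (flp_f L131080) q5167, e3 q4261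 L123345 q3740, e3 q4262 L123356 q4262, e3 q4263 L123363 q3741, e3 q4264 L123369 q3626, e3 q4265 L123391 q3802, e3 q4266 L123397 q3742, e3 q4267 L123408 q4267, e3 q4268 L123412 q3618, e3 q4269 L123423 q3743, e3 q4270 L123432 q4270, e3 q4271 L123442 q3492, e3 q4272 L123450 q3549, e3 q4273 L123470 q3515, e3 q4274 L123477 q3730, e3 q4275 L123485 q3744, e3 q4276 L123504 q4276, e3 q4277 L123511 q3745, e3 q4278 L123519 q4278, e3 q4279 L123527 q3746, e3 q4280 L123538 q3533, e3 q4281 L123556 q4281, e3 q4282 L123564 q3504, e3 q4283 L123575 q3906, e3 q4284 (flp_f L131305) q5186, e3 q4285 L123598 q4285, e3 q4286 L123609 q3508, e3 q4287 (flp_f L131109) q5169, trivial⟩ (by decide +kernel)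

theorem ce_f_67 : ∀ r, r < 64 → sm gf (Qf (4288 + r)) = Qf (tab Gen.f (4288 + r)) :=
  edges_tab (sm gf) Qf (tab Gen.f) 4288 [(4288, 3917), (4289, 4802), (4290, 4290), (4291, 4291), (4292, 4292), (4293, 4293), (4294, 5181), (4295, 3518), (4296, 5196), (4297, 5197), (4298, 4298), (4299, 4299), (4300, 3523), (4301, 3524), (4302, 5203), (4303, 4303), (4304, 4304), (4305, 4305), (4306, 3987), (4307, 5178), (4308, 3988), (4309, 4309), (4310, 3530), (4311, 3531), (4312, 5214), (4313, 5219), (4314, 5216), (4315, 3994), (4316, 5144), (4317, 3995), (4318, 3996), (4319, 4319), (4320, 5168), (4321, 3539), (4322, 3538), (4323, 5230), (4324, 3883), (4325, 5043), (4326, 5147), (4327, 4002), (4328, 4003), (4329, 4004), (4330, 4005), (4331, 5120), (4332, 5145), (4333, 4006), (4334, 5109), (4335, 4008), (4336, 5180), (4337, 3552), (4338, 5244), (4339, 5035), (4340, 5044), (4341, 3608), (4342, 4015), (4343, 4016), (4344, 5045), (4345, 3585), (4346, 3609), (4347, 3613), (4348, 4965), (4349, 5255), (4350,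 4967), (4351, 3563)]
    ⟨e3 q4288 L123632 q3917, e3 q4289 (flp_f L127988) q4802, e3 q4290 L123655 q4290, e3 q4291 L123667 q4291, e3 q4292 L123679 q4292, e3 q4293 L123690 q4293, e3 q4294 (flp_f L131243) q5181, e3 q4295 L123712 q3518, e3 q4296 (flp_f L131414) q5196, e3 q4297 (flp_f L131429) q5197, e3 q4298 L123739 q4298, e3 q4299 L123749 q4299, e3 q4300 L123754 q3523, e3 q4301 L123764 q3524, e3 q4302 (flp_f L131490) q5203, e3 q4303 L123783 q4303, e3 q4304 L123794 q4304, e3 q4305 L123801 q4305, e3 q4306 L123810 q3987, e3 q4307 (flp_f L131201) q5178, e3 q4308 L123842 q3988, e3 q4309 L123852 q4309, e3 q4310 L123863 q3530, e3 q4311 L123877 q3531, e3 q4312 (flp_f L131610) q5214, e3 q4313 L131662 q5219, e3 q4314 (flp_f L131638) q5216, e3 q4315 L123917 q3994, e3 q4316 (flp_f L130850) q5144, e3 q4317 L123935 q3995, e3 q4318 L123945 q3996, e3 q4319 L123957 q4319, e3 q4320 (flp_f L131090) q5168, e3 q4321 L123980 q3539, e3 q4322 (flp_f L123986) q3538, e3 q4323 (flp_f L131787) q5230, e3 q4324 L124009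 q3883, e3 q4325 (flp_f L129985) q5043, e3 q4326 (flp_f L130885) q5147, e3 q4327 L124041 q4002, e3 q4328 L124052 q4003, e3 q4329 L124058 q4004, e3 q4330 L124073 q4005, e3 q4331 (flp_f L130659) q5120, e3 q4332 (flp_f L130863) q5145, e3 q4333 L124103 q4006, e3 q4334 (flp_f L130553) q5109, e3 q4335 L124123 q4008, e3 q4336 (flp_f L131229) q5180, e3 q4337 L124143 q3552, e3 q4338 (flp_f L131917) q5244, e3 q4339 (flp_f L129913) q5035, e3 q4340 (flp_f L129998) q5044, e3 q4341 L124171 q3608, e3 q4342 L124180 q4015, e3 q4343 L124186 q4016, e3 q4344 (flp_f L130008) q5045, e3 q4345 L124204 q3585, e3 q4346 L124215 q3609, e3 q4347 L124223 q3613, e3 q4348 (flp_f L129283) q4965, e3 q4349 L132006 q5255, e3 q4350 (flp_f L129306) q4967, e3 q4351 (flp_f L124253) q3563, trivial⟩ (by decide +kernel)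

theorem ce_f_68 : ∀ r, r < 64 → sm gf (Qf (4352 + r)) = Qf (tab Gen.f (4352 + r)) :=
  edges_tab (sm gf) Qf (tab Gen.f) 4352 [(4352, 5259), (4353, 4970), (4354, 4971), (4355, 4355), (4356, 4356), (4357, 3568), (4358, 5270), (4359, 3570), (4360, 5274), (4361, 5269), (4362, 3569), (4363, 5278), (4364, 5272), (4365, 3571), (4366, 5280), (4367, 4984), (4368, 4985), (4369, 3574), (4370, 5286), (4371, 5287), (4372, 4989), (4373, 5294), (4374, 4991), (4375, 5297), (4376, 4376), (4377, 3579), (4378, 5300), (4379, 3583), (4380, 4380), (4381, 3582), (4382, 5303), (4383, 3586), (4384, 5248), (4385, 5251), (4386, 5004), (4387, 5005), (4388, 5006), (4389, 3590), (4390, 5311), (4391, 5312), (4392, 5010), (4393, 5318), (4394, 5012), (4395, 3594), (4396, 3595), (4397, 5240), (4398, 5325), (4399, 5322), (4400, 5018), (4401, 5331), (4402, 5020), (4403, 3597), (4404, 5335), (4405, 5023), (4406, 3599), (4407, 5338), (4408, 5337), (4409, 3602), (4410, 5340), (4411, 4411), (4412, 3606), (4413, 5343), (4414,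 5249), (4415, 5252)]
    ⟨e3 q4352 (flp_f L132053) q5259, e3 q4353 (flp_f L129335) q4970, e3 q4354 (flp_f L129345) q4971, e3 q4355 L124292 q4355, e3 q4356 L124303 q4356, e3 q4357 L124310 q3568, e3 q4358 L132144 q5270, e3 q4359 L124331 q3570, e3 q4360 L132182 q5274, e3 q4361 (flp_f L132142) q5269, e3 q4362 (flp_f L124351) q3569, e3 q4363 (flp_f L132226) q5278, e3 q4364 (flp_f L132168) q5272, e3 q4365 (flp_f L124377) q3571, e3 q4366 (flp_f L132246) q5280, e3 q4367 (flp_f L129464) q4984, e3 q4368 (flp_f L129474) q4985, e3 q4369 L124417 q3574, e3 q4370 (flp_f L132296) q5286, e3 q4371 (flp_f L132305) q5287, e3 q4372 (flp_f L129511) q4989, e3 q4373 L132352 q5294, e3 q4374 (flp_f L129527) q4991, e3 q4375 L132370 q5297, e3 q4376 L124469 q4376, e3 q4377 (flp_f L124474) q3579, e3 q4378 (flp_f L132405) q5300, e3 q4379 L124495 q3583, e3 q4380 L124510 q4380, e3 q4381 L124516 q3582, e3 q4382 (flp_f L132431) q5303, e3 q4383 L124535 q3586, e3 q4384 (flp_f L131951) q5248, e3 q4385 (flp_f L131977) q5251,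 e3 q4386 (flp_f L129634) q5004, e3 q4387 (flp_f L129643) q5005, e3 q4388 (flp_f L129649) q5006, e3 q4389 L124578 q3590, e3 q4390 (flp_f L132494) q5311, e3 q4391 (flp_f L132505) q5312, e3 q4392 (flp_f L129685) q5010, e3 q4393 L132554 q5318, e3 q4394 (flp_f L129703) q5012, e3 q4395 L124626 q3594, e3 q4396 L124635 q3595, e3 q4397 (flp_f L131879) q5240, e3 q4398 L132612 q5325, e3 q4399 (flp_f L132589) q5322, e3 q4400 (flp_f L129758) q5018, e3 q4401 L132663 q5331, e3 q4402 (flp_f L129776) q5020, e3 q4403 (flp_f L124682) q3597, e3 q4404 (flp_f L132691) q5335, e3 q4405 (flp_f L129798) q5023, e3 q4406 (flp_f L124700) q3599, e3 q4407 (flp_f L132715) q5338, e3 q4408 (flp_f L132707) q5337, e3 q4409 L124735 q3602, e3 q4410 (flp_f L132735) q5340, e3 q4411 L124753 q4411, e3 q4412 L124761 q3606, e3 q4413 (flp_f L132765) q5343, e3 q4414 (flp_f L131960) q5249, e3 q4415 (flp_f L131983) q5252, trivial⟩ (by decide +kernel)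

theorem ce_f_69 : ∀ r, r < 64 → sm gf (Qf (4416 + r)) = Qf (tab Gen.f (4416 + r)) :=
  edges_tab (sm gf) Qf (tab Gen.f) 4416 [(4416, 5038), (4417, 5039), (4418, 5040), (4419, 5046), (4420, 5047), (4421, 4017), (4422, 5175), (4423, 4018), (4424, 5102), (4425, 4019), (4426, 4020), (4427, 4427), (4428, 4428), (4429, 3623), (4430, 5363), (4431, 3625), (4432, 5367), (4433, 5362), (4434, 3624), (4435, 5371), (4436, 5365), (4437, 4029), (4438, 4030), (4439, 5084), (4440, 5103), (4441, 3677), (4442, 5379), (4443, 4032), (4444, 4444), (4445, 3633), (4446, 5382), (4447, 3637), (4448, 4448), (4449, 3636), (4450, 5384), (4451, 3660), (4452, 3678), (4453, 3694), (4454, 4040), (4455, 5122), (4456, 5390), (4457, 3700), (4458, 3646), (4459, 5393), (4460, 4043), (4461, 3650), (4462, 4462), (4463, 3654), (4464, 5396), (4465, 5398), (4466, 5049), (4467, 3657), (4468, 5403), (4469, 5052), (4470, 5053), (4471, 5376), (4472, 5386), (4473, 5057), (4474, 5415), (4475, 5059), (4476, 4476), (4477, 5420), (4478,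 4478), (4479, 5424)]
    ⟨e3 q4416 (flp_f L129941) q5038, e3 q4417 (flp_f L129950) q5039, e3 q4418 (flp_f L129956) q5040, e3 q4419 (flp_f L130021) q5046, e3 q4420 (flp_f L130027) q5047, e3 q4421 L124835 q4017, e3 q4422 (flp_f L131164) q5175, e3 q4423 L124861 q4018, e3 q4424 (flp_f L130479) q5102, e3 q4425 L124877 q4019, e3 q4426 L124887 q4020, e3 q4427 L124897 q4427, e3 q4428 L124908 q4428, e3 q4429 L124915 q3623, e3 q4430 L132938 q5363, e3 q4431 L124934 q3625, e3 q4432 L132974 q5367, e3 q4433 (flp_f L132936) q5362, e3 q4434 (flp_f L124952) q3624, e3 q4435 (flp_f L133012) q5371, e3 q4436 (flp_f L132958) q5365, e3 q4437 L124982 q4029, e3 q4438 L124994 q4030, e3 q4439 (flp_f L130327) q5084, e3 q4440 (flp_f L130494) q5103, e3 q4441 L125020 q3677, e3 q4442 L133072 q5379, e3 q4443 L125036 q4032, e3 q4444 L125045 q4444, e3 q4445 (flp_f L125050) q3633, e3 q4446 (flp_f L133103) q5382, e3 q4447 L125071 q3637, e3 q4448 L125088 q4448, e3 q4449 L125096 q3636, e3 q4450 (flp_f L133120) q5384, e3 q4451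 L125111 q3660, e3 q4452 L125124 q3678, e3 q4453 L125128 q3694, e3 q4454 L125138 q4040, e3 q4455 (flp_f L130686) q5122, e3 q4456 L133166 q5390, e3 q4457 L125157 q3700, e3 q4458 (flp_f L125159) q3646, e3 q4459 (flp_f L133192) q5393, e3 q4460 L125173 q4043, e3 q4461 L125182 q3650, e3 q4462 L125189 q4462, e3 q4463 L125195 q3654, e3 q4464 (flp_f L133208) q5396, e3 q4465 L133224 q5398, e3 q4466 (flp_f L130046) q5049, e3 q4467 (flp_f L125224) q3657, e3 q4468 (flp_f L133269) q5403, e3 q4469 (flp_f L130069) q5052, e3 q4470 (flp_f L130078) q5053, e3 q4471 (flp_f L133053) q5376, e3 q4472 (flp_f L133142) q5386, e3 q4473 (flp_f L130109) q5057, e3 q4474 L133343 q5415, e3 q4475 (flp_f L130123) q5059, e3 q4476 L125280 q4476, e3 q4477 L133380 q5420, e3 q4478 L125301 q4478, e3 q4479 L133412 q5424, trivial⟩ (by decide +kernel)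

theorem ce_f_70 : ∀ r, r < 64 → sm gf (Qf (4480 + r)) = Qf (tab Gen.f (4480 + r)) :=
  edges_tab (sm gf) Qf (tab Gen.f) 4480 [(4480, 3669), (4481, 3666), (4482, 5428), (4483, 3672), (4484, 5430), (4485, 3668), (4486, 5434), (4487, 5426), (4488, 4488), (4489, 3671), (4490, 5438), (4491, 3809), (4492, 3674), (4493, 5373), (4494, 5441), (4495, 5079), (4496, 5447), (4497, 5081), (4498, 5450), (4499, 5378), (4500, 5087), (4501, 5456), (4502, 5089), (4503, 3680), (4504, 5460), (4505, 5092), (4506, 3682), (4507, 5463), (4508, 4508), (4509, 5462), (4510, 3685), (4511, 5466), (4512, 4512), (4513, 3689), (4514, 5469), (4515, 5104), (4516, 5105), (4517, 3811), (4518, 3695), (4519, 5472), (4520, 5387), (4521, 5112), (4522, 5477), (4523, 5114), (4524, 3697), (4525, 5481), (4526, 5117), (4527, 3699), (4528, 5484), (4529, 5392), (4530, 5126), (4531, 5488), (4532, 5128), (4533, 3702), (4534, 5492), (4535, 5131), (4536, 5483), (4537, 3705), (4538, 5495), (4539, 3710), (4540, 3708), (4541, 5498), (4542,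 5497), (4543, 3712)]
    ⟨e3 q4480 L125318 q3669, e3 q4481 (flp_f L125320) q3666, e3 q4482 (flp_f L133454) q5428, e3 q4483 L125338 q3672, e3 q4484 L133464 q5430, e3 q4485 (flp_f L125347) q3668, e3 q4486 (flp_f L133499) q5434, e3 q4487 (flp_f L133436) q5426, e3 q4488 L125379 q4488, e3 q4489 L125384 q3671, e3 q4490 (flp_f L133530) q5438, e3 q4491 L125404 q3809, e3 q4492 L125412 q3674, e3 q4493 (flp_f L133027) q5373, e3 q4494 (flp_f L133557) q5441, e3 q4495 (flp_f L130279) q5079, e3 q4496 L133610 q5447, e3 q4497 (flp_f L130298) q5081, e3 q4498 L133632 q5450, e3 q4499 (flp_f L133070) q5378, e3 q4500 (flp_f L130353) q5087, e3 q4501 L133684 q5456, e3 q4502 (flp_f L130370) q5089, e3 q4503 (flp_f L125504) q3680, e3 q4504 (flp_f L133724) q5460, e3 q4505 (flp_f L130392) q5092, e3 q4506 (flp_f L125522) q3682, e3 q4507 (flp_f L133750) q5463, e3 q4508 L125547 q4508, e3 q4509 (flp_f L133741) q5462, e3 q4510 L125572 q3685, e3 q4511 (flp_f L133782) q5466, e3 q4512 L125590 q4512, e3 q4513 L125599 q3689,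 e3 q4514 (flp_f L133807) q5469, e3 q4515 (flp_f L130503) q5104, e3 q4516 (flp_f L130514) q5105, e3 q4517 L125640 q3811, e3 q4518 L125646 q3695, e3 q4519 L133832 q5472, e3 q4520 (flp_f L133150) q5387, e3 q4521 (flp_f L130586) q5112, e3 q4522 L133875 q5477, e3 q4523 (flp_f L130612) q5114, e3 q4524 (flp_f L125693) q3697, e3 q4525 (flp_f L133909) q5481, e3 q4526 (flp_f L130628) q5117, e3 q4527 (flp_f L125709) q3699, e3 q4528 (flp_f L133931) q5484, e3 q4529 (flp_f L133184) q5392, e3 q4530 (flp_f L130720) q5126, e3 q4531 L133957 q5488, e3 q4532 (flp_f L130737) q5128, e3 q4533 (flp_f L125753) q3702, e3 q4534 (flp_f L133993) q5492, e3 q4535 (flp_f L130757) q5131, e3 q4536 (flp_f L133923) q5483, e3 q4537 L125783 q3705, e3 q4538 (flp_f L134011) q5495, e3 q4539 L125796 q3710, e3 q4540 L125803 q3708, e3 q4541 (flp_f L134033) q5498, e3 q4542 (flp_f L134022) q5497, e3 q4543 L125831 q3712, trivial⟩ (by decide +kernel)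

theorem ce_f_71 : ∀ r, r < 64 → sm gf (Qf (4544 + r)) = Qf (tab Gen.f (4544 + r)) :=
  edges_tab (sm gf) Qf (tab Gen.f) 4544 [(4544, 5500), (4545, 4545), (4546, 3715), (4547, 4952), (4548, 5146), (4549, 5159), (4550, 4050), (4551, 5154), (4552, 3735), (4553, 4051), (4554, 3733), (4555, 3927), (4556, 3986), (4557, 5170), (4558, 3930), (4559, 3739), (4560, 3932), (4561, 5506), (4562, 5150), (4563, 5151), (4564, 5508), (4565, 5156), (4566, 5158), (4567, 5161), (4568, 5171), (4569, 5173), (4570, 5176), (4571, 5182), (4572, 5183), (4573, 4573), (4574, 5526), (4575, 4575), (4576, 3748), (4577, 5530), (4578, 4578), (4579, 5533), (4580, 4580), (4581, 3751), (4582, 5537), (4583, 4583), (4584, 5539), (4585, 3753), (4586, 5543), (4587, 3761), (4588, 5536), (4589, 3756), (4590, 5547), (4591, 3758), (4592, 5551), (4593, 5552), (4594, 4594), (4595, 3760), (4596, 5556), (4597, 5545), (4598, 4598), (4599, 3764), (4600, 5560), (4601, 4601), (4602, 5564), (4603, 4603), (4604, 3766), (4605, 5568), (4606,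 4606), (4607, 4064)]
    ⟨e3 q4544 (flp_f L134049) q5500, e3 q4545 L125843 q4545, e3 q4546 L125850 q3715, e3 q4547 (flp_f L129157) q4952, e3 q4548 (flp_f L130876) q5146, e3 q4549 (flp_f L130995) q5159, e3 q4550 L125889 q4050, e3 q4551 (flp_f L130951) q5154, e3 q4552 L125905 q3735, e3 q4553 L125916 q4051, e3 q4554 L125923 q3733, e3 q4555 L125934 q3927, e3 q4556 L125944 q3986, e3 q4557 (flp_f L131117) q5170, e3 q4558 L125964 q3930, e3 q4559 L125972 q3739, e3 q4560 L125981 q3932, e3 q4561 (flp_f L134100) q5506, e3 q4562 (flp_f L130911) q5150, e3 q4563 (flp_f L130919) q5151, e3 q4564 (flp_f L134122) q5508, e3 q4565 (flp_f L130970) q5156, e3 q4566 (flp_f L130990) q5158, e3 q4567 (flp_f L131018) q5161, e3 q4568 (flp_f L131125) q5171, e3 q4569 (flp_f L131148) q5173, e3 q4570 (flp_f L131176) q5176, e3 q4571 (flp_f L131254) q5182, e3 q4572 (flp_f L131267) q5183, e3 q4573 L126085 q4573, e3 q4574 L134265 q5526, e3 q4575 L126104 q4575, e3 q4576 (flp_f L126107) q3748, e3 q4577 (flp_f L134309) q5530,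 e3 q4578 L126132 q4578, e3 q4579 L134330 q5533, e3 q4580 L126153 q4580, e3 q4581 (flp_f L126156) q3751, e3 q4582 (flp_f L134377) q5537, e3 q4583 L126182 q4583, e3 q4584 L134390 q5539, e3 q4585 (flp_f L126191) q3753, e3 q4586 (flp_f L134421) q5543, e3 q4587 L126212 q3761, e3 q4588 (flp_f L134367) q5536, e3 q4589 L126232 q3756, e3 q4590 (flp_f L134456) q5547, e3 q4591 (flp_f L126243) q3758, e3 q4592 (flp_f L134483) q5551, e3 q4593 (flp_f L134493) q5552, e3 q4594 L126270 q4594, e3 q4595 L126276 q3760, e3 q4596 (flp_f L134520) q5556, e3 q4597 (flp_f L134435) q5545, e3 q4598 L126301 q4598, e3 q4599 L126309 q3764, e3 q4600 (flp_f L134552) q5560, e3 q4601 L126327 q4601, e3 q4602 L134585 q5564, e3 q4603 L126346 q4603, e3 q4604 (flp_f L126349) q3766, e3 q4605 (flp_f L134624) q5568, e3 q4606 L126373 q4606, e3 q4607 L126385 q4064, trivial⟩ (by decide +kernel)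

theorem ce_f_72 : ∀ r, r < 64 → sm gf (Qf (4608 + r)) = Qf (tab Gen.f (4608 + r)) :=
  edges_tab (sm gf) Qf (tab Gen.f) 4608 [(4608, 3769), (4609, 5571), (4610, 3774), (4611, 3772), (4612, 5574), (4613, 5573), (4614, 3776), (4615, 5577), (4616, 4616), (4617, 3779), (4618, 4942), (4619, 4619), (4620, 5580), (4621, 4621), (4622, 3783), (4623, 5584), (4624, 4624), (4625, 4044), (4626, 3786), (4627, 5587), (4628, 4070), (4629, 3790), (4630, 5590), (4631, 3794), (4632, 3793), (4633, 5593), (4634, 5592), (4635, 3796), (4636, 5024), (4637, 3904), (4638, 5160), (4639, 4639), (4640, 3805), (4641, 5597), (4642, 3862), (4643, 3806), (4644, 5402), (4645, 3864), (4646, 5440), (4647, 5198), (4648, 3850), (4649, 4649), (4650, 3853), (4651, 4651), (4652, 4652), (4653, 4653), (4654, 5608), (4655, 4655), (4656, 5610), (4657, 5612), (4658, 3821), (4659, 3818), (4660, 5616), (4661, 3824), (4662, 5618), (4663, 3820), (4664, 5622), (4665, 5614), (4666, 4666), (4667, 3823), (4668, 5626), (4669, 5628), (4670,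 3828), (4671, 3829)]
    ⟨e3 q4608 L126394 q3769, e3 q4609 (flp_f L134653) q5571, e3 q4610 L126414 q3774, e3 q4611 L126423 q3772, e3 q4612 (flp_f L134682) q5574, e3 q4613 (flp_f L134673) q5573, e3 q4614 L126449 q3776, e3 q4615 (flp_f L134711) q5577, e3 q4616 L126464 q4616, e3 q4617 L126473 q3779, e3 q4618 (flp_f L129050) q4942, e3 q4619 L126495 q4619, e3 q4620 L134733 q5580, e3 q4621 L126513 q4621, e3 q4622 (flp_f L126516) q3783, e3 q4623 (flp_f L134773) q5584, e3 q4624 L126537 q4624, e3 q4625 L126547 q4044, e3 q4626 L126554 q3786, e3 q4627 (flp_f L134799) q5587, e3 q4628 L126571 q4070, e3 q4629 L126579 q3790, e3 q4630 (flp_f L134819) q5590, e3 q4631 L126597 q3794, e3 q4632 L126605 q3793, e3 q4633 (flp_f L134845) q5593, e3 q4634 (flp_f L134836) q5592, e3 q4635 L126631 q3796, e3 q4636 (flp_f L129810) q5024, e3 q4637 L126643 q3904, e3 q4638 (flp_f L131014) q5160, e3 q4639 L126665 q4639, e3 q4640 L126676 q3805, e3 q4641 L134877 q5597, e3 q4642 L126701 q3862, e3 q4643 (flp_f L126704) q3806,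 e3 q4644 (flp_f L133263) q5402, e3 q4645 L126727 q3864, e3 q4646 (flp_f L133549) q5440, e3 q4647 (flp_f L131437) q5198, e3 q4648 (flp_f L126759) q3850, e3 q4649 L126768 q4649, e3 q4650 L126775 q3853, e3 q4651 L126787 q4651, e3 q4652 L126798 q4652, e3 q4653 L126803 q4653, e3 q4654 L134981 q5608, e3 q4655 L126827 q4655, e3 q4656 L135003 q5610, e3 q4657 L135020 q5612, e3 q4658 L126861 q3821, e3 q4659 (flp_f L126865) q3818, e3 q4660 (flp_f L135069) q5616, e3 q4661 L126891 q3824, e3 q4662 L135081 q5618, e3 q4663 (flp_f L126905) q3820, e3 q4664 (flp_f L135122) q5622, e3 q4665 (flp_f L135047) q5614, e3 q4666 L126937 q4666, e3 q4667 L126945 q3823, e3 q4668 (flp_f L135157) q5626, e3 q4669 L135167 q5628, e3 q4670 (flp_f L126966) q3828, e3 q4671 (flp_f L126977) q3829, trivial⟩ (by decide +kernel)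

theorem ce_f_73 : ∀ r, r < 64 → sm gf (Qf (4672 + r)) = Qf (tab Gen.f (4672 + r)) :=
  edges_tab (sm gf) Qf (tab Gen.f) 4672 [(4672, 5630), (4673, 3831), (4674, 5632), (4675, 4675), (4676, 3835), (4677, 5634), (4678, 3836), (4679, 3898), (4680, 3839), (4681, 3896), (4682, 3841), (4683, 4683), (4684, 3844), (4685, 4959), (4686, 4686), (4687, 4687), (4688, 5641), (4689, 3848), (4690, 5642), (4691, 3849), (4692, 5646), (4693, 5602), (4694, 4694), (4695, 3852), (4696, 5650), (4697, 4697), (4698, 3858), (4699, 5653), (4700, 4700), (4701, 3861), (4702, 5033), (4703, 5599), (4704, 4704), (4705, 4705), (4706, 5221), (4707, 4707), (4708, 5662), (4709, 4709), (4710, 5665), (4711, 3868), (4712, 5668), (4713, 3870), (4714, 5670), (4715, 3871), (4716, 5674), (4717, 3879), (4718, 5669), (4719, 3874), (4720, 5678), (4721, 3876), (4722, 5682), (4723, 5683), (4724, 4724), (4725, 3878), (4726, 5687), (4727, 5676), (4728, 4728), (4729, 3882), (4730, 5691), (4731, 3884), (4732, 5694), (4733, 5631), (4734,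 3888), (4735, 5629)]
    ⟨e3 q4672 (flp_f L135199) q5630, e3 q4673 L127003 q3831, e3 q4674 (flp_f L135221) q5632, e3 q4675 L127020 q4675, e3 q4676 L127028 q3835, e3 q4677 (flp_f L135235) q5634, e3 q4678 (flp_f L127036) q3836, e3 q4679 L127056 q3898, e3 q4680 L127068 q3839, e3 q4681 L127079 q3896, e3 q4682 L127090 q3841, e3 q4683 L127097 q4683, e3 q4684 L127104 q3844, e3 q4685 (flp_f L129231) q4959, e3 q4686 L127118 q4686, e3 q4687 L127123 q4687, e3 q4688 L135300 q5641, e3 q4689 (flp_f L127131) q3848, e3 q4690 L135307 q5642, e3 q4691 (flp_f L127143) q3849, e3 q4692 (flp_f L135338) q5646, e3 q4693 (flp_f L134929) q5602, e3 q4694 L127167 q4694, e3 q4695 L127173 q3852, e3 q4696 (flp_f L135375) q5650, e3 q4697 L127188 q4697, e3 q4698 L127196 q3858, e3 q4699 (flp_f L135399) q5653, e3 q4700 L127209 q4700, e3 q4701 L127214 q3861, e3 q4702 (flp_f L129897) q5033, e3 q4703 (flp_f L134902) q5599, e3 q4704 L127236 q4704, e3 q4705 L127244 q4705, e3 q4706 (flp_f L131689) q5221, e3 q4707 L127253 q4707,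 e3 q4708 L135460 q5662, e3 q4709 L127269 q4709, e3 q4710 L135479 q5665, e3 q4711 (flp_f L127275) q3868, e3 q4712 L135499 q5668, e3 q4713 (flp_f L127290) q3870, e3 q4714 L135513 q5670, e3 q4715 (flp_f L127300) q3871, e3 q4716 (flp_f L135547) q5674, e3 q4717 L127322 q3879, e3 q4718 (flp_f L135511) q5669, e3 q4719 L127336 q3874, e3 q4720 (flp_f L135578) q5678, e3 q4721 (flp_f L127344) q3876, e3 q4722 (flp_f L135607) q5682, e3 q4723 (flp_f L135618) q5683, e3 q4724 L127373 q4724, e3 q4725 L127380 q3878, e3 q4726 (flp_f L135659) q5687, e3 q4727 (flp_f L135561) q5676, e3 q4728 L127402 q4728, e3 q4729 L127409 q3882, e3 q4730 (flp_f L135699) q5691, e3 q4731 (flp_f L127417) q3884, e3 q4732 (flp_f L135728) q5694, e3 q4733 (flp_f L135210) q5631, e3 q4734 L127447 q3888, e3 q4735 (flp_f L135187) q5629, trivial⟩ (by decide +kernel)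

theorem ce_f_74 : ∀ r, r < 64 → sm gf (Qf (4736 + r)) = Qf (tab Gen.f (4736 + r)) :=
  edges_tab (sm gf) Qf (tab Gen.f) 4736 [(4736, 3890), (4737, 5696), (4738, 4738), (4739, 3893), (4740, 4941), (4741, 5637), (4742, 3895), (4743, 5636), (4744, 3900), (4745, 5016), (4746, 5187), (4747, 4747), (4748, 4748), (4749, 5189), (4750, 4750), (4751, 4795), (4752, 4752), (4753, 4753), (4754, 3918), (4755, 5707), (4756, 3922), (4757, 5509), (4758, 3924), (4759, 4792), (4760, 5708), (4761, 5711), (4762, 4762), (4763, 5507), (4764, 3929), (4765, 5510), (4766, 5715), (4767, 3933), (4768, 5719), (4769, 4769), (4770, 3942), (4771, 3936), (4772, 5723), (4773, 3938), (4774, 5727), (4775, 5728), (4776, 5718), (4777, 3940), (4778, 5732), (4779, 3951), (4780, 5722), (4781, 3944), (4782, 5736), (4783, 4783), (4784, 4784), (4785, 3946), (4786, 3947), (4787, 5740), (4788, 5741), (4789, 4789), (4790, 3950), (4791, 5744), (4792, 4759), (4793, 4793), (4794, 3954), (4795, 4751), (4796, 3958), (4797, 3957), (4798,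 5746), (4799, 5745)]
    ⟨e3 q4736 L127467 q3890, e3 q4737 (flp_f L135744) q5696, e3 q4738 L127479 q4738, e3 q4739 L127486 q3893, e3 q4740 (flp_f L129033) q4941, e3 q4741 (flp_f L135263) q5637, e3 q4742 L127507 q3895, e3 q4743 (flp_f L135254) q5636, e3 q4744 L127519 q3900, e3 q4745 L129744 q5016, e3 q4746 (flp_f L131313) q5187, e3 q4747 L127535 q4747, e3 q4748 L127542 q4748, e3 q4749 (flp_f L131338) q5189, e3 q4750 L127557 q4750, e3 q4751 (flp_f L127930) q4795, e3 q4752 L127578 q4752, e3 q4753 L127589 q4753, e3 q4754 (flp_f L127590) q3918, e3 q4755 (flp_f L135850) q5707, e3 q4756 L127613 q3922, e3 q4757 (flp_f L134129) q5509, e3 q4758 L127628 q3924, e3 q4759 L127903 q4792, e3 q4760 (flp_f L135863) q5708, e3 q4761 L135883 q5711, e3 q4762 L127656 q4762, e3 q4763 (flp_f L134113) q5507, e3 q4764 L127671 q3929, e3 q4765 (flp_f L134139) q5510, e3 q4766 L135913 q5715, e3 q4767 (flp_f L127688) q3933, e3 q4768 (flp_f L135949) q5719, e3 q4769 L127708 q4769, e3 q4770 L127718 q3942, e3 q4771 L127727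 q3936, e3 q4772 (flp_f L135985) q5723, e3 q4773 (flp_f L127738) q3938, e3 q4774 (flp_f L136023) q5727, e3 q4775 (flp_f L136033) q5728, e3 q4776 (flp_f L135941) q5718, e3 q4777 L127770 q3940, e3 q4778 (flp_f L136061) q5732, e3 q4779 L127782 q3951, e3 q4780 (flp_f L135975) q5722, e3 q4781 L127803 q3944, e3 q4782 (flp_f L136087) q5736, e3 q4783 L127817 q4783, e3 q4784 L127825 q4784, e3 q4785 L127831 q3946, e3 q4786 L127852 q3947, e3 q4787 (flp_f L136126) q5740, e3 q4788 (flp_f L136135) q5741, e3 q4789 L127875 q4789, e3 q4790 L127883 q3950, e3 q4791 (flp_f L136163) q5744, e3 q4792 (flp_f L127903) q4759, e3 q4793 L127910 q4793, e3 q4794 L127918 q3954, e3 q4795 L127930 q4751, e3 q4796 L127945 q3958, e3 q4797 L127954 q3957, e3 q4798 (flp_f L136184) q5746, e3 q4799 (flp_f L136176) q5745, trivial⟩ (by decide +kernel)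

theorem ce_f_75 : ∀ r, r < 64 → sm gf (Qf (4800 + r)) = Qf (tab Gen.f (4800 + r)) :=
  edges_tab (sm gf) Qf (tab Gen.f) 4800 [(4800, 3960), (4801, 4992), (4802, 4289), (4803, 3967), (4804, 3966), (4805, 5026), (4806, 4806), (4807, 4807), (4808, 3974), (4809, 3975), (4810, 5750), (4811, 4811), (4812, 5163), (4813, 5208), (4814, 5209), (4815, 5211), (4816, 5212), (4817, 3991), (4818, 5759), (4819, 3993), (4820, 5763), (4821, 5758), (4822, 3992), (4823, 5767), (4824, 5761), (4825, 5222), (4826, 5223), (4827, 5226), (4828, 5775), (4829, 5228), (4830, 3997), (4831, 5779), (4832, 4001), (4833, 4833), (4834, 4000), (4835, 5782), (4836, 5234), (4837, 5235), (4838, 5236), (4839, 5118), (4840, 5121), (4841, 5237), (4842, 5110), (4843, 5241), (4844, 4007), (4845, 5791), (4846, 5243), (4847, 5583), (4848, 4010), (4849, 5794), (4850, 4850), (4851, 4014), (4852, 5797), (4853, 5250), (4854, 5351), (4855, 5352), (4856, 5353), (4857, 5356), (4858, 5807), (4859, 5358), (4860, 5811), (4861, 4025), (4862,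 4022), (4863, 5815)]
    ⟨e3 q4800 L127976 q3960, e3 q4801 L129538 q4992, e3 q4802 L127988 q4289, e3 q4803 L128001 q3967, e3 q4804 L128008 q3966, e3 q4805 (flp_f L129833) q5026, e3 q4806 L128024 q4806, e3 q4807 L128031 q4807, e3 q4808 L128041 q3974, e3 q4809 L128049 q3975, e3 q4810 (flp_f L136216) q5750, e3 q4811 L128068 q4811, e3 q4812 (flp_f L131039) q5163, e3 q4813 (flp_f L131536) q5208, e3 q4814 (flp_f L131553) q5209, e3 q4815 (flp_f L131575) q5211, e3 q4816 (flp_f L131587) q5212, e3 q4817 L128121 q3991, e3 q4818 L136288 q5759, e3 q4819 L128142 q3993, e3 q4820 L136322 q5763, e3 q4821 (flp_f L136286) q5758, e3 q4822 (flp_f L128163) q3992, e3 q4823 (flp_f L136363) q5767, e3 q4824 (flp_f L136311) q5761, e3 q4825 (flp_f L131700) q5222, e3 q4826 (flp_f L131715) q5223, e3 q4827 (flp_f L131747) q5226, e3 q4828 L136414 q5775, e3 q4829 (flp_f L131767) q5228, e3 q4830 (flp_f L128217) q3997, e3 q4831 (flp_f L136447) q5779, e3 q4832 L128237 q4001, e3 q4833 L128246 q4833, e3 q4834 L128252 q4000,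 e3 q4835 (flp_f L136470) q5782, e3 q4836 (flp_f L131819) q5234, e3 q4837 (flp_f L131830) q5235, e3 q4838 (flp_f L131838) q5236, e3 q4839 L130643 q5118, e3 q4840 (flp_f L130678) q5121, e3 q4841 (flp_f L131851) q5237, e3 q4842 (flp_f L130574) q5110, e3 q4843 (flp_f L131889) q5241, e3 q4844 (flp_f L128313) q4007, e3 q4845 (flp_f L136529) q5791, e3 q4846 (flp_f L131905) q5243, e3 q4847 (flp_f L134765) q5583, e3 q4848 L128346 q4010, e3 q4849 (flp_f L136553) q5794, e3 q4850 L128361 q4850, e3 q4851 L128369 q4014, e3 q4852 (flp_f L136574) q5797, e3 q4853 (flp_f L131966) q5250, e3 q4854 (flp_f L132839) q5351, e3 q4855 (flp_f L132845) q5352, e3 q4856 (flp_f L132855) q5353, e3 q4857 (flp_f L132879) q5356, e3 q4858 L136625 q5807, e3 q4859 (flp_f L132895) q5358, e3 q4860 L136649 q5811, e3 q4861 L128433 q4025, e3 q4862 (flp_f L128435) q4022, e3 q4863 (flp_f L136688) q5815, trivial⟩ (by decide +kernel)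

theorem ce_f_76 : ∀ r, r < 64 → sm gf (Qf (4864 + r)) = Qf (tab Gen.f (4864 + r)) :=
  edges_tab (sm gf) Qf (tab Gen.f) 4864 [(4864, 4028), (4865, 5817), (4866, 4024), (4867, 5821), (4868, 5813), (4869, 4869), (4870, 4027), (4871, 5825), (4872, 5827), (4873, 5374), (4874, 4031), (4875, 5831), (4876, 5381), (4877, 5567), (4878, 4034), (4879, 5834), (4880, 4880), (4881, 4038), (4882, 5837), (4883, 4039), (4884, 5839), (4885, 5388), (4886, 5491), (4887, 4042), (4888, 5842), (4889, 5586), (4890, 4046), (4891, 5845), (4892, 4892), (4893, 4049), (4894, 5848), (4895, 5503), (4896, 5504), (4897, 5853), (4898, 4052), (4899, 5857), (4900, 4060), (4901, 5529), (4902, 4055), (4903, 5861), (4904, 4057), (4905, 5865), (4906, 5866), (4907, 4907), (4908, 4059), (4909, 5870), (4910, 5859), (4911, 4911), (4912, 4063), (4913, 5874), (4914, 5570), (4915, 4066), (4916, 5877), (4917, 4917), (4918, 4069), (4919, 5880), (4920, 5589), (4921, 4072), (4922, 5884), (4923, 4923), (4924, 4075), (4925, 4925), (4926,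 5889), (4927, 4927)]
    ⟨e3 q4864 L128452 q4028, e3 q4865 L136697 q5817, e3 q4866 (flp_f L128462) q4024, e3 q4867 (flp_f L136734) q5821, e3 q4868 (flp_f L136672) q5813, e3 q4869 L128491 q4869, e3 q4870 L128496 q4027, e3 q4871 (flp_f L136765) q5825, e3 q4872 L136774 q5827, e3 q4873 (flp_f L133039) q5374, e3 q4874 (flp_f L128519) q4031, e3 q4875 (flp_f L136806) q5831, e3 q4876 (flp_f L133092) q5381, e3 q4877 (flp_f L134615) q5567, e3 q4878 L128554 q4034, e3 q4879 (flp_f L136832) q5834, e3 q4880 L128571 q4880, e3 q4881 L128580 q4038, e3 q4882 (flp_f L136854) q5837, e3 q4883 (flp_f L128589) q4039, e3 q4884 (flp_f L136868) q5839, e3 q4885 (flp_f L133154) q5388, e3 q4886 (flp_f L133985) q5491, e3 q4887 L128611 q4042, e3 q4888 (flp_f L136884) q5842, e3 q4889 (flp_f L134790) q5586, e3 q4890 L128631 q4046, e3 q4891 (flp_f L136901) q5845, e3 q4892 L128641 q4892, e3 q4893 L128647 q4049, e3 q4894 (flp_f L136917) q5848, e3 q4895 (flp_f L134071) q5503, e3 q4896 (flp_f L134082) q5504, e3 q4897 L136942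 q5853, e3 q4898 (flp_f L128672) q4052, e3 q4899 (flp_f L136975) q5857, e3 q4900 L128692 q4060, e3 q4901 (flp_f L134299) q5529, e3 q4902 L128710 q4055, e3 q4903 (flp_f L137010) q5861, e3 q4904 (flp_f L128720) q4057, e3 q4905 (flp_f L137037) q5865, e3 q4906 (flp_f L137046) q5866, e3 q4907 L128749 q4907, e3 q4908 L128755 q4059, e3 q4909 (flp_f L137076) q5870, e3 q4910 (flp_f L136988) q5859, e3 q4911 L128780 q4911, e3 q4912 L128788 q4063, e3 q4913 (flp_f L137106) q5874, e3 q4914 (flp_f L134644) q5570, e3 q4915 L128814 q4066, e3 q4916 (flp_f L137130) q5877, e3 q4917 L128827 q4917, e3 q4918 L128835 q4069, e3 q4919 (flp_f L137152) q5880, e3 q4920 (flp_f L134811) q5589, e3 q4921 L128858 q4072, e3 q4922 (flp_f L137177) q5884, e3 q4923 L128868 q4923, e3 q4924 L128875 q4075, e3 q4925 L128884 q4925, e3 q4926 (flp_f L137208) q5889, e3 q4927 L128899 q4927, trivial⟩ (by decide +kernel)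

theorem ce_f_77 : ∀ r, r < 64 → sm gf (Qf (4928 + r)) = Qf (tab Gen.f (4928 + r)) :=
  edges_tab (sm gf) Qf (tab Gen.f) 4928 [(4928, 4078), (4929, 4079), (4930, 5700), (4931, 5897), (4932, 5894), (4933, 4933), (4934, 4934), (4935, 4935), (4936, 5901), (4937, 4085), (4938, 4084), (4939, 5905), (4940, 5903), (4941, 4740), (4942, 4618), (4943, 4943), (4944, 4944), (4945, 4945), (4946, 4093), (4947, 5912), (4948, 4097), (4949, 4949), (4950, 4096), (4951, 5915), (4952, 4547), (4953, 4953), (4954, 4954), (4955, 4955), (4956, 4104), (4957, 4161), (4958, 4105), (4959, 4685), (4960, 5921), (4961, 5923), (4962, 4962), (4963, 4963), (4964, 4964), (4965, 4348), (4966, 5931), (4967, 4350), (4968, 4110), (4969, 5935), (4970, 4353), (4971, 4354), (4972, 4972), (4973, 4973), (4974, 4115), (4975, 5945), (4976, 4117), (4977, 5949), (4978, 5944), (4979, 4116), (4980, 5953), (4981, 5947), (4982, 4118), (4983, 5955), (4984, 4367), (4985, 4368), (4986, 4121), (4987, 5961), (4988, 5962), (4989, 4372), (4990,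 5969), (4991, 4374)]
    ⟨e3 q4928 L128909 q4078, e3 q4929 L128917 q4079, e3 q4930 (flp_f L135777) q5700, e3 q4931 L137276 q5897, e3 q4932 (flp_f L137257) q5894, e3 q4933 L128953 q4933, e3 q4934 L128961 q4934, e3 q4935 L128977 q4935, e3 q4936 L137313 q5901, e3 q4937 L129000 q4085, e3 q4938 (flp_f L129002) q4084, e3 q4939 (flp_f L137366) q5905, e3 q4940 (flp_f L137344) q5903, e3 q4941 L129033 q4740, e3 q4942 L129050 q4618, e3 q4943 L129061 q4943, e3 q4944 L129075 q4944, e3 q4945 L129085 q4945, e3 q4946 (flp_f L129088) q4093, e3 q4947 (flp_f L137445) q5912, e3 q4948 L129116 q4097, e3 q4949 L129129 q4949, e3 q4950 L129136 q4096, e3 q4951 (flp_f L137485) q5915, e3 q4952 L129157 q4547, e3 q4953 L129167 q4953, e3 q4954 L129181 q4954, e3 q4955 L129190 q4955, e3 q4956 L129195 q4104, e3 q4957 L129215 q4161, e3 q4958 L129223 q4105, e3 q4959 L129231 q4685, e3 q4960 (flp_f L137561) q5921, e3 q4961 (flp_f L137586) q5923, e3 q4962 L129260 q4962, e3 q4963 L129269 q4963, e3 q4964 L129276 q4964, e3 q4965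 L129283 q4348, e3 q4966 L137657 q5931, e3 q4967 L129306 q4350, e3 q4968 (flp_f L129308) q4110, e3 q4969 (flp_f L137708) q5935, e3 q4970 L129335 q4353, e3 q4971 L129345 q4354, e3 q4972 L129355 q4972, e3 q4973 L129365 q4973, e3 q4974 L129374 q4115, e3 q4975 L137793 q5945, e3 q4976 L129392 q4117, e3 q4977 L137828 q5949, e3 q4978 (flp_f L137791) q5944, e3 q4979 (flp_f L129409) q4116, e3 q4980 (flp_f L137870) q5953, e3 q4981 (flp_f L137816) q5947, e3 q4982 (flp_f L129439) q4118, e3 q4983 (flp_f L137889) q5955, e3 q4984 L129464 q4367, e3 q4985 L129474 q4368, e3 q4986 L129485 q4121, e3 q4987 (flp_f L137939) q5961, e3 q4988 (flp_f L137950) q5962, e3 q4989 L129511 q4372, e3 q4990 L138012 q5969, e3 q4991 L129527 q4374, trivial⟩ (by decide +kernel)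

theorem ce_f_78 : ∀ r, r < 64 → sm gf (Qf (4992 + r)) = Qf (tab Gen.f (4992 + r)) :=
  edges_tab (sm gf) Qf (tab Gen.f) 4992 [(4992, 4801), (4993, 4993), (4994, 4126), (4995, 5975), (4996, 4130), (4997, 4997), (4998, 4129), (4999, 5978), (5000, 4132), (5001, 4133), (5002, 5980), (5003, 5982), (5004, 4386), (5005, 4387), (5006, 4388), (5007, 4137), (5008, 5989), (5009, 5990), (5010, 4392), (5011, 5997), (5012, 4394), (5013, 4141), (5014, 4142), (5015, 6000), (5016, 4745), (5017, 6002), (5018, 4400), (5019, 6010), (5020, 4402), (5021, 4144), (5022, 6014), (5023, 4405), (5024, 4636), (5025, 5025), (5026, 4805), (5027, 4149), (5028, 6018), (5029, 5029), (5030, 4153), (5031, 6021), (5032, 4156), (5033, 4702), (5034, 4157), (5035, 4339), (5036, 6023), (5037, 6025), (5038, 4416), (5039, 4417), (5040, 4418), (5041, 5922), (5042, 4165), (5043, 4325), (5044, 4340), (5045, 4344), (5046, 4419), (5047, 4420), (5048, 6036), (5049, 4466), (5050, 4170), (5051, 6041), (5052, 4469), (5053, 4470), (5054,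 4173), (5055, 6047)]
    ⟨e3 q4992 (flp_f L129538) q4801, e3 q4993 L129546 q4993, e3 q4994 (flp_f L129549) q4126, e3 q4995 (flp_f L138075) q5975, e3 q4996 L129566 q4130, e3 q4997 L129578 q4997, e3 q4998 L129585 q4129, e3 q4999 (flp_f L138097) q5978, e3 q5000 L129599 q4132, e3 q5001 L129609 q4133, e3 q5002 (flp_f L138114) q5980, e3 q5003 (flp_f L138141) q5982, e3 q5004 L129634 q4386, e3 q5005 L129643 q4387, e3 q5006 L129649 q4388, e3 q5007 L129661 q4137, e3 q5008 (flp_f L138197) q5989, e3 q5009 (flp_f L138214) q5990, e3 q5010 L129685 q4392, e3 q5011 L138288 q5997, e3 q5012 L129703 q4394, e3 q5013 L129709 q4141, e3 q5014 L129720 q4142, e3 q5015 (flp_f L138320) q6000, e3 q5016 (flp_f L129744) q4745, e3 q5017 (flp_f L138351) q6002, e3 q5018 L129758 q4400, e3 q5019 L138433 q6010, e3 q5020 L129776 q4402, e3 q5021 (flp_f L129778) q4144, e3 q5022 (flp_f L138485) q6014, e3 q5023 L129798 q4405, e3 q5024 L129810 q4636, e3 q5025 L129818 q5025, e3 q5026 L129833 q4805, e3 q5027 L129841 q4149, e3 q5028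 (flp_f L138528) q6018, e3 q5029 L129856 q5029, e3 q5030 L129863 q4153, e3 q5031 (flp_f L138556) q6021, e3 q5032 L129878 q4156, e3 q5033 L129897 q4702, e3 q5034 L129905 q4157, e3 q5035 L129913 q4339, e3 q5036 (flp_f L138577) q6023, e3 q5037 (flp_f L138606) q6025, e3 q5038 L129941 q4416, e3 q5039 L129950 q4417, e3 q5040 L129956 q4418, e3 q5041 (flp_f L137575) q5922, e3 q5042 L129974 q4165, e3 q5043 L129985 q4325, e3 q5044 L129998 q4340, e3 q5045 L130008 q4344, e3 q5046 L130021 q4419, e3 q5047 L130027 q4420, e3 q5048 L138724 q6036, e3 q5049 L130046 q4466, e3 q5050 (flp_f L130048) q4170, e3 q5051 (flp_f L138776) q6041, e3 q5052 L130069 q4469, e3 q5053 L130078 q4470, e3 q5054 L130087 q4173, e3 q5055 (flp_f L138822) q6047, trivial⟩ (by decide +kernel)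

theorem ce_f_79 : ∀ r, r < 64 → sm gf (Qf (5056 + r)) = Qf (tab Gen.f (5056 + r)) :=
  edges_tab (sm gf) Qf (tab Gen.f) 5056 [(5056, 6048), (5057, 4473), (5058, 6055), (5059, 4475), (5060, 5060), (5061, 6060), (5062, 5062), (5063, 6064), (5064, 4182), (5065, 4179), (5066, 6068), (5067, 4185), (5068, 6070), (5069, 4181), (5070, 6074), (5071, 6066), (5072, 5072), (5073, 4184), (5074, 6078), (5075, 5075), (5076, 4187), (5077, 6081), (5078, 6082), (5079, 4495), (5080, 6089), (5081, 4497), (5082, 4191), (5083, 4192), (5084, 4439), (5085, 6097), (5086, 6093), (5087, 4500), (5088, 6103), (5089, 4502), (5090, 4194), (5091, 6107), (5092, 4505), (5093, 4196), (5094, 6110), (5095, 5095), (5096, 6109), (5097, 4199), (5098, 6113), (5099, 5099), (5100, 4203), (5101, 6116), (5102, 4424), (5103, 4440), (5104, 4515), (5105, 4516), (5106, 5106), (5107, 4211), (5108, 4212), (5109, 4334), (5110, 4842), (5111, 6122), (5112, 4521), (5113, 6128), (5114, 4523), (5115, 4214), (5116, 6132), (5117, 4526), (5118,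 4839), (5119, 4220)]
    ⟨e3 q5056 (flp_f L138831) q6048, e3 q5057 L130109 q4473, e3 q5058 L138873 q6055, e3 q5059 L130123 q4475, e3 q5060 L130127 q5060, e3 q5061 L138913 q6060, e3 q5062 L130145 q5062, e3 q5063 L138942 q6064, e3 q5064 L130159 q4182, e3 q5065 (flp_f L130161) q4179, e3 q5066 (flp_f L138978) q6068, e3 q5067 L130178 q4185, e3 q5068 L138987 q6070, e3 q5069 (flp_f L130189) q4181, e3 q5070 (flp_f L139021) q6074, e3 q5071 (flp_f L138962) q6066, e3 q5072 L130217 q5072, e3 q5073 L130224 q4184, e3 q5074 (flp_f L139052) q6078, e3 q5075 L130245 q5075, e3 q5076 L130252 q4187, e3 q5077 (flp_f L139082) q6081, e3 q5078 (flp_f L139098) q6082, e3 q5079 L130279 q4495, e3 q5080 L139169 q6089, e3 q5081 L130298 q4497, e3 q5082 L130304 q4191, e3 q5083 L130317 q4192, e3 q5084 L130327 q4439, e3 q5085 L139253 q6097, e3 q5086 (flp_f L139216) q6093, e3 q5087 L130353 q4500, e3 q5088 L139304 q6103, e3 q5089 L130370 q4502, e3 q5090 (flp_f L130372) q4194, e3 q5091 (flp_f L139346) q6107, e3 q5092 L130392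 q4505, e3 q5093 (flp_f L130396) q4196, e3 q5094 (flp_f L139369) q6110, e3 q5095 L130417 q5095, e3 q5096 (flp_f L139361) q6109, e3 q5097 L130438 q4199, e3 q5098 (flp_f L139397) q6113, e3 q5099 L130455 q5099, e3 q5100 L130463 q4203, e3 q5101 (flp_f L139420) q6116, e3 q5102 L130479 q4424, e3 q5103 L130494 q4440, e3 q5104 L130503 q4515, e3 q5105 L130514 q4516, e3 q5106 L130524 q5106, e3 q5107 L130531 q4211, e3 q5108 L130545 q4212, e3 q5109 L130553 q4334, e3 q5110 L130574 q4842, e3 q5111 (flp_f L139494) q6122, e3 q5112 L130586 q4521, e3 q5113 L139555 q6128, e3 q5114 L130612 q4523, e3 q5115 (flp_f L130614) q4214, e3 q5116 (flp_f L139607) q6132, e3 q5117 L130628 q4526, e3 q5118 (flp_f L130643) q4839, e3 q5119 L130651 q4220, trivial⟩ (by decide +kernel)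

theorem ce_f_80 : ∀ r, r < 64 → sm gf (Qf (5120 + r)) = Qf (tab Gen.f (5120 + r)) :=
  edges_tab (sm gf) Qf (tab Gen.f) 5120 [(5120, 4331), (5121, 4840), (5122, 4455), (5123, 4219), (5124, 6141), (5125, 6135), (5126, 4530), (5127, 6145), (5128, 4532), (5129, 4222), (5130, 6149), (5131, 4535), (5132, 6140), (5133, 4225), (5134, 6152), (5135, 4230), (5136, 4228), (5137, 6155), (5138, 6154), (5139, 4232), (5140, 6158), (5141, 5141), (5142, 4235), (5143, 5917), (5144, 4316), (5145, 4332), (5146, 4548), (5147, 4326), (5148, 4243), (5149, 6162), (5150, 4562), (5151, 4563), (5152, 5152), (5153, 4246), (5154, 4551), (5155, 6169), (5156, 4565), (5157, 5157), (5158, 4566), (5159, 4549), (5160, 4638), (5161, 4567), (5162, 5162), (5163, 4812), (5164, 5164), (5165, 5165), (5166, 5166), (5167, 4260), (5168, 4320), (5169, 4287), (5170, 4557), (5171, 4568), (5172, 5172), (5173, 4569), (5174, 5174), (5175, 4422), (5176, 4570), (5177, 5177), (5178, 4307), (5179, 5179), (5180, 4336), (5181, 4294), (5182,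 4571), (5183, 4572)]
    ⟨e3 q5120 L130659 q4331, e3 q5121 L130678 q4840, e3 q5122 L130686 q4455, e3 q5123 (flp_f L130690) q4219, e3 q5124 (flp_f L139707) q6141, e3 q5125 (flp_f L139630) q6135, e3 q5126 L130720 q4530, e3 q5127 L139732 q6145, e3 q5128 L130737 q4532, e3 q5129 (flp_f L130739) q4222, e3 q5130 (flp_f L139780) q6149, e3 q5131 L130757 q4535, e3 q5132 (flp_f L139695) q6140, e3 q5133 L130771 q4225, e3 q5134 (flp_f L139800) q6152, e3 q5135 L130784 q4230, e3 q5136 L130792 q4228, e3 q5137 (flp_f L139826) q6155, e3 q5138 (flp_f L139814) q6154, e3 q5139 L130814 q4232, e3 q5140 (flp_f L139852) q6158, e3 q5141 L130825 q5141, e3 q5142 L130831 q4235, e3 q5143 (flp_f L137509) q5917, e3 q5144 L130850 q4316, e3 q5145 L130863 q4332, e3 q5146 L130876 q4548, e3 q5147 L130885 q4326, e3 q5148 (flp_f L130891) q4243, e3 q5149 (flp_f L139889) q6162, e3 q5150 L130911 q4562, e3 q5151 L130919 q4563, e3 q5152 L130934 q5152, e3 q5153 L130940 q4246, e3 q5154 L130951 q4551, e3 q5155 (flp_f L139945) q6169,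 e3 q5156 L130970 q4565, e3 q5157 L130982 q5157, e3 q5158 L130990 q4566, e3 q5159 L130995 q4549, e3 q5160 L131014 q4638, e3 q5161 L131018 q4567, e3 q5162 L131027 q5162, e3 q5163 L131039 q4812, e3 q5164 L131045 q5164, e3 q5165 L131058 q5165, e3 q5166 L131069 q5166, e3 q5167 L131080 q4260, e3 q5168 L131090 q4320, e3 q5169 L131109 q4287, e3 q5170 L131117 q4557, e3 q5171 L131125 q4568, e3 q5172 L131139 q5172, e3 q5173 L131148 q4569, e3 q5174 L131157 q5174, e3 q5175 L131164 q4422, e3 q5176 L131176 q4570, e3 q5177 L131193 q5177, e3 q5178 L131201 q4307, e3 q5179 L131216 q5179, e3 q5180 L131229 q4336, e3 q5181 L131243 q4294, e3 q5182 L131254 q4571, e3 q5183 L131267 q4572, trivial⟩ (by decide +kernel)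

theorem ce_f_81 : ∀ r, r < 64 → sm gf (Qf (5184 + r)) = Qf (tab Gen.f (5184 + r)) :=
  edges_tab (sm gf) Qf (tab Gen.f) 5184 [(5184, 5184), (5185, 5185), (5186, 4284), (5187, 4746), (5188, 6171), (5189, 4749), (5190, 5190), (5191, 6185), (5192, 5698), (5193, 5579), (5194, 5194), (5195, 5195), (5196, 4296), (5197, 4297), (5198, 4647), (5199, 6200), (5200, 5200), (5201, 5201), (5202, 5202), (5203, 4302), (5204, 6206), (5205, 5205), (5206, 5206), (5207, 5207), (5208, 4813), (5209, 4814), (5210, 6118), (5211, 4815), (5212, 4816), (5213, 5213), (5214, 4312), (5215, 6183), (5216, 4314), (5217, 6222), (5218, 6219), (5219, 4313), (5220, 6225), (5221, 4706), (5222, 4825), (5223, 4826), (5224, 6136), (5225, 6160), (5226, 4827), (5227, 6083), (5228, 4829), (5229, 6184), (5230, 4323), (5231, 6234), (5232, 6026), (5233, 6033), (5234, 4836), (5235, 4837), (5236, 4838), (5237, 4841), (5238, 6003), (5239, 6137), (5240, 4397), (5241, 4843), (5242, 6123), (5243, 4846), (5244, 4338), (5245, 6201), (5246,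 6027), (5247, 6034)]
    ⟨e3 q5184 L131281 q5184, e3 q5185 L131293 q5185, e3 q5186 L131305 q4284, e3 q5187 L131313 q4746, e3 q5188 (flp_f L139970) q6171, e3 q5189 L131338 q4749, e3 q5190 L131351 q5190, e3 q5191 (flp_f L140126) q6185, e3 q5192 (flp_f L135758) q5698, e3 q5193 (flp_f L134725) q5579, e3 q5194 L131397 q5194, e3 q5195 L131409 q5195, e3 q5196 L131414 q4296, e3 q5197 L131429 q4297, e3 q5198 L131437 q4647, e3 q5199 (flp_f L140298) q6200, e3 q5200 L131462 q5200, e3 q5201 L131474 q5201, e3 q5202 L131481 q5202, e3 q5203 L131490 q4302, e3 q5204 (flp_f L140382) q6206, e3 q5205 L131508 q5205, e3 q5206 L131519 q5206, e3 q5207 L131528 q5207, e3 q5208 L131536 q4813, e3 q5209 L131553 q4814, e3 q5210 (flp_f L139441) q6118, e3 q5211 L131575 q4815, e3 q5212 L131587 q4816, e3 q5213 L131601 q5213, e3 q5214 L131610 q4312, e3 q5215 (flp_f L140095) q6183, e3 q5216 L131638 q4314, e3 q5217 L140569 q6222, e3 q5218 (flp_f L140542) q6219, e3 q5219 (flp_f L131662) q4313, e3 q5220 (flp_f L140607) q6225,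 e3 q5221 L131689 q4706, e3 q5222 L131700 q4825, e3 q5223 L131715 q4826, e3 q5224 (flp_f L139642) q6136, e3 q5225 (flp_f L139868) q6160, e3 q5226 L131747 q4827, e3 q5227 (flp_f L139108) q6083, e3 q5228 L131767 q4829, e3 q5229 (flp_f L140111) q6184, e3 q5230 L131787 q4323, e3 q5231 (flp_f L140696) q6234, e3 q5232 (flp_f L138625) q6026, e3 q5233 (flp_f L138702) q6033, e3 q5234 L131819 q4836, e3 q5235 L131830 q4837, e3 q5236 L131838 q4838, e3 q5237 L131851 q4841, e3 q5238 (flp_f L138361) q6003, e3 q5239 (flp_f L139656) q6137, e3 q5240 L131879 q4397, e3 q5241 L131889 q4843, e3 q5242 (flp_f L139508) q6123, e3 q5243 L131905 q4846, e3 q5244 L131917 q4338, e3 q5245 (flp_f L140313) q6201, e3 q5246 (flp_f L138638) q6027, e3 q5247 (flp_f L138710) q6034, trivial⟩ (by decide +kernel)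

theorem ce_f_82 : ∀ r, r < 64 → sm gf (Qf (5248 + r)) = Qf (tab Gen.f (5248 + r)) :=
  edges_tab (sm gf) Qf (tab Gen.f) 5248 [(5248, 4384), (5249, 4414), (5250, 4853), (5251, 4385), (5252, 4415), (5253, 6254), (5254, 5930), (5255, 4349), (5256, 6258), (5257, 5933), (5258, 5934), (5259, 4352), (5260, 6264), (5261, 6265), (5262, 5938), (5263, 6272), (5264, 5940), (5265, 5265), (5266, 6277), (5267, 5267), (5268, 6280), (5269, 4361), (5270, 4358), (5271, 6284), (5272, 4364), (5273, 6286), (5274, 4360), (5275, 6290), (5276, 6282), (5277, 5277), (5278, 4363), (5279, 6294), (5280, 4366), (5281, 6296), (5282, 6297), (5283, 5958), (5284, 6303), (5285, 5960), (5286, 4370), (5287, 4371), (5288, 6245), (5289, 6311), (5290, 6307), (5291, 5966), (5292, 6317), (5293, 5968), (5294, 4373), (5295, 6321), (5296, 5971), (5297, 4375), (5298, 6324), (5299, 6323), (5300, 4378), (5301, 6326), (5302, 5302), (5303, 4382), (5304, 6329), (5305, 6239), (5306, 6250), (5307, 6253), (5308, 5986), (5309, 5987), (5310,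 5988), (5311, 4390)]
    ⟨e3 q5248 L131951 q4384, e3 q5249 L131960 q4414, e3 q5250 L131966 q4853, e3 q5251 L131977 q4385, e3 q5252 L131983 q4415, e3 q5253 L140883 q6254, e3 q5254 (flp_f L137655) q5930, e3 q5255 (flp_f L132006) q4349, e3 q5256 (flp_f L140929) q6258, e3 q5257 (flp_f L137686) q5933, e3 q5258 (flp_f L137697) q5934, e3 q5259 L132053 q4352, e3 q5260 (flp_f L140987) q6264, e3 q5261 (flp_f L140998) q6265, e3 q5262 (flp_f L137736) q5938, e3 q5263 L141044 q6272, e3 q5264 (flp_f L137754) q5940, e3 q5265 L132097 q5265, e3 q5266 L141091 q6277, e3 q5267 L132121 q5267, e3 q5268 L141117 q6280, e3 q5269 L132142 q4361, e3 q5270 (flp_f L132144) q4358, e3 q5271 (flp_f L141168) q6284, e3 q5272 L132168 q4364, e3 q5273 L141182 q6286, e3 q5274 (flp_f L132182) q4360, e3 q5275 (flp_f L141222) q6290, e3 q5276 (flp_f L141144) q6282, e3 q5277 L132219 q5277, e3 q5278 L132226 q4363, e3 q5279 (flp_f L141259) q6294, e3 q5280 L132246 q4366, e3 q5281 (flp_f L141276) q6296, e3 q5282 (flp_f L141287) q6297,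 e3 q5283 (flp_f L137915) q5958, e3 q5284 L141336 q6303, e3 q5285 (flp_f L137933) q5960, e3 q5286 L132296 q4370, e3 q5287 L132305 q4371, e3 q5288 (flp_f L140805) q6245, e3 q5289 L141402 q6311, e3 q5290 (flp_f L141371) q6307, e3 q5291 (flp_f L137990) q5966, e3 q5292 L141445 q6317, e3 q5293 (flp_f L138010) q5968, e3 q5294 (flp_f L132352) q4373, e3 q5295 (flp_f L141479) q6321, e3 q5296 (flp_f L138032) q5971, e3 q5297 (flp_f L132370) q4375, e3 q5298 (flp_f L141503) q6324, e3 q5299 (flp_f L141495) q6323, e3 q5300 L132405 q4378, e3 q5301 (flp_f L141523) q6326, e3 q5302 L132423 q5302, e3 q5303 L132431 q4382, e3 q5304 (flp_f L141553) q6329, e3 q5305 (flp_f L140741) q6239, e3 q5306 (flp_f L140852) q6250, e3 q5307 (flp_f L140880) q6253, e3 q5308 (flp_f L138173) q5986, e3 q5309 (flp_f L138182) q5987, e3 q5310 (flp_f L138190) q5988, e3 q5311 L132494 q4390, trivial⟩ (by decide +kernel)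

theorem ce_f_83 : ∀ r, r < 64 → sm gf (Qf (5312 + r)) = Qf (tab Gen.f (5312 + r)) :=
  edges_tab (sm gf) Qf (tab Gen.f) 5312 [(5312, 4391), (5313, 6001), (5314, 6336), (5315, 5994), (5316, 6013), (5317, 5996), (5318, 4393), (5319, 6343), (5320, 5999), (5321, 5991), (5322, 4399), (5323, 5992), (5324, 6246), (5325, 4398), (5326, 6349), (5327, 6346), (5328, 6007), (5329, 6131), (5330, 6009), (5331, 4401), (5332, 6355), (5333, 6012), (5334, 5995), (5335, 4404), (5336, 6359), (5337, 4408), (5338, 4407), (5339, 6361), (5340, 4410), (5341, 6363), (5342, 5342), (5343, 4413), (5344, 5925), (5345, 6251), (5346, 6029), (5347, 6030), (5348, 6031), (5349, 6035), (5350, 6177), (5351, 4854), (5352, 4855), (5353, 4856), (5354, 6094), (5355, 6119), (5356, 4857), (5357, 6377), (5358, 4859), (5359, 5359), (5360, 5360), (5361, 6382), (5362, 4433), (5363, 4430), (5364, 6385), (5365, 4436), (5366, 6386), (5367, 4432), (5368, 6390), (5369, 6384), (5370, 5370), (5371, 4435), (5372, 6394), (5373, 4493), (5374,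 4873), (5375, 6096)]
    ⟨e3 q5312 L132505 q4391, e3 q5313 (flp_f L138343) q6001, e3 q5314 (flp_f L141612) q6336, e3 q5315 (flp_f L138257) q5994, e3 q5316 (flp_f L138475) q6013, e3 q5317 (flp_f L138286) q5996, e3 q5318 (flp_f L132554) q4393, e3 q5319 (flp_f L141677) q6343, e3 q5320 (flp_f L138312) q5999, e3 q5321 (flp_f L138222) q5991, e3 q5322 L132589 q4399, e3 q5323 (flp_f L138244) q5992, e3 q5324 (flp_f L140815) q6246, e3 q5325 (flp_f L132612) q4398, e3 q5326 (flp_f L141729) q6349, e3 q5327 (flp_f L141702) q6346, e3 q5328 (flp_f L138407) q6007, e3 q5329 (flp_f L139600) q6131, e3 q5330 (flp_f L138431) q6009, e3 q5331 (flp_f L132663) q4401, e3 q5332 (flp_f L141786) q6355, e3 q5333 (flp_f L138461) q6012, e3 q5334 L138279 q5995, e3 q5335 L132691 q4404, e3 q5336 (flp_f L141810) q6359, e3 q5337 L132707 q4408, e3 q5338 L132715 q4407, e3 q5339 (flp_f L141832) q6361, e3 q5340 L132735 q4410, e3 q5341 (flp_f L141855) q6363, e3 q5342 L132756 q5342, e3 q5343 L132765 q4413, e3 q5344 (flp_f L137612)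 q5925, e3 q5345 (flp_f L140862) q6251, e3 q5346 (flp_f L138659) q6029, e3 q5347 (flp_f L138667) q6030, e3 q5348 (flp_f L138672) q6031, e3 q5349 (flp_f L138721) q6035, e3 q5350 (flp_f L140021) q6177, e3 q5351 L132839 q4854, e3 q5352 L132845 q4855, e3 q5353 L132855 q4856, e3 q5354 (flp_f L139224) q6094, e3 q5355 (flp_f L139456) q6119, e3 q5356 L132879 q4857, e3 q5357 L141957 q6377, e3 q5358 L132895 q4859, e3 q5359 L132901 q5359, e3 q5360 L132917 q5360, e3 q5361 L142000 q6382, e3 q5362 L132936 q4433, e3 q5363 (flp_f L132938) q4430, e3 q5364 (flp_f L142035) q6385, e3 q5365 L132958 q4436, e3 q5366 L142037 q6386, e3 q5367 (flp_f L132974) q4432, e3 q5368 (flp_f L142081) q6390, e3 q5369 (flp_f L142023) q6384, e3 q5370 L133005 q5370, e3 q5371 L133012 q4435, e3 q5372 (flp_f L142120) q6394, e3 q5373 L133027 q4493, e3 q5374 L133039 q4873, e3 q5375 (flp_f L139249) q6096, trivial⟩ (by decide +kernel)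

theorem ce_f_84 : ∀ r, r < 64 → sm gf (Qf (5376 + r)) = Qf (tab Gen.f (5376 + r)) :=
  edges_tab (sm gf) Qf (tab Gen.f) 5376 [(5376, 4471), (5377, 6402), (5378, 4499), (5379, 4442), (5380, 6405), (5381, 4876), (5382, 4446), (5383, 5383), (5384, 4450), (5385, 6408), (5386, 4472), (5387, 4520), (5388, 4885), (5389, 6139), (5390, 4456), (5391, 6411), (5392, 4529), (5393, 4459), (5394, 6413), (5395, 5395), (5396, 4464), (5397, 6024), (5398, 4465), (5399, 6415), (5400, 6038), (5401, 6039), (5402, 4644), (5403, 4468), (5404, 6396), (5405, 6422), (5406, 6044), (5407, 6429), (5408, 6046), (5409, 6374), (5410, 6434), (5411, 6401), (5412, 6052), (5413, 6441), (5414, 6054), (5415, 4474), (5416, 6445), (5417, 6057), (5418, 6448), (5419, 5419), (5420, 4477), (5421, 6452), (5422, 5422), (5423, 6454), (5424, 4479), (5425, 6458), (5426, 4487), (5427, 6451), (5428, 4482), (5429, 6462), (5430, 4484), (5431, 6466), (5432, 6467), (5433, 5433), (5434, 4486), (5435, 6471), (5436, 6460), (5437, 5437), (5438,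 4490), (5439, 6475)]
    ⟨e3 q5376 L133053 q4471, e3 q5377 L142186 q6402, e3 q5378 L133070 q4499, e3 q5379 (flp_f L133072) q4442, e3 q5380 (flp_f L142220) q6405, e3 q5381 L133092 q4876, e3 q5382 L133103 q4446, e3 q5383 L133112 q5383, e3 q5384 L133120 q4450, e3 q5385 (flp_f L142242) q6408, e3 q5386 L133142 q4472, e3 q5387 L133150 q4520, e3 q5388 L133154 q4885, e3 q5389 (flp_f L139677) q6139, e3 q5390 (flp_f L133166) q4456, e3 q5391 (flp_f L142277) q6411, e3 q5392 L133184 q4529, e3 q5393 L133192 q4459, e3 q5394 (flp_f L142289) q6413, e3 q5395 L133201 q5395, e3 q5396 L133208 q4464, e3 q5397 (flp_f L138592) q6024, e3 q5398 (flp_f L133224) q4465, e3 q5399 (flp_f L142309) q6415, e3 q5400 (flp_f L138747) q6038, e3 q5401 (flp_f L138756) q6039, e3 q5402 L133263 q4644, e3 q5403 L133269 q4468, e3 q5404 (flp_f L142141) q6396, e3 q5405 (flp_f L142357) q6422, e3 q5406 (flp_f L138799) q6044, e3 q5407 L142405 q6429, e3 q5408 (flp_f L138816) q6046, e3 q5409 (flp_f L141941) q6374, e3 q5410 L142443 q6434,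 e3 q5411 (flp_f L142184) q6401, e3 q5412 (flp_f L138859) q6052, e3 q5413 L142495 q6441, e3 q5414 (flp_f L138871) q6054, e3 q5415 (flp_f L133343) q4474, e3 q5416 (flp_f L142521) q6445, e3 q5417 (flp_f L138893) q6057, e3 q5418 L142535 q6448, e3 q5419 L133377 q5419, e3 q5420 (flp_f L133380) q4477, e3 q5421 (flp_f L142581) q6452, e3 q5422 L133401 q5422, e3 q5423 L142595 q6454, e3 q5424 (flp_f L133412) q4479, e3 q5425 (flp_f L142631) q6458, e3 q5426 L133436 q4487, e3 q5427 (flp_f L142574) q6451, e3 q5428 L133454 q4482, e3 q5429 (flp_f L142665) q6462, e3 q5430 (flp_f L133464) q4484, e3 q5431 (flp_f L142690) q6466, e3 q5432 (flp_f L142700) q6467, e3 q5433 L133492 q5433, e3 q5434 L133499 q4486, e3 q5435 (flp_f L142739) q6471, e3 q5436 (flp_f L142647) q6460, e3 q5437 L133523 q5437, e3 q5438 L133530 q4490, e3 q5439 (flp_f L142784) q6475, trivial⟩ (by decide +kernel)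

theorem ce_f_85 : ∀ r, r < 64 → sm gf (Qf (5440 + r)) = Qf (tab Gen.f (5440 + r)) :=
  edges_tab (sm gf) Qf (tab Gen.f) 5440 [(5440, 4646), (5441, 4494), (5442, 6477), (5443, 6397), (5444, 6086), (5445, 6482), (5446, 6088), (5447, 4496), (5448, 6486), (5449, 6091), (5450, 4498), (5451, 6489), (5452, 6404), (5453, 6100), (5454, 6493), (5455, 6102), (5456, 4501), (5457, 6497), (5458, 6105), (5459, 6488), (5460, 4504), (5461, 6500), (5462, 4509), (5463, 4507), (5464, 6503), (5465, 6502), (5466, 4511), (5467, 6505), (5468, 5468), (5469, 4514), (5470, 5907), (5471, 6120), (5472, 4519), (5473, 6410), (5474, 6126), (5475, 6148), (5476, 6127), (5477, 4522), (5478, 6512), (5479, 6130), (5480, 6008), (5481, 4525), (5482, 6515), (5483, 4536), (5484, 4528), (5485, 6517), (5486, 6518), (5487, 6144), (5488, 4531), (5489, 6521), (5490, 6147), (5491, 4886), (5492, 4534), (5493, 6524), (5494, 6516), (5495, 4538), (5496, 6527), (5497, 4542), (5498, 4541), (5499, 6529), (5500, 4544), (5501, 6005), (5502,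 6170), (5503, 4895)]
    ⟨e3 q5440 L133549 q4646, e3 q5441 L133557 q4494, e3 q5442 L142801 q6477, e3 q5443 (flp_f L142153) q6397, e3 q5444 (flp_f L139143) q6086, e3 q5445 L142848 q6482, e3 q5446 (flp_f L139167) q6088, e3 q5447 (flp_f L133610) q4496, e3 q5448 (flp_f L142892) q6486, e3 q5449 (flp_f L139189) q6091, e3 q5450 (flp_f L133632) q4498, e3 q5451 (flp_f L142920) q6489, e3 q5452 (flp_f L142210) q6404, e3 q5453 (flp_f L139287) q6100, e3 q5454 L142952 q6493, e3 q5455 (flp_f L139302) q6102, e3 q5456 (flp_f L133684) q4501, e3 q5457 (flp_f L142992) q6497, e3 q5458 (flp_f L139328) q6105, e3 q5459 (flp_f L142910) q6488, e3 q5460 L133724 q4504, e3 q5461 (flp_f L143016) q6500, e3 q5462 L133741 q4509, e3 q5463 L133750 q4507, e3 q5464 (flp_f L143042) q6503, e3 q5465 (flp_f L143031) q6502, e3 q5466 L133782 q4511, e3 q5467 (flp_f L143062) q6505, e3 q5468 L133798 q5468, e3 q5469 L133807 q4514, e3 q5470 (flp_f L137388) q5907, e3 q5471 (flp_f L139469) q6120, e3 q5472 (flp_f L133832) q4519, e3 q5473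 (flp_f L142266) q6410, e3 q5474 (flp_f L139537) q6126, e3 q5475 (flp_f L139771) q6148, e3 q5476 (flp_f L139551) q6127, e3 q5477 (flp_f L133875) q4522, e3 q5478 (flp_f L143128) q6512, e3 q5479 (flp_f L139585) q6130, e3 q5480 L138421 q6008, e3 q5481 L133909 q4525, e3 q5482 (flp_f L143148) q6515, e3 q5483 L133923 q4536, e3 q5484 L133931 q4528, e3 q5485 (flp_f L143166) q6517, e3 q5486 L143168 q6518, e3 q5487 (flp_f L139730) q6144, e3 q5488 (flp_f L133957) q4531, e3 q5489 (flp_f L143196) q6521, e3 q5490 (flp_f L139758) q6147, e3 q5491 L133985 q4886, e3 q5492 L133993 q4534, e3 q5493 (flp_f L143220) q6524, e3 q5494 (flp_f L143158) q6516, e3 q5495 L134011 q4538, e3 q5496 (flp_f L143234) q6527, e3 q5497 L134022 q4542, e3 q5498 L134033 q4541, e3 q5499 (flp_f L143249) q6529, e3 q5500 L134049 q4544, e3 q5501 (flp_f L138389) q6005, e3 q5502 (flp_f L139954) q6170, e3 q5503 L134071 q4895, trivial⟩ (by decide +kernel)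

theorem ce_f_86 : ∀ r, r < 64 → sm gf (Qf (5504 + r)) = Qf (tab Gen.f (5504 + r)) :=
  edges_tab (sm gf) Qf (tab Gen.f) 5504 [(5504, 4896), (5505, 6172), (5506, 4561), (5507, 4763), (5508, 4564), (5509, 4757), (5510, 4765), (5511, 6532), (5512, 6535), (5513, 6165), (5514, 6542), (5515, 6167), (5516, 6173), (5517, 6175), (5518, 6179), (5519, 6186), (5520, 6188), (5521, 6190), (5522, 5522), (5523, 6551), (5524, 5524), (5525, 6554), (5526, 4574), (5527, 6558), (5528, 5528), (5529, 4901), (5530, 4577), (5531, 6562), (5532, 6564), (5533, 4579), (5534, 6568), (5535, 5535), (5536, 4588), (5537, 4582), (5538, 6572), (5539, 4584), (5540, 6576), (5541, 6577), (5542, 6567), (5543, 4586), (5544, 6581), (5545, 4597), (5546, 6571), (5547, 4590), (5548, 6585), (5549, 5863), (5550, 5550), (5551, 4592), (5552, 4593), (5553, 6589), (5554, 6590), (5555, 5555), (5556, 4596), (5557, 6594), (5558, 5710), (5559, 5559), (5560, 4600), (5561, 5706), (5562, 6595), (5563, 5563), (5564, 4602), (5565, 6599), (5566,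 5566), (5567, 4877)]
    ⟨e3 q5504 L134082 q4896, e3 q5505 (flp_f L139979) q6172, e3 q5506 L134100 q4561, e3 q5507 L134113 q4763, e3 q5508 L134122 q4564, e3 q5509 L134129 q4757, e3 q5510 L134139 q4765, e3 q5511 (flp_f L143276) q6532, e3 q5512 (flp_f L143301) q6535, e3 q5513 (flp_f L139911) q6165, e3 q5514 L143359 q6542, e3 q5515 (flp_f L139924) q6167, e3 q5516 (flp_f L139987) q6173, e3 q5517 (flp_f L140006) q6175, e3 q5518 (flp_f L140050) q6179, e3 q5519 (flp_f L140134) q6186, e3 q5520 (flp_f L140161) q6188, e3 q5521 (flp_f L140183) q6190, e3 q5522 L134233 q5522, e3 q5523 L143432 q6551, e3 q5524 L134255 q5524, e3 q5525 L143460 q6554, e3 q5526 (flp_f L134265) q4574, e3 q5527 (flp_f L143499) q6558, e3 q5528 L134286 q5528, e3 q5529 L134299 q4901, e3 q5530 L134309 q4577, e3 q5531 (flp_f L143537) q6562, e3 q5532 L143551 q6564, e3 q5533 (flp_f L134330) q4579, e3 q5534 (flp_f L143596) q6568, e3 q5535 L134352 q5535, e3 q5536 L134367 q4588, e3 q5537 L134377 q4582, e3 q5538 (flp_f L143638) q6572,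 e3 q5539 (flp_f L134390) q4584, e3 q5540 (flp_f L143671) q6576, e3 q5541 (flp_f L143682) q6577, e3 q5542 (flp_f L143588) q6567, e3 q5543 L134421 q4586, e3 q5544 (flp_f L143708) q6581, e3 q5545 L134435 q4597, e3 q5546 (flp_f L143628) q6571, e3 q5547 L134456 q4590, e3 q5548 (flp_f L143739) q6585, e3 q5549 (flp_f L137024) q5863, e3 q5550 L134478 q5550, e3 q5551 L134483 q4592, e3 q5552 L134493 q4593, e3 q5553 (flp_f L143770) q6589, e3 q5554 (flp_f L143776) q6590, e3 q5555 L134512 q5555, e3 q5556 L134520 q4596, e3 q5557 (flp_f L143816) q6594, e3 q5558 (flp_f L135879) q5710, e3 q5559 L134542 q5559, e3 q5560 L134552 q4600, e3 q5561 (flp_f L135836) q5706, e3 q5562 L143824 q6595, e3 q5563 L134582 q5563, e3 q5564 (flp_f L134585) q4602, e3 q5565 (flp_f L143865) q6599, e3 q5566 L134603 q5566, e3 q5567 L134615 q4877, trivial⟩ (by decide +kernel)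

theorem ce_f_87 : ∀ r, r < 64 → sm gf (Qf (5568 + r)) = Qf (tab Gen.f (5568 + r)) :=
  edges_tab (sm gf) Qf (tab Gen.f) 5568 [(5568, 4605), (5569, 6602), (5570, 4914), (5571, 4609), (5572, 6605), (5573, 4613), (5574, 4612), (5575, 6608), (5576, 6607), (5577, 4615), (5578, 5972), (5579, 5193), (5580, 4620), (5581, 6612), (5582, 5582), (5583, 4847), (5584, 4623), (5585, 6615), (5586, 4889), (5587, 4627), (5588, 6618), (5589, 4920), (5590, 4630), (5591, 6016), (5592, 4634), (5593, 4633), (5594, 6017), (5595, 6178), (5596, 6620), (5597, 4641), (5598, 6414), (5599, 4703), (5600, 6421), (5601, 6195), (5602, 4693), (5603, 5603), (5604, 5604), (5605, 5605), (5606, 6626), (5607, 6628), (5608, 4654), (5609, 6631), (5610, 4656), (5611, 6633), (5612, 4657), (5613, 6637), (5614, 4665), (5615, 6632), (5616, 4660), (5617, 6641), (5618, 4662), (5619, 6644), (5620, 6645), (5621, 5621), (5622, 4664), (5623, 6647), (5624, 6639), (5625, 5625), (5626, 4668), (5627, 6649), (5628, 4669), (5629, 4735), (5630,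 4672), (5631, 4733)]
    ⟨e3 q5568 L134624 q4605, e3 q5569 (flp_f L143894) q6602, e3 q5570 L134644 q4914, e3 q5571 L134653 q4609, e3 q5572 (flp_f L143918) q6605, e3 q5573 L134673 q4613, e3 q5574 L134682 q4612, e3 q5575 (flp_f L143948) q6608, e3 q5576 (flp_f L143938) q6607, e3 q5577 L134711 q4615, e3 q5578 (flp_f L138044) q5972, e3 q5579 L134725 q5193, e3 q5580 (flp_f L134733) q4620, e3 q5581 (flp_f L143985) q6612, e3 q5582 L134754 q5582, e3 q5583 L134765 q4847, e3 q5584 L134773 q4623, e3 q5585 (flp_f L144013) q6615, e3 q5586 L134790 q4889, e3 q5587 L134799 q4627, e3 q5588 (flp_f L144035) q6618, e3 q5589 L134811 q4920, e3 q5590 L134819 q4630, e3 q5591 (flp_f L138501) q6016, e3 q5592 L134836 q4634, e3 q5593 L134845 q4633, e3 q5594 (flp_f L138514) q6017, e3 q5595 (flp_f L140044) q6178, e3 q5596 L144045 q6620, e3 q5597 (flp_f L134877) q4641, e3 q5598 (flp_f L142301) q6414, e3 q5599 L134902 q4703, e3 q5600 (flp_f L142351) q6421, e3 q5601 (flp_f L140241) q6195, e3 q5602 L134929 q4693, e3 q5603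 L134938 q5603, e3 q5604 L134947 q5604, e3 q5605 L134952 q5605, e3 q5606 L144102 q6626, e3 q5607 L144124 q6628, e3 q5608 (flp_f L134981) q4654, e3 q5609 L144160 q6631, e3 q5610 (flp_f L135003) q4656, e3 q5611 L144183 q6633, e3 q5612 (flp_f L135020) q4657, e3 q5613 (flp_f L144226) q6637, e3 q5614 L135047 q4665, e3 q5615 (flp_f L144181) q6632, e3 q5616 L135069 q4660, e3 q5617 (flp_f L144273) q6641, e3 q5618 (flp_f L135081) q4662, e3 q5619 (flp_f L144301) q6644, e3 q5620 (flp_f L144313) q6645, e3 q5621 L135114 q5621, e3 q5622 L135122 q4664, e3 q5623 (flp_f L144332) q6647, e3 q5624 (flp_f L144244) q6639, e3 q5625 L135148 q5625, e3 q5626 L135157 q4668, e3 q5627 (flp_f L144349) q6649, e3 q5628 (flp_f L135167) q4669, e3 q5629 L135187 q4735, e3 q5630 L135199 q4672, e3 q5631 L135210 q4733, trivial⟩ (by decide +kernel)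

theorem ce_f_88 : ∀ r, r < 64 → sm gf (Qf (5632 + r)) = Qf (tab Gen.f (5632 + r)) :=
  edges_tab (sm gf) Qf (tab Gen.f) 5632 [(5632, 4674), (5633, 5633), (5634, 4677), (5635, 5924), (5636, 4743), (5637, 4741), (5638, 5638), (5639, 5639), (5640, 6654), (5641, 4688), (5642, 4690), (5643, 6658), (5644, 6659), (5645, 5645), (5646, 4692), (5647, 6661), (5648, 6621), (5649, 5649), (5650, 4696), (5651, 6663), (5652, 5652), (5653, 4699), (5654, 5981), (5655, 5689), (5656, 6224), (5657, 5657), (5658, 6668), (5659, 5659), (5660, 6672), (5661, 5661), (5662, 4708), (5663, 6675), (5664, 6676), (5665, 4710), (5666, 6640), (5667, 6679), (5668, 4712), (5669, 4718), (5670, 4714), (5671, 6684), (5672, 6685), (5673, 6681), (5674, 4716), (5675, 6689), (5676, 4727), (5677, 6629), (5678, 4720), (5679, 6693), (5680, 5680), (5681, 5681), (5682, 4722), (5683, 4723), (5684, 6697), (5685, 6698), (5686, 5686), (5687, 4726), (5688, 6700), (5689, 5655), (5690, 5690), (5691, 4730), (5692, 6701), (5693, 6651), (5694,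 4732), (5695, 6650)]
    ⟨e3 q5632 L135221 q4674, e3 q5633 L135228 q5633, e3 q5634 L135235 q4677, e3 q5635 (flp_f L137598) q5924, e3 q5636 L135254 q4743, e3 q5637 L135263 q4741, e3 q5638 L135273 q5638, e3 q5639 L135285 q5639, e3 q5640 L144398 q6654, e3 q5641 (flp_f L135300) q4688, e3 q5642 (flp_f L135307) q4690, e3 q5643 (flp_f L144437) q6658, e3 q5644 (flp_f L144447) q6659, e3 q5645 L135332 q5645, e3 q5646 L135338 q4692, e3 q5647 (flp_f L144474) q6661, e3 q5648 (flp_f L144057) q6621, e3 q5649 L135368 q5649, e3 q5650 L135375 q4696, e3 q5651 (flp_f L144489) q6663, e3 q5652 L135392 q5652, e3 q5653 L135399 q4699, e3 q5654 (flp_f L138133) q5981, e3 q5655 L135686 q5689, e3 q5656 (flp_f L140594) q6224, e3 q5657 L135430 q5657, e3 q5658 L144525 q6668, e3 q5659 L135446 q5659, e3 q5660 L144546 q6672, e3 q5661 L135459 q5661, e3 q5662 (flp_f L135460) q4708, e3 q5663 (flp_f L144573) q6675, e3 q5664 L144575 q6676, e3 q5665 (flp_f L135479) q4710, e3 q5666 (flp_f L144261) q6640, e3 q5667 L144594 q6679,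 e3 q5668 (flp_f L135499) q4712, e3 q5669 L135511 q4718, e3 q5670 (flp_f L135513) q4714, e3 q5671 (flp_f L144643) q6684, e3 q5672 (flp_f L144653) q6685, e3 q5673 (flp_f L144614) q6681, e3 q5674 L135547 q4716, e3 q5675 (flp_f L144683) q6689, e3 q5676 L135561 q4727, e3 q5677 (flp_f L144146) q6629, e3 q5678 L135578 q4720, e3 q5679 (flp_f L144708) q6693, e3 q5680 L135589 q5680, e3 q5681 L135597 q5681, e3 q5682 L135607 q4722, e3 q5683 L135618 q4723, e3 q5684 (flp_f L144739) q6697, e3 q5685 (flp_f L144752) q6698, e3 q5686 L135650 q5686, e3 q5687 L135659 q4726, e3 q5688 (flp_f L144773) q6700, e3 q5689 (flp_f L135686) q5655, e3 q5690 L135692 q5690, e3 q5691 L135699 q4730, e3 q5692 (flp_f L144787) q6701, e3 q5693 (flp_f L144370) q6651, e3 q5694 L135728 q4732, e3 q5695 (flp_f L144361) q6650, trivial⟩ (by decide +kernel)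

theorem ce_f_89 : ∀ r, r < 64 → sm gf (Qf (5696 + r)) = Qf (tab Gen.f (5696 + r)) :=
  edges_tab (sm gf) Qf (tab Gen.f) 5696 [(5696, 4737), (5697, 5964), (5698, 5192), (5699, 6362), (5700, 4930), (5701, 6193), (5702, 5702), (5703, 5737), (5704, 5704), (5705, 5705), (5706, 5561), (5707, 4755), (5708, 4760), (5709, 5734), (5710, 5558), (5711, 4761), (5712, 6712), (5713, 5713), (5714, 6536), (5715, 4766), (5716, 6716), (5717, 6717), (5718, 4776), (5719, 4768), (5720, 6721), (5721, 5721), (5722, 4780), (5723, 4772), (5724, 6725), (5725, 5725), (5726, 6715), (5727, 4774), (5728, 4775), (5729, 6729), (5730, 6730), (5731, 6720), (5732, 4778), (5733, 6734), (5734, 5709), (5735, 6724), (5736, 4782), (5737, 5703), (5738, 5738), (5739, 5739), (5740, 4787), (5741, 4788), (5742, 6739), (5743, 5743), (5744, 4791), (5745, 4799), (5746, 4798), (5747, 5974), (5748, 5941), (5749, 5749), (5750, 4810), (5751, 6210), (5752, 6211), (5753, 6212), (5754, 6215), (5755, 6750), (5756, 6217), (5757, 6754), (5758,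 4821), (5759, 4818)]
    ⟨e3 q5696 L135744 q4737, e3 q5697 L137976 q5964, e3 q5698 L135758 q5192, e3 q5699 (flp_f L141845) q6362, e3 q5700 L135777 q4930, e3 q5701 (flp_f L140219) q6193, e3 q5702 L135796 q5702, e3 q5703 (flp_f L136098) q5737, e3 q5704 L135813 q5704, e3 q5705 L135823 q5705, e3 q5706 L135836 q5561, e3 q5707 L135850 q4755, e3 q5708 L135863 q4760, e3 q5709 (flp_f L136071) q5734, e3 q5710 L135879 q5558, e3 q5711 (flp_f L135883) q4761, e3 q5712 (flp_f L144891) q6712, e3 q5713 L135899 q5713, e3 q5714 (flp_f L143312) q6536, e3 q5715 (flp_f L135913) q4766, e3 q5716 (flp_f L144928) q6716, e3 q5717 (flp_f L144938) q6717, e3 q5718 L135941 q4776, e3 q5719 L135949 q4768, e3 q5720 (flp_f L144970) q6721, e3 q5721 L135963 q5721, e3 q5722 L135975 q4780, e3 q5723 L135985 q4772, e3 q5724 (flp_f L145001) q6725, e3 q5725 L136002 q5725, e3 q5726 (flp_f L144918) q6715, e3 q5727 L136023 q4774, e3 q5728 L136033 q4775, e3 q5729 (flp_f L145038) q6729, e3 q5730 (flp_f L145046) q6730, e3 q5731 (flp_f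 L144960) q6720, e3 q5732 L136061 q4778, e3 q5733 (flp_f L145072) q6734, e3 q5734 L136071 q5709, e3 q5735 (flp_f L144992) q6724, e3 q5736 L136087 q4782, e3 q5737 L136098 q5703, e3 q5738 L136108 q5738, e3 q5739 L136116 q5739, e3 q5740 L136126 q4787, e3 q5741 L136135 q4788, e3 q5742 (flp_f L145121) q6739, e3 q5743 L136157 q5743, e3 q5744 L136163 q4791, e3 q5745 L136176 q4799, e3 q5746 L136184 q4798, e3 q5747 (flp_f L138067) q5974, e3 q5748 L137765 q5941, e3 q5749 L136203 q5749, e3 q5750 L136216 q4810, e3 q5751 (flp_f L140432) q6210, e3 q5752 (flp_f L140442) q6211, e3 q5753 (flp_f L140458) q6212, e3 q5754 (flp_f L140494) q6215, e3 q5755 L145205 q6750, e3 q5756 (flp_f L140518) q6217, e3 q5757 L145236 q6754, e3 q5758 L136286 q4821, e3 q5759 (flp_f L136288) q4818, trivial⟩ (by decide +kernel)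

theorem ce_f_90 : ∀ r, r < 64 → sm gf (Qf (5760 + r)) = Qf (tab Gen.f (5760 + r)) :=
  edges_tab (sm gf) Qf (tab Gen.f) 5760 [(5760, 6758), (5761, 4824), (5762, 6760), (5763, 4820), (5764, 6764), (5765, 6756), (5766, 5766), (5767, 4823), (5768, 6768), (5769, 6092), (5770, 6095), (5771, 6227), (5772, 6230), (5773, 6084), (5774, 6231), (5775, 4828), (5776, 6778), (5777, 6233), (5778, 6611), (5779, 4831), (5780, 6781), (5781, 5781), (5782, 4835), (5783, 6784), (5784, 6240), (5785, 6241), (5786, 6134), (5787, 6138), (5788, 6242), (5789, 6124), (5790, 6247), (5791, 4845), (5792, 6792), (5793, 6614), (5794, 4849), (5795, 6795), (5796, 5796), (5797, 4852), (5798, 6202), (5799, 6252), (5800, 6368), (5801, 6369), (5802, 6370), (5803, 6803), (5804, 6371), (5805, 6807), (5806, 6376), (5807, 4858), (5808, 6811), (5809, 6379), (5810, 6813), (5811, 4860), (5812, 6817), (5813, 4868), (5814, 6598), (5815, 4863), (5816, 6821), (5817, 4865), (5818, 6825), (5819, 6826), (5820, 5820), (5821, 4867), (5822,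 6830), (5823, 6819)]
    ⟨e3 q5760 (flp_f L145282) q6758, e3 q5761 L136311 q4824, e3 q5762 L145293 q6760, e3 q5763 (flp_f L136322) q4820, e3 q5764 (flp_f L145343) q6764, e3 q5765 (flp_f L145262) q6756, e3 q5766 L136356 q5766, e3 q5767 L136363 q4823, e3 q5768 (flp_f L145384) q6768, e3 q5769 L139206 q6092, e3 q5770 (flp_f L139239) q6095, e3 q5771 (flp_f L140628) q6227, e3 q5772 (flp_f L140658) q6230, e3 q5773 (flp_f L139129) q6084, e3 q5774 (flp_f L140668) q6231, e3 q5775 (flp_f L136414) q4828, e3 q5776 (flp_f L145456) q6778, e3 q5777 (flp_f L140684) q6233, e3 q5778 (flp_f L143977) q6611, e3 q5779 L136447 q4831, e3 q5780 (flp_f L145480) q6781, e3 q5781 L136462 q5781, e3 q5782 L136470 q4835, e3 q5783 (flp_f L145501) q6784, e3 q5784 (flp_f L140752) q6240, e3 q5785 (flp_f L140760) q6241, e3 q5786 (flp_f L139622) q6134, e3 q5787 (flp_f L139669) q6138, e3 q5788 (flp_f L140769) q6242, e3 q5789 (flp_f L139519) q6124, e3 q5790 (flp_f L140821) q6247, e3 q5791 L136529 q4845, e3 q5792 (flp_f L145556)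 q6792, e3 q5793 (flp_f L144003) q6614, e3 q5794 L136553 q4849, e3 q5795 (flp_f L145578) q6795, e3 q5796 L136566 q5796, e3 q5797 L136574 q4852, e3 q5798 (flp_f L140327) q6202, e3 q5799 (flp_f L140869) q6252, e3 q5800 (flp_f L141893) q6368, e3 q5801 (flp_f L141905) q6369, e3 q5802 (flp_f L141911) q6370, e3 q5803 L145618 q6803, e3 q5804 (flp_f L141921) q6371, e3 q5805 L145644 q6807, e3 q5806 (flp_f L141955) q6376, e3 q5807 (flp_f L136625) q4858, e3 q5808 (flp_f L145670) q6811, e3 q5809 (flp_f L141977) q6379, e3 q5810 L145678 q6813, e3 q5811 (flp_f L136649) q4860, e3 q5812 (flp_f L145716) q6817, e3 q5813 L136672 q4868, e3 q5814 (flp_f L143858) q6598, e3 q5815 L136688 q4863, e3 q5816 (flp_f L145750) q6821, e3 q5817 (flp_f L136697) q4865, e3 q5818 (flp_f L145775) q6825, e3 q5819 (flp_f L145784) q6826, e3 q5820 L136727 q5820, e3 q5821 L136734 q4867, e3 q5822 (flp_f L145830) q6830, e3 q5823 (flp_f L145731) q6819, trivial⟩ (by decide +kernel)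

theorem ce_f_91 : ∀ r, r < 64 → sm gf (Qf (5824 + r)) = Qf (tab Gen.f (5824 + r)) :=
  edges_tab (sm gf) Qf (tab Gen.f) 5824 [(5824, 5824), (5825, 4871), (5826, 6834), (5827, 4872), (5828, 6836), (5829, 6398), (5830, 6496), (5831, 4875), (5832, 6839), (5833, 6601), (5834, 4879), (5835, 6842), (5836, 5836), (5837, 4882), (5838, 6845), (5839, 4884), (5840, 6848), (5841, 6523), (5842, 4888), (5843, 6851), (5844, 6617), (5845, 4891), (5846, 6854), (5847, 5847), (5848, 4894), (5849, 6028), (5850, 6032), (5851, 6858), (5852, 6534), (5853, 4897), (5854, 6863), (5855, 6864), (5856, 6557), (5857, 4899), (5858, 6868), (5859, 4910), (5860, 6561), (5861, 4903), (5862, 6872), (5863, 5549), (5864, 5864), (5865, 4905), (5866, 4906), (5867, 6876), (5868, 6877), (5869, 5869), (5870, 4909), (5871, 6881), (5872, 6710), (5873, 5873), (5874, 4913), (5875, 6885), (5876, 6604), (5877, 4916), (5878, 6889), (5879, 5879), (5880, 4919), (5881, 5881), (5882, 6894), (5883, 5913), (5884, 4922), (5885, 5885), (5886,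 6157), (5887, 5887)]
    ⟨e3 q5824 L136758 q5824, e3 q5825 L136765 q4871, e3 q5826 (flp_f L145873) q6834, e3 q5827 (flp_f L136774) q4872, e3 q5828 (flp_f L145895) q6836, e3 q5829 (flp_f L142159) q6398, e3 q5830 (flp_f L142982) q6496, e3 q5831 L136806 q4875, e3 q5832 (flp_f L145917) q6839, e3 q5833 (flp_f L143883) q6601, e3 q5834 L136832 q4879, e3 q5835 (flp_f L145940) q6842, e3 q5836 L136846 q5836, e3 q5837 L136854 q4882, e3 q5838 (flp_f L145962) q6845, e3 q5839 L136868 q4884, e3 q5840 (flp_f L145988) q6848, e3 q5841 (flp_f L143212) q6523, e3 q5842 L136884 q4888, e3 q5843 (flp_f L146003) q6851, e3 q5844 (flp_f L144028) q6617, e3 q5845 L136901 q4891, e3 q5846 (flp_f L146018) q6854, e3 q5847 L136911 q5847, e3 q5848 L136917 q4894, e3 q5849 (flp_f L138648) q6028, e3 q5850 (flp_f L138687) q6032, e3 q5851 L146049 q6858, e3 q5852 (flp_f L143294) q6534, e3 q5853 (flp_f L136942) q4897, e3 q5854 (flp_f L146085) q6863, e3 q5855 (flp_f L146093) q6864, e3 q5856 (flp_f L143491) q6557, e3 q5857 L136975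 q4899, e3 q5858 (flp_f L146122) q6868, e3 q5859 L136988 q4910, e3 q5860 (flp_f L143527) q6561, e3 q5861 L137010 q4903, e3 q5862 (flp_f L146151) q6872, e3 q5863 L137024 q5549, e3 q5864 L137032 q5864, e3 q5865 L137037 q4905, e3 q5866 L137046 q4906, e3 q5867 (flp_f L146181) q6876, e3 q5868 (flp_f L146187) q6877, e3 q5869 L137068 q5869, e3 q5870 L137076 q4909, e3 q5871 (flp_f L146228) q6881, e3 q5872 (flp_f L144875) q6710, e3 q5873 L137097 q5873, e3 q5874 L137106 q4913, e3 q5875 (flp_f L146270) q6885, e3 q5876 (flp_f L143909) q6604, e3 q5877 L137130 q4916, e3 q5878 (flp_f L146305) q6889, e3 q5879 L137143 q5879, e3 q5880 L137152 q4919, e3 q5881 L137162 q5881, e3 q5882 (flp_f L146349) q6894, e3 q5883 (flp_f L137458) q5913, e3 q5884 L137177 q4922, e3 q5885 L137186 q5885, e3 q5886 (flp_f L139845) q6157, e3 q5887 L137194 q5887, trivial⟩ (by decide +kernel)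

theorem ce_f_92 : ∀ r, r < 64 → sm gf (Qf (5888 + r)) = Qf (tab Gen.f (5888 + r)) :=
  edges_tab (sm gf) Qf (tab Gen.f) 5888 [(5888, 5916), (5889, 4926), (5890, 5890), (5891, 6899), (5892, 5892), (5893, 6900), (5894, 4932), (5895, 6903), (5896, 6705), (5897, 4931), (5898, 6905), (5899, 6902), (5900, 5900), (5901, 4936), (5902, 6907), (5903, 4940), (5904, 5904), (5905, 4939), (5906, 6910), (5907, 5470), (5908, 5908), (5909, 5909), (5910, 5910), (5911, 5911), (5912, 4947), (5913, 5883), (5914, 5914), (5915, 4951), (5916, 5888), (5917, 5143), (5918, 5918), (5919, 5919), (5920, 5920), (5921, 4960), (5922, 5041), (5923, 4961), (5924, 5635), (5925, 5344), (5926, 6857), (5927, 5927), (5928, 5928), (5929, 5929), (5930, 5254), (5931, 4966), (5932, 6922), (5933, 5257), (5934, 5258), (5935, 4969), (5936, 6928), (5937, 6929), (5938, 5262), (5939, 6936), (5940, 5264), (5941, 5748), (5942, 5942), (5943, 6942), (5944, 4978), (5945, 4975), (5946, 6946), (5947, 4981), (5948, 6948), (5949, 4977), (5950,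 6950), (5951, 6944)]
    ⟨e3 q5888 (flp_f L137495) q5916, e3 q5889 L137208 q4926, e3 q5890 L137219 q5890, e3 q5891 (flp_f L146406) q6899, e3 q5892 L137236 q5892, e3 q5893 L146414 q6900, e3 q5894 L137257 q4932, e3 q5895 L146446 q6903, e3 q5896 (flp_f L144827) q6705, e3 q5897 (flp_f L137276) q4931, e3 q5898 (flp_f L146470) q6905, e3 q5899 (flp_f L146442) q6902, e3 q5900 L137310 q5900, e3 q5901 (flp_f L137313) q4936, e3 q5902 (flp_f L146495) q6907, e3 q5903 L137344 q4940, e3 q5904 L137358 q5904, e3 q5905 L137366 q4939, e3 q5906 (flp_f L146538) q6910, e3 q5907 L137388 q5470, e3 q5908 L137398 q5908, e3 q5909 L137412 q5909, e3 q5910 L137421 q5910, e3 q5911 L137431 q5911, e3 q5912 L137445 q4947, e3 q5913 L137458 q5883, e3 q5914 L137473 q5914, e3 q5915 L137485 q4951, e3 q5916 L137495 q5888, e3 q5917 L137509 q5143, e3 q5918 L137523 q5918, e3 q5919 L137537 q5919, e3 q5920 L137546 q5920, e3 q5921 L137561 q4960, e3 q5922 L137575 q5041, e3 q5923 L137586 q4961, e3 q5924 L137598 q5635, e3 q5925 L137612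 q5344, e3 q5926 (flp_f L146041) q6857, e3 q5927 L137632 q5927, e3 q5928 L137639 q5928, e3 q5929 L137643 q5929, e3 q5930 L137655 q5254, e3 q5931 (flp_f L137657) q4966, e3 q5932 (flp_f L146688) q6922, e3 q5933 L137686 q5257, e3 q5934 L137697 q5258, e3 q5935 L137708 q4969, e3 q5936 (flp_f L146746) q6928, e3 q5937 (flp_f L146757) q6929, e3 q5938 L137736 q5262, e3 q5939 L146811 q6936, e3 q5940 L137754 q5264, e3 q5941 (flp_f L137765) q5748, e3 q5942 L137775 q5942, e3 q5943 L146869 q6942, e3 q5944 L137791 q4978, e3 q5945 (flp_f L137793) q4975, e3 q5946 (flp_f L146914) q6946, e3 q5947 L137816 q4981, e3 q5948 L146925 q6948, e3 q5949 (flp_f L137828) q4977, e3 q5950 (flp_f L146947) q6950, e3 q5951 (flp_f L146892) q6944, trivial⟩ (by decide +kernel)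

theorem ce_f_93 : ∀ r, r < 64 → sm gf (Qf (5952 + r)) = Qf (tab Gen.f (5952 + r)) :=
  edges_tab (sm gf) Qf (tab Gen.f) 5952 [(5952, 5952), (5953, 4980), (5954, 6952), (5955, 4983), (5956, 6953), (5957, 6954), (5958, 5283), (5959, 6961), (5960, 5285), (5961, 4987), (5962, 4988), (5963, 6964), (5964, 5697), (5965, 6966), (5966, 5291), (5967, 6974), (5968, 5293), (5969, 4990), (5970, 6978), (5971, 5296), (5972, 5578), (5973, 5973), (5974, 5747), (5975, 4995), (5976, 6982), (5977, 5977), (5978, 4999), (5979, 6985), (5980, 5002), (5981, 5654), (5982, 5003), (5983, 6986), (5984, 6987), (5985, 6989), (5986, 5308), (5987, 5309), (5988, 5310), (5989, 5008), (5990, 5009), (5991, 5321), (5992, 5323), (5993, 6996), (5994, 5315), (5995, 5334), (5996, 5317), (5997, 5011), (5998, 7004), (5999, 5320), (6000, 5015), (6001, 5313), (6002, 5017), (6003, 5238), (6004, 7006), (6005, 5501), (6006, 7008), (6007, 5328), (6008, 5480), (6009, 5330), (6010, 5019), (6011, 7017), (6012, 5333), (6013, 5316), (6014,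 5022), (6015, 7021)]
    ⟨e3 q5952 L137861 q5952, e3 q5953 L137870 q4980, e3 q5954 (flp_f L146966) q6952, e3 q5955 L137889 q4983, e3 q5956 (flp_f L146973) q6953, e3 q5957 (flp_f L146990) q6954, e3 q5958 L137915 q5283, e3 q5959 L147060 q6961, e3 q5960 L137933 q5285, e3 q5961 L137939 q4987, e3 q5962 L137950 q4988, e3 q5963 (flp_f L147094) q6964, e3 q5964 (flp_f L137976) q5697, e3 q5965 (flp_f L147123) q6966, e3 q5966 L137990 q5291, e3 q5967 L147193 q6974, e3 q5968 L138010 q5293, e3 q5969 (flp_f L138012) q4990, e3 q5970 (flp_f L147249) q6978, e3 q5971 L138032 q5296, e3 q5972 L138044 q5578, e3 q5973 L138052 q5973, e3 q5974 L138067 q5747, e3 q5975 L138075 q4995, e3 q5976 (flp_f L147292) q6982, e3 q5977 L138090 q5977, e3 q5978 L138097 q4999, e3 q5979 (flp_f L147320) q6985, e3 q5980 L138114 q5002, e3 q5981 L138133 q5654, e3 q5982 L138141 q5003, e3 q5983 (flp_f L147329) q6986, e3 q5984 (flp_f L147344) q6987, e3 q5985 (flp_f L147375) q6989, e3 q5986 L138173 q5308, e3 q5987 L138182 q5309, e3 q5988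 L138190 q5310, e3 q5989 L138197 q5008, e3 q5990 L138214 q5009, e3 q5991 L138222 q5321, e3 q5992 L138244 q5323, e3 q5993 (flp_f L147450) q6996, e3 q5994 L138257 q5315, e3 q5995 (flp_f L138279) q5334, e3 q5996 L138286 q5317, e3 q5997 (flp_f L138288) q5011, e3 q5998 (flp_f L147547) q7004, e3 q5999 L138312 q5320, e3 q6000 L138320 q5015, e3 q6001 L138343 q5313, e3 q6002 L138351 q5017, e3 q6003 L138361 q5238, e3 q6004 (flp_f L147569) q7006, e3 q6005 L138389 q5501, e3 q6006 (flp_f L147590) q7008, e3 q6007 L138407 q5328, e3 q6008 (flp_f L138421) q5480, e3 q6009 L138431 q5330, e3 q6010 (flp_f L138433) q5019, e3 q6011 (flp_f L147700) q7017, e3 q6012 L138461 q5333, e3 q6013 L138475 q5316, e3 q6014 L138485 q5022, e3 q6015 (flp_f L147742) q7021, trivial⟩ (by decide +kernel)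

theorem ce_f_94 : ∀ r, r < 64 → sm gf (Qf (6016 + r)) = Qf (tab Gen.f (6016 + r)) :=
  edges_tab (sm gf) Qf (tab Gen.f) 6016 [(6016, 5591), (6017, 5594), (6018, 5028), (6019, 7024), (6020, 6020), (6021, 5031), (6022, 6918), (6023, 5036), (6024, 5397), (6025, 5037), (6026, 5232), (6027, 5246), (6028, 5849), (6029, 5346), (6030, 5347), (6031, 5348), (6032, 5850), (6033, 5233), (6034, 5247), (6035, 5349), (6036, 5048), (6037, 7034), (6038, 5400), (6039, 5401), (6040, 6040), (6041, 5051), (6042, 7041), (6043, 7042), (6044, 5406), (6045, 7049), (6046, 5408), (6047, 5055), (6048, 5056), (6049, 7052), (6050, 7058), (6051, 7054), (6052, 5412), (6053, 7065), (6054, 5414), (6055, 5058), (6056, 7069), (6057, 5417), (6058, 7072), (6059, 6059), (6060, 5061), (6061, 7076), (6062, 6062), (6063, 7078), (6064, 5063), (6065, 7082), (6066, 5071), (6067, 7075), (6068, 5066), (6069, 7086), (6070, 5068), (6071, 7090), (6072, 7091), (6073, 6073), (6074, 5070), (6075, 7093), (6076, 7084), (6077, 6077), (6078,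 5074), (6079, 7095)]
    ⟨e3 q6016 L138501 q5591, e3 q6017 L138514 q5594, e3 q6018 L138528 q5028, e3 q6019 (flp_f L147769) q7024, e3 q6020 L138548 q6020, e3 q6021 L138556 q5031, e3 q6022 (flp_f L146644) q6918, e3 q6023 L138577 q5036, e3 q6024 L138592 q5397, e3 q6025 L138606 q5037, e3 q6026 L138625 q5232, e3 q6027 L138638 q5246, e3 q6028 L138648 q5849, e3 q6029 L138659 q5346, e3 q6030 L138667 q5347, e3 q6031 L138672 q5348, e3 q6032 L138687 q5850, e3 q6033 L138702 q5233, e3 q6034 L138710 q5247, e3 q6035 L138721 q5349, e3 q6036 (flp_f L138724) q5048, e3 q6037 (flp_f L147888) q7034, e3 q6038 L138747 q5400, e3 q6039 L138756 q5401, e3 q6040 L138771 q6040, e3 q6041 L138776 q5051, e3 q6042 (flp_f L147945) q7041, e3 q6043 (flp_f L147957) q7042, e3 q6044 L138799 q5406, e3 q6045 L148008 q7049, e3 q6046 L138816 q5408, e3 q6047 L138822 q5055, e3 q6048 L138831 q5056, e3 q6049 (flp_f L148036) q7052, e3 q6050 L148085 q7058, e3 q6051 (flp_f L148059) q7054, e3 q6052 L138859 q5412, e3 q6053 L148139 q7065,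 e3 q6054 L138871 q5414, e3 q6055 (flp_f L138873) q5058, e3 q6056 (flp_f L148173) q7069, e3 q6057 L138893 q5417, e3 q6058 L148186 q7072, e3 q6059 L138910 q6059, e3 q6060 (flp_f L138913) q5061, e3 q6061 (flp_f L148230) q7076, e3 q6062 L138933 q6062, e3 q6063 L148241 q7078, e3 q6064 (flp_f L138942) q5063, e3 q6065 (flp_f L148270) q7082, e3 q6066 L138962 q5071, e3 q6067 (flp_f L148221) q7075, e3 q6068 L138978 q5066, e3 q6069 (flp_f L148302) q7086, e3 q6070 (flp_f L138987) q5068, e3 q6071 (flp_f L148330) q7090, e3 q6072 (flp_f L148340) q7091, e3 q6073 L139015 q6073, e3 q6074 L139021 q5070, e3 q6075 (flp_f L148355) q7093, e3 q6076 (flp_f L148283) q7084, e3 q6077 L139045 q6077, e3 q6078 L139052 q5074, e3 q6079 (flp_f L148370) q7095, trivial⟩ (by decide +kernel)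

theorem ce_f_95 : ∀ r, r < 64 → sm gf (Qf (6080 + r)) = Qf (tab Gen.f (6080 + r)) :=
  edges_tab (sm gf) Qf (tab Gen.f) 6080 [(6080, 6080), (6081, 5077), (6082, 5078), (6083, 5227), (6084, 5773), (6085, 7097), (6086, 5444), (6087, 7105), (6088, 5446), (6089, 5080), (6090, 7109), (6091, 5449), (6092, 5769), (6093, 5086), (6094, 5354), (6095, 5770), (6096, 5375), (6097, 5085), (6098, 7119), (6099, 7112), (6100, 5453), (6101, 7123), (6102, 5455), (6103, 5088), (6104, 7127), (6105, 5458), (6106, 7118), (6107, 5091), (6108, 7130), (6109, 5096), (6110, 5094), (6111, 7133), (6112, 7132), (6113, 5098), (6114, 7136), (6115, 6115), (6116, 5101), (6117, 6911), (6118, 5210), (6119, 5355), (6120, 5471), (6121, 6121), (6122, 5111), (6123, 5242), (6124, 5789), (6125, 7139), (6126, 5474), (6127, 5476), (6128, 5113), (6129, 7144), (6130, 5479), (6131, 5329), (6132, 5116), (6133, 7147), (6134, 5786), (6135, 5125), (6136, 5224), (6137, 5239), (6138, 5787), (6139, 5389), (6140, 5132), (6141, 5124), (6142,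 7154), (6143, 7156)]
    ⟨e3 q6080 L139073 q6080, e3 q6081 L139082 q5077, e3 q6082 L139098 q5078, e3 q6083 L139108 q5227, e3 q6084 L139129 q5773, e3 q6085 (flp_f L148400) q7097, e3 q6086 L139143 q5444, e3 q6087 L148489 q7105, e3 q6088 L139167 q5446, e3 q6089 (flp_f L139169) q5080, e3 q6090 (flp_f L148545) q7109, e3 q6091 L139189 q5449, e3 q6092 (flp_f L139206) q5769, e3 q6093 L139216 q5086, e3 q6094 L139224 q5354, e3 q6095 L139239 q5770, e3 q6096 L139249 q5375, e3 q6097 (flp_f L139253) q5085, e3 q6098 (flp_f L148666) q7119, e3 q6099 (flp_f L148574) q7112, e3 q6100 L139287 q5453, e3 q6101 L148697 q7123, e3 q6102 L139302 q5455, e3 q6103 (flp_f L139304) q5088, e3 q6104 (flp_f L148739) q7127, e3 q6105 L139328 q5458, e3 q6106 (flp_f L148654) q7118, e3 q6107 L139346 q5091, e3 q6108 (flp_f L148765) q7130, e3 q6109 L139361 q5096, e3 q6110 L139369 q5094, e3 q6111 (flp_f L148793) q7133, e3 q6112 (flp_f L148781) q7132, e3 q6113 L139397 q5098, e3 q6114 (flp_f L148823) q7136, e3 q6115 L139412 q6115,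 e3 q6116 L139420 q5101, e3 q6117 (flp_f L146553) q6911, e3 q6118 L139441 q5210, e3 q6119 L139456 q5355, e3 q6120 L139469 q5471, e3 q6121 L139481 q6121, e3 q6122 L139494 q5111, e3 q6123 L139508 q5242, e3 q6124 L139519 q5789, e3 q6125 (flp_f L148855) q7139, e3 q6126 L139537 q5474, e3 q6127 L139551 q5476, e3 q6128 (flp_f L139555) q5113, e3 q6129 (flp_f L148925) q7144, e3 q6130 L139585 q5479, e3 q6131 L139600 q5329, e3 q6132 L139607 q5116, e3 q6133 (flp_f L148958) q7147, e3 q6134 L139622 q5786, e3 q6135 L139630 q5125, e3 q6136 L139642 q5224, e3 q6137 L139656 q5239, e3 q6138 L139669 q5787, e3 q6139 L139677 q5389, e3 q6140 L139695 q5132, e3 q6141 L139707 q5124, e3 q6142 (flp_f L149043) q7154, e3 q6143 L149055 q7156, trivial⟩ (by decide +kernel)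

theorem ce_f_96 : ∀ r, r < 64 → sm gf (Qf (6144 + r)) = Qf (tab Gen.f (6144 + r)) :=
  edges_tab (sm gf) Qf (tab Gen.f) 6144 [(6144, 5487), (6145, 5127), (6146, 7159), (6147, 5490), (6148, 5475), (6149, 5130), (6150, 7162), (6151, 7153), (6152, 5134), (6153, 7165), (6154, 5138), (6155, 5137), (6156, 7167), (6157, 5886), (6158, 5140), (6159, 7169), (6160, 5225), (6161, 6161), (6162, 5149), (6163, 7171), (6164, 7172), (6165, 5513), (6166, 7179), (6167, 5515), (6168, 6168), (6169, 5155), (6170, 5502), (6171, 5188), (6172, 5505), (6173, 5516), (6174, 6174), (6175, 5517), (6176, 6176), (6177, 5350), (6178, 5595), (6179, 5518), (6180, 6180), (6181, 6181), (6182, 6182), (6183, 5215), (6184, 5229), (6185, 5191), (6186, 5519), (6187, 6187), (6188, 5520), (6189, 6189), (6190, 5521), (6191, 6191), (6192, 7184), (6193, 5701), (6194, 7186), (6195, 5601), (6196, 6507), (6197, 6197), (6198, 6198), (6199, 6199), (6200, 5199), (6201, 5245), (6202, 5798), (6203, 6203), (6204, 6204), (6205, 6205), (6206,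 5204), (6207, 6207)]
    ⟨e3 q6144 L139730 q5487, e3 q6145 (flp_f L139732) q5127, e3 q6146 (flp_f L149092) q7159, e3 q6147 L139758 q5490, e3 q6148 L139771 q5475, e3 q6149 L139780 q5130, e3 q6150 (flp_f L149125) q7162, e3 q6151 (flp_f L149031) q7153, e3 q6152 L139800 q5134, e3 q6153 (flp_f L149138) q7165, e3 q6154 L139814 q5138, e3 q6155 L139826 q5137, e3 q6156 (flp_f L149152) q7167, e3 q6157 L139845 q5886, e3 q6158 L139852 q5140, e3 q6159 (flp_f L149169) q7169, e3 q6160 L139868 q5225, e3 q6161 L139883 q6161, e3 q6162 L139889 q5149, e3 q6163 (flp_f L149188) q7171, e3 q6164 (flp_f L149199) q7172, e3 q6165 L139911 q5513, e3 q6166 L149255 q7179, e3 q6167 L139924 q5515, e3 q6168 L139933 q6168, e3 q6169 L139945 q5155, e3 q6170 L139954 q5502, e3 q6171 L139970 q5188, e3 q6172 L139979 q5505, e3 q6173 L139987 q5516, e3 q6174 L140000 q6174, e3 q6175 L140006 q5517, e3 q6176 L140016 q6176, e3 q6177 L140021 q5350, e3 q6178 L140044 q5595, e3 q6179 L140050 q5518, e3 q6180 L140067 q6180, e3 q6181 L140071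 q6181, e3 q6182 L140086 q6182, e3 q6183 L140095 q5215, e3 q6184 L140111 q5229, e3 q6185 L140126 q5191, e3 q6186 L140134 q5519, e3 q6187 L140154 q6187, e3 q6188 L140161 q5520, e3 q6189 L140173 q6189, e3 q6190 L140183 q5521, e3 q6191 L140196 q6191, e3 q6192 (flp_f L149317) q7184, e3 q6193 L140219 q5701, e3 q6194 (flp_f L149338) q7186, e3 q6195 L140241 q5601, e3 q6196 (flp_f L143080) q6507, e3 q6197 L140264 q6197, e3 q6198 L140276 q6198, e3 q6199 L140285 q6199, e3 q6200 L140298 q5199, e3 q6201 L140313 q5245, e3 q6202 L140327 q5798, e3 q6203 L140341 q6203, e3 q6204 L140355 q6204, e3 q6205 L140368 q6205, e3 q6206 L140382 q5204, e3 q6207 L140396 q6207, trivial⟩ (by decide +kernel)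

theorem ce_f_97 : ∀ r, r < 64 → sm gf (Qf (6208 + r)) = Qf (tab Gen.f (6208 + r)) :=
  edges_tab (sm gf) Qf (tab Gen.f) 6208 [(6208, 6208), (6209, 6209), (6210, 5751), (6211, 5752), (6212, 5753), (6213, 7113), (6214, 7138), (6215, 5754), (6216, 7098), (6217, 5756), (6218, 7183), (6219, 5218), (6220, 7193), (6221, 7216), (6222, 5217), (6223, 7217), (6224, 5656), (6225, 5220), (6226, 7218), (6227, 5771), (6228, 7009), (6229, 7150), (6230, 5772), (6231, 5774), (6232, 7099), (6233, 5777), (6234, 5231), (6235, 7196), (6236, 6990), (6237, 7027), (6238, 7032), (6239, 5305), (6240, 5784), (6241, 5785), (6242, 5788), (6243, 7010), (6244, 7151), (6245, 5288), (6246, 5324), (6247, 5790), (6248, 7140), (6249, 7026), (6250, 5306), (6251, 5345), (6252, 5799), (6253, 5307), (6254, 5253), (6255, 7240), (6256, 6920), (6257, 6921), (6258, 5256), (6259, 7246), (6260, 7247), (6261, 6925), (6262, 7253), (6263, 6927), (6264, 5260), (6265, 5261), (6266, 7256), (6267, 7262), (6268, 7258), (6269, 6933), (6270,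 7269), (6271, 6935)]
    ⟨e3 q6208 L140405 q6208, e3 q6209 L140417 q6209, e3 q6210 L140432 q5751, e3 q6211 L140442 q5752, e3 q6212 L140458 q5753, e3 q6213 (flp_f L148584) q7113, e3 q6214 (flp_f L148843) q7138, e3 q6215 L140494 q5754, e3 q6216 (flp_f L148410) q7098, e3 q6217 L140518 q5756, e3 q6218 (flp_f L149294) q7183, e3 q6219 L140542 q5218, e3 q6220 (flp_f L149417) q7193, e3 q6221 L149702 q7216, e3 q6222 (flp_f L140569) q5217, e3 q6223 (flp_f L149716) q7217, e3 q6224 L140594 q5656, e3 q6225 L140607 q5220, e3 q6226 (flp_f L149726) q7218, e3 q6227 L140628 q5771, e3 q6228 (flp_f L147604) q7009, e3 q6229 (flp_f L148989) q7150, e3 q6230 L140658 q5772, e3 q6231 L140668 q5774, e3 q6232 (flp_f L148428) q7099, e3 q6233 L140684 q5777, e3 q6234 L140696 q5231, e3 q6235 (flp_f L149458) q7196, e3 q6236 (flp_f L147388) q6990, e3 q6237 (flp_f L147808) q7027, e3 q6238 (flp_f L147862) q7032, e3 q6239 L140741 q5305, e3 q6240 L140752 q5784, e3 q6241 L140760 q5785, e3 q6242 L140769 q5788, e3 q6243 (flp_f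 L147620) q7010, e3 q6244 (flp_f L148999) q7151, e3 q6245 L140805 q5288, e3 q6246 L140815 q5324, e3 q6247 L140821 q5790, e3 q6248 (flp_f L148871) q7140, e3 q6249 (flp_f L147798) q7026, e3 q6250 L140852 q5306, e3 q6251 L140862 q5345, e3 q6252 L140869 q5799, e3 q6253 L140880 q5307, e3 q6254 (flp_f L140883) q5253, e3 q6255 (flp_f L149952) q7240, e3 q6256 (flp_f L146666) q6920, e3 q6257 (flp_f L146676) q6921, e3 q6258 L140929 q5256, e3 q6259 (flp_f L150000) q7246, e3 q6260 (flp_f L150012) q7247, e3 q6261 (flp_f L146717) q6925, e3 q6262 L150060 q7253, e3 q6263 (flp_f L146738) q6927, e3 q6264 L140987 q5260, e3 q6265 L140998 q5261, e3 q6266 (flp_f L150094) q7256, e3 q6267 L150141 q7262, e3 q6268 (flp_f L150113) q7258, e3 q6269 (flp_f L146793) q6933, e3 q6270 L150199 q7269, e3 q6271 (flp_f L146809) q6935, trivial⟩ (by decide +kernel)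

theorem ce_f_98 : ∀ r, r < 64 → sm gf (Qf (6272 + r)) = Qf (tab Gen.f (6272 + r)) :=
  edges_tab (sm gf) Qf (tab Gen.f) 6272 [(6272, 5263), (6273, 7273), (6274, 6938), (6275, 7276), (6276, 6276), (6277, 5266), (6278, 7279), (6279, 7280), (6280, 5268), (6281, 7284), (6282, 5276), (6283, 7278), (6284, 5271), (6285, 7288), (6286, 5273), (6287, 7292), (6288, 7293), (6289, 6289), (6290, 5275), (6291, 7295), (6292, 7286), (6293, 6293), (6294, 5279), (6295, 7297), (6296, 5281), (6297, 5282), (6298, 6965), (6299, 7298), (6300, 6958), (6301, 6977), (6302, 6960), (6303, 5284), (6304, 7307), (6305, 6963), (6306, 6955), (6307, 5290), (6308, 7223), (6309, 6956), (6310, 7233), (6311, 5289), (6312, 7315), (6313, 7310), (6314, 6971), (6315, 7319), (6316, 6973), (6317, 5292), (6318, 7322), (6319, 6976), (6320, 6959), (6321, 5295), (6322, 7326), (6323, 5299), (6324, 5298), (6325, 7328), (6326, 5301), (6327, 7330), (6328, 6328), (6329, 5304), (6330, 6917), (6331, 7229), (6332, 7237), (6333, 6993), (6334,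 6994), (6335, 6995)]
    ⟨e3 q6272 (flp_f L141044) q5263, e3 q6273 (flp_f L150235) q7273, e3 q6274 (flp_f L146837) q6938, e3 q6275 L150252 q7276, e3 q6276 L141086 q6276, e3 q6277 (flp_f L141091) q5266, e3 q6278 (flp_f L150293) q7279, e3 q6279 L150297 q7280, e3 q6280 (flp_f L141117) q5268, e3 q6281 (flp_f L150338) q7284, e3 q6282 L141144 q5276, e3 q6283 (flp_f L150284) q7278, e3 q6284 L141168 q5271, e3 q6285 (flp_f L150384) q7288, e3 q6286 (flp_f L141182) q5273, e3 q6287 (flp_f L150418) q7292, e3 q6288 (flp_f L150429) q7293, e3 q6289 L141214 q6289, e3 q6290 L141222 q5275, e3 q6291 (flp_f L150448) q7295, e3 q6292 (flp_f L150358) q7286, e3 q6293 L141250 q6293, e3 q6294 L141259 q5279, e3 q6295 (flp_f L150469) q7297, e3 q6296 L141276 q5281, e3 q6297 L141287 q5282, e3 q6298 (flp_f L147115) q6965, e3 q6299 (flp_f L150479) q7298, e3 q6300 (flp_f L147033) q6958, e3 q6301 (flp_f L147239) q6977, e3 q6302 (flp_f L147058) q6960, e3 q6303 (flp_f L141336) q5284, e3 q6304 (flp_f L150565) q7307, e3 q6305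 (flp_f L147084) q6963, e3 q6306 (flp_f L147000) q6955, e3 q6307 L141371 q5290, e3 q6308 (flp_f L149782) q7223, e3 q6309 (flp_f L147020) q6956, e3 q6310 (flp_f L149879) q7233, e3 q6311 (flp_f L141402) q5289, e3 q6312 (flp_f L150638) q7315, e3 q6313 (flp_f L150590) q7310, e3 q6314 (flp_f L147173) q6971, e3 q6315 L150671 q7319, e3 q6316 (flp_f L147191) q6973, e3 q6317 (flp_f L141445) q5292, e3 q6318 (flp_f L150694) q7322, e3 q6319 (flp_f L147225) q6976, e3 q6320 L147049 q6959, e3 q6321 L141479 q5295, e3 q6322 (flp_f L150722) q7326, e3 q6323 L141495 q5299, e3 q6324 L141503 q5298, e3 q6325 (flp_f L150744) q7328, e3 q6326 L141523 q5301, e3 q6327 (flp_f L150767) q7330, e3 q6328 L141544 q6328, e3 q6329 L141553 q5304, e3 q6330 (flp_f L146632) q6917, e3 q6331 (flp_f L149841) q7229, e3 q6332 (flp_f L149916) q7237, e3 q6333 (flp_f L147422) q6993, e3 q6334 (flp_f L147428) q6994, e3 q6335 (flp_f L147435) q6995, trivial⟩ (by decide +kernel)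

theorem ce_f_99 : ∀ r, r < 64 → sm gf (Qf (6336 + r)) = Qf (tab Gen.f (6336 + r)) :=
  edges_tab (sm gf) Qf (tab Gen.f) 6336 [(6336, 5314), (6337, 7007), (6338, 7336), (6339, 7000), (6340, 7001), (6341, 7020), (6342, 7003), (6343, 5319), (6344, 7342), (6345, 6997), (6346, 5327), (6347, 6998), (6348, 7234), (6349, 5326), (6350, 7346), (6351, 7108), (6352, 7014), (6353, 7146), (6354, 7016), (6355, 5332), (6356, 7351), (6357, 7019), (6358, 7002), (6359, 5336), (6360, 7355), (6361, 5339), (6362, 5699), (6363, 5341), (6364, 7238), (6365, 7029), (6366, 7030), (6367, 7170), (6368, 5800), (6369, 5801), (6370, 5802), (6371, 5804), (6372, 7055), (6373, 7115), (6374, 5409), (6375, 7369), (6376, 5806), (6377, 5357), (6378, 7372), (6379, 5809), (6380, 6380), (6381, 7374), (6382, 5361), (6383, 7377), (6384, 5369), (6385, 5364), (6386, 5366), (6387, 7381), (6388, 7382), (6389, 6389), (6390, 5368), (6391, 7384), (6392, 7378), (6393, 6393), (6394, 5372), (6395, 7386), (6396, 5404), (6397, 5443), (6398,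 5829), (6399, 7117)]
    ⟨e3 q6336 L141612 q5314, e3 q6337 (flp_f L147582) q7007, e3 q6338 (flp_f L150817) q7336, e3 q6339 (flp_f L147497) q7000, e3 q6340 (flp_f L147512) q7001, e3 q6341 (flp_f L147732) q7020, e3 q6342 (flp_f L147534) q7003, e3 q6343 L141677 q5319, e3 q6344 (flp_f L150875) q7342, e3 q6345 (flp_f L147463) q6997, e3 q6346 L141702 q5327, e3 q6347 (flp_f L147476) q6998, e3 q6348 (flp_f L149887) q7234, e3 q6349 L141729 q5326, e3 q6350 (flp_f L150911) q7346, e3 q6351 (flp_f L148536) q7108, e3 q6352 (flp_f L147666) q7014, e3 q6353 (flp_f L148950) q7146, e3 q6354 (flp_f L147688) q7016, e3 q6355 L141786 q5332, e3 q6356 (flp_f L150958) q7351, e3 q6357 (flp_f L147716) q7019, e3 q6358 (flp_f L147526) q7002, e3 q6359 L141810 q5336, e3 q6360 (flp_f L150981) q7355, e3 q6361 L141832 q5339, e3 q6362 L141845 q5699, e3 q6363 L141855 q5341, e3 q6364 (flp_f L149925) q7238, e3 q6365 (flp_f L147829) q7029, e3 q6366 (flp_f L147836) q7030, e3 q6367 (flp_f L149182) q7170, e3 q6368 L141893 q5800,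 e3 q6369 L141905 q5801, e3 q6370 L141911 q5802, e3 q6371 L141921 q5804, e3 q6372 (flp_f L148067) q7055, e3 q6373 (flp_f L148613) q7115, e3 q6374 L141941 q5409, e3 q6375 L151098 q7369, e3 q6376 L141955 q5806, e3 q6377 (flp_f L141957) q5357, e3 q6378 (flp_f L151124) q7372, e3 q6379 L141977 q5809, e3 q6380 L141990 q6380, e3 q6381 L151132 q7374, e3 q6382 (flp_f L142000) q5361, e3 q6383 (flp_f L151162) q7377, e3 q6384 L142023 q5369, e3 q6385 L142035 q5364, e3 q6386 (flp_f L142037) q5366, e3 q6387 (flp_f L151199) q7381, e3 q6388 (flp_f L151212) q7382, e3 q6389 L142075 q6389, e3 q6390 L142081 q5368, e3 q6391 (flp_f L151229) q7384, e3 q6392 (flp_f L151169) q7378, e3 q6393 L142113 q6393, e3 q6394 L142120 q5372, e3 q6395 (flp_f L151248) q7386, e3 q6396 L142141 q5404, e3 q6397 L142153 q5443, e3 q6398 L142159 q5829, e3 q6399 (flp_f L148636) q7117, trivial⟩ (by decide +kernel)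

theorem ce_f_100 : ∀ r, r < 64 → sm gf (Qf (6400 + r)) = Qf (tab Gen.f (6400 + r)) :=
  edges_tab (sm gf) Qf (tab Gen.f) 6400 [(6400, 7389), (6401, 5411), (6402, 5377), (6403, 7392), (6404, 5452), (6405, 5380), (6406, 7394), (6407, 6407), (6408, 5385), (6409, 6988), (6410, 5473), (6411, 5391), (6412, 7395), (6413, 5394), (6414, 5598), (6415, 5399), (6416, 7397), (6417, 7398), (6418, 7037), (6419, 7405), (6420, 7039), (6421, 5600), (6422, 5405), (6423, 7361), (6424, 7410), (6425, 7387), (6426, 7046), (6427, 7416), (6428, 7048), (6429, 5407), (6430, 7420), (6431, 7051), (6432, 7423), (6433, 7367), (6434, 5410), (6435, 7427), (6436, 7391), (6437, 7061), (6438, 7432), (6439, 7063), (6440, 7435), (6441, 5413), (6442, 7439), (6443, 7067), (6444, 7426), (6445, 5416), (6446, 7443), (6447, 7445), (6448, 5418), (6449, 7449), (6450, 6450), (6451, 5427), (6452, 5421), (6453, 7453), (6454, 5423), (6455, 7456), (6456, 7457), (6457, 7448), (6458, 5425), (6459, 7461), (6460, 5436), (6461, 7452), (6462,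 5429), (6463, 7465)]
    ⟨e3 q6400 L151274 q7389, e3 q6401 L142184 q5411, e3 q6402 (flp_f L142186) q5377, e3 q6403 (flp_f L151303) q7392, e3 q6404 L142210 q5452, e3 q6405 L142220 q5380, e3 q6406 (flp_f L151319) q7394, e3 q6407 L142233 q6407, e3 q6408 L142242 q5385, e3 q6409 (flp_f L147361) q6988, e3 q6410 L142266 q5473, e3 q6411 L142277 q5391, e3 q6412 (flp_f L151327) q7395, e3 q6413 L142289 q5394, e3 q6414 L142301 q5598, e3 q6415 L142309 q5399, e3 q6416 (flp_f L151336) q7397, e3 q6417 (flp_f L151346) q7398, e3 q6418 (flp_f L147911) q7037, e3 q6419 L151392 q7405, e3 q6420 (flp_f L147926) q7039, e3 q6421 L142351 q5600, e3 q6422 L142357 q5405, e3 q6423 (flp_f L151038) q7361, e3 q6424 L151430 q7410, e3 q6425 (flp_f L151262) q7387, e3 q6426 (flp_f L147990) q7046, e3 q6427 L151478 q7416, e3 q6428 (flp_f L148006) q7048, e3 q6429 (flp_f L142405) q5407, e3 q6430 (flp_f L151510) q7420, e3 q6431 (flp_f L148028) q7051, e3 q6432 L151528 q7423, e3 q6433 (flp_f L151090) q7367, e3 q6434 (flp_f L142443)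 q5410, e3 q6435 (flp_f L151566) q7427, e3 q6436 (flp_f L151292) q7391, e3 q6437 (flp_f L148119) q7061, e3 q6438 L151604 q7432, e3 q6439 (flp_f L148133) q7063, e3 q6440 L151628 q7435, e3 q6441 (flp_f L142495) q5413, e3 q6442 (flp_f L151652) q7439, e3 q6443 (flp_f L148155) q7067, e3 q6444 (flp_f L151558) q7426, e3 q6445 L142521 q5416, e3 q6446 (flp_f L151674) q7443, e3 q6447 L151682 q7445, e3 q6448 (flp_f L142535) q5418, e3 q6449 (flp_f L151722) q7449, e3 q6450 L142562 q6450, e3 q6451 L142574 q5427, e3 q6452 L142581 q5421, e3 q6453 (flp_f L151767) q7453, e3 q6454 (flp_f L142595) q5423, e3 q6455 (flp_f L151791) q7456, e3 q6456 (flp_f L151803) q7457, e3 q6457 (flp_f L151713) q7448, e3 q6458 L142631 q5425, e3 q6459 (flp_f L151833) q7461, e3 q6460 L142647 q5436, e3 q6461 (flp_f L151756) q7452, e3 q6462 L142665 q5429, e3 q6463 (flp_f L151863) q7465, trivial⟩ (by decide +kernel)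

theorem ce_f_101 : ∀ r, r < 64 → sm gf (Qf (6464 + r)) = Qf (tab Gen.f (6464 + r)) :=
  edges_tab (sm gf) Qf (tab Gen.f) 6464 [(6464, 6823), (6465, 6465), (6466, 5431), (6467, 5432), (6468, 7469), (6469, 7470), (6470, 6470), (6471, 5435), (6472, 7472), (6473, 6665), (6474, 6474), (6475, 5439), (6476, 7473), (6477, 5442), (6478, 7388), (6479, 7102), (6480, 7476), (6481, 7104), (6482, 5445), (6483, 7479), (6484, 7107), (6485, 7013), (6486, 5448), (6487, 7482), (6488, 5459), (6489, 5451), (6490, 7484), (6491, 7485), (6492, 7122), (6493, 5454), (6494, 7489), (6495, 7125), (6496, 5830), (6497, 5457), (6498, 7492), (6499, 7483), (6500, 5461), (6501, 7495), (6502, 5465), (6503, 5464), (6504, 7497), (6505, 5467), (6506, 6969), (6507, 6196), (6508, 7126), (6509, 7142), (6510, 7161), (6511, 7143), (6512, 5478), (6513, 7502), (6514, 7015), (6515, 5482), (6516, 5494), (6517, 5485), (6518, 5486), (6519, 7506), (6520, 7158), (6521, 5489), (6522, 7508), (6523, 5841), (6524, 5493), (6525, 7511), (6526,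 7505), (6527, 5496)]
    ⟨e3 q6464 (flp_f L145762) q6823, e3 q6465 L142685 q6465, e3 q6466 L142690 q5431, e3 q6467 L142700 q5432, e3 q6468 (flp_f L151894) q7469, e3 q6469 (flp_f L151904) q7470, e3 q6470 L142730 q6470, e3 q6471 L142739 q5435, e3 q6472 (flp_f L151927) q7472, e3 q6473 (flp_f L144507) q6665, e3 q6474 L142775 q6474, e3 q6475 L142784 q5439, e3 q6476 (flp_f L151943) q7473, e3 q6477 (flp_f L142801) q5442, e3 q6478 (flp_f L151270) q7388, e3 q6479 (flp_f L148459) q7102, e3 q6480 L151974 q7476, e3 q6481 (flp_f L148487) q7104, e3 q6482 (flp_f L142848) q5445, e3 q6483 (flp_f L152005) q7479, e3 q6484 (flp_f L148521) q7107, e3 q6485 L147656 q7013, e3 q6486 L142892 q5448, e3 q6487 (flp_f L152031) q7482, e3 q6488 L142910 q5459, e3 q6489 L142920 q5451, e3 q6490 (flp_f L152053) q7484, e3 q6491 L152055 q7485, e3 q6492 (flp_f L148695) q7122, e3 q6493 (flp_f L142952) q5454, e3 q6494 (flp_f L152097) q7489, e3 q6495 (flp_f L148715) q7125, e3 q6496 L142982 q5830, e3 q6497 L142992 q5457, e3 q6498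 (flp_f L152125) q7492, e3 q6499 (flp_f L152043) q7483, e3 q6500 L143016 q5461, e3 q6501 (flp_f L152145) q7495, e3 q6502 L143031 q5465, e3 q6503 L143042 q5464, e3 q6504 (flp_f L152162) q7497, e3 q6505 L143062 q5467, e3 q6506 (flp_f L147157) q6969, e3 q6507 L143080 q6196, e3 q6508 (flp_f L148728) q7126, e3 q6509 (flp_f L148899) q7142, e3 q6510 (flp_f L149115) q7161, e3 q6511 (flp_f L148909) q7143, e3 q6512 L143128 q5478, e3 q6513 (flp_f L152205) q7502, e3 q6514 (flp_f L147678) q7015, e3 q6515 L143148 q5482, e3 q6516 L143158 q5494, e3 q6517 L143166 q5485, e3 q6518 (flp_f L143168) q5486, e3 q6519 (flp_f L152236) q7506, e3 q6520 (flp_f L149081) q7158, e3 q6521 L143196 q5489, e3 q6522 (flp_f L152250) q7508, e3 q6523 L143212 q5841, e3 q6524 L143220 q5493, e3 q6525 (flp_f L152270) q7511, e3 q6526 (flp_f L152226) q7505, e3 q6527 L143234 q5496, trivial⟩ (by decide +kernel)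

theorem ce_f_102 : ∀ r, r < 64 → sm gf (Qf (6528 + r)) = Qf (tab Gen.f (6528 + r)) :=
  edges_tab (sm gf) Qf (tab Gen.f) 6528 [(6528, 7012), (6529, 5499), (6530, 7173), (6531, 7185), (6532, 5511), (6533, 6735), (6534, 5852), (6535, 5512), (6536, 5714), (6537, 6736), (6538, 7515), (6539, 7176), (6540, 7523), (6541, 7178), (6542, 5514), (6543, 7527), (6544, 7181), (6545, 7187), (6546, 7189), (6547, 7194), (6548, 7531), (6549, 6549), (6550, 7534), (6551, 5523), (6552, 7538), (6553, 6553), (6554, 5525), (6555, 7543), (6556, 7544), (6557, 5856), (6558, 5527), (6559, 7548), (6560, 6560), (6561, 5860), (6562, 5531), (6563, 7552), (6564, 5532), (6565, 7556), (6566, 7557), (6567, 5542), (6568, 5534), (6569, 7561), (6570, 6570), (6571, 5546), (6572, 5538), (6573, 7565), (6574, 6861), (6575, 7555), (6576, 5540), (6577, 5541), (6578, 7569), (6579, 7570), (6580, 7560), (6581, 5544), (6582, 7574), (6583, 6709), (6584, 7564), (6585, 5548), (6586, 6707), (6587, 6874), (6588, 6588), (6589, 5553), (6590,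 5554), (6591, 7580)]
    ⟨e3 q6528 (flp_f L147640) q7012, e3 q6529 L143249 q5499, e3 q6530 (flp_f L149208) q7173, e3 q6531 (flp_f L149324) q7185, e3 q6532 L143276 q5511, e3 q6533 (flp_f L145081) q6735, e3 q6534 L143294 q5852, e3 q6535 L143301 q5512, e3 q6536 L143312 q5714, e3 q6537 (flp_f L145090) q6736, e3 q6538 (flp_f L152307) q7515, e3 q6539 (flp_f L149233) q7176, e3 q6540 L152369 q7523, e3 q6541 (flp_f L149253) q7178, e3 q6542 (flp_f L143359) q5514, e3 q6543 (flp_f L152408) q7527, e3 q6544 (flp_f L149274) q7181, e3 q6545 (flp_f L149348) q7187, e3 q6546 (flp_f L149376) q7189, e3 q6547 (flp_f L149431) q7194, e3 q6548 L152434 q7531, e3 q6549 L143421 q6549, e3 q6550 L152465 q7534, e3 q6551 (flp_f L143432) q5523, e3 q6552 (flp_f L152507) q7538, e3 q6553 L143456 q6553, e3 q6554 (flp_f L143460) q5525, e3 q6555 (flp_f L152554) q7543, e3 q6556 (flp_f L152566) q7544, e3 q6557 L143491 q5856, e3 q6558 L143499 q5527, e3 q6559 (flp_f L152599) q7548, e3 q6560 L143514 q6560, e3 q6561 L143527 q5860,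 e3 q6562 L143537 q5531, e3 q6563 (flp_f L152631) q7552, e3 q6564 (flp_f L143551) q5532, e3 q6565 (flp_f L152677) q7556, e3 q6566 (flp_f L152690) q7557, e3 q6567 L143588 q5542, e3 q6568 L143596 q5534, e3 q6569 (flp_f L152728) q7561, e3 q6570 L143612 q6570, e3 q6571 L143628 q5546, e3 q6572 L143638 q5538, e3 q6573 (flp_f L152766) q7565, e3 q6574 (flp_f L146075) q6861, e3 q6575 (flp_f L152666) q7555, e3 q6576 L143671 q5540, e3 q6577 L143682 q5541, e3 q6578 (flp_f L152803) q7569, e3 q6579 (flp_f L152810) q7570, e3 q6580 (flp_f L152718) q7560, e3 q6581 L143708 q5544, e3 q6582 (flp_f L152836) q7574, e3 q6583 (flp_f L144867) q6709, e3 q6584 (flp_f L152755) q7564, e3 q6585 L143739 q5548, e3 q6586 (flp_f L144852) q6707, e3 q6587 (flp_f L146165) q6874, e3 q6588 L143761 q6588, e3 q6589 L143770 q5553, e3 q6590 L143776 q5554, e3 q6591 (flp_f L152892) q7580, trivial⟩ (by decide +kernel)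

theorem ce_f_103 : ∀ r, r < 64 → sm gf (Qf (6592 + r)) = Qf (tab Gen.f (6592 + r)) :=
  edges_tab (sm gf) Qf (tab Gen.f) 6592 [(6592, 7581), (6593, 6593), (6594, 5557), (6595, 5562), (6596, 7584), (6597, 6597), (6598, 5814), (6599, 5565), (6600, 7587), (6601, 5833), (6602, 5569), (6603, 7590), (6604, 5876), (6605, 5572), (6606, 6980), (6607, 5576), (6608, 5575), (6609, 6981), (6610, 6939), (6611, 5778), (6612, 5581), (6613, 7595), (6614, 5793), (6615, 5585), (6616, 7598), (6617, 5844), (6618, 5588), (6619, 7023), (6620, 5596), (6621, 5648), (6622, 6622), (6623, 7603), (6624, 6624), (6625, 7607), (6626, 5606), (6627, 7609), (6628, 5607), (6629, 5677), (6630, 7612), (6631, 5609), (6632, 5615), (6633, 5611), (6634, 7617), (6635, 7618), (6636, 7614), (6637, 5613), (6638, 7622), (6639, 5624), (6640, 5666), (6641, 5617), (6642, 6642), (6643, 6643), (6644, 5619), (6645, 5620), (6646, 6646), (6647, 5623), (6648, 6648), (6649, 5627), (6650, 5695), (6651, 5693), (6652, 6737), (6653, 6653), (6654,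 5640), (6655, 7631)]
    ⟨e3 q6592 (flp_f L152905) q7581, e3 q6593 L143808 q6593, e3 q6594 L143816 q5557, e3 q6595 (flp_f L143824) q5562, e3 q6596 (flp_f L152948) q7584, e3 q6597 L143848 q6597, e3 q6598 L143858 q5814, e3 q6599 L143865 q5565, e3 q6600 (flp_f L152975) q7587, e3 q6601 L143883 q5833, e3 q6602 L143894 q5569, e3 q6603 (flp_f L153001) q7590, e3 q6604 L143909 q5876, e3 q6605 L143918 q5572, e3 q6606 (flp_f L147265) q6980, e3 q6607 L143938 q5576, e3 q6608 L143948 q5575, e3 q6609 (flp_f L147278) q6981, e3 q6610 (flp_f L146849) q6939, e3 q6611 L143977 q5778, e3 q6612 L143985 q5581, e3 q6613 (flp_f L153046) q7595, e3 q6614 L144003 q5793, e3 q6615 L144013 q5585, e3 q6616 (flp_f L153071) q7598, e3 q6617 L144028 q5844, e3 q6618 L144035 q5588, e3 q6619 (flp_f L147756) q7023, e3 q6620 (flp_f L144045) q5596, e3 q6621 L144057 q5648, e3 q6622 L144068 q6622, e3 q6623 L153119 q7603, e3 q6624 L144089 q6624, e3 q6625 L153154 q7607, e3 q6626 (flp_f L144102) q5606, e3 q6627 L153176 q7609, e3 q6628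 (flp_f L144124) q5607, e3 q6629 L144146 q5677, e3 q6630 L153212 q7612, e3 q6631 (flp_f L144160) q5609, e3 q6632 L144181 q5615, e3 q6633 (flp_f L144183) q5611, e3 q6634 (flp_f L153275) q7617, e3 q6635 (flp_f L153288) q7618, e3 q6636 (flp_f L153243) q7614, e3 q6637 L144226 q5613, e3 q6638 (flp_f L153328) q7622, e3 q6639 L144244 q5624, e3 q6640 L144261 q5666, e3 q6641 L144273 q5617, e3 q6642 L144281 q6642, e3 q6643 L144290 q6643, e3 q6644 L144301 q5619, e3 q6645 L144313 q5620, e3 q6646 L144322 q6646, e3 q6647 L144332 q5623, e3 q6648 L144340 q6648, e3 q6649 L144349 q5627, e3 q6650 L144361 q5695, e3 q6651 L144370 q5693, e3 q6652 (flp_f L145095) q6737, e3 q6653 L144395 q6653, e3 q6654 (flp_f L144398) q5640, e3 q6655 (flp_f L153434) q7631, trivial⟩ (by decide +kernel)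

theorem ce_f_104 : ∀ r, r < 64 → sm gf (Qf (6656 + r)) = Qf (tab Gen.f (6656 + r)) :=
  edges_tab (sm gf) Qf (tab Gen.f) 6656 [(6656, 6656), (6657, 6657), (6658, 5643), (6659, 5644), (6660, 6660), (6661, 5647), (6662, 6662), (6663, 5651), (6664, 6691), (6665, 6473), (6666, 7637), (6667, 6667), (6668, 5658), (6669, 7641), (6670, 6670), (6671, 7643), (6672, 5660), (6673, 7647), (6674, 7625), (6675, 5663), (6676, 5664), (6677, 7651), (6678, 7621), (6679, 5667), (6680, 7655), (6681, 5673), (6682, 6682), (6683, 7654), (6684, 5671), (6685, 5672), (6686, 7659), (6687, 7660), (6688, 7611), (6689, 5675), (6690, 7664), (6691, 6664), (6692, 7608), (6693, 5679), (6694, 7667), (6695, 6695), (6696, 6696), (6697, 5684), (6698, 5685), (6699, 6699), (6700, 5688), (6701, 5692), (6702, 7329), (6703, 6931), (6704, 7670), (6705, 5896), (6706, 6706), (6707, 6586), (6708, 6708), (6709, 6583), (6710, 5872), (6711, 6723), (6712, 5712), (6713, 7677), (6714, 6714), (6715, 5726), (6716, 5716), (6717, 5717), (6718,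 7681), (6719, 7682)]
    ⟨e3 q6656 L144425 q6656, e3 q6657 L144432 q6657, e3 q6658 L144437 q5643, e3 q6659 L144447 q5644, e3 q6660 L144466 q6660, e3 q6661 L144474 q5647, e3 q6662 L144482 q6662, e3 q6663 L144489 q5651, e3 q6664 (flp_f L144694) q6691, e3 q6665 L144507 q6473, e3 q6666 L153490 q7637, e3 q6667 L144524 q6667, e3 q6668 (flp_f L144525) q5658, e3 q6669 (flp_f L153534) q7641, e3 q6670 L144541 q6670, e3 q6671 L153543 q7643, e3 q6672 (flp_f L144546) q5660, e3 q6673 (flp_f L153572) q7647, e3 q6674 (flp_f L153357) q7625, e3 q6675 L144573 q5663, e3 q6676 (flp_f L144575) q5664, e3 q6677 (flp_f L153610) q7651, e3 q6678 (flp_f L153315) q7621, e3 q6679 (flp_f L144594) q5667, e3 q6680 (flp_f L153648) q7655, e3 q6681 L144614 q5673, e3 q6682 L144622 q6682, e3 q6683 (flp_f L153638) q7654, e3 q6684 L144643 q5671, e3 q6685 L144653 q5672, e3 q6686 (flp_f L153686) q7659, e3 q6687 (flp_f L153694) q7660, e3 q6688 (flp_f L153210) q7611, e3 q6689 L144683 q5675, e3 q6690 (flp_f L153723) q7664, e3 q6691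 L144694 q6664, e3 q6692 (flp_f L153174) q7608, e3 q6693 L144708 q5679, e3 q6694 (flp_f L153741) q7667, e3 q6695 L144719 q6695, e3 q6696 L144727 q6696, e3 q6697 L144739 q5684, e3 q6698 L144752 q5685, e3 q6699 L144764 q6699, e3 q6700 L144773 q5688, e3 q6701 L144787 q5692, e3 q6702 (flp_f L150757) q7329, e3 q6703 L146779 q6931, e3 q6704 L153762 q7670, e3 q6705 L144827 q5896, e3 q6706 L144842 q6706, e3 q6707 L144852 q6586, e3 q6708 L144857 q6708, e3 q6709 L144867 q6583, e3 q6710 L144875 q5872, e3 q6711 L144984 q6723, e3 q6712 L144891 q5712, e3 q6713 (flp_f L153846) q7677, e3 q6714 L144905 q6714, e3 q6715 L144918 q5726, e3 q6716 L144928 q5716, e3 q6717 L144938 q5717, e3 q6718 (flp_f L153881) q7681, e3 q6719 (flp_f L153889) q7682, trivial⟩ (by decide +kernel)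

theorem ce_f_105 : ∀ r, r < 64 → sm gf (Qf (6720 + r)) = Qf (tab Gen.f (6720 + r)) :=
  edges_tab (sm gf) Qf (tab Gen.f) 6720 [(6720, 5731), (6721, 5720), (6722, 7686), (6723, 6711), (6724, 5735), (6725, 5724), (6726, 7689), (6727, 6727), (6728, 7680), (6729, 5729), (6730, 5730), (6731, 7692), (6732, 7177), (6733, 7685), (6734, 5733), (6735, 6533), (6736, 6537), (6737, 6652), (6738, 6738), (6739, 5742), (6740, 6740), (6741, 6945), (6742, 7203), (6743, 7204), (6744, 7205), (6745, 7114), (6746, 7206), (6747, 7209), (6748, 7707), (6749, 7211), (6750, 5755), (6751, 7710), (6752, 7213), (6753, 7712), (6754, 5757), (6755, 7716), (6756, 5765), (6757, 7583), (6758, 5760), (6759, 7720), (6760, 5762), (6761, 7724), (6762, 7725), (6763, 6763), (6764, 5764), (6765, 7727), (6766, 7718), (6767, 6767), (6768, 5768), (6769, 7729), (6770, 7053), (6771, 7111), (6772, 7116), (6773, 7219), (6774, 7044), (6775, 7224), (6776, 7100), (6777, 7225), (6778, 5776), (6779, 7737), (6780, 7594), (6781, 5780), (6782,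 7740), (6783, 6783)]
    ⟨e3 q6720 L144960 q5731, e3 q6721 L144970 q5720, e3 q6722 (flp_f L153920) q7686, e3 q6723 (flp_f L144984) q6711, e3 q6724 L144992 q5735, e3 q6725 L145001 q5724, e3 q6726 (flp_f L153941) q7689, e3 q6727 L145019 q6727, e3 q6728 (flp_f L153871) q7680, e3 q6729 L145038 q5729, e3 q6730 L145046 q5730, e3 q6731 (flp_f L153970) q7692, e3 q6732 L149242 q7177, e3 q6733 (flp_f L153913) q7685, e3 q6734 L145072 q5733, e3 q6735 L145081 q6533, e3 q6736 L145090 q6537, e3 q6737 L145095 q6652, e3 q6738 L145105 q6738, e3 q6739 L145121 q5742, e3 q6740 L145132 q6740, e3 q6741 (flp_f L146904) q6945, e3 q6742 (flp_f L149553) q7203, e3 q6743 (flp_f L149570) q7204, e3 q6744 (flp_f L149582) q7205, e3 q6745 (flp_f L148605) q7114, e3 q6746 (flp_f L149598) q7206, e3 q6747 (flp_f L149630) q7209, e3 q6748 L154078 q7707, e3 q6749 (flp_f L149652) q7211, e3 q6750 (flp_f L145205) q5755, e3 q6751 (flp_f L154106) q7710, e3 q6752 (flp_f L149672) q7213, e3 q6753 L154116 q7712, e3 q6754 (flp_f L145236)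 q5757, e3 q6755 (flp_f L154159) q7716, e3 q6756 L145262 q5765, e3 q6757 (flp_f L152939) q7583, e3 q6758 L145282 q5760, e3 q6759 (flp_f L154203) q7720, e3 q6760 (flp_f L145293) q5762, e3 q6761 (flp_f L154235) q7724, e3 q6762 (flp_f L154249) q7725, e3 q6763 L145335 q6763, e3 q6764 L145343 q5764, e3 q6765 (flp_f L154270) q7727, e3 q6766 (flp_f L154176) q7718, e3 q6767 L145375 q6767, e3 q6768 L145384 q5768, e3 q6769 (flp_f L154291) q7729, e3 q6770 L148051 q7053, e3 q6771 (flp_f L148564) q7111, e3 q6772 (flp_f L148626) q7116, e3 q6773 (flp_f L149736) q7219, e3 q6774 (flp_f L147978) q7044, e3 q6775 (flp_f L149792) q7224, e3 q6776 (flp_f L148441) q7100, e3 q6777 (flp_f L149800) q7225, e3 q6778 L145456 q5776, e3 q6779 (flp_f L154348) q7737, e3 q6780 (flp_f L153036) q7594, e3 q6781 L145480 q5780, e3 q6782 (flp_f L154370) q7740, e3 q6783 L145493 q6783, trivial⟩ (by decide +kernel)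

theorem ce_f_106 : ∀ r, r < 64 → sm gf (Qf (6784 + r)) = Qf (tab Gen.f (6784 + r)) :=
  edges_tab (sm gf) Qf (tab Gen.f) 6784 [(6784, 5783), (6785, 7197), (6786, 7230), (6787, 7231), (6788, 7149), (6789, 7152), (6790, 7141), (6791, 7235), (6792, 5792), (6793, 7748), (6794, 7597), (6795, 5795), (6796, 7356), (6797, 7750), (6798, 7358), (6799, 7753), (6800, 7360), (6801, 7757), (6802, 7362), (6803, 5803), (6804, 7760), (6805, 7363), (6806, 7762), (6807, 5805), (6808, 7766), (6809, 7371), (6810, 7488), (6811, 5808), (6812, 7770), (6813, 5810), (6814, 7774), (6815, 7775), (6816, 7537), (6817, 5812), (6818, 7779), (6819, 5823), (6820, 7586), (6821, 5816), (6822, 7783), (6823, 6464), (6824, 6824), (6825, 5818), (6826, 5819), (6827, 7787), (6828, 7788), (6829, 6829), (6830, 5822), (6831, 7790), (6832, 7635), (6833, 6833), (6834, 5826), (6835, 7792), (6836, 5828), (6837, 7794), (6838, 7491), (6839, 5832), (6840, 7797), (6841, 7589), (6842, 5835), (6843, 7800), (6844, 6844), (6845, 5838), (6846,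 6992), (6847, 7803)]
    ⟨e3 q6784 L145501 q5783, e3 q6785 (flp_f L149474) q7197, e3 q6786 (flp_f L149849) q7230, e3 q6787 (flp_f L149856) q7231, e3 q6788 (flp_f L148975) q7149, e3 q6789 (flp_f L149015) q7152, e3 q6790 (flp_f L148885) q7141, e3 q6791 (flp_f L149891) q7235, e3 q6792 L145556 q5792, e3 q6793 (flp_f L154413) q7748, e3 q6794 (flp_f L153062) q7597, e3 q6795 L145578 q5795, e3 q6796 (flp_f L150999) q7356, e3 q6797 (flp_f L154424) q7750, e3 q6798 (flp_f L151010) q7358, e3 q6799 L154441 q7753, e3 q6800 (flp_f L151034) q7360, e3 q6801 L154466 q7757, e3 q6802 (flp_f L151048) q7362, e3 q6803 (flp_f L145618) q5803, e3 q6804 (flp_f L154489) q7760, e3 q6805 (flp_f L151054) q7363, e3 q6806 L154499 q7762, e3 q6807 (flp_f L145644) q5805, e3 q6808 (flp_f L154527) q7766, e3 q6809 (flp_f L151114) q7371, e3 q6810 (flp_f L152089) q7488, e3 q6811 L145670 q5808, e3 q6812 (flp_f L154551) q7770, e3 q6813 (flp_f L145678) q5810, e3 q6814 (flp_f L154577) q7774, e3 q6815 (flp_f L154586) q7775, e3 q6816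 (flp_f L152498) q7537, e3 q6817 L145716 q5812, e3 q6818 (flp_f L154619) q7779, e3 q6819 L145731 q5823, e3 q6820 (flp_f L152966) q7586, e3 q6821 L145750 q5816, e3 q6822 (flp_f L154647) q7783, e3 q6823 L145762 q6464, e3 q6824 L145770 q6824, e3 q6825 L145775 q5818, e3 q6826 L145784 q5819, e3 q6827 (flp_f L154679) q7787, e3 q6828 (flp_f L154691) q7788, e3 q6829 L145821 q6829, e3 q6830 L145830 q5822, e3 q6831 (flp_f L154713) q7790, e3 q6832 (flp_f L153478) q7635, e3 q6833 L145865 q6833, e3 q6834 L145873 q5826, e3 q6835 (flp_f L154732) q7792, e3 q6836 L145895 q5828, e3 q6837 (flp_f L154750) q7794, e3 q6838 (flp_f L152115) q7491, e3 q6839 L145917 q5832, e3 q6840 (flp_f L154771) q7797, e3 q6841 (flp_f L152992) q7589, e3 q6842 L145940 q5835, e3 q6843 (flp_f L154792) q7800, e3 q6844 L145954 q6844, e3 q6845 L145962 q5838, e3 q6846 (flp_f L147411) q6992, e3 q6847 (flp_f L154815) q7803, trivial⟩ (by decide +kernel)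

theorem ce_f_107 : ∀ r, r < 64 → sm gf (Qf (6848 + r)) = Qf (tab Gen.f (6848 + r)) :=
  edges_tab (sm gf) Qf (tab Gen.f) 6848 [(6848, 5840), (6849, 7804), (6850, 7510), (6851, 5843), (6852, 7806), (6853, 7025), (6854, 5846), (6855, 7028), (6856, 7031), (6857, 5926), (6858, 5851), (6859, 7811), (6860, 7517), (6861, 6574), (6862, 7542), (6863, 5854), (6864, 5855), (6865, 7815), (6866, 7816), (6867, 7547), (6868, 5858), (6869, 7820), (6870, 7675), (6871, 7551), (6872, 5862), (6873, 7824), (6874, 6587), (6875, 6875), (6876, 5867), (6877, 5868), (6878, 7829), (6879, 7830), (6880, 6880), (6881, 5871), (6882, 7832), (6883, 7672), (6884, 6884), (6885, 5875), (6886, 6886), (6887, 6893), (6888, 6908), (6889, 5878), (6890, 6890), (6891, 7834), (6892, 6892), (6893, 6887), (6894, 5882), (6895, 6895), (6896, 6898), (6897, 7135), (6898, 6896), (6899, 5891), (6900, 5893), (6901, 7836), (6902, 5899), (6903, 5895), (6904, 6904), (6905, 5898), (6906, 6906), (6907, 5902), (6908, 6888), (6909, 6909), (6910,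 5906), (6911, 6117)]
    ⟨e3 q6848 L145988 q5840, e3 q6849 (flp_f L154828) q7804, e3 q6850 (flp_f L152264) q7510, e3 q6851 L146003 q5843, e3 q6852 (flp_f L154841) q7806, e3 q6853 (flp_f L147780) q7025, e3 q6854 L146018 q5846, e3 q6855 (flp_f L147814) q7028, e3 q6856 L147854 q7031, e3 q6857 L146041 q5926, e3 q6858 (flp_f L146049) q5851, e3 q6859 (flp_f L154876) q7811, e3 q6860 (flp_f L152319) q7517, e3 q6861 L146075 q6574, e3 q6862 (flp_f L152543) q7542, e3 q6863 L146085 q5854, e3 q6864 L146093 q5855, e3 q6865 (flp_f L154905) q7815, e3 q6866 (flp_f L154910) q7816, e3 q6867 (flp_f L152589) q7547, e3 q6868 L146122 q5858, e3 q6869 (flp_f L154937) q7820, e3 q6870 (flp_f L153827) q7675, e3 q6871 (flp_f L152621) q7551, e3 q6872 L146151 q5862, e3 q6873 (flp_f L154963) q7824, e3 q6874 L146165 q6587, e3 q6875 L146173 q6875, e3 q6876 L146181 q5867, e3 q6877 L146187 q5868, e3 q6878 (flp_f L155002) q7829, e3 q6879 (flp_f L155013) q7830, e3 q6880 L146221 q6880, e3 q6881 L146228 q5871, e3 q6882 (flp_f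 L155035) q7832, e3 q6883 (flp_f L153790) q7672, e3 q6884 L146262 q6884, e3 q6885 L146270 q5875, e3 q6886 L146281 q6886, e3 q6887 L146337 q6893, e3 q6888 (flp_f L146509) q6908, e3 q6889 L146305 q5878, e3 q6890 L146315 q6890, e3 q6891 (flp_f L155058) q7834, e3 q6892 L146324 q6892, e3 q6893 (flp_f L146337) q6887, e3 q6894 L146349 q5882, e3 q6895 L146369 q6895, e3 q6896 L146397 q6898, e3 q6897 (flp_f L148814) q7135, e3 q6898 (flp_f L146397) q6896, e3 q6899 L146406 q5891, e3 q6900 (flp_f L146414) q5893, e3 q6901 (flp_f L155076) q7836, e3 q6902 L146442 q5899, e3 q6903 (flp_f L146446) q5895, e3 q6904 L146463 q6904, e3 q6905 L146470 q5898, e3 q6906 L146480 q6906, e3 q6907 L146495 q5902, e3 q6908 L146509 q6888, e3 q6909 L146525 q6909, e3 q6910 L146538 q5906, e3 q6911 L146553 q6117, trivial⟩ (by decide +kernel)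

theorem ce_f_108 : ∀ r, r < 64 → sm gf (Qf (6912 + r)) = Qf (tab Gen.f (6912 + r)) :=
  edges_tab (sm gf) Qf (tab Gen.f) 6912 [(6912, 6912), (6913, 6913), (6914, 6914), (6915, 6915), (6916, 6916), (6917, 6330), (6918, 6022), (6919, 6919), (6920, 6256), (6921, 6257), (6922, 5932), (6923, 7846), (6924, 7847), (6925, 6261), (6926, 7854), (6927, 6263), (6928, 5936), (6929, 5937), (6930, 7857), (6931, 6703), (6932, 7859), (6933, 6269), (6934, 7869), (6935, 6271), (6936, 5939), (6937, 7873), (6938, 6274), (6939, 6610), (6940, 6940), (6941, 7876), (6942, 5943), (6943, 7880), (6944, 5951), (6945, 6741), (6946, 5946), (6947, 7883), (6948, 5948), (6949, 6949), (6950, 5950), (6951, 6951), (6952, 5954), (6953, 5956), (6954, 5957), (6955, 6306), (6956, 6309), (6957, 7889), (6958, 6300), (6959, 6320), (6960, 6302), (6961, 5959), (6962, 7899), (6963, 6305), (6964, 5963), (6965, 6298), (6966, 5965), (6967, 7901), (6968, 7902), (6969, 6506), (6970, 7904), (6971, 6314), (6972, 7911), (6973, 6316), (6974,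 5967), (6975, 7914)]
    ⟨e3 q6912 L146565 q6912, e3 q6913 L146579 q6913, e3 q6914 L146590 q6914, e3 q6915 L146606 q6915, e3 q6916 L146617 q6916, e3 q6917 L146632 q6330, e3 q6918 L146644 q6022, e3 q6919 L146657 q6919, e3 q6920 L146666 q6256, e3 q6921 L146676 q6257, e3 q6922 L146688 q5932, e3 q6923 (flp_f L155192) q7846, e3 q6924 (flp_f L155208) q7847, e3 q6925 L146717 q6261, e3 q6926 L155269 q7854, e3 q6927 L146738 q6263, e3 q6928 L146746 q5936, e3 q6929 L146757 q5937, e3 q6930 (flp_f L155307) q7857, e3 q6931 (flp_f L146779) q6703, e3 q6932 (flp_f L155332) q7859, e3 q6933 L146793 q6269, e3 q6934 L155418 q7869, e3 q6935 L146809 q6271, e3 q6936 (flp_f L146811) q5939, e3 q6937 (flp_f L155466) q7873, e3 q6938 L146837 q6274, e3 q6939 L146849 q6610, e3 q6940 L146859 q6940, e3 q6941 L155489 q7876, e3 q6942 (flp_f L146869) q5943, e3 q6943 (flp_f L155533) q7880, e3 q6944 L146892 q5951, e3 q6945 L146904 q6741, e3 q6946 L146914 q5946, e3 q6947 (flp_f L155566) q7883, e3 q6948 (flp_f L146925) q5948,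 e3 q6949 L146940 q6949, e3 q6950 L146947 q5950, e3 q6951 L146957 q6951, e3 q6952 L146966 q5954, e3 q6953 L146973 q5956, e3 q6954 L146990 q5957, e3 q6955 L147000 q6306, e3 q6956 L147020 q6309, e3 q6957 (flp_f L155626) q7889, e3 q6958 L147033 q6300, e3 q6959 (flp_f L147049) q6320, e3 q6960 L147058 q6302, e3 q6961 (flp_f L147060) q5959, e3 q6962 (flp_f L155746) q7899, e3 q6963 L147084 q6305, e3 q6964 L147094 q5963, e3 q6965 L147115 q6298, e3 q6966 L147123 q5965, e3 q6967 (flp_f L155764) q7901, e3 q6968 (flp_f L155782) q7902, e3 q6969 L147157 q6506, e3 q6970 (flp_f L155803) q7904, e3 q6971 L147173 q6314, e3 q6972 L155879 q7911, e3 q6973 L147191 q6316, e3 q6974 (flp_f L147193) q5967, e3 q6975 (flp_f L155919) q7914, trivial⟩ (by decide +kernel)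

theorem ce_f_109 : ∀ r, r < 64 → sm gf (Qf (6976 + r)) = Qf (tab Gen.f (6976 + r)) :=
  edges_tab (sm gf) Qf (tab Gen.f) 6976 [(6976, 6319), (6977, 6301), (6978, 5970), (6979, 7918), (6980, 6606), (6981, 6609), (6982, 5976), (6983, 7921), (6984, 6984), (6985, 5979), (6986, 5983), (6987, 5984), (6988, 6409), (6989, 5985), (6990, 6236), (6991, 7924), (6992, 6846), (6993, 6333), (6994, 6334), (6995, 6335), (6996, 5993), (6997, 6345), (6998, 6347), (6999, 7931), (7000, 6339), (7001, 6340), (7002, 6358), (7003, 6342), (7004, 5998), (7005, 7938), (7006, 6004), (7007, 6337), (7008, 6006), (7009, 6228), (7010, 6243), (7011, 7940), (7012, 6528), (7013, 6485), (7014, 6352), (7015, 6514), (7016, 6354), (7017, 6011), (7018, 7950), (7019, 6357), (7020, 6341), (7021, 6015), (7022, 7953), (7023, 6619), (7024, 6019), (7025, 6853), (7026, 6249), (7027, 6237), (7028, 6855), (7029, 6365), (7030, 6366), (7031, 6856), (7032, 6238), (7033, 7033), (7034, 6037), (7035, 7958), (7036, 7959), (7037, 6418), (7038,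 7965), (7039, 6420)]
    ⟨e3 q6976 L147225 q6319, e3 q6977 L147239 q6301, e3 q6978 L147249 q5970, e3 q6979 (flp_f L155965) q7918, e3 q6980 L147265 q6606, e3 q6981 L147278 q6609, e3 q6982 L147292 q5976, e3 q6983 (flp_f L155992) q7921, e3 q6984 L147312 q6984, e3 q6985 L147320 q5979, e3 q6986 L147329 q5983, e3 q6987 L147344 q5984, e3 q6988 L147361 q6409, e3 q6989 L147375 q5985, e3 q6990 L147388 q6236, e3 q6991 (flp_f L156033) q7924, e3 q6992 L147411 q6846, e3 q6993 L147422 q6333, e3 q6994 L147428 q6334, e3 q6995 L147435 q6335, e3 q6996 L147450 q5993, e3 q6997 L147463 q6345, e3 q6998 L147476 q6347, e3 q6999 (flp_f L156114) q7931, e3 q7000 L147497 q6339, e3 q7001 L147512 q6340, e3 q7002 L147526 q6358, e3 q7003 L147534 q6342, e3 q7004 L147547 q5998, e3 q7005 (flp_f L156210) q7938, e3 q7006 L147569 q6004, e3 q7007 L147582 q6337, e3 q7008 L147590 q6006, e3 q7009 L147604 q6228, e3 q7010 L147620 q6243, e3 q7011 (flp_f L156233) q7940, e3 q7012 L147640 q6528, e3 q7013 (flp_f L147656) q6485, e3 q7014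 L147666 q6352, e3 q7015 L147678 q6514, e3 q7016 L147688 q6354, e3 q7017 L147700 q6011, e3 q7018 (flp_f L156367) q7950, e3 q7019 L147716 q6357, e3 q7020 L147732 q6341, e3 q7021 L147742 q6015, e3 q7022 (flp_f L156409) q7953, e3 q7023 L147756 q6619, e3 q7024 L147769 q6019, e3 q7025 L147780 q6853, e3 q7026 L147798 q6249, e3 q7027 L147808 q6237, e3 q7028 L147814 q6855, e3 q7029 L147829 q6365, e3 q7030 L147836 q6366, e3 q7031 (flp_f L147854) q6856, e3 q7032 L147862 q6238, e3 q7033 L147881 q7033, e3 q7034 L147888 q6037, e3 q7035 (flp_f L156470) q7958, e3 q7036 (flp_f L156480) q7959, e3 q7037 L147911 q6418, e3 q7038 L156520 q7965, e3 q7039 L147926 q6420, trivial⟩ (by decide +kernel)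

theorem ce_f_110 : ∀ r, r < 64 → sm gf (Qf (7040 + r)) = Qf (tab Gen.f (7040 + r)) :=
  edges_tab (sm gf) Qf (tab Gen.f) 7040 [(7040, 7040), (7041, 6042), (7042, 6043), (7043, 7969), (7044, 6774), (7045, 7970), (7046, 6426), (7047, 7980), (7048, 6428), (7049, 6045), (7050, 7984), (7051, 6431), (7052, 6049), (7053, 6770), (7054, 6051), (7055, 6372), (7056, 7994), (7057, 7987), (7058, 6050), (7059, 7998), (7060, 7989), (7061, 6437), (7062, 8003), (7063, 6439), (7064, 8006), (7065, 6053), (7066, 8010), (7067, 6443), (7068, 7997), (7069, 6056), (7070, 8014), (7071, 8016), (7072, 6058), (7073, 8019), (7074, 7074), (7075, 6067), (7076, 6061), (7077, 8022), (7078, 6063), (7079, 8026), (7080, 8027), (7081, 8018), (7082, 6065), (7083, 8031), (7084, 6076), (7085, 8021), (7086, 6069), (7087, 8035), (7088, 7379), (7089, 7089), (7090, 6071), (7091, 6072), (7092, 7092), (7093, 6075), (7094, 7094), (7095, 6079), (7096, 7096), (7097, 6085), (7098, 6216), (7099, 6232), (7100, 6776), (7101, 8040), (7102,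 6479), (7103, 8045)]
    ⟨e3 q7040 L147936 q7040, e3 q7041 L147945 q6042, e3 q7042 L147957 q6043, e3 q7043 (flp_f L156563) q7969, e3 q7044 L147978 q6774, e3 q7045 (flp_f L156579) q7970, e3 q7046 L147990 q6426, e3 q7047 L156671 q7980, e3 q7048 L148006 q6428, e3 q7049 (flp_f L148008) q6045, e3 q7050 (flp_f L156713) q7984, e3 q7051 L148028 q6431, e3 q7052 L148036 q6049, e3 q7053 (flp_f L148051) q6770, e3 q7054 L148059 q6051, e3 q7055 L148067 q6372, e3 q7056 L156812 q7994, e3 q7057 (flp_f L156741) q7987, e3 q7058 (flp_f L148085) q6050, e3 q7059 (flp_f L156862) q7998, e3 q7060 (flp_f L156760) q7989, e3 q7061 L148119 q6437, e3 q7062 L156895 q8003, e3 q7063 L148133 q6439, e3 q7064 L156919 q8006, e3 q7065 (flp_f L148139) q6053, e3 q7066 (flp_f L156947) q8010, e3 q7067 L148155 q6443, e3 q7068 (flp_f L156850) q7997, e3 q7069 L148173 q6056, e3 q7070 (flp_f L156977) q8014, e3 q7071 L156987 q8016, e3 q7072 (flp_f L148186) q6058, e3 q7073 (flp_f L157020) q8019, e3 q7074 L148209 q7074, e3 q7075 L148221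 q6067, e3 q7076 L148230 q6061, e3 q7077 (flp_f L157052) q8022, e3 q7078 (flp_f L148241) q6063, e3 q7079 (flp_f L157079) q8026, e3 q7080 (flp_f L157087) q8027, e3 q7081 (flp_f L157010) q8018, e3 q7082 L148270 q6065, e3 q7083 (flp_f L157112) q8031, e3 q7084 L148283 q6076, e3 q7085 (flp_f L157039) q8021, e3 q7086 L148302 q6069, e3 q7087 (flp_f L157142) q8035, e3 q7088 (flp_f L151184) q7379, e3 q7089 L148324 q7089, e3 q7090 L148330 q6071, e3 q7091 L148340 q6072, e3 q7092 L148347 q7092, e3 q7093 L148355 q6075, e3 q7094 L148362 q7094, e3 q7095 L148370 q6079, e3 q7096 L148385 q7096, e3 q7097 L148400 q6085, e3 q7098 L148410 q6216, e3 q7099 L148428 q6232, e3 q7100 L148441 q6776, e3 q7101 (flp_f L157184) q8040, e3 q7102 L148459 q6479, e3 q7103 L157250 q8045, trivial⟩ (by decide +kernel)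

theorem ce_f_111 : ∀ r, r < 64 → sm gf (Qf (7104 + r)) = Qf (tab Gen.f (7104 + r)) :=
  edges_tab (sm gf) Qf (tab Gen.f) 7104 [(7104, 6481), (7105, 6087), (7106, 8048), (7107, 6484), (7108, 6351), (7109, 6090), (7110, 8051), (7111, 6771), (7112, 6099), (7113, 6213), (7114, 6745), (7115, 6373), (7116, 6772), (7117, 6399), (7118, 6106), (7119, 6098), (7120, 8059), (7121, 8061), (7122, 6492), (7123, 6101), (7124, 8065), (7125, 6495), (7126, 6508), (7127, 6104), (7128, 8068), (7129, 8058), (7130, 6108), (7131, 8071), (7132, 6112), (7133, 6111), (7134, 8073), (7135, 6897), (7136, 6114), (7137, 8075), (7138, 6214), (7139, 6125), (7140, 6248), (7141, 6790), (7142, 6509), (7143, 6511), (7144, 6129), (7145, 8079), (7146, 6353), (7147, 6133), (7148, 8082), (7149, 6788), (7150, 6229), (7151, 6244), (7152, 6789), (7153, 6151), (7154, 6142), (7155, 8088), (7156, 6143), (7157, 8090), (7158, 6520), (7159, 6146), (7160, 8092), (7161, 6510), (7162, 6150), (7163, 8095), (7164, 8087), (7165, 6153), (7166,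 8097), (7167, 6156)]
    ⟨e3 q7104 L148487 q6481, e3 q7105 (flp_f L148489) q6087, e3 q7106 (flp_f L157294) q8048, e3 q7107 L148521 q6484, e3 q7108 L148536 q6351, e3 q7109 L148545 q6090, e3 q7110 (flp_f L157329) q8051, e3 q7111 L148564 q6771, e3 q7112 L148574 q6099, e3 q7113 L148584 q6213, e3 q7114 L148605 q6745, e3 q7115 L148613 q6373, e3 q7116 L148626 q6772, e3 q7117 L148636 q6399, e3 q7118 L148654 q6106, e3 q7119 L148666 q6098, e3 q7120 (flp_f L157429) q8059, e3 q7121 L157443 q8061, e3 q7122 L148695 q6492, e3 q7123 (flp_f L148697) q6101, e3 q7124 (flp_f L157495) q8065, e3 q7125 L148715 q6495, e3 q7126 L148728 q6508, e3 q7127 L148739 q6104, e3 q7128 (flp_f L157524) q8068, e3 q7129 (flp_f L157417) q8058, e3 q7130 L148765 q6108, e3 q7131 (flp_f L157543) q8071, e3 q7132 L148781 q6112, e3 q7133 L148793 q6111, e3 q7134 (flp_f L157559) q8073, e3 q7135 L148814 q6897, e3 q7136 L148823 q6114, e3 q7137 (flp_f L157580) q8075, e3 q7138 L148843 q6214, e3 q7139 L148855 q6125, e3 q7140 L148871 q6248,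 e3 q7141 L148885 q6790, e3 q7142 L148899 q6509, e3 q7143 L148909 q6511, e3 q7144 L148925 q6129, e3 q7145 (flp_f L157623) q8079, e3 q7146 L148950 q6353, e3 q7147 L148958 q6133, e3 q7148 (flp_f L157659) q8082, e3 q7149 L148975 q6788, e3 q7150 L148989 q6229, e3 q7151 L148999 q6244, e3 q7152 L149015 q6789, e3 q7153 L149031 q6151, e3 q7154 L149043 q6142, e3 q7155 (flp_f L157733) q8088, e3 q7156 (flp_f L149055) q6143, e3 q7157 (flp_f L157758) q8090, e3 q7158 L149081 q6520, e3 q7159 L149092 q6146, e3 q7160 (flp_f L157780) q8092, e3 q7161 L149115 q6510, e3 q7162 L149125 q6150, e3 q7163 (flp_f L157811) q8095, e3 q7164 (flp_f L157721) q8087, e3 q7165 L149138 q6153, e3 q7166 (flp_f L157827) q8097, e3 q7167 L149152 q6156, trivial⟩ (by decide +kernel)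

theorem ce_f_112 : ∀ r, r < 64 → sm gf (Qf (7168 + r)) = Qf (tab Gen.f (7168 + r)) :=
  edges_tab (sm gf) Qf (tab Gen.f) 7168 [(7168, 8099), (7169, 6159), (7170, 6367), (7171, 6163), (7172, 6164), (7173, 6530), (7174, 8106), (7175, 8102), (7176, 6539), (7177, 6732), (7178, 6541), (7179, 6166), (7180, 8115), (7181, 6544), (7182, 7182), (7183, 6218), (7184, 6192), (7185, 6531), (7186, 6194), (7187, 6545), (7188, 7188), (7189, 6546), (7190, 7190), (7191, 7191), (7192, 7192), (7193, 6220), (7194, 6547), (7195, 7195), (7196, 6235), (7197, 6785), (7198, 7198), (7199, 7199), (7200, 7200), (7201, 7201), (7202, 7202), (7203, 6742), (7204, 6743), (7205, 6744), (7206, 6746), (7207, 7990), (7208, 8054), (7209, 6747), (7210, 7971), (7211, 6749), (7212, 8041), (7213, 6752), (7214, 8103), (7215, 8117), (7216, 6221), (7217, 6223), (7218, 6226), (7219, 6773), (7220, 7905), (7221, 7942), (7222, 8085), (7223, 6308), (7224, 6775), (7225, 6777), (7226, 8042), (7227, 7925), (7228, 7923), (7229, 6331), (7230,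 6786), (7231, 6787)]
    ⟨e3 q7168 (flp_f L157845) q8099, e3 q7169 L149169 q6159, e3 q7170 L149182 q6367, e3 q7171 L149188 q6163, e3 q7172 L149199 q6164, e3 q7173 L149208 q6530, e3 q7174 L157920 q8106, e3 q7175 (flp_f L157882) q8102, e3 q7176 L149233 q6539, e3 q7177 (flp_f L149242) q6732, e3 q7178 L149253 q6541, e3 q7179 (flp_f L149255) q6166, e3 q7180 (flp_f L158002) q8115, e3 q7181 L149274 q6544, e3 q7182 L149287 q7182, e3 q7183 L149294 q6218, e3 q7184 L149317 q6192, e3 q7185 L149324 q6531, e3 q7186 L149338 q6194, e3 q7187 L149348 q6545, e3 q7188 L149369 q7188, e3 q7189 L149376 q6546, e3 q7190 L149381 q7190, e3 q7191 L149394 q7191, e3 q7192 L149401 q7192, e3 q7193 L149417 q6220, e3 q7194 L149431 q6547, e3 q7195 L149445 q7195, e3 q7196 L149458 q6235, e3 q7197 L149474 q6785, e3 q7198 L149488 q7198, e3 q7199 L149502 q7199, e3 q7200 L149511 q7200, e3 q7201 L149527 q7201, e3 q7202 L149542 q7202, e3 q7203 L149553 q6742, e3 q7204 L149570 q6743, e3 q7205 L149582 q6744, e3 q7206 L149598 q6746,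 e3 q7207 (flp_f L156772) q7990, e3 q7208 (flp_f L157366) q8054, e3 q7209 L149630 q6747, e3 q7210 (flp_f L156585) q7971, e3 q7211 L149652 q6749, e3 q7212 (flp_f L157202) q8041, e3 q7213 L149672 q6752, e3 q7214 (flp_f L157890) q8103, e3 q7215 (flp_f L158019) q8117, e3 q7216 (flp_f L149702) q6221, e3 q7217 L149716 q6223, e3 q7218 L149726 q6226, e3 q7219 L149736 q6773, e3 q7220 (flp_f L155815) q7905, e3 q7221 (flp_f L156265) q7942, e3 q7222 (flp_f L157692) q8085, e3 q7223 L149782 q6308, e3 q7224 L149792 q6775, e3 q7225 L149800 q6777, e3 q7226 (flp_f L157214) q8042, e3 q7227 (flp_f L156049) q7925, e3 q7228 (flp_f L156023) q7923, e3 q7229 L149841 q6331, e3 q7230 L149849 q6786, e3 q7231 L149856 q6787, trivial⟩ (by decide +kernel)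

theorem ce_f_113 : ∀ r, r < 64 → sm gf (Qf (7232 + r)) = Qf (tab Gen.f (7232 + r)) :=
  edges_tab (sm gf) Qf (tab Gen.f) 7232 [(7232, 7943), (7233, 6310), (7234, 6348), (7235, 6791), (7236, 7955), (7237, 6332), (7238, 6364), (7239, 7956), (7240, 6255), (7241, 8152), (7242, 8153), (7243, 7843), (7244, 8160), (7245, 7845), (7246, 6259), (7247, 6260), (7248, 8163), (7249, 8164), (7250, 7851), (7251, 8172), (7252, 7853), (7253, 6262), (7254, 8175), (7255, 7856), (7256, 6266), (7257, 7890), (7258, 6268), (7259, 8130), (7260, 8184), (7261, 8178), (7262, 6267), (7263, 8187), (7264, 8180), (7265, 7865), (7266, 8192), (7267, 7867), (7268, 8195), (7269, 6270), (7270, 8199), (7271, 7871), (7272, 7895), (7273, 6273), (7274, 8203), (7275, 8205), (7276, 6275), (7277, 8209), (7278, 6283), (7279, 6278), (7280, 6279), (7281, 8213), (7282, 8214), (7283, 8208), (7284, 6281), (7285, 8218), (7286, 6292), (7287, 8210), (7288, 6285), (7289, 8222), (7290, 7722), (7291, 7291), (7292, 6287), (7293, 6288), (7294,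 7294), (7295, 6291)]
    ⟨e3 q7232 (flp_f L156277) q7943, e3 q7233 L149879 q6310, e3 q7234 L149887 q6348, e3 q7235 L149891 q6791, e3 q7236 (flp_f L156440) q7955, e3 q7237 L149916 q6332, e3 q7238 L149925 q6364, e3 q7239 (flp_f L156448) q7956, e3 q7240 L149952 q6255, e3 q7241 (flp_f L158437) q8152, e3 q7242 (flp_f L158450) q8153, e3 q7243 (flp_f L155163) q7843, e3 q7244 L158499 q8160, e3 q7245 (flp_f L155184) q7845, e3 q7246 L150000 q6259, e3 q7247 L150012 q6260, e3 q7248 (flp_f L158524) q8163, e3 q7249 (flp_f L158536) q8164, e3 q7250 (flp_f L155247) q7851, e3 q7251 L158608 q8172, e3 q7252 (flp_f L155267) q7853, e3 q7253 (flp_f L150060) q6262, e3 q7254 (flp_f L158642) q8175, e3 q7255 (flp_f L155297) q7856, e3 q7256 L150094 q6266, e3 q7257 (flp_f L155635) q7890, e3 q7258 L150113 q6268, e3 q7259 (flp_f L158198) q8130, e3 q7260 L158721 q8184, e3 q7261 (flp_f L158672) q8178, e3 q7262 (flp_f L150141) q6267, e3 q7263 (flp_f L158755) q8187, e3 q7264 (flp_f L158689) q8180, e3 q7265 (flp_f L155392)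 q7865, e3 q7266 L158798 q8192, e3 q7267 (flp_f L155410) q7867, e3 q7268 L158818 q8195, e3 q7269 (flp_f L150199) q6270, e3 q7270 (flp_f L158852) q8199, e3 q7271 (flp_f L155440) q7871, e3 q7272 (flp_f L155702) q7895, e3 q7273 L150235 q6273, e3 q7274 (flp_f L158882) q8203, e3 q7275 L158898 q8205, e3 q7276 (flp_f L150252) q6275, e3 q7277 (flp_f L158943) q8209, e3 q7278 L150284 q6283, e3 q7279 L150293 q6278, e3 q7280 (flp_f L150297) q6279, e3 q7281 (flp_f L158983) q8213, e3 q7282 (flp_f L158996) q8214, e3 q7283 (flp_f L158933) q8208, e3 q7284 L150338 q6281, e3 q7285 (flp_f L159030) q8218, e3 q7286 L150358 q6292, e3 q7287 (flp_f L158954) q8210, e3 q7288 L150384 q6285, e3 q7289 (flp_f L159074) q8222, e3 q7290 (flp_f L154218) q7722, e3 q7291 L150412 q7291, e3 q7292 L150418 q6287, e3 q7293 L150429 q6288, e3 q7294 L150438 q7294, e3 q7295 L150448 q6291, trivial⟩ (by decide +kernel)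

theorem ce_f_114 : ∀ r, r < 64 → sm gf (Qf (7296 + r)) = Qf (tab Gen.f (7296 + r)) :=
  edges_tab (sm gf) Qf (tab Gen.f) 7296 [(7296, 7296), (7297, 6295), (7298, 6299), (7299, 7858), (7300, 7903), (7301, 8227), (7302, 7894), (7303, 7872), (7304, 7896), (7305, 7917), (7306, 7898), (7307, 6304), (7308, 8235), (7309, 7891), (7310, 6313), (7311, 7849), (7312, 8140), (7313, 7892), (7314, 8149), (7315, 6312), (7316, 8241), (7317, 7983), (7318, 7910), (7319, 6315), (7320, 8244), (7321, 7913), (7322, 6318), (7323, 8247), (7324, 7916), (7325, 7897), (7326, 6322), (7327, 8251), (7328, 6325), (7329, 6702), (7330, 6327), (7331, 8145), (7332, 8151), (7333, 7928), (7334, 7929), (7335, 8101), (7336, 6338), (7337, 7941), (7338, 7934), (7339, 7935), (7340, 7952), (7341, 7937), (7342, 6344), (7343, 7932), (7344, 7933), (7345, 8150), (7346, 6350), (7347, 8050), (7348, 7947), (7349, 8081), (7350, 7949), (7351, 6356), (7352, 8266), (7353, 8098), (7354, 7936), (7355, 6360), (7356, 6796), (7357, 7957), (7358,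 6798), (7359, 7695)]
    ⟨e3 q7296 L150458 q7296, e3 q7297 L150469 q6295, e3 q7298 L150479 q6299, e3 q7299 (flp_f L155322) q7858, e3 q7300 (flp_f L155795) q7903, e3 q7301 (flp_f L159123) q8227, e3 q7302 (flp_f L155682) q7894, e3 q7303 (flp_f L155454) q7872, e3 q7304 (flp_f L155711) q7896, e3 q7305 (flp_f L155955) q7917, e3 q7306 (flp_f L155733) q7898, e3 q7307 L150565 q6304, e3 q7308 (flp_f L159202) q8235, e3 q7309 (flp_f L155652) q7891, e3 q7310 L150590 q6313, e3 q7311 (flp_f L155233) q7849, e3 q7312 (flp_f L158312) q8140, e3 q7313 (flp_f L155665) q7892, e3 q7314 (flp_f L158407) q8149, e3 q7315 L150638 q6312, e3 q7316 (flp_f L159257) q8241, e3 q7317 (flp_f L156704) q7983, e3 q7318 (flp_f L155877) q7910, e3 q7319 (flp_f L150671) q6315, e3 q7320 (flp_f L159287) q8244, e3 q7321 (flp_f L155907) q7913, e3 q7322 L150694 q6318, e3 q7323 (flp_f L159307) q8247, e3 q7324 (flp_f L155939) q7916, e3 q7325 (flp_f L155723) q7897, e3 q7326 L150722 q6322, e3 q7327 (flp_f L159334) q8251, e3 q7328 L150744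 q6325, e3 q7329 L150757 q6702, e3 q7330 L150767 q6327, e3 q7331 (flp_f L158364) q8145, e3 q7332 (flp_f L158425) q8151, e3 q7333 (flp_f L156083) q7928, e3 q7334 (flp_f L156090) q7929, e3 q7335 (flp_f L157872) q8101, e3 q7336 L150817 q6338, e3 q7337 (flp_f L156249) q7941, e3 q7338 (flp_f L156159) q7934, e3 q7339 (flp_f L156171) q7935, e3 q7340 (flp_f L156397) q7952, e3 q7341 (flp_f L156195) q7937, e3 q7342 L150875 q6344, e3 q7343 (flp_f L156130) q7932, e3 q7344 (flp_f L156144) q7933, e3 q7345 (flp_f L158413) q8150, e3 q7346 L150911 q6350, e3 q7347 (flp_f L157319) q8050, e3 q7348 (flp_f L156329) q7947, e3 q7349 (flp_f L157651) q8081, e3 q7350 (flp_f L156351) q7949, e3 q7351 L150958 q6356, e3 q7352 (flp_f L159472) q8266, e3 q7353 (flp_f L157839) q8098, e3 q7354 (flp_f L156185) q7936, e3 q7355 L150981 q6360, e3 q7356 L150999 q6796, e3 q7357 (flp_f L156459) q7957, e3 q7358 L151010 q6798, e3 q7359 (flp_f L153994) q7695, trivial⟩ (by decide +kernel)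

theorem ce_f_115 : ∀ r, r < 64 → sm gf (Qf (7360 + r)) = Qf (tab Gen.f (7360 + r)) :=
  edges_tab (sm gf) Qf (tab Gen.f) 7360 [(7360, 6800), (7361, 6423), (7362, 6802), (7363, 6805), (7364, 7992), (7365, 8056), (7366, 8276), (7367, 6433), (7368, 8279), (7369, 6375), (7370, 8282), (7371, 6809), (7372, 6378), (7373, 8285), (7374, 6381), (7375, 8287), (7376, 8288), (7377, 6383), (7378, 6392), (7379, 7088), (7380, 7380), (7381, 6387), (7382, 6388), (7383, 7383), (7384, 6391), (7385, 7385), (7386, 6395), (7387, 6425), (7388, 6478), (7389, 6400), (7390, 8299), (7391, 6436), (7392, 6403), (7393, 8301), (7394, 6406), (7395, 6412), (7396, 8303), (7397, 6416), (7398, 6417), (7399, 8267), (7400, 7666), (7401, 8304), (7402, 7962), (7403, 8313), (7404, 7964), (7405, 6419), (7406, 8317), (7407, 7967), (7408, 8320), (7409, 8272), (7410, 6424), (7411, 8298), (7412, 7976), (7413, 8325), (7414, 7978), (7415, 8328), (7416, 6427), (7417, 8332), (7418, 7982), (7419, 7909), (7420, 6430), (7421, 8336), (7422,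 8337), (7423, 6432)]
    ⟨e3 q7360 L151034 q6800, e3 q7361 L151038 q6423, e3 q7362 L151048 q6802, e3 q7363 L151054 q6805, e3 q7364 (flp_f L156802) q7992, e3 q7365 (flp_f L157387) q8056, e3 q7366 L159560 q8276, e3 q7367 L151090 q6433, e3 q7368 L159584 q8279, e3 q7369 (flp_f L151098) q6375, e3 q7370 (flp_f L159616) q8282, e3 q7371 L151114 q6809, e3 q7372 L151124 q6378, e3 q7373 (flp_f L159638) q8285, e3 q7374 (flp_f L151132) q6381, e3 q7375 (flp_f L159652) q8287, e3 q7376 (flp_f L159663) q8288, e3 q7377 L151162 q6383, e3 q7378 L151169 q6392, e3 q7379 L151184 q7088, e3 q7380 L151193 q7380, e3 q7381 L151199 q6387, e3 q7382 L151212 q6388, e3 q7383 L151221 q7383, e3 q7384 L151229 q6391, e3 q7385 L151239 q7385, e3 q7386 L151248 q6395, e3 q7387 L151262 q6425, e3 q7388 L151270 q6478, e3 q7389 (flp_f L151274) q6400, e3 q7390 (flp_f L159792) q8299, e3 q7391 L151292 q6436, e3 q7392 L151303 q6403, e3 q7393 (flp_f L159808) q8301, e3 q7394 L151319 q6406, e3 q7395 L151327 q6412, e3 q7396 (flp_f L159817)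 q8303, e3 q7397 L151336 q6416, e3 q7398 L151346 q6417, e3 q7399 (flp_f L159483) q8267, e3 q7400 (flp_f L153737) q7666, e3 q7401 (flp_f L159826) q8304, e3 q7402 (flp_f L156504) q7962, e3 q7403 L159898 q8313, e3 q7404 (flp_f L156518) q7964, e3 q7405 (flp_f L151392) q6419, e3 q7406 (flp_f L159924) q8317, e3 q7407 (flp_f L156540) q7967, e3 q7408 L159942 q8320, e3 q7409 (flp_f L159537) q8272, e3 q7410 (flp_f L151430) q6424, e3 q7411 (flp_f L159781) q8298, e3 q7412 (flp_f L156640) q7976, e3 q7413 L159987 q8325, e3 q7414 (flp_f L156666) q7978, e3 q7415 L160015 q8328, e3 q7416 (flp_f L151478) q6427, e3 q7417 (flp_f L160043) q8332, e3 q7418 (flp_f L156689) q7982, e3 q7419 L155867 q7909, e3 q7420 L151510 q6430, e3 q7421 (flp_f L160069) q8336, e3 q7422 L160073 q8337, e3 q7423 (flp_f L151528) q6432, trivial⟩ (by decide +kernel)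

theorem ce_f_116 : ∀ r, r < 64 → sm gf (Qf (7424 + r)) = Qf (tab Gen.f (7424 + r)) :=
  edges_tab (sm gf) Qf (tab Gen.f) 7424 [(7424, 8341), (7425, 8278), (7426, 6444), (7427, 6435), (7428, 8345), (7429, 8347), (7430, 8001), (7431, 8350), (7432, 6438), (7433, 8354), (7434, 8005), (7435, 6440), (7436, 8359), (7437, 8360), (7438, 8340), (7439, 6442), (7440, 8364), (7441, 8012), (7442, 8344), (7443, 6446), (7444, 8368), (7445, 6447), (7446, 8372), (7447, 8373), (7448, 6457), (7449, 6449), (7450, 8377), (7451, 7451), (7452, 6461), (7453, 6453), (7454, 7772), (7455, 8371), (7456, 6455), (7457, 6456), (7458, 8383), (7459, 8384), (7460, 8376), (7461, 6459), (7462, 8388), (7463, 7634), (7464, 8380), (7465, 6463), (7466, 8391), (7467, 7785), (7468, 7468), (7469, 6468), (7470, 6469), (7471, 7471), (7472, 6472), (7473, 6476), (7474, 8064), (7475, 8044), (7476, 6480), (7477, 8398), (7478, 8047), (7479, 6483), (7480, 8400), (7481, 7946), (7482, 6487), (7483, 6499), (7484, 6490), (7485, 6491), (7486,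 8404), (7487, 8063)]
    ⟨e3 q7424 (flp_f L160113) q8341, e3 q7425 (flp_f L159582) q8278, e3 q7426 L151558 q6444, e3 q7427 L151566 q6435, e3 q7428 (flp_f L160145) q8345, e3 q7429 L160157 q8347, e3 q7430 (flp_f L156888) q8001, e3 q7431 L160181 q8350, e3 q7432 (flp_f L151604) q6438, e3 q7433 (flp_f L160225) q8354, e3 q7434 (flp_f L156917) q8005, e3 q7435 (flp_f L151628) q6440, e3 q7436 (flp_f L160263) q8359, e3 q7437 (flp_f L160273) q8360, e3 q7438 (flp_f L160105) q8340, e3 q7439 L151652 q6442, e3 q7440 (flp_f L160293) q8364, e3 q7441 (flp_f L156957) q8012, e3 q7442 (flp_f L160137) q8344, e3 q7443 L151674 q6446, e3 q7444 (flp_f L160309) q8368, e3 q7445 (flp_f L151682) q6447, e3 q7446 (flp_f L160344) q8372, e3 q7447 (flp_f L160356) q8373, e3 q7448 L151713 q6457, e3 q7449 L151722 q6449, e3 q7450 (flp_f L160392) q8377, e3 q7451 L151744 q7451, e3 q7452 L151756 q6461, e3 q7453 L151767 q6453, e3 q7454 (flp_f L154565) q7772, e3 q7455 (flp_f L160334) q8371, e3 q7456 L151791 q6455, e3 q7457 L151803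 q6456, e3 q7458 (flp_f L160455) q8383, e3 q7459 (flp_f L160463) q8384, e3 q7460 (flp_f L160379) q8376, e3 q7461 L151833 q6459, e3 q7462 (flp_f L160493) q8388, e3 q7463 (flp_f L153468) q7634, e3 q7464 (flp_f L160425) q8380, e3 q7465 L151863 q6463, e3 q7466 (flp_f L160517) q8391, e3 q7467 (flp_f L154659) q7785, e3 q7468 L151883 q7468, e3 q7469 L151894 q6468, e3 q7470 L151904 q6469, e3 q7471 L151916 q7471, e3 q7472 L151927 q6472, e3 q7473 L151943 q6476, e3 q7474 (flp_f L157486) q8064, e3 q7475 (flp_f L157246) q8044, e3 q7476 (flp_f L151974) q6480, e3 q7477 (flp_f L160593) q8398, e3 q7478 (flp_f L157280) q8047, e3 q7479 L152005 q6483, e3 q7480 (flp_f L160611) q8400, e3 q7481 (flp_f L156319) q7946, e3 q7482 L152031 q6487, e3 q7483 L152043 q6499, e3 q7484 L152053 q6490, e3 q7485 (flp_f L152055) q6491, e3 q7486 (flp_f L160650) q8404, e3 q7487 (flp_f L157473) q8063, trivial⟩ (by decide +kernel)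

theorem ce_f_117 : ∀ r, r < 64 → sm gf (Qf (7488 + r)) = Qf (tab Gen.f (7488 + r)) :=
  edges_tab (sm gf) Qf (tab Gen.f) 7488 [(7488, 6810), (7489, 6494), (7490, 8407), (7491, 6838), (7492, 6498), (7493, 8410), (7494, 8403), (7495, 6501), (7496, 7908), (7497, 6504), (7498, 7863), (7499, 8067), (7500, 8078), (7501, 8094), (7502, 6513), (7503, 8415), (7504, 7948), (7505, 6526), (7506, 6519), (7507, 8416), (7508, 6522), (7509, 8418), (7510, 6850), (7511, 6525), (7512, 7945), (7513, 8420), (7514, 8105), (7515, 6538), (7516, 7575), (7517, 6860), (7518, 7576), (7519, 8423), (7520, 8109), (7521, 8428), (7522, 8111), (7523, 6540), (7524, 8432), (7525, 8113), (7526, 7688), (7527, 6543), (7528, 8435), (7529, 8118), (7530, 8437), (7531, 6548), (7532, 8441), (7533, 7533), (7534, 6550), (7535, 8445), (7536, 8446), (7537, 6816), (7538, 6552), (7539, 8450), (7540, 7540), (7541, 7554), (7542, 6862), (7543, 6555), (7544, 6556), (7545, 8455), (7546, 8456), (7547, 6867), (7548, 6559), (7549, 8460), (7550,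 8463), (7551, 6871)]
    ⟨e3 q7488 L152089 q6810, e3 q7489 L152097 q6494, e3 q7490 (flp_f L160676) q8407, e3 q7491 L152115 q6838, e3 q7492 L152125 q6498, e3 q7493 (flp_f L160700) q8410, e3 q7494 (flp_f L160638) q8403, e3 q7495 L152145 q6501, e3 q7496 (flp_f L155851) q7908, e3 q7497 L152162 q6504, e3 q7498 (flp_f L155374) q7863, e3 q7499 (flp_f L157512) q8067, e3 q7500 (flp_f L157609) q8078, e3 q7501 (flp_f L157803) q8094, e3 q7502 L152205 q6513, e3 q7503 (flp_f L160739) q8415, e3 q7504 (flp_f L156339) q7948, e3 q7505 L152226 q6526, e3 q7506 L152236 q6519, e3 q7507 (flp_f L160748) q8416, e3 q7508 L152250 q6522, e3 q7509 (flp_f L160762) q8418, e3 q7510 L152264 q6850, e3 q7511 L152270 q6525, e3 q7512 (flp_f L156299) q7945, e3 q7513 L160774 q8420, e3 q7514 (flp_f L157916) q8105, e3 q7515 L152307 q6538, e3 q7516 (flp_f L152847) q7575, e3 q7517 L152319 q6860, e3 q7518 (flp_f L152860) q7576, e3 q7519 (flp_f L160808) q8423, e3 q7520 (flp_f L157943) q8109, e3 q7521 L160847 q8428, e3 q7522 (flp_f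 L157964) q8111, e3 q7523 (flp_f L152369) q6540, e3 q7524 (flp_f L160893) q8432, e3 q7525 (flp_f L157982) q8113, e3 q7526 L153936 q7688, e3 q7527 L152408 q6543, e3 q7528 (flp_f L160916) q8435, e3 q7529 (flp_f L158034) q8118, e3 q7530 L160923 q8437, e3 q7531 (flp_f L152434) q6548, e3 q7532 (flp_f L160970) q8441, e3 q7533 L152461 q7533, e3 q7534 (flp_f L152465) q6550, e3 q7535 (flp_f L161007) q8445, e3 q7536 (flp_f L161018) q8446, e3 q7537 L152498 q6816, e3 q7538 L152507 q6552, e3 q7539 (flp_f L161055) q8450, e3 q7540 L152524 q7540, e3 q7541 (flp_f L152651) q7554, e3 q7542 L152543 q6862, e3 q7543 L152554 q6555, e3 q7544 L152566 q6556, e3 q7545 (flp_f L161101) q8455, e3 q7546 (flp_f L161110) q8456, e3 q7547 L152589 q6867, e3 q7548 L152599 q6559, e3 q7549 (flp_f L161142) q8460, e3 q7550 L161161 q8463, e3 q7551 L152621 q6871, trivial⟩ (by decide +kernel)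

theorem ce_f_118 : ∀ r, r < 64 → sm gf (Qf (7552 + r)) = Qf (tab Gen.f (7552 + r)) :=
  edges_tab (sm gf) Qf (tab Gen.f) 7552 [(7552, 6563), (7553, 7674), (7554, 7541), (7555, 6575), (7556, 6565), (7557, 6566), (7558, 8467), (7559, 8468), (7560, 6580), (7561, 6569), (7562, 8472), (7563, 7676), (7564, 6584), (7565, 6573), (7566, 8475), (7567, 7813), (7568, 8466), (7569, 6578), (7570, 6579), (7571, 8479), (7572, 8480), (7573, 8471), (7574, 6582), (7575, 7516), (7576, 7518), (7577, 7629), (7578, 7827), (7579, 7579), (7580, 6591), (7581, 6592), (7582, 7582), (7583, 6757), (7584, 6596), (7585, 8488), (7586, 6820), (7587, 6600), (7588, 8491), (7589, 6841), (7590, 6603), (7591, 7920), (7592, 7875), (7593, 7882), (7594, 6780), (7595, 6613), (7596, 8496), (7597, 6794), (7598, 6616), (7599, 8100), (7600, 7600), (7601, 7624), (7602, 7640), (7603, 6623), (7604, 8498), (7605, 7605), (7606, 8500), (7607, 6625), (7608, 6692), (7609, 6627), (7610, 8505), (7611, 6688), (7612, 6630), (7613, 8509), (7614,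 6636), (7615, 7615)]
    ⟨e3 q7552 L152631 q6563, e3 q7553 (flp_f L153818) q7674, e3 q7554 L152651 q7541, e3 q7555 L152666 q6575, e3 q7556 L152677 q6565, e3 q7557 L152690 q6566, e3 q7558 (flp_f L161215) q8467, e3 q7559 (flp_f L161224) q8468, e3 q7560 L152718 q6580, e3 q7561 L152728 q6569, e3 q7562 (flp_f L161259) q8472, e3 q7563 (flp_f L153837) q7676, e3 q7564 L152755 q6584, e3 q7565 L152766 q6573, e3 q7566 (flp_f L161286) q8475, e3 q7567 (flp_f L154892) q7813, e3 q7568 (flp_f L161202) q8466, e3 q7569 L152803 q6578, e3 q7570 L152810 q6579, e3 q7571 (flp_f L161320) q8479, e3 q7572 (flp_f L161329) q8480, e3 q7573 (flp_f L161250) q8471, e3 q7574 L152836 q6582, e3 q7575 L152847 q7516, e3 q7576 L152860 q7518, e3 q7577 (flp_f L153409) q7629, e3 q7578 (flp_f L154987) q7827, e3 q7579 L152879 q7579, e3 q7580 L152892 q6591, e3 q7581 L152905 q6592, e3 q7582 L152920 q7582, e3 q7583 L152939 q6757, e3 q7584 L152948 q6596, e3 q7585 (flp_f L161406) q8488, e3 q7586 L152966 q6820, e3 q7587 L152975 q6600,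 e3 q7588 (flp_f L161432) q8491, e3 q7589 L152992 q6841, e3 q7590 L153001 q6603, e3 q7591 (flp_f L155979) q7920, e3 q7592 (flp_f L155484) q7875, e3 q7593 (flp_f L155552) q7882, e3 q7594 L153036 q6780, e3 q7595 L153046 q6613, e3 q7596 (flp_f L161472) q8496, e3 q7597 L153062 q6794, e3 q7598 L153071 q6616, e3 q7599 (flp_f L157865) q8100, e3 q7600 L153097 q7600, e3 q7601 (flp_f L153347) q7624, e3 q7602 (flp_f L153527) q7640, e3 q7603 (flp_f L153119) q6623, e3 q7604 (flp_f L161493) q8498, e3 q7605 L153140 q7605, e3 q7606 L161507 q8500, e3 q7607 (flp_f L153154) q6625, e3 q7608 L153174 q6692, e3 q7609 (flp_f L153176) q6627, e3 q7610 (flp_f L161582) q8505, e3 q7611 L153210 q6688, e3 q7612 (flp_f L153212) q6630, e3 q7613 (flp_f L161640) q8509, e3 q7614 L153243 q6636, e3 q7615 L153252 q7615, trivial⟩ (by decide +kernel)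

theorem ce_f_119 : ∀ r, r < 64 → sm gf (Qf (7616 + r)) = Qf (tab Gen.f (7616 + r)) :=
  edges_tab (sm gf) Qf (tab Gen.f) 7616 [(7616, 8508), (7617, 6634), (7618, 6635), (7619, 8511), (7620, 8292), (7621, 6678), (7622, 6638), (7623, 8515), (7624, 7601), (7625, 6674), (7626, 7626), (7627, 7627), (7628, 7628), (7629, 7577), (7630, 7630), (7631, 6655), (7632, 8518), (7633, 7633), (7634, 7463), (7635, 6832), (7636, 8520), (7637, 6666), (7638, 8523), (7639, 7639), (7640, 7602), (7641, 6669), (7642, 8526), (7643, 6671), (7644, 8530), (7645, 8531), (7646, 8514), (7647, 6673), (7648, 8221), (7649, 7649), (7650, 8293), (7651, 6677), (7652, 8535), (7653, 7653), (7654, 6683), (7655, 6680), (7656, 8536), (7657, 7657), (7658, 8504), (7659, 6686), (7660, 6687), (7661, 8537), (7662, 8110), (7663, 8502), (7664, 6690), (7665, 8541), (7666, 7400), (7667, 6694), (7668, 7861), (7669, 7669), (7670, 6704), (7671, 8544), (7672, 6883), (7673, 7673), (7674, 7553), (7675, 6870), (7676, 7563), (7677, 6713), (7678,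 8548), (7679, 7679)]
    ⟨e3 q7616 (flp_f L161627) q8508, e3 q7617 L153275 q6634, e3 q7618 L153288 q6635, e3 q7619 (flp_f L161663) q8511, e3 q7620 (flp_f L159705) q8292, e3 q7621 L153315 q6678, e3 q7622 L153328 q6638, e3 q7623 (flp_f L161706) q8515, e3 q7624 L153347 q7601, e3 q7625 L153357 q6674, e3 q7626 L153369 q7626, e3 q7627 L153384 q7627, e3 q7628 L153396 q7628, e3 q7629 L153409 q7577, e3 q7630 L153421 q7630, e3 q7631 L153434 q6655, e3 q7632 (flp_f L161745) q8518, e3 q7633 L153457 q7633, e3 q7634 L153468 q7463, e3 q7635 L153478 q6832, e3 q7636 L161764 q8520, e3 q7637 (flp_f L153490) q6666, e3 q7638 (flp_f L161792) q8523, e3 q7639 L153513 q7639, e3 q7640 L153527 q7602, e3 q7641 L153534 q6669, e3 q7642 (flp_f L161824) q8526, e3 q7643 (flp_f L153543) q6671, e3 q7644 (flp_f L161854) q8530, e3 q7645 (flp_f L161865) q8531, e3 q7646 (flp_f L161697) q8514, e3 q7647 L153572 q6673, e3 q7648 (flp_f L159062) q8221, e3 q7649 L153587 q7649, e3 q7650 (flp_f L159718) q8293, e3 q7651 L153610 q6677,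 e3 q7652 (flp_f L161890) q8535, e3 q7653 L153625 q7653, e3 q7654 L153638 q6683, e3 q7655 L153648 q6680, e3 q7656 (flp_f L161900) q8536, e3 q7657 L153667 q7657, e3 q7658 (flp_f L161568) q8504, e3 q7659 L153686 q6686, e3 q7660 L153694 q6687, e3 q7661 (flp_f L161910) q8537, e3 q7662 L157956 q8110, e3 q7663 (flp_f L161536) q8502, e3 q7664 L153723 q6690, e3 q7665 (flp_f L161938) q8541, e3 q7666 L153737 q7400, e3 q7667 L153741 q6694, e3 q7668 L155354 q7861, e3 q7669 L153753 q7669, e3 q7670 (flp_f L153762) q6704, e3 q7671 (flp_f L161967) q8544, e3 q7672 L153790 q6883, e3 q7673 L153806 q7673, e3 q7674 L153818 q7553, e3 q7675 L153827 q6870, e3 q7676 L153837 q7563, e3 q7677 L153846 q6713, e3 q7678 (flp_f L162008) q8548, e3 q7679 L153860 q7679, trivial⟩ (by decide +kernel)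

theorem ce_f_120 : ∀ r, r < 64 → sm gf (Qf (7680 + r)) = Qf (tab Gen.f (7680 + r)) :=
  edges_tab (sm gf) Qf (tab Gen.f) 7680 [(7680, 6728), (7681, 6718), (7682, 6719), (7683, 8552), (7684, 8553), (7685, 6733), (7686, 6722), (7687, 8556), (7688, 7526), (7689, 6726), (7690, 7879), (7691, 8551), (7692, 6731), (7693, 8112), (7694, 8555), (7695, 7359), (7696, 8123), (7697, 8562), (7698, 8124), (7699, 7986), (7700, 7991), (7701, 8125), (7702, 8055), (7703, 8126), (7704, 7972), (7705, 8131), (7706, 8573), (7707, 6748), (7708, 8576), (7709, 8134), (7710, 6751), (7711, 8579), (7712, 6753), (7713, 8583), (7714, 8584), (7715, 8440), (7716, 6755), (7717, 8588), (7718, 6766), (7719, 8487), (7720, 6759), (7721, 8592), (7722, 7290), (7723, 7723), (7724, 6761), (7725, 6762), (7726, 7726), (7727, 6765), (7728, 7728), (7729, 6769), (7730, 7988), (7731, 8053), (7732, 8057), (7733, 7974), (7734, 8141), (7735, 8043), (7736, 8142), (7737, 6779), (7738, 8604), (7739, 8495), (7740, 6782), (7741, 8253), (7742,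 8146), (7743, 8609)]
    ⟨e3 q7680 L153871 q6728, e3 q7681 L153881 q6718, e3 q7682 L153889 q6719, e3 q7683 (flp_f L162053) q8552, e3 q7684 (flp_f L162062) q8553, e3 q7685 L153913 q6733, e3 q7686 L153920 q6722, e3 q7687 (flp_f L162087) q8556, e3 q7688 (flp_f L153936) q7526, e3 q7689 L153941 q6726, e3 q7690 (flp_f L155523) q7879, e3 q7691 (flp_f L162041) q8551, e3 q7692 L153970 q6731, e3 q7693 (flp_f L157975) q8112, e3 q7694 (flp_f L162076) q8555, e3 q7695 L153994 q7359, e3 q7696 (flp_f L158105) q8123, e3 q7697 L162136 q8562, e3 q7698 (flp_f L158122) q8124, e3 q7699 L156733 q7986, e3 q7700 (flp_f L156792) q7991, e3 q7701 (flp_f L158134) q8125, e3 q7702 (flp_f L157379) q8055, e3 q7703 (flp_f L158146) q8126, e3 q7704 (flp_f L156607) q7972, e3 q7705 (flp_f L158210) q8131, e3 q7706 L162219 q8573, e3 q7707 (flp_f L154078) q6748, e3 q7708 (flp_f L162251) q8576, e3 q7709 (flp_f L158240) q8134, e3 q7710 L154106 q6751, e3 q7711 (flp_f L162273) q8579, e3 q7712 (flp_f L154116) q6753, e3 q7713 (flp_f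 L162304) q8583, e3 q7714 (flp_f L162314) q8584, e3 q7715 (flp_f L160960) q8440, e3 q7716 L154159 q6755, e3 q7717 (flp_f L162351) q8588, e3 q7718 L154176 q6766, e3 q7719 (flp_f L161395) q8487, e3 q7720 L154203 q6759, e3 q7721 (flp_f L162391) q8592, e3 q7722 L154218 q7290, e3 q7723 L154227 q7723, e3 q7724 L154235 q6761, e3 q7725 L154249 q6762, e3 q7726 L154260 q7726, e3 q7727 L154270 q6765, e3 q7728 L154281 q7728, e3 q7729 L154291 q6769, e3 q7730 (flp_f L156752) q7988, e3 q7731 (flp_f L157350) q8053, e3 q7732 (flp_f L157401) q8057, e3 q7733 (flp_f L156622) q7974, e3 q7734 (flp_f L158318) q8141, e3 q7735 (flp_f L157230) q8043, e3 q7736 (flp_f L158324) q8142, e3 q7737 L154348 q6779, e3 q7738 (flp_f L162486) q8604, e3 q7739 (flp_f L161463) q8495, e3 q7740 L154370 q6782, e3 q7741 (flp_f L159361) q8253, e3 q7742 (flp_f L158373) q8146, e3 q7743 L162511 q8609, trivial⟩ (by decide +kernel)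

theorem ce_f_121 : ∀ r, r < 64 → sm gf (Qf (7744 + r)) = Qf (tab Gen.f (7744 + r)) :=
  edges_tab (sm gf) Qf (tab Gen.f) 7744 [(7744, 8084), (7745, 8086), (7746, 8077), (7747, 8614), (7748, 6793), (7749, 8262), (7750, 6797), (7751, 8616), (7752, 8269), (7753, 6799), (7754, 8620), (7755, 8271), (7756, 8622), (7757, 6801), (7758, 8625), (7759, 8273), (7760, 6804), (7761, 8628), (7762, 6806), (7763, 8632), (7764, 8633), (7765, 8353), (7766, 6808), (7767, 8637), (7768, 8284), (7769, 8406), (7770, 6812), (7771, 8641), (7772, 7454), (7773, 8444), (7774, 6814), (7775, 6815), (7776, 8645), (7777, 8646), (7778, 8449), (7779, 6818), (7780, 8650), (7781, 8519), (7782, 8490), (7783, 6822), (7784, 8654), (7785, 7467), (7786, 7786), (7787, 6827), (7788, 6828), (7789, 7789), (7790, 6831), (7791, 7791), (7792, 6835), (7793, 7926), (7794, 6837), (7795, 8663), (7796, 8409), (7797, 6840), (7798, 8665), (7799, 7922), (7800, 6843), (7801, 7927), (7802, 8668), (7803, 6847), (7804, 6849), (7805, 7954), (7806,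 6852), (7807, 7944)]
    ⟨e3 q7744 (flp_f L157675) q8084, e3 q7745 (flp_f L157704) q8086, e3 q7746 (flp_f L157594) q8077, e3 q7747 L162539 q8614, e3 q7748 L154413 q6793, e3 q7749 (flp_f L159441) q8262, e3 q7750 L154424 q6797, e3 q7751 L162552 q8616, e3 q7752 (flp_f L159507) q8269, e3 q7753 (flp_f L154441) q6799, e3 q7754 (flp_f L162590) q8620, e3 q7755 (flp_f L159525) q8271, e3 q7756 L162600 q8622, e3 q7757 (flp_f L154466) q6801, e3 q7758 (flp_f L162619) q8625, e3 q7759 (flp_f L159543) q8273, e3 q7760 L154489 q6804, e3 q7761 (flp_f L162637) q8628, e3 q7762 (flp_f L154499) q6806, e3 q7763 (flp_f L162664) q8632, e3 q7764 (flp_f L162672) q8633, e3 q7765 (flp_f L160217) q8353, e3 q7766 L154527 q6808, e3 q7767 (flp_f L162696) q8637, e3 q7768 (flp_f L159626) q8284, e3 q7769 (flp_f L160668) q8406, e3 q7770 L154551 q6812, e3 q7771 (flp_f L162714) q8641, e3 q7772 L154565 q7454, e3 q7773 (flp_f L160997) q8444, e3 q7774 L154577 q6814, e3 q7775 L154586 q6815, e3 q7776 (flp_f L162745) q8645, e3 q7777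 (flp_f L162751) q8646, e3 q7778 (flp_f L161044) q8449, e3 q7779 L154619 q6818, e3 q7780 (flp_f L162782) q8650, e3 q7781 (flp_f L161759) q8519, e3 q7782 (flp_f L161423) q8490, e3 q7783 L154647 q6822, e3 q7784 (flp_f L162806) q8654, e3 q7785 L154659 q7467, e3 q7786 L154667 q7786, e3 q7787 L154679 q6827, e3 q7788 L154691 q6828, e3 q7789 L154703 q7789, e3 q7790 L154713 q6831, e3 q7791 L154724 q7791, e3 q7792 L154732 q6835, e3 q7793 (flp_f L156059) q7926, e3 q7794 L154750 q6837, e3 q7795 (flp_f L162912) q8663, e3 q7796 (flp_f L160692) q8409, e3 q7797 L154771 q6840, e3 q7798 (flp_f L162929) q8665, e3 q7799 (flp_f L156005) q7922, e3 q7800 L154792 q6843, e3 q7801 (flp_f L156068) q7927, e3 q7802 (flp_f L162947) q8668, e3 q7803 L154815 q6847, e3 q7804 L154828 q6849, e3 q7805 (flp_f L156421) q7954, e3 q7806 L154841 q6852, e3 q7807 (flp_f L156285) q7944, trivial⟩ (by decide +kernel)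

theorem ce_f_122 : ∀ r, r < 64 → sm gf (Qf (7808 + r)) = Qf (tab Gen.f (7808 + r)) :=
  edges_tab (sm gf) Qf (tab Gen.f) 7808 [(7808, 7951), (7809, 7930), (7810, 8431), (7811, 6859), (7812, 8672), (7813, 7567), (7814, 8454), (7815, 6865), (7816, 6866), (7817, 8676), (7818, 8677), (7819, 8459), (7820, 6869), (7821, 8682), (7822, 8547), (7823, 7837), (7824, 6873), (7825, 7825), (7826, 8686), (7827, 7578), (7828, 7828), (7829, 6878), (7830, 6879), (7831, 7831), (7832, 6882), (7833, 8545), (7834, 6891), (7835, 8034), (7836, 6901), (7837, 7823), (7838, 7838), (7839, 7839), (7840, 7840), (7841, 7841), (7842, 7842), (7843, 7243), (7844, 8693), (7845, 7245), (7846, 6923), (7847, 6924), (7848, 8696), (7849, 7311), (7850, 8697), (7851, 7250), (7852, 8707), (7853, 7252), (7854, 6926), (7855, 8710), (7856, 7255), (7857, 6930), (7858, 7299), (7859, 6932), (7860, 8712), (7861, 7668), (7862, 8714), (7863, 7498), (7864, 8716), (7865, 7265), (7866, 8725), (7867, 7267), (7868, 8728), (7869, 6934), (7870,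 8732), (7871, 7271)]
    ⟨e3 q7808 L156387 q7951, e3 q7809 L156104 q7930, e3 q7810 (flp_f L160883) q8431, e3 q7811 L154876 q6859, e3 q7812 (flp_f L162978) q8672, e3 q7813 L154892 q7567, e3 q7814 (flp_f L161089) q8454, e3 q7815 L154905 q6865, e3 q7816 L154910 q6866, e3 q7817 (flp_f L163003) q8676, e3 q7818 (flp_f L163010) q8677, e3 q7819 (flp_f L161134) q8459, e3 q7820 L154937 q6869, e3 q7821 (flp_f L163041) q8682, e3 q7822 (flp_f L162000) q8547, e3 q7823 (flp_f L155089) q7837, e3 q7824 L154963 q6873, e3 q7825 L154974 q7825, e3 q7826 (flp_f L163074) q8686, e3 q7827 L154987 q7578, e3 q7828 L154993 q7828, e3 q7829 L155002 q6878, e3 q7830 L155013 q6879, e3 q7831 L155024 q7831, e3 q7832 L155035 q6882, e3 q7833 (flp_f L161982) q8545, e3 q7834 L155058 q6891, e3 q7835 (flp_f L157133) q8034, e3 q7836 L155076 q6901, e3 q7837 L155089 q7823, e3 q7838 L155106 q7838, e3 q7839 L155115 q7839, e3 q7840 L155130 q7840, e3 q7841 L155139 q7841, e3 q7842 L155153 q7842, e3 q7843 L155163 q7243, e3 q7844 L163136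 q8693, e3 q7845 L155184 q7245, e3 q7846 L155192 q6923, e3 q7847 L155208 q6924, e3 q7848 (flp_f L163171) q8696, e3 q7849 L155233 q7311, e3 q7850 (flp_f L163189) q8697, e3 q7851 L155247 q7250, e3 q7852 L163295 q8707, e3 q7853 L155267 q7252, e3 q7854 (flp_f L155269) q6926, e3 q7855 (flp_f L163336) q8710, e3 q7856 L155297 q7255, e3 q7857 L155307 q6930, e3 q7858 L155322 q7299, e3 q7859 L155332 q6932, e3 q7860 (flp_f L163352) q8712, e3 q7861 (flp_f L155354) q7668, e3 q7862 (flp_f L163384) q8714, e3 q7863 L155374 q7498, e3 q7864 (flp_f L163407) q8716, e3 q7865 L155392 q7265, e3 q7866 L163505 q8725, e3 q7867 L155410 q7267, e3 q7868 L163537 q8728, e3 q7869 (flp_f L155418) q6934, e3 q7870 (flp_f L163585) q8732, e3 q7871 L155440 q7271, trivial⟩ (by decide +kernel)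

theorem ce_f_123 : ∀ r, r < 64 → sm gf (Qf (7872 + r)) = Qf (tab Gen.f (7872 + r)) :=
  edges_tab (sm gf) Qf (tab Gen.f) 7872 [(7872, 7303), (7873, 6937), (7874, 8736), (7875, 7592), (7876, 6941), (7877, 8741), (7878, 8742), (7879, 7690), (7880, 6943), (7881, 8660), (7882, 7593), (7883, 6947), (7884, 8747), (7885, 8137), (7886, 7886), (7887, 7887), (7888, 7888), (7889, 6957), (7890, 7257), (7891, 7309), (7892, 7313), (7893, 8749), (7894, 7302), (7895, 7272), (7896, 7304), (7897, 7325), (7898, 7306), (7899, 6962), (7900, 8758), (7901, 6967), (7902, 6968), (7903, 7300), (7904, 6970), (7905, 7220), (7906, 8760), (7907, 8761), (7908, 7496), (7909, 7419), (7910, 7318), (7911, 6972), (7912, 8769), (7913, 7321), (7914, 6975), (7915, 8772), (7916, 7324), (7917, 7305), (7918, 6979), (7919, 8775), (7920, 7591), (7921, 6983), (7922, 7799), (7923, 7228), (7924, 6991), (7925, 7227), (7926, 7793), (7927, 7801), (7928, 7333), (7929, 7334), (7930, 7809), (7931, 6999), (7932, 7343), (7933, 7344), (7934,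 7338), (7935, 7339)]
    ⟨e3 q7872 L155454 q7303, e3 q7873 L155466 q6937, e3 q7874 (flp_f L163625) q8736, e3 q7875 L155484 q7592, e3 q7876 (flp_f L155489) q6941, e3 q7877 (flp_f L163672) q8741, e3 q7878 (flp_f L163681) q8742, e3 q7879 L155523 q7690, e3 q7880 L155533 q6943, e3 q7881 (flp_f L162875) q8660, e3 q7882 L155552 q7593, e3 q7883 L155566 q6947, e3 q7884 (flp_f L163725) q8747, e3 q7885 (flp_f L158280) q8137, e3 q7886 L155594 q7886, e3 q7887 L155601 q7887, e3 q7888 L155612 q7888, e3 q7889 L155626 q6957, e3 q7890 L155635 q7257, e3 q7891 L155652 q7309, e3 q7892 L155665 q7313, e3 q7893 (flp_f L163745) q8749, e3 q7894 L155682 q7302, e3 q7895 L155702 q7272, e3 q7896 L155711 q7304, e3 q7897 L155723 q7325, e3 q7898 L155733 q7306, e3 q7899 L155746 q6962, e3 q7900 (flp_f L163864) q8758, e3 q7901 L155764 q6967, e3 q7902 L155782 q6968, e3 q7903 L155795 q7300, e3 q7904 L155803 q6970, e3 q7905 L155815 q7220, e3 q7906 (flp_f L163889) q8760, e3 q7907 (flp_f L163901) q8761, e3 q7908 L155851 q7496,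 e3 q7909 (flp_f L155867) q7419, e3 q7910 L155877 q7318, e3 q7911 (flp_f L155879) q6972, e3 q7912 (flp_f L164005) q8769, e3 q7913 L155907 q7321, e3 q7914 L155919 q6975, e3 q7915 (flp_f L164035) q8772, e3 q7916 L155939 q7324, e3 q7917 L155955 q7305, e3 q7918 L155965 q6979, e3 q7919 (flp_f L164077) q8775, e3 q7920 L155979 q7591, e3 q7921 L155992 q6983, e3 q7922 L156005 q7799, e3 q7923 L156023 q7228, e3 q7924 L156033 q6991, e3 q7925 L156049 q7227, e3 q7926 L156059 q7793, e3 q7927 L156068 q7801, e3 q7928 L156083 q7333, e3 q7929 L156090 q7334, e3 q7930 (flp_f L156104) q7809, e3 q7931 L156114 q6999, e3 q7932 L156130 q7343, e3 q7933 L156144 q7344, e3 q7934 L156159 q7338, e3 q7935 L156171 q7339, trivial⟩ (by decide +kernel)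

theorem ce_f_124 : ∀ r, r < 64 → sm gf (Qf (7936 + r)) = Qf (tab Gen.f (7936 + r)) :=
  edges_tab (sm gf) Qf (tab Gen.f) 7936 [(7936, 7354), (7937, 7341), (7938, 7005), (7939, 8788), (7940, 7011), (7941, 7337), (7942, 7221), (7943, 7232), (7944, 7807), (7945, 7512), (7946, 7481), (7947, 7348), (7948, 7504), (7949, 7350), (7950, 7018), (7951, 7808), (7952, 7340), (7953, 7022), (7954, 7805), (7955, 7236), (7956, 7239), (7957, 7357), (7958, 7035), (7959, 7036), (7960, 8797), (7961, 8798), (7962, 7402), (7963, 8806), (7964, 7404), (7965, 7038), (7966, 8810), (7967, 7407), (7968, 7968), (7969, 7043), (7970, 7045), (7971, 7210), (7972, 7704), (7973, 8812), (7974, 7733), (7975, 8813), (7976, 7412), (7977, 8821), (7978, 7414), (7979, 8824), (7980, 7047), (7981, 8828), (7982, 7418), (7983, 7317), (7984, 7050), (7985, 8832), (7986, 7699), (7987, 7057), (7988, 7730), (7989, 7060), (7990, 7207), (7991, 7700), (7992, 7364), (7993, 8842), (7994, 7056), (7995, 8845), (7996, 8836), (7997, 7068), (7998,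 7059), (7999, 8849)]
    ⟨e3 q7936 L156185 q7354, e3 q7937 L156195 q7341, e3 q7938 L156210 q7005, e3 q7939 (flp_f L164243) q8788, e3 q7940 L156233 q7011, e3 q7941 L156249 q7337, e3 q7942 L156265 q7221, e3 q7943 L156277 q7232, e3 q7944 L156285 q7807, e3 q7945 L156299 q7512, e3 q7946 L156319 q7481, e3 q7947 L156329 q7348, e3 q7948 L156339 q7504, e3 q7949 L156351 q7350, e3 q7950 L156367 q7018, e3 q7951 (flp_f L156387) q7808, e3 q7952 L156397 q7340, e3 q7953 L156409 q7022, e3 q7954 L156421 q7805, e3 q7955 L156440 q7236, e3 q7956 L156448 q7239, e3 q7957 L156459 q7357, e3 q7958 L156470 q7035, e3 q7959 L156480 q7036, e3 q7960 (flp_f L164375) q8797, e3 q7961 (flp_f L164389) q8798, e3 q7962 L156504 q7402, e3 q7963 L164458 q8806, e3 q7964 L156518 q7404, e3 q7965 (flp_f L156520) q7038, e3 q7966 (flp_f L164496) q8810, e3 q7967 L156540 q7407, e3 q7968 L156554 q7968, e3 q7969 L156563 q7043, e3 q7970 L156579 q7045, e3 q7971 L156585 q7210, e3 q7972 L156607 q7704, e3 q7973 (flp_f L164512) q8812, e3 q7974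 L156622 q7733, e3 q7975 (flp_f L164522) q8813, e3 q7976 L156640 q7412, e3 q7977 L164607 q8821, e3 q7978 L156666 q7414, e3 q7979 L164643 q8824, e3 q7980 (flp_f L156671) q7047, e3 q7981 (flp_f L164678) q8828, e3 q7982 L156689 q7418, e3 q7983 L156704 q7317, e3 q7984 L156713 q7050, e3 q7985 (flp_f L164715) q8832, e3 q7986 (flp_f L156733) q7699, e3 q7987 L156741 q7057, e3 q7988 L156752 q7730, e3 q7989 L156760 q7060, e3 q7990 L156772 q7207, e3 q7991 L156792 q7700, e3 q7992 L156802 q7364, e3 q7993 L164824 q8842, e3 q7994 (flp_f L156812) q7056, e3 q7995 (flp_f L164866) q8845, e3 q7996 (flp_f L164757) q8836, e3 q7997 L156850 q7068, e3 q7998 L156862 q7059, e3 q7999 (flp_f L164904) q8849, trivial⟩ (by decide +kernel)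

theorem ce_f_125 : ∀ r, r < 64 → sm gf (Qf (8000 + r)) = Qf (tab Gen.f (8000 + r)) :=
  edges_tab (sm gf) Qf (tab Gen.f) 8000 [(8000, 8852), (8001, 7430), (8002, 8855), (8003, 7062), (8004, 8859), (8005, 7434), (8006, 7064), (8007, 8864), (8008, 8865), (8009, 8844), (8010, 7066), (8011, 8869), (8012, 7441), (8013, 8848), (8014, 7070), (8015, 8873), (8016, 7071), (8017, 8876), (8018, 7081), (8019, 7073), (8020, 8879), (8021, 7085), (8022, 7077), (8023, 8881), (8024, 8286), (8025, 8875), (8026, 7079), (8027, 7080), (8028, 8885), (8029, 8886), (8030, 8878), (8031, 7083), (8032, 8890), (8033, 8590), (8034, 7835), (8035, 7087), (8036, 8893), (8037, 8294), (8038, 8038), (8039, 8039), (8040, 7101), (8041, 7212), (8042, 7226), (8043, 7735), (8044, 7475), (8045, 7103), (8046, 8898), (8047, 7478), (8048, 7106), (8049, 8900), (8050, 7347), (8051, 7110), (8052, 8903), (8053, 7731), (8054, 7208), (8055, 7702), (8056, 7365), (8057, 7732), (8058, 7129), (8059, 7120), (8060, 8910), (8061, 7121), (8062,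 8912), (8063, 7487)]
    ⟨e3 q8000 L164925 q8852, e3 q8001 L156888 q7430, e3 q8002 L164957 q8855, e3 q8003 (flp_f L156895) q7062, e3 q8004 (flp_f L164998) q8859, e3 q8005 L156917 q7434, e3 q8006 (flp_f L156919) q7064, e3 q8007 (flp_f L165030) q8864, e3 q8008 (flp_f L165038) q8865, e3 q8009 (flp_f L164854) q8844, e3 q8010 L156947 q7066, e3 q8011 (flp_f L165062) q8869, e3 q8012 L156957 q7441, e3 q8013 (flp_f L164892) q8848, e3 q8014 L156977 q7070, e3 q8015 (flp_f L165082) q8873, e3 q8016 (flp_f L156987) q7071, e3 q8017 (flp_f L165108) q8876, e3 q8018 L157010 q7081, e3 q8019 L157020 q7073, e3 q8020 (flp_f L165137) q8879, e3 q8021 L157039 q7085, e3 q8022 L157052 q7077, e3 q8023 (flp_f L165154) q8881, e3 q8024 (flp_f L159645) q8286, e3 q8025 (flp_f L165099) q8875, e3 q8026 L157079 q7079, e3 q8027 L157087 q7080, e3 q8028 (flp_f L165184) q8885, e3 q8029 (flp_f L165189) q8886, e3 q8030 (flp_f L165123) q8878, e3 q8031 L157112 q7083, e3 q8032 (flp_f L165218) q8890, e3 q8033 (flp_f L162372) q8590,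 e3 q8034 L157133 q7835, e3 q8035 L157142 q7087, e3 q8036 (flp_f L165234) q8893, e3 q8037 (flp_f L159733) q8294, e3 q8038 L157164 q8038, e3 q8039 L157172 q8039, e3 q8040 L157184 q7101, e3 q8041 L157202 q7212, e3 q8042 L157214 q7226, e3 q8043 L157230 q7735, e3 q8044 L157246 q7475, e3 q8045 (flp_f L157250) q7103, e3 q8046 (flp_f L165297) q8898, e3 q8047 L157280 q7478, e3 q8048 L157294 q7106, e3 q8049 (flp_f L165321) q8900, e3 q8050 L157319 q7347, e3 q8051 L157329 q7110, e3 q8052 (flp_f L165359) q8903, e3 q8053 L157350 q7731, e3 q8054 L157366 q7208, e3 q8055 L157379 q7702, e3 q8056 L157387 q7365, e3 q8057 L157401 q7732, e3 q8058 L157417 q7129, e3 q8059 L157429 q7120, e3 q8060 (flp_f L165453) q8910, e3 q8061 (flp_f L157443) q7121, e3 q8062 (flp_f L165480) q8912, e3 q8063 L157473 q7487, trivial⟩ (by decide +kernel)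

theorem ce_f_126 : ∀ r, r < 64 → sm gf (Qf (8064 + r)) = Qf (tab Gen.f (8064 + r)) :=
  edges_tab (sm gf) Qf (tab Gen.f) 8064 [(8064, 7474), (8065, 7124), (8066, 8915), (8067, 7499), (8068, 7128), (8069, 8918), (8070, 8909), (8071, 7131), (8072, 8920), (8073, 7134), (8074, 8922), (8075, 7137), (8076, 8925), (8077, 7746), (8078, 7500), (8079, 7145), (8080, 8795), (8081, 7349), (8082, 7148), (8083, 8928), (8084, 7744), (8085, 7222), (8086, 7745), (8087, 7164), (8088, 7155), (8089, 8931), (8090, 7157), (8091, 8933), (8092, 7160), (8093, 8789), (8094, 7501), (8095, 7163), (8096, 8929), (8097, 7166), (8098, 7353), (8099, 7168), (8100, 7599), (8101, 7335), (8102, 7175), (8103, 7214), (8104, 8941), (8105, 7514), (8106, 7174), (8107, 8943), (8108, 8938), (8109, 7520), (8110, 7662), (8111, 7522), (8112, 7693), (8113, 7525), (8114, 8557), (8115, 7180), (8116, 8951), (8117, 7215), (8118, 7529), (8119, 8119), (8120, 8120), (8121, 8121), (8122, 8122), (8123, 7696), (8124, 7698), (8125, 7701), (8126,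 7703), (8127, 8717)]
    ⟨e3 q8064 L157486 q7474, e3 q8065 L157495 q7124, e3 q8066 (flp_f L165515) q8915, e3 q8067 L157512 q7499, e3 q8068 L157524 q7128, e3 q8069 (flp_f L165540) q8918, e3 q8070 (flp_f L165441) q8909, e3 q8071 L157543 q7131, e3 q8072 (flp_f L165560) q8920, e3 q8073 L157559 q7134, e3 q8074 (flp_f L165576) q8922, e3 q8075 L157580 q7137, e3 q8076 (flp_f L165609) q8925, e3 q8077 L157594 q7746, e3 q8078 L157609 q7500, e3 q8079 L157623 q7145, e3 q8080 (flp_f L164348) q8795, e3 q8081 L157651 q7349, e3 q8082 L157659 q7148, e3 q8083 (flp_f L165645) q8928, e3 q8084 L157675 q7744, e3 q8085 L157692 q7222, e3 q8086 L157704 q7745, e3 q8087 L157721 q7164, e3 q8088 L157733 q7155, e3 q8089 (flp_f L165688) q8931, e3 q8090 L157758 q7157, e3 q8091 (flp_f L165726) q8933, e3 q8092 L157780 q7160, e3 q8093 (flp_f L164258) q8789, e3 q8094 L157803 q7501, e3 q8095 L157811 q7163, e3 q8096 (flp_f L165662) q8929, e3 q8097 L157827 q7166, e3 q8098 L157839 q7353, e3 q8099 L157845 q7168, e3 q8100 L157865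 q7599, e3 q8101 L157872 q7335, e3 q8102 L157882 q7175, e3 q8103 L157890 q7214, e3 q8104 L165816 q8941, e3 q8105 L157916 q7514, e3 q8106 (flp_f L157920) q7174, e3 q8107 (flp_f L165852) q8943, e3 q8108 (flp_f L165784) q8938, e3 q8109 L157943 q7520, e3 q8110 (flp_f L157956) q7662, e3 q8111 L157964 q7522, e3 q8112 L157975 q7693, e3 q8113 L157982 q7525, e3 q8114 (flp_f L162105) q8557, e3 q8115 L158002 q7180, e3 q8116 (flp_f L165931) q8951, e3 q8117 L158019 q7215, e3 q8118 L158034 q7529, e3 q8119 L158044 q8119, e3 q8120 L158063 q8120, e3 q8121 L158078 q8121, e3 q8122 L158093 q8122, e3 q8123 L158105 q7696, e3 q8124 L158122 q7698, e3 q8125 L158134 q7701, e3 q8126 L158146 q7703, e3 q8127 (flp_f L163421) q8717, trivial⟩ (by decide +kernel)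

theorem ce_f_127 : ∀ r, r < 64 → sm gf (Qf (8128 + r)) = Qf (tab Gen.f (8128 + r)) :=
  edges_tab (sm gf) Qf (tab Gen.f) 8128 [(8128, 8838), (8129, 8906), (8130, 7259), (8131, 7705), (8132, 8799), (8133, 8814), (8134, 7709), (8135, 8895), (8136, 8940), (8137, 7885), (8138, 8763), (8139, 8791), (8140, 7312), (8141, 7734), (8142, 7736), (8143, 8662), (8144, 8777), (8145, 7331), (8146, 7742), (8147, 8796), (8148, 8792), (8149, 7314), (8150, 7345), (8151, 7332), (8152, 7241), (8153, 7242), (8154, 8973), (8155, 8516), (8156, 8974), (8157, 8690), (8158, 8984), (8159, 8692), (8160, 7244), (8161, 8987), (8162, 8695), (8163, 7248), (8164, 7249), (8165, 8713), (8166, 8989), (8167, 8990), (8168, 8703), (8169, 8731), (8170, 8705), (8171, 8997), (8172, 7251), (8173, 9000), (8174, 8709), (8175, 7254), (8176, 9003), (8177, 8698), (8178, 7261), (8179, 8750), (8180, 7264), (8181, 8699), (8182, 8958), (8183, 9011), (8184, 7260), (8185, 9014), (8186, 9006), (8187, 7263), (8188, 9017), (8189, 8827), (8190,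 8723), (8191, 9021)]
    ⟨e3 q8128 (flp_f L164783) q8838, e3 q8129 (flp_f L165398) q8906, e3 q8130 L158198 q7259, e3 q8131 L158210 q7705, e3 q8132 (flp_f L164397) q8799, e3 q8133 (flp_f L164540) q8814, e3 q8134 L158240 q7709, e3 q8135 (flp_f L165252) q8895, e3 q8136 (flp_f L165812) q8940, e3 q8137 L158280 q7885, e3 q8138 (flp_f L163933) q8763, e3 q8139 (flp_f L164292) q8791, e3 q8140 L158312 q7312, e3 q8141 L158318 q7734, e3 q8142 L158324 q7736, e3 q8143 (flp_f L162906) q8662, e3 q8144 (flp_f L164110) q8777, e3 q8145 L158364 q7331, e3 q8146 L158373 q7742, e3 q8147 (flp_f L164366) q8796, e3 q8148 (flp_f L164302) q8792, e3 q8149 L158407 q7314, e3 q8150 L158413 q7345, e3 q8151 L158425 q7332, e3 q8152 L158437 q7241, e3 q8153 L158450 q7242, e3 q8154 (flp_f L166176) q8973, e3 q8155 (flp_f L161719) q8516, e3 q8156 (flp_f L166189) q8974, e3 q8157 (flp_f L163113) q8690, e3 q8158 L166273 q8984, e3 q8159 (flp_f L163134) q8692, e3 q8160 (flp_f L158499) q7244, e3 q8161 (flp_f L166300) q8987, e3 q8162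 (flp_f L163161) q8695, e3 q8163 L158524 q7248, e3 q8164 L158536 q7249, e3 q8165 (flp_f L163376) q8713, e3 q8166 (flp_f L166315) q8989, e3 q8167 (flp_f L166323) q8990, e3 q8168 (flp_f L163258) q8703, e3 q8169 (flp_f L163575) q8731, e3 q8170 (flp_f L163288) q8705, e3 q8171 L166389 q8997, e3 q8172 (flp_f L158608) q7251, e3 q8173 (flp_f L166423) q9000, e3 q8174 (flp_f L163323) q8709, e3 q8175 L158642 q7254, e3 q8176 (flp_f L166449) q9003, e3 q8177 (flp_f L163195) q8698, e3 q8178 L158672 q7261, e3 q8179 (flp_f L163762) q8750, e3 q8180 L158689 q7264, e3 q8181 (flp_f L163219) q8699, e3 q8182 (flp_f L166018) q8958, e3 q8183 L166517 q9011, e3 q8184 (flp_f L158721) q7260, e3 q8185 (flp_f L166551) q9014, e3 q8186 (flp_f L166476) q9006, e3 q8187 L158755 q7263, e3 q8188 (flp_f L166577) q9017, e3 q8189 (flp_f L164670) q8827, e3 q8190 (flp_f L163495) q8723, e3 q8191 L166616 q9021, trivial⟩ (by decide +kernel)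

theorem ce_f_128 : ∀ r, r < 64 → sm gf (Qf (8192 + r)) = Qf (tab Gen.f (8192 + r)) :=
  edges_tab (sm gf) Qf (tab Gen.f) 8192 [(8192, 7266), (8193, 9024), (8194, 8727), (8195, 7268), (8196, 9029), (8197, 9030), (8198, 8704), (8199, 7270), (8200, 9034), (8201, 8734), (8202, 8754), (8203, 7274), (8204, 9038), (8205, 7275), (8206, 9042), (8207, 9043), (8208, 7283), (8209, 7277), (8210, 7287), (8211, 8581), (8212, 9041), (8213, 7281), (8214, 7282), (8215, 9049), (8216, 9050), (8217, 9046), (8218, 7285), (8219, 9054), (8220, 8291), (8221, 7648), (8222, 7289), (8223, 9057), (8224, 8594), (8225, 8225), (8226, 8226), (8227, 7301), (8228, 8715), (8229, 8762), (8230, 8753), (8231, 8735), (8232, 8755), (8233, 8774), (8234, 8757), (8235, 7308), (8236, 8751), (8237, 8701), (8238, 8966), (8239, 8752), (8240, 8972), (8241, 7316), (8242, 8831), (8243, 8768), (8244, 7320), (8245, 9070), (8246, 8771), (8247, 7323), (8248, 9074), (8249, 8937), (8250, 8756), (8251, 7327), (8252, 8969), (8253, 7741), (8254,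 8780), (8255, 8781)]
    ⟨e3 q8192 (flp_f L158798) q7266, e3 q8193 (flp_f L166641) q9024, e3 q8194 (flp_f L163535) q8727, e3 q8195 (flp_f L158818) q7268, e3 q8196 (flp_f L166679) q9029, e3 q8197 (flp_f L166691) q9030, e3 q8198 L163280 q8704, e3 q8199 L158852 q7270, e3 q8200 (flp_f L166719) q9034, e3 q8201 (flp_f L163599) q8734, e3 q8202 (flp_f L163817) q8754, e3 q8203 L158882 q7274, e3 q8204 (flp_f L166743) q9038, e3 q8205 (flp_f L158898) q7275, e3 q8206 (flp_f L166793) q9042, e3 q8207 (flp_f L166806) q9043, e3 q8208 L158933 q7283, e3 q8209 L158943 q7277, e3 q8210 L158954 q7287, e3 q8211 (flp_f L162290) q8581, e3 q8212 (flp_f L166782) q9041, e3 q8213 L158983 q7281, e3 q8214 L158996 q7282, e3 q8215 (flp_f L166867) q9049, e3 q8216 (flp_f L166876) q9050, e3 q8217 (flp_f L166834) q9046, e3 q8218 L159030 q7285, e3 q8219 (flp_f L166914) q9054, e3 q8220 (flp_f L159694) q8291, e3 q8221 L159062 q7648, e3 q8222 L159074 q7289, e3 q8223 (flp_f L166949) q9057, e3 q8224 (flp_f L162408) q8594, e3 q8225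 L159104 q8225, e3 q8226 L159114 q8226, e3 q8227 L159123 q7301, e3 q8228 (flp_f L163397) q8715, e3 q8229 (flp_f L163917) q8762, e3 q8230 (flp_f L163803) q8753, e3 q8231 (flp_f L163613) q8735, e3 q8232 (flp_f L163825) q8755, e3 q8233 (flp_f L164065) q8774, e3 q8234 (flp_f L163849) q8757, e3 q8235 L159202 q7308, e3 q8236 (flp_f L163774) q8751, e3 q8237 (flp_f L163238) q8701, e3 q8238 (flp_f L166106) q8966, e3 q8239 (flp_f L163788) q8752, e3 q8240 (flp_f L166164) q8972, e3 q8241 L159257 q7316, e3 q8242 (flp_f L164705) q8831, e3 q8243 (flp_f L163993) q8768, e3 q8244 L159287 q7320, e3 q8245 (flp_f L167085) q9070, e3 q8246 (flp_f L164023) q8771, e3 q8247 L159307 q7323, e3 q8248 (flp_f L167108) q9074, e3 q8249 (flp_f L165775) q8937, e3 q8250 (flp_f L163837) q8756, e3 q8251 L159334 q7327, e3 q8252 (flp_f L166133) q8969, e3 q8253 L159361 q7741, e3 q8254 (flp_f L164140) q8780, e3 q8255 (flp_f L164147) q8781, trivial⟩ (by decide +kernel)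

theorem ce_f_129 : ∀ r, r < 64 → sm gf (Qf (8256 + r)) = Qf (tab Gen.f (8256 + r)) :=
  edges_tab (sm gf) Qf (tab Gen.f) 8256 [(8256, 8926), (8257, 8790), (8258, 8785), (8259, 8786), (8260, 8783), (8261, 8784), (8262, 7749), (8263, 8902), (8264, 8794), (8265, 8787), (8266, 7352), (8267, 7399), (8268, 8542), (8269, 7752), (8270, 8485), (8271, 7755), (8272, 7409), (8273, 7759), (8274, 8841), (8275, 9088), (8276, 7366), (8277, 9091), (8278, 7425), (8279, 7368), (8280, 9095), (8281, 9096), (8282, 7370), (8283, 9099), (8284, 7768), (8285, 7373), (8286, 8024), (8287, 7375), (8288, 7376), (8289, 9104), (8290, 9105), (8291, 8220), (8292, 7620), (8293, 7650), (8294, 8037), (8295, 8295), (8296, 8296), (8297, 8297), (8298, 7411), (8299, 7390), (8300, 9108), (8301, 7393), (8302, 9110), (8303, 7396), (8304, 7401), (8305, 8543), (8306, 9081), (8307, 8390), (8308, 9111), (8309, 8802), (8310, 9119), (8311, 8804), (8312, 9122), (8313, 7403), (8314, 9126), (8315, 8808), (8316, 8497), (8317, 7406), (8318,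 9130), (8319, 9132)]
    ⟨e3 q8256 (flp_f L165621) q8926, e3 q8257 (flp_f L164273) q8790, e3 q8258 (flp_f L164203) q8785, e3 q8259 (flp_f L164213) q8786, e3 q8260 (flp_f L164169) q8783, e3 q8261 (flp_f L164184) q8784, e3 q8262 L159441 q7749, e3 q8263 (flp_f L165349) q8902, e3 q8264 (flp_f L164334) q8794, e3 q8265 L164237 q8787, e3 q8266 L159472 q7352, e3 q8267 L159483 q7399, e3 q8268 (flp_f L161948) q8542, e3 q8269 L159507 q7752, e3 q8270 (flp_f L161373) q8485, e3 q8271 L159525 q7755, e3 q8272 L159537 q7409, e3 q8273 L159543 q7759, e3 q8274 (flp_f L164820) q8841, e3 q8275 L167234 q9088, e3 q8276 (flp_f L159560) q7366, e3 q8277 (flp_f L167275) q9091, e3 q8278 L159582 q7425, e3 q8279 (flp_f L159584) q7368, e3 q8280 (flp_f L167309) q9095, e3 q8281 (flp_f L167321) q9096, e3 q8282 L159616 q7370, e3 q8283 (flp_f L167347) q9099, e3 q8284 L159626 q7768, e3 q8285 L159638 q7373, e3 q8286 L159645 q8024, e3 q8287 L159652 q7375, e3 q8288 L159663 q7376, e3 q8289 (flp_f L167386) q9104, e3 q8290 (flp_f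 L167393) q9105, e3 q8291 L159694 q8220, e3 q8292 L159705 q7620, e3 q8293 L159718 q7650, e3 q8294 L159733 q8037, e3 q8295 L159746 q8295, e3 q8296 L159760 q8296, e3 q8297 L159770 q8297, e3 q8298 L159781 q7411, e3 q8299 L159792 q7390, e3 q8300 (flp_f L167427) q9108, e3 q8301 L159808 q7393, e3 q8302 (flp_f L167438) q9110, e3 q8303 L159817 q7396, e3 q8304 L159826 q7401, e3 q8305 (flp_f L161956) q8543, e3 q8306 (flp_f L167174) q9081, e3 q8307 (flp_f L160513) q8390, e3 q8308 (flp_f L167445) q9111, e3 q8309 (flp_f L164429) q8802, e3 q8310 L167518 q9119, e3 q8311 (flp_f L164451) q8804, e3 q8312 L167548 q9122, e3 q8313 (flp_f L159898) q7403, e3 q8314 (flp_f L167584) q9126, e3 q8315 (flp_f L164478) q8808, e3 q8316 (flp_f L161481) q8497, e3 q8317 L159924 q7406, e3 q8318 (flp_f L167608) q9130, e3 q8319 L167616 q9132, trivial⟩ (by decide +kernel)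

theorem ce_f_130 : ∀ r, r < 64 → sm gf (Qf (8320 + r)) = Qf (tab Gen.f (8320 + r)) :=
  edges_tab (sm gf) Qf (tab Gen.f) 8320 [(8320, 7408), (8321, 9085), (8322, 8858), (8323, 8819), (8324, 9138), (8325, 7413), (8326, 9141), (8327, 8823), (8328, 7415), (8329, 9146), (8330, 9147), (8331, 8722), (8332, 7417), (8333, 9151), (8334, 8830), (8335, 8767), (8336, 7421), (8337, 7422), (8338, 9157), (8339, 9158), (8340, 7438), (8341, 7424), (8342, 9162), (8343, 9093), (8344, 7442), (8345, 7428), (8346, 9166), (8347, 7429), (8348, 9169), (8349, 8854), (8350, 7431), (8351, 9174), (8352, 9175), (8353, 7765), (8354, 7433), (8355, 9179), (8356, 8861), (8357, 8630), (8358, 9156), (8359, 7436), (8360, 7437), (8361, 9184), (8362, 9185), (8363, 9161), (8364, 7440), (8365, 9189), (8366, 9192), (8367, 9165), (8368, 7444), (8369, 9193), (8370, 8443), (8371, 7455), (8372, 7446), (8373, 7447), (8374, 9197), (8375, 9198), (8376, 7460), (8377, 7450), (8378, 9202), (8379, 8525), (8380, 7464), (8381, 8643), (8382,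 9196), (8383, 7458)]
    ⟨e3 q8320 (flp_f L159942) q7408, e3 q8321 (flp_f L167214) q9085, e3 q8322 (flp_f L164988) q8858, e3 q8323 (flp_f L164593) q8819, e3 q8324 L167675 q9138, e3 q8325 (flp_f L159987) q7413, e3 q8326 (flp_f L167706) q9141, e3 q8327 (flp_f L164639) q8823, e3 q8328 (flp_f L160015) q7415, e3 q8329 (flp_f L167752) q9146, e3 q8330 (flp_f L167764) q9147, e3 q8331 L163485 q8722, e3 q8332 L160043 q7417, e3 q8333 (flp_f L167786) q9151, e3 q8334 (flp_f L164690) q8830, e3 q8335 (flp_f L163983) q8767, e3 q8336 L160069 q7421, e3 q8337 (flp_f L160073) q7422, e3 q8338 (flp_f L167838) q9157, e3 q8339 (flp_f L167850) q9158, e3 q8340 L160105 q7438, e3 q8341 L160113 q7424, e3 q8342 (flp_f L167884) q9162, e3 q8343 (flp_f L167289) q9093, e3 q8344 L160137 q7442, e3 q8345 L160145 q7428, e3 q8346 L167906 q9166, e3 q8347 (flp_f L160157) q7429, e3 q8348 (flp_f L167942) q9169, e3 q8349 (flp_f L164955) q8854, e3 q8350 (flp_f L160181) q7431, e3 q8351 (flp_f L167990) q9174, e3 q8352 (flp_f L168002)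 q9175, e3 q8353 L160217 q7765, e3 q8354 L160225 q7433, e3 q8355 (flp_f L168040) q9179, e3 q8356 (flp_f L165012) q8861, e3 q8357 (flp_f L162652) q8630, e3 q8358 (flp_f L167826) q9156, e3 q8359 L160263 q7436, e3 q8360 L160273 q7437, e3 q8361 (flp_f L168076) q9184, e3 q8362 (flp_f L168084) q9185, e3 q8363 (flp_f L167874) q9161, e3 q8364 L160293 q7440, e3 q8365 (flp_f L168104) q9189, e3 q8366 L168114 q9192, e3 q8367 (flp_f L167902) q9165, e3 q8368 L160309 q7444, e3 q8369 (flp_f L168118) q9193, e3 q8370 (flp_f L160989) q8443, e3 q8371 L160334 q7455, e3 q8372 L160344 q7446, e3 q8373 L160356 q7447, e3 q8374 (flp_f L168157) q9197, e3 q8375 (flp_f L168165) q9198, e3 q8376 L160379 q7460, e3 q8377 L160392 q7450, e3 q8378 (flp_f L168206) q9202, e3 q8379 (flp_f L161815) q8525, e3 q8380 L160425 q7464, e3 q8381 (flp_f L162730) q8643, e3 q8382 (flp_f L168145) q9196, e3 q8383 L160455 q7458, trivial⟩ (by decide +kernel)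

theorem ce_f_131 : ∀ r, r < 64 → sm gf (Qf (8384 + r)) = Qf (tab Gen.f (8384 + r)) :=
  edges_tab (sm gf) Qf (tab Gen.f) 8384 [(8384, 7459), (8385, 9206), (8386, 9207), (8387, 9201), (8388, 7462), (8389, 9212), (8390, 8307), (8391, 7466), (8392, 8719), (8393, 8657), (8394, 8394), (8395, 8395), (8396, 8914), (8397, 8897), (8398, 7477), (8399, 9217), (8400, 7480), (8401, 9219), (8402, 8793), (8403, 7494), (8404, 7486), (8405, 9220), (8406, 7769), (8407, 7490), (8408, 9223), (8409, 7796), (8410, 7493), (8411, 8766), (8412, 8721), (8413, 8917), (8414, 8935), (8415, 7503), (8416, 7507), (8417, 9229), (8418, 7509), (8419, 8932), (8420, 7513), (8421, 9230), (8422, 8942), (8423, 7519), (8424, 8482), (8425, 8483), (8426, 9234), (8427, 8946), (8428, 7521), (8429, 9238), (8430, 8948), (8431, 7810), (8432, 7524), (8433, 9241), (8434, 8474), (8435, 7528), (8436, 9244), (8437, 7530), (8438, 9248), (8439, 9249), (8440, 7715), (8441, 7532), (8442, 9253), (8443, 8370), (8444, 7773), (8445, 7535), (8446,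 7536), (8447, 9257)]
    ⟨e3 q8384 L160463 q7459, e3 q8385 (flp_f L168244) q9206, e3 q8386 (flp_f L168254) q9207, e3 q8387 (flp_f L168194) q9201, e3 q8388 L160493 q7462, e3 q8389 (flp_f L168294) q9212, e3 q8390 L160513 q8307, e3 q8391 L160517 q7466, e3 q8392 (flp_f L163449) q8719, e3 q8393 (flp_f L162831) q8657, e3 q8394 L160543 q8394, e3 q8395 L160556 q8395, e3 q8396 (flp_f L165505) q8914, e3 q8397 (flp_f L165281) q8897, e3 q8398 L160593 q7477, e3 q8399 (flp_f L168348) q9217, e3 q8400 L160611 q7480, e3 q8401 (flp_f L168365) q9219, e3 q8402 (flp_f L164322) q8793, e3 q8403 L160638 q7494, e3 q8404 L160650 q7486, e3 q8405 (flp_f L168376) q9220, e3 q8406 L160668 q7769, e3 q8407 L160676 q7490, e3 q8408 (flp_f L168400) q9223, e3 q8409 L160692 q7796, e3 q8410 L160700 q7493, e3 q8411 (flp_f L163963) q8766, e3 q8412 (flp_f L163469) q8721, e3 q8413 (flp_f L165530) q8917, e3 q8414 (flp_f L165745) q8935, e3 q8415 L160739 q7503, e3 q8416 L160748 q7507, e3 q8417 (flp_f L168456) q9229, e3 q8418 L160762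 q7509, e3 q8419 (flp_f L165716) q8932, e3 q8420 (flp_f L160774) q7513, e3 q8421 (flp_f L168469) q9230, e3 q8422 (flp_f L165838) q8942, e3 q8423 L160808 q7519, e3 q8424 (flp_f L161347) q8482, e3 q8425 (flp_f L161356) q8483, e3 q8426 L168500 q9234, e3 q8427 (flp_f L165881) q8946, e3 q8428 (flp_f L160847) q7521, e3 q8429 (flp_f L168553) q9238, e3 q8430 (flp_f L165899) q8948, e3 q8431 L160883 q7810, e3 q8432 L160893 q7524, e3 q8433 (flp_f L168584) q9241, e3 q8434 L161281 q8474, e3 q8435 L160916 q7528, e3 q8436 (flp_f L168604) q9244, e3 q8437 (flp_f L160923) q7530, e3 q8438 (flp_f L168639) q9248, e3 q8439 (flp_f L168651) q9249, e3 q8440 L160960 q7715, e3 q8441 L160970 q7532, e3 q8442 (flp_f L168692) q9253, e3 q8443 L160989 q8370, e3 q8444 L160997 q7773, e3 q8445 L161007 q7535, e3 q8446 L161018 q7536, e3 q8447 (flp_f L168729) q9257, trivial⟩ (by decide +kernel)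

theorem ce_f_132 : ∀ r, r < 64 → sm gf (Qf (8448 + r)) = Qf (tab Gen.f (8448 + r)) :=
  edges_tab (sm gf) Qf (tab Gen.f) 8448 [(8448, 9258), (8449, 7778), (8450, 7539), (8451, 9262), (8452, 9265), (8453, 8465), (8454, 7814), (8455, 7545), (8456, 7546), (8457, 9268), (8458, 9269), (8459, 7819), (8460, 7549), (8461, 8546), (8462, 9276), (8463, 7550), (8464, 8517), (8465, 8453), (8466, 7568), (8467, 7558), (8468, 7559), (8469, 9279), (8470, 9280), (8471, 7573), (8472, 7562), (8473, 9285), (8474, 8434), (8475, 7566), (8476, 8745), (8477, 8674), (8478, 9278), (8479, 7571), (8480, 7572), (8481, 8949), (8482, 8424), (8483, 8425), (8484, 9284), (8485, 8270), (8486, 8688), (8487, 7719), (8488, 7585), (8489, 9292), (8490, 7782), (8491, 7588), (8492, 9294), (8493, 8923), (8494, 8738), (8495, 7739), (8496, 7596), (8497, 8316), (8498, 7604), (8499, 9297), (8500, 7606), (8501, 9301), (8502, 7663), (8503, 8503), (8504, 7658), (8505, 7610), (8506, 9303), (8507, 8507), (8508, 7616), (8509, 7613), (8510,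 9304), (8511, 7619)]
    ⟨e3 q8448 (flp_f L168737) q9258, e3 q8449 L161044 q7778, e3 q8450 L161055 q7539, e3 q8451 (flp_f L168773) q9262, e3 q8452 L168792 q9265, e3 q8453 (flp_f L161189) q8465, e3 q8454 L161089 q7814, e3 q8455 L161101 q7545, e3 q8456 L161110 q7546, e3 q8457 (flp_f L168827) q9268, e3 q8458 (flp_f L168836) q9269, e3 q8459 L161134 q7819, e3 q8460 L161142 q7549, e3 q8461 (flp_f L161990) q8546, e3 q8462 L168894 q9276, e3 q8463 (flp_f L161161) q7550, e3 q8464 (flp_f L161731) q8517, e3 q8465 L161189 q8453, e3 q8466 L161202 q7568, e3 q8467 L161215 q7558, e3 q8468 L161224 q7559, e3 q8469 (flp_f L168935) q9279, e3 q8470 (flp_f L168944) q9280, e3 q8471 L161250 q7573, e3 q8472 L161259 q7562, e3 q8473 (flp_f L168993) q9285, e3 q8474 (flp_f L161281) q8434, e3 q8475 L161286 q7566, e3 q8476 (flp_f L163708) q8745, e3 q8477 (flp_f L162993) q8674, e3 q8478 (flp_f L168922) q9278, e3 q8479 L161320 q7571, e3 q8480 L161329 q7572, e3 q8481 (flp_f L165908) q8949, e3 q8482 L161347 q8424, e3 q8483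 L161356 q8425, e3 q8484 (flp_f L168980) q9284, e3 q8485 L161373 q8270, e3 q8486 (flp_f L163091) q8688, e3 q8487 L161395 q7719, e3 q8488 L161406 q7585, e3 q8489 (flp_f L169067) q9292, e3 q8490 L161423 q7782, e3 q8491 L161432 q7588, e3 q8492 (flp_f L169079) q9294, e3 q8493 (flp_f L165594) q8923, e3 q8494 (flp_f L163643) q8738, e3 q8495 L161463 q7739, e3 q8496 L161472 q7596, e3 q8497 L161481 q8316, e3 q8498 L161493 q7604, e3 q8499 (flp_f L169105) q9297, e3 q8500 (flp_f L161507) q7606, e3 q8501 (flp_f L169153) q9301, e3 q8502 L161536 q7663, e3 q8503 L161549 q8503, e3 q8504 L161568 q7658, e3 q8505 L161582 q7610, e3 q8506 (flp_f L169179) q9303, e3 q8507 L161609 q8507, e3 q8508 L161627 q7616, e3 q8509 L161640 q7613, e3 q8510 (flp_f L169194) q9304, e3 q8511 L161663 q7619, trivial⟩ (by decide +kernel)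

theorem ce_f_133 : ∀ r, r < 64 → sm gf (Qf (8512 + r)) = Qf (tab Gen.f (8512 + r)) :=
  edges_tab (sm gf) Qf (tab Gen.f) 8512 [(8512, 9107), (8513, 8945), (8514, 7646), (8515, 7623), (8516, 8155), (8517, 8464), (8518, 7632), (8519, 7781), (8520, 7636), (8521, 9309), (8522, 9310), (8523, 7638), (8524, 9313), (8525, 8379), (8526, 7642), (8527, 9315), (8528, 9308), (8529, 9102), (8530, 7644), (8531, 7645), (8532, 9319), (8533, 9320), (8534, 9053), (8535, 7652), (8536, 7656), (8537, 7661), (8538, 8947), (8539, 8803), (8540, 9300), (8541, 7665), (8542, 8268), (8543, 8305), (8544, 7671), (8545, 7833), (8546, 8461), (8547, 7822), (8548, 7678), (8549, 9325), (8550, 8550), (8551, 7691), (8552, 7683), (8553, 7684), (8554, 9328), (8555, 7694), (8556, 7687), (8557, 8114), (8558, 8740), (8559, 8834), (8560, 9332), (8561, 8953), (8562, 7697), (8563, 9335), (8564, 8954), (8565, 8835), (8566, 8839), (8567, 8840), (8568, 8955), (8569, 8907), (8570, 8815), (8571, 8816), (8572, 8959), (8573, 7706), (8574,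 9348), (8575, 9349)]
    ⟨e3 q8512 (flp_f L167415) q9107, e3 q8513 L165872 q8945, e3 q8514 L161697 q7646, e3 q8515 L161706 q7623, e3 q8516 L161719 q8155, e3 q8517 L161731 q8464, e3 q8518 L161745 q7632, e3 q8519 L161759 q7781, e3 q8520 (flp_f L161764) q7636, e3 q8521 (flp_f L169254) q9309, e3 q8522 (flp_f L169266) q9310, e3 q8523 L161792 q7638, e3 q8524 (flp_f L169289) q9313, e3 q8525 L161815 q8379, e3 q8526 L161824 q7642, e3 q8527 (flp_f L169306) q9315, e3 q8528 (flp_f L169243) q9308, e3 q8529 (flp_f L167364) q9102, e3 q8530 L161854 q7644, e3 q8531 L161865 q7645, e3 q8532 (flp_f L169336) q9319, e3 q8533 (flp_f L169343) q9320, e3 q8534 (flp_f L166903) q9053, e3 q8535 L161890 q7652, e3 q8536 L161900 q7656, e3 q8537 L161910 q7661, e3 q8538 (flp_f L165893) q8947, e3 q8539 L164441 q8803, e3 q8540 (flp_f L169141) q9300, e3 q8541 L161938 q7665, e3 q8542 L161948 q8268, e3 q8543 L161956 q8305, e3 q8544 L161967 q7671, e3 q8545 L161982 q7833, e3 q8546 L161990 q8461, e3 q8547 L162000 q7822, e3 q8548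 L162008 q7678, e3 q8549 (flp_f L169382) q9325, e3 q8550 L162026 q8550, e3 q8551 L162041 q7691, e3 q8552 L162053 q7683, e3 q8553 L162062 q7684, e3 q8554 (flp_f L169408) q9328, e3 q8555 L162076 q7694, e3 q8556 L162087 q7687, e3 q8557 L162105 q8114, e3 q8558 (flp_f L163664) q8740, e3 q8559 (flp_f L164732) q8834, e3 q8560 L169441 q9332, e3 q8561 (flp_f L165951) q8953, e3 q8562 (flp_f L162136) q7697, e3 q8563 (flp_f L169479) q9335, e3 q8564 (flp_f L165962) q8954, e3 q8565 (flp_f L164747) q8835, e3 q8566 (flp_f L164793) q8839, e3 q8567 (flp_f L164810) q8840, e3 q8568 (flp_f L165978) q8955, e3 q8569 (flp_f L165414) q8907, e3 q8570 (flp_f L164548) q8815, e3 q8571 (flp_f L164561) q8816, e3 q8572 (flp_f L166026) q8959, e3 q8573 (flp_f L162219) q7706, e3 q8574 (flp_f L169581) q9348, e3 q8575 (flp_f L169591) q9349, trivial⟩ (by decide +kernel)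

theorem ce_f_134 : ∀ r, r < 64 → sm gf (Qf (8576 + r)) = Qf (tab Gen.f (8576 + r)) :=
  edges_tab (sm gf) Qf (tab Gen.f) 8576 [(8576, 7708), (8577, 9352), (8578, 8962), (8579, 7711), (8580, 9355), (8581, 8211), (8582, 9247), (8583, 7713), (8584, 7714), (8585, 9359), (8586, 9360), (8587, 9252), (8588, 7717), (8589, 9364), (8590, 8033), (8591, 9291), (8592, 7721), (8593, 9367), (8594, 8224), (8595, 8595), (8596, 8596), (8597, 8837), (8598, 8905), (8599, 8908), (8600, 8818), (8601, 8967), (8602, 8896), (8603, 9377), (8604, 7738), (8605, 9067), (8606, 9076), (8607, 8970), (8608, 9379), (8609, 7743), (8610, 8936), (8611, 8930), (8612, 8927), (8613, 9228), (8614, 7747), (8615, 9381), (8616, 7751), (8617, 9385), (8618, 9083), (8619, 9237), (8620, 7754), (8621, 9389), (8622, 7756), (8623, 9392), (8624, 9393), (8625, 7758), (8626, 9396), (8627, 9086), (8628, 7761), (8629, 9399), (8630, 8357), (8631, 9173), (8632, 7763), (8633, 7764), (8634, 9403), (8635, 9404), (8636, 9178), (8637, 7767), (8638,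 9408), (8639, 9411)]
    ⟨e3 q8576 L162251 q7708, e3 q8577 (flp_f L169615) q9352, e3 q8578 (flp_f L166056) q8962, e3 q8579 L162273 q7711, e3 q8580 (flp_f L169633) q9355, e3 q8581 L162290 q8211, e3 q8582 (flp_f L168628) q9247, e3 q8583 L162304 q7713, e3 q8584 L162314 q7714, e3 q8585 (flp_f L169669) q9359, e3 q8586 (flp_f L169676) q9360, e3 q8587 (flp_f L168680) q9252, e3 q8588 L162351 q7717, e3 q8589 (flp_f L169711) q9364, e3 q8590 L162372 q8033, e3 q8591 (flp_f L169056) q9291, e3 q8592 L162391 q7721, e3 q8593 (flp_f L169739) q9367, e3 q8594 L162408 q8224, e3 q8595 L162421 q8595, e3 q8596 L162433 q8596, e3 q8597 (flp_f L164767) q8837, e3 q8598 (flp_f L165379) q8905, e3 q8599 (flp_f L165424) q8908, e3 q8600 (flp_f L164579) q8818, e3 q8601 (flp_f L166112) q8967, e3 q8602 (flp_f L165264) q8896, e3 q8603 L169797 q9377, e3 q8604 L162486 q7738, e3 q8605 (flp_f L167059) q9067, e3 q8606 (flp_f L167132) q9076, e3 q8607 (flp_f L166142) q8970, e3 q8608 (flp_f L169812) q9379, e3 q8609 (flp_f L162511)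 q7743, e3 q8610 (flp_f L165769) q8936, e3 q8611 (flp_f L165675) q8930, e3 q8612 (flp_f L165630) q8927, e3 q8613 (flp_f L168441) q9228, e3 q8614 (flp_f L162539) q7747, e3 q8615 L169822 q9381, e3 q8616 (flp_f L162552) q7751, e3 q8617 (flp_f L169869) q9385, e3 q8618 (flp_f L167192) q9083, e3 q8619 (flp_f L168544) q9237, e3 q8620 L162590 q7754, e3 q8621 (flp_f L169900) q9389, e3 q8622 (flp_f L162600) q7756, e3 q8623 (flp_f L169927) q9392, e3 q8624 (flp_f L169936) q9393, e3 q8625 L162619 q7758, e3 q8626 (flp_f L169950) q9396, e3 q8627 (flp_f L167220) q9086, e3 q8628 L162637 q7761, e3 q8629 (flp_f L169966) q9399, e3 q8630 L162652 q8357, e3 q8631 (flp_f L167978) q9173, e3 q8632 L162664 q7763, e3 q8633 L162672 q7764, e3 q8634 (flp_f L169996) q9403, e3 q8635 (flp_f L170002) q9404, e3 q8636 (flp_f L168030) q9178, e3 q8637 L162696 q7767, e3 q8638 (flp_f L170024) q9408, e3 q8639 L170034 q9411, trivial⟩ (by decide +kernel)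

theorem ce_f_135 : ∀ r, r < 64 → sm gf (Qf (8640 + r)) = Qf (tab Gen.f (8640 + r)) :=
  edges_tab (sm gf) Qf (tab Gen.f) 8640 [(8640, 9222), (8641, 7771), (8642, 9413), (8643, 8381), (8644, 9256), (8645, 7776), (8646, 7777), (8647, 9418), (8648, 9419), (8649, 9261), (8650, 7780), (8651, 9424), (8652, 9307), (8653, 8778), (8654, 7784), (8655, 8779), (8656, 9429), (8657, 8393), (8658, 8658), (8659, 8659), (8660, 7881), (8661, 8661), (8662, 8143), (8663, 7795), (8664, 8776), (8665, 7798), (8666, 8765), (8667, 9434), (8668, 7802), (8669, 8782), (8670, 8773), (8671, 9240), (8672, 7812), (8673, 9437), (8674, 8477), (8675, 9267), (8676, 7817), (8677, 7818), (8678, 9441), (8679, 9442), (8680, 9233), (8681, 9273), (8682, 7821), (8683, 9323), (8684, 9448), (8685, 9324), (8686, 7826), (8687, 8889), (8688, 8486), (8689, 8689), (8690, 8157), (8691, 9455), (8692, 8159), (8693, 7844), (8694, 9458), (8695, 8162), (8696, 7848), (8697, 7850), (8698, 8177), (8699, 8181), (8700, 9460), (8701, 8237), (8702,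 9461), (8703, 8168)]
    ⟨e3 q8640 (flp_f L168392) q9222, e3 q8641 L162714 q7771, e3 q8642 (flp_f L170048) q9413, e3 q8643 L162730 q8381, e3 q8644 (flp_f L168718) q9256, e3 q8645 L162745 q7776, e3 q8646 L162751 q7777, e3 q8647 (flp_f L170082) q9418, e3 q8648 (flp_f L170090) q9419, e3 q8649 (flp_f L168764) q9261, e3 q8650 L162782 q7780, e3 q8651 (flp_f L170122) q9424, e3 q8652 (flp_f L169228) q9307, e3 q8653 (flp_f L164118) q8778, e3 q8654 L162806 q7784, e3 q8655 (flp_f L164127) q8779, e3 q8656 (flp_f L170157) q9429, e3 q8657 L162831 q8393, e3 q8658 L162843 q8658, e3 q8659 L162856 q8659, e3 q8660 L162875 q7881, e3 q8661 L162883 q8661, e3 q8662 L162906 q8143, e3 q8663 L162912 q7795, e3 q8664 (flp_f L164091) q8776, e3 q8665 L162929 q7798, e3 q8666 (flp_f L163949) q8765, e3 q8667 (flp_f L170199) q9434, e3 q8668 L162947 q7802, e3 q8669 L164163 q8782, e3 q8670 L164055 q8773, e3 q8671 (flp_f L168573) q9240, e3 q8672 L162978 q7812, e3 q8673 (flp_f L170223) q9437, e3 q8674 L162993 q8477, e3 q8675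 (flp_f L168814) q9267, e3 q8676 L163003 q7817, e3 q8677 L163010 q7818, e3 q8678 (flp_f L170251) q9441, e3 q8679 (flp_f L170259) q9442, e3 q8680 (flp_f L168494) q9233, e3 q8681 (flp_f L168873) q9273, e3 q8682 L163041 q7821, e3 q8683 (flp_f L169359) q9323, e3 q8684 (flp_f L170307) q9448, e3 q8685 (flp_f L169373) q9324, e3 q8686 L163074 q7826, e3 q8687 (flp_f L165210) q8889, e3 q8688 L163091 q8486, e3 q8689 L163098 q8689, e3 q8690 L163113 q8157, e3 q8691 L170378 q9455, e3 q8692 L163134 q8159, e3 q8693 (flp_f L163136) q7844, e3 q8694 (flp_f L170418) q9458, e3 q8695 L163161 q8162, e3 q8696 L163171 q7848, e3 q8697 L163189 q7850, e3 q8698 L163195 q8177, e3 q8699 L163219 q8181, e3 q8700 (flp_f L170441) q9460, e3 q8701 L163238 q8237, e3 q8702 (flp_f L170453) q9461, e3 q8703 L163258 q8168, trivial⟩ (by decide +kernel)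

theorem ce_f_136 : ∀ r, r < 64 → sm gf (Qf (8704 + r)) = Qf (tab Gen.f (8704 + r)) :=
  edges_tab (sm gf) Qf (tab Gen.f) 8704 [(8704, 8198), (8705, 8170), (8706, 9471), (8707, 7852), (8708, 9474), (8709, 8174), (8710, 7855), (8711, 9477), (8712, 7860), (8713, 8165), (8714, 7862), (8715, 8228), (8716, 7864), (8717, 8127), (8718, 9479), (8719, 8392), (8720, 9481), (8721, 8412), (8722, 8331), (8723, 8190), (8724, 9491), (8725, 7866), (8726, 9494), (8727, 8194), (8728, 7868), (8729, 9499), (8730, 9500), (8731, 8169), (8732, 7870), (8733, 9504), (8734, 8201), (8735, 8231), (8736, 7874), (8737, 9508), (8738, 8494), (8739, 8939), (8740, 8558), (8741, 7877), (8742, 7878), (8743, 9512), (8744, 9513), (8745, 8476), (8746, 9425), (8747, 7884), (8748, 9517), (8749, 7893), (8750, 8179), (8751, 8236), (8752, 8239), (8753, 8230), (8754, 8202), (8755, 8232), (8756, 8250), (8757, 8234), (8758, 7900), (8759, 9526), (8760, 7906), (8761, 7907), (8762, 8229), (8763, 8138), (8764, 9528), (8765, 8666), (8766,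 8411), (8767, 8335)]
    ⟨e3 q8704 (flp_f L163280) q8198, e3 q8705 L163288 q8170, e3 q8706 L170582 q9471, e3 q8707 (flp_f L163295) q7852, e3 q8708 (flp_f L170623) q9474, e3 q8709 L163323 q8174, e3 q8710 L163336 q7855, e3 q8711 (flp_f L170655) q9477, e3 q8712 L163352 q7860, e3 q8713 L163376 q8165, e3 q8714 L163384 q7862, e3 q8715 L163397 q8228, e3 q8716 L163407 q7864, e3 q8717 L163421 q8127, e3 q8718 (flp_f L170682) q9479, e3 q8719 L163449 q8392, e3 q8720 (flp_f L170706) q9481, e3 q8721 L163469 q8412, e3 q8722 (flp_f L163485) q8331, e3 q8723 L163495 q8190, e3 q8724 L170826 q9491, e3 q8725 (flp_f L163505) q7866, e3 q8726 (flp_f L170872) q9494, e3 q8727 L163535 q8194, e3 q8728 (flp_f L163537) q7868, e3 q8729 (flp_f L170926) q9499, e3 q8730 (flp_f L170936) q9500, e3 q8731 L163575 q8169, e3 q8732 L163585 q7870, e3 q8733 (flp_f L170976) q9504, e3 q8734 L163599 q8201, e3 q8735 L163613 q8231, e3 q8736 L163625 q7874, e3 q8737 (flp_f L171010) q9508, e3 q8738 L163643 q8494, e3 q8739 (flp_f L165802)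 q8939, e3 q8740 L163664 q8558, e3 q8741 L163672 q7877, e3 q8742 L163681 q7878, e3 q8743 (flp_f L171056) q9512, e3 q8744 (flp_f L171062) q9513, e3 q8745 L163708 q8476, e3 q8746 (flp_f L170136) q9425, e3 q8747 L163725 q7884, e3 q8748 (flp_f L171093) q9517, e3 q8749 L163745 q7893, e3 q8750 L163762 q8179, e3 q8751 L163774 q8236, e3 q8752 L163788 q8239, e3 q8753 L163803 q8230, e3 q8754 L163817 q8202, e3 q8755 L163825 q8232, e3 q8756 L163837 q8250, e3 q8757 L163849 q8234, e3 q8758 L163864 q7900, e3 q8759 (flp_f L171213) q9526, e3 q8760 L163889 q7906, e3 q8761 L163901 q7907, e3 q8762 L163917 q8229, e3 q8763 L163933 q8138, e3 q8764 (flp_f L171247) q9528, e3 q8765 L163949 q8666, e3 q8766 L163963 q8411, e3 q8767 L163983 q8335, trivial⟩ (by decide +kernel)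

theorem ce_f_137 : ∀ r, r < 64 → sm gf (Qf (8768 + r)) = Qf (tab Gen.f (8768 + r)) :=
  edges_tab (sm gf) Qf (tab Gen.f) 8768 [(8768, 8243), (8769, 7912), (8770, 9534), (8771, 8246), (8772, 7915), (8773, 8670), (8774, 8233), (8775, 7919), (8776, 8664), (8777, 8144), (8778, 8653), (8779, 8655), (8780, 8254), (8781, 8255), (8782, 8669), (8783, 8260), (8784, 8261), (8785, 8258), (8786, 8259), (8787, 8265), (8788, 7939), (8789, 8093), (8790, 8257), (8791, 8139), (8792, 8148), (8793, 8402), (8794, 8264), (8795, 8080), (8796, 8147), (8797, 7960), (8798, 7961), (8799, 8132), (8800, 9545), (8801, 9546), (8802, 8309), (8803, 8539), (8804, 8311), (8805, 9554), (8806, 7963), (8807, 9557), (8808, 8315), (8809, 9299), (8810, 7966), (8811, 9561), (8812, 7973), (8813, 7975), (8814, 8133), (8815, 8570), (8816, 8571), (8817, 9563), (8818, 8600), (8819, 8323), (8820, 9570), (8821, 7977), (8822, 9573), (8823, 8327), (8824, 7979), (8825, 9578), (8826, 9579), (8827, 8189), (8828, 7981), (8829, 9583), (8830,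 8334), (8831, 8242)]
    ⟨e3 q8768 L163993 q8243, e3 q8769 L164005 q7912, e3 q8770 (flp_f L171332) q9534, e3 q8771 L164023 q8246, e3 q8772 L164035 q7915, e3 q8773 (flp_f L164055) q8670, e3 q8774 L164065 q8233, e3 q8775 L164077 q7919, e3 q8776 L164091 q8664, e3 q8777 L164110 q8144, e3 q8778 L164118 q8653, e3 q8779 L164127 q8655, e3 q8780 L164140 q8254, e3 q8781 L164147 q8255, e3 q8782 (flp_f L164163) q8669, e3 q8783 L164169 q8260, e3 q8784 L164184 q8261, e3 q8785 L164203 q8258, e3 q8786 L164213 q8259, e3 q8787 (flp_f L164237) q8265, e3 q8788 L164243 q7939, e3 q8789 L164258 q8093, e3 q8790 L164273 q8257, e3 q8791 L164292 q8139, e3 q8792 L164302 q8148, e3 q8793 L164322 q8402, e3 q8794 L164334 q8264, e3 q8795 L164348 q8080, e3 q8796 L164366 q8147, e3 q8797 L164375 q7960, e3 q8798 L164389 q7961, e3 q8799 L164397 q8132, e3 q8800 (flp_f L171479) q9545, e3 q8801 (flp_f L171487) q9546, e3 q8802 L164429 q8309, e3 q8803 (flp_f L164441) q8539, e3 q8804 L164451 q8311, e3 q8805 L171575 q9554, e3 q8806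 (flp_f L164458) q7963, e3 q8807 (flp_f L171615) q9557, e3 q8808 L164478 q8315, e3 q8809 (flp_f L169125) q9299, e3 q8810 L164496 q7966, e3 q8811 (flp_f L171646) q9561, e3 q8812 L164512 q7973, e3 q8813 L164522 q7975, e3 q8814 L164540 q8133, e3 q8815 L164548 q8570, e3 q8816 L164561 q8571, e3 q8817 (flp_f L171665) q9563, e3 q8818 L164579 q8600, e3 q8819 L164593 q8323, e3 q8820 L171747 q9570, e3 q8821 (flp_f L164607) q7977, e3 q8822 (flp_f L171795) q9573, e3 q8823 L164639 q8327, e3 q8824 (flp_f L164643) q7979, e3 q8825 (flp_f L171844) q9578, e3 q8826 (flp_f L171855) q9579, e3 q8827 L164670 q8189, e3 q8828 L164678 q7981, e3 q8829 (flp_f L171885) q9583, e3 q8830 L164690 q8334, e3 q8831 L164705 q8242, trivial⟩ (by decide +kernel)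

theorem ce_f_138 : ∀ r, r < 64 → sm gf (Qf (8832 + r)) = Qf (tab Gen.f (8832 + r)) :=
  edges_tab (sm gf) Qf (tab Gen.f) 8832 [(8832, 7985), (8833, 9587), (8834, 8559), (8835, 8565), (8836, 7996), (8837, 8597), (8838, 8128), (8839, 8566), (8840, 8567), (8841, 8274), (8842, 7993), (8843, 9598), (8844, 8009), (8845, 7995), (8846, 9601), (8847, 9591), (8848, 8013), (8849, 7999), (8850, 9605), (8851, 9607), (8852, 8000), (8853, 9610), (8854, 8349), (8855, 8002), (8856, 9615), (8857, 9616), (8858, 8322), (8859, 8004), (8860, 9620), (8861, 8356), (8862, 9094), (8863, 9597), (8864, 8007), (8865, 8008), (8866, 9625), (8867, 9626), (8868, 9600), (8869, 8011), (8870, 9630), (8871, 9633), (8872, 9604), (8873, 8015), (8874, 9634), (8875, 8025), (8876, 8017), (8877, 9637), (8878, 8030), (8879, 8020), (8880, 9639), (8881, 8023), (8882, 9641), (8883, 9103), (8884, 9636), (8885, 8028), (8886, 8029), (8887, 9646), (8888, 9647), (8889, 8687), (8890, 8032), (8891, 9652), (8892, 9366), (8893, 8036), (8894,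 9655), (8895, 8135)]
    ⟨e3 q8832 L164715 q7985, e3 q8833 (flp_f L171917) q9587, e3 q8834 L164732 q8559, e3 q8835 L164747 q8565, e3 q8836 L164757 q7996, e3 q8837 L164767 q8597, e3 q8838 L164783 q8128, e3 q8839 L164793 q8566, e3 q8840 L164810 q8567, e3 q8841 L164820 q8274, e3 q8842 (flp_f L164824) q7993, e3 q8843 (flp_f L172056) q9598, e3 q8844 L164854 q8009, e3 q8845 L164866 q7995, e3 q8846 (flp_f L172088) q9601, e3 q8847 (flp_f L171958) q9591, e3 q8848 L164892 q8013, e3 q8849 L164904 q7999, e3 q8850 (flp_f L172124) q9605, e3 q8851 L172140 q9607, e3 q8852 (flp_f L164925) q8000, e3 q8853 (flp_f L172183) q9610, e3 q8854 L164955 q8349, e3 q8855 (flp_f L164957) q8002, e3 q8856 (flp_f L172236) q9615, e3 q8857 (flp_f L172245) q9616, e3 q8858 L164988 q8322, e3 q8859 L164998 q8004, e3 q8860 (flp_f L172279) q9620, e3 q8861 L165012 q8356, e3 q8862 (flp_f L167299) q9094, e3 q8863 (flp_f L172044) q9597, e3 q8864 L165030 q8007, e3 q8865 L165038 q8008, e3 q8866 (flp_f L172309) q9625, e3 q8867 (flp_f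 L172315) q9626, e3 q8868 (flp_f L172074) q9600, e3 q8869 L165062 q8011, e3 q8870 (flp_f L172337) q9630, e3 q8871 L172347 q9633, e3 q8872 (flp_f L172110) q9604, e3 q8873 L165082 q8015, e3 q8874 (flp_f L172355) q9634, e3 q8875 L165099 q8025, e3 q8876 L165108 q8017, e3 q8877 (flp_f L172383) q9637, e3 q8878 L165123 q8030, e3 q8879 L165137 q8020, e3 q8880 (flp_f L172397) q9639, e3 q8881 L165154 q8023, e3 q8882 (flp_f L172413) q9641, e3 q8883 (flp_f L167377) q9103, e3 q8884 (flp_f L172374) q9636, e3 q8885 L165184 q8028, e3 q8886 L165189 q8029, e3 q8887 (flp_f L172452) q9646, e3 q8888 (flp_f L172459) q9647, e3 q8889 L165210 q8687, e3 q8890 L165218 q8032, e3 q8891 (flp_f L172490) q9652, e3 q8892 (flp_f L169733) q9366, e3 q8893 L165234 q8036, e3 q8894 (flp_f L172512) q9655, e3 q8895 L165252 q8135, trivial⟩ (by decide +kernel)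

theorem ce_f_139 : ∀ r, r < 64 → sm gf (Qf (8896 + r)) = Qf (tab Gen.f (8896 + r)) :=
  edges_tab (sm gf) Qf (tab Gen.f) 8896 [(8896, 8602), (8897, 8397), (8898, 8046), (8899, 9658), (8900, 8049), (8901, 9544), (8902, 8263), (8903, 8052), (8904, 9660), (8905, 8598), (8906, 8129), (8907, 8569), (8908, 8599), (8909, 8070), (8910, 8060), (8911, 9664), (8912, 8062), (8913, 9667), (8914, 8396), (8915, 8066), (8916, 9670), (8917, 8413), (8918, 8069), (8919, 9673), (8920, 8072), (8921, 9676), (8922, 8074), (8923, 8493), (8924, 9678), (8925, 8076), (8926, 8256), (8927, 8612), (8928, 8083), (8929, 8096), (8930, 8611), (8931, 8089), (8932, 8419), (8933, 8091), (8934, 9527), (8935, 8414), (8936, 8610), (8937, 8249), (8938, 8108), (8939, 8739), (8940, 8136), (8941, 8104), (8942, 8422), (8943, 8107), (8944, 9680), (8945, 8513), (8946, 8427), (8947, 8538), (8948, 8430), (8949, 8481), (8950, 9286), (8951, 8116), (8952, 9686), (8953, 8561), (8954, 8564), (8955, 8568), (8956, 9483), (8957, 9593), (8958,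 8182), (8959, 8572)]
    ⟨e3 q8896 L165264 q8602, e3 q8897 L165281 q8397, e3 q8898 L165297 q8046, e3 q8899 (flp_f L172553) q9658, e3 q8900 L165321 q8049, e3 q8901 (flp_f L171461) q9544, e3 q8902 L165349 q8263, e3 q8903 L165359 q8052, e3 q8904 (flp_f L172579) q9660, e3 q8905 L165379 q8598, e3 q8906 L165398 q8129, e3 q8907 L165414 q8569, e3 q8908 L165424 q8599, e3 q8909 L165441 q8070, e3 q8910 L165453 q8060, e3 q8911 (flp_f L172631) q9664, e3 q8912 L165480 q8062, e3 q8913 (flp_f L172675) q9667, e3 q8914 L165505 q8396, e3 q8915 L165515 q8066, e3 q8916 (flp_f L172710) q9670, e3 q8917 L165530 q8413, e3 q8918 L165540 q8069, e3 q8919 (flp_f L172735) q9673, e3 q8920 L165560 q8072, e3 q8921 (flp_f L172774) q9676, e3 q8922 L165576 q8074, e3 q8923 L165594 q8493, e3 q8924 (flp_f L172797) q9678, e3 q8925 L165609 q8076, e3 q8926 L165621 q8256, e3 q8927 L165630 q8612, e3 q8928 L165645 q8083, e3 q8929 L165662 q8096, e3 q8930 L165675 q8611, e3 q8931 L165688 q8089, e3 q8932 L165716 q8419, e3 q8933 L165726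 q8091, e3 q8934 (flp_f L171230) q9527, e3 q8935 L165745 q8414, e3 q8936 L165769 q8610, e3 q8937 L165775 q8249, e3 q8938 L165784 q8108, e3 q8939 L165802 q8739, e3 q8940 L165812 q8136, e3 q8941 (flp_f L165816) q8104, e3 q8942 L165838 q8422, e3 q8943 L165852 q8107, e3 q8944 (flp_f L172823) q9680, e3 q8945 (flp_f L165872) q8513, e3 q8946 L165881 q8427, e3 q8947 L165893 q8538, e3 q8948 L165899 q8430, e3 q8949 L165908 q8481, e3 q8950 (flp_f L169009) q9286, e3 q8951 L165931 q8116, e3 q8952 (flp_f L172883) q9686, e3 q8953 L165951 q8561, e3 q8954 L165962 q8564, e3 q8955 L165978 q8568, e3 q8956 (flp_f L170736) q9483, e3 q8957 (flp_f L171985) q9593, e3 q8958 L166018 q8182, e3 q8959 L166026 q8572, trivial⟩ (by decide +kernel)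

theorem ce_f_140 : ∀ r, r < 64 → sm gf (Qf (8960 + r)) = Qf (tab Gen.f (8960 + r)) :=
  edges_tab (sm gf) Qf (tab Gen.f) 8960 [(8960, 9547), (8961, 9564), (8962, 8578), (8963, 9679), (8964, 9530), (8965, 9537), (8966, 8238), (8967, 8601), (8968, 9433), (8969, 8252), (8970, 8607), (8971, 9539), (8972, 8240), (8973, 8154), (8974, 8156), (8975, 9391), (8976, 9112), (8977, 9703), (8978, 9056), (8979, 9704), (8980, 9451), (8981, 9711), (8982, 9453), (8983, 9125), (8984, 8158), (8985, 9716), (8986, 9457), (8987, 8161), (8988, 9719), (8989, 8166), (8990, 8167), (8991, 9480), (8992, 9721), (8993, 9467), (8994, 9498), (8995, 9503), (8996, 9470), (8997, 8171), (8998, 9729), (8999, 9730), (9000, 8173), (9001, 9733), (9002, 9476), (9003, 8176), (9004, 9089), (9005, 9462), (9006, 8186), (9007, 9519), (9008, 9463), (9009, 9464), (9010, 9692), (9011, 8183), (9012, 9551), (9013, 9743), (9014, 8185), (9015, 9746), (9016, 9738), (9017, 8188), (9018, 9577), (9019, 9582), (9020, 9490), (9021, 8191), (9022,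 9754), (9023, 9755)]
    ⟨e3 q8960 (flp_f L171503) q9547, e3 q8961 (flp_f L171681) q9564, e3 q8962 L166056 q8578, e3 q8963 (flp_f L172810) q9679, e3 q8964 (flp_f L171278) q9530, e3 q8965 (flp_f L171376) q9537, e3 q8966 L166106 q8238, e3 q8967 L166112 q8601, e3 q8968 (flp_f L170190) q9433, e3 q8969 L166133 q8252, e3 q8970 L166142 q8607, e3 q8971 (flp_f L171396) q9539, e3 q8972 L166164 q8240, e3 q8973 L166176 q8154, e3 q8974 L166189 q8156, e3 q8975 (flp_f L169922) q9391, e3 q8976 (flp_f L167455) q9112, e3 q8977 (flp_f L173083) q9703, e3 q8978 (flp_f L166943) q9056, e3 q8979 (flp_f L173090) q9704, e3 q8980 (flp_f L170329) q9451, e3 q8981 L173162 q9711, e3 q8982 (flp_f L170361) q9453, e3 q8983 (flp_f L167578) q9125, e3 q8984 (flp_f L166273) q8158, e3 q8985 (flp_f L173219) q9716, e3 q8986 (flp_f L170408) q9457, e3 q8987 L166300 q8161, e3 q8988 (flp_f L173240) q9719, e3 q8989 L166315 q8166, e3 q8990 L166323 q8167, e3 q8991 (flp_f L170696) q9480, e3 q8992 (flp_f L173259) q9721, e3 q8993 (flp_f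 L170538) q9467, e3 q8994 (flp_f L170914) q9498, e3 q8995 (flp_f L170964) q9503, e3 q8996 (flp_f L170578) q9470, e3 q8997 (flp_f L166389) q8171, e3 q8998 (flp_f L173349) q9729, e3 q8999 (flp_f L173363) q9730, e3 q9000 L166423 q8173, e3 q9001 (flp_f L173389) q9733, e3 q9002 (flp_f L170641) q9476, e3 q9003 L166449 q8176, e3 q9004 (flp_f L167252) q9089, e3 q9005 (flp_f L170471) q9462, e3 q9006 L166476 q8186, e3 q9007 (flp_f L171119) q9519, e3 q9008 (flp_f L170481) q9463, e3 q9009 (flp_f L170500) q9464, e3 q9010 (flp_f L172962) q9692, e3 q9011 (flp_f L166517) q8183, e3 q9012 (flp_f L171547) q9551, e3 q9013 (flp_f L173486) q9743, e3 q9014 L166551 q8185, e3 q9015 (flp_f L173512) q9746, e3 q9016 (flp_f L173430) q9738, e3 q9017 L166577 q8188, e3 q9018 (flp_f L171835) q9577, e3 q9019 (flp_f L171875) q9582, e3 q9020 (flp_f L170824) q9490, e3 q9021 (flp_f L166616) q8191, e3 q9022 (flp_f L173602) q9754, e3 q9023 (flp_f L173615) q9755, trivial⟩ (by decide +kernel)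

theorem ce_f_141 : ∀ r, r < 64 → sm gf (Qf (9024 + r)) = Qf (tab Gen.f (9024 + r)) :=
  edges_tab (sm gf) Qf (tab Gen.f) 9024 [(9024, 8193), (9025, 9758), (9026, 9496), (9027, 9347), (9028, 9468), (9029, 8196), (9030, 8197), (9031, 9764), (9032, 9765), (9033, 9469), (9034, 8200), (9035, 9769), (9036, 9772), (9037, 9523), (9038, 8204), (9039, 9773), (9040, 9246), (9041, 8212), (9042, 8206), (9043, 8207), (9044, 9776), (9045, 9777), (9046, 8217), (9047, 9357), (9048, 9775), (9049, 8215), (9050, 8216), (9051, 9781), (9052, 9782), (9053, 8534), (9054, 8219), (9055, 9787), (9056, 8978), (9057, 8223), (9058, 9482), (9059, 9529), (9060, 9522), (9061, 9507), (9062, 9524), (9063, 9520), (9064, 9466), (9065, 9698), (9066, 9521), (9067, 8605), (9068, 9586), (9069, 9533), (9070, 8245), (9071, 9797), (9072, 9535), (9073, 9677), (9074, 8248), (9075, 9701), (9076, 8606), (9077, 9541), (9078, 9656), (9079, 9543), (9080, 9525), (9081, 8306), (9082, 9213), (9083, 8618), (9084, 9290), (9085, 8321), (9086,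 8627), (9087, 9596)]
    ⟨e3 q9024 L166641 q8193, e3 q9025 (flp_f L173633) q9758, e3 q9026 (flp_f L170890) q9496, e3 q9027 (flp_f L169573) q9347, e3 q9028 (flp_f L170548) q9468, e3 q9029 L166679 q8196, e3 q9030 L166691 q8197, e3 q9031 (flp_f L173673) q9764, e3 q9032 (flp_f L173683) q9765, e3 q9033 (flp_f L170568) q9469, e3 q9034 L166719 q8200, e3 q9035 (flp_f L173711) q9769, e3 q9036 L173731 q9772, e3 q9037 (flp_f L171177) q9523, e3 q9038 L166743 q8204, e3 q9039 (flp_f L173739) q9773, e3 q9040 (flp_f L168619) q9246, e3 q9041 L166782 q8212, e3 q9042 L166793 q8206, e3 q9043 L166806 q8207, e3 q9044 (flp_f L173779) q9776, e3 q9045 (flp_f L173788) q9777, e3 q9046 L166834 q8217, e3 q9047 (flp_f L169652) q9357, e3 q9048 (flp_f L173766) q9775, e3 q9049 L166867 q8215, e3 q9050 L166876 q8216, e3 q9051 (flp_f L173826) q9781, e3 q9052 (flp_f L173837) q9782, e3 q9053 L166903 q8534, e3 q9054 L166914 q8219, e3 q9055 (flp_f L173894) q9787, e3 q9056 L166943 q8978, e3 q9057 L166949 q8223, e3 q9058 (flp_f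 L170718) q9482, e3 q9059 (flp_f L171259) q9529, e3 q9060 (flp_f L171163) q9522, e3 q9061 (flp_f L170996) q9507, e3 q9062 (flp_f L171189) q9524, e3 q9063 (flp_f L171129) q9520, e3 q9064 (flp_f L170522) q9466, e3 q9065 (flp_f L173022) q9698, e3 q9066 (flp_f L171144) q9521, e3 q9067 L167059 q8605, e3 q9068 (flp_f L171907) q9586, e3 q9069 (flp_f L171318) q9533, e3 q9070 L167085 q8245, e3 q9071 (flp_f L173999) q9797, e3 q9072 (flp_f L171342) q9535, e3 q9073 (flp_f L172786) q9677, e3 q9074 L167108 q8248, e3 q9075 (flp_f L173057) q9701, e3 q9076 L167132 q8606, e3 q9077 (flp_f L171420) q9541, e3 q9078 (flp_f L172527) q9656, e3 q9079 (flp_f L171442) q9543, e3 q9080 L171207 q9525, e3 q9081 L167174 q8306, e3 q9082 (flp_f L168306) q9213, e3 q9083 L167192 q8618, e3 q9084 (flp_f L169045) q9290, e3 q9085 L167214 q8321, e3 q9086 L167220 q8627, e3 q9087 (flp_f L172026) q9596, trivial⟩ (by decide +kernel)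

theorem ce_f_142 : ∀ r, r < 64 → sm gf (Qf (9088 + r)) = Qf (tab Gen.f (9088 + r)) :=
  edges_tab (sm gf) Qf (tab Gen.f) 9088 [(9088, 8275), (9089, 9004), (9090, 9809), (9091, 8277), (9092, 9812), (9093, 8343), (9094, 8862), (9095, 8280), (9096, 8281), (9097, 9816), (9098, 9817), (9099, 8283), (9100, 9820), (9101, 9822), (9102, 8529), (9103, 8883), (9104, 8289), (9105, 8290), (9106, 9824), (9107, 8512), (9108, 8300), (9109, 9825), (9110, 8302), (9111, 8308), (9112, 8976), (9113, 9214), (9114, 9802), (9115, 9210), (9116, 9827), (9117, 9550), (9118, 9834), (9119, 8310), (9120, 9837), (9121, 9553), (9122, 8312), (9123, 9841), (9124, 9842), (9125, 8983), (9126, 8314), (9127, 9846), (9128, 9559), (9129, 9203), (9130, 8318), (9131, 9850), (9132, 8319), (9133, 9549), (9134, 9806), (9135, 9614), (9136, 9619), (9137, 9569), (9138, 8324), (9139, 9859), (9140, 9860), (9141, 8326), (9142, 9863), (9143, 9575), (9144, 9840), (9145, 9488), (9146, 8329), (9147, 8330), (9148, 9868), (9149, 9869), (9150,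 9489), (9151, 8333)]
    ⟨e3 q9088 (flp_f L167234) q8275, e3 q9089 L167252 q9004, e3 q9090 (flp_f L174109) q9809, e3 q9091 L167275 q8277, e3 q9092 (flp_f L174141) q9812, e3 q9093 L167289 q8343, e3 q9094 L167299 q8862, e3 q9095 L167309 q8280, e3 q9096 L167321 q8281, e3 q9097 (flp_f L174173) q9816, e3 q9098 (flp_f L174181) q9817, e3 q9099 L167347 q8283, e3 q9100 (flp_f L174201) q9820, e3 q9101 L174207 q9822, e3 q9102 L167364 q8529, e3 q9103 L167377 q8883, e3 q9104 L167386 q8289, e3 q9105 L167393 q8290, e3 q9106 (flp_f L174229) q9824, e3 q9107 L167415 q8512, e3 q9108 L167427 q8300, e3 q9109 (flp_f L174241) q9825, e3 q9110 L167438 q8302, e3 q9111 L167445 q8308, e3 q9112 L167455 q8976, e3 q9113 (flp_f L168318) q9214, e3 q9114 (flp_f L174040) q9802, e3 q9115 (flp_f L168278) q9210, e3 q9116 (flp_f L174257) q9827, e3 q9117 (flp_f L171537) q9550, e3 q9118 L174322 q9834, e3 q9119 (flp_f L167518) q8310, e3 q9120 (flp_f L174367) q9837, e3 q9121 (flp_f L171573) q9553, e3 q9122 (flp_f L167548) q8312,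 e3 q9123 (flp_f L174415) q9841, e3 q9124 (flp_f L174427) q9842, e3 q9125 L167578 q8983, e3 q9126 L167584 q8314, e3 q9127 (flp_f L174459) q9846, e3 q9128 (flp_f L171625) q9559, e3 q9129 L168222 q9203, e3 q9130 L167608 q8318, e3 q9131 (flp_f L174477) q9850, e3 q9132 (flp_f L167616) q8319, e3 q9133 L171527 q9549, e3 q9134 (flp_f L174084) q9806, e3 q9135 (flp_f L172225) q9614, e3 q9136 (flp_f L172267) q9619, e3 q9137 (flp_f L171741) q9569, e3 q9138 (flp_f L167675) q8324, e3 q9139 (flp_f L174567) q9859, e3 q9140 (flp_f L174580) q9860, e3 q9141 L167706 q8326, e3 q9142 (flp_f L174604) q9863, e3 q9143 (flp_f L171817) q9575, e3 q9144 (flp_f L174401) q9840, e3 q9145 (flp_f L170792) q9488, e3 q9146 L167752 q8329, e3 q9147 L167764 q8330, e3 q9148 (flp_f L174650) q9868, e3 q9149 (flp_f L174658) q9869, e3 q9150 (flp_f L170812) q9489, e3 q9151 L167786 q8333, trivial⟩ (by decide +kernel)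

theorem ce_f_143 : ∀ r, r < 64 → sm gf (Qf (9152 + r)) = Qf (tab Gen.f (9152 + r)) :=
  edges_tab (sm gf) Qf (tab Gen.f) 9152 [(9152, 9873), (9153, 9875), (9154, 9532), (9155, 9172), (9156, 8358), (9157, 8338), (9158, 8339), (9159, 9878), (9160, 9879), (9161, 8363), (9162, 8342), (9163, 9883), (9164, 9885), (9165, 8367), (9166, 8346), (9167, 9887), (9168, 9888), (9169, 8348), (9170, 9891), (9171, 9612), (9172, 9155), (9173, 8631), (9174, 8351), (9175, 8352), (9176, 9896), (9177, 9897), (9178, 8636), (9179, 8355), (9180, 9901), (9181, 9904), (9182, 9401), (9183, 9877), (9184, 8361), (9185, 8362), (9186, 9907), (9187, 9908), (9188, 9882), (9189, 8365), (9190, 9913), (9191, 9917), (9192, 8366), (9193, 8369), (9194, 9485), (9195, 9255), (9196, 8382), (9197, 8374), (9198, 8375), (9199, 9921), (9200, 9922), (9201, 8387), (9202, 8378), (9203, 9129), (9204, 9416), (9205, 9920), (9206, 8385), (9207, 8386), (9208, 9684), (9209, 9929), (9210, 9115), (9211, 9925), (9212, 8389), (9213, 9082), (9214,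 9113), (9215, 9432)]
    ⟨e3 q9152 (flp_f L174680) q9873, e3 q9153 L174690 q9875, e3 q9154 (flp_f L171304) q9532, e3 q9155 (flp_f L167968) q9172, e3 q9156 L167826 q8358, e3 q9157 L167838 q8338, e3 q9158 L167850 q8339, e3 q9159 (flp_f L174726) q9878, e3 q9160 (flp_f L174736) q9879, e3 q9161 L167874 q8363, e3 q9162 L167884 q8342, e3 q9163 (flp_f L174770) q9883, e3 q9164 L174780 q9885, e3 q9165 L167902 q8367, e3 q9166 (flp_f L167906) q8346, e3 q9167 (flp_f L174808) q9887, e3 q9168 (flp_f L174822) q9888, e3 q9169 L167942 q8348, e3 q9170 (flp_f L174850) q9891, e3 q9171 (flp_f L172203) q9612, e3 q9172 L167968 q9155, e3 q9173 L167978 q8631, e3 q9174 L167990 q8351, e3 q9175 L168002 q8352, e3 q9176 (flp_f L174896) q9896, e3 q9177 (flp_f L174906) q9897, e3 q9178 L168030 q8636, e3 q9179 L168040 q8355, e3 q9180 (flp_f L174942) q9901, e3 q9181 L174958 q9904, e3 q9182 (flp_f L169982) q9401, e3 q9183 (flp_f L174714) q9877, e3 q9184 L168076 q8361, e3 q9185 L168084 q8362, e3 q9186 (flp_f L174984) q9907,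 e3 q9187 (flp_f L174992) q9908, e3 q9188 (flp_f L174762) q9882, e3 q9189 L168104 q8365, e3 q9190 (flp_f L175016) q9913, e3 q9191 L175030 q9917, e3 q9192 (flp_f L168114) q8366, e3 q9193 L168118 q8369, e3 q9194 (flp_f L170760) q9485, e3 q9195 (flp_f L168710) q9255, e3 q9196 L168145 q8382, e3 q9197 L168157 q8374, e3 q9198 L168165 q8375, e3 q9199 (flp_f L175064) q9921, e3 q9200 (flp_f L175076) q9922, e3 q9201 L168194 q8387, e3 q9202 L168206 q8378, e3 q9203 (flp_f L168222) q9129, e3 q9204 (flp_f L170070) q9416, e3 q9205 (flp_f L175052) q9920, e3 q9206 L168244 q8385, e3 q9207 L168254 q8386, e3 q9208 (flp_f L172861) q9684, e3 q9209 (flp_f L175159) q9929, e3 q9210 L168278 q9115, e3 q9211 (flp_f L175110) q9925, e3 q9212 L168294 q8389, e3 q9213 L168306 q9082, e3 q9214 L168318 q9113, e3 q9215 (flp_f L170178) q9432, trivial⟩ (by decide +kernel)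

theorem ce_f_144 : ∀ r, r < 64 → sm gf (Qf (9216 + r)) = Qf (tab Gen.f (9216 + r)) :=
  edges_tab (sm gf) Qf (tab Gen.f) 9216 [(9216, 9669), (9217, 8399), (9218, 9936), (9219, 8401), (9220, 8405), (9221, 9939), (9222, 8640), (9223, 8408), (9224, 9941), (9225, 9665), (9226, 9487), (9227, 9672), (9228, 8613), (9229, 8417), (9230, 8421), (9231, 9944), (9232, 9271), (9233, 8680), (9234, 8426), (9235, 9947), (9236, 9683), (9237, 8619), (9238, 8429), (9239, 9931), (9240, 8671), (9241, 8433), (9242, 9445), (9243, 9283), (9244, 8436), (9245, 9954), (9246, 9040), (9247, 8582), (9248, 8438), (9249, 8439), (9250, 9959), (9251, 9960), (9252, 8587), (9253, 8442), (9254, 9964), (9255, 9195), (9256, 8644), (9257, 8447), (9258, 8448), (9259, 9968), (9260, 9969), (9261, 8649), (9262, 8451), (9263, 9974), (9264, 9977), (9265, 8452), (9266, 9277), (9267, 8675), (9268, 8457), (9269, 8458), (9270, 9687), (9271, 9232), (9272, 9953), (9273, 8681), (9274, 9306), (9275, 9326), (9276, 8462), (9277, 9266), (9278,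 8478), (9279, 8469)]
    ⟨e3 q9216 (flp_f L172700) q9669, e3 q9217 L168348 q8399, e3 q9218 (flp_f L175224) q9936, e3 q9219 L168365 q8401, e3 q9220 L168376 q8405, e3 q9221 (flp_f L175257) q9939, e3 q9222 L168392 q8640, e3 q9223 L168400 q8408, e3 q9224 (flp_f L175271) q9941, e3 q9225 (flp_f L172657) q9665, e3 q9226 (flp_f L170778) q9487, e3 q9227 (flp_f L172720) q9672, e3 q9228 L168441 q8613, e3 q9229 L168456 q8417, e3 q9230 L168469 q8421, e3 q9231 (flp_f L175298) q9944, e3 q9232 (flp_f L168855) q9271, e3 q9233 L168494 q8680, e3 q9234 (flp_f L168500) q8426, e3 q9235 (flp_f L175338) q9947, e3 q9236 (flp_f L172851) q9683, e3 q9237 L168544 q8619, e3 q9238 L168553 q8429, e3 q9239 (flp_f L175179) q9931, e3 q9240 L168573 q8671, e3 q9241 L168584 q8433, e3 q9242 L170288 q9445, e3 q9243 L168975 q9283, e3 q9244 L168604 q8436, e3 q9245 (flp_f L175410) q9954, e3 q9246 L168619 q9040, e3 q9247 L168628 q8582, e3 q9248 L168639 q8438, e3 q9249 L168651 q8439, e3 q9250 (flp_f L175458) q9959, e3 q9251 (flp_f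 L175467) q9960, e3 q9252 L168680 q8587, e3 q9253 L168692 q8442, e3 q9254 (flp_f L175507) q9964, e3 q9255 L168710 q9195, e3 q9256 L168718 q8644, e3 q9257 L168729 q8447, e3 q9258 L168737 q8448, e3 q9259 (flp_f L175543) q9968, e3 q9260 (flp_f L175553) q9969, e3 q9261 L168764 q8649, e3 q9262 L168773 q8451, e3 q9263 (flp_f L175595) q9974, e3 q9264 L175616 q9977, e3 q9265 (flp_f L168792) q8452, e3 q9266 (flp_f L168909) q9277, e3 q9267 L168814 q8675, e3 q9268 L168827 q8457, e3 q9269 L168836 q8458, e3 q9270 (flp_f L172897) q9687, e3 q9271 L168855 q9232, e3 q9272 (flp_f L175401) q9953, e3 q9273 L168873 q8681, e3 q9274 (flp_f L169215) q9306, e3 q9275 (flp_f L169397) q9326, e3 q9276 (flp_f L168894) q8462, e3 q9277 L168909 q9266, e3 q9278 L168922 q8478, e3 q9279 L168935 q8469, trivial⟩ (by decide +kernel)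

theorem ce_f_145 : ∀ r, r < 64 → sm gf (Qf (9280 + r)) = Qf (tab Gen.f (9280 + r)) :=
  edges_tab (sm gf) Qf (tab Gen.f) 9280 [(9280, 8470), (9281, 9986), (9282, 9987), (9283, 9243), (9284, 8484), (9285, 8473), (9286, 8950), (9287, 9511), (9288, 9439), (9289, 9985), (9290, 9084), (9291, 8591), (9292, 8489), (9293, 9990), (9294, 8492), (9295, 9642), (9296, 9510), (9297, 8499), (9298, 9992), (9299, 8809), (9300, 8540), (9301, 8501), (9302, 9994), (9303, 8506), (9304, 8510), (9305, 9682), (9306, 9274), (9307, 8652), (9308, 8528), (9309, 8521), (9310, 8522), (9311, 9998), (9312, 9999), (9313, 8524), (9314, 10002), (9315, 8527), (9316, 10004), (9317, 9997), (9318, 9786), (9319, 8532), (9320, 8533), (9321, 10009), (9322, 9552), (9323, 8683), (9324, 8685), (9325, 8549), (9326, 9275), (9327, 10011), (9328, 8554), (9329, 9331), (9330, 9589), (9331, 9329), (9332, 8560), (9333, 10016), (9334, 9688), (9335, 8563), (9336, 10019), (9337, 9590), (9338, 9452), (9339, 9594), (9340, 9595), (9341, 9689),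 (9342, 9662), (9343, 9454)]
    ⟨e3 q9280 L168944 q8470, e3 q9281 (flp_f L175717) q9986, e3 q9282 (flp_f L175728) q9987, e3 q9283 (flp_f L168975) q9243, e3 q9284 L168980 q8484, e3 q9285 L168993 q8473, e3 q9286 L169009 q8950, e3 q9287 (flp_f L171045) q9511, e3 q9288 (flp_f L170237) q9439, e3 q9289 (flp_f L175702) q9985, e3 q9290 L169045 q9084, e3 q9291 L169056 q8591, e3 q9292 L169067 q8489, e3 q9293 (flp_f L175763) q9990, e3 q9294 L169079 q8492, e3 q9295 (flp_f L172428) q9642, e3 q9296 (flp_f L171030) q9510, e3 q9297 L169105 q8499, e3 q9298 (flp_f L175780) q9992, e3 q9299 L169125 q8809, e3 q9300 L169141 q8540, e3 q9301 L169153 q8501, e3 q9302 (flp_f L175804) q9994, e3 q9303 L169179 q8506, e3 q9304 L169194 q8510, e3 q9305 (flp_f L172842) q9682, e3 q9306 L169215 q9274, e3 q9307 L169228 q8652, e3 q9308 L169243 q8528, e3 q9309 L169254 q8521, e3 q9310 L169266 q8522, e3 q9311 (flp_f L175854) q9998, e3 q9312 (flp_f L175863) q9999, e3 q9313 L169289 q8524, e3 q9314 (flp_f L175888) q10002, e3 q9315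 L169306 q8527, e3 q9316 (flp_f L175904) q10004, e3 q9317 (flp_f L175842) q9997, e3 q9318 (flp_f L173880) q9786, e3 q9319 L169336 q8532, e3 q9320 L169343 q8533, e3 q9321 (flp_f L175945) q10009, e3 q9322 (flp_f L171565) q9552, e3 q9323 L169359 q8683, e3 q9324 L169373 q8685, e3 q9325 L169382 q8549, e3 q9326 L169397 q9275, e3 q9327 (flp_f L175966) q10011, e3 q9328 L169408 q8554, e3 q9329 L169439 q9331, e3 q9330 (flp_f L171936) q9589, e3 q9331 (flp_f L169439) q9329, e3 q9332 (flp_f L169441) q8560, e3 q9333 (flp_f L176015) q10016, e3 q9334 (flp_f L172912) q9688, e3 q9335 L169479 q8563, e3 q9336 (flp_f L176042) q10019, e3 q9337 (flp_f L171948) q9590, e3 q9338 L170352 q9452, e3 q9339 (flp_f L172002) q9594, e3 q9340 (flp_f L172016) q9595, e3 q9341 (flp_f L172922) q9689, e3 q9342 (flp_f L172603) q9662, e3 q9343 L170376 q9454, trivial⟩ (by decide +kernel)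

theorem ce_f_146 : ∀ r, r < 64 → sm gf (Qf (9344 + r)) = Qf (tab Gen.f (9344 + r)) :=
  edges_tab (sm gf) Qf (tab Gen.f) 9344 [(9344, 9565), (9345, 9566), (9346, 9693), (9347, 9027), (9348, 8574), (9349, 8575), (9350, 10033), (9351, 10034), (9352, 8577), (9353, 10037), (9354, 10040), (9355, 8580), (9356, 10041), (9357, 9047), (9358, 9958), (9359, 8585), (9360, 8586), (9361, 10045), (9362, 10046), (9363, 9963), (9364, 8589), (9365, 10051), (9366, 8892), (9367, 8593), (9368, 9800), (9369, 9592), (9370, 9674), (9371, 9663), (9372, 9568), (9373, 9699), (9374, 10061), (9375, 9657), (9376, 9938), (9377, 8603), (9378, 9794), (9379, 8608), (9380, 10054), (9381, 8615), (9382, 9709), (9383, 10064), (9384, 9714), (9385, 8617), (9386, 10068), (9387, 9804), (9388, 9949), (9389, 8621), (9390, 10072), (9391, 8975), (9392, 8623), (9393, 8624), (9394, 10075), (9395, 10076), (9396, 8626), (9397, 10079), (9398, 10082), (9399, 8629), (9400, 10083), (9401, 9182), (9402, 9895), (9403, 8634), (9404, 8635), (9405,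 10086), (9406, 10087), (9407, 9900)]
    ⟨e3 q9344 (flp_f L171694) q9565, e3 q9345 (flp_f L171706) q9566, e3 q9346 (flp_f L172968) q9693, e3 q9347 L169573 q9027, e3 q9348 L169581 q8574, e3 q9349 L169591 q8575, e3 q9350 (flp_f L176139) q10033, e3 q9351 (flp_f L176147) q10034, e3 q9352 L169615 q8577, e3 q9353 (flp_f L176169) q10037, e3 q9354 L176183 q10040, e3 q9355 L169633 q8580, e3 q9356 (flp_f L176193) q10041, e3 q9357 L169652 q9047, e3 q9358 (flp_f L175446) q9958, e3 q9359 L169669 q8585, e3 q9360 L169676 q8586, e3 q9361 (flp_f L176226) q10045, e3 q9362 (flp_f L176235) q10046, e3 q9363 (flp_f L175497) q9963, e3 q9364 L169711 q8589, e3 q9365 (flp_f L176284) q10051, e3 q9366 L169733 q8892, e3 q9367 L169739 q8593, e3 q9368 (flp_f L174028) q9800, e3 q9369 (flp_f L171968) q9592, e3 q9370 (flp_f L172759) q9674, e3 q9371 (flp_f L172618) q9663, e3 q9372 (flp_f L171724) q9568, e3 q9373 (flp_f L173032) q9699, e3 q9374 L176350 q10061, e3 q9375 (flp_f L172536) q9657, e3 q9376 (flp_f L175249) q9938,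 e3 q9377 (flp_f L169797) q8603, e3 q9378 (flp_f L173974) q9794, e3 q9379 L169812 q8608, e3 q9380 (flp_f L176312) q10054, e3 q9381 (flp_f L169822) q8615, e3 q9382 (flp_f L173149) q9709, e3 q9383 (flp_f L176380) q10064, e3 q9384 (flp_f L173195) q9714, e3 q9385 L169869 q8617, e3 q9386 (flp_f L176416) q10068, e3 q9387 (flp_f L174058) q9804, e3 q9388 (flp_f L175362) q9949, e3 q9389 L169900 q8621, e3 q9390 (flp_f L176444) q10072, e3 q9391 L169922 q8975, e3 q9392 L169927 q8623, e3 q9393 L169936 q8624, e3 q9394 (flp_f L176474) q10075, e3 q9395 (flp_f L176479) q10076, e3 q9396 L169950 q8626, e3 q9397 (flp_f L176492) q10079, e3 q9398 L176508 q10082, e3 q9399 L169966 q8629, e3 q9400 (flp_f L176514) q10083, e3 q9401 L169982 q9182, e3 q9402 (flp_f L174884) q9895, e3 q9403 L169996 q8634, e3 q9404 L170002 q8635, e3 q9405 (flp_f L176537) q10086, e3 q9406 (flp_f L176543) q10087, e3 q9407 (flp_f L174934) q9900, trivial⟩ (by decide +kernel)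

theorem ce_f_147 : ∀ r, r < 64 → sm gf (Qf (9408 + r)) = Qf (tab Gen.f (9408 + r)) :=
  edges_tab (sm gf) Qf (tab Gen.f) 9408 [(9408, 8638), (9409, 10092), (9410, 10096), (9411, 8639), (9412, 9538), (9413, 8642), (9414, 9531), (9415, 10099), (9416, 9204), (9417, 9967), (9418, 8647), (9419, 8648), (9420, 10104), (9421, 10105), (9422, 9830), (9423, 9973), (9424, 8651), (9425, 8746), (9426, 10112), (9427, 9996), (9428, 9518), (9429, 8656), (9430, 9540), (9431, 9542), (9432, 9215), (9433, 8968), (9434, 8667), (9435, 9536), (9436, 9951), (9437, 8673), (9438, 10120), (9439, 9288), (9440, 9979), (9441, 8678), (9442, 8679), (9443, 9945), (9444, 10123), (9445, 9242), (9446, 10125), (9447, 9946), (9448, 8684), (9449, 9651), (9450, 10010), (9451, 8980), (9452, 9338), (9453, 8982), (9454, 9343), (9455, 8691), (9456, 10135), (9457, 8986), (9458, 8694), (9459, 10138), (9460, 8700), (9461, 8702), (9462, 9005), (9463, 9008), (9464, 9009), (9465, 10140), (9466, 9064), (9467, 8993), (9468, 9028), (9469,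 9033), (9470, 8996), (9471, 8706)]
    ⟨e3 q9408 L170024 q8638, e3 q9409 (flp_f L176569) q10092, e3 q9410 L176583 q10096, e3 q9411 (flp_f L170034) q8639, e3 q9412 (flp_f L171384) q9538, e3 q9413 L170048 q8642, e3 q9414 (flp_f L171288) q9531, e3 q9415 (flp_f L176599) q10099, e3 q9416 L170070 q9204, e3 q9417 (flp_f L175531) q9967, e3 q9418 L170082 q8647, e3 q9419 L170090 q8648, e3 q9420 (flp_f L176641) q10104, e3 q9421 (flp_f L176648) q10105, e3 q9422 (flp_f L174285) q9830, e3 q9423 (flp_f L175588) q9973, e3 q9424 L170122 q8651, e3 q9425 L170136 q8746, e3 q9426 (flp_f L176703) q10112, e3 q9427 (flp_f L175829) q9996, e3 q9428 (flp_f L171104) q9518, e3 q9429 L170157 q8656, e3 q9430 (flp_f L171407) q9540, e3 q9431 L171436 q9542, e3 q9432 L170178 q9215, e3 q9433 L170190 q8968, e3 q9434 L170199 q8667, e3 q9435 L171360 q9536, e3 q9436 (flp_f L175382) q9951, e3 q9437 L170223 q8673, e3 q9438 (flp_f L176795) q10120, e3 q9439 L170237 q9288, e3 q9440 (flp_f L175638) q9979, e3 q9441 L170251 q8678, e3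 q9442 L170259 q8679, e3 q9443 (flp_f L175309) q9945, e3 q9444 (flp_f L176824) q10123, e3 q9445 (flp_f L170288) q9242, e3 q9446 (flp_f L176851) q10125, e3 q9447 (flp_f L175322) q9946, e3 q9448 L170307 q8684, e3 q9449 (flp_f L172483) q9651, e3 q9450 (flp_f L175956) q10010, e3 q9451 L170329 q8980, e3 q9452 (flp_f L170352) q9338, e3 q9453 L170361 q8982, e3 q9454 (flp_f L170376) q9343, e3 q9455 (flp_f L170378) q8691, e3 q9456 (flp_f L176956) q10135, e3 q9457 L170408 q8986, e3 q9458 L170418 q8694, e3 q9459 (flp_f L176987) q10138, e3 q9460 L170441 q8700, e3 q9461 L170453 q8702, e3 q9462 L170471 q9005, e3 q9463 L170481 q9008, e3 q9464 L170500 q9009, e3 q9465 (flp_f L177013) q10140, e3 q9466 L170522 q9064, e3 q9467 L170538 q8993, e3 q9468 L170548 q9028, e3 q9469 L170568 q9033, e3 q9470 L170578 q8996, e3 q9471 (flp_f L170582) q8706, trivial⟩ (by decide +kernel)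

theorem ce_f_148 : ∀ r, r < 64 → sm gf (Qf (9472 + r)) = Qf (tab Gen.f (9472 + r)) :=
  edges_tab (sm gf) Qf (tab Gen.f) 9472 [(9472, 9753), (9473, 10150), (9474, 8708), (9475, 10153), (9476, 9002), (9477, 8711), (9478, 10156), (9479, 8718), (9480, 8991), (9481, 8720), (9482, 9058), (9483, 8956), (9484, 10158), (9485, 9194), (9486, 10160), (9487, 9226), (9488, 9145), (9489, 9150), (9490, 9020), (9491, 8724), (9492, 9497), (9493, 10170), (9494, 8726), (9495, 10172), (9496, 9026), (9497, 9492), (9498, 8994), (9499, 8729), (9500, 8730), (9501, 10177), (9502, 10178), (9503, 8995), (9504, 8733), (9505, 10182), (9506, 10185), (9507, 9061), (9508, 8737), (9509, 10186), (9510, 9296), (9511, 9287), (9512, 8743), (9513, 8744), (9514, 10189), (9515, 10106), (9516, 10113), (9517, 8748), (9518, 9428), (9519, 9007), (9520, 9063), (9521, 9066), (9522, 9060), (9523, 9037), (9524, 9062), (9525, 9080), (9526, 8759), (9527, 8934), (9528, 8764), (9529, 9059), (9530, 8964), (9531, 9414), (9532, 9154), (9533,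 9069), (9534, 8770), (9535, 9072)]
    ⟨e3 q9472 (flp_f L173589) q9753, e3 q9473 (flp_f L177156) q10150, e3 q9474 L170623 q8708, e3 q9475 (flp_f L177188) q10153, e3 q9476 L170641 q9002, e3 q9477 L170655 q8711, e3 q9478 (flp_f L177214) q10156, e3 q9479 L170682 q8718, e3 q9480 L170696 q8991, e3 q9481 L170706 q8720, e3 q9482 L170718 q9058, e3 q9483 L170736 q8956, e3 q9484 (flp_f L177242) q10158, e3 q9485 L170760 q9194, e3 q9486 (flp_f L177268) q10160, e3 q9487 L170778 q9226, e3 q9488 L170792 q9145, e3 q9489 L170812 q9150, e3 q9490 L170824 q9020, e3 q9491 (flp_f L170826) q8724, e3 q9492 (flp_f L170900) q9497, e3 q9493 (flp_f L177393) q10170, e3 q9494 L170872 q8726, e3 q9495 (flp_f L177415) q10172, e3 q9496 L170890 q9026, e3 q9497 L170900 q9492, e3 q9498 L170914 q8994, e3 q9499 L170926 q8729, e3 q9500 L170936 q8730, e3 q9501 (flp_f L177465) q10177, e3 q9502 (flp_f L177473) q10178, e3 q9503 L170964 q8995, e3 q9504 L170976 q8733, e3 q9505 (flp_f L177513) q10182, e3 q9506 L177527 q10185, e3 q9507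 L170996 q9061, e3 q9508 L171010 q8737, e3 q9509 (flp_f L177539) q10186, e3 q9510 L171030 q9296, e3 q9511 L171045 q9287, e3 q9512 L171056 q8743, e3 q9513 L171062 q8744, e3 q9514 (flp_f L177577) q10189, e3 q9515 (flp_f L176662) q10106, e3 q9516 (flp_f L176721) q10113, e3 q9517 L171093 q8748, e3 q9518 L171104 q9428, e3 q9519 L171119 q9007, e3 q9520 L171129 q9063, e3 q9521 L171144 q9066, e3 q9522 L171163 q9060, e3 q9523 L171177 q9037, e3 q9524 L171189 q9062, e3 q9525 (flp_f L171207) q9080, e3 q9526 L171213 q8759, e3 q9527 L171230 q8934, e3 q9528 L171247 q8764, e3 q9529 L171259 q9059, e3 q9530 L171278 q8964, e3 q9531 L171288 q9414, e3 q9532 L171304 q9154, e3 q9533 L171318 q9069, e3 q9534 L171332 q8770, e3 q9535 L171342 q9072, trivial⟩ (by decide +kernel)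

theorem ce_f_149 : ∀ r, r < 64 → sm gf (Qf (9536 + r)) = Qf (tab Gen.f (9536 + r)) :=
  edges_tab (sm gf) Qf (tab Gen.f) 9536 [(9536, 9435), (9537, 8965), (9538, 9412), (9539, 8971), (9540, 9430), (9541, 9077), (9542, 9431), (9543, 9079), (9544, 8901), (9545, 8800), (9546, 8801), (9547, 8960), (9548, 10204), (9549, 9133), (9550, 9117), (9551, 9012), (9552, 9322), (9553, 9121), (9554, 8805), (9555, 10212), (9556, 9728), (9557, 8807), (9558, 10215), (9559, 9128), (9560, 9926), (9561, 8811), (9562, 10219), (9563, 8817), (9564, 8961), (9565, 9344), (9566, 9345), (9567, 10221), (9568, 9372), (9569, 9137), (9570, 8820), (9571, 9886), (9572, 10228), (9573, 8822), (9574, 10231), (9575, 9143), (9576, 9749), (9577, 9018), (9578, 8825), (9579, 8826), (9580, 10236), (9581, 10237), (9582, 9019), (9583, 8829), (9584, 10241), (9585, 10244), (9586, 9068), (9587, 8833), (9588, 10245), (9589, 9330), (9590, 9337), (9591, 8847), (9592, 9369), (9593, 8957), (9594, 9339), (9595, 9340), (9596, 9087), (9597, 8863),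 (9598, 8843), (9599, 10256)]
    ⟨e3 q9536 (flp_f L171360) q9435, e3 q9537 L171376 q8965, e3 q9538 L171384 q9412, e3 q9539 L171396 q8971, e3 q9540 L171407 q9430, e3 q9541 L171420 q9077, e3 q9542 (flp_f L171436) q9431, e3 q9543 L171442 q9079, e3 q9544 L171461 q8901, e3 q9545 L171479 q8800, e3 q9546 L171487 q8801, e3 q9547 L171503 q8960, e3 q9548 (flp_f L177768) q10204, e3 q9549 (flp_f L171527) q9133, e3 q9550 L171537 q9117, e3 q9551 L171547 q9012, e3 q9552 L171565 q9322, e3 q9553 L171573 q9121, e3 q9554 (flp_f L171575) q8805, e3 q9555 (flp_f L177865) q10212, e3 q9556 (flp_f L173335) q9728, e3 q9557 L171615 q8807, e3 q9558 (flp_f L177894) q10215, e3 q9559 L171625 q9128, e3 q9560 (flp_f L175129) q9926, e3 q9561 L171646 q8811, e3 q9562 (flp_f L177922) q10219, e3 q9563 L171665 q8817, e3 q9564 L171681 q8961, e3 q9565 L171694 q9344, e3 q9566 L171706 q9345, e3 q9567 (flp_f L177938) q10221, e3 q9568 L171724 q9372, e3 q9569 L171741 q9137, e3 q9570 (flp_f L171747) q8820, e3 q9571 (flp_f L174794) q9886,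 e3 q9572 (flp_f L178018) q10228, e3 q9573 L171795 q8822, e3 q9574 (flp_f L178056) q10231, e3 q9575 L171817 q9143, e3 q9576 (flp_f L173541) q9749, e3 q9577 L171835 q9018, e3 q9578 L171844 q8825, e3 q9579 L171855 q8826, e3 q9580 (flp_f L178105) q10236, e3 q9581 (flp_f L178112) q10237, e3 q9582 L171875 q9019, e3 q9583 L171885 q8829, e3 q9584 (flp_f L178141) q10241, e3 q9585 L178157 q10244, e3 q9586 L171907 q9068, e3 q9587 L171917 q8833, e3 q9588 (flp_f L178167) q10245, e3 q9589 L171936 q9330, e3 q9590 L171948 q9337, e3 q9591 L171958 q8847, e3 q9592 L171968 q9369, e3 q9593 L171985 q8957, e3 q9594 L172002 q9339, e3 q9595 L172016 q9340, e3 q9596 L172026 q9087, e3 q9597 L172044 q8863, e3 q9598 L172056 q8843, e3 q9599 (flp_f L178294) q10256, trivial⟩ (by decide +kernel)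

theorem ce_f_150 : ∀ r, r < 64 → sm gf (Qf (9600 + r)) = Qf (tab Gen.f (9600 + r)) :=
  edges_tab (sm gf) Qf (tab Gen.f) 9600 [(9600, 8868), (9601, 8846), (9602, 10259), (9603, 10262), (9604, 8872), (9605, 8850), (9606, 10263), (9607, 8851), (9608, 9613), (9609, 10266), (9610, 8853), (9611, 10269), (9612, 9171), (9613, 9608), (9614, 9135), (9615, 8856), (9616, 8857), (9617, 10274), (9618, 10275), (9619, 9136), (9620, 8860), (9621, 10279), (9622, 10282), (9623, 9815), (9624, 10255), (9625, 8866), (9626, 8867), (9627, 10285), (9628, 10286), (9629, 10258), (9630, 8870), (9631, 10291), (9632, 10295), (9633, 8871), (9634, 8874), (9635, 10297), (9636, 8884), (9637, 8877), (9638, 10300), (9639, 8880), (9640, 10302), (9641, 8882), (9642, 9295), (9643, 10305), (9644, 9823), (9645, 10299), (9646, 8887), (9647, 8888), (9648, 10308), (9649, 10309), (9650, 10049), (9651, 9449), (9652, 8891), (9653, 10314), (9654, 10053), (9655, 8894), (9656, 9078), (9657, 9375), (9658, 8899), (9659, 10202), (9660, 8904),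 (9661, 10319), (9662, 9342), (9663, 9371)]
    ⟨e3 q9600 L172074 q8868, e3 q9601 L172088 q8846, e3 q9602 (flp_f L178324) q10259, e3 q9603 L178340 q10262, e3 q9604 L172110 q8872, e3 q9605 L172124 q8850, e3 q9606 (flp_f L178348) q10263, e3 q9607 (flp_f L172140) q8851, e3 q9608 (flp_f L172212) q9613, e3 q9609 (flp_f L178391) q10266, e3 q9610 L172183 q8853, e3 q9611 (flp_f L178425) q10269, e3 q9612 L172203 q9171, e3 q9613 L172212 q9608, e3 q9614 L172225 q9135, e3 q9615 L172236 q8856, e3 q9616 L172245 q8857, e3 q9617 (flp_f L178476) q10274, e3 q9618 (flp_f L178483) q10275, e3 q9619 L172267 q9136, e3 q9620 L172279 q8860, e3 q9621 (flp_f L178518) q10279, e3 q9622 L178530 q10282, e3 q9623 (flp_f L174161) q9815, e3 q9624 (flp_f L178282) q10255, e3 q9625 L172309 q8866, e3 q9626 L172315 q8867, e3 q9627 (flp_f L178552) q10285, e3 q9628 (flp_f L178558) q10286, e3 q9629 (flp_f L178312) q10258, e3 q9630 L172337 q8870, e3 q9631 (flp_f L178582) q10291, e3 q9632 L178600 q10295, e3 q9633 (flp_f L172347) q8871,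 e3 q9634 L172355 q8874, e3 q9635 (flp_f L178614) q10297, e3 q9636 L172374 q8884, e3 q9637 L172383 q8877, e3 q9638 (flp_f L178650) q10300, e3 q9639 L172397 q8880, e3 q9640 (flp_f L178666) q10302, e3 q9641 L172413 q8882, e3 q9642 L172428 q9295, e3 q9643 (flp_f L178692) q10305, e3 q9644 (flp_f L174220) q9823, e3 q9645 (flp_f L178639) q10299, e3 q9646 L172452 q8887, e3 q9647 L172459 q8888, e3 q9648 (flp_f L178730) q10308, e3 q9649 (flp_f L178737) q10309, e3 q9650 (flp_f L176266) q10049, e3 q9651 L172483 q9449, e3 q9652 L172490 q8891, e3 q9653 (flp_f L178773) q10314, e3 q9654 (flp_f L176306) q10053, e3 q9655 L172512 q8894, e3 q9656 L172527 q9078, e3 q9657 L172536 q9375, e3 q9658 L172553 q8899, e3 q9659 (flp_f L177737) q10202, e3 q9660 L172579 q8904, e3 q9661 (flp_f L178832) q10319, e3 q9662 L172603 q9342, e3 q9663 L172618 q9371, trivial⟩ (by decide +kernel)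

theorem ce_f_151 : ∀ r, r < 64 → sm gf (Qf (9664 + r)) = Qf (tab Gen.f (9664 + r)) :=
  edges_tab (sm gf) Qf (tab Gen.f) 9664 [(9664, 8911), (9665, 9225), (9666, 10323), (9667, 8913), (9668, 10198), (9669, 9216), (9670, 8916), (9671, 10326), (9672, 9227), (9673, 8919), (9674, 9370), (9675, 10320), (9676, 8921), (9677, 9073), (9678, 8924), (9679, 8963), (9680, 8944), (9681, 10124), (9682, 9305), (9683, 9236), (9684, 9208), (9685, 9988), (9686, 8952), (9687, 9270), (9688, 9334), (9689, 9341), (9690, 10162), (9691, 10251), (9692, 9010), (9693, 9346), (9694, 10205), (9695, 10222), (9696, 10341), (9697, 10118), (9698, 9065), (9699, 9373), (9700, 10116), (9701, 9075), (9702, 10193), (9703, 8977), (9704, 8979), (9705, 10074), (9706, 9788), (9707, 10345), (9708, 9785), (9709, 9382), (9710, 10131), (9711, 8981), (9712, 10351), (9713, 10133), (9714, 9384), (9715, 9845), (9716, 8985), (9717, 10356), (9718, 10137), (9719, 8988), (9720, 10359), (9721, 8992), (9722, 10159), (9723, 10361), (9724, 10146),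 (9725, 10176), (9726, 10181), (9727, 10149)]
    ⟨e3 q9664 L172631 q8911, e3 q9665 L172657 q9225, e3 q9666 (flp_f L178890) q10323, e3 q9667 L172675 q8913, e3 q9668 (flp_f L177684) q10198, e3 q9669 L172700 q9216, e3 q9670 L172710 q8916, e3 q9671 (flp_f L178926) q10326, e3 q9672 L172720 q9227, e3 q9673 L172735 q8919, e3 q9674 L172759 q9370, e3 q9675 (flp_f L178847) q10320, e3 q9676 L172774 q8921, e3 q9677 L172786 q9073, e3 q9678 L172797 q8924, e3 q9679 L172810 q8963, e3 q9680 L172823 q8944, e3 q9681 (flp_f L176845) q10124, e3 q9682 L172842 q9305, e3 q9683 L172851 q9236, e3 q9684 L172861 q9208, e3 q9685 (flp_f L175749) q9988, e3 q9686 L172883 q8952, e3 q9687 L172897 q9270, e3 q9688 L172912 q9334, e3 q9689 L172922 q9341, e3 q9690 (flp_f L177299) q10162, e3 q9691 (flp_f L178227) q10251, e3 q9692 L172962 q9010, e3 q9693 L172968 q9346, e3 q9694 (flp_f L177780) q10205, e3 q9695 (flp_f L177952) q10222, e3 q9696 L179093 q10341, e3 q9697 (flp_f L176774) q10118, e3 q9698 L173022 q9065, e3 q9699 L173032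 q9373, e3 q9700 (flp_f L176745) q10116, e3 q9701 L173057 q9075, e3 q9702 (flp_f L177617) q10193, e3 q9703 L173083 q8977, e3 q9704 L173090 q8979, e3 q9705 (flp_f L176465) q10074, e3 q9706 (flp_f L173916) q9788, e3 q9707 (flp_f L179148) q10345, e3 q9708 (flp_f L173873) q9785, e3 q9709 L173149 q9382, e3 q9710 (flp_f L176903) q10131, e3 q9711 (flp_f L173162) q8981, e3 q9712 (flp_f L179214) q10351, e3 q9713 (flp_f L176927) q10133, e3 q9714 L173195 q9384, e3 q9715 (flp_f L174451) q9845, e3 q9716 L173219 q8985, e3 q9717 (flp_f L179261) q10356, e3 q9718 (flp_f L176974) q10137, e3 q9719 L173240 q8988, e3 q9720 (flp_f L179278) q10359, e3 q9721 L173259 q8992, e3 q9722 (flp_f L177258) q10159, e3 q9723 (flp_f L179296) q10361, e3 q9724 (flp_f L177101) q10146, e3 q9725 (flp_f L177451) q10176, e3 q9726 (flp_f L177503) q10181, e3 q9727 (flp_f L177143) q10149, trivial⟩ (by decide +kernel)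

theorem ce_f_152 : ∀ r, r < 64 → sm gf (Qf (9728 + r)) = Qf (tab Gen.f (9728 + r)) :=
  edges_tab (sm gf) Qf (tab Gen.f) 9728 [(9728, 9556), (9729, 8998), (9730, 8999), (9731, 10370), (9732, 10371), (9733, 9001), (9734, 10374), (9735, 10376), (9736, 9810), (9737, 10141), (9738, 9016), (9739, 10194), (9740, 10142), (9741, 10143), (9742, 10336), (9743, 9013), (9744, 10209), (9745, 10385), (9746, 9015), (9747, 10388), (9748, 10390), (9749, 9576), (9750, 10235), (9751, 10240), (9752, 10169), (9753, 9472), (9754, 9022), (9755, 9023), (9756, 10397), (9757, 10398), (9758, 9025), (9759, 10401), (9760, 10174), (9761, 10405), (9762, 10032), (9763, 10147), (9764, 9031), (9765, 9032), (9766, 10408), (9767, 10409), (9768, 10148), (9769, 9035), (9770, 10414), (9771, 10417), (9772, 9036), (9773, 9039), (9774, 9957), (9775, 9048), (9776, 9044), (9777, 9045), (9778, 10421), (9779, 10043), (9780, 10420), (9781, 9051), (9782, 9052), (9783, 10329), (9784, 10423), (9785, 9708), (9786, 9318), (9787, 9055), (9788,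 9706), (9789, 10161), (9790, 10195), (9791, 10196)]
    ⟨e3 q9728 L173335 q9556, e3 q9729 L173349 q8998, e3 q9730 L173363 q8999, e3 q9731 (flp_f L179388) q10370, e3 q9732 (flp_f L179398) q10371, e3 q9733 L173389 q9001, e3 q9734 (flp_f L179424) q10374, e3 q9735 L179442 q10376, e3 q9736 (flp_f L174122) q9810, e3 q9737 (flp_f L177029) q10141, e3 q9738 L173430 q9016, e3 q9739 (flp_f L177630) q10194, e3 q9740 (flp_f L177046) q10142, e3 q9741 (flp_f L177060) q10143, e3 q9742 (flp_f L179049) q10336, e3 q9743 L173486 q9013, e3 q9744 (flp_f L177832) q10209, e3 q9745 (flp_f L179515) q10385, e3 q9746 L173512 q9015, e3 q9747 (flp_f L179541) q10388, e3 q9748 L179559 q10390, e3 q9749 L173541 q9576, e3 q9750 (flp_f L178094) q10235, e3 q9751 (flp_f L178133) q10240, e3 q9752 (flp_f L177381) q10169, e3 q9753 L173589 q9472, e3 q9754 L173602 q9022, e3 q9755 L173615 q9023, e3 q9756 (flp_f L179639) q10397, e3 q9757 (flp_f L179648) q10398, e3 q9758 L173633 q9025, e3 q9759 (flp_f L179667) q10401, e3 q9760 (flp_f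 L177431) q10174, e3 q9761 L179687 q10405, e3 q9762 (flp_f L176131) q10032, e3 q9763 (flp_f L177119) q10147, e3 q9764 L173673 q9031, e3 q9765 L173683 q9032, e3 q9766 (flp_f L179717) q10408, e3 q9767 (flp_f L179727) q10409, e3 q9768 (flp_f L177133) q10148, e3 q9769 L173711 q9035, e3 q9770 (flp_f L179765) q10414, e3 q9771 L179791 q10417, e3 q9772 (flp_f L173731) q9036, e3 q9773 L173739 q9039, e3 q9774 (flp_f L175437) q9957, e3 q9775 L173766 q9048, e3 q9776 L173779 q9044, e3 q9777 L173788 q9045, e3 q9778 (flp_f L179834) q10421, e3 q9779 (flp_f L176210) q10043, e3 q9780 (flp_f L179819) q10420, e3 q9781 L173826 q9051, e3 q9782 L173837 q9052, e3 q9783 (flp_f L178960) q10329, e3 q9784 (flp_f L179863) q10423, e3 q9785 L173873 q9708, e3 q9786 L173880 q9318, e3 q9787 L173894 q9055, e3 q9788 L173916 q9706, e3 q9789 (flp_f L177280) q10161, e3 q9790 (flp_f L177645) q10195, e3 q9791 (flp_f L177656) q10196, trivial⟩ (by decide +kernel)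

theorem ce_f_153 : ∀ r, r < 64 → sm gf (Qf (9792 + r)) = Qf (tab Gen.f (9792 + r)) :=
  edges_tab (sm gf) Qf (tab Gen.f) 9792 [(9792, 10145), (9793, 10343), (9794, 9378), (9795, 10197), (9796, 10200), (9797, 9071), (9798, 10432), (9799, 10298), (9800, 9368), (9801, 10315), (9802, 9114), (9803, 9932), (9804, 9387), (9805, 9981), (9806, 9134), (9807, 10441), (9808, 10442), (9809, 9090), (9810, 9736), (9811, 10443), (9812, 9092), (9813, 10446), (9814, 10449), (9815, 9623), (9816, 9097), (9817, 9098), (9818, 10451), (9819, 10452), (9820, 9100), (9821, 10456), (9822, 9101), (9823, 9644), (9824, 9106), (9825, 9109), (9826, 10458), (9827, 9116), (9828, 9933), (9829, 10436), (9830, 9422), (9831, 9835), (9832, 10459), (9833, 10208), (9834, 9118), (9835, 9831), (9836, 10466), (9837, 9120), (9838, 10469), (9839, 10211), (9840, 9144), (9841, 9123), (9842, 9124), (9843, 10473), (9844, 10474), (9845, 9715), (9846, 9127), (9847, 10478), (9848, 10481), (9849, 9924), (9850, 9131), (9851, 10483), (9852,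 10207), (9853, 10486), (9854, 9858), (9855, 10273)]
    ⟨e3 q9792 (flp_f L177082) q10145, e3 q9793 (flp_f L179123) q10343, e3 q9794 L173974 q9378, e3 q9795 L177676 q10197, e3 q9796 (flp_f L177711) q10200, e3 q9797 L173999 q9071, e3 q9798 (flp_f L179964) q10432, e3 q9799 (flp_f L178630) q10298, e3 q9800 L174028 q9368, e3 q9801 (flp_f L178786) q10315, e3 q9802 L174040 q9114, e3 q9803 (flp_f L175183) q9932, e3 q9804 L174058 q9387, e3 q9805 (flp_f L175664) q9981, e3 q9806 L174084 q9134, e3 q9807 L180036 q10441, e3 q9808 L180044 q10442, e3 q9809 L174109 q9090, e3 q9810 L174122 q9736, e3 q9811 (flp_f L180055) q10443, e3 q9812 L174141 q9092, e3 q9813 (flp_f L180084) q10446, e3 q9814 L180096 q10449, e3 q9815 L174161 q9623, e3 q9816 L174173 q9097, e3 q9817 L174181 q9098, e3 q9818 (flp_f L180120) q10451, e3 q9819 (flp_f L180128) q10452, e3 q9820 L174201 q9100, e3 q9821 L180152 q10456, e3 q9822 (flp_f L174207) q9101, e3 q9823 L174220 q9644, e3 q9824 L174229 q9106, e3 q9825 L174241 q9109, e3 q9826 (flp_f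 L180166) q10458, e3 q9827 L174257 q9116, e3 q9828 (flp_f L175195) q9933, e3 q9829 (flp_f L179994) q10436, e3 q9830 L174285 q9422, e3 q9831 (flp_f L174342) q9835, e3 q9832 (flp_f L180179) q10459, e3 q9833 (flp_f L177816) q10208, e3 q9834 (flp_f L174322) q9118, e3 q9835 L174342 q9831, e3 q9836 (flp_f L180251) q10466, e3 q9837 L174367 q9120, e3 q9838 (flp_f L180287) q10469, e3 q9839 (flp_f L177852) q10211, e3 q9840 L174401 q9144, e3 q9841 L174415 q9123, e3 q9842 L174427 q9124, e3 q9843 (flp_f L180335) q10473, e3 q9844 (flp_f L180343) q10474, e3 q9845 L174451 q9715, e3 q9846 L174459 q9127, e3 q9847 (flp_f L180371) q10478, e3 q9848 L180381 q10481, e3 q9849 L175102 q9924, e3 q9850 L174477 q9131, e3 q9851 (flp_f L180397) q10483, e3 q9852 (flp_f L177806) q10207, e3 q9853 L180413 q10486, e3 q9854 (flp_f L174554) q9858, e3 q9855 (flp_f L178463) q10273, trivial⟩ (by decide +kernel)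

theorem ce_f_154 : ∀ r, r < 64 → sm gf (Qf (9856 + r)) = Qf (tab Gen.f (9856 + r)) :=
  edges_tab (sm gf) Qf (tab Gen.f) 9856 [(9856, 10278), (9857, 10227), (9858, 9854), (9859, 9139), (9860, 9140), (9861, 10492), (9862, 10493), (9863, 9142), (9864, 10496), (9865, 10499), (9866, 10472), (9867, 10167), (9868, 9148), (9869, 9149), (9870, 10502), (9871, 10503), (9872, 10168), (9873, 9152), (9874, 10508), (9875, 9153), (9876, 9894), (9877, 9183), (9878, 9159), (9879, 9160), (9880, 10512), (9881, 10513), (9882, 9188), (9883, 9163), (9884, 10518), (9885, 9164), (9886, 9571), (9887, 9167), (9888, 9168), (9889, 10521), (9890, 10522), (9891, 9170), (9892, 10525), (9893, 10528), (9894, 9876), (9895, 9402), (9896, 9176), (9897, 9177), (9898, 10531), (9899, 10532), (9900, 9407), (9901, 9180), (9902, 10537), (9903, 10541), (9904, 9181), (9905, 10084), (9906, 10511), (9907, 9186), (9908, 9187), (9909, 10545), (9910, 10546), (9911, 10552), (9912, 10516), (9913, 9190), (9914, 10555), (9915, 10164), (9916,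 10557), (9917, 9191), (9918, 10519), (9919, 9966)]
    ⟨e3 q9856 (flp_f L178508) q10278, e3 q9857 (flp_f L178002) q10227, e3 q9858 L174554 q9854, e3 q9859 L174567 q9139, e3 q9860 L174580 q9140, e3 q9861 (flp_f L180477) q10492, e3 q9862 (flp_f L180486) q10493, e3 q9863 L174604 q9142, e3 q9864 (flp_f L180509) q10496, e3 q9865 L180531 q10499, e3 q9866 (flp_f L180319) q10472, e3 q9867 (flp_f L177355) q10167, e3 q9868 L174650 q9148, e3 q9869 L174658 q9149, e3 q9870 (flp_f L180563) q10502, e3 q9871 (flp_f L180571) q10503, e3 q9872 (flp_f L177369) q10168, e3 q9873 L174680 q9152, e3 q9874 L180595 q10508, e3 q9875 (flp_f L174690) q9153, e3 q9876 (flp_f L174874) q9894, e3 q9877 L174714 q9183, e3 q9878 L174726 q9159, e3 q9879 L174736 q9160, e3 q9880 (flp_f L180639) q10512, e3 q9881 (flp_f L180649) q10513, e3 q9882 L174762 q9188, e3 q9883 L174770 q9163, e3 q9884 L180681 q10518, e3 q9885 (flp_f L174780) q9164, e3 q9886 L174794 q9571, e3 q9887 L174808 q9167, e3 q9888 L174822 q9168, e3 q9889 (flp_f L180719)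 q10521, e3 q9890 (flp_f L180729) q10522, e3 q9891 L174850 q9170, e3 q9892 (flp_f L180755) q10525, e3 q9893 L180773 q10528, e3 q9894 L174874 q9876, e3 q9895 L174884 q9402, e3 q9896 L174896 q9176, e3 q9897 L174906 q9177, e3 q9898 (flp_f L180809) q10531, e3 q9899 (flp_f L180819) q10532, e3 q9900 L174934 q9407, e3 q9901 L174942 q9180, e3 q9902 (flp_f L180859) q10537, e3 q9903 L180881 q10541, e3 q9904 (flp_f L174958) q9181, e3 q9905 (flp_f L176525) q10084, e3 q9906 (flp_f L180625) q10511, e3 q9907 L174984 q9186, e3 q9908 L174992 q9187, e3 q9909 (flp_f L180907) q10545, e3 q9910 (flp_f L180915) q10546, e3 q9911 L180951 q10552, e3 q9912 (flp_f L180673) q10516, e3 q9913 L175016 q9190, e3 q9914 L180963 q10555, e3 q9915 (flp_f L177317) q10164, e3 q9916 L180971 q10557, e3 q9917 (flp_f L175030) q9191, e3 q9918 (flp_f L180691) q10519, e3 q9919 (flp_f L175525) q9966, trivial⟩ (by decide +kernel)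

theorem ce_f_155 : ∀ r, r < 64 → sm gf (Qf (9920 + r)) = Qf (tab Gen.f (9920 + r)) :=
  edges_tab (sm gf) Qf (tab Gen.f) 9920 [(9920, 9205), (9921, 9199), (9922, 9200), (9923, 10561), (9924, 9849), (9925, 9211), (9926, 9560), (9927, 10102), (9928, 10560), (9929, 9209), (9930, 10210), (9931, 9239), (9932, 9803), (9933, 9828), (9934, 10117), (9935, 10325), (9936, 9218), (9937, 10567), (9938, 9376), (9939, 9221), (9940, 10569), (9941, 9224), (9942, 10264), (9943, 10166), (9944, 9231), (9945, 9443), (9946, 9447), (9947, 9235), (9948, 10425), (9949, 9388), (9950, 10108), (9951, 9436), (9952, 10127), (9953, 9272), (9954, 9245), (9955, 9982), (9956, 10574), (9957, 9774), (9958, 9358), (9959, 9250), (9960, 9251), (9961, 10578), (9962, 10579), (9963, 9363), (9964, 9254), (9965, 10583), (9966, 9919), (9967, 9417), (9968, 9259), (9969, 9260), (9970, 10331), (9971, 10587), (9972, 10482), (9973, 9423), (9974, 9263), (9975, 9995), (9976, 10593), (9977, 9264), (9978, 9984), (9979, 9440), (9980, 10119),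 (9981, 9805), (9982, 9955), (9983, 10005)]
    ⟨e3 q9920 L175052 q9205, e3 q9921 L175064 q9199, e3 q9922 L175076 q9200, e3 q9923 (flp_f L181010) q10561, e3 q9924 (flp_f L175102) q9849, e3 q9925 L175110 q9211, e3 q9926 L175129 q9560, e3 q9927 (flp_f L176623) q10102, e3 q9928 (flp_f L180994) q10560, e3 q9929 L175159 q9209, e3 q9930 (flp_f L177844) q10210, e3 q9931 L175179 q9239, e3 q9932 L175183 q9803, e3 q9933 L175195 q9828, e3 q9934 (flp_f L176760) q10117, e3 q9935 (flp_f L178915) q10325, e3 q9936 L175224 q9218, e3 q9937 (flp_f L181077) q10567, e3 q9938 L175249 q9376, e3 q9939 L175257 q9221, e3 q9940 (flp_f L181101) q10569, e3 q9941 L175271 q9224, e3 q9942 (flp_f L178370) q10264, e3 q9943 (flp_f L177335) q10166, e3 q9944 L175298 q9231, e3 q9945 L175309 q9443, e3 q9946 L175322 q9447, e3 q9947 L175338 q9235, e3 q9948 (flp_f L179892) q10425, e3 q9949 L175362 q9388, e3 q9950 L176678 q10108, e3 q9951 L175382 q9436, e3 q9952 (flp_f L176872) q10127, e3 q9953 L175401 q9272, e3 q9954 L175410 q9245,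 e3 q9955 (flp_f L175679) q9982, e3 q9956 (flp_f L181145) q10574, e3 q9957 L175437 q9774, e3 q9958 L175446 q9358, e3 q9959 L175458 q9250, e3 q9960 L175467 q9251, e3 q9961 (flp_f L181183) q10578, e3 q9962 (flp_f L181194) q10579, e3 q9963 L175497 q9363, e3 q9964 L175507 q9254, e3 q9965 (flp_f L181232) q10583, e3 q9966 L175525 q9919, e3 q9967 L175531 q9417, e3 q9968 L175543 q9259, e3 q9969 L175553 q9260, e3 q9970 (flp_f L178988) q10331, e3 q9971 (flp_f L181274) q10587, e3 q9972 (flp_f L180389) q10482, e3 q9973 L175588 q9423, e3 q9974 L175595 q9263, e3 q9975 (flp_f L175814) q9995, e3 q9976 L181325 q10593, e3 q9977 (flp_f L175616) q9264, e3 q9978 (flp_f L175692) q9984, e3 q9979 L175638 q9440, e3 q9980 (flp_f L176785) q10119, e3 q9981 L175664 q9805, e3 q9982 L175679 q9955, e3 q9983 (flp_f L175913) q10005, trivial⟩ (by decide +kernel)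

theorem ce_f_156 : ∀ r, r < 64 → sm gf (Qf (9984 + r)) = Qf (tab Gen.f (9984 + r)) :=
  edges_tab (sm gf) Qf (tab Gen.f) 9984 [(9984, 9978), (9985, 9289), (9986, 9281), (9987, 9282), (9988, 9685), (9989, 10188), (9990, 9293), (9991, 10306), (9992, 9298), (9993, 10595), (9994, 9302), (9995, 9975), (9996, 9427), (9997, 9317), (9998, 9311), (9999, 9312), (10000, 10600), (10001, 10601), (10002, 9314), (10003, 10604), (10004, 9316), (10005, 9983), (10006, 10607), (10007, 10599), (10008, 10422), (10009, 9321), (10010, 9450), (10011, 9327), (10012, 10605), (10013, 10015), (10014, 10247), (10015, 10013), (10016, 9333), (10017, 10615), (10018, 10332), (10019, 9336), (10020, 10618), (10021, 10248), (10022, 10132), (10023, 10252), (10024, 10253), (10025, 10626), (10026, 10321), (10027, 10134), (10028, 10223), (10029, 10224), (10030, 10337), (10031, 10633), (10032, 9762), (10033, 9350), (10034, 9351), (10035, 10635), (10036, 10636), (10037, 9353), (10038, 10640), (10039, 10644), (10040, 9354), (10041,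 9356), (10042, 10430), (10043, 9779), (10044, 10577), (10045, 9361), (10046, 9362), (10047, 10648)]
    ⟨e3 q9984 L175692 q9978, e3 q9985 L175702 q9289, e3 q9986 L175717 q9281, e3 q9987 L175728 q9282, e3 q9988 L175749 q9685, e3 q9989 (flp_f L177565) q10188, e3 q9990 L175763 q9293, e3 q9991 (flp_f L178714) q10306, e3 q9992 L175780 q9298, e3 q9993 (flp_f L181346) q10595, e3 q9994 L175804 q9302, e3 q9995 L175814 q9975, e3 q9996 L175829 q9427, e3 q9997 L175842 q9317, e3 q9998 L175854 q9311, e3 q9999 L175863 q9312, e3 q10000 (flp_f L181401) q10600, e3 q10001 (flp_f L181412) q10601, e3 q10002 L175888 q9314, e3 q10003 (flp_f L181440) q10604, e3 q10004 L175904 q9316, e3 q10005 L175913 q9983, e3 q10006 (flp_f L181468) q10607, e3 q10007 (flp_f L181388) q10599, e3 q10008 (flp_f L179847) q10422, e3 q10009 L175945 q9321, e3 q10010 L175956 q9450, e3 q10011 L175966 q9327, e3 q10012 (flp_f L181456) q10605, e3 q10013 (flp_f L176001) q10015, e3 q10014 (flp_f L178186) q10247, e3 q10015 L176001 q10013, e3 q10016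 L176015 q9333, e3 q10017 (flp_f L181548) q10615, e3 q10018 (flp_f L178997) q10332, e3 q10019 L176042 q9336, e3 q10020 (flp_f L181571) q10618, e3 q10021 (flp_f L178196) q10248, e3 q10022 (flp_f L176918) q10132, e3 q10023 (flp_f L178246) q10252, e3 q10024 (flp_f L178256) q10253, e3 q10025 L181624 q10626, e3 q10026 (flp_f L178862) q10321, e3 q10027 (flp_f L176940) q10134, e3 q10028 (flp_f L177965) q10223, e3 q10029 (flp_f L177973) q10224, e3 q10030 (flp_f L179055) q10337, e3 q10031 L181668 q10633, e3 q10032 L176131 q9762, e3 q10033 L176139 q9350, e3 q10034 L176147 q9351, e3 q10035 (flp_f L181690) q10635, e3 q10036 (flp_f L181698) q10636, e3 q10037 L176169 q9353, e3 q10038 (flp_f L181728) q10640, e3 q10039 L181746 q10644, e3 q10040 (flp_f L176183) q9354, e3 q10041 L176193 q9356, e3 q10042 (flp_f L179951) q10430, e3 q10043 L176210 q9779, e3 q10044 (flp_f L181170) q10577, e3 q10045 L176226 q9361, e3 q10046 L176235 q9362, e3 q10047 (flp_f L181784) q10648, trivial⟩ (by decide +kernel)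

theorem ce_f_157 : ∀ r, r < 64 → sm gf (Qf (10048 + r)) = Qf (tab Gen.f (10048 + r)) :=
  edges_tab (sm gf) Qf (tab Gen.f) 10048 [(10048, 10649), (10049, 9650), (10050, 10582), (10051, 9365), (10052, 10434), (10053, 9654), (10054, 9380), (10055, 10250), (10056, 10327), (10057, 10322), (10058, 10226), (10059, 10568), (10060, 10646), (10061, 9374), (10062, 10317), (10063, 10654), (10064, 9383), (10065, 10349), (10066, 10661), (10067, 10354), (10068, 9386), (10069, 10665), (10070, 10668), (10071, 10563), (10072, 9390), (10073, 10670), (10074, 9705), (10075, 9394), (10076, 9395), (10077, 10674), (10078, 10675), (10079, 9397), (10080, 10679), (10081, 10682), (10082, 9398), (10083, 9400), (10084, 9905), (10085, 10530), (10086, 9405), (10087, 9406), (10088, 10686), (10089, 10687), (10090, 10693), (10091, 10536), (10092, 9409), (10093, 10698), (10094, 10696), (10095, 10701), (10096, 9410), (10097, 10542), (10098, 10187), (10099, 9415), (10100, 10199), (10101, 10201), (10102, 9927), (10103, 10586),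 (10104, 9420), (10105, 9421), (10106, 9515), (10107, 10706), (10108, 9950), (10109, 10708), (10110, 10462), (10111, 10192)]
    ⟨e3 q10048 (flp_f L181797) q10649, e3 q10049 L176266 q9650, e3 q10050 (flp_f L181223) q10582, e3 q10051 L176284 q9365, e3 q10052 (flp_f L179979) q10434, e3 q10053 L176306 q9654, e3 q10054 L176312 q9380, e3 q10055 (flp_f L178214) q10250, e3 q10056 (flp_f L178942) q10327, e3 q10057 (flp_f L178875) q10322, e3 q10058 (flp_f L177991) q10226, e3 q10059 (flp_f L181095) q10568, e3 q10060 (flp_f L181762) q10646, e3 q10061 (flp_f L176350) q9374, e3 q10062 (flp_f L178803) q10317, e3 q10063 (flp_f L181844) q10654, e3 q10064 L176380 q9383, e3 q10065 (flp_f L179190) q10349, e3 q10066 (flp_f L181894) q10661, e3 q10067 (flp_f L179241) q10354, e3 q10068 L176416 q9386, e3 q10069 (flp_f L181925) q10665, e3 q10070 L181941 q10668, e3 q10071 (flp_f L181046) q10563, e3 q10072 L176444 q9390, e3 q10073 (flp_f L181960) q10670, e3 q10074 L176465 q9705, e3 q10075 L176474 q9394, e3 q10076 L176479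 q9395, e3 q10077 (flp_f L181997) q10674, e3 q10078 (flp_f L182003) q10675, e3 q10079 L176492 q9397, e3 q10080 (flp_f L182024) q10679, e3 q10081 L182040 q10682, e3 q10082 (flp_f L176508) q9398, e3 q10083 L176514 q9400, e3 q10084 L176525 q9905, e3 q10085 (flp_f L180795) q10530, e3 q10086 L176537 q9405, e3 q10087 L176543 q9406, e3 q10088 (flp_f L182062) q10686, e3 q10089 (flp_f L182068) q10687, e3 q10090 L182102 q10693, e3 q10091 (flp_f L180853) q10536, e3 q10092 L176569 q9409, e3 q10093 L182128 q10698, e3 q10094 (flp_f L182122) q10696, e3 q10095 L182140 q10701, e3 q10096 (flp_f L176583) q9410, e3 q10097 (flp_f L180893) q10542, e3 q10098 (flp_f L177551) q10187, e3 q10099 L176599 q9415, e3 q10100 (flp_f L177697) q10199, e3 q10101 L177729 q10201, e3 q10102 L176623 q9927, e3 q10103 (flp_f L181260) q10586, e3 q10104 L176641 q9420, e3 q10105 L176648 q9421, e3 q10106 L176662 q9515, e3 q10107 (flp_f L182168) q10706, e3 q10108 (flp_f L176678) q9950, e3 q10109 (flp_f L182188) q10708, e3 q10110 (flp_f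 L180203) q10462, e3 q10111 (flp_f L177604) q10192, trivial⟩ (by decide +kernel)

theorem ce_f_158 : ∀ r, r < 64 → sm gf (Qf (10112 + r)) = Qf (tab Gen.f (10112 + r)) :=
  edges_tab (sm gf) Qf (tab Gen.f) 10112 [(10112, 9426), (10113, 9516), (10114, 10203), (10115, 10598), (10116, 9700), (10117, 9934), (10118, 9697), (10119, 9980), (10120, 9438), (10121, 10330), (10122, 10717), (10123, 9444), (10124, 9681), (10125, 9446), (10126, 10719), (10127, 9952), (10128, 10307), (10129, 10571), (10130, 10611), (10131, 9710), (10132, 10022), (10133, 9713), (10134, 10027), (10135, 9456), (10136, 10727), (10137, 9718), (10138, 9459), (10139, 10730), (10140, 9465), (10141, 9737), (10142, 9740), (10143, 9741), (10144, 10732), (10145, 9792), (10146, 9724), (10147, 9763), (10148, 9768), (10149, 9727), (10150, 9473), (10151, 10396), (10152, 10743), (10153, 9475), (10154, 10746), (10155, 10749), (10156, 9478), (10157, 10750), (10158, 9484), (10159, 9722), (10160, 9486), (10161, 9789), (10162, 9690), (10163,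 10752), (10164, 9915), (10165, 10761), (10166, 9943), (10167, 9867), (10168, 9872), (10169, 9752), (10170, 9493), (10171, 10766), (10172, 9495), (10173, 10768), (10174, 9760), (10175, 10771)]
    ⟨e3 q10112 L176703 q9426, e3 q10113 L176721 q9516, e3 q10114 (flp_f L177753) q10203, e3 q10115 (flp_f L181374) q10598, e3 q10116 L176745 q9700, e3 q10117 L176760 q9934, e3 q10118 L176774 q9697, e3 q10119 L176785 q9980, e3 q10120 L176795 q9438, e3 q10121 (flp_f L178980) q10330, e3 q10122 (flp_f L182273) q10717, e3 q10123 L176824 q9444, e3 q10124 L176845 q9681, e3 q10125 L176851 q9446, e3 q10126 (flp_f L182292) q10719, e3 q10127 L176872 q9952, e3 q10128 (flp_f L178721) q10307, e3 q10129 (flp_f L181119) q10571, e3 q10130 (flp_f L181506) q10611, e3 q10131 L176903 q9710, e3 q10132 L176918 q10022, e3 q10133 L176927 q9713, e3 q10134 L176940 q10027, e3 q10135 L176956 q9456, e3 q10136 (flp_f L182392) q10727, e3 q10137 L176974 q9718, e3 q10138 L176987 q9459, e3 q10139 (flp_f L182417) q10730, e3 q10140 L177013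 q9465, e3 q10141 L177029 q9737, e3 q10142 L177046 q9740, e3 q10143 L177060 q9741, e3 q10144 (flp_f L182441) q10732, e3 q10145 L177082 q9792, e3 q10146 L177101 q9724, e3 q10147 L177119 q9763, e3 q10148 L177133 q9768, e3 q10149 L177143 q9727, e3 q10150 L177156 q9473, e3 q10151 (flp_f L179626) q10396, e3 q10152 (flp_f L182578) q10743, e3 q10153 L177188 q9475, e3 q10154 (flp_f L182607) q10746, e3 q10155 L182629 q10749, e3 q10156 L177214 q9478, e3 q10157 (flp_f L182645) q10750, e3 q10158 L177242 q9484, e3 q10159 L177258 q9722, e3 q10160 L177268 q9486, e3 q10161 L177280 q9789, e3 q10162 L177299 q9690, e3 q10163 (flp_f L182675) q10752, e3 q10164 L177317 q9915, e3 q10165 L182772 q10761, e3 q10166 L177335 q9943, e3 q10167 L177355 q9867, e3 q10168 L177369 q9872, e3 q10169 L177381 q9752, e3 q10170 L177393 q9493, e3 q10171 (flp_f L182832) q10766, e3 q10172 L177415 q9495, e3 q10173 (flp_f L182854) q10768, e3 q10174 L177431 q9760, e3 q10175 L182878 q10771, trivial⟩ (by decide +kernel)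

theorem ce_f_159 : ∀ r, r < 64 → sm gf (Qf (10176 + r)) = Qf (tab Gen.f (10176 + r)) :=
  edges_tab (sm gf) Qf (tab Gen.f) 10176 [(10176, 9725), (10177, 9501), (10178, 9502), (10179, 10773), (10180, 10774), (10181, 9726), (10182, 9505), (10183, 10779), (10184, 10783), (10185, 9506), (10186, 9509), (10187, 10098), (10188, 9989), (10189, 9514), (10190, 10707), (10191, 10709), (10192, 10111), (10193, 9702), (10194, 9739), (10195, 9790), (10196, 9791), (10197, 9795), (10198, 9668), (10199, 10100), (10200, 9796), (10201, 10101), (10202, 9659), (10203, 10114), (10204, 9548), (10205, 9694), (10206, 10794), (10207, 9852), (10208, 9833), (10209, 9744), (10210, 9930), (10211, 9839), (10212, 9555), (10213, 10802), (10214, 10369), (10215, 9558), (10216, 10805), (10217, 10808), (10218, 10562), (10219, 9562), (10220, 10809), (10221, 9567), (10222, 9695), (10223, 10028), (10224, 10029), (10225, 10817), (10226, 10058), (10227, 9857), (10228, 9572), (10229, 10520), (10230, 10820), (10231, 9574), (10232,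 10823), (10233, 10826), (10234, 10391), (10235, 9750), (10236, 9580), (10237, 9581), (10238, 10829), (10239, 10830)]
    ⟨e3 q10176 L177451 q9725, e3 q10177 L177465 q9501, e3 q10178 L177473 q9502, e3 q10179 (flp_f L182906) q10773, e3 q10180 (flp_f L182914) q10774, e3 q10181 L177503 q9726, e3 q10182 L177513 q9505, e3 q10183 (flp_f L182958) q10779, e3 q10184 L182990 q10783, e3 q10185 (flp_f L177527) q9506, e3 q10186 L177539 q9509, e3 q10187 L177551 q10098, e3 q10188 L177565 q9989, e3 q10189 L177577 q9514, e3 q10190 (flp_f L182184) q10707, e3 q10191 (flp_f L182208) q10709, e3 q10192 L177604 q10111, e3 q10193 L177617 q9702, e3 q10194 L177630 q9739, e3 q10195 L177645 q9790, e3 q10196 L177656 q9791, e3 q10197 (flp_f L177676) q9795, e3 q10198 L177684 q9668, e3 q10199 L177697 q10100, e3 q10200 L177711 q9796, e3 q10201 (flp_f L177729) q10101, e3 q10202 L177737 q9659, e3 q10203 L177753 q10114, e3 q10204 L177768 q9548, e3 q10205 L177780 q9694, e3 q10206 (flp_f L183127) q10794, e3 q10207 L177806 q9852,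 e3 q10208 L177816 q9833, e3 q10209 L177832 q9744, e3 q10210 L177844 q9930, e3 q10211 L177852 q9839, e3 q10212 L177865 q9555, e3 q10213 (flp_f L183224) q10802, e3 q10214 (flp_f L179372) q10369, e3 q10215 L177894 q9558, e3 q10216 (flp_f L183250) q10805, e3 q10217 L183262 q10808, e3 q10218 (flp_f L181032) q10562, e3 q10219 L177922 q9562, e3 q10220 (flp_f L183272) q10809, e3 q10221 L177938 q9567, e3 q10222 L177952 q9695, e3 q10223 L177965 q10028, e3 q10224 L177973 q10029, e3 q10225 L183361 q10817, e3 q10226 L177991 q10058, e3 q10227 L178002 q9857, e3 q10228 L178018 q9572, e3 q10229 (flp_f L180705) q10520, e3 q10230 (flp_f L183400) q10820, e3 q10231 L178056 q9574, e3 q10232 (flp_f L183434) q10823, e3 q10233 L183464 q10826, e3 q10234 (flp_f L179572) q10391, e3 q10235 L178094 q9750, e3 q10236 L178105 q9580, e3 q10237 L178112 q9581, e3 q10238 (flp_f L183495) q10829, e3 q10239 (flp_f L183503) q10830, trivial⟩ (by decide +kernel)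

theorem ce_f_160 : ∀ r, r < 64 → sm gf (Qf (10240 + r)) = Qf (tab Gen.f (10240 + r)) :=
  edges_tab (sm gf) Qf (tab Gen.f) 10240 [(10240, 9751), (10241, 9584), (10242, 10835), (10243, 10839), (10244, 9585), (10245, 9588), (10246, 10841), (10247, 10014), (10248, 10021), (10249, 10846), (10250, 10055), (10251, 9691), (10252, 10023), (10253, 10024), (10254, 10851), (10255, 9624), (10256, 9599), (10257, 10853), (10258, 9629), (10259, 9602), (10260, 10857), (10261, 10861), (10262, 9603), (10263, 9606), (10264, 9942), (10265, 10863), (10266, 9609), (10267, 10272), (10268, 10865), (10269, 9611), (10270, 10868), (10271, 10871), (10272, 10267), (10273, 9855), (10274, 9617), (10275, 9618), (10276, 10874), (10277, 10875), (10278, 9856), (10279, 9621), (10280, 10880), (10281, 10884), (10282, 9622), (10283, 10450), (10284, 10852), (10285, 9627), (10286, 9628), (10287, 10888), (10288, 10889), (10289, 10895), (10290, 10856), (10291, 9631), (10292, 10899), (10293, 10897), (10294, 10902), (10295, 9632),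 (10296, 10862), (10297, 9635), (10298, 9799), (10299, 9645), (10300, 9638), (10301, 10904), (10302, 9640), (10303, 10596)]
    ⟨e3 q10240 L178133 q9751, e3 q10241 L178141 q9584, e3 q10242 (flp_f L183536) q10835, e3 q10243 L183564 q10839, e3 q10244 (flp_f L178157) q9585, e3 q10245 L178167 q9588, e3 q10246 (flp_f L183582) q10841, e3 q10247 L178186 q10014, e3 q10248 L178196 q10021, e3 q10249 L183642 q10846, e3 q10250 L178214 q10055, e3 q10251 L178227 q9691, e3 q10252 L178246 q10023, e3 q10253 L178256 q10024, e3 q10254 L183700 q10851, e3 q10255 L178282 q9624, e3 q10256 L178294 q9599, e3 q10257 (flp_f L183728) q10853, e3 q10258 L178312 q9629, e3 q10259 L178324 q9602, e3 q10260 (flp_f L183764) q10857, e3 q10261 L183796 q10861, e3 q10262 (flp_f L178340) q9603, e3 q10263 L178348 q9606, e3 q10264 L178370 q9942, e3 q10265 (flp_f L183808) q10863, e3 q10266 L178391 q9609, e3 q10267 (flp_f L178452) q10272, e3 q10268 (flp_f L183845) q10865, e3 q10269 L178425 q9611, e3 q10270 (flp_f L183876) q10868, e3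 q10271 L183902 q10871, e3 q10272 L178452 q10267, e3 q10273 L178463 q9855, e3 q10274 L178476 q9617, e3 q10275 L178483 q9618, e3 q10276 (flp_f L183939) q10874, e3 q10277 (flp_f L183947) q10875, e3 q10278 L178508 q9856, e3 q10279 L178518 q9621, e3 q10280 (flp_f L183982) q10880, e3 q10281 L184004 q10884, e3 q10282 (flp_f L178530) q9622, e3 q10283 (flp_f L180110) q10450, e3 q10284 (flp_f L183718) q10852, e3 q10285 L178552 q9627, e3 q10286 L178558 q9628, e3 q10287 (flp_f L184028) q10888, e3 q10288 (flp_f L184034) q10889, e3 q10289 L184066 q10895, e3 q10290 (flp_f L183752) q10856, e3 q10291 L178582 q9631, e3 q10292 L184090 q10899, e3 q10293 (flp_f L184080) q10897, e3 q10294 L184108 q10902, e3 q10295 (flp_f L178600) q9632, e3 q10296 (flp_f L183804) q10862, e3 q10297 L178614 q9635, e3 q10298 L178630 q9799, e3 q10299 L178639 q9645, e3 q10300 L178650 q9638, e3 q10301 (flp_f L184122) q10904, e3 q10302 L178666 q9640, e3 q10303 (flp_f L181358) q10596, trivial⟩ (by decide +kernel)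

theorem ce_f_161 : ∀ r, r < 64 → sm gf (Qf (10304 + r)) = Qf (tab Gen.f (10304 + r)) :=
  edges_tab (sm gf) Qf (tab Gen.f) 10304 [(10304, 10907), (10305, 9643), (10306, 9991), (10307, 10128), (10308, 9648), (10309, 9649), (10310, 10910), (10311, 10651), (10312, 10911), (10313, 10653), (10314, 9653), (10315, 9801), (10316, 10655), (10317, 10062), (10318, 10785), (10319, 9661), (10320, 9675), (10321, 10026), (10322, 10057), (10323, 9666), (10324, 10751), (10325, 9935), (10326, 9671), (10327, 10056), (10328, 10842), (10329, 9783), (10330, 10121), (10331, 9970), (10332, 10018), (10333, 10923), (10334, 10756), (10335, 10926), (10336, 9742), (10337, 10030), (10338, 10930), (10339, 10795), (10340, 10932), (10341, 9696), (10342, 10716), (10343, 9793), (10344, 10788), (10345, 9707), (10346, 10673), (10347, 10426), (10348, 10935), (10349, 10065), (10350, 10723), (10351, 9712), (10352, 10941), (10353, 10725), (10354, 10067), (10355, 10477), (10356, 9717), (10357, 10947), (10358, 10950), (10359, 9720),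 (10360, 10951), (10361, 9723), (10362, 10753), (10363, 10957), (10364, 10738), (10365, 10772), (10366, 10778), (10367, 10741)]
    ⟨e3 q10304 (flp_f L184148) q10907, e3 q10305 L178692 q9643, e3 q10306 L178714 q9991, e3 q10307 L178721 q10128, e3 q10308 L178730 q9648, e3 q10309 L178737 q9649, e3 q10310 (flp_f L184179) q10910, e3 q10311 (flp_f L181820) q10651, e3 q10312 (flp_f L184186) q10911, e3 q10313 (flp_f L181837) q10653, e3 q10314 L178773 q9653, e3 q10315 L178786 q9801, e3 q10316 (flp_f L181859) q10655, e3 q10317 L178803 q10062, e3 q10318 (flp_f L183010) q10785, e3 q10319 L178832 q9661, e3 q10320 L178847 q9675, e3 q10321 L178862 q10026, e3 q10322 L178875 q10057, e3 q10323 L178890 q9666, e3 q10324 (flp_f L182658) q10751, e3 q10325 L178915 q9935, e3 q10326 L178926 q9671, e3 q10327 L178942 q10056, e3 q10328 (flp_f L183599) q10842, e3 q10329 L178960 q9783, e3 q10330 L178980 q10121, e3 q10331 L178988 q9970, e3 q10332 L178997 q10018, e3 q10333 L184309 q10923, e3 q10334 (flp_f L182724) q10756,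 e3 q10335 L184347 q10926, e3 q10336 L179049 q9742, e3 q10337 L179055 q10030, e3 q10338 L184387 q10930, e3 q10339 (flp_f L183141) q10795, e3 q10340 L184409 q10932, e3 q10341 (flp_f L179093) q9696, e3 q10342 (flp_f L182261) q10716, e3 q10343 L179123 q9793, e3 q10344 (flp_f L183047) q10788, e3 q10345 L179148 q9707, e3 q10346 (flp_f L181990) q10673, e3 q10347 (flp_f L179906) q10426, e3 q10348 (flp_f L184445) q10935, e3 q10349 L179190 q10065, e3 q10350 (flp_f L182338) q10723, e3 q10351 L179214 q9712, e3 q10352 (flp_f L184519) q10941, e3 q10353 (flp_f L182363) q10725, e3 q10354 L179241 q10067, e3 q10355 (flp_f L180365) q10477, e3 q10356 L179261 q9717, e3 q10357 (flp_f L184566) q10947, e3 q10358 L184582 q10950, e3 q10359 L179278 q9720, e3 q10360 (flp_f L184592) q10951, e3 q10361 L179296 q9723, e3 q10362 (flp_f L182689) q10753, e3 q10363 L184646 q10957, e3 q10364 (flp_f L182519) q10738, e3 q10365 (flp_f L182892) q10772, e3 q10366 (flp_f L182946) q10778, e3 q10367 (flp_f L182557) q10741, trivial⟩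 (by decide +kernel)

theorem ce_f_162 : ∀ r, r < 64 → sm gf (Qf (10368 + r)) = Qf (tab Gen.f (10368 + r)) :=
  edges_tab (sm gf) Qf (tab Gen.f) 10368 [(10368, 10963), (10369, 10214), (10370, 9731), (10371, 9732), (10372, 10965), (10373, 10966), (10374, 9734), (10375, 10970), (10376, 9735), (10377, 10444), (10378, 10733), (10379, 10975), (10380, 10789), (10381, 10734), (10382, 10735), (10383, 10927), (10384, 10980), (10385, 9745), (10386, 10799), (10387, 10981), (10388, 9747), (10389, 10985), (10390, 9748), (10391, 10234), (10392, 10828), (10393, 10834), (10394, 10764), (10395, 10992), (10396, 10151), (10397, 9756), (10398, 9757), (10399, 10994), (10400, 10995), (10401, 9759), (10402, 10999), (10403, 11002), (10404, 11004), (10405, 9761), (10406, 10634), (10407, 10739), (10408, 9766), (10409, 9767), (10410, 11008), (10411, 11009), (10412, 11014), (10413, 10740), (10414, 9770), (10415, 11017), (10416, 11018), (10417, 9771), (10418, 10986), (10419, 10576), (10420, 9780), (10421, 9778), (10422,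 10008), (10423, 9784), (10424, 10797), (10425, 9948), (10426, 10347), (10427, 10755), (10428, 10790), (10429, 10737), (10430, 10042), (10431, 10791)]
    ⟨e3 q10368 L184704 q10963, e3 q10369 L179372 q10214, e3 q10370 L179388 q9731, e3 q10371 L179398 q9732, e3 q10372 (flp_f L184734) q10965, e3 q10373 (flp_f L184744) q10966, e3 q10374 L179424 q9734, e3 q10375 L184780 q10970, e3 q10376 (flp_f L179442) q9735, e3 q10377 (flp_f L180068) q10444, e3 q10378 (flp_f L182455) q10733, e3 q10379 L184816 q10975, e3 q10380 (flp_f L183060) q10789, e3 q10381 (flp_f L182470) q10734, e3 q10382 (flp_f L182482) q10735, e3 q10383 (flp_f L184363) q10927, e3 q10384 L184866 q10980, e3 q10385 L179515 q9745, e3 q10386 (flp_f L183195) q10799, e3 q10387 (flp_f L184876) q10981, e3 q10388 L179541 q9747, e3 q10389 L184912 q10985, e3 q10390 (flp_f L179559) q9748, e3 q10391 L179572 q10234, e3 q10392 (flp_f L183484) q10828, e3 q10393 (flp_f L183528) q10834, e3 q10394 (flp_f L182812) q10764, e3 q10395 L184983 q10992, e3 q10396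 L179626 q10151, e3 q10397 L179639 q9756, e3 q10398 L179648 q9757, e3 q10399 (flp_f L185013) q10994, e3 q10400 (flp_f L185023) q10995, e3 q10401 L179667 q9759, e3 q10402 (flp_f L185048) q10999, e3 q10403 L185068 q11002, e3 q10404 L185078 q11004, e3 q10405 (flp_f L179687) q9761, e3 q10406 (flp_f L181682) q10634, e3 q10407 (flp_f L182535) q10739, e3 q10408 L179717 q9766, e3 q10409 L179727 q9767, e3 q10410 (flp_f L185104) q11008, e3 q10411 (flp_f L185114) q11009, e3 q10412 L185160 q11014, e3 q10413 (flp_f L182547) q10740, e3 q10414 L179765 q9770, e3 q10415 L185182 q11017, e3 q10416 L185188 q11018, e3 q10417 (flp_f L179791) q9771, e3 q10418 (flp_f L184926) q10986, e3 q10419 (flp_f L181163) q10576, e3 q10420 L179819 q9780, e3 q10421 L179834 q9778, e3 q10422 L179847 q10008, e3 q10423 L179863 q9784, e3 q10424 (flp_f L183169) q10797, e3 q10425 L179892 q9948, e3 q10426 L179906 q10347, e3 q10427 (flp_f L182709) q10755, e3 q10428 (flp_f L183075) q10790, e3 q10429 (flp_f L182504) q10737, e3 q10430 L179951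 q10042, e3 q10431 L183097 q10791, trivial⟩ (by decide +kernel)

theorem ce_f_163 : ∀ r, r < 64 → sm gf (Qf (10432 + r)) = Qf (tab Gen.f (10432 + r)) :=
  edges_tab (sm gf) Qf (tab Gen.f) 10432 [(10432, 9798), (10433, 10900), (10434, 10052), (10435, 10914), (10436, 9829), (10437, 10550), (10438, 11030), (10439, 10590), (10440, 11031), (10441, 9807), (10442, 9808), (10443, 9811), (10444, 10377), (10445, 11034), (10446, 9813), (10447, 11038), (10448, 11041), (10449, 9814), (10450, 10283), (10451, 9818), (10452, 9819), (10453, 11044), (10454, 11047), (10455, 11048), (10456, 9821), (10457, 11033), (10458, 9826), (10459, 9832), (10460, 10565), (10461, 11052), (10462, 10110), (10463, 10467), (10464, 11021), (10465, 10798), (10466, 9836), (10467, 10463), (10468, 11057), (10469, 9838), (10470, 11060), (10471, 11063), (10472, 9866), (10473, 9843), (10474, 9844), (10475, 11065), (10476, 11066), (10477, 10355), (10478, 9847), (10479, 11071), (10480, 11075), (10481, 9848), (10482, 9972), (10483, 9851),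 (10484, 10594), (10485, 11078), (10486, 9853), (10487, 10491), (10488, 10873), (10489, 10879), (10490, 11086), (10491, 10487), (10492, 9861), (10493, 9862), (10494, 11088), (10495, 11089)]
    ⟨e3 q10432 L179964 q9798, e3 q10433 (flp_f L184100) q10900, e3 q10434 L179979 q10052, e3 q10435 (flp_f L184215) q10914, e3 q10436 L179994 q9829, e3 q10437 (flp_f L180941) q10550, e3 q10438 L185309 q11030, e3 q10439 (flp_f L181300) q10590, e3 q10440 L185319 q11031, e3 q10441 (flp_f L180036) q9807, e3 q10442 (flp_f L180044) q9808, e3 q10443 L180055 q9811, e3 q10444 L180068 q10377, e3 q10445 (flp_f L185347) q11034, e3 q10446 L180084 q9813, e3 q10447 (flp_f L185382) q11038, e3 q10448 L185396 q11041, e3 q10449 (flp_f L180096) q9814, e3 q10450 L180110 q10283, e3 q10451 L180120 q9818, e3 q10452 L180128 q9819, e3 q10453 (flp_f L185424) q11044, e3 q10454 L185450 q11047, e3 q10455 L185456 q11048, e3 q10456 (flp_f L180152) q9821, e3 q10457 (flp_f L185341) q11033, e3 q10458 L180166 q9826, e3 q10459 L180179 q9832,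 e3 q10460 (flp_f L181064) q10565, e3 q10461 L185484 q11052, e3 q10462 L180203 q10110, e3 q10463 (flp_f L180266) q10467, e3 q10464 (flp_f L185232) q11021, e3 q10465 (flp_f L183179) q10798, e3 q10466 L180251 q9836, e3 q10467 L180266 q10463, e3 q10468 (flp_f L185536) q11057, e3 q10469 L180287 q9838, e3 q10470 (flp_f L185569) q11060, e3 q10471 L185591 q11063, e3 q10472 L180319 q9866, e3 q10473 L180335 q9843, e3 q10474 L180343 q9844, e3 q10475 (flp_f L185623) q11065, e3 q10476 (flp_f L185631) q11066, e3 q10477 L180365 q10355, e3 q10478 L180371 q9847, e3 q10479 (flp_f L185665) q11071, e3 q10480 L185679 q11075, e3 q10481 (flp_f L180381) q9848, e3 q10482 L180389 q9972, e3 q10483 L180397 q9851, e3 q10484 (flp_f L181340) q10594, e3 q10485 (flp_f L185697) q11078, e3 q10486 (flp_f L180413) q9853, e3 q10487 (flp_f L180462) q10491, e3 q10488 (flp_f L183926) q10873, e3 q10489 (flp_f L183974) q10879, e3 q10490 L185770 q11086, e3 q10491 L180462 q10487, e3 q10492 L180477 q9861, e3 q10493 L180486 q9862, e3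 q10494 (flp_f L185798) q11088, e3 q10495 (flp_f L185808) q11089, trivial⟩ (by decide +kernel)

theorem ce_f_164 : ∀ r, r < 64 → sm gf (Qf (10496 + r)) = Qf (tab Gen.f (10496 + r)) :=
  edges_tab (sm gf) Qf (tab Gen.f) 10496 [(10496, 9864), (10497, 11093), (10498, 11096), (10499, 9865), (10500, 11064), (10501, 10762), (10502, 9870), (10503, 9871), (10504, 11100), (10505, 11103), (10506, 10763), (10507, 11105), (10508, 9874), (10509, 11081), (10510, 10529), (10511, 9906), (10512, 9880), (10513, 9881), (10514, 11109), (10515, 11112), (10516, 9912), (10517, 11114), (10518, 9884), (10519, 9918), (10520, 10229), (10521, 9889), (10522, 9890), (10523, 11117), (10524, 11118), (10525, 9892), (10526, 11122), (10527, 11126), (10528, 9893), (10529, 10510), (10530, 10085), (10531, 9898), (10532, 9899), (10533, 11130), (10534, 11131), (10535, 11137), (10536, 10091), (10537, 9902), (10538, 11140), (10539, 10759), (10540, 11142), (10541, 9903), (10542, 10097), (10543, 10684), (10544, 11108), (10545, 9909),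 (10546, 9910), (10547, 11149), (10548, 10800), (10549, 11151), (10550, 10437), (10551, 11154), (10552, 9911), (10553, 11156), (10554, 11157), (10555, 9914), (10556, 11159), (10557, 9916), (10558, 11115), (10559, 10585)]
    ⟨e3 q10496 L180509 q9864, e3 q10497 (flp_f L185839) q11093, e3 q10498 L185859 q11096, e3 q10499 (flp_f L180531) q9865, e3 q10500 (flp_f L185607) q11064, e3 q10501 (flp_f L182788) q10762, e3 q10502 L180563 q9870, e3 q10503 L180571 q9871, e3 q10504 (flp_f L185891) q11100, e3 q10505 L185909 q11103, e3 q10506 (flp_f L182800) q10763, e3 q10507 L185919 q11105, e3 q10508 (flp_f L180595) q9874, e3 q10509 (flp_f L185727) q11081, e3 q10510 (flp_f L180787) q10529, e3 q10511 L180625 q9906, e3 q10512 L180639 q9880, e3 q10513 L180649 q9881, e3 q10514 (flp_f L185955) q11109, e3 q10515 L185975 q11112, e3 q10516 L180673 q9912, e3 q10517 L185987 q11114, e3 q10518 (flp_f L180681) q9884, e3 q10519 L180691 q9918, e3 q10520 L180705 q10229, e3 q10521 L180719 q9889, e3 q10522 L180729 q9890,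 e3 q10523 (flp_f L186025) q11117, e3 q10524 (flp_f L186035) q11118, e3 q10525 L180755 q9892, e3 q10526 (flp_f L186071) q11122, e3 q10527 L186093 q11126, e3 q10528 (flp_f L180773) q9893, e3 q10529 L180787 q10510, e3 q10530 L180795 q10085, e3 q10531 L180809 q9898, e3 q10532 L180819 q9899, e3 q10533 (flp_f L186129) q11130, e3 q10534 (flp_f L186137) q11131, e3 q10535 L186189 q11137, e3 q10536 L180853 q10091, e3 q10537 L180859 q9902, e3 q10538 L186207 q11140, e3 q10539 (flp_f L182754) q10759, e3 q10540 L186221 q11142, e3 q10541 (flp_f L180881) q9903, e3 q10542 L180893 q10097, e3 q10543 (flp_f L182052) q10684, e3 q10544 (flp_f L185943) q11108, e3 q10545 L180907 q9909, e3 q10546 L180915 q9910, e3 q10547 L186275 q11149, e3 q10548 (flp_f L183205) q10800, e3 q10549 L186287 q11151, e3 q10550 L180941 q10437, e3 q10551 L186301 q11154, e3 q10552 (flp_f L180951) q9911, e3 q10553 L186311 q11156, e3 q10554 L186313 q11157, e3 q10555 (flp_f L180963) q9914, e3 q10556 L186323 q11159, e3 q10557 (flp_f L180971)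 q9916, e3 q10558 (flp_f L185999) q11115, e3 q10559 (flp_f L181249) q10585, trivial⟩ (by decide +kernel)

theorem ce_f_165 : ∀ r, r < 64 → sm gf (Qf (10560 + r)) = Qf (tab Gen.f (10560 + r)) :=
  edges_tab (sm gf) Qf (tab Gen.f) 10560 [(10560, 9928), (10561, 9923), (10562, 10218), (10563, 10071), (10564, 10704), (10565, 10460), (10566, 10919), (10567, 9937), (10568, 10059), (10569, 9940), (10570, 10864), (10571, 10129), (10572, 10711), (10573, 10721), (10574, 9956), (10575, 11166), (10576, 10419), (10577, 10044), (10578, 9961), (10579, 9962), (10580, 10921), (10581, 11169), (10582, 10050), (10583, 9965), (10584, 10909), (10585, 10559), (10586, 10103), (10587, 9971), (10588, 10811), (10589, 10669), (10590, 10439), (10591, 11077), (10592, 10608), (10593, 9976), (10594, 10484), (10595, 9993), (10596, 10303), (10597, 11176), (10598, 10115), (10599, 10007), (10600, 10000), (10601, 10001), (10602, 11180), (10603, 11181), (10604, 10003), (10605, 10012), (10606, 11184), (10607, 10006), (10608, 10592),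 (10609, 11185), (10610, 10720), (10611, 10130), (10612, 10614), (10613, 10843), (10614, 10612), (10615, 10017), (10616, 11192), (10617, 11195), (10618, 10020), (10619, 11196), (10620, 10844), (10621, 11200), (10622, 10724), (10623, 10848)]
    ⟨e3 q10560 L180994 q9928, e3 q10561 L181010 q9923, e3 q10562 L181032 q10218, e3 q10563 L181046 q10071, e3 q10564 (flp_f L182156) q10704, e3 q10565 L181064 q10460, e3 q10566 (flp_f L184259) q10919, e3 q10567 L181077 q9937, e3 q10568 L181095 q10059, e3 q10569 L181101 q9940, e3 q10570 (flp_f L183836) q10864, e3 q10571 L181119 q10129, e3 q10572 L182224 q10711, e3 q10573 (flp_f L182320) q10721, e3 q10574 L181145 q9956, e3 q10575 (flp_f L186387) q11166, e3 q10576 L181163 q10419, e3 q10577 L181170 q10044, e3 q10578 L181183 q9961, e3 q10579 L181194 q9962, e3 q10580 (flp_f L184289) q10921, e3 q10581 (flp_f L186427) q11169, e3 q10582 L181223 q10050, e3 q10583 L181232 q9965, e3 q10584 (flp_f L184170) q10909, e3 q10585 L181249 q10559, e3 q10586 L181260 q10103,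 e3 q10587 L181274 q9971, e3 q10588 (flp_f L183298) q10811, e3 q10589 (flp_f L181951) q10669, e3 q10590 L181300 q10439, e3 q10591 (flp_f L185689) q11077, e3 q10592 (flp_f L181484) q10608, e3 q10593 (flp_f L181325) q9976, e3 q10594 L181340 q10484, e3 q10595 L181346 q9993, e3 q10596 L181358 q10303, e3 q10597 (flp_f L186495) q11176, e3 q10598 L181374 q10115, e3 q10599 L181388 q10007, e3 q10600 L181401 q10000, e3 q10601 L181412 q10001, e3 q10602 (flp_f L186538) q11180, e3 q10603 (flp_f L186549) q11181, e3 q10604 L181440 q10003, e3 q10605 L181456 q10012, e3 q10606 (flp_f L186575) q11184, e3 q10607 L181468 q10006, e3 q10608 L181484 q10592, e3 q10609 (flp_f L186590) q11185, e3 q10610 (flp_f L182305) q10720, e3 q10611 L181506 q10130, e3 q10612 (flp_f L181536) q10614, e3 q10613 (flp_f L183612) q10843, e3 q10614 L181536 q10612, e3 q10615 L181548 q10017, e3 q10616 (flp_f L186644) q11192, e3 q10617 L186666 q11195, e3 q10618 L181571 q10020, e3 q10619 (flp_f L186678) q11196, e3 q10620 (flp_f L183622) q10844,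 e3 q10621 L186705 q11200, e3 q10622 (flp_f L182353) q10724, e3 q10623 (flp_f L183670) q10848, trivial⟩ (by decide +kernel)

theorem ce_f_166 : ∀ r, r < 64 → sm gf (Qf (10624 + r)) = Qf (tab Gen.f (10624 + r)) :=
  edges_tab (sm gf) Qf (tab Gen.f) 10624 [(10624, 10849), (10625, 11206), (10626, 10025), (10627, 10918), (10628, 10726), (10629, 10814), (10630, 10815), (10631, 11213), (10632, 11215), (10633, 10031), (10634, 10406), (10635, 10035), (10636, 10036), (10637, 11218), (10638, 11219), (10639, 11225), (10640, 10038), (10641, 11227), (10642, 11023), (10643, 11230), (10644, 10039), (10645, 11127), (10646, 10060), (10647, 11168), (10648, 10047), (10649, 10048), (10650, 11232), (10651, 10311), (10652, 11025), (10653, 10313), (10654, 10063), (10655, 10316), (10656, 10920), (10657, 10818), (10658, 11162), (10659, 11228), (10660, 11235), (10661, 10066), (10662, 10939), (10663, 11243), (10664, 10945), (10665, 10069), (10666, 11248), (10667, 11252), (10668, 10070), (10669, 10589), (10670, 10073),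 (10671, 10810), (10672, 11255), (10673, 10346), (10674, 10077), (10675, 10078), (10676, 11259), (10677, 11260), (10678, 11265), (10679, 10080), (10680, 11267), (10681, 11268), (10682, 10081), (10683, 11097), (10684, 10543), (10685, 11129), (10686, 10088), (10687, 10089)]
    ⟨e3 q10624 (flp_f L183680) q10849, e3 q10625 L186746 q11206, e3 q10626 (flp_f L181624) q10025, e3 q10627 (flp_f L184242) q10918, e3 q10628 (flp_f L182376) q10726, e3 q10629 (flp_f L183335) q10814, e3 q10630 (flp_f L183343) q10815, e3 q10631 L186789 q11213, e3 q10632 L186799 q11215, e3 q10633 (flp_f L181668) q10031, e3 q10634 L181682 q10406, e3 q10635 L181690 q10035, e3 q10636 L181698 q10036, e3 q10637 (flp_f L186825) q11218, e3 q10638 (flp_f L186833) q11219, e3 q10639 L186875 q11225, e3 q10640 L181728 q10038, e3 q10641 L186889 q11227, e3 q10642 (flp_f L185252) q11023, e3 q10643 L186907 q11230, e3 q10644 (flp_f L181746) q10039, e3 q10645 (flp_f L186105) q11127, e3 q10646 L181762 q10060, e3 q10647 (flp_f L186411) q11168,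 e3 q10648 L181784 q10047, e3 q10649 L181797 q10048, e3 q10650 (flp_f L186925) q11232, e3 q10651 L181820 q10311, e3 q10652 (flp_f L185269) q11025, e3 q10653 L181837 q10313, e3 q10654 L181844 q10063, e3 q10655 L181859 q10316, e3 q10656 (flp_f L184281) q10920, e3 q10657 (flp_f L183371) q10818, e3 q10658 (flp_f L186342) q11162, e3 q10659 (flp_f L186899) q11228, e3 q10660 (flp_f L186952) q11235, e3 q10661 L181894 q10066, e3 q10662 (flp_f L184492) q10939, e3 q10663 (flp_f L187021) q11243, e3 q10664 (flp_f L184548) q10945, e3 q10665 L181925 q10069, e3 q10666 (flp_f L187056) q11248, e3 q10667 L187082 q11252, e3 q10668 (flp_f L181941) q10070, e3 q10669 L181951 q10589, e3 q10670 L181960 q10073, e3 q10671 (flp_f L183292) q10810, e3 q10672 (flp_f L187105) q11255, e3 q10673 L181990 q10346, e3 q10674 L181997 q10077, e3 q10675 L182003 q10078, e3 q10676 (flp_f L187146) q11259, e3 q10677 (flp_f L187154) q11260, e3 q10678 L187182 q11265, e3 q10679 L182024 q10080, e3 q10680 L187192 q11267, e3 q10681 L187198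 q11268, e3 q10682 (flp_f L182040) q10081, e3 q10683 (flp_f L185873) q11097, e3 q10684 L182052 q10543, e3 q10685 (flp_f L186117) q11129, e3 q10686 L182062 q10088, e3 q10687 L182068 q10089, trivial⟩ (by decide +kernel)

theorem ce_f_167 : ∀ r, r < 64 → sm gf (Qf (10688 + r)) = Qf (tab Gen.f (10688 + r)) :=
  edges_tab (sm gf) Qf (tab Gen.f) 10688 [(10688, 11278), (10689, 11274), (10690, 11281), (10691, 11276), (10692, 11285), (10693, 10090), (10694, 10781), (10695, 11288), (10696, 10094), (10697, 11291), (10698, 10093), (10699, 10792), (10700, 11294), (10701, 10095), (10702, 11143), (10703, 10757), (10704, 10564), (10705, 10787), (10706, 10107), (10707, 10190), (10708, 10109), (10709, 10191), (10710, 11297), (10711, 10572), (10712, 10793), (10713, 11053), (10714, 11050), (10715, 11179), (10716, 10342), (10717, 10122), (10718, 11305), (10719, 10126), (10720, 10610), (10721, 10573), (10722, 11163), (10723, 10350), (10724, 10622), (10725, 10353), (10726, 10628), (10727, 10136), (10728, 11312),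 (10729, 11315), (10730, 10139), (10731, 11316), (10732, 10144), (10733, 10378), (10734, 10381), (10735, 10382), (10736, 11325), (10737, 10429), (10738, 10364), (10739, 10407), (10740, 10413), (10741, 10367), (10742, 11331), (10743, 10152), (10744, 10993), (10745, 11332), (10746, 10154), (10747, 11336), (10748, 11340), (10749, 10155), (10750, 10157), (10751, 10324)]
    ⟨e3 q10688 L187264 q11278, e3 q10689 (flp_f L187240) q11274, e3 q10690 L187282 q11281, e3 q10691 (flp_f L187254) q11276, e3 q10692 L187306 q11285, e3 q10693 (flp_f L182102) q10090, e3 q10694 (flp_f L182976) q10781, e3 q10695 L187324 q11288, e3 q10696 L182122 q10094, e3 q10697 L187334 q11291, e3 q10698 (flp_f L182128) q10093, e3 q10699 (flp_f L183105) q10792, e3 q10700 L187348 q11294, e3 q10701 (flp_f L182140) q10095, e3 q10702 (flp_f L186231) q11143, e3 q10703 (flp_f L182734) q10757, e3 q10704 L182156 q10564, e3 q10705 (flp_f L183033) q10787, e3 q10706 L182168 q10107, e3 q10707 L182184 q10190, e3 q10708 L182188 q10109, e3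 q10709 L182208 q10191, e3 q10710 (flp_f L187374) q11297, e3 q10711 (flp_f L182224) q10572, e3 q10712 (flp_f L183119) q10793, e3 q10713 (flp_f L185494) q11053, e3 q10714 (flp_f L185470) q11050, e3 q10715 (flp_f L186526) q11179, e3 q10716 L182261 q10342, e3 q10717 L182273 q10122, e3 q10718 (flp_f L187460) q11305, e3 q10719 L182292 q10126, e3 q10720 L182305 q10610, e3 q10721 L182320 q10573, e3 q10722 (flp_f L186357) q11163, e3 q10723 L182338 q10350, e3 q10724 L182353 q10622, e3 q10725 L182363 q10353, e3 q10726 L182376 q10628, e3 q10727 L182392 q10136, e3 q10728 (flp_f L187543) q11312, e3 q10729 L187569 q11315, e3 q10730 L182417 q10139, e3 q10731 (flp_f L187583) q11316, e3 q10732 L182441 q10144, e3 q10733 L182455 q10378, e3 q10734 L182470 q10381, e3 q10735 L182482 q10382, e3 q10736 L187694 q11325, e3 q10737 L182504 q10429, e3 q10738 L182519 q10364, e3 q10739 L182535 q10407, e3 q10740 L182547 q10413, e3 q10741 L182557 q10367, e3 q10742 L187766 q11331, e3 q10743 L182578 q10152, e3 q10744 (flp_f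 L185000) q10993, e3 q10745 (flp_f L187780) q11332, e3 q10746 L182607 q10154, e3 q10747 (flp_f L187815) q11336, e3 q10748 L187861 q11340, e3 q10749 (flp_f L182629) q10155, e3 q10750 L182645 q10157, e3 q10751 L182658 q10324, trivial⟩ (by decide +kernel)

theorem ce_f_168 : ∀ r, r < 64 → sm gf (Qf (10752 + r)) = Qf (tab Gen.f (10752 + r)) :=
  edges_tab (sm gf) Qf (tab Gen.f) 10752 [(10752, 10163), (10753, 10362), (10754, 11345), (10755, 10427), (10756, 10334), (10757, 10703), (10758, 11348), (10759, 10539), (10760, 11350), (10761, 10165), (10762, 10501), (10763, 10506), (10764, 10394), (10765, 11355), (10766, 10171), (10767, 11356), (10768, 10173), (10769, 11359), (10770, 11361), (10771, 10175), (10772, 10365), (10773, 10179), (10774, 10180), (10775, 11364), (10776, 11299), (10777, 11370), (10778, 10366), (10779, 10183), (10780, 11373), (10781, 10694), (10782, 11376), (10783, 10184), (10784, 11351), (10785, 10318), (10786, 11298), (10787, 10705), (10788, 10344), (10789, 10380), (10790, 10428),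 (10791, 10431), (10792, 10699), (10793, 10712), (10794, 10206), (10795, 10339), (10796, 11383), (10797, 10424), (10798, 10465), (10799, 10386), (10800, 10548), (10801, 11388), (10802, 10213), (10803, 11389), (10804, 10964), (10805, 10216), (10806, 11393), (10807, 11397), (10808, 10217), (10809, 10220), (10810, 10671), (10811, 10588), (10812, 11401), (10813, 11402), (10814, 10629), (10815, 10630)]
    ⟨e3 q10752 L182675 q10163, e3 q10753 L182689 q10362, e3 q10754 L187919 q11345, e3 q10755 L182709 q10427, e3 q10756 L182724 q10334, e3 q10757 L182734 q10703, e3 q10758 L187951 q11348, e3 q10759 L182754 q10539, e3 q10760 L187969 q11350, e3 q10761 (flp_f L182772) q10165, e3 q10762 L182788 q10501, e3 q10763 L182800 q10506, e3 q10764 L182812 q10394, e3 q10765 L188027 q11355, e3 q10766 L182832 q10171, e3 q10767 (flp_f L188041) q11356, e3 q10768 L182854 q10173, e3 q10769 L188075 q11359, e3 q10770 L188095 q11361, e3 q10771 (flp_f L182878) q10175, e3 q10772 L182892 q10365, e3 q10773 L182906 q10179, e3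 q10774 L182914 q10180, e3 q10775 (flp_f L188129) q11364, e3 q10776 (flp_f L187406) q11299, e3 q10777 L188179 q11370, e3 q10778 L182946 q10366, e3 q10779 L182958 q10183, e3 q10780 L188209 q11373, e3 q10781 L182976 q10694, e3 q10782 L188241 q11376, e3 q10783 (flp_f L182990) q10184, e3 q10784 (flp_f L187985) q11351, e3 q10785 L183010 q10318, e3 q10786 (flp_f L187398) q11298, e3 q10787 L183033 q10705, e3 q10788 L183047 q10344, e3 q10789 L183060 q10380, e3 q10790 L183075 q10428, e3 q10791 (flp_f L183097) q10431, e3 q10792 L183105 q10699, e3 q10793 L183119 q10712, e3 q10794 L183127 q10206, e3 q10795 L183141 q10339, e3 q10796 L188321 q11383, e3 q10797 L183169 q10424, e3 q10798 L183179 q10465, e3 q10799 L183195 q10386, e3 q10800 L183205 q10548, e3 q10801 L188377 q11388, e3 q10802 L183224 q10213, e3 q10803 (flp_f L188391) q11389, e3 q10804 (flp_f L184718) q10964, e3 q10805 L183250 q10216, e3 q10806 (flp_f L188424) q11393, e3 q10807 L188458 q11397, e3 q10808 (flp_f L183262) q10217, e3 q10809 L183272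 q10220, e3 q10810 L183292 q10671, e3 q10811 L183298 q10588, e3 q10812 L188494 q11401, e3 q10813 L188506 q11402, e3 q10814 L183335 q10629, e3 q10815 L183343 q10630, trivial⟩ (by decide +kernel)

theorem ce_f_169 : ∀ r, r < 64 → sm gf (Qf (10816 + r)) = Qf (tab Gen.f (10816 + r)) :=
  edges_tab (sm gf) Qf (tab Gen.f) 10816 [(10816, 11407), (10817, 10225), (10818, 10657), (10819, 11409), (10820, 10230), (10821, 11116), (10822, 11410), (10823, 10232), (10824, 11374), (10825, 11416), (10826, 10233), (10827, 10987), (10828, 10392), (10829, 10238), (10830, 10239), (10831, 11420), (10832, 11421), (10833, 11427), (10834, 10393), (10835, 10242), (10836, 11431), (10837, 11429), (10838, 11434), (10839, 10243), (10840, 11408), (10841, 10246), (10842, 10328), (10843, 10613), (10844, 10620), (10845, 11439), (10846, 10249), (10847, 11441), (10848, 10623), (10849, 10624), (10850, 11446), (10851, 10254), (10852, 10284), (10853, 10257), (10854, 11449), (10855, 11453), (10856, 10290), (10857, 10260), (10858,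 11457), (10859, 11455), (10860, 11460), (10861, 10261), (10862, 10296), (10863, 10265), (10864, 10570), (10865, 10268), (10866, 10872), (10867, 11462), (10868, 10270), (10869, 11338), (10870, 11468), (10871, 10271), (10872, 10866), (10873, 10488), (10874, 10276), (10875, 10277), (10876, 11472), (10877, 11473), (10878, 11479), (10879, 10489)]
    ⟨e3 q10816 L188561 q11407, e3 q10817 (flp_f L183361) q10225, e3 q10818 L183371 q10657, e3 q10819 L188579 q11409, e3 q10820 L183400 q10230, e3 q10821 (flp_f L186011) q11116, e3 q10822 (flp_f L188595) q11410, e3 q10823 L183434 q10232, e3 q10824 (flp_f L188223) q11374, e3 q10825 L188661 q11416, e3 q10826 (flp_f L183464) q10233, e3 q10827 (flp_f L184937) q10987, e3 q10828 L183484 q10392, e3 q10829 L183495 q10238, e3 q10830 L183503 q10239, e3 q10831 (flp_f L188699) q11420, e3 q10832 (flp_f L188709) q11421, e3 q10833 L188744 q11427, e3 q10834 L183528 q10393, e3 q10835 L183536 q10242, e3 q10836 L188780 q11431, e3 q10837 (flp_f L188764) q11429, e3 q10838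 L188812 q11434, e3 q10839 (flp_f L183564) q10243, e3 q10840 (flp_f L188577) q11408, e3 q10841 L183582 q10246, e3 q10842 L183599 q10328, e3 q10843 L183612 q10613, e3 q10844 L183622 q10620, e3 q10845 L188861 q11439, e3 q10846 (flp_f L183642) q10249, e3 q10847 L188881 q11441, e3 q10848 L183670 q10623, e3 q10849 L183680 q10624, e3 q10850 L188944 q11446, e3 q10851 (flp_f L183700) q10254, e3 q10852 L183718 q10284, e3 q10853 L183728 q10257, e3 q10854 (flp_f L188986) q11449, e3 q10855 L189018 q11453, e3 q10856 L183752 q10290, e3 q10857 L183764 q10260, e3 q10858 L189060 q11457, e3 q10859 (flp_f L189040) q11455, e3 q10860 L189094 q11460, e3 q10861 (flp_f L183796) q10261, e3 q10862 L183804 q10296, e3 q10863 L183808 q10265, e3 q10864 L183836 q10570, e3 q10865 L183845 q10268, e3 q10866 (flp_f L183915) q10872, e3 q10867 (flp_f L189112) q11462, e3 q10868 L183876 q10270, e3 q10869 (flp_f L187841) q11338, e3 q10870 L189169 q11468, e3 q10871 (flp_f L183902) q10271, e3 q10872 L183915 q10866, e3 q10873 L183926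 q10488, e3 q10874 L183939 q10276, e3 q10875 L183947 q10277, e3 q10876 (flp_f L189211) q11472, e3 q10877 (flp_f L189217) q11473, e3 q10878 L189252 q11479, e3 q10879 L183974 q10489, trivial⟩ (by decide +kernel)

theorem ce_f_170 : ∀ r, r < 64 → sm gf (Qf (10880 + r)) = Qf (tab Gen.f (10880 + r)) :=
  edges_tab (sm gf) Qf (tab Gen.f) 10880 [(10880, 10280), (10881, 11483), (10882, 11432), (10883, 11485), (10884, 10281), (10885, 11447), (10886, 11043), (10887, 11448), (10888, 10287), (10889, 10288), (10890, 11493), (10891, 11489), (10892, 11496), (10893, 11491), (10894, 11500), (10895, 10289), (10896, 11502), (10897, 10293), (10898, 11504), (10899, 10292), (10900, 10433), (10901, 11507), (10902, 10294), (10903, 11461), (10904, 10301), (10905, 10952), (10906, 11509), (10907, 10304), (10908, 11177), (10909, 10584), (10910, 10310), (10911, 10312), (10912, 11512), (10913, 11234), (10914, 10435), (10915, 11236), (10916, 11237), (10917, 11238), (10918, 10627), (10919, 10566), (10920, 10656), (10921,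 10580), (10922, 11519), (10923, 10333), (10924, 11296), (10925, 11522), (10926, 10335), (10927, 10383), (10928, 11525), (10929, 11526), (10930, 10338), (10931, 11528), (10932, 10340), (10933, 11523), (10934, 11378), (10935, 10348), (10936, 11258), (10937, 11022), (10938, 11535), (10939, 10662), (10940, 11307), (10941, 10352), (10942, 11539), (10943, 11309)]
    ⟨e3 q10880 L183982 q10280, e3 q10881 L189288 q11483, e3 q10882 (flp_f L188794) q11432, e3 q10883 L189306 q11485, e3 q10884 (flp_f L184004) q10281, e3 q10885 (flp_f L188966) q11447, e3 q10886 (flp_f L185412) q11043, e3 q10887 (flp_f L188974) q11448, e3 q10888 L184028 q10287, e3 q10889 L184034 q10288, e3 q10890 L189358 q11493, e3 q10891 (flp_f L189330) q11489, e3 q10892 L189376 q11496, e3 q10893 (flp_f L189344) q11491, e3 q10894 L189400 q11500, e3 q10895 (flp_f L184066) q10289, e3 q10896 L189410 q11502, e3 q10897 L184080 q10293, e3 q10898 L189424 q11504, e3 q10899 (flp_f L184090) q10292, e3 q10900 L184100 q10433, e3 q10901 L189442 q11507,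 e3 q10902 (flp_f L184108) q10294, e3 q10903 (flp_f L189104) q11461, e3 q10904 L184122 q10301, e3 q10905 (flp_f L184603) q10952, e3 q10906 (flp_f L189456) q11509, e3 q10907 L184148 q10304, e3 q10908 (flp_f L186506) q11177, e3 q10909 L184170 q10584, e3 q10910 L184179 q10310, e3 q10911 L184186 q10312, e3 q10912 (flp_f L189488) q11512, e3 q10913 (flp_f L186947) q11234, e3 q10914 L184215 q10435, e3 q10915 (flp_f L186967) q11236, e3 q10916 (flp_f L186973) q11237, e3 q10917 (flp_f L186993) q11238, e3 q10918 L184242 q10627, e3 q10919 L184259 q10566, e3 q10920 L184281 q10656, e3 q10921 L184289 q10580, e3 q10922 L189553 q11519, e3 q10923 (flp_f L184309) q10333, e3 q10924 (flp_f L187364) q11296, e3 q10925 L189597 q11522, e3 q10926 (flp_f L184347) q10335, e3 q10927 L184363 q10383, e3 q10928 L189633 q11525, e3 q10929 L189643 q11526, e3 q10930 (flp_f L184387) q10338, e3 q10931 L189661 q11528, e3 q10932 (flp_f L184409) q10340, e3 q10933 (flp_f L189619) q11523, e3 q10934 (flp_f L188259) q11378, e3 q10935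 L184445 q10348, e3 q10936 (flp_f L187138) q11258, e3 q10937 (flp_f L185240) q11022, e3 q10938 L189741 q11535, e3 q10939 L184492 q10662, e3 q10940 (flp_f L187486) q11307, e3 q10941 L184519 q10352, e3 q10942 (flp_f L189790) q11539, e3 q10943 (flp_f L187510) q11309, trivial⟩ (by decide +kernel)

theorem ce_f_171 : ∀ r, r < 64 → sm gf (Qf (10944 + r)) = Qf (tab Gen.f (10944 + r)) :=
  edges_tab (sm gf) Qf (tab Gen.f) 10944 [(10944, 11543), (10945, 10664), (10946, 11070), (10947, 10357), (10948, 11546), (10949, 11550), (10950, 10358), (10951, 10360), (10952, 10905), (10953, 11552), (10954, 11555), (10955, 11343), (10956, 11557), (10957, 10363), (10958, 11326), (10959, 11560), (10960, 11363), (10961, 11562), (10962, 11563), (10963, 10368), (10964, 10804), (10965, 10372), (10966, 10373), (10967, 11566), (10968, 11569), (10969, 11570), (10970, 10375), (10971, 11558), (10972, 11035), (10973, 11320), (10974, 11575), (10975, 10379), (10976, 11322), (10977, 11323), (10978, 11580), (10979, 11582), (10980,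 10384), (10981, 10387), (10982, 11386), (10983, 11586), (10984, 11587), (10985, 10389), (10986, 10418), (10987, 10827), (10988, 11419), (10989, 11379), (10990, 11593), (10991, 11594), (10992, 10395), (10993, 10744), (10994, 10399), (10995, 10400), (10996, 11597), (10997, 11598), (10998, 11603), (10999, 10402), (11000, 11605), (11001, 11606), (11002, 10403), (11003, 11608), (11004, 10404), (11005, 11583), (11006, 11217), (11007, 11328)]
    ⟨e3 q10944 L189809 q11543, e3 q10945 L184548 q10664, e3 q10946 (flp_f L185657) q11070, e3 q10947 L184566 q10357, e3 q10948 (flp_f L189843) q11546, e3 q10949 L189867 q11550, e3 q10950 (flp_f L184582) q10358, e3 q10951 L184592 q10360, e3 q10952 L184603 q10905, e3 q10953 (flp_f L189881) q11552, e3 q10954 L189907 q11555, e3 q10955 (flp_f L187897) q11343, e3 q10956 L189929 q11557, e3 q10957 (flp_f L184646) q10363, e3 q10958 (flp_f L187706) q11326, e3 q10959 L189961 q11560, e3 q10960 (flp_f L188115) q11363, e3 q10961 L189979 q11562, e3 q10962 L189989 q11563,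 e3 q10963 (flp_f L184704) q10368, e3 q10964 L184718 q10804, e3 q10965 L184734 q10372, e3 q10966 L184744 q10373, e3 q10967 (flp_f L190017) q11566, e3 q10968 L190047 q11569, e3 q10969 L190055 q11570, e3 q10970 (flp_f L184780) q10375, e3 q10971 (flp_f L189949) q11558, e3 q10972 (flp_f L185359) q11035, e3 q10973 (flp_f L187632) q11320, e3 q10974 L190102 q11575, e3 q10975 (flp_f L184816) q10379, e3 q10976 (flp_f L187660) q11322, e3 q10977 (flp_f L187672) q11323, e3 q10978 L190149 q11580, e3 q10979 L190169 q11582, e3 q10980 (flp_f L184866) q10384, e3 q10981 L184876 q10387, e3 q10982 (flp_f L188357) q11386, e3 q10983 L190203 q11586, e3 q10984 L190211 q11587, e3 q10985 (flp_f L184912) q10389, e3 q10986 L184926 q10418, e3 q10987 L184937 q10827, e3 q10988 (flp_f L188689) q11419, e3 q10989 (flp_f L188273) q11379, e3 q10990 L190276 q11593, e3 q10991 L190284 q11594, e3 q10992 (flp_f L184983) q10395, e3 q10993 L185000 q10744, e3 q10994 L185013 q10399, e3 q10995 L185023 q10400, e3 q10996 (flp_f L190320)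 q11597, e3 q10997 (flp_f L190330) q11598, e3 q10998 L190366 q11603, e3 q10999 L185048 q10402, e3 q11000 L190380 q11605, e3 q11001 L190386 q11606, e3 q11002 (flp_f L185068) q10403, e3 q11003 L190400 q11608, e3 q11004 (flp_f L185078) q10404, e3 q11005 (flp_f L190181) q11583, e3 q11006 (flp_f L186815) q11217, e3 q11007 (flp_f L187734) q11328, trivial⟩ (by decide +kernel)

theorem ce_f_172 : ∀ r, r < 64 → sm gf (Qf (11008 + r)) = Qf (tab Gen.f (11008 + r)) :=
  edges_tab (sm gf) Qf (tab Gen.f) 11008 [(11008, 10410), (11009, 10411), (11010, 11615), (11011, 11384), (11012, 11617), (11013, 11619), (11014, 10412), (11015, 11621), (11016, 11622), (11017, 10415), (11018, 10416), (11019, 11588), (11020, 11167), (11021, 10464), (11022, 10937), (11023, 10642), (11024, 11497), (11025, 10652), (11026, 11513), (11027, 11629), (11028, 11135), (11029, 11631), (11030, 10438), (11031, 10440), (11032, 11529), (11033, 10457), (11034, 10445), (11035, 10972), (11036, 11634), (11037, 11639), (11038, 10447), (11039,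 11641), (11040, 11642), (11041, 10448), (11042, 11440), (11043, 10886), (11044, 10453), (11045, 11646), (11046, 11647), (11047, 10454), (11048, 10455), (11049, 11520), (11050, 10714), (11051, 11652), (11052, 10461), (11053, 10713), (11054, 11058), (11055, 11625), (11056, 11657), (11057, 10468), (11058, 11054), (11059, 11658), (11060, 10470), (11061, 11302), (11062, 11665), (11063, 10471), (11064, 10500), (11065, 10475), (11066, 10476), (11067, 11668), (11068, 11669), (11069, 11675), (11070, 10946), (11071, 10479)]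
    ⟨e3 q11008 L185104 q10410, e3 q11009 L185114 q10411, e3 q11010 L190450 q11615, e3 q11011 (flp_f L188333) q11384, e3 q11012 L190472 q11617, e3 q11013 L190490 q11619, e3 q11014 (flp_f L185160) q10412, e3 q11015 L190506 q11621, e3 q11016 L190510 q11622, e3 q11017 (flp_f L185182) q10415, e3 q11018 (flp_f L185188) q10416, e3 q11019 (flp_f L190231) q11588, e3 q11020 (flp_f L186399) q11167, e3 q11021 L185232 q10464, e3 q11022 L185240 q10937, e3 q11023 L185252 q10642, e3 q11024 (flp_f L189384) q11497, e3 q11025 L185269 q10652, e3 q11026 (flp_f L189501) q11513, e3 q11027 L190584 q11629, e3 q11028 (flp_f L186173) q11135, e3 q11029 L190608 q11631, e3 q11030 (flp_f L185309) q10438, e3 q11031 (flp_f L185319) q10440, e3 q11032 (flp_f L189683) q11529, e3 q11033 L185341 q10457, e3 q11034 L185347 q10445, e3 q11035 L185359 q10972, e3 q11036 (flp_f L190638) q11634, e3 q11037 L190688 q11639, e3 q11038 L185382 q10447, e3 q11039 L190700 q11641, e3 q11040 L190708 q11642, e3 q11041 (flp_f L185396) q10448, e3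 q11042 (flp_f L188879) q11440, e3 q11043 L185412 q10886, e3 q11044 L185424 q10453, e3 q11045 L190740 q11646, e3 q11046 L190746 q11647, e3 q11047 (flp_f L185450) q10454, e3 q11048 (flp_f L185456) q10455, e3 q11049 (flp_f L189579) q11520, e3 q11050 L185470 q10714, e3 q11051 L190788 q11652, e3 q11052 (flp_f L185484) q10461, e3 q11053 L185494 q10713, e3 q11054 (flp_f L185551) q11058, e3 q11055 (flp_f L190548) q11625, e3 q11056 L190834 q11657, e3 q11057 L185536 q10468, e3 q11058 L185551 q11054, e3 q11059 (flp_f L190848) q11658, e3 q11060 L185569 q10470, e3 q11061 (flp_f L187436) q11302, e3 q11062 L190913 q11665, e3 q11063 (flp_f L185591) q10471, e3 q11064 L185607 q10500, e3 q11065 L185623 q10475, e3 q11066 L185631 q10476, e3 q11067 (flp_f L190949) q11668, e3 q11068 (flp_f L190959) q11669, e3 q11069 L190997 q11675, e3 q11070 L185657 q10946, e3 q11071 L185665 q10479, trivial⟩ (by decide +kernel)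

theorem ce_f_173 : ∀ r, r < 64 → sm gf (Qf (11072 + r)) = Qf (tab Gen.f (11072 + r)) :=
  edges_tab (sm gf) Qf (tab Gen.f) 11072 [(11072, 11680), (11073, 11678), (11074, 11683), (11075, 10480), (11076, 11653), (11077, 10591), (11078, 10485), (11079, 11174), (11080, 11685), (11081, 10509), (11082, 11087), (11083, 11471), (11084, 11480), (11085, 11692), (11086, 10490), (11087, 11082), (11088, 10494), (11089, 10495), (11090, 11695), (11091, 11696), (11092, 11701), (11093, 10497), (11094, 11703), (11095, 11704), (11096, 10498), (11097, 10683), (11098, 11667), (11099, 11352), (11100, 10504), (11101, 11710), (11102, 11711), (11103, 10505), (11104, 11713), (11105, 10507), (11106, 11624), (11107, 11128), (11108, 10544), (11109, 10514), (11110, 11719), (11111, 11720), (11112, 10515), (11113, 11722), (11114, 10517), (11115, 10558), (11116, 10821), (11117, 10523), (11118, 10524), (11119, 11725), (11120, 11726), (11121, 11732), (11122, 10526), (11123, 11734), (11124, 11458), (11125, 11736), (11126,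 10527), (11127, 10645), (11128, 11107), (11129, 10685), (11130, 10533), (11131, 10534), (11132, 11743), (11133, 11395), (11134, 11745), (11135, 11028)]
    ⟨e3 q11072 L191033 q11680, e3 q11073 (flp_f L191027) q11678, e3 q11074 L191045 q11683, e3 q11075 (flp_f L185679) q10480, e3 q11076 (flp_f L190800) q11653, e3 q11077 L185689 q10591, e3 q11078 L185697 q10485, e3 q11079 (flp_f L186479) q11174, e3 q11080 (flp_f L191059) q11685, e3 q11081 L185727 q10509, e3 q11082 (flp_f L185783) q11087, e3 q11083 (flp_f L189199) q11471, e3 q11084 (flp_f L189262) q11480, e3 q11085 L191124 q11692, e3 q11086 (flp_f L185770) q10490, e3 q11087 L185783 q11082, e3 q11088 L185798 q10494, e3 q11089 L185808 q10495, e3 q11090 (flp_f L191156) q11695, e3 q11091 (flp_f L191166) q11696, e3 q11092 L191204 q11701, e3 q11093 L185839 q10497, e3 q11094 L191216 q11703, e3 q11095 L191224 q11704, e3 q11096 (flp_f L185859) q10498, e3 q11097 L185873 q10683, e3 q11098 (flp_f L190935) q11667, e3 q11099 (flp_f L187993) q11352, e3 q11100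 L185891 q10504, e3 q11101 L191276 q11710, e3 q11102 L191282 q11711, e3 q11103 (flp_f L185909) q10505, e3 q11104 L191292 q11713, e3 q11105 (flp_f L185919) q10507, e3 q11106 (flp_f L190540) q11624, e3 q11107 (flp_f L186111) q11128, e3 q11108 L185943 q10544, e3 q11109 L185955 q10514, e3 q11110 L191342 q11719, e3 q11111 L191350 q11720, e3 q11112 (flp_f L185975) q10515, e3 q11113 L191364 q11722, e3 q11114 (flp_f L185987) q10517, e3 q11115 L185999 q10558, e3 q11116 L186011 q10821, e3 q11117 L186025 q10523, e3 q11118 L186035 q10524, e3 q11119 (flp_f L191394) q11725, e3 q11120 (flp_f L191406) q11726, e3 q11121 L191458 q11732, e3 q11122 L186071 q10526, e3 q11123 L191472 q11734, e3 q11124 (flp_f L189078) q11458, e3 q11125 L191486 q11736, e3 q11126 (flp_f L186093) q10527, e3 q11127 L186105 q10645, e3 q11128 L186111 q11107, e3 q11129 L186117 q10685, e3 q11130 L186129 q10533, e3 q11131 L186137 q10534, e3 q11132 L191548 q11743, e3 q11133 (flp_f L188446) q11395, e3 q11134 L191564 q11745, e3 q11135 L186173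 q11028, trivial⟩ (by decide +kernel)

theorem ce_f_174 : ∀ r, r < 64 → sm gf (Qf (11136 + r)) = Qf (tab Gen.f (11136 + r)) :=
  edges_tab (sm gf) Qf (tab Gen.f) 11136 [(11136, 11748), (11137, 10535), (11138, 11750), (11139, 11751), (11140, 10538), (11141, 11753), (11142, 10540), (11143, 10702), (11144, 11270), (11145, 11756), (11146, 11757), (11147, 11758), (11148, 11759), (11149, 10547), (11150, 11761), (11151, 10549), (11152, 11763), (11153, 11764), (11154, 10551), (11155, 11721), (11156, 10553), (11157, 10554), (11158, 11766), (11159, 10556), (11160, 11571), (11161, 11172), (11162, 10658), (11163, 10722), (11164, 11301), (11165, 11306), (11166, 10575), (11167, 11020), (11168, 10647), (11169, 10581), (11170, 11400), (11171, 11511), (11172, 11161), (11173, 11254), (11174, 11079), (11175, 11676), (11176, 10597), (11177, 10908), (11178, 11774), (11179, 10715), (11180, 10602), (11181, 10603), (11182, 11776), (11183, 11777), (11184, 10606), (11185, 10609), (11186, 11775), (11187, 11300), (11188,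 11191), (11189, 11436), (11190, 11783), (11191, 11188), (11192, 10616), (11193, 11786), (11194, 11790), (11195, 10617), (11196, 10619), (11197, 11317), (11198, 11792), (11199, 11796)]
    ⟨e3 q11136 L191594 q11748, e3 q11137 (flp_f L186189) q10535, e3 q11138 L191610 q11750, e3 q11139 L191616 q11751, e3 q11140 (flp_f L186207) q10538, e3 q11141 L191628 q11753, e3 q11142 (flp_f L186221) q10540, e3 q11143 L186231 q10702, e3 q11144 (flp_f L187214) q11270, e3 q11145 L191654 q11756, e3 q11146 L191658 q11757, e3 q11147 L191664 q11758, e3 q11148 L191672 q11759, e3 q11149 (flp_f L186275) q10547, e3 q11150 L191690 q11761, e3 q11151 (flp_f L186287) q10549, e3 q11152 L191700 q11763, e3 q11153 L191708 q11764, e3 q11154 (flp_f L186301) q10551, e3 q11155 (flp_f L191362) q11721, e3 q11156 (flp_f L186311) q10553, e3 q11157 (flp_f L186313) q10554, e3 q11158 (flp_f L191722) q11766, e3 q11159 (flp_f L186323) q10556, e3 q11160 (flp_f L190075) q11571, e3 q11161 (flp_f L186451) q11172, e3 q11162 L186342 q10658,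 e3 q11163 L186357 q10722, e3 q11164 (flp_f L187432) q11301, e3 q11165 (flp_f L187478) q11306, e3 q11166 L186387 q10575, e3 q11167 L186399 q11020, e3 q11168 L186411 q10647, e3 q11169 L186427 q10581, e3 q11170 (flp_f L188489) q11400, e3 q11171 (flp_f L189478) q11511, e3 q11172 L186451 q11161, e3 q11173 (flp_f L187096) q11254, e3 q11174 L186479 q11079, e3 q11175 (flp_f L191007) q11676, e3 q11176 L186495 q10597, e3 q11177 L186506 q10908, e3 q11178 (flp_f L191791) q11774, e3 q11179 L186526 q10715, e3 q11180 L186538 q10602, e3 q11181 L186549 q10603, e3 q11182 (flp_f L191816) q11776, e3 q11183 (flp_f L191825) q11777, e3 q11184 L186575 q10606, e3 q11185 L186590 q10609, e3 q11186 (flp_f L191810) q11775, e3 q11187 (flp_f L187418) q11300, e3 q11188 (flp_f L186634) q11191, e3 q11189 (flp_f L188828) q11436, e3 q11190 L191870 q11783, e3 q11191 L186634 q11188, e3 q11192 L186644 q10616, e3 q11193 (flp_f L191899) q11786, e3 q11194 L191933 q11790, e3 q11195 (flp_f L186666) q10617, e3 q11196 L186678 q10619,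 e3 q11197 (flp_f L187602) q11317, e3 q11198 (flp_f L191951) q11792, e3 q11199 L191980 q11796, trivial⟩ (by decide +kernel)

theorem ce_f_175 : ∀ r, r < 64 → sm gf (Qf (11200 + r)) = Qf (tab Gen.f (11200 + r)) :=
  edges_tab (sm gf) Qf (tab Gen.f) 11200 [(11200, 10621), (11201, 11308), (11202, 11442), (11203, 11802), (11204, 11444), (11205, 11804), (11206, 10625), (11207, 11693), (11208, 11311), (11209, 11403), (11210, 11810), (11211, 11405), (11212, 11813), (11213, 10631), (11214, 11815), (11215, 10632), (11216, 11595), (11217, 11006), (11218, 10637), (11219, 10638), (11220, 11822), (11221, 11819), (11222, 11825), (11223, 11626), (11224, 11829), (11225, 10639), (11226, 11831), (11227, 10641), (11228, 10659), (11229, 11834), (11230, 10643), (11231, 11737), (11232, 10650), (11233, 11628), (11234, 10913), (11235, 10660), (11236, 10915), (11237, 10916), (11238, 10917), (11239, 11518), (11240, 11690), (11241, 11826), (11242, 11836), (11243, 10663), (11244, 11536), (11245, 11844), (11246, 11850),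 (11247, 11544), (11248, 10666), (11249, 11855), (11250, 11853), (11251, 11858), (11252, 10667), (11253, 11666), (11254, 11173), (11255, 10672), (11256, 11399), (11257, 11860), (11258, 10936), (11259, 10676), (11260, 10677), (11261, 11867), (11262, 11864), (11263, 11869)]
    ⟨e3 q11200 (flp_f L186705) q10621, e3 q11201 (flp_f L187500) q11308, e3 q11202 (flp_f L188899) q11442, e3 q11203 L192022 q11802, e3 q11204 (flp_f L188922) q11444, e3 q11205 L192034 q11804, e3 q11206 (flp_f L186746) q10625, e3 q11207 (flp_f L191138) q11693, e3 q11208 (flp_f L187529) q11311, e3 q11209 (flp_f L188522) q11403, e3 q11210 L192076 q11810, e3 q11211 (flp_f L188541) q11405, e3 q11212 L192096 q11813, e3 q11213 (flp_f L186789) q10631, e3 q11214 L192106 q11815, e3 q11215 (flp_f L186799) q10632, e3 q11216 (flp_f L190300) q11595, e3 q11217 L186815 q11006, e3 q11218 L186825 q10637, e3 q11219 L186833 q10638, e3 q11220 L192158 q11822, e3 q11221 (flp_f L192136) q11819, e3 q11222 L192180 q11825, e3 q11223 (flp_f L190560)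 q11626, e3 q11224 L192216 q11829, e3 q11225 (flp_f L186875) q10639, e3 q11226 L192232 q11831, e3 q11227 (flp_f L186889) q10641, e3 q11228 L186899 q10659, e3 q11229 L192252 q11834, e3 q11230 (flp_f L186907) q10643, e3 q11231 (flp_f L191498) q11737, e3 q11232 L186925 q10650, e3 q11233 (flp_f L190579) q11628, e3 q11234 L186947 q10913, e3 q11235 L186952 q10660, e3 q11236 L186967 q10915, e3 q11237 L186973 q10916, e3 q11238 L186993 q10917, e3 q11239 (flp_f L189545) q11518, e3 q11240 (flp_f L191104) q11690, e3 q11241 (flp_f L192192) q11826, e3 q11242 (flp_f L192265) q11836, e3 q11243 L187021 q10663, e3 q11244 (flp_f L189755) q11536, e3 q11245 (flp_f L192337) q11844, e3 q11246 L192384 q11850, e3 q11247 (flp_f L189821) q11544, e3 q11248 L187056 q10666, e3 q11249 L192430 q11855, e3 q11250 (flp_f L192418) q11853, e3 q11251 L192452 q11858, e3 q11252 (flp_f L187082) q10667, e3 q11253 (flp_f L190929) q11666, e3 q11254 L187096 q11173, e3 q11255 L187105 q10672, e3 q11256 (flp_f L188481) q11399, e3 q11257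 (flp_f L192470) q11860, e3 q11258 L187138 q10936, e3 q11259 L187146 q10676, e3 q11260 L187154 q10677, e3 q11261 L192533 q11867, e3 q11262 (flp_f L192514) q11864, e3 q11263 L192547 q11869, trivial⟩ (by decide +kernel)

theorem ce_f_176 : ∀ r, r < 64 → sm gf (Qf (11264 + r)) = Qf (tab Gen.f (11264 + r)) :=
  edges_tab (sm gf) Qf (tab Gen.f) 11264 [(11264, 11871), (11265, 10678), (11266, 11873), (11267, 10680), (11268, 10681), (11269, 11705), (11270, 11144), (11271, 11877), (11272, 11368), (11273, 11879), (11274, 10689), (11275, 11882), (11276, 10691), (11277, 11885), (11278, 10688), (11279, 11880), (11280, 11890), (11281, 10690), (11282, 11380), (11283, 11894), (11284, 11895), (11285, 10692), (11286, 11749), (11287, 11897), (11288, 10695), (11289, 11899), (11290, 11900), (11291, 10697), (11292, 11898), (11293, 11903), (11294, 10700), (11295, 11754), (11296, 10924), (11297, 10710), (11298, 10786), (11299, 10776), (11300, 11187), (11301, 11164), (11302, 11061), (11303, 11654), (11304, 11650),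 (11305, 10718), (11306, 11165), (11307, 10940), (11308, 11201), (11309, 10943), (11310, 11915), (11311, 11208), (11312, 10728), (11313, 11918), (11314, 11922), (11315, 10729), (11316, 10731), (11317, 11197), (11318, 11924), (11319, 11927), (11320, 10973), (11321, 11929), (11322, 10976), (11323, 10977), (11324, 11933), (11325, 10736), (11326, 10958), (11327, 11936)]
    ⟨e3 q11264 L192556 q11871, e3 q11265 (flp_f L187182) q10678, e3 q11266 L192566 q11873, e3 q11267 (flp_f L187192) q10680, e3 q11268 (flp_f L187198) q10681, e3 q11269 (flp_f L191238) q11705, e3 q11270 L187214 q11144, e3 q11271 L192596 q11877, e3 q11272 (flp_f L188163) q11368, e3 q11273 L192610 q11879, e3 q11274 L187240 q10689, e3 q11275 L192632 q11882, e3 q11276 L187254 q10691, e3 q11277 L192660 q11885, e3 q11278 (flp_f L187264) q10688, e3 q11279 (flp_f L192618) q11880, e3 q11280 L192698 q11890, e3 q11281 (flp_f L187282) q10690, e3 q11282 (flp_f L188289) q11380, e3 q11283 L192722 q11894, e3 q11284 L192728 q11895, e3 q11285 (flp_f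 L187306) q10692, e3 q11286 (flp_f L191608) q11749, e3 q11287 L192740 q11897, e3 q11288 (flp_f L187324) q10695, e3 q11289 L192748 q11899, e3 q11290 L192754 q11900, e3 q11291 (flp_f L187334) q10697, e3 q11292 (flp_f L192746) q11898, e3 q11293 L192780 q11903, e3 q11294 (flp_f L187348) q10700, e3 q11295 (flp_f L191638) q11754, e3 q11296 L187364 q10924, e3 q11297 L187374 q10710, e3 q11298 L187398 q10786, e3 q11299 L187406 q10776, e3 q11300 L187418 q11187, e3 q11301 L187432 q11164, e3 q11302 L187436 q11061, e3 q11303 (flp_f L190808) q11654, e3 q11304 (flp_f L190772) q11650, e3 q11305 L187460 q10718, e3 q11306 L187478 q11165, e3 q11307 L187486 q10940, e3 q11308 L187500 q11201, e3 q11309 L187510 q10943, e3 q11310 L192898 q11915, e3 q11311 L187529 q11208, e3 q11312 L187543 q10728, e3 q11313 (flp_f L192937) q11918, e3 q11314 L192979 q11922, e3 q11315 (flp_f L187569) q10729, e3 q11316 L187583 q10731, e3 q11317 L187602 q11197, e3 q11318 (flp_f L192999) q11924, e3 q11319 L193036 q11927, e3 q11320 L187632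 q10973, e3 q11321 L193064 q11929, e3 q11322 L187660 q10976, e3 q11323 L187672 q10977, e3 q11324 L193119 q11933, e3 q11325 (flp_f L187694) q10736, e3 q11326 L187706 q10958, e3 q11327 L193155 q11936, trivial⟩ (by decide +kernel)

theorem ce_f_177 : ∀ r, r < 64 → sm gf (Qf (11328 + r)) = Qf (tab Gen.f (11328 + r)) :=
  edges_tab (sm gf) Qf (tab Gen.f) 11328 [(11328, 11007), (11329, 11938), (11330, 11940), (11331, 10742), (11332, 10745), (11333, 11596), (11334, 11942), (11335, 11948), (11336, 10747), (11337, 11950), (11338, 10869), (11339, 11952), (11340, 10748), (11341, 11934), (11342, 11954), (11343, 10955), (11344, 11956), (11345, 10754), (11346, 11958), (11347, 11959), (11348, 10758), (11349, 11961), (11350, 10760), (11351, 10784), (11352, 11099), (11353, 11964), (11354, 11965), (11355, 10765), (11356, 10767), (11357, 11968), (11358, 11969), (11359, 10769), (11360, 11971), (11361, 10770), (11362, 11960), (11363, 10960), (11364, 10775), (11365, 11976), (11366, 11905), (11367, 11978), (11368,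 11272), (11369, 11981), (11370, 10777), (11371, 11983), (11372, 11984), (11373, 10780), (11374, 10824), (11375, 11987), (11376, 10782), (11377, 11962), (11378, 10934), (11379, 10989), (11380, 11282), (11381, 11990), (11382, 11991), (11383, 10796), (11384, 11011), (11385, 11994), (11386, 10982), (11387, 11996), (11388, 10801), (11389, 10803), (11390, 11998), (11391, 12002)]
    ⟨e3 q11328 L187734 q11007, e3 q11329 L193183 q11938, e3 q11330 L193211 q11940, e3 q11331 (flp_f L187766) q10742, e3 q11332 L187780 q10745, e3 q11333 (flp_f L190308) q11596, e3 q11334 (flp_f L193233) q11942, e3 q11335 L193298 q11948, e3 q11336 L187815 q10747, e3 q11337 L193318 q11950, e3 q11338 L187841 q10869, e3 q11339 L193344 q11952, e3 q11340 (flp_f L187861) q10748, e3 q11341 (flp_f L193139) q11934, e3 q11342 L193362 q11954, e3 q11343 L187897 q10955, e3 q11344 L193390 q11956, e3 q11345 (flp_f L187919) q10754, e3 q11346 L193412 q11958, e3 q11347 L193426 q11959, e3 q11348 (flp_f L187951) q10758, e3 q11349 L193444 q11961,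 e3 q11350 (flp_f L187969) q10760, e3 q11351 L187985 q10784, e3 q11352 L187993 q11099, e3 q11353 L193484 q11964, e3 q11354 L193498 q11965, e3 q11355 (flp_f L188027) q10765, e3 q11356 L188041 q10767, e3 q11357 L193532 q11968, e3 q11358 L193540 q11969, e3 q11359 (flp_f L188075) q10769, e3 q11360 L193564 q11971, e3 q11361 (flp_f L188095) q10770, e3 q11362 (flp_f L193442) q11960, e3 q11363 L188115 q10960, e3 q11364 L188129 q10775, e3 q11365 L193618 q11976, e3 q11366 (flp_f L192794) q11905, e3 q11367 L193638 q11978, e3 q11368 L188163 q11272, e3 q11369 L193670 q11981, e3 q11370 (flp_f L188179) q10777, e3 q11371 L193684 q11983, e3 q11372 L193698 q11984, e3 q11373 (flp_f L188209) q10780, e3 q11374 L188223 q10824, e3 q11375 L193730 q11987, e3 q11376 (flp_f L188241) q10782, e3 q11377 (flp_f L193466) q11962, e3 q11378 L188259 q10934, e3 q11379 L188273 q10989, e3 q11380 L188289 q11282, e3 q11381 L193761 q11990, e3 q11382 L193773 q11991, e3 q11383 (flp_f L188321) q10796, e3 q11384 L188333 q11011, e3 q11385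 L193811 q11994, e3 q11386 L188357 q10982, e3 q11387 L193835 q11996, e3 q11388 (flp_f L188377) q10801, e3 q11389 L188391 q10803, e3 q11390 (flp_f L193859) q11998, e3 q11391 L193899 q12002, trivial⟩ (by decide +kernel)

theorem ce_f_178 : ∀ r, r < 64 → sm gf (Qf (11392 + r)) = Qf (tab Gen.f (11392 + r)) :=
  edges_tab (sm gf) Qf (tab Gen.f) 11392 [(11392, 11565), (11393, 10806), (11394, 12005), (11395, 11133), (11396, 12008), (11397, 10807), (11398, 11992), (11399, 11256), (11400, 11170), (11401, 10812), (11402, 10813), (11403, 11209), (11404, 12015), (11405, 11211), (11406, 12017), (11407, 10816), (11408, 10840), (11409, 10819), (11410, 10822), (11411, 11724), (11412, 11979), (11413, 12024), (11414, 12025), (11415, 12026), (11416, 10825), (11417, 12012), (11418, 11589), (11419, 10988), (11420, 10831), (11421, 10832), (11422, 12035), (11423, 12031), (11424, 12038), (11425, 12033), (11426, 12042), (11427, 10833), (11428, 12044), (11429, 10837), (11430, 12046), (11431, 10836), (11432, 10882),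 (11433, 12049), (11434, 10838), (11435, 12018), (11436, 11189), (11437, 12052), (11438, 12053), (11439, 10845), (11440, 11042), (11441, 10847), (11442, 11202), (11443, 12058), (11444, 11204), (11445, 12060), (11446, 10850), (11447, 10885), (11448, 10887), (11449, 10854), (11450, 12065), (11451, 12063), (11452, 12068), (11453, 10855), (11454, 12070), (11455, 10859)]
    ⟨e3 q11392 (flp_f L190005) q11565, e3 q11393 L188424 q10806, e3 q11394 L193929 q12005, e3 q11395 L188446 q11133, e3 q11396 L193959 q12008, e3 q11397 (flp_f L188458) q10807, e3 q11398 (flp_f L193793) q11992, e3 q11399 L188481 q11256, e3 q11400 L188489 q11170, e3 q11401 (flp_f L188494) q10812, e3 q11402 (flp_f L188506) q10813, e3 q11403 L188522 q11209, e3 q11404 L194032 q12015, e3 q11405 L188541 q11211, e3 q11406 L194054 q12017, e3 q11407 (flp_f L188561) q10816, e3 q11408 L188577 q10840, e3 q11409 (flp_f L188579) q10819, e3 q11410 L188595 q10822, e3 q11411 (flp_f L191382) q11724, e3 q11412 (flp_f L193652) q11979, e3 q11413 L194140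 q12024, e3 q11414 L194148 q12025, e3 q11415 L194160 q12026, e3 q11416 (flp_f L188661) q10825, e3 q11417 (flp_f L194009) q12012, e3 q11418 (flp_f L190239) q11589, e3 q11419 L188689 q10988, e3 q11420 L188699 q10831, e3 q11421 L188709 q10832, e3 q11422 L194249 q12035, e3 q11423 (flp_f L194211) q12031, e3 q11424 L194272 q12038, e3 q11425 (flp_f L194233) q12033, e3 q11426 L194304 q12042, e3 q11427 (flp_f L188744) q10833, e3 q11428 L194314 q12044, e3 q11429 L188764 q10837, e3 q11430 L194340 q12046, e3 q11431 (flp_f L188780) q10836, e3 q11432 L188794 q10882, e3 q11433 L194370 q12049, e3 q11434 (flp_f L188812) q10838, e3 q11435 (flp_f L194074) q12018, e3 q11436 L188828 q11189, e3 q11437 L194400 q12052, e3 q11438 L194410 q12053, e3 q11439 (flp_f L188861) q10845, e3 q11440 L188879 q11042, e3 q11441 (flp_f L188881) q10847, e3 q11442 L188899 q11202, e3 q11443 L194473 q12058, e3 q11444 L188922 q11204, e3 q11445 L194499 q12060, e3 q11446 (flp_f L188944) q10850, e3 q11447 L188966 q10885, e3 q11448 L188974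 q10887, e3 q11449 L188986 q10854, e3 q11450 L194561 q12065, e3 q11451 (flp_f L194541) q12063, e3 q11452 L194593 q12068, e3 q11453 (flp_f L189018) q10855, e3 q11454 L194605 q12070, e3 q11455 L189040 q10859, trivial⟩ (by decide +kernel)

theorem ce_f_179 : ∀ r, r < 64 → sm gf (Qf (11456 + r)) = Qf (tab Gen.f (11456 + r)) :=
  edges_tab (sm gf) Qf (tab Gen.f) 11456 [(11456, 12073), (11457, 10858), (11458, 11124), (11459, 12075), (11460, 10860), (11461, 10903), (11462, 10867), (11463, 11470), (11464, 11946), (11465, 12081), (11466, 12082), (11467, 12083), (11468, 10870), (11469, 12055), (11470, 11463), (11471, 11083), (11472, 10876), (11473, 10877), (11474, 12092), (11475, 12089), (11476, 12095), (11477, 12039), (11478, 12098), (11479, 10878), (11480, 11084), (11481, 12101), (11482, 12103), (11483, 10881), (11484, 12105), (11485, 10883), (11486, 12061), (11487, 12107), (11488, 12108), (11489, 10891), (11490, 12111), (11491, 10893), (11492, 12113), (11493, 10890), (11494, 12109), (11495, 12118),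 (11496, 10892), (11497, 11024), (11498, 12122), (11499, 12123), (11500, 10894), (11501, 12069), (11502, 10896), (11503, 12126), (11504, 10898), (11505, 12125), (11506, 12128), (11507, 10901), (11508, 12076), (11509, 10906), (11510, 11553), (11511, 11171), (11512, 10912), (11513, 11026), (11514, 11837), (11515, 11838), (11516, 11839), (11517, 11840), (11518, 11239), (11519, 10922)]
    ⟨e3 q11456 L194647 q12073, e3 q11457 (flp_f L189060) q10858, e3 q11458 L189078 q11124, e3 q11459 L194669 q12075, e3 q11460 (flp_f L189094) q10860, e3 q11461 L189104 q10903, e3 q11462 L189112 q10867, e3 q11463 (flp_f L189187) q11470, e3 q11464 (flp_f L193280) q11946, e3 q11465 L194728 q12081, e3 q11466 L194734 q12082, e3 q11467 L194746 q12083, e3 q11468 (flp_f L189169) q10870, e3 q11469 (flp_f L194448) q12055, e3 q11470 L189187 q11463, e3 q11471 L189199 q11083, e3 q11472 L189211 q10876, e3 q11473 L189217 q10877, e3 q11474 L194835 q12092, e3 q11475 (flp_f L194814) q12089, e3 q11476 L194858 q12095, e3 q11477 (flp_f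 L194283) q12039, e3 q11478 L194875 q12098, e3 q11479 (flp_f L189252) q10878, e3 q11480 L189262 q11084, e3 q11481 L194901 q12101, e3 q11482 L194927 q12103, e3 q11483 (flp_f L189288) q10881, e3 q11484 L194941 q12105, e3 q11485 (flp_f L189306) q10883, e3 q11486 (flp_f L194523) q12061, e3 q11487 L194955 q12107, e3 q11488 L194961 q12108, e3 q11489 L189330 q10891, e3 q11490 L194983 q12111, e3 q11491 L189344 q10893, e3 q11492 L194999 q12113, e3 q11493 (flp_f L189358) q10890, e3 q11494 (flp_f L194969) q12109, e3 q11495 L195039 q12118, e3 q11496 (flp_f L189376) q10892, e3 q11497 L189384 q11024, e3 q11498 L195063 q12122, e3 q11499 L195069 q12123, e3 q11500 (flp_f L189400) q10894, e3 q11501 (flp_f L194603) q12069, e3 q11502 (flp_f L189410) q10896, e3 q11503 L195087 q12126, e3 q11504 (flp_f L189424) q10898, e3 q11505 (flp_f L195085) q12125, e3 q11506 L195103 q12128, e3 q11507 (flp_f L189442) q10901, e3 q11508 (flp_f L194681) q12076, e3 q11509 L189456 q10906, e3 q11510 (flp_f L189894) q11553, e3 q11511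 L189478 q11171, e3 q11512 L189488 q10912, e3 q11513 L189501 q11026, e3 q11514 (flp_f L192282) q11837, e3 q11515 (flp_f L192288) q11838, e3 q11516 (flp_f L192307) q11839, e3 q11517 (flp_f L192313) q11840, e3 q11518 L189545 q11239, e3 q11519 (flp_f L189553) q10922, trivial⟩ (by decide +kernel)

theorem ce_f_180 : ∀ r, r < 64 → sm gf (Qf (11520 + r)) = Qf (tab Gen.f (11520 + r)) :=
  edges_tab (sm gf) Qf (tab Gen.f) 11520 [(11520, 11049), (11521, 12138), (11522, 10925), (11523, 10933), (11524, 12140), (11525, 10928), (11526, 10929), (11527, 12139), (11528, 10931), (11529, 11032), (11530, 11770), (11531, 12144), (11532, 11862), (11533, 12146), (11534, 12147), (11535, 10938), (11536, 11244), (11537, 11910), (11538, 12152), (11539, 10942), (11540, 12153), (11541, 12157), (11542, 12159), (11543, 10944), (11544, 11247), (11545, 12162), (11546, 10948), (11547, 12165), (11548, 12163), (11549, 12168), (11550, 10949), (11551, 12148), (11552, 10953), (11553, 11510), (11554, 12170), (11555, 10954), (11556,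 12174), (11557, 10956), (11558, 10971), (11559, 12176), (11560, 10959), (11561, 12178), (11562, 10961), (11563, 10962), (11564, 12175), (11565, 11392), (11566, 10967), (11567, 12183), (11568, 12184), (11569, 10968), (11570, 10969), (11571, 11160), (11572, 11636), (11573, 12188), (11574, 12189), (11575, 10974), (11576, 11957), (11577, 11930), (11578, 12192), (11579, 12193), (11580, 10978), (11581, 12195), (11582, 10979), (11583, 11005)]
    ⟨e3 q11520 L189579 q11049, e3 q11521 L195198 q12138, e3 q11522 (flp_f L189597) q10925, e3 q11523 L189619 q10933, e3 q11524 L195224 q12140, e3 q11525 (flp_f L189633) q10928, e3 q11526 (flp_f L189643) q10929, e3 q11527 (flp_f L195222) q12139, e3 q11528 (flp_f L189661) q10931, e3 q11529 L189683 q11032, e3 q11530 (flp_f L191749) q11770, e3 q11531 L195270 q12144, e3 q11532 (flp_f L192491) q11862, e3 q11533 L195294 q12146, e3 q11534 L195302 q12147, e3 q11535 (flp_f L189741) q10938, e3 q11536 L189755 q11244, e3 q11537 (flp_f L192838) q11910, e3 q11538 L195357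 q12152, e3 q11539 L189790 q10942, e3 q11540 (flp_f L195371) q12153, e3 q11541 L195403 q12157, e3 q11542 L195412 q12159, e3 q11543 (flp_f L189809) q10944, e3 q11544 L189821 q11247, e3 q11545 L195438 q12162, e3 q11546 L189843 q10948, e3 q11547 L195460 q12165, e3 q11548 (flp_f L195450) q12163, e3 q11549 L195484 q12168, e3 q11550 (flp_f L189867) q10949, e3 q11551 (flp_f L195320) q12148, e3 q11552 L189881 q10953, e3 q11553 L189894 q11510, e3 q11554 (flp_f L195501) q12170, e3 q11555 (flp_f L189907) q10954, e3 q11556 L195538 q12174, e3 q11557 (flp_f L189929) q10956, e3 q11558 L189949 q10971, e3 q11559 L195560 q12176, e3 q11560 (flp_f L189961) q10959, e3 q11561 L195578 q12178, e3 q11562 (flp_f L189979) q10961, e3 q11563 (flp_f L189989) q10962, e3 q11564 (flp_f L195558) q12175, e3 q11565 L190005 q11392, e3 q11566 L190017 q10967, e3 q11567 L195630 q12183, e3 q11568 L195640 q12184, e3 q11569 (flp_f L190047) q10968, e3 q11570 (flp_f L190055) q10969, e3 q11571 L190075 q11160, e3 q11572 (flp_f L190657)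 q11636, e3 q11573 L195678 q12188, e3 q11574 L195686 q12189, e3 q11575 (flp_f L190102) q10974, e3 q11576 (flp_f L193410) q11957, e3 q11577 (flp_f L193080) q11930, e3 q11578 L195714 q12192, e3 q11579 L195722 q12193, e3 q11580 (flp_f L190149) q10978, e3 q11581 L195744 q12195, e3 q11582 (flp_f L190169) q10979, e3 q11583 L190181 q11005, trivial⟩ (by decide +kernel)

theorem ce_f_181 : ∀ r, r < 64 → sm gf (Qf (11584 + r)) = Qf (tab Gen.f (11584 + r)) :=
  edges_tab (sm gf) Qf (tab Gen.f) 11584 [(11584, 12198), (11585, 12199), (11586, 10983), (11587, 10984), (11588, 11019), (11589, 11418), (11590, 11989), (11591, 12205), (11592, 12206), (11593, 10990), (11594, 10991), (11595, 11216), (11596, 11333), (11597, 10996), (11598, 10997), (11599, 12214), (11600, 12211), (11601, 12216), (11602, 12218), (11603, 10998), (11604, 12220), (11605, 11000), (11606, 11001), (11607, 12194), (11608, 11003), (11609, 12224), (11610, 12197), (11611, 12226), (11612, 12227), (11613, 12228), (11614, 12229), (11615, 11010),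 (11616, 12232), (11617, 11012), (11618, 12234), (11619, 11013), (11620, 12200), (11621, 11015), (11622, 11016), (11623, 12236), (11624, 11106), (11625, 11055), (11626, 11223), (11627, 12115), (11628, 11233), (11629, 11027), (11630, 12240), (11631, 11029), (11632, 12143), (11633, 12011), (11634, 11036), (11635, 12243), (11636, 11572), (11637, 12245), (11638, 12247), (11639, 11037), (11640, 12249), (11641, 11039), (11642, 11040), (11643, 12054), (11644, 12252), (11645, 12253), (11646, 11045), (11647, 11046)]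
    ⟨e3 q11584 L195774 q12198, e3 q11585 L195784 q12199, e3 q11586 (flp_f L190203) q10983, e3 q11587 (flp_f L190211) q10984, e3 q11588 L190231 q11019, e3 q11589 L190239 q11418, e3 q11590 (flp_f L193756) q11989, e3 q11591 L195849 q12205, e3 q11592 L195859 q12206, e3 q11593 (flp_f L190276) q10990, e3 q11594 (flp_f L190284) q10991, e3 q11595 L190300 q11216, e3 q11596 L190308 q11333, e3 q11597 L190320 q10996, e3 q11598 L190330 q10997, e3 q11599 L195949 q12214, e3 q11600 (flp_f L195916) q12211, e3 q11601 L195967 q12216, e3 q11602 L195978 q12218, e3 q11603 (flp_f L190366) q10998, e3 q11604 L195992 q12220, e3 q11605 (flp_f L190380) q11000, e3 q11606 (flp_f L190386) q11001, e3 q11607 (flp_f L195742) q12194, e3 q11608 (flp_f L190400) q11003, e3 q11609 (flp_f L196022) q12224, e3 q11610 (flp_f L195772) q12197, e3 q11611 L196028 q12226, e3 q11612 L196034 q12227, e3 q11613 L196042 q12228, e3 q11614 L196052 q12229, e3 q11615 (flp_f L190450) q11010, e3 q11616 L196086 q12232, e3 q11617 (flp_f L190472) q11012,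 e3 q11618 L196104 q12234, e3 q11619 (flp_f L190490) q11013, e3 q11620 (flp_f L195802) q12200, e3 q11621 (flp_f L190506) q11015, e3 q11622 (flp_f L190510) q11016, e3 q11623 (flp_f L196132) q12236, e3 q11624 L190540 q11106, e3 q11625 L190548 q11055, e3 q11626 L190560 q11223, e3 q11627 (flp_f L195017) q12115, e3 q11628 L190579 q11233, e3 q11629 (flp_f L190584) q11027, e3 q11630 L196168 q12240, e3 q11631 (flp_f L190608) q11029, e3 q11632 (flp_f L195268) q12143, e3 q11633 (flp_f L193993) q12011, e3 q11634 L190638 q11036, e3 q11635 L196200 q12243, e3 q11636 L190657 q11572, e3 q11637 L196224 q12245, e3 q11638 L196243 q12247, e3 q11639 (flp_f L190688) q11037, e3 q11640 L196257 q12249, e3 q11641 (flp_f L190700) q11039, e3 q11642 (flp_f L190708) q11040, e3 q11643 (flp_f L194432) q12054, e3 q11644 L196275 q12252, e3 q11645 L196285 q12253, e3 q11646 (flp_f L190740) q11045, e3 q11647 (flp_f L190746) q11046, trivial⟩ (by decide +kernel)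

theorem ce_f_182 : ∀ r, r < 64 → sm gf (Qf (11648 + r)) = Qf (tab Gen.f (11648 + r)) :=
  edges_tab (sm gf) Qf (tab Gen.f) 11648 [(11648, 12137), (11649, 12019), (11650, 11304), (11651, 12258), (11652, 11051), (11653, 11076), (11654, 11303), (11655, 11659), (11656, 12261), (11657, 11056), (11658, 11059), (11659, 11655), (11660, 11908), (11661, 12268), (11662, 12269), (11663, 11907), (11664, 12272), (11665, 11062), (11666, 11253), (11667, 11098), (11668, 11067), (11669, 11068), (11670, 12279), (11671, 12275), (11672, 12282), (11673, 12277), (11674, 12285), (11675, 11069), (11676, 11175), (11677, 12288), (11678, 11073), (11679, 12292), (11680, 11072), (11681, 12289), (11682, 12295), (11683, 11074), (11684, 12259), (11685, 11080), (11686, 11773), (11687, 11694), (11688, 12087), (11689, 12301), (11690, 11240), (11691, 12303), (11692, 11085), (11693, 11207), (11694, 11687), (11695, 11090), (11696, 11091), (11697, 12309), (11698, 12000), (11699, 12311), (11700, 12313), (11701, 11092), (11702,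 12315), (11703, 11094), (11704, 11095), (11705, 11269), (11706, 11887), (11707, 12319), (11708, 12320), (11709, 12321), (11710, 11101), (11711, 11102)]
    ⟨e3 q11648 (flp_f L195196) q12137, e3 q11649 (flp_f L194086) q12019, e3 q11650 L190772 q11304, e3 q11651 L196339 q12258, e3 q11652 (flp_f L190788) q11051, e3 q11653 L190800 q11076, e3 q11654 L190808 q11303, e3 q11655 (flp_f L190862) q11659, e3 q11656 L196367 q12261, e3 q11657 (flp_f L190834) q11056, e3 q11658 L190848 q11059, e3 q11659 L190862 q11655, e3 q11660 (flp_f L192827) q11908, e3 q11661 L196441 q12268, e3 q11662 L196449 q12269, e3 q11663 (flp_f L192817) q11907, e3 q11664 L196479 q12272, e3 q11665 (flp_f L190913) q11062, e3 q11666 L190929 q11253, e3 q11667 L190935 q11098, e3 q11668 L190949 q11067, e3 q11669 L190959 q11068, e3 q11670 L196553 q12279, e3 q11671 (flp_f L196511) q12275, e3 q11672 L196571 q12282, e3 q11673 (flp_f L196539) q12277, e3 q11674 L196591 q12285, e3 q11675 (flp_f L190997) q11069, e3 q11676 L191007 q11175, e3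 q11677 L196613 q12288, e3 q11678 L191027 q11073, e3 q11679 L196643 q12292, e3 q11680 (flp_f L191033) q11072, e3 q11681 (flp_f L196625) q12289, e3 q11682 L196657 q12295, e3 q11683 (flp_f L191045) q11074, e3 q11684 (flp_f L196355) q12259, e3 q11685 L191059 q11080, e3 q11686 (flp_f L191780) q11773, e3 q11687 (flp_f L191144) q11694, e3 q11688 (flp_f L194791) q12087, e3 q11689 L196713 q12301, e3 q11690 L191104 q11240, e3 q11691 L196733 q12303, e3 q11692 (flp_f L191124) q11085, e3 q11693 L191138 q11207, e3 q11694 L191144 q11687, e3 q11695 L191156 q11090, e3 q11696 L191166 q11091, e3 q11697 L196794 q12309, e3 q11698 (flp_f L193885) q12000, e3 q11699 L196812 q12311, e3 q11700 L196825 q12313, e3 q11701 (flp_f L191204) q11092, e3 q11702 L196839 q12315, e3 q11703 (flp_f L191216) q11094, e3 q11704 (flp_f L191224) q11095, e3 q11705 L191238 q11269, e3 q11706 (flp_f L192680) q11887, e3 q11707 L196871 q12319, e3 q11708 L196877 q12320, e3 q11709 L196885 q12321, e3 q11710 (flp_f L191276) q11101, e3 q11711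 (flp_f L191282) q11102, trivial⟩ (by decide +kernel)

theorem ce_f_183 : ∀ r, r < 64 → sm gf (Qf (11712 + r)) = Qf (tab Gen.f (11712 + r)) :=
  edges_tab (sm gf) Qf (tab Gen.f) 11712 [(11712, 12235), (11713, 11104), (11714, 12324), (11715, 11738), (11716, 12326), (11717, 12327), (11718, 12328), (11719, 11110), (11720, 11111), (11721, 11155), (11722, 11113), (11723, 12331), (11724, 11411), (11725, 11119), (11726, 11120), (11727, 12336), (11728, 12006), (11729, 12339), (11730, 12066), (11731, 12341), (11732, 11121), (11733, 12343), (11734, 11123), (11735, 12345), (11736, 11125), (11737, 11231), (11738, 11715), (11739, 12348), (11740, 12349), (11741, 12350), (11742, 12351), (11743, 11132), (11744, 12354), (11745, 11134), (11746, 12357), (11747, 12358), (11748, 11136), (11749, 11286), (11750, 11138), (11751, 11139), (11752, 12360), (11753, 11141), (11754, 11295), (11755, 12363), (11756, 11145), (11757, 11146), (11758, 11147), (11759, 11148), (11760, 12365), (11761, 11150), (11762, 12330), (11763,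 11152), (11764, 11153), (11765, 12185), (11766, 11158), (11767, 11970), (11768, 12179), (11769, 11906), (11770, 11530), (11771, 11926), (11772, 11851), (11773, 11686), (11774, 11178), (11775, 11186)]
    ⟨e3 q11712 (flp_f L196126) q12235, e3 q11713 (flp_f L191292) q11104, e3 q11714 (flp_f L196911) q12324, e3 q11715 (flp_f L191502) q11738, e3 q11716 L196921 q12326, e3 q11717 L196929 q12327, e3 q11718 L196941 q12328, e3 q11719 (flp_f L191342) q11110, e3 q11720 (flp_f L191350) q11111, e3 q11721 L191362 q11155, e3 q11722 (flp_f L191364) q11113, e3 q11723 (flp_f L196973) q12331, e3 q11724 L191382 q11411, e3 q11725 L191394 q11119, e3 q11726 L191406 q11120, e3 q11727 L197027 q12336, e3 q11728 (flp_f L193945) q12006, e3 q11729 L197055 q12339, e3 q11730 (flp_f L194577) q12066, e3 q11731 L197073 q12341, e3 q11732 (flp_f L191458) q11121, e3 q11733 L197093 q12343, e3 q11734 (flp_f L191472) q11123, e3 q11735 L197107 q12345, e3 q11736 (flp_f L191486) q11125, e3 q11737 L191498 q11231, e3 q11738 L191502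 q11715, e3 q11739 L197133 q12348, e3 q11740 L197141 q12349, e3 q11741 L197151 q12350, e3 q11742 L197161 q12351, e3 q11743 (flp_f L191548) q11132, e3 q11744 L197193 q12354, e3 q11745 (flp_f L191564) q11134, e3 q11746 L197219 q12357, e3 q11747 L197229 q12358, e3 q11748 (flp_f L191594) q11136, e3 q11749 L191608 q11286, e3 q11750 (flp_f L191610) q11138, e3 q11751 (flp_f L191616) q11139, e3 q11752 (flp_f L197253) q12360, e3 q11753 (flp_f L191628) q11141, e3 q11754 L191638 q11295, e3 q11755 L197269 q12363, e3 q11756 (flp_f L191654) q11145, e3 q11757 (flp_f L191658) q11146, e3 q11758 (flp_f L191664) q11147, e3 q11759 (flp_f L191672) q11148, e3 q11760 (flp_f L197291) q12365, e3 q11761 (flp_f L191690) q11150, e3 q11762 (flp_f L196965) q12330, e3 q11763 (flp_f L191700) q11152, e3 q11764 (flp_f L191708) q11153, e3 q11765 (flp_f L195658) q12185, e3 q11766 L191722 q11158, e3 q11767 (flp_f L193562) q11970, e3 q11768 (flp_f L195596) q12179, e3 q11769 (flp_f L192811) q11906, e3 q11770 L191749 q11530, e3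 q11771 (flp_f L193027) q11926, e3 q11772 (flp_f L192392) q11851, e3 q11773 L191780 q11686, e3 q11774 L191791 q11178, e3 q11775 L191810 q11186, trivial⟩ (by decide +kernel)

theorem ce_f_184 : ∀ r, r < 64 → sm gf (Qf (11776 + r)) = Qf (tab Gen.f (11776 + r)) :=
  edges_tab (sm gf) Qf (tab Gen.f) 11776 [(11776, 11182), (11777, 11183), (11778, 12371), (11779, 12171), (11780, 11784), (11781, 12375), (11782, 12377), (11783, 11190), (11784, 11780), (11785, 12381), (11786, 11193), (11787, 12384), (11788, 12382), (11789, 12387), (11790, 11194), (11791, 12262), (11792, 11198), (11793, 11925), (11794, 12389), (11795, 12392), (11796, 11199), (11797, 12177), (11798, 11912), (11799, 12397), (11800, 12056), (11801, 12400), (11802, 11203), (11803, 12402), (11804, 11205), (11805, 12304), (11806, 11916), (11807, 12406), (11808, 12013), (11809, 12409), (11810, 11210), (11811, 12411), (11812, 12412), (11813, 11212), (11814, 12207), (11815, 11214), (11816, 12417), (11817, 12208), (11818, 12419), (11819, 11221),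 (11820, 12421), (11821, 12422), (11822, 11220), (11823, 12238), (11824, 12427), (11825, 11222), (11826, 11241), (11827, 12431), (11828, 12432), (11829, 11224), (11830, 12342), (11831, 11226), (11832, 12027), (11833, 12415), (11834, 11229), (11835, 12346), (11836, 11242), (11837, 11514), (11838, 11515), (11839, 11516)]
    ⟨e3 q11776 L191816 q11182, e3 q11777 L191825 q11183, e3 q11778 (flp_f L197337) q12371, e3 q11779 (flp_f L195520) q12171, e3 q11780 (flp_f L191882) q11784, e3 q11781 L197368 q12375, e3 q11782 L197381 q12377, e3 q11783 (flp_f L191870) q11190, e3 q11784 L191882 q11780, e3 q11785 L197412 q12381, e3 q11786 L191899 q11193, e3 q11787 L197444 q12384, e3 q11788 (flp_f L197426) q12382, e3 q11789 L197472 q12387, e3 q11790 (flp_f L191933) q11194, e3 q11791 (flp_f L196385) q12262, e3 q11792 L191951 q11198, e3 q11793 (flp_f L193020) q11925, e3 q11794 (flp_f L197491) q12389, e3 q11795 L197522 q12392, e3 q11796 (flp_f L191980) q11199, e3 q11797 (flp_f L195576) q12177, e3 q11798 (flp_f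 L192867) q11912, e3 q11799 L197555 q12397, e3 q11800 (flp_f L194453) q12056, e3 q11801 L197574 q12400, e3 q11802 (flp_f L192022) q11203, e3 q11803 L197588 q12402, e3 q11804 (flp_f L192034) q11205, e3 q11805 (flp_f L196749) q12304, e3 q11806 (flp_f L192910) q11916, e3 q11807 L197615 q12406, e3 q11808 (flp_f L194014) q12013, e3 q11809 L197636 q12409, e3 q11810 (flp_f L192076) q11210, e3 q11811 L197650 q12411, e3 q11812 L197656 q12412, e3 q11813 (flp_f L192096) q11212, e3 q11814 (flp_f L195875) q12207, e3 q11815 (flp_f L192106) q11214, e3 q11816 (flp_f L197686) q12417, e3 q11817 (flp_f L195885) q12208, e3 q11818 L197698 q12419, e3 q11819 L192136 q11221, e3 q11820 L197720 q12421, e3 q11821 L197728 q12422, e3 q11822 (flp_f L192158) q11220, e3 q11823 (flp_f L196154) q12238, e3 q11824 L197776 q12427, e3 q11825 (flp_f L192180) q11222, e3 q11826 L192192 q11241, e3 q11827 L197810 q12431, e3 q11828 L197816 q12432, e3 q11829 (flp_f L192216) q11224, e3 q11830 (flp_f L197091) q12342, e3 q11831 (flp_f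 L192232) q11226, e3 q11832 (flp_f L194182) q12027, e3 q11833 (flp_f L197678) q12415, e3 q11834 (flp_f L192252) q11229, e3 q11835 (flp_f L197119) q12346, e3 q11836 L192265 q11242, e3 q11837 L192282 q11514, e3 q11838 L192288 q11515, e3 q11839 L192307 q11516, trivial⟩ (by decide +kernel)

theorem ce_f_185 : ∀ r, r < 64 → sm gf (Qf (11840 + r)) = Qf (tab Gen.f (11840 + r)) :=
  edges_tab (sm gf) Qf (tab Gen.f) 11840 [(11840, 11517), (11841, 12136), (11842, 12299), (11843, 12424), (11844, 11245), (11845, 12442), (11846, 12149), (11847, 12445), (11848, 12135), (11849, 12449), (11850, 11246), (11851, 11772), (11852, 12452), (11853, 11250), (11854, 12456), (11855, 11249), (11856, 12453), (11857, 12459), (11858, 11251), (11859, 12273), (11860, 11257), (11861, 12010), (11862, 11532), (11863, 12462), (11864, 11262), (11865, 12464), (11866, 12466), (11867, 11261), (11868, 12469), (11869, 11263), (11870, 12471), (11871, 11264), (11872, 12314), (11873, 11266), (11874, 12084), (11875, 12317), (11876, 12474),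 (11877, 11271), (11878, 12476), (11879, 11273), (11880, 11279), (11881, 12480), (11882, 11275), (11883, 12482), (11884, 12483), (11885, 11277), (11886, 12477), (11887, 11706), (11888, 12487), (11889, 12488), (11890, 11280), (11891, 12355), (11892, 12492), (11893, 12493), (11894, 11283), (11895, 11284), (11896, 12359), (11897, 11287), (11898, 11292), (11899, 11289), (11900, 11290), (11901, 12499), (11902, 12496), (11903, 11293)]
    ⟨e3 q11840 L192313 q11517, e3 q11841 (flp_f L195177) q12136, e3 q11842 (flp_f L196693) q12299, e3 q11843 (flp_f L197752) q12424, e3 q11844 L192337 q11245, e3 q11845 L197908 q12442, e3 q11846 (flp_f L195326) q12149, e3 q11847 L197937 q12445, e3 q11848 (flp_f L195162) q12135, e3 q11849 L197965 q12449, e3 q11850 (flp_f L192384) q11246, e3 q11851 L192392 q11772, e3 q11852 L197987 q12452, e3 q11853 L192418 q11250, e3 q11854 L198031 q12456, e3 q11855 (flp_f L192430) q11249, e3 q11856 (flp_f L198003) q12453, e3 q11857 L198055 q12459, e3 q11858 (flp_f L192452) q11251,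 e3 q11859 (flp_f L196493) q12273, e3 q11860 L192470 q11257, e3 q11861 (flp_f L193973) q12010, e3 q11862 L192491 q11532, e3 q11863 L198079 q12462, e3 q11864 L192514 q11262, e3 q11865 L198099 q12464, e3 q11866 L198110 q12466, e3 q11867 (flp_f L192533) q11261, e3 q11868 L198129 q12469, e3 q11869 (flp_f L192547) q11263, e3 q11870 L198143 q12471, e3 q11871 (flp_f L192556) q11264, e3 q11872 (flp_f L196837) q12314, e3 q11873 (flp_f L192566) q11266, e3 q11874 (flp_f L194762) q12084, e3 q11875 (flp_f L196861) q12317, e3 q11876 L198161 q12474, e3 q11877 (flp_f L192596) q11271, e3 q11878 L198179 q12476, e3 q11879 (flp_f L192610) q11273, e3 q11880 L192618 q11279, e3 q11881 L198217 q12480, e3 q11882 (flp_f L192632) q11275, e3 q11883 L198231 q12482, e3 q11884 L198241 q12483, e3 q11885 (flp_f L192660) q11277, e3 q11886 (flp_f L198189) q12477, e3 q11887 L192680 q11706, e3 q11888 L198281 q12487, e3 q11889 L198287 q12488, e3 q11890 (flp_f L192698) q11280, e3 q11891 (flp_f L197207) q12355, e3 q11892 L198315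 q12492, e3 q11893 L198321 q12493, e3 q11894 (flp_f L192722) q11283, e3 q11895 (flp_f L192728) q11284, e3 q11896 (flp_f L197245) q12359, e3 q11897 (flp_f L192740) q11287, e3 q11898 L192746 q11292, e3 q11899 (flp_f L192748) q11289, e3 q11900 (flp_f L192754) q11290, e3 q11901 (flp_f L198365) q12499, e3 q11902 (flp_f L198343) q12496, e3 q11903 (flp_f L192780) q11293, trivial⟩ (by decide +kernel)

theorem ce_f_186 : ∀ r, r < 64 → sm gf (Qf (11904 + r)) = Qf (tab Gen.f (11904 + r)) :=
  edges_tab (sm gf) Qf (tab Gen.f) 11904 [(11904, 12362), (11905, 11366), (11906, 11769), (11907, 11663), (11908, 11660), (11909, 12256), (11910, 11537), (11911, 12504), (11912, 11798), (11913, 12507), (11914, 12509), (11915, 11310), (11916, 11806), (11917, 12513), (11918, 11313), (11919, 12516), (11920, 12514), (11921, 12519), (11922, 11314), (11923, 12255), (11924, 11318), (11925, 11793), (11926, 11771), (11927, 11319), (11928, 12523), (11929, 11321), (11930, 11577), (11931, 12526), (11932, 12527), (11933, 11324),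 (11934, 11341), (11935, 12529), (11936, 11327), (11937, 12531), (11938, 11329), (11939, 12533), (11940, 11330), (11941, 12524), (11942, 11334), (11943, 12537), (11944, 12209), (11945, 12539), (11946, 11464), (11947, 12542), (11948, 11335), (11949, 12544), (11950, 11337), (11951, 12546), (11952, 11339), (11953, 12528), (11954, 11342), (11955, 12549), (11956, 11344), (11957, 11576), (11958, 11346), (11959, 11347), (11960, 11362), (11961, 11349), (11962, 11377), (11963, 12554), (11964, 11353), (11965, 11354), (11966, 12551), (11967, 12557)]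
    ⟨e3 q11904 (flp_f L197267) q12362, e3 q11905 L192794 q11366, e3 q11906 L192811 q11769, e3 q11907 L192817 q11663, e3 q11908 L192827 q11660, e3 q11909 (flp_f L196323) q12256, e3 q11910 L192838 q11537, e3 q11911 L198408 q12504, e3 q11912 L192867 q11798, e3 q11913 L198449 q12507, e3 q11914 L198468 q12509, e3 q11915 (flp_f L192898) q11310, e3 q11916 L192910 q11806, e3 q11917 L198513 q12513, e3 q11918 L192937 q11313, e3 q11919 L198555 q12516, e3 q11920 (flp_f L198531) q12514, e3 q11921 L198595 q12519, e3 q11922 (flp_f L192979) q11314, e3 q11923 (flp_f L196315) q12255, e3 q11924 L192999 q11318, e3 q11925 L193020 q11793, e3 q11926 L193027 q11771, e3 q11927 (flp_f L193036) q11319, e3 q11928 L198643 q12523, e3 q11929 (flp_f L193064) q11321, e3 q11930 L193080 q11577, e3 q11931 L198685 q12526, e3 q11932 L198699 q12527, e3 q11933 (flp_f L193119) q11324, e3 q11934 L193139 q11341, e3 q11935 L198727 q12529, e3 q11936 (flp_f L193155) q11327, e3 q11937 L198755 q12531, e3 q11938 (flp_f L193183) q11329,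 e3 q11939 L198787 q12533, e3 q11940 (flp_f L193211) q11330, e3 q11941 (flp_f L198669) q12524, e3 q11942 L193233 q11334, e3 q11943 L198835 q12537, e3 q11944 (flp_f L195891) q12209, e3 q11945 L198857 q12539, e3 q11946 L193280 q11464, e3 q11947 L198888 q12542, e3 q11948 (flp_f L193298) q11335, e3 q11949 L198902 q12544, e3 q11950 (flp_f L193318) q11337, e3 q11951 L198930 q12546, e3 q11952 (flp_f L193344) q11339, e3 q11953 (flp_f L198725) q12528, e3 q11954 (flp_f L193362) q11342, e3 q11955 L198970 q12549, e3 q11956 (flp_f L193390) q11344, e3 q11957 L193410 q11576, e3 q11958 (flp_f L193412) q11346, e3 q11959 (flp_f L193426) q11347, e3 q11960 L193442 q11362, e3 q11961 (flp_f L193444) q11349, e3 q11962 L193466 q11377, e3 q11963 L199040 q12554, e3 q11964 (flp_f L193484) q11353, e3 q11965 (flp_f L193498) q11354, e3 q11966 (flp_f L199012) q12551, e3 q11967 L199084 q12557, trivial⟩ (by decide +kernel)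

theorem ce_f_187 : ∀ r, r < 64 → sm gf (Qf (11968 + r)) = Qf (tab Gen.f (11968 + r)) :=
  edges_tab (sm gf) Qf (tab Gen.f) 11968 [(11968, 11357), (11969, 11358), (11970, 11767), (11971, 11360), (11972, 12561), (11973, 12552), (11974, 12562), (11975, 12563), (11976, 11365), (11977, 12565), (11978, 11367), (11979, 11412), (11980, 12568), (11981, 11369), (11982, 12241), (11983, 11371), (11984, 11372), (11985, 12570), (11986, 12572), (11987, 11375), (11988, 12553), (11989, 11590), (11990, 11381), (11991, 11382), (11992, 11398), (11993, 12576), (11994, 11385), (11995, 12578), (11996, 11387), (11997, 12575), (11998, 11390), (11999, 12581), (12000, 11698), (12001, 12584), (12002, 11391), (12003, 12586), (12004, 12588), (12005, 11394), (12006, 11728), (12007, 12591), (12008, 11396), (12009, 12566), (12010, 11861), (12011, 11633), (12012, 11417), (12013, 11808), (12014, 12596), (12015, 11404), (12016, 12598), (12017, 11406), (12018, 11435), (12019, 11649), (12020, 12600), (12021, 12332), (12022,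 12602), (12023, 12603), (12024, 11413), (12025, 11414), (12026, 11415), (12027, 11832), (12028, 12202), (12029, 12608), (12030, 12609), (12031, 11423)]
    ⟨e3 q11968 (flp_f L193532) q11357, e3 q11969 (flp_f L193540) q11358, e3 q11970 L193562 q11767, e3 q11971 (flp_f L193564) q11360, e3 q11972 (flp_f L199148) q12561, e3 q11973 (flp_f L199024) q12552, e3 q11974 L199150 q12562, e3 q11975 L199162 q12563, e3 q11976 (flp_f L193618) q11365, e3 q11977 L199182 q12565, e3 q11978 (flp_f L193638) q11367, e3 q11979 L193652 q11412, e3 q11980 L199214 q12568, e3 q11981 (flp_f L193670) q11369, e3 q11982 (flp_f L196190) q12241, e3 q11983 (flp_f L193684) q11371, e3 q11984 (flp_f L193698) q11372, e3 q11985 (flp_f L199246) q12570, e3 q11986 L199260 q12572, e3 q11987 (flp_f L193730) q11375, e3 q11988 (flp_f L199038) q12553, e3 q11989 L193756 q11590, e3 q11990 (flp_f L193761) q11381, e3 q11991 (flp_f L193773) q11382, e3 q11992 L193793 q11398, e3 q11993 L199316 q12576, e3 q11994 (flp_f L193811) q11385, e3 q11995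 L199342 q12578, e3 q11996 (flp_f L193835) q11387, e3 q11997 (flp_f L199314) q12575, e3 q11998 L193859 q11390, e3 q11999 L199384 q12581, e3 q12000 L193885 q11698, e3 q12001 L199413 q12584, e3 q12002 (flp_f L193899) q11391, e3 q12003 L199425 q12586, e3 q12004 L199449 q12588, e3 q12005 (flp_f L193929) q11394, e3 q12006 L193945 q11728, e3 q12007 L199479 q12591, e3 q12008 (flp_f L193959) q11396, e3 q12009 (flp_f L199200) q12566, e3 q12010 L193973 q11861, e3 q12011 L193993 q11633, e3 q12012 L194009 q11417, e3 q12013 L194014 q11808, e3 q12014 L199529 q12596, e3 q12015 (flp_f L194032) q11404, e3 q12016 L199547 q12598, e3 q12017 (flp_f L194054) q11406, e3 q12018 L194074 q11435, e3 q12019 L194086 q11649, e3 q12020 L199573 q12600, e3 q12021 (flp_f L196979) q12332, e3 q12022 L199599 q12602, e3 q12023 L199611 q12603, e3 q12024 (flp_f L194140) q11413, e3 q12025 (flp_f L194148) q11414, e3 q12026 (flp_f L194160) q11415, e3 q12027 L194182 q11832, e3 q12028 (flp_f L195818) q12202, e3 q12029 L199669 q12608,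 e3 q12030 L199675 q12609, e3 q12031 L194211 q11423, trivial⟩ (by decide +kernel)

theorem ce_f_188 : ∀ r, r < 64 → sm gf (Qf (12032 + r)) = Qf (tab Gen.f (12032 + r)) :=
  edges_tab (sm gf) Qf (tab Gen.f) 12032 [(12032, 12612), (12033, 11425), (12034, 12615), (12035, 11422), (12036, 12610), (12037, 12620), (12038, 11424), (12039, 11477), (12040, 12624), (12041, 12625), (12042, 11426), (12043, 12597), (12044, 11428), (12045, 12628), (12046, 11430), (12047, 12627), (12048, 12630), (12049, 11433), (12050, 12599), (12051, 12633), (12052, 11437), (12053, 11438), (12054, 11643), (12055, 11469), (12056, 11800), (12057, 12638), (12058, 11443), (12059, 12640), (12060, 11445), (12061, 11486), (12062, 12642), (12063, 11451), (12064, 12645), (12065, 11450), (12066, 11730), (12067, 12648), (12068, 11452), (12069, 11501), (12070, 11454), (12071, 12651), (12072, 12652), (12073, 11456), (12074, 12650), (12075, 11459), (12076, 11508), (12077, 12655), (12078, 12085), (12079, 12657), (12080, 12659), (12081,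 11465), (12082, 11466), (12083, 11467), (12084, 11874), (12085, 12078), (12086, 12664), (12087, 11688), (12088, 12666), (12089, 11475), (12090, 12668), (12091, 12670), (12092, 11474), (12093, 12617), (12094, 12674), (12095, 11476)]
    ⟨e3 q12032 L199712 q12612, e3 q12033 L194233 q11425, e3 q12034 L199737 q12615, e3 q12035 (flp_f L194249) q11422, e3 q12036 (flp_f L199690) q12610, e3 q12037 L199781 q12620, e3 q12038 (flp_f L194272) q11424, e3 q12039 L194283 q11477, e3 q12040 L199814 q12624, e3 q12041 L199822 q12625, e3 q12042 (flp_f L194304) q11426, e3 q12043 (flp_f L199545) q12597, e3 q12044 (flp_f L194314) q11428, e3 q12045 L199848 q12628, e3 q12046 (flp_f L194340) q11430, e3 q12047 (flp_f L199846) q12627, e3 q12048 L199870 q12630, e3 q12049 (flp_f L194370) q11433, e3 q12050 (flp_f L199571) q12599, e3 q12051 L199905 q12633, e3 q12052 (flp_f L194400) q11437, e3 q12053 (flp_f L194410) q11438, e3 q12054 L194432 q11643, e3 q12055 L194448 q11469, e3 q12056 L194453 q11800, e3 q12057 L199966 q12638,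 e3 q12058 (flp_f L194473) q11443, e3 q12059 L199990 q12640, e3 q12060 (flp_f L194499) q11445, e3 q12061 L194523 q11486, e3 q12062 L200018 q12642, e3 q12063 L194541 q11451, e3 q12064 L200050 q12645, e3 q12065 (flp_f L194561) q11450, e3 q12066 L194577 q11730, e3 q12067 L200082 q12648, e3 q12068 (flp_f L194593) q11452, e3 q12069 L194603 q11501, e3 q12070 (flp_f L194605) q11454, e3 q12071 L200112 q12651, e3 q12072 L200126 q12652, e3 q12073 (flp_f L194647) q11456, e3 q12074 (flp_f L200110) q12650, e3 q12075 (flp_f L194669) q11459, e3 q12076 L194681 q11508, e3 q12077 L200160 q12655, e3 q12078 (flp_f L194766) q12085, e3 q12079 L200182 q12657, e3 q12080 L200201 q12659, e3 q12081 (flp_f L194728) q11465, e3 q12082 (flp_f L194734) q11466, e3 q12083 (flp_f L194746) q11467, e3 q12084 L194762 q11874, e3 q12085 L194766 q12078, e3 q12086 L200253 q12664, e3 q12087 L194791 q11688, e3 q12088 L200277 q12666, e3 q12089 L194814 q11475, e3 q12090 L200295 q12668, e3 q12091 L200310 q12670, e3 q12092 (flp_f L194835)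 q11474, e3 q12093 (flp_f L199756) q12617, e3 q12094 L200341 q12674, e3 q12095 (flp_f L194858) q11476, trivial⟩ (by decide +kernel)

theorem ce_f_189 : ∀ r, r < 64 → sm gf (Qf (12096 + r)) = Qf (tab Gen.f (12096 + r)) :=
  edges_tab (sm gf) Qf (tab Gen.f) 12096 [(12096, 12677), (12097, 12678), (12098, 11478), (12099, 12639), (12100, 12680), (12101, 11481), (12102, 12682), (12103, 11482), (12104, 12681), (12105, 11484), (12106, 12641), (12107, 11487), (12108, 11488), (12109, 11494), (12110, 12689), (12111, 11490), (12112, 12691), (12113, 11492), (12114, 12687), (12115, 11627), (12116, 12695), (12117, 12696), (12118, 11495), (12119, 12520), (12120, 12700), (12121, 12702), (12122, 11498), (12123, 11499), (12124, 12649), (12125, 11505), (12126, 11503), (12127, 12560), (12128, 11506), (12129, 12654), (12130, 12172), (12131, 12436), (12132, 12437), (12133, 12264), (12134, 12438), (12135, 11848), (12136, 11841), (12137, 11648), (12138, 11521), (12139, 11527), (12140, 11524), (12141, 12548), (12142,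 12712), (12143, 11632), (12144, 11531), (12145, 12716), (12146, 11533), (12147, 11534), (12148, 11551), (12149, 11846), (12150, 12720), (12151, 12722), (12152, 11538), (12153, 11540), (12154, 12725), (12155, 12593), (12156, 12729), (12157, 11541), (12158, 12731), (12159, 11542)]
    ⟨e3 q12096 L200360 q12677, e3 q12097 L200368 q12678, e3 q12098 (flp_f L194875) q11478, e3 q12099 (flp_f L199988) q12639, e3 q12100 L200378 q12680, e3 q12101 (flp_f L194901) q11481, e3 q12102 L200406 q12682, e3 q12103 (flp_f L194927) q11482, e3 q12104 (flp_f L200404) q12681, e3 q12105 (flp_f L194941) q11484, e3 q12106 (flp_f L200016) q12641, e3 q12107 (flp_f L194955) q11487, e3 q12108 (flp_f L194961) q11488, e3 q12109 L194969 q11494, e3 q12110 L200470 q12689, e3 q12111 (flp_f L194983) q11490, e3 q12112 L200484 q12691, e3 q12113 (flp_f L194999) q11492, e3 q12114 (flp_f L200458) q12687, e3 q12115 L195017 q11627, e3 q12116 L200518 q12695, e3 q12117 L200524 q12696, e3 q12118 (flp_f L195039) q11495, e3 q12119 (flp_f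 L198613) q12520, e3 q12120 L200560 q12700, e3 q12121 L200576 q12702, e3 q12122 (flp_f L195063) q11498, e3 q12123 (flp_f L195069) q11499, e3 q12124 (flp_f L200094) q12649, e3 q12125 L195085 q11505, e3 q12126 (flp_f L195087) q11503, e3 q12127 (flp_f L199136) q12560, e3 q12128 (flp_f L195103) q11506, e3 q12129 (flp_f L200158) q12654, e3 q12130 (flp_f L195526) q12172, e3 q12131 (flp_f L197860) q12436, e3 q12132 (flp_f L197866) q12437, e3 q12133 (flp_f L196401) q12264, e3 q12134 (flp_f L197878) q12438, e3 q12135 L195162 q11848, e3 q12136 L195177 q11841, e3 q12137 L195196 q11648, e3 q12138 (flp_f L195198) q11521, e3 q12139 L195222 q11527, e3 q12140 (flp_f L195224) q11524, e3 q12141 (flp_f L198968) q12548, e3 q12142 (flp_f L200684) q12712, e3 q12143 L195268 q11632, e3 q12144 (flp_f L195270) q11531, e3 q12145 L200721 q12716, e3 q12146 (flp_f L195294) q11533, e3 q12147 (flp_f L195302) q11534, e3 q12148 L195320 q11551, e3 q12149 L195326 q11846, e3 q12150 L200763 q12720, e3 q12151 L200784 q12722, e3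 q12152 (flp_f L195357) q11538, e3 q12153 L195371 q11540, e3 q12154 L200818 q12725, e3 q12155 (flp_f L199503) q12593, e3 q12156 L200854 q12729, e3 q12157 (flp_f L195403) q11541, e3 q12158 L200864 q12731, e3 q12159 (flp_f L195412) q11542, trivial⟩ (by decide +kernel)

theorem ce_f_190 : ∀ r, r < 64 → sm gf (Qf (12160 + r)) = Qf (tab Gen.f (12160 + r)) :=
  edges_tab (sm gf) Qf (tab Gen.f) 12160 [(12160, 12717), (12161, 12733), (12162, 11545), (12163, 11548), (12164, 12738), (12165, 11547), (12166, 12735), (12167, 12741), (12168, 11549), (12169, 12718), (12170, 11554), (12171, 11779), (12172, 12130), (12173, 12522), (12174, 11556), (12175, 11564), (12176, 11559), (12177, 11797), (12178, 11561), (12179, 11768), (12180, 12744), (12181, 12747), (12182, 12748), (12183, 11567), (12184, 11568), (12185, 11765), (12186, 12559), (12187, 12752), (12188, 11573), (12189, 11574), (12190, 12550), (12191, 12756), (12192, 11578), (12193, 11579), (12194, 11607), (12195, 11581), (12196, 12760), (12197, 11610),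 (12198, 11584), (12199, 11585), (12200, 11620), (12201, 12532), (12202, 12028), (12203, 12765), (12204, 12767), (12205, 11591), (12206, 11592), (12207, 11814), (12208, 11817), (12209, 11944), (12210, 12771), (12211, 11600), (12212, 12773), (12213, 12775), (12214, 11599), (12215, 12778), (12216, 11601), (12217, 12780), (12218, 11602), (12219, 12757), (12220, 11604), (12221, 12545), (12222, 12758), (12223, 12759)]
    ⟨e3 q12160 (flp_f L200739) q12717, e3 q12161 L200874 q12733, e3 q12162 (flp_f L195438) q11545, e3 q12163 L195450 q11548, e3 q12164 L200920 q12738, e3 q12165 (flp_f L195460) q11547, e3 q12166 (flp_f L200902) q12735, e3 q12167 L200946 q12741, e3 q12168 (flp_f L195484) q11549, e3 q12169 (flp_f L200751) q12718, e3 q12170 L195501 q11554, e3 q12171 L195520 q11779, e3 q12172 L195526 q12130, e3 q12173 (flp_f L198641) q12522, e3 q12174 (flp_f L195538) q11556, e3 q12175 L195558 q11564, e3 q12176 (flp_f L195560) q11559, e3 q12177 L195576 q11797, e3 q12178 (flp_f L195578) q11561, e3 q12179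 L195596 q11768, e3 q12180 (flp_f L200984) q12744, e3 q12181 L201006 q12747, e3 q12182 L201016 q12748, e3 q12183 (flp_f L195630) q11567, e3 q12184 (flp_f L195640) q11568, e3 q12185 L195658 q11765, e3 q12186 (flp_f L199122) q12559, e3 q12187 L201063 q12752, e3 q12188 (flp_f L195678) q11573, e3 q12189 (flp_f L195686) q11574, e3 q12190 (flp_f L198996) q12550, e3 q12191 L201098 q12756, e3 q12192 (flp_f L195714) q11578, e3 q12193 (flp_f L195722) q11579, e3 q12194 L195742 q11607, e3 q12195 (flp_f L195744) q11581, e3 q12196 (flp_f L201150) q12760, e3 q12197 L195772 q11610, e3 q12198 (flp_f L195774) q11584, e3 q12199 (flp_f L195784) q11585, e3 q12200 L195802 q11620, e3 q12201 (flp_f L198785) q12532, e3 q12202 L195818 q12028, e3 q12203 L201200 q12765, e3 q12204 L201221 q12767, e3 q12205 (flp_f L195849) q11591, e3 q12206 (flp_f L195859) q11592, e3 q12207 L195875 q11814, e3 q12208 L195885 q11817, e3 q12209 L195891 q11944, e3 q12210 L201263 q12771, e3 q12211 L195916 q11600, e3 q12212 L201291 q12773,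 e3 q12213 L201310 q12775, e3 q12214 (flp_f L195949) q11599, e3 q12215 L201335 q12778, e3 q12216 (flp_f L195967) q11601, e3 q12217 L201351 q12780, e3 q12218 (flp_f L195978) q11602, e3 q12219 (flp_f L201116) q12757, e3 q12220 (flp_f L195992) q11604, e3 q12221 (flp_f L198928) q12545, e3 q12222 (flp_f L201128) q12758, e3 q12223 (flp_f L201140) q12759, trivial⟩ (by decide +kernel)

theorem ce_f_191 : ∀ r, r < 64 → sm gf (Qf (12224 + r)) = Qf (tab Gen.f (12224 + r)) :=
  edges_tab (sm gf) Qf (tab Gen.f) 12224 [(12224, 11609), (12225, 12784), (12226, 11611), (12227, 11612), (12228, 11613), (12229, 11614), (12230, 12786), (12231, 12789), (12232, 11616), (12233, 12763), (12234, 11618), (12235, 11712), (12236, 11623), (12237, 12555), (12238, 11823), (12239, 12574), (12240, 11630), (12241, 11982), (12242, 12794), (12243, 11635), (12244, 12797), (12245, 11637), (12246, 12799), (12247, 11638), (12248, 12634), (12249, 11640), (12250, 12530), (12251, 12635), (12252, 11644), (12253, 11645), (12254, 12577),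 (12255, 11923), (12256, 11909), (12257, 12805), (12258, 11651), (12259, 11684), (12260, 12807), (12261, 11656), (12262, 11791), (12263, 12809), (12264, 12133), (12265, 12812), (12266, 12502), (12267, 12816), (12268, 11661), (12269, 11662), (12270, 12501), (12271, 12820), (12272, 11664), (12273, 11859), (12274, 12822), (12275, 11671), (12276, 12825), (12277, 11673), (12278, 12828), (12279, 11670), (12280, 12823), (12281, 12832), (12282, 11672), (12283, 12743), (12284, 12835), (12285, 11674), (12286, 12791), (12287, 12837)]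
    ⟨e3 q12224 L196022 q11609, e3 q12225 (flp_f L201381) q12784, e3 q12226 (flp_f L196028) q11611, e3 q12227 (flp_f L196034) q11612, e3 q12228 (flp_f L196042) q11613, e3 q12229 (flp_f L196052) q11614, e3 q12230 (flp_f L201397) q12786, e3 q12231 L201425 q12789, e3 q12232 (flp_f L196086) q11616, e3 q12233 (flp_f L201186) q12763, e3 q12234 (flp_f L196104) q11618, e3 q12235 L196126 q11712, e3 q12236 L196132 q11623, e3 q12237 (flp_f L199070) q12555, e3 q12238 L196154 q11823, e3 q12239 (flp_f L199298) q12574, e3 q12240 (flp_f L196168) q11630, e3 q12241 L196190 q11982, e3 q12242 L201484 q12794, e3 q12243 (flp_f L196200) q11635, e3 q12244 L201519 q12797, e3 q12245 (flp_f L196224) q11637, e3 q12246 L201549 q12799, e3 q12247 (flp_f L196243) q11638, e3 q12248 (flp_f L199927) q12634, e3 q12249 (flp_f L196257) q11640, e3 q12250 (flp_f L198753) q12530, e3 q12251 (flp_f L199941) q12635, e3 q12252 (flp_f L196275) q11644, e3 q12253 (flp_f L196285) q11645, e3 q12254 (flp_f L199340) q12577, e3 q12255 L196315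 q11923, e3 q12256 L196323 q11909, e3 q12257 L201605 q12805, e3 q12258 (flp_f L196339) q11651, e3 q12259 L196355 q11684, e3 q12260 L201627 q12807, e3 q12261 (flp_f L196367) q11656, e3 q12262 L196385 q11791, e3 q12263 L201645 q12809, e3 q12264 L196401 q12133, e3 q12265 L201680 q12812, e3 q12266 (flp_f L198391) q12502, e3 q12267 L201720 q12816, e3 q12268 (flp_f L196441) q11661, e3 q12269 (flp_f L196449) q11662, e3 q12270 (flp_f L198379) q12501, e3 q12271 L201756 q12820, e3 q12272 (flp_f L196479) q11664, e3 q12273 L196493 q11859, e3 q12274 L201772 q12822, e3 q12275 L196511 q11671, e3 q12276 L201810 q12825, e3 q12277 L196539 q11673, e3 q12278 L201840 q12828, e3 q12279 (flp_f L196553) q11670, e3 q12280 (flp_f L201788) q12823, e3 q12281 L201870 q12832, e3 q12282 (flp_f L196571) q11672, e3 q12283 (flp_f L200968) q12743, e3 q12284 L201892 q12835, e3 q12285 (flp_f L196591) q11674, e3 q12286 (flp_f L201463) q12791, e3 q12287 L201904 q12837, trivial⟩ (by decide +kernel)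

theorem ce_f_192 : ∀ r, r < 64 → sm gf (Qf (12288 + r)) = Qf (tab Gen.f (12288 + r)) :=
  edges_tab (sm gf) Qf (tab Gen.f) 12288 [(12288, 11677), (12289, 11681), (12290, 12839), (12291, 12840), (12292, 11679), (12293, 12838), (12294, 12842), (12295, 11682), (12296, 12806), (12297, 12305), (12298, 12846), (12299, 11842), (12300, 12849), (12301, 11689), (12302, 12851), (12303, 11691), (12304, 11805), (12305, 12297), (12306, 12854), (12307, 12855), (12308, 12857), (12309, 11697), (12310, 12860), (12311, 11699), (12312, 12862), (12313, 11700), (12314, 11872), (12315, 11702), (12316, 12661), (12317, 11875), (12318, 12865), (12319, 11707), (12320, 11708), (12321, 11709), (12322, 12867), (12323, 12790), (12324, 11714), (12325, 12869), (12326, 11716), (12327, 11717), (12328, 11718), (12329, 12871), (12330, 11762), (12331, 11723), (12332, 12021), (12333, 12874), (12334, 12875), (12335, 12876), (12336, 11727), (12337, 12517), (12338, 12879), (12339, 11729), (12340, 12881), (12341, 11731), (12342,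 11830), (12343, 11733), (12344, 12605), (12345, 11735), (12346, 11835), (12347, 12885), (12348, 11739), (12349, 11740), (12350, 11741), (12351, 11742)]
    ⟨e3 q12288 (flp_f L196613) q11677, e3 q12289 L196625 q11681, e3 q12290 L201924 q12839, e3 q12291 L201932 q12840, e3 q12292 (flp_f L196643) q11679, e3 q12293 (flp_f L201922) q12838, e3 q12294 L201944 q12842, e3 q12295 (flp_f L196657) q11682, e3 q12296 (flp_f L201625) q12806, e3 q12297 (flp_f L196755) q12305, e3 q12298 L201979 q12846, e3 q12299 L196693 q11842, e3 q12300 L202010 q12849, e3 q12301 (flp_f L196713) q11689, e3 q12302 L202026 q12851, e3 q12303 (flp_f L196733) q11691, e3 q12304 L196749 q11805, e3 q12305 L196755 q12297, e3 q12306 L202062 q12854, e3 q12307 L202072 q12855, e3 q12308 L202089 q12857, e3 q12309 (flp_f L196794) q11697, e3 q12310 L202112 q12860, e3 q12311 (flp_f L196812) q11699, e3 q12312 L202130 q12862, e3 q12313 (flp_f L196825) q11700, e3 q12314 L196837 q11872, e3 q12315 (flp_f L196839) q11702, e3 q12316 (flp_f L200229)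 q12661, e3 q12317 L196861 q11875, e3 q12318 L202150 q12865, e3 q12319 (flp_f L196871) q11707, e3 q12320 (flp_f L196877) q11708, e3 q12321 (flp_f L196885) q11709, e3 q12322 (flp_f L202172) q12867, e3 q12323 (flp_f L201449) q12790, e3 q12324 L196911 q11714, e3 q12325 L202186 q12869, e3 q12326 (flp_f L196921) q11716, e3 q12327 (flp_f L196929) q11717, e3 q12328 (flp_f L196941) q11718, e3 q12329 (flp_f L202214) q12871, e3 q12330 L196965 q11762, e3 q12331 L196973 q11723, e3 q12332 L196979 q12021, e3 q12333 L202244 q12874, e3 q12334 L202258 q12875, e3 q12335 L202272 q12876, e3 q12336 (flp_f L197027) q11727, e3 q12337 (flp_f L198575) q12517, e3 q12338 L202302 q12879, e3 q12339 (flp_f L197055) q11729, e3 q12340 L202322 q12881, e3 q12341 (flp_f L197073) q11731, e3 q12342 L197091 q11830, e3 q12343 (flp_f L197093) q11733, e3 q12344 (flp_f L199645) q12605, e3 q12345 (flp_f L197107) q11735, e3 q12346 L197119 q11835, e3 q12347 L202358 q12885, e3 q12348 (flp_f L197133) q11739, e3 q12349 (flp_f L197141)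 q11740, e3 q12350 (flp_f L197151) q11741, e3 q12351 (flp_f L197161) q11742, trivial⟩ (by decide +kernel)

theorem ce_f_193 : ∀ r, r < 64 → sm gf (Qf (12352 + r)) = Qf (tab Gen.f (12352 + r)) :=
  edges_tab (sm gf) Qf (tab Gen.f) 12352 [(12352, 12887), (12353, 12890), (12354, 11744), (12355, 11891), (12356, 12892), (12357, 11746), (12358, 11747), (12359, 11896), (12360, 11752), (12361, 12573), (12362, 11904), (12363, 11755), (12364, 12366), (12365, 11760), (12366, 12364), (12367, 12558), (12368, 12750), (12369, 12746), (12370, 12734), (12371, 11778), (12372, 12390), (12373, 12379), (12374, 12899), (12375, 11781), (12376, 12901), (12377, 11782), (12378, 12723), (12379, 12373), (12380, 12907), (12381, 11785), (12382, 11788), (12383, 12912), (12384, 11787), (12385, 12909), (12386, 12915), (12387, 11789), (12388, 12808), (12389, 11794), (12390, 12372), (12391, 12521), (12392, 11795), (12393, 12919), (12394, 12745), (12395, 12505), (12396, 12923), (12397, 11799), (12398, 12926), (12399, 12927),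 (12400, 11801), (12401, 12850), (12402, 11803), (12403, 12852), (12404, 12511), (12405, 12932), (12406, 11807), (12407, 12935), (12408, 12936), (12409, 11809), (12410, 12768), (12411, 11811), (12412, 11812), (12413, 12941), (12414, 12769), (12415, 11833)]
    ⟨e3 q12352 (flp_f L202388) q12887, e3 q12353 L202414 q12890, e3 q12354 (flp_f L197193) q11744, e3 q12355 L197207 q11891, e3 q12356 L202432 q12892, e3 q12357 (flp_f L197219) q11746, e3 q12358 (flp_f L197229) q11747, e3 q12359 L197245 q11896, e3 q12360 L197253 q11752, e3 q12361 (flp_f L199284) q12573, e3 q12362 L197267 q11904, e3 q12363 (flp_f L197269) q11755, e3 q12364 (flp_f L197301) q12366, e3 q12365 L197291 q11760, e3 q12366 L197301 q12364, e3 q12367 (flp_f L199106) q12558, e3 q12368 (flp_f L201052) q12750, e3 q12369 (flp_f L201004) q12746, e3 q12370 (flp_f L200896) q12734, e3 q12371 L197337 q11778, e3 q12372 (flp_f L197512) q12390, e3 q12373 (flp_f L197400) q12379, e3 q12374 L202504 q12899, e3 q12375 (flp_f L197368) q11781, e3 q12376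 L202518 q12901, e3 q12377 (flp_f L197381) q11782, e3 q12378 (flp_f L200804) q12723, e3 q12379 L197400 q12373, e3 q12380 L202559 q12907, e3 q12381 (flp_f L197412) q11785, e3 q12382 L197426 q11788, e3 q12383 L202613 q12912, e3 q12384 (flp_f L197444) q11787, e3 q12385 (flp_f L202585) q12909, e3 q12386 L202647 q12915, e3 q12387 (flp_f L197472) q11789, e3 q12388 (flp_f L201643) q12808, e3 q12389 L197491 q11794, e3 q12390 L197512 q12372, e3 q12391 (flp_f L198619) q12521, e3 q12392 (flp_f L197522) q11795, e3 q12393 (flp_f L202681) q12919, e3 q12394 (flp_f L200994) q12745, e3 q12395 (flp_f L198425) q12505, e3 q12396 L202706 q12923, e3 q12397 (flp_f L197555) q11799, e3 q12398 L202729 q12926, e3 q12399 L202735 q12927, e3 q12400 (flp_f L197574) q11801, e3 q12401 (flp_f L202024) q12850, e3 q12402 (flp_f L197588) q11803, e3 q12403 (flp_f L202048) q12852, e3 q12404 (flp_f L198489) q12511, e3 q12405 L202770 q12932, e3 q12406 (flp_f L197615) q11807, e3 q12407 L202789 q12935, e3 q12408 L202797 q12936, e3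 q12409 (flp_f L197636) q11809, e3 q12410 (flp_f L201239) q12768, e3 q12411 (flp_f L197650) q11811, e3 q12412 (flp_f L197656) q11812, e3 q12413 (flp_f L202832) q12941, e3 q12414 (flp_f L201249) q12769, e3 q12415 L197678 q11833, trivial⟩ (by decide +kernel)

theorem ce_f_194 : ∀ r, r < 64 → sm gf (Qf (12416 + r)) = Qf (tab Gen.f (12416 + r)) :=
  edges_tab (sm gf) Qf (tab Gen.f) 12416 [(12416, 12705), (12417, 11816), (12418, 12946), (12419, 11818), (12420, 12948), (12421, 11820), (12422, 11821), (12423, 12604), (12424, 11843), (12425, 12953), (12426, 12954), (12427, 11824), (12428, 12880), (12429, 12944), (12430, 12957), (12431, 11827), (12432, 11828), (12433, 12882), (12434, 12606), (12435, 12884), (12436, 12131), (12437, 12132), (12438, 12134), (12439, 12711), (12440, 12844), (12441, 12962), (12442, 11845), (12443, 12708), (12444, 12967), (12445, 11847), (12446, 12710), (12447, 12971), (12448, 12972), (12449, 11849), (12450, 12817), (12451, 12974), (12452, 11852), (12453, 11856), (12454,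 12977), (12455, 12978), (12456, 11854), (12457, 12975), (12458, 12980), (12459, 11857), (12460, 12821), (12461, 12983), (12462, 11863), (12463, 12986), (12464, 11865), (12465, 12988), (12466, 11866), (12467, 12660), (12468, 12990), (12469, 11868), (12470, 12861), (12471, 11870), (12472, 12863), (12473, 12662), (12474, 11876), (12475, 12872), (12476, 11878), (12477, 11886), (12478, 12997), (12479, 12998)]
    ⟨e3 q12416 (flp_f L200606) q12705, e3 q12417 L197686 q11816, e3 q12418 (flp_f L202872) q12946, e3 q12419 (flp_f L197698) q11818, e3 q12420 L202886 q12948, e3 q12421 (flp_f L197720) q11820, e3 q12422 (flp_f L197728) q11821, e3 q12423 (flp_f L199631) q12604, e3 q12424 L197752 q11843, e3 q12425 L202936 q12953, e3 q12426 L202942 q12954, e3 q12427 (flp_f L197776) q11824, e3 q12428 (flp_f L202320) q12880, e3 q12429 (flp_f L202858) q12944, e3 q12430 L202974 q12957, e3 q12431 (flp_f L197810) q11827, e3 q12432 (flp_f L197816) q11828, e3 q12433 (flp_f L202340) q12882, e3 q12434 (flp_f L199659)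 q12606, e3 q12435 (flp_f L202356) q12884, e3 q12436 L197860 q12131, e3 q12437 L197866 q12132, e3 q12438 L197878 q12134, e3 q12439 (flp_f L200664) q12711, e3 q12440 (flp_f L201955) q12844, e3 q12441 L203025 q12962, e3 q12442 (flp_f L197908) q11845, e3 q12443 (flp_f L200628) q12708, e3 q12444 L203075 q12967, e3 q12445 (flp_f L197937) q11847, e3 q12446 (flp_f L200650) q12710, e3 q12447 L203106 q12971, e3 q12448 L203114 q12972, e3 q12449 (flp_f L197965) q11849, e3 q12450 (flp_f L201734) q12817, e3 q12451 L203126 q12974, e3 q12452 (flp_f L197987) q11852, e3 q12453 L198003 q11856, e3 q12454 L203160 q12977, e3 q12455 L203172 q12978, e3 q12456 (flp_f L198031) q11854, e3 q12457 (flp_f L203146) q12975, e3 q12458 L203190 q12980, e3 q12459 (flp_f L198055) q11857, e3 q12460 (flp_f L201770) q12821, e3 q12461 L203215 q12983, e3 q12462 (flp_f L198079) q11863, e3 q12463 L203246 q12986, e3 q12464 (flp_f L198099) q11865, e3 q12465 L203264 q12988, e3 q12466 (flp_f L198110) q11866, e3 q12467 (flp_f L200215)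 q12660, e3 q12468 L203276 q12990, e3 q12469 (flp_f L198129) q11868, e3 q12470 (flp_f L202128) q12861, e3 q12471 (flp_f L198143) q11870, e3 q12472 (flp_f L202140) q12863, e3 q12473 (flp_f L200239) q12662, e3 q12474 (flp_f L198161) q11876, e3 q12475 (flp_f L202226) q12872, e3 q12476 (flp_f L198179) q11878, e3 q12477 L198189 q11886, e3 q12478 L203322 q12997, e3 q12479 L203336 q12998, trivial⟩ (by decide +kernel)

theorem ce_f_195 : ∀ r, r < 64 → sm gf (Qf (12480 + r)) = Qf (tab Gen.f (12480 + r)) :=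
  edges_tab (sm gf) Qf (tab Gen.f) 12480 [(12480, 11881), (12481, 12870), (12482, 11883), (12483, 11884), (12484, 12996), (12485, 13003), (12486, 13004), (12487, 11888), (12488, 11889), (12489, 13008), (12490, 12891), (12491, 13009), (12492, 11892), (12493, 11893), (12494, 12893), (12495, 12894), (12496, 11902), (12497, 12571), (12498, 12713), (12499, 11901), (12500, 12653), (12501, 12270), (12502, 12266), (12503, 13015), (12504, 11911), (12505, 12395), (12506, 13019), (12507, 11913), (12508, 13021), (12509, 11914), (12510, 12798), (12511, 12404), (12512, 13026), (12513, 11917), (12514, 11920), (12515, 13030), (12516, 11919), (12517, 12337), (12518, 13033), (12519, 11921), (12520, 12119), (12521, 12391), (12522, 12173), (12523, 11928), (12524, 11941), (12525, 13038), (12526, 11931), (12527, 11932), (12528, 11953), (12529, 11935), (12530, 12250), (12531, 11937), (12532, 12201), (12533, 11939), (12534, 13044), (12535, 13036), (12536, 13046), (12537, 11943), (12538, 13049), (12539, 11945),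 (12540, 13052), (12541, 13053), (12542, 11947), (12543, 13039)]
    ⟨e3 q12480 (flp_f L198217) q11881, e3 q12481 (flp_f L202200) q12870, e3 q12482 (flp_f L198231) q11883, e3 q12483 (flp_f L198241) q11884, e3 q12484 (flp_f L203320) q12996, e3 q12485 L203394 q13003, e3 q12486 L203404 q13004, e3 q12487 (flp_f L198281) q11888, e3 q12488 (flp_f L198287) q11889, e3 q12489 (flp_f L203446) q13008, e3 q12490 (flp_f L202430) q12891, e3 q12491 L203448 q13009, e3 q12492 (flp_f L198315) q11892, e3 q12493 (flp_f L198321) q11893, e3 q12494 (flp_f L202452) q12893, e3 q12495 (flp_f L202464) q12894, e3 q12496 L198343 q11902, e3 q12497 (flp_f L199258) q12571, e3 q12498 (flp_f L200698) q12713, e3 q12499 L198365 q11901, e3 q12500 (flp_f L200150) q12653, e3 q12501 L198379 q12270, e3 q12502 L198391 q12266, e3 q12503 L203508 q13015, e3 q12504 (flp_f L198408) q11911, e3 q12505 L198425 q12395, e3 q12506 L203563 q13019, e3 q12507 (flp_f L198449) q11913, e3 q12508 L203591 q13021, e3 q12509 (flp_f L198468) q11914, e3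 q12510 (flp_f L201547) q12798, e3 q12511 L198489 q12404, e3 q12512 L203645 q13026, e3 q12513 (flp_f L198513) q11917, e3 q12514 L198531 q11920, e3 q12515 L203699 q13030, e3 q12516 (flp_f L198555) q11919, e3 q12517 L198575 q12337, e3 q12518 L203741 q13033, e3 q12519 (flp_f L198595) q11921, e3 q12520 L198613 q12119, e3 q12521 L198619 q12391, e3 q12522 L198641 q12173, e3 q12523 (flp_f L198643) q11928, e3 q12524 L198669 q11941, e3 q12525 L203807 q13038, e3 q12526 (flp_f L198685) q11931, e3 q12527 (flp_f L198699) q11932, e3 q12528 L198725 q11953, e3 q12529 (flp_f L198727) q11935, e3 q12530 L198753 q12250, e3 q12531 (flp_f L198755) q11937, e3 q12532 L198785 q12201, e3 q12533 (flp_f L198787) q11939, e3 q12534 (flp_f L203913) q13044, e3 q12535 (flp_f L203790) q13036, e3 q12536 L203926 q13046, e3 q12537 (flp_f L198835) q11943, e3 q12538 L203963 q13049, e3 q12539 (flp_f L198857) q11945, e3 q12540 L203998 q13052, e3 q12541 L204010 q13053, e3 q12542 (flp_f L198888) q11947, e3 q12543 (flp_f L203835) q13039,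 trivial⟩ (by decide +kernel)

theorem ce_f_196 : ∀ r, r < 64 → sm gf (Qf (12544 + r)) = Qf (tab Gen.f (12544 + r)) :=
  edges_tab (sm gf) Qf (tab Gen.f) 12544 [(12544, 11949), (12545, 12221), (12546, 11951), (12547, 13040), (12548, 12141), (12549, 11955), (12550, 12190), (12551, 11966), (12552, 11973), (12553, 11988), (12554, 11963), (12555, 12237), (12556, 13012), (12557, 11967), (12558, 12367), (12559, 12186), (12560, 12127), (12561, 11972), (12562, 11974), (12563, 11975), (12564, 13061), (12565, 11977), (12566, 12009), (12567, 13064), (12568, 11980), (12569, 12792), (12570, 11985), (12571, 12497), (12572, 11986), (12573, 12361), (12574, 12239), (12575, 11997), (12576, 11993), (12577, 12254), (12578, 11995), (12579, 12895), (12580, 13070), (12581, 11999), (12582, 13073), (12583, 13074), (12584, 12001), (12585, 13050), (12586, 12003), (12587, 13077), (12588, 12004), (12589, 13076), (12590, 13080), (12591, 12007), (12592, 13063), (12593, 12155), (12594, 13083), (12595, 13084), (12596, 12014),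 (12597, 12043), (12598, 12016), (12599, 12050), (12600, 12020), (12601, 13088), (12602, 12022), (12603, 12023), (12604, 12423), (12605, 12344), (12606, 12434), (12607, 13092)]
    ⟨e3 q12544 (flp_f L198902) q11949, e3 q12545 L198928 q12221, e3 q12546 (flp_f L198930) q11951, e3 q12547 (flp_f L203851) q13040, e3 q12548 L198968 q12141, e3 q12549 (flp_f L198970) q11955, e3 q12550 L198996 q12190, e3 q12551 L199012 q11966, e3 q12552 L199024 q11973, e3 q12553 L199038 q11988, e3 q12554 (flp_f L199040) q11963, e3 q12555 L199070 q12237, e3 q12556 (flp_f L203476) q13012, e3 q12557 (flp_f L199084) q11967, e3 q12558 L199106 q12367, e3 q12559 L199122 q12186, e3 q12560 L199136 q12127, e3 q12561 L199148 q11972, e3 q12562 (flp_f L199150) q11974, e3 q12563 (flp_f L199162) q11975, e3 q12564 (flp_f L204134) q13061, e3 q12565 (flp_f L199182) q11977, e3 q12566 L199200 q12009, e3 q12567 L204160 q13064, e3 q12568 (flp_f L199214) q11980, e3 q12569 (flp_f L201477) q12792, e3 q12570 L199246 q11985, e3 q12571 L199258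 q12497, e3 q12572 (flp_f L199260) q11986, e3 q12573 L199284 q12361, e3 q12574 L199298 q12239, e3 q12575 L199314 q11997, e3 q12576 (flp_f L199316) q11993, e3 q12577 L199340 q12254, e3 q12578 (flp_f L199342) q11995, e3 q12579 (flp_f L202478) q12895, e3 q12580 L204247 q13070, e3 q12581 (flp_f L199384) q11999, e3 q12582 L204284 q13073, e3 q12583 L204296 q13074, e3 q12584 (flp_f L199413) q12001, e3 q12585 (flp_f L203985) q13050, e3 q12586 (flp_f L199425) q12003, e3 q12587 L204324 q13077, e3 q12588 (flp_f L199449) q12004, e3 q12589 (flp_f L204322) q13076, e3 q12590 L204360 q13080, e3 q12591 (flp_f L199479) q12007, e3 q12592 (flp_f L204158) q13063, e3 q12593 L199503 q12155, e3 q12594 L204395 q13083, e3 q12595 L204407 q13084, e3 q12596 (flp_f L199529) q12014, e3 q12597 L199545 q12043, e3 q12598 (flp_f L199547) q12016, e3 q12599 L199571 q12050, e3 q12600 (flp_f L199573) q12020, e3 q12601 L204451 q13088, e3 q12602 (flp_f L199599) q12022, e3 q12603 (flp_f L199611) q12023, e3 q12604 L199631 q12423,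 e3 q12605 L199645 q12344, e3 q12606 L199659 q12434, e3 q12607 L204502 q13092, trivial⟩ (by decide +kernel)

theorem ce_f_197 : ∀ r, r < 64 → sm gf (Qf (12608 + r)) = Qf (tab Gen.f (12608 + r)) :=
  edges_tab (sm gf) Qf (tab Gen.f) 12608 [(12608, 12029), (12609, 12030), (12610, 12036), (12611, 13097), (12612, 12032), (12613, 13100), (12614, 13101), (12615, 12034), (12616, 13094), (12617, 12093), (12618, 13105), (12619, 13106), (12620, 12037), (12621, 13027), (12622, 13110), (12623, 13111), (12624, 12040), (12625, 12041), (12626, 13085), (12627, 12047), (12628, 12045), (12629, 13043), (12630, 12048), (12631, 13086), (12632, 13117), (12633, 12051), (12634, 12248), (12635, 12251), (12636, 13120), (12637, 13121), (12638, 12057), (12639, 12099), (12640, 12059), (12641, 12106), (12642, 12062), (12643, 13125), (12644, 13126), (12645, 12064), (12646, 13124), (12647, 13128), (12648, 12067), (12649, 12124), (12650, 12074), (12651, 12071), (12652, 12072), (12653, 12500), (12654, 12129), (12655, 12077),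 (12656, 13134), (12657, 12079), (12658, 13136), (12659, 12080), (12660, 12467), (12661, 12316), (12662, 12473), (12663, 13139), (12664, 12086), (12665, 13142), (12666, 12088), (12667, 13145), (12668, 12090), (12669, 13147), (12670, 12091), (12671, 13143)]
    ⟨e3 q12608 (flp_f L199669) q12029, e3 q12609 (flp_f L199675) q12030, e3 q12610 L199690 q12036, e3 q12611 L204555 q13097, e3 q12612 (flp_f L199712) q12032, e3 q12613 L204588 q13100, e3 q12614 L204600 q13101, e3 q12615 (flp_f L199737) q12034, e3 q12616 (flp_f L204528) q13094, e3 q12617 L199756 q12093, e3 q12618 L204633 q13105, e3 q12619 L204643 q13106, e3 q12620 (flp_f L199781) q12037, e3 q12621 (flp_f L203671) q13027, e3 q12622 L204683 q13110, e3 q12623 L204695 q13111, e3 q12624 (flp_f L199814) q12040, e3 q12625 (flp_f L199822) q12041, e3 q12626 (flp_f L204421) q13085, e3 q12627 L199846 q12047, e3 q12628 (flp_f L199848) q12045, e3 q12629 (flp_f L203901) q13043, e3 q12630 (flp_f L199870) q12048, e3 q12631 (flp_f L204437) q13086, e3 q12632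 L204754 q13117, e3 q12633 (flp_f L199905) q12051, e3 q12634 L199927 q12248, e3 q12635 L199941 q12251, e3 q12636 L204789 q13120, e3 q12637 L204801 q13121, e3 q12638 (flp_f L199966) q12057, e3 q12639 L199988 q12099, e3 q12640 (flp_f L199990) q12059, e3 q12641 L200016 q12106, e3 q12642 (flp_f L200018) q12062, e3 q12643 L204853 q13125, e3 q12644 L204865 q13126, e3 q12645 (flp_f L200050) q12064, e3 q12646 (flp_f L204851) q13124, e3 q12647 L204883 q13128, e3 q12648 (flp_f L200082) q12067, e3 q12649 L200094 q12124, e3 q12650 L200110 q12074, e3 q12651 (flp_f L200112) q12071, e3 q12652 (flp_f L200126) q12072, e3 q12653 L200150 q12500, e3 q12654 L200158 q12129, e3 q12655 (flp_f L200160) q12077, e3 q12656 L204958 q13134, e3 q12657 (flp_f L200182) q12079, e3 q12658 L204982 q13136, e3 q12659 (flp_f L200201) q12080, e3 q12660 L200215 q12467, e3 q12661 L200229 q12316, e3 q12662 L200239 q12473, e3 q12663 L205009 q13139, e3 q12664 (flp_f L200253) q12086, e3 q12665 L205046 q13142, e3 q12666 (flp_f L200277)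 q12088, e3 q12667 L205079 q13145, e3 q12668 (flp_f L200295) q12090, e3 q12669 L205101 q13147, e3 q12670 (flp_f L200310) q12091, e3 q12671 (flp_f L205068) q13143, trivial⟩ (by decide +kernel)

theorem ce_f_198 : ∀ r, r < 64 → sm gf (Qf (12672 + r)) = Qf (tab Gen.f (12672 + r)) :=
  edges_tab (sm gf) Qf (tab Gen.f) 12672 [(12672, 13151), (12673, 13152), (12674, 12094), (12675, 13020), (12676, 13155), (12677, 12096), (12678, 12097), (12679, 13122), (12680, 12100), (12681, 12104), (12682, 12102), (12683, 13161), (12684, 13159), (12685, 13123), (12686, 12868), (12687, 12114), (12688, 13163), (12689, 12110), (12690, 12866), (12691, 12112), (12692, 13060), (12693, 13167), (12694, 13169), (12695, 12116), (12696, 12117), (12697, 13173), (12698, 13034), (12699, 13175), (12700, 12120), (12701, 13177), (12702, 12121), (12703, 13129), (12704, 12742), (12705, 12416), (12706, 13131), (12707, 12960), (12708, 12443), (12709, 12810), (12710, 12446), (12711, 12439), (12712, 12142), (12713, 12498), (12714,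 12803), (12715, 13181), (12716, 12145), (12717, 12160), (12718, 12169), (12719, 13184), (12720, 12150), (12721, 13186), (12722, 12151), (12723, 12378), (12724, 13189), (12725, 12154), (12726, 13035), (12727, 13193), (12728, 13194), (12729, 12156), (12730, 12963), (12731, 12158), (12732, 13182), (12733, 12161), (12734, 12370), (12735, 12166)]
    ⟨e3 q12672 L205131 q13151, e3 q12673 L205141 q13152, e3 q12674 (flp_f L200341) q12094, e3 q12675 (flp_f L203589) q13020, e3 q12676 L205162 q13155, e3 q12677 (flp_f L200360) q12096, e3 q12678 (flp_f L200368) q12097, e3 q12679 (flp_f L204821) q13122, e3 q12680 (flp_f L200378) q12100, e3 q12681 L200404 q12104, e3 q12682 (flp_f L200406) q12102, e3 q12683 (flp_f L205227) q13161, e3 q12684 (flp_f L205199) q13159, e3 q12685 (flp_f L204837) q13123, e3 q12686 (flp_f L202184) q12868, e3 q12687 L200458 q12114, e3 q12688 L205243 q13163, e3 q12689 (flp_f L200470) q12110, e3 q12690 (flp_f L202162) q12866, e3 q12691 (flp_f L200484) q12112, e3 q12692 (flp_f L204118)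 q13060, e3 q12693 L205285 q13167, e3 q12694 L205303 q13169, e3 q12695 (flp_f L200518) q12116, e3 q12696 (flp_f L200524) q12117, e3 q12697 (flp_f L205345) q13173, e3 q12698 (flp_f L203759) q13034, e3 q12699 L205357 q13175, e3 q12700 (flp_f L200560) q12120, e3 q12701 L205373 q13177, e3 q12702 (flp_f L200576) q12121, e3 q12703 (flp_f L204901) q13129, e3 q12704 (flp_f L200960) q12742, e3 q12705 L200606 q12416, e3 q12706 (flp_f L204933) q13131, e3 q12707 (flp_f L203010) q12960, e3 q12708 L200628 q12443, e3 q12709 (flp_f L201658) q12810, e3 q12710 L200650 q12446, e3 q12711 L200664 q12439, e3 q12712 L200684 q12142, e3 q12713 L200698 q12498, e3 q12714 (flp_f L201591) q12803, e3 q12715 L205419 q13181, e3 q12716 (flp_f L200721) q12145, e3 q12717 L200739 q12160, e3 q12718 L200751 q12169, e3 q12719 L205450 q13184, e3 q12720 (flp_f L200763) q12150, e3 q12721 L205474 q13186, e3 q12722 (flp_f L200784) q12151, e3 q12723 L200804 q12378, e3 q12724 L205507 q13189, e3 q12725 (flp_f L200818) q12154, e3 q12726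 (flp_f L203769) q13035, e3 q12727 L205552 q13193, e3 q12728 L205560 q13194, e3 q12729 (flp_f L200854) q12156, e3 q12730 (flp_f L203047) q12963, e3 q12731 (flp_f L200864) q12158, e3 q12732 (flp_f L205437) q13182, e3 q12733 (flp_f L200874) q12161, e3 q12734 L200896 q12370, e3 q12735 L200902 q12166, trivial⟩ (by decide +kernel)

theorem ce_f_199 : ∀ r, r < 64 → sm gf (Qf (12736 + r)) = Qf (tab Gen.f (12736 + r)) :=
  edges_tab (sm gf) Qf (tab Gen.f) 12736 [(12736, 13201), (12737, 13202), (12738, 12164), (12739, 12829), (12740, 13204), (12741, 12167), (12742, 12704), (12743, 12283), (12744, 12180), (12745, 12394), (12746, 12369), (12747, 12181), (12748, 12182), (12749, 13059), (12750, 12368), (12751, 13208), (12752, 12187), (12753, 12984), (12754, 13057), (12755, 13210), (12756, 12191), (12757, 12219), (12758, 12222), (12759, 12223), (12760, 12196), (12761, 13213), (12762, 13042), (12763, 12233), (12764, 13215), (12765, 12203), (12766, 13217), (12767, 12204), (12768, 12410), (12769, 12414),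 (12770, 13220), (12771, 12210), (12772, 13223), (12773, 12212), (12774, 13225), (12775, 12213), (12776, 13047), (12777, 13227), (12778, 12215), (12779, 13071), (12780, 12217), (12781, 13211), (12782, 13055), (12783, 13212), (12784, 12225), (12785, 12787), (12786, 12230), (12787, 12785), (12788, 13058), (12789, 12231), (12790, 12323), (12791, 12286), (12792, 12569), (12793, 13234), (12794, 12242), (12795, 13016), (12796, 13236), (12797, 12244), (12798, 12510), (12799, 12246)]
    ⟨e3 q12736 L205615 q13201, e3 q12737 L205623 q13202, e3 q12738 (flp_f L200920) q12164, e3 q12739 (flp_f L201854) q12829, e3 q12740 L205639 q13204, e3 q12741 (flp_f L200946) q12167, e3 q12742 L200960 q12704, e3 q12743 L200968 q12283, e3 q12744 L200984 q12180, e3 q12745 L200994 q12394, e3 q12746 L201004 q12369, e3 q12747 (flp_f L201006) q12181, e3 q12748 (flp_f L201016) q12182, e3 q12749 (flp_f L204106) q13059, e3 q12750 L201052 q12368, e3 q12751 L205687 q13208, e3 q12752 (flp_f L201063) q12187, e3 q12753 (flp_f L203239)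 q12984, e3 q12754 (flp_f L204072) q13057, e3 q12755 L205705 q13210, e3 q12756 (flp_f L201098) q12191, e3 q12757 L201116 q12219, e3 q12758 L201128 q12222, e3 q12759 L201140 q12223, e3 q12760 L201150 q12196, e3 q12761 (flp_f L205749) q13213, e3 q12762 (flp_f L203885) q13042, e3 q12763 L201186 q12233, e3 q12764 L205762 q13215, e3 q12765 (flp_f L201200) q12203, e3 q12766 L205788 q13217, e3 q12767 (flp_f L201221) q12204, e3 q12768 L201239 q12410, e3 q12769 L201249 q12414, e3 q12770 L205819 q13220, e3 q12771 (flp_f L201263) q12210, e3 q12772 L205862 q13223, e3 q12773 (flp_f L201291) q12212, e3 q12774 L205892 q13225, e3 q12775 (flp_f L201310) q12213, e3 q12776 (flp_f L203948) q13047, e3 q12777 L205908 q13227, e3 q12778 (flp_f L201335) q12215, e3 q12779 (flp_f L204273) q13071, e3 q12780 (flp_f L201351) q12217, e3 q12781 (flp_f L205723) q13211, e3 q12782 (flp_f L204040) q13055, e3 q12783 (flp_f L205733) q13212, e3 q12784 L201381 q12225, e3 q12785 (flp_f L201409) q12787, e3 q12786 L201397 q12230,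 e3 q12787 L201409 q12785, e3 q12788 (flp_f L204090) q13058, e3 q12789 (flp_f L201425) q12231, e3 q12790 L201449 q12323, e3 q12791 L201463 q12286, e3 q12792 L201477 q12569, e3 q12793 L205962 q13234, e3 q12794 (flp_f L201484) q12242, e3 q12795 (flp_f L203536) q13016, e3 q12796 L205978 q13236, e3 q12797 (flp_f L201519) q12244, e3 q12798 L201547 q12510, e3 q12799 (flp_f L201549) q12246, trivial⟩ (by decide +kernel)

theorem ce_f_200 : ∀ r, r < 64 → sm gf (Qf (12800 + r)) = Qf (tab Gen.f (12800 + r)) :=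
  edges_tab (sm gf) Qf (tab Gen.f) 12800 [(12800, 13118), (12801, 13041), (12802, 13067), (12803, 12714), (12804, 13240), (12805, 12257), (12806, 12296), (12807, 12260), (12808, 12388), (12809, 12263), (12810, 12709), (12811, 13247), (12812, 12265), (12813, 13013), (12814, 13251), (12815, 13252), (12816, 12267), (12817, 12450), (12818, 13198), (12819, 13254), (12820, 12271), (12821, 12460), (12822, 12274), (12823, 12280), (12824, 13258), (12825, 12276), (12826, 13260), (12827, 13261), (12828, 12278), (12829, 12739), (12830, 12917), (12831, 13264), (12832, 12281), (12833, 13233), (12834, 13266), (12835, 12284), (12836, 12959), (12837, 12287), (12838, 12293), (12839, 12290), (12840, 12291), (12841, 13268), (12842, 12294), (12843, 13241), (12844, 12440), (12845, 13274), (12846, 12298), (12847, 13277), (12848, 13278), (12849, 12300), (12850, 12401), (12851, 12302), (12852, 12403), (12853, 13282), (12854, 12306), (12855, 12307), (12856, 13285), (12857, 12308), (12858, 13132), (12859, 13287),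 (12860, 12310), (12861, 12470), (12862, 12312), (12863, 12472)]
    ⟨e3 q12800 (flp_f L204776) q13118, e3 q12801 (flp_f L203867) q13041, e3 q12802 (flp_f L204216) q13067, e3 q12803 L201591 q12714, e3 q12804 L206019 q13240, e3 q12805 (flp_f L201605) q12257, e3 q12806 L201625 q12296, e3 q12807 (flp_f L201627) q12260, e3 q12808 L201643 q12388, e3 q12809 (flp_f L201645) q12263, e3 q12810 L201658 q12709, e3 q12811 L206105 q13247, e3 q12812 (flp_f L201680) q12265, e3 q12813 (flp_f L203490) q13013, e3 q12814 L206154 q13251, e3 q12815 L206162 q13252, e3 q12816 (flp_f L201720) q12267, e3 q12817 L201734 q12450, e3 q12818 (flp_f L205591) q13198, e3 q12819 L206176 q13254, e3 q12820 (flp_f L201756) q12271, e3 q12821 L201770 q12460, e3 q12822 (flp_f L201772) q12274, e3 q12823 L201788 q12280, e3 q12824 L206220 q13258, e3 q12825 (flp_f L201810) q12276, e3 q12826 L206248 q13260, e3 q12827 L206256 q13261, e3 q12828 (flp_f L201840) q12278, e3 q12829 L201854 q12739, e3 q12830 (flp_f L202667) q12917, e3 q12831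 L206284 q13264, e3 q12832 (flp_f L201870) q12281, e3 q12833 (flp_f L205960) q13233, e3 q12834 L206296 q13266, e3 q12835 (flp_f L201892) q12284, e3 q12836 (flp_f L203002) q12959, e3 q12837 (flp_f L201904) q12287, e3 q12838 L201922 q12293, e3 q12839 (flp_f L201924) q12290, e3 q12840 (flp_f L201932) q12291, e3 q12841 (flp_f L206322) q13268, e3 q12842 (flp_f L201944) q12294, e3 q12843 (flp_f L206041) q13241, e3 q12844 L201955 q12440, e3 q12845 L206371 q13274, e3 q12846 (flp_f L201979) q12298, e3 q12847 L206406 q13277, e3 q12848 L206418 q13278, e3 q12849 (flp_f L202010) q12300, e3 q12850 L202024 q12401, e3 q12851 (flp_f L202026) q12302, e3 q12852 L202048 q12403, e3 q12853 L206461 q13282, e3 q12854 (flp_f L202062) q12306, e3 q12855 (flp_f L202072) q12307, e3 q12856 L206501 q13285, e3 q12857 (flp_f L202089) q12308, e3 q12858 (flp_f L204945) q13132, e3 q12859 L206513 q13287, e3 q12860 (flp_f L202112) q12310, e3 q12861 L202128 q12470, e3 q12862 (flp_f L202130) q12312, e3 q12863 L202140 q12472, trivial⟩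 (by decide +kernel)

theorem ce_f_201 : ∀ r, r < 64 → sm gf (Qf (12864 + r)) = Qf (tab Gen.f (12864 + r)) :=
  edges_tab (sm gf) Qf (tab Gen.f) 12864 [(12864, 13056), (12865, 12318), (12866, 12690), (12867, 12322), (12868, 12686), (12869, 12325), (12870, 12481), (12871, 12329), (12872, 12475), (12873, 13293), (12874, 12333), (12875, 12334), (12876, 12335), (12877, 13087), (12878, 13297), (12879, 12338), (12880, 12428), (12881, 12340), (12882, 12433), (12883, 13066), (12884, 12435), (12885, 12347), (12886, 12888), (12887, 12352), (12888, 12886), (12889, 13065), (12890, 12353), (12891, 12490), (12892, 12356), (12893, 12494), (12894, 12495), (12895, 12579), (12896, 12904), (12897, 13305), (12898, 13306), (12899, 12374), (12900, 13185), (12901, 12376), (12902, 13311), (12903, 13187), (12904, 12896), (12905, 13315), (12906, 13316), (12907, 12380), (12908, 13242), (12909, 12385), (12910, 13320), (12911, 13321), (12912, 12383), (12913, 13259), (12914, 13323), (12915, 12386), (12916, 13172), (12917,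 12830), (12918, 13115), (12919, 12393), (12920, 13326), (12921, 13328), (12922, 13329), (12923, 12396), (12924, 13275), (12925, 13332), (12926, 12398), (12927, 12399)]
    ⟨e3 q12864 (flp_f L204056) q13056, e3 q12865 (flp_f L202150) q12318, e3 q12866 L202162 q12690, e3 q12867 L202172 q12322, e3 q12868 L202184 q12686, e3 q12869 (flp_f L202186) q12325, e3 q12870 L202200 q12481, e3 q12871 L202214 q12329, e3 q12872 L202226 q12475, e3 q12873 L206554 q13293, e3 q12874 (flp_f L202244) q12333, e3 q12875 (flp_f L202258) q12334, e3 q12876 (flp_f L202272) q12335, e3 q12877 (flp_f L204449) q13087, e3 q12878 L206612 q13297, e3 q12879 (flp_f L202302) q12338, e3 q12880 L202320 q12428, e3 q12881 (flp_f L202322) q12340, e3 q12882 L202340 q12433, e3 q12883 (flp_f L204198) q13066, e3 q12884 L202356 q12435, e3 q12885 (flp_f L202358) q12347, e3 q12886 (flp_f L202400) q12888, e3 q12887 L202388 q12352, e3 q12888 L202400 q12886, e3 q12889 (flp_f L204182) q13065, e3 q12890 (flp_f L202414) q12353, e3 q12891 L202430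 q12490, e3 q12892 (flp_f L202432) q12356, e3 q12893 L202452 q12494, e3 q12894 L202464 q12495, e3 q12895 L202478 q12579, e3 q12896 (flp_f L202540) q12904, e3 q12897 L206697 q13305, e3 q12898 L206705 q13306, e3 q12899 (flp_f L202504) q12374, e3 q12900 (flp_f L205472) q13185, e3 q12901 (flp_f L202518) q12376, e3 q12902 (flp_f L206741) q13311, e3 q12903 (flp_f L205492) q13187, e3 q12904 L202540 q12896, e3 q12905 L206767 q13315, e3 q12906 L206775 q13316, e3 q12907 (flp_f L202559) q12380, e3 q12908 (flp_f L206051) q13242, e3 q12909 L202585 q12385, e3 q12910 L206819 q13320, e3 q12911 L206831 q13321, e3 q12912 (flp_f L202613) q12383, e3 q12913 (flp_f L206246) q13259, e3 q12914 L206853 q13323, e3 q12915 (flp_f L202647) q12386, e3 q12916 (flp_f L205337) q13172, e3 q12917 L202667 q12830, e3 q12918 (flp_f L204736) q13115, e3 q12919 L202681 q12393, e3 q12920 (flp_f L206875) q13326, e3 q12921 L206886 q13328, e3 q12922 L206894 q13329, e3 q12923 (flp_f L202706) q12396, e3 q12924 (flp_f L206393) q13275,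 e3 q12925 L206921 q13332, e3 q12926 (flp_f L202729) q12398, e3 q12927 (flp_f L202735) q12399, trivial⟩ (by decide +kernel)

theorem ce_f_202 : ∀ r, r < 64 → sm gf (Qf (12928 + r)) = Qf (tab Gen.f (12928 + r)) :=
  edges_tab (sm gf) Qf (tab Gen.f) 12928 [(12928, 13279), (12929, 13280), (12930, 13337), (12931, 13338), (12932, 12405), (12933, 13216), (12934, 13341), (12935, 12407), (12936, 12408), (12937, 13345), (12938, 13218), (12939, 13160), (12940, 13116), (12941, 12413), (12942, 13348), (12943, 13130), (12944, 12429), (12945, 13165), (12946, 12418), (12947, 13068), (12948, 12420), (12949, 13089), (12950, 13090), (12951, 13351), (12952, 13355), (12953, 12425), (12954, 12426), (12955, 13298), (12956, 13350), (12957, 12430), (12958, 13299), (12959, 12836), (12960, 12707), (12961, 13359), (12962, 12441), (12963, 12730), (12964, 13179), (12965, 13363), (12966, 13364), (12967, 12444), (12968, 13248), (12969, 13367), (12970, 13368), (12971, 12447), (12972, 12448), (12973, 13253), (12974, 12451),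 (12975, 12457), (12976, 13373), (12977, 12454), (12978, 12455), (12979, 13372), (12980, 12458), (12981, 13255), (12982, 13377), (12983, 12461), (12984, 12753), (12985, 13379), (12986, 12463), (12987, 13135), (12988, 12465), (12989, 13137), (12990, 12468), (12991, 13385)]
    ⟨e3 q12928 (flp_f L206432) q13279, e3 q12929 (flp_f L206448) q13280, e3 q12930 L206951 q13337, e3 q12931 L206959 q13338, e3 q12932 (flp_f L202770) q12405, e3 q12933 (flp_f L205786) q13216, e3 q12934 L206978 q13341, e3 q12935 (flp_f L202789) q12407, e3 q12936 (flp_f L202797) q12408, e3 q12937 (flp_f L207007) q13345, e3 q12938 (flp_f L205804) q13218, e3 q12939 (flp_f L205215) q13160, e3 q12940 (flp_f L204752) q13116, e3 q12941 L202832 q12413, e3 q12942 (flp_f L207032) q13348, e3 q12943 (flp_f L204917) q13130, e3 q12944 L202858 q12429, e3 q12945 (flp_f L205271) q13165, e3 q12946 L202872 q12418, e3 q12947 (flp_f L204234) q13068, e3 q12948 (flp_f L202886) q12420, e3 q12949 (flp_f L204477) q13089, e3 q12950 (flp_f L204491)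 q13090, e3 q12951 (flp_f L207064) q13351, e3 q12952 L207098 q13355, e3 q12953 (flp_f L202936) q12425, e3 q12954 (flp_f L202942) q12426, e3 q12955 (flp_f L206630) q13298, e3 q12956 (flp_f L207050) q13350, e3 q12957 (flp_f L202974) q12430, e3 q12958 (flp_f L206640) q13299, e3 q12959 L203002 q12836, e3 q12960 L203010 q12707, e3 q12961 L207140 q13359, e3 q12962 (flp_f L203025) q12441, e3 q12963 L203047 q12730, e3 q12964 (flp_f L205395) q13179, e3 q12965 L207179 q13363, e3 q12966 L207189 q13364, e3 q12967 (flp_f L203075) q12444, e3 q12968 (flp_f L206131) q13248, e3 q12969 L207216 q13367, e3 q12970 L207224 q13368, e3 q12971 (flp_f L203106) q12447, e3 q12972 (flp_f L203114) q12448, e3 q12973 (flp_f L206174) q13253, e3 q12974 (flp_f L203126) q12451, e3 q12975 L203146 q12457, e3 q12976 L207263 q13373, e3 q12977 (flp_f L203160) q12454, e3 q12978 (flp_f L203172) q12455, e3 q12979 (flp_f L207261) q13372, e3 q12980 (flp_f L203190) q12458, e3 q12981 (flp_f L206192) q13255, e3 q12982 L207305 q13377, e3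 q12983 (flp_f L203215) q12461, e3 q12984 L203239 q12753, e3 q12985 L207331 q13379, e3 q12986 (flp_f L203246) q12463, e3 q12987 (flp_f L204980) q13135, e3 q12988 (flp_f L203264) q12465, e3 q12989 (flp_f L204996) q13137, e3 q12990 (flp_f L203276) q12468, e3 q12991 (flp_f L207369) q13385, trivial⟩ (by decide +kernel)

theorem ce_f_203 : ∀ r, r < 64 → sm gf (Qf (12992 + r)) = Qf (tab Gen.f (12992 + r)) :=
  edges_tab (sm gf) Qf (tab Gen.f) 12992 [(12992, 13288), (12993, 12993), (12994, 13290), (12995, 13207), (12996, 12484), (12997, 12478), (12998, 12479), (12999, 13292), (13000, 13001), (13001, 13000), (13002, 13389), (13003, 12485), (13004, 12486), (13005, 13393), (13006, 13079), (13007, 13301), (13008, 12489), (13009, 12491), (13010, 13127), (13011, 13302), (13012, 12556), (13013, 12813), (13014, 13396), (13015, 12503), (13016, 12795), (13017, 13399), (13018, 13400), (13019, 12506), (13020, 12675), (13021, 12508), (13022, 13404), (13023, 13237), (13024, 13406), (13025, 13407), (13026, 12512),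 (13027, 12621), (13028, 13409), (13029, 13410), (13030, 12515), (13031, 13256), (13032, 13413), (13033, 12518), (13034, 12698), (13035, 12726), (13036, 12535), (13037, 13415), (13038, 12525), (13039, 12543), (13040, 12547), (13041, 12801), (13042, 12762), (13043, 12629), (13044, 12534), (13045, 13418), (13046, 12536), (13047, 12776), (13048, 13420), (13049, 12538), (13050, 12585), (13051, 13422), (13052, 12540), (13053, 12541), (13054, 13416), (13055, 12782)]
    ⟨e3 q12992 (flp_f L206527) q13288, e3 q12993 L203297 q12993, e3 q12994 (flp_f L206536) q13290, e3 q12995 (flp_f L205685) q13207, e3 q12996 L203320 q12484, e3 q12997 (flp_f L203322) q12478, e3 q12998 (flp_f L203336) q12479, e3 q12999 (flp_f L206552) q13292, e3 q13000 (flp_f L203382) q13001, e3 q13001 L203382 q13000, e3 q13002 L207407 q13389, e3 q13003 (flp_f L203394) q12485, e3 q13004 (flp_f L203404) q12486, e3 q13005 (flp_f L207457) q13393, e3 q13006 (flp_f L204358) q13079, e3 q13007 (flp_f L206666) q13301, e3 q13008 L203446 q12489,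 e3 q13009 (flp_f L203448) q12491, e3 q13010 (flp_f L204881) q13127, e3 q13011 (flp_f L206678) q13302, e3 q13012 L203476 q12556, e3 q13013 L203490 q12813, e3 q13014 L207473 q13396, e3 q13015 (flp_f L203508) q12503, e3 q13016 L203536 q12795, e3 q13017 L207516 q13399, e3 q13018 L207530 q13400, e3 q13019 (flp_f L203563) q12506, e3 q13020 L203589 q12675, e3 q13021 (flp_f L203591) q12508, e3 q13022 (flp_f L207573) q13404, e3 q13023 (flp_f L206006) q13237, e3 q13024 L207590 q13406, e3 q13025 L207604 q13407, e3 q13026 (flp_f L203645) q12512, e3 q13027 L203671 q12621, e3 q13028 L207630 q13409, e3 q13029 L207644 q13410, e3 q13030 (flp_f L203699) q12515, e3 q13031 (flp_f L206206) q13256, e3 q13032 L207686 q13413, e3 q13033 (flp_f L203741) q12518, e3 q13034 L203759 q12698, e3 q13035 L203769 q12726, e3 q13036 L203790 q12535, e3 q13037 L207712 q13415, e3 q13038 (flp_f L203807) q12525, e3 q13039 L203835 q12543, e3 q13040 L203851 q12547, e3 q13041 L203867 q12801, e3 q13042 L203885 q12762, e3 q13043 L203901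 q12629, e3 q13044 L203913 q12534, e3 q13045 L207756 q13418, e3 q13046 (flp_f L203926) q12536, e3 q13047 L203948 q12776, e3 q13048 L207780 q13420, e3 q13049 (flp_f L203963) q12538, e3 q13050 L203985 q12585, e3 q13051 L207804 q13422, e3 q13052 (flp_f L203998) q12540, e3 q13053 (flp_f L204010) q12541, e3 q13054 (flp_f L207740) q13416, e3 q13055 L204040 q12782, trivial⟩ (by decide +kernel)

theorem ce_f_204 : ∀ r, r < 64 → sm gf (Qf (13056 + r)) = Qf (tab Gen.f (13056 + r)) :=
  edges_tab (sm gf) Qf (tab Gen.f) 13056 [(13056, 12864), (13057, 12754), (13058, 12788), (13059, 12749), (13060, 12692), (13061, 12564), (13062, 13206), (13063, 12592), (13064, 12567), (13065, 12889), (13066, 12883), (13067, 12802), (13068, 12947), (13069, 13427), (13070, 12580), (13071, 12779), (13072, 13430), (13073, 12582), (13074, 12583), (13075, 13421), (13076, 12589), (13077, 12587), (13078, 13435), (13079, 13006), (13080, 12590), (13081, 13300), (13082, 13437), (13083, 12594), (13084, 12595), (13085, 12626), (13086,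 12631), (13087, 12877), (13088, 12601), (13089, 12949), (13090, 12950), (13091, 13442), (13092, 12607), (13093, 13098), (13094, 12616), (13095, 13445), (13096, 13446), (13097, 12611), (13098, 13093), (13099, 13449), (13100, 12613), (13101, 12614), (13102, 13417), (13103, 13454), (13104, 13455), (13105, 12618), (13106, 12619), (13107, 13460), (13108, 13408), (13109, 13461), (13110, 12622), (13111, 12623), (13112, 13438), (13113, 13113), (13114, 13440), (13115, 12918), (13116, 12940), (13117, 12632), (13118, 12800), (13119, 13468)]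
    ⟨e3 q13056 L204056 q12864, e3 q13057 L204072 q12754, e3 q13058 L204090 q12788, e3 q13059 L204106 q12749, e3 q13060 L204118 q12692, e3 q13061 L204134 q12564, e3 q13062 (flp_f L205667) q13206, e3 q13063 L204158 q12592, e3 q13064 (flp_f L204160) q12567, e3 q13065 L204182 q12889, e3 q13066 L204198 q12883, e3 q13067 L204216 q12802, e3 q13068 L204234 q12947, e3 q13069 L207857 q13427, e3 q13070 (flp_f L204247) q12580, e3 q13071 L204273 q12779, e3 q13072 L207896 q13430, e3 q13073 (flp_f L204284) q12582, e3 q13074 (flp_f L204296) q12583, e3 q13075 (flp_f L207802) q13421, e3 q13076 L204322 q12589, e3 q13077 (flp_f L204324) q12587, e3 q13078 (flp_f L207955) q13435, e3 q13079 L204358 q13006, e3 q13080 (flp_f L204360) q12590, e3 q13081 (flp_f L206654) q13300, e3 q13082 L207971 q13437, e3 q13083 (flp_f L204395) q12594, e3 q13084 (flp_f L204407) q12595, e3 q13085 L204421 q12626, e3 q13086 L204437 q12631, e3 q13087 L204449 q12877, e3 q13088 (flp_f L204451) q12601, e3 q13089 L204477 q12949, e3 q13090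 L204491 q12950, e3 q13091 L208026 q13442, e3 q13092 (flp_f L204502) q12607, e3 q13093 (flp_f L204575) q13098, e3 q13094 L204528 q12616, e3 q13095 L208057 q13445, e3 q13096 L208071 q13446, e3 q13097 (flp_f L204555) q12611, e3 q13098 L204575 q13093, e3 q13099 L208104 q13449, e3 q13100 (flp_f L204588) q12613, e3 q13101 (flp_f L204600) q12614, e3 q13102 (flp_f L207752) q13417, e3 q13103 L208150 q13454, e3 q13104 L208164 q13455, e3 q13105 (flp_f L204633) q12618, e3 q13106 (flp_f L204643) q12619, e3 q13107 (flp_f L208210) q13460, e3 q13108 (flp_f L207628) q13408, e3 q13109 L208216 q13461, e3 q13110 (flp_f L204683) q12622, e3 q13111 (flp_f L204695) q12623, e3 q13112 (flp_f L207993) q13438, e3 q13113 L204715 q13113, e3 q13114 (flp_f L208008) q13440, e3 q13115 L204736 q12918, e3 q13116 L204752 q12940, e3 q13117 (flp_f L204754) q12632, e3 q13118 L204776 q12800, e3 q13119 L208286 q13468, trivial⟩ (by decide +kernel)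

theorem ce_f_205 : ∀ r, r < 64 → sm gf (Qf (13120 + r)) = Qf (tab Gen.f (13120 + r)) :=
  edges_tab (sm gf) Qf (tab Gen.f) 13120 [(13120, 12636), (13121, 12637), (13122, 12679), (13123, 12685), (13124, 12646), (13125, 12643), (13126, 12644), (13127, 13010), (13128, 12647), (13129, 12703), (13130, 12943), (13131, 12706), (13132, 12858), (13133, 13475), (13134, 12656), (13135, 12987), (13136, 12658), (13137, 12989), (13138, 13479), (13139, 12663), (13140, 13284), (13141, 13481), (13142, 12665), (13143, 12671), (13144, 13483), (13145, 12667), (13146, 13283), (13147, 12669), (13148, 13487), (13149, 13482), (13150, 13490), (13151, 12672), (13152, 12673), (13153, 13401), (13154, 13494), (13155, 12676), (13156, 13469), (13157, 13157), (13158, 13471), (13159, 12684), (13160, 12939), (13161, 12683), (13162, 13499), (13163, 12688), (13164, 13291), (13165, 12945), (13166, 13502), (13167, 12693), (13168, 13505), (13169, 12694), (13170, 13507), (13171, 13414), (13172, 12916), (13173, 12697), (13174,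 13509), (13175, 12699), (13176, 13474), (13177, 12701), (13178, 13205), (13179, 12964), (13180, 13244), (13181, 12715), (13182, 12732), (13183, 13514)]
    ⟨e3 q13120 (flp_f L204789) q12636, e3 q13121 (flp_f L204801) q12637, e3 q13122 L204821 q12679, e3 q13123 L204837 q12685, e3 q13124 L204851 q12646, e3 q13125 (flp_f L204853) q12643, e3 q13126 (flp_f L204865) q12644, e3 q13127 L204881 q13010, e3 q13128 (flp_f L204883) q12647, e3 q13129 L204901 q12703, e3 q13130 L204917 q12943, e3 q13131 L204933 q12706, e3 q13132 L204945 q12858, e3 q13133 L208369 q13475, e3 q13134 (flp_f L204958) q12656, e3 q13135 L204980 q12987, e3 q13136 (flp_f L204982) q12658, e3 q13137 L204996 q12989, e3 q13138 L208404 q13479, e3 q13139 (flp_f L205009) q12663, e3 q13140 (flp_f L206499) q13284, e3 q13141 L208428 q13481, e3 q13142 (flp_f L205046) q12665, e3 q13143 L205068 q12671, e3 q13144 L208454 q13483, e3 q13145 (flp_f L205079) q12667, e3 q13146 (flp_f L206483) q13283, e3 q13147 (flp_f L205101) q12669, e3 q13148 (flp_f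 L208489) q13487, e3 q13149 (flp_f L208452) q13482, e3 q13150 L208515 q13490, e3 q13151 (flp_f L205131) q12672, e3 q13152 (flp_f L205141) q12673, e3 q13153 (flp_f L207552) q13401, e3 q13154 L208544 q13494, e3 q13155 (flp_f L205162) q12676, e3 q13156 (flp_f L208308) q13469, e3 q13157 L205180 q13157, e3 q13158 (flp_f L208331) q13471, e3 q13159 L205199 q12684, e3 q13160 L205215 q12939, e3 q13161 L205227 q12683, e3 q13162 (flp_f L208597) q13499, e3 q13163 (flp_f L205243) q12688, e3 q13164 (flp_f L206544) q13291, e3 q13165 L205271 q12945, e3 q13166 L208627 q13502, e3 q13167 (flp_f L205285) q12693, e3 q13168 L208659 q13505, e3 q13169 (flp_f L205303) q12694, e3 q13170 (flp_f L208683) q13507, e3 q13171 (flp_f L207710) q13414, e3 q13172 L205337 q12916, e3 q13173 L205345 q12697, e3 q13174 L208699 q13509, e3 q13175 (flp_f L205357) q12699, e3 q13176 (flp_f L208367) q13474, e3 q13177 (flp_f L205373) q12701, e3 q13178 (flp_f L205655) q13205, e3 q13179 L205395 q12964, e3 q13180 (flp_f L206070) q13244, e3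 q13181 (flp_f L205419) q12715, e3 q13182 L205437 q12732, e3 q13183 L208744 q13514, trivial⟩ (by decide +kernel)

theorem ce_f_206 : ∀ r, r < 64 → sm gf (Qf (13184 + r)) = Qf (tab Gen.f (13184 + r)) :=
  edges_tab (sm gf) Qf (tab Gen.f) 13184 [(13184, 12719), (13185, 12900), (13186, 12721), (13187, 12903), (13188, 13518), (13189, 12724), (13190, 13243), (13191, 13520), (13192, 13521), (13193, 12727), (13194, 12728), (13195, 13360), (13196, 13196), (13197, 13513), (13198, 12818), (13199, 13526), (13200, 13527), (13201, 12736), (13202, 12737), (13203, 13262), (13204, 12740), (13205, 13178), (13206, 13062), (13207, 12995), (13208, 12751), (13209, 13378), (13210, 12755), (13211, 12781), (13212, 12783), (13213, 12761), (13214, 13536), (13215, 12764), (13216, 12933), (13217, 12766), (13218, 12938), (13219, 13541), (13220, 12770), (13221, 13224), (13222, 13543), (13223, 12772), (13224, 13221), (13225, 12774), (13226, 13419), (13227, 12777), (13228, 13549), (13229, 13429), (13230, 13230), (13231,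 13534), (13232, 13535), (13233, 12833), (13234, 12793), (13235, 13397), (13236, 12796), (13237, 13023), (13238, 13238), (13239, 13467), (13240, 12804), (13241, 12843), (13242, 12908), (13243, 13190), (13244, 13180), (13245, 13559), (13246, 13560), (13247, 12811)]
    ⟨e3 q13184 (flp_f L205450) q12719, e3 q13185 L205472 q12900, e3 q13186 (flp_f L205474) q12721, e3 q13187 L205492 q12903, e3 q13188 L208783 q13518, e3 q13189 (flp_f L205507) q12724, e3 q13190 (flp_f L206063) q13243, e3 q13191 L208809 q13520, e3 q13192 L208817 q13521, e3 q13193 (flp_f L205552) q12727, e3 q13194 (flp_f L205560) q12728, e3 q13195 (flp_f L207158) q13360, e3 q13196 L205572 q13196, e3 q13197 (flp_f L208742) q13513, e3 q13198 L205591 q12818, e3 q13199 L208852 q13526, e3 q13200 L208864 q13527, e3 q13201 (flp_f L205615) q12736, e3 q13202 (flp_f L205623) q12737, e3 q13203 (flp_f L206272) q13262, e3 q13204 (flp_f L205639) q12740, e3 q13205 L205655 q13178, e3 q13206 L205667 q13062, e3 q13207 L205685 q12995, e3 q13208 (flp_f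 L205687) q12751, e3 q13209 (flp_f L207329) q13378, e3 q13210 (flp_f L205705) q12755, e3 q13211 L205723 q12781, e3 q13212 L205733 q12783, e3 q13213 L205749 q12761, e3 q13214 L208954 q13536, e3 q13215 (flp_f L205762) q12764, e3 q13216 L205786 q12933, e3 q13217 (flp_f L205788) q12766, e3 q13218 L205804 q12938, e3 q13219 L209006 q13541, e3 q13220 (flp_f L205819) q12770, e3 q13221 (flp_f L205890) q13224, e3 q13222 L209034 q13543, e3 q13223 (flp_f L205862) q12772, e3 q13224 L205890 q13221, e3 q13225 (flp_f L205892) q12774, e3 q13226 (flp_f L207778) q13419, e3 q13227 (flp_f L205908) q12777, e3 q13228 (flp_f L209096) q13549, e3 q13229 (flp_f L207894) q13429, e3 q13230 L205937 q13230, e3 q13231 (flp_f L208938) q13534, e3 q13232 (flp_f L208950) q13535, e3 q13233 L205960 q12833, e3 q13234 (flp_f L205962) q12793, e3 q13235 (flp_f L207501) q13397, e3 q13236 (flp_f L205978) q12796, e3 q13237 L206006 q13023, e3 q13238 L206012 q13238, e3 q13239 (flp_f L208284) q13467, e3 q13240 (flp_f L206019) q12804, e3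 q13241 L206041 q12843, e3 q13242 L206051 q12908, e3 q13243 L206063 q13190, e3 q13244 L206070 q13180, e3 q13245 L209197 q13559, e3 q13246 L209209 q13560, e3 q13247 (flp_f L206105) q12811, trivial⟩ (by decide +kernel)

theorem ce_f_207 : ∀ r, r < 64 → sm gf (Qf (13248 + r)) = Qf (tab Gen.f (13248 + r)) :=
  edges_tab (sm gf) Qf (tab Gen.f) 13248 [(13248, 12968), (13249, 13562), (13250, 13563), (13251, 12814), (13252, 12815), (13253, 12973), (13254, 12819), (13255, 12981), (13256, 13031), (13257, 13568), (13258, 12824), (13259, 12913), (13260, 12826), (13261, 12827), (13262, 13203), (13263, 13572), (13264, 12831), (13265, 13357), (13266, 12834), (13267, 13358), (13268, 12841), (13269, 13270), (13270, 13269), (13271, 13556), (13272, 13576), (13273, 13577), (13274, 12845), (13275, 12924), (13276, 13579), (13277, 12847), (13278, 12848), (13279, 12928), (13280, 12929), (13281, 13583), (13282, 12853), (13283, 13146), (13284, 13140), (13285, 12856), (13286, 13423), (13287, 12859), (13288, 12992),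 (13289, 13289), (13290, 12994), (13291, 13164), (13292, 12999), (13293, 12873), (13294, 13295), (13295, 13294), (13296, 13426), (13297, 12878), (13298, 12955), (13299, 12958), (13300, 13081), (13301, 13007), (13302, 13011), (13303, 13593), (13304, 13594), (13305, 12897), (13306, 12898), (13307, 13599), (13308, 13515), (13309, 13309), (13310, 13517), (13311, 12902)]
    ⟨e3 q13248 L206131 q12968, e3 q13249 L209235 q13562, e3 q13250 L209243 q13563, e3 q13251 (flp_f L206154) q12814, e3 q13252 (flp_f L206162) q12815, e3 q13253 L206174 q12973, e3 q13254 (flp_f L206176) q12819, e3 q13255 L206192 q12981, e3 q13256 L206206 q13031, e3 q13257 L209286 q13568, e3 q13258 (flp_f L206220) q12824, e3 q13259 L206246 q12913, e3 q13260 (flp_f L206248) q12826, e3 q13261 (flp_f L206256) q12827, e3 q13262 L206272 q13203, e3 q13263 L209332 q13572, e3 q13264 (flp_f L206284) q12831, e3 q13265 (flp_f L207126) q13357, e3 q13266 (flp_f L206296) q12834, e3 q13267 (flp_f L207138) q13358, e3 q13268 L206322 q12841, e3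 q13269 (flp_f L206338) q13270, e3 q13270 L206338 q13269, e3 q13271 (flp_f L209168) q13556, e3 q13272 L209371 q13576, e3 q13273 L209385 q13577, e3 q13274 (flp_f L206371) q12845, e3 q13275 L206393 q12924, e3 q13276 L209409 q13579, e3 q13277 (flp_f L206406) q12847, e3 q13278 (flp_f L206418) q12848, e3 q13279 L206432 q12928, e3 q13280 L206448 q12929, e3 q13281 L209446 q13583, e3 q13282 (flp_f L206461) q12853, e3 q13283 L206483 q13146, e3 q13284 L206499 q13140, e3 q13285 (flp_f L206501) q12856, e3 q13286 (flp_f L207826) q13423, e3 q13287 (flp_f L206513) q12859, e3 q13288 L206527 q12992, e3 q13289 L206531 q13289, e3 q13290 L206536 q12994, e3 q13291 L206544 q13164, e3 q13292 L206552 q12999, e3 q13293 (flp_f L206554) q12873, e3 q13294 (flp_f L206598) q13295, e3 q13295 L206598 q13294, e3 q13296 (flp_f L207855) q13426, e3 q13297 (flp_f L206612) q12878, e3 q13298 L206630 q12955, e3 q13299 L206640 q12958, e3 q13300 L206654 q13081, e3 q13301 L206666 q13007, e3 q13302 L206678 q13011, e3 q13303 L209537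 q13593, e3 q13304 L209547 q13594, e3 q13305 (flp_f L206697) q12897, e3 q13306 (flp_f L206705) q12898, e3 q13307 (flp_f L209599) q13599, e3 q13308 (flp_f L208764) q13515, e3 q13309 L206732 q13309, e3 q13310 (flp_f L208781) q13517, e3 q13311 L206741 q12902, trivial⟩ (by decide +kernel)

theorem ce_f_208 : ∀ r, r < 64 → sm gf (Qf (13312 + r)) = Qf (tab Gen.f (13312 + r)) :=
  edges_tab (sm gf) Qf (tab Gen.f) 13312 [(13312, 13603), (13313, 13605), (13314, 13607), (13315, 12905), (13316, 12906), (13317, 13508), (13318, 13611), (13319, 13612), (13320, 12910), (13321, 12911), (13322, 13569), (13323, 12914), (13324, 13506), (13325, 13450), (13326, 12920), (13327, 13618), (13328, 12921), (13329, 12922), (13330, 13578), (13331, 13622), (13332, 12925), (13333, 13580), (13334, 13334), (13335, 13582), (13336, 13626), (13337, 12930), (13338, 12931), (13339, 13631), (13340, 13538), (13341, 12934), (13342, 13498), (13343, 13343), (13344, 13540), (13345, 12937), (13346, 13637), (13347, 13462), (13348, 12942),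 (13349, 13472), (13350, 12956), (13351, 12951), (13352, 13500), (13353, 13441), (13354, 13641), (13355, 12952), (13356, 13591), (13357, 13265), (13358, 13267), (13359, 12961), (13360, 13195), (13361, 13645), (13362, 13646), (13363, 12965), (13364, 12966), (13365, 13561), (13366, 13650), (13367, 12969), (13368, 12970), (13369, 13564), (13370, 13370), (13371, 13566), (13372, 12979), (13373, 12976), (13374, 13375), (13375, 13374)]
    ⟨e3 q13312 (flp_f L209626) q13603, e3 q13313 L209643 q13605, e3 q13314 L209668 q13607, e3 q13315 (flp_f L206767) q12905, e3 q13316 (flp_f L206775) q12906, e3 q13317 (flp_f L208693) q13508, e3 q13318 L209699 q13611, e3 q13319 L209715 q13612, e3 q13320 (flp_f L206819) q12910, e3 q13321 (flp_f L206831) q12911, e3 q13322 (flp_f L209310) q13569, e3 q13323 (flp_f L206853) q12914, e3 q13324 (flp_f L208677) q13506, e3 q13325 (flp_f L208126) q13450, e3 q13326 L206875 q12920, e3 q13327 L209778 q13618, e3 q13328 (flp_f L206886) q12921, e3 q13329 (flp_f L206894) q12922, e3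 q13330 (flp_f L209407) q13578, e3 q13331 L209809 q13622, e3 q13332 (flp_f L206921) q12925, e3 q13333 (flp_f L209431) q13580, e3 q13334 L206937 q13334, e3 q13335 (flp_f L209444) q13582, e3 q13336 L209836 q13626, e3 q13337 (flp_f L206951) q12930, e3 q13338 (flp_f L206959) q12931, e3 q13339 (flp_f L209886) q13631, e3 q13340 (flp_f L208987) q13538, e3 q13341 (flp_f L206978) q12934, e3 q13342 (flp_f L208583) q13498, e3 q13343 L206996 q13343, e3 q13344 (flp_f L209004) q13540, e3 q13345 L207007 q12937, e3 q13346 (flp_f L209928) q13637, e3 q13347 (flp_f L208240) q13462, e3 q13348 L207032 q12942, e3 q13349 (flp_f L208345) q13472, e3 q13350 L207050 q12956, e3 q13351 L207064 q12951, e3 q13352 (flp_f L208611) q13500, e3 q13353 (flp_f L208024) q13441, e3 q13354 (flp_f L209972) q13641, e3 q13355 (flp_f L207098) q12952, e3 q13356 (flp_f L209522) q13591, e3 q13357 L207126 q13265, e3 q13358 L207138 q13267, e3 q13359 (flp_f L207140) q12961, e3 q13360 L207158 q13195, e3 q13361 L210005 q13645, e3 q13362 L210015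 q13646, e3 q13363 (flp_f L207179) q12965, e3 q13364 (flp_f L207189) q12966, e3 q13365 (flp_f L209233) q13561, e3 q13366 L210050 q13650, e3 q13367 (flp_f L207216) q12969, e3 q13368 (flp_f L207224) q12970, e3 q13369 (flp_f L209261) q13564, e3 q13370 L207244 q13370, e3 q13371 (flp_f L209274) q13566, e3 q13372 L207261 q12979, e3 q13373 (flp_f L207263) q12976, e3 q13374 (flp_f L207297) q13375, e3 q13375 L207297 q13374, trivial⟩ (by decide +kernel)

theorem ce_f_209 : ∀ r, r < 64 → sm gf (Qf (13376 + r)) = Qf (tab Gen.f (13376 + r)) :=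
  edges_tab (sm gf) Qf (tab Gen.f) 13376 [(13376, 13567), (13377, 12982), (13378, 13209), (13379, 12985), (13380, 13476), (13381, 13381), (13382, 13478), (13383, 13383), (13384, 13588), (13385, 12991), (13386, 13664), (13387, 13388), (13388, 13387), (13389, 13002), (13390, 13666), (13391, 13412), (13392, 13434), (13393, 13005), (13394, 13519), (13395, 13473), (13396, 13014), (13397, 13235), (13398, 13670), (13399, 13017), (13400, 13018), (13401, 13153), (13402, 13402), (13403, 13554), (13404, 13022), (13405, 13677), (13406, 13024), (13407, 13025), (13408, 13108), (13409, 13028), (13410, 13029), (13411, 13683), (13412, 13391), (13413, 13032), (13414, 13171), (13415, 13037), (13416, 13054), (13417, 13102), (13418, 13045), (13419, 13226), (13420, 13048), (13421, 13075), (13422, 13051), (13423, 13286), (13424, 13424), (13425, 13686), (13426, 13296), (13427, 13069), (13428, 13696), (13429, 13229), (13430, 13072), (13431, 13480), (13432, 13432), (13433, 13690), (13434, 13392), (13435, 13078),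 (13436, 13590), (13437, 13082), (13438, 13112), (13439, 13439)]
    ⟨e3 q13376 (flp_f L209284) q13567, e3 q13377 (flp_f L207305) q12982, e3 q13378 L207329 q13209, e3 q13379 (flp_f L207331) q12985, e3 q13380 (flp_f L208389) q13476, e3 q13381 L207351 q13381, e3 q13382 (flp_f L208402) q13478, e3 q13383 L207360 q13383, e3 q13384 (flp_f L209490) q13588, e3 q13385 L207369 q12991, e3 q13386 L210168 q13664, e3 q13387 (flp_f L207405) q13388, e3 q13388 L207405 q13387, e3 q13389 (flp_f L207407) q13002, e3 q13390 (flp_f L210191) q13666, e3 q13391 (flp_f L207684) q13412, e3 q13392 (flp_f L207945) q13434, e3 q13393 L207457 q13005, e3 q13394 (flp_f L208807) q13519, e3 q13395 (flp_f L208353) q13473, e3 q13396 (flp_f L207473) q13014, e3 q13397 L207501 q13235, e3 q13398 L210234 q13670, e3 q13399 (flp_f L207516) q13017, e3 q13400 (flp_f L207530) q13018, e3 q13401 L207552 q13153, e3 q13402 L207560 q13402, e3 q13403 (flp_f L209148) q13554, e3 q13404 L207573 q13022, e3 q13405 L210316 q13677, e3 q13406 (flp_f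 L207590) q13024, e3 q13407 (flp_f L207604) q13025, e3 q13408 L207628 q13108, e3 q13409 (flp_f L207630) q13028, e3 q13410 (flp_f L207644) q13029, e3 q13411 (flp_f L210411) q13683, e3 q13412 L207684 q13391, e3 q13413 (flp_f L207686) q13032, e3 q13414 L207710 q13171, e3 q13415 (flp_f L207712) q13037, e3 q13416 L207740 q13054, e3 q13417 L207752 q13102, e3 q13418 (flp_f L207756) q13045, e3 q13419 L207778 q13226, e3 q13420 (flp_f L207780) q13048, e3 q13421 L207802 q13075, e3 q13422 (flp_f L207804) q13051, e3 q13423 L207826 q13286, e3 q13424 L207834 q13424, e3 q13425 (flp_f L210464) q13686, e3 q13426 L207855 q13296, e3 q13427 (flp_f L207857) q13069, e3 q13428 (flp_f L210574) q13696, e3 q13429 L207894 q13229, e3 q13430 (flp_f L207896) q13072, e3 q13431 (flp_f L208426) q13480, e3 q13432 L207924 q13432, e3 q13433 (flp_f L210512) q13690, e3 q13434 L207945 q13392, e3 q13435 L207955 q13078, e3 q13436 (flp_f L209512) q13590, e3 q13437 (flp_f L207971) q13082, e3 q13438 L207993 q13112, e3 q13439 L208001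 q13439, trivial⟩ (by decide +kernel)

theorem ce_f_210 : ∀ r, r < 64 → sm gf (Qf (13440 + r)) = Qf (tab Gen.f (13440 + r)) :=
  edges_tab (sm gf) Qf (tab Gen.f) 13440 [(13440, 13114), (13441, 13353), (13442, 13091), (13443, 13447), (13444, 13706), (13445, 13095), (13446, 13096), (13447, 13443), (13448, 13710), (13449, 13099), (13450, 13325), (13451, 13451), (13452, 13676), (13453, 13714), (13454, 13103), (13455, 13104), (13456, 13718), (13457, 13678), (13458, 13458), (13459, 13680), (13460, 13107), (13461, 13109), (13462, 13347), (13463, 13463), (13464, 13702), (13465, 13725), (13466, 13466), (13467, 13239), (13468, 13119), (13469, 13156), (13470, 13470), (13471, 13158), (13472, 13349), (13473, 13395), (13474, 13176), (13475, 13133), (13476, 13380), (13477, 13477), (13478, 13382), (13479, 13138), (13480, 13431), (13481, 13141), (13482, 13149), (13483, 13144), (13484, 13584), (13485, 13485), (13486, 13736), (13487, 13148), (13488, 13742), (13489, 13743), (13490, 13150), (13491, 13671), (13492,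 13492), (13493, 13673), (13494, 13154), (13495, 13495), (13496, 13728), (13497, 13750), (13498, 13342), (13499, 13162), (13500, 13352), (13501, 13752), (13502, 13166), (13503, 13754)]
    ⟨e3 q13440 L208008 q13114, e3 q13441 L208024 q13353, e3 q13442 (flp_f L208026) q13091, e3 q13443 (flp_f L208091) q13447, e3 q13444 L210673 q13706, e3 q13445 (flp_f L208057) q13095, e3 q13446 (flp_f L208071) q13096, e3 q13447 L208091 q13443, e3 q13448 L210724 q13710, e3 q13449 (flp_f L208104) q13099, e3 q13450 L208126 q13325, e3 q13451 L208132 q13451, e3 q13452 (flp_f L210310) q13676, e3 q13453 L210763 q13714, e3 q13454 (flp_f L208150) q13103, e3 q13455 (flp_f L208164) q13104, e3 q13456 (flp_f L210810) q13718, e3 q13457 (flp_f L210342) q13678, e3 q13458 L208197 q13458, e3 q13459 (flp_f L210369) q13680, e3 q13460 L208210 q13107, e3 q13461 (flp_f L208216) q13109, e3 q13462 L208240 q13347, e3 q13463 L208248 q13463, e3 q13464 (flp_f L210644) q13702, e3 q13465 L210882 q13725, e3 q13466 L208273 q13466, e3 q13467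 L208284 q13239, e3 q13468 (flp_f L208286) q13119, e3 q13469 L208308 q13156, e3 q13470 L208320 q13470, e3 q13471 L208331 q13158, e3 q13472 L208345 q13349, e3 q13473 L208353 q13395, e3 q13474 L208367 q13176, e3 q13475 (flp_f L208369) q13133, e3 q13476 L208389 q13380, e3 q13477 L208395 q13477, e3 q13478 L208402 q13382, e3 q13479 (flp_f L208404) q13138, e3 q13480 L208426 q13431, e3 q13481 (flp_f L208428) q13141, e3 q13482 L208452 q13149, e3 q13483 (flp_f L208454) q13144, e3 q13484 (flp_f L209468) q13584, e3 q13485 L208478 q13485, e3 q13486 (flp_f L211009) q13736, e3 q13487 L208489 q13148, e3 q13488 (flp_f L211069) q13742, e3 q13489 L211071 q13743, e3 q13490 (flp_f L208515) q13150, e3 q13491 (flp_f L210260) q13671, e3 q13492 L208537 q13492, e3 q13493 (flp_f L210283) q13673, e3 q13494 (flp_f L208544) q13154, e3 q13495 L208560 q13495, e3 q13496 (flp_f L210920) q13728, e3 q13497 L211131 q13750, e3 q13498 L208583 q13342, e3 q13499 L208597 q13162, e3 q13500 L208611 q13352, e3 q13501 L211150 q13752,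 e3 q13502 (flp_f L208627) q13166, e3 q13503 (flp_f L211184) q13754, trivial⟩ (by decide +kernel)

theorem ce_f_211 : ∀ r, r < 64 → sm gf (Qf (13504 + r)) = Qf (tab Gen.f (13504 + r)) :=
  edges_tab (sm gf) Qf (tab Gen.f) 13504 [(13504, 13684), (13505, 13168), (13506, 13324), (13507, 13170), (13508, 13317), (13509, 13174), (13510, 13530), (13511, 13522), (13512, 13512), (13513, 13197), (13514, 13183), (13515, 13308), (13516, 13516), (13517, 13310), (13518, 13188), (13519, 13394), (13520, 13191), (13521, 13192), (13522, 13511), (13523, 13523), (13524, 13644), (13525, 13768), (13526, 13199), (13527, 13200), (13528, 13570), (13529, 13571), (13530, 13510), (13531, 13531), (13532, 13657), (13533, 13533), (13534, 13231), (13535, 13232), (13536, 13214), (13537, 13775), (13538, 13340), (13539, 13539), (13540, 13344), (13541, 13219), (13542, 13544), (13543, 13222), (13544, 13542), (13545, 13545), (13546, 13688), (13547, 13547), (13548, 13695), (13549, 13228), (13550, 13785), (13551, 13551), (13552,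 13669), (13553, 13553), (13554, 13403), (13555, 13788), (13556, 13271), (13557, 13789), (13558, 13790), (13559, 13245), (13560, 13246), (13561, 13365), (13562, 13249), (13563, 13250), (13564, 13369), (13565, 13565), (13566, 13371), (13567, 13376)]
    ⟨e3 q13504 (flp_f L210433) q13684, e3 q13505 (flp_f L208659) q13168, e3 q13506 L208677 q13324, e3 q13507 L208683 q13170, e3 q13508 L208693 q13317, e3 q13509 (flp_f L208699) q13174, e3 q13510 (flp_f L208902) q13530, e3 q13511 (flp_f L208835) q13522, e3 q13512 L208733 q13512, e3 q13513 L208742 q13197, e3 q13514 (flp_f L208744) q13183, e3 q13515 L208764 q13308, e3 q13516 L208772 q13516, e3 q13517 L208781 q13310, e3 q13518 (flp_f L208783) q13188, e3 q13519 L208807 q13394, e3 q13520 (flp_f L208809) q13191, e3 q13521 (flp_f L208817) q13192, e3 q13522 L208835 q13511, e3 q13523 L208841 q13523, e3 q13524 (flp_f L210003) q13644, e3 q13525 L211323 q13768, e3 q13526 (flp_f L208852) q13199, e3 q13527 (flp_f L208864) q13200, e3 q13528 (flp_f L209320) q13570,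 e3 q13529 (flp_f L209330) q13571, e3 q13530 L208902 q13510, e3 q13531 L208912 q13531, e3 q13532 (flp_f L210128) q13657, e3 q13533 L208929 q13533, e3 q13534 L208938 q13231, e3 q13535 L208950 q13232, e3 q13536 (flp_f L208954) q13214, e3 q13537 (flp_f L211399) q13775, e3 q13538 L208987 q13340, e3 q13539 L208995 q13539, e3 q13540 L209004 q13344, e3 q13541 (flp_f L209006) q13219, e3 q13542 (flp_f L209062) q13544, e3 q13543 (flp_f L209034) q13222, e3 q13544 L209062 q13542, e3 q13545 L209070 q13545, e3 q13546 (flp_f L210487) q13688, e3 q13547 L209083 q13547, e3 q13548 (flp_f L210566) q13695, e3 q13549 L209096 q13228, e3 q13550 L211502 q13785, e3 q13551 L209112 q13551, e3 q13552 (flp_f L210232) q13669, e3 q13553 L209133 q13553, e3 q13554 L209148 q13403, e3 q13555 L211531 q13788, e3 q13556 L209168 q13271, e3 q13557 L211536 q13789, e3 q13558 L211550 q13790, e3 q13559 (flp_f L209197) q13245, e3 q13560 (flp_f L209209) q13246, e3 q13561 L209233 q13365, e3 q13562 (flp_f L209235) q13249, e3 q13563 (flp_f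 L209243) q13250, e3 q13564 L209261 q13369, e3 q13565 L209267 q13565, e3 q13566 L209274 q13371, e3 q13567 L209284 q13376, trivial⟩ (by decide +kernel)

theorem ce_f_212 : ∀ r, r < 64 → sm gf (Qf (13568 + r)) = Qf (tab Gen.f (13568 + r)) :=
  edges_tab (sm gf) Qf (tab Gen.f) 13568 [(13568, 13257), (13569, 13322), (13570, 13528), (13571, 13529), (13572, 13263), (13573, 13642), (13574, 13639), (13575, 13800), (13576, 13272), (13577, 13273), (13578, 13330), (13579, 13276), (13580, 13333), (13581, 13581), (13582, 13335), (13583, 13281), (13584, 13484), (13585, 13585), (13586, 13692), (13587, 13587), (13588, 13384), (13589, 13811), (13590, 13436), (13591, 13356), (13592, 13812), (13593, 13303), (13594, 13304), (13595, 13816), (13596, 13755), (13597, 13597), (13598, 13760), (13599, 13307), (13600, 13820), (13601, 13601), (13602, 13712), (13603, 13312), (13604, 13824), (13605, 13313), (13606, 13826), (13607, 13314), (13608, 13756), (13609, 13609), (13610, 13721), (13611, 13318), (13612, 13319), (13613,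 13798), (13614, 13655), (13615, 13753), (13616, 13707), (13617, 13832), (13618, 13327), (13619, 13801), (13620, 13620), (13621, 13803), (13622, 13331), (13623, 13623), (13624, 13805), (13625, 13839), (13626, 13336), (13627, 13842), (13628, 13751), (13629, 13629), (13630, 13774), (13631, 13339)]
    ⟨e3 q13568 (flp_f L209286) q13257, e3 q13569 L209310 q13322, e3 q13570 L209320 q13528, e3 q13571 L209330 q13529, e3 q13572 (flp_f L209332) q13263, e3 q13573 (flp_f L209984) q13642, e3 q13574 (flp_f L209944) q13639, e3 q13575 L211666 q13800, e3 q13576 (flp_f L209371) q13272, e3 q13577 (flp_f L209385) q13273, e3 q13578 L209407 q13330, e3 q13579 (flp_f L209409) q13276, e3 q13580 L209431 q13333, e3 q13581 L209437 q13581, e3 q13582 L209444 q13335, e3 q13583 (flp_f L209446) q13281, e3 q13584 L209468 q13484, e3 q13585 L209474 q13585, e3 q13586 (flp_f L210535) q13692, e3 q13587 L209483 q13587, e3 q13588 L209490 q13384, e3 q13589 L211783 q13811, e3 q13590 L209512 q13436, e3 q13591 L209522 q13356, e3 q13592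 L211788 q13812, e3 q13593 (flp_f L209537) q13303, e3 q13594 (flp_f L209547) q13304, e3 q13595 (flp_f L211835) q13816, e3 q13596 (flp_f L211198) q13755, e3 q13597 L209584 q13597, e3 q13598 (flp_f L211249) q13760, e3 q13599 L209599 q13307, e3 q13600 L211868 q13820, e3 q13601 L209613 q13601, e3 q13602 (flp_f L210755) q13712, e3 q13603 L209626 q13312, e3 q13604 L211898 q13824, e3 q13605 (flp_f L209643) q13313, e3 q13606 L211922 q13826, e3 q13607 (flp_f L209668) q13314, e3 q13608 (flp_f L211204) q13756, e3 q13609 L209690 q13609, e3 q13610 (flp_f L210839) q13721, e3 q13611 (flp_f L209699) q13318, e3 q13612 (flp_f L209715) q13319, e3 q13613 (flp_f L211654) q13798, e3 q13614 (flp_f L210101) q13655, e3 q13615 (flp_f L211174) q13753, e3 q13616 (flp_f L210699) q13707, e3 q13617 L211989 q13832, e3 q13618 (flp_f L209778) q13327, e3 q13619 (flp_f L211692) q13801, e3 q13620 L209800 q13620, e3 q13621 (flp_f L211717) q13803, e3 q13622 (flp_f L209809) q13331, e3 q13623 L209823 q13623, e3 q13624 (flp_f L211740)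 q13805, e3 q13625 L212051 q13839, e3 q13626 (flp_f L209836) q13336, e3 q13627 (flp_f L212079) q13842, e3 q13628 (flp_f L211144) q13751, e3 q13629 L209873 q13629, e3 q13630 (flp_f L211391) q13774, e3 q13631 L209886 q13339, trivial⟩ (by decide +kernel)

theorem ce_f_213 : ∀ r, r < 64 → sm gf (Qf (13632 + r)) = Qf (tab Gen.f (13632 + r)) :=
  edges_tab (sm gf) Qf (tab Gen.f) 13632 [(13632, 13632), (13633, 13741), (13634, 13847), (13635, 13635), (13636, 13723), (13637, 13346), (13638, 13715), (13639, 13574), (13640, 13681), (13641, 13354), (13642, 13573), (13643, 13643), (13644, 13524), (13645, 13361), (13646, 13362), (13647, 13791), (13648, 13648), (13649, 13793), (13650, 13366), (13651, 13794), (13652, 13652), (13653, 13796), (13654, 13860), (13655, 13614), (13656, 13656), (13657, 13532), (13658, 13658), (13659, 13731), (13660, 13863), (13661, 13864), (13662, 13662), (13663, 13763), (13664, 13386), (13665, 13682), (13666, 13390), (13667, 13700), (13668, 13668), (13669, 13552), (13670, 13398),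 (13671, 13491), (13672, 13672), (13673, 13493), (13674, 13871), (13675, 13675), (13676, 13452), (13677, 13405), (13678, 13457), (13679, 13679), (13680, 13459), (13681, 13640), (13682, 13665), (13683, 13411), (13684, 13504), (13685, 13685), (13686, 13425), (13687, 13687), (13688, 13546), (13689, 13689), (13690, 13433), (13691, 13691), (13692, 13586), (13693, 13881), (13694, 13694), (13695, 13548)]
    ⟨e3 q13632 L209892 q13632, e3 q13633 (flp_f L211055) q13741, e3 q13634 L212114 q13847, e3 q13635 L209911 q13635, e3 q13636 (flp_f L210872) q13723, e3 q13637 L209928 q13346, e3 q13638 (flp_f L210789) q13715, e3 q13639 L209944 q13574, e3 q13640 (flp_f L210385) q13681, e3 q13641 L209972 q13354, e3 q13642 L209984 q13573, e3 q13643 L209994 q13643, e3 q13644 L210003 q13524, e3 q13645 (flp_f L210005) q13361, e3 q13646 (flp_f L210015) q13362, e3 q13647 (flp_f L211574) q13791, e3 q13648 L210041 q13648, e3 q13649 (flp_f L211601) q13793, e3 q13650 (flp_f L210050) q13366, e3 q13651 (flp_f L211611) q13794,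 e3 q13652 L210074 q13652, e3 q13653 (flp_f L211634) q13796, e3 q13654 L212236 q13860, e3 q13655 L210101 q13614, e3 q13656 L210115 q13656, e3 q13657 L210128 q13532, e3 q13658 L210136 q13658, e3 q13659 (flp_f L210953) q13731, e3 q13660 L212263 q13863, e3 q13661 L212268 q13864, e3 q13662 L210159 q13662, e3 q13663 (flp_f L211284) q13763, e3 q13664 (flp_f L210168) q13386, e3 q13665 (flp_f L210399) q13682, e3 q13666 L210191 q13390, e3 q13667 (flp_f L210617) q13700, e3 q13668 L210217 q13668, e3 q13669 L210232 q13552, e3 q13670 (flp_f L210234) q13398, e3 q13671 L210260 q13491, e3 q13672 L210272 q13672, e3 q13673 L210283 q13493, e3 q13674 L212346 q13871, e3 q13675 L210301 q13675, e3 q13676 L210310 q13452, e3 q13677 (flp_f L210316) q13405, e3 q13678 L210342 q13457, e3 q13679 L210356 q13679, e3 q13680 L210369 q13459, e3 q13681 L210385 q13640, e3 q13682 L210399 q13665, e3 q13683 L210411 q13411, e3 q13684 L210433 q13504, e3 q13685 L210449 q13685, e3 q13686 L210464 q13425, e3 q13687 L210476 q13687, e3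 q13688 L210487 q13546, e3 q13689 L210499 q13689, e3 q13690 L210512 q13433, e3 q13691 L210524 q13691, e3 q13692 L210535 q13586, e3 q13693 L212476 q13881, e3 q13694 L210555 q13694, e3 q13695 L210566 q13548, trivial⟩ (by decide +kernel)

theorem ce_f_214 : ∀ r, r < 64 → sm gf (Qf (13696 + r)) = Qf (tab Gen.f (13696 + r)) :=
  edges_tab (sm gf) Qf (tab Gen.f) 13696 [(13696, 13428), (13697, 13697), (13698, 13734), (13699, 13886), (13700, 13667), (13701, 13701), (13702, 13464), (13703, 13888), (13704, 13704), (13705, 13709), (13706, 13444), (13707, 13616), (13708, 13708), (13709, 13705), (13710, 13448), (13711, 13711), (13712, 13602), (13713, 13896), (13714, 13453), (13715, 13638), (13716, 13716), (13717, 13874), (13718, 13456), (13719, 13902), (13720, 13720), (13721, 13610), (13722, 13722), (13723, 13636), (13724, 13905), (13725, 13465), (13726, 13906), (13727, 13727), (13728, 13496), (13729, 13908), (13730, 13730), (13731, 13659), (13732, 13910), (13733, 13733), (13734, 13698), (13735, 13735),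 (13736, 13486), (13737, 13737), (13738, 13808), (13739, 13914), (13740, 13740), (13741, 13633), (13742, 13488), (13743, 13489), (13744, 13744), (13745, 13869), (13746, 13921), (13747, 13747), (13748, 13766), (13749, 13923), (13750, 13497), (13751, 13628), (13752, 13501), (13753, 13615), (13754, 13503), (13755, 13596), (13756, 13608), (13757, 13764), (13758, 13926), (13759, 13759)]
    ⟨e3 q13696 L210574 q13428, e3 q13697 L210590 q13697, e3 q13698 (flp_f L210982) q13734, e3 q13699 L212534 q13886, e3 q13700 L210617 q13667, e3 q13701 L210633 q13701, e3 q13702 L210644 q13464, e3 q13703 L212553 q13888, e3 q13704 L210662 q13704, e3 q13705 (flp_f L210722) q13709, e3 q13706 (flp_f L210673) q13444, e3 q13707 L210699 q13616, e3 q13708 L210711 q13708, e3 q13709 L210722 q13705, e3 q13710 (flp_f L210724) q13448, e3 q13711 L210744 q13711, e3 q13712 L210755 q13602, e3 q13713 L212646 q13896, e3 q13714 (flp_f L210763) q13453, e3 q13715 L210789 q13638, e3 q13716 L210797 q13716, e3 q13717 (flp_f L212390) q13874,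 e3 q13718 L210810 q13456, e3 q13719 L212707 q13902, e3 q13720 L210830 q13720, e3 q13721 L210839 q13610, e3 q13722 L210859 q13722, e3 q13723 L210872 q13636, e3 q13724 L212738 q13905, e3 q13725 (flp_f L210882) q13465, e3 q13726 L212745 q13906, e3 q13727 L210909 q13727, e3 q13728 L210920 q13496, e3 q13729 L212770 q13908, e3 q13730 L210942 q13730, e3 q13731 L210953 q13659, e3 q13732 L212793 q13910, e3 q13733 L210971 q13733, e3 q13734 L210982 q13698, e3 q13735 L210996 q13735, e3 q13736 L211009 q13486, e3 q13737 L211021 q13737, e3 q13738 (flp_f L211769) q13808, e3 q13739 L212838 q13914, e3 q13740 L211046 q13740, e3 q13741 L211055 q13633, e3 q13742 L211069 q13488, e3 q13743 (flp_f L211071) q13489, e3 q13744 L211087 q13744, e3 q13745 (flp_f L212332) q13869, e3 q13746 L212909 q13921, e3 q13747 L211112 q13747, e3 q13748 (flp_f L211315) q13766, e3 q13749 L212926 q13923, e3 q13750 (flp_f L211131) q13497, e3 q13751 L211144 q13628, e3 q13752 (flp_f L211150) q13501, e3 q13753 L211174 q13615, e3 q13754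 L211184 q13503, e3 q13755 L211198 q13596, e3 q13756 L211204 q13608, e3 q13757 (flp_f L211294) q13764, e3 q13758 L212963 q13926, e3 q13759 L211238 q13759, trivial⟩ (by decide +kernel)

theorem ce_f_215 : ∀ r, r < 64 → sm gf (Qf (13760 + r)) = Qf (tab Gen.f (13760 + r)) :=
  edges_tab (sm gf) Qf (tab Gen.f) 13760 [(13760, 13598), (13761, 13928), (13762, 13762), (13763, 13663), (13764, 13757), (13765, 13765), (13766, 13748), (13767, 13931), (13768, 13525), (13769, 13770), (13770, 13769), (13771, 13932), (13772, 13933), (13773, 13773), (13774, 13630), (13775, 13537), (13776, 13937), (13777, 13777), (13778, 13780), (13779, 13779), (13780, 13778), (13781, 13940), (13782, 13941), (13783, 13783), (13784, 13884), (13785, 13550), (13786, 13943), (13787, 13944), (13788, 13555), (13789, 13557), (13790, 13558), (13791, 13647), (13792, 13792), (13793, 13649), (13794, 13651), (13795, 13795), (13796, 13653), (13797, 13950), (13798, 13613), (13799, 13851), (13800, 13575), (13801, 13619), (13802, 13802),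 (13803, 13621), (13804, 13804), (13805, 13624), (13806, 13955), (13807, 13807), (13808, 13738), (13809, 13957), (13810, 13958), (13811, 13589), (13812, 13592), (13813, 13924), (13814, 13814), (13815, 13919), (13816, 13595), (13817, 13964), (13818, 13818), (13819, 13894), (13820, 13600), (13821, 13966), (13822, 13822), (13823, 13891)]
    ⟨e3 q13760 L211249 q13598, e3 q13761 L212984 q13928, e3 q13762 L211271 q13762, e3 q13763 L211284 q13663, e3 q13764 L211294 q13757, e3 q13765 L211304 q13765, e3 q13766 L211315 q13748, e3 q13767 L213017 q13931, e3 q13768 (flp_f L211323) q13525, e3 q13769 (flp_f L211350) q13770, e3 q13770 L211350 q13769, e3 q13771 L213022 q13932, e3 q13772 L213031 q13933, e3 q13773 L211380 q13773, e3 q13774 L211391 q13630, e3 q13775 L211399 q13537, e3 q13776 L213075 q13937, e3 q13777 L211425 q13777, e3 q13778 (flp_f L211469) q13780, e3 q13779 L211454 q13779, e3 q13780 L211469 q13778, e3 q13781 L213116 q13940, e3 q13782 L213123 q13941, e3 q13783 L211493 q13783, e3 q13784 (flp_f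 L212514) q13884, e3 q13785 (flp_f L211502) q13550, e3 q13786 L213138 q13943, e3 q13787 L213145 q13944, e3 q13788 (flp_f L211531) q13555, e3 q13789 (flp_f L211536) q13557, e3 q13790 (flp_f L211550) q13558, e3 q13791 L211574 q13647, e3 q13792 L211588 q13792, e3 q13793 L211601 q13649, e3 q13794 L211611 q13651, e3 q13795 L211623 q13795, e3 q13796 L211634 q13653, e3 q13797 L213231 q13950, e3 q13798 L211654 q13613, e3 q13799 (flp_f L212156) q13851, e3 q13800 (flp_f L211666) q13575, e3 q13801 L211692 q13619, e3 q13802 L211704 q13802, e3 q13803 L211717 q13621, e3 q13804 L211729 q13804, e3 q13805 L211740 q13624, e3 q13806 L213289 q13955, e3 q13807 L211758 q13807, e3 q13808 L211769 q13738, e3 q13809 L213308 q13957, e3 q13810 L213313 q13958, e3 q13811 (flp_f L211783) q13589, e3 q13812 (flp_f L211788) q13592, e3 q13813 (flp_f L212947) q13924, e3 q13814 L211818 q13814, e3 q13815 (flp_f L212899) q13919, e3 q13816 L211835 q13595, e3 q13817 L213384 q13964, e3 q13818 L211857 q13818, e3 q13819 (flp_f L212632)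 q13894, e3 q13820 (flp_f L211868) q13600, e3 q13821 (flp_f L213403) q13966, e3 q13822 L211885 q13822, e3 q13823 (flp_f L212597) q13891, trivial⟩ (by decide +kernel)

theorem ce_f_216 : ∀ r, r < 64 → sm gf (Qf (13824 + r)) = Qf (tab Gen.f (13824 + r)) :=
  edges_tab (sm gf) Qf (tab Gen.f) 13824 [(13824, 13604), (13825, 13925), (13826, 13606), (13827, 13827), (13828, 13901), (13829, 13973), (13830, 13831), (13831, 13830), (13832, 13617), (13833, 13833), (13834, 13952), (13835, 13977), (13836, 13836), (13837, 13858), (13838, 13979), (13839, 13625), (13840, 13840), (13841, 13917), (13842, 13627), (13843, 13983), (13844, 13844), (13845, 13936), (13846, 13985), (13847, 13634), (13848, 13986), (13849, 13849), (13850, 13898), (13851, 13799), (13852, 13988), (13853, 13945), (13854, 13854), (13855, 13947), (13856, 13990), (13857, 13857), (13858, 13837), (13859, 13992), (13860, 13654), (13861, 13993), (13862, 13994), (13863, 13660), (13864, 13661), (13865, 13995), (13866, 13876), (13867, 13996), (13868,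 13868), (13869, 13745), (13870, 13998), (13871, 13674), (13872, 13999), (13873, 13873), (13874, 13717), (13875, 14001), (13876, 13866), (13877, 14002), (13878, 14003), (13879, 14004), (13880, 14005), (13881, 13693), (13882, 14006), (13883, 13883), (13884, 13784), (13885, 14008), (13886, 13699), (13887, 14009)]
    ⟨e3 q13824 (flp_f L211898) q13604, e3 q13825 (flp_f L212957) q13925, e3 q13826 (flp_f L211922) q13606, e3 q13827 L211942 q13827, e3 q13828 (flp_f L212699) q13901, e3 q13829 L213482 q13973, e3 q13830 (flp_f L211987) q13831, e3 q13831 L211987 q13830, e3 q13832 (flp_f L211989) q13617, e3 q13833 L212009 q13833, e3 q13834 (flp_f L213263) q13952, e3 q13835 L213528 q13977, e3 q13836 L212034 q13836, e3 q13837 (flp_f L212226) q13858, e3 q13838 L213545 q13979, e3 q13839 (flp_f L212051) q13625, e3 q13840 L212062 q13840, e3 q13841 (flp_f L212874) q13917, e3 q13842 L212079 q13627, e3 q13843 L213589 q13983, e3 q13844 L212099 q13844, e3 q13845 (flp_f L213069) q13936, e3 q13846 L213606 q13985,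 e3 q13847 (flp_f L212114) q13634, e3 q13848 (flp_f L213615) q13986, e3 q13849 L212135 q13849, e3 q13850 (flp_f L212676) q13898, e3 q13851 L212156 q13799, e3 q13852 L213628 q13988, e3 q13853 (flp_f L213176) q13945, e3 q13854 L212188 q13854, e3 q13855 (flp_f L213203) q13947, e3 q13856 L213649 q13990, e3 q13857 L212215 q13857, e3 q13858 L212226 q13837, e3 q13859 L213666 q13992, e3 q13860 (flp_f L212236) q13654, e3 q13861 L213673 q13993, e3 q13862 L213688 q13994, e3 q13863 (flp_f L212263) q13660, e3 q13864 (flp_f L212268) q13661, e3 q13865 (flp_f L213697) q13995, e3 q13866 (flp_f L212416) q13876, e3 q13867 L213702 q13996, e3 q13868 L212319 q13868, e3 q13869 L212332 q13745, e3 q13870 L213733 q13998, e3 q13871 (flp_f L212346) q13674, e3 q13872 (flp_f L213754) q13999, e3 q13873 L212377 q13873, e3 q13874 L212390 q13717, e3 q13875 L213773 q14001, e3 q13876 L212416 q13866, e3 q13877 L213788 q14002, e3 q13878 L213805 q14003, e3 q13879 L213818 q14004, e3 q13880 L213831 q14005, e3 q13881 (flp_f L212476)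 q13693, e3 q13882 L213844 q14006, e3 q13883 L212503 q13883, e3 q13884 L212514 q13784, e3 q13885 L213871 q14008, e3 q13886 (flp_f L212534) q13699, e3 q13887 L213882 q14009, trivial⟩ (by decide +kernel)

theorem ce_f_217 : ∀ r, r < 64 → sm gf (Qf (13888 + r)) = Qf (tab Gen.f (13888 + r)) :=
  edges_tab (sm gf) Qf (tab Gen.f) 13888 [(13888, 13703), (13889, 14010), (13890, 13890), (13891, 13823), (13892, 14012), (13893, 13893), (13894, 13819), (13895, 14014), (13896, 13713), (13897, 13897), (13898, 13850), (13899, 14016), (13900, 13900), (13901, 13828), (13902, 13719), (13903, 14018), (13904, 14019), (13905, 13724), (13906, 13726), (13907, 14020), (13908, 13729), (13909, 14021), (13910, 13732), (13911, 14022), (13912, 14023), (13913, 14024), (13914, 13739), (13915, 14025), (13916, 13916), (13917, 13841), (13918, 13918), (13919, 13815), (13920, 14028), (13921, 13746), (13922, 14029), (13923, 13749), (13924, 13813), (13925, 13825), (13926, 13758), (13927, 14030), (13928, 13761), (13929, 14031),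 (13930, 14032), (13931, 13767), (13932, 13771), (13933, 13772), (13934, 14033), (13935, 13935), (13936, 13845), (13937, 13776), (13938, 14035), (13939, 14036), (13940, 13781), (13941, 13782), (13942, 14037), (13943, 13786), (13944, 13787), (13945, 13853), (13946, 13946), (13947, 13855), (13948, 14039), (13949, 14040), (13950, 13797), (13951, 13951)]
    ⟨e3 q13888 (flp_f L212553) q13703, e3 q13889 L213895 q14010, e3 q13890 L212584 q13890, e3 q13891 L212597 q13823, e3 q13892 L213918 q14012, e3 q13893 L212621 q13893, e3 q13894 L212632 q13819, e3 q13895 L213943 q14014, e3 q13896 (flp_f L212646) q13713, e3 q13897 L212663 q13897, e3 q13898 L212676 q13850, e3 q13899 L213970 q14016, e3 q13900 L212692 q13900, e3 q13901 L212699 q13828, e3 q13902 (flp_f L212707) q13719, e3 q13903 (flp_f L213995) q14018, e3 q13904 L214000 q14019, e3 q13905 (flp_f L212738) q13724, e3 q13906 (flp_f L212745) q13726, e3 q13907 L214015 q14020, e3 q13908 (flp_f L212770) q13729, e3 q13909 L214028 q14021, e3 q13910 (flp_f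 L212793) q13732, e3 q13911 L214039 q14022, e3 q13912 L214052 q14023, e3 q13913 L214067 q14024, e3 q13914 (flp_f L212838) q13739, e3 q13915 (flp_f L214086) q14025, e3 q13916 L212865 q13916, e3 q13917 L212874 q13841, e3 q13918 L212888 q13918, e3 q13919 L212899 q13815, e3 q13920 L214115 q14028, e3 q13921 (flp_f L212909) q13746, e3 q13922 L214122 q14029, e3 q13923 (flp_f L212926) q13749, e3 q13924 L212947 q13813, e3 q13925 L212957 q13825, e3 q13926 (flp_f L212963) q13758, e3 q13927 L214133 q14030, e3 q13928 (flp_f L212984) q13761, e3 q13929 L214146 q14031, e3 q13930 L214161 q14032, e3 q13931 (flp_f L213017) q13767, e3 q13932 (flp_f L213022) q13771, e3 q13933 (flp_f L213031) q13772, e3 q13934 L214172 q14033, e3 q13935 L213060 q13935, e3 q13936 L213069 q13845, e3 q13937 (flp_f L213075) q13776, e3 q13938 L214197 q14035, e3 q13939 L214212 q14036, e3 q13940 (flp_f L213116) q13781, e3 q13941 (flp_f L213123) q13782, e3 q13942 (flp_f L214233) q14037, e3 q13943 (flp_f L213138) q13786, e3 q13944 (flp_f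 L213145) q13787, e3 q13945 L213176 q13853, e3 q13946 L213190 q13946, e3 q13947 L213203 q13855, e3 q13948 L214250 q14039, e3 q13949 L214265 q14040, e3 q13950 (flp_f L213231) q13797, e3 q13951 L213250 q13951, trivial⟩ (by decide +kernel)

theorem ce_f_218 : ∀ r, r < 64 → sm gf (Qf (13952 + r)) = Qf (tab Gen.f (13952 + r)) :=
  edges_tab (sm gf) Qf (tab Gen.f) 13952 [(13952, 13834), (13953, 14042), (13954, 14043), (13955, 13806), (13956, 14044), (13957, 13809), (13958, 13810), (13959, 13959), (13960, 13963), (13961, 14046), (13962, 13962), (13963, 13960), (13964, 13817), (13965, 14048), (13966, 13821), (13967, 14049), (13968, 13968), (13969, 13971), (13970, 13970), (13971, 13969), (13972, 14052), (13973, 13829), (13974, 13974), (13975, 13982), (13976, 14054), (13977, 13835), (13978, 14055), (13979, 13838), (13980, 14056), (13981, 13981), (13982, 13975), (13983, 13843), (13984, 14058), (13985, 13846), (13986, 13848), (13987, 14059), (13988, 13852), (13989, 14060), (13990, 13856), (13991, 14061),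 (13992, 13859), (13993, 13861), (13994, 13862), (13995, 13865), (13996, 13867), (13997, 14062), (13998, 13870), (13999, 13872), (14000, 14063), (14001, 13875), (14002, 13877), (14003, 13878), (14004, 13879), (14005, 13880), (14006, 13882), (14007, 14064), (14008, 13885), (14009, 13887), (14010, 13889), (14011, 14065), (14012, 13892), (14013, 14066), (14014, 13895), (14015, 14067)]
    ⟨e3 q13952 L213263 q13834, e3 q13953 L214292 q14042, e3 q13954 L214305 q14043, e3 q13955 (flp_f L213289) q13806, e3 q13956 L214318 q14044, e3 q13957 (flp_f L213308) q13809, e3 q13958 (flp_f L213313) q13810, e3 q13959 L213332 q13959, e3 q13960 (flp_f L213376) q13963, e3 q13961 L214345 q14046, e3 q13962 L213365 q13962, e3 q13963 L213376 q13960, e3 q13964 (flp_f L213384) q13817, e3 q13965 (flp_f L214372) q14048, e3 q13966 L213403 q13821, e3 q13967 (flp_f L214379) q14049, e3 q13968 L213430 q13968, e3 q13969 (flp_f L213472) q13971, e3 q13970 L213457 q13970, e3 q13971 L213472 q13969, e3 q13972 L214414 q14052, e3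 q13973 (flp_f L213482) q13829, e3 q13974 L213505 q13974, e3 q13975 (flp_f L213581) q13982, e3 q13976 L214437 q14054, e3 q13977 (flp_f L213528) q13835, e3 q13978 L214444 q14055, e3 q13979 (flp_f L213545) q13838, e3 q13980 L214453 q14056, e3 q13981 L213568 q13981, e3 q13982 L213581 q13975, e3 q13983 (flp_f L213589) q13843, e3 q13984 (flp_f L214480) q14058, e3 q13985 (flp_f L213606) q13846, e3 q13986 L213615 q13848, e3 q13987 (flp_f L214491) q14059, e3 q13988 (flp_f L213628) q13852, e3 q13989 L214494 q14060, e3 q13990 (flp_f L213649) q13856, e3 q13991 L214503 q14061, e3 q13992 (flp_f L213666) q13859, e3 q13993 (flp_f L213673) q13861, e3 q13994 (flp_f L213688) q13862, e3 q13995 L213697 q13865, e3 q13996 (flp_f L213702) q13867, e3 q13997 L214514 q14062, e3 q13998 (flp_f L213733) q13870, e3 q13999 L213754 q13872, e3 q14000 L214529 q14063, e3 q14001 (flp_f L213773) q13875, e3 q14002 (flp_f L213788) q13877, e3 q14003 (flp_f L213805) q13878, e3 q14004 (flp_f L213818) q13879, e3 q14005 (flp_f L213831)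 q13880, e3 q14006 (flp_f L213844) q13882, e3 q14007 (flp_f L214552) q14064, e3 q14008 (flp_f L213871) q13885, e3 q14009 (flp_f L213882) q13887, e3 q14010 (flp_f L213895) q13889, e3 q14011 L214559 q14065, e3 q14012 (flp_f L213918) q13892, e3 q14013 L214574 q14066, e3 q14014 (flp_f L213943) q13895, e3 q14015 L214587 q14067, trivial⟩ (by decide +kernel)

theorem ce_f_219 : ∀ r, r < 64 → sm gf (Qf (14016 + r)) = Qf (tab Gen.f (14016 + r)) :=
  edges_tab (sm gf) Qf (tab Gen.f) 14016 [(14016, 13899), (14017, 14068), (14018, 13903), (14019, 13904), (14020, 13907), (14021, 13909), (14022, 13911), (14023, 13912), (14024, 13913), (14025, 13915), (14026, 14069), (14027, 14070), (14028, 13920), (14029, 13922), (14030, 13927), (14031, 13929), (14032, 13930), (14033, 13934), (14034, 14071), (14035, 13938), (14036, 13939), (14037, 13942), (14038, 14072), (14039, 13948), (14040, 13949), (14041, 14073), (14042, 13953), (14043, 13954), (14044, 13956), (14045, 14074), (14046, 13961), (14047, 14075), (14048,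 13965), (14049, 13967), (14050, 14076), (14051, 14077), (14052, 13972), (14053, 14078), (14054, 13976), (14055, 13978), (14056, 13980), (14057, 14079), (14058, 13984), (14059, 13987), (14060, 13989), (14061, 13991), (14062, 13997), (14063, 14000), (14064, 14007), (14065, 14011), (14066, 14013), (14067, 14015), (14068, 14017), (14069, 14026), (14070, 14027), (14071, 14034), (14072, 14038), (14073, 14041), (14074, 14045), (14075, 14047), (14076, 14050), (14077, 14051), (14078, 14053), (14079, 14057)]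
    ⟨e3 q14016 (flp_f L213970) q13899, e3 q14017 (flp_f L214608) q14068, e3 q14018 L213995 q13903, e3 q14019 (flp_f L214000) q13904, e3 q14020 (flp_f L214015) q13907, e3 q14021 (flp_f L214028) q13909, e3 q14022 (flp_f L214039) q13911, e3 q14023 (flp_f L214052) q13912, e3 q14024 (flp_f L214067) q13913, e3 q14025 L214086 q13915, e3 q14026 (flp_f L214623) q14069, e3 q14027 L214626 q14070, e3 q14028 (flp_f L214115) q13920, e3 q14029 (flp_f L214122) q13922, e3 q14030 (flp_f L214133) q13927, e3 q14031 (flp_f L214146) q13929, e3 q14032 (flp_f L214161) q13930, e3 q14033 (flp_f L214172) q13934, e3 q14034 (flp_f L214647) q14071, e3 q14035 (flp_f L214197) q13938, e3 q14036 (flp_f L214212) q13939, e3 q14037 L214233 q13942, e3 q14038 L214652 q14072, e3 q14039 (flp_f L214250) q13948, e3 q14040 (flp_f L214265) q13949, e3 q14041 L214667 q14073, e3 q14042 (flp_f L214292) q13953, e3 q14043 (flp_f L214305) q13954, e3 q14044 (flp_f L214318) q13956, e3 q14045 L214682 q14074, e3 q14046 (flp_f L214345) q13961,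 e3 q14047 (flp_f L214705) q14075, e3 q14048 L214372 q13965, e3 q14049 L214379 q13967, e3 q14050 L214710 q14076, e3 q14051 L214725 q14077, e3 q14052 (flp_f L214414) q13972, e3 q14053 L214740 q14078, e3 q14054 (flp_f L214437) q13976, e3 q14055 (flp_f L214444) q13978, e3 q14056 (flp_f L214453) q13980, e3 q14057 (flp_f L214765) q14079, e3 q14058 L214480 q13984, e3 q14059 L214491 q13987, e3 q14060 (flp_f L214494) q13989, e3 q14061 (flp_f L214503) q13991, e3 q14062 (flp_f L214514) q13997, e3 q14063 (flp_f L214529) q14000, e3 q14064 L214552 q14007, e3 q14065 (flp_f L214559) q14011, e3 q14066 (flp_f L214574) q14013, e3 q14067 (flp_f L214587) q14015, e3 q14068 L214608 q14017, e3 q14069 L214623 q14026, e3 q14070 (flp_f L214626) q14027, e3 q14071 L214647 q14034, e3 q14072 (flp_f L214652) q14038, e3 q14073 (flp_f L214667) q14041, e3 q14074 (flp_f L214682) q14045, e3 q14075 L214705 q14047, e3 q14076 (flp_f L214710) q14050, e3 q14077 (flp_f L214725) q14051, e3 q14078 (flp_f L214740) q14053, e3 q14079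 L214765 q14057, trivial⟩ (by decide +kernel)

theorem cl_f : ∀ i, i < 14080 → sm gf (Qf i) = Qf (tab Gen.f i) :=
  all_of_chunks (fun i => sm gf (Qf i) = Qf (tab Gen.f i)) 220 0
    ⟨ce_f_0, ce_f_1, ce_f_2, ce_f_3, ce_f_4, ce_f_5, ce_f_6, ce_f_7, ce_f_8, ce_f_9, ce_f_10, ce_f_11, ce_f_12, ce_f_13, ce_f_14, ce_f_15, ce_f_16, ce_f_17, ce_f_18, ce_f_19, ce_f_20, ce_f_21, ce_f_22, ce_f_23, ce_f_24, ce_f_25, ce_f_26, ce_f_27, ce_f_28, ce_f_29, ce_f_30, ce_f_31, ce_f_32, ce_f_33, ce_f_34, ce_f_35, ce_f_36, ce_f_37, ce_f_38, ce_f_39, ce_f_40, ce_f_41, ce_f_42, ce_f_43, ce_f_44, ce_f_45, ce_f_46, ce_f_47, ce_f_48, ce_f_49, ce_f_50, ce_f_51, ce_f_52, ce_f_53, ce_f_54, ce_f_55, ce_f_56, ce_f_57, ce_f_58, ce_f_59, ce_f_60, ce_f_61, ce_f_62, ce_f_63, ce_f_64, ce_f_65, ce_f_66, ce_f_67, ce_f_68, ce_f_69, ce_f_70, ce_f_71, ce_f_72, ce_f_73, ce_f_74, ce_f_75, ce_f_76, ce_f_77, ce_f_78, ce_f_79, ce_f_80, ce_f_81, ce_f_82, ce_f_83, ce_f_84, ce_f_85, ce_f_86, ce_f_87, ce_f_88, ce_f_89, ce_f_90, ce_f_91, ce_f_92,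 ce_f_93, ce_f_94, ce_f_95, ce_f_96, ce_f_97, ce_f_98, ce_f_99, ce_f_100, ce_f_101, ce_f_102, ce_f_103, ce_f_104, ce_f_105, ce_f_106, ce_f_107, ce_f_108, ce_f_109, ce_f_110, ce_f_111, ce_f_112, ce_f_113, ce_f_114, ce_f_115, ce_f_116, ce_f_117, ce_f_118, ce_f_119, ce_f_120, ce_f_121, ce_f_122, ce_f_123, ce_f_124, ce_f_125, ce_f_126, ce_f_127, ce_f_128, ce_f_129, ce_f_130, ce_f_131, ce_f_132, ce_f_133, ce_f_134, ce_f_135, ce_f_136, ce_f_137, ce_f_138, ce_f_139, ce_f_140, ce_f_141, ce_f_142, ce_f_143, ce_f_144, ce_f_145, ce_f_146, ce_f_147, ce_f_148, ce_f_149, ce_f_150, ce_f_151, ce_f_152, ce_f_153, ce_f_154, ce_f_155, ce_f_156, ce_f_157, ce_f_158, ce_f_159, ce_f_160, ce_f_161, ce_f_162, ce_f_163, ce_f_164, ce_f_165, ce_f_166, ce_f_167, ce_f_168, ce_f_169, ce_f_170, ce_f_171, ce_f_172, ce_f_173, ce_f_174, ce_f_175, ce_f_176, ce_f_177, ce_f_178, ce_f_179, ce_f_180, ce_f_181, ce_f_182, ce_f_183, ce_f_184, ce_f_185, ce_f_186, ce_f_187, ce_f_188, ce_f_189, ce_f_190, ce_f_191, ce_f_192, ce_f_193,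 ce_f_194, ce_f_195, ce_f_196, ce_f_197, ce_f_198, ce_f_199, ce_f_200, ce_f_201, ce_f_202, ce_f_203, ce_f_204, ce_f_205, ce_f_206, ce_f_207, ce_f_208, ce_f_209, ce_f_210, ce_f_211, ce_f_212, ce_f_213, ce_f_214, ce_f_215, ce_f_216, ce_f_217, ce_f_218, ce_f_219, trivial⟩
    (fun r hr => absurd hr (Nat.not_lt_zero r))


end Cfsg.Agent.Helper28.FibA
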