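import Cfsg.Agent.Helper28.FibC0

/-!
# The Fi₂₂ presentation, cosets of the subgroup generated by b, …, i: the action of the generator g (helper28; generated)
-/

set_option autoImplicit false
set_option maxRecDepth 100000
set_option linter.unusedSimpArgs false
set_option linter.constructorNameAsVariable false

noncomputable section

namespace Cfsg.Agent.Helper28.FibA

open Cfsg.Spor Cfsg.Spor.Fi22 Cfsg.Agent.Helper28.CosetTable

theorem ce_g_0 : ∀ r, r < 64 → sm gg (Qf (0 + r)) = Qf (tab Gen.g (0 + r)) :=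
  edges_tab (sm gg) Qf (tab Gen.g) 0 [(0, 0), (1, 1), (2, 2), (3, 3), (4, 4), (5, 5), (6, 6), (7, 10), (8, 8), (9, 9), (10, 7), (11, 14), (12, 12), (13, 13), (14, 11), (15, 19), (16, 20), (17, 17), (18, 18), (19, 15), (20, 16), (21, 27), (22, 28), (23, 29), (24, 24), (25, 25), (26, 26), (27, 21), (28, 22), (29, 23), (30, 38), (31, 39), (32, 40), (33, 42), (34, 43), (35, 35), (36, 36), (37, 37), (38, 30), (39, 31), (40, 32), (41, 41), (42, 33), (43, 34), (44, 54), (45, 55), (46, 56), (47, 57), (48, 59), (49, 60), (50, 62), (51, 51), (52, 52), (53, 53), (54, 44), (55, 45), (56, 46), (57, 47), (58, 58), (59, 48), (60, 49), (61, 61), (62, 50), (63, 76)]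
    ⟨e3 q0 L5 q0, e3 q1 L14 q1, e3 q2 L22 q2, e3 q3 L31 q3, e3 q4 L40 q4, e3 q5 L48 q5, e3 q6 L57 q6, e3 q7 L84 q10, e3 q8 L74 q8, e3 q9 L82 q9, e3 q10 (flp_g L84) q7, e3 q11 (flp_g L124) q14, e3 q12 L105 q12, e3 q13 L115 q13, e3 q14 L124 q11, e3 q15 (flp_g L162) q19, e3 q16 (flp_g L172) q20, e3 q17 L146 q17, e3 q18 L156 q18, e3 q19 L162 q15, e3 q20 L172 q16, e3 q21 (flp_g L224) q27, e3 q22 (flp_g L232) q28, e3 q23 (flp_g L243) q29, e3 q24 L201 q24, e3 q25 L211 q25, e3 q26 L217 q26, e3 q27 L224 q21, e3 q28 L232 q22, e3 q29 L243 q23, e3 q30 (flp_g L311) q38, e3 q31 (flp_g L320) q39, e3 q32 (flp_g L330) q40, e3 q33 (flp_g L347) q42, e3 q34 (flp_g L354) q43, e3 q35 L288 q35, e3 q36 L298 q36, e3 q37 L305 q37, e3 q38 L311 q30, e3 q39 L320 q31, e3 q40 L330 q32, e3 q41 L339 q41, e3 q42 L347 q33, e3 q43 L354 q34, e3 q44 (flp_g L440) q54, e3 q45 (flp_g L449) q55, e3 q46 (flp_g L459) q56, e3 q47 (flp_g L464) q57, e3 q48 (flp_g L483) q59, e3 q49 (flp_g L491) q60, e3 q50 (flp_g L509) q62, e3 q51 L419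 q51, e3 q52 L426 q52, e3 q53 L431 q53, e3 q54 L440 q44, e3 q55 L449 q45, e3 q56 L459 q46, e3 q57 L464 q47, e3 q58 L475 q58, e3 q59 L483 q48, e3 q60 L491 q49, e3 q61 L502 q61, e3 q62 L509 q50, e3 q63 (flp_g L621) q76, trivial⟩ (by decide +kernel)

theorem ce_g_1 : ∀ r, r < 64 → sm gg (Qf (64 + r)) = Qf (tab Gen.g (64 + r)) :=
  edges_tab (sm gg) Qf (tab Gen.g) 64 [(64, 77), (65, 78), (66, 80), (67, 81), (68, 83), (69, 84), (70, 86), (71, 87), (72, 89), (73, 73), (74, 74), (75, 75), (76, 63), (77, 64), (78, 65), (79, 79), (80, 66), (81, 67), (82, 82), (83, 68), (84, 69), (85, 85), (86, 70), (87, 71), (88, 88), (89, 72), (90, 107), (91, 109), (92, 110), (93, 111), (94, 113), (95, 114), (96, 116), (97, 117), (98, 121), (99, 122), (100, 124), (101, 125), (102, 127), (103, 103), (104, 104), (105, 105), (106, 144), (107, 90), (108, 108), (109, 91), (110, 92), (111, 93), (112, 112), (113, 94), (114, 95), (115, 115), (116, 96), (117, 97), (118, 118), (119, 119), (120, 120), (121, 98), (122, 99),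 (123, 123), (124, 100), (125, 101), (126, 126), (127, 102)]
    ⟨e3 q64 (flp_g L632) q77, e3 q65 (flp_g L638) q78, e3 q66 (flp_g L656) q80, e3 q67 (flp_g L664) q81, e3 q68 (flp_g L679) q83, e3 q69 (flp_g L689) q84, e3 q70 (flp_g L707) q86, e3 q71 (flp_g L714) q87, e3 q72 (flp_g L732) q89, e3 q73 L598 q73, e3 q74 L604 q74, e3 q75 L611 q75, e3 q76 L621 q63, e3 q77 L632 q64, e3 q78 L638 q65, e3 q79 L648 q79, e3 q80 L656 q66, e3 q81 L664 q67, e3 q82 L673 q82, e3 q83 L679 q68, e3 q84 L689 q69, e3 q85 L699 q85, e3 q86 L707 q70, e3 q87 L714 q71, e3 q88 L726 q88, e3 q89 L732 q72, e3 q90 (flp_g L872) q107, e3 q91 (flp_g L892) q109, e3 q92 (flp_g L901) q110, e3 q93 (flp_g L907) q111, e3 q94 (flp_g L929) q113, e3 q95 (flp_g L939) q114, e3 q96 (flp_g L957) q116, e3 q97 (flp_g L965) q117, e3 q98 (flp_g L999) q121, e3 q99 (flp_g L1006) q122, e3 q100 (flp_g L1021) q124, e3 q101 (flp_g L1028) q125, e3 q102 (flp_g L1045) q127, e3 q103 L842 q103, e3 q104 L847 q104, e3 q105 L856 q105, e3 q106 L1196 q144, e3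 q107 L872 q90, e3 q108 L883 q108, e3 q109 L892 q91, e3 q110 L901 q92, e3 q111 L907 q93, e3 q112 L919 q112, e3 q113 L929 q94, e3 q114 L939 q95, e3 q115 L949 q115, e3 q116 L957 q96, e3 q117 L965 q97, e3 q118 L973 q118, e3 q119 L982 q119, e3 q120 L992 q120, e3 q121 L999 q98, e3 q122 L1006 q99, e3 q123 L1016 q123, e3 q124 L1021 q100, e3 q125 L1028 q101, e3 q126 L1038 q126, e3 q127 L1045 q102, trivial⟩ (by decide +kernel)

theorem ce_g_2 : ∀ r, r < 64 → sm gg (Qf (128 + r)) = Qf (tab Gen.g (128 + r)) :=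
  edges_tab (sm gg) Qf (tab Gen.g) 128 [(128, 146), (129, 148), (130, 149), (131, 151), (132, 155), (133, 156), (134, 158), (135, 159), (136, 160), (137, 165), (138, 166), (139, 168), (140, 169), (141, 190), (142, 173), (143, 192), (144, 106), (145, 145), (146, 128), (147, 147), (148, 129), (149, 130), (150, 150), (151, 131), (152, 152), (153, 153), (154, 154), (155, 132), (156, 133), (157, 157), (158, 134), (159, 135), (160, 136), (161, 161), (162, 162), (163, 163), (164, 164), (165, 137), (166, 138), (167, 167), (168, 139), (169, 140), (170, 226), (171, 171), (172, 172), (173, 142), (174, 195), (175, 197), (176, 198), (177, 201), (178, 206), (179, 207), (180, 209), (181, 210), (182, 211), (183, 241), (184, 218), (185, 219), (186, 220), (187, 223), (188, 224), (189, 250), (190, 141), (191, 229)]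
    ⟨e3 q128 (flp_g L1220) q146, e3 q129 (flp_g L1240) q148, e3 q130 (flp_g L1249) q149, e3 q131 (flp_g L1269) q151, e3 q132 (flp_g L1309) q155, e3 q133 (flp_g L1316) q156, e3 q134 (flp_g L1332) q158, e3 q135 (flp_g L1338) q159, e3 q136 (flp_g L1348) q160, e3 q137 (flp_g L1389) q165, e3 q138 (flp_g L1396) q166, e3 q139 (flp_g L1410) q168, e3 q140 (flp_g L1418) q169, e3 q141 L1580 q190, e3 q142 (flp_g L1450) q173, e3 q143 L1635 q192, e3 q144 (flp_g L1196) q106, e3 q145 L1211 q145, e3 q146 L1220 q128, e3 q147 L1231 q147, e3 q148 L1240 q129, e3 q149 L1249 q130, e3 q150 L1261 q150, e3 q151 L1269 q131, e3 q152 L1275 q152, e3 q153 L1288 q153, e3 q154 L1298 q154, e3 q155 L1309 q132, e3 q156 L1316 q133, e3 q157 L1326 q157, e3 q158 L1332 q134, e3 q159 L1338 q135, e3 q160 L1348 q136, e3 q161 L1359 q161, e3 q162 L1368 q162, e3 q163 L1376 q163, e3 q164 L1383 q164, e3 q165 L1389 q137, e3 q166 L1396 q138, e3 q167 L1405 q167, e3 q168 L1410 q139, e3 q169 L1418 q140, e3 q170 L1936 q226, e3 q171 L1435 q171,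 e3 q172 L1442 q172, e3 q173 L1450 q142, e3 q174 (flp_g L1667) q195, e3 q175 (flp_g L1685) q197, e3 q176 (flp_g L1703) q198, e3 q177 (flp_g L1731) q201, e3 q178 (flp_g L1784) q206, e3 q179 (flp_g L1792) q207, e3 q180 (flp_g L1806) q209, e3 q181 (flp_g L1814) q210, e3 q182 (flp_g L1824) q211, e3 q183 L2083 q241, e3 q184 (flp_g L1878) q218, e3 q185 (flp_g L1886) q219, e3 q186 (flp_g L1894) q220, e3 q187 (flp_g L1918) q223, e3 q188 (flp_g L1926) q224, e3 q189 L2147 q250, e3 q190 (flp_g L1580) q141, e3 q191 (flp_g L1966) q229, trivial⟩ (by decide +kernel)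

theorem ce_g_3 : ∀ r, r < 64 → sm gg (Qf (192 + r)) = Qf (tab Gen.g (192 + r)) :=
  edges_tab (sm gg) Qf (tab Gen.g) 192 [(192, 143), (193, 193), (194, 194), (195, 174), (196, 196), (197, 175), (198, 176), (199, 199), (200, 200), (201, 177), (202, 202), (203, 203), (204, 204), (205, 205), (206, 178), (207, 179), (208, 208), (209, 180), (210, 181), (211, 182), (212, 277), (213, 213), (214, 214), (215, 215), (216, 216), (217, 217), (218, 184), (219, 185), (220, 186), (221, 221), (222, 222), (223, 187), (224, 188), (225, 296), (226, 170), (227, 227), (228, 228), (229, 191), (230, 253), (231, 255), (232, 256), (233, 261), (234, 267), (235, 268), (236, 269), (237, 272), (238, 273), (239, 315), (240, 275), (241, 183), (242, 285), (243, 286), (244, 287), (245, 288), (246, 324), (247, 293), (248, 294), (249, 327), (250, 189), (251, 251), (252, 252), (253, 230), (254, 254), (255, 231)]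
    ⟨e3 q192 (flp_g L1635) q143, e3 q193 L1648 q193, e3 q194 L1660 q194, e3 q195 L1667 q174, e3 q196 L1678 q196, e3 q197 L1685 q175, e3 q198 L1703 q176, e3 q199 L1712 q199, e3 q200 L1724 q200, e3 q201 L1731 q177, e3 q202 L1746 q202, e3 q203 L1755 q203, e3 q204 L1767 q204, e3 q205 L1774 q205, e3 q206 L1784 q178, e3 q207 L1792 q179, e3 q208 L1802 q208, e3 q209 L1806 q180, e3 q210 L1814 q181, e3 q211 L1824 q182, e3 q212 L2457 q277, e3 q213 L1839 q213, e3 q214 L1849 q214, e3 q215 L1857 q215, e3 q216 L1864 q216, e3 q217 L1872 q217, e3 q218 L1878 q184, e3 q219 L1886 q185, e3 q220 L1894 q186, e3 q221 L1904 q221, e3 q222 L1911 q222, e3 q223 L1918 q187, e3 q224 L1926 q188, e3 q225 L2608 q296, e3 q226 (flp_g L1936) q170, e3 q227 L1949 q227, e3 q228 L1958 q228, e3 q229 L1966 q191, e3 q230 (flp_g L2233) q253, e3 q231 (flp_g L2250) q255, e3 q232 (flp_g L2259) q256, e3 q233 (flp_g L2322) q261, e3 q234 (flp_g L2386) q267, e3 q235 (flp_g L2393) q268, e3 q236 (flp_g L2401) q269, e3 q237 (flp_g L2423) q272,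 e3 q238 (flp_g L2432) q273, e3 q239 L2793 q315, e3 q240 (flp_g L2445) q275, e3 q241 (flp_g L2083) q183, e3 q242 (flp_g L2526) q285, e3 q243 (flp_g L2535) q286, e3 q244 (flp_g L2544) q287, e3 q245 (flp_g L2553) q288, e3 q246 L2871 q324, e3 q247 (flp_g L2589) q293, e3 q248 (flp_g L2597) q294, e3 q249 L2892 q327, e3 q250 (flp_g L2147) q189, e3 q251 L2219 q251, e3 q252 L2227 q252, e3 q253 L2233 q230, e3 q254 L2244 q254, e3 q255 L2250 q231, trivial⟩ (by decide +kernel)

theorem ce_g_4 : ∀ r, r < 64 → sm gg (Qf (256 + r)) = Qf (tab Gen.g (256 + r)) :=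
  edges_tab (sm gg) Qf (tab Gen.g) 256 [(256, 232), (257, 276), (258, 258), (259, 259), (260, 260), (261, 233), (262, 262), (263, 263), (264, 264), (265, 265), (266, 266), (267, 234), (268, 235), (269, 236), (270, 270), (271, 271), (272, 237), (273, 238), (274, 360), (275, 240), (276, 257), (277, 212), (278, 278), (279, 279), (280, 280), (281, 281), (282, 282), (283, 283), (284, 284), (285, 242), (286, 243), (287, 244), (288, 245), (289, 380), (290, 290), (291, 291), (292, 385), (293, 247), (294, 248), (295, 388), (296, 225), (297, 297), (298, 298), (299, 299), (300, 330), (301, 331), (302, 334), (303, 335), (304, 340), (305, 341), (306, 348), (307, 349), (308, 350), (309, 351), (310, 406), (311, 356), (312, 357), (313, 358), (314, 411), (315, 239), (316, 362), (317, 373), (318, 374), (319, 416)]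
    ⟨e3 q256 L2259 q232, e3 q257 L108150 q276, e3 q258 L2296 q258, e3 q259 L2308 q259, e3 q260 L2316 q260, e3 q261 L2322 q233, e3 q262 L2334 q262, e3 q263 L2349 q263, e3 q264 L2357 q264, e3 q265 L2368 q265, e3 q266 L2377 q266, e3 q267 L2386 q234, e3 q268 L2393 q235, e3 q269 L2401 q236, e3 q270 L2410 q270, e3 q271 L2417 q271, e3 q272 L2423 q237, e3 q273 L2432 q238, e3 q274 L3290 q360, e3 q275 L2445 q240, e3 q276 (flp_g L108150) q257, e3 q277 (flp_g L2457) q212, e3 q278 L2471 q278, e3 q279 L2482 q279, e3 q280 L2490 q280, e3 q281 L2497 q281, e3 q282 L2504 q282, e3 q283 L2513 q283, e3 q284 L2520 q284, e3 q285 L2526 q242, e3 q286 L2535 q243, e3 q287 L2544 q244, e3 q288 L2553 q245, e3 q289 L3456 q380, e3 q290 L2569 q290, e3 q291 L2576 q291, e3 q292 L3495 q385, e3 q293 L2589 q247, e3 q294 L2597 q248, e3 q295 L3518 q388, e3 q296 (flp_g L2608) q225, e3 q297 L2621 q297, e3 q298 L2630 q298, e3 q299 L2638 q299, e3 q300 (flp_g L2993) q330, e3 q301 (flp_g L3002) q331, e3 q302 (flp_g L3027) q334, e3 q303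 (flp_g L3037) q335, e3 q304 (flp_g L3116) q340, e3 q305 (flp_g L3126) q341, e3 q306 (flp_g L3195) q348, e3 q307 (flp_g L3208) q349, e3 q308 (flp_g L3216) q350, e3 q309 (flp_g L3226) q351, e3 q310 L3732 q406, e3 q311 (flp_g L3265) q356, e3 q312 (flp_g L3274) q357, e3 q313 (flp_g L3279) q358, e3 q314 L3774 q411, e3 q315 (flp_g L2793) q239, e3 q316 (flp_g L3309) q362, e3 q317 (flp_g L3403) q373, e3 q318 (flp_g L3413) q374, e3 q319 L3836 q416, trivial⟩ (by decide +kernel)

theorem ce_g_5 : ∀ r, r < 64 → sm gg (Qf (320 + r)) = Qf (tab Gen.g (320 + r)) :=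
  edges_tab (sm gg) Qf (tab Gen.g) 320 [(320, 376), (321, 377), (322, 378), (323, 421), (324, 246), (325, 386), (326, 423), (327, 249), (328, 328), (329, 329), (330, 300), (331, 301), (332, 332), (333, 333), (334, 302), (335, 303), (336, 361), (337, 337), (338, 338), (339, 339), (340, 304), (341, 305), (342, 342), (343, 343), (344, 344), (345, 345), (346, 346), (347, 347), (348, 306), (349, 307), (350, 308), (351, 309), (352, 459), (353, 353), (354, 354), (355, 464), (356, 311), (357, 312), (358, 313), (359, 470), (360, 274), (361, 336), (362, 316), (363, 363), (364, 364), (365, 365), (366, 366), (367, 367), (368, 368), (369, 369), (370, 370), (371, 371), (372, 488), (373, 317), (374, 318), (375, 493), (376, 320), (377, 321), (378, 322), (379, 498), (380, 289), (381, 381), (382, 382), (383, 383)]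
    ⟨e3 q320 (flp_g L3428) q376, e3 q321 (flp_g L3437) q377, e3 q322 (flp_g L3444) q378, e3 q323 L3871 q421, e3 q324 (flp_g L2871) q246, e3 q325 (flp_g L3508) q386, e3 q326 L3887 q423, e3 q327 (flp_g L2892) q249, e3 q328 L2978 q328, e3 q329 L2986 q329, e3 q330 L2993 q300, e3 q331 L3002 q301, e3 q332 L3013 q332, e3 q333 L3021 q333, e3 q334 L3027 q302, e3 q335 L3037 q303, e3 q336 (flp_g L108136) q361, e3 q337 L3093 q337, e3 q338 L3102 q338, e3 q339 L3110 q339, e3 q340 L3116 q304, e3 q341 L3126 q305, e3 q342 L3143 q342, e3 q343 L3155 q343, e3 q344 L3163 q344, e3 q345 L3173 q345, e3 q346 L3181 q346, e3 q347 L3188 q347, e3 q348 L3195 q306, e3 q349 L3208 q307, e3 q350 L3216 q308, e3 q351 L3226 q309, e3 q352 L4352 q459, e3 q353 L3242 q353, e3 q354 L3250 q354, e3 q355 L4391 q464, e3 q356 L3265 q311, e3 q357 L3274 q312, e3 q358 L3279 q313, e3 q359 L4439 q470, e3 q360 (flp_g L3290) q274, e3 q361 L108136 q336, e3 q362 L3309 q316, e3 q363 L3331 q363, e3 q364 L3337 q364, e3 q365 L3343 q365, e3 q366 L3350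 q366, e3 q367 L3356 q367, e3 q368 L3365 q368, e3 q369 L3373 q369, e3 q370 L3382 q370, e3 q371 L3390 q371, e3 q372 L4584 q488, e3 q373 L3403 q317, e3 q374 L3413 q318, e3 q375 L4627 q493, e3 q376 L3428 q320, e3 q377 L3437 q321, e3 q378 L3444 q322, e3 q379 L4666 q498, e3 q380 (flp_g L3456) q289, e3 q381 L3470 q381, e3 q382 L3477 q382, e3 q383 L3482 q383, trivial⟩ (by decide +kernel)

theorem ce_g_6 : ∀ r, r < 64 → sm gg (Qf (384 + r)) = Qf (tab Gen.g (384 + r)) :=
  edges_tab (sm gg) Qf (tab Gen.g) 384 [(384, 504), (385, 292), (386, 325), (387, 506), (388, 295), (389, 389), (390, 390), (391, 391), (392, 427), (393, 428), (394, 433), (395, 434), (396, 440), (397, 441), (398, 473), (399, 452), (400, 453), (401, 523), (402, 455), (403, 456), (404, 457), (405, 529), (406, 310), (407, 465), (408, 466), (409, 533), (410, 469), (411, 314), (412, 489), (413, 490), (414, 491), (415, 539), (416, 319), (417, 494), (418, 495), (419, 544), (420, 546), (421, 323), (422, 547), (423, 326), (424, 424), (425,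 425), (426, 426), (427, 392), (428, 393), (429, 472), (430, 430), (431, 431), (432, 471), (433, 394), (434, 395), (435, 468), (436, 436), (437, 437), (438, 438), (439, 439), (440, 396), (441, 397), (442, 573), (443, 443), (444, 444), (445, 445), (446, 446), (447, 447)]
    ⟨e3 q384 L4712 q504, e3 q385 (flp_g L3495) q292, e3 q386 L3508 q325, e3 q387 L4728 q506, e3 q388 (flp_g L3518) q295, e3 q389 L3533 q389, e3 q390 L3542 q390, e3 q391 L3549 q391, e3 q392 (flp_g L4017) q427, e3 q393 (flp_g L4028) q428, e3 q394 (flp_g L4069) q433, e3 q395 (flp_g L4079) q434, e3 q396 (flp_g L4189) q440, e3 q397 (flp_g L4199) q441, e3 q398 L108044 q473, e3 q399 (flp_g L4295) q452, e3 q400 (flp_g L4308) q453, e3 q401 L4989 q523, e3 q402 (flp_g L4327) q455, e3 q403 (flp_g L4337) q456, e3 q404 (flp_g L4343) q457, e3 q405 L5031 q529, e3 q406 (flp_g L3732) q310, e3 q407 (flp_g L4406) q465, e3 q408 (flp_g L4413) q466, e3 q409 L5067 q533, e3 q410 (flp_g L4437) q469, e3 q411 (flp_g L3774) q314, e3 q412 (flp_g L4595)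 q489, e3 q413 (flp_g L4605) q490, e3 q414 (flp_g L4613) q491, e3 q415 L5166 q539, e3 q416 (flp_g L3836) q319, e3 q417 (flp_g L4641) q494, e3 q418 (flp_g L4649) q495, e3 q419 L5202 q544, e3 q420 L5216 q546, e3 q421 (flp_g L3871) q323, e3 q422 L5223 q547, e3 q423 (flp_g L3887) q326, e3 q424 L3996 q424, e3 q425 L4004 q425, e3 q426 L4012 q426, e3 q427 L4017 q392, e3 q428 L4028 q393, e3 q429 (flp_g L108113) q472, e3 q430 L4045 q430, e3 q431 L4054 q431, e3 q432 L108142 q471, e3 q433 L4069 q394, e3 q434 L4079 q395, e3 q435 (flp_g L109770) q468, e3 q436 L4159 q436, e3 q437 L4165 q437, e3 q438 L4172 q438, e3 q439 L4181 q439, e3 q440 L4189 q396, e3 q441 L4199 q397, e3 q442 L5686 q573, e3 q443 L4220 q443, e3 q444 L4229 q444, e3 q445 L4235 q445, e3 q446 L4241 q446, e3 q447 L4251 q447, trivial⟩ (by decide +kernel)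

theorem ce_g_7 : ∀ r, r < 64 → sm gg (Qf (448 + r)) = Qf (tab Gen.g (448 + r)) :=
  edges_tab (sm gg) Qf (tab Gen.g) 448 [(448, 448), (449, 449), (450, 450), (451, 587), (452, 399), (453, 400), (454, 592), (455, 402), (456, 403), (457, 404), (458, 598), (459, 352), (460, 460), (461, 461), (462, 462), (463, 604), (464, 355), (465, 407), (466, 408), (467, 609), (468, 435), (469, 410), (470, 359), (471, 432), (472, 429), (473, 398), (474, 474), (475, 475), (476, 476), (477, 477), (478, 478), (479, 479), (480, 624), (481, 481), (482, 482), (483, 629), (484, 484), (485, 485), (486, 486), (487, 635), (488, 372), (489, 412), (490, 413), (491, 414), (492, 641), (493, 375), (494, 417), (495, 418), (496, 646), (497, 648), (498, 379), (499, 499), (500, 500), (501, 654), (502, 655), (503, 503), (504, 384), (505, 658), (506, 387), (507, 507), (508, 508), (509, 509), (510, 510), (511, 553)]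
    ⟨e3 q448 L4263 q448, e3 q449 L4271 q449, e3 q450 L4280 q450, e3 q451 L5810 q587, e3 q452 L4295 q399, e3 q453 L4308 q400, e3 q454 L5863 q592, e3 q455 L4327 q402, e3 q456 L4337 q403, e3 q457 L4343 q404, e3 q458 L5911 q598, e3 q459 (flp_g L4352) q352, e3 q460 L4368 q460, e3 q461 L4376 q461, e3 q462 L4380 q462, e3 q463 L5954 q604, e3 q464 (flp_g L4391) q355, e3 q465 L4406 q407, e3 q466 L4413 q408, e3 q467 L5994 q609, e3 q468 L109770 q435, e3 q469 L4437 q410, e3 q470 (flp_g L4439) q359, e3 q471 (flp_g L108142) q432, e3 q472 L108113 q429, e3 q473 (flp_g L108044) q398, e3 q474 L4482 q474, e3 q475 L4488 q475, e3 q476 L4496 q476, e3 q477 L4503 q477, e3 q478 L4512 q478, e3 q479 L4519 q479, e3 q480 L6134 q624, e3 q481 L4533 q481, e3 q482 L4542 q482, e3 q483 L6177 q629, e3 q484 L4559 q484, e3 q485 L4567 q485, e3 q486 L4573 q486, e3 q487 L6220 q635, e3 q488 (flp_g L4584) q372, e3 q489 L4595 q412, e3 q490 L4605 q413, e3 q491 L4613 q414, e3 q492 L6273 q641, e3 q493 (flp_g L4627) q375, e3 q494 L4641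 q417, e3 q495 L4649 q418, e3 q496 L6313 q646, e3 q497 L6327 q648, e3 q498 (flp_g L4666) q379, e3 q499 L4680 q499, e3 q500 L4686 q500, e3 q501 L6375 q654, e3 q502 L6383 q655, e3 q503 L4711 q503, e3 q504 (flp_g L4712) q384, e3 q505 L6407 q658, e3 q506 (flp_g L4728) q387, e3 q507 L4742 q507, e3 q508 L4747 q508, e3 q509 L4756 q509, e3 q510 L4764 q510, e3 q511 (flp_g L5396) q553, trivial⟩ (by decide +kernel)

theorem ce_g_8 : ∀ r, r < 64 → sm gg (Qf (512 + r)) = Qf (tab Gen.g (512 + r)) :=
  edges_tab (sm gg) Qf (tab Gen.g) 512 [(512, 554), (513, 555), (514, 561), (515, 569), (516, 570), (517, 571), (518, 612), (519, 588), (520, 589), (521, 590), (522, 675), (523, 401), (524, 593), (525, 594), (526, 681), (527, 682), (528, 597), (529, 405), (530, 605), (531, 684), (532, 608), (533, 409), (534, 636), (535, 637), (536, 690), (537, 692), (538, 640), (539, 415), (540, 642), (541, 696), (542, 644), (543, 699), (544, 419), (545, 700), (546, 420), (547, 422), (548, 548), (549, 549), (550, 550), (551,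 551), (552, 613), (553, 511), (554, 512), (555, 513), (556, 611), (557, 557), (558, 558), (559, 559), (560, 610), (561, 514), (562, 607), (563, 563), (564, 564), (565, 565), (566, 566), (567, 567), (568, 727), (569, 515), (570, 516), (571, 517), (572, 733), (573, 442), (574, 574), (575, 575)]
    ⟨e3 q512 (flp_g L5407) q554, e3 q513 (flp_g L5415) q555, e3 q514 (flp_g L5487) q561, e3 q515 (flp_g L5655) q569, e3 q516 (flp_g L5665) q570, e3 q517 (flp_g L5672) q571, e3 q518 L109852 q612, e3 q519 (flp_g L5825) q588, e3 q520 (flp_g L5838) q589, e3 q521 (flp_g L5847) q590, e3 q522 L6737 q675, e3 q523 (flp_g L4989) q401, e3 q524 (flp_g L5881) q593, e3 q525 (flp_g L5889) q594, e3 q526 L6777 q681, e3 q527 L6790 q682, e3 q528 (flp_g L5907) q597, e3 q529 (flp_g L5031) q405, e3 q530 (flp_g L5966) q605, e3 q531 L6821 q684, e3 q532 (flp_g L5992) q608, e3 q533 (flp_g L5067) q409, e3 q534 (flp_g L6235) q636, e3 q535 (flp_g L6244) q637, e3 q536 L6960 q690, e3 q537 L6976 q692, e3 q538 (flp_g L6269) q640, e3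 q539 (flp_g L5166) q415, e3 q540 (flp_g L6288) q642, e3 q541 L7006 q696, e3 q542 (flp_g L6302) q644, e3 q543 L7027 q699, e3 q544 (flp_g L5202) q419, e3 q545 L7034 q700, e3 q546 (flp_g L5216) q420, e3 q547 (flp_g L5223) q422, e3 q548 L5356 q548, e3 q549 L5363 q549, e3 q550 L5371 q550, e3 q551 L5381 q551, e3 q552 L108120 q613, e3 q553 L5396 q511, e3 q554 L5407 q512, e3 q555 L5415 q513, e3 q556 (flp_g L109752) q611, e3 q557 L5442 q557, e3 q558 L5451 q558, e3 q559 L5457 q559, e3 q560 L109683 q610, e3 q561 L5487 q514, e3 q562 L109924 q607, e3 q563 L5603 q563, e3 q564 L5610 q564, e3 q565 L5618 q565, e3 q566 L5629 q566, e3 q567 L5638 q567, e3 q568 L7604 q727, e3 q569 L5655 q515, e3 q570 L5665 q516, e3 q571 L5672 q517, e3 q572 L7656 q733, e3 q573 (flp_g L5686) q442, e3 q574 L5702 q574, e3 q575 L5711 q575, trivial⟩ (by decide +kernel)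

theorem ce_g_9 : ∀ r, r < 64 → sm gg (Qf (576 + r)) = Qf (tab Gen.g (576 + r)) :=
  edges_tab (sm gg) Qf (tab Gen.g) 576 [(576, 576), (577, 577), (578, 578), (579, 743), (580, 580), (581, 581), (582, 748), (583, 583), (584, 584), (585, 585), (586, 754), (587, 451), (588, 519), (589, 520), (590, 521), (591, 760), (592, 454), (593, 524), (594, 525), (595, 766), (596, 768), (597, 528), (598, 458), (599, 599), (600, 600), (601, 776), (602, 778), (603, 603), (604, 463), (605, 530), (606, 783), (607, 562), (608, 532), (609, 467), (610, 560), (611, 556), (612, 518), (613, 552), (614, 614), (615, 615), (616, 616), (617, 617), (618, 618), (619, 798), (620, 620), (621, 621), (622, 622), (623, 804), (624, 480), (625, 625), (626, 626), (627, 627), (628, 810), (629, 483), (630, 630), (631, 631), (632, 816), (633, 818), (634, 634), (635, 487), (636, 534), (637, 535), (638, 826), (639, 828)]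
    ⟨e3 q576 L5722 q576, e3 q577 L5730 q577, e3 q578 L5738 q578, e3 q579 L7742 q743, e3 q580 L5754 q580, e3 q581 L5766 q581, e3 q582 L7795 q748, e3 q583 L5787 q583, e3 q584 L5796 q584, e3 q585 L5801 q585, e3 q586 L7840 q754, e3 q587 (flp_g L5810) q451, e3 q588 L5825 q519, e3 q589 L5838 q520, e3 q590 L5847 q521, e3 q591 L7900 q760, e3 q592 (flp_g L5863) q454, e3 q593 L5881 q524, e3 q594 L5889 q525, e3 q595 L7946 q766, e3 q596 L7959 q768, e3 q597 L5907 q528, e3 q598 (flp_g L5911) q458, e3 q599 L5925 q599, e3 q600 L5931 q600, e3 q601 L8017 q776, e3 q602 L8034 q778, e3 q603 L5953 q603, e3 q604 (flp_g L5954) q463, e3 q605 L5966 q530, e3 q606 L8068 q783, e3 q607 (flp_g L109924) q562, e3 q608 L5992 q532, e3 q609 (flp_g L5994) q467, e3 q610 (flp_g L109683) q560, e3 q611 L109752 q556, e3 q612 (flp_g L109852) q518, e3 q613 (flp_g L108120) q552, e3 q614 L6065 q614, e3 q615 L6072 q615, e3 q616 L6079 q616, e3 q617 L6088 q617, e3 q618 L6096 q618, e3 q619 L8249 q798, e3 q620 L6111 q620, e3 q621 L6118 q621,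 e3 q622 L6123 q622, e3 q623 L8292 q804, e3 q624 (flp_g L6134) q480, e3 q625 L6147 q625, e3 q626 L6156 q626, e3 q627 L6163 q627, e3 q628 L8339 q810, e3 q629 (flp_g L6177) q483, e3 q630 L6191 q630, e3 q631 L6198 q631, e3 q632 L8384 q816, e3 q633 L8399 q818, e3 q634 L6217 q634, e3 q635 (flp_g L6220) q487, e3 q636 L6235 q534, e3 q637 L6244 q535, e3 q638 L8462 q826, e3 q639 L8478 q828, trivial⟩ (by decide +kernel)

theorem ce_g_10 : ∀ r, r < 64 → sm gg (Qf (640 + r)) = Qf (tab Gen.g (640 + r)) :=
  edges_tab (sm gg) Qf (tab Gen.g) 640 [(640, 538), (641, 492), (642, 540), (643, 832), (644, 542), (645, 835), (646, 496), (647, 836), (648, 497), (649, 649), (650, 840), (651, 651), (652, 843), (653, 653), (654, 501), (655, 502), (656, 846), (657, 657), (658, 505), (659, 659), (660, 660), (661, 661), (662, 662), (663, 708), (664, 709), (665, 728), (666, 729), (667, 786), (668, 770), (669, 732), (670, 755), (671, 756), (672, 867), (673, 868), (674, 759), (675, 522), (676, 761), (677, 872), (678, 763),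 (679, 875), (680, 765), (681, 526), (682, 527), (683, 782), (684, 531), (685, 821), (686, 879), (687, 823), (688, 883), (689, 825), (690, 536), (691, 885), (692, 537), (693, 887), (694, 830), (695, 891), (696, 541), (697, 893), (698, 894), (699, 543), (700, 545), (701, 701), (702, 702), (703, 788)]
    ⟨e3 q640 L6269 q538, e3 q641 (flp_g L6273) q492, e3 q642 L6288 q540, e3 q643 L8512 q832, e3 q644 L6302 q542, e3 q645 L8533 q835, e3 q646 (flp_g L6313) q496, e3 q647 L8542 q836, e3 q648 (flp_g L6327) q497, e3 q649 L6341 q649, e3 q650 L8574 q840, e3 q651 L6357 q651, e3 q652 L8598 q843, e3 q653 L6374 q653, e3 q654 (flp_g L6375) q501, e3 q655 (flp_g L6383) q502, e3 q656 (flp_g L8628) q846, e3 q657 L6405 q657, e3 q658 (flp_g L6407) q505, e3 q659 L6421 q659, e3 q660 L6430 q660, e3 q661 L6438 q661, e3 q662 L6445 q662, e3 q663 (flp_g L7267) q708, e3 q664 (flp_g L7275) q709, e3 q665 (flp_g L7618) q728, e3 q666 (flp_g L7627) q729, e3 q667 (flp_g L109837) q786, e3 q668 L108621 q770, e3 q669 (flp_g L7653)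 q732, e3 q670 (flp_g L7857) q755, e3 q671 (flp_g L7866) q756, e3 q672 L9089 q867, e3 q673 L9109 q868, e3 q674 (flp_g L7897) q759, e3 q675 (flp_g L6737) q522, e3 q676 (flp_g L7915) q761, e3 q677 L9154 q872, e3 q678 (flp_g L7927) q763, e3 q679 L9181 q875, e3 q680 (flp_g L7942) q765, e3 q681 (flp_g L6777) q526, e3 q682 (flp_g L6790) q527, e3 q683 (flp_g L8066) q782, e3 q684 (flp_g L6821) q531, e3 q685 (flp_g L8424) q821, e3 q686 L9381 q879, e3 q687 (flp_g L8440) q823, e3 q688 L9412 q883, e3 q689 (flp_g L8458) q825, e3 q690 (flp_g L6960) q536, e3 q691 L9428 q885, e3 q692 (flp_g L6976) q537, e3 q693 (flp_g L9449) q887, e3 q694 (flp_g L8501) q830, e3 q695 L9474 q891, e3 q696 (flp_g L7006) q541, e3 q697 L9489 q893, e3 q698 L9495 q894, e3 q699 (flp_g L7027) q543, e3 q700 (flp_g L7034) q545, e3 q701 L7197 q701, e3 q702 L7206 q702, e3 q703 L102002 q788, trivial⟩ (by decide +kernel)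

theorem ce_g_11 : ∀ r, r < 64 → sm gg (Qf (704 + r)) = Qf (tab Gen.g (704 + r)) :=
  edges_tab (sm gg) Qf (tab Gen.g) 704 [(704, 704), (705, 705), (706, 706), (707, 787), (708, 663), (709, 664), (710, 785), (711, 769), (712, 712), (713, 713), (714, 784), (715, 777), (716, 716), (717, 781), (718, 718), (719, 719), (720, 720), (721, 721), (722, 924), (723, 723), (724, 724), (725, 725), (726, 930), (727, 568), (728, 665), (729, 666), (730, 936), (731, 938), (732, 669), (733, 572), (734, 734), (735, 735), (736, 736), (737, 737), (738, 948), (739, 739), (740, 740), (741, 741), (742, 954), (743, 579), (744, 744), (745, 745), (746, 746), (747, 960), (748, 582), (749, 749), (750, 750), (751, 966), (752, 968), (753, 753), (754, 586), (755, 670), (756, 671), (757, 976), (758, 978), (759, 674), (760, 591), (761, 676), (762, 984), (763, 678), (764, 988), (765, 680), (766, 595), (767, 991)]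
    ⟨e3 q704 L7222 q704, e3 q705 L7232 q705, e3 q706 L7239 q706, e3 q707 L109698 q787, e3 q708 L7267 q663, e3 q709 L7275 q664, e3 q710 L109897 q785, e3 q711 (flp_g L108773) q769, e3 q712 L7317 q712, e3 q713 L7323 q713, e3 q714 (flp_g L109759) q784, e3 q715 L102030 q777, e3 q716 L7348 q716, e3 q717 (flp_g L109777) q781, e3 q718 L7531 q718, e3 q719 L7539 q719, e3 q720 L7549 q720, e3 q721 L7557 q721, e3 q722 L10252 q924, e3 q723 L7575 q723, e3 q724 L7584 q724, e3 q725 L7590 q725, e3 q726 L10301 q930, e3 q727 (flp_g L7604) q568, e3 q728 L7618 q665, e3 q729 L7627 q666, e3 q730 L10356 q936, e3 q731 L10373 q938, e3 q732 L7653 q669, e3 q733 (flp_g L7656) q572, e3 q734 L7670 q734, e3 q735 L7681 q735, e3 q736 L7691 q736, e3 q737 L7702 q737, e3 q738 L10470 q948, e3 q739 L7721 q739, e3 q740 L7729 q740, e3 q741 L7733 q741, e3 q742 L10515 q954, e3 q743 (flp_g L7742) q579, e3 q744 L7759 q744, e3 q745 L7771 q745, e3 q746 L7779 q746, e3 q747 L10570 q960, e3 q748 (flp_g L7795) q582, e3 q749 L7813 q749, e3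 q750 L7820 q750, e3 q751 L10615 q966, e3 q752 L10630 q968, e3 q753 L7837 q753, e3 q754 (flp_g L7840) q586, e3 q755 L7857 q670, e3 q756 L7866 q671, e3 q757 L10697 q976, e3 q758 L10717 q978, e3 q759 L7897 q674, e3 q760 (flp_g L7900) q591, e3 q761 L7915 q676, e3 q762 L10770 q984, e3 q763 L7927 q678, e3 q764 L10799 q988, e3 q765 L7942 q680, e3 q766 (flp_g L7946) q595, e3 q767 L10823 q991, trivial⟩ (by decide +kernel)

theorem ce_g_12 : ∀ r, r < 64 → sm gg (Qf (768 + r)) = Qf (tab Gen.g (768 + r)) :=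
  edges_tab (sm gg) Qf (tab Gen.g) 768 [(768, 596), (769, 711), (770, 668), (771, 771), (772, 996), (773, 773), (774, 1000), (775, 775), (776, 601), (777, 715), (778, 602), (779, 1004), (780, 780), (781, 717), (782, 683), (783, 606), (784, 714), (785, 710), (786, 667), (787, 707), (788, 703), (789, 789), (790, 790), (791, 791), (792, 792), (793, 1019), (794, 794), (795, 795), (796, 796), (797, 1025), (798, 619), (799, 799), (800, 800), (801, 1031), (802, 1033), (803, 803), (804, 623), (805, 805), (806, 806), (807, 1041), (808, 1043), (809, 809), (810, 628), (811, 811), (812, 1049), (813, 813), (814, 1053), (815, 815), (816, 632), (817, 1056), (818, 633), (819, 1058), (820, 820), (821, 685), (822, 1063), (823, 687), (824, 1067), (825, 689), (826, 638), (827, 1069), (828, 639), (829, 1071), (830, 694), (831, 1075)]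
    ⟨e3 q768 (flp_g L7959) q596, e3 q769 L108773 q711, e3 q770 (flp_g L108621) q668, e3 q771 L7984 q771, e3 q772 L10871 q996, e3 q773 L7999 q773, e3 q774 L10904 q1000, e3 q775 L8016 q775, e3 q776 (flp_g L8017) q601, e3 q777 (flp_g L102030) q715, e3 q778 (flp_g L8034) q602, e3 q779 (flp_g L10943) q1004, e3 q780 L8050 q780, e3 q781 L109777 q717, e3 q782 L8066 q683, e3 q783 (flp_g L8068) q606, e3 q784 L109759 q714, e3 q785 (flp_g L109897) q710, e3 q786 L109837 q667, e3 q787 (flp_g L109698) q707, e3 q788 (flp_g L102002) q703, e3 q789 L8180 q789, e3 q790 L8189 q790, e3 q791 L8196 q791, e3 q792 L8205 q792, e3 q793 L11144 q1019, e3 q794 L8221 q794, e3 q795 L8229 q795, e3 q796 L8235 q796, e3 q797 L11192 q1025, e3 q798 (flp_g L8249) q619, e3 q799 L8263 q799, e3 q800 L8269 q800, e3 q801 L11234 q1031, e3 q802 L11248 q1033, e3 q803 L8290 q803, e3 q804 (flp_g L8292) q623, e3 q805 L8305 q805, e3 q806 L8313 q806, e3 q807 L11312 q1041, e3 q808 L11330 q1043, e3 q809 L8337 q809, e3 q810 (flp_g L8339) q628,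 e3 q811 L8355 q811, e3 q812 L11374 q1049, e3 q813 L8369 q813, e3 q814 L11401 q1053, e3 q815 L8381 q815, e3 q816 (flp_g L8384) q632, e3 q817 L11424 q1056, e3 q818 (flp_g L8399) q633, e3 q819 (flp_g L11442) q1058, e3 q820 L8418 q820, e3 q821 L8424 q685, e3 q822 L11481 q1063, e3 q823 L8440 q687, e3 q824 L11514 q1067, e3 q825 L8458 q689, e3 q826 (flp_g L8462) q638, e3 q827 L11532 q1069, e3 q828 (flp_g L8478) q639, e3 q829 (flp_g L11554) q1071, e3 q830 L8501 q694, e3 q831 L11580 q1075, trivial⟩ (by decide +kernel)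

theorem ce_g_13 : ∀ r, r < 64 → sm gg (Qf (832 + r)) = Qf (tab Gen.g (832 + r)) :=
  edges_tab (sm gg) Qf (tab Gen.g) 832 [(832, 643), (833, 1077), (834, 1078), (835, 645), (836, 647), (837, 837), (838, 1083), (839, 839), (840, 650), (841, 1086), (842, 842), (843, 652), (844, 1090), (845, 845), (846, 656), (847, 1092), (848, 848), (849, 849), (850, 850), (851, 851), (852, 852), (853, 905), (854, 907), (855, 931), (856, 1008), (857, 933), (858, 990), (859, 935), (860, 940), (861, 980), (862, 971), (863, 1109), (864, 973), (865, 1112), (866, 975), (867, 672), (868, 673), (869, 981), (870, 1116), (871, 983), (872, 677), (873, 1117), (874, 986), (875, 679), (876, 1060), (877, 1122), (878, 1062), (879, 686), (880, 1125), (881, 1065), (882, 1128), (883, 688), (884, 1130), (885, 691), (886, 1132), (887, 693), (888, 1072), (889, 1136), (890, 1137), (891, 695), (892, 1139), (893, 697), (894, 698), (895, 895)]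
    ⟨e3 q832 (flp_g L8512) q643, e3 q833 L11597 q1077, e3 q834 L11605 q1078, e3 q835 (flp_g L8533) q645, e3 q836 (flp_g L8542) q647, e3 q837 L8555 q837, e3 q838 L11645 q1083, e3 q839 L8573 q839, e3 q840 (flp_g L8574) q650, e3 q841 L11672 q1086, e3 q842 L8597 q842, e3 q843 (flp_g L8598) q652, e3 q844 (flp_g L11707) q1090, e3 q845 L8620 q845, e3 q846 L8628 q656, e3 q847 (flp_g L11723) q1092, e3 q848 L8642 q848, e3 q849 L8653 q849, e3 q850 L8661 q850, e3 q851 L8667 q851, e3 q852 L8676 q852, e3 q853 (flp_g L9803) q905, e3 q854 (flp_g L9816) q907, e3 q855 (flp_g L10315) q931, e3 q856 L109862 q1008, e3 q857 (flp_g L10333) q933, e3 q858 L109844 q990, e3 q859 (flp_g L10353) q935, e3 q860 (flp_g L108631) q940, e3 q861 L108665 q980, e3 q862 (flp_g L10652) q971, e3 q863 L12308 q1109, e3 q864 (flp_g L10673) q973, e3 q865 L12345 q1112, e3 q866 (flp_g L10694) q975, e3 q867 (flp_g L9089) q672, e3 q868 (flp_g L9109) q673, e3 q869 (flp_g L10752) q981, e3 q870 L12431 q1116, e3 q871 (flp_g L10766) q983, e3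 q872 (flp_g L9154) q677, e3 q873 L12456 q1117, e3 q874 (flp_g L10792) q986, e3 q875 (flp_g L9181) q679, e3 q876 (flp_g L11458) q1060, e3 q877 L12721 q1122, e3 q878 (flp_g L11477) q1062, e3 q879 (flp_g L9381) q686, e3 q880 L12747 q1125, e3 q881 (flp_g L11504) q1065, e3 q882 L12767 q1128, e3 q883 (flp_g L9412) q688, e3 q884 (flp_g L12788) q1130, e3 q885 (flp_g L9428) q691, e3 q886 (flp_g L12806) q1132, e3 q887 L9449 q693, e3 q888 (flp_g L11561) q1072, e3 q889 L12831 q1136, e3 q890 L12838 q1137, e3 q891 (flp_g L9474) q695, e3 q892 L12852 q1139, e3 q893 (flp_g L9489) q697, e3 q894 (flp_g L9495) q698, e3 q895 L9509 q895, trivial⟩ (by decide +kernel)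

theorem ce_g_14 : ∀ r, r < 64 → sm gg (Qf (896 + r)) = Qf (tab Gen.g (896 + r)) :=
  edges_tab (sm gg) Qf (tab Gen.g) 896 [(896, 896), (897, 897), (898, 898), (899, 1011), (900, 900), (901, 901), (902, 1009), (903, 1010), (904, 904), (905, 853), (906, 1007), (907, 854), (908, 989), (909, 992), (910, 910), (911, 1006), (912, 912), (913, 999), (914, 914), (915, 1003), (916, 916), (917, 917), (918, 918), (919, 1170), (920, 920), (921, 921), (922, 922), (923, 1176), (924, 722), (925, 925), (926, 926), (927, 1182), (928, 1184), (929, 929), (930, 726), (931, 855), (932, 1190), (933, 857), (934, 1194), (935, 859), (936, 730), (937, 1197), (938, 731), (939, 1199), (940, 860), (941, 941), (942, 942), (943, 1205), (944, 944), (945, 945), (946, 946), (947, 1211), (948, 738), (949, 949), (950, 950), (951, 1217), (952, 1219), (953, 953), (954, 742), (955, 955), (956, 956), (957, 1227), (958, 1229), (959, 959)]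
    ⟨e3 q896 L9713 q896, e3 q897 L9722 q897, e3 q898 L9728 q898, e3 q899 (flp_g L102010) q1011, e3 q900 L9756 q900, e3 q901 L9763 q901, e3 q902 (flp_g L109745) q1009, e3 q903 L109401 q1010, e3 q904 L9783 q904, e3 q905 L9803 q853, e3 q906 L111441 q1007, e3 q907 L9816 q854, e3 q908 L111455 q989, e3 q909 (flp_g L109239) q992, e3 q910 L9881 q910, e3 q911 L109688 q1006, e3 q912 L9897 q912, e3 q913 L109680 q999, e3 q914 L9913 q914, e3 q915 L109320 q1003, e3 q916 L9954 q916, e3 q917 L10198 q917, e3 q918 L10207 q918, e3 q919 L13831 q1170, e3 q920 L10225 q920, e3 q921 L10233 q921, e3 q922 L10238 q922, e3 q923 L13880 q1176, e3 q924 (flp_g L10252) q722, e3 q925 L10266 q925, e3 q926 L10274 q926, e3 q927 L13931 q1182, e3 q928 L13950 q1184, e3 q929 L10299 q929, e3 q930 (flp_g L10301) q726, e3 q931 L10315 q855, e3 q932 L13998 q1190, e3 q933 L10333 q857, e3 q934 L14033 q1194, e3 q935 L10353 q859, e3 q936 (flp_g L10356) q730, e3 q937 L14061 q1197, e3 q938 (flp_g L10373) q731, e3 q939 (flp_g L14080) q1199,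 e3 q940 L108631 q860, e3 q941 L10402 q941, e3 q942 L10414 q942, e3 q943 L14131 q1205, e3 q944 L10436 q944, e3 q945 L10447 q945, e3 q946 L10454 q946, e3 q947 L14191 q1211, e3 q948 (flp_g L10470) q738, e3 q949 L10488 q949, e3 q950 L10494 q950, e3 q951 L14233 q1217, e3 q952 L14247 q1219, e3 q953 L10513 q953, e3 q954 (flp_g L10515) q742, e3 q955 L10530 q955, e3 q956 L10538 q956, e3 q957 L14316 q1227, e3 q958 L14338 q1229, e3 q959 L10568 q959, trivial⟩ (by decide +kernel)

theorem ce_g_15 : ∀ r, r < 64 → sm gg (Qf (960 + r)) = Qf (tab Gen.g (960 + r)) :=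
  edges_tab (sm gg) Qf (tab Gen.g) 960 [(960, 747), (961, 961), (962, 1235), (963, 963), (964, 1239), (965, 965), (966, 751), (967, 1242), (968, 752), (969, 1244), (970, 970), (971, 862), (972, 1249), (973, 864), (974, 1253), (975, 866), (976, 757), (977, 1256), (978, 758), (979, 1200), (980, 861), (981, 869), (982, 1262), (983, 871), (984, 762), (985, 1266), (986, 874), (987, 1269), (988, 764), (989, 908), (990, 858), (991, 767), (992, 909), (993, 993), (994, 1276), (995, 995), (996, 772), (997, 1280), (998, 998), (999, 913), (1000, 774), (1001, 1285), (1002, 1002), (1003, 915), (1004, 779), (1005, 1289), (1006, 911), (1007, 906), (1008, 856), (1009, 902), (1010, 903), (1011, 899), (1012, 1012), (1013, 1013), (1014, 1298), (1015, 1015), (1016, 1016), (1017, 1017), (1018, 1304), (1019, 793), (1020, 1020), (1021, 1021), (1022, 1310), (1023, 1312)]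
    ⟨e3 q960 (flp_g L10570) q747, e3 q961 L10586 q961, e3 q962 L14384 q1235, e3 q963 L10599 q963, e3 q964 L14412 q1239, e3 q965 L10612 q965, e3 q966 (flp_g L10615) q751, e3 q967 L14434 q1242, e3 q968 (flp_g L10630) q752, e3 q969 (flp_g L14447) q1244, e3 q970 L10645 q970, e3 q971 L10652 q862, e3 q972 L14490 q1249, e3 q973 L10673 q864, e3 q974 L14529 q1253, e3 q975 L10694 q866, e3 q976 (flp_g L10697) q757, e3 q977 L14557 q1256, e3 q978 (flp_g L10717) q758, e3 q979 L87330 q1200, e3 q980 (flp_g L108665) q861, e3 q981 L10752 q869, e3 q982 L14623 q1262, e3 q983 L10766 q871, e3 q984 (flp_g L10770) q762, e3 q985 L14652 q1266, e3 q986 L10792 q874, e3 q987 L14677 q1269, e3 q988 (flp_g L10799) q764, e3 q989 (flp_g L111455) q908, e3 q990 (flp_g L109844) q858, e3 q991 (flp_g L10823) q767, e3 q992 L109239 q909, e3 q993 L10854 q993, e3 q994 L14770 q1276, e3 q995 L10870 q995, e3 q996 (flp_g L10871) q772, e3 q997 L14799 q1280, e3 q998 L10895 q998, e3 q999 (flp_g L109680) q913, e3 q1000 (flp_g L10904) q774,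 e3 q1001 (flp_g L14850) q1285, e3 q1002 L10923 q1002, e3 q1003 (flp_g L109320) q915, e3 q1004 L10943 q779, e3 q1005 (flp_g L14890) q1289, e3 q1006 (flp_g L109688) q911, e3 q1007 (flp_g L111441) q906, e3 q1008 (flp_g L109862) q856, e3 q1009 L109745 q902, e3 q1010 (flp_g L109401) q903, e3 q1011 L102010 q899, e3 q1012 L11093 q1012, e3 q1013 L11102 q1013, e3 q1014 L15083 q1298, e3 q1015 L11116 q1015, e3 q1016 L11125 q1016, e3 q1017 L11132 q1017, e3 q1018 L15129 q1304, e3 q1019 (flp_g L11144) q793, e3 q1020 L11158 q1020, e3 q1021 L11165 q1021, e3 q1022 L15178 q1310, e3 q1023 L15195 q1312, trivial⟩ (by decide +kernel)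

theorem ce_g_16 : ∀ r, r < 64 → sm gg (Qf (1024 + r)) = Qf (tab Gen.g (1024 + r)) :=
  edges_tab (sm gg) Qf (tab Gen.g) 1024 [(1024, 1024), (1025, 797), (1026, 1026), (1027, 1318), (1028, 1028), (1029, 1322), (1030, 1030), (1031, 801), (1032, 1325), (1033, 802), (1034, 1327), (1035, 1035), (1036, 1036), (1037, 1332), (1038, 1038), (1039, 1336), (1040, 1040), (1041, 807), (1042, 1313), (1043, 808), (1044, 1311), (1045, 1045), (1046, 1046), (1047, 1343), (1048, 1048), (1049, 812), (1050, 1347), (1051, 1051), (1052, 1351), (1053, 814), (1054, 1353), (1055, 1055), (1056, 817), (1057, 1328), (1058, 819), (1059, 1326), (1060, 876), (1061, 1359), (1062, 878), (1063, 822), (1064, 1362), (1065, 881), (1066, 1365), (1067, 824), (1068, 1367), (1069, 827), (1070, 1302), (1071, 829), (1072, 888), (1073, 1370), (1074, 1371), (1075, 831), (1076, 1373), (1077, 833), (1078, 834), (1079, 1079), (1080, 1080), (1081, 1377), (1082, 1082), (1083, 838), (1084, 1381), (1085, 1085), (1086, 841), (1087, 1383)]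
    ⟨e3 q1024 L11191 q1024, e3 q1025 (flp_g L11192) q797, e3 q1026 L11206 q1026, e3 q1027 L15242 q1318, e3 q1028 L11218 q1028, e3 q1029 L15270 q1322, e3 q1030 L11232 q1030, e3 q1031 (flp_g L11234) q801, e3 q1032 L15291 q1325, e3 q1033 (flp_g L11248) q802, e3 q1034 (flp_g L15313) q1327, e3 q1035 L11271 q1035, e3 q1036 L11277 q1036, e3 q1037 L15349 q1332, e3 q1038 L11294 q1038, e3 q1039 L15381 q1336, e3 q1040 L11310 q1040, e3 q1041 (flp_g L11312) q807, e3 q1042 (flp_g L120378) q1313, e3 q1043 (flp_g L11330) q808, e3 q1044 L120516 q1311, e3 q1045 L11349 q1045, e3 q1046 L11357 q1046, e3 q1047 L15463 q1343, e3 q1048 L11371 q1048, e3 q1049 (flp_g L11374) q812, e3 q1050 L15494 q1347, e3 q1051 L11393 q1051, e3 q1052 L15516 q1351, e3 q1053 (flp_g L11401) q814, e3 q1054 (flp_g L15537) q1353, e3 q1055 L11423 q1055, e3 q1056 (flp_g L11424) q817, e3 q1057 (flp_g L120480) q1328, e3 q1058 L11442 q819, e3 q1059 (flp_g L120464) q1326, e3 q1060 L11458 q876, e3 q1061 L15614 q1359, e3 q1062 L11477 q878, e3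 q1063 (flp_g L11481) q822, e3 q1064 L15642 q1362, e3 q1065 L11504 q881, e3 q1066 L15666 q1365, e3 q1067 (flp_g L11514) q824, e3 q1068 (flp_g L15688) q1367, e3 q1069 (flp_g L11532) q827, e3 q1070 (flp_g L120300) q1302, e3 q1071 L11554 q829, e3 q1072 L11561 q888, e3 q1073 L15731 q1370, e3 q1074 L15740 q1371, e3 q1075 (flp_g L11580) q831, e3 q1076 L15752 q1373, e3 q1077 (flp_g L11597) q833, e3 q1078 (flp_g L11605) q834, e3 q1079 L11619 q1079, e3 q1080 L11624 q1080, e3 q1081 L15785 q1377, e3 q1082 L11644 q1082, e3 q1083 (flp_g L11645) q838, e3 q1084 (flp_g L15825) q1381, e3 q1085 L11670 q1085, e3 q1086 (flp_g L11672) q841, e3 q1087 (flp_g L15843) q1383, trivial⟩ (by decide +kernel)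

theorem ce_g_17 : ∀ r, r < 64 → sm gg (Qf (1088 + r)) = Qf (tab Gen.g (1088 + r)) :=
  edges_tab (sm gg) Qf (tab Gen.g) 1088 [(1088, 1088), (1089, 1089), (1090, 844), (1091, 1388), (1092, 847), (1093, 1093), (1094, 1094), (1095, 1095), (1096, 1096), (1097, 1097), (1098, 1154), (1099, 1187), (1100, 1264), (1101, 1189), (1102, 1268), (1103, 1192), (1104, 1196), (1105, 1255), (1106, 1246), (1107, 1408), (1108, 1248), (1109, 863), (1110, 1409), (1111, 1251), (1112, 865), (1113, 1258), (1114, 1413), (1115, 1260), (1116, 870), (1117, 873), (1118, 1355), (1119, 1417), (1120, 1357), (1121, 1420), (1122, 877), (1123, 1422), (1124, 1424), (1125, 880), (1126, 1426), (1127, 1364), (1128, 882), (1129, 1430), (1130, 884), (1131, 1131), (1132, 886), (1133, 1297), (1134, 1433), (1135, 1435), (1136, 889), (1137, 890), (1138, 1437), (1139, 892), (1140, 1140), (1141, 1141), (1142, 1142), (1143, 1293), (1144, 1292), (1145, 1145), (1146, 1146), (1147, 1290), (1148, 1148), (1149, 1291), (1150, 1150), (1151,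 1271)]
    ⟨e3 q1088 L11691 q1088, e3 q1089 L11699 q1089, e3 q1090 L11707 q844, e3 q1091 (flp_g L15877) q1388, e3 q1092 L11723 q847, e3 q1093 L11733 q1093, e3 q1094 L11739 q1094, e3 q1095 L11749 q1095, e3 q1096 L11755 q1096, e3 q1097 L11764 q1097, e3 q1098 (flp_g L13254) q1154, e3 q1099 (flp_g L13976) q1187, e3 q1100 L111655 q1264, e3 q1101 (flp_g L13995) q1189, e3 q1102 L111661 q1268, e3 q1103 (flp_g L14023) q1192, e3 q1104 L111083 q1196, e3 q1105 L111636 q1255, e3 q1106 (flp_g L14463) q1246, e3 q1107 L16702 q1408, e3 q1108 (flp_g L14487) q1248, e3 q1109 (flp_g L12308) q863, e3 q1110 L16741 q1409, e3 q1111 (flp_g L14519) q1251, e3 q1112 (flp_g L12345) q865, e3 q1113 (flp_g L14599) q1258, e3 q1114 L16872 q1413, e3 q1115 (flp_g L14616) q1260, e3 q1116 (flp_g L12431) q870, e3 q1117 (flp_g L12456) q873, e3 q1118 (flp_g L15582) q1355, e3 q1119 L17241 q1417, e3 q1120 (flp_g L15603) q1357, e3 q1121 L17264 q1420, e3 q1122 (flp_g L12721) q877, e3 q1123 (flp_g L17288) q1422, e3 q1124 L17299 q1424,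 e3 q1125 (flp_g L12747) q880, e3 q1126 (flp_g L17322) q1426, e3 q1127 (flp_g L15662) q1364, e3 q1128 (flp_g L12767) q882, e3 q1129 (flp_g L17352) q1430, e3 q1130 L12788 q884, e3 q1131 L12799 q1131, e3 q1132 L12806 q886, e3 q1133 (flp_g L120193) q1297, e3 q1134 L17395 q1433, e3 q1135 L17408 q1435, e3 q1136 (flp_g L12831) q889, e3 q1137 (flp_g L12838) q890, e3 q1138 L17425 q1437, e3 q1139 (flp_g L12852) q892, e3 q1140 L12866 q1140, e3 q1141 L13138 q1141, e3 q1142 L13144 q1142, e3 q1143 (flp_g L100799) q1293, e3 q1144 (flp_g L109273) q1292, e3 q1145 L13166 q1145, e3 q1146 L13183 q1146, e3 q1147 L109703 q1290, e3 q1148 L13197 q1148, e3 q1149 L109695 q1291, e3 q1150 L13209 q1150, e3 q1151 L109226 q1271, trivial⟩ (by decide +kernel)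

theorem ce_g_18 : ∀ r, r < 64 → sm gg (Qf (1152 + r)) = Qf (tab Gen.g (1152 + r)) :=
  edges_tab (sm gg) Qf (tab Gen.g) 1152 [(1152, 1287), (1153, 1153), (1154, 1098), (1155, 1263), (1156, 1267), (1157, 1270), (1158, 1158), (1159, 1275), (1160, 1160), (1161, 1279), (1162, 1162), (1163, 1284), (1164, 1164), (1165, 1288), (1166, 1166), (1167, 1167), (1168, 1168), (1169, 1475), (1170, 919), (1171, 1171), (1172, 1172), (1173, 1481), (1174, 1483), (1175, 1175), (1176, 923), (1177, 1177), (1178, 1489), (1179, 1179), (1180, 1493), (1181, 1181), (1182, 927), (1183, 1496), (1184, 928), (1185, 1498), (1186, 1186), (1187, 1099), (1188, 1504), (1189, 1101), (1190, 932), (1191, 1508), (1192, 1103), (1193, 1512), (1194, 934), (1195, 1514), (1196, 1104), (1197, 937), (1198, 1517), (1199, 939), (1200, 979), (1201, 1201), (1202, 1202), (1203, 1203), (1204, 1524), (1205, 943), (1206, 1206), (1207, 1207), (1208, 1530), (1209, 1532), (1210, 1210), (1211, 947), (1212, 1212), (1213, 1538), (1214, 1214), (1215,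 1542)]
    ⟨e3 q1152 (flp_g L86671) q1287, e3 q1153 L13249 q1153, e3 q1154 L13254 q1098, e3 q1155 (flp_g L83702) q1263, e3 q1156 (flp_g L110956) q1267, e3 q1157 (flp_g L111420) q1270, e3 q1158 L13366 q1158, e3 q1159 L98881 q1275, e3 q1160 L13385 q1160, e3 q1161 L99238 q1279, e3 q1162 L13410 q1162, e3 q1163 L99264 q1284, e3 q1164 L13438 q1164, e3 q1165 L109347 q1288, e3 q1166 L13804 q1166, e3 q1167 L13813 q1167, e3 q1168 L13819 q1168, e3 q1169 L18774 q1475, e3 q1170 (flp_g L13831) q919, e3 q1171 L13845 q1171, e3 q1172 L13852 q1172, e3 q1173 L18825 q1481, e3 q1174 L18843 q1483, e3 q1175 L13879 q1175, e3 q1176 (flp_g L13880) q923, e3 q1177 L13892 q1177, e3 q1178 L18893 q1489, e3 q1179 L13911 q1179, e3 q1180 L18928 q1493, e3 q1181 L13929 q1181, e3 q1182 (flp_g L13931) q927, e3 q1183 L18954 q1496, e3 q1184 (flp_g L13950) q928, e3 q1185 (flp_g L18971) q1498, e3 q1186 L13967 q1186, e3 q1187 L13976 q1099, e3 q1188 L19018 q1504, e3 q1189 L13995 q1101, e3 q1190 (flp_g L13998) q932, e3 q1191 L19055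 q1508, e3 q1192 L14023 q1103, e3 q1193 L19091 q1512, e3 q1194 (flp_g L14033) q934, e3 q1195 (flp_g L19113) q1514, e3 q1196 (flp_g L111083) q1104, e3 q1197 (flp_g L14061) q937, e3 q1198 (flp_g L19139) q1517, e3 q1199 L14080 q939, e3 q1200 (flp_g L87330) q979, e3 q1201 L14097 q1201, e3 q1202 L14109 q1202, e3 q1203 L14117 q1203, e3 q1204 L19211 q1524, e3 q1205 (flp_g L14131) q943, e3 q1206 L14151 q1206, e3 q1207 L14158 q1207, e3 q1208 L19270 q1530, e3 q1209 L19291 q1532, e3 q1210 L14190 q1210, e3 q1211 (flp_g L14191) q947, e3 q1212 L14205 q1212, e3 q1213 L19340 q1538, e3 q1214 L14216 q1214, e3 q1215 L19369 q1542, trivial⟩ (by decide +kernel)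

theorem ce_g_19 : ∀ r, r < 64 → sm gg (Qf (1216 + r)) = Qf (tab Gen.g (1216 + r)) :=
  edges_tab (sm gg) Qf (tab Gen.g) 1216 [(1216, 1216), (1217, 951), (1218, 1545), (1219, 952), (1220, 1547), (1221, 1221), (1222, 1222), (1223, 1552), (1224, 1224), (1225, 1556), (1226, 1226), (1227, 957), (1228, 1559), (1229, 958), (1230, 1561), (1231, 1231), (1232, 1232), (1233, 1567), (1234, 1234), (1235, 962), (1236, 1571), (1237, 1237), (1238, 1575), (1239, 964), (1240, 1577), (1241, 1241), (1242, 967), (1243, 1580), (1244, 969), (1245, 1583), (1246, 1106), (1247, 1588), (1248, 1108), (1249, 972), (1250, 1592), (1251, 1111), (1252, 1596), (1253, 974), (1254, 1515), (1255, 1105), (1256, 977), (1257, 1516), (1258, 1113), (1259, 1601), (1260, 1115), (1261, 1604), (1262, 982), (1263, 1155), (1264, 1100), (1265, 1607), (1266, 985), (1267, 1156), (1268, 1102), (1269, 987), (1270, 1157), (1271, 1151), (1272, 1272), (1273, 1614), (1274, 1274), (1275, 1159), (1276, 994), (1277, 1619), (1278, 1278), (1279, 1161)]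
    ⟨e3 q1216 L14231 q1216, e3 q1217 (flp_g L14233) q951, e3 q1218 L19389 q1545, e3 q1219 (flp_g L14247) q952, e3 q1220 (flp_g L19407) q1547, e3 q1221 L14266 q1221, e3 q1222 L14273 q1222, e3 q1223 L19448 q1552, e3 q1224 L14295 q1224, e3 q1225 L19487 q1556, e3 q1226 L14314 q1226, e3 q1227 (flp_g L14316) q957, e3 q1228 L19513 q1559, e3 q1229 (flp_g L14338) q958, e3 q1230 (flp_g L19536) q1561, e3 q1231 L14361 q1231, e3 q1232 L14368 q1232, e3 q1233 L19574 q1567, e3 q1234 L14381 q1234, e3 q1235 (flp_g L14384) q962, e3 q1236 L19600 q1571, e3 q1237 L14405 q1237, e3 q1238 L19625 q1575, e3 q1239 (flp_g L14412) q964, e3 q1240 (flp_g L19644) q1577, e3 q1241 L14433 q1241, e3 q1242 (flp_g L14434) q967, e3 q1243 (flp_g L19665) q1580, e3 q1244 L14447 q969, e3 q1245 (flp_g L19682) q1583, e3 q1246 L14463 q1106, e3 q1247 L19727 q1588, e3 q1248 L14487 q1108, e3 q1249 (flp_g L14490) q972, e3 q1250 L19770 q1592, e3 q1251 L14519 q1111, e3 q1252 L19807 q1596, e3 q1253 (flp_g L14529) q974, e3 q1254 (flp_g L110772)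 q1515, e3 q1255 (flp_g L111636) q1105, e3 q1256 (flp_g L14557) q977, e3 q1257 (flp_g L108901) q1516, e3 q1258 L14599 q1113, e3 q1259 L19912 q1601, e3 q1260 L14616 q1115, e3 q1261 L19940 q1604, e3 q1262 (flp_g L14623) q982, e3 q1263 L83702 q1155, e3 q1264 (flp_g L111655) q1100, e3 q1265 L19975 q1607, e3 q1266 (flp_g L14652) q985, e3 q1267 L110956 q1156, e3 q1268 (flp_g L111661) q1102, e3 q1269 (flp_g L14677) q987, e3 q1270 L111420 q1157, e3 q1271 (flp_g L109226) q1151, e3 q1272 L14742 q1272, e3 q1273 L20098 q1614, e3 q1274 L14761 q1274, e3 q1275 (flp_g L98881) q1159, e3 q1276 (flp_g L14770) q994, e3 q1277 (flp_g L20153) q1619, e3 q1278 L14789 q1278, e3 q1279 (flp_g L99238) q1161, trivial⟩ (by decide +kernel)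

theorem ce_g_20 : ∀ r, r < 64 → sm gg (Qf (1280 + r)) = Qf (tab Gen.g (1280 + r)) :=
  edges_tab (sm gg) Qf (tab Gen.g) 1280 [(1280, 997), (1281, 1622), (1282, 1282), (1283, 1283), (1284, 1163), (1285, 1001), (1286, 1629), (1287, 1152), (1288, 1165), (1289, 1005), (1290, 1147), (1291, 1149), (1292, 1144), (1293, 1143), (1294, 1294), (1295, 1295), (1296, 1296), (1297, 1133), (1298, 1014), (1299, 1299), (1300, 1300), (1301, 1644), (1302, 1070), (1303, 1303), (1304, 1018), (1305, 1305), (1306, 1648), (1307, 1307), (1308, 1652), (1309, 1309), (1310, 1022), (1311, 1044), (1312, 1023), (1313, 1042), (1314, 1314), (1315, 1315), (1316, 1659), (1317, 1317), (1318, 1027), (1319, 1663), (1320, 1320), (1321, 1667), (1322, 1029), (1323, 1669), (1324, 1324), (1325, 1032), (1326, 1059), (1327, 1034), (1328, 1057), (1329, 1329), (1330, 1675), (1331, 1331), (1332, 1037), (1333, 1679), (1334, 1334), (1335, 1653), (1336, 1039), (1337, 1651), (1338, 1338), (1339, 1339), (1340, 1686), (1341, 1341), (1342, 1690),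 (1343, 1047)]
    ⟨e3 q1280 (flp_g L14799) q997, e3 q1281 (flp_g L20185) q1622, e3 q1282 L14818 q1282, e3 q1283 L14827 q1283, e3 q1284 (flp_g L99264) q1163, e3 q1285 L14850 q1001, e3 q1286 (flp_g L20252) q1629, e3 q1287 L86671 q1152, e3 q1288 (flp_g L109347) q1165, e3 q1289 L14890 q1005, e3 q1290 (flp_g L109703) q1147, e3 q1291 (flp_g L109695) q1149, e3 q1292 L109273 q1144, e3 q1293 L100799 q1143, e3 q1294 L15055 q1294, e3 q1295 L15064 q1295, e3 q1296 L15070 q1296, e3 q1297 L120193 q1133, e3 q1298 (flp_g L15083) q1014, e3 q1299 L15097 q1299, e3 q1300 L15105 q1300, e3 q1301 L20557 q1644, e3 q1302 L120300 q1070, e3 q1303 L15126 q1303, e3 q1304 (flp_g L15129) q1018, e3 q1305 L15144 q1305, e3 q1306 L20620 q1648, e3 q1307 L15159 q1307, e3 q1308 L20653 q1652, e3 q1309 L15177 q1309, e3 q1310 (flp_g L15178) q1022, e3 q1311 (flp_g L120516) q1044, e3 q1312 (flp_g L15195) q1023, e3 q1313 L120378 q1042, e3 q1314 L15218 q1314, e3 q1315 L15226 q1315, e3 q1316 L20739 q1659, e3 q1317 L15240 q1317, e3 q1318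 (flp_g L15242) q1027, e3 q1319 L20770 q1663, e3 q1320 L15263 q1320, e3 q1321 L20799 q1667, e3 q1322 (flp_g L15270) q1029, e3 q1323 (flp_g L20818) q1669, e3 q1324 L15290 q1324, e3 q1325 (flp_g L15291) q1032, e3 q1326 L120464 q1059, e3 q1327 L15313 q1034, e3 q1328 L120480 q1057, e3 q1329 L15329 q1329, e3 q1330 L20902 q1675, e3 q1331 L15347 q1331, e3 q1332 (flp_g L15349) q1037, e3 q1333 L20937 q1679, e3 q1334 L15371 q1334, e3 q1335 L119849 q1653, e3 q1336 (flp_g L15381) q1039, e3 q1337 (flp_g L120367) q1651, e3 q1338 L15403 q1338, e3 q1339 L15439 q1339, e3 q1340 L21055 q1686, e3 q1341 L15454 q1341, e3 q1342 L21085 q1690, e3 q1343 (flp_g L15463) q1047, trivial⟩ (by decide +kernel)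

theorem ce_g_21 : ∀ r, r < 64 → sm gg (Qf (1344 + r)) = Qf (tab Gen.g (1344 + r)) :=
  edges_tab (sm gg) Qf (tab Gen.g) 1344 [(1344, 1692), (1345, 1345), (1346, 1695), (1347, 1050), (1348, 1697), (1349, 1349), (1350, 1350), (1351, 1052), (1352, 1670), (1353, 1054), (1354, 1668), (1355, 1118), (1356, 1705), (1357, 1120), (1358, 1708), (1359, 1061), (1360, 1710), (1361, 1712), (1362, 1064), (1363, 1714), (1364, 1127), (1365, 1066), (1366, 1642), (1367, 1068), (1368, 1718), (1369, 1720), (1370, 1073), (1371, 1074), (1372, 1722), (1373, 1076), (1374, 1374), (1375, 1725), (1376, 1376), (1377, 1081), (1378, 1729), (1379, 1379), (1380, 1380), (1381, 1084), (1382, 1734), (1383, 1087), (1384, 1735), (1385, 1736), (1386, 1386), (1387, 1387), (1388, 1091), (1389, 1389), (1390, 1390), (1391, 1391), (1392, 1392), (1393, 1748), (1394, 1394), (1395, 1395), (1396, 1457), (1397, 1500), (1398, 1603), (1399, 1502), (1400, 1506), (1401, 1590), (1402, 1511), (1403, 1595), (1404, 1510), (1405, 1584), (1406,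 1760), (1407, 1586)]
    ⟨e3 q1344 (flp_g L21109) q1692, e3 q1345 L15488 q1345, e3 q1346 L21127 q1695, e3 q1347 (flp_g L15494) q1050, e3 q1348 (flp_g L21145) q1697, e3 q1349 L15507 q1349, e3 q1350 L15515 q1350, e3 q1351 (flp_g L15516) q1052, e3 q1352 (flp_g L119912) q1670, e3 q1353 L15537 q1054, e3 q1354 (flp_g L120632) q1668, e3 q1355 L15582 q1118, e3 q1356 L21249 q1705, e3 q1357 L15603 q1120, e3 q1358 L21276 q1708, e3 q1359 (flp_g L15614) q1061, e3 q1360 (flp_g L21301) q1710, e3 q1361 L21311 q1712, e3 q1362 (flp_g L15642) q1064, e3 q1363 (flp_g L21336) q1714, e3 q1364 L15662 q1127, e3 q1365 (flp_g L15666) q1066, e3 q1366 L120277 q1642, e3 q1367 L15688 q1068, e3 q1368 L21411 q1718, e3 q1369 L21425 q1720, e3 q1370 (flp_g L15731) q1073, e3 q1371 (flp_g L15740) q1074, e3 q1372 L21443 q1722, e3 q1373 (flp_g L15752) q1076, e3 q1374 L15767 q1374, e3 q1375 L21462 q1725, e3 q1376 L15784 q1376, e3 q1377 (flp_g L15785) q1081, e3 q1378 (flp_g L21504) q1729, e3 q1379 L15807 q1379, e3 q1380 L15816 q1380,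 e3 q1381 L15825 q1084, e3 q1382 (flp_g L21543) q1734, e3 q1383 L15843 q1087, e3 q1384 (flp_g L21550) q1735, e3 q1385 (flp_g L21559) q1736, e3 q1386 L15862 q1386, e3 q1387 L15870 q1387, e3 q1388 L15877 q1091, e3 q1389 L15886 q1389, e3 q1390 L15895 q1390, e3 q1391 L15902 q1391, e3 q1392 L15912 q1392, e3 q1393 L21639 q1748, e3 q1394 L15925 q1394, e3 q1395 L15931 q1395, e3 q1396 (flp_g L17972) q1457, e3 q1397 (flp_g L18986) q1500, e3 q1398 (flp_g L112038) q1603, e3 q1399 (flp_g L19008) q1502, e3 q1400 L106087 q1506, e3 q1401 (flp_g L111616) q1590, e3 q1402 (flp_g L111170) q1511, e3 q1403 L111641 q1595, e3 q1404 (flp_g L19075) q1510, e3 q1405 (flp_g L19690) q1584, e3 q1406 L22704 q1760, e3 q1407 (flp_g L19715) q1586, trivial⟩ (by decide +kernel)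

theorem ce_g_22 : ∀ r, r < 64 → sm gg (Qf (1408 + r)) = Qf (tab Gen.g (1408 + r)) :=
  edges_tab (sm gg) Qf (tab Gen.g) 1408 [(1408, 1107), (1409, 1110), (1410, 1594), (1411, 1762), (1412, 1599), (1413, 1114), (1414, 1764), (1415, 1703), (1416, 1768), (1417, 1119), (1418, 1770), (1419, 1707), (1420, 1121), (1421, 1774), (1422, 1123), (1423, 1776), (1424, 1124), (1425, 1778), (1426, 1126), (1427, 1779), (1428, 1716), (1429, 1429), (1430, 1129), (1431, 1638), (1432, 1781), (1433, 1134), (1434, 1782), (1435, 1135), (1436, 1436), (1437, 1138), (1438, 1438), (1439, 1439), (1440, 1635), (1441, 1441), (1442, 1634), (1443, 1443), (1444, 1610), (1445, 1630), (1446, 1446), (1447, 1447), (1448, 1632), (1449, 1449), (1450, 1633), (1451, 1451), (1452, 1609), (1453, 1627), (1454, 1454), (1455, 1581), (1456, 1631), (1457, 1396), (1458, 1602), (1459, 1605), (1460, 1608), (1461, 1461), (1462, 1613), (1463, 1463), (1464, 1618), (1465, 1465), (1466, 1621), (1467, 1467), (1468, 1468), (1469, 1628), (1470,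 1470), (1471, 1471)]
    ⟨e3 q1408 (flp_g L16702) q1107, e3 q1409 (flp_g L16741) q1110, e3 q1410 (flp_g L19791) q1594, e3 q1411 L22942 q1762, e3 q1412 (flp_g L19903) q1599, e3 q1413 (flp_g L16872) q1114, e3 q1414 L23409 q1764, e3 q1415 (flp_g L21237) q1703, e3 q1416 L23440 q1768, e3 q1417 (flp_g L17241) q1119, e3 q1418 (flp_g L23466) q1770, e3 q1419 (flp_g L21272) q1707, e3 q1420 (flp_g L17264) q1121, e3 q1421 (flp_g L23500) q1774, e3 q1422 L17288 q1123, e3 q1423 L23512 q1776, e3 q1424 (flp_g L17299) q1124, e3 q1425 (flp_g L23540) q1778, e3 q1426 L17322 q1126, e3 q1427 (flp_g L23551) q1779, e3 q1428 (flp_g L21350) q1716, e3 q1429 L17345 q1429, e3 q1430 L17352 q1129, e3 q1431 (flp_g L115935) q1638, e3 q1432 L23619 q1781, e3 q1433 (flp_g L17395) q1134, e3 q1434 L23628 q1782, e3 q1435 (flp_g L17408) q1135, e3 q1436 L17424 q1436, e3 q1437 (flp_g L17425) q1138, e3 q1438 L17443 q1438, e3 q1439 L17796 q1439, e3 q1440 L103206 q1635, e3 q1441 L17808 q1441, e3 q1442 (flp_g L104069) q1634, e3 q1443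 L17822 q1443, e3 q1444 (flp_g L109247) q1610, e3 q1445 L109324 q1630, e3 q1446 L17864 q1446, e3 q1447 L17869 q1447, e3 q1448 (flp_g L104681) q1632, e3 q1449 L17885 q1449, e3 q1450 (flp_g L91990) q1633, e3 q1451 L17909 q1451, e3 q1452 (flp_g L109254) q1609, e3 q1453 L109327 q1627, e3 q1454 L17937 q1454, e3 q1455 L109314 q1581, e3 q1456 (flp_g L109335) q1631, e3 q1457 L17972 q1396, e3 q1458 (flp_g L112065) q1602, e3 q1459 L111435 q1605, e3 q1460 L110826 q1608, e3 q1461 L18137 q1461, e3 q1462 (flp_g L98514) q1613, e3 q1463 L18157 q1463, e3 q1464 L98681 q1618, e3 q1465 L18193 q1465, e3 q1466 (flp_g L99205) q1621, e3 q1467 L18220 q1467, e3 q1468 L18228 q1468, e3 q1469 L99277 q1628, e3 q1470 L18741 q1470, e3 q1471 L18749 q1471, trivial⟩ (by decide +kernel)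

theorem ce_g_23 : ∀ r, r < 64 → sm gg (Qf (1472 + r)) = Qf (tab Gen.g (1472 + r)) :=
  edges_tab (sm gg) Qf (tab Gen.g) 1472 [(1472, 1826), (1473, 1828), (1474, 1474), (1475, 1169), (1476, 1476), (1477, 1834), (1478, 1478), (1479, 1838), (1480, 1480), (1481, 1173), (1482, 1841), (1483, 1174), (1484, 1843), (1485, 1485), (1486, 1486), (1487, 1849), (1488, 1488), (1489, 1178), (1490, 1853), (1491, 1491), (1492, 1857), (1493, 1180), (1494, 1859), (1495, 1495), (1496, 1183), (1497, 1862), (1498, 1185), (1499, 1865), (1500, 1397), (1501, 1869), (1502, 1399), (1503, 1873), (1504, 1188), (1505, 1875), (1506, 1400), (1507, 1878), (1508, 1191), (1509, 1880), (1510, 1404), (1511, 1402), (1512, 1193), (1513, 1885), (1514, 1195), (1515, 1254), (1516, 1257), (1517, 1198), (1518, 1887), (1519, 1519), (1520, 1520), (1521, 1894), (1522, 1896), (1523, 1523), (1524, 1204), (1525, 1525), (1526, 1902), (1527, 1527), (1528, 1906), (1529, 1529), (1530, 1208), (1531, 1909), (1532, 1209), (1533, 1911), (1534,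 1534), (1535, 1535)]
    ⟨e3 q1472 L25474 q1826, e3 q1473 L25490 q1828, e3 q1474 L18771 q1474, e3 q1475 (flp_g L18774) q1169, e3 q1476 L18787 q1476, e3 q1477 L25537 q1834, e3 q1478 L18804 q1478, e3 q1479 L25573 q1838, e3 q1480 L18824 q1480, e3 q1481 (flp_g L18825) q1173, e3 q1482 L25597 q1841, e3 q1483 (flp_g L18843) q1174, e3 q1484 (flp_g L25619) q1843, e3 q1485 L18864 q1485, e3 q1486 L18873 q1486, e3 q1487 L25665 q1849, e3 q1488 L18891 q1488, e3 q1489 (flp_g L18893) q1178, e3 q1490 L25699 q1853, e3 q1491 L18917 q1491, e3 q1492 L25727 q1857, e3 q1493 (flp_g L18928) q1180, e3 q1494 (flp_g L25750) q1859, e3 q1495 L18951 q1495, e3 q1496 (flp_g L18954) q1183, e3 q1497 (flp_g L25775) q1862, e3 q1498 L18971 q1185, e3 q1499 (flp_g L25796) q1865, e3 q1500 L18986 q1397, e3 q1501 L25827 q1869, e3 q1502 L19008 q1399, e3 q1503 L25867 q1873, e3 q1504 (flp_g L19018) q1188, e3 q1505 (flp_g L25889) q1875, e3 q1506 (flp_g L106087) q1400, e3 q1507 L25909 q1878, e3 q1508 (flp_g L19055) q1191, e3 q1509 (flp_g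 L25934) q1880, e3 q1510 L19075 q1404, e3 q1511 L111170 q1402, e3 q1512 (flp_g L19091) q1193, e3 q1513 (flp_g L25977) q1885, e3 q1514 L19113 q1195, e3 q1515 L110772 q1254, e3 q1516 L108901 q1257, e3 q1517 L19139 q1198, e3 q1518 (flp_g L26018) q1887, e3 q1519 L19173 q1519, e3 q1520 L19181 q1520, e3 q1521 L26087 q1894, e3 q1522 L26106 q1896, e3 q1523 L19208 q1523, e3 q1524 (flp_g L19211) q1204, e3 q1525 L19228 q1525, e3 q1526 L26164 q1902, e3 q1527 L19248 q1527, e3 q1528 L26204 q1906, e3 q1529 L19269 q1529, e3 q1530 (flp_g L19270) q1208, e3 q1531 L26228 q1909, e3 q1532 (flp_g L19291) q1209, e3 q1533 (flp_g L26256) q1911, e3 q1534 L19318 q1534, e3 q1535 L19325 q1535, trivial⟩ (by decide +kernel)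

theorem ce_g_24 : ∀ r, r < 64 → sm gg (Qf (1536 + r)) = Qf (tab Gen.g (1536 + r)) :=
  edges_tab (sm gg) Qf (tab Gen.g) 1536 [(1536, 1917), (1537, 1537), (1538, 1213), (1539, 1921), (1540, 1540), (1541, 1925), (1542, 1215), (1543, 1927), (1544, 1544), (1545, 1218), (1546, 1930), (1547, 1220), (1548, 1933), (1549, 1549), (1550, 1938), (1551, 1551), (1552, 1223), (1553, 1942), (1554, 1554), (1555, 1946), (1556, 1225), (1557, 1948), (1558, 1558), (1559, 1228), (1560, 1950), (1561, 1230), (1562, 1953), (1563, 1563), (1564, 1957), (1565, 1565), (1566, 1961), (1567, 1233), (1568, 1963), (1569, 1569), (1570, 1966), (1571, 1236), (1572, 1968), (1573, 1573), (1574, 1574), (1575, 1238), (1576, 1974), (1577, 1240), (1578, 1977), (1579, 1861), (1580, 1243), (1581, 1455), (1582, 1978), (1583, 1245), (1584, 1405), (1585, 1984), (1586, 1407), (1587, 1988), (1588, 1247), (1589, 1876), (1590, 1401), (1591, 1991), (1592, 1250), (1593, 1882), (1594, 1410), (1595, 1403), (1596, 1252), (1597, 1884), (1598,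 1996), (1599, 1412)]
    ⟨e3 q1536 L26295 q1917, e3 q1537 L19338 q1537, e3 q1538 (flp_g L19340) q1213, e3 q1539 L26321 q1921, e3 q1540 L19363 q1540, e3 q1541 L26353 q1925, e3 q1542 (flp_g L19369) q1215, e3 q1543 (flp_g L26371) q1927, e3 q1544 L19388 q1544, e3 q1545 (flp_g L19389) q1218, e3 q1546 (flp_g L26393) q1930, e3 q1547 L19407 q1220, e3 q1548 (flp_g L26411) q1933, e3 q1549 L19423 q1549, e3 q1550 L26455 q1938, e3 q1551 L19446 q1551, e3 q1552 (flp_g L19448) q1223, e3 q1553 L26495 q1942, e3 q1554 L19476 q1554, e3 q1555 L26525 q1946, e3 q1556 (flp_g L19487) q1225, e3 q1557 (flp_g L26548) q1948, e3 q1558 L19510 q1558, e3 q1559 (flp_g L19513) q1228, e3 q1560 (flp_g L26577) q1950, e3 q1561 L19536 q1230, e3 q1562 (flp_g L26604) q1953, e3 q1563 L19552 q1563, e3 q1564 L26625 q1957, e3 q1565 L19567 q1565, e3 q1566 L26658 q1961, e3 q1567 (flp_g L19574) q1233, e3 q1568 (flp_g L26677) q1963, e3 q1569 L19595 q1569, e3 q1570 L26695 q1966, e3 q1571 (flp_g L19600) q1236, e3 q1572 (flp_g L26712) q1968,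 e3 q1573 L19615 q1573, e3 q1574 L19624 q1574, e3 q1575 (flp_g L19625) q1238, e3 q1576 (flp_g L26755) q1974, e3 q1577 L19644 q1240, e3 q1578 (flp_g L26778) q1977, e3 q1579 (flp_g L25769) q1861, e3 q1580 L19665 q1243, e3 q1581 (flp_g L109314) q1455, e3 q1582 (flp_g L26797) q1978, e3 q1583 L19682 q1245, e3 q1584 L19690 q1405, e3 q1585 L26843 q1984, e3 q1586 L19715 q1407, e3 q1587 L26884 q1988, e3 q1588 (flp_g L19727) q1247, e3 q1589 (flp_g L111501) q1876, e3 q1590 L111616 q1401, e3 q1591 L26935 q1991, e3 q1592 (flp_g L19770) q1250, e3 q1593 L111164 q1882, e3 q1594 L19791 q1410, e3 q1595 (flp_g L111641) q1403, e3 q1596 (flp_g L19807) q1252, e3 q1597 (flp_g L110757) q1884, e3 q1598 L27095 q1996, e3 q1599 L19903 q1412, trivial⟩ (by decide +kernel)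

theorem ce_g_25 : ∀ r, r < 64 → sm gg (Qf (1600 + r)) = Qf (tab Gen.g (1600 + r)) :=
  edges_tab (sm gg) Qf (tab Gen.g) 1600 [(1600, 2000), (1601, 1259), (1602, 1458), (1603, 1398), (1604, 1261), (1605, 1459), (1606, 2003), (1607, 1265), (1608, 1460), (1609, 1452), (1610, 1444), (1611, 2009), (1612, 1612), (1613, 1462), (1614, 1273), (1615, 2014), (1616, 1616), (1617, 1617), (1618, 1464), (1619, 1277), (1620, 2021), (1621, 1466), (1622, 1281), (1623, 2024), (1624, 2025), (1625, 1625), (1626, 1626), (1627, 1453), (1628, 1469), (1629, 1286), (1630, 1445), (1631, 1456), (1632, 1448), (1633, 1450), (1634, 1442), (1635, 1440), (1636, 1636), (1637, 1637), (1638, 1431), (1639, 1639), (1640, 2044), (1641, 1641), (1642, 1366), (1643, 1643), (1644, 1301), (1645, 1645), (1646, 2051), (1647, 1647), (1648, 1306), (1649, 2055), (1650, 1650), (1651, 1337), (1652, 1308), (1653, 1335), (1654, 1654), (1655, 1655), (1656, 2062), (1657, 1657), (1658, 2066), (1659, 1316), (1660, 2068), (1661, 1661), (1662,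 2071), (1663, 1319)]
    ⟨e3 q1600 L27126 q2000, e3 q1601 (flp_g L19912) q1259, e3 q1602 L112065 q1458, e3 q1603 L112038 q1398, e3 q1604 (flp_g L19940) q1261, e3 q1605 (flp_g L111435) q1459, e3 q1606 L27198 q2003, e3 q1607 (flp_g L19975) q1265, e3 q1608 (flp_g L110826) q1460, e3 q1609 L109254 q1452, e3 q1610 L109247 q1444, e3 q1611 L27333 q2009, e3 q1612 L20088 q1612, e3 q1613 L98514 q1462, e3 q1614 (flp_g L20098) q1273, e3 q1615 (flp_g L27391) q2014, e3 q1616 L20120 q1616, e3 q1617 L20130 q1617, e3 q1618 (flp_g L98681) q1464, e3 q1619 L20153 q1277, e3 q1620 (flp_g L27462) q2021, e3 q1621 L99205 q1466, e3 q1622 L20185 q1281, e3 q1623 (flp_g L27501) q2024, e3 q1624 (flp_g L27511) q2025, e3 q1625 L20205 q1625, e3 q1626 L20214 q1626, e3 q1627 (flp_g L109327) q1453, e3 q1628 (flp_g L99277) q1469, e3 q1629 L20252 q1286, e3 q1630 (flp_g L109324) q1445, e3 q1631 L109335 q1456, e3 q1632 L104681 q1448, e3 q1633 L91990 q1450, e3 q1634 L104069 q1442, e3 q1635 (flp_g L103206) q1440, e3 q1636 L20479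 q1636, e3 q1637 L20486 q1637, e3 q1638 L115935 q1431, e3 q1639 L20527 q1639, e3 q1640 L27957 q2044, e3 q1641 L20540 q1641, e3 q1642 (flp_g L120277) q1366, e3 q1643 L20554 q1643, e3 q1644 (flp_g L20557) q1301, e3 q1645 L20601 q1645, e3 q1646 L28075 q2051, e3 q1647 L20619 q1647, e3 q1648 (flp_g L20620) q1306, e3 q1649 L28110 q2055, e3 q1650 L20644 q1650, e3 q1651 L120367 q1337, e3 q1652 (flp_g L20653) q1308, e3 q1653 (flp_g L119849) q1335, e3 q1654 L20673 q1654, e3 q1655 L20714 q1655, e3 q1656 L28240 q2062, e3 q1657 L20731 q1657, e3 q1658 L28269 q2066, e3 q1659 (flp_g L20739) q1316, e3 q1660 (flp_g L28291) q2068, e3 q1661 L20762 q1661, e3 q1662 L28308 q2071, e3 q1663 (flp_g L20770) q1319, trivial⟩ (by decide +kernel)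

theorem ce_g_26 : ∀ r, r < 64 → sm gg (Qf (1664 + r)) = Qf (tab Gen.g (1664 + r)) :=
  edges_tab (sm gg) Qf (tab Gen.g) 1664 [(1664, 2073), (1665, 1665), (1666, 1666), (1667, 1321), (1668, 1354), (1669, 1323), (1670, 1352), (1671, 1671), (1672, 2081), (1673, 1673), (1674, 2052), (1675, 1330), (1676, 2050), (1677, 1677), (1678, 2056), (1679, 1333), (1680, 2054), (1681, 1681), (1682, 1682), (1683, 2090), (1684, 1684), (1685, 2095), (1686, 1340), (1687, 2097), (1688, 1688), (1689, 1689), (1690, 1342), (1691, 2069), (1692, 1344), (1693, 2067), (1694, 2102), (1695, 1346), (1696, 2075), (1697, 1348), (1698, 2105), (1699, 2072), (1700, 1700), (1701, 1701), (1702, 2112), (1703, 1415), (1704, 2116), (1705, 1356), (1706, 2118), (1707, 1419), (1708, 1358), (1709, 2042), (1710, 1360), (1711, 2121), (1712, 1361), (1713, 2045), (1714, 1363), (1715, 2124), (1716, 1428), (1717, 2128), (1718, 1368), (1719, 2129), (1720, 1369), (1721, 1721), (1722, 1372), (1723, 2133), (1724, 1724), (1725, 1375), (1726,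 2135), (1727, 1727)]
    ⟨e3 q1664 (flp_g L28332) q2073, e3 q1665 L20789 q1665, e3 q1666 L20798 q1666, e3 q1667 (flp_g L20799) q1321, e3 q1668 L120632 q1354, e3 q1669 L20818 q1323, e3 q1670 L119912 q1352, e3 q1671 L20872 q1671, e3 q1672 L28458 q2081, e3 q1673 L20891 q1673, e3 q1674 (flp_g L119875) q2052, e3 q1675 (flp_g L20902) q1330, e3 q1676 L117490 q2050, e3 q1677 L20927 q1677, e3 q1678 (flp_g L119865) q2056, e3 q1679 (flp_g L20937) q1333, e3 q1680 (flp_g L119741) q2054, e3 q1681 L20952 q1681, e3 q1682 L20959 q1682, e3 q1683 L28672 q2090, e3 q1684 L21047 q1684, e3 q1685 L28704 q2095, e3 q1686 (flp_g L21055) q1340, e3 q1687 (flp_g L28728) q2097, e3 q1688 L21074 q1688, e3 q1689 L21084 q1689, e3 q1690 (flp_g L21085) q1342, e3 q1691 L119776 q2069, e3 q1692 L21109 q1344, e3 q1693 (flp_g L118955) q2067, e3 q1694 L28801 q2102, e3 q1695 (flp_g L21127) q1346, e3 q1696 L119769 q2075, e3 q1697 L21145 q1348, e3 q1698 (flp_g L28840) q2105, e3 q1699 (flp_g L119661) q2072, e3 q1700 L21163 q1700, e3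 q1701 L21171 q1701, e3 q1702 L28916 q2112, e3 q1703 L21237 q1415, e3 q1704 L28950 q2116, e3 q1705 (flp_g L21249) q1356, e3 q1706 (flp_g L28978) q2118, e3 q1707 L21272 q1419, e3 q1708 (flp_g L21276) q1358, e3 q1709 L116954 q2042, e3 q1710 L21301 q1360, e3 q1711 L29026 q2121, e3 q1712 (flp_g L21311) q1361, e3 q1713 (flp_g L116705) q2045, e3 q1714 L21336 q1363, e3 q1715 (flp_g L29067) q2124, e3 q1716 L21350 q1428, e3 q1717 L29132 q2128, e3 q1718 (flp_g L21411) q1368, e3 q1719 L29141 q2129, e3 q1720 (flp_g L21425) q1369, e3 q1721 L21442 q1721, e3 q1722 (flp_g L21443) q1372, e3 q1723 (flp_g L29172) q2133, e3 q1724 L21461 q1724, e3 q1725 (flp_g L21462) q1375, e3 q1726 (flp_g L29188) q2135, e3 q1727 L21485 q1727, trivial⟩ (by decide +kernel)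

theorem ce_g_27 : ∀ r, r < 64 → sm gg (Qf (1728 + r)) = Qf (tab Gen.g (1728 + r)) :=
  edges_tab (sm gg) Qf (tab Gen.g) 1728 [(1728, 1728), (1729, 1378), (1730, 2141), (1731, 2142), (1732, 1732), (1733, 1733), (1734, 1382), (1735, 1384), (1736, 1385), (1737, 2148), (1738, 2149), (1739, 2153), (1740, 1740), (1741, 1741), (1742, 1742), (1743, 1743), (1744, 1744), (1745, 2161), (1746, 1746), (1747, 1747), (1748, 1393), (1749, 2164), (1750, 1750), (1751, 1998), (1752, 1867), (1753, 1872), (1754, 1987), (1755, 1871), (1756, 1883), (1757, 1994), (1758, 2172), (1759, 1982), (1760, 1406), (1761, 1986), (1762, 1411), (1763, 2175), (1764, 1414), (1765, 2177), (1766, 2114), (1767, 2181), (1768, 1416), (1769, 2183), (1770, 1418), (1771, 2184), (1772, 2120), (1773, 1773), (1774, 1421), (1775, 2039), (1776, 1423), (1777, 1777), (1778, 1425), (1779, 1427), (1780, 2187), (1781, 1432), (1782, 1434), (1783, 1783), (1784, 1784), (1785, 1785), (1786, 2037), (1787, 1787), (1788, 2036), (1789, 1789), (1790,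 2007), (1791, 2033)]
    ⟨e3 q1728 L21494 q1728, e3 q1729 L21504 q1378, e3 q1730 (flp_g L29233) q2141, e3 q1731 (flp_g L29243) q2142, e3 q1732 L21526 q1732, e3 q1733 L21535 q1733, e3 q1734 L21543 q1382, e3 q1735 L21550 q1384, e3 q1736 L21559 q1385, e3 q1737 (flp_g L29283) q2148, e3 q1738 (flp_g L29292) q2149, e3 q1739 L29312 q2153, e3 q1740 L21585 q1740, e3 q1741 L21589 q1741, e3 q1742 L21595 q1742, e3 q1743 L21604 q1743, e3 q1744 L21614 q1744, e3 q1745 L29372 q2161, e3 q1746 L21629 q1746, e3 q1747 L21636 q1747, e3 q1748 (flp_g L21639) q1393, e3 q1749 (flp_g L29403) q2164, e3 q1750 L21659 q1750, e3 q1751 L112022 q1998, e3 q1752 (flp_g L25815) q1867, e3 q1753 L111649 q1872, e3 q1754 (flp_g L112016) q1987, e3 q1755 (flp_g L25850) q1871, e3 q1756 L111077 q1883, e3 q1757 (flp_g L111743) q1994, e3 q1758 L30851 q2172, e3 q1759 (flp_g L26831) q1982, e3 q1760 (flp_g L22704) q1406, e3 q1761 (flp_g L26867) q1986, e3 q1762 (flp_g L22942) q1411, e3 q1763 L31830 q2175, e3 q1764 (flp_g L23409) q1414,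 e3 q1765 (flp_g L31856) q2177, e3 q1766 (flp_g L28940) q2114, e3 q1767 L31880 q2181, e3 q1768 (flp_g L23440) q1416, e3 q1769 (flp_g L31912) q2183, e3 q1770 L23466 q1418, e3 q1771 (flp_g L31925) q2184, e3 q1772 (flp_g L28994) q2120, e3 q1773 L23492 q1773, e3 q1774 L23500 q1421, e3 q1775 L120000 q2039, e3 q1776 (flp_g L23512) q1423, e3 q1777 L23532 q1777, e3 q1778 L23540 q1425, e3 q1779 L23551 q1427, e3 q1780 L32106 q2187, e3 q1781 (flp_g L23619) q1432, e3 q1782 (flp_g L23628) q1434, e3 q1783 L23649 q1783, e3 q1784 L23656 q1784, e3 q1785 L24133 q1785, e3 q1786 (flp_g L103166) q2037, e3 q1787 L24149 q1787, e3 q1788 L104430 q2036, e3 q1789 L24174 q1789, e3 q1790 L104193 q2007, e3 q1791 (flp_g L104098) q2033, trivial⟩ (by decide +kernel)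

theorem ce_g_28 : ∀ r, r < 64 → sm gg (Qf (1792 + r)) = Qf (tab Gen.g (1792 + r)) :=
  edges_tab (sm gg) Qf (tab Gen.g) 1792 [(1792, 1792), (1793, 1979), (1794, 2034), (1795, 1795), (1796, 2035), (1797, 1797), (1798, 2002), (1799, 2019), (1800, 1800), (1801, 2006), (1802, 2031), (1803, 1803), (1804, 1804), (1805, 1975), (1806, 2032), (1807, 1980), (1808, 1997), (1809, 2001), (1810, 2005), (1811, 2008), (1812, 1812), (1813, 2013), (1814, 1814), (1815, 1815), (1816, 2020), (1817, 2022), (1818, 2023), (1819, 1819), (1820, 1820), (1821, 1821), (1822, 2238), (1823, 1823), (1824, 2242), (1825, 1825), (1826, 1472), (1827, 2245), (1828, 1473), (1829, 2247), (1830, 1830), (1831, 1831), (1832, 2253), (1833, 1833), (1834, 1477), (1835, 2257), (1836, 1836), (1837, 2261), (1838, 1479), (1839, 2263), (1840, 1840), (1841, 1482), (1842, 2266), (1843, 1484), (1844, 2269), (1845, 1845), (1846, 2273), (1847, 1847), (1848, 2277), (1849, 1487), (1850, 2279), (1851, 1851), (1852, 2282), (1853, 1490), (1854,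 2284), (1855, 1855)]
    ⟨e3 q1792 L24199 q1792, e3 q1793 (flp_g L104110) q1979, e3 q1794 L109351 q2034, e3 q1795 L24239 q1795, e3 q1796 L104436 q2035, e3 q1797 L24255 q1797, e3 q1798 (flp_g L111402) q2002, e3 q1799 (flp_g L104711) q2019, e3 q1800 L24291 q1800, e3 q1801 L104426 q2006, e3 q1802 L104508 q2031, e3 q1803 L24310 q1803, e3 q1804 L24318 q1804, e3 q1805 (flp_g L104609) q1975, e3 q1806 L109354 q2032, e3 q1807 L109341 q1980, e3 q1808 L112084 q1997, e3 q1809 (flp_g L111408) q2001, e3 q1810 L110717 q2005, e3 q1811 L98889 q2008, e3 q1812 L24636 q1812, e3 q1813 L98928 q2013, e3 q1814 L24666 q1814, e3 q1815 L24675 q1815, e3 q1816 L98570 q2020, e3 q1817 L99021 q2022, e3 q1818 (flp_g L99184) q2023, e3 q1819 L24764 q1819, e3 q1820 L24772 q1820, e3 q1821 L25440 q1821, e3 q1822 L34652 q2238, e3 q1823 L25455 q1823, e3 q1824 L34683 q2242, e3 q1825 L25471 q1825, e3 q1826 (flp_g L25474) q1472, e3 q1827 L34708 q2245, e3 q1828 (flp_g L25490) q1473, e3 q1829 (flp_g L34725) q2247, e3 q1830 L25510 q1830,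 e3 q1831 L25518 q1831, e3 q1832 L34774 q2253, e3 q1833 L25536 q1833, e3 q1834 (flp_g L25537) q1477, e3 q1835 L34808 q2257, e3 q1836 L25563 q1836, e3 q1837 L34843 q2261, e3 q1838 (flp_g L25573) q1479, e3 q1839 (flp_g L34865) q2263, e3 q1840 L25594 q1840, e3 q1841 (flp_g L25597) q1482, e3 q1842 (flp_g L34891) q2266, e3 q1843 L25619 q1484, e3 q1844 (flp_g L34913) q2269, e3 q1845 L25634 q1845, e3 q1846 L34941 q2273, e3 q1847 L25654 q1847, e3 q1848 L34977 q2277, e3 q1849 (flp_g L25665) q1487, e3 q1850 (flp_g L35000) q2279, e3 q1851 L25688 q1851, e3 q1852 L35021 q2282, e3 q1853 (flp_g L25699) q1490, e3 q1854 (flp_g L35042) q2284, e3 q1855 L25715 q1855, trivial⟩ (by decide +kernel)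

theorem ce_g_29 : ∀ r, r < 64 → sm gg (Qf (1856 + r)) = Qf (tab Gen.g (1856 + r)) :=
  edges_tab (sm gg) Qf (tab Gen.g) 1856 [(1856, 1856), (1857, 1492), (1858, 2290), (1859, 1494), (1860, 2293), (1861, 1579), (1862, 1497), (1863, 2295), (1864, 2296), (1865, 1499), (1866, 2300), (1867, 1752), (1868, 2305), (1869, 1501), (1870, 2307), (1871, 1755), (1872, 1753), (1873, 1503), (1874, 2312), (1875, 1505), (1876, 1589), (1877, 2314), (1878, 1507), (1879, 2317), (1880, 1509), (1881, 2319), (1882, 1593), (1883, 1756), (1884, 1597), (1885, 1513), (1886, 2322), (1887, 1518), (1888, 2324), (1889, 1889), (1890, 2329), (1891, 1891), (1892, 2333), (1893, 1893), (1894, 1521), (1895, 2336), (1896, 1522), (1897, 2338), (1898, 1898), (1899, 1899), (1900, 2344), (1901, 1901), (1902, 1526), (1903, 2348), (1904, 1904), (1905, 2352), (1906, 1528), (1907, 2354), (1908, 1908), (1909, 1531), (1910, 2356), (1911, 1533), (1912, 2359), (1913, 1913), (1914, 2363), (1915, 1915), (1916, 2367), (1917, 1536), (1918,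 2369), (1919, 1919)]
    ⟨e3 q1856 L25724 q1856, e3 q1857 (flp_g L25727) q1492, e3 q1858 (flp_g L35088) q2290, e3 q1859 L25750 q1494, e3 q1860 (flp_g L35115) q2293, e3 q1861 L25769 q1579, e3 q1862 L25775 q1497, e3 q1863 (flp_g L35128) q2295, e3 q1864 (flp_g L35137) q2296, e3 q1865 L25796 q1499, e3 q1866 L35164 q2300, e3 q1867 L25815 q1752, e3 q1868 L35210 q2305, e3 q1869 (flp_g L25827) q1501, e3 q1870 (flp_g L35238) q2307, e3 q1871 L25850 q1755, e3 q1872 (flp_g L111649) q1753, e3 q1873 (flp_g L25867) q1503, e3 q1874 (flp_g L35284) q2312, e3 q1875 L25889 q1505, e3 q1876 L111501 q1589, e3 q1877 L35314 q2314, e3 q1878 (flp_g L25909) q1507, e3 q1879 (flp_g L35346) q2317, e3 q1880 L25934 q1509, e3 q1881 (flp_g L35369) q2319, e3 q1882 (flp_g L111164) q1593, e3 q1883 (flp_g L111077) q1756, e3 q1884 L110757 q1597, e3 q1885 L25977 q1513, e3 q1886 (flp_g L35422) q2322, e3 q1887 L26018 q1518, e3 q1888 (flp_g L35469) q2324, e3 q1889 L26049 q1889, e3 q1890 L35528 q2329, e3 q1891 L26067 q1891, e3 q1892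 L35563 q2333, e3 q1893 L26084 q1893, e3 q1894 (flp_g L26087) q1521, e3 q1895 L35588 q2336, e3 q1896 (flp_g L26106) q1522, e3 q1897 (flp_g L35611) q2338, e3 q1898 L26132 q1898, e3 q1899 L26140 q1899, e3 q1900 L35668 q2344, e3 q1901 L26163 q1901, e3 q1902 (flp_g L26164) q1526, e3 q1903 L35708 q2348, e3 q1904 L26194 q1904, e3 q1905 L35745 q2352, e3 q1906 (flp_g L26204) q1528, e3 q1907 (flp_g L35767) q2354, e3 q1908 L26225 q1908, e3 q1909 (flp_g L26228) q1531, e3 q1910 (flp_g L35797) q2356, e3 q1911 L26256 q1533, e3 q1912 (flp_g L35825) q2359, e3 q1913 L26272 q1913, e3 q1914 L35850 q2363, e3 q1915 L26289 q1915, e3 q1916 L35882 q2367, e3 q1917 (flp_g L26295) q1536, e3 q1918 (flp_g L35900) q2369, e3 q1919 L26314 q1919, trivial⟩ (by decide +kernel)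

theorem ce_g_30 : ∀ r, r < 64 → sm gg (Qf (1920 + r)) = Qf (tab Gen.g (1920 + r)) :=
  edges_tab (sm gg) Qf (tab Gen.g) 1920 [(1920, 2372), (1921, 1539), (1922, 2374), (1923, 1923), (1924, 1924), (1925, 1541), (1926, 2380), (1927, 1543), (1928, 2383), (1929, 2265), (1930, 1546), (1931, 2385), (1932, 2386), (1933, 1548), (1934, 1934), (1935, 2392), (1936, 1936), (1937, 2396), (1938, 1550), (1939, 2398), (1940, 1940), (1941, 2401), (1942, 1553), (1943, 2403), (1944, 1944), (1945, 1945), (1946, 1555), (1947, 2408), (1948, 1557), (1949, 2411), (1950, 1560), (1951, 2294), (1952, 2412), (1953, 1562), (1954, 2415), (1955, 1955), (1956, 2420), (1957, 1564), (1958, 2422), (1959, 1959), (1960, 1960), (1961, 1566), (1962, 2428), (1963, 1568), (1964, 2431), (1965, 2432), (1966, 1570), (1967, 2435), (1968, 1572), (1969, 2438), (1970, 2439), (1971, 1971), (1972, 1972), (1973, 2289), (1974, 1576), (1975, 1805), (1976, 2445), (1977, 1578), (1978, 1582), (1979, 1793), (1980, 1807), (1981, 2451), (1982,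 1759), (1983, 2456)]
    ⟨e3 q1920 L35917 q2372, e3 q1921 (flp_g L26321) q1539, e3 q1922 (flp_g L35940) q2374, e3 q1923 L26342 q1923, e3 q1924 L26352 q1924, e3 q1925 (flp_g L26353) q1541, e3 q1926 (flp_g L35987) q2380, e3 q1927 L26371 q1543, e3 q1928 (flp_g L36007) q2383, e3 q1929 (flp_g L34883) q2265, e3 q1930 L26393 q1546, e3 q1931 (flp_g L36018) q2385, e3 q1932 (flp_g L36028) q2386, e3 q1933 L26411 q1548, e3 q1934 L26419 q1934, e3 q1935 L36070 q2392, e3 q1936 L26442 q1936, e3 q1937 L36108 q2396, e3 q1938 (flp_g L26455) q1550, e3 q1939 (flp_g L36137) q2398, e3 q1940 L26484 q1940, e3 q1941 L36161 q2401, e3 q1942 (flp_g L26495) q1553, e3 q1943 (flp_g L36182) q2403, e3 q1944 L26512 q1944, e3 q1945 L26522 q1945, e3 q1946 (flp_g L26525) q1555, e3 q1947 (flp_g L36230) q2408, e3 q1948 L26548 q1557, e3 q1949 (flp_g L36257) q2411, e3 q1950 L26577 q1560, e3 q1951 L109131 q2294, e3 q1952 (flp_g L36285) q2412, e3 q1953 L26604 q1562, e3 q1954 L36311 q2415, e3 q1955 L26618 q1955, e3 q1956 L36344 q2420,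 e3 q1957 (flp_g L26625) q1564, e3 q1958 (flp_g L36367) q2422, e3 q1959 L26646 q1959, e3 q1960 L26657 q1960, e3 q1961 (flp_g L26658) q1566, e3 q1962 (flp_g L36418) q2428, e3 q1963 L26677 q1568, e3 q1964 (flp_g L36441) q2431, e3 q1965 L36443 q2432, e3 q1966 (flp_g L26695) q1570, e3 q1967 (flp_g L36468) q2435, e3 q1968 L26712 q1572, e3 q1969 (flp_g L36481) q2438, e3 q1970 (flp_g L36492) q2439, e3 q1971 L26732 q1971, e3 q1972 L26741 q1972, e3 q1973 (flp_g L35080) q2289, e3 q1974 L26755 q1576, e3 q1975 L104609 q1805, e3 q1976 (flp_g L36551) q2445, e3 q1977 L26778 q1578, e3 q1978 L26797 q1582, e3 q1979 L104110 q1793, e3 q1980 (flp_g L109341) q1807, e3 q1981 L36623 q2451, e3 q1982 L26831 q1759, e3 q1983 L36677 q2456, trivial⟩ (by decide +kernel)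

theorem ce_g_31 : ∀ r, r < 64 → sm gg (Qf (1984 + r)) = Qf (tab Gen.g (1984 + r)) :=
  edges_tab (sm gg) Qf (tab Gen.g) 1984 [(1984, 1585), (1985, 2309), (1986, 1761), (1987, 1754), (1988, 1587), (1989, 2311), (1990, 2460), (1991, 1591), (1992, 2316), (1993, 2321), (1994, 1757), (1995, 2465), (1996, 1598), (1997, 1808), (1998, 1751), (1999, 2467), (2000, 1600), (2001, 1809), (2002, 1798), (2003, 1606), (2004, 2471), (2005, 1810), (2006, 1801), (2007, 1790), (2008, 1811), (2009, 1611), (2010, 2478), (2011, 2011), (2012, 2012), (2013, 1813), (2014, 1615), (2015, 2486), (2016, 2487), (2017, 2017), (2018, 2018), (2019, 1799), (2020, 1816), (2021, 1620), (2022, 1817), (2023, 1818), (2024, 1623), (2025, 1624), (2026, 2498), (2027, 2499), (2028, 2503), (2029, 2029), (2030, 2030), (2031, 1802), (2032, 1806), (2033, 1791), (2034, 1794), (2035, 1796), (2036, 1788), (2037, 1786), (2038, 2038), (2039, 1775), (2040, 2040), (2041, 2041), (2042, 1709), (2043, 2043), (2044, 1640), (2045, 1713), (2046,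 2046), (2047, 2047)]
    ⟨e3 q1984 (flp_g L26843) q1585, e3 q1985 L112111 q2309, e3 q1986 L26867 q1761, e3 q1987 L112016 q1754, e3 q1988 (flp_g L26884) q1587, e3 q1989 (flp_g L111373) q2311, e3 q1990 L36803 q2460, e3 q1991 (flp_g L26935) q1591, e3 q1992 L110887 q2316, e3 q1993 (flp_g L111804) q2321, e3 q1994 L111743 q1757, e3 q1995 L37021 q2465, e3 q1996 (flp_g L27095) q1598, e3 q1997 (flp_g L112084) q1808, e3 q1998 (flp_g L112022) q1751, e3 q1999 L37053 q2467, e3 q2000 (flp_g L27126) q1600, e3 q2001 L111408 q1809, e3 q2002 L111402 q1798, e3 q2003 (flp_g L27198) q1606, e3 q2004 (flp_g L37157) q2471, e3 q2005 (flp_g L110717) q1810, e3 q2006 (flp_g L104426) q1801, e3 q2007 (flp_g L104193) q1790, e3 q2008 (flp_g L98889) q1811, e3 q2009 (flp_g L27333) q1611, e3 q2010 (flp_g L37333) q2478, e3 q2011 L27354 q2011, e3 q2012 L27363 q2012, e3 q2013 (flp_g L98928) q1813, e3 q2014 L27391 q1615, e3 q2015 (flp_g L37416) q2486, e3 q2016 (flp_g L37427) q2487, e3 q2017 L27414 q2017, e3 q2018 L27424 q2018,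 e3 q2019 L104711 q1799, e3 q2020 (flp_g L98570) q1816, e3 q2021 L27462 q1620, e3 q2022 (flp_g L99021) q1817, e3 q2023 L99184 q1818, e3 q2024 L27501 q1623, e3 q2025 L27511 q1624, e3 q2026 (flp_g L37552) q2498, e3 q2027 (flp_g L37562) q2499, e3 q2028 L37584 q2503, e3 q2029 L27538 q2029, e3 q2030 L27542 q2030, e3 q2031 (flp_g L104508) q1802, e3 q2032 (flp_g L109354) q1806, e3 q2033 L104098 q1791, e3 q2034 (flp_g L109351) q1794, e3 q2035 (flp_g L104436) q1796, e3 q2036 (flp_g L104430) q1788, e3 q2037 L103166 q1786, e3 q2038 L27858 q2038, e3 q2039 (flp_g L120000) q1775, e3 q2040 L27875 q2040, e3 q2041 L27939 q2041, e3 q2042 (flp_g L116954) q1709, e3 q2043 L27954 q2043, e3 q2044 (flp_g L27957) q1640, e3 q2045 L116705 q1713, e3 q2046 L27978 q2046, e3 q2047 L28044 q2047, trivial⟩ (by decide +kernel)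

theorem ce_g_32 : ∀ r, r < 64 → sm gg (Qf (2048 + r)) = Qf (tab Gen.g (2048 + r)) :=
  edges_tab (sm gg) Qf (tab Gen.g) 2048 [(2048, 2520), (2049, 2049), (2050, 1676), (2051, 1646), (2052, 1674), (2053, 2053), (2054, 1680), (2055, 1649), (2056, 1678), (2057, 2057), (2058, 2058), (2059, 2529), (2060, 2060), (2061, 2534), (2062, 1656), (2063, 2536), (2064, 2064), (2065, 2065), (2066, 1658), (2067, 1693), (2068, 1660), (2069, 1691), (2070, 2541), (2071, 1662), (2072, 1699), (2073, 1664), (2074, 2544), (2075, 1696), (2076, 2076), (2077, 2077), (2078, 2551), (2079, 2079), (2080, 2521), (2081, 1672), (2082, 2519), (2083, 2083), (2084, 2084), (2085, 2525), (2086, 2524), (2087, 2087), (2088, 2088), (2089, 2565), (2090, 1683), (2091, 2567), (2092, 2092), (2093, 2093), (2094, 2573), (2095, 1685), (2096, 2538), (2097, 1687), (2098, 2576), (2099, 2535), (2100, 2100), (2101, 2101), (2102, 1694), (2103, 2582), (2104, 2546), (2105, 1698), (2106, 2586), (2107, 2543), (2108, 2590), (2109, 2109), (2110,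 2110), (2111, 2594)]
    ⟨e3 q2048 L38297 q2520, e3 q2049 L28065 q2049, e3 q2050 (flp_g L117490) q1676, e3 q2051 (flp_g L28075) q1646, e3 q2052 L119875 q1674, e3 q2053 L28098 q2053, e3 q2054 L119741 q1680, e3 q2055 (flp_g L28110) q1649, e3 q2056 L119865 q1678, e3 q2057 L28131 q2057, e3 q2058 L28139 q2058, e3 q2059 L38517 q2529, e3 q2060 L28232 q2060, e3 q2061 L38556 q2534, e3 q2062 (flp_g L28240) q1656, e3 q2063 (flp_g L38580) q2536, e3 q2064 L28259 q2064, e3 q2065 L28268 q2065, e3 q2066 (flp_g L28269) q1658, e3 q2067 L118955 q1693, e3 q2068 L28291 q1660, e3 q2069 (flp_g L119776) q1691, e3 q2070 L38654 q2541, e3 q2071 (flp_g L28308) q1662, e3 q2072 L119661 q1699, e3 q2073 L28332 q1664, e3 q2074 (flp_g L38704) q2544, e3 q2075 (flp_g L119769) q1696, e3 q2076 L28354 q2076, e3 q2077 L28363 q2077, e3 q2078 L38830 q2551, e3 q2079 L28448 q2079, e3 q2080 L119747 q2521, e3 q2081 (flp_g L28458) q1672, e3 q2082 L119718 q2519, e3 q2083 L28479 q2083, e3 q2084 L28488 q2084, e3 q2085 L119735 q2525, e3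 q2086 L119712 q2524, e3 q2087 L28574 q2087, e3 q2088 L28581 q2088, e3 q2089 L39156 q2565, e3 q2090 (flp_g L28672) q1683, e3 q2091 (flp_g L39177) q2567, e3 q2092 L28689 q2092, e3 q2093 L28696 q2093, e3 q2094 L39211 q2573, e3 q2095 (flp_g L28704) q1685, e3 q2096 (flp_g L118945) q2538, e3 q2097 L28728 q1687, e3 q2098 (flp_g L39264) q2576, e3 q2099 L119684 q2535, e3 q2100 L28752 q2100, e3 q2101 L28762 q2101, e3 q2102 (flp_g L28801) q1694, e3 q2103 (flp_g L39348) q2582, e3 q2104 (flp_g L118365) q2546, e3 q2105 L28840 q1698, e3 q2106 (flp_g L39397) q2586, e3 q2107 L119672 q2543, e3 q2108 L39426 q2590, e3 q2109 L28875 q2109, e3 q2110 L28880 q2110, e3 q2111 L39463 q2594, trivial⟩ (by decide +kernel)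

theorem ce_g_33 : ∀ r, r < 64 → sm gg (Qf (2112 + r)) = Qf (tab Gen.g (2112 + r)) :=
  edges_tab (sm gg) Qf (tab Gen.g) 2112 [(2112, 1702), (2113, 2596), (2114, 1766), (2115, 2600), (2116, 1704), (2117, 2514), (2118, 1706), (2119, 2603), (2120, 1772), (2121, 1711), (2122, 2606), (2123, 2330), (2124, 1715), (2125, 2610), (2126, 2126), (2127, 2613), (2128, 1717), (2129, 1719), (2130, 2617), (2131, 2131), (2132, 2132), (2133, 1723), (2134, 2621), (2135, 1726), (2136, 2622), (2137, 2623), (2138, 2138), (2139, 2139), (2140, 2140), (2141, 1730), (2142, 1731), (2143, 2632), (2144, 2633), (2145, 2637), (2146, 2146), (2147, 2147), (2148, 1737), (2149, 1738), (2150, 2643), (2151, 2641), (2152, 2642), (2153, 1739), (2154, 2646), (2155, 2155), (2156, 2156), (2157, 2157), (2158, 2653), (2159, 2159), (2160, 2160), (2161, 1745), (2162, 2656), (2163, 2163), (2164, 1749), (2165, 2659), (2166, 2166), (2167, 2303), (2168, 2454), (2169, 2302), (2170, 2310), (2171, 2459), (2172, 1758), (2173, 2453), (2174,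 2667), (2175, 1763)]
    ⟨e3 q2112 (flp_g L28916) q1702, e3 q2113 (flp_g L39491) q2596, e3 q2114 L28940 q1766, e3 q2115 L39519 q2600, e3 q2116 (flp_g L28950) q1704, e3 q2117 L119403 q2514, e3 q2118 L28978 q1706, e3 q2119 (flp_g L39566) q2603, e3 q2120 L28994 q1772, e3 q2121 (flp_g L29026) q1711, e3 q2122 (flp_g L39621) q2606, e3 q2123 L119399 q2330, e3 q2124 L29067 q1715, e3 q2125 (flp_g L39668) q2610, e3 q2126 L82142 q2126, e3 q2127 L39742 q2613, e3 q2128 (flp_g L29132) q1717, e3 q2129 (flp_g L29141) q1719, e3 q2130 (flp_g L39777) q2617, e3 q2131 L29162 q2131, e3 q2132 L29168 q2132, e3 q2133 L29172 q1723, e3 q2134 (flp_g L39803) q2621, e3 q2135 L29188 q1726, e3 q2136 (flp_g L39811) q2622, e3 q2137 (flp_g L39821) q2623, e3 q2138 L29210 q2138, e3 q2139 L29217 q2139, e3 q2140 L29227 q2140, e3 q2141 L29233 q1730, e3 q2142 L29243 q1731, e3 q2143 (flp_g L39886) q2632, e3 q2144 (flp_g L39896) q2633, e3 q2145 L39919 q2637, e3 q2146 L29273 q2146, e3 q2147 L29278 q2147, e3 q2148 L29283 q1737, e3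 q2149 L29292 q1738, e3 q2150 L39961 q2643, e3 q2151 (flp_g L39952) q2641, e3 q2152 (flp_g L39958) q2642, e3 q2153 (flp_g L29312) q1739, e3 q2154 (flp_g L39986) q2646, e3 q2155 L29330 q2155, e3 q2156 L29337 q2156, e3 q2157 L29347 q2157, e3 q2158 L40032 q2653, e3 q2159 L29362 q2159, e3 q2160 L29369 q2160, e3 q2161 (flp_g L29372) q1745, e3 q2162 (flp_g L40064) q2656, e3 q2163 L29395 q2163, e3 q2164 L29403 q1749, e3 q2165 (flp_g L40088) q2659, e3 q2166 L29416 q2166, e3 q2167 L112189 q2303, e3 q2168 L112228 q2454, e3 q2169 (flp_g L35186) q2302, e3 q2170 L112205 q2310, e3 q2171 L112233 q2459, e3 q2172 (flp_g L30851) q1758, e3 q2173 (flp_g L36650) q2453, e3 q2174 L43365 q2667, e3 q2175 (flp_g L31830) q1763, trivial⟩ (by decide +kernel)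

theorem ce_g_34 : ∀ r, r < 64 → sm gg (Qf (2176 + r)) = Qf (tab Gen.g (2176 + r)) :=
  edges_tab (sm gg) Qf (tab Gen.g) 2176 [(2176, 2669), (2177, 1765), (2178, 2670), (2179, 2598), (2180, 2599), (2181, 1767), (2182, 2182), (2183, 1769), (2184, 1771), (2185, 2185), (2186, 2675), (2187, 1780), (2188, 2188), (2189, 2189), (2190, 2190), (2191, 2191), (2192, 2511), (2193, 2193), (2194, 2476), (2195, 2508), (2196, 2196), (2197, 2475), (2198, 2506), (2199, 2199), (2200, 2200), (2201, 2448), (2202, 2509), (2203, 2387), (2204, 2449), (2205, 2510), (2206, 2206), (2207, 2470), (2208, 2493), (2209, 2209), (2210, 2210), (2211, 2429), (2212, 2494), (2213, 2474), (2214, 2446), (2215, 2495), (2216, 2507), (2217, 2217), (2218, 2218), (2219, 2447), (2220, 2466), (2221, 2469), (2222, 2472), (2223, 2477), (2224, 2224), (2225, 2225), (2226, 2484), (2227, 2485), (2228, 2228), (2229, 2229), (2230, 2496), (2231, 2497), (2232, 2730), (2233, 2233), (2234, 2234), (2235, 2235), (2236, 2737), (2237, 2237), (2238,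 1822), (2239, 2741)]
    ⟨e3 q2176 (flp_g L43397) q2669, e3 q2177 L31856 q1765, e3 q2178 (flp_g L43412) q2670, e3 q2179 (flp_g L39505) q2598, e3 q2180 (flp_g L39515) q2599, e3 q2181 (flp_g L31880) q1767, e3 q2182 L31903 q2182, e3 q2183 L31912 q1769, e3 q2184 L31925 q1771, e3 q2185 L31977 q2185, e3 q2186 L43715 q2675, e3 q2187 (flp_g L32106) q1780, e3 q2188 L32127 q2188, e3 q2189 L32135 q2189, e3 q2190 L32155 q2190, e3 q2191 L32789 q2191, e3 q2192 L102867 q2511, e3 q2193 L32807 q2193, e3 q2194 (flp_g L104077) q2476, e3 q2195 L93936 q2508, e3 q2196 L32840 q2196, e3 q2197 (flp_g L104168) q2475, e3 q2198 (flp_g L104396) q2506, e3 q2199 L32867 q2199, e3 q2200 L32876 q2200, e3 q2201 L104086 q2448, e3 q2202 (flp_g L104122) q2509, e3 q2203 (flp_g L93123) q2387, e3 q2204 (flp_g L109167) q2449, e3 q2205 (flp_g L102818) q2510, e3 q2206 L32960 q2206, e3 q2207 L104559 q2470, e3 q2208 (flp_g L104402) q2493, e3 q2209 L32987 q2209, e3 q2210 L32997 q2210, e3 q2211 L104597 q2429, e3 q2212 (flp_g L104734)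 q2494, e3 q2213 (flp_g L110630) q2474, e3 q2214 L104380 q2446, e3 q2215 (flp_g L104392) q2495, e3 q2216 (flp_g L104490) q2507, e3 q2217 L33078 q2217, e3 q2218 L33086 q2218, e3 q2219 (flp_g L109171) q2447, e3 q2220 (flp_g L112059) q2466, e3 q2221 (flp_g L110643) q2469, e3 q2222 (flp_g L110688) q2472, e3 q2223 L98777 q2477, e3 q2224 L33539 q2224, e3 q2225 L33549 q2225, e3 q2226 (flp_g L98997) q2484, e3 q2227 (flp_g L98992) q2485, e3 q2228 L33607 q2228, e3 q2229 L33616 q2229, e3 q2230 (flp_g L98269) q2496, e3 q2231 L99043 q2497, e3 q2232 L45983 q2730, e3 q2233 L33751 q2233, e3 q2234 L33755 q2234, e3 q2235 L34634 q2235, e3 q2236 L47207 q2737, e3 q2237 L34649 q2237, e3 q2238 (flp_g L34652) q1822, e3 q2239 L47239 q2741, trivial⟩ (by decide +kernel)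

theorem ce_g_35 : ∀ r, r < 64 → sm gg (Qf (2240 + r)) = Qf (tab Gen.g (2240 + r)) :=
  edges_tab (sm gg) Qf (tab Gen.g) 2240 [(2240, 2240), (2241, 2745), (2242, 1824), (2243, 2747), (2244, 2244), (2245, 1827), (2246, 2750), (2247, 1829), (2248, 2753), (2249, 2249), (2250, 2757), (2251, 2251), (2252, 2761), (2253, 1832), (2254, 2763), (2255, 2255), (2256, 2766), (2257, 1835), (2258, 2768), (2259, 2259), (2260, 2260), (2261, 1837), (2262, 2774), (2263, 1839), (2264, 2777), (2265, 1929), (2266, 1842), (2267, 2779), (2268, 2780), (2269, 1844), (2270, 2784), (2271, 2271), (2272, 2789), (2273, 1846), (2274, 2791), (2275, 2275), (2276, 2276), (2277, 1848), (2278, 2797), (2279, 1850), (2280, 2800), (2281, 2801), (2282, 1852), (2283, 2804), (2284, 1854), (2285, 2807), (2286, 2808), (2287, 2287), (2288, 2288), (2289, 1973), (2290, 1858), (2291, 2815), (2292, 2816), (2293, 1860), (2294, 1951), (2295, 1863), (2296, 1864), (2297, 2820), (2298, 2821), (2299, 2825), (2300, 1866), (2301, 2827), (2302,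 2169), (2303, 2167)]
    ⟨e3 q2240 L34675 q2240, e3 q2241 L47269 q2745, e3 q2242 (flp_g L34683) q1824, e3 q2243 (flp_g L47289) q2747, e3 q2244 L34706 q2244, e3 q2245 (flp_g L34708) q1827, e3 q2246 (flp_g L47314) q2750, e3 q2247 L34725 q1829, e3 q2248 (flp_g L47335) q2753, e3 q2249 L34742 q2249, e3 q2250 L47366 q2757, e3 q2251 L34764 q2251, e3 q2252 L47401 q2761, e3 q2253 (flp_g L34774) q1832, e3 q2254 (flp_g L47423) q2763, e3 q2255 L34795 q2255, e3 q2256 L47443 q2766, e3 q2257 (flp_g L34808) q1835, e3 q2258 (flp_g L47470) q2768, e3 q2259 L34830 q2259, e3 q2260 L34840 q2260, e3 q2261 (flp_g L34843) q1837, e3 q2262 (flp_g L47520) q2774, e3 q2263 L34865 q1839, e3 q2264 (flp_g L47544) q2777, e3 q2265 L34883 q1929, e3 q2266 L34891 q1842, e3 q2267 (flp_g L47559) q2779, e3 q2268 (flp_g L47568) q2780, e3 q2269 L34913 q1844, e3 q2270 L47593 q2784, e3 q2271 L34930 q2271, e3 q2272 L47633 q2789, e3 q2273 (flp_g L34941) q1846, e3 q2274 (flp_g L47660) q2791, e3 q2275 L34963 q2275, e3 q2276 L34974 q2276,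 e3 q2277 (flp_g L34977) q1848, e3 q2278 (flp_g L47714) q2797, e3 q2279 L35000 q1850, e3 q2280 (flp_g L47741) q2800, e3 q2281 L47745 q2801, e3 q2282 (flp_g L35021) q1852, e3 q2283 (flp_g L47776) q2804, e3 q2284 L35042 q1854, e3 q2285 (flp_g L47795) q2807, e3 q2286 (flp_g L47804) q2808, e3 q2287 L35061 q2287, e3 q2288 L35070 q2288, e3 q2289 L35080 q1973, e3 q2290 L35088 q1858, e3 q2291 (flp_g L47853) q2815, e3 q2292 (flp_g L47864) q2816, e3 q2293 L35115 q1860, e3 q2294 (flp_g L109131) q1951, e3 q2295 L35128 q1863, e3 q2296 L35137 q1864, e3 q2297 (flp_g L47904) q2820, e3 q2298 (flp_g L47913) q2821, e3 q2299 L47948 q2825, e3 q2300 (flp_g L35164) q1866, e3 q2301 (flp_g L47973) q2827, e3 q2302 L35186 q2169, e3 q2303 (flp_g L112189) q2167, trivial⟩ (by decide +kernel)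

theorem ce_g_36 : ∀ r, r < 64 → sm gg (Qf (2304 + r)) = Qf (tab Gen.g (2304 + r)) :=
  edges_tab (sm gg) Qf (tab Gen.g) 2304 [(2304, 2832), (2305, 1868), (2306, 2835), (2307, 1870), (2308, 2837), (2309, 1985), (2310, 2170), (2311, 1989), (2312, 1874), (2313, 2840), (2314, 1877), (2315, 2843), (2316, 1992), (2317, 1879), (2318, 2846), (2319, 1881), (2320, 2849), (2321, 1993), (2322, 1886), (2323, 2851), (2324, 1888), (2325, 2853), (2326, 2326), (2327, 2859), (2328, 2328), (2329, 1890), (2330, 2123), (2331, 2331), (2332, 2866), (2333, 1892), (2334, 2868), (2335, 2335), (2336, 1895), (2337, 2871), (2338, 1897), (2339, 2874), (2340, 2340), (2341, 2878), (2342, 2342), (2343, 2882), (2344, 1900), (2345, 2884), (2346, 2346), (2347, 2887), (2348, 1903), (2349, 2889), (2350, 2350), (2351, 2351), (2352, 1905), (2353, 2894), (2354, 1907), (2355, 2897), (2356, 1910), (2357, 2898), (2358, 2899), (2359, 1912), (2360, 2903), (2361, 2361), (2362, 2908), (2363, 1914), (2364, 2910), (2365, 2365), (2366,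 2366), (2367, 1916)]
    ⟨e3 q2304 L48010 q2832, e3 q2305 (flp_g L35210) q1868, e3 q2306 (flp_g L48046) q2835, e3 q2307 L35238 q1870, e3 q2308 (flp_g L48072) q2837, e3 q2309 (flp_g L112111) q1985, e3 q2310 (flp_g L112205) q2170, e3 q2311 L111373 q1989, e3 q2312 L35284 q1874, e3 q2313 (flp_g L48129) q2840, e3 q2314 (flp_g L35314) q1877, e3 q2315 (flp_g L48171) q2843, e3 q2316 (flp_g L110887) q1992, e3 q2317 L35346 q1879, e3 q2318 (flp_g L48202) q2846, e3 q2319 L35369 q1881, e3 q2320 (flp_g L48238) q2849, e3 q2321 L111804 q1993, e3 q2322 L35422 q1886, e3 q2323 (flp_g L48290) q2851, e3 q2324 L35469 q1888, e3 q2325 (flp_g L48350) q2853, e3 q2326 L35505 q2326, e3 q2327 L48424 q2859, e3 q2328 L35525 q2328, e3 q2329 (flp_g L35528) q1890, e3 q2330 (flp_g L119399) q2123, e3 q2331 L35555 q2331, e3 q2332 L48494 q2866, e3 q2333 (flp_g L35563) q1892, e3 q2334 (flp_g L48514) q2868, e3 q2335 L35586 q2335, e3 q2336 (flp_g L35588) q1895, e3 q2337 (flp_g L48543) q2871, e3 q2338 L35611 q1897, e3 q2339 (flp_g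 L48570) q2874, e3 q2340 L35631 q2340, e3 q2341 L48606 q2878, e3 q2342 L35656 q2342, e3 q2343 L48643 q2882, e3 q2344 (flp_g L35668) q1900, e3 q2345 (flp_g L48671) q2884, e3 q2346 L35695 q2346, e3 q2347 L48694 q2887, e3 q2348 (flp_g L35708) q1903, e3 q2349 (flp_g L48721) q2889, e3 q2350 L35731 q2350, e3 q2351 L35742 q2351, e3 q2352 (flp_g L35745) q1905, e3 q2353 (flp_g L48773) q2894, e3 q2354 L35767 q1907, e3 q2355 (flp_g L48797) q2897, e3 q2356 L35797 q1910, e3 q2357 (flp_g L48816) q2898, e3 q2358 (flp_g L48827) q2899, e3 q2359 L35825 q1912, e3 q2360 L48854 q2903, e3 q2361 L35843 q2361, e3 q2362 L48894 q2908, e3 q2363 (flp_g L35850) q1914, e3 q2364 (flp_g L48917) q2910, e3 q2365 L35871 q2365, e3 q2366 L35881 q2366, e3 q2367 (flp_g L35882) q1916, trivial⟩ (by decide +kernel)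

theorem ce_g_37 : ∀ r, r < 64 → sm gg (Qf (2368 + r)) = Qf (tab Gen.g (2368 + r)) :=
  edges_tab (sm gg) Qf (tab Gen.g) 2368 [(2368, 2916), (2369, 1918), (2370, 2919), (2371, 2920), (2372, 1920), (2373, 2923), (2374, 1922), (2375, 2926), (2376, 2927), (2377, 2377), (2378, 2378), (2379, 2773), (2380, 1926), (2381, 2934), (2382, 2935), (2383, 1928), (2384, 2778), (2385, 1931), (2386, 1932), (2387, 2203), (2388, 2939), (2389, 2944), (2390, 2390), (2391, 2949), (2392, 1935), (2393, 2951), (2394, 2394), (2395, 2395), (2396, 1937), (2397, 2956), (2398, 1939), (2399, 2959), (2400, 2960), (2401, 1941), (2402, 2962), (2403, 1943), (2404, 2965), (2405, 2966), (2406, 2406), (2407, 2407), (2408, 1947), (2409, 2814), (2410, 2972), (2411, 1949), (2412, 1952), (2413, 2819), (2414, 2976), (2415, 1954), (2416, 2978), (2417, 2417), (2418, 2418), (2419, 2984), (2420, 1956), (2421, 2987), (2422, 1958), (2423, 2990), (2424, 2991), (2425, 2425), (2426, 2426), (2427, 2796), (2428, 1962), (2429, 2211), (2430,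 2997), (2431, 1964)]
    ⟨e3 q2368 (flp_g L48964) q2916, e3 q2369 L35900 q1918, e3 q2370 (flp_g L48984) q2919, e3 q2371 L48986 q2920, e3 q2372 (flp_g L35917) q1920, e3 q2373 (flp_g L49017) q2923, e3 q2374 L35940 q1922, e3 q2375 (flp_g L49036) q2926, e3 q2376 (flp_g L49048) q2927, e3 q2377 L35964 q2377, e3 q2378 L35974 q2378, e3 q2379 (flp_g L47512) q2773, e3 q2380 L35987 q1926, e3 q2381 (flp_g L49100) q2934, e3 q2382 (flp_g L49110) q2935, e3 q2383 L36007 q1928, e3 q2384 (flp_g L47555) q2778, e3 q2385 L36018 q1931, e3 q2386 L36028 q1932, e3 q2387 L93123 q2203, e3 q2388 (flp_g L49148) q2939, e3 q2389 L49177 q2944, e3 q2390 L36059 q2390, e3 q2391 L49226 q2949, e3 q2392 (flp_g L36070) q1935, e3 q2393 (flp_g L49253) q2951, e3 q2394 L36093 q2394, e3 q2395 L36105 q2395, e3 q2396 (flp_g L36108) q1937, e3 q2397 (flp_g L49313) q2956, e3 q2398 L36137 q1939, e3 q2399 (flp_g L49346) q2959, e3 q2400 L49350 q2960, e3 q2401 (flp_g L36161) q1941, e3 q2402 (flp_g L49383) q2962, e3 q2403 L36182 q1943, e3 q2404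 (flp_g L49402) q2965, e3 q2405 (flp_g L49412) q2966, e3 q2406 L36202 q2406, e3 q2407 L36212 q2407, e3 q2408 L36230 q1947, e3 q2409 L94262 q2814, e3 q2410 (flp_g L49475) q2972, e3 q2411 L36257 q1949, e3 q2412 L36285 q1952, e3 q2413 L109160 q2819, e3 q2414 L49567 q2976, e3 q2415 (flp_g L36311) q1954, e3 q2416 (flp_g L49584) q2978, e3 q2417 L36328 q2417, e3 q2418 L36335 q2418, e3 q2419 L49621 q2984, e3 q2420 (flp_g L36344) q1956, e3 q2421 (flp_g L49654) q2987, e3 q2422 L36367 q1958, e3 q2423 (flp_g L49673) q2990, e3 q2424 (flp_g L49686) q2991, e3 q2425 L36393 q2425, e3 q2426 L36404 q2426, e3 q2427 (flp_g L47706) q2796, e3 q2428 L36418 q1962, e3 q2429 (flp_g L104597) q2211, e3 q2430 (flp_g L49755) q2997, e3 q2431 L36441 q1964, trivial⟩ (by decide +kernel)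

theorem ce_g_38 : ∀ r, r < 64 → sm gg (Qf (2432 + r)) = Qf (tab Gen.g (2432 + r)) :=
  edges_tab (sm gg) Qf (tab Gen.g) 2432 [(2432, 1965), (2433, 3001), (2434, 2803), (2435, 1967), (2436, 3004), (2437, 3005), (2438, 1969), (2439, 1970), (2440, 3009), (2441, 3010), (2442, 3014), (2443, 2443), (2444, 2444), (2445, 1976), (2446, 2214), (2447, 2219), (2448, 2201), (2449, 2204), (2450, 3022), (2451, 1981), (2452, 2829), (2453, 2173), (2454, 2168), (2455, 3027), (2456, 1983), (2457, 2834), (2458, 2839), (2459, 2171), (2460, 1990), (2461, 3031), (2462, 2842), (2463, 2850), (2464, 3036), (2465, 1995), (2466, 2220), (2467, 1999), (2468, 3039), (2469, 2221), (2470, 2207), (2471, 2004), (2472, 2222), (2473, 3044), (2474, 2213), (2475, 2197), (2476, 2194), (2477, 2223), (2478, 2010), (2479, 3051), (2480, 3052), (2481, 2481), (2482, 2482), (2483, 2483), (2484, 2226), (2485, 2227), (2486, 2015), (2487, 2016), (2488, 3064), (2489, 3065), (2490, 3069), (2491, 2491), (2492, 2492), (2493, 2208), (2494,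 2212), (2495, 2215)]
    ⟨e3 q2432 (flp_g L36443) q1965, e3 q2433 (flp_g L49785) q3001, e3 q2434 (flp_g L47768) q2803, e3 q2435 L36468 q1967, e3 q2436 (flp_g L49806) q3004, e3 q2437 (flp_g L49814) q3005, e3 q2438 L36481 q1969, e3 q2439 L36492 q1970, e3 q2440 (flp_g L49832) q3009, e3 q2441 (flp_g L49843) q3010, e3 q2442 L49867 q3014, e3 q2443 L36520 q2443, e3 q2444 L36525 q2444, e3 q2445 L36551 q1976, e3 q2446 (flp_g L104380) q2214, e3 q2447 L109171 q2219, e3 q2448 (flp_g L104086) q2201, e3 q2449 L109167 q2204, e3 q2450 L50018 q3022, e3 q2451 (flp_g L36623) q1981, e3 q2452 (flp_g L112102) q2829, e3 q2453 L36650 q2173, e3 q2454 (flp_g L112228) q2168, e3 q2455 L50102 q3027, e3 q2456 (flp_g L36677) q1983, e3 q2457 (flp_g L110765) q2834, e3 q2458 L111788 q2839, e3 q2459 (flp_g L112233) q2171, e3 q2460 (flp_g L36803) q1990, e3 q2461 (flp_g L50286) q3031, e3 q2462 (flp_g L110751) q2842, e3 q2463 (flp_g L106164) q2850, e3 q2464 L50542 q3036, e3 q2465 (flp_g L37021) q1995, e3 q2466 L112059 q2220,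 e3 q2467 (flp_g L37053) q1999, e3 q2468 (flp_g L50609) q3039, e3 q2469 L110643 q2221, e3 q2470 (flp_g L104559) q2207, e3 q2471 L37157 q2004, e3 q2472 L110688 q2222, e3 q2473 (flp_g L50740) q3044, e3 q2474 L110630 q2213, e3 q2475 L104168 q2197, e3 q2476 L104077 q2194, e3 q2477 (flp_g L98777) q2223, e3 q2478 L37333 q2010, e3 q2479 (flp_g L50973) q3051, e3 q2480 (flp_g L50983) q3052, e3 q2481 L37355 q2481, e3 q2482 L37363 q2482, e3 q2483 L37374 q2483, e3 q2484 L98997 q2226, e3 q2485 L98992 q2227, e3 q2486 L37416 q2015, e3 q2487 L37427 q2016, e3 q2488 (flp_g L51103) q3064, e3 q2489 (flp_g L51114) q3065, e3 q2490 L51139 q3069, e3 q2491 L37458 q2491, e3 q2492 L37463 q2492, e3 q2493 L104402 q2208, e3 q2494 L104734 q2212, e3 q2495 L104392 q2215, trivial⟩ (by decide +kernel)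

theorem ce_g_39 : ∀ r, r < 64 → sm gg (Qf (2496 + r)) = Qf (tab Gen.g (2496 + r)) :=
  edges_tab (sm gg) Qf (tab Gen.g) 2496 [(2496, 2230), (2497, 2231), (2498, 2026), (2499, 2027), (2500, 3083), (2501, 3081), (2502, 3082), (2503, 2028), (2504, 3086), (2505, 2505), (2506, 2198), (2507, 2216), (2508, 2195), (2509, 2202), (2510, 2205), (2511, 2192), (2512, 2512), (2513, 2513), (2514, 2117), (2515, 2515), (2516, 2516), (2517, 3099), (2518, 2518), (2519, 2082), (2520, 2048), (2521, 2080), (2522, 2522), (2523, 2523), (2524, 2086), (2525, 2085), (2526, 2526), (2527, 2527), (2528, 3111), (2529, 2059), (2530, 3113), (2531, 2531), (2532, 2532), (2533, 3119), (2534, 2061), (2535, 2099), (2536, 2063), (2537, 3122), (2538, 2096), (2539, 2539), (2540, 2540), (2541, 2070), (2542, 3128), (2543, 2107), (2544, 2074), (2545, 3132), (2546, 2104), (2547, 3136), (2548, 2548), (2549, 2549), (2550, 3100), (2551, 2078), (2552, 3098), (2553, 2553), (2554, 2554), (2555, 3104), (2556, 3103), (2557, 2557), (2558,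 2558), (2559, 2890)]
    ⟨e3 q2496 L98269 q2230, e3 q2497 (flp_g L99043) q2231, e3 q2498 L37552 q2026, e3 q2499 L37562 q2027, e3 q2500 L51317 q3083, e3 q2501 (flp_g L51306) q3081, e3 q2502 (flp_g L51312) q3082, e3 q2503 (flp_g L37584) q2028, e3 q2504 (flp_g L51343) q3086, e3 q2505 L37602 q2505, e3 q2506 L104396 q2198, e3 q2507 L104490 q2216, e3 q2508 (flp_g L93936) q2195, e3 q2509 L104122 q2202, e3 q2510 L102818 q2205, e3 q2511 (flp_g L102867) q2192, e3 q2512 L38004 q2512, e3 q2513 L38115 q2513, e3 q2514 (flp_g L119403) q2117, e3 q2515 L38132 q2515, e3 q2516 L38190 q2516, e3 q2517 L52269 q3099, e3 q2518 L38287 q2518, e3 q2519 (flp_g L119718) q2082, e3 q2520 (flp_g L38297) q2048, e3 q2521 (flp_g L119747) q2080, e3 q2522 L38318 q2522, e3 q2523 L38326 q2523, e3 q2524 (flp_g L119712) q2086, e3 q2525 (flp_g L119735) q2085, e3 q2526 L38420 q2526, e3 q2527 L38428 q2527, e3 q2528 L52615 q3111, e3 q2529 (flp_g L38517) q2059, e3 q2530 (flp_g L52642) q3113, e3 q2531 L38540 q2531, e3 q2532 L38549 q2532,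 e3 q2533 L52685 q3119, e3 q2534 (flp_g L38556) q2061, e3 q2535 (flp_g L119684) q2099, e3 q2536 L38580 q2063, e3 q2537 (flp_g L52735) q3122, e3 q2538 L118945 q2096, e3 q2539 L38602 q2539, e3 q2540 L38611 q2540, e3 q2541 (flp_g L38654) q2070, e3 q2542 (flp_g L52838) q3128, e3 q2543 (flp_g L119672) q2107, e3 q2544 L38704 q2074, e3 q2545 (flp_g L52903) q3132, e3 q2546 L118365 q2104, e3 q2547 L52936 q3136, e3 q2548 L38744 q2548, e3 q2549 L38750 q2549, e3 q2550 (flp_g L118775) q3100, e3 q2551 (flp_g L38830) q2078, e3 q2552 (flp_g L117632) q3098, e3 q2553 L38849 q2553, e3 q2554 L38856 q2554, e3 q2555 L118726 q3104, e3 q2556 (flp_g L119599) q3103, e3 q2557 L38918 q2557, e3 q2558 L38927 q2558, e3 q2559 L119615 q2890, trivial⟩ (by decide +kernel)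

theorem ce_g_40 : ∀ r, r < 64 → sm gg (Qf (2560 + r)) = Qf (tab Gen.g (2560 + r)) :=
  edges_tab (sm gg) Qf (tab Gen.g) 2560 [(2560, 2886), (2561, 3151), (2562, 2562), (2563, 2563), (2564, 3155), (2565, 2089), (2566, 3115), (2567, 2091), (2568, 3158), (2569, 3112), (2570, 2570), (2571, 2571), (2572, 2572), (2573, 2094), (2574, 3167), (2575, 3124), (2576, 2098), (2577, 3171), (2578, 3121), (2579, 3175), (2580, 2580), (2581, 2581), (2582, 2103), (2583, 3135), (2584, 3178), (2585, 3134), (2586, 2106), (2587, 3183), (2588, 3131), (2589, 3129), (2590, 2108), (2591, 3186), (2592, 2592), (2593, 3190), (2594, 2111), (2595, 3094), (2596, 2113), (2597, 3193), (2598, 2179), (2599, 2180), (2600, 2115), (2601, 3198), (2602, 2856), (2603, 2119), (2604, 3202), (2605, 2605), (2606, 2122), (2607, 2863), (2608, 3204), (2609, 2862), (2610, 2125), (2611, 2611), (2612, 3208), (2613, 2127), (2614, 3211), (2615, 2615), (2616, 2616), (2617, 2130), (2618, 3215), (2619, 2619), (2620, 2620), (2621, 2134), (2622,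 2136), (2623, 2137)]
    ⟨e3 q2560 (flp_g L119588) q2886, e3 q2561 L53345 q3151, e3 q2562 L39054 q2562, e3 q2563 L39058 q2563, e3 q2564 L53474 q3155, e3 q2565 (flp_g L39156) q2089, e3 q2566 L118113 q3115, e3 q2567 L39177 q2091, e3 q2568 (flp_g L53519) q3158, e3 q2569 L118783 q3112, e3 q2570 L39194 q2570, e3 q2571 L39202 q2571, e3 q2572 L39210 q2572, e3 q2573 (flp_g L39211) q2094, e3 q2574 (flp_g L53596) q3167, e3 q2575 L118350 q3124, e3 q2576 L39264 q2098, e3 q2577 (flp_g L53661) q3171, e3 q2578 L118027 q3121, e3 q2579 L53698 q3175, e3 q2580 L39309 q2580, e3 q2581 L39316 q2581, e3 q2582 L39348 q2103, e3 q2583 L117889 q3135, e3 q2584 (flp_g L53758) q3178, e3 q2585 (flp_g L117854) q3134, e3 q2586 L39397 q2106, e3 q2587 L53836 q3183, e3 q2588 L118166 q3131, e3 q2589 (flp_g L119564) q3129, e3 q2590 (flp_g L39426) q2108, e3 q2591 (flp_g L53862) q3186, e3 q2592 L39445 q2592, e3 q2593 L53881 q3190, e3 q2594 (flp_g L39463) q2111, e3 q2595 L118646 q3094, e3 q2596 L39491 q2113, e3 q2597 (flp_g L53932)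 q3193, e3 q2598 L39505 q2179, e3 q2599 L39515 q2180, e3 q2600 (flp_g L39519) q2115, e3 q2601 (flp_g L53978) q3198, e3 q2602 L118673 q2856, e3 q2603 L39566 q2119, e3 q2604 (flp_g L54033) q3202, e3 q2605 L112426 q2605, e3 q2606 L39621 q2122, e3 q2607 L117224 q2863, e3 q2608 (flp_g L54100) q3204, e3 q2609 L119149 q2862, e3 q2610 L39668 q2125, e3 q2611 L82290 q2611, e3 q2612 L54230 q3208, e3 q2613 (flp_g L39742) q2127, e3 q2614 (flp_g L54255) q3211, e3 q2615 L39765 q2615, e3 q2616 L39772 q2616, e3 q2617 L39777 q2130, e3 q2618 (flp_g L54285) q3215, e3 q2619 L39789 q2619, e3 q2620 L39797 q2620, e3 q2621 L39803 q2134, e3 q2622 L39811 q2136, e3 q2623 L39821 q2137, trivial⟩ (by decide +kernel)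

theorem ce_g_41 : ∀ r, r < 64 → sm gg (Qf (2624 + r)) = Qf (tab Gen.g (2624 + r)) :=
  edges_tab (sm gg) Qf (tab Gen.g) 2624 [(2624, 3218), (2625, 3219), (2626, 3220), (2627, 2627), (2628, 2628), (2629, 3230), (2630, 2630), (2631, 2631), (2632, 2143), (2633, 2144), (2634, 3236), (2635, 3234), (2636, 3235), (2637, 2145), (2638, 3239), (2639, 2639), (2640, 3242), (2641, 2151), (2642, 2152), (2643, 2150), (2644, 3245), (2645, 3244), (2646, 2154), (2647, 3248), (2648, 2648), (2649, 2649), (2650, 3254), (2651, 2651), (2652, 2652), (2653, 2158), (2654, 3258), (2655, 2655), (2656, 2162), (2657, 3261), (2658, 2658), (2659, 2165), (2660, 2740), (2661, 2661), (2662, 2831), (2663, 3026), (2664, 2830), (2665, 3025), (2666, 3266), (2667, 2174), (2668, 2668), (2669, 2176), (2670, 2178), (2671, 3268), (2672, 3196), (2673, 2673), (2674, 2674), (2675, 2186), (2676, 2676), (2677, 2677), (2678, 3092), (2679, 2679), (2680, 3048), (2681, 3089), (2682, 2682), (2683, 2683), (2684, 3019), (2685, 3091), (2686,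 3047), (2687, 3017)]
    ⟨e3 q2624 (flp_g L54304) q3218, e3 q2625 (flp_g L54312) q3219, e3 q2626 (flp_g L54323) q3220, e3 q2627 L39850 q2627, e3 q2628 L39857 q2628, e3 q2629 L54388 q3230, e3 q2630 L39874 q2630, e3 q2631 L39880 q2631, e3 q2632 L39886 q2143, e3 q2633 L39896 q2144, e3 q2634 L54436 q3236, e3 q2635 (flp_g L54426) q3234, e3 q2636 (flp_g L54433) q3235, e3 q2637 (flp_g L39919) q2145, e3 q2638 (flp_g L54465) q3239, e3 q2639 L39940 q2639, e3 q2640 L54481 q3242, e3 q2641 L39952 q2151, e3 q2642 L39958 q2152, e3 q2643 (flp_g L39961) q2150, e3 q2644 (flp_g L54508) q3245, e3 q2645 (flp_g L54500) q3244, e3 q2646 L39986 q2154, e3 q2647 (flp_g L54526) q3248, e3 q2648 L39996 q2648, e3 q2649 L40004 q2649, e3 q2650 L54562 q3254, e3 q2651 L40022 q2651, e3 q2652 L40030 q2652, e3 q2653 (flp_g L40032) q2158, e3 q2654 (flp_g L54606) q3258, e3 q2655 L40055 q2655, e3 q2656 L40064 q2162, e3 q2657 (flp_g L54632) q3261, e3 q2658 L40079 q2658, e3 q2659 L40088 q2165, e3 q2660 L120931 q2740, e3 q2661 L40100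 q2661, e3 q2662 (flp_g L112184) q2831, e3 q2663 (flp_g L112218) q3026, e3 q2664 (flp_g L47996) q2830, e3 q2665 (flp_g L50074) q3025, e3 q2666 L59131 q3266, e3 q2667 (flp_g L43365) q2174, e3 q2668 L43388 q2668, e3 q2669 L43397 q2176, e3 q2670 L43412 q2178, e3 q2671 (flp_g L59215) q3268, e3 q2672 (flp_g L53955) q3196, e3 q2673 L43452 q2673, e3 q2674 L43560 q2674, e3 q2675 (flp_g L43715) q2186, e3 q2676 L43736 q2676, e3 q2677 L43757 q2677, e3 q2678 L94028 q3092, e3 q2679 L44646 q2679, e3 q2680 L104195 q3048, e3 q2681 (flp_g L102885) q3089, e3 q2682 L44673 q2682, e3 q2683 L44682 q2683, e3 q2684 (flp_g L104116) q3019, e3 q2685 L102891 q3091, e3 q2686 L104189 q3047, e3 q2687 (flp_g L104389) q3017, trivial⟩ (by decide +kernel)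

theorem ce_g_42 : ∀ r, r < 64 → sm gg (Qf (2688 + r)) = Qf (tab Gen.g (2688 + r)) :=
  edges_tab (sm gg) Qf (tab Gen.g) 2688 [(2688, 3074), (2689, 3090), (2690, 2690), (2691, 2691), (2692, 2940), (2693, 3020), (2694, 2941), (2695, 3043), (2696, 3072), (2697, 2697), (2698, 2698), (2699, 3042), (2700, 2998), (2701, 3061), (2702, 3073), (2703, 2703), (2704, 2704), (2705, 2999), (2706, 3045), (2707, 3006), (2708, 3018), (2709, 3075), (2710, 3076), (2711, 3318), (2712, 2712), (2713, 2713), (2714, 3038), (2715, 3040), (2716, 3046), (2717, 3049), (2718, 3050), (2719, 2719), (2720, 2720), (2721, 2721), (2722, 3062), (2723, 3063), (2724, 3335), (2725, 2725), (2726, 2726), (2727, 3338), (2728, 3078), (2729, 3079), (2730, 2232), (2731, 3341), (2732, 2732), (2733, 2733), (2734, 3347), (2735, 2735), (2736, 3351), (2737, 2236), (2738, 3353), (2739, 2739), (2740, 2660), (2741, 2239), (2742, 3356), (2743, 2743), (2744, 2744), (2745, 2241), (2746, 3361), (2747, 2243), (2748, 3364), (2749, 2749), (2750,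 2246), (2751, 3366)]
    ⟨e3 q2688 (flp_g L98968) q3074, e3 q2689 L104498 q3090, e3 q2690 L44771 q2690, e3 q2691 L44780 q2691, e3 q2692 (flp_g L104102) q2940, e3 q2693 L104118 q3020, e3 q2694 (flp_g L93089) q2941, e3 q2695 L102806 q3043, e3 q2696 L102783 q3072, e3 q2697 L44883 q2697, e3 q2698 L44891 q2698, e3 q2699 (flp_g L102491) q3042, e3 q2700 (flp_g L104603) q2998, e3 q2701 (flp_g L98942) q3061, e3 q2702 L104500 q3073, e3 q2703 L44947 q2703, e3 q2704 L44957 q2704, e3 q2705 L104591 q2999, e3 q2706 L110696 q3045, e3 q2707 (flp_g L104386) q3006, e3 q2708 L104494 q3018, e3 q2709 L99025 q3075, e3 q2710 L104496 q3076, e3 q2711 L61490 q3318, e3 q2712 L45078 q2712, e3 q2713 L45083 q2713, e3 q2714 (flp_g L102527) q3038, e3 q2715 L110701 q3040, e3 q2716 (flp_g L84629) q3046, e3 q2717 L98981 q3049, e3 q2718 L98735 q3050, e3 q2719 L45709 q2719, e3 q2720 L45718 q2720, e3 q2721 L45728 q2721, e3 q2722 L99031 q3062, e3 q2723 L98334 q3063, e3 q2724 L62547 q3335, e3 q2725 L45825 q2725, e3 q2726 L45830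 q2726, e3 q2727 L62776 q3338, e3 q2728 (flp_g L99039) q3078, e3 q2729 L98313 q3079, e3 q2730 (flp_g L45983) q2232, e3 q2731 (flp_g L62800) q3341, e3 q2732 L46000 q2732, e3 q2733 L47181 q2733, e3 q2734 L64436 q3347, e3 q2735 L47199 q2735, e3 q2736 L64470 q3351, e3 q2737 (flp_g L47207) q2236, e3 q2738 (flp_g L64490) q3353, e3 q2739 L47230 q2739, e3 q2740 (flp_g L120931) q2660, e3 q2741 (flp_g L47239) q2239, e3 q2742 (flp_g L64532) q3356, e3 q2743 L47257 q2743, e3 q2744 L47267 q2744, e3 q2745 (flp_g L47269) q2241, e3 q2746 (flp_g L64580) q3361, e3 q2747 L47289 q2243, e3 q2748 (flp_g L64605) q3364, e3 q2749 L47308 q2749, e3 q2750 L47314 q2246, e3 q2751 (flp_g L64617) q3366, trivial⟩ (by decide +kernel)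

theorem ce_g_43 : ∀ r, r < 64 → sm gg (Qf (2752 + r)) = Qf (tab Gen.g (2752 + r)) :=
  edges_tab (sm gg) Qf (tab Gen.g) 2752 [(2752, 3367), (2753, 2248), (2754, 3371), (2755, 2755), (2756, 3376), (2757, 2250), (2758, 3378), (2759, 2759), (2760, 2760), (2761, 2252), (2762, 3384), (2763, 2254), (2764, 3387), (2765, 3388), (2766, 2256), (2767, 3391), (2768, 2258), (2769, 3394), (2770, 3395), (2771, 2771), (2772, 2772), (2773, 2379), (2774, 2262), (2775, 3402), (2776, 3403), (2777, 2264), (2778, 2384), (2779, 2267), (2780, 2268), (2781, 3408), (2782, 3409), (2783, 3414), (2784, 2270), (2785, 3416), (2786, 2786), (2787, 2787), (2788, 3422), (2789, 2272), (2790, 3425), (2791, 2274), (2792, 3428), (2793, 3429), (2794, 2794), (2795, 2795), (2796, 2427), (2797, 2278), (2798, 3436), (2799, 3437), (2800, 2280), (2801, 2281), (2802, 3441), (2803, 2434), (2804, 2283), (2805, 3445), (2806, 3446), (2807, 2285), (2808, 2286), (2809, 3450), (2810, 3451), (2811, 3455), (2812, 2812), (2813, 2813), (2814,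 2409), (2815, 2291)]
    ⟨e3 q2752 (flp_g L64627) q3367, e3 q2753 L47335 q2248, e3 q2754 L64654 q3371, e3 q2755 L47355 q2755, e3 q2756 L64701 q3376, e3 q2757 (flp_g L47366) q2250, e3 q2758 (flp_g L64728) q3378, e3 q2759 L47388 q2759, e3 q2760 L47398 q2760, e3 q2761 (flp_g L47401) q2252, e3 q2762 (flp_g L64778) q3384, e3 q2763 L47423 q2254, e3 q2764 (flp_g L64802) q3387, e3 q2765 L64806 q3388, e3 q2766 (flp_g L47443) q2256, e3 q2767 (flp_g L64843) q3391, e3 q2768 L47470 q2258, e3 q2769 (flp_g L64868) q3394, e3 q2770 (flp_g L64878) q3395, e3 q2771 L47493 q2771, e3 q2772 L47503 q2772, e3 q2773 L47512 q2379, e3 q2774 L47520 q2262, e3 q2775 (flp_g L64932) q3402, e3 q2776 (flp_g L64941) q3403, e3 q2777 L47544 q2264, e3 q2778 L47555 q2384, e3 q2779 L47559 q2267, e3 q2780 L47568 q2268, e3 q2781 (flp_g L64978) q3408, e3 q2782 (flp_g L64987) q3409, e3 q2783 L65020 q3414, e3 q2784 (flp_g L47593) q2270, e3 q2785 (flp_g L65041) q3416, e3 q2786 L47611 q2786, e3 q2787 L47619 q2787, e3 q2788 L65078 q3422,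 e3 q2789 (flp_g L47633) q2272, e3 q2790 (flp_g L65117) q3425, e3 q2791 L47660 q2274, e3 q2792 (flp_g L65142) q3428, e3 q2793 (flp_g L65153) q3429, e3 q2794 L47685 q2794, e3 q2795 L47696 q2795, e3 q2796 L47706 q2427, e3 q2797 L47714 q2278, e3 q2798 (flp_g L65212) q3436, e3 q2799 (flp_g L65223) q3437, e3 q2800 L47741 q2280, e3 q2801 (flp_g L47745) q2281, e3 q2802 (flp_g L65260) q3441, e3 q2803 L47768 q2434, e3 q2804 L47776 q2283, e3 q2805 (flp_g L65288) q3445, e3 q2806 (flp_g L65296) q3446, e3 q2807 L47795 q2285, e3 q2808 L47804 q2286, e3 q2809 (flp_g L65319) q3450, e3 q2810 (flp_g L65328) q3451, e3 q2811 L65349 q3455, e3 q2812 L47832 q2812, e3 q2813 L47836 q2813, e3 q2814 (flp_g L94262) q2409, e3 q2815 L47853 q2291, trivial⟩ (by decide +kernel)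

theorem ce_g_44 : ∀ r, r < 64 → sm gg (Qf (2816 + r)) = Qf (tab Gen.g (2816 + r)) :=
  edges_tab (sm gg) Qf (tab Gen.g) 2816 [(2816, 2292), (2817, 3459), (2818, 3460), (2819, 2413), (2820, 2297), (2821, 2298), (2822, 3463), (2823, 3464), (2824, 3468), (2825, 2299), (2826, 3471), (2827, 2301), (2828, 3473), (2829, 2452), (2830, 2664), (2831, 2662), (2832, 2304), (2833, 3479), (2834, 2457), (2835, 2306), (2836, 3482), (2837, 2308), (2838, 3485), (2839, 2458), (2840, 2313), (2841, 3487), (2842, 2462), (2843, 2315), (2844, 3491), (2845, 3492), (2846, 2318), (2847, 3496), (2848, 3497), (2849, 2320), (2850, 2463), (2851, 2323), (2852, 3500), (2853, 2325), (2854, 3502), (2855, 2855), (2856, 2602), (2857, 2857), (2858, 3509), (2859, 2327), (2860, 3511), (2861, 2861), (2862, 2609), (2863, 2607), (2864, 2864), (2865, 2865), (2866, 2332), (2867, 3518), (2868, 2334), (2869, 3521), (2870, 2870), (2871, 2337), (2872, 3523), (2873, 3524), (2874, 2339), (2875, 3528), (2876, 2876), (2877, 3533), (2878,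 2341), (2879, 3535)]
    ⟨e3 q2816 L47864 q2292, e3 q2817 (flp_g L65394) q3459, e3 q2818 (flp_g L65405) q3460, e3 q2819 (flp_g L109160) q2413, e3 q2820 L47904 q2297, e3 q2821 L47913 q2298, e3 q2822 (flp_g L65461) q3463, e3 q2823 (flp_g L65470) q3464, e3 q2824 L65512 q3468, e3 q2825 (flp_g L47948) q2299, e3 q2826 (flp_g L65548) q3471, e3 q2827 L47973 q2301, e3 q2828 (flp_g L65575) q3473, e3 q2829 L112102 q2452, e3 q2830 L47996 q2664, e3 q2831 L112184 q2662, e3 q2832 (flp_g L48010) q2304, e3 q2833 (flp_g L65647) q3479, e3 q2834 L110765 q2457, e3 q2835 L48046 q2306, e3 q2836 (flp_g L65682) q3482, e3 q2837 L48072 q2308, e3 q2838 (flp_g L65724) q3485, e3 q2839 (flp_g L111788) q2458, e3 q2840 L48129 q2313, e3 q2841 (flp_g L65781) q3487, e3 q2842 L110751 q2462, e3 q2843 L48171 q2315, e3 q2844 (flp_g L65835) q3491, e3 q2845 (flp_g L65843) q3492, e3 q2846 L48202 q2318, e3 q2847 (flp_g L65889) q3496, e3 q2848 (flp_g L65896) q3497, e3 q2849 L48238 q2320, e3 q2850 L106164 q2463, e3 q2851 L48290 q2323,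 e3 q2852 (flp_g L66006) q3500, e3 q2853 L48350 q2325, e3 q2854 (flp_g L66093) q3502, e3 q2855 L48393 q2855, e3 q2856 (flp_g L118673) q2602, e3 q2857 L48414 q2857, e3 q2858 L66195 q3509, e3 q2859 (flp_g L48424) q2327, e3 q2860 (flp_g L66221) q3511, e3 q2861 L48453 q2861, e3 q2862 (flp_g L119149) q2609, e3 q2863 (flp_g L117224) q2607, e3 q2864 L48481 q2864, e3 q2865 L48492 q2865, e3 q2866 (flp_g L48494) q2332, e3 q2867 (flp_g L66316) q3518, e3 q2868 L48514 q2334, e3 q2869 (flp_g L66341) q3521, e3 q2870 L48535 q2870, e3 q2871 L48543 q2337, e3 q2872 (flp_g L66357) q3523, e3 q2873 (flp_g L66369) q3524, e3 q2874 L48570 q2339, e3 q2875 L66402 q3528, e3 q2876 L48595 q2876, e3 q2877 L66458 q3533, e3 q2878 (flp_g L48606) q2341, e3 q2879 (flp_g L66485) q3535, trivial⟩ (by decide +kernel)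

theorem ce_g_45 : ∀ r, r < 64 → sm gg (Qf (2880 + r)) = Qf (tab Gen.g (2880 + r)) :=
  edges_tab (sm gg) Qf (tab Gen.g) 2880 [(2880, 2880), (2881, 2881), (2882, 2343), (2883, 3540), (2884, 2345), (2885, 3543), (2886, 2560), (2887, 2347), (2888, 3545), (2889, 2349), (2890, 2559), (2891, 3548), (2892, 2892), (2893, 2893), (2894, 2353), (2895, 3554), (2896, 3555), (2897, 2355), (2898, 2357), (2899, 2358), (2900, 3406), (2901, 3558), (2902, 3563), (2903, 2360), (2904, 3565), (2905, 2905), (2906, 2906), (2907, 3571), (2908, 2362), (2909, 3574), (2910, 2364), (2911, 3577), (2912, 3578), (2913, 2913), (2914, 2914), (2915, 3383), (2916, 2368), (2917, 3585), (2918, 3586), (2919, 2370), (2920, 2371), (2921, 3590), (2922, 3390), (2923, 2373), (2924, 3594), (2925, 3595), (2926, 2375), (2927, 2376), (2928, 3599), (2929, 3600), (2930, 3604), (2931, 2931), (2932, 2932), (2933, 3401), (2934, 2381), (2935, 2382), (2936, 3608), (2937, 3609), (2938, 3407), (2939, 2388), (2940, 2692), (2941, 2694), (2942,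 3613), (2943, 3618)]
    ⟨e3 q2880 L48629 q2880, e3 q2881 L48640 q2881, e3 q2882 (flp_g L48643) q2343, e3 q2883 (flp_g L66541) q3540, e3 q2884 L48671 q2345, e3 q2885 (flp_g L66571) q3543, e3 q2886 L119588 q2560, e3 q2887 (flp_g L48694) q2347, e3 q2888 (flp_g L66614) q3545, e3 q2889 L48721 q2349, e3 q2890 (flp_g L119615) q2559, e3 q2891 (flp_g L66650) q3548, e3 q2892 L48745 q2892, e3 q2893 L48756 q2893, e3 q2894 L48773 q2353, e3 q2895 (flp_g L66707) q3554, e3 q2896 (flp_g L66716) q3555, e3 q2897 L48797 q2355, e3 q2898 L48816 q2357, e3 q2899 L48827 q2358, e3 q2900 (flp_g L103663) q3406, e3 q2901 (flp_g L66770) q3558, e3 q2902 L66806 q3563, e3 q2903 (flp_g L48854) q2360, e3 q2904 (flp_g L66829) q3565, e3 q2905 L48877 q2905, e3 q2906 L48886 q2906, e3 q2907 L66875 q3571, e3 q2908 (flp_g L48894) q2362, e3 q2909 (flp_g L66906) q3574, e3 q2910 L48917 q2364, e3 q2911 (flp_g L66925) q3577, e3 q2912 (flp_g L66937) q3578, e3 q2913 L48941 q2913, e3 q2914 L48951 q2914, e3 q2915 (flp_g L64770) q3383, e3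 q2916 L48964 q2368, e3 q2917 (flp_g L66989) q3585, e3 q2918 (flp_g L66999) q3586, e3 q2919 L48984 q2370, e3 q2920 (flp_g L48986) q2371, e3 q2921 (flp_g L67028) q3590, e3 q2922 (flp_g L64833) q3390, e3 q2923 L49017 q2373, e3 q2924 (flp_g L67056) q3594, e3 q2925 (flp_g L67066) q3595, e3 q2926 L49036 q2375, e3 q2927 L49048 q2376, e3 q2928 (flp_g L67089) q3599, e3 q2929 (flp_g L67101) q3600, e3 q2930 L67128 q3604, e3 q2931 L49080 q2931, e3 q2932 L49086 q2932, e3 q2933 (flp_g L64926) q3401, e3 q2934 L49100 q2381, e3 q2935 L49110 q2382, e3 q2936 (flp_g L67170) q3608, e3 q2937 (flp_g L67180) q3609, e3 q2938 (flp_g L64972) q3407, e3 q2939 L49148 q2388, e3 q2940 L104102 q2692, e3 q2941 L93089 q2694, e3 q2942 (flp_g L67237) q3613, e3 q2943 L67269 q3618, trivial⟩ (by decide +kernel)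

theorem ce_g_46 : ∀ r, r < 64 → sm gg (Qf (2944 + r)) = Qf (tab Gen.g (2944 + r)) :=
  edges_tab (sm gg) Qf (tab Gen.g) 2944 [(2944, 2389), (2945, 3620), (2946, 2946), (2947, 2947), (2948, 3626), (2949, 2391), (2950, 3628), (2951, 2393), (2952, 3631), (2953, 3632), (2954, 2954), (2955, 2955), (2956, 2397), (2957, 3435), (2958, 3638), (2959, 2399), (2960, 2400), (2961, 3549), (2962, 2402), (2963, 3643), (2964, 3644), (2965, 2404), (2966, 2405), (2967, 3544), (2968, 3648), (2969, 3652), (2970, 2970), (2971, 2971), (2972, 2410), (2973, 3444), (2974, 3458), (2975, 3657), (2976, 2414), (2977, 3660), (2978, 2416), (2979, 3663), (2980, 3664), (2981, 2981), (2982, 2982), (2983, 2983), (2984, 2419), (2985, 3674), (2986, 3424), (2987, 2421), (2988, 3677), (2989, 3678), (2990, 2423), (2991, 2424), (2992, 3682), (2993, 3683), (2994, 3687), (2995, 2995), (2996, 2996), (2997, 2430), (2998, 2700), (2999, 2705), (3000, 3440), (3001, 2433), (3002, 3694), (3003, 3695), (3004, 2436), (3005, 2437), (3006,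 2707), (3007, 3699)]
    ⟨e3 q2944 (flp_g L49177) q2389, e3 q2945 (flp_g L67296) q3620, e3 q2946 L49200 q2946, e3 q2947 L49211 q2947, e3 q2948 L67340 q3626, e3 q2949 (flp_g L49226) q2391, e3 q2950 (flp_g L67381) q3628, e3 q2951 L49253 q2393, e3 q2952 (flp_g L67406) q3631, e3 q2953 (flp_g L67418) q3632, e3 q2954 L49279 q2954, e3 q2955 L49291 q2955, e3 q2956 L49313 q2397, e3 q2957 (flp_g L104625) q3435, e3 q2958 (flp_g L67497) q3638, e3 q2959 L49346 q2399, e3 q2960 (flp_g L49350) q2400, e3 q2961 (flp_g L116572) q3549, e3 q2962 L49383 q2402, e3 q2963 (flp_g L67566) q3643, e3 q2964 (flp_g L67574) q3644, e3 q2965 L49402 q2404, e3 q2966 L49412 q2405, e3 q2967 (flp_g L119608) q3544, e3 q2968 (flp_g L67607) q3648, e3 q2969 L67630 q3652, e3 q2970 L49442 q2970, e3 q2971 L49446 q2971, e3 q2972 L49475 q2410, e3 q2973 L103608 q3444, e3 q2974 (flp_g L109028) q3458, e3 q2975 L67807 q3657, e3 q2976 (flp_g L49567) q2414, e3 q2977 (flp_g L67832) q3660, e3 q2978 L49584 q2416, e3 q2979 (flp_g L67849) q3663,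 e3 q2980 (flp_g L67858) q3664, e3 q2981 L49602 q2981, e3 q2982 L49611 q2982, e3 q2983 L49620 q2983, e3 q2984 (flp_g L49621) q2419, e3 q2985 (flp_g L67934) q3674, e3 q2986 (flp_g L65107) q3424, e3 q2987 L49654 q2421, e3 q2988 (flp_g L67963) q3677, e3 q2989 (flp_g L67973) q3678, e3 q2990 L49673 q2423, e3 q2991 L49686 q2424, e3 q2992 (flp_g L67999) q3682, e3 q2993 (flp_g L68012) q3683, e3 q2994 L68042 q3687, e3 q2995 L49722 q2995, e3 q2996 L49729 q2996, e3 q2997 L49755 q2430, e3 q2998 L104603 q2700, e3 q2999 (flp_g L104591) q2705, e3 q3000 (flp_g L65253) q3440, e3 q3001 L49785 q2433, e3 q3002 (flp_g L68142) q3694, e3 q3003 (flp_g L68152) q3695, e3 q3004 L49806 q2436, e3 q3005 L49814 q2437, e3 q3006 L104386 q2707, e3 q3007 (flp_g L68189) q3699, trivial⟩ (by decide +kernel)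

theorem ce_g_47 : ∀ r, r < 64 → sm gg (Qf (3008 + r)) = Qf (tab Gen.g (3008 + r)) :=
  edges_tab (sm gg) Qf (tab Gen.g) 3008 [(3008, 3700), (3009, 2440), (3010, 2441), (3011, 3710), (3012, 3708), (3013, 3709), (3014, 2442), (3015, 3713), (3016, 3016), (3017, 2687), (3018, 2708), (3019, 2684), (3020, 2693), (3021, 3720), (3022, 2450), (3023, 3470), (3024, 3476), (3025, 2665), (3026, 2663), (3027, 2455), (3028, 3726), (3029, 3478), (3030, 3486), (3031, 2461), (3032, 3490), (3033, 3730), (3034, 3489), (3035, 3733), (3036, 2464), (3037, 3735), (3038, 2714), (3039, 2468), (3040, 2715), (3041, 3739), (3042, 2699), (3043, 2695), (3044, 2473), (3045, 2706), (3046, 2716), (3047, 2686), (3048, 2680), (3049, 2717), (3050, 2718), (3051, 2479), (3052, 2480), (3053, 3750), (3054, 3751), (3055, 3752), (3056, 3056), (3057, 3057), (3058, 3762), (3059, 3059), (3060, 3060), (3061, 2701), (3062, 2722), (3063, 2723), (3064, 2488), (3065, 2489), (3066, 3774), (3067, 3772), (3068, 3773), (3069, 2490), (3070,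 3777), (3071, 3071)]
    ⟨e3 q3008 (flp_g L68197) q3700, e3 q3009 L49832 q2440, e3 q3010 L49843 q2441, e3 q3011 L68251 q3710, e3 q3012 (flp_g L68240) q3708, e3 q3013 (flp_g L68247) q3709, e3 q3014 (flp_g L49867) q2442, e3 q3015 (flp_g L68280) q3713, e3 q3016 L49886 q3016, e3 q3017 L104389 q2687, e3 q3018 (flp_g L104494) q2708, e3 q3019 L104116 q2684, e3 q3020 (flp_g L104118) q2693, e3 q3021 L68458 q3720, e3 q3022 (flp_g L50018) q2450, e3 q3023 L102727 q3470, e3 q3024 (flp_g L83244) q3476, e3 q3025 L50074 q2665, e3 q3026 L112218 q2663, e3 q3027 (flp_g L50102) q2455, e3 q3028 (flp_g L68632) q3726, e3 q3029 (flp_g L102387) q3478, e3 q3030 (flp_g L111793) q3486, e3 q3031 L50286 q2461, e3 q3032 L110708 q3490, e3 q3033 (flp_g L68862) q3730, e3 q3034 L106180 q3489, e3 q3035 L69182 q3733, e3 q3036 (flp_g L50542) q2464, e3 q3037 (flp_g L69210) q3735, e3 q3038 L102527 q2714, e3 q3039 L50609 q2468, e3 q3040 (flp_g L110701) q2715, e3 q3041 (flp_g L69294) q3739, e3 q3042 L102491 q2699, e3 q3043 (flp_g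 L102806) q2695, e3 q3044 L50740 q2473, e3 q3045 (flp_g L110696) q2706, e3 q3046 L84629 q2716, e3 q3047 (flp_g L104189) q2686, e3 q3048 (flp_g L104195) q2680, e3 q3049 (flp_g L98981) q2717, e3 q3050 (flp_g L98735) q2718, e3 q3051 L50973 q2479, e3 q3052 L50983 q2480, e3 q3053 (flp_g L69754) q3750, e3 q3054 (flp_g L69763) q3751, e3 q3055 (flp_g L69775) q3752, e3 q3056 L51014 q3056, e3 q3057 L51022 q3057, e3 q3058 L69845 q3762, e3 q3059 L51039 q3059, e3 q3060 L51045 q3060, e3 q3061 L98942 q2701, e3 q3062 (flp_g L99031) q2722, e3 q3063 (flp_g L98334) q2723, e3 q3064 L51103 q2488, e3 q3065 L51114 q2489, e3 q3066 L69987 q3774, e3 q3067 (flp_g L69975) q3772, e3 q3068 (flp_g L69982) q3773, e3 q3069 (flp_g L51139) q2490, e3 q3070 (flp_g L70017) q3777, e3 q3071 L51160 q3071, trivial⟩ (by decide +kernel)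

theorem ce_g_48 : ∀ r, r < 64 → sm gg (Qf (3072 + r)) = Qf (tab Gen.g (3072 + r)) :=
  edges_tab (sm gg) Qf (tab Gen.g) 3072 [(3072, 2696), (3073, 2702), (3074, 2688), (3075, 2709), (3076, 2710), (3077, 3788), (3078, 2728), (3079, 2729), (3080, 3791), (3081, 2501), (3082, 2502), (3083, 2500), (3084, 3794), (3085, 3793), (3086, 2504), (3087, 3797), (3088, 3088), (3089, 2681), (3090, 2689), (3091, 2685), (3092, 2678), (3093, 3093), (3094, 2595), (3095, 3095), (3096, 3096), (3097, 3097), (3098, 2552), (3099, 2517), (3100, 2550), (3101, 3101), (3102, 3102), (3103, 2556), (3104, 2555), (3105, 3105), (3106, 3106), (3107, 3499), (3108, 3108), (3109, 3109), (3110, 3813), (3111, 2528), (3112, 2569), (3113, 2530), (3114, 3816), (3115, 2566), (3116, 3116), (3117, 3117), (3118, 3118), (3119, 2533), (3120, 3825), (3121, 2578), (3122, 2537), (3123, 3829), (3124, 2575), (3125, 3833), (3126, 3126), (3127, 3127), (3128, 2542), (3129, 2589), (3130, 3651), (3131, 2588), (3132, 2545), (3133, 3839), (3134,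 2585), (3135, 2583)]
    ⟨e3 q3072 (flp_g L102783) q2696, e3 q3073 (flp_g L104500) q2702, e3 q3074 L98968 q2688, e3 q3075 (flp_g L99025) q2709, e3 q3076 (flp_g L104496) q2710, e3 q3077 L70212 q3788, e3 q3078 L99039 q2728, e3 q3079 (flp_g L98313) q2729, e3 q3080 L70233 q3791, e3 q3081 L51306 q2501, e3 q3082 L51312 q2502, e3 q3083 (flp_g L51317) q2500, e3 q3084 (flp_g L70261) q3794, e3 q3085 (flp_g L70252) q3793, e3 q3086 L51343 q2504, e3 q3087 (flp_g L70282) q3797, e3 q3088 L51355 q3088, e3 q3089 L102885 q2681, e3 q3090 (flp_g L104498) q2689, e3 q3091 (flp_g L102891) q2685, e3 q3092 (flp_g L94028) q2678, e3 q3093 L51868 q3093, e3 q3094 (flp_g L118646) q2595, e3 q3095 L52050 q3095, e3 q3096 L52078 q3096, e3 q3097 L52173 q3097, e3 q3098 L117632 q2552, e3 q3099 (flp_g L52269) q2517, e3 q3100 L118775 q2550, e3 q3101 L52294 q3101, e3 q3102 L52303 q3102, e3 q3103 L119599 q2556, e3 q3104 (flp_g L118726) q2555, e3 q3105 L52362 q3105, e3 q3106 L52370 q3106, e3 q3107 (flp_g L120890) q3499, e3 q3108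 L52510 q3108, e3 q3109 L52515 q3109, e3 q3110 L71982 q3813, e3 q3111 (flp_g L52615) q2528, e3 q3112 (flp_g L118783) q2569, e3 q3113 L52642 q2530, e3 q3114 (flp_g L72041) q3816, e3 q3115 (flp_g L118113) q2566, e3 q3116 L52665 q3116, e3 q3117 L52674 q3117, e3 q3118 L52684 q3118, e3 q3119 (flp_g L52685) q2533, e3 q3120 (flp_g L72131) q3825, e3 q3121 (flp_g L118027) q2578, e3 q3122 L52735 q2537, e3 q3123 (flp_g L72197) q3829, e3 q3124 (flp_g L118350) q2575, e3 q3125 L72230 q3833, e3 q3126 L52775 q3126, e3 q3127 L52781 q3127, e3 q3128 L52838 q2542, e3 q3129 L119564 q2589, e3 q3130 (flp_g L116482) q3651, e3 q3131 (flp_g L118166) q2588, e3 q3132 L52903 q2545, e3 q3133 L72459 q3839, e3 q3134 L117854 q2585, e3 q3135 (flp_g L117889) q2583, trivial⟩ (by decide +kernel)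

theorem ce_g_49 : ∀ r, r < 64 → sm gg (Qf (3136 + r)) = Qf (tab Gen.g (3136 + r)) :=
  edges_tab (sm gg) Qf (tab Gen.g) 3136 [(3136, 2547), (3137, 3842), (3138, 3138), (3139, 3804), (3140, 3803), (3141, 3141), (3142, 3142), (3143, 3143), (3144, 3536), (3145, 3532), (3146, 3856), (3147, 3147), (3148, 3148), (3149, 3550), (3150, 3498), (3151, 2561), (3152, 3859), (3153, 3153), (3154, 3862), (3155, 2564), (3156, 3864), (3157, 3819), (3158, 2568), (3159, 3869), (3160, 3870), (3161, 3815), (3162, 3162), (3163, 3163), (3164, 3880), (3165, 3165), (3166, 3166), (3167, 2574), (3168, 3832), (3169, 3883), (3170, 3831), (3171, 2577), (3172, 3888), (3173, 3828), (3174, 3826), (3175, 2579), (3176, 3891), (3177, 3177), (3178, 2584), (3179, 3841), (3180, 3603), (3181, 3896), (3182, 3897), (3183, 2587), (3184, 3898), (3185, 3836), (3186, 2591), (3187, 3901), (3188, 3188), (3189, 3904), (3190, 2593), (3191, 3906), (3192, 3503), (3193, 2597), (3194, 3911), (3195, 3912), (3196, 2672), (3197, 3197), (3198,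 2601), (3199, 3506)]
    ⟨e3 q3136 (flp_g L52936) q2547, e3 q3137 (flp_g L72489) q3842, e3 q3138 L52958 q3138, e3 q3139 (flp_g L118729) q3804, e3 q3140 (flp_g L118756) q3803, e3 q3141 L53079 q3141, e3 q3142 L53086 q3142, e3 q3143 L53094 q3143, e3 q3144 (flp_g L119484) q3536, e3 q3145 (flp_g L119595) q3532, e3 q3146 L72814 q3856, e3 q3147 L53195 q3147, e3 q3148 L53201 q3148, e3 q3149 (flp_g L116566) q3550, e3 q3150 (flp_g L120866) q3498, e3 q3151 (flp_g L53345) q2561, e3 q3152 (flp_g L73046) q3859, e3 q3153 L53361 q3153, e3 q3154 L73177 q3862, e3 q3155 (flp_g L53474) q2564, e3 q3156 (flp_g L73202) q3864, e3 q3157 (flp_g L118359) q3819, e3 q3158 L53519 q2568, e3 q3159 (flp_g L73261) q3869, e3 q3160 (flp_g L73270) q3870, e3 q3161 (flp_g L118128) q3815, e3 q3162 L53554 q3162, e3 q3163 L53562 q3163, e3 q3164 L73343 q3880, e3 q3165 L53575 q3165, e3 q3166 L53580 q3166, e3 q3167 L53596 q2574, e3 q3168 (flp_g L118346) q3832, e3 q3169 (flp_g L73395) q3883, e3 q3170 (flp_g L118357) q3831, e3 q3171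 L53661 q2577, e3 q3172 L73497 q3888, e3 q3173 (flp_g L118032) q3828, e3 q3174 (flp_g L118023) q3826, e3 q3175 (flp_g L53698) q2579, e3 q3176 (flp_g L73531) q3891, e3 q3177 L53723 q3177, e3 q3178 L53758 q2584, e3 q3179 (flp_g L117864) q3841, e3 q3180 (flp_g L117884) q3603, e3 q3181 L73632 q3896, e3 q3182 L73651 q3897, e3 q3183 (flp_g L53836) q2587, e3 q3184 (flp_g L73679) q3898, e3 q3185 (flp_g L118148) q3836, e3 q3186 L53862 q2591, e3 q3187 (flp_g L73696) q3901, e3 q3188 L53872 q3188, e3 q3189 L73709 q3904, e3 q3190 (flp_g L53881) q2593, e3 q3191 (flp_g L73738) q3906, e3 q3192 (flp_g L118653) q3503, e3 q3193 L53932 q2597, e3 q3194 (flp_g L73795) q3911, e3 q3195 (flp_g L73805) q3912, e3 q3196 L53955 q2672, e3 q3197 L82678 q3197, e3 q3198 L53978 q2601, e3 q3199 (flp_g L119143) q3506, trivial⟩ (by decide +kernel)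

theorem ce_g_50 : ∀ r, r < 64 → sm gg (Qf (3200 + r)) = Qf (tab Gen.g (3200 + r)) :=
  edges_tab (sm gg) Qf (tab Gen.g) 3200 [(3200, 3917), (3201, 3505), (3202, 2604), (3203, 3203), (3204, 2608), (3205, 3513), (3206, 3514), (3207, 3207), (3208, 2612), (3209, 3924), (3210, 3210), (3211, 2614), (3212, 3929), (3213, 3213), (3214, 3214), (3215, 2618), (3216, 3216), (3217, 3217), (3218, 2624), (3219, 2625), (3220, 2626), (3221, 3933), (3222, 3934), (3223, 3942), (3224, 3936), (3225, 3937), (3226, 3226), (3227, 3948), (3228, 3228), (3229, 3229), (3230, 2629), (3231, 3952), (3232, 3232), (3233, 3955), (3234, 2635), (3235, 2636), (3236, 2634), (3237, 3958), (3238, 3957), (3239, 2638), (3240, 3961), (3241, 3241), (3242, 2640), (3243, 3964), (3244, 2645), (3245, 2644), (3246, 3967), (3247, 3966), (3248, 2647), (3249, 3355), (3250, 3250), (3251, 3971), (3252, 3252), (3253, 3253), (3254, 2650), (3255, 3976), (3256, 3256), (3257, 3257), (3258, 2654), (3259, 3980), (3260, 3260), (3261, 2657), (3262,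 3346), (3263, 3263)]
    ⟨e3 q3200 (flp_g L73877) q3917, e3 q3201 (flp_g L119156) q3505, e3 q3202 L54033 q2604, e3 q3203 L112421 q3203, e3 q3204 L54100 q2608, e3 q3205 (flp_g L117192) q3513, e3 q3206 (flp_g L117216) q3514, e3 q3207 L112417 q3207, e3 q3208 (flp_g L54230) q2612, e3 q3209 (flp_g L74205) q3924, e3 q3210 L54249 q3210, e3 q3211 L54255 q2614, e3 q3212 (flp_g L74242) q3929, e3 q3213 L54269 q3213, e3 q3214 L54278 q3214, e3 q3215 L54285 q2618, e3 q3216 L54292 q3216, e3 q3217 L54299 q3217, e3 q3218 L54304 q2624, e3 q3219 L54312 q2625, e3 q3220 L54323 q2626, e3 q3221 (flp_g L74277) q3933, e3 q3222 (flp_g L74286) q3934, e3 q3223 L74340 q3942, e3 q3224 (flp_g L74303) q3936, e3 q3225 (flp_g L74311) q3937, e3 q3226 L54365 q3226, e3 q3227 L74388 q3948, e3 q3228 L54381 q3228, e3 q3229 L54387 q3229, e3 q3230 (flp_g L54388) q2629, e3 q3231 (flp_g L74423) q3952, e3 q3232 L54412 q3232, e3 q3233 L74441 q3955, e3 q3234 L54426 q2635, e3 q3235 L54433 q2636, e3 q3236 (flp_g L54436) q2634, e3 q3237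 (flp_g L74472) q3958, e3 q3238 (flp_g L74463) q3957, e3 q3239 L54465 q2638, e3 q3240 (flp_g L74493) q3961, e3 q3241 L54477 q3241, e3 q3242 (flp_g L54481) q2640, e3 q3243 (flp_g L74518) q3964, e3 q3244 L54500 q2645, e3 q3245 L54508 q2644, e3 q3246 (flp_g L74538) q3967, e3 q3247 (flp_g L74529) q3966, e3 q3248 L54526 q2647, e3 q3249 (flp_g L120901) q3355, e3 q3250 L54538 q3250, e3 q3251 L74583 q3971, e3 q3252 L54552 q3252, e3 q3253 L54561 q3253, e3 q3254 (flp_g L54562) q2650, e3 q3255 (flp_g L74626) q3976, e3 q3256 L54588 q3256, e3 q3257 L54595 q3257, e3 q3258 L54606 q2654, e3 q3259 (flp_g L74659) q3980, e3 q3260 L54622 q3260, e3 q3261 L54632 q2657, e3 q3262 (flp_g L121041) q3346, e3 q3263 L54647 q3263, trivial⟩ (by decide +kernel)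

theorem ce_g_51 : ∀ r, r < 64 → sm gg (Qf (3264 + r)) = Qf (tab Gen.g (3264 + r)) :=
  edges_tab (sm gg) Qf (tab Gen.g) 3264 [(3264, 3477), (3265, 3725), (3266, 2666), (3267, 3267), (3268, 2671), (3269, 3915), (3270, 3270), (3271, 3271), (3272, 3272), (3273, 3743), (3274, 3780), (3275, 3275), (3276, 3276), (3277, 3746), (3278, 3716), (3279, 3782), (3280, 3800), (3281, 3281), (3282, 3282), (3283, 3614), (3284, 3718), (3285, 3744), (3286, 3701), (3287, 3717), (3288, 3783), (3289, 3784), (3290, 4012), (3291, 3291), (3292, 3292), (3293, 3610), (3294, 3615), (3295, 3616), (3296, 3742), (3297, 3690), (3298, 3765), (3299, 3781), (3300, 3300), (3301, 3301), (3302, 3302), (3303, 3740), (3304, 3679), (3305, 3691), (3306, 3766), (3307, 3767), (3308, 4036), (3309, 3309), (3310, 3310), (3311, 3696), (3312, 3745), (3313, 3702), (3314, 3703), (3315, 4044), (3316, 3786), (3317, 3787), (3318, 2711), (3319, 4047), (3320, 3320), (3321, 3738), (3322, 3736), (3323, 3741), (3324, 3747), (3325, 3748), (3326,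 3749), (3327, 3327)]
    ⟨e3 q3264 L112198 q3477, e3 q3265 L82744 q3725, e3 q3266 (flp_g L59131) q2666, e3 q3267 L59156 q3267, e3 q3268 L59215 q2671, e3 q3269 (flp_g L73827) q3915, e3 q3270 L59270 q3270, e3 q3271 L59622 q3271, e3 q3272 L59650 q3272, e3 q3273 (flp_g L120755) q3743, e3 q3274 (flp_g L120757) q3780, e3 q3275 L60877 q3275, e3 q3276 L60887 q3276, e3 q3277 (flp_g L120857) q3746, e3 q3278 L120835 q3716, e3 q3279 L120795 q3782, e3 q3280 L120837 q3800, e3 q3281 L60940 q3281, e3 q3282 L60949 q3282, e3 q3283 L120851 q3614, e3 q3284 (flp_g L120839) q3718, e3 q3285 (flp_g L120859) q3744, e3 q3286 L120870 q3701, e3 q3287 (flp_g L120855) q3717, e3 q3288 L120797 q3783, e3 q3289 L120799 q3784, e3 q3290 L121285 q4012, e3 q3291 L61083 q3291, e3 q3292 L61089 q3292, e3 q3293 L120853 q3610, e3 q3294 L120749 q3615, e3 q3295 L120751 q3616, e3 q3296 L120817 q3742, e3 q3297 (flp_g L120831) q3690, e3 q3298 L120791 q3765, e3 q3299 (flp_g L120833) q3781, e3 q3300 L61228 q3300, e3 q3301 L61238 q3301,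 e3 q3302 L61246 q3302, e3 q3303 L120819 q3740, e3 q3304 L120868 q3679, e3 q3305 (flp_g L120876) q3691, e3 q3306 L120793 q3766, e3 q3307 (flp_g L120783) q3767, e3 q3308 L121451 q4036, e3 q3309 L61343 q3309, e3 q3310 L61350 q3310, e3 q3311 L120872 q3696, e3 q3312 L120742 q3745, e3 q3313 (flp_g L120809) q3702, e3 q3314 L120874 q3703, e3 q3315 L121498 q4044, e3 q3316 (flp_g L120811) q3786, e3 q3317 (flp_g L120777) q3787, e3 q3318 (flp_g L61490) q2711, e3 q3319 (flp_g L121525) q4047, e3 q3320 L61508 q3320, e3 q3321 L120821 q3738, e3 q3322 L120823 q3736, e3 q3323 L120740 q3741, e3 q3324 (flp_g L120801) q3747, e3 q3325 (flp_g L120803) q3748, e3 q3326 (flp_g L120781) q3749, e3 q3327 L62394 q3327, trivial⟩ (by decide +kernel)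

theorem ce_g_52 : ∀ r, r < 64 → sm gg (Qf (3328 + r)) = Qf (tab Gen.g (3328 + r)) :=
  edges_tab (sm gg) Qf (tab Gen.g) 3328 [(3328, 3328), (3329, 4061), (3330, 3330), (3331, 3331), (3332, 4064), (3333, 3769), (3334, 3770), (3335, 2724), (3336, 4067), (3337, 3337), (3338, 2727), (3339, 4070), (3340, 3790), (3341, 2731), (3342, 4073), (3343, 3343), (3344, 3909), (3345, 3345), (3346, 3262), (3347, 2734), (3348, 4081), (3349, 3349), (3350, 3350), (3351, 2736), (3352, 4086), (3353, 2738), (3354, 4089), (3355, 3249), (3356, 2742), (3357, 4091), (3358, 4092), (3359, 3359), (3360, 3360), (3361, 2746), (3362, 4098), (3363, 4099), (3364, 2748), (3365, 3365), (3366, 2751), (3367, 2752), (3368, 4104), (3369, 4105), (3370, 4110), (3371, 2754), (3372, 4112), (3373, 3373), (3374, 3374), (3375, 4118), (3376, 2756), (3377, 4121), (3378, 2758), (3379, 4124), (3380, 4125), (3381, 3381), (3382, 3382), (3383, 2915), (3384, 2762), (3385, 4132), (3386, 4133), (3387, 2764), (3388, 2765), (3389, 4137), (3390,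 2922), (3391, 2767)]
    ⟨e3 q3328 L62403 q3328, e3 q3329 L121617 q4061, e3 q3330 L62419 q3330, e3 q3331 L62425 q3331, e3 q3332 L121642 q4064, e3 q3333 (flp_g L120785) q3769, e3 q3334 (flp_g L120775) q3770, e3 q3335 (flp_g L62547) q2724, e3 q3336 (flp_g L121670) q4067, e3 q3337 L62567 q3337, e3 q3338 (flp_g L62776) q2727, e3 q3339 (flp_g L121692) q4070, e3 q3340 (flp_g L120779) q3790, e3 q3341 L62800 q2731, e3 q3342 (flp_g L121711) q4073, e3 q3343 L62811 q3343, e3 q3344 (flp_g L121044) q3909, e3 q3345 L64427 q3345, e3 q3346 L121041 q3262, e3 q3347 (flp_g L64436) q2734, e3 q3348 (flp_g L121782) q4081, e3 q3349 L64457 q3349, e3 q3350 L64468 q3350, e3 q3351 (flp_g L64470) q2736, e3 q3352 (flp_g L121830) q4086, e3 q3353 L64490 q2738, e3 q3354 (flp_g L121855) q4089, e3 q3355 L120901 q3249, e3 q3356 L64532 q2742, e3 q3357 (flp_g L121875) q4091, e3 q3358 (flp_g L121890) q4092, e3 q3359 L64555 q3359, e3 q3360 L64565 q3360, e3 q3361 L64580 q2746, e3 q3362 (flp_g L121942) q4098, e3 q3363 (flp_g L121959)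 q4099, e3 q3364 L64605 q2748, e3 q3365 L64614 q3365, e3 q3366 L64617 q2751, e3 q3367 L64627 q2752, e3 q3368 (flp_g L122003) q4104, e3 q3369 (flp_g L122013) q4105, e3 q3370 L122048 q4110, e3 q3371 (flp_g L64654) q2754, e3 q3372 (flp_g L122075) q4112, e3 q3373 L64678 q3373, e3 q3374 L64688 q3374, e3 q3375 L122121 q4118, e3 q3376 (flp_g L64701) q2756, e3 q3377 (flp_g L122158) q4121, e3 q3378 L64728 q2758, e3 q3379 (flp_g L122183) q4124, e3 q3380 (flp_g L122193) q4125, e3 q3381 L64751 q3381, e3 q3382 L64761 q3382, e3 q3383 L64770 q2915, e3 q3384 L64778 q2762, e3 q3385 (flp_g L122247) q4132, e3 q3386 (flp_g L122256) q4133, e3 q3387 L64802 q2764, e3 q3388 (flp_g L64806) q2765, e3 q3389 (flp_g L122294) q4137, e3 q3390 L64833 q2922, e3 q3391 L64843 q2767, trivial⟩ (by decide +kernel)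

theorem ce_g_53 : ∀ r, r < 64 → sm gg (Qf (3392 + r)) = Qf (tab Gen.g (3392 + r)) :=
  edges_tab (sm gg) Qf (tab Gen.g) 3392 [(3392, 4141), (3393, 4142), (3394, 2769), (3395, 2770), (3396, 4146), (3397, 4147), (3398, 4151), (3399, 3399), (3400, 3400), (3401, 2933), (3402, 2775), (3403, 2776), (3404, 4156), (3405, 4157), (3406, 2900), (3407, 2938), (3408, 2781), (3409, 2782), (3410, 4163), (3411, 4164), (3412, 4165), (3413, 4170), (3414, 2783), (3415, 4173), (3416, 2785), (3417, 4176), (3418, 4177), (3419, 3419), (3420, 3420), (3421, 3421), (3422, 2788), (3423, 4187), (3424, 2986), (3425, 2790), (3426, 4191), (3427, 4192), (3428, 2792), (3429, 2793), (3430, 4196), (3431, 4197), (3432, 4201), (3433, 3433), (3434, 3434), (3435, 2957), (3436, 2798), (3437, 2799), (3438, 4205), (3439, 4206), (3440, 3000), (3441, 2802), (3442, 4211), (3443, 4212), (3444, 2973), (3445, 2805), (3446, 2806), (3447, 4218), (3448, 4219), (3449, 4220), (3450, 2809), (3451, 2810), (3452, 4230), (3453, 4228), (3454,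 4229), (3455, 2811)]
    ⟨e3 q3392 (flp_g L122329) q4141, e3 q3393 (flp_g L122339) q4142, e3 q3394 L64868 q2769, e3 q3395 L64878 q2770, e3 q3396 (flp_g L122369) q4146, e3 q3397 (flp_g L122381) q4147, e3 q3398 L122405 q4151, e3 q3399 L64910 q3399, e3 q3400 L64915 q3400, e3 q3401 L64926 q2933, e3 q3402 L64932 q2775, e3 q3403 L64941 q2776, e3 q3404 (flp_g L122453) q4156, e3 q3405 (flp_g L122462) q4157, e3 q3406 L103663 q2900, e3 q3407 L64972 q2938, e3 q3408 L64978 q2781, e3 q3409 L64987 q2782, e3 q3410 (flp_g L122512) q4163, e3 q3411 (flp_g L122525) q4164, e3 q3412 (flp_g L122529) q4165, e3 q3413 L122565 q4170, e3 q3414 (flp_g L65020) q2783, e3 q3415 (flp_g L122596) q4173, e3 q3416 L65041 q2785, e3 q3417 (flp_g L122619) q4176, e3 q3418 (flp_g L122627) q4177, e3 q3419 L65060 q3419, e3 q3420 L65067 q3420, e3 q3421 L65077 q3421, e3 q3422 (flp_g L65078) q2788, e3 q3423 (flp_g L122706) q4187, e3 q3424 L65107 q2986, e3 q3425 L65117 q2790, e3 q3426 (flp_g L122742) q4191, e3 q3427 (flp_g L122752) q4192,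 e3 q3428 L65142 q2792, e3 q3429 L65153 q2793, e3 q3430 (flp_g L122783) q4196, e3 q3431 (flp_g L122794) q4197, e3 q3432 L122821 q4201, e3 q3433 L65189 q3433, e3 q3434 L65195 q3434, e3 q3435 L104625 q2957, e3 q3436 L65212 q2798, e3 q3437 L65223 q2799, e3 q3438 (flp_g L122868) q4205, e3 q3439 (flp_g L122883) q4206, e3 q3440 L65253 q3000, e3 q3441 L65260 q2802, e3 q3442 (flp_g L122925) q4211, e3 q3443 (flp_g L122934) q4212, e3 q3444 (flp_g L103608) q2973, e3 q3445 L65288 q2805, e3 q3446 L65296 q2806, e3 q3447 (flp_g L122980) q4218, e3 q3448 (flp_g L122986) q4219, e3 q3449 (flp_g L122994) q4220, e3 q3450 L65319 q2809, e3 q3451 L65328 q2810, e3 q3452 L123056 q4230, e3 q3453 (flp_g L123045) q4228, e3 q3454 (flp_g L123051) q4229, e3 q3455 (flp_g L65349) q2811, trivial⟩ (by decide +kernel)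

theorem ce_g_54 : ∀ r, r < 64 → sm gg (Qf (3456 + r)) = Qf (tab Gen.g (3456 + r)) :=
  edges_tab (sm gg) Qf (tab Gen.g) 3456 [(3456, 4233), (3457, 3457), (3458, 2974), (3459, 2817), (3460, 2818), (3461, 4236), (3462, 4237), (3463, 2822), (3464, 2823), (3465, 4240), (3466, 4241), (3467, 4243), (3468, 2824), (3469, 4246), (3470, 3023), (3471, 2826), (3472, 4249), (3473, 2828), (3474, 4252), (3475, 4253), (3476, 3024), (3477, 3264), (3478, 3029), (3479, 2833), (3480, 4259), (3481, 4260), (3482, 2836), (3483, 4264), (3484, 4265), (3485, 2838), (3486, 3030), (3487, 2841), (3488, 4268), (3489, 3034), (3490, 3032), (3491, 2844), (3492, 2845), (3493, 4272), (3494, 4273), (3495, 4274), (3496, 2847), (3497, 2848), (3498, 3150), (3499, 3107), (3500, 2852), (3501, 4280), (3502, 2854), (3503, 3192), (3504, 3504), (3505, 3201), (3506, 3199), (3507, 3507), (3508, 3508), (3509, 2858), (3510, 4289), (3511, 2860), (3512, 4292), (3513, 3205), (3514, 3206), (3515, 3515), (3516, 3516), (3517, 3517), (3518,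 2867), (3519, 4296)]
    ⟨e3 q3456 (flp_g L123081) q4233, e3 q3457 L65368 q3457, e3 q3458 L109028 q2974, e3 q3459 L65394 q2817, e3 q3460 L65405 q2818, e3 q3461 (flp_g L123102) q4236, e3 q3462 (flp_g L123115) q4237, e3 q3463 L65461 q2822, e3 q3464 L65470 q2823, e3 q3465 (flp_g L123142) q4240, e3 q3466 (flp_g L123155) q4241, e3 q3467 L123166 q4243, e3 q3468 (flp_g L65512) q2824, e3 q3469 (flp_g L123199) q4246, e3 q3470 (flp_g L102727) q3023, e3 q3471 L65548 q2826, e3 q3472 (flp_g L123227) q4249, e3 q3473 L65575 q2828, e3 q3474 (flp_g L123249) q4252, e3 q3475 (flp_g L123260) q4253, e3 q3476 L83244 q3024, e3 q3477 (flp_g L112198) q3264, e3 q3478 L102387 q3029, e3 q3479 L65647 q2833, e3 q3480 (flp_g L123328) q4259, e3 q3481 (flp_g L123337) q4260, e3 q3482 L65682 q2836, e3 q3483 (flp_g L123371) q4264, e3 q3484 (flp_g L123385) q4265, e3 q3485 L65724 q2838, e3 q3486 L111793 q3030, e3 q3487 L65781 q2841, e3 q3488 (flp_g L123414) q4268, e3 q3489 (flp_g L106180) q3034, e3 q3490 (flp_g L110708) q3032,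 e3 q3491 L65835 q2844, e3 q3492 L65843 q2845, e3 q3493 (flp_g L123452) q4272, e3 q3494 (flp_g L123465) q4273, e3 q3495 (flp_g L123479) q4274, e3 q3496 L65889 q2847, e3 q3497 L65896 q2848, e3 q3498 L120866 q3150, e3 q3499 L120890 q3107, e3 q3500 L66006 q2852, e3 q3501 (flp_g L123540) q4280, e3 q3502 L66093 q2854, e3 q3503 L118653 q3192, e3 q3504 L66150 q3504, e3 q3505 L119156 q3201, e3 q3506 L119143 q3199, e3 q3507 L66181 q3507, e3 q3508 L66193 q3508, e3 q3509 (flp_g L66195) q2858, e3 q3510 (flp_g L123647) q4289, e3 q3511 L66221 q2860, e3 q3512 (flp_g L123680) q4292, e3 q3513 L117192 q3205, e3 q3514 L117216 q3206, e3 q3515 L66290 q3515, e3 q3516 L66301 q3516, e3 q3517 L66309 q3517, e3 q3518 L66316 q2867, e3 q3519 (flp_g L123719) q4296, trivial⟩ (by decide +kernel)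

theorem ce_g_55 : ∀ r, r < 64 → sm gg (Qf (3520 + r)) = Qf (tab Gen.g (3520 + r)) :=
  edges_tab (sm gg) Qf (tab Gen.g) 3520 [(3520, 4297), (3521, 2869), (3522, 3522), (3523, 2872), (3524, 2873), (3525, 4161), (3526, 4302), (3527, 4307), (3528, 2875), (3529, 4309), (3530, 3530), (3531, 3531), (3532, 3145), (3533, 2877), (3534, 4316), (3535, 2879), (3536, 3144), (3537, 4319), (3538, 3538), (3539, 3539), (3540, 2883), (3541, 4325), (3542, 4326), (3543, 2885), (3544, 2967), (3545, 2888), (3546, 4331), (3547, 4332), (3548, 2891), (3549, 2961), (3550, 3149), (3551, 4276), (3552, 3552), (3553, 3553), (3554, 2895), (3555, 2896), (3556, 4339), (3557, 4340), (3558, 2901), (3559, 4154), (3560, 4162), (3561, 4344), (3562, 4349), (3563, 2902), (3564, 4352), (3565, 2904), (3566, 4355), (3567, 4356), (3568, 3568), (3569, 3569), (3570, 3570), (3571, 2907), (3572, 4366), (3573, 4120), (3574, 2909), (3575, 4370), (3576, 4371), (3577, 2911), (3578, 2912), (3579, 4375), (3580, 4376), (3581, 4380), (3582,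 3582), (3583, 3583)]
    ⟨e3 q3520 (flp_g L123732) q4297, e3 q3521 L66341 q2869, e3 q3522 L66352 q3522, e3 q3523 L66357 q2872, e3 q3524 L66369 q2873, e3 q3525 (flp_g L122492) q4161, e3 q3526 (flp_g L123776) q4302, e3 q3527 L123818 q4307, e3 q3528 (flp_g L66402) q2875, e3 q3529 (flp_g L123853) q4309, e3 q3530 L66431 q3530, e3 q3531 L66444 q3531, e3 q3532 L119595 q3145, e3 q3533 (flp_g L66458) q2877, e3 q3534 (flp_g L123929) q4316, e3 q3535 L66485 q2879, e3 q3536 L119484 q3144, e3 q3537 (flp_g L123958) q4319, e3 q3538 L66509 q3538, e3 q3539 L66520 q3539, e3 q3540 L66541 q2883, e3 q3541 (flp_g L124022) q4325, e3 q3542 (flp_g L124033) q4326, e3 q3543 L66571 q2885, e3 q3544 L119608 q2967, e3 q3545 L66614 q2888, e3 q3546 (flp_g L124083) q4331, e3 q3547 (flp_g L124097) q4332, e3 q3548 L66650 q2891, e3 q3549 L116572 q2961, e3 q3550 L116566 q3149, e3 q3551 (flp_g L123500) q4276, e3 q3552 L66684 q3552, e3 q3553 L66689 q3553, e3 q3554 L66707 q2895, e3 q3555 L66716 q2896, e3 q3556 (flp_g L124158) q4339,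 e3 q3557 (flp_g L124167) q4340, e3 q3558 L66770 q2901, e3 q3559 (flp_g L122435) q4154, e3 q3560 (flp_g L122504) q4162, e3 q3561 (flp_g L124195) q4344, e3 q3562 L124233 q4349, e3 q3563 (flp_g L66806) q2902, e3 q3564 (flp_g L124270) q4352, e3 q3565 L66829 q2904, e3 q3566 (flp_g L124293) q4355, e3 q3567 (flp_g L124304) q4356, e3 q3568 L66853 q3568, e3 q3569 L66863 q3569, e3 q3570 L66874 q3570, e3 q3571 (flp_g L66875) q2907, e3 q3572 (flp_g L124395) q4366, e3 q3573 (flp_g L122148) q4120, e3 q3574 L66906 q2909, e3 q3575 (flp_g L124423) q4370, e3 q3576 (flp_g L124433) q4371, e3 q3577 L66925 q2911, e3 q3578 L66937 q2912, e3 q3579 (flp_g L124458) q4375, e3 q3580 (flp_g L124470) q4376, e3 q3581 L124503 q4380, e3 q3582 L66969 q3582, e3 q3583 L66975 q3583, trivial⟩ (by decide +kernel)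

theorem ce_g_56 : ∀ r, r < 64 → sm gg (Qf (3584 + r)) = Qf (tab Gen.g (3584 + r)) :=
  edges_tab (sm gg) Qf (tab Gen.g) 3584 [(3584, 4131), (3585, 2917), (3586, 2918), (3587, 4384), (3588, 4385), (3589, 4136), (3590, 2921), (3591, 4390), (3592, 4391), (3593, 4140), (3594, 2924), (3595, 2925), (3596, 4397), (3597, 4398), (3598, 4399), (3599, 2928), (3600, 2929), (3601, 4408), (3602, 4407), (3603, 3180), (3604, 2930), (3605, 4411), (3606, 3606), (3607, 4155), (3608, 2936), (3609, 2937), (3610, 3293), (3611, 4414), (3612, 4415), (3613, 2942), (3614, 3283), (3615, 3294), (3616, 3295), (3617, 4422), (3618, 2943), (3619, 4424), (3620, 2945), (3621, 4427), (3622, 4428), (3623, 3623), (3624, 3624), (3625, 3625), (3626, 2948), (3627, 4320), (3628, 2950), (3629, 4439), (3630, 4440), (3631, 2952), (3632, 2953), (3633, 4315), (3634, 4444), (3635, 4448), (3636, 3636), (3637, 3637), (3638, 2958), (3639, 4190), (3640, 4204), (3641, 4334), (3642, 4336), (3643, 2963), (3644, 2964), (3645, 4216), (3646,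 4329), (3647, 4455)]
    ⟨e3 q3584 (flp_g L122241) q4131, e3 q3585 L66989 q2917, e3 q3586 L66999 q2918, e3 q3587 (flp_g L124542) q4384, e3 q3588 (flp_g L124552) q4385, e3 q3589 (flp_g L122284) q4136, e3 q3590 L67028 q2921, e3 q3591 (flp_g L124584) q4390, e3 q3592 (flp_g L124597) q4391, e3 q3593 (flp_g L122323) q4140, e3 q3594 L67056 q2924, e3 q3595 L67066 q2925, e3 q3596 (flp_g L124639) q4397, e3 q3597 (flp_g L124649) q4398, e3 q3598 (flp_g L124661) q4399, e3 q3599 L67089 q2928, e3 q3600 L67101 q2929, e3 q3601 L124719 q4408, e3 q3602 (flp_g L124715) q4407, e3 q3603 L117884 q3180, e3 q3604 (flp_g L67128) q2930, e3 q3605 (flp_g L124754) q4411, e3 q3606 L67150 q3606, e3 q3607 (flp_g L122445) q4155, e3 q3608 L67170 q2936, e3 q3609 L67180 q2937, e3 q3610 (flp_g L120853) q3293, e3 q3611 (flp_g L124779) q4414, e3 q3612 (flp_g L124786) q4415, e3 q3613 L67237 q2942, e3 q3614 (flp_g L120851) q3283, e3 q3615 (flp_g L120749) q3294, e3 q3616 (flp_g L120751) q3295, e3 q3617 L124843 q4422, e3 q3618 (flp_g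 L67269) q2943, e3 q3619 (flp_g L124871) q4424, e3 q3620 L67296 q2945, e3 q3621 (flp_g L124898) q4427, e3 q3622 (flp_g L124909) q4428, e3 q3623 L67318 q3623, e3 q3624 L67328 q3624, e3 q3625 L67339 q3625, e3 q3626 (flp_g L67340) q2948, e3 q3627 (flp_g L123968) q4320, e3 q3628 L67381 q2950, e3 q3629 (flp_g L125002) q4439, e3 q3630 (flp_g L125012) q4440, e3 q3631 L67406 q2952, e3 q3632 L67418 q2953, e3 q3633 (flp_g L123919) q4315, e3 q3634 (flp_g L125046) q4444, e3 q3635 L125079 q4448, e3 q3636 L67456 q3636, e3 q3637 L67462 q3637, e3 q3638 L67497 q2958, e3 q3639 (flp_g L122736) q4190, e3 q3640 (flp_g L122857) q4204, e3 q3641 (flp_g L124111) q4334, e3 q3642 (flp_g L124133) q4336, e3 q3643 L67566 q2963, e3 q3644 L67574 q2964, e3 q3645 (flp_g L122961) q4216, e3 q3646 (flp_g L124060) q4329, e3 q3647 (flp_g L125144) q4455, trivial⟩ (by decide +kernel)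

theorem ce_g_57 : ∀ r, r < 64 → sm gg (Qf (3648 + r)) = Qf (tab Gen.g (3648 + r)) :=
  edges_tab (sm gg) Qf (tab Gen.g) 3648 [(3648, 2968), (3649, 4275), (3650, 4330), (3651, 3130), (3652, 2969), (3653, 4462), (3654, 3654), (3655, 4217), (3656, 4465), (3657, 2975), (3658, 4468), (3659, 4172), (3660, 2977), (3661, 4471), (3662, 4472), (3663, 2979), (3664, 2980), (3665, 4476), (3666, 4477), (3667, 4478), (3668, 3668), (3669, 3669), (3670, 4488), (3671, 3671), (3672, 3672), (3673, 4186), (3674, 2985), (3675, 4493), (3676, 4494), (3677, 2988), (3678, 2989), (3679, 3304), (3680, 4498), (3681, 4499), (3682, 2992), (3683, 2993), (3684, 4509), (3685, 4507), (3686, 4508), (3687, 2994), (3688, 4512), (3689, 3689), (3690, 3297), (3691, 3305), (3692, 4209), (3693, 4210), (3694, 3002), (3695, 3003), (3696, 3311), (3697, 4519), (3698, 4520), (3699, 3007), (3700, 3008), (3701, 3286), (3702, 3313), (3703, 3314), (3704, 4536), (3705, 4528), (3706, 4529), (3707, 4539), (3708, 3012), (3709, 3013), (3710,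 3011), (3711, 4542)]
    ⟨e3 q3648 L67607 q2968, e3 q3649 (flp_g L123487) q4275, e3 q3650 (flp_g L124075) q4330, e3 q3651 L116482 q3130, e3 q3652 (flp_g L67630) q2969, e3 q3653 (flp_g L125190) q4462, e3 q3654 L67650 q3654, e3 q3655 (flp_g L122972) q4217, e3 q3656 L125208 q4465, e3 q3657 (flp_g L67807) q2975, e3 q3658 (flp_g L125236) q4468, e3 q3659 (flp_g L122588) q4172, e3 q3660 L67832 q2977, e3 q3661 (flp_g L125254) q4471, e3 q3662 (flp_g L125262) q4472, e3 q3663 L67849 q2979, e3 q3664 L67858 q2980, e3 q3665 (flp_g L125281) q4476, e3 q3666 (flp_g L125291) q4477, e3 q3667 (flp_g L125302) q4478, e3 q3668 L67888 q3668, e3 q3669 L67897 q3669, e3 q3670 L125373 q4488, e3 q3671 L67910 q3671, e3 q3672 L67915 q3672, e3 q3673 (flp_g L122697) q4186, e3 q3674 L67934 q2985, e3 q3675 (flp_g L125418) q4493, e3 q3676 (flp_g L125432) q4494, e3 q3677 L67963 q2988, e3 q3678 L67973 q2989, e3 q3679 (flp_g L120868) q3304, e3 q3680 (flp_g L125464) q4498, e3 q3681 (flp_g L125476) q4499, e3 q3682 L67999 q2992,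 e3 q3683 L68012 q2993, e3 q3684 L125554 q4509, e3 q3685 (flp_g L125539) q4507, e3 q3686 (flp_g L125548) q4508, e3 q3687 (flp_g L68042) q2994, e3 q3688 (flp_g L125591) q4512, e3 q3689 L68067 q3689, e3 q3690 L120831 q3297, e3 q3691 L120876 q3305, e3 q3692 (flp_g L122909) q4209, e3 q3693 (flp_g L122921) q4210, e3 q3694 L68142 q3002, e3 q3695 L68152 q3003, e3 q3696 (flp_g L120872) q3311, e3 q3697 (flp_g L125654) q4519, e3 q3698 (flp_g L125666) q4520, e3 q3699 L68189 q3007, e3 q3700 L68197 q3008, e3 q3701 (flp_g L120870) q3286, e3 q3702 L120809 q3313, e3 q3703 (flp_g L120874) q3314, e3 q3704 L125775 q4536, e3 q3705 (flp_g L125723) q4528, e3 q3706 (flp_g L125729) q4529, e3 q3707 L125789 q4539, e3 q3708 L68240 q3012, e3 q3709 L68247 q3013, e3 q3710 (flp_g L68251) q3011, e3 q3711 (flp_g L125823) q4542, trivial⟩ (by decide +kernel)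

theorem ce_g_58 : ∀ r, r < 64 → sm gg (Qf (3712 + r)) = Qf (tab Gen.g (3712 + r)) :=
  edges_tab (sm gg) Qf (tab Gen.g) 3712 [(3712, 4541), (3713, 3015), (3714, 4545), (3715, 3715), (3716, 3278), (3717, 3287), (3718, 3284), (3719, 4549), (3720, 3021), (3721, 4551), (3722, 4245), (3723, 4255), (3724, 4256), (3725, 3265), (3726, 3028), (3727, 4258), (3728, 4557), (3729, 4257), (3730, 3033), (3731, 4270), (3732, 4271), (3733, 3035), (3734, 4561), (3735, 3037), (3736, 3322), (3737, 4564), (3738, 3321), (3739, 3041), (3740, 3303), (3741, 3323), (3742, 3296), (3743, 3273), (3744, 3285), (3745, 3312), (3746, 3277), (3747, 3324), (3748, 3325), (3749, 3326), (3750, 3053), (3751, 3054), (3752, 3055), (3753, 4579), (3754, 4580), (3755, 4588), (3756, 4582), (3757, 4583), (3758, 3758), (3759, 4594), (3760, 3760), (3761, 3761), (3762, 3058), (3763, 4598), (3764, 3764), (3765, 3298), (3766, 3306), (3767, 3307), (3768, 4607), (3769, 3333), (3770, 3334), (3771, 4610), (3772, 3067), (3773, 3068), (3774,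 3066), (3775, 4613)]
    ⟨e3 q3712 (flp_g L125813) q4541, e3 q3713 L68280 q3015, e3 q3714 (flp_g L125844) q4545, e3 q3715 L68292 q3715, e3 q3716 (flp_g L120835) q3278, e3 q3717 L120855 q3287, e3 q3718 L120839 q3284, e3 q3719 L125871 q4549, e3 q3720 (flp_g L68458) q3021, e3 q3721 (flp_g L125898) q4551, e3 q3722 (flp_g L123191) q4245, e3 q3723 (flp_g L123285) q4255, e3 q3724 (flp_g L123297) q4256, e3 q3725 (flp_g L82744) q3265, e3 q3726 L68632 q3028, e3 q3727 (flp_g L123318) q4258, e3 q3728 (flp_g L125952) q4557, e3 q3729 (flp_g L123305) q4257, e3 q3730 L68862 q3033, e3 q3731 (flp_g L123433) q4270, e3 q3732 (flp_g L123444) q4271, e3 q3733 (flp_g L69182) q3035, e3 q3734 (flp_g L125990) q4561, e3 q3735 L69210 q3037, e3 q3736 (flp_g L120823) q3322, e3 q3737 (flp_g L126011) q4564, e3 q3738 (flp_g L120821) q3321, e3 q3739 L69294 q3041, e3 q3740 (flp_g L120819) q3303, e3 q3741 (flp_g L120740) q3323, e3 q3742 (flp_g L120817) q3296, e3 q3743 L120755 q3273, e3 q3744 L120859 q3285, e3 q3745 (flp_g L120742)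 q3312, e3 q3746 L120857 q3277, e3 q3747 L120801 q3324, e3 q3748 L120803 q3325, e3 q3749 L120781 q3326, e3 q3750 L69754 q3053, e3 q3751 L69763 q3054, e3 q3752 L69775 q3055, e3 q3753 (flp_g L126142) q4579, e3 q3754 (flp_g L126154) q4580, e3 q3755 L126216 q4588, e3 q3756 (flp_g L126175) q4582, e3 q3757 (flp_g L126183) q4583, e3 q3758 L69820 q3758, e3 q3759 L126263 q4594, e3 q3760 L69836 q3760, e3 q3761 L69842 q3761, e3 q3762 (flp_g L69845) q3058, e3 q3763 (flp_g L126302) q4598, e3 q3764 L69869 q3764, e3 q3765 (flp_g L120791) q3298, e3 q3766 (flp_g L120793) q3306, e3 q3767 L120783 q3307, e3 q3768 L126377 q4607, e3 q3769 L120785 q3333, e3 q3770 L120775 q3334, e3 q3771 L126405 q4610, e3 q3772 L69975 q3067, e3 q3773 L69982 q3068, e3 q3774 (flp_g L69987) q3066, e3 q3775 (flp_g L126441) q4613, trivial⟩ (by decide +kernel)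

theorem ce_g_59 : ∀ r, r < 64 → sm gg (Qf (3776 + r)) = Qf (tab Gen.g (3776 + r)) :=
  edges_tab (sm gg) Qf (tab Gen.g) 3776 [(3776, 4612), (3777, 3070), (3778, 4616), (3779, 3779), (3780, 3274), (3781, 3299), (3782, 3279), (3783, 3288), (3784, 3289), (3785, 4625), (3786, 3316), (3787, 3317), (3788, 3077), (3789, 4628), (3790, 3340), (3791, 3080), (3792, 4631), (3793, 3085), (3794, 3084), (3795, 4634), (3796, 4633), (3797, 3087), (3798, 4090), (3799, 3799), (3800, 3280), (3801, 3801), (3802, 3802), (3803, 3140), (3804, 3139), (3805, 3805), (3806, 3806), (3807, 3807), (3808, 4267), (3809, 3809), (3810, 3810), (3811, 3811), (3812, 4648), (3813, 3110), (3814, 4650), (3815, 3161), (3816, 3114), (3817, 4655), (3818, 4656), (3819, 3157), (3820, 3820), (3821, 3821), (3822, 4666), (3823, 3823), (3824, 3824), (3825, 3120), (3826, 3174), (3827, 4447), (3828, 3173), (3829, 3123), (3830, 4672), (3831, 3170), (3832, 3168), (3833, 3125), (3834, 4675), (3835, 3835), (3836, 3185), (3837, 4679), (3838,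 4680), (3839, 3133)]
    ⟨e3 q3776 (flp_g L126431) q4612, e3 q3777 L70017 q3070, e3 q3778 (flp_g L126465) q4616, e3 q3779 L70031 q3779, e3 q3780 L120757 q3274, e3 q3781 L120833 q3299, e3 q3782 (flp_g L120795) q3279, e3 q3783 (flp_g L120797) q3288, e3 q3784 (flp_g L120799) q3289, e3 q3785 L126541 q4625, e3 q3786 L120811 q3316, e3 q3787 L120777 q3317, e3 q3788 (flp_g L70212) q3077, e3 q3789 (flp_g L126573) q4628, e3 q3790 L120779 q3340, e3 q3791 (flp_g L70233) q3080, e3 q3792 (flp_g L126599) q4631, e3 q3793 L70252 q3085, e3 q3794 L70261 q3084, e3 q3795 (flp_g L126624) q4634, e3 q3796 (flp_g L126612) q4633, e3 q3797 L70282 q3087, e3 q3798 (flp_g L121868) q4090, e3 q3799 L70297 q3799, e3 q3800 (flp_g L120837) q3280, e3 q3801 L71200 q3801, e3 q3802 L71264 q3802, e3 q3803 L118756 q3140, e3 q3804 L118729 q3139, e3 q3805 L71561 q3805, e3 q3806 L71569 q3806, e3 q3807 L71579 q3807, e3 q3808 (flp_g L123405) q4267, e3 q3809 L71673 q3809, e3 q3810 L71678 q3810, e3 q3811 L71855 q3811, e3 q3812 L126749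 q4648, e3 q3813 (flp_g L71982) q3110, e3 q3814 (flp_g L126777) q4650, e3 q3815 L118128 q3161, e3 q3816 L72041 q3114, e3 q3817 (flp_g L126828) q4655, e3 q3818 (flp_g L126840) q4656, e3 q3819 L118359 q3157, e3 q3820 L72084 q3820, e3 q3821 L72093 q3821, e3 q3822 L126930 q4666, e3 q3823 L72110 q3823, e3 q3824 L72117 q3824, e3 q3825 L72131 q3120, e3 q3826 L118023 q3174, e3 q3827 (flp_g L125073) q4447, e3 q3828 L118032 q3173, e3 q3829 L72197 q3123, e3 q3830 L126987 q4672, e3 q3831 L118357 q3170, e3 q3832 L118346 q3168, e3 q3833 (flp_g L72230) q3125, e3 q3834 (flp_g L127021) q4675, e3 q3835 L72252 q3835, e3 q3836 L118148 q3185, e3 q3837 L127045 q4679, e3 q3838 L127058 q4680, e3 q3839 (flp_g L72459) q3133, trivial⟩ (by decide +kernel)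

theorem ce_g_60 : ∀ r, r < 64 → sm gg (Qf (3840 + r)) = Qf (tab Gen.g (3840 + r)) :=
  edges_tab (sm gg) Qf (tab Gen.g) 3840 [(3840, 4681), (3841, 3179), (3842, 3137), (3843, 4683), (3844, 3844), (3845, 4640), (3846, 4310), (3847, 4639), (3848, 4306), (3849, 3849), (3850, 3850), (3851, 4694), (3852, 3852), (3853, 3853), (3854, 4321), (3855, 4279), (3856, 3146), (3857, 4697), (3858, 3858), (3859, 3152), (3860, 4700), (3861, 3861), (3862, 3154), (3863, 4703), (3864, 3156), (3865, 4661), (3866, 4706), (3867, 4658), (3868, 4660), (3869, 3159), (3870, 3160), (3871, 4712), (3872, 4653), (3873, 4718), (3874, 4654), (3875, 4651), (3876, 3876), (3877, 4724), (3878, 3878), (3879, 3879), (3880, 3164), (3881, 4728), (3882, 3882), (3883, 3169), (3884, 4674), (3885, 4379), (3886, 4733), (3887, 4734), (3888, 3172), (3889, 4735), (3890, 4669), (3891, 3176), (3892, 4738), (3893, 3893), (3894, 4741), (3895, 4410), (3896, 3181), (3897, 3182), (3898, 3184), (3899, 4743), (3900, 4393), (3901, 3187), (3902,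 4100), (3903, 3903)]
    ⟨e3 q3840 (flp_g L127081) q4681, e3 q3841 L117864 q3179, e3 q3842 L72489 q3137, e3 q3843 (flp_g L127098) q4683, e3 q3844 L72502 q3844, e3 q3845 (flp_g L126678) q4640, e3 q3846 (flp_g L123865) q4310, e3 q3847 (flp_g L126666) q4639, e3 q3848 L123816 q4306, e3 q3849 L72663 q3849, e3 q3850 L72670 q3850, e3 q3851 L127162 q4694, e3 q3852 L72683 q3852, e3 q3853 L72688 q3853, e3 q3854 (flp_g L123982) q4321, e3 q3855 (flp_g L123529) q4279, e3 q3856 (flp_g L72814) q3146, e3 q3857 (flp_g L127189) q4697, e3 q3858 L72836 q3858, e3 q3859 L73046 q3152, e3 q3860 (flp_g L127210) q4700, e3 q3861 L73055 q3861, e3 q3862 (flp_g L73177) q3154, e3 q3863 (flp_g L127230) q4703, e3 q3864 L73202 q3156, e3 q3865 (flp_g L126893) q4661, e3 q3866 (flp_g L127249) q4706, e3 q3867 (flp_g L126863) q4658, e3 q3868 (flp_g L126883) q4660, e3 q3869 L73261 q3159, e3 q3870 L73270 q3160, e3 q3871 (flp_g L127288) q4712, e3 q3872 (flp_g L126804) q4653, e3 q3873 L127324 q4718, e3 q3874 (flp_g L126817) q4654,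 e3 q3875 (flp_g L126788) q4651, e3 q3876 L73318 q3876, e3 q3877 L127367 q4724, e3 q3878 L73335 q3878, e3 q3879 L73342 q3879, e3 q3880 (flp_g L73343) q3164, e3 q3881 (flp_g L127403) q4728, e3 q3882 L73362 q3882, e3 q3883 L73395 q3169, e3 q3884 (flp_g L127012) q4674, e3 q3885 (flp_g L124497) q4379, e3 q3886 L127432 q4733, e3 q3887 L127440 q4734, e3 q3888 (flp_g L73497) q3172, e3 q3889 (flp_g L127457) q4735, e3 q3890 (flp_g L126962) q4669, e3 q3891 L73531 q3176, e3 q3892 (flp_g L127480) q4738, e3 q3893 L73545 q3893, e3 q3894 L127497 q4741, e3 q3895 (flp_g L124744) q4410, e3 q3896 (flp_g L73632) q3181, e3 q3897 (flp_g L73651) q3182, e3 q3898 L73679 q3184, e3 q3899 (flp_g L127515) q4743, e3 q3900 (flp_g L124610) q4393, e3 q3901 L73696 q3187, e3 q3902 (flp_g L121967) q4100, e3 q3903 L73705 q3903, trivial⟩ (by decide +kernel)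

theorem ce_g_61 : ∀ r, r < 64 → sm gg (Qf (3904 + r)) = Qf (tab Gen.g (3904 + r)) :=
  edges_tab (sm gg) Qf (tab Gen.g) 3904 [(3904, 3189), (3905, 4746), (3906, 3191), (3907, 4282), (3908, 4749), (3909, 3344), (3910, 4281), (3911, 3194), (3912, 3195), (3913, 4753), (3914, 3914), (3915, 3269), (3916, 3916), (3917, 3200), (3918, 4285), (3919, 4286), (3920, 3920), (3921, 3921), (3922, 4293), (3923, 3923), (3924, 3209), (3925, 4759), (3926, 4760), (3927, 3927), (3928, 3928), (3929, 3212), (3930, 3930), (3931, 3931), (3932, 3932), (3933, 3221), (3934, 3222), (3935, 4770), (3936, 3224), (3937, 3225), (3938, 4766), (3939, 4776), (3940, 4768), (3941, 4769), (3942, 3223), (3943, 4780), (3944, 4772), (3945, 4784), (3946, 3946), (3947, 3947), (3948, 3227), (3949, 4789), (3950, 3950), (3951, 3951), (3952, 3231), (3953, 4793), (3954, 3954), (3955, 3233), (3956, 4796), (3957, 3238), (3958, 3237), (3959, 4799), (3960, 4798), (3961, 3240), (3962, 4080), (3963, 3963), (3964, 3243), (3965, 4803), (3966,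 3247), (3967, 3246)]
    ⟨e3 q3904 (flp_g L73709) q3189, e3 q3905 (flp_g L127530) q4746, e3 q3906 L73738 q3191, e3 q3907 (flp_g L123566) q4282, e3 q3908 (flp_g L127550) q4749, e3 q3909 L121044 q3344, e3 q3910 (flp_g L123551) q4281, e3 q3911 L73795 q3194, e3 q3912 L73805 q3195, e3 q3913 (flp_g L127586) q4753, e3 q3914 L120733 q3914, e3 q3915 L73827 q3269, e3 q3916 L120732 q3916, e3 q3917 L73877 q3200, e3 q3918 (flp_g L123599) q4285, e3 q3919 (flp_g L123611) q4286, e3 q3920 L120894 q3920, e3 q3921 L106265 q3921, e3 q3922 (flp_g L123691) q4293, e3 q3923 L74199 q3923, e3 q3924 L74205 q3209, e3 q3925 (flp_g L127634) q4759, e3 q3926 (flp_g L127643) q4760, e3 q3927 L74224 q3927, e3 q3928 L74234 q3928, e3 q3929 L74242 q3212, e3 q3930 L74250 q3930, e3 q3931 L74258 q3931, e3 q3932 L74271 q3932, e3 q3933 L74277 q3221, e3 q3934 L74286 q3222, e3 q3935 L127711 q4770, e3 q3936 L74303 q3224, e3 q3937 L74311 q3225, e3 q3938 (flp_g L127684) q4766, e3 q3939 L127756 q4776, e3 q3940 (flp_g L127701) q4768, e3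 q3941 (flp_g L127709) q4769, e3 q3942 (flp_g L74340) q3223, e3 q3943 (flp_g L127794) q4780, e3 q3944 (flp_g L127736) q4772, e3 q3945 L127818 q4784, e3 q3946 L74378 q3946, e3 q3947 L74387 q3947, e3 q3948 (flp_g L74388) q3227, e3 q3949 (flp_g L127876) q4789, e3 q3950 L74408 q3950, e3 q3951 L74412 q3951, e3 q3952 L74423 q3231, e3 q3953 (flp_g L127911) q4793, e3 q3954 L74437 q3954, e3 q3955 (flp_g L74441) q3233, e3 q3956 (flp_g L127947) q4796, e3 q3957 L74463 q3238, e3 q3958 L74472 q3237, e3 q3959 (flp_g L127970) q4799, e3 q3960 (flp_g L127960) q4798, e3 q3961 L74493 q3240, e3 q3962 (flp_g L121769) q4080, e3 q3963 L74508 q3963, e3 q3964 L74518 q3243, e3 q3965 (flp_g L128003) q4803, e3 q3966 L74529 q3247, e3 q3967 L74538 q3246, trivial⟩ (by decide +kernel)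

theorem ce_g_62 : ∀ r, r < 64 → sm gg (Qf (3968 + r)) = Qf (tab Gen.g (3968 + r)) :=
  edges_tab (sm gg) Qf (tab Gen.g) 3968 [(3968, 4093), (3969, 4805), (3970, 3972), (3971, 3251), (3972, 3970), (3973, 4807), (3974, 3974), (3975, 3975), (3976, 3255), (3977, 4811), (3978, 3978), (3979, 3979), (3980, 3259), (3981, 4076), (3982, 3982), (3983, 3983), (3984, 3984), (3985, 3985), (3986, 3986), (3987, 4570), (3988, 4515), (3989, 4601), (3990, 4619), (3991, 3991), (3992, 3992), (3993, 3993), (3994, 4571), (3995, 4530), (3996, 4548), (3997, 4620), (3998, 4621), (3999, 4833), (4000, 4000), (4001, 4001), (4002, 4416), (4003, 4419), (4004, 4521), (4005, 4572), (4006, 4400), (4007, 4531), (4008, 4532), (4009, 4847), (4010, 4623), (4011, 4624), (4012, 3290), (4013, 4850), (4014, 4014), (4015, 4417), (4016, 4420), (4017, 4567), (4018, 4568), (4019, 4500), (4020, 4516), (4021, 4573), (4022, 4602), (4023, 4603), (4024, 4024), (4025, 4025), (4026, 4869), (4027, 4027), (4028, 4028), (4029, 4495), (4030,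 4569), (4031, 4501)]
    ⟨e3 q3968 (flp_g L121898) q4093, e3 q3969 (flp_g L128014) q4805, e3 q3970 (flp_g L127841) q3972, e3 q3971 (flp_g L74583) q3251, e3 q3972 L127841 q3970, e3 q3973 (flp_g L128032) q4807, e3 q3974 L74611 q3974, e3 q3975 L74617 q3975, e3 q3976 L74626 q3255, e3 q3977 (flp_g L128069) q4811, e3 q3978 L74642 q3978, e3 q3979 L74649 q3979, e3 q3980 L74659 q3259, e3 q3981 (flp_g L121732) q4076, e3 q3982 L74674 q3982, e3 q3983 L74703 q3983, e3 q3984 L121082 q3984, e3 q3985 L121088 q3985, e3 q3986 L121098 q3986, e3 q3987 (flp_g L126061) q4570, e3 q3988 (flp_g L125616) q4515, e3 q3989 (flp_g L126328) q4601, e3 q3990 (flp_g L126496) q4619, e3 q3991 L121143 q3991, e3 q3992 L121154 q3992, e3 q3993 L121164 q3993, e3 q3994 (flp_g L126069) q4571, e3 q3995 (flp_g L125735) q4530, e3 q3996 (flp_g L125869) q4548, e3 q3997 (flp_g L126503) q4620, e3 q3998 (flp_g L126514) q4621, e3 q3999 L128240 q4833, e3 q4000 L121211 q4000, e3 q4001 L121217 q4001, e3 q4002 (flp_g L124794) q4416, e3 q4003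 (flp_g L124821) q4419, e3 q4004 (flp_g L125672) q4521, e3 q4005 (flp_g L126079) q4572, e3 q4006 (flp_g L124667) q4400, e3 q4007 (flp_g L125741) q4531, e3 q4008 (flp_g L125751) q4532, e3 q4009 L128331 q4847, e3 q4010 (flp_g L126530) q4623, e3 q4011 (flp_g L126538) q4624, e3 q4012 (flp_g L121285) q3290, e3 q4013 (flp_g L128362) q4850, e3 q4014 L121306 q4014, e3 q4015 (flp_g L124804) q4417, e3 q4016 (flp_g L124828) q4420, e3 q4017 (flp_g L126036) q4567, e3 q4018 (flp_g L126043) q4568, e3 q4019 (flp_g L125482) q4500, e3 q4020 (flp_g L125630) q4516, e3 q4021 (flp_g L126086) q4573, e3 q4022 (flp_g L126337) q4602, e3 q4023 (flp_g L126347) q4603, e3 q4024 L121371 q4024, e3 q4025 L121381 q4025, e3 q4026 L128486 q4869, e3 q4027 L121393 q4027, e3 q4028 L121398 q4028, e3 q4029 (flp_g L125438) q4495, e3 q4030 (flp_g L126054) q4569, e3 q4031 (flp_g L125490) q4501, trivial⟩ (by decide +kernel)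

theorem ce_g_63 : ∀ r, r < 64 → sm gg (Qf (4032 + r)) = Qf (tab Gen.g (4032 + r)) :=
  edges_tab (sm gg) Qf (tab Gen.g) 4032 [(4032, 4502), (4033, 4877), (4034, 4605), (4035, 4606), (4036, 3308), (4037, 4880), (4038, 4038), (4039, 4522), (4040, 4523), (4041, 4886), (4042, 4534), (4043, 4535), (4044, 3315), (4045, 4889), (4046, 4627), (4047, 3319), (4048, 4892), (4049, 4049), (4050, 4565), (4051, 4566), (4052, 4574), (4053, 4575), (4054, 4901), (4055, 4577), (4056, 4578), (4057, 4057), (4058, 4907), (4059, 4059), (4060, 4060), (4061, 3329), (4062, 4911), (4063, 4063), (4064, 3332), (4065, 4914), (4066, 4609), (4067, 3336), (4068, 4917), (4069, 4069), (4070, 3339), (4071, 4920), (4072, 4630), (4073, 3342), (4074, 4923), (4075, 4075), (4076, 3981), (4077, 4750), (4078, 4078), (4079, 4079), (4080, 3962), (4081, 3348), (4082, 4934), (4083, 4935), (4084, 4084), (4085, 4085), (4086, 3352), (4087, 4941), (4088, 4942), (4089, 3354), (4090, 3798), (4091, 3357), (4092, 3358), (4093, 3968), (4094,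 4945), (4095, 4949)]
    ⟨e3 q4032 (flp_g L125502) q4502, e3 q4033 L128537 q4877, e3 q4034 (flp_g L126365) q4605, e3 q4035 (flp_g L126374) q4606, e3 q4036 (flp_g L121451) q3308, e3 q4037 (flp_g L128572) q4880, e3 q4038 L121475 q4038, e3 q4039 (flp_g L125680) q4522, e3 q4040 (flp_g L125691) q4523, e3 q4041 L128603 q4886, e3 q4042 (flp_g L125767) q4534, e3 q4043 (flp_g L125773) q4535, e3 q4044 (flp_g L121498) q3315, e3 q4045 (flp_g L128623) q4889, e3 q4046 (flp_g L126562) q4627, e3 q4047 L121525 q3319, e3 q4048 (flp_g L128642) q4892, e3 q4049 L121536 q4049, e3 q4050 (flp_g L126017) q4565, e3 q4051 (flp_g L126029) q4566, e3 q4052 (flp_g L126096) q4574, e3 q4053 (flp_g L126105) q4575, e3 q4054 L128695 q4901, e3 q4055 (flp_g L126125) q4577, e3 q4056 (flp_g L126133) q4578, e3 q4057 L121592 q4057, e3 q4058 L128743 q4907, e3 q4059 L121609 q4059, e3 q4060 L121615 q4060, e3 q4061 (flp_g L121617) q3329, e3 q4062 (flp_g L128781) q4911, e3 q4063 L121640 q4063, e3 q4064 (flp_g L121642) q3332, e3 q4065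 (flp_g L128806) q4914, e3 q4066 (flp_g L126402) q4609, e3 q4067 L121670 q3336, e3 q4068 (flp_g L128828) q4917, e3 q4069 L121683 q4069, e3 q4070 L121692 q3339, e3 q4071 (flp_g L128852) q4920, e3 q4072 (flp_g L126585) q4630, e3 q4073 L121711 q3342, e3 q4074 (flp_g L128869) q4923, e3 q4075 L121724 q4075, e3 q4076 L121732 q3981, e3 q4077 (flp_g L127558) q4750, e3 q4078 L121750 q4078, e3 q4079 L121758 q4079, e3 q4080 L121769 q3962, e3 q4081 L121782 q3348, e3 q4082 (flp_g L128962) q4934, e3 q4083 (flp_g L128978) q4935, e3 q4084 L121808 q4084, e3 q4085 L121819 q4085, e3 q4086 L121830 q3352, e3 q4087 (flp_g L129035) q4941, e3 q4088 (flp_g L129052) q4942, e3 q4089 L121855 q3354, e3 q4090 L121868 q3798, e3 q4091 L121875 q3357, e3 q4092 L121890 q3358, e3 q4093 L121898 q3968, e3 q4094 (flp_g L129086) q4945, e3 q4095 L129120 q4949, trivial⟩ (by decide +kernel)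

theorem ce_g_64 : ∀ r, r < 64 → sm gg (Qf (4096 + r)) = Qf (tab Gen.g (4096 + r)) :=
  edges_tab (sm gg) Qf (tab Gen.g) 4096 [(4096, 4096), (4097, 4097), (4098, 3362), (4099, 3363), (4100, 3902), (4101, 4952), (4102, 4102), (4103, 4103), (4104, 3368), (4105, 3369), (4106, 4959), (4107, 4960), (4108, 4961), (4109, 4966), (4110, 3370), (4111, 4969), (4112, 3372), (4113, 4972), (4114, 4973), (4115, 4115), (4116, 4116), (4117, 4117), (4118, 3375), (4119, 4983), (4120, 3573), (4121, 3377), (4122, 4987), (4123, 4988), (4124, 3379), (4125, 3380), (4126, 4992), (4127, 4993), (4128, 4997), (4129, 4129), (4130, 4130), (4131, 3584), (4132, 3385), (4133, 3386), (4134, 5002), (4135, 5003), (4136, 3589), (4137, 3389), (4138, 5008), (4139, 5009), (4140, 3593), (4141, 3392), (4142, 3393), (4143, 5015), (4144, 5016), (4145, 5017), (4146, 3396), (4147, 3397), (4148, 5026), (4149, 5024), (4150, 5025), (4151, 3398), (4152, 5029), (4153, 4153), (4154, 3559), (4155, 3607), (4156, 3404), (4157, 3405), (4158,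 5035), (4159, 5036)]
    ⟨e3 q4096 L121927 q4096, e3 q4097 L121933 q4097, e3 q4098 L121942 q3362, e3 q4099 L121959 q3363, e3 q4100 L121967 q3902, e3 q4101 (flp_g L129159) q4952, e3 q4102 L121987 q4102, e3 q4103 L121997 q4103, e3 q4104 L122003 q3368, e3 q4105 L122013 q3369, e3 q4106 (flp_g L129233) q4959, e3 q4107 (flp_g L129245) q4960, e3 q4108 (flp_g L129251) q4961, e3 q4109 L129288 q4966, e3 q4110 (flp_g L122048) q3370, e3 q4111 (flp_g L129327) q4969, e3 q4112 L122075 q3372, e3 q4113 (flp_g L129356) q4972, e3 q4114 (flp_g L129366) q4973, e3 q4115 L122100 q4115, e3 q4116 L122108 q4116, e3 q4117 L122120 q4117, e3 q4118 (flp_g L122121) q3375, e3 q4119 (flp_g L129458) q4983, e3 q4120 L122148 q3573, e3 q4121 L122158 q3377, e3 q4122 (flp_g L129493) q4987, e3 q4123 (flp_g L129503) q4988, e3 q4124 L122183 q3379, e3 q4125 L122193 q3380, e3 q4126 (flp_g L129535) q4992, e3 q4127 (flp_g L129547) q4993, e3 q4128 L129571 q4997, e3 q4129 L122225 q4129, e3 q4130 L122230 q4130, e3 q4131 L122241 q3584,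 e3 q4132 L122247 q3385, e3 q4133 L122256 q3386, e3 q4134 (flp_g L129621) q5002, e3 q4135 (flp_g L129630) q5003, e3 q4136 L122284 q3589, e3 q4137 L122294 q3389, e3 q4138 (flp_g L129669) q5008, e3 q4139 (flp_g L129679) q5009, e3 q4140 L122323 q3593, e3 q4141 L122329 q3392, e3 q4142 L122339 q3393, e3 q4143 (flp_g L129728) q5015, e3 q4144 (flp_g L129740) q5016, e3 q4145 (flp_g L129752) q5017, e3 q4146 L122369 q3396, e3 q4147 L122381 q3397, e3 q4148 L129824 q5026, e3 q4149 (flp_g L129812) q5024, e3 q4150 (flp_g L129819) q5025, e3 q4151 (flp_g L122405) q3398, e3 q4152 (flp_g L129857) q5029, e3 q4153 L122427 q4153, e3 q4154 L122435 q3559, e3 q4155 L122445 q3607, e3 q4156 L122453 q3404, e3 q4157 L122462 q3405, e3 q4158 (flp_g L129915) q5035, e3 q4159 (flp_g L129926) q5036, trivial⟩ (by decide +kernel)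

theorem ce_g_65 : ∀ r, r < 64 → sm gg (Qf (4160 + r)) = Qf (tab Gen.g (4160 + r)) :=
  edges_tab (sm gg) Qf (tab Gen.g) 4160 [(4160, 5037), (4161, 3525), (4162, 3560), (4163, 3410), (4164, 3411), (4165, 3412), (4166, 5043), (4167, 5044), (4168, 5045), (4169, 5048), (4170, 3413), (4171, 5051), (4172, 3659), (4173, 3415), (4174, 5055), (4175, 5056), (4176, 3417), (4177, 3418), (4178, 5060), (4179, 5061), (4180, 5062), (4181, 4181), (4182, 4182), (4183, 5072), (4184, 4184), (4185, 4185), (4186, 3673), (4187, 3423), (4188, 5077), (4189, 5078), (4190, 3639), (4191, 3426), (4192, 3427), (4193, 5084), (4194, 5085), (4195, 5086), (4196, 3430), (4197, 3431), (4198, 5096), (4199, 5094), (4200, 5095), (4201, 3432), (4202, 5099), (4203, 4203), (4204, 3640), (4205, 3438), (4206, 3439), (4207, 5102), (4208, 5103), (4209, 3692), (4210, 3693), (4211, 3442), (4212, 3443), (4213, 5109), (4214, 5110), (4215, 5111), (4216, 3645), (4217, 3655), (4218, 3447), (4219, 3448), (4220, 3449), (4221, 5120), (4222,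 5121), (4223, 5122)]
    ⟨e3 q4160 (flp_g L129932) q5037, e3 q4161 L122492 q3525, e3 q4162 L122504 q3560, e3 q4163 L122512 q3410, e3 q4164 L122525 q3411, e3 q4165 L122529 q3412, e3 q4166 (flp_g L129987) q5043, e3 q4167 (flp_g L130000) q5044, e3 q4168 (flp_g L130010) q5045, e3 q4169 L130030 q5048, e3 q4170 (flp_g L122565) q3413, e3 q4171 (flp_g L130063) q5051, e3 q4172 L122588 q3659, e3 q4173 L122596 q3415, e3 q4174 (flp_g L130095) q5055, e3 q4175 (flp_g L130103) q5056, e3 q4176 L122619 q3417, e3 q4177 L122627 q3418, e3 q4178 (flp_g L130128) q5060, e3 q4179 (flp_g L130136) q5061, e3 q4180 (flp_g L130146) q5062, e3 q4181 L122655 q4181, e3 q4182 L122662 q4182, e3 q4183 L130210 q5072, e3 q4184 L122678 q4184, e3 q4185 L122683 q4185, e3 q4186 L122697 q3673, e3 q4187 L122706 q3423, e3 q4188 (flp_g L130260) q5077, e3 q4189 (flp_g L130271) q5078, e3 q4190 L122736 q3639, e3 q4191 L122742 q3426, e3 q4192 L122752 q3427, e3 q4193 (flp_g L130329) q5084, e3 q4194 (flp_g L130337) q5085, e3 q4195 (flp_g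 L130347) q5086, e3 q4196 L122783 q3430, e3 q4197 L122794 q3431, e3 q4198 L130423 q5096, e3 q4199 (flp_g L130410) q5094, e3 q4200 (flp_g L130418) q5095, e3 q4201 (flp_g L122821) q3432, e3 q4202 (flp_g L130456) q5099, e3 q4203 L122846 q4203, e3 q4204 L122857 q3640, e3 q4205 L122868 q3438, e3 q4206 L122883 q3439, e3 q4207 (flp_g L130481) q5102, e3 q4208 (flp_g L130496) q5103, e3 q4209 L122909 q3692, e3 q4210 L122921 q3693, e3 q4211 L122925 q3442, e3 q4212 L122934 q3443, e3 q4213 (flp_g L130555) q5109, e3 q4214 (flp_g L130569) q5110, e3 q4215 (flp_g L130580) q5111, e3 q4216 L122961 q3645, e3 q4217 L122972 q3655, e3 q4218 L122980 q3447, e3 q4219 L122986 q3448, e3 q4220 L122994 q3449, e3 q4221 (flp_g L130661) q5120, e3 q4222 (flp_g L130673) q5121, e3 q4223 (flp_g L130688) q5122, trivial⟩ (by decide +kernel)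

theorem ce_g_66 : ∀ r, r < 64 → sm gg (Qf (4224 + r)) = Qf (tab Gen.g (4224 + r)) :=
  edges_tab (sm gg) Qf (tab Gen.g) 4224 [(4224, 5132), (4225, 5124), (4226, 5125), (4227, 5135), (4228, 3453), (4229, 3454), (4230, 3452), (4231, 5138), (4232, 5137), (4233, 3456), (4234, 5141), (4235, 4235), (4236, 3461), (4237, 3462), (4238, 5144), (4239, 5145), (4240, 3465), (4241, 3466), (4242, 5147), (4243, 3467), (4244, 5149), (4245, 3722), (4246, 3469), (4247, 5154), (4248, 5155), (4249, 3472), (4250, 5159), (4251, 5160), (4252, 3474), (4253, 3475), (4254, 5163), (4255, 3723), (4256, 3724), (4257, 3729), (4258, 3727), (4259, 3480), (4260, 3481), (4261, 5168), (4262, 5169), (4263, 5170), (4264, 3483), (4265, 3484), (4266, 5175), (4267, 3808), (4268, 3488), (4269, 5178), (4270, 3731), (4271, 3732), (4272, 3493), (4273, 3494), (4274, 3495), (4275, 3649), (4276, 3551), (4277, 5180), (4278, 5181), (4279, 3855), (4280, 3501), (4281, 3910), (4282, 3907), (4283, 4283), (4284, 4284), (4285, 3918), (4286,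 3919), (4287, 4287)]
    ⟨e3 q4224 L130759 q5132, e3 q4225 (flp_g L130708) q5124, e3 q4226 (flp_g L130712) q5125, e3 q4227 L130777 q5135, e3 q4228 L123045 q3453, e3 q4229 L123051 q3454, e3 q4230 (flp_g L123056) q3452, e3 q4231 (flp_g L130807) q5138, e3 q4232 (flp_g L130799) q5137, e3 q4233 L123081 q3456, e3 q4234 (flp_g L130826) q5141, e3 q4235 L123091 q4235, e3 q4236 L123102 q3461, e3 q4237 L123115 q3462, e3 q4238 (flp_g L130852) q5144, e3 q4239 (flp_g L130865) q5145, e3 q4240 L123142 q3465, e3 q4241 L123155 q3466, e3 q4242 (flp_g L130887) q5147, e3 q4243 (flp_g L123166) q3467, e3 q4244 (flp_g L130906) q5149, e3 q4245 L123191 q3722, e3 q4246 L123199 q3469, e3 q4247 (flp_g L130953) q5154, e3 q4248 (flp_g L130963) q5155, e3 q4249 L123227 q3472, e3 q4250 (flp_g L130997) q5159, e3 q4251 (flp_g L131008) q5160, e3 q4252 L123249 q3474, e3 q4253 L123260 q3475, e3 q4254 (flp_g L131034) q5163, e3 q4255 L123285 q3723, e3 q4256 L123297 q3724, e3 q4257 L123305 q3729, e3 q4258 L123318 q3727, e3 q4259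 L123328 q3480, e3 q4260 L123337 q3481, e3 q4261 (flp_g L131092) q5168, e3 q4262 (flp_g L131104) q5169, e3 q4263 (flp_g L131119) q5170, e3 q4264 L123371 q3483, e3 q4265 L123385 q3484, e3 q4266 (flp_g L131166) q5175, e3 q4267 L123405 q3808, e3 q4268 L123414 q3488, e3 q4269 (flp_g L131203) q5178, e3 q4270 L123433 q3731, e3 q4271 L123444 q3732, e3 q4272 L123452 q3493, e3 q4273 L123465 q3494, e3 q4274 L123479 q3495, e3 q4275 L123487 q3649, e3 q4276 L123500 q3551, e3 q4277 (flp_g L131231) q5180, e3 q4278 (flp_g L131245) q5181, e3 q4279 L123529 q3855, e3 q4280 L123540 q3501, e3 q4281 L123551 q3910, e3 q4282 L123566 q3907, e3 q4283 L123577 q4283, e3 q4284 L123588 q4284, e3 q4285 L123599 q3918, e3 q4286 L123611 q3919, e3 q4287 L123620 q4287, trivial⟩ (by decide +kernel)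

theorem ce_g_67 : ∀ r, r < 64 → sm gg (Qf (4288 + r)) = Qf (tab Gen.g (4288 + r)) :=
  edges_tab (sm gg) Qf (tab Gen.g) 4288 [(4288, 4288), (4289, 3510), (4290, 5192), (4291, 5193), (4292, 3512), (4293, 3922), (4294, 4294), (4295, 4295), (4296, 3519), (4297, 3520), (4298, 5198), (4299, 5199), (4300, 4300), (4301, 4301), (4302, 3526), (4303, 5033), (4304, 5041), (4305, 5204), (4306, 3848), (4307, 3527), (4308, 5210), (4309, 3529), (4310, 3846), (4311, 5213), (4312, 4312), (4313, 4313), (4314, 4314), (4315, 3633), (4316, 3534), (4317, 5224), (4318, 5225), (4319, 3537), (4320, 3627), (4321, 3854), (4322, 5172), (4323, 4323), (4324, 4324), (4325, 3541), (4326, 3542), (4327, 5232), (4328, 5233), (4329, 3646), (4330, 3650), (4331, 3546), (4332, 3547), (4333, 5238), (4334, 3641), (4335, 5239), (4336, 3642), (4337, 5184), (4338, 4338), (4339, 3556), (4340, 3557), (4341, 5032), (4342, 5246), (4343, 5247), (4344, 3561), (4345, 5000), (4346, 5034), (4347, 5042), (4348, 5253), (4349, 3562), (4350,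 5256), (4351, 4968)]
    ⟨e3 q4288 L123634 q4288, e3 q4289 L123647 q3510, e3 q4290 (flp_g L131373) q5192, e3 q4291 (flp_g L131388) q5193, e3 q4292 L123680 q3512, e3 q4293 L123691 q3922, e3 q4294 L123702 q4294, e3 q4295 L123714 q4295, e3 q4296 L123719 q3519, e3 q4297 L123732 q3520, e3 q4298 (flp_g L131439) q5198, e3 q4299 (flp_g L131454) q5199, e3 q4300 L123756 q4300, e3 q4301 L123766 q4301, e3 q4302 L123776 q3526, e3 q4303 (flp_g L129893) q5033, e3 q4304 (flp_g L129968) q5041, e3 q4305 (flp_g L131499) q5204, e3 q4306 (flp_g L123816) q3848, e3 q4307 (flp_g L123818) q3527, e3 q4308 (flp_g L131567) q5210, e3 q4309 L123853 q3529, e3 q4310 L123865 q3846, e3 q4311 (flp_g L131602) q5213, e3 q4312 L123885 q4312, e3 q4313 L123896 q4313, e3 q4314 L123909 q4314, e3 q4315 L123919 q3633, e3 q4316 L123929 q3534, e3 q4317 (flp_g L131725) q5224, e3 q4318 (flp_g L131739) q5225, e3 q4319 L123958 q3537, e3 q4320 L123968 q3627, e3 q4321 L123982 q3854, e3 q4322 (flp_g L131135) q5172, e3 q4323 L124002 q4323,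 e3 q4324 L124011 q4324, e3 q4325 L124022 q3541, e3 q4326 L124033 q3542, e3 q4327 (flp_g L131804) q5232, e3 q4328 (flp_g L131815) q5233, e3 q4329 L124060 q3646, e3 q4330 L124075 q3650, e3 q4331 L124083 q3546, e3 q4332 L124097 q3547, e3 q4333 (flp_g L131859) q5238, e3 q4334 L124111 q3641, e3 q4335 (flp_g L131873) q5239, e3 q4336 L124133 q3642, e3 q4337 (flp_g L131282) q5184, e3 q4338 L124153 q4338, e3 q4339 L124158 q3556, e3 q4340 L124167 q3557, e3 q4341 (flp_g L129880) q5032, e3 q4342 (flp_g L131936) q5246, e3 q4343 (flp_g L131942) q5247, e3 q4344 L124195 q3561, e3 q4345 (flp_g L129601) q5000, e3 q4346 (flp_g L129907) q5034, e3 q4347 (flp_g L129976) q5042, e3 q4348 L131986 q5253, e3 q4349 (flp_g L124233) q3562, e3 q4350 (flp_g L132026) q5256, e3 q4351 (flp_g L129317) q4968, trivial⟩ (by decide +kernel)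

theorem ce_g_68 : ∀ r, r < 64 → sm gg (Qf (4352 + r)) = Qf (tab Gen.g (4352 + r)) :=
  edges_tab (sm gg) Qf (tab Gen.g) 4352 [(4352, 3564), (4353, 5260), (4354, 5261), (4355, 3566), (4356, 3567), (4357, 5265), (4358, 5266), (4359, 5267), (4360, 4360), (4361, 4361), (4362, 5277), (4363, 4363), (4364, 4364), (4365, 4982), (4366, 3572), (4367, 5281), (4368, 5282), (4369, 4986), (4370, 3575), (4371, 3576), (4372, 5288), (4373, 5289), (4374, 5290), (4375, 3579), (4376, 3580), (4377, 5299), (4378, 5298), (4379, 3885), (4380, 3581), (4381, 5302), (4382, 4382), (4383, 5001), (4384, 3587), (4385, 3588), (4386, 5305), (4387, 5306), (4388, 5307), (4389, 5007), (4390, 3591), (4391, 3592), (4392, 5313), (4393, 3900), (4394, 5314), (4395, 5013), (4396, 5014), (4397, 3596), (4398, 3597), (4399, 3598), (4400, 4006), (4401, 5323), (4402, 5324), (4403, 5334), (4404, 5326), (4405, 5327), (4406, 5337), (4407, 3602), (4408, 3601), (4409, 5339), (4410, 3895), (4411, 3605), (4412, 5342), (4413, 4413), (4414,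 3611), (4415, 3612)]
    ⟨e3 q4352 L124270 q3564, e3 q4353 (flp_g L132061) q5260, e3 q4354 (flp_g L132071) q5261, e3 q4355 L124293 q3566, e3 q4356 L124304 q3567, e3 q4357 (flp_g L132098) q5265, e3 q4358 (flp_g L132109) q5266, e3 q4359 (flp_g L132122) q5267, e3 q4360 L124340 q4360, e3 q4361 L124350 q4361, e3 q4362 L132211 q5277, e3 q4363 L124367 q4363, e3 q4364 L124374 q4364, e3 q4365 (flp_g L129448) q4982, e3 q4366 L124395 q3572, e3 q4367 (flp_g L132252) q5281, e3 q4368 (flp_g L132265) q5282, e3 q4369 (flp_g L129487) q4986, e3 q4370 L124423 q3575, e3 q4371 L124433 q3576, e3 q4372 (flp_g L132311) q5288, e3 q4373 (flp_g L132319) q5289, e3 q4374 (flp_g L132331) q5290, e3 q4375 L124458 q3579, e3 q4376 L124470 q3580, e3 q4377 L132389 q5299, e3 q4378 (flp_g L132385) q5298, e3 q4379 L124497 q3885, e3 q4380 (flp_g L124503) q3581, e3 q4381 (flp_g L132424) q5302, e3 q4382 L124525 q4382, e3 q4383 (flp_g L129611) q5001, e3 q4384 L124542 q3587, e3 q4385 L124552 q3588, e3 q4386 (flp_g L132445) q5305,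 e3 q4387 (flp_g L132457) q5306, e3 q4388 (flp_g L132464) q5307, e3 q4389 (flp_g L129663) q5007, e3 q4390 L124584 q3591, e3 q4391 L124597 q3592, e3 q4392 (flp_g L132513) q5313, e3 q4393 L124610 q3900, e3 q4394 (flp_g L132528) q5314, e3 q4395 (flp_g L129711) q5013, e3 q4396 (flp_g L129722) q5014, e3 q4397 L124639 q3596, e3 q4398 L124649 q3597, e3 q4399 L124661 q3598, e3 q4400 L124667 q4006, e3 q4401 (flp_g L132597) q5323, e3 q4402 (flp_g L132610) q5324, e3 q4403 L132679 q5334, e3 q4404 (flp_g L132628) q5326, e3 q4405 (flp_g L132634) q5327, e3 q4406 L132699 q5337, e3 q4407 L124715 q3602, e3 q4408 (flp_g L124719) q3601, e3 q4409 (flp_g L132726) q5339, e3 q4410 L124744 q3895, e3 q4411 L124754 q3605, e3 q4412 (flp_g L132757) q5342, e3 q4413 L124769 q4413, e3 q4414 L124779 q3611, e3 q4415 L124786 q3612, trivial⟩ (by decide +kernel)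

theorem ce_g_69 : ∀ r, r < 64 → sm gg (Qf (4416 + r)) = Qf (tab Gen.g (4416 + r)) :=
  edges_tab (sm gg) Qf (tab Gen.g) 4416 [(4416, 4002), (4417, 4015), (4418, 5345), (4419, 4003), (4420, 4016), (4421, 5350), (4422, 3617), (4423, 5215), (4424, 3619), (4425, 5354), (4426, 5355), (4427, 3621), (4428, 3622), (4429, 5359), (4430, 5209), (4431, 5360), (4432, 4432), (4433, 4433), (4434, 5370), (4435, 4435), (4436, 4436), (4437, 5227), (4438, 5229), (4439, 3629), (4440, 3630), (4441, 5082), (4442, 5222), (4443, 5375), (4444, 3634), (4445, 5182), (4446, 5223), (4447, 3827), (4448, 3635), (4449, 5383), (4450, 4450), (4451, 5054), (4452, 5083), (4453, 5107), (4454, 5242), (4455, 3647), (4456, 5118), (4457, 5119), (4458, 5112), (4459, 5237), (4460, 5389), (4461, 5183), (4462, 3653), (4463, 5395), (4464, 4464), (4465, 3656), (4466, 5399), (4467, 5050), (4468, 3658), (4469, 5404), (4470, 5405), (4471, 3661), (4472, 3662), (4473, 5409), (4474, 5410), (4475, 5411), (4476, 3665), (4477, 3666), (4478,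 3667), (4479, 5418)]
    ⟨e3 q4416 L124794 q4002, e3 q4417 L124804 q4015, e3 q4418 (flp_g L132782) q5345, e3 q4419 L124821 q4003, e3 q4420 L124828 q4016, e3 q4421 L132817 q5350, e3 q4422 (flp_g L124843) q3617, e3 q4423 (flp_g L131626) q5215, e3 q4424 L124871 q3619, e3 q4425 (flp_g L132863) q5354, e3 q4426 (flp_g L132873) q5355, e3 q4427 L124898 q3621, e3 q4428 L124909 q3622, e3 q4429 (flp_g L132902) q5359, e3 q4430 (flp_g L131555) q5209, e3 q4431 (flp_g L132918) q5360, e3 q4432 L124941 q4432, e3 q4433 L124951 q4433, e3 q4434 L132997 q5370, e3 q4435 L124968 q4435, e3 q4436 L124973 q4436, e3 q4437 (flp_g L131755) q5227, e3 q4438 (flp_g L131777) q5229, e3 q4439 L125002 q3629, e3 q4440 L125012 q3630, e3 q4441 (flp_g L130306) q5082, e3 q4442 (flp_g L131702) q5222, e3 q4443 (flp_g L133047) q5375, e3 q4444 L125046 q3634, e3 q4445 (flp_g L131256) q5182, e3 q4446 (flp_g L131717) q5223, e3 q4447 L125073 q3827, e3 q4448 (flp_g L125079) q3635, e3 q4449 (flp_g L133113) q5383, e3 q4450 L125105 q4450,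 e3 q4451 (flp_g L130089) q5054, e3 q4452 (flp_g L130319) q5083, e3 q4453 (flp_g L130533) q5107, e3 q4454 (flp_g L131899) q5242, e3 q4455 L125144 q3647, e3 q4456 (flp_g L130638) q5118, e3 q4457 (flp_g L130653) q5119, e3 q4458 (flp_g L130588) q5112, e3 q4459 (flp_g L131853) q5237, e3 q4460 (flp_g L133162) q5389, e3 q4461 (flp_g L131269) q5183, e3 q4462 L125190 q3653, e3 q4463 (flp_g L133202) q5395, e3 q4464 L125201 q4464, e3 q4465 (flp_g L125208) q3656, e3 q4466 (flp_g L133240) q5399, e3 q4467 (flp_g L130056) q5050, e3 q4468 L125236 q3658, e3 q4469 (flp_g L133275) q5404, e3 q4470 (flp_g L133285) q5405, e3 q4471 L125254 q3661, e3 q4472 L125262 q3662, e3 q4473 (flp_g L133307) q5409, e3 q4474 (flp_g L133315) q5410, e3 q4475 (flp_g L133325) q5411, e3 q4476 L125281 q3665, e3 q4477 L125291 q3666, e3 q4478 L125302 q3667, e3 q4479 (flp_g L133367) q5418, trivial⟩ (by decide +kernel)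

theorem ce_g_70 : ∀ r, r < 64 → sm gg (Qf (4480 + r)) = Qf (tab Gen.g (4480 + r)) :=
  edges_tab (sm gg) Qf (tab Gen.g) 4480 [(4480, 5419), (4481, 5427), (4482, 5421), (4483, 5422), (4484, 4484), (4485, 5433), (4486, 4486), (4487, 4487), (4488, 3670), (4489, 5437), (4490, 4490), (4491, 5075), (4492, 5076), (4493, 3675), (4494, 3676), (4495, 4029), (4496, 5442), (4497, 5443), (4498, 3680), (4499, 3681), (4500, 4019), (4501, 4031), (4502, 4032), (4503, 5459), (4504, 5451), (4505, 5452), (4506, 5462), (4507, 3685), (4508, 3686), (4509, 3684), (4510, 5465), (4511, 5464), (4512, 3688), (4513, 5468), (4514, 4514), (4515, 3988), (4516, 4020), (4517, 5106), (4518, 5108), (4519, 3697), (4520, 3698), (4521, 4004), (4522, 4039), (4523, 4040), (4524, 5480), (4525, 5341), (4526, 5473), (4527, 5483), (4528, 3705), (4529, 3706), (4530, 3995), (4531, 4007), (4532, 4008), (4533, 5491), (4534, 4042), (4535, 4043), (4536, 3704), (4537, 5494), (4538, 5485), (4539, 3707), (4540, 5497), (4541, 3712), (4542,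 3711), (4543, 5499)]
    ⟨e3 q4480 (flp_g L133378) q5419, e3 q4481 L133440 q5427, e3 q4482 (flp_g L133393) q5421, e3 q4483 (flp_g L133402) q5422, e3 q4484 L125346 q4484, e3 q4485 L133484 q5433, e3 q4486 L125363 q4486, e3 q4487 L125370 q4487, e3 q4488 (flp_g L125373) q3670, e3 q4489 (flp_g L133524) q5437, e3 q4490 L125392 q4490, e3 q4491 (flp_g L130240) q5075, e3 q4492 (flp_g L130254) q5076, e3 q4493 L125418 q3675, e3 q4494 L125432 q3676, e3 q4495 L125438 q4029, e3 q4496 (flp_g L133565) q5442, e3 q4497 (flp_g L133579) q5443, e3 q4498 L125464 q3680, e3 q4499 L125476 q3681, e3 q4500 L125482 q4019, e3 q4501 L125490 q4031, e3 q4502 L125502 q4032, e3 q4503 L133712 q5459, e3 q4504 (flp_g L133650) q5451, e3 q4505 (flp_g L133658) q5452, e3 q4506 L133732 q5462, e3 q4507 L125539 q3685, e3 q4508 L125548 q3686, e3 q4509 (flp_g L125554) q3684, e3 q4510 (flp_g L133772) q5465, e3 q4511 (flp_g L133760) q5464, e3 q4512 L125591 q3688, e3 q4513 (flp_g L133799) q5468, e3 q4514 L125607 q4514, e3 q4515 L125616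 q3988, e3 q4516 L125630 q4020, e3 q4517 (flp_g L130525) q5106, e3 q4518 (flp_g L130547) q5108, e3 q4519 L125654 q3697, e3 q4520 L125666 q3698, e3 q4521 L125672 q4004, e3 q4522 L125680 q4039, e3 q4523 L125691 q4040, e3 q4524 L133899 q5480, e3 q4525 (flp_g L132743) q5341, e3 q4526 (flp_g L133846) q5473, e3 q4527 L133917 q5483, e3 q4528 L125723 q3705, e3 q4529 L125729 q3706, e3 q4530 L125735 q3995, e3 q4531 L125741 q4007, e3 q4532 L125751 q4008, e3 q4533 L133979 q5491, e3 q4534 L125767 q4042, e3 q4535 L125773 q4043, e3 q4536 (flp_g L125775) q3704, e3 q4537 (flp_g L134007) q5494, e3 q4538 (flp_g L133939) q5485, e3 q4539 (flp_g L125789) q3707, e3 q4540 (flp_g L134024) q5497, e3 q4541 L125813 q3712, e3 q4542 L125823 q3711, e3 q4543 (flp_g L134043) q5499, trivial⟩ (by decide +kernel)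

theorem ce_g_71 : ∀ r, r < 64 → sm gg (Qf (4544 + r)) = Qf (tab Gen.g (4544 + r)) :=
  edges_tab (sm gg) Qf (tab Gen.g) 4544 [(4544, 5319), (4545, 3714), (4546, 4954), (4547, 4547), (4548, 3996), (4549, 3719), (4550, 5502), (4551, 3721), (4552, 5153), (4553, 5505), (4554, 5148), (4555, 5152), (4556, 5165), (4557, 3728), (4558, 5166), (4559, 5167), (4560, 5179), (4561, 3734), (4562, 5511), (4563, 5512), (4564, 3737), (4565, 4050), (4566, 4051), (4567, 4017), (4568, 4018), (4569, 4030), (4570, 3987), (4571, 3994), (4572, 4005), (4573, 4021), (4574, 4052), (4575, 4053), (4576, 5529), (4577, 4055), (4578, 4056), (4579, 3753), (4580, 3754), (4581, 5536), (4582, 3756), (4583, 3757), (4584, 5532), (4585, 5542), (4586, 5534), (4587, 5535), (4588, 3755), (4589, 5546), (4590, 5538), (4591, 5550), (4592, 4592), (4593, 4593), (4594, 3759), (4595, 5555), (4596, 4596), (4597, 4597), (4598, 3763), (4599, 5559), (4600, 4600), (4601, 3989), (4602, 4022), (4603, 4023), (4604, 5567), (4605, 4034), (4606,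 4035), (4607, 3768)]
    ⟨e3 q4544 (flp_g L132570) q5319, e3 q4545 L125844 q3714, e3 q4546 (flp_g L129182) q4954, e3 q4547 L125856 q4547, e3 q4548 L125869 q3996, e3 q4549 (flp_g L125871) q3719, e3 q4550 (flp_g L134066) q5502, e3 q4551 L125898 q3721, e3 q4552 (flp_g L130942) q5153, e3 q4553 (flp_g L134093) q5505, e3 q4554 (flp_g L130898) q5148, e3 q4555 (flp_g L130928) q5152, e3 q4556 (flp_g L131059) q5165, e3 q4557 L125952 q3728, e3 q4558 (flp_g L131070) q5166, e3 q4559 (flp_g L131082) q5167, e3 q4560 (flp_g L131217) q5179, e3 q4561 L125990 q3734, e3 q4562 (flp_g L134144) q5511, e3 q4563 (flp_g L134155) q5512, e3 q4564 L126011 q3737, e3 q4565 L126017 q4050, e3 q4566 L126029 q4051, e3 q4567 L126036 q4017, e3 q4568 L126043 q4018, e3 q4569 L126054 q4030, e3 q4570 L126061 q3987, e3 q4571 L126069 q3994, e3 q4572 L126079 q4005, e3 q4573 L126086 q4021, e3 q4574 L126096 q4052, e3 q4575 L126105 q4053, e3 q4576 L134290 q5529, e3 q4577 L126125 q4055, e3 q4578 L126133 q4056, e3 q4579 L126142 q3753,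 e3 q4580 L126154 q3754, e3 q4581 L134357 q5536, e3 q4582 L126175 q3756, e3 q4583 L126183 q3757, e3 q4584 (flp_g L134324) q5532, e3 q4585 L134405 q5542, e3 q4586 (flp_g L134345) q5534, e3 q4587 (flp_g L134353) q5535, e3 q4588 (flp_g L126216) q3755, e3 q4589 (flp_g L134447) q5546, e3 q4590 (flp_g L134386) q5538, e3 q4591 L134472 q5550, e3 q4592 L126253 q4592, e3 q4593 L126262 q4593, e3 q4594 (flp_g L126263) q3759, e3 q4595 (flp_g L134513) q5555, e3 q4596 L126285 q4596, e3 q4597 L126291 q4597, e3 q4598 L126302 q3763, e3 q4599 (flp_g L134543) q5559, e3 q4600 L126318 q4600, e3 q4601 L126328 q3989, e3 q4602 L126337 q4022, e3 q4603 L126347 q4023, e3 q4604 L134607 q5567, e3 q4605 L126365 q4034, e3 q4606 L126374 q4035, e3 q4607 (flp_g L126377) q3768, trivial⟩ (by decide +kernel)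

theorem ce_g_72 : ∀ r, r < 64 → sm gg (Qf (4608 + r)) = Qf (tab Gen.g (4608 + r)) :=
  edges_tab (sm gg) Qf (tab Gen.g) 4608 [(4608, 5570), (4609, 4066), (4610, 3771), (4611, 5573), (4612, 3776), (4613, 3775), (4614, 5576), (4615, 5575), (4616, 3778), (4617, 4933), (4618, 4618), (4619, 3990), (4620, 3997), (4621, 3998), (4622, 5583), (4623, 4010), (4624, 4011), (4625, 3785), (4626, 5586), (4627, 4046), (4628, 3789), (4629, 5589), (4630, 4072), (4631, 3792), (4632, 5592), (4633, 3796), (4634, 3795), (4635, 4947), (4636, 5594), (4637, 4637), (4638, 4638), (4639, 3847), (4640, 3845), (4641, 4641), (4642, 4642), (4643, 5177), (4644, 4644), (4645, 4645), (4646, 4646), (4647, 4647), (4648, 3812), (4649, 5602), (4650, 3814), (4651, 3875), (4652, 5365), (4653, 3872), (4654, 3874), (4655, 3817), (4656, 3818), (4657, 5609), (4658, 3867), (4659, 5615), (4660, 3868), (4661, 3865), (4662, 4662), (4663, 5621), (4664, 4664), (4665, 4665), (4666, 3822), (4667, 5625), (4668, 4668), (4669, 3890), (4670,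 5629), (4671, 5630)]
    ⟨e3 q4608 (flp_g L134646) q5570, e3 q4609 L126402 q4066, e3 q4610 (flp_g L126405) q3771, e3 q4611 (flp_g L134675) q5573, e3 q4612 L126431 q3776, e3 q4613 L126441 q3775, e3 q4614 (flp_g L134703) q5576, e3 q4615 (flp_g L134690) q5575, e3 q4616 L126465 q3778, e3 q4617 (flp_g L128954) q4933, e3 q4618 L126483 q4618, e3 q4619 L126496 q3990, e3 q4620 L126503 q3997, e3 q4621 L126514 q3998, e3 q4622 L134758 q5583, e3 q4623 L126530 q4010, e3 q4624 L126538 q4011, e3 q4625 (flp_g L126541) q3785, e3 q4626 (flp_g L134792) q5586, e3 q4627 L126562 q4046, e3 q4628 L126573 q3789, e3 q4629 (flp_g L134813) q5589, e3 q4630 L126585 q4072, e3 q4631 L126599 q3792, e3 q4632 (flp_g L134838) q5592, e3 q4633 L126612 q3796, e3 q4634 L126624 q3795, e3 q4635 (flp_g L129109) q4947, e3 q4636 (flp_g L134854) q5594, e3 q4637 L126645 q4637, e3 q4638 L126656 q4638, e3 q4639 L126666 q3847, e3 q4640 L126678 q3845, e3 q4641 L126691 q4641, e3 q4642 L126703 q4642, e3 q4643 (flp_g L131190) q5177, e3 q4644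 L126720 q4644, e3 q4645 L126729 q4645, e3 q4646 L126740 q4646, e3 q4647 L126745 q4647, e3 q4648 (flp_g L126749) q3812, e3 q4649 (flp_g L134931) q5602, e3 q4650 L126777 q3814, e3 q4651 L126788 q3875, e3 q4652 (flp_g L132960) q5365, e3 q4653 L126804 q3872, e3 q4654 L126817 q3874, e3 q4655 L126828 q3817, e3 q4656 L126840 q3818, e3 q4657 (flp_g L134999) q5609, e3 q4658 L126863 q3867, e3 q4659 L135051 q5615, e3 q4660 L126883 q3868, e3 q4661 L126893 q3865, e3 q4662 L126902 q4662, e3 q4663 L135107 q5621, e3 q4664 L126921 q4664, e3 q4665 L126929 q4665, e3 q4666 (flp_g L126930) q3822, e3 q4667 (flp_g L135149) q5625, e3 q4668 L126955 q4668, e3 q4669 L126962 q3890, e3 q4670 L135176 q5629, e3 q4671 L135189 q5630, trivial⟩ (by decide +kernel)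

theorem ce_g_73 : ∀ r, r < 64 → sm gg (Qf (4672 + r)) = Qf (tab Gen.g (4672 + r)) :=
  edges_tab (sm gg) Qf (tab Gen.g) 4672 [(4672, 3830), (4673, 5631), (4674, 3884), (4675, 3834), (4676, 5633), (4677, 4677), (4678, 5636), (4679, 3837), (4680, 3838), (4681, 3840), (4682, 5637), (4683, 3843), (4684, 4953), (4685, 4685), (4686, 5214), (4687, 5216), (4688, 5208), (4689, 5176), (4690, 4690), (4691, 5645), (4692, 4692), (4693, 4693), (4694, 3851), (4695, 5649), (4696, 4696), (4697, 3857), (4698, 5652), (4699, 4699), (4700, 3860), (4701, 5200), (4702, 4702), (4703, 3863), (4704, 5655), (4705, 5656), (4706, 3866), (4707, 5614), (4708, 5617), (4709, 5272), (4710, 5613), (4711, 5666), (4712, 3871), (4713, 5669), (4714, 5667), (4715, 5673), (4716, 5607), (4717, 5605), (4718, 3873), (4719, 5677), (4720, 5606), (4721, 5681), (4722, 4722), (4723, 4723), (4724, 3877), (4725, 5686), (4726, 4726), (4727, 4727), (4728, 3881), (4729, 5690), (4730, 4730), (4731, 5693), (4732, 5301), (4733, 3886), (4734,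 3887), (4735, 3889)]
    ⟨e3 q4672 (flp_g L126987) q3830, e3 q4673 (flp_g L135212) q5631, e3 q4674 L127012 q3884, e3 q4675 L127021 q3834, e3 q4676 (flp_g L135229) q5633, e3 q4677 L127034 q4677, e3 q4678 L135245 q5636, e3 q4679 (flp_g L127045) q3837, e3 q4680 (flp_g L127058) q3838, e3 q4681 L127081 q3840, e3 q4682 (flp_g L135265) q5637, e3 q4683 L127098 q3843, e3 q4684 (flp_g L129168) q4953, e3 q4685 L127109 q4685, e3 q4686 (flp_g L131612) q5214, e3 q4687 (flp_g L131640) q5216, e3 q4688 (flp_g L131538) q5208, e3 q4689 (flp_g L131178) q5176, e3 q4690 L127140 q4690, e3 q4691 L135327 q5645, e3 q4692 L127155 q4692, e3 q4693 L127161 q4693, e3 q4694 (flp_g L127162) q3851, e3 q4695 (flp_g L135369) q5649, e3 q4696 L127181 q4696, e3 q4697 L127189 q3857, e3 q4698 (flp_g L135393) q5652, e3 q4699 L127202 q4699, e3 q4700 L127210 q3860, e3 q4701 (flp_g L131463) q5200, e3 q4702 L127221 q4702, e3 q4703 L127230 q3863, e3 q4704 (flp_g L135417) q5655, e3 q4705 (flp_g L135426) q5656, e3 q4706 L127249 q3866,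 e3 q4707 (flp_g L135049) q5614, e3 q4708 (flp_g L135079) q5617, e3 q4709 (flp_g L132170) q5272, e3 q4710 (flp_g L135038) q5613, e3 q4711 L135485 q5666, e3 q4712 L127288 q3871, e3 q4713 L135506 q5669, e3 q4714 (flp_g L135496) q5667, e3 q4715 L135531 q5673, e3 q4716 (flp_g L134977) q5607, e3 q4717 (flp_g L134953) q5605, e3 q4718 (flp_g L127324) q3873, e3 q4719 (flp_g L135570) q5677, e3 q4720 (flp_g L134965) q5606, e3 q4721 L135590 q5681, e3 q4722 L127357 q4722, e3 q4723 L127366 q4723, e3 q4724 (flp_g L127367) q3877, e3 q4725 (flp_g L135651) q5686, e3 q4726 L127390 q4726, e3 q4727 L127395 q4727, e3 q4728 L127403 q3881, e3 q4729 (flp_g L135693) q5690, e3 q4730 L127415 q4730, e3 q4731 L135714 q5693, e3 q4732 (flp_g L132414) q5301, e3 q4733 (flp_g L127432) q3886, e3 q4734 (flp_g L127440) q3887, e3 q4735 L127457 q3889, trivial⟩ (by decide +kernel)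

theorem ce_g_74 : ∀ r, r < 64 → sm gg (Qf (4736 + r)) = Qf (tab Gen.g (4736 + r)) :=
  edges_tab (sm gg) Qf (tab Gen.g) 4736 [(4736, 5695), (4737, 5284), (4738, 3892), (4739, 4943), (4740, 4740), (4741, 3894), (4742, 5699), (4743, 3899), (4744, 5019), (4745, 5316), (4746, 3905), (4747, 5700), (4748, 5701), (4749, 3908), (4750, 4077), (4751, 5185), (4752, 5186), (4753, 3913), (4754, 4754), (4755, 5190), (4756, 4756), (4757, 4757), (4758, 4758), (4759, 3925), (4760, 3926), (4761, 5709), (4762, 5710), (4763, 4763), (4764, 4764), (4765, 4765), (4766, 3938), (4767, 5718), (4768, 3940), (4769, 3941), (4770, 3935), (4771, 5722), (4772, 3944), (4773, 5726), (4774, 5716), (4775, 5717), (4776, 3939), (4777, 5731), (4778, 5720), (4779, 5721), (4780, 3943), (4781, 5735), (4782, 5724), (4783, 4785), (4784, 3945), (4785, 4783), (4786, 5739), (4787, 4787), (4788, 4788), (4789, 3949), (4790, 5743), (4791, 4791), (4792, 4792), (4793, 3953), (4794, 4927), (4795, 4795), (4796, 3956), (4797, 5745), (4798,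 3960), (4799, 3959)]
    ⟨e3 q4736 (flp_g L135738) q5695, e3 q4737 (flp_g L132280) q5284, e3 q4738 L127480 q3892, e3 q4739 (flp_g L129062) q4943, e3 q4740 L127493 q4740, e3 q4741 (flp_g L127497) q3894, e3 q4742 (flp_g L135770) q5699, e3 q4743 L127515 q3899, e3 q4744 (flp_g L129766) q5019, e3 q4745 (flp_g L132543) q5316, e3 q4746 L127530 q3905, e3 q4747 (flp_g L135779) q5700, e3 q4748 (flp_g L135789) q5701, e3 q4749 L127550 q3908, e3 q4750 L127558 q4077, e3 q4751 (flp_g L131294) q5185, e3 q4752 (flp_g L131307) q5186, e3 q4753 L127586 q3913, e3 q4754 L127599 q4754, e3 q4755 (flp_g L131352) q5190, e3 q4756 L127615 q4756, e3 q4757 L127622 q4757, e3 q4758 L127630 q4758, e3 q4759 L127634 q3925, e3 q4760 L127643 q3926, e3 q4761 (flp_g L135870) q5709, e3 q4762 (flp_g L135881) q5710, e3 q4763 L127664 q4763, e3 q4764 L127673 q4764, e3 q4765 L127680 q4765, e3 q4766 L127684 q3938, e3 q4767 L135935 q5718, e3 q4768 L127701 q3940, e3 q4769 L127709 q3941, e3 q4770 (flp_g L127711) q3935, e3 q4771 (flp_g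 L135977) q5722, e3 q4772 L127736 q3944, e3 q4773 L136007 q5726, e3 q4774 (flp_g L135924) q5716, e3 q4775 (flp_g L135933) q5717, e3 q4776 (flp_g L127756) q3939, e3 q4777 (flp_g L136052) q5731, e3 q4778 (flp_g L135958) q5720, e3 q4779 (flp_g L135964) q5721, e3 q4780 L127794 q3943, e3 q4781 (flp_g L136080) q5735, e3 q4782 (flp_g L135992) q5724, e3 q4783 L127837 q4785, e3 q4784 (flp_g L127818) q3945, e3 q4785 (flp_g L127837) q4783, e3 q4786 (flp_g L136117) q5739, e3 q4787 L127860 q4787, e3 q4788 L127867 q4788, e3 q4789 L127876 q3949, e3 q4790 (flp_g L136158) q5743, e3 q4791 L127888 q4791, e3 q4792 L127899 q4792, e3 q4793 L127911 q3953, e3 q4794 (flp_g L128900) q4927, e3 q4795 L127932 q4795, e3 q4796 L127947 q3956, e3 q4797 (flp_g L136178) q5745, e3 q4798 L127960 q3960, e3 q4799 L127970 q3959, trivial⟩ (by decide +kernel)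

theorem ce_g_75 : ∀ r, r < 64 → sm gg (Qf (4800 + r)) = Qf (tab Gen.g (4800 + r)) :=
  edges_tab (sm gg) Qf (tab Gen.g) 4800 [(4800, 4936), (4801, 5747), (4802, 4802), (4803, 3965), (4804, 4946), (4805, 3969), (4806, 4808), (4807, 3973), (4808, 4806), (4809, 5749), (4810, 4810), (4811, 3977), (4812, 4812), (4813, 5518), (4814, 5519), (4815, 5453), (4816, 5471), (4817, 5522), (4818, 5562), (4819, 5563), (4820, 4820), (4821, 4821), (4822, 5766), (4823, 4823), (4824, 4824), (4825, 5474), (4826, 5521), (4827, 5328), (4828, 5486), (4829, 5487), (4830, 5778), (4831, 5581), (4832, 5582), (4833, 3999), (4834, 5781), (4835, 4835), (4836, 5308), (4837, 5346), (4838, 5349), (4839, 5315), (4840, 5475), (4841, 5476), (4842, 5329), (4843, 5330), (4844, 5113), (4845, 5489), (4846, 5490), (4847, 4009), (4848, 5793), (4849, 5585), (4850, 4013), (4851, 5796), (4852, 4852), (4853, 5347), (4854, 5516), (4855, 5444), (4856, 5520), (4857, 5412), (4858, 5454), (4859, 5455), (4860, 5523), (4861, 5524), (4862,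 5814), (4863, 5565)]
    ⟨e3 q4800 (flp_g L128987) q4936, e3 q4801 (flp_g L136192) q5747, e3 q4802 L127990 q4802, e3 q4803 L128003 q3965, e3 q4804 (flp_g L129098) q4946, e3 q4805 L128014 q3969, e3 q4806 (flp_g L128043) q4808, e3 q4807 L128032 q3973, e3 q4808 L128043 q4806, e3 q4809 (flp_g L136204) q5749, e3 q4810 L128058 q4810, e3 q4811 L128069 q3977, e3 q4812 L128080 q4812, e3 q4813 (flp_g L134200) q5518, e3 q4814 (flp_g L134206) q5519, e3 q4815 (flp_g L133664) q5453, e3 q4816 (flp_g L133830) q5471, e3 q4817 (flp_g L134234) q5522, e3 q4818 (flp_g L134571) q5562, e3 q4819 (flp_g L134583) q5563, e3 q4820 L128151 q4820, e3 q4821 L128162 q4821, e3 q4822 L136349 q5766, e3 q4823 L128178 q4823, e3 q4824 L128185 q4824, e3 q4825 (flp_g L133854) q5474, e3 q4826 (flp_g L134225) q5521, e3 q4827 (flp_g L132642) q5328, e3 q4828 (flp_g L133945) q5486, e3 q4829 (flp_g L133955) q5487, e3 q4830 L136432 q5778, e3 q4831 (flp_g L134747) q5581, e3 q4832 (flp_g L134755) q5582, e3 q4833 (flp_g L128240) q3999,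 e3 q4834 (flp_g L136463) q5781, e3 q4835 L128261 q4835, e3 q4836 (flp_g L132472) q5308, e3 q4837 (flp_g L132792) q5346, e3 q4838 (flp_g L132814) q5349, e3 q4839 (flp_g L132533) q5315, e3 q4840 (flp_g L133862) q5475, e3 q4841 (flp_g L133873) q5476, e3 q4842 (flp_g L132650) q5329, e3 q4843 (flp_g L132661) q5330, e3 q4844 (flp_g L130600) q5113, e3 q4845 (flp_g L133971) q5489, e3 q4846 (flp_g L133977) q5490, e3 q4847 (flp_g L128331) q4009, e3 q4848 (flp_g L136544) q5793, e3 q4849 (flp_g L134782) q5585, e3 q4850 L128362 q4013, e3 q4851 (flp_g L136567) q5796, e3 q4852 L128376 q4852, e3 q4853 (flp_g L132801) q5347, e3 q4854 (flp_g L134179) q5516, e3 q4855 (flp_g L133585) q5444, e3 q4856 (flp_g L134217) q5520, e3 q4857 (flp_g L133331) q5412, e3 q4858 (flp_g L133672) q5454, e3 q4859 (flp_g L133682) q5455, e3 q4860 (flp_g L134244) q5523, e3 q4861 (flp_g L134256) q5524, e3 q4862 L136675 q5814, e3 q4863 (flp_g L134597) q5565, trivial⟩ (by decide +kernel)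

theorem ce_g_76 : ∀ r, r < 64 → sm gg (Qf (4864 + r)) = Qf (tab Gen.g (4864 + r)) :=
  edges_tab (sm gg) Qf (tab Gen.g) 4864 [(4864, 5566), (4865, 4865), (4866, 5820), (4867, 4867), (4868, 4868), (4869, 4026), (4870, 5824), (4871, 4871), (4872, 5445), (4873, 5446), (4874, 5830), (4875, 5457), (4876, 5458), (4877, 4033), (4878, 5833), (4879, 5569), (4880, 4037), (4881, 5836), (4882, 4882), (4883, 5127), (4884, 5478), (4885, 5479), (4886, 4041), (4887, 5841), (4888, 5493), (4889, 4045), (4890, 5844), (4891, 5588), (4892, 4048), (4893, 5847), (4894, 4894), (4895, 5513), (4896, 5517), (4897, 5525), (4898, 5856), (4899, 5527), (4900, 5528), (4901, 4054), (4902, 5860), (4903, 5531), (4904, 5864), (4905, 4905), (4906, 4906), (4907, 4058), (4908, 5869), (4909, 4909), (4910, 4910), (4911, 4062), (4912, 5873), (4913, 4913), (4914, 4065), (4915, 5876), (4916, 5572), (4917, 4068), (4918, 5879), (4919, 4919), (4920, 4071), (4921, 5883), (4922, 5591), (4923, 4074), (4924, 5887), (4925, 5888), (4926,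 4926), (4927, 4794)]
    ⟨e3 q4864 (flp_g L134604) q5566, e3 q4865 L128459 q4865, e3 q4866 L136720 q5820, e3 q4867 L128477 q4867, e3 q4868 L128484 q4868, e3 q4869 (flp_g L128486) q4026, e3 q4870 (flp_g L136759) q5824, e3 q4871 L128504 q4871, e3 q4872 (flp_g L133595) q5445, e3 q4873 (flp_g L133608) q5446, e3 q4874 L136794 q5830, e3 q4875 (flp_g L133702) q5457, e3 q4876 (flp_g L133710) q5458, e3 q4877 (flp_g L128537) q4033, e3 q4878 (flp_g L136822) q5833, e3 q4879 (flp_g L134634) q5569, e3 q4880 L128572 q4037, e3 q4881 (flp_g L136847) q5836, e3 q4882 L128587 q4882, e3 q4883 (flp_g L130726) q5127, e3 q4884 (flp_g L133889) q5478, e3 q4885 (flp_g L133895) q5479, e3 q4886 (flp_g L128603) q4041, e3 q4887 (flp_g L136880) q5841, e3 q4888 (flp_g L134001) q5493, e3 q4889 L128623 q4045, e3 q4890 (flp_g L136896) q5844, e3 q4891 (flp_g L134804) q5588, e3 q4892 L128642 q4048, e3 q4893 (flp_g L136912) q5847, e3 q4894 L128652 q4894, e3 q4895 (flp_g L134160) q5513, e3 q4896 (flp_g L134191) q5517, e3 q4897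 (flp_g L134261) q5525, e3 q4898 L136960 q5856, e3 q4899 (flp_g L134279) q5527, e3 q4900 (flp_g L134287) q5528, e3 q4901 (flp_g L128695) q4054, e3 q4902 (flp_g L137001) q5860, e3 q4903 (flp_g L134318) q5531, e3 q4904 L137026 q5864, e3 q4905 L128732 q4905, e3 q4906 L128742 q4906, e3 q4907 (flp_g L128743) q4058, e3 q4908 (flp_g L137069) q5869, e3 q4909 L128764 q4909, e3 q4910 L128769 q4910, e3 q4911 L128781 q4062, e3 q4912 (flp_g L137098) q5873, e3 q4913 L128796 q4913, e3 q4914 L128806 q4065, e3 q4915 (flp_g L137123) q5876, e3 q4916 (flp_g L134660) q5572, e3 q4917 L128828 q4068, e3 q4918 (flp_g L137144) q5879, e3 q4919 L128844 q4919, e3 q4920 L128852 q4071, e3 q4921 (flp_g L137172) q5883, e3 q4922 (flp_g L134827) q5591, e3 q4923 L128869 q4074, e3 q4924 (flp_g L137195) q5887, e3 q4925 (flp_g L137202) q5888, e3 q4926 L128888 q4926, e3 q4927 L128900 q4794, trivial⟩ (by decide +kernel)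

theorem ce_g_77 : ∀ r, r < 64 → sm gg (Qf (4928 + r)) = Qf (tab Gen.g (4928 + r)) :=
  edges_tab (sm gg) Qf (tab Gen.g) 4928 [(4928, 5702), (4929, 5705), (4930, 4930), (4931, 4931), (4932, 4932), (4933, 4617), (4934, 4082), (4935, 4083), (4936, 4800), (4937, 5900), (4938, 5904), (4939, 4939), (4940, 4940), (4941, 4087), (4942, 4088), (4943, 4739), (4944, 5907), (4945, 4094), (4946, 4804), (4947, 4635), (4948, 5911), (4949, 4095), (4950, 5914), (4951, 4951), (4952, 4101), (4953, 4684), (4954, 4546), (4955, 5917), (4956, 4956), (4957, 4957), (4958, 4958), (4959, 4106), (4960, 4107), (4961, 4108), (4962, 5924), (4963, 5925), (4964, 5926), (4965, 5640), (4966, 4109), (4967, 5932), (4968, 4351), (4969, 4111), (4970, 5936), (4971, 5937), (4972, 4113), (4973, 4114), (4974, 5638), (4975, 5941), (4976, 5942), (4977, 4977), (4978, 4978), (4979, 5952), (4980, 4980), (4981, 4981), (4982, 4365), (4983, 4119), (4984, 5956), (4985, 5957), (4986, 4369), (4987, 4122), (4988, 4123), (4989, 5963), (4990,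 5964), (4991, 5965)]
    ⟨e3 q4928 (flp_g L135797) q5702, e3 q4929 (flp_g L135824) q5705, e3 q4930 L128923 q4930, e3 q4931 L128932 q4931, e3 q4932 L128942 q4932, e3 q4933 L128954 q4617, e3 q4934 L128962 q4082, e3 q4935 L128978 q4083, e3 q4936 L128987 q4800, e3 q4937 (flp_g L137311) q5900, e3 q4938 L137348 q5904, e3 q4939 L129019 q4939, e3 q4940 L129026 q4940, e3 q4941 L129035 q4087, e3 q4942 L129052 q4088, e3 q4943 L129062 q4739, e3 q4944 (flp_g L137390) q5907, e3 q4945 L129086 q4094, e3 q4946 L129098 q4804, e3 q4947 L129109 q4635, e3 q4948 (flp_g L137432) q5911, e3 q4949 (flp_g L129120) q4095, e3 q4950 (flp_g L137474) q5914, e3 q4951 L129145 q4951, e3 q4952 L129159 q4101, e3 q4953 L129168 q4684, e3 q4954 L129182 q4546, e3 q4955 (flp_g L137511) q5917, e3 q4956 L129197 q4956, e3 q4957 L129212 q4957, e3 q4958 L129225 q4958, e3 q4959 L129233 q4106, e3 q4960 L129245 q4107, e3 q4961 L129251 q4108, e3 q4962 (flp_g L137600) q5924, e3 q4963 (flp_g L137614) q5925, e3 q4964 (flp_g L137622) q5926,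 e3 q4965 (flp_g L135293) q5640, e3 q4966 (flp_g L129288) q4109, e3 q4967 (flp_g L137678) q5932, e3 q4968 L129317 q4351, e3 q4969 L129327 q4111, e3 q4970 (flp_g L137718) q5936, e3 q4971 (flp_g L137728) q5937, e3 q4972 L129356 q4113, e3 q4973 L129366 q4114, e3 q4974 (flp_g L135274) q5638, e3 q4975 (flp_g L137762) q5941, e3 q4976 (flp_g L137776) q5942, e3 q4977 L129400 q4977, e3 q4978 L129408 q4978, e3 q4979 L137852 q5952, e3 q4980 L129428 q4980, e3 q4981 L129435 q4981, e3 q4982 L129448 q4365, e3 q4983 L129458 q4119, e3 q4984 (flp_g L137897) q5956, e3 q4985 (flp_g L137907) q5957, e3 q4986 L129487 q4369, e3 q4987 L129493 q4122, e3 q4988 L129503 q4123, e3 q4989 (flp_g L137960) q5963, e3 q4990 (flp_g L137972) q5964, e3 q4991 (flp_g L137984) q5965, trivial⟩ (by decide +kernel)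

theorem ce_g_78 : ∀ r, r < 64 → sm gg (Qf (4992 + r)) = Qf (tab Gen.g (4992 + r)) :=
  edges_tab (sm gg) Qf (tab Gen.g) 4992 [(4992, 4126), (4993, 4127), (4994, 5974), (4995, 5972), (4996, 5973), (4997, 4128), (4998, 5977), (4999, 4999), (5000, 4345), (5001, 4383), (5002, 4134), (5003, 4135), (5004, 5983), (5005, 5984), (5006, 5985), (5007, 4389), (5008, 4138), (5009, 4139), (5010, 5991), (5011, 5992), (5012, 5993), (5013, 4395), (5014, 4396), (5015, 4143), (5016, 4144), (5017, 4145), (5018, 6003), (5019, 4744), (5020, 6004), (5021, 6013), (5022, 6005), (5023, 6006), (5024, 4149), (5025, 4150), (5026, 4148), (5027, 6017), (5028, 6016), (5029, 4152), (5030, 6020), (5031, 5031), (5032, 4341), (5033, 4303), (5034, 4346), (5035, 4158), (5036, 4159), (5037, 4160), (5038, 6026), (5039, 6027), (5040, 6028), (5041, 4304), (5042, 4347), (5043, 4166), (5044, 4167), (5045, 4168), (5046, 6033), (5047, 6034), (5048, 4169), (5049, 6037), (5050, 4467), (5051, 4171), (5052, 6042), (5053, 6043), (5054,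 4451), (5055, 4174)]
    ⟨e3 q4992 L129535 q4126, e3 q4993 L129547 q4127, e3 q4994 L138058 q5974, e3 q4995 (flp_g L138046) q5972, e3 q4996 (flp_g L138053) q5973, e3 q4997 (flp_g L129571) q4128, e3 q4998 (flp_g L138091) q5977, e3 q4999 L129593 q4999, e3 q5000 L129601 q4345, e3 q5001 L129611 q4383, e3 q5002 L129621 q4134, e3 q5003 L129630 q4135, e3 q5004 (flp_g L138149) q5983, e3 q5005 (flp_g L138160) q5984, e3 q5006 (flp_g L138166) q5985, e3 q5007 L129663 q4389, e3 q5008 L129669 q4138, e3 q5009 L129679 q4139, e3 q5010 (flp_g L138224) q5991, e3 q5011 (flp_g L138239) q5992, e3 q5012 (flp_g L138252) q5993, e3 q5013 L129711 q4395, e3 q5014 L129722 q4396, e3 q5015 L129728 q4143, e3 q5016 L129740 q4144, e3 q5017 L129752 q4145, e3 q5018 (flp_g L138363) q6003, e3 q5019 L129766 q4744, e3 q5020 (flp_g L138377) q6004, e3 q5021 L138463 q6013, e3 q5022 (flp_g L138391) q6005, e3 q5023 (flp_g L138397) q6006, e3 q5024 L129812 q4149, e3 q5025 L129819 q4150, e3 q5026 (flp_g L129824) q4148, e3 q5027 (flp_g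 L138516) q6017, e3 q5028 (flp_g L138503) q6016, e3 q5029 L129857 q4152, e3 q5030 (flp_g L138549) q6020, e3 q5031 L129870 q5031, e3 q5032 L129880 q4341, e3 q5033 L129893 q4303, e3 q5034 L129907 q4346, e3 q5035 L129915 q4158, e3 q5036 L129926 q4159, e3 q5037 L129932 q4160, e3 q5038 (flp_g L138627) q6026, e3 q5039 (flp_g L138640) q6027, e3 q5040 (flp_g L138650) q6028, e3 q5041 L129968 q4304, e3 q5042 L129976 q4347, e3 q5043 L129987 q4166, e3 q5044 L130000 q4167, e3 q5045 L130010 q4168, e3 q5046 (flp_g L138704) q6033, e3 q5047 (flp_g L138712) q6034, e3 q5048 (flp_g L130030) q4169, e3 q5049 (flp_g L138741) q6037, e3 q5050 L130056 q4467, e3 q5051 L130063 q4171, e3 q5052 (flp_g L138784) q6042, e3 q5053 (flp_g L138793) q6043, e3 q5054 L130089 q4451, e3 q5055 L130095 q4174, trivial⟩ (by decide +kernel)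

theorem ce_g_79 : ∀ r, r < 64 → sm gg (Qf (5056 + r)) = Qf (tab Gen.g (5056 + r)) :=
  edges_tab (sm gg) Qf (tab Gen.g) 5056 [(5056, 4175), (5057, 6049), (5058, 6050), (5059, 6051), (5060, 4178), (5061, 4179), (5062, 4180), (5063, 6058), (5064, 6059), (5065, 6067), (5066, 6061), (5067, 6062), (5068, 5068), (5069, 6073), (5070, 5070), (5071, 5071), (5072, 4183), (5073, 6077), (5074, 5074), (5075, 4491), (5076, 4492), (5077, 4188), (5078, 4189), (5079, 6083), (5080, 6084), (5081, 6085), (5082, 4441), (5083, 4452), (5084, 4193), (5085, 4194), (5086, 4195), (5087, 6094), (5088, 6095), (5089, 6096), (5090, 6106), (5091, 6098), (5092, 6099), (5093, 6109), (5094, 4199), (5095, 4200), (5096, 4198), (5097, 6112), (5098, 6111), (5099, 4202), (5100, 6115), (5101, 5101), (5102, 4207), (5103, 4208), (5104, 6118), (5105, 6119), (5106, 4517), (5107, 4453), (5108, 4518), (5109, 4213), (5110, 4214), (5111, 4215), (5112, 4458), (5113, 4844), (5114, 6123), (5115, 6131), (5116, 6124), (5117, 6125), (5118,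 4456), (5119, 4457)]
    ⟨e3 q5056 L130103 q4175, e3 q5057 (flp_g L138839) q6049, e3 q5058 (flp_g L138845) q6050, e3 q5059 (flp_g L138855) q6051, e3 q5060 L130128 q4178, e3 q5061 L130136 q4179, e3 q5062 L130146 q4180, e3 q5063 (flp_g L138902) q6058, e3 q5064 (flp_g L138911) q6059, e3 q5065 L138965 q6067, e3 q5066 (flp_g L138927) q6061, e3 q5067 (flp_g L138934) q6062, e3 q5068 L130186 q5068, e3 q5069 L139009 q6073, e3 q5070 L130202 q5070, e3 q5071 L130208 q5071, e3 q5072 (flp_g L130210) q4183, e3 q5073 (flp_g L139046) q6077, e3 q5074 L130232 q5074, e3 q5075 L130240 q4491, e3 q5076 L130254 q4492, e3 q5077 L130260 q4188, e3 q5078 L130271 q4189, e3 q5079 (flp_g L139110) q6083, e3 q5080 (flp_g L139124) q6084, e3 q5081 (flp_g L139137) q6085, e3 q5082 L130306 q4441, e3 q5083 L130319 q4452, e3 q5084 L130329 q4193, e3 q5085 L130337 q4194, e3 q5086 L130347 q4195, e3 q5087 (flp_g L139226) q6094, e3 q5088 (flp_g L139234) q6095, e3 q5089 (flp_g L139251) q6096, e3 q5090 L139330 q6106, e3 q5091 (flp_g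 L139273) q6098, e3 q5092 (flp_g L139279) q6099, e3 q5093 L139354 q6109, e3 q5094 L130410 q4199, e3 q5095 L130418 q4200, e3 q5096 (flp_g L130423) q4198, e3 q5097 (flp_g L139388) q6112, e3 q5098 (flp_g L139378) q6111, e3 q5099 L130456 q4202, e3 q5100 (flp_g L139413) q6115, e3 q5101 L130470 q5101, e3 q5102 L130481 q4207, e3 q5103 L130496 q4208, e3 q5104 (flp_g L139443) q6118, e3 q5105 (flp_g L139458) q6119, e3 q5106 L130525 q4517, e3 q5107 L130533 q4453, e3 q5108 L130547 q4518, e3 q5109 L130555 q4213, e3 q5110 L130569 q4214, e3 q5111 L130580 q4215, e3 q5112 L130588 q4458, e3 q5113 L130600 q4844, e3 q5114 (flp_g L139510) q6123, e3 q5115 L139589 q6131, e3 q5116 (flp_g L139521) q6124, e3 q5117 (flp_g L139525) q6125, e3 q5118 L130638 q4456, e3 q5119 L130653 q4457, trivial⟩ (by decide +kernel)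

theorem ce_g_80 : ∀ r, r < 64 → sm gg (Qf (5120 + r)) = Qf (tab Gen.g (5120 + r)) :=
  edges_tab (sm gg) Qf (tab Gen.g) 5120 [(5120, 4221), (5121, 4222), (5122, 4223), (5123, 6140), (5124, 4225), (5125, 4226), (5126, 6136), (5127, 4883), (5128, 6137), (5129, 6148), (5130, 6138), (5131, 6139), (5132, 4224), (5133, 6151), (5134, 6142), (5135, 4227), (5136, 6154), (5137, 4232), (5138, 4231), (5139, 6157), (5140, 6156), (5141, 4234), (5142, 5920), (5143, 5143), (5144, 4238), (5145, 4239), (5146, 6160), (5147, 4242), (5148, 4554), (5149, 4244), (5150, 6163), (5151, 6164), (5152, 4555), (5153, 4552), (5154, 4247), (5155, 4248), (5156, 6170), (5157, 6171), (5158, 6172), (5159, 4250), (5160, 4251), (5161, 6177), (5162, 6178), (5163, 4254), (5164, 5750), (5165, 4556), (5166, 4558), (5167, 4559), (5168, 4261), (5169, 4262), (5170, 4263), (5171, 6183), (5172, 4322), (5173, 6184), (5174, 6185), (5175, 4266), (5176, 4689), (5177, 4643), (5178, 4269), (5179, 4560), (5180, 4277), (5181, 4278), (5182,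 4445), (5183, 4461)]
    ⟨e3 q5120 L130661 q4221, e3 q5121 L130673 q4222, e3 q5122 L130688 q4223, e3 q5123 L139683 q6140, e3 q5124 L130708 q4225, e3 q5125 L130712 q4226, e3 q5126 (flp_g L139644) q6136, e3 q5127 L130726 q4883, e3 q5128 (flp_g L139658) q6137, e3 q5129 L139760 q6148, e3 q5130 (flp_g L139671) q6138, e3 q5131 (flp_g L139679) q6139, e3 q5132 (flp_g L130759) q4224, e3 q5133 (flp_g L139794) q6151, e3 q5134 (flp_g L139713) q6142, e3 q5135 (flp_g L130777) q4227, e3 q5136 (flp_g L139816) q6154, e3 q5137 L130799 q4232, e3 q5138 L130807 q4231, e3 q5139 (flp_g L139847) q6157, e3 q5140 (flp_g L139833) q6156, e3 q5141 L130826 q4234, e3 q5142 (flp_g L137547) q5920, e3 q5143 L130840 q5143, e3 q5144 L130852 q4238, e3 q5145 L130865 q4239, e3 q5146 (flp_g L139870) q6160, e3 q5147 L130887 q4242, e3 q5148 L130898 q4554, e3 q5149 L130906 q4244, e3 q5150 (flp_g L139896) q6163, e3 q5151 (flp_g L139904) q6164, e3 q5152 L130928 q4555, e3 q5153 L130942 q4552, e3 q5154 L130953 q4247, e3 q5155 L130963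 q4248, e3 q5156 (flp_g L139956) q6170, e3 q5157 (flp_g L139965) q6171, e3 q5158 (flp_g L139981) q6172, e3 q5159 L130997 q4250, e3 q5160 L131008 q4251, e3 q5161 (flp_g L140023) q6177, e3 q5162 (flp_g L140040) q6178, e3 q5163 L131034 q4254, e3 q5164 (flp_g L136218) q5750, e3 q5165 L131059 q4556, e3 q5166 L131070 q4558, e3 q5167 L131082 q4559, e3 q5168 L131092 q4261, e3 q5169 L131104 q4262, e3 q5170 L131119 q4263, e3 q5171 (flp_g L140097) q6183, e3 q5172 L131135 q4322, e3 q5173 (flp_g L140113) q6184, e3 q5174 (flp_g L140128) q6185, e3 q5175 L131166 q4266, e3 q5176 L131178 q4689, e3 q5177 L131190 q4643, e3 q5178 L131203 q4269, e3 q5179 L131217 q4560, e3 q5180 L131231 q4277, e3 q5181 L131245 q4278, e3 q5182 L131256 q4445, e3 q5183 L131269 q4461, trivial⟩ (by decide +kernel)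

theorem ce_g_81 : ∀ r, r < 64 → sm gg (Qf (5184 + r)) = Qf (tab Gen.g (5184 + r)) :=
  edges_tab (sm gg) Qf (tab Gen.g) 5184 [(5184, 4337), (5185, 4751), (5186, 4752), (5187, 5187), (5188, 5188), (5189, 5189), (5190, 4755), (5191, 5191), (5192, 4290), (5193, 4291), (5194, 6195), (5195, 6196), (5196, 5196), (5197, 5197), (5198, 4298), (5199, 4299), (5200, 4701), (5201, 6201), (5202, 6202), (5203, 5203), (5204, 4305), (5205, 5981), (5206, 6024), (5207, 6032), (5208, 4688), (5209, 4430), (5210, 4308), (5211, 6213), (5212, 6214), (5213, 4311), (5214, 4686), (5215, 4423), (5216, 4687), (5217, 5217), (5218, 5218), (5219, 6187), (5220, 5220), (5221, 5221), (5222, 4442), (5223, 4446), (5224, 4317), (5225, 4318), (5226, 6228), (5227, 4437), (5228, 6229), (5229, 4438), (5230, 6189), (5231, 5231), (5232, 4327), (5233, 4328), (5234, 6236), (5235, 6237), (5236, 6238), (5237, 4459), (5238, 4333), (5239, 4335), (5240, 6000), (5241, 6243), (5242, 4454), (5243, 6244), (5244, 6121), (5245, 5245), (5246,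 4342), (5247, 4343)]
    ⟨e3 q5184 L131282 q4337, e3 q5185 L131294 q4751, e3 q5186 L131307 q4752, e3 q5187 L131315 q5187, e3 q5188 L131327 q5188, e3 q5189 L131340 q5189, e3 q5190 L131352 q4755, e3 q5191 L131364 q5191, e3 q5192 L131373 q4290, e3 q5193 L131388 q4291, e3 q5194 (flp_g L140243) q6195, e3 q5195 (flp_g L140258) q6196, e3 q5196 L131416 q5196, e3 q5197 L131431 q5197, e3 q5198 L131439 q4298, e3 q5199 L131454 q4299, e3 q5200 L131463 q4701, e3 q5201 (flp_g L140315) q6201, e3 q5202 (flp_g L140329) q6202, e3 q5203 L131492 q5203, e3 q5204 L131499 q4305, e3 q5205 (flp_g L138129) q5981, e3 q5206 (flp_g L138594) q6024, e3 q5207 (flp_g L138689) q6032, e3 q5208 L131538 q4688, e3 q5209 L131555 q4430, e3 q5210 L131567 q4308, e3 q5211 (flp_g L140470) q6213, e3 q5212 (flp_g L140486) q6214, e3 q5213 L131602 q4311, e3 q5214 L131612 q4686, e3 q5215 L131626 q4423, e3 q5216 L131640 q4687, e3 q5217 L131650 q5217, e3 q5218 L131661 q5218, e3 q5219 (flp_g L140150) q6187, e3 q5220 L131682 q5220, e3 q5221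 L131691 q5221, e3 q5222 L131702 q4442, e3 q5223 L131717 q4446, e3 q5224 L131725 q4317, e3 q5225 L131739 q4318, e3 q5226 (flp_g L140638) q6228, e3 q5227 L131755 q4437, e3 q5228 (flp_g L140652) q6229, e3 q5229 L131777 q4438, e3 q5230 (flp_g L140174) q6189, e3 q5231 L131797 q5231, e3 q5232 L131804 q4327, e3 q5233 L131815 q4328, e3 q5234 (flp_g L140713) q6236, e3 q5235 (flp_g L140724) q6237, e3 q5236 (flp_g L140732) q6238, e3 q5237 L131853 q4459, e3 q5238 L131859 q4333, e3 q5239 L131873 q4335, e3 q5240 (flp_g L138322) q6000, e3 q5241 (flp_g L140785) q6243, e3 q5242 L131899 q4454, e3 q5243 (flp_g L140793) q6244, e3 q5244 (flp_g L139482) q6121, e3 q5245 L131925 q5245, e3 q5246 L131936 q4342, e3 q5247 L131942 q4343, trivial⟩ (by decide +kernel)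

theorem ce_g_82 : ∀ r, r < 64 → sm gg (Qf (5248 + r)) = Qf (tab Gen.g (5248 + r)) :=
  edges_tab (sm gg) Qf (tab Gen.g) 5248 [(5248, 5980), (5249, 6023), (5250, 6249), (5251, 5982), (5252, 6025), (5253, 4348), (5254, 6255), (5255, 5931), (5256, 4350), (5257, 6259), (5258, 6260), (5259, 5935), (5260, 4353), (5261, 4354), (5262, 6266), (5263, 6267), (5264, 6268), (5265, 4357), (5266, 4358), (5267, 4359), (5268, 6275), (5269, 6276), (5270, 6283), (5271, 6278), (5272, 4709), (5273, 5273), (5274, 6289), (5275, 5275), (5276, 5276), (5277, 4362), (5278, 6293), (5279, 5279), (5280, 5955), (5281, 4367), (5282, 4368), (5283, 6298), (5284, 4737), (5285, 6299), (5286, 5961), (5287, 5962), (5288, 4372), (5289, 4373), (5290, 4374), (5291, 6308), (5292, 6309), (5293, 6310), (5294, 6320), (5295, 6312), (5296, 6313), (5297, 6323), (5298, 4378), (5299, 4377), (5300, 6325), (5301, 4732), (5302, 4381), (5303, 6328), (5304, 5304), (5305, 4386), (5306, 4387), (5307, 4388), (5308, 4836), (5309, 6331), (5310,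 6332), (5311, 5989)]
    ⟨e3 q5248 (flp_g L138116) q5980, e3 q5249 (flp_g L138579) q6023, e3 q5250 (flp_g L140843) q6249, e3 q5251 (flp_g L138143) q5982, e3 q5252 (flp_g L138608) q6025, e3 q5253 (flp_g L131986) q4348, e3 q5254 (flp_g L140905) q6255, e3 q5255 (flp_g L137667) q5931, e3 q5256 L132026 q4350, e3 q5257 (flp_g L140937) q6259, e3 q5258 (flp_g L140951) q6260, e3 q5259 (flp_g L137710) q5935, e3 q5260 L132061 q4353, e3 q5261 L132071 q4354, e3 q5262 (flp_g L141004) q6266, e3 q5263 (flp_g L141012) q6267, e3 q5264 (flp_g L141026) q6268, e3 q5265 L132098 q4357, e3 q5266 L132109 q4358, e3 q5267 L132122 q4359, e3 q5268 (flp_g L141075) q6275, e3 q5269 (flp_g L141087) q6276, e3 q5270 L141150 q6283, e3 q5271 (flp_g L141108) q6278, e3 q5272 L132170 q4709, e3 q5273 L132181 q5273, e3 q5274 L141205 q6289, e3 q5275 L132200 q5275, e3 q5276 L132208 q5276, e3 q5277 (flp_g L132211) q4362, e3 q5278 (flp_g L141251) q6293, e3 q5279 L132236 q5279, e3 q5280 (flp_g L137891) q5955, e3 q5281 L132252 q4367,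 e3 q5282 L132265 q4368, e3 q5283 (flp_g L141297) q6298, e3 q5284 L132280 q4737, e3 q5285 (flp_g L141310) q6299, e3 q5286 (flp_g L137941) q5961, e3 q5287 (flp_g L137952) q5962, e3 q5288 L132311 q4372, e3 q5289 L132319 q4373, e3 q5290 L132331 q4374, e3 q5291 (flp_g L141377) q6308, e3 q5292 (flp_g L141387) q6309, e3 q5293 (flp_g L141400) q6310, e3 q5294 L141467 q6320, e3 q5295 (flp_g L141418) q6312, e3 q5296 (flp_g L141424) q6313, e3 q5297 L141487 q6323, e3 q5298 L132385 q4378, e3 q5299 (flp_g L132389) q4377, e3 q5300 (flp_g L141514) q6325, e3 q5301 L132414 q4732, e3 q5302 L132424 q4381, e3 q5303 (flp_g L141545) q6328, e3 q5304 L132439 q5304, e3 q5305 L132445 q4386, e3 q5306 L132457 q4387, e3 q5307 L132464 q4388, e3 q5308 L132472 q4836, e3 q5309 (flp_g L141572) q6331, e3 q5310 (flp_g L141581) q6332, e3 q5311 (flp_g L138199) q5989, trivial⟩ (by decide +kernel)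

theorem ce_g_83 : ∀ r, r < 64 → sm gg (Qf (5312 + r)) = Qf (tab Gen.g (5312 + r)) :=
  edges_tab (sm gg) Qf (tab Gen.g) 5312 [(5312, 5990), (5313, 4392), (5314, 4394), (5315, 4839), (5316, 4745), (5317, 6337), (5318, 6010), (5319, 4544), (5320, 6338), (5321, 6001), (5322, 6002), (5323, 4401), (5324, 4402), (5325, 5995), (5326, 4404), (5327, 4405), (5328, 4827), (5329, 4842), (5330, 4843), (5331, 5997), (5332, 6347), (5333, 6348), (5334, 4403), (5335, 6358), (5336, 6350), (5337, 4406), (5338, 6361), (5339, 4409), (5340, 6362), (5341, 4525), (5342, 4412), (5343, 5919), (5344, 5344), (5345, 4418), (5346, 4837), (5347, 4853), (5348, 6364), (5349, 4838), (5350, 4421), (5351, 6218), (5352, 6216), (5353, 6220), (5354, 4425), (5355, 4426), (5356, 6372), (5357, 6211), (5358, 6373), (5359, 4429), (5360, 4431), (5361, 6210), (5362, 6380), (5363, 6186), (5364, 6212), (5365, 4652), (5366, 5366), (5367, 6389), (5368, 5368), (5369, 5369), (5370, 4434), (5371, 6393), (5372, 5372), (5373, 6081), (5374,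 6232), (5375, 4443)]
    ⟨e3 q5312 (flp_g L138216) q5990, e3 q5313 L132513 q4392, e3 q5314 L132528 q4394, e3 q5315 L132533 q4839, e3 q5316 L132543 q4745, e3 q5317 (flp_g L141623) q6337, e3 q5318 (flp_g L138445) q6010, e3 q5319 L132570 q4544, e3 q5320 (flp_g L141631) q6338, e3 q5321 (flp_g L138338) q6001, e3 q5322 (flp_g L138353) q6002, e3 q5323 L132597 q4401, e3 q5324 L132610 q4402, e3 q5325 (flp_g L138273) q5995, e3 q5326 L132628 q4404, e3 q5327 L132634 q4405, e3 q5328 L132642 q4827, e3 q5329 L132650 q4842, e3 q5330 L132661 q4843, e3 q5331 (flp_g L138299) q5997, e3 q5332 (flp_g L141713) q6347, e3 q5333 (flp_g L141721) q6348, e3 q5334 (flp_g L132679) q4403, e3 q5335 (flp_g L141804) q6358, e3 q5336 (flp_g L141737) q6350, e3 q5337 (flp_g L132699) q4406, e3 q5338 (flp_g L141834) q6361, e3 q5339 L132726 q4409, e3 q5340 (flp_g L141847) q6362, e3 q5341 L132743 q4525, e3 q5342 L132757 q4412, e3 q5343 (flp_g L137538) q5919, e3 q5344 L132771 q5344, e3 q5345 L132782 q4418, e3 q5346 L132792 q4837,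 e3 q5347 L132801 q4853, e3 q5348 (flp_g L141865) q6364, e3 q5349 L132814 q4838, e3 q5350 (flp_g L132817) q4421, e3 q5351 (flp_g L140528) q6218, e3 q5352 (flp_g L140504) q6216, e3 q5353 (flp_g L140556) q6220, e3 q5354 L132863 q4425, e3 q5355 L132873 q4426, e3 q5356 (flp_g L141925) q6372, e3 q5357 (flp_g L140444) q6211, e3 q5358 (flp_g L141935) q6373, e3 q5359 L132902 q4429, e3 q5360 L132918 q4431, e3 q5361 (flp_g L140434) q6210, e3 q5362 (flp_g L141991) q6380, e3 q5363 (flp_g L140136) q6186, e3 q5364 (flp_g L140460) q6212, e3 q5365 L132960 q4652, e3 q5366 L132969 q5366, e3 q5367 L142068 q6389, e3 q5368 L132988 q5368, e3 q5369 L132994 q5369, e3 q5370 (flp_g L132997) q4434, e3 q5371 (flp_g L142114) q6393, e3 q5372 L133020 q5372, e3 q5373 (flp_g L139084) q6081, e3 q5374 (flp_g L140678) q6232, e3 q5375 L133047 q4443, trivial⟩ (by decide +kernel)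

theorem ce_g_84 : ∀ r, r < 64 → sm gg (Qf (5376 + r)) = Qf (tab Gen.g (5376 + r)) :=
  edges_tab (sm gg) Qf (tab Gen.g) 5376 [(5376, 6047), (5377, 6092), (5378, 6093), (5379, 6126), (5380, 6227), (5381, 6399), (5382, 6190), (5383, 4449), (5384, 6407), (5385, 5385), (5386, 6048), (5387, 6122), (5388, 6248), (5389, 4460), (5390, 5994), (5391, 6134), (5392, 6135), (5393, 6127), (5394, 6242), (5395, 4463), (5396, 6204), (5397, 5397), (5398, 6036), (5399, 4466), (5400, 6416), (5401, 6417), (5402, 6040), (5403, 6041), (5404, 4469), (5405, 4470), (5406, 6423), (5407, 6424), (5408, 6425), (5409, 4473), (5410, 4474), (5411, 4475), (5412, 4857), (5413, 6432), (5414, 6433), (5415, 6444), (5416, 6435), (5417, 6436), (5418, 4479), (5419, 4480), (5420, 6451), (5421, 4482), (5422, 4483), (5423, 6447), (5424, 6457), (5425, 6449), (5426, 6450), (5427, 4481), (5428, 6461), (5429, 6453), (5430, 6465), (5431, 5431), (5432, 5432), (5433, 4485), (5434, 6470), (5435, 5435), (5436, 5436), (5437, 4489), (5438,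 6474), (5439, 5439)]
    ⟨e3 q5376 (flp_g L138824) q6047, e3 q5377 (flp_g L139201) q6092, e3 q5378 (flp_g L139218) q6093, e3 q5379 (flp_g L139539) q6126, e3 q5380 (flp_g L140630) q6227, e3 q5381 (flp_g L142169) q6399, e3 q5382 (flp_g L140185) q6190, e3 q5383 L133113 q4449, e3 q5384 (flp_g L142234) q6407, e3 q5385 L133128 q5385, e3 q5386 (flp_g L138833) q6048, e3 q5387 (flp_g L139496) q6122, e3 q5388 (flp_g L140829) q6248, e3 q5389 L133162 q4460, e3 q5390 (flp_g L138259) q5994, e3 q5391 (flp_g L139624) q6134, e3 q5392 (flp_g L139632) q6135, e3 q5393 (flp_g L139553) q6127, e3 q5394 (flp_g L140771) q6242, e3 q5395 L133202 q4463, e3 q5396 (flp_g L140356) q6204, e3 q5397 L133218 q5397, e3 q5398 (flp_g L138732) q6036, e3 q5399 L133240 q4466, e3 q5400 (flp_g L142315) q6416, e3 q5401 (flp_g L142325) q6417, e3 q5402 (flp_g L138766) q6040, e3 q5403 (flp_g L138778) q6041, e3 q5404 L133275 q4469, e3 q5405 L133285 q4470, e3 q5406 (flp_g L142361) q6423, e3 q5407 (flp_g L142373) q6424, e3 q5408 (flp_g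 L142385) q6425, e3 q5409 L133307 q4473, e3 q5410 L133315 q4474, e3 q5411 L133325 q4475, e3 q5412 L133331 q4857, e3 q5413 (flp_g L142433) q6432, e3 q5414 (flp_g L142441) q6433, e3 q5415 L142509 q6444, e3 q5416 (flp_g L142457) q6435, e3 q5417 (flp_g L142463) q6436, e3 q5418 L133367 q4479, e3 q5419 L133378 q4480, e3 q5420 L142567 q6451, e3 q5421 L133393 q4482, e3 q5422 L133402 q4483, e3 q5423 (flp_g L142533) q6447, e3 q5424 L142613 q6457, e3 q5425 (flp_g L142552) q6449, e3 q5426 (flp_g L142563) q6450, e3 q5427 (flp_g L133440) q4481, e3 q5428 (flp_g L142657) q6461, e3 q5429 (flp_g L142591) q6453, e3 q5430 L142679 q6465, e3 q5431 L133474 q5431, e3 q5432 L133483 q5432, e3 q5433 (flp_g L133484) q4485, e3 q5434 (flp_g L142731) q6470, e3 q5435 L133509 q5435, e3 q5436 L133516 q5436, e3 q5437 L133524 q4489, e3 q5438 (flp_g L142776) q6474, e3 q5439 L133538 q5439, trivial⟩ (by decide +kernel)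

theorem ce_g_85 : ∀ r, r < 64 → sm gg (Qf (5440 + r)) = Qf (tab Gen.g (5440 + r)) :=
  edges_tab (sm gg) Qf (tab Gen.g) 5440 [(5440, 6080), (5441, 6082), (5442, 4496), (5443, 4497), (5444, 4855), (5445, 4872), (5446, 4873), (5447, 6485), (5448, 6327), (5449, 6478), (5450, 6488), (5451, 4504), (5452, 4505), (5453, 4815), (5454, 4858), (5455, 4859), (5456, 6496), (5457, 4875), (5458, 4876), (5459, 4503), (5460, 6499), (5461, 6490), (5462, 4506), (5463, 6502), (5464, 4511), (5465, 4510), (5466, 6504), (5467, 6304), (5468, 4513), (5469, 5909), (5470, 5470), (5471, 4816), (5472, 6008), (5473, 4526), (5474, 4825), (5475, 4840), (5476, 4841), (5477, 6145), (5478, 4884), (5479, 4885), (5480, 4524), (5481, 6514), (5482, 6360), (5483, 4527), (5484, 6516), (5485, 4538), (5486, 4828), (5487, 4829), (5488, 6128), (5489, 4845), (5490, 4846), (5491, 4533), (5492, 6523), (5493, 4888), (5494, 4537), (5495, 6526), (5496, 6344), (5497, 4540), (5498, 6529), (5499, 4543), (5500, 6011), (5501, 6341), (5502,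 4550), (5503, 6530)]
    ⟨e3 q5440 (flp_g L139074) q6080, e3 q5441 (flp_g L139100) q6082, e3 q5442 L133565 q4496, e3 q5443 L133579 q4497, e3 q5444 L133585 q4855, e3 q5445 L133595 q4872, e3 q5446 L133608 q4873, e3 q5447 L142878 q6485, e3 q5448 (flp_g L141531) q6327, e3 q5449 (flp_g L142817) q6478, e3 q5450 L142902 q6488, e3 q5451 L133650 q4504, e3 q5452 L133658 q4505, e3 q5453 L133664 q4815, e3 q5454 L133672 q4858, e3 q5455 L133682 q4859, e3 q5456 L142974 q6496, e3 q5457 L133702 q4875, e3 q5458 L133710 q4876, e3 q5459 (flp_g L133712) q4503, e3 q5460 (flp_g L143010) q6499, e3 q5461 (flp_g L142930) q6490, e3 q5462 (flp_g L133732) q4506, e3 q5463 (flp_g L143033) q6502, e3 q5464 L133760 q4511, e3 q5465 L133772 q4510, e3 q5466 (flp_g L143054) q6504, e3 q5467 (flp_g L141352) q6304, e3 q5468 L133799 q4513, e3 q5469 (flp_g L137413) q5909, e3 q5470 L133815 q5470, e3 q5471 L133830 q4816, e3 q5472 (flp_g L138415) q6008, e3 q5473 L133846 q4526, e3 q5474 L133854 q4825, e3 q5475 L133862 q4840, e3 q5476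 L133873 q4841, e3 q5477 (flp_g L139743) q6145, e3 q5478 L133889 q4884, e3 q5479 L133895 q4885, e3 q5480 (flp_g L133899) q4524, e3 q5481 (flp_g L143144) q6514, e3 q5482 (flp_g L141816) q6360, e3 q5483 (flp_g L133917) q4527, e3 q5484 (flp_g L143160) q6516, e3 q5485 L133939 q4538, e3 q5486 L133945 q4828, e3 q5487 L133955 q4829, e3 q5488 (flp_g L139567) q6128, e3 q5489 L133971 q4845, e3 q5490 L133977 q4846, e3 q5491 (flp_g L133979) q4533, e3 q5492 (flp_g L143214) q6523, e3 q5493 L134001 q4888, e3 q5494 L134007 q4537, e3 q5495 (flp_g L143230) q6526, e3 q5496 (flp_g L141685) q6344, e3 q5497 L134024 q4540, e3 q5498 (flp_g L143251) q6529, e3 q5499 L134043 q4543, e3 q5500 (flp_g L138455) q6011, e3 q5501 (flp_g L141663) q6341, e3 q5502 L134066 q4550, e3 q5503 (flp_g L143258) q6530, trivial⟩ (by decide +kernel)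

theorem ce_g_86 : ∀ r, r < 64 → sm gg (Qf (5504 + r)) = Qf (tab Gen.g (5504 + r)) :=
  edges_tab (sm gg) Qf (tab Gen.g) 5504 [(5504, 6531), (5505, 4553), (5506, 6162), (5507, 6168), (5508, 6169), (5509, 6161), (5510, 6182), (5511, 4562), (5512, 4563), (5513, 4895), (5514, 6537), (5515, 6538), (5516, 4854), (5517, 4896), (5518, 4813), (5519, 4814), (5520, 4856), (5521, 4826), (5522, 4817), (5523, 4860), (5524, 4861), (5525, 4897), (5526, 6557), (5527, 4899), (5528, 4900), (5529, 4576), (5530, 6561), (5531, 4903), (5532, 4584), (5533, 6567), (5534, 4586), (5535, 4587), (5536, 4581), (5537, 6571), (5538, 4590), (5539, 6575), (5540, 6565), (5541, 6566), (5542, 4585), (5543, 6580), (5544, 6569), (5545, 6570), (5546, 4589), (5547, 6584), (5548, 6573), (5549, 5727), (5550, 4591), (5551, 5725), (5552, 6588), (5553, 5553), (5554, 5554), (5555, 4595), (5556, 6593), (5557, 5557), (5558, 5558), (5559, 4599), (5560, 5892), (5561, 5561), (5562, 4818), (5563, 4819), (5564, 6598), (5565, 4863), (5566,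 4864), (5567, 4604)]
    ⟨e3 q5504 (flp_g L143269) q6531, e3 q5505 L134093 q4553, e3 q5506 (flp_g L139891) q6162, e3 q5507 (flp_g L139934) q6168, e3 q5508 (flp_g L139947) q6169, e3 q5509 (flp_g L139879) q6161, e3 q5510 (flp_g L140087) q6182, e3 q5511 L134144 q4562, e3 q5512 L134155 q4563, e3 q5513 L134160 q4895, e3 q5514 (flp_g L143319) q6537, e3 q5515 (flp_g L143330) q6538, e3 q5516 L134179 q4854, e3 q5517 L134191 q4896, e3 q5518 L134200 q4813, e3 q5519 L134206 q4814, e3 q5520 L134217 q4856, e3 q5521 L134225 q4826, e3 q5522 L134234 q4817, e3 q5523 L134244 q4860, e3 q5524 L134256 q4861, e3 q5525 L134261 q4897, e3 q5526 L143484 q6557, e3 q5527 L134279 q4899, e3 q5528 L134287 q4900, e3 q5529 (flp_g L134290) q4576, e3 q5530 (flp_g L143529) q6561, e3 q5531 L134318 q4903, e3 q5532 L134324 q4584, e3 q5533 L143580 q6567, e3 q5534 L134345 q4586, e3 q5535 L134353 q4587, e3 q5536 (flp_g L134357) q4581, e3 q5537 (flp_g L143630) q6571, e3 q5538 L134386 q4590, e3 q5539 L143659 q6575, e3 q5540 (flp_g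 L143565) q6565, e3 q5541 (flp_g L143578) q6566, e3 q5542 (flp_g L134405) q4585, e3 q5543 (flp_g L143699) q6580, e3 q5544 (flp_g L143605) q6569, e3 q5545 (flp_g L143613) q6570, e3 q5546 L134447 q4589, e3 q5547 (flp_g L143730) q6584, e3 q5548 (flp_g L143647) q6573, e3 q5549 (flp_g L136025) q5727, e3 q5550 (flp_g L134472) q4591, e3 q5551 L136003 q5725, e3 q5552 (flp_g L143762) q6588, e3 q5553 L134501 q5553, e3 q5554 L134506 q5554, e3 q5555 L134513 q4595, e3 q5556 (flp_g L143809) q6593, e3 q5557 L134527 q5557, e3 q5558 L134534 q5558, e3 q5559 L134543 q4599, e3 q5560 (flp_g L137237) q5892, e3 q5561 L134561 q5561, e3 q5562 L134571 q4818, e3 q5563 L134583 q4819, e3 q5564 L143852 q6598, e3 q5565 L134597 q4863, e3 q5566 L134604 q4864, e3 q5567 (flp_g L134607) q4604, trivial⟩ (by decide +kernel)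

theorem ce_g_87 : ∀ r, r < 64 → sm gg (Qf (5568 + r)) = Qf (tab Gen.g (5568 + r)) :=
  edges_tab (sm gg) Qf (tab Gen.g) 5568 [(5568, 6601), (5569, 4879), (5570, 4608), (5571, 6604), (5572, 4916), (5573, 4611), (5574, 6607), (5575, 4615), (5576, 4614), (5577, 5902), (5578, 6609), (5579, 5579), (5580, 6611), (5581, 4831), (5582, 4832), (5583, 4622), (5584, 6614), (5585, 4849), (5586, 4626), (5587, 6617), (5588, 4891), (5589, 4629), (5590, 5913), (5591, 4922), (5592, 4632), (5593, 5912), (5594, 4636), (5595, 5595), (5596, 5596), (5597, 6180), (5598, 5598), (5599, 5599), (5600, 5600), (5601, 5601), (5602, 4649), (5603, 6621), (5604, 6384), (5605, 4717), (5606, 4720), (5607, 4716), (5608, 6629), (5609, 4657), (5610, 6632), (5611, 6630), (5612, 6636), (5613, 4710), (5614, 4707), (5615, 4659), (5616, 6640), (5617, 4708), (5618, 6643), (5619, 5619), (5620, 5620), (5621, 4663), (5622, 6646), (5623, 5623), (5624, 5624), (5625, 4667), (5626, 6648), (5627, 5627), (5628, 6650), (5629, 4670), (5630,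 4671), (5631, 4673)]
    ⟨e3 q5568 (flp_g L143885) q6601, e3 q5569 L134634 q4879, e3 q5570 L134646 q4608, e3 q5571 (flp_g L143911) q6604, e3 q5572 L134660 q4916, e3 q5573 L134675 q4611, e3 q5574 (flp_g L143940) q6607, e3 q5575 L134690 q4615, e3 q5576 L134703 q4614, e3 q5577 (flp_g L137336) q5902, e3 q5578 (flp_g L143959) q6609, e3 q5579 L134727 q5579, e3 q5580 L143970 q6611, e3 q5581 L134747 q4831, e3 q5582 L134755 q4832, e3 q5583 (flp_g L134758) q4622, e3 q5584 (flp_g L144005) q6614, e3 q5585 L134782 q4849, e3 q5586 L134792 q4626, e3 q5587 (flp_g L144030) q6617, e3 q5588 L134804 q4891, e3 q5589 L134813 q4629, e3 q5590 (flp_g L137460) q5913, e3 q5591 L134827 q4922, e3 q5592 L134838 q4632, e3 q5593 (flp_g L137447) q5912, e3 q5594 L134854 q4636, e3 q5595 L134867 q5595, e3 q5596 L134874 q5596, e3 q5597 (flp_g L140065) q6180, e3 q5598 L134893 q5598, e3 q5599 L134904 q5599, e3 q5600 L134913 q5600, e3 q5601 L134918 q5601, e3 q5602 L134931 q4649, e3 q5603 (flp_g L144059) q6621, e3 q5604 (flp_g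 L142025) q6384, e3 q5605 L134953 q4717, e3 q5606 L134965 q4720, e3 q5607 L134977 q4716, e3 q5608 L144135 q6629, e3 q5609 L134999 q4657, e3 q5610 L144170 q6632, e3 q5611 (flp_g L144153) q6630, e3 q5612 L144208 q6636, e3 q5613 L135038 q4710, e3 q5614 L135049 q4707, e3 q5615 (flp_g L135051) q4659, e3 q5616 (flp_g L144263) q6640, e3 q5617 L135079 q4708, e3 q5618 L144282 q6643, e3 q5619 L135096 q5619, e3 q5620 L135106 q5620, e3 q5621 (flp_g L135107) q4663, e3 q5622 (flp_g L144323) q6646, e3 q5623 L135133 q5623, e3 q5624 L135139 q5624, e3 q5625 L135149 q4667, e3 q5626 (flp_g L144341) q6648, e3 q5627 L135165 q5627, e3 q5628 L144352 q6650, e3 q5629 (flp_g L135176) q4670, e3 q5630 (flp_g L135189) q4671, e3 q5631 L135212 q4673, trivial⟩ (by decide +kernel)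

theorem ce_g_88 : ∀ r, r < 64 → sm gg (Qf (5632 + r)) = Qf (tab Gen.g (5632 + r)) :=
  edges_tab (sm gg) Qf (tab Gen.g) 5632 [(5632, 6651), (5633, 4676), (5634, 5918), (5635, 5635), (5636, 4678), (5637, 4682), (5638, 4974), (5639, 6219), (5640, 4965), (5641, 6179), (5642, 6657), (5643, 5643), (5644, 5644), (5645, 4691), (5646, 6660), (5647, 5647), (5648, 5648), (5649, 4695), (5650, 6662), (5651, 5651), (5652, 4698), (5653, 6203), (5654, 5654), (5655, 4704), (5656, 4705), (5657, 6639), (5658, 6664), (5659, 6665), (5660, 6638), (5661, 6282), (5662, 6674), (5663, 6285), (5664, 6635), (5665, 6678), (5666, 4711), (5667, 4714), (5668, 6681), (5669, 4713), (5670, 6683), (5671, 6680), (5672, 6627), (5673, 4715), (5674, 6688), (5675, 6625), (5676, 6622), (5677, 4719), (5678, 6692), (5679, 6262), (5680, 5682), (5681, 4721), (5682, 5680), (5683, 6696), (5684, 5684), (5685, 5685), (5686, 4725), (5687, 6699), (5688, 5688), (5689, 5689), (5690, 4729), (5691, 5908), (5692, 5692), (5693, 4731), (5694,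 6702), (5695, 4736)]
    ⟨e3 q5632 (flp_g L144372) q6651, e3 q5633 L135229 q4676, e3 q5634 (flp_g L137524) q5918, e3 q5635 L135242 q5635, e3 q5636 (flp_g L135245) q4678, e3 q5637 L135265 q4682, e3 q5638 L135274 q4974, e3 q5639 (flp_g L140544) q6219, e3 q5640 L135293 q4965, e3 q5641 (flp_g L140052) q6179, e3 q5642 L144426 q6657, e3 q5643 L135318 q5643, e3 q5644 L135326 q5644, e3 q5645 (flp_g L135327) q4691, e3 q5646 (flp_g L144467) q6660, e3 q5647 L135347 q5647, e3 q5648 L135357 q5648, e3 q5649 L135369 q4695, e3 q5650 (flp_g L144483) q6662, e3 q5651 L135381 q5651, e3 q5652 L135393 q4698, e3 q5653 (flp_g L140342) q6203, e3 q5654 L135408 q5654, e3 q5655 L135417 q4704, e3 q5656 L135426 q4705, e3 q5657 (flp_g L144246) q6639, e3 q5658 (flp_g L144498) q6664, e3 q5659 (flp_g L144509) q6665, e3 q5660 (flp_g L144237) q6638, e3 q5661 (flp_g L141146) q6282, e3 q5662 L144561 q6674, e3 q5663 (flp_g L141178) q6285, e3 q5664 (flp_g L144206) q6635, e3 q5665 L144588 q6678, e3 q5666 (flp_g L135485) q4711,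 e3 q5667 L135496 q4714, e3 q5668 L144607 q6681, e3 q5669 (flp_g L135506) q4713, e3 q5670 L144627 q6683, e3 q5671 (flp_g L144605) q6680, e3 q5672 (flp_g L144117) q6627, e3 q5673 (flp_g L135531) q4715, e3 q5674 (flp_g L144673) q6688, e3 q5675 (flp_g L144098) q6625, e3 q5676 (flp_g L144069) q6622, e3 q5677 L135570 q4719, e3 q5678 (flp_g L144702) q6692, e3 q5679 (flp_g L140967) q6262, e3 q5680 (flp_g L135609) q5682, e3 q5681 (flp_g L135590) q4721, e3 q5682 L135609 q5680, e3 q5683 (flp_g L144728) q6696, e3 q5684 L135628 q5684, e3 q5685 L135639 q5685, e3 q5686 L135651 q4725, e3 q5687 (flp_g L144765) q6699, e3 q5688 L135667 q5688, e3 q5689 L135682 q5689, e3 q5690 L135693 q4729, e3 q5691 (flp_g L137399) q5908, e3 q5692 L135708 q5692, e3 q5693 (flp_g L135714) q4731, e3 q5694 (flp_g L144802) q6702, e3 q5695 L135738 q4736, trivial⟩ (by decide +kernel)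

theorem ce_g_89 : ∀ r, r < 64 → sm gg (Qf (5696 + r)) = Qf (tab Gen.g (5696 + r)) :=
  edges_tab (sm gg) Qf (tab Gen.g) 5696 [(5696, 5967), (5697, 6301), (5698, 5698), (5699, 4742), (5700, 4747), (5701, 4748), (5702, 4928), (5703, 6704), (5704, 6705), (5705, 4929), (5706, 6191), (5707, 5707), (5708, 5708), (5709, 4761), (5710, 4762), (5711, 6711), (5712, 6709), (5713, 6710), (5714, 5714), (5715, 6715), (5716, 4774), (5717, 4775), (5718, 4767), (5719, 6720), (5720, 4778), (5721, 4779), (5722, 4771), (5723, 6724), (5724, 4782), (5725, 5551), (5726, 4773), (5727, 5549), (5728, 6728), (5729, 6718), (5730, 6719), (5731, 4777), (5732, 6733), (5733, 6722), (5734, 6723), (5735, 4781), (5736, 5893), (5737, 6726), (5738, 5740), (5739, 4786), (5740, 5738), (5741, 6738), (5742, 5742), (5743, 4790), (5744, 6740), (5745, 4797), (5746, 5901), (5747, 4801), (5748, 6741), (5749, 4809), (5750, 5164), (5751, 6545), (5752, 6479), (5753, 6547), (5754, 6437), (5755, 6491), (5756, 6492), (5757, 6548), (5758,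 6549), (5759, 6757)]
    ⟨e3 q5696 (flp_g L137998) q5967, e3 q5697 (flp_g L141323) q6301, e3 q5698 L135760 q5698, e3 q5699 L135770 q4742, e3 q5700 L135779 q4747, e3 q5701 L135789 q4748, e3 q5702 L135797 q4928, e3 q5703 (flp_g L144815) q6704, e3 q5704 (flp_g L144829) q6705, e3 q5705 L135824 q4929, e3 q5706 (flp_g L140197) q6191, e3 q5707 L135852 q5707, e3 q5708 L135865 q5708, e3 q5709 L135870 q4761, e3 q5710 L135881 q4762, e3 q5711 L144880 q6711, e3 q5712 (flp_g L144869) q6709, e3 q5713 (flp_g L144877) q6710, e3 q5714 L135912 q5714, e3 q5715 L144910 q6715, e3 q5716 L135924 q4774, e3 q5717 L135933 q4775, e3 q5718 (flp_g L135935) q4767, e3 q5719 (flp_g L144962) q6720, e3 q5720 L135958 q4778, e3 q5721 L135964 q4779, e3 q5722 L135977 q4771, e3 q5723 (flp_g L144994) q6724, e3 q5724 L135992 q4782, e3 q5725 (flp_g L136003) q5551, e3 q5726 (flp_g L136007) q4773, e3 q5727 L136025 q5549, e3 q5728 (flp_g L145030) q6728, e3 q5729 (flp_g L144945) q6718, e3 q5730 (flp_g L144952) q6719, e3 q5731 L136052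 q4777, e3 q5732 (flp_g L145067) q6733, e3 q5733 (flp_g L144975) q6722, e3 q5734 (flp_g L144981) q6723, e3 q5735 L136080 q4781, e3 q5736 (flp_g L137245) q5893, e3 q5737 (flp_g L145008) q6726, e3 q5738 (flp_g L136128) q5740, e3 q5739 L136117 q4786, e3 q5740 L136128 q5738, e3 q5741 (flp_g L145106) q6738, e3 q5742 L136147 q5742, e3 q5743 L136158 q4790, e3 q5744 (flp_g L145133) q6740, e3 q5745 L136178 q4797, e3 q5746 (flp_g L137324) q5901, e3 q5747 L136192 q4801, e3 q5748 (flp_g L145144) q6741, e3 q5749 L136204 q4809, e3 q5750 L136218 q5164, e3 q5751 (flp_g L143379) q6545, e3 q5752 (flp_g L142825) q6479, e3 q5753 (flp_g L143400) q6547, e3 q5754 (flp_g L142471) q6437, e3 q5755 (flp_g L142938) q6491, e3 q5756 (flp_g L142950) q6492, e3 q5757 (flp_g L143409) q6548, e3 q5758 (flp_g L143422) q6549, e3 q5759 L145265 q6757, trivial⟩ (by decide +kernel)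

theorem ce_g_90 : ∀ r, r < 64 → sm gg (Qf (5760 + r)) = Qf (tab Gen.g (5760 + r)) :=
  edges_tab (sm gg) Qf (tab Gen.g) 5760 [(5760, 6596), (5761, 6597), (5762, 5762), (5763, 6763), (5764, 5764), (5765, 5765), (5766, 4822), (5767, 6767), (5768, 5768), (5769, 6339), (5770, 6508), (5771, 6509), (5772, 6314), (5773, 6351), (5774, 6352), (5775, 6087), (5776, 6519), (5777, 6520), (5778, 4830), (5779, 6780), (5780, 6613), (5781, 4834), (5782, 6783), (5783, 5783), (5784, 6333), (5785, 6365), (5786, 6340), (5787, 6510), (5788, 6511), (5789, 6353), (5790, 6354), (5791, 6129), (5792, 6522), (5793, 4848), (5794, 6794), (5795, 6616), (5796, 4851), (5797, 6205), (5798, 5798), (5799, 6366), (5800, 6539), (5801, 6546), (5802, 6426), (5803, 6480), (5804, 6481), (5805, 6438), (5806, 6439), (5807, 6810), (5808, 6494), (5809, 6495), (5810, 6550), (5811, 6816), (5812, 6552), (5813, 6553), (5814, 4862), (5815, 6820), (5816, 6600), (5817, 6824), (5818, 5818), (5819, 5819), (5820, 4866), (5821, 6829), (5822,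 5822), (5823, 5823)]
    ⟨e3 q5760 (flp_g L143840) q6596, e3 q5761 (flp_g L143849) q6597, e3 q5762 L136319 q5762, e3 q5763 L145327 q6763, e3 q5764 L136339 q5764, e3 q5765 L136347 q5765, e3 q5766 (flp_g L136349) q4822, e3 q5767 (flp_g L145376) q6767, e3 q5768 L136373 q5768, e3 q5769 (flp_g L141642) q6339, e3 q5770 (flp_g L143093) q6508, e3 q5771 (flp_g L143104) q6509, e3 q5772 (flp_g L141430) q6314, e3 q5773 (flp_g L141749) q6351, e3 q5774 (flp_g L141760) q6352, e3 q5775 (flp_g L139153) q6087, e3 q5776 (flp_g L143182) q6519, e3 q5777 (flp_g L143188) q6520, e3 q5778 (flp_g L136432) q4830, e3 q5779 (flp_g L145471) q6780, e3 q5780 (flp_g L143994) q6613, e3 q5781 L136463 q4834, e3 q5782 (flp_g L145494) q6783, e3 q5783 L136477 q5783, e3 q5784 (flp_g L141593) q6333, e3 q5785 (flp_g L141875) q6365, e3 q5786 (flp_g L141653) q6340, e3 q5787 (flp_g L143113) q6510, e3 q5788 (flp_g L143119) q6511, e3 q5789 (flp_g L141771) q6353, e3 q5790 (flp_g L141779) q6354, e3 q5791 (flp_g L139579) q6129, e3 q5792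 (flp_g L143204) q6522, e3 q5793 L136544 q4848, e3 q5794 (flp_g L145571) q6794, e3 q5795 (flp_g L144020) q6616, e3 q5796 L136567 q4851, e3 q5797 (flp_g L140369) q6205, e3 q5798 L136579 q5798, e3 q5799 (flp_g L141882) q6366, e3 q5800 (flp_g L143336) q6539, e3 q5801 (flp_g L143391) q6546, e3 q5802 (flp_g L142389) q6426, e3 q5803 (flp_g L142835) q6480, e3 q5804 (flp_g L142846) q6481, e3 q5805 (flp_g L142479) q6438, e3 q5806 (flp_g L142489) q6439, e3 q5807 L145658 q6810, e3 q5808 (flp_g L142966) q6494, e3 q5809 (flp_g L142972) q6495, e3 q5810 (flp_g L143428) q6550, e3 q5811 L145699 q6816, e3 q5812 (flp_g L143448) q6552, e3 q5813 (flp_g L143457) q6553, e3 q5814 (flp_g L136675) q4862, e3 q5815 (flp_g L145742) q6820, e3 q5816 (flp_g L143873) q6600, e3 q5817 L145764 q6824, e3 q5818 L136709 q5818, e3 q5819 L136719 q5819, e3 q5820 (flp_g L136720) q4866, e3 q5821 (flp_g L145822) q6829, e3 q5822 L136744 q5822, e3 q5823 L136750 q5823, trivial⟩ (by decide +kernel)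

theorem ce_g_91 : ∀ r, r < 64 → sm gg (Qf (5824 + r)) = Qf (tab Gen.g (5824 + r)) :=
  edges_tab (sm gg) Qf (tab Gen.g) 5824 [(5824, 4870), (5825, 6833), (5826, 5826), (5827, 6143), (5828, 6483), (5829, 6484), (5830, 4874), (5831, 6838), (5832, 6498), (5833, 4878), (5834, 6841), (5835, 6603), (5836, 4881), (5837, 6844), (5838, 5838), (5839, 6146), (5840, 6513), (5841, 4887), (5842, 6850), (5843, 6525), (5844, 4890), (5845, 6853), (5846, 6619), (5847, 4893), (5848, 6208), (5849, 6251), (5850, 5850), (5851, 6540), (5852, 6541), (5853, 6862), (5854, 6555), (5855, 6556), (5856, 4898), (5857, 6867), (5858, 6559), (5859, 6560), (5860, 4902), (5861, 6871), (5862, 6563), (5863, 6716), (5864, 4904), (5865, 6714), (5866, 6875), (5867, 5867), (5868, 5868), (5869, 4908), (5870, 6880), (5871, 5871), (5872, 5872), (5873, 4912), (5874, 6884), (5875, 5875), (5876, 4915), (5877, 6888), (5878, 6606), (5879, 4918), (5880, 6892), (5881, 6893), (5882, 5882), (5883, 4921), (5884, 6018), (5885, 5915), (5886,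 6155), (5887, 4924)]
    ⟨e3 q5824 L136759 q4870, e3 q5825 (flp_g L145866) q6833, e3 q5826 L136772 q5826, e3 q5827 (flp_g L139719) q6143, e3 q5828 (flp_g L142866) q6483, e3 q5829 (flp_g L142874) q6484, e3 q5830 (flp_g L136794) q4874, e3 q5831 (flp_g L145911) q6838, e3 q5832 (flp_g L143002) q6498, e3 q5833 L136822 q4878, e3 q5834 (flp_g L145933) q6841, e3 q5835 (flp_g L143901) q6603, e3 q5836 L136847 q4881, e3 q5837 (flp_g L145955) q6844, e3 q5838 L136861 q5838, e3 q5839 (flp_g L139752) q6146, e3 q5840 (flp_g L143136) q6513, e3 q5841 L136880 q4887, e3 q5842 (flp_g L145999) q6850, e3 q5843 (flp_g L143224) q6525, e3 q5844 L136896 q4890, e3 q5845 (flp_g L146013) q6853, e3 q5846 (flp_g L144040) q6619, e3 q5847 L136912 q4893, e3 q5848 (flp_g L140406) q6208, e3 q5849 (flp_g L140864) q6251, e3 q5850 L136929 q5850, e3 q5851 (flp_g L143345) q6540, e3 q5852 (flp_g L143357) q6541, e3 q5853 L146077 q6862, e3 q5854 (flp_g L143472) q6555, e3 q5855 (flp_g L143482) q6556, e3 q5856 (flp_g L136960) q4898,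 e3 q5857 (flp_g L146113) q6867, e3 q5858 (flp_g L143508) q6559, e3 q5859 (flp_g L143515) q6560, e3 q5860 L137001 q4902, e3 q5861 (flp_g L146143) q6871, e3 q5862 (flp_g L143545) q6563, e3 q5863 (flp_g L144930) q6716, e3 q5864 (flp_g L137026) q4904, e3 q5865 L144906 q6714, e3 q5866 (flp_g L146174) q6875, e3 q5867 L137055 q5867, e3 q5868 L137062 q5868, e3 q5869 L137069 q4908, e3 q5870 (flp_g L146222) q6880, e3 q5871 L137082 q5871, e3 q5872 L137088 q5872, e3 q5873 L137098 q4912, e3 q5874 (flp_g L146263) q6884, e3 q5875 L137114 q5875, e3 q5876 L137123 q4915, e3 q5877 (flp_g L146298) q6888, e3 q5878 (flp_g L143928) q6606, e3 q5879 L137144 q4918, e3 q5880 (flp_g L146325) q6892, e3 q5881 (flp_g L146333) q6893, e3 q5882 L137166 q5882, e3 q5883 L137172 q4921, e3 q5884 (flp_g L138530) q6018, e3 q5885 (flp_g L137487) q5915, e3 q5886 (flp_g L139828) q6155, e3 q5887 L137195 q4924, trivial⟩ (by decide +kernel)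

theorem ce_g_92 : ∀ r, r < 64 → sm gg (Qf (5888 + r)) = Qf (tab Gen.g (5888 + r)) :=
  edges_tab (sm gg) Qf (tab Gen.g) 5888 [(5888, 4925), (5889, 6209), (5890, 6898), (5891, 5891), (5892, 5560), (5893, 5736), (5894, 6706), (5895, 5895), (5896, 5896), (5897, 6904), (5898, 5898), (5899, 5899), (5900, 4937), (5901, 5746), (5902, 5577), (5903, 6906), (5904, 4938), (5905, 6909), (5906, 5906), (5907, 4944), (5908, 5691), (5909, 5469), (5910, 6911), (5911, 4948), (5912, 5593), (5913, 5590), (5914, 4950), (5915, 5885), (5916, 5916), (5917, 4955), (5918, 5634), (5919, 5343), (5920, 5142), (5921, 5921), (5922, 5922), (5923, 5923), (5924, 4962), (5925, 4963), (5926, 4964), (5927, 6917), (5928, 6918), (5929, 6899), (5930, 6655), (5931, 5255), (5932, 4967), (5933, 6923), (5934, 6924), (5935, 5259), (5936, 4970), (5937, 4971), (5938, 6930), (5939, 6931), (5940, 6932), (5941, 4975), (5942, 4976), (5943, 6652), (5944, 6653), (5945, 6945), (5946, 6939), (5947, 6940), (5948, 5948), (5949, 6949), (5950,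 5950), (5951, 5951)]
    ⟨e3 q5888 L137202 q4925, e3 q5889 (flp_g L140418) q6209, e3 q5890 (flp_g L146393) q6898, e3 q5891 L137224 q5891, e3 q5892 L137237 q5560, e3 q5893 L137245 q5736, e3 q5894 (flp_g L144843) q6706, e3 q5895 L137266 q5895, e3 q5896 L137275 q5896, e3 q5897 L146454 q6904, e3 q5898 L137291 q5898, e3 q5899 L137297 q5899, e3 q5900 L137311 q4937, e3 q5901 L137324 q5746, e3 q5902 L137336 q5577, e3 q5903 (flp_g L146481) q6906, e3 q5904 (flp_g L137348) q4938, e3 q5905 (flp_g L146526) q6909, e3 q5906 L137376 q5906, e3 q5907 L137390 q4944, e3 q5908 L137399 q5691, e3 q5909 L137413 q5469, e3 q5910 (flp_g L146555) q6911, e3 q5911 L137432 q4948, e3 q5912 L137447 q5593, e3 q5913 L137460 q5590, e3 q5914 L137474 q4950, e3 q5915 L137487 q5885, e3 q5916 L137497 q5916, e3 q5917 L137511 q4955, e3 q5918 L137524 q5634, e3 q5919 L137538 q5343, e3 q5920 L137547 q5142, e3 q5921 L137563 q5921, e3 q5922 L137577 q5922, e3 q5923 L137588 q5923, e3 q5924 L137600 q4962, e3 q5925 L137614 q4963, e3 q5926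 L137622 q4964, e3 q5927 (flp_g L146634) q6917, e3 q5928 (flp_g L146646) q6918, e3 q5929 (flp_g L146408) q6899, e3 q5930 (flp_g L144419) q6655, e3 q5931 L137667 q5255, e3 q5932 L137678 q4967, e3 q5933 (flp_g L146698) q6923, e3 q5934 (flp_g L146709) q6924, e3 q5935 L137710 q5259, e3 q5936 L137718 q4970, e3 q5937 L137728 q4971, e3 q5938 (flp_g L146767) q6930, e3 q5939 (flp_g L146775) q6931, e3 q5940 (flp_g L146789) q6932, e3 q5941 L137762 q4975, e3 q5942 L137776 q4976, e3 q5943 (flp_g L144382) q6652, e3 q5944 (flp_g L144396) q6653, e3 q5945 L146895 q6945, e3 q5946 (flp_g L146851) q6939, e3 q5947 (flp_g L146860) q6940, e3 q5948 L137825 q5948, e3 q5949 L146933 q6949, e3 q5950 L137843 q5950, e3 q5951 L137850 q5951, trivial⟩ (by decide +kernel)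

theorem ce_g_93 : ∀ r, r < 64 → sm gg (Qf (5952 + r)) = Qf (tab Gen.g (5952 + r)) :=
  edges_tab (sm gg) Qf (tab Gen.g) 5952 [(5952, 4979), (5953, 6951), (5954, 5954), (5955, 5280), (5956, 4984), (5957, 4985), (5958, 6955), (5959, 6956), (5960, 6957), (5961, 5286), (5962, 5287), (5963, 4989), (5964, 4990), (5965, 4991), (5966, 6967), (5967, 5696), (5968, 6968), (5969, 6977), (5970, 6969), (5971, 6970), (5972, 4995), (5973, 4996), (5974, 4994), (5975, 6981), (5976, 6980), (5977, 4998), (5978, 6984), (5979, 5979), (5980, 5248), (5981, 5205), (5982, 5251), (5983, 5004), (5984, 5005), (5985, 5006), (5986, 6990), (5987, 6991), (5988, 6992), (5989, 5311), (5990, 5312), (5991, 5010), (5992, 5011), (5993, 5012), (5994, 5390), (5995, 5325), (5996, 6997), (5997, 5331), (5998, 6998), (5999, 6999), (6000, 5240), (6001, 5321), (6002, 5322), (6003, 5018), (6004, 5020), (6005, 5022), (6006, 5023), (6007, 7009), (6008, 5472), (6009, 7010), (6010, 5318), (6011, 5500), (6012, 7011), (6013, 5021), (6014,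 7020), (6015, 7012)]
    ⟨e3 q5952 (flp_g L137852) q4979, e3 q5953 (flp_g L146958) q6951, e3 q5954 L137880 q5954, e3 q5955 L137891 q5280, e3 q5956 L137897 q4984, e3 q5957 L137907 q4985, e3 q5958 (flp_g L147002) q6955, e3 q5959 (flp_g L147015) q6956, e3 q5960 (flp_g L147028) q6957, e3 q5961 L137941 q5286, e3 q5962 L137952 q5287, e3 q5963 L137960 q4989, e3 q5964 L137972 q4990, e3 q5965 L137984 q4991, e3 q5966 (flp_g L147133) q6967, e3 q5967 L137998 q5696, e3 q5968 (flp_g L147145) q6968, e3 q5969 L147227 q6977, e3 q5970 (flp_g L147159) q6969, e3 q5971 (flp_g L147165) q6970, e3 q5972 L138046 q4995, e3 q5973 L138053 q4996, e3 q5974 (flp_g L138058) q4994, e3 q5975 (flp_g L147280) q6981, e3 q5976 (flp_g L147267) q6980, e3 q5977 L138091 q4998, e3 q5978 (flp_g L147313) q6984, e3 q5979 L138104 q5979, e3 q5980 L138116 q5248, e3 q5981 L138129 q5205, e3 q5982 L138143 q5251, e3 q5983 L138149 q5004, e3 q5984 L138160 q5005, e3 q5985 L138166 q5006, e3 q5986 (flp_g L147390) q6990, e3 q5987 (flp_g L147401)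 q6991, e3 q5988 (flp_g L147413) q6992, e3 q5989 L138199 q5311, e3 q5990 L138216 q5312, e3 q5991 L138224 q5010, e3 q5992 L138239 q5011, e3 q5993 L138252 q5012, e3 q5994 L138259 q5390, e3 q5995 L138273 q5325, e3 q5996 (flp_g L147465) q6997, e3 q5997 L138299 q5331, e3 q5998 (flp_g L147478) q6998, e3 q5999 (flp_g L147484) q6999, e3 q6000 L138322 q5240, e3 q6001 L138338 q5321, e3 q6002 L138353 q5322, e3 q6003 L138363 q5018, e3 q6004 L138377 q5020, e3 q6005 L138391 q5022, e3 q6006 L138397 q5023, e3 q6007 (flp_g L147606) q7009, e3 q6008 L138415 q5472, e3 q6009 (flp_g L147622) q7010, e3 q6010 L138445 q5318, e3 q6011 L138455 q5500, e3 q6012 (flp_g L147630) q7011, e3 q6013 (flp_g L138463) q5021, e3 q6014 (flp_g L147734) q7020, e3 q6015 (flp_g L147642) q7012, trivial⟩ (by decide +kernel)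

theorem ce_g_94 : ∀ r, r < 64 → sm gg (Qf (6016 + r)) = Qf (tab Gen.g (6016 + r)) :=
  edges_tab (sm gg) Qf (tab Gen.g) 6016 [(6016, 5028), (6017, 5027), (6018, 5884), (6019, 7023), (6020, 5030), (6021, 6916), (6022, 6022), (6023, 5249), (6024, 5206), (6025, 5252), (6026, 5038), (6027, 5039), (6028, 5040), (6029, 7027), (6030, 7026), (6031, 7028), (6032, 5207), (6033, 5046), (6034, 5047), (6035, 7032), (6036, 5398), (6037, 5049), (6038, 7035), (6039, 7036), (6040, 5402), (6041, 5403), (6042, 5052), (6043, 5053), (6044, 7043), (6045, 7044), (6046, 7045), (6047, 5376), (6048, 5386), (6049, 5057), (6050, 5058), (6051, 5059), (6052, 7055), (6053, 7056), (6054, 7057), (6055, 7068), (6056, 7059), (6057, 7060), (6058, 5063), (6059, 5064), (6060, 7075), (6061, 5066), (6062, 5067), (6063, 7071), (6064, 7081), (6065, 7073), (6066, 7074), (6067, 5065), (6068, 7085), (6069, 7077), (6070, 7089), (6071, 6071), (6072, 6072), (6073, 5069), (6074, 7092), (6075, 6075), (6076, 6076), (6077, 5073), (6078,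 7094), (6079, 6079)]
    ⟨e3 q6016 L138503 q5028, e3 q6017 L138516 q5027, e3 q6018 L138530 q5884, e3 q6019 (flp_g L147758) q7023, e3 q6020 L138549 q5030, e3 q6021 (flp_g L146618) q6916, e3 q6022 L138565 q6022, e3 q6023 L138579 q5249, e3 q6024 L138594 q5206, e3 q6025 L138608 q5252, e3 q6026 L138627 q5038, e3 q6027 L138640 q5039, e3 q6028 L138650 q5040, e3 q6029 (flp_g L147810) q7027, e3 q6030 (flp_g L147793) q7026, e3 q6031 (flp_g L147816) q7028, e3 q6032 L138689 q5207, e3 q6033 L138704 q5046, e3 q6034 L138712 q5047, e3 q6035 (flp_g L147864) q7032, e3 q6036 L138732 q5398, e3 q6037 L138741 q5049, e3 q6038 (flp_g L147896) q7035, e3 q6039 (flp_g L147905) q7036, e3 q6040 L138766 q5402, e3 q6041 L138778 q5403, e3 q6042 L138784 q5052, e3 q6043 L138793 q5053, e3 q6044 (flp_g L147965) q7043, e3 q6045 (flp_g L147973) q7044, e3 q6046 (flp_g L147986) q7045, e3 q6047 L138824 q5376, e3 q6048 L138833 q5386, e3 q6049 L138839 q5057, e3 q6050 L138845 q5058, e3 q6051 L138855 q5059, e3 q6052 (flp_g L148069)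 q7055, e3 q6053 (flp_g L148077) q7056, e3 q6054 (flp_g L148083) q7057, e3 q6055 L148157 q7068, e3 q6056 (flp_g L148105) q7059, e3 q6057 (flp_g L148111) q7060, e3 q6058 L138902 q5063, e3 q6059 L138911 q5064, e3 q6060 L148213 q7075, e3 q6061 L138927 q5066, e3 q6062 L138934 q5067, e3 q6063 (flp_g L148184) q7071, e3 q6064 L148255 q7081, e3 q6065 (flp_g L148202) q7073, e3 q6066 (flp_g L148210) q7074, e3 q6067 (flp_g L138965) q5065, e3 q6068 (flp_g L148294) q7085, e3 q6069 (flp_g L148238) q7077, e3 q6070 L148317 q7089, e3 q6071 L138999 q6071, e3 q6072 L139008 q6072, e3 q6073 (flp_g L139009) q5069, e3 q6074 (flp_g L148348) q7092, e3 q6075 L139030 q6075, e3 q6076 L139035 q6076, e3 q6077 L139046 q5073, e3 q6078 (flp_g L148363) q7094, e3 q6079 L139059 q6079, trivial⟩ (by decide +kernel)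

theorem ce_g_95 : ∀ r, r < 64 → sm gg (Qf (6080 + r)) = Qf (tab Gen.g (6080 + r)) :=
  edges_tab (sm gg) Qf (tab Gen.g) 6080 [(6080, 5440), (6081, 5373), (6082, 5441), (6083, 5079), (6084, 5080), (6085, 5081), (6086, 7098), (6087, 5775), (6088, 7099), (6089, 7108), (6090, 7100), (6091, 7101), (6092, 5377), (6093, 5378), (6094, 5087), (6095, 5088), (6096, 5089), (6097, 7118), (6098, 5091), (6099, 5092), (6100, 7113), (6101, 7114), (6102, 7115), (6103, 7126), (6104, 7116), (6105, 7117), (6106, 5090), (6107, 7129), (6108, 7120), (6109, 5093), (6110, 7132), (6111, 5098), (6112, 5097), (6113, 7135), (6114, 7134), (6115, 5100), (6116, 6914), (6117, 6117), (6118, 5104), (6119, 5105), (6120, 7138), (6121, 5244), (6122, 5387), (6123, 5114), (6124, 5116), (6125, 5117), (6126, 5379), (6127, 5393), (6128, 5488), (6129, 5791), (6130, 7140), (6131, 5115), (6132, 7146), (6133, 7141), (6134, 5391), (6135, 5392), (6136, 5126), (6137, 5128), (6138, 5130), (6139, 5131), (6140, 5123), (6141, 7153), (6142,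 5134), (6143, 5827)]
    ⟨e3 q6080 L139074 q5440, e3 q6081 L139084 q5373, e3 q6082 L139100 q5441, e3 q6083 L139110 q5079, e3 q6084 L139124 q5080, e3 q6085 L139137 q5081, e3 q6086 (flp_g L148412) q7098, e3 q6087 L139153 q5775, e3 q6088 (flp_g L148430) q7099, e3 q6089 L148525 q7108, e3 q6090 (flp_g L148443) q7100, e3 q6091 (flp_g L148449) q7101, e3 q6092 L139201 q5377, e3 q6093 L139218 q5378, e3 q6094 L139226 q5087, e3 q6095 L139234 q5088, e3 q6096 L139251 q5089, e3 q6097 L148642 q7118, e3 q6098 L139273 q5091, e3 q6099 L139279 q5092, e3 q6100 (flp_g L148586) q7113, e3 q6101 (flp_g L148600) q7114, e3 q6102 (flp_g L148615) q7115, e3 q6103 L148717 q7126, e3 q6104 (flp_g L148628) q7116, e3 q6105 (flp_g L148638) q7117, e3 q6106 (flp_g L139330) q5090, e3 q6107 (flp_g L148757) q7129, e3 q6108 (flp_g L148674) q7120, e3 q6109 (flp_g L139354) q5093, e3 q6110 (flp_g L148783) q7132, e3 q6111 L139378 q5098, e3 q6112 L139388 q5097, e3 q6113 (flp_g L148816) q7135, e3 q6114 (flp_g L148802) q7134, e3 q6115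 L139413 q5100, e3 q6116 (flp_g L146591) q6914, e3 q6117 L139431 q6117, e3 q6118 L139443 q5104, e3 q6119 L139458 q5105, e3 q6120 (flp_g L148845) q7138, e3 q6121 L139482 q5244, e3 q6122 L139496 q5387, e3 q6123 L139510 q5114, e3 q6124 L139521 q5116, e3 q6125 L139525 q5117, e3 q6126 L139539 q5379, e3 q6127 L139553 q5393, e3 q6128 L139567 q5488, e3 q6129 L139579 q5791, e3 q6130 (flp_g L148873) q7140, e3 q6131 (flp_g L139589) q5115, e3 q6132 (flp_g L148952) q7146, e3 q6133 (flp_g L148887) q7141, e3 q6134 L139624 q5391, e3 q6135 L139632 q5392, e3 q6136 L139644 q5126, e3 q6137 L139658 q5128, e3 q6138 L139671 q5130, e3 q6139 L139679 q5131, e3 q6140 (flp_g L139683) q5123, e3 q6141 (flp_g L149033) q7153, e3 q6142 L139713 q5134, e3 q6143 L139719 q5827, trivial⟩ (by decide +kernel)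

theorem ce_g_96 : ∀ r, r < 64 → sm gg (Qf (6144 + r)) = Qf (tab Gen.g (6144 + r)) :=
  edges_tab (sm gg) Qf (tab Gen.g) 6144 [(6144, 7150), (6145, 5477), (6146, 5839), (6147, 7151), (6148, 5129), (6149, 7161), (6150, 7152), (6151, 5133), (6152, 7164), (6153, 7155), (6154, 5136), (6155, 5886), (6156, 5140), (6157, 5139), (6158, 7031), (6159, 7168), (6160, 5146), (6161, 5509), (6162, 5506), (6163, 5150), (6164, 5151), (6165, 7173), (6166, 7174), (6167, 7175), (6168, 5507), (6169, 5508), (6170, 5156), (6171, 5157), (6172, 5158), (6173, 7183), (6174, 7184), (6175, 7185), (6176, 7186), (6177, 5161), (6178, 5162), (6179, 5641), (6180, 5597), (6181, 6739), (6182, 5510), (6183, 5171), (6184, 5173), (6185, 5174), (6186, 5363), (6187, 5219), (6188, 7193), (6189, 5230), (6190, 5382), (6191, 5706), (6192, 6192), (6193, 6193), (6194, 6194), (6195, 5194), (6196, 5195), (6197, 6701), (6198, 7196), (6199, 7197), (6200, 6200), (6201, 5201), (6202, 5202), (6203, 5653), (6204, 5396), (6205, 5797), (6206,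 6206), (6207, 6988)]
    ⟨e3 q6144 (flp_g L148991) q7150, e3 q6145 L139743 q5477, e3 q6146 L139752 q5839, e3 q6147 (flp_g L149001) q7151, e3 q6148 (flp_g L139760) q5129, e3 q6149 (flp_g L149117) q7161, e3 q6150 (flp_g L149017) q7152, e3 q6151 L139794 q5133, e3 q6152 (flp_g L149134) q7164, e3 q6153 (flp_g L149049) q7155, e3 q6154 L139816 q5136, e3 q6155 L139828 q5886, e3 q6156 L139833 q5140, e3 q6157 L139847 q5139, e3 q6158 (flp_g L147849) q7031, e3 q6159 (flp_g L149161) q7168, e3 q6160 L139870 q5146, e3 q6161 L139879 q5509, e3 q6162 L139891 q5506, e3 q6163 L139896 q5150, e3 q6164 L139904 q5151, e3 q6165 (flp_g L149210) q7173, e3 q6166 (flp_g L149219) q7174, e3 q6167 (flp_g L149227) q7175, e3 q6168 L139934 q5507, e3 q6169 L139947 q5508, e3 q6170 L139956 q5156, e3 q6171 L139965 q5157, e3 q6172 L139981 q5158, e3 q6173 (flp_g L149296) q7183, e3 q6174 (flp_g L149313) q7184, e3 q6175 (flp_g L149326) q7185, e3 q6176 (flp_g L149340) q7186, e3 q6177 L140023 q5161, e3 q6178 L140040 q5162, e3 q6179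 L140052 q5641, e3 q6180 L140065 q5597, e3 q6181 (flp_g L145123) q6739, e3 q6182 L140087 q5510, e3 q6183 L140097 q5171, e3 q6184 L140113 q5173, e3 q6185 L140128 q5174, e3 q6186 L140136 q5363, e3 q6187 L140150 q5219, e3 q6188 (flp_g L149419) q7193, e3 q6189 L140174 q5230, e3 q6190 L140185 q5382, e3 q6191 L140197 q5706, e3 q6192 L140207 q6192, e3 q6193 L140221 q6193, e3 q6194 L140232 q6194, e3 q6195 L140243 q5194, e3 q6196 L140258 q5195, e3 q6197 (flp_g L144789) q6701, e3 q6198 (flp_g L149460) q7196, e3 q6199 (flp_g L149476) q7197, e3 q6200 L140300 q6200, e3 q6201 L140315 q5201, e3 q6202 L140329 q5202, e3 q6203 L140342 q5653, e3 q6204 L140356 q5396, e3 q6205 L140369 q5797, e3 q6206 L140384 q6206, e3 q6207 (flp_g L147363) q6988, trivial⟩ (by decide +kernel)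

theorem ce_g_97 : ∀ r, r < 64 → sm gg (Qf (6208 + r)) = Qf (tab Gen.g (6208 + r)) :=
  edges_tab (sm gg) Qf (tab Gen.g) 6208 [(6208, 5848), (6209, 5889), (6210, 5361), (6211, 5357), (6212, 5364), (6213, 5211), (6214, 5212), (6215, 7207), (6216, 5352), (6217, 7208), (6218, 5351), (6219, 5639), (6220, 5353), (6221, 6221), (6222, 7188), (6223, 6223), (6224, 6224), (6225, 7195), (6226, 6226), (6227, 5380), (6228, 5226), (6229, 5228), (6230, 7220), (6231, 7221), (6232, 5374), (6233, 7222), (6234, 7096), (6235, 6235), (6236, 5234), (6237, 5235), (6238, 5236), (6239, 6986), (6240, 7227), (6241, 7228), (6242, 5394), (6243, 5241), (6244, 5243), (6245, 6964), (6246, 7006), (6247, 7232), (6248, 5388), (6249, 5250), (6250, 6987), (6251, 5849), (6252, 7236), (6253, 6989), (6254, 6654), (6255, 5254), (6256, 7241), (6257, 7242), (6258, 6922), (6259, 5257), (6260, 5258), (6261, 7248), (6262, 5679), (6263, 7249), (6264, 6928), (6265, 6929), (6266, 5262), (6267, 5263), (6268, 5264), (6269, 7259), (6270,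 7260), (6271, 7261)]
    ⟨e3 q6208 L140406 q5848, e3 q6209 L140418 q5889, e3 q6210 L140434 q5361, e3 q6211 L140444 q5357, e3 q6212 L140460 q5364, e3 q6213 L140470 q5211, e3 q6214 L140486 q5212, e3 q6215 (flp_g L149608) q7207, e3 q6216 L140504 q5352, e3 q6217 (flp_g L149624) q7208, e3 q6218 L140528 q5351, e3 q6219 L140544 q5639, e3 q6220 L140556 q5353, e3 q6221 L140564 q6221, e3 q6222 (flp_g L149365) q7188, e3 q6223 L140585 q6223, e3 q6224 L140596 q6224, e3 q6225 (flp_g L149446) q7195, e3 q6226 L140617 q6226, e3 q6227 L140630 q5380, e3 q6228 L140638 q5226, e3 q6229 L140652 q5228, e3 q6230 (flp_g L149750) q7220, e3 q6231 (flp_g L149764) q7221, e3 q6232 L140678 q5374, e3 q6233 (flp_g L149772) q7222, e3 q6234 (flp_g L148386) q7096, e3 q6235 L140704 q6235, e3 q6236 L140713 q5234, e3 q6237 L140724 q5235, e3 q6238 L140732 q5236, e3 q6239 (flp_g L147331) q6986, e3 q6240 (flp_g L149820) q7227, e3 q6241 (flp_g L149830) q7228, e3 q6242 L140771 q5394, e3 q6243 L140785 q5241, e3 q6244 L140793 q5243,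 e3 q6245 (flp_g L147096) q6964, e3 q6246 (flp_g L147571) q7006, e3 q6247 (flp_g L149867) q7232, e3 q6248 L140829 q5388, e3 q6249 L140843 q5250, e3 q6250 (flp_g L147346) q6987, e3 q6251 L140864 q5849, e3 q6252 (flp_g L149901) q7236, e3 q6253 (flp_g L147377) q6989, e3 q6254 (flp_g L144409) q6654, e3 q6255 L140905 q5254, e3 q6256 (flp_g L149959) q7241, e3 q6257 (flp_g L149970) q7242, e3 q6258 (flp_g L146690) q6922, e3 q6259 L140937 q5257, e3 q6260 L140951 q5258, e3 q6261 (flp_g L150022) q7248, e3 q6262 L140967 q5679, e3 q6263 (flp_g L150036) q7249, e3 q6264 (flp_g L146748) q6928, e3 q6265 (flp_g L146759) q6929, e3 q6266 L141004 q5262, e3 q6267 L141012 q5263, e3 q6268 L141026 q5264, e3 q6269 (flp_g L150117) q7259, e3 q6270 (flp_g L150129) q7260, e3 q6271 (flp_g L150139) q7261, trivial⟩ (by decide +kernel)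

theorem ce_g_98 : ∀ r, r < 64 → sm gg (Qf (6272 + r)) = Qf (tab Gen.g (6272 + r)) :=
  edges_tab (sm gg) Qf (tab Gen.g) 6272 [(6272, 7272), (6273, 7263), (6274, 7264), (6275, 5268), (6276, 5269), (6277, 7278), (6278, 5271), (6279, 7275), (6280, 7283), (6281, 7277), (6282, 5661), (6283, 5270), (6284, 7287), (6285, 5663), (6286, 7291), (6287, 6287), (6288, 6288), (6289, 5274), (6290, 7294), (6291, 6291), (6292, 6292), (6293, 5278), (6294, 7296), (6295, 6295), (6296, 6953), (6297, 6954), (6298, 5283), (6299, 5285), (6300, 7299), (6301, 5697), (6302, 7300), (6303, 6974), (6304, 5467), (6305, 7301), (6306, 6965), (6307, 6966), (6308, 5291), (6309, 5292), (6310, 5293), (6311, 6959), (6312, 5295), (6313, 5296), (6314, 5772), (6315, 7311), (6316, 7312), (6317, 6961), (6318, 7313), (6319, 7314), (6320, 5294), (6321, 7325), (6322, 7316), (6323, 5297), (6324, 7328), (6325, 5300), (6326, 7329), (6327, 5448), (6328, 5303), (6329, 6915), (6330, 6330), (6331, 5309), (6332, 5310), (6333, 5784), (6334,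 7331), (6335, 7332)]
    ⟨e3 q6272 L150219 q7272, e3 q6273 (flp_g L150161) q7263, e3 q6274 (flp_g L150169) q7264, e3 q6275 L141075 q5268, e3 q6276 L141087 q5269, e3 q6277 L150275 q7278, e3 q6278 L141108 q5271, e3 q6279 (flp_g L150250) q7275, e3 q6280 L150318 q7283, e3 q6281 (flp_g L150271) q7277, e3 q6282 L141146 q5661, e3 q6283 (flp_g L141150) q5270, e3 q6284 (flp_g L150374) q7287, e3 q6285 L141178 q5663, e3 q6286 L150405 q7291, e3 q6287 L141194 q6287, e3 q6288 L141204 q6288, e3 q6289 (flp_g L141205) q5274, e3 q6290 (flp_g L150439) q7294, e3 q6291 L141233 q6291, e3 q6292 L141241 q6292, e3 q6293 L141251 q5278, e3 q6294 (flp_g L150459) q7296, e3 q6295 L141269 q6295, e3 q6296 (flp_g L146975) q6953, e3 q6297 (flp_g L146992) q6954, e3 q6298 L141297 q5283, e3 q6299 L141310 q5285, e3 q6300 (flp_g L150486) q7299, e3 q6301 L141323 q5697, e3 q6302 (flp_g L150501) q7300, e3 q6303 (flp_g L147205) q6974, e3 q6304 L141352 q5467, e3 q6305 (flp_g L150509) q7301, e3 q6306 (flp_g L147110) q6965, e3 q6307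 (flp_g L147125) q6966, e3 q6308 L141377 q5291, e3 q6309 L141387 q5292, e3 q6310 L141400 q5293, e3 q6311 (flp_g L147043) q6959, e3 q6312 L141418 q5295, e3 q6313 L141424 q5296, e3 q6314 L141430 q5772, e3 q6315 (flp_g L150598) q7311, e3 q6316 (flp_g L150611) q7312, e3 q6317 (flp_g L147071) q6961, e3 q6318 (flp_g L150622) q7313, e3 q6319 (flp_g L150630) q7314, e3 q6320 (flp_g L141467) q5294, e3 q6321 (flp_g L150716) q7325, e3 q6322 (flp_g L150646) q7316, e3 q6323 (flp_g L141487) q5297, e3 q6324 (flp_g L150746) q7328, e3 q6325 L141514 q5300, e3 q6326 (flp_g L150759) q7329, e3 q6327 L141531 q5448, e3 q6328 L141545 q5303, e3 q6329 (flp_g L146607) q6915, e3 q6330 L141561 q6330, e3 q6331 L141572 q5309, e3 q6332 L141581 q5310, e3 q6333 L141593 q5784, e3 q6334 (flp_g L150780) q7331, e3 q6335 (flp_g L150787) q7332, trivial⟩ (by decide +kernel)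

theorem ce_g_99 : ∀ r, r < 64 → sm gg (Qf (6336 + r)) = Qf (tab Gen.g (6336 + r)) :=
  edges_tab (sm gg) Qf (tab Gen.g) 6336 [(6336, 6996), (6337, 5317), (6338, 5320), (6339, 5769), (6340, 5786), (6341, 5501), (6342, 7337), (6343, 7017), (6344, 5496), (6345, 7007), (6346, 7008), (6347, 5332), (6348, 5333), (6349, 7002), (6350, 5336), (6351, 5773), (6352, 5774), (6353, 5789), (6354, 5790), (6355, 7004), (6356, 7344), (6357, 7345), (6358, 5335), (6359, 7354), (6360, 5482), (6361, 5338), (6362, 5340), (6363, 7015), (6364, 5348), (6365, 5785), (6366, 5799), (6367, 7356), (6368, 7214), (6369, 7215), (6370, 7210), (6371, 7212), (6372, 5356), (6373, 5358), (6374, 7052), (6375, 7205), (6376, 7364), (6377, 7102), (6378, 7206), (6379, 7365), (6380, 5362), (6381, 7203), (6382, 7187), (6383, 7204), (6384, 5604), (6385, 7194), (6386, 7380), (6387, 6387), (6388, 6388), (6389, 5367), (6390, 7383), (6391, 6391), (6392, 6392), (6393, 5371), (6394, 7385), (6395, 6395), (6396, 7041), (6397, 7097), (6398,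 7226), (6399, 5381)]
    ⟨e3 q6336 (flp_g L147452) q6996, e3 q6337 L141623 q5317, e3 q6338 L141631 q5320, e3 q6339 L141642 q5769, e3 q6340 L141653 q5786, e3 q6341 L141663 q5501, e3 q6342 (flp_g L150831) q7337, e3 q6343 (flp_g L147702) q7017, e3 q6344 L141685 q5496, e3 q6345 (flp_g L147584) q7007, e3 q6346 (flp_g L147592) q7008, e3 q6347 L141713 q5332, e3 q6348 L141721 q5333, e3 q6349 (flp_g L147528) q7002, e3 q6350 L141737 q5336, e3 q6351 L141749 q5773, e3 q6352 L141760 q5774, e3 q6353 L141771 q5789, e3 q6354 L141779 q5790, e3 q6355 (flp_g L147549) q7004, e3 q6356 (flp_g L150895) q7344, e3 q6357 (flp_g L150903) q7345, e3 q6358 L141804 q5335, e3 q6359 (flp_g L150975) q7354, e3 q6360 L141816 q5482, e3 q6361 L141834 q5338, e3 q6362 L141847 q5340, e3 q6363 (flp_g L147680) q7015, e3 q6364 L141865 q5348, e3 q6365 L141875 q5785, e3 q6366 L141882 q5799, e3 q6367 (flp_g L150995) q7356, e3 q6368 (flp_g L149682) q7214, e3 q6369 (flp_g L149698) q7215, e3 q6370 (flp_g L149640) q7210, e3 q6371 (flp_g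 L149664) q7212, e3 q6372 L141925 q5356, e3 q6373 L141935 q5358, e3 q6374 (flp_g L148038) q7052, e3 q6375 (flp_g L149584) q7205, e3 q6376 (flp_g L151066) q7364, e3 q6377 (flp_g L148461) q7102, e3 q6378 (flp_g L149600) q7206, e3 q6379 (flp_g L151072) q7365, e3 q6380 L141991 q5362, e3 q6381 (flp_g L149555) q7203, e3 q6382 (flp_g L149350) q7187, e3 q6383 (flp_g L149572) q7204, e3 q6384 L142025 q5604, e3 q6385 (flp_g L149433) q7194, e3 q6386 L151186 q7380, e3 q6387 L142051 q6387, e3 q6388 L142065 q6388, e3 q6389 (flp_g L142068) q5367, e3 q6390 (flp_g L151222) q7383, e3 q6391 L142090 q6391, e3 q6392 L142098 q6392, e3 q6393 L142114 q5371, e3 q6394 (flp_g L151240) q7385, e3 q6395 L142128 q6395, e3 q6396 (flp_g L147947) q7041, e3 q6397 (flp_g L148402) q7097, e3 q6398 (flp_g L149808) q7226, e3 q6399 L142169 q5381, trivial⟩ (by decide +kernel)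

theorem ce_g_100 : ∀ r, r < 64 → sm gg (Qf (6400 + r)) = Qf (tab Gen.g (6400 + r)) :=
  edges_tab (sm gg) Qf (tab Gen.g) 6400 [(6400, 7053), (6401, 7054), (6402, 7000), (6403, 7111), (6404, 7112), (6405, 7142), (6406, 7219), (6407, 5384), (6408, 7201), (6409, 6409), (6410, 7139), (6411, 7001), (6412, 7149), (6413, 7143), (6414, 7033), (6415, 7034), (6416, 5400), (6417, 5401), (6418, 7399), (6419, 7400), (6420, 7401), (6421, 7040), (6422, 7042), (6423, 5406), (6424, 5407), (6425, 5408), (6426, 5802), (6427, 7408), (6428, 7409), (6429, 7419), (6430, 7289), (6431, 7411), (6432, 5413), (6433, 5414), (6434, 7426), (6435, 5416), (6436, 5417), (6437, 5754), (6438, 5805), (6439, 5806), (6440, 7422), (6441, 7438), (6442, 7424), (6443, 7425), (6444, 5415), (6445, 7442), (6446, 7428), (6447, 5423), (6448, 7448), (6449, 5425), (6450, 5426), (6451, 5420), (6452, 7452), (6453, 5429), (6454, 7455), (6455, 7446), (6456, 7447), (6457, 5424), (6458, 7460), (6459, 7450), (6460, 7451), (6461, 5428), (6462,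 7464), (6463, 7254)]
    ⟨e3 q6400 (flp_g L148046) q7053, e3 q6401 (flp_g L148061) q7054, e3 q6402 (flp_g L147499) q7000, e3 q6403 (flp_g L148566) q7111, e3 q6404 (flp_g L148576) q7112, e3 q6405 (flp_g L148901) q7142, e3 q6406 (flp_g L149738) q7219, e3 q6407 L142234 q5384, e3 q6408 (flp_g L149528) q7201, e3 q6409 L142254 q6409, e3 q6410 (flp_g L148857) q7139, e3 q6411 (flp_g L147514) q7001, e3 q6412 (flp_g L148977) q7149, e3 q6413 (flp_g L148911) q7143, e3 q6414 (flp_g L147877) q7033, e3 q6415 (flp_g L147890) q7034, e3 q6416 L142315 q5400, e3 q6417 L142325 q5401, e3 q6418 (flp_g L151350) q7399, e3 q6419 (flp_g L151360) q7400, e3 q6420 (flp_g L151370) q7401, e3 q6421 (flp_g L147937) q7040, e3 q6422 (flp_g L147959) q7042, e3 q6423 L142361 q5406, e3 q6424 L142373 q5407, e3 q6425 L142385 q5408, e3 q6426 L142389 q5802, e3 q6427 (flp_g L151418) q7408, e3 q6428 (flp_g L151428) q7409, e3 q6429 L151496 q7419, e3 q6430 (flp_g L150394) q7289, e3 q6431 (flp_g L151444) q7411, e3 q6432 L142433 q5413,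 e3 q6433 L142441 q5414, e3 q6434 L151552 q7426, e3 q6435 L142457 q5416, e3 q6436 L142463 q5417, e3 q6437 L142471 q5754, e3 q6438 L142479 q5805, e3 q6439 L142489 q5806, e3 q6440 (flp_g L151524) q7422, e3 q6441 L151644 q7438, e3 q6442 (flp_g L151542) q7424, e3 q6443 (flp_g L151550) q7425, e3 q6444 (flp_g L142509) q5415, e3 q6445 (flp_g L151668) q7442, e3 q6446 (flp_g L151574) q7428, e3 q6447 L142533 q5423, e3 q6448 L151704 q7448, e3 q6449 L142552 q5425, e3 q6450 L142563 q5426, e3 q6451 (flp_g L142567) q5420, e3 q6452 (flp_g L151758) q7452, e3 q6453 L142591 q5429, e3 q6454 L151777 q7455, e3 q6455 (flp_g L151692) q7446, e3 q6456 (flp_g L151702) q7447, e3 q6457 (flp_g L142613) q5424, e3 q6458 (flp_g L151823) q7460, e3 q6459 (flp_g L151734) q7450, e3 q6460 (flp_g L151745) q7451, e3 q6461 L142657 q5428, e3 q6462 (flp_g L151855) q7464, e3 q6463 (flp_g L150080) q7254, trivial⟩ (by decide +kernel)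

theorem ce_g_101 : ∀ r, r < 64 → sm gg (Qf (6464 + r)) = Qf (tab Gen.g (6464 + r)) :=
  edges_tab (sm gg) Qf (tab Gen.g) 6464 [(6464, 6684), (6465, 5430), (6466, 6682), (6467, 7468), (6468, 6468), (6469, 6469), (6470, 5434), (6471, 7471), (6472, 6472), (6473, 6473), (6474, 5438), (6475, 6913), (6476, 6476), (6477, 7013), (6478, 5449), (6479, 5752), (6480, 5803), (6481, 5804), (6482, 7156), (6483, 5828), (6484, 5829), (6485, 5447), (6486, 7481), (6487, 7327), (6488, 5450), (6489, 7483), (6490, 5461), (6491, 5755), (6492, 5756), (6493, 7488), (6494, 5808), (6495, 5809), (6496, 5456), (6497, 7491), (6498, 5832), (6499, 5460), (6500, 7494), (6501, 7308), (6502, 5463), (6503, 7497), (6504, 5466), (6505, 6975), (6506, 7305), (6507, 6507), (6508, 5770), (6509, 5771), (6510, 5787), (6511, 5788), (6512, 7159), (6513, 5840), (6514, 5481), (6515, 7504), (6516, 5484), (6517, 7505), (6518, 7105), (6519, 5776), (6520, 5777), (6521, 7144), (6522, 5792), (6523, 5492), (6524, 7510), (6525, 5843), (6526,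 5495), (6527, 7018)]
    ⟨e3 q6464 (flp_g L144645) q6684, e3 q6465 (flp_g L142679) q5430, e3 q6466 L144623 q6682, e3 q6467 (flp_g L151884) q7468, e3 q6468 L142710 q6468, e3 q6469 L142719 q6469, e3 q6470 L142731 q5434, e3 q6471 (flp_g L151917) q7471, e3 q6472 L142749 q6472, e3 q6473 L142766 q6473, e3 q6474 L142776 q5438, e3 q6475 (flp_g L146580) q6913, e3 q6476 L142794 q6476, e3 q6477 (flp_g L147650) q7013, e3 q6478 L142817 q5449, e3 q6479 L142825 q5752, e3 q6480 L142835 q5803, e3 q6481 L142846 q5804, e3 q6482 (flp_g L149066) q7156, e3 q6483 L142866 q5828, e3 q6484 L142874 q5829, e3 q6485 (flp_g L142878) q5447, e3 q6486 (flp_g L152025) q7481, e3 q6487 (flp_g L150728) q7327, e3 q6488 (flp_g L142902) q5450, e3 q6489 (flp_g L152045) q7483, e3 q6490 L142930 q5461, e3 q6491 L142938 q5755, e3 q6492 L142950 q5756, e3 q6493 L152083 q7488, e3 q6494 L142966 q5808, e3 q6495 L142972 q5809, e3 q6496 (flp_g L142974) q5456, e3 q6497 (flp_g L152117) q7491, e3 q6498 L143002 q5832, e3 q6499 L143010 q5460,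 e3 q6500 (flp_g L152139) q7494, e3 q6501 (flp_g L150573) q7308, e3 q6502 L143033 q5463, e3 q6503 (flp_g L152164) q7497, e3 q6504 L143054 q5466, e3 q6505 (flp_g L147217) q6975, e3 q6506 (flp_g L150549) q7305, e3 q6507 L143082 q6507, e3 q6508 L143093 q5770, e3 q6509 L143104 q5771, e3 q6510 L143113 q5787, e3 q6511 L143119 q5788, e3 q6512 (flp_g L149094) q7159, e3 q6513 L143136 q5840, e3 q6514 L143144 q5481, e3 q6515 (flp_g L152218) q7504, e3 q6516 L143160 q5484, e3 q6517 (flp_g L152228) q7505, e3 q6518 (flp_g L148501) q7105, e3 q6519 L143182 q5776, e3 q6520 L143188 q5777, e3 q6521 (flp_g L148927) q7144, e3 q6522 L143204 q5792, e3 q6523 L143214 q5492, e3 q6524 (flp_g L152266) q7510, e3 q6525 L143224 q5843, e3 q6526 L143230 q5495, e3 q6527 (flp_g L147710) q7018, trivial⟩ (by decide +kernel)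

theorem ce_g_102 : ∀ r, r < 64 → sm gg (Qf (6528 + r)) = Qf (tab Gen.g (6528 + r)) :=
  edges_tab (sm gg) Qf (tab Gen.g) 6528 [(6528, 7340), (6529, 5498), (6530, 5503), (6531, 5504), (6532, 7171), (6533, 7513), (6534, 7514), (6535, 7172), (6536, 7182), (6537, 5514), (6538, 5515), (6539, 5800), (6540, 5851), (6541, 5852), (6542, 7526), (6543, 7518), (6544, 7519), (6545, 5751), (6546, 5801), (6547, 5753), (6548, 5757), (6549, 5758), (6550, 5810), (6551, 7537), (6552, 5812), (6553, 5813), (6554, 7542), (6555, 5854), (6556, 5855), (6557, 5526), (6558, 7547), (6559, 5858), (6560, 5859), (6561, 5530), (6562, 7551), (6563, 5862), (6564, 7555), (6565, 5540), (6566, 5541), (6567, 5533), (6568, 7560), (6569, 5544), (6570, 5545), (6571, 5537), (6572, 7564), (6573, 5548), (6574, 6576), (6575, 5539), (6576, 6574), (6577, 7568), (6578, 7558), (6579, 7559), (6580, 5543), (6581, 7573), (6582, 7562), (6583, 7563), (6584, 5547), (6585, 6901), (6586, 7566), (6587, 6729), (6588, 5552), (6589, 6727), (6590,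 7579), (6591, 6591)]
    ⟨e3 q6528 (flp_g L150860) q7340, e3 q6529 L143251 q5498, e3 q6530 L143258 q5503, e3 q6531 L143269 q5504, e3 q6532 (flp_g L149190) q7171, e3 q6533 (flp_g L152287) q7513, e3 q6534 (flp_g L152298) q7514, e3 q6535 (flp_g L149201) q7172, e3 q6536 (flp_g L149288) q7182, e3 q6537 L143319 q5514, e3 q6538 L143330 q5515, e3 q6539 L143336 q5800, e3 q6540 L143345 q5851, e3 q6541 L143357 q5852, e3 q6542 L152398 q7526, e3 q6543 (flp_g L152334) q7518, e3 q6544 (flp_g L152341) q7519, e3 q6545 L143379 q5751, e3 q6546 L143391 q5801, e3 q6547 L143400 q5753, e3 q6548 L143409 q5757, e3 q6549 L143422 q5758, e3 q6550 L143428 q5810, e3 q6551 L152490 q7537, e3 q6552 L143448 q5812, e3 q6553 L143457 q5813, e3 q6554 L152536 q7542, e3 q6555 L143472 q5854, e3 q6556 L143482 q5855, e3 q6557 (flp_g L143484) q5526, e3 q6558 (flp_g L152591) q7547, e3 q6559 L143508 q5858, e3 q6560 L143515 q5859, e3 q6561 L143529 q5530, e3 q6562 (flp_g L152623) q7551, e3 q6563 L143545 q5862, e3 q6564 L152657 q7555,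 e3 q6565 L143565 q5540, e3 q6566 L143578 q5541, e3 q6567 (flp_g L143580) q5533, e3 q6568 (flp_g L152720) q7560, e3 q6569 L143605 q5544, e3 q6570 L143613 q5545, e3 q6571 L143630 q5537, e3 q6572 (flp_g L152757) q7564, e3 q6573 L143647 q5548, e3 q6574 (flp_g L143673) q6576, e3 q6575 (flp_g L143659) q5539, e3 q6576 L143673 q6574, e3 q6577 (flp_g L152794) q7568, e3 q6578 (flp_g L152701) q7558, e3 q6579 (flp_g L152710) q7559, e3 q6580 L143699 q5543, e3 q6581 (flp_g L152829) q7573, e3 q6582 (flp_g L152735) q7562, e3 q6583 (flp_g L152743) q7563, e3 q6584 L143730 q5547, e3 q6585 (flp_g L146435) q6901, e3 q6586 (flp_g L152776) q7566, e3 q6587 (flp_g L145040) q6729, e3 q6588 L143762 q5552, e3 q6589 (flp_g L145020) q6727, e3 q6590 (flp_g L152880) q7579, e3 q6591 L143784 q6591, trivial⟩ (by decide +kernel)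

theorem ce_g_103 : ∀ r, r < 64 → sm gg (Qf (6592 + r)) = Qf (tab Gen.g (6592 + r)) :=
  edges_tab (sm gg) Qf (tab Gen.g) 6592 [(6592, 6592), (6593, 5556), (6594, 7582), (6595, 7583), (6596, 5760), (6597, 5761), (6598, 5564), (6599, 7586), (6600, 5816), (6601, 5568), (6602, 7589), (6603, 5835), (6604, 5571), (6605, 6908), (6606, 5878), (6607, 5574), (6608, 6907), (6609, 5578), (6610, 7593), (6611, 5580), (6612, 7594), (6613, 5780), (6614, 5584), (6615, 7597), (6616, 5795), (6617, 5587), (6618, 7025), (6619, 5846), (6620, 7192), (6621, 5603), (6622, 5676), (6623, 7601), (6624, 7378), (6625, 5675), (6626, 7608), (6627, 5672), (6628, 7611), (6629, 5608), (6630, 5611), (6631, 7614), (6632, 5610), (6633, 7616), (6634, 7613), (6635, 5664), (6636, 5612), (6637, 7621), (6638, 5660), (6639, 5657), (6640, 5616), (6641, 7625), (6642, 6644), (6643, 5618), (6644, 6642), (6645, 7627), (6646, 5622), (6647, 7628), (6648, 5626), (6649, 6912), (6650, 5628), (6651, 5632), (6652, 5943), (6653, 5944), (6654,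 6254), (6655, 5930)]
    ⟨e3 q6592 L143794 q6592, e3 q6593 L143809 q5556, e3 q6594 (flp_g L152921) q7582, e3 q6595 L152931 q7583, e3 q6596 L143840 q5760, e3 q6597 L143849 q5761, e3 q6598 (flp_g L143852) q5564, e3 q6599 (flp_g L152968) q7586, e3 q6600 L143873 q5816, e3 q6601 L143885 q5568, e3 q6602 (flp_g L152994) q7589, e3 q6603 L143901 q5835, e3 q6604 L143911 q5571, e3 q6605 (flp_g L146511) q6908, e3 q6606 L143928 q5878, e3 q6607 L143940 q5574, e3 q6608 (flp_g L146497) q6907, e3 q6609 L143959 q5578, e3 q6610 (flp_g L153024) q7593, e3 q6611 (flp_g L143970) q5580, e3 q6612 (flp_g L153038) q7594, e3 q6613 L143994 q5780, e3 q6614 L144005 q5584, e3 q6615 (flp_g L153064) q7597, e3 q6616 L144020 q5795, e3 q6617 L144030 q5587, e3 q6618 (flp_g L147782) q7025, e3 q6619 L144040 q5846, e3 q6620 (flp_g L149402) q7192, e3 q6621 L144059 q5603, e3 q6622 L144069 q5676, e3 q6623 (flp_g L153105) q7601, e3 q6624 (flp_g L151171) q7378, e3 q6625 L144098 q5675, e3 q6626 L153165 q7608, e3 q6627 L144117 q5672,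 e3 q6628 L153199 q7611, e3 q6629 (flp_g L144135) q5608, e3 q6630 L144153 q5611, e3 q6631 L153233 q7614, e3 q6632 (flp_g L144170) q5610, e3 q6633 L153257 q7616, e3 q6634 (flp_g L153231) q7613, e3 q6635 L144206 q5664, e3 q6636 (flp_g L144208) q5612, e3 q6637 (flp_g L153317) q7621, e3 q6638 L144237 q5660, e3 q6639 L144246 q5657, e3 q6640 L144263 q5616, e3 q6641 (flp_g L153359) q7625, e3 q6642 (flp_g L144303) q6644, e3 q6643 (flp_g L144282) q5618, e3 q6644 L144303 q6642, e3 q6645 (flp_g L153385) q7627, e3 q6646 L144323 q5622, e3 q6647 (flp_g L153397) q7628, e3 q6648 L144341 q5626, e3 q6649 (flp_g L146566) q6912, e3 q6650 (flp_g L144352) q5628, e3 q6651 L144372 q5632, e3 q6652 L144382 q5943, e3 q6653 L144396 q5944, e3 q6654 L144409 q6254, e3 q6655 L144419 q5930, trivial⟩ (by decide +kernel)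

theorem ce_g_104 : ∀ r, r < 64 → sm gg (Qf (6656 + r)) = Qf (tab Gen.g (6656 + r)) :=
  edges_tab (sm gg) Qf (tab Gen.g) 6656 [(6656, 6659), (6657, 5642), (6658, 7626), (6659, 6656), (6660, 5646), (6661, 7633), (6662, 5650), (6663, 7198), (6664, 5658), (6665, 5659), (6666, 7624), (6667, 7286), (6668, 7640), (6669, 7634), (6670, 7635), (6671, 7623), (6672, 7646), (6673, 7285), (6674, 5662), (6675, 7648), (6676, 7650), (6677, 7620), (6678, 5665), (6679, 7654), (6680, 5671), (6681, 5668), (6682, 6466), (6683, 5670), (6684, 6464), (6685, 7658), (6686, 7656), (6687, 7610), (6688, 5674), (6689, 7663), (6690, 7606), (6691, 7602), (6692, 5678), (6693, 6972), (6694, 7251), (6695, 6697), (6696, 5683), (6697, 6695), (6698, 7600), (6699, 5687), (6700, 7669), (6701, 6197), (6702, 5694), (6703, 7303), (6704, 5703), (6705, 5704), (6706, 5894), (6707, 7671), (6708, 7672), (6709, 5712), (6710, 5713), (6711, 5711), (6712, 7676), (6713, 7675), (6714, 5865), (6715, 5715), (6716, 5863), (6717, 7680), (6718,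 5729), (6719, 5730)]
    ⟨e3 q6656 (flp_g L144453) q6659, e3 q6657 (flp_g L144426) q5642, e3 q6658 (flp_g L153370) q7626, e3 q6659 L144453 q6656, e3 q6660 L144467 q5646, e3 q6661 (flp_g L153458) q7633, e3 q6662 L144483 q5650, e3 q6663 (flp_g L149489) q7198, e3 q6664 L144498 q5658, e3 q6665 L144509 q5659, e3 q6666 (flp_g L153344) q7624, e3 q6667 (flp_g L150360) q7286, e3 q6668 L153517 q7640, e3 q6669 (flp_g L153470) q7634, e3 q6670 (flp_g L153480) q7635, e3 q6671 (flp_g L153335) q7623, e3 q6672 L153558 q7646, e3 q6673 (flp_g L150349) q7285, e3 q6674 (flp_g L144561) q5662, e3 q6675 (flp_g L153579) q7648, e3 q6676 L153592 q7650, e3 q6677 (flp_g L153304) q7620, e3 q6678 (flp_g L144588) q5665, e3 q6679 L153630 q7654, e3 q6680 L144605 q5671, e3 q6681 (flp_g L144607) q5668, e3 q6682 (flp_g L144623) q6466, e3 q6683 (flp_g L144627) q5670, e3 q6684 L144645 q6464, e3 q6685 (flp_g L153678) q7658, e3 q6686 (flp_g L153657) q7656, e3 q6687 (flp_g L153197) q7610, e3 q6688 L144673 q5674, e3 q6689 (flp_g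 L153717) q7663, e3 q6690 (flp_g L153152) q7606, e3 q6691 (flp_g L153116) q7602, e3 q6692 L144702 q5678, e3 q6693 (flp_g L147181) q6972, e3 q6694 (flp_g L150050) q7251, e3 q6695 (flp_g L144741) q6697, e3 q6696 L144728 q5683, e3 q6697 L144741 q6695, e3 q6698 (flp_g L153089) q7600, e3 q6699 L144765 q5687, e3 q6700 (flp_g L153754) q7669, e3 q6701 L144789 q6197, e3 q6702 L144802 q5694, e3 q6703 (flp_g L150528) q7303, e3 q6704 L144815 q5703, e3 q6705 L144829 q5704, e3 q6706 L144843 q5894, e3 q6707 (flp_g L153781) q7671, e3 q6708 (flp_g L153792) q7672, e3 q6709 L144869 q5712, e3 q6710 L144877 q5713, e3 q6711 (flp_g L144880) q5711, e3 q6712 (flp_g L153839) q7676, e3 q6713 (flp_g L153829) q7675, e3 q6714 (flp_g L144906) q5865, e3 q6715 (flp_g L144910) q5715, e3 q6716 L144930 q5863, e3 q6717 (flp_g L153873) q7680, e3 q6718 L144945 q5729, e3 q6719 L144952 q5730, trivial⟩ (by decide +kernel)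

theorem ce_g_105 : ∀ r, r < 64 → sm gg (Qf (6720 + r)) = Qf (tab Gen.g (6720 + r)) :=
  edges_tab (sm gg) Qf (tab Gen.g) 6720 [(6720, 5719), (6721, 7685), (6722, 5733), (6723, 5734), (6724, 5723), (6725, 6900), (6726, 5737), (6727, 6589), (6728, 5728), (6729, 6587), (6730, 7691), (6731, 7683), (6732, 7684), (6733, 5732), (6734, 7694), (6735, 7687), (6736, 7688), (6737, 7690), (6738, 5741), (6739, 6181), (6740, 5744), (6741, 5748), (6742, 7520), (6743, 7529), (6744, 7412), (6745, 7474), (6746, 7475), (6747, 7265), (6748, 7429), (6749, 7430), (6750, 7103), (6751, 7486), (6752, 7487), (6753, 7530), (6754, 7715), (6755, 7532), (6756, 7533), (6757, 5759), (6758, 7719), (6759, 7585), (6760, 7723), (6761, 6761), (6762, 6762), (6763, 5763), (6764, 7726), (6765, 6765), (6766, 6766), (6767, 5767), (6768, 7728), (6769, 6769), (6770, 7302), (6771, 7338), (6772, 7499), (6773, 7500), (6774, 7317), (6775, 7318), (6776, 7347), (6777, 7348), (6778, 7106), (6779, 7507), (6780, 5779), (6781, 7739), (6782,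 7596), (6783, 5782)]
    ⟨e3 q6720 L144962 q5719, e3 q6721 (flp_g L153915) q7685, e3 q6722 L144975 q5733, e3 q6723 L144981 q5734, e3 q6724 L144994 q5723, e3 q6725 (flp_g L146424) q6900, e3 q6726 L145008 q5737, e3 q6727 L145020 q6589, e3 q6728 L145030 q5728, e3 q6729 L145040 q6587, e3 q6730 (flp_g L153960) q7691, e3 q6731 (flp_g L153896) q7683, e3 q6732 (flp_g L153903) q7684, e3 q6733 L145067 q5732, e3 q6734 (flp_g L153984) q7694, e3 q6735 (flp_g L153925) q7687, e3 q6736 (flp_g L153932) q7688, e3 q6737 (flp_g L153949) q7690, e3 q6738 L145106 q5741, e3 q6739 L145123 q6181, e3 q6740 L145133 q5744, e3 q6741 L145144 q5748, e3 q6742 (flp_g L152347) q7520, e3 q6743 (flp_g L152423) q7529, e3 q6744 (flp_g L151452) q7412, e3 q6745 (flp_g L151959) q7474, e3 q6746 (flp_g L151972) q7475, e3 q6747 (flp_g L150177) q7265, e3 q6748 (flp_g L151582) q7429, e3 q6749 (flp_g L151592) q7430, e3 q6750 (flp_g L148475) q7103, e3 q6751 (flp_g L152073) q7486, e3 q6752 (flp_g L152081) q7487, e3 q6753 (flp_g L152430)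 q7530, e3 q6754 L154140 q7715, e3 q6755 (flp_g L152452) q7532, e3 q6756 (flp_g L152462) q7533, e3 q6757 (flp_g L145265) q5759, e3 q6758 (flp_g L154193) q7719, e3 q6759 (flp_g L152958) q7585, e3 q6760 L154220 q7723, e3 q6761 L145309 q6761, e3 q6762 L145324 q6762, e3 q6763 (flp_g L145327) q5763, e3 q6764 (flp_g L154261) q7726, e3 q6765 L145354 q6765, e3 q6766 L145363 q6766, e3 q6767 L145376 q5767, e3 q6768 (flp_g L154282) q7728, e3 q6769 L145393 q6769, e3 q6770 (flp_g L150518) q7302, e3 q6771 (flp_g L150842) q7338, e3 q6772 (flp_g L152181) q7499, e3 q6773 (flp_g L152187) q7500, e3 q6774 (flp_g L150658) q7317, e3 q6775 (flp_g L150669) q7318, e3 q6776 (flp_g L150926) q7347, e3 q6777 (flp_g L150934) q7348, e3 q6778 (flp_g L148513) q7106, e3 q6779 (flp_g L152244) q7507, e3 q6780 L145471 q5779, e3 q6781 (flp_g L154363) q7739, e3 q6782 (flp_g L153053) q7596, e3 q6783 L145494 q5782, trivial⟩ (by decide +kernel)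

theorem ce_g_106 : ∀ r, r < 64 → sm gg (Qf (6784 + r)) = Qf (tab Gen.g (6784 + r)) :=
  edges_tab (sm gg) Qf (tab Gen.g) 6784 [(6784, 7200), (6785, 6785), (6786, 7333), (6787, 7357), (6788, 7339), (6789, 7501), (6790, 7349), (6791, 7350), (6792, 7145), (6793, 7509), (6794, 5794), (6795, 7239), (6796, 7599), (6797, 7169), (6798, 7402), (6799, 7521), (6800, 7522), (6801, 7413), (6802, 7414), (6803, 7121), (6804, 7477), (6805, 7478), (6806, 7431), (6807, 7765), (6808, 7433), (6809, 7434), (6810, 5807), (6811, 7769), (6812, 7490), (6813, 7773), (6814, 7535), (6815, 7536), (6816, 5811), (6817, 7778), (6818, 7539), (6819, 7540), (6820, 5815), (6821, 7782), (6822, 7588), (6823, 7655), (6824, 5817), (6825, 7653), (6826, 7786), (6827, 6827), (6828, 6828), (6829, 5821), (6830, 7789), (6831, 6831), (6832, 6832), (6833, 5825), (6834, 7791), (6835, 6835), (6836, 7157), (6837, 7480), (6838, 5831), (6839, 7796), (6840, 7493), (6841, 5834), (6842, 7799), (6843, 7591), (6844, 5837), (6845, 7202), (6846,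 7237), (6847, 6847)]
    ⟨e3 q6784 (flp_g L149512) q7200, e3 q6785 L145508 q6785, e3 q6786 (flp_g L150799) q7333, e3 q6787 (flp_g L151005) q7357, e3 q6788 (flp_g L150850) q7339, e3 q6789 (flp_g L152197) q7501, e3 q6790 (flp_g L150944) q7349, e3 q6791 (flp_g L150950) q7350, e3 q6792 (flp_g L148937) q7145, e3 q6793 (flp_g L152256) q7509, e3 q6794 L145571 q5794, e3 q6795 (flp_g L149938) q7239, e3 q6796 (flp_g L153078) q7599, e3 q6797 (flp_g L149171) q7169, e3 q6798 (flp_g L151376) q7402, e3 q6799 (flp_g L152356) q7521, e3 q6800 (flp_g L152367) q7522, e3 q6801 (flp_g L151462) q7413, e3 q6802 (flp_g L151472) q7414, e3 q6803 (flp_g L148682) q7121, e3 q6804 (flp_g L151988) q7477, e3 q6805 (flp_g L151994) q7478, e3 q6806 (flp_g L151598) q7431, e3 q6807 L154519 q7765, e3 q6808 (flp_g L151618) q7433, e3 q6809 (flp_g L151626) q7434, e3 q6810 (flp_g L145658) q5807, e3 q6811 (flp_g L154545) q7769, e3 q6812 (flp_g L152105) q7490, e3 q6813 L154567 q7773, e3 q6814 (flp_g L152477) q7535, e3 q6815 (flp_g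 L152488) q7536, e3 q6816 (flp_g L145699) q5811, e3 q6817 (flp_g L154609) q7778, e3 q6818 (flp_g L152517) q7539, e3 q6819 (flp_g L152525) q7540, e3 q6820 L145742 q5815, e3 q6821 (flp_g L154640) q7782, e3 q6822 (flp_g L152982) q7588, e3 q6823 (flp_g L153650) q7655, e3 q6824 (flp_g L145764) q5817, e3 q6825 L153626 q7653, e3 q6826 (flp_g L154668) q7786, e3 q6827 L145797 q6827, e3 q6828 L145810 q6828, e3 q6829 L145822 q5821, e3 q6830 (flp_g L154704) q7789, e3 q6831 L145839 q6831, e3 q6832 L145855 q6832, e3 q6833 L145866 q5825, e3 q6834 (flp_g L154725) q7791, e3 q6835 L145882 q6835, e3 q6836 (flp_g L149075) q7157, e3 q6837 (flp_g L152015) q7480, e3 q6838 L145911 q5831, e3 q6839 (flp_g L154765) q7796, e3 q6840 (flp_g L152131) q7493, e3 q6841 L145933 q5834, e3 q6842 (flp_g L154785) q7799, e3 q6843 (flp_g L153008) q7591, e3 q6844 L145955 q5837, e3 q6845 (flp_g L149543) q7202, e3 q6846 (flp_g L149918) q7237, e3 q6847 L145978 q6847, trivial⟩ (by decide +kernel)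

theorem ce_g_107 : ∀ r, r < 64 → sm gg (Qf (6848 + r)) = Qf (tab Gen.g (6848 + r)) :=
  edges_tab (sm gg) Qf (tab Gen.g) 6848 [(6848, 7160), (6849, 7503), (6850, 5842), (6851, 7805), (6852, 7512), (6853, 5845), (6854, 7024), (6855, 7238), (6856, 7167), (6857, 6857), (6858, 7810), (6859, 7524), (6860, 7525), (6861, 7556), (6862, 5853), (6863, 7554), (6864, 7814), (6865, 7545), (6866, 7546), (6867, 5857), (6868, 7819), (6869, 7549), (6870, 7550), (6871, 5861), (6872, 7823), (6873, 7553), (6874, 7681), (6875, 5866), (6876, 7679), (6877, 7828), (6878, 6878), (6879, 6879), (6880, 5870), (6881, 7831), (6882, 6882), (6883, 6883), (6884, 5874), (6885, 6886), (6886, 6885), (6887, 6887), (6888, 5877), (6889, 6982), (6890, 6910), (6891, 7592), (6892, 5880), (6893, 5881), (6894, 6895), (6895, 6894), (6896, 6896), (6897, 7133), (6898, 5890), (6899, 5929), (6900, 6725), (6901, 6585), (6902, 7673), (6903, 7838), (6904, 5897), (6905, 7839), (6906, 5903), (6907, 6608), (6908, 6605), (6909, 5905), (6910,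 6890), (6911, 5910)]
    ⟨e3 q6848 (flp_g L149102) q7160, e3 q6849 (flp_g L152211) q7503, e3 q6850 L145999 q5842, e3 q6851 (flp_g L154835) q7805, e3 q6852 (flp_g L152276) q7512, e3 q6853 L146013 q5845, e3 q6854 (flp_g L147771) q7024, e3 q6855 (flp_g L149927) q7238, e3 q6856 (flp_g L149154) q7167, e3 q6857 L146043 q6857, e3 q6858 L154858 q7810, e3 q6859 (flp_g L152387) q7524, e3 q6860 (flp_g L152394) q7525, e3 q6861 (flp_g L152679) q7556, e3 q6862 (flp_g L146077) q5853, e3 q6863 L152655 q7554, e3 q6864 (flp_g L154899) q7814, e3 q6865 (flp_g L152574) q7545, e3 q6866 (flp_g L152581) q7546, e3 q6867 L146113 q5857, e3 q6868 (flp_g L154931) q7819, e3 q6869 (flp_g L152605) q7549, e3 q6870 (flp_g L152612) q7550, e3 q6871 L146143 q5861, e3 q6872 (flp_g L154957) q7823, e3 q6873 (flp_g L152640) q7553, e3 q6874 (flp_g L153883) q7681, e3 q6875 L146174 q5866, e3 q6876 (flp_g L153861) q7679, e3 q6877 (flp_g L154994) q7828, e3 q6878 L146197 q6878, e3 q6879 L146207 q6879, e3 q6880 L146222 q5870, e3 q6881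 (flp_g L155025) q7831, e3 q6882 L146234 q6882, e3 q6883 L146251 q6883, e3 q6884 L146263 q5874, e3 q6885 L146343 q6886, e3 q6886 (flp_g L146343) q6885, e3 q6887 L146287 q6887, e3 q6888 L146298 q5877, e3 q6889 (flp_g L147294) q6982, e3 q6890 (flp_g L146540) q6910, e3 q6891 (flp_g L153016) q7592, e3 q6892 L146325 q5880, e3 q6893 L146333 q5881, e3 q6894 (flp_g L146365) q6895, e3 q6895 L146365 q6894, e3 q6896 L146377 q6896, e3 q6897 (flp_g L148795) q7133, e3 q6898 L146393 q5890, e3 q6899 L146408 q5929, e3 q6900 L146424 q6725, e3 q6901 L146435 q6585, e3 q6902 (flp_g L153807) q7673, e3 q6903 L155096 q7838, e3 q6904 (flp_g L146454) q5897, e3 q6905 (flp_g L155116) q7839, e3 q6906 L146481 q5903, e3 q6907 L146497 q6608, e3 q6908 L146511 q6605, e3 q6909 L146526 q5905, e3 q6910 L146540 q6890, e3 q6911 L146555 q5910, trivial⟩ (by decide +kernel)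

theorem ce_g_108 : ∀ r, r < 64 → sm gg (Qf (6912 + r)) = Qf (tab Gen.g (6912 + r)) :=
  edges_tab (sm gg) Qf (tab Gen.g) 6912 [(6912, 6649), (6913, 6475), (6914, 6116), (6915, 6329), (6916, 6021), (6917, 5927), (6918, 5928), (6919, 7803), (6920, 7375), (6921, 7632), (6922, 6258), (6923, 5933), (6924, 5934), (6925, 7848), (6926, 7849), (6927, 7850), (6928, 6264), (6929, 6265), (6930, 5938), (6931, 5939), (6932, 5940), (6933, 7860), (6934, 7861), (6935, 7862), (6936, 7872), (6937, 7863), (6938, 7864), (6939, 5946), (6940, 5947), (6941, 7359), (6942, 7879), (6943, 7629), (6944, 7630), (6945, 5945), (6946, 7882), (6947, 7875), (6948, 7886), (6949, 5949), (6950, 7887), (6951, 5953), (6952, 7888), (6953, 6296), (6954, 6297), (6955, 5958), (6956, 5959), (6957, 5960), (6958, 7890), (6959, 6311), (6960, 7891), (6961, 6317), (6962, 7892), (6963, 7893), (6964, 6245), (6965, 6306), (6966, 6307), (6967, 5966), (6968, 5968), (6969, 5970), (6970, 5971), (6971, 7905), (6972, 6693), (6973, 7906), (6974,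 6303), (6975, 6505)]
    ⟨e3 q6912 L146566 q6649, e3 q6913 L146580 q6475, e3 q6914 L146591 q6116, e3 q6915 L146607 q6329, e3 q6916 L146618 q6021, e3 q6917 L146634 q5927, e3 q6918 L146646 q5928, e3 q6919 (flp_g L154817) q7803, e3 q6920 (flp_g L151144) q7375, e3 q6921 (flp_g L153446) q7632, e3 q6922 L146690 q6258, e3 q6923 L146698 q5933, e3 q6924 L146709 q5934, e3 q6925 (flp_g L155218) q7848, e3 q6926 (flp_g L155228) q7849, e3 q6927 (flp_g L155243) q7850, e3 q6928 L146748 q6264, e3 q6929 L146759 q6265, e3 q6930 L146767 q5938, e3 q6931 L146775 q5939, e3 q6932 L146789 q5940, e3 q6933 (flp_g L155338) q7860, e3 q6934 (flp_g L155352) q7861, e3 q6935 (flp_g L155362) q7862, e3 q6936 L155442 q7872, e3 q6937 (flp_g L155376) q7863, e3 q6938 (flp_g L155384) q7864, e3 q6939 L146851 q5946, e3 q6940 L146860 q5947, e3 q6941 (flp_g L151022) q7359, e3 q6942 L155512 q7879, e3 q6943 (flp_g L153411) q7629, e3 q6944 (flp_g L153422) q7630, e3 q6945 (flp_g L146895) q5945, e3 q6946 (flp_g L155554) q7882, e3 q6947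 (flp_g L155486) q7875, e3 q6948 L155586 q7886, e3 q6949 (flp_g L146933) q5949, e3 q6950 (flp_g L155602) q7887, e3 q6951 L146958 q5953, e3 q6952 (flp_g L155613) q7888, e3 q6953 L146975 q6296, e3 q6954 L146992 q6297, e3 q6955 L147002 q5958, e3 q6956 L147015 q5959, e3 q6957 L147028 q5960, e3 q6958 (flp_g L155637) q7890, e3 q6959 L147043 q6311, e3 q6960 (flp_g L155654) q7891, e3 q6961 L147071 q6317, e3 q6962 (flp_g L155667) q7892, e3 q6963 (flp_g L155673) q7893, e3 q6964 L147096 q6245, e3 q6965 L147110 q6306, e3 q6966 L147125 q6307, e3 q6967 L147133 q5966, e3 q6968 L147145 q5968, e3 q6969 L147159 q5970, e3 q6970 L147165 q5971, e3 q6971 (flp_g L155817) q7905, e3 q6972 L147181 q6693, e3 q6973 (flp_g L155831) q7906, e3 q6974 L147205 q6303, e3 q6975 L147217 q6505, trivial⟩ (by decide +kernel)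

theorem ce_g_109 : ∀ r, r < 64 → sm gg (Qf (6976 + r)) = Qf (tab Gen.g (6976 + r)) :=
  edges_tab (sm gg) Qf (tab Gen.g) 6976 [(6976, 7907), (6977, 5969), (6978, 7917), (6979, 7908), (6980, 5976), (6981, 5975), (6982, 6889), (6983, 7920), (6984, 5978), (6985, 7842), (6986, 6239), (6987, 6250), (6988, 6207), (6989, 6253), (6990, 5986), (6991, 5987), (6992, 5988), (6993, 7925), (6994, 7926), (6995, 7927), (6996, 6336), (6997, 5996), (6998, 5998), (6999, 5999), (7000, 6402), (7001, 6411), (7002, 6349), (7003, 7932), (7004, 6355), (7005, 7933), (7006, 6246), (7007, 6345), (7008, 6346), (7009, 6007), (7010, 6009), (7011, 6012), (7012, 6015), (7013, 6477), (7014, 7942), (7015, 6363), (7016, 7943), (7017, 6343), (7018, 6527), (7019, 7944), (7020, 6014), (7021, 7952), (7022, 7945), (7023, 6019), (7024, 6854), (7025, 6618), (7026, 6030), (7027, 6029), (7028, 6031), (7029, 7923), (7030, 7955), (7031, 6158), (7032, 6035), (7033, 6414), (7034, 6415), (7035, 6038), (7036, 6039), (7037, 7960), (7038,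 7877), (7039, 7961)]
    ⟨e3 q6976 (flp_g L155841) q7907, e3 q6977 (flp_g L147227) q5969, e3 q6978 (flp_g L155957) q7917, e3 q6979 (flp_g L155853) q7908, e3 q6980 L147267 q5976, e3 q6981 L147280 q5975, e3 q6982 L147294 q6889, e3 q6983 (flp_g L155981) q7920, e3 q6984 L147313 q5978, e3 q6985 (flp_g L155154) q7842, e3 q6986 L147331 q6239, e3 q6987 L147346 q6250, e3 q6988 L147363 q6207, e3 q6989 L147377 q6253, e3 q6990 L147390 q5986, e3 q6991 L147401 q5987, e3 q6992 L147413 q5988, e3 q6993 (flp_g L156051) q7925, e3 q6994 (flp_g L156061) q7926, e3 q6995 (flp_g L156070) q7927, e3 q6996 L147452 q6336, e3 q6997 L147465 q5996, e3 q6998 L147478 q5998, e3 q6999 L147484 q5999, e3 q7000 L147499 q6402, e3 q7001 L147514 q6411, e3 q7002 L147528 q6349, e3 q7003 (flp_g L156132) q7932, e3 q7004 L147549 q6355, e3 q7005 (flp_g L156146) q7933, e3 q7006 L147571 q6246, e3 q7007 L147584 q6345, e3 q7008 L147592 q6346, e3 q7009 L147606 q6007, e3 q7010 L147622 q6009, e3 q7011 L147630 q6012, e3 q7012 L147642 q6015,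 e3 q7013 L147650 q6477, e3 q7014 (flp_g L156267) q7942, e3 q7015 L147680 q6363, e3 q7016 (flp_g L156279) q7943, e3 q7017 L147702 q6343, e3 q7018 L147710 q6527, e3 q7019 (flp_g L156287) q7944, e3 q7020 L147734 q6014, e3 q7021 (flp_g L156399) q7952, e3 q7022 (flp_g L156301) q7945, e3 q7023 L147758 q6019, e3 q7024 L147771 q6854, e3 q7025 L147782 q6618, e3 q7026 L147793 q6030, e3 q7027 L147810 q6029, e3 q7028 L147816 q6031, e3 q7029 (flp_g L156018) q7923, e3 q7030 (flp_g L156435) q7955, e3 q7031 L147849 q6158, e3 q7032 L147864 q6035, e3 q7033 L147877 q6414, e3 q7034 L147890 q6415, e3 q7035 L147896 q6038, e3 q7036 L147905 q6039, e3 q7037 (flp_g L156488) q7960, e3 q7038 (flp_g L155503) q7877, e3 q7039 (flp_g L156498) q7961, trivial⟩ (by decide +kernel)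

theorem ce_g_110 : ∀ r, r < 64 → sm gg (Qf (7040 + r)) = Qf (tab Gen.g (7040 + r)) :=
  edges_tab (sm gg) Qf (tab Gen.g) 7040 [(7040, 6421), (7041, 6396), (7042, 6422), (7043, 6044), (7044, 6045), (7045, 6046), (7046, 7971), (7047, 7972), (7048, 7973), (7049, 7983), (7050, 7974), (7051, 7975), (7052, 6374), (7053, 6400), (7054, 6401), (7055, 6052), (7056, 6053), (7057, 6054), (7058, 7997), (7059, 6056), (7060, 6057), (7061, 7990), (7062, 7991), (7063, 7992), (7064, 7993), (7065, 8009), (7066, 7995), (7067, 7996), (7068, 6055), (7069, 8013), (7070, 7999), (7071, 6063), (7072, 8018), (7073, 6065), (7074, 6066), (7075, 6060), (7076, 8021), (7077, 6069), (7078, 8025), (7079, 7844), (7080, 8017), (7081, 6064), (7082, 8030), (7083, 8020), (7084, 7605), (7085, 6068), (7086, 8034), (7087, 8023), (7088, 7651), (7089, 6070), (7090, 7649), (7091, 8038), (7092, 6074), (7093, 8039), (7094, 6078), (7095, 7841), (7096, 6234), (7097, 6397), (7098, 6086), (7099, 6088), (7100, 6090), (7101, 6091), (7102,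 6377), (7103, 6750)]
    ⟨e3 q7040 L147937 q6421, e3 q7041 L147947 q6396, e3 q7042 L147959 q6422, e3 q7043 L147965 q6044, e3 q7044 L147973 q6045, e3 q7045 L147986 q6046, e3 q7046 (flp_g L156587) q7971, e3 q7047 (flp_g L156603) q7972, e3 q7048 (flp_g L156613) q7973, e3 q7049 L156693 q7983, e3 q7050 (flp_g L156624) q7974, e3 q7051 (flp_g L156630) q7975, e3 q7052 L148038 q6374, e3 q7053 L148046 q6400, e3 q7054 L148061 q6401, e3 q7055 L148069 q6052, e3 q7056 L148077 q6053, e3 q7057 L148083 q6054, e3 q7058 L156838 q7997, e3 q7059 L148105 q6056, e3 q7060 L148111 q6057, e3 q7061 (flp_g L156774) q7990, e3 q7062 (flp_g L156788) q7991, e3 q7063 (flp_g L156804) q7992, e3 q7064 (flp_g L156808) q7993, e3 q7065 L156935 q8009, e3 q7066 (flp_g L156830) q7995, e3 q7067 (flp_g L156836) q7996, e3 q7068 (flp_g L148157) q6055, e3 q7069 (flp_g L156969) q8013, e3 q7070 (flp_g L156870) q7999, e3 q7071 L148184 q6063, e3 q7072 L157001 q8018, e3 q7073 L148202 q6065, e3 q7074 L148210 q6066, e3 q7075 (flp_g L148213)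 q6060, e3 q7076 (flp_g L157041) q8021, e3 q7077 L148238 q6069, e3 q7078 L157071 q8025, e3 q7079 (flp_g L155172) q7844, e3 q7080 (flp_g L156999) q8017, e3 q7081 (flp_g L148255) q6064, e3 q7082 (flp_g L157103) q8030, e3 q7083 (flp_g L157029) q8020, e3 q7084 (flp_g L153141) q7605, e3 q7085 L148294 q6068, e3 q7086 (flp_g L157135) q8034, e3 q7087 (flp_g L157061) q8023, e3 q7088 (flp_g L153612) q7651, e3 q7089 (flp_g L148317) q6070, e3 q7090 L153588 q7649, e3 q7091 (flp_g L157165) q8038, e3 q7092 L148348 q6074, e3 q7093 (flp_g L157173) q8039, e3 q7094 L148363 q6078, e3 q7095 (flp_g L155140) q7841, e3 q7096 L148386 q6234, e3 q7097 L148402 q6397, e3 q7098 L148412 q6086, e3 q7099 L148430 q6088, e3 q7100 L148443 q6090, e3 q7101 L148449 q6091, e3 q7102 L148461 q6377, e3 q7103 L148475 q6750, trivial⟩ (by decide +kernel)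

theorem ce_g_111 : ∀ r, r < 64 → sm gg (Qf (7104 + r)) = Qf (tab Gen.g (7104 + r)) :=
  edges_tab (sm gg) Qf (tab Gen.g) 7104 [(7104, 8041), (7105, 6518), (7106, 6778), (7107, 8042), (7108, 6089), (7109, 8050), (7110, 8043), (7111, 6403), (7112, 6404), (7113, 6100), (7114, 6101), (7115, 6102), (7116, 6104), (7117, 6105), (7118, 6097), (7119, 8058), (7120, 6108), (7121, 6803), (7122, 8054), (7123, 8064), (7124, 8055), (7125, 8056), (7126, 6103), (7127, 8067), (7128, 8057), (7129, 6107), (7130, 8070), (7131, 8060), (7132, 6110), (7133, 6897), (7134, 6114), (7135, 6113), (7136, 7930), (7137, 8074), (7138, 6120), (7139, 6410), (7140, 6130), (7141, 6133), (7142, 6405), (7143, 6413), (7144, 6521), (7145, 6792), (7146, 6132), (7147, 8081), (7148, 8077), (7149, 6412), (7150, 6144), (7151, 6147), (7152, 6150), (7153, 6141), (7154, 8087), (7155, 6153), (7156, 6482), (7157, 6836), (7158, 8085), (7159, 6512), (7160, 6848), (7161, 6149), (7162, 8094), (7163, 8086), (7164, 6152), (7165, 7951), (7166,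 8089), (7167, 6856)]
    ⟨e3 q7104 (flp_g L157204) q8041, e3 q7105 L148501 q6518, e3 q7106 L148513 q6778, e3 q7107 (flp_g L157216) q8042, e3 q7108 (flp_g L148525) q6089, e3 q7109 (flp_g L157321) q8050, e3 q7110 (flp_g L157232) q8043, e3 q7111 L148566 q6403, e3 q7112 L148576 q6404, e3 q7113 L148586 q6100, e3 q7114 L148600 q6101, e3 q7115 L148615 q6102, e3 q7116 L148628 q6104, e3 q7117 L148638 q6105, e3 q7118 (flp_g L148642) q6097, e3 q7119 (flp_g L157419) q8058, e3 q7120 L148674 q6108, e3 q7121 L148682 q6803, e3 q7122 (flp_g L157368) q8054, e3 q7123 L157475 q8064, e3 q7124 (flp_g L157381) q8055, e3 q7125 (flp_g L157389) q8056, e3 q7126 (flp_g L148717) q6103, e3 q7127 (flp_g L157514) q8067, e3 q7128 (flp_g L157403) q8057, e3 q7129 L148757 q6107, e3 q7130 (flp_g L157537) q8070, e3 q7131 (flp_g L157437) q8060, e3 q7132 L148783 q6110, e3 q7133 L148795 q6897, e3 q7134 L148802 q6114, e3 q7135 L148816 q6113, e3 q7136 (flp_g L156099) q7930, e3 q7137 (flp_g L157570) q8074, e3 q7138 L148845 q6120,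 e3 q7139 L148857 q6410, e3 q7140 L148873 q6130, e3 q7141 L148887 q6133, e3 q7142 L148901 q6405, e3 q7143 L148911 q6413, e3 q7144 L148927 q6521, e3 q7145 L148937 q6792, e3 q7146 L148952 q6132, e3 q7147 (flp_g L157653) q8081, e3 q7148 (flp_g L157596) q8077, e3 q7149 L148977 q6412, e3 q7150 L148991 q6144, e3 q7151 L149001 q6147, e3 q7152 L149017 q6150, e3 q7153 L149033 q6141, e3 q7154 (flp_g L157723) q8087, e3 q7155 L149049 q6153, e3 q7156 L149066 q6482, e3 q7157 L149075 q6836, e3 q7158 (flp_g L157694) q8085, e3 q7159 L149094 q6512, e3 q7160 L149102 q6848, e3 q7161 L149117 q6149, e3 q7162 (flp_g L157805) q8094, e3 q7163 (flp_g L157706) q8086, e3 q7164 L149134 q6152, e3 q7165 (flp_g L156381) q7951, e3 q7166 (flp_g L157745) q8089, e3 q7167 L149154 q6856, trivial⟩ (by decide +kernel)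

theorem ce_g_112 : ∀ r, r < 64 → sm gg (Qf (7168 + r)) = Qf (tab Gen.g (7168 + r)) :=
  edges_tab (sm gg) Qf (tab Gen.g) 7168 [(7168, 6159), (7169, 6797), (7170, 8100), (7171, 6532), (7172, 6535), (7173, 6165), (7174, 6166), (7175, 6167), (7176, 8103), (7177, 8104), (7178, 8105), (7179, 8114), (7180, 8107), (7181, 8108), (7182, 6536), (7183, 6173), (7184, 6174), (7185, 6175), (7186, 6176), (7187, 6382), (7188, 6222), (7189, 8117), (7190, 7580), (7191, 7581), (7192, 6620), (7193, 6188), (7194, 6385), (7195, 6225), (7196, 6198), (7197, 6199), (7198, 6663), (7199, 7473), (7200, 6784), (7201, 6408), (7202, 6845), (7203, 6381), (7204, 6383), (7205, 6375), (7206, 6378), (7207, 6215), (7208, 6217), (7209, 8127), (7210, 6370), (7211, 8128), (7212, 6371), (7213, 8129), (7214, 6368), (7215, 6369), (7216, 8119), (7217, 8120), (7218, 7968), (7219, 6406), (7220, 6230), (7221, 6231), (7222, 6233), (7223, 7901), (7224, 8138), (7225, 8139), (7226, 6398), (7227, 6240), (7228, 6241), (7229, 7924), (7230,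 8143), (7231, 8144)]
    ⟨e3 q7168 L149161 q6159, e3 q7169 L149171 q6797, e3 q7170 (flp_g L157861) q8100, e3 q7171 L149190 q6532, e3 q7172 L149201 q6535, e3 q7173 L149210 q6165, e3 q7174 L149219 q6166, e3 q7175 L149227 q6167, e3 q7176 (flp_g L157892) q8103, e3 q7177 (flp_g L157903) q8104, e3 q7178 (flp_g L157918) q8105, e3 q7179 L157984 q8114, e3 q7180 (flp_g L157930) q8107, e3 q7181 (flp_g L157935) q8108, e3 q7182 L149288 q6536, e3 q7183 L149296 q6173, e3 q7184 L149313 q6174, e3 q7185 L149326 q6175, e3 q7186 L149340 q6176, e3 q7187 L149350 q6382, e3 q7188 L149365 q6222, e3 q7189 (flp_g L158021) q8117, e3 q7190 (flp_g L152894) q7580, e3 q7191 (flp_g L152907) q7581, e3 q7192 L149402 q6620, e3 q7193 L149419 q6188, e3 q7194 L149433 q6385, e3 q7195 L149446 q6225, e3 q7196 L149460 q6198, e3 q7197 L149476 q6199, e3 q7198 L149489 q6663, e3 q7199 (flp_g L151945) q7473, e3 q7200 L149512 q6784, e3 q7201 L149528 q6408, e3 q7202 L149543 q6845, e3 q7203 L149555 q6381, e3 q7204 L149572 q6383, e3 q7205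 L149584 q6375, e3 q7206 L149600 q6378, e3 q7207 L149608 q6215, e3 q7208 L149624 q6217, e3 q7209 (flp_g L158160) q8127, e3 q7210 L149640 q6370, e3 q7211 (flp_g L158176) q8128, e3 q7212 L149664 q6371, e3 q7213 (flp_g L158186) q8129, e3 q7214 L149682 q6368, e3 q7215 L149698 q6369, e3 q7216 (flp_g L158045) q8119, e3 q7217 (flp_g L158064) q8120, e3 q7218 (flp_g L156555) q7968, e3 q7219 L149738 q6406, e3 q7220 L149750 q6230, e3 q7221 L149764 q6231, e3 q7222 L149772 q6233, e3 q7223 (flp_g L155766) q7901, e3 q7224 (flp_g L158290) q8138, e3 q7225 (flp_g L158300) q8139, e3 q7226 L149808 q6398, e3 q7227 L149820 q6240, e3 q7228 L149830 q6241, e3 q7229 (flp_g L156035) q7924, e3 q7230 (flp_g L158340) q8143, e3 q7231 (flp_g L158347) q8144, trivial⟩ (by decide +kernel)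

theorem ce_g_113 : ∀ r, r < 64 → sm gg (Qf (7232 + r)) = Qf (tab Gen.g (7232 + r)) :=
  edges_tab (sm gg) Qf (tab Gen.g) 7232 [(7232, 6247), (7233, 7902), (7234, 7940), (7235, 8148), (7236, 6252), (7237, 6846), (7238, 6855), (7239, 6795), (7240, 7631), (7241, 6256), (7242, 6257), (7243, 8154), (7244, 8155), (7245, 8156), (7246, 7846), (7247, 7847), (7248, 6261), (7249, 6263), (7250, 8165), (7251, 6694), (7252, 8166), (7253, 7911), (7254, 6463), (7255, 8167), (7256, 7857), (7257, 7858), (7258, 7859), (7259, 6269), (7260, 6270), (7261, 6271), (7262, 7895), (7263, 6273), (7264, 6274), (7265, 6747), (7266, 8181), (7267, 8182), (7268, 8183), (7269, 8198), (7270, 8185), (7271, 8186), (7272, 6272), (7273, 8202), (7274, 8188), (7275, 6279), (7276, 8208), (7277, 6281), (7278, 6277), (7279, 8210), (7280, 8212), (7281, 8206), (7282, 8207), (7283, 6280), (7284, 8217), (7285, 6673), (7286, 6667), (7287, 6284), (7288, 8221), (7289, 6430), (7290, 7617), (7291, 6286), (7292, 7615), (7293, 8225), (7294,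 6290), (7295, 8226)]
    ⟨e3 q7232 L149867 q6247, e3 q7233 (flp_g L155784) q7902, e3 q7234 (flp_g L156235) q7940, e3 q7235 (flp_g L158391) q8148, e3 q7236 L149901 q6252, e3 q7237 L149918 q6846, e3 q7238 L149927 q6855, e3 q7239 L149938 q6795, e3 q7240 (flp_g L153436) q7631, e3 q7241 L149959 q6256, e3 q7242 L149970 q6257, e3 q7243 (flp_g L158458) q8154, e3 q7244 (flp_g L158467) q8155, e3 q7245 (flp_g L158478) q8156, e3 q7246 (flp_g L155194) q7846, e3 q7247 (flp_g L155210) q7847, e3 q7248 L150022 q6261, e3 q7249 L150036 q6263, e3 q7250 (flp_g L158542) q8165, e3 q7251 L150050 q6694, e3 q7252 (flp_g L158558) q8166, e3 q7253 (flp_g L155891) q7911, e3 q7254 L150080 q6463, e3 q7255 (flp_g L158568) q8167, e3 q7256 (flp_g L155309) q7857, e3 q7257 (flp_g L155317) q7858, e3 q7258 (flp_g L155334) q7859, e3 q7259 L150117 q6269, e3 q7260 L150129 q6270, e3 q7261 L150139 q6271, e3 q7262 (flp_g L155698) q7895, e3 q7263 L150161 q6273, e3 q7264 L150169 q6274, e3 q7265 L150177 q6747, e3 q7266 (flp_g L158699)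 q8181, e3 q7267 (flp_g L158711) q8182, e3 q7268 (flp_g L158717) q8183, e3 q7269 L158840 q8198, e3 q7270 (flp_g L158737) q8185, e3 q7271 (flp_g L158745) q8186, e3 q7272 (flp_g L150219) q6272, e3 q7273 (flp_g L158874) q8202, e3 q7274 (flp_g L158765) q8188, e3 q7275 L150250 q6279, e3 q7276 L158923 q8208, e3 q7277 L150271 q6281, e3 q7278 (flp_g L150275) q6277, e3 q7279 (flp_g L158956) q8210, e3 q7280 L158967 q8212, e3 q7281 (flp_g L158910) q8206, e3 q7282 (flp_g L158921) q8207, e3 q7283 (flp_g L150318) q6280, e3 q7284 (flp_g L159019) q8217, e3 q7285 L150349 q6673, e3 q7286 L150360 q6667, e3 q7287 L150374 q6284, e3 q7288 (flp_g L159064) q8221, e3 q7289 L150394 q6430, e3 q7290 (flp_g L153277) q7617, e3 q7291 (flp_g L150405) q6286, e3 q7292 L153255 q7615, e3 q7293 (flp_g L159105) q8225, e3 q7294 L150439 q6290, e3 q7295 (flp_g L159115) q8226, trivial⟩ (by decide +kernel)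

theorem ce_g_114 : ∀ r, r < 64 → sm gg (Qf (7296 + r)) = Qf (tab Gen.g (7296 + r)) :=
  edges_tab (sm gg) Qf (tab Gen.g) 7296 [(7296, 6294), (7297, 7840), (7298, 7889), (7299, 6300), (7300, 6302), (7301, 6305), (7302, 6770), (7303, 6703), (7304, 8228), (7305, 6506), (7306, 8229), (7307, 7914), (7308, 6501), (7309, 7903), (7310, 7904), (7311, 6315), (7312, 6316), (7313, 6318), (7314, 6319), (7315, 7897), (7316, 6322), (7317, 6774), (7318, 6775), (7319, 7854), (7320, 8237), (7321, 8238), (7322, 7899), (7323, 8239), (7324, 8240), (7325, 6321), (7326, 8250), (7327, 6487), (7328, 6324), (7329, 6326), (7330, 7946), (7331, 6334), (7332, 6335), (7333, 6786), (7334, 8252), (7335, 8253), (7336, 7931), (7337, 6342), (7338, 6771), (7339, 6788), (7340, 6528), (7341, 8257), (7342, 7950), (7343, 7941), (7344, 6356), (7345, 6357), (7346, 7936), (7347, 6776), (7348, 6777), (7349, 6790), (7350, 6791), (7351, 7938), (7352, 8261), (7353, 8262), (7354, 6359), (7355, 7948), (7356, 6367), (7357, 6787), (7358,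 8132), (7359, 6941)]
    ⟨e3 q7296 L150459 q6294, e3 q7297 (flp_g L155131) q7840, e3 q7298 (flp_g L155628) q7889, e3 q7299 L150486 q6300, e3 q7300 L150501 q6302, e3 q7301 L150509 q6305, e3 q7302 L150518 q6770, e3 q7303 L150528 q6703, e3 q7304 (flp_g L159138) q8228, e3 q7305 L150549 q6506, e3 q7306 (flp_g L159148) q8229, e3 q7307 (flp_g L155921) q7914, e3 q7308 L150573 q6501, e3 q7309 (flp_g L155797) q7903, e3 q7310 (flp_g L155805) q7904, e3 q7311 L150598 q6315, e3 q7312 L150611 q6316, e3 q7313 L150622 q6318, e3 q7314 L150630 q6319, e3 q7315 (flp_g L155725) q7897, e3 q7316 L150646 q6322, e3 q7317 L150658 q6774, e3 q7318 L150669 q6775, e3 q7319 (flp_g L155280) q7854, e3 q7320 (flp_g L159223) q8237, e3 q7321 (flp_g L159231) q8238, e3 q7322 (flp_g L155748) q7899, e3 q7323 (flp_g L159241) q8239, e3 q7324 (flp_g L159249) q8240, e3 q7325 L150716 q6321, e3 q7326 (flp_g L159328) q8250, e3 q7327 L150728 q6487, e3 q7328 L150746 q6324, e3 q7329 L150759 q6326, e3 q7330 (flp_g L156321) q7946, e3 q7331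 L150780 q6334, e3 q7332 L150787 q6335, e3 q7333 L150799 q6786, e3 q7334 (flp_g L159348) q8252, e3 q7335 (flp_g L159357) q8253, e3 q7336 (flp_g L156116) q7931, e3 q7337 L150831 q6342, e3 q7338 L150842 q6771, e3 q7339 L150850 q6788, e3 q7340 L150860 q6528, e3 q7341 (flp_g L159385) q8257, e3 q7342 (flp_g L156369) q7950, e3 q7343 (flp_g L156251) q7941, e3 q7344 L150895 q6356, e3 q7345 L150903 q6357, e3 q7346 (flp_g L156187) q7936, e3 q7347 L150926 q6776, e3 q7348 L150934 q6777, e3 q7349 L150944 q6790, e3 q7350 L150950 q6791, e3 q7351 (flp_g L156212) q7938, e3 q7352 (flp_g L159424) q8261, e3 q7353 (flp_g L159437) q8262, e3 q7354 L150975 q6359, e3 q7355 (flp_g L156341) q7948, e3 q7356 L150995 q6367, e3 q7357 L151005 q6787, e3 q7358 (flp_g L158216) q8132, e3 q7359 L151022 q6941, trivial⟩ (by decide +kernel)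

theorem ce_g_115 : ∀ r, r < 64 → sm gg (Qf (7360 + r)) = Qf (tab Gen.g (7360 + r)) :=
  edges_tab (sm gg) Qf (tab Gen.g) 7360 [(7360, 8136), (7361, 7969), (7362, 8133), (7363, 8135), (7364, 6376), (7365, 6379), (7366, 7986), (7367, 7987), (7368, 8123), (7369, 7976), (7370, 8125), (7371, 8274), (7372, 8044), (7373, 8126), (7374, 8109), (7375, 6920), (7376, 8124), (7377, 8118), (7378, 6624), (7379, 8292), (7380, 6386), (7381, 8295), (7382, 8296), (7383, 6390), (7384, 8297), (7385, 6394), (7386, 8121), (7387, 7970), (7388, 8040), (7389, 7894), (7390, 7988), (7391, 7989), (7392, 7934), (7393, 8053), (7394, 8078), (7395, 7935), (7396, 8084), (7397, 7958), (7398, 7959), (7399, 6418), (7400, 6419), (7401, 6420), (7402, 6798), (7403, 8305), (7404, 8306), (7405, 8316), (7406, 8307), (7407, 8308), (7408, 6427), (7409, 6428), (7410, 7909), (7411, 6431), (7412, 6744), (7413, 6801), (7414, 6802), (7415, 8319), (7416, 8331), (7417, 8223), (7418, 8321), (7419, 6429), (7420, 8335), (7421, 8204), (7422,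 6440), (7423, 8340)]
    ⟨e3 q7360 (flp_g L158266) q8136, e3 q7361 (flp_g L156565) q7969, e3 q7362 (flp_g L158232) q8133, e3 q7363 (flp_g L158250) q8135, e3 q7364 L151066 q6376, e3 q7365 L151072 q6379, e3 q7366 (flp_g L156729) q7986, e3 q7367 (flp_g L156743) q7987, e3 q7368 (flp_g L158107) q8123, e3 q7369 (flp_g L156642) q7976, e3 q7370 (flp_g L158136) q8125, e3 q7371 (flp_g L159551) q8274, e3 q7372 (flp_g L157248) q8044, e3 q7373 (flp_g L158148) q8126, e3 q7374 (flp_g L157945) q8109, e3 q7375 L151144 q6920, e3 q7376 (flp_g L158124) q8124, e3 q7377 (flp_g L158036) q8118, e3 q7378 L151171 q6624, e3 q7379 L159696 q8292, e3 q7380 (flp_g L151186) q6386, e3 q7381 (flp_g L159747) q8295, e3 q7382 (flp_g L159761) q8296, e3 q7383 L151222 q6390, e3 q7384 (flp_g L159771) q8297, e3 q7385 L151240 q6394, e3 q7386 (flp_g L158079) q8121, e3 q7387 (flp_g L156581) q7970, e3 q7388 (flp_g L157186) q8040, e3 q7389 (flp_g L155684) q7894, e3 q7390 (flp_g L156754) q7988, e3 q7391 (flp_g L156762) q7989, e3 q7392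 (flp_g L156161) q7934, e3 q7393 (flp_g L157352) q8053, e3 q7394 (flp_g L157611) q8078, e3 q7395 (flp_g L156173) q7935, e3 q7396 (flp_g L157677) q8084, e3 q7397 (flp_g L156472) q7958, e3 q7398 (flp_g L156482) q7959, e3 q7399 L151350 q6418, e3 q7400 L151360 q6419, e3 q7401 L151370 q6420, e3 q7402 L151376 q6798, e3 q7403 (flp_g L159834) q8305, e3 q7404 (flp_g L159844) q8306, e3 q7405 L159912 q8316, e3 q7406 (flp_g L159854) q8307, e3 q7407 (flp_g L159860) q8308, e3 q7408 L151418 q6427, e3 q7409 L151428 q6428, e3 q7410 (flp_g L155861) q7909, e3 q7411 L151444 q6431, e3 q7412 L151452 q6744, e3 q7413 L151462 q6801, e3 q7414 L151472 q6802, e3 q7415 (flp_g L159938) q8319, e3 q7416 L160033 q8331, e3 q7417 (flp_g L159084) q8223, e3 q7418 (flp_g L159958) q8321, e3 q7419 (flp_g L151496) q6429, e3 q7420 (flp_g L160063) q8335, e3 q7421 (flp_g L158890) q8204, e3 q7422 L151524 q6440, e3 q7423 L160099 q8340, trivial⟩ (by decide +kernel)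

theorem ce_g_116 : ∀ r, r < 64 → sm gg (Qf (7424 + r)) = Qf (tab Gen.g (7424 + r)) :=
  edges_tab (sm gg) Qf (tab Gen.g) 7424 [(7424, 6442), (7425, 6443), (7426, 6434), (7427, 8344), (7428, 6446), (7429, 6748), (7430, 6749), (7431, 6806), (7432, 8353), (7433, 6808), (7434, 6809), (7435, 8358), (7436, 8338), (7437, 8339), (7438, 6441), (7439, 8363), (7440, 8342), (7441, 8343), (7442, 6445), (7443, 8367), (7444, 8176), (7445, 8371), (7446, 6455), (7447, 6456), (7448, 6448), (7449, 8376), (7450, 6459), (7451, 6460), (7452, 6452), (7453, 8380), (7454, 7456), (7455, 6454), (7456, 7454), (7457, 8382), (7458, 8374), (7459, 8375), (7460, 6458), (7461, 8387), (7462, 8378), (7463, 8379), (7464, 6462), (7465, 7912), (7466, 8173), (7467, 7659), (7468, 6467), (7469, 7657), (7470, 8394), (7471, 6471), (7472, 8395), (7473, 7199), (7474, 6745), (7475, 6746), (7476, 8061), (7477, 6804), (7478, 6805), (7479, 8090), (7480, 6837), (7481, 6486), (7482, 8402), (7483, 6489), (7484, 8403), (7485, 8045), (7486,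 6751), (7487, 6752)]
    ⟨e3 q7424 L151542 q6442, e3 q7425 L151550 q6443, e3 q7426 (flp_g L151552) q6434, e3 q7427 (flp_g L160139) q8344, e3 q7428 L151574 q6446, e3 q7429 L151582 q6748, e3 q7430 L151592 q6749, e3 q7431 L151598 q6806, e3 q7432 L160211 q8353, e3 q7433 L151618 q6808, e3 q7434 L151626 q6809, e3 q7435 L160249 q8358, e3 q7436 (flp_g L160087) q8338, e3 q7437 (flp_g L160097) q8339, e3 q7438 (flp_g L151644) q6441, e3 q7439 (flp_g L160287) q8363, e3 q7440 (flp_g L160123) q8342, e3 q7441 (flp_g L160129) q8343, e3 q7442 L151668 q6445, e3 q7443 (flp_g L160303) q8367, e3 q7444 (flp_g L158652) q8176, e3 q7445 L160326 q8371, e3 q7446 L151692 q6455, e3 q7447 L151702 q6456, e3 q7448 (flp_g L151704) q6448, e3 q7449 (flp_g L160381) q8376, e3 q7450 L151734 q6459, e3 q7451 L151745 q6460, e3 q7452 L151758 q6452, e3 q7453 (flp_g L160427) q8380, e3 q7454 (flp_g L151793) q7456, e3 q7455 (flp_g L151777) q6454, e3 q7456 L151793 q7454, e3 q7457 (flp_g L160445) q8382, e3 q7458 (flp_g L160364) q8374,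 e3 q7459 (flp_g L160370) q8375, e3 q7460 L151823 q6458, e3 q7461 (flp_g L160485) q8387, e3 q7462 (flp_g L160402) q8378, e3 q7463 (flp_g L160414) q8379, e3 q7464 L151855 q6462, e3 q7465 (flp_g L155901) q7912, e3 q7466 (flp_g L158624) q8173, e3 q7467 (flp_g L153688) q7659, e3 q7468 L151884 q6467, e3 q7469 (flp_g L153668) q7657, e3 q7470 (flp_g L160544) q8394, e3 q7471 L151917 q6471, e3 q7472 (flp_g L160557) q8395, e3 q7473 L151945 q7199, e3 q7474 L151959 q6745, e3 q7475 L151972 q6746, e3 q7476 (flp_g L157454) q8061, e3 q7477 L151988 q6804, e3 q7478 L151994 q6805, e3 q7479 (flp_g L157760) q8090, e3 q7480 L152015 q6837, e3 q7481 L152025 q6486, e3 q7482 (flp_g L160628) q8402, e3 q7483 L152045 q6489, e3 q7484 (flp_g L160640) q8403, e3 q7485 (flp_g L157262) q8045, e3 q7486 L152073 q6751, e3 q7487 L152081 q6752, trivial⟩ (by decide +kernel)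

theorem ce_g_117 : ∀ r, r < 64 → sm gg (Qf (7488 + r)) = Qf (tab Gen.g (7488 + r)) :=
  edges_tab (sm gg) Qf (tab Gen.g) 7488 [(7488, 6493), (7489, 8406), (7490, 6812), (7491, 6497), (7492, 8409), (7493, 6840), (7494, 6500), (7495, 7915), (7496, 8233), (7497, 6503), (7498, 8231), (7499, 6772), (7500, 6773), (7501, 6789), (7502, 8092), (7503, 6849), (7504, 6515), (7505, 6517), (7506, 8048), (7507, 6779), (7508, 8079), (7509, 6793), (7510, 6524), (7511, 7954), (7512, 6852), (7513, 6533), (7514, 6534), (7515, 8102), (7516, 8421), (7517, 8422), (7518, 6543), (7519, 6544), (7520, 6742), (7521, 6799), (7522, 6800), (7523, 8431), (7524, 6859), (7525, 6860), (7526, 6542), (7527, 8434), (7528, 8425), (7529, 6743), (7530, 6753), (7531, 8440), (7532, 6755), (7533, 6756), (7534, 8444), (7535, 6814), (7536, 6815), (7537, 6551), (7538, 8449), (7539, 6818), (7540, 6819), (7541, 7543), (7542, 6554), (7543, 7541), (7544, 8454), (7545, 6865), (7546, 6866), (7547, 6558), (7548, 8459), (7549, 6869), (7550,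 6870), (7551, 6562)]
    ⟨e3 q7488 (flp_g L152083) q6493, e3 q7489 (flp_g L160670) q8406, e3 q7490 L152105 q6812, e3 q7491 L152117 q6497, e3 q7492 (flp_g L160694) q8409, e3 q7493 L152131 q6840, e3 q7494 L152139 q6500, e3 q7495 (flp_g L155931) q7915, e3 q7496 (flp_g L159185) q8233, e3 q7497 L152164 q6503, e3 q7498 (flp_g L159169) q8231, e3 q7499 L152181 q6772, e3 q7500 L152187 q6773, e3 q7501 L152197 q6789, e3 q7502 (flp_g L157782) q8092, e3 q7503 L152211 q6849, e3 q7504 L152218 q6515, e3 q7505 L152228 q6517, e3 q7506 (flp_g L157296) q8048, e3 q7507 L152244 q6779, e3 q7508 (flp_g L157625) q8079, e3 q7509 L152256 q6793, e3 q7510 L152266 q6524, e3 q7511 (flp_g L156423) q7954, e3 q7512 L152276 q6852, e3 q7513 L152287 q6533, e3 q7514 L152298 q6534, e3 q7515 (flp_g L157884) q8102, e3 q7516 (flp_g L160792) q8421, e3 q7517 (flp_g L160797) q8422, e3 q7518 L152334 q6543, e3 q7519 L152341 q6544, e3 q7520 L152347 q6742, e3 q7521 L152356 q6799, e3 q7522 L152367 q6800, e3 q7523 L160873 q8431, e3 q7524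 L152387 q6859, e3 q7525 L152394 q6860, e3 q7526 (flp_g L152398) q6542, e3 q7527 (flp_g L160911) q8434, e3 q7528 (flp_g L160826) q8425, e3 q7529 L152423 q6743, e3 q7530 L152430 q6753, e3 q7531 L160951 q8440, e3 q7532 L152452 q6755, e3 q7533 L152462 q6756, e3 q7534 L160991 q8444, e3 q7535 L152477 q6814, e3 q7536 L152488 q6815, e3 q7537 (flp_g L152490) q6551, e3 q7538 (flp_g L161046) q8449, e3 q7539 L152517 q6818, e3 q7540 L152525 q6819, e3 q7541 (flp_g L152556) q7543, e3 q7542 (flp_g L152536) q6554, e3 q7543 L152556 q7541, e3 q7544 (flp_g L161091) q8454, e3 q7545 L152574 q6865, e3 q7546 L152581 q6866, e3 q7547 L152591 q6558, e3 q7548 (flp_g L161136) q8459, e3 q7549 L152605 q6869, e3 q7550 L152612 q6870, e3 q7551 L152623 q6562, trivial⟩ (by decide +kernel)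

theorem ce_g_118 : ∀ r, r < 64 → sm gg (Qf (7552 + r)) = Qf (tab Gen.g (7552 + r)) :=
  edges_tab (sm gg) Qf (tab Gen.g) 7552 [(7552, 7837), (7553, 6873), (7554, 6863), (7555, 6564), (7556, 6861), (7557, 8466), (7558, 6578), (7559, 6579), (7560, 6568), (7561, 8471), (7562, 6582), (7563, 6583), (7564, 6572), (7565, 7836), (7566, 6586), (7567, 7569), (7568, 6577), (7569, 7567), (7570, 8478), (7571, 8469), (7572, 8470), (7573, 6581), (7574, 8484), (7575, 8473), (7576, 8474), (7577, 8476), (7578, 7692), (7579, 6590), (7580, 7190), (7581, 7191), (7582, 6594), (7583, 6595), (7584, 8487), (7585, 6759), (7586, 6599), (7587, 8490), (7588, 6822), (7589, 6602), (7590, 7922), (7591, 6843), (7592, 6891), (7593, 6610), (7594, 6612), (7595, 8495), (7596, 6782), (7597, 6615), (7598, 7956), (7599, 6796), (7600, 6698), (7601, 6623), (7602, 6691), (7603, 7637), (7604, 8291), (7605, 7084), (7606, 6690), (7607, 8502), (7608, 6626), (7609, 8504), (7610, 6687), (7611, 6628), (7612, 8508), (7613, 6634), (7614,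 6631), (7615, 7292)]
    ⟨e3 q7552 (flp_g L155091) q7837, e3 q7553 L152640 q6873, e3 q7554 (flp_g L152655) q6863, e3 q7555 (flp_g L152657) q6564, e3 q7556 L152679 q6861, e3 q7557 (flp_g L161204) q8466, e3 q7558 L152701 q6578, e3 q7559 L152710 q6579, e3 q7560 L152720 q6568, e3 q7561 (flp_g L161252) q8471, e3 q7562 L152735 q6582, e3 q7563 L152743 q6583, e3 q7564 L152757 q6572, e3 q7565 (flp_g L155078) q7836, e3 q7566 L152776 q6586, e3 q7567 (flp_g L152805) q7569, e3 q7568 L152794 q6577, e3 q7569 L152805 q7567, e3 q7570 (flp_g L161311) q8478, e3 q7571 (flp_g L161233) q8469, e3 q7572 (flp_g L161240) q8470, e3 q7573 L152829 q6581, e3 q7574 (flp_g L161361) q8484, e3 q7575 (flp_g L161266) q8473, e3 q7576 (flp_g L161275) q8474, e3 q7577 (flp_g L161295) q8476, e3 q7578 (flp_g L153972) q7692, e3 q7579 L152880 q6590, e3 q7580 L152894 q7190, e3 q7581 L152907 q7191, e3 q7582 L152921 q6594, e3 q7583 (flp_g L152931) q6595, e3 q7584 (flp_g L161397) q8487, e3 q7585 L152958 q6759, e3 q7586 L152968 q6599,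 e3 q7587 (flp_g L161425) q8490, e3 q7588 L152982 q6822, e3 q7589 L152994 q6602, e3 q7590 (flp_g L156007) q7922, e3 q7591 L153008 q6843, e3 q7592 L153016 q6891, e3 q7593 L153024 q6610, e3 q7594 L153038 q6612, e3 q7595 (flp_g L161465) q8495, e3 q7596 L153053 q6782, e3 q7597 L153064 q6615, e3 q7598 (flp_g L156450) q7956, e3 q7599 L153078 q6796, e3 q7600 L153089 q6698, e3 q7601 L153105 q6623, e3 q7602 L153116 q6691, e3 q7603 (flp_g L153497) q7637, e3 q7604 (flp_g L159688) q8291, e3 q7605 L153141 q7084, e3 q7606 L153152 q6690, e3 q7607 L161525 q8502, e3 q7608 (flp_g L153165) q6626, e3 q7609 L161554 q8504, e3 q7610 L153197 q6687, e3 q7611 (flp_g L153199) q6628, e3 q7612 L161614 q8508, e3 q7613 L153231 q6634, e3 q7614 (flp_g L153233) q6631, e3 q7615 (flp_g L153255) q7292, trivial⟩ (by decide +kernel)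

theorem ce_g_119 : ∀ r, r < 64 → sm gg (Qf (7616 + r)) = Qf (tab Gen.g (7616 + r)) :=
  edges_tab (sm gg) Qf (tab Gen.g) 7616 [(7616, 6633), (7617, 7290), (7618, 8293), (7619, 8510), (7620, 6677), (7621, 6637), (7622, 8514), (7623, 6671), (7624, 6666), (7625, 6641), (7626, 6658), (7627, 6645), (7628, 6647), (7629, 6943), (7630, 6944), (7631, 7240), (7632, 6921), (7633, 6661), (7634, 6669), (7635, 6670), (7636, 8516), (7637, 7603), (7638, 8220), (7639, 7718), (7640, 6668), (7641, 8525), (7642, 8519), (7643, 8529), (7644, 8513), (7645, 8219), (7646, 6672), (7647, 8534), (7648, 6675), (7649, 7090), (7650, 6676), (7651, 7088), (7652, 8512), (7653, 6825), (7654, 6679), (7655, 6823), (7656, 6686), (7657, 7469), (7658, 6685), (7659, 7467), (7660, 8137), (7661, 8506), (7662, 8501), (7663, 6689), (7664, 8540), (7665, 8171), (7666, 8497), (7667, 7866), (7668, 8169), (7669, 6700), (7670, 7689), (7671, 6707), (7672, 6708), (7673, 6902), (7674, 8545), (7675, 6713), (7676, 6712), (7677, 8463), (7678,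 8547), (7679, 6876)]
    ⟨e3 q7616 (flp_g L153257) q6633, e3 q7617 L153277 q7290, e3 q7618 (flp_g L159720) q8293, e3 q7619 (flp_g L161652) q8510, e3 q7620 L153304 q6677, e3 q7621 L153317 q6637, e3 q7622 (flp_g L161699) q8514, e3 q7623 L153335 q6671, e3 q7624 L153344 q6666, e3 q7625 L153359 q6641, e3 q7626 L153370 q6658, e3 q7627 L153385 q6645, e3 q7628 L153397 q6647, e3 q7629 L153411 q6943, e3 q7630 L153422 q6944, e3 q7631 L153436 q7240, e3 q7632 L153446 q6921, e3 q7633 L153458 q6661, e3 q7634 L153470 q6669, e3 q7635 L153480 q6670, e3 q7636 (flp_g L161715) q8516, e3 q7637 L153497 q7603, e3 q7638 (flp_g L159050) q8220, e3 q7639 (flp_g L154178) q7718, e3 q7640 (flp_g L153517) q6668, e3 q7641 (flp_g L161817) q8525, e3 q7642 (flp_g L161761) q8519, e3 q7643 L161836 q8529, e3 q7644 (flp_g L161684) q8513, e3 q7645 (flp_g L159039) q8219, e3 q7646 (flp_g L153558) q6672, e3 q7647 (flp_g L161881) q8534, e3 q7648 L153579 q6675, e3 q7649 (flp_g L153588) q7090, e3 q7650 (flp_g L153592) q6676, e3 q7651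 L153612 q7088, e3 q7652 (flp_g L161675) q8512, e3 q7653 (flp_g L153626) q6825, e3 q7654 (flp_g L153630) q6679, e3 q7655 L153650 q6823, e3 q7656 L153657 q6686, e3 q7657 L153668 q7469, e3 q7658 L153678 q6685, e3 q7659 L153688 q7467, e3 q7660 (flp_g L158276) q8137, e3 q7661 (flp_g L161595) q8506, e3 q7662 (flp_g L161521) q8501, e3 q7663 L153717 q6689, e3 q7664 (flp_g L161930) q8540, e3 q7665 (flp_g L158604) q8171, e3 q7666 (flp_g L161483) q8497, e3 q7667 (flp_g L155402) q7866, e3 q7668 (flp_g L158590) q8169, e3 q7669 L153754 q6700, e3 q7670 (flp_g L153943) q7689, e3 q7671 L153781 q6707, e3 q7672 L153792 q6708, e3 q7673 L153807 q6902, e3 q7674 (flp_g L161984) q8545, e3 q7675 L153829 q6713, e3 q7676 L153839 q6712, e3 q7677 (flp_g L161169) q8463, e3 q7678 (flp_g L162002) q8547, e3 q7679 L153861 q6876, trivial⟩ (by decide +kernel)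

theorem ce_g_120 : ∀ r, r < 64 → sm gg (Qf (7680 + r)) = Qf (tab Gen.g (7680 + r)) :=
  edges_tab (sm gg) Qf (tab Gen.g) 7680 [(7680, 6717), (7681, 6874), (7682, 8551), (7683, 6731), (7684, 6732), (7685, 6721), (7686, 8555), (7687, 6735), (7688, 6736), (7689, 7670), (7690, 6737), (7691, 6730), (7692, 7578), (7693, 8554), (7694, 6734), (7695, 8558), (7696, 8309), (7697, 8426), (7698, 8427), (7699, 8168), (7700, 8322), (7701, 8323), (7702, 8396), (7703, 8397), (7704, 8189), (7705, 8190), (7706, 8346), (7707, 7977), (7708, 8348), (7709, 8349), (7710, 8046), (7711, 8405), (7712, 8582), (7713, 8438), (7714, 8439), (7715, 6754), (7716, 8587), (7717, 8442), (7718, 7639), (7719, 6758), (7720, 8591), (7721, 8489), (7722, 8509), (7723, 6760), (7724, 8507), (7725, 8595), (7726, 6764), (7727, 8596), (7728, 6768), (7729, 8122), (7730, 8230), (7731, 8258), (7732, 8413), (7733, 8242), (7734, 8243), (7735, 8263), (7736, 8264), (7737, 8049), (7738, 8417), (7739, 6781), (7740, 8147), (7741, 8493), (7742,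 8254), (7743, 8075)]
    ⟨e3 q7680 L153873 q6717, e3 q7681 L153883 q6874, e3 q7682 (flp_g L162043) q8551, e3 q7683 L153896 q6731, e3 q7684 L153903 q6732, e3 q7685 L153915 q6721, e3 q7686 (flp_g L162078) q8555, e3 q7687 L153925 q6735, e3 q7688 L153932 q6736, e3 q7689 L153943 q7670, e3 q7690 L153949 q6737, e3 q7691 L153960 q6730, e3 q7692 L153972 q7578, e3 q7693 (flp_g L162069) q8554, e3 q7694 L153984 q6734, e3 q7695 (flp_g L162111) q8558, e3 q7696 (flp_g L159868) q8309, e3 q7697 (flp_g L160833) q8426, e3 q7698 (flp_g L160845) q8427, e3 q7699 (flp_g L158578) q8168, e3 q7700 (flp_g L159968) q8322, e3 q7701 (flp_g L159978) q8323, e3 q7702 (flp_g L160576) q8396, e3 q7703 (flp_g L160584) q8397, e3 q7704 (flp_g L158779) q8189, e3 q7705 (flp_g L158791) q8190, e3 q7706 (flp_g L160151) q8346, e3 q7707 (flp_g L156656) q7977, e3 q7708 (flp_g L160171) q8348, e3 q7709 (flp_g L160179) q8349, e3 q7710 (flp_g L157274) q8046, e3 q7711 (flp_g L160660) q8405, e3 q7712 L162292 q8582, e3 q7713 (flp_g L160937)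 q8438, e3 q7714 (flp_g L160949) q8439, e3 q7715 (flp_g L154140) q6754, e3 q7716 (flp_g L162340) q8587, e3 q7717 (flp_g L160981) q8442, e3 q7718 L154178 q7639, e3 q7719 L154193 q6758, e3 q7720 (flp_g L162382) q8591, e3 q7721 (flp_g L161415) q8489, e3 q7722 (flp_g L161642) q8509, e3 q7723 (flp_g L154220) q6760, e3 q7724 L161610 q8507, e3 q7725 (flp_g L162422) q8595, e3 q7726 L154261 q6764, e3 q7727 (flp_g L162434) q8596, e3 q7728 L154282 q6768, e3 q7729 (flp_g L158094) q8122, e3 q7730 (flp_g L159159) q8230, e3 q7731 (flp_g L159398) q8258, e3 q7732 (flp_g L160724) q8413, e3 q7733 (flp_g L159272) q8242, e3 q7734 (flp_g L159280) q8243, e3 q7735 (flp_g L159451) q8263, e3 q7736 (flp_g L159457) q8264, e3 q7737 (flp_g L157306) q8049, e3 q7738 (flp_g L160754) q8417, e3 q7739 L154363 q6781, e3 q7740 (flp_g L158382) q8147, e3 q7741 (flp_g L161446) q8493, e3 q7742 (flp_g L159369) q8254, e3 q7743 (flp_g L157582) q8075, trivial⟩ (by decide +kernel)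

theorem ce_g_121 : ∀ r, r < 64 → sm gg (Qf (7744 + r)) = Qf (tab Gen.g (7744 + r)) :=
  edges_tab (sm gg) Qf (tab Gen.g) 7744 [(7744, 8259), (7745, 8414), (7746, 8265), (7747, 8097), (7748, 8080), (7749, 8419), (7750, 8099), (7751, 8310), (7752, 8311), (7753, 8619), (7754, 8429), (7755, 8430), (7756, 8324), (7757, 8000), (7758, 8326), (7759, 8327), (7760, 8062), (7761, 8399), (7762, 8631), (7763, 8351), (7764, 8352), (7765, 6807), (7766, 8636), (7767, 8355), (7768, 8356), (7769, 6811), (7770, 8640), (7771, 8408), (7772, 8372), (7773, 6813), (7774, 8370), (7775, 8644), (7776, 8447), (7777, 8448), (7778, 6817), (7779, 8649), (7780, 8451), (7781, 8452), (7782, 6821), (7783, 8653), (7784, 8492), (7785, 8536), (7786, 6826), (7787, 8503), (7788, 8658), (7789, 6830), (7790, 8659), (7791, 6834), (7792, 8661), (7793, 8145), (7794, 8091), (7795, 8401), (7796, 6839), (7797, 8664), (7798, 8411), (7799, 6842), (7800, 7921), (7801, 8151), (7802, 8494), (7803, 6919), (7804, 8093), (7805, 6851), (7806,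 7953), (7807, 8150)]
    ⟨e3 q7744 (flp_g L159406) q8259, e3 q7745 (flp_g L160732) q8414, e3 q7746 (flp_g L159465) q8265, e3 q7747 (flp_g L157829) q8097, e3 q7748 (flp_g L157633) q8080, e3 q7749 (flp_g L160770) q8419, e3 q7750 (flp_g L157847) q8099, e3 q7751 (flp_g L159878) q8310, e3 q7752 (flp_g L159890) q8311, e3 q7753 L162574 q8619, e3 q7754 (flp_g L160863) q8429, e3 q7755 (flp_g L160869) q8430, e3 q7756 (flp_g L159984) q8324, e3 q7757 (flp_g L156878) q8000, e3 q7758 (flp_g L160003) q8326, e3 q7759 (flp_g L160011) q8327, e3 q7760 (flp_g L157465) q8062, e3 q7761 (flp_g L160601) q8399, e3 q7762 L162654 q8631, e3 q7763 (flp_g L160197) q8351, e3 q7764 (flp_g L160209) q8352, e3 q7765 (flp_g L154519) q6807, e3 q7766 (flp_g L162690) q8636, e3 q7767 (flp_g L160235) q8355, e3 q7768 (flp_g L160241) q8356, e3 q7769 L154545 q6811, e3 q7770 (flp_g L162708) q8640, e3 q7771 (flp_g L160682) q8408, e3 q7772 (flp_g L160346) q8372, e3 q7773 (flp_g L154567) q6813, e3 q7774 L160322 q8370, e3 q7775 (flp_g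 L162738) q8644, e3 q7776 (flp_g L161027) q8447, e3 q7777 (flp_g L161035) q8448, e3 q7778 L154609 q6817, e3 q7779 (flp_g L162775) q8649, e3 q7780 (flp_g L161062) q8451, e3 q7781 (flp_g L161069) q8452, e3 q7782 L154640 q6821, e3 q7783 (flp_g L162801) q8653, e3 q7784 (flp_g L161437) q8492, e3 q7785 (flp_g L161902) q8536, e3 q7786 L154668 q6826, e3 q7787 L161552 q8503, e3 q7788 (flp_g L162844) q8658, e3 q7789 L154704 q6830, e3 q7790 (flp_g L162857) q8659, e3 q7791 L154725 q6834, e3 q7792 (flp_g L162884) q8661, e3 q7793 (flp_g L158366) q8145, e3 q7794 (flp_g L157768) q8091, e3 q7795 (flp_g L160619) q8401, e3 q7796 L154765 q6839, e3 q7797 (flp_g L162921) q8664, e3 q7798 (flp_g L160708) q8411, e3 q7799 L154785 q6842, e3 q7800 (flp_g L155994) q7921, e3 q7801 (flp_g L158427) q8151, e3 q7802 (flp_g L161454) q8494, e3 q7803 L154817 q6919, e3 q7804 (flp_g L157790) q8093, e3 q7805 L154835 q6851, e3 q7806 (flp_g L156411) q7953, e3 q7807 (flp_g L158415) q8150, trivial⟩ (by decide +kernel)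

theorem ce_g_122 : ∀ r, r < 64 → sm gg (Qf (7808 + r)) = Qf (tab Gen.g (7808 + r)) :=
  edges_tab (sm gg) Qf (tab Gen.g) 7808 [(7808, 8088), (7809, 8073), (7810, 6858), (7811, 8671), (7812, 8433), (7813, 8467), (7814, 6864), (7815, 8465), (7816, 8675), (7817, 8457), (7818, 8458), (7819, 6868), (7820, 8681), (7821, 8461), (7822, 8462), (7823, 6872), (7824, 7833), (7825, 7832), (7826, 8464), (7827, 8552), (7828, 6877), (7829, 8550), (7830, 8689), (7831, 6881), (7832, 7825), (7833, 7824), (7834, 7883), (7835, 8022), (7836, 7565), (7837, 7552), (7838, 6903), (7839, 6905), (7840, 7297), (7841, 7095), (7842, 6985), (7843, 8280), (7844, 7079), (7845, 8289), (7846, 7246), (7847, 7247), (7848, 6925), (7849, 6926), (7850, 6927), (7851, 8698), (7852, 8699), (7853, 8700), (7854, 7319), (7855, 8701), (7856, 8702), (7857, 7256), (7858, 7257), (7859, 7258), (7860, 6933), (7861, 6934), (7862, 6935), (7863, 6937), (7864, 6938), (7865, 8717), (7866, 7667), (7867, 8718), (7868, 8268), (7869, 8731), (7870,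 8719), (7871, 8720)]
    ⟨e3 q7808 (flp_g L157735) q8088, e3 q7809 (flp_g L157561) q8073, e3 q7810 (flp_g L154858) q6858, e3 q7811 (flp_g L162969) q8671, e3 q7812 (flp_g L160902) q8433, e3 q7813 (flp_g L161217) q8467, e3 q7814 L154899 q6864, e3 q7815 (flp_g L161191) q8465, e3 q7816 (flp_g L162998) q8675, e3 q7817 (flp_g L161117) q8457, e3 q7818 (flp_g L161124) q8458, e3 q7819 L154931 q6868, e3 q7820 (flp_g L163035) q8681, e3 q7821 (flp_g L161148) q8461, e3 q7822 (flp_g L161156) q8462, e3 q7823 L154957 q6872, e3 q7824 (flp_g L155053) q7833, e3 q7825 (flp_g L155037) q7832, e3 q7826 (flp_g L161174) q8464, e3 q7827 (flp_g L162055) q8552, e3 q7828 L154994 q6877, e3 q7829 (flp_g L162027) q8550, e3 q7830 (flp_g L163099) q8689, e3 q7831 L155025 q6881, e3 q7832 L155037 q7825, e3 q7833 L155053 q7824, e3 q7834 (flp_g L155568) q7883, e3 q7835 (flp_g L157054) q8022, e3 q7836 L155078 q7565, e3 q7837 L155091 q7552, e3 q7838 (flp_g L155096) q6903, e3 q7839 L155116 q6905, e3 q7840 L155131 q7297, e3 q7841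 L155140 q7095, e3 q7842 L155154 q6985, e3 q7843 (flp_g L159598) q8280, e3 q7844 L155172 q7079, e3 q7845 (flp_g L159674) q8289, e3 q7846 L155194 q7246, e3 q7847 L155210 q7247, e3 q7848 L155218 q6925, e3 q7849 L155228 q6926, e3 q7850 L155243 q6927, e3 q7851 (flp_g L163197) q8698, e3 q7852 (flp_g L163215) q8699, e3 q7853 (flp_g L163227) q8700, e3 q7854 L155280 q7319, e3 q7855 (flp_g L163240) q8701, e3 q7856 (flp_g L163248) q8702, e3 q7857 L155309 q7256, e3 q7858 L155317 q7257, e3 q7859 L155334 q7258, e3 q7860 L155338 q6933, e3 q7861 L155352 q6934, e3 q7862 L155362 q6935, e3 q7863 L155376 q6937, e3 q7864 L155384 q6938, e3 q7865 (flp_g L163423) q8717, e3 q7866 L155402 q7667, e3 q7867 (flp_g L163437) q8718, e3 q7868 (flp_g L159495) q8268, e3 q7869 L163563 q8731, e3 q7870 (flp_g L163451) q8719, e3 q7871 (flp_g L163459) q8720, trivial⟩ (by decide +kernel)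

theorem ce_g_123 : ∀ r, r < 64 → sm gg (Qf (7872 + r)) = Qf (tab Gen.g (7872 + r)) :=
  edges_tab (sm gg) Qf (tab Gen.g) 7872 [(7872, 6936), (7873, 8735), (7874, 8721), (7875, 6947), (7876, 8740), (7877, 7038), (7878, 8270), (7879, 6942), (7880, 8745), (7881, 8517), (7882, 6946), (7883, 7834), (7884, 8738), (7885, 8505), (7886, 6948), (7887, 6950), (7888, 6952), (7889, 7298), (7890, 6958), (7891, 6960), (7892, 6962), (7893, 6963), (7894, 7389), (7895, 7262), (7896, 8750), (7897, 7315), (7898, 8751), (7899, 7322), (7900, 8752), (7901, 7223), (7902, 7233), (7903, 7309), (7904, 7310), (7905, 6971), (7906, 6973), (7907, 6976), (7908, 6979), (7909, 7410), (7910, 8763), (7911, 7253), (7912, 7465), (7913, 8764), (7914, 7307), (7915, 7495), (7916, 8765), (7917, 6978), (7918, 8774), (7919, 8766), (7920, 6983), (7921, 7800), (7922, 7590), (7923, 7029), (7924, 7229), (7925, 6993), (7926, 6994), (7927, 6995), (7928, 8662), (7929, 8779), (7930, 7136), (7931, 7336), (7932, 7003), (7933, 7005), (7934,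 7392), (7935, 7395)]
    ⟨e3 q7872 (flp_g L155442) q6936, e3 q7873 (flp_g L163615) q8735, e3 q7874 (flp_g L163471) q8721, e3 q7875 L155486 q6947, e3 q7876 L163656 q8740, e3 q7877 L155503 q7038, e3 q7878 (flp_g L159519) q8270, e3 q7879 (flp_g L155512) q6942, e3 q7880 (flp_g L163710) q8745, e3 q7881 (flp_g L161733) q8517, e3 q7882 L155554 q6946, e3 q7883 L155568 q7834, e3 q7884 (flp_g L163645) q8738, e3 q7885 (flp_g L161584) q8505, e3 q7886 (flp_g L155586) q6948, e3 q7887 L155602 q6950, e3 q7888 L155613 q6952, e3 q7889 L155628 q7298, e3 q7890 L155637 q6958, e3 q7891 L155654 q6960, e3 q7892 L155667 q6962, e3 q7893 L155673 q6963, e3 q7894 L155684 q7389, e3 q7895 L155698 q7262, e3 q7896 (flp_g L163764) q8750, e3 q7897 L155725 q7315, e3 q7898 (flp_g L163776) q8751, e3 q7899 L155748 q7322, e3 q7900 (flp_g L163790) q8752, e3 q7901 L155766 q7223, e3 q7902 L155784 q7233, e3 q7903 L155797 q7309, e3 q7904 L155805 q7310, e3 q7905 L155817 q6971, e3 q7906 L155831 q6973, e3 q7907 L155841 q6976, e3 q7908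 L155853 q6979, e3 q7909 L155861 q7410, e3 q7910 (flp_g L163935) q8763, e3 q7911 L155891 q7253, e3 q7912 L155901 q7465, e3 q7913 (flp_g L163943) q8764, e3 q7914 L155921 q7307, e3 q7915 L155931 q7495, e3 q7916 (flp_g L163951) q8765, e3 q7917 L155957 q6978, e3 q7918 (flp_g L164067) q8774, e3 q7919 (flp_g L163965) q8766, e3 q7920 L155981 q6983, e3 q7921 L155994 q7800, e3 q7922 L156007 q7590, e3 q7923 L156018 q7029, e3 q7924 L156035 q7229, e3 q7925 L156051 q6993, e3 q7926 L156061 q6994, e3 q7927 L156070 q6995, e3 q7928 (flp_g L162901) q8662, e3 q7929 (flp_g L164129) q8779, e3 q7930 L156099 q7136, e3 q7931 L156116 q7336, e3 q7932 L156132 q7003, e3 q7933 L156146 q7005, e3 q7934 L156161 q7392, e3 q7935 L156173 q7395, trivial⟩ (by decide +kernel)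

theorem ce_g_124 : ∀ r, r < 64 → sm gg (Qf (7936 + r)) = Qf (tab Gen.g (7936 + r)) :=
  edges_tab (sm gg) Qf (tab Gen.g) 7936 [(7936, 7346), (7937, 8783), (7938, 7351), (7939, 8784), (7940, 7234), (7941, 7343), (7942, 7014), (7943, 7016), (7944, 7019), (7945, 7022), (7946, 7330), (7947, 8791), (7948, 7355), (7949, 8792), (7950, 7342), (7951, 7165), (7952, 7021), (7953, 7806), (7954, 7511), (7955, 7030), (7956, 7598), (7957, 8777), (7958, 7397), (7959, 7398), (7960, 7037), (7961, 7039), (7962, 8799), (7963, 8729), (7964, 8800), (7965, 8809), (7966, 8743), (7967, 8801), (7968, 7218), (7969, 7361), (7970, 7387), (7971, 7046), (7972, 7047), (7973, 7048), (7974, 7050), (7975, 7051), (7976, 7369), (7977, 7707), (7978, 8814), (7979, 8815), (7980, 8827), (7981, 8816), (7982, 8817), (7983, 7049), (7984, 8831), (7985, 8818), (7986, 7366), (7987, 7367), (7988, 7390), (7989, 7391), (7990, 7061), (7991, 7062), (7992, 7063), (7993, 7064), (7994, 8844), (7995, 7066), (7996, 7067), (7997, 7058), (7998,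 8848), (7999, 7070)]
    ⟨e3 q7936 L156187 q7346, e3 q7937 (flp_g L164171) q8783, e3 q7938 L156212 q7351, e3 q7939 (flp_g L164186) q8784, e3 q7940 L156235 q7234, e3 q7941 L156251 q7343, e3 q7942 L156267 q7014, e3 q7943 L156279 q7016, e3 q7944 L156287 q7019, e3 q7945 L156301 q7022, e3 q7946 L156321 q7330, e3 q7947 (flp_g L164294) q8791, e3 q7948 L156341 q7355, e3 q7949 (flp_g L164304) q8792, e3 q7950 L156369 q7342, e3 q7951 L156381 q7165, e3 q7952 L156399 q7021, e3 q7953 L156411 q7806, e3 q7954 L156423 q7511, e3 q7955 L156435 q7030, e3 q7956 L156450 q7598, e3 q7957 (flp_g L164105) q8777, e3 q7958 L156472 q7397, e3 q7959 L156482 q7398, e3 q7960 L156488 q7037, e3 q7961 L156498 q7039, e3 q7962 (flp_g L164399) q8799, e3 q7963 (flp_g L163553) q8729, e3 q7964 (flp_g L164413) q8800, e3 q7965 L164480 q8809, e3 q7966 (flp_g L163692) q8743, e3 q7967 (flp_g L164419) q8801, e3 q7968 L156555 q7218, e3 q7969 L156565 q7361, e3 q7970 L156581 q7387, e3 q7971 L156587 q7046, e3 q7972 L156603 q7047, e3 q7973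 L156613 q7048, e3 q7974 L156624 q7050, e3 q7975 L156630 q7051, e3 q7976 L156642 q7369, e3 q7977 L156656 q7707, e3 q7978 (flp_g L164542) q8814, e3 q7979 (flp_g L164550) q8815, e3 q7980 L164658 q8827, e3 q7981 (flp_g L164563) q8816, e3 q7982 (flp_g L164569) q8817, e3 q7983 (flp_g L156693) q7049, e3 q7984 (flp_g L164707) q8831, e3 q7985 (flp_g L164581) q8818, e3 q7986 L156729 q7366, e3 q7987 L156743 q7367, e3 q7988 L156754 q7390, e3 q7989 L156762 q7391, e3 q7990 L156774 q7061, e3 q7991 L156788 q7062, e3 q7992 L156804 q7063, e3 q7993 L156808 q7064, e3 q7994 L164842 q8844, e3 q7995 L156830 q7066, e3 q7996 L156836 q7067, e3 q7997 (flp_g L156838) q7058, e3 q7998 (flp_g L164894) q8848, e3 q7999 L156870 q7070, trivial⟩ (by decide +kernel)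

theorem ce_g_125 : ∀ r, r < 64 → sm gg (Qf (8000 + r)) = Qf (tab Gen.g (8000 + r)) :=
  edges_tab (sm gg) Qf (tab Gen.g) 8000 [(8000, 7757), (8001, 8838), (8002, 8839), (8003, 8858), (8004, 8840), (8005, 8841), (8006, 8863), (8007, 8691), (8008, 8843), (8009, 7065), (8010, 8868), (8011, 8846), (8012, 8847), (8013, 7069), (8014, 8872), (8015, 8850), (8016, 8875), (8017, 7080), (8018, 7072), (8019, 8878), (8020, 7083), (8021, 7076), (8022, 7835), (8023, 7087), (8024, 8530), (8025, 7078), (8026, 8528), (8027, 8884), (8028, 8694), (8029, 8877), (8030, 7082), (8031, 8889), (8032, 8880), (8033, 8499), (8034, 7086), (8035, 8782), (8036, 8882), (8037, 8535), (8038, 7091), (8039, 7093), (8040, 7388), (8041, 7104), (8042, 7107), (8043, 7110), (8044, 7372), (8045, 7485), (8046, 7710), (8047, 8895), (8048, 7506), (8049, 7737), (8050, 7109), (8051, 8902), (8052, 8896), (8053, 7393), (8054, 7122), (8055, 7124), (8056, 7125), (8057, 7128), (8058, 7119), (8059, 8909), (8060, 7131), (8061, 7476), (8062,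 7760), (8063, 8906)]
    ⟨e3 q8000 L156878 q7757, e3 q8001 (flp_g L164785) q8838, e3 q8002 (flp_g L164795) q8839, e3 q8003 L164976 q8858, e3 q8004 (flp_g L164812) q8840, e3 q8005 (flp_g L164822) q8841, e3 q8006 L165020 q8863, e3 q8007 (flp_g L163122) q8691, e3 q8008 (flp_g L164840) q8843, e3 q8009 (flp_g L156935) q7065, e3 q8010 (flp_g L165054) q8868, e3 q8011 (flp_g L164874) q8846, e3 q8012 (flp_g L164878) q8847, e3 q8013 L156969 q7069, e3 q8014 (flp_g L165076) q8872, e3 q8015 (flp_g L164912) q8850, e3 q8016 L165092 q8875, e3 q8017 L156999 q7080, e3 q8018 (flp_g L157001) q7072, e3 q8019 (flp_g L165125) q8878, e3 q8020 L157029 q7083, e3 q8021 L157041 q7076, e3 q8022 L157054 q7835, e3 q8023 L157061 q7087, e3 q8024 (flp_g L161856) q8530, e3 q8025 (flp_g L157071) q7078, e3 q8026 (flp_g L161845) q8528, e3 q8027 (flp_g L165178) q8884, e3 q8028 (flp_g L163154) q8694, e3 q8029 (flp_g L165113) q8877, e3 q8030 L157103 q7082, e3 q8031 (flp_g L165212) q8889, e3 q8032 (flp_g L165145) q8880, e3 q8033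 (flp_g L161504) q8499, e3 q8034 L157135 q7086, e3 q8035 (flp_g L164158) q8782, e3 q8036 (flp_g L165163) q8882, e3 q8037 (flp_g L161892) q8535, e3 q8038 L157165 q7091, e3 q8039 L157173 q7093, e3 q8040 L157186 q7388, e3 q8041 L157204 q7104, e3 q8042 L157216 q7107, e3 q8043 L157232 q7110, e3 q8044 L157248 q7372, e3 q8045 L157262 q7485, e3 q8046 L157274 q7710, e3 q8047 (flp_g L165254) q8895, e3 q8048 L157296 q7506, e3 q8049 L157306 q7737, e3 q8050 L157321 q7109, e3 q8051 (flp_g L165351) q8902, e3 q8052 (flp_g L165266) q8896, e3 q8053 L157352 q7393, e3 q8054 L157368 q7122, e3 q8055 L157381 q7124, e3 q8056 L157389 q7125, e3 q8057 L157403 q7128, e3 q8058 L157419 q7119, e3 q8059 (flp_g L165443) q8909, e3 q8060 L157437 q7131, e3 q8061 L157454 q7476, e3 q8062 L157465 q7760, e3 q8063 (flp_g L165400) q8906, trivial⟩ (by decide +kernel)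

theorem ce_g_126 : ∀ r, r < 64 → sm gg (Qf (8064 + r)) = Qf (tab Gen.g (8064 + r)) :=
  edges_tab (sm gg) Qf (tab Gen.g) 8064 [(8064, 7123), (8065, 8914), (8066, 8907), (8067, 7127), (8068, 8917), (8069, 8908), (8070, 7130), (8071, 8773), (8072, 8911), (8073, 7809), (8074, 7137), (8075, 7743), (8076, 8924), (8077, 7148), (8078, 7394), (8079, 7508), (8080, 7748), (8081, 7147), (8082, 8787), (8083, 8927), (8084, 7396), (8085, 7158), (8086, 7163), (8087, 7154), (8088, 7808), (8089, 7166), (8090, 7479), (8091, 7794), (8092, 7502), (8093, 7804), (8094, 7162), (8095, 8935), (8096, 8930), (8097, 7747), (8098, 8932), (8099, 7750), (8100, 7170), (8101, 8923), (8102, 7515), (8103, 7176), (8104, 7177), (8105, 7178), (8106, 8557), (8107, 7180), (8108, 7181), (8109, 7374), (8110, 8939), (8111, 8940), (8112, 8486), (8113, 8942), (8114, 7179), (8115, 8950), (8116, 8944), (8117, 7189), (8118, 7377), (8119, 7216), (8120, 7217), (8121, 7386), (8122, 7729), (8123, 7368), (8124, 7376), (8125, 7370), (8126,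 7373), (8127, 7209)]
    ⟨e3 q8064 (flp_g L157475) q7123, e3 q8065 (flp_g L165507) q8914, e3 q8066 (flp_g L165416) q8907, e3 q8067 L157514 q7127, e3 q8068 (flp_g L165532) q8917, e3 q8069 (flp_g L165426) q8908, e3 q8070 L157537 q7130, e3 q8071 (flp_g L164049) q8773, e3 q8072 (flp_g L165467) q8911, e3 q8073 L157561 q7809, e3 q8074 L157570 q7137, e3 q8075 L157582 q7743, e3 q8076 (flp_g L165601) q8924, e3 q8077 L157596 q7148, e3 q8078 L157611 q7394, e3 q8079 L157625 q7508, e3 q8080 L157633 q7748, e3 q8081 L157653 q7147, e3 q8082 (flp_g L164230) q8787, e3 q8083 (flp_g L165632) q8927, e3 q8084 L157677 q7396, e3 q8085 L157694 q7158, e3 q8086 L157706 q7163, e3 q8087 L157723 q7154, e3 q8088 L157735 q7808, e3 q8089 L157745 q7166, e3 q8090 L157760 q7479, e3 q8091 L157768 q7794, e3 q8092 L157782 q7502, e3 q8093 L157790 q7804, e3 q8094 L157805 q7162, e3 q8095 (flp_g L165747) q8935, e3 q8096 (flp_g L165677) q8930, e3 q8097 L157829 q7747, e3 q8098 (flp_g L165708) q8932, e3 q8099 L157847 q7750, e3 q8100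 L157861 q7170, e3 q8101 (flp_g L165590) q8923, e3 q8102 L157884 q7515, e3 q8103 L157892 q7176, e3 q8104 L157903 q7177, e3 q8105 L157918 q7178, e3 q8106 (flp_g L162100) q8557, e3 q8107 L157930 q7180, e3 q8108 L157935 q7181, e3 q8109 L157945 q7374, e3 q8110 (flp_g L165796) q8939, e3 q8111 (flp_g L165814) q8940, e3 q8112 (flp_g L161380) q8486, e3 q8113 (flp_g L165840) q8942, e3 q8114 (flp_g L157984) q7179, e3 q8115 (flp_g L165922) q8950, e3 q8116 (flp_g L165859) q8944, e3 q8117 L158021 q7189, e3 q8118 L158036 q7377, e3 q8119 L158045 q7216, e3 q8120 L158064 q7217, e3 q8121 L158079 q7386, e3 q8122 L158094 q7729, e3 q8123 L158107 q7368, e3 q8124 L158124 q7376, e3 q8125 L158136 q7370, e3 q8126 L158148 q7373, e3 q8127 L158160 q7209, trivial⟩ (by decide +kernel)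

theorem ce_g_127 : ∀ r, r < 64 → sm gg (Qf (8128 + r)) = Qf (tab Gen.g (8128 + r)) :=
  edges_tab (sm gg) Qf (tab Gen.g) 8128 [(8128, 7211), (8129, 7213), (8130, 8712), (8131, 8956), (8132, 7358), (8133, 7362), (8134, 8957), (8135, 7363), (8136, 7360), (8137, 7660), (8138, 7224), (8139, 7225), (8140, 8760), (8141, 8964), (8142, 8965), (8143, 7230), (8144, 7231), (8145, 7793), (8146, 8968), (8147, 7740), (8148, 7235), (8149, 8761), (8150, 7807), (8151, 7801), (8152, 8287), (8153, 8518), (8154, 7243), (8155, 7244), (8156, 7245), (8157, 8975), (8158, 8976), (8159, 8977), (8160, 8520), (8161, 8978), (8162, 8979), (8163, 8696), (8164, 8697), (8165, 7250), (8166, 7252), (8167, 7255), (8168, 7699), (8169, 7668), (8170, 8991), (8171, 7665), (8172, 8725), (8173, 7466), (8174, 8992), (8175, 8769), (8176, 7444), (8177, 8713), (8178, 8714), (8179, 8715), (8180, 8716), (8181, 7266), (8182, 7267), (8183, 7268), (8184, 8704), (8185, 7270), (8186, 7271), (8187, 8754), (8188, 7274), (8189, 7704), (8190,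 7705), (8191, 9008)]
    ⟨e3 q8128 L158176 q7211, e3 q8129 L158186 q7213, e3 q8130 (flp_g L163354) q8712, e3 q8131 (flp_g L165994) q8956, e3 q8132 L158216 q7358, e3 q8133 L158232 q7362, e3 q8134 (flp_g L166004) q8957, e3 q8135 L158250 q7363, e3 q8136 L158266 q7360, e3 q8137 L158276 q7660, e3 q8138 L158290 q7224, e3 q8139 L158300 q7225, e3 q8140 (flp_g L163891) q8760, e3 q8141 (flp_g L166082) q8964, e3 q8142 (flp_g L166090) q8965, e3 q8143 L158340 q7230, e3 q8144 L158347 q7231, e3 q8145 L158366 q7793, e3 q8146 (flp_g L166122) q8968, e3 q8147 L158382 q7740, e3 q8148 L158391 q7235, e3 q8149 (flp_g L163903) q8761, e3 q8150 L158415 q7807, e3 q8151 L158427 q7801, e3 q8152 (flp_g L159654) q8287, e3 q8153 (flp_g L161747) q8518, e3 q8154 L158458 q7243, e3 q8155 L158467 q7244, e3 q8156 L158478 q7245, e3 q8157 (flp_g L166195) q8975, e3 q8158 (flp_g L166206) q8976, e3 q8159 (flp_g L166218) q8977, e3 q8160 (flp_g L161771) q8520, e3 q8161 (flp_g L166229) q8978, e3 q8162 (flp_g L166236) q8979, e3 q8163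 (flp_g L163173) q8696, e3 q8164 (flp_g L163191) q8697, e3 q8165 L158542 q7250, e3 q8166 L158558 q7252, e3 q8167 L158568 q7255, e3 q8168 L158578 q7699, e3 q8169 L158590 q7668, e3 q8170 (flp_g L166339) q8991, e3 q8171 L158604 q7665, e3 q8172 (flp_g L163517) q8725, e3 q8173 L158624 q7466, e3 q8174 (flp_g L166349) q8992, e3 q8175 (flp_g L164007) q8769, e3 q8176 L158652 q7444, e3 q8177 (flp_g L163372) q8713, e3 q8178 (flp_g L163386) q8714, e3 q8179 (flp_g L163399) q8715, e3 q8180 (flp_g L163409) q8716, e3 q8181 L158699 q7266, e3 q8182 L158711 q7267, e3 q8183 L158717 q7268, e3 q8184 (flp_g L163276) q8704, e3 q8185 L158737 q7270, e3 q8186 L158745 q7271, e3 q8187 (flp_g L163819) q8754, e3 q8188 L158765 q7274, e3 q8189 L158779 q7704, e3 q8190 L158791 q7705, e3 q8191 (flp_g L166492) q9008, trivial⟩ (by decide +kernel)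

theorem ce_g_128 : ∀ r, r < 64 → sm gg (Qf (8192 + r)) = Qf (tab Gen.g (8192 + r)) :=
  edges_tab (sm gg) Qf (tab Gen.g) 8192 [(8192, 8707), (8193, 9009), (8194, 9010), (8195, 9028), (8196, 9012), (8197, 9013), (8198, 7269), (8199, 9033), (8200, 9015), (8201, 9016), (8202, 7273), (8203, 9037), (8204, 7421), (8205, 9041), (8206, 7281), (8207, 7282), (8208, 7276), (8209, 9046), (8210, 7279), (8211, 8213), (8212, 7280), (8213, 8211), (8214, 9048), (8215, 9044), (8216, 9045), (8217, 7284), (8218, 9053), (8219, 7645), (8220, 7638), (8221, 7288), (8222, 8767), (8223, 7417), (8224, 8511), (8225, 7293), (8226, 7295), (8227, 8749), (8228, 7304), (8229, 7306), (8230, 7730), (8231, 7498), (8232, 9058), (8233, 7496), (8234, 9059), (8235, 8772), (8236, 8762), (8237, 7320), (8238, 7321), (8239, 7323), (8240, 7324), (8241, 8756), (8242, 7733), (8243, 7734), (8244, 8710), (8245, 9064), (8246, 9065), (8247, 8758), (8248, 9066), (8249, 9067), (8250, 7326), (8251, 8793), (8252, 7334), (8253, 7335), (8254,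 7742), (8255, 9075)]
    ⟨e3 q8192 (flp_g L163307) q8707, e3 q8193 (flp_g L166505) q9009, e3 q8194 (flp_g L166515) q9010, e3 q8195 L166661 q9028, e3 q8196 (flp_g L166531) q9012, e3 q8197 (flp_g L166543) q9013, e3 q8198 (flp_g L158840) q7269, e3 q8199 (flp_g L166711) q9033, e3 q8200 (flp_g L166561) q9015, e3 q8201 (flp_g L166569) q9016, e3 q8202 L158874 q7273, e3 q8203 (flp_g L166735) q9037, e3 q8204 L158890 q7421, e3 q8205 L166773 q9041, e3 q8206 L158910 q7281, e3 q8207 L158921 q7282, e3 q8208 (flp_g L158923) q7276, e3 q8209 (flp_g L166836) q9046, e3 q8210 L158956 q7279, e3 q8211 (flp_g L158985) q8213, e3 q8212 (flp_g L158967) q7280, e3 q8213 L158985 q8211, e3 q8214 (flp_g L166856) q9048, e3 q8215 (flp_g L166815) q9044, e3 q8216 (flp_g L166822) q9045, e3 q8217 L159019 q7284, e3 q8218 (flp_g L166905) q9053, e3 q8219 L159039 q7645, e3 q8220 L159050 q7638, e3 q8221 L159064 q7288, e3 q8222 (flp_g L163985) q8767, e3 q8223 L159084 q7417, e3 q8224 (flp_g L161665) q8511, e3 q8225 L159105 q7293,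 e3 q8226 L159115 q7295, e3 q8227 (flp_g L163747) q8749, e3 q8228 L159138 q7304, e3 q8229 L159148 q7306, e3 q8230 L159159 q7730, e3 q8231 L159169 q7498, e3 q8232 (flp_g L166963) q9058, e3 q8233 L159185 q7496, e3 q8234 (flp_g L166971) q9059, e3 q8235 (flp_g L164037) q8772, e3 q8236 (flp_g L163919) q8762, e3 q8237 L159223 q7320, e3 q8238 L159231 q7321, e3 q8239 L159241 q7323, e3 q8240 L159249 q7324, e3 q8241 (flp_g L163839) q8756, e3 q8242 L159272 q7733, e3 q8243 L159280 q7734, e3 q8244 (flp_g L163338) q8710, e3 q8245 (flp_g L167024) q9064, e3 q8246 (flp_g L167034) q9065, e3 q8247 (flp_g L163866) q8758, e3 q8248 (flp_g L167042) q9066, e3 q8249 (flp_g L167055) q9067, e3 q8250 L159328 q7326, e3 q8251 (flp_g L164324) q8793, e3 q8252 L159348 q7334, e3 q8253 L159357 q7335, e3 q8254 L159369 q7742, e3 q8255 (flp_g L167119) q9075, trivial⟩ (by decide +kernel)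

theorem ce_g_129 : ∀ r, r < 64 → sm gg (Qf (8256 + r)) = Qf (tab Gen.g (8256 + r)) :=
  edges_tab (sm gg) Qf (tab Gen.g) 8256 [(8256, 9076), (8257, 7341), (8258, 7731), (8259, 7744), (8260, 8790), (8261, 7352), (8262, 7353), (8263, 7735), (8264, 7736), (8265, 7746), (8266, 8788), (8267, 8797), (8268, 7868), (8269, 8960), (8270, 7878), (8271, 8963), (8272, 8812), (8273, 8961), (8274, 7371), (8275, 8834), (8276, 8703), (8277, 8835), (8278, 8836), (8279, 8802), (8280, 7843), (8281, 8953), (8282, 8819), (8283, 8955), (8284, 9087), (8285, 8897), (8286, 8945), (8287, 8152), (8288, 8946), (8289, 7845), (8290, 8954), (8291, 7604), (8292, 7379), (8293, 7618), (8294, 9107), (8295, 7381), (8296, 7382), (8297, 7384), (8298, 8813), (8299, 8753), (8300, 8837), (8301, 8785), (8302, 8905), (8303, 8786), (8304, 8798), (8305, 7403), (8306, 7404), (8307, 7406), (8308, 7407), (8309, 7696), (8310, 7751), (8311, 7752), (8312, 9112), (8313, 9125), (8314, 9113), (8315, 9114), (8316, 7405), (8317, 9129), (8318,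 9115), (8319, 7415)]
    ⟨e3 q8256 (flp_g L167128) q9076, e3 q8257 L159385 q7341, e3 q8258 L159398 q7731, e3 q8259 L159406 q7744, e3 q8260 (flp_g L164275) q8790, e3 q8261 L159424 q7352, e3 q8262 L159437 q7353, e3 q8263 L159451 q7735, e3 q8264 L159457 q7736, e3 q8265 L159465 q7746, e3 q8266 (flp_g L164245) q8788, e3 q8267 (flp_g L164377) q8797, e3 q8268 L159495 q7868, e3 q8269 (flp_g L166038) q8960, e3 q8270 L159519 q7878, e3 q8271 (flp_g L166070) q8963, e3 q8272 (flp_g L164514) q8812, e3 q8273 (flp_g L166048) q8961, e3 q8274 L159551 q7371, e3 q8275 (flp_g L164734) q8834, e3 q8276 (flp_g L163260) q8703, e3 q8277 (flp_g L164749) q8835, e3 q8278 (flp_g L164759) q8836, e3 q8279 (flp_g L164431) q8802, e3 q8280 L159598 q7843, e3 q8281 (flp_g L165953) q8953, e3 q8282 (flp_g L164595) q8819, e3 q8283 (flp_g L165980) q8955, e3 q8284 (flp_g L167228) q9087, e3 q8285 (flp_g L165283) q8897, e3 q8286 (flp_g L165866) q8945, e3 q8287 L159654 q8152, e3 q8288 (flp_g L165883) q8946, e3 q8289 L159674 q7845,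 e3 q8290 (flp_g L165964) q8954, e3 q8291 L159688 q7604, e3 q8292 (flp_g L159696) q7379, e3 q8293 L159720 q7618, e3 q8294 (flp_g L167417) q9107, e3 q8295 L159747 q7381, e3 q8296 L159761 q7382, e3 q8297 L159771 q7384, e3 q8298 (flp_g L164524) q8813, e3 q8299 (flp_g L163805) q8753, e3 q8300 (flp_g L164769) q8837, e3 q8301 (flp_g L164205) q8785, e3 q8302 (flp_g L165381) q8905, e3 q8303 (flp_g L164215) q8786, e3 q8304 (flp_g L164391) q8798, e3 q8305 L159834 q7403, e3 q8306 L159844 q7404, e3 q8307 L159854 q7406, e3 q8308 L159860 q7407, e3 q8309 L159868 q7696, e3 q8310 L159878 q7751, e3 q8311 L159890 q7752, e3 q8312 (flp_g L167457) q9112, e3 q8313 L167570 q9125, e3 q8314 (flp_g L167471) q9113, e3 q8315 (flp_g L167479) q9114, e3 q8316 (flp_g L159912) q7405, e3 q8317 (flp_g L167602) q9129, e3 q8318 (flp_g L167487) q9115, e3 q8319 L159938 q7415, trivial⟩ (by decide +kernel)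

theorem ce_g_130 : ∀ r, r < 64 → sm gg (Qf (8320 + r)) = Qf (tab Gen.g (8320 + r)) :=
  edges_tab (sm gg) Qf (tab Gen.g) 8320 [(8320, 8722), (8321, 7418), (8322, 7700), (8323, 7701), (8324, 7756), (8325, 8852), (8326, 7758), (8327, 7759), (8328, 9145), (8329, 9133), (8330, 9055), (8331, 7416), (8332, 9150), (8333, 9039), (8334, 9134), (8335, 7420), (8336, 9154), (8337, 9156), (8338, 7436), (8339, 7437), (8340, 7423), (8341, 9161), (8342, 7440), (8343, 7441), (8344, 7427), (8345, 9165), (8346, 7706), (8347, 8821), (8348, 7708), (8349, 7709), (8350, 9173), (8351, 7763), (8352, 7764), (8353, 7432), (8354, 9178), (8355, 7767), (8356, 7768), (8357, 8359), (8358, 7435), (8359, 8357), (8360, 9183), (8361, 9159), (8362, 9160), (8363, 7439), (8364, 9188), (8365, 9163), (8366, 9164), (8367, 7443), (8368, 8770), (8369, 9001), (8370, 7774), (8371, 7445), (8372, 7772), (8373, 9196), (8374, 7458), (8375, 7459), (8376, 7449), (8377, 9201), (8378, 7462), (8379, 7463), (8380, 7453), (8381, 8383), (8382,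 7457), (8383, 8381)]
    ⟨e3 q8320 (flp_g L163481) q8722, e3 q8321 L159958 q7418, e3 q8322 L159968 q7700, e3 q8323 L159978 q7701, e3 q8324 L159984 q7756, e3 q8325 (flp_g L164937) q8852, e3 q8326 L160003 q7758, e3 q8327 L160011 q7759, e3 q8328 L167736 q9145, e3 q8329 (flp_g L167636) q9133, e3 q8330 (flp_g L166924) q9055, e3 q8331 (flp_g L160033) q7416, e3 q8332 (flp_g L167780) q9150, e3 q8333 (flp_g L166755) q9039, e3 q8334 (flp_g L167644) q9134, e3 q8335 L160063 q7420, e3 q8336 (flp_g L167802) q9154, e3 q8337 L167816 q9156, e3 q8338 L160087 q7436, e3 q8339 L160097 q7437, e3 q8340 (flp_g L160099) q7423, e3 q8341 (flp_g L167876) q9161, e3 q8342 L160123 q7440, e3 q8343 L160129 q7441, e3 q8344 L160139 q7427, e3 q8345 (flp_g L167904) q9165, e3 q8346 L160151 q7706, e3 q8347 (flp_g L164619) q8821, e3 q8348 L160171 q7708, e3 q8349 L160179 q7709, e3 q8350 L167970 q9173, e3 q8351 L160197 q7763, e3 q8352 L160209 q7764, e3 q8353 (flp_g L160211) q7432, e3 q8354 (flp_g L168032) q9178, e3 q8355 L160235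 q7767, e3 q8356 L160241 q7768, e3 q8357 (flp_g L160265) q8359, e3 q8358 (flp_g L160249) q7435, e3 q8359 L160265 q8357, e3 q8360 (flp_g L168068) q9183, e3 q8361 (flp_g L167858) q9159, e3 q8362 (flp_g L167866) q9160, e3 q8363 L160287 q7439, e3 q8364 (flp_g L168100) q9188, e3 q8365 (flp_g L167890) q9163, e3 q8366 (flp_g L167896) q9164, e3 q8367 L160303 q7443, e3 q8368 (flp_g L164015) q8770, e3 q8369 (flp_g L166433) q9001, e3 q8370 (flp_g L160322) q7774, e3 q8371 (flp_g L160326) q7445, e3 q8372 L160346 q7772, e3 q8373 (flp_g L168147) q9196, e3 q8374 L160364 q7458, e3 q8375 L160370 q7459, e3 q8376 L160381 q7449, e3 q8377 (flp_g L168196) q9201, e3 q8378 L160402 q7462, e3 q8379 L160414 q7463, e3 q8380 L160427 q7453, e3 q8381 (flp_g L160457) q8383, e3 q8382 L160445 q7457, e3 q8383 L160457 q8381, trivial⟩ (by decide +kernel)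

theorem ce_g_131 : ∀ r, r < 64 → sm gg (Qf (8384 + r)) = Qf (tab Gen.g (8384 + r)) :=
  edges_tab (sm gg) Qf (tab Gen.g) 8384 [(8384, 9205), (8385, 9199), (8386, 9200), (8387, 7461), (8388, 9211), (8389, 8999), (8390, 9203), (8391, 8726), (8392, 8995), (8393, 8537), (8394, 7470), (8395, 7472), (8396, 7702), (8397, 7703), (8398, 8912), (8399, 7761), (8400, 8933), (8401, 7795), (8402, 7482), (8403, 7484), (8404, 8898), (8405, 7711), (8406, 7489), (8407, 9222), (8408, 7771), (8409, 7492), (8410, 8776), (8411, 7798), (8412, 9061), (8413, 7732), (8414, 7745), (8415, 8789), (8416, 8900), (8417, 7738), (8418, 8795), (8419, 7749), (8420, 8556), (8421, 7516), (8422, 7517), (8423, 8938), (8424, 9231), (8425, 7528), (8426, 7697), (8427, 7698), (8428, 9237), (8429, 7754), (8430, 7755), (8431, 7523), (8432, 9240), (8433, 7812), (8434, 7527), (8435, 9243), (8436, 9233), (8437, 9247), (8438, 7713), (8439, 7714), (8440, 7531), (8441, 9252), (8442, 7717), (8443, 8445), (8444, 7534), (8445, 8443), (8446,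 9256), (8447, 7776)]
    ⟨e3 q8384 (flp_g L168234) q9205, e3 q8385 (flp_g L168171) q9199, e3 q8386 (flp_g L168181) q9200, e3 q8387 L160485 q7461, e3 q8388 (flp_g L168284) q9211, e3 q8389 (flp_g L166415) q8999, e3 q8390 (flp_g L168216) q9203, e3 q8391 (flp_g L163527) q8726, e3 q8392 (flp_g L166379) q8995, e3 q8393 (flp_g L161912) q8537, e3 q8394 L160544 q7470, e3 q8395 L160557 q7472, e3 q8396 L160576 q7702, e3 q8397 L160584 q7703, e3 q8398 (flp_g L165482) q8912, e3 q8399 L160601 q7761, e3 q8400 (flp_g L165728) q8933, e3 q8401 L160619 q7795, e3 q8402 L160628 q7482, e3 q8403 L160640 q7484, e3 q8404 (flp_g L165299) q8898, e3 q8405 L160660 q7711, e3 q8406 L160670 q7489, e3 q8407 (flp_g L168394) q9222, e3 q8408 L160682 q7771, e3 q8409 L160694 q7492, e3 q8410 (flp_g L164093) q8776, e3 q8411 L160708 q7798, e3 q8412 (flp_g L166994) q9061, e3 q8413 L160724 q7732, e3 q8414 L160732 q7745, e3 q8415 (flp_g L164260) q8789, e3 q8416 (flp_g L165323) q8900, e3 q8417 L160754 q7738, e3 q8418 (flp_g L164350)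 q8795, e3 q8419 L160770 q7749, e3 q8420 (flp_g L162089) q8556, e3 q8421 L160792 q7516, e3 q8422 L160797 q7517, e3 q8423 (flp_g L165786) q8938, e3 q8424 (flp_g L168478) q9231, e3 q8425 L160826 q7528, e3 q8426 L160833 q7697, e3 q8427 L160845 q7698, e3 q8428 L168533 q9237, e3 q8429 L160863 q7754, e3 q8430 L160869 q7755, e3 q8431 (flp_g L160873) q7523, e3 q8432 (flp_g L168575) q9240, e3 q8433 L160902 q7812, e3 q8434 L160911 q7527, e3 q8435 (flp_g L168599) q9243, e3 q8436 (flp_g L168496) q9233, e3 q8437 L168621 q9247, e3 q8438 L160937 q7713, e3 q8439 L160949 q7714, e3 q8440 (flp_g L160951) q7531, e3 q8441 (flp_g L168682) q9252, e3 q8442 L160981 q7717, e3 q8443 (flp_g L161009) q8445, e3 q8444 (flp_g L160991) q7534, e3 q8445 L161009 q8443, e3 q8446 (flp_g L168720) q9256, e3 q8447 L161027 q7776, trivial⟩ (by decide +kernel)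

theorem ce_g_132 : ∀ r, r < 64 → sm gg (Qf (8448 + r)) = Qf (tab Gen.g (8448 + r)) :=
  edges_tab (sm gg) Qf (tab Gen.g) 8448 [(8448, 7777), (8449, 7538), (8450, 9261), (8451, 7780), (8452, 7781), (8453, 8455), (8454, 7544), (8455, 8453), (8456, 9267), (8457, 7817), (8458, 7818), (8459, 7548), (8460, 9273), (8461, 7821), (8462, 7822), (8463, 7677), (8464, 7826), (8465, 7815), (8466, 7557), (8467, 7813), (8468, 9278), (8469, 7571), (8470, 7572), (8471, 7561), (8472, 9284), (8473, 7575), (8474, 7576), (8475, 8544), (8476, 7577), (8477, 8479), (8478, 7570), (8479, 8477), (8480, 9289), (8481, 9281), (8482, 9282), (8483, 9283), (8484, 7574), (8485, 9287), (8486, 8112), (8487, 7584), (8488, 9291), (8489, 7721), (8490, 7587), (8491, 8778), (8492, 7784), (8493, 7741), (8494, 7802), (8495, 7595), (8496, 8796), (8497, 7666), (8498, 8523), (8499, 8033), (8500, 9300), (8501, 7662), (8502, 7607), (8503, 7787), (8504, 7609), (8505, 7885), (8506, 7661), (8507, 7724), (8508, 7612), (8509, 7722), (8510,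 7619), (8511, 8224)]
    ⟨e3 q8448 L161035 q7777, e3 q8449 L161046 q7538, e3 q8450 (flp_g L168766) q9261, e3 q8451 L161062 q7780, e3 q8452 L161069 q7781, e3 q8453 (flp_g L161103) q8455, e3 q8454 L161091 q7544, e3 q8455 L161103 q8453, e3 q8456 (flp_g L168816) q9267, e3 q8457 L161117 q7817, e3 q8458 L161124 q7818, e3 q8459 L161136 q7548, e3 q8460 (flp_g L168875) q9273, e3 q8461 L161148 q7821, e3 q8462 L161156 q7822, e3 q8463 L161169 q7677, e3 q8464 L161174 q7826, e3 q8465 L161191 q7815, e3 q8466 L161204 q7557, e3 q8467 L161217 q7813, e3 q8468 (flp_g L168924) q9278, e3 q8469 L161233 q7571, e3 q8470 L161240 q7572, e3 q8471 L161252 q7561, e3 q8472 (flp_g L168982) q9284, e3 q8473 L161266 q7575, e3 q8474 L161275 q7576, e3 q8475 (flp_g L161969) q8544, e3 q8476 L161295 q7577, e3 q8477 (flp_g L161322) q8479, e3 q8478 L161311 q7570, e3 q8479 L161322 q8477, e3 q8480 (flp_g L169033) q9289, e3 q8481 (flp_g L168951) q9281, e3 q8482 (flp_g L168960) q9282, e3 q8483 (flp_g L168969) q9283, e3 q8484 L161361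 q7574, e3 q8485 (flp_g L169015) q9287, e3 q8486 L161380 q8112, e3 q8487 L161397 q7584, e3 q8488 (flp_g L169058) q9291, e3 q8489 L161415 q7721, e3 q8490 L161425 q7587, e3 q8491 (flp_g L164120) q8778, e3 q8492 L161437 q7784, e3 q8493 L161446 q7741, e3 q8494 L161454 q7802, e3 q8495 L161465 q7595, e3 q8496 (flp_g L164368) q8796, e3 q8497 L161483 q7666, e3 q8498 (flp_g L161794) q8523, e3 q8499 L161504 q8033, e3 q8500 L169131 q9300, e3 q8501 L161521 q7662, e3 q8502 (flp_g L161525) q7607, e3 q8503 (flp_g L161552) q7787, e3 q8504 (flp_g L161554) q7609, e3 q8505 L161584 q7885, e3 q8506 L161595 q7661, e3 q8507 (flp_g L161610) q7724, e3 q8508 (flp_g L161614) q7612, e3 q8509 L161642 q7722, e3 q8510 L161652 q7619, e3 q8511 L161665 q8224, trivial⟩ (by decide +kernel)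

theorem ce_g_133 : ∀ r, r < 64 → sm gg (Qf (8512 + r)) = Qf (tab Gen.g (8512 + r)) :=
  edges_tab (sm gg) Qf (tab Gen.g) 8512 [(8512, 7652), (8513, 7644), (8514, 7622), (8515, 9102), (8516, 7636), (8517, 7881), (8518, 8153), (8519, 7642), (8520, 8160), (8521, 9234), (8522, 9056), (8523, 8498), (8524, 8590), (8525, 7641), (8526, 9265), (8527, 9307), (8528, 8026), (8529, 7643), (8530, 8024), (8531, 9318), (8532, 9305), (8533, 9052), (8534, 7647), (8535, 8037), (8536, 7785), (8537, 8393), (8538, 9302), (8539, 8998), (8540, 7664), (8541, 8724), (8542, 8994), (8543, 8983), (8544, 8475), (8545, 7674), (8546, 9323), (8547, 7678), (8548, 9276), (8549, 9324), (8550, 7829), (8551, 7682), (8552, 7827), (8553, 8941), (8554, 7693), (8555, 7686), (8556, 8420), (8557, 8106), (8558, 7695), (8559, 8980), (8560, 9116), (8561, 9117), (8562, 9309), (8563, 9235), (8564, 9236), (8565, 8993), (8566, 9135), (8567, 9136), (8568, 9137), (8569, 9216), (8570, 9018), (8571, 9019), (8572, 9020), (8573, 8820), (8574,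 9167), (8575, 9168)]
    ⟨e3 q8512 L161675 q7652, e3 q8513 L161684 q7644, e3 q8514 L161699 q7622, e3 q8515 (flp_g L167366) q9102, e3 q8516 L161715 q7636, e3 q8517 L161733 q7881, e3 q8518 L161747 q8153, e3 q8519 L161761 q7642, e3 q8520 L161771 q8160, e3 q8521 L168510 q9234, e3 q8522 (flp_g L166937) q9056, e3 q8523 L161794 q8498, e3 q8524 (flp_g L162367) q8590, e3 q8525 L161817 q7641, e3 q8526 (flp_g L168800) q9265, e3 q8527 (flp_g L169230) q9307, e3 q8528 L161845 q8026, e3 q8529 (flp_g L161836) q7643, e3 q8530 L161856 q8024, e3 q8531 (flp_g L169327) q9318, e3 q8532 (flp_g L169205) q9305, e3 q8533 (flp_g L166890) q9052, e3 q8534 L161881 q7647, e3 q8535 L161892 q8037, e3 q8536 L161902 q7785, e3 q8537 L161912 q8393, e3 q8538 (flp_g L169167) q9302, e3 q8539 (flp_g L166403) q8998, e3 q8540 L161930 q7664, e3 q8541 (flp_g L163501) q8724, e3 q8542 (flp_g L166367) q8994, e3 q8543 (flp_g L166267) q8983, e3 q8544 L161969 q8475, e3 q8545 L161984 q7674, e3 q8546 (flp_g L169361) q9323, e3 q8547 L162002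 q7678, e3 q8548 (flp_g L168900) q9276, e3 q8549 (flp_g L169375) q9324, e3 q8550 L162027 q7829, e3 q8551 L162043 q7682, e3 q8552 L162055 q7827, e3 q8553 (flp_g L165831) q8941, e3 q8554 L162069 q7693, e3 q8555 L162078 q7686, e3 q8556 L162089 q8420, e3 q8557 L162100 q8106, e3 q8558 L162111 q7695, e3 q8559 (flp_g L166245) q8980, e3 q8560 (flp_g L167495) q9116, e3 q8561 (flp_g L167507) q9117, e3 q8562 (flp_g L169256) q9309, e3 q8563 (flp_g L168520) q9235, e3 q8564 (flp_g L168527) q9236, e3 q8565 (flp_g L166361) q8993, e3 q8566 (flp_g L167652) q9135, e3 q8567 (flp_g L167663) q9136, e3 q8568 (flp_g L167671) q9137, e3 q8569 (flp_g L168340) q9216, e3 q8570 (flp_g L166589) q9018, e3 q8571 (flp_g L166604) q9019, e3 q8572 (flp_g L166614) q9020, e3 q8573 (flp_g L164603) q8820, e3 q8574 (flp_g L167922) q9167, e3 q8575 (flp_g L167934) q9168, trivial⟩ (by decide +kernel)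

theorem ce_g_134 : ∀ r, r < 64 → sm gg (Qf (8576 + r)) = Qf (tab Gen.g (8576 + r)) :=
  edges_tab (sm gg) Qf (tab Gen.g) 8576 [(8576, 8822), (8577, 9170), (8578, 9171), (8579, 8899), (8580, 9221), (8581, 9042), (8582, 7712), (8583, 9040), (8584, 9358), (8585, 9250), (8586, 9251), (8587, 7716), (8588, 9363), (8589, 9254), (8590, 8524), (8591, 7720), (8592, 8971), (8593, 9293), (8594, 9304), (8595, 7725), (8596, 7727), (8597, 9060), (8598, 9079), (8599, 9227), (8600, 9068), (8601, 9069), (8602, 9080), (8603, 8920), (8604, 8901), (8605, 9225), (8606, 9295), (8607, 9077), (8608, 8925), (8609, 8922), (8610, 8928), (8611, 9228), (8612, 8936), (8613, 8929), (8614, 8931), (8615, 9118), (8616, 9384), (8617, 9120), (8618, 9121), (8619, 7753), (8620, 9388), (8621, 9239), (8622, 8851), (8623, 9139), (8624, 9140), (8625, 8853), (8626, 9142), (8627, 9143), (8628, 8913), (8629, 9218), (8630, 9157), (8631, 7762), (8632, 9155), (8633, 9402), (8634, 9176), (8635, 9177), (8636, 7766), (8637, 9407), (8638,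 9180), (8639, 9181)]
    ⟨e3 q8576 (flp_g L164631) q8822, e3 q8577 (flp_g L167952) q9170, e3 q8578 (flp_g L167958) q9171, e3 q8579 (flp_g L165309) q8899, e3 q8580 (flp_g L168384) q9221, e3 q8581 (flp_g L166795) q9042, e3 q8582 (flp_g L162292) q7712, e3 q8583 L166769 q9040, e3 q8584 (flp_g L169661) q9358, e3 q8585 (flp_g L168661) q9250, e3 q8586 (flp_g L168670) q9251, e3 q8587 L162340 q7716, e3 q8588 (flp_g L169703) q9363, e3 q8589 (flp_g L168700) q9254, e3 q8590 L162367 q8524, e3 q8591 L162382 q7720, e3 q8592 (flp_g L166155) q8971, e3 q8593 (flp_g L169074) q9293, e3 q8594 (flp_g L169196) q9304, e3 q8595 L162422 q7725, e3 q8596 L162434 q7727, e3 q8597 (flp_g L166984) q9060, e3 q8598 (flp_g L167152) q9079, e3 q8599 (flp_g L168432) q9227, e3 q8600 (flp_g L167069) q9068, e3 q8601 (flp_g L167077) q9069, e3 q8602 (flp_g L167161) q9080, e3 q8603 (flp_g L165562) q8920, e3 q8604 (flp_g L165331) q8901, e3 q8605 (flp_g L168416) q9225, e3 q8606 (flp_g L169086) q9295, e3 q8607 (flp_g L167138) q9077,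 e3 q8608 (flp_g L165611) q8925, e3 q8609 (flp_g L165578) q8922, e3 q8610 (flp_g L165647) q8928, e3 q8611 (flp_g L168443) q9228, e3 q8612 (flp_g L165762) q8936, e3 q8613 (flp_g L165664) q8929, e3 q8614 (flp_g L165690) q8931, e3 q8615 (flp_g L167513) q9118, e3 q8616 L169849 q9384, e3 q8617 (flp_g L167536) q9120, e3 q8618 (flp_g L167544) q9121, e3 q8619 (flp_g L162574) q7753, e3 q8620 (flp_g L169892) q9388, e3 q8621 (flp_g L168561) q9239, e3 q8622 (flp_g L164922) q8851, e3 q8623 (flp_g L167687) q9139, e3 q8624 (flp_g L167698) q9140, e3 q8625 (flp_g L164947) q8853, e3 q8626 (flp_g L167716) q9142, e3 q8627 (flp_g L167724) q9143, e3 q8628 (flp_g L165492) q8913, e3 q8629 (flp_g L168356) q9218, e3 q8630 (flp_g L167840) q9157, e3 q8631 (flp_g L162654) q7762, e3 q8632 L167814 q9155, e3 q8633 (flp_g L169990) q9402, e3 q8634 (flp_g L168012) q9176, e3 q8635 (flp_g L168022) q9177, e3 q8636 L162690 q7766, e3 q8637 (flp_g L170020) q9407, e3 q8638 (flp_g L168046) q9180, e3 q8639 (flp_g L168052) q9181, trivial⟩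 (by decide +kernel)

theorem ce_g_135 : ∀ r, r < 64 → sm gg (Qf (8640 + r)) = Qf (tab Gen.g (8640 + r)) :=
  edges_tab (sm gg) Qf (tab Gen.g) 8640 [(8640, 7770), (8641, 9412), (8642, 9224), (8643, 9197), (8644, 7775), (8645, 9195), (8646, 9417), (8647, 9259), (8648, 9260), (8649, 7779), (8650, 9423), (8651, 9263), (8652, 9264), (8653, 7783), (8654, 9428), (8655, 8969), (8656, 9296), (8657, 9303), (8658, 7788), (8659, 7790), (8660, 8686), (8661, 7792), (8662, 7928), (8663, 8934), (8664, 7797), (8665, 8775), (8666, 8972), (8667, 9226), (8668, 8747), (8669, 8881), (8670, 8910), (8671, 7811), (8672, 9436), (8673, 9242), (8674, 9279), (8675, 7816), (8676, 9277), (8677, 9440), (8678, 9270), (8679, 9271), (8680, 9272), (8681, 7820), (8682, 8683), (8683, 8682), (8684, 9274), (8685, 9275), (8686, 8660), (8687, 8879), (8688, 9328), (8689, 7830), (8690, 9089), (8691, 8007), (8692, 9097), (8693, 9308), (8694, 8028), (8695, 9106), (8696, 8163), (8697, 8164), (8698, 7851), (8699, 7852), (8700, 7853),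 (8701, 7855), (8702, 7856), (8703, 8276)]
    ⟨e3 q8640 L162708 q7770, e3 q8641 (flp_g L170042) q9412, e3 q8642 (flp_g L168406) q9224, e3 q8643 (flp_g L168159) q9197, e3 q8644 L162738 q7775, e3 q8645 (flp_g L168135) q9195, e3 q8646 (flp_g L170076) q9417, e3 q8647 (flp_g L168745) q9259, e3 q8648 (flp_g L168753) q9260, e3 q8649 L162775 q7779, e3 q8650 (flp_g L170117) q9423, e3 q8651 (flp_g L168778) q9263, e3 q8652 (flp_g L168787) q9264, e3 q8653 L162801 q7783, e3 q8654 (flp_g L170152) q9428, e3 q8655 (flp_g L166135) q8969, e3 q8656 (flp_g L169092) q9296, e3 q8657 (flp_g L169181) q9303, e3 q8658 L162844 q7788, e3 q8659 L162857 q7790, e3 q8660 (flp_g L163076) q8686, e3 q8661 L162884 q7792, e3 q8662 L162901 q7928, e3 q8663 (flp_g L165736) q8934, e3 q8664 L162921 q7797, e3 q8665 (flp_g L164079) q8775, e3 q8666 (flp_g L166166) q8972, e3 q8667 (flp_g L168424) q9226, e3 q8668 (flp_g L163727) q8747, e3 q8669 (flp_g L165156) q8881, e3 q8670 (flp_g L165455) q8910, e3 q8671 L162969 q7811, e3 q8672 (flp_g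 L170216) q9436, e3 q8673 (flp_g L168591) q9242, e3 q8674 (flp_g L168937) q9279, e3 q8675 L162998 q7816, e3 q8676 (flp_g L168911) q9277, e3 q8677 (flp_g L170244) q9440, e3 q8678 (flp_g L168847) q9270, e3 q8679 (flp_g L168857) q9271, e3 q8680 (flp_g L168866) q9272, e3 q8681 L163035 q7820, e3 q8682 (flp_g L163053) q8683, e3 q8683 L163053 q8682, e3 q8684 (flp_g L168882) q9274, e3 q8685 (flp_g L168890) q9275, e3 q8686 L163076 q8660, e3 q8687 (flp_g L165139) q8879, e3 q8688 (flp_g L169410) q9328, e3 q8689 L163099 q7830, e3 q8690 (flp_g L167254) q9089, e3 q8691 L163122 q8007, e3 q8692 (flp_g L167333) q9097, e3 q8693 (flp_g L169240) q9308, e3 q8694 L163154 q8028, e3 q8695 (flp_g L167402) q9106, e3 q8696 L163173 q8163, e3 q8697 L163191 q8164, e3 q8698 L163197 q7851, e3 q8699 L163215 q7852, e3 q8700 L163227 q7853, e3 q8701 L163240 q7855, e3 q8702 L163248 q7856, e3 q8703 L163260 q8276, trivial⟩ (by decide +kernel)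

theorem ce_g_136 : ∀ r, r < 64 → sm gg (Qf (8704 + r)) = Qf (tab Gen.g (8704 + r)) :=
  edges_tab (sm gg) Qf (tab Gen.g) 8704 [(8704, 8184), (8705, 9462), (8706, 9463), (8707, 8192), (8708, 9464), (8709, 9465), (8710, 8244), (8711, 9466), (8712, 8130), (8713, 8177), (8714, 8178), (8715, 8179), (8716, 8180), (8717, 7865), (8718, 7867), (8719, 7870), (8720, 7871), (8721, 7874), (8722, 8320), (8723, 9483), (8724, 8541), (8725, 8172), (8726, 8391), (8727, 9484), (8728, 9498), (8729, 7963), (8730, 9082), (8731, 7869), (8732, 9503), (8733, 9485), (8734, 9486), (8735, 7873), (8736, 9507), (8737, 9487), (8738, 7884), (8739, 9301), (8740, 7876), (8741, 9299), (8742, 9511), (8743, 7966), (8744, 9084), (8745, 7880), (8746, 9306), (8747, 8668), (8748, 9510), (8749, 8227), (8750, 7896), (8751, 7898), (8752, 7900), (8753, 8299), (8754, 8187), (8755, 9519), (8756, 8241), (8757, 9520), (8758, 8247), (8759, 9521), (8760, 8140), (8761, 8149), (8762, 8236), (8763, 7910), (8764, 7913), (8765, 7916), (8766,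 7919), (8767, 8222)]
    ⟨e3 q8704 L163276 q8184, e3 q8705 (flp_g L170473) q9462, e3 q8706 (flp_g L170483) q9463, e3 q8707 L163307 q8192, e3 q8708 (flp_g L170502) q9464, e3 q8709 (flp_g L170510) q9465, e3 q8710 L163338 q8244, e3 q8711 (flp_g L170524) q9466, e3 q8712 L163354 q8130, e3 q8713 L163372 q8177, e3 q8714 L163386 q8178, e3 q8715 L163399 q8179, e3 q8716 L163409 q8180, e3 q8717 L163423 q7865, e3 q8718 L163437 q7867, e3 q8719 L163451 q7870, e3 q8720 L163459 q7871, e3 q8721 L163471 q7874, e3 q8722 L163481 q8320, e3 q8723 (flp_g L170738) q9483, e3 q8724 L163501 q8541, e3 q8725 L163517 q8172, e3 q8726 L163527 q8391, e3 q8727 (flp_g L170748) q9484, e3 q8728 L170904 q9498, e3 q8729 L163553 q7963, e3 q8730 (flp_g L167186) q9082, e3 q8731 (flp_g L163563) q7869, e3 q8732 (flp_g L170966) q9503, e3 q8733 (flp_g L170762) q9485, e3 q8734 (flp_g L170768) q9486, e3 q8735 L163615 q7873, e3 q8736 (flp_g L170998) q9507, e3 q8737 (flp_g L170780) q9487, e3 q8738 L163645 q7884, e3 q8739 (flp_g L169155)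 q9301, e3 q8740 (flp_g L163656) q7876, e3 q8741 L169127 q9299, e3 q8742 (flp_g L171047) q9511, e3 q8743 L163692 q7966, e3 q8744 (flp_g L167204) q9084, e3 q8745 L163710 q7880, e3 q8746 (flp_g L169217) q9306, e3 q8747 L163727 q8668, e3 q8748 (flp_g L171032) q9510, e3 q8749 L163747 q8227, e3 q8750 L163764 q7896, e3 q8751 L163776 q7898, e3 q8752 L163790 q7900, e3 q8753 L163805 q8299, e3 q8754 L163819 q8187, e3 q8755 (flp_g L171121) q9519, e3 q8756 L163839 q8241, e3 q8757 (flp_g L171131) q9520, e3 q8758 L163866 q8247, e3 q8759 (flp_g L171146) q9521, e3 q8760 L163891 q8140, e3 q8761 L163903 q8149, e3 q8762 L163919 q8236, e3 q8763 L163935 q7910, e3 q8764 L163943 q7913, e3 q8765 L163951 q7916, e3 q8766 L163965 q7919, e3 q8767 L163985 q8222, trivial⟩ (by decide +kernel)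

theorem ce_g_137 : ∀ r, r < 64 → sm gg (Qf (8768 + r)) = Qf (tab Gen.g (8768 + r)) :=
  edges_tab (sm gg) Qf (tab Gen.g) 8768 [(8768, 9530), (8769, 8175), (8770, 8368), (8771, 9531), (8772, 8235), (8773, 8071), (8774, 7918), (8775, 8665), (8776, 8410), (8777, 7957), (8778, 8491), (8779, 7929), (8780, 9433), (8781, 9540), (8782, 8035), (8783, 7937), (8784, 7939), (8785, 8301), (8786, 8303), (8787, 8082), (8788, 8266), (8789, 8415), (8790, 8260), (8791, 7947), (8792, 7949), (8793, 8251), (8794, 9537), (8795, 8418), (8796, 8496), (8797, 8267), (8798, 8304), (8799, 7962), (8800, 7964), (8801, 7967), (8802, 8279), (8803, 9492), (8804, 9547), (8805, 9472), (8806, 9556), (8807, 9501), (8808, 9548), (8809, 7965), (8810, 9560), (8811, 9514), (8812, 8272), (8813, 8298), (8814, 7978), (8815, 7979), (8816, 7981), (8817, 7982), (8818, 7985), (8819, 8282), (8820, 8573), (8821, 8347), (8822, 8576), (8823, 9564), (8824, 9577), (8825, 9454), (8826, 9565), (8827, 7980), (8828, 9582), (8829, 9566), (8830,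 9567), (8831, 7984)]
    ⟨e3 q8768 (flp_g L171280) q9530, e3 q8769 L164007 q8175, e3 q8770 L164015 q8368, e3 q8771 (flp_g L171290) q9531, e3 q8772 L164037 q8235, e3 q8773 L164049 q8071, e3 q8774 L164067 q7918, e3 q8775 L164079 q8665, e3 q8776 L164093 q8410, e3 q8777 L164105 q7957, e3 q8778 L164120 q8491, e3 q8779 L164129 q7929, e3 q8780 (flp_g L170192) q9433, e3 q8781 (flp_g L171409) q9540, e3 q8782 L164158 q8035, e3 q8783 L164171 q7937, e3 q8784 L164186 q7939, e3 q8785 L164205 q8301, e3 q8786 L164215 q8303, e3 q8787 L164230 q8082, e3 q8788 L164245 q8266, e3 q8789 L164260 q8415, e3 q8790 L164275 q8260, e3 q8791 L164294 q7947, e3 q8792 L164304 q7949, e3 q8793 L164324 q8251, e3 q8794 (flp_g L171368) q9537, e3 q8795 L164350 q8418, e3 q8796 L164368 q8496, e3 q8797 L164377 q8267, e3 q8798 L164391 q8304, e3 q8799 L164399 q7962, e3 q8800 L164413 q7964, e3 q8801 L164419 q7967, e3 q8802 L164431 q8279, e3 q8803 (flp_g L170848) q9492, e3 q8804 (flp_g L171505) q9547, e3 q8805 (flp_g L170602) q9472,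 e3 q8806 L171595 q9556, e3 q8807 (flp_g L170946) q9501, e3 q8808 (flp_g L171511) q9548, e3 q8809 (flp_g L164480) q7965, e3 q8810 (flp_g L171638) q9560, e3 q8811 (flp_g L171072) q9514, e3 q8812 L164514 q8272, e3 q8813 L164524 q8298, e3 q8814 L164542 q7978, e3 q8815 L164550 q7979, e3 q8816 L164563 q7981, e3 q8817 L164569 q7982, e3 q8818 L164581 q7985, e3 q8819 L164595 q8282, e3 q8820 L164603 q8573, e3 q8821 L164619 q8347, e3 q8822 L164631 q8576, e3 q8823 (flp_g L171683) q9564, e3 q8824 L171826 q9577, e3 q8825 (flp_g L170369) q9454, e3 q8826 (flp_g L171696) q9565, e3 q8827 (flp_g L164658) q7980, e3 q8828 (flp_g L171877) q9582, e3 q8829 (flp_g L171708) q9566, e3 q8830 (flp_g L171714) q9567, e3 q8831 L164707 q7984, trivial⟩ (by decide +kernel)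

theorem ce_g_138 : ∀ r, r < 64 → sm gg (Qf (8832 + r)) = Qf (tab Gen.g (8832 + r)) :=
  edges_tab (sm gg) Qf (tab Gen.g) 8832 [(8832, 9586), (8833, 9568), (8834, 8275), (8835, 8277), (8836, 8278), (8837, 8300), (8838, 8001), (8839, 8002), (8840, 8004), (8841, 8005), (8842, 9597), (8843, 8008), (8844, 7994), (8845, 9600), (8846, 8011), (8847, 8012), (8848, 7998), (8849, 9604), (8850, 8015), (8851, 8622), (8852, 8325), (8853, 8625), (8854, 9593), (8855, 9614), (8856, 9452), (8857, 9594), (8858, 8003), (8859, 9619), (8860, 9595), (8861, 9596), (8862, 9146), (8863, 8006), (8864, 9144), (8865, 9624), (8866, 9456), (8867, 9599), (8868, 8010), (8869, 9629), (8870, 9602), (8871, 9603), (8872, 8014), (8873, 9536), (8874, 9606), (8875, 8016), (8876, 9636), (8877, 8029), (8878, 8019), (8879, 8687), (8880, 8032), (8881, 8669), (8882, 8036), (8883, 9319), (8884, 8027), (8885, 9317), (8886, 9645), (8887, 9459), (8888, 9638), (8889, 8031), (8890, 9651), (8891, 9640), (8892, 9298), (8893, 9542), (8894,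 9643), (8895, 8047)]
    ⟨e3 q8832 (flp_g L171909) q9586, e3 q8833 (flp_g L171726) q9568, e3 q8834 L164734 q8275, e3 q8835 L164749 q8277, e3 q8836 L164759 q8278, e3 q8837 L164769 q8300, e3 q8838 L164785 q8001, e3 q8839 L164795 q8002, e3 q8840 L164812 q8004, e3 q8841 L164822 q8005, e3 q8842 L172034 q9597, e3 q8843 L164840 q8008, e3 q8844 (flp_g L164842) q7994, e3 q8845 (flp_g L172076) q9600, e3 q8846 L164874 q8011, e3 q8847 L164878 q8012, e3 q8848 L164894 q7998, e3 q8849 (flp_g L172112) q9604, e3 q8850 L164912 q8015, e3 q8851 L164922 q8622, e3 q8852 L164937 q8325, e3 q8853 L164947 q8625, e3 q8854 (flp_g L171987) q9593, e3 q8855 L172216 q9614, e3 q8856 (flp_g L170346) q9452, e3 q8857 (flp_g L172004) q9594, e3 q8858 (flp_g L164976) q8003, e3 q8859 (flp_g L172269) q9619, e3 q8860 (flp_g L172018) q9595, e3 q8861 (flp_g L172028) q9596, e3 q8862 (flp_g L167754) q9146, e3 q8863 (flp_g L165020) q8006, e3 q8864 L167732 q9144, e3 q8865 (flp_g L172303) q9624, e3 q8866 (flp_g L170400) q9456, e3 q8867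 (flp_g L172062) q9599, e3 q8868 L165054 q8010, e3 q8869 (flp_g L172333) q9629, e3 q8870 (flp_g L172094) q9602, e3 q8871 (flp_g L172100) q9603, e3 q8872 L165076 q8014, e3 q8873 (flp_g L171354) q9536, e3 q8874 (flp_g L172136) q9606, e3 q8875 (flp_g L165092) q8016, e3 q8876 (flp_g L172376) q9636, e3 q8877 L165113 q8029, e3 q8878 L165125 q8019, e3 q8879 L165139 q8687, e3 q8880 L165145 q8032, e3 q8881 L165156 q8669, e3 q8882 L165163 q8036, e3 q8883 (flp_g L169338) q9319, e3 q8884 L165178 q8027, e3 q8885 (flp_g L169318) q9317, e3 q8886 (flp_g L172447) q9645, e3 q8887 (flp_g L170427) q9459, e3 q8888 (flp_g L172388) q9638, e3 q8889 L165212 q8031, e3 q8890 (flp_g L172485) q9651, e3 q8891 (flp_g L172404) q9640, e3 q8892 (flp_g L169113) q9298, e3 q8893 (flp_g L171433) q9542, e3 q8894 (flp_g L172434) q9643, e3 q8895 L165254 q8047, trivial⟩ (by decide +kernel)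

theorem ce_g_139 : ∀ r, r < 64 → sm gg (Qf (8896 + r)) = Qf (tab Gen.g (8896 + r)) :=
  edges_tab (sm gg) Qf (tab Gen.g) 8896 [(8896, 8052), (8897, 8285), (8898, 8404), (8899, 8579), (8900, 8416), (8901, 8604), (8902, 8051), (8903, 9525), (8904, 9657), (8905, 8302), (8906, 8063), (8907, 8066), (8908, 8069), (8909, 8059), (8910, 8670), (8911, 8072), (8912, 8398), (8913, 8628), (8914, 8065), (8915, 9669), (8916, 9662), (8917, 8068), (8918, 9672), (8919, 9663), (8920, 8603), (8921, 9666), (8922, 8609), (8923, 8101), (8924, 8076), (8925, 8608), (8926, 9642), (8927, 8083), (8928, 8610), (8929, 8613), (8930, 8096), (8931, 8614), (8932, 8098), (8933, 8400), (8934, 8663), (8935, 8095), (8936, 8612), (8937, 9665), (8938, 8423), (8939, 8110), (8940, 8111), (8941, 8553), (8942, 8113), (8943, 9286), (8944, 8116), (8945, 8286), (8946, 8288), (8947, 9215), (8948, 9679), (8949, 9288), (8950, 8115), (8951, 9685), (8952, 9681), (8953, 8281), (8954, 8290), (8955, 8283), (8956, 8131), (8957, 8134), (8958,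 9479), (8959, 9690)]
    ⟨e3 q8896 L165266 q8052, e3 q8897 L165283 q8285, e3 q8898 L165299 q8404, e3 q8899 L165309 q8579, e3 q8900 L165323 q8416, e3 q8901 L165331 q8604, e3 q8902 L165351 q8051, e3 q8903 (flp_g L171200) q9525, e3 q8904 (flp_g L172538) q9657, e3 q8905 L165381 q8302, e3 q8906 L165400 q8063, e3 q8907 L165416 q8066, e3 q8908 L165426 q8069, e3 q8909 L165443 q8059, e3 q8910 L165455 q8670, e3 q8911 L165467 q8072, e3 q8912 L165482 q8398, e3 q8913 L165492 q8628, e3 q8914 L165507 q8065, e3 q8915 (flp_g L172702) q9669, e3 q8916 (flp_g L172605) q9662, e3 q8917 L165532 q8068, e3 q8918 (flp_g L172722) q9672, e3 q8919 (flp_g L172620) q9663, e3 q8920 L165562 q8603, e3 q8921 (flp_g L172663) q9666, e3 q8922 L165578 q8609, e3 q8923 L165590 q8101, e3 q8924 L165601 q8076, e3 q8925 L165611 q8608, e3 q8926 (flp_g L172424) q9642, e3 q8927 L165632 q8083, e3 q8928 L165647 q8610, e3 q8929 L165664 q8613, e3 q8930 L165677 q8096, e3 q8931 L165690 q8614, e3 q8932 L165708 q8098, e3 q8933 L165728 q8400,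 e3 q8934 L165736 q8663, e3 q8935 L165747 q8095, e3 q8936 L165762 q8612, e3 q8937 (flp_g L172649) q9665, e3 q8938 L165786 q8423, e3 q8939 L165796 q8110, e3 q8940 L165814 q8111, e3 q8941 L165831 q8553, e3 q8942 L165840 q8113, e3 q8943 (flp_g L169004) q9286, e3 q8944 L165859 q8116, e3 q8945 L165866 q8286, e3 q8946 L165883 q8288, e3 q8947 (flp_g L168326) q9215, e3 q8948 (flp_g L172812) q9679, e3 q8949 (flp_g L169022) q9288, e3 q8950 L165922 q8115, e3 q8951 (flp_g L172874) q9685, e3 q8952 (flp_g L172828) q9681, e3 q8953 L165953 q8281, e3 q8954 L165964 q8290, e3 q8955 L165980 q8283, e3 q8956 L165994 q8131, e3 q8957 L166004 q8134, e3 q8958 (flp_g L170684) q9479, e3 q8959 (flp_g L172938) q9690, trivial⟩ (by decide +kernel)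

theorem ce_g_140 : ∀ r, r < 64 → sm gg (Qf (8960 + r)) = Qf (tab Gen.g (8960 + r)) :=
  edges_tab (sm gg) Qf (tab Gen.g) 8960 [(8960, 8269), (8961, 8273), (8962, 9691), (8963, 8271), (8964, 8141), (8965, 8142), (8966, 9528), (8967, 9697), (8968, 8146), (8969, 8655), (8970, 9700), (8971, 8592), (8972, 8666), (8973, 9095), (8974, 9104), (8975, 8157), (8976, 8158), (8977, 8159), (8978, 8161), (8979, 8162), (8980, 8559), (8981, 9381), (8982, 9705), (8983, 8543), (8984, 9122), (8985, 9706), (8986, 9707), (8987, 9310), (8988, 9708), (8989, 9460), (8990, 9461), (8991, 8170), (8992, 8174), (8993, 8565), (8994, 8542), (8995, 8392), (8996, 9722), (8997, 9491), (8998, 8539), (8999, 8389), (9000, 9494), (9001, 8369), (9002, 9723), (9003, 9534), (9004, 9391), (9005, 9480), (9006, 9481), (9007, 9482), (9008, 8191), (9009, 8193), (9010, 8194), (9011, 9468), (9012, 8196), (9013, 8197), (9014, 9469), (9015, 8200), (9016, 8201), (9017, 9523), (9018, 8570), (9019, 8571), (9020, 8572), (9021, 9471), (9022,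 9554), (9023, 9740)]
    ⟨e3 q8960 L166038 q8269, e3 q8961 L166048 q8273, e3 q8962 (flp_g L172946) q9691, e3 q8963 L166070 q8271, e3 q8964 L166082 q8141, e3 q8965 L166090 q8142, e3 q8966 (flp_g L171249) q9528, e3 q8967 (flp_g L173008) q9697, e3 q8968 L166122 q8146, e3 q8969 L166135 q8655, e3 q8970 (flp_g L173044) q9700, e3 q8971 L166155 q8592, e3 q8972 L166166 q8666, e3 q8973 (flp_g L167311) q9095, e3 q8974 (flp_g L167388) q9104, e3 q8975 L166195 q8157, e3 q8976 L166206 q8158, e3 q8977 L166218 q8159, e3 q8978 L166229 q8161, e3 q8979 L166236 q8162, e3 q8980 L166245 q8559, e3 q8981 L169831 q9381, e3 q8982 (flp_g L173105) q9705, e3 q8983 L166267 q8543, e3 q8984 (flp_g L167554) q9122, e3 q8985 (flp_g L173117) q9706, e3 q8986 (flp_g L173125) q9707, e3 q8987 (flp_g L169268) q9310, e3 q8988 (flp_g L173134) q9708, e3 q8989 (flp_g L170443) q9460, e3 q8990 (flp_g L170455) q9461, e3 q8991 L166339 q8170, e3 q8992 L166349 q8174, e3 q8993 L166361 q8565, e3 q8994 L166367 q8542, e3 q8995 L166379 q8392,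 e3 q8996 (flp_g L173273) q9722, e3 q8997 (flp_g L170836) q9491, e3 q8998 L166403 q8539, e3 q8999 L166415 q8389, e3 q9000 (flp_g L170874) q9494, e3 q9001 L166433 q8369, e3 q9002 (flp_g L173281) q9723, e3 q9003 (flp_g L171334) q9534, e3 q9004 (flp_g L169918) q9391, e3 q9005 (flp_g L170698) q9480, e3 q9006 (flp_g L170708) q9481, e3 q9007 (flp_g L170720) q9482, e3 q9008 L166492 q8191, e3 q9009 L166505 q8193, e3 q9010 L166515 q8194, e3 q9011 (flp_g L170550) q9468, e3 q9012 L166531 q8196, e3 q9013 L166543 q8197, e3 q9014 (flp_g L170570) q9469, e3 q9015 L166561 q8200, e3 q9016 L166569 q8201, e3 q9017 (flp_g L171179) q9523, e3 q9018 L166589 q8570, e3 q9019 L166604 q8571, e3 q9020 L166614 q8572, e3 q9021 (flp_g L170591) q9471, e3 q9022 L171586 q9554, e3 q9023 (flp_g L173454) q9740, trivial⟩ (by decide +kernel)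

theorem ce_g_141 : ∀ r, r < 64 → sm gg (Qf (9024 + r)) = Qf (tab Gen.g (9024 + r)) :=
  edges_tab (sm gg) Qf (tab Gen.g) 9024 [(9024, 9474), (9025, 9741), (9026, 9742), (9027, 9029), (9028, 8195), (9029, 9027), (9030, 9763), (9031, 9744), (9032, 9745), (9033, 8199), (9034, 9768), (9035, 9747), (9036, 9748), (9037, 8203), (9038, 9532), (9039, 8333), (9040, 8583), (9041, 8205), (9042, 8581), (9043, 9775), (9044, 8215), (9045, 8216), (9046, 8209), (9047, 9049), (9048, 8214), (9049, 9047), (9050, 9780), (9051, 9778), (9052, 8533), (9053, 8218), (9054, 9786), (9055, 8330), (9056, 8522), (9057, 9489), (9058, 8232), (9059, 8234), (9060, 8597), (9061, 8412), (9062, 9789), (9063, 9529), (9064, 8245), (9065, 8246), (9066, 8248), (9067, 8249), (9068, 8600), (9069, 8601), (9070, 9477), (9071, 9792), (9072, 9793), (9073, 9794), (9074, 9526), (9075, 8255), (9076, 8256), (9077, 8607), (9078, 9800), (9079, 8598), (9080, 8602), (9081, 9545), (9082, 8730), (9083, 9694), (9084, 8744), (9085, 9563), (9086,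 9695), (9087, 8284)]
    ⟨e3 q9024 (flp_g L170625) q9474, e3 q9025 (flp_g L173466) q9741, e3 q9026 (flp_g L173476) q9742, e3 q9027 (flp_g L166681) q9029, e3 q9028 (flp_g L166661) q8195, e3 q9029 L166681 q9027, e3 q9030 (flp_g L173663) q9763, e3 q9031 (flp_g L173496) q9744, e3 q9032 (flp_g L173504) q9745, e3 q9033 L166711 q8199, e3 q9034 (flp_g L173705) q9768, e3 q9035 (flp_g L173520) q9747, e3 q9036 (flp_g L173530) q9748, e3 q9037 L166735 q8203, e3 q9038 (flp_g L171306) q9532, e3 q9039 L166755 q8333, e3 q9040 (flp_g L166769) q8583, e3 q9041 (flp_g L166773) q8205, e3 q9042 L166795 q8581, e3 q9043 (flp_g L173768) q9775, e3 q9044 L166815 q8215, e3 q9045 L166822 q8216, e3 q9046 L166836 q8209, e3 q9047 (flp_g L166869) q9049, e3 q9048 L166856 q8214, e3 q9049 L166869 q9047, e3 q9050 (flp_g L173815) q9780, e3 q9051 (flp_g L173797) q9778, e3 q9052 L166890 q8533, e3 q9053 L166905 q8218, e3 q9054 (flp_g L173882) q9786, e3 q9055 L166924 q8330, e3 q9056 L166937 q8522, e3 q9057 (flp_g L170814) q9489,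 e3 q9058 L166963 q8232, e3 q9059 L166971 q8234, e3 q9060 L166984 q8597, e3 q9061 L166994 q8412, e3 q9062 (flp_g L173924) q9789, e3 q9063 (flp_g L171261) q9529, e3 q9064 L167024 q8245, e3 q9065 L167034 q8246, e3 q9066 L167042 q8248, e3 q9067 L167055 q8249, e3 q9068 L167069 q8600, e3 q9069 L167077 q8601, e3 q9070 (flp_g L170657) q9477, e3 q9071 (flp_g L173951) q9792, e3 q9072 (flp_g L173960) q9793, e3 q9073 (flp_g L173970) q9794, e3 q9074 (flp_g L171215) q9526, e3 q9075 L167119 q8255, e3 q9076 L167128 q8256, e3 q9077 L167138 q8607, e3 q9078 (flp_g L174025) q9800, e3 q9079 L167152 q8598, e3 q9080 L167161 q8602, e3 q9081 (flp_g L171481) q9545, e3 q9082 L167186 q8730, e3 q9083 (flp_g L172980) q9694, e3 q9084 L167204 q8744, e3 q9085 (flp_g L171667) q9563, e3 q9086 (flp_g L172988) q9695, e3 q9087 L167228 q8284, trivial⟩ (by decide +kernel)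

theorem ce_g_142 : ∀ r, r < 64 → sm gg (Qf (9088 + r)) = Qf (tab Gen.g (9088 + r)) :=
  edges_tab (sm gg) Qf (tab Gen.g) 9088 [(9088, 9451), (9089, 8690), (9090, 9589), (9091, 9467), (9092, 9590), (9093, 9591), (9094, 9549), (9095, 8973), (9096, 9550), (9097, 8692), (9098, 9688), (9099, 9569), (9100, 9689), (9101, 9808), (9102, 8515), (9103, 9682), (9104, 8974), (9105, 9683), (9106, 8695), (9107, 8294), (9108, 9522), (9109, 9592), (9110, 9543), (9111, 9546), (9112, 8312), (9113, 8314), (9114, 8315), (9115, 8318), (9116, 8560), (9117, 8561), (9118, 8615), (9119, 9714), (9120, 8617), (9121, 8618), (9122, 8984), (9123, 9827), (9124, 9788), (9125, 8313), (9126, 9845), (9127, 9828), (9128, 9829), (9129, 8317), (9130, 9849), (9131, 9830), (9132, 9488), (9133, 8329), (9134, 8334), (9135, 8566), (9136, 8567), (9137, 8568), (9138, 9607), (9139, 8623), (9140, 8624), (9141, 9610), (9142, 8626), (9143, 8627), (9144, 8864), (9145, 8328), (9146, 8862), (9147, 9867), (9148, 9852), (9149, 9784), (9150,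 8332), (9151, 9872)]
    ⟨e3 q9088 (flp_g L170331) q9451, e3 q9089 L167254 q8690, e3 q9090 (flp_g L171938) q9589, e3 q9091 (flp_g L170540) q9467, e3 q9092 (flp_g L171950) q9590, e3 q9093 (flp_g L171960) q9591, e3 q9094 (flp_g L171521) q9549, e3 q9095 L167311 q8973, e3 q9096 (flp_g L171539) q9550, e3 q9097 L167333 q8692, e3 q9098 (flp_g L172914) q9688, e3 q9099 (flp_g L171743) q9569, e3 q9100 (flp_g L172924) q9689, e3 q9101 (flp_g L174098) q9808, e3 q9102 L167366 q8515, e3 q9103 (flp_g L172844) q9682, e3 q9104 L167388 q8974, e3 q9105 (flp_g L172853) q9683, e3 q9106 L167402 q8695, e3 q9107 L167417 q8294, e3 q9108 (flp_g L171165) q9522, e3 q9109 (flp_g L171970) q9592, e3 q9110 (flp_g L171444) q9543, e3 q9111 (flp_g L171489) q9546, e3 q9112 L167457 q8312, e3 q9113 L167471 q8314, e3 q9114 L167479 q8315, e3 q9115 L167487 q8318, e3 q9116 L167495 q8560, e3 q9117 L167507 q8561, e3 q9118 L167513 q8615, e3 q9119 (flp_g L173197) q9714, e3 q9120 L167536 q8617, e3 q9121 L167544 q8618, e3 q9122 L167554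 q8984, e3 q9123 (flp_g L174259) q9827, e3 q9124 (flp_g L173910) q9788, e3 q9125 (flp_g L167570) q8313, e3 q9126 (flp_g L174453) q9845, e3 q9127 (flp_g L174269) q9828, e3 q9128 (flp_g L174275) q9829, e3 q9129 L167602 q8317, e3 q9130 (flp_g L174471) q9849, e3 q9131 (flp_g L174287) q9830, e3 q9132 (flp_g L170794) q9488, e3 q9133 L167636 q8329, e3 q9134 L167644 q8334, e3 q9135 L167652 q8566, e3 q9136 L167663 q8567, e3 q9137 L167671 q8568, e3 q9138 (flp_g L172149) q9607, e3 q9139 L167687 q8623, e3 q9140 L167698 q8624, e3 q9141 (flp_g L172185) q9610, e3 q9142 L167716 q8626, e3 q9143 L167724 q8627, e3 q9144 (flp_g L167732) q8864, e3 q9145 (flp_g L167736) q8328, e3 q9146 L167754 q8862, e3 q9147 (flp_g L174640) q9867, e3 q9148 (flp_g L174495) q9852, e3 q9149 (flp_g L173858) q9784, e3 q9150 L167780 q8332, e3 q9151 (flp_g L174674) q9872, trivial⟩ (by decide +kernel)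

theorem ce_g_143 : ∀ r, r < 64 → sm gg (Qf (9152 + r)) = Qf (tab Gen.g (9152 + r)) :=
  edges_tab (sm gg) Qf (tab Gen.g) 9152 [(9152, 9770), (9153, 9853), (9154, 8336), (9155, 8632), (9156, 8337), (9157, 8630), (9158, 9877), (9159, 8361), (9160, 8362), (9161, 8341), (9162, 9882), (9163, 8365), (9164, 8366), (9165, 8345), (9166, 9570), (9167, 8574), (9168, 8575), (9169, 9573), (9170, 8577), (9171, 8578), (9172, 9174), (9173, 8350), (9174, 9172), (9175, 9895), (9176, 8634), (9177, 8635), (9178, 8354), (9179, 9900), (9180, 8638), (9181, 8639), (9182, 9184), (9183, 8360), (9184, 9182), (9185, 9906), (9186, 9880), (9187, 9881), (9188, 8364), (9189, 9912), (9190, 9734), (9191, 9884), (9192, 9918), (9193, 9495), (9194, 9726), (9195, 8645), (9196, 8373), (9197, 8643), (9198, 9920), (9199, 8385), (9200, 8386), (9201, 8377), (9202, 9925), (9203, 8390), (9204, 9206), (9205, 8384), (9206, 9204), (9207, 9928), (9208, 9923), (9209, 9732), (9210, 9924), (9211, 8388), (9212, 9493), (9213, 9725), (9214,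 9715), (9215, 8947)]
    ⟨e3 q9152 (flp_g L173717) q9770, e3 q9153 (flp_g L174501) q9853, e3 q9154 L167802 q8336, e3 q9155 (flp_g L167814) q8632, e3 q9156 (flp_g L167816) q8337, e3 q9157 L167840 q8630, e3 q9158 (flp_g L174716) q9877, e3 q9159 L167858 q8361, e3 q9160 L167866 q8362, e3 q9161 L167876 q8341, e3 q9162 (flp_g L174764) q9882, e3 q9163 L167890 q8365, e3 q9164 L167896 q8366, e3 q9165 L167904 q8345, e3 q9166 (flp_g L171757) q9570, e3 q9167 L167922 q8574, e3 q9168 L167934 q8575, e3 q9169 (flp_g L171797) q9573, e3 q9170 L167952 q8577, e3 q9171 L167958 q8578, e3 q9172 (flp_g L167992) q9174, e3 q9173 (flp_g L167970) q8350, e3 q9174 L167992 q9172, e3 q9175 (flp_g L174886) q9895, e3 q9176 L168012 q8634, e3 q9177 L168022 q8635, e3 q9178 L168032 q8354, e3 q9179 (flp_g L174936) q9900, e3 q9180 L168046 q8638, e3 q9181 L168052 q8639, e3 q9182 (flp_g L168078) q9184, e3 q9183 L168068 q8360, e3 q9184 L168078 q9182, e3 q9185 (flp_g L174974) q9906, e3 q9186 (flp_g L174744) q9880, e3 q9187 (flp_g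 L174752) q9881, e3 q9188 L168100 q8364, e3 q9189 (flp_g L175012) q9912, e3 q9190 (flp_g L173397) q9734, e3 q9191 (flp_g L174776) q9884, e3 q9192 L175034 q9918, e3 q9193 (flp_g L170884) q9495, e3 q9194 (flp_g L173317) q9726, e3 q9195 L168135 q8645, e3 q9196 L168147 q8373, e3 q9197 L168159 q8643, e3 q9198 (flp_g L175054) q9920, e3 q9199 L168171 q8385, e3 q9200 L168181 q8386, e3 q9201 L168196 q8377, e3 q9202 (flp_g L175112) q9925, e3 q9203 L168216 q8390, e3 q9204 (flp_g L168246) q9206, e3 q9205 L168234 q8384, e3 q9206 L168246 q9204, e3 q9207 (flp_g L175147) q9928, e3 q9208 (flp_g L175086) q9923, e3 q9209 (flp_g L173381) q9732, e3 q9210 (flp_g L175098) q9924, e3 q9211 L168284 q8388, e3 q9212 (flp_g L170860) q9493, e3 q9213 (flp_g L173307) q9725, e3 q9214 (flp_g L173211) q9715, e3 q9215 L168326 q8947, trivial⟩ (by decide +kernel)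

theorem ce_g_144 : ∀ r, r < 64 → sm gg (Qf (9216 + r)) = Qf (tab Gen.g (9216 + r)) :=
  edges_tab (sm gg) Qf (tab Gen.g) 9216 [(9216, 8569), (9217, 9667), (9218, 8629), (9219, 9527), (9220, 9658), (9221, 8580), (9222, 8407), (9223, 9538), (9224, 8642), (9225, 8605), (9226, 8667), (9227, 8599), (9228, 8611), (9229, 9544), (9230, 9285), (9231, 8424), (9232, 9945), (9233, 8436), (9234, 8521), (9235, 8563), (9236, 8564), (9237, 8428), (9238, 9949), (9239, 8621), (9240, 8432), (9241, 9951), (9242, 8673), (9243, 8435), (9244, 9953), (9245, 9946), (9246, 9248), (9247, 8437), (9248, 9246), (9249, 9958), (9250, 8585), (9251, 8586), (9252, 8441), (9253, 9963), (9254, 8589), (9255, 9257), (9256, 8446), (9257, 9255), (9258, 9967), (9259, 8647), (9260, 8648), (9261, 8450), (9262, 9973), (9263, 8651), (9264, 8652), (9265, 8526), (9266, 9268), (9267, 8456), (9268, 9266), (9269, 9979), (9270, 8678), (9271, 8679), (9272, 8680), (9273, 8460), (9274, 8684), (9275, 8685), (9276, 8548), (9277, 8676), (9278,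 8468), (9279, 8674)]
    ⟨e3 q9216 L168340 q8569, e3 q9217 (flp_g L172677) q9667, e3 q9218 L168356 q8629, e3 q9219 (flp_g L171232) q9527, e3 q9220 (flp_g L172555) q9658, e3 q9221 L168384 q8580, e3 q9222 L168394 q8407, e3 q9223 (flp_g L171386) q9538, e3 q9224 L168406 q8642, e3 q9225 L168416 q8605, e3 q9226 L168424 q8667, e3 q9227 L168432 q8599, e3 q9228 L168443 q8611, e3 q9229 (flp_g L171463) q9544, e3 q9230 (flp_g L168995) q9285, e3 q9231 L168478 q8424, e3 q9232 (flp_g L175311) q9945, e3 q9233 L168496 q8436, e3 q9234 (flp_g L168510) q8521, e3 q9235 L168520 q8563, e3 q9236 L168527 q8564, e3 q9237 (flp_g L168533) q8428, e3 q9238 (flp_g L175364) q9949, e3 q9239 L168561 q8621, e3 q9240 L168575 q8432, e3 q9241 (flp_g L175384) q9951, e3 q9242 L168591 q8673, e3 q9243 L168599 q8435, e3 q9244 (flp_g L175403) q9953, e3 q9245 (flp_g L175324) q9946, e3 q9246 (flp_g L168641) q9248, e3 q9247 (flp_g L168621) q8437, e3 q9248 L168641 q9246, e3 q9249 (flp_g L175448) q9958, e3 q9250 L168661 q8585, e3 q9251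 L168670 q8586, e3 q9252 L168682 q8441, e3 q9253 (flp_g L175499) q9963, e3 q9254 L168700 q8589, e3 q9255 (flp_g L168731) q9257, e3 q9256 L168720 q8446, e3 q9257 L168731 q9255, e3 q9258 (flp_g L175533) q9967, e3 q9259 L168745 q8647, e3 q9260 L168753 q8648, e3 q9261 L168766 q8450, e3 q9262 (flp_g L175590) q9973, e3 q9263 L168778 q8651, e3 q9264 L168787 q8652, e3 q9265 L168800 q8526, e3 q9266 (flp_g L168829) q9268, e3 q9267 L168816 q8456, e3 q9268 L168829 q9266, e3 q9269 (flp_g L175640) q9979, e3 q9270 L168847 q8678, e3 q9271 L168857 q8679, e3 q9272 L168866 q8680, e3 q9273 L168875 q8460, e3 q9274 L168882 q8684, e3 q9275 L168890 q8685, e3 q9276 L168900 q8548, e3 q9277 L168911 q8676, e3 q9278 L168924 q8468, e3 q9279 L168937 q8674, trivial⟩ (by decide +kernel)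

theorem ce_g_145 : ∀ r, r < 64 → sm gg (Qf (9280 + r)) = Qf (tab Gen.g (9280 + r)) :=
  edges_tab (sm gg) Qf (tab Gen.g) 9280 [(9280, 9985), (9281, 8481), (9282, 8482), (9283, 8483), (9284, 8472), (9285, 9230), (9286, 8943), (9287, 8485), (9288, 8949), (9289, 8480), (9290, 9989), (9291, 8488), (9292, 9539), (9293, 8593), (9294, 9518), (9295, 8606), (9296, 8656), (9297, 9313), (9298, 8892), (9299, 8741), (9300, 8500), (9301, 8739), (9302, 8538), (9303, 8657), (9304, 8594), (9305, 8532), (9306, 8746), (9307, 8527), (9308, 8693), (9309, 8562), (9310, 8987), (9311, 9947), (9312, 9785), (9313, 9297), (9314, 9366), (9315, 9977), (9316, 9996), (9317, 8885), (9318, 8531), (9319, 8883), (9320, 10008), (9321, 9783), (9322, 9731), (9323, 8546), (9324, 8549), (9325, 9326), (9326, 9325), (9327, 10010), (9328, 8688), (9329, 9709), (9330, 9710), (9331, 9831), (9332, 9841), (9333, 9832), (9334, 9833), (9335, 9998), (9336, 9948), (9337, 9724), (9338, 9854), (9339, 9855), (9340, 9856), (9341, 9857), (9342,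 9935), (9343, 9749)]
    ⟨e3 q9280 (flp_g L175704) q9985, e3 q9281 L168951 q8481, e3 q9282 L168960 q8482, e3 q9283 L168969 q8483, e3 q9284 L168982 q8472, e3 q9285 L168995 q9230, e3 q9286 L169004 q8943, e3 q9287 L169015 q8485, e3 q9288 L169022 q8949, e3 q9289 L169033 q8480, e3 q9290 (flp_g L175755) q9989, e3 q9291 L169058 q8488, e3 q9292 (flp_g L171398) q9539, e3 q9293 L169074 q8593, e3 q9294 (flp_g L171106) q9518, e3 q9295 L169086 q8606, e3 q9296 L169092 q8656, e3 q9297 (flp_g L169291) q9313, e3 q9298 L169113 q8892, e3 q9299 (flp_g L169127) q8741, e3 q9300 (flp_g L169131) q8500, e3 q9301 L169155 q8739, e3 q9302 L169167 q8538, e3 q9303 L169181 q8657, e3 q9304 L169196 q8594, e3 q9305 L169205 q8532, e3 q9306 L169217 q8746, e3 q9307 L169230 q8527, e3 q9308 L169240 q8693, e3 q9309 L169256 q8562, e3 q9310 L169268 q8987, e3 q9311 (flp_g L175340) q9947, e3 q9312 (flp_g L173869) q9785, e3 q9313 L169291 q9297, e3 q9314 (flp_g L169728) q9366, e3 q9315 (flp_g L175623) q9977, e3 q9316 (flp_g L175831)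 q9996, e3 q9317 L169318 q8885, e3 q9318 L169327 q8531, e3 q9319 L169338 q8883, e3 q9320 (flp_g L175936) q10008, e3 q9321 (flp_g L173848) q9783, e3 q9322 (flp_g L173373) q9731, e3 q9323 L169361 q8546, e3 q9324 L169375 q8549, e3 q9325 (flp_g L169393) q9326, e3 q9326 L169393 q9325, e3 q9327 (flp_g L175958) q10010, e3 q9328 L169410 q8688, e3 q9329 (flp_g L173145) q9709, e3 q9330 (flp_g L173160) q9710, e3 q9331 (flp_g L174297) q9831, e3 q9332 (flp_g L174417) q9841, e3 q9333 (flp_g L174310) q9832, e3 q9334 (flp_g L174318) q9833, e3 q9335 (flp_g L175856) q9998, e3 q9336 (flp_g L175349) q9948, e3 q9337 (flp_g L173295) q9724, e3 q9338 (flp_g L174514) q9854, e3 q9339 (flp_g L174525) q9855, e3 q9340 (flp_g L174535) q9856, e3 q9341 (flp_g L174543) q9857, e3 q9342 (flp_g L175215) q9935, e3 q9343 (flp_g L173543) q9749, trivial⟩ (by decide +kernel)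

theorem ce_g_146 : ∀ r, r < 64 → sm gg (Qf (9344 + r)) = Qf (tab Gen.g (9344 + r)) :=
  edges_tab (sm gg) Qf (tab Gen.g) 9344 [(9344, 9750), (9345, 9751), (9346, 9752), (9347, 9551), (9348, 9571), (9349, 9572), (9350, 9889), (9351, 9890), (9352, 9574), (9353, 9892), (9354, 9893), (9355, 9659), (9356, 9940), (9357, 9776), (9358, 8584), (9359, 9774), (9360, 10044), (9361, 9961), (9362, 9962), (9363, 8588), (9364, 10050), (9365, 9965), (9366, 9314), (9367, 9702), (9368, 9991), (9369, 9790), (9370, 9660), (9371, 9938), (9372, 9795), (9373, 9796), (9374, 9676), (9375, 9674), (9376, 9673), (9377, 9664), (9378, 9942), (9379, 9678), (9380, 9655), (9381, 8981), (9382, 9835), (9383, 9836), (9384, 8616), (9385, 10067), (9386, 9838), (9387, 9839), (9388, 8620), (9389, 10071), (9390, 9950), (9391, 9004), (9392, 9608), (9393, 9609), (9394, 9861), (9395, 9862), (9396, 9611), (9397, 9864), (9398, 9865), (9399, 9668), (9400, 9937), (9401, 9878), (9402, 8633), (9403, 9876), (9404, 10085), (9405, 9898), (9406,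 9899), (9407, 8637)]
    ⟨e3 q9344 (flp_g L173556) q9750, e3 q9345 (flp_g L173568) q9751, e3 q9346 (flp_g L173576) q9752, e3 q9347 (flp_g L171549) q9551, e3 q9348 (flp_g L171769) q9571, e3 q9349 (flp_g L171783) q9572, e3 q9350 (flp_g L174832) q9889, e3 q9351 (flp_g L174842) q9890, e3 q9352 (flp_g L171809) q9574, e3 q9353 (flp_g L174856) q9892, e3 q9354 (flp_g L174862) q9893, e3 q9355 (flp_g L172565) q9659, e3 q9356 (flp_g L175265) q9940, e3 q9357 (flp_g L173781) q9776, e3 q9358 L169661 q8584, e3 q9359 (flp_g L173755) q9774, e3 q9360 (flp_g L176219) q10044, e3 q9361 (flp_g L175476) q9961, e3 q9362 (flp_g L175485) q9962, e3 q9363 L169703 q8588, e3 q9364 (flp_g L176273) q10050, e3 q9365 (flp_g L175514) q9965, e3 q9366 L169728 q9314, e3 q9367 (flp_g L173072) q9702, e3 q9368 (flp_g L175770) q9991, e3 q9369 (flp_g L173935) q9790, e3 q9370 (flp_g L172581) q9660, e3 q9371 (flp_g L175242) q9938, e3 q9372 (flp_g L173982) q9795, e3 q9373 (flp_g L173991) q9796, e3 q9374 (flp_g L172776) q9676, e3 q9375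 (flp_g L172752) q9674, e3 q9376 (flp_g L172737) q9673, e3 q9377 (flp_g L172633) q9664, e3 q9378 (flp_g L175279) q9942, e3 q9379 (flp_g L172799) q9678, e3 q9380 (flp_g L172514) q9655, e3 q9381 (flp_g L169831) q8981, e3 q9382 (flp_g L174344) q9835, e3 q9383 (flp_g L174357) q9836, e3 q9384 (flp_g L169849) q8616, e3 q9385 (flp_g L176406) q10067, e3 q9386 (flp_g L174377) q9838, e3 q9387 (flp_g L174385) q9839, e3 q9388 L169892 q8620, e3 q9389 (flp_g L176436) q10071, e3 q9390 (flp_g L175370) q9950, e3 q9391 L169918 q9004, e3 q9392 (flp_g L172160) q9608, e3 q9393 (flp_g L172171) q9609, e3 q9394 (flp_g L174589) q9861, e3 q9395 (flp_g L174596) q9862, e3 q9396 (flp_g L172195) q9611, e3 q9397 (flp_g L174612) q9864, e3 q9398 (flp_g L174620) q9865, e3 q9399 (flp_g L172687) q9668, e3 q9400 (flp_g L175231) q9937, e3 q9401 (flp_g L174728) q9878, e3 q9402 L169990 q8633, e3 q9403 (flp_g L174702) q9876, e3 q9404 (flp_g L176531) q10085, e3 q9405 (flp_g L174916) q9898, e3 q9406 (flp_g L174924) q9899, e3 q9407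 L170020 q8637, trivial⟩ (by decide +kernel)

theorem ce_g_147 : ∀ r, r < 64 → sm gg (Qf (9408 + r)) = Qf (tab Gen.g (9408 + r)) :=
  edges_tab (sm gg) Qf (tab Gen.g) 9408 [(9408, 10091), (9409, 9902), (9410, 9903), (9411, 10097), (9412, 8641), (9413, 10098), (9414, 9698), (9415, 9943), (9416, 9921), (9417, 8646), (9418, 9919), (9419, 10103), (9420, 9970), (9421, 9971), (9422, 9972), (9423, 8650), (9424, 10111), (9425, 9448), (9426, 9975), (9427, 9976), (9428, 8654), (9429, 9517), (9430, 9701), (9431, 9641), (9432, 9994), (9433, 8780), (9434, 9508), (9435, 9605), (9436, 8672), (9437, 10119), (9438, 9952), (9439, 9986), (9440, 8677), (9441, 9984), (9442, 9443), (9443, 9442), (9444, 9686), (9445, 9980), (9446, 9981), (9447, 9982), (9448, 9425), (9449, 9639), (9450, 9983), (9451, 9088), (9452, 8856), (9453, 9810), (9454, 8825), (9455, 9840), (9456, 8866), (9457, 9818), (9458, 9997), (9459, 8887), (9460, 8989), (9461, 8990), (9462, 8705), (9463, 8706), (9464, 8708), (9465, 8709), (9466, 8711),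 (9467, 9091), (9468, 9011), (9469, 9014), (9470, 10141), (9471, 9021)]
    ⟨e3 q9408 (flp_g L176565) q10091, e3 q9409 (flp_g L174946) q9902, e3 q9410 (flp_g L174954) q9903, e3 q9411 L176587 q10097, e3 q9412 L170042 q8641, e3 q9413 (flp_g L176593) q10098, e3 q9414 (flp_g L173024) q9698, e3 q9415 (flp_g L175285) q9943, e3 q9416 (flp_g L175066) q9921, e3 q9417 L170076 q8646, e3 q9418 (flp_g L175042) q9919, e3 q9419 (flp_g L176633) q10103, e3 q9420 (flp_g L175563) q9970, e3 q9421 (flp_g L175570) q9971, e3 q9422 (flp_g L175578) q9972, e3 q9423 L170117 q8650, e3 q9424 (flp_g L176694) q10111, e3 q9425 (flp_g L170309) q9448, e3 q9426 (flp_g L175604) q9975, e3 q9427 (flp_g L175613) q9976, e3 q9428 L170152 q8654, e3 q9429 (flp_g L171095) q9517, e3 q9430 (flp_g L173059) q9701, e3 q9431 (flp_g L172415) q9641, e3 q9432 (flp_g L175806) q9994, e3 q9433 L170192 q8780, e3 q9434 (flp_g L171012) q9508, e3 q9435 (flp_g L172126) q9605, e3 q9436 L170216 q8672, e3 q9437 (flp_g L176787) q10119, e3 q9438 (flp_g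 L175391) q9952, e3 q9439 (flp_g L175719) q9986, e3 q9440 L170244 q8677, e3 q9441 (flp_g L175694) q9984, e3 q9442 (flp_g L170270) q9443, e3 q9443 L170270 q9442, e3 q9444 (flp_g L172885) q9686, e3 q9445 (flp_g L175653) q9980, e3 q9446 (flp_g L175666) q9981, e3 q9447 (flp_g L175675) q9982, e3 q9448 L170309 q9425, e3 q9449 (flp_g L172399) q9639, e3 q9450 (flp_g L175685) q9983, e3 q9451 L170331 q9088, e3 q9452 L170346 q8856, e3 q9453 (flp_g L174124) q9810, e3 q9454 L170369 q8825, e3 q9455 (flp_g L174397) q9840, e3 q9456 L170400 q8866, e3 q9457 (flp_g L174191) q9818, e3 q9458 (flp_g L175844) q9997, e3 q9459 L170427 q8887, e3 q9460 L170443 q8989, e3 q9461 L170455 q8990, e3 q9462 L170473 q8705, e3 q9463 L170483 q8706, e3 q9464 L170502 q8708, e3 q9465 L170510 q8709, e3 q9466 L170524 q8711, e3 q9467 L170540 q9091, e3 q9468 L170550 q9011, e3 q9469 L170570 q9014, e3 q9470 (flp_g L177031) q10141, e3 q9471 L170591 q9021, trivial⟩ (by decide +kernel)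

theorem ce_g_148 : ∀ r, r < 64 → sm gg (Qf (9472 + r)) = Qf (tab Gen.g (9472 + r)) :=
  edges_tab (sm gg) Qf (tab Gen.g) 9472 [(9472, 8805), (9473, 10142), (9474, 9024), (9475, 10143), (9476, 10144), (9477, 9070), (9478, 10145), (9479, 8958), (9480, 9005), (9481, 9006), (9482, 9007), (9483, 8723), (9484, 8727), (9485, 8733), (9486, 8734), (9487, 8737), (9488, 9132), (9489, 9057), (9490, 10162), (9491, 8997), (9492, 8803), (9493, 9212), (9494, 9000), (9495, 9193), (9496, 10163), (9497, 9729), (9498, 8728), (9499, 9728), (9500, 10176), (9501, 8807), (9502, 9803), (9503, 8732), (9504, 10181), (9505, 10164), (9506, 10165), (9507, 8736), (9508, 9434), (9509, 10166), (9510, 8748), (9511, 8742), (9512, 9926), (9513, 10188), (9514, 8811), (9515, 9805), (9516, 9995), (9517, 9429), (9518, 9294), (9519, 8755), (9520, 8757), (9521, 8759), (9522, 9108), (9523, 9017), (9524, 10194), (9525, 8903), (9526, 9074), (9527, 9219), (9528, 8966), (9529, 9063), (9530, 8768), (9531, 8771), (9532, 9038), (9533,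 10118), (9534, 9003), (9535, 10199)]
    ⟨e3 q9472 L170602 q8805, e3 q9473 (flp_g L177048) q10142, e3 q9474 L170625 q9024, e3 q9475 (flp_g L177062) q10143, e3 q9476 (flp_g L177070) q10144, e3 q9477 L170657 q9070, e3 q9478 (flp_g L177084) q10145, e3 q9479 L170684 q8958, e3 q9480 L170698 q9005, e3 q9481 L170708 q9006, e3 q9482 L170720 q9007, e3 q9483 L170738 q8723, e3 q9484 L170748 q8727, e3 q9485 L170762 q8733, e3 q9486 L170768 q8734, e3 q9487 L170780 q8737, e3 q9488 L170794 q9132, e3 q9489 L170814 q9057, e3 q9490 (flp_g L177301) q10162, e3 q9491 L170836 q8997, e3 q9492 L170848 q8803, e3 q9493 L170860 q9212, e3 q9494 L170874 q9000, e3 q9495 L170884 q9193, e3 q9496 (flp_g L177309) q10163, e3 q9497 (flp_g L173351) q9729, e3 q9498 (flp_g L170904) q8728, e3 q9499 (flp_g L173333) q9728, e3 q9500 (flp_g L177453) q10176, e3 q9501 L170946 q8807, e3 q9502 (flp_g L174052) q9803, e3 q9503 L170966 q8732, e3 q9504 (flp_g L177505) q10181, e3 q9505 (flp_g L177319) q10164, e3 q9506 (flp_g L177327) q10165,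 e3 q9507 L170998 q8736, e3 q9508 L171012 q9434, e3 q9509 (flp_g L177337) q10166, e3 q9510 L171032 q8748, e3 q9511 L171047 q8742, e3 q9512 (flp_g L175124) q9926, e3 q9513 (flp_g L177567) q10188, e3 q9514 L171072 q8811, e3 q9515 (flp_g L174072) q9805, e3 q9516 (flp_g L175816) q9995, e3 q9517 L171095 q9429, e3 q9518 L171106 q9294, e3 q9519 L171121 q8755, e3 q9520 L171131 q8757, e3 q9521 L171146 q8759, e3 q9522 L171165 q9108, e3 q9523 L171179 q9017, e3 q9524 (flp_g L177632) q10194, e3 q9525 L171200 q8903, e3 q9526 L171215 q9074, e3 q9527 L171232 q9219, e3 q9528 L171249 q8966, e3 q9529 L171261 q9063, e3 q9530 L171280 q8768, e3 q9531 L171290 q8771, e3 q9532 L171306 q9038, e3 q9533 (flp_g L176776) q10118, e3 q9534 L171334 q9003, e3 q9535 (flp_g L177699) q10199, trivial⟩ (by decide +kernel)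

theorem ce_g_149 : ∀ r, r < 64 → sm gg (Qf (9536 + r)) = Qf (tab Gen.g (9536 + r)) :=
  edges_tab (sm gg) Qf (tab Gen.g) 9536 [(9536, 8873), (9537, 8794), (9538, 9223), (9539, 9292), (9540, 8781), (9541, 10116), (9542, 8893), (9543, 9110), (9544, 9229), (9545, 9081), (9546, 9111), (9547, 8804), (9548, 8808), (9549, 9094), (9550, 9096), (9551, 9347), (9552, 9934), (9553, 10205), (9554, 9022), (9555, 10151), (9556, 8806), (9557, 10214), (9558, 10179), (9559, 10206), (9560, 8810), (9561, 10218), (9562, 10190), (9563, 9085), (9564, 8823), (9565, 8826), (9566, 8829), (9567, 8830), (9568, 8833), (9569, 9099), (9570, 9166), (9571, 9348), (9572, 9349), (9573, 9169), (9574, 9352), (9575, 10222), (9576, 9578), (9577, 8824), (9578, 9576), (9579, 10235), (9580, 10134), (9581, 10223), (9582, 8828), (9583, 10240), (9584, 10224), (9585, 10225), (9586, 8832), (9587, 10197), (9588, 10226), (9589, 9090), (9590, 9092), (9591, 9093), (9592, 9109), (9593, 8854), (9594, 8857), (9595, 8860), (9596, 8861), (9597,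 8842), (9598, 10255), (9599, 8867)]
    ⟨e3 q9536 L171354 q8873, e3 q9537 L171368 q8794, e3 q9538 L171386 q9223, e3 q9539 L171398 q9292, e3 q9540 L171409 q8781, e3 q9541 (flp_g L176747) q10116, e3 q9542 L171433 q8893, e3 q9543 L171444 q9110, e3 q9544 L171463 q9229, e3 q9545 L171481 q9081, e3 q9546 L171489 q9111, e3 q9547 L171505 q8804, e3 q9548 L171511 q8808, e3 q9549 L171521 q9094, e3 q9550 L171539 q9096, e3 q9551 L171549 q9347, e3 q9552 (flp_g L175203) q9934, e3 q9553 (flp_g L177782) q10205, e3 q9554 (flp_g L171586) q9022, e3 q9555 (flp_g L177171) q10151, e3 q9556 (flp_g L171595) q8806, e3 q9557 (flp_g L177884) q10214, e3 q9558 (flp_g L177483) q10179, e3 q9559 (flp_g L177788) q10206, e3 q9560 L171638 q8810, e3 q9561 (flp_g L177912) q10218, e3 q9562 (flp_g L177587) q10190, e3 q9563 L171667 q9085, e3 q9564 L171683 q8823, e3 q9565 L171696 q8826, e3 q9566 L171708 q8829, e3 q9567 L171714 q8830, e3 q9568 L171726 q8833, e3 q9569 L171743 q9099, e3 q9570 L171757 q9166, e3 q9571 L171769 q9348, e3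 q9572 L171783 q9349, e3 q9573 L171797 q9169, e3 q9574 L171809 q9352, e3 q9575 (flp_g L177954) q10222, e3 q9576 (flp_g L171846) q9578, e3 q9577 (flp_g L171826) q8824, e3 q9578 L171846 q9576, e3 q9579 (flp_g L178096) q10235, e3 q9580 (flp_g L176942) q10134, e3 q9581 (flp_g L177967) q10223, e3 q9582 L171877 q8828, e3 q9583 (flp_g L178135) q10240, e3 q9584 (flp_g L177975) q10224, e3 q9585 (flp_g L177983) q10225, e3 q9586 L171909 q8832, e3 q9587 (flp_g L177669) q10197, e3 q9588 (flp_g L177993) q10226, e3 q9589 L171938 q9090, e3 q9590 L171950 q9092, e3 q9591 L171960 q9093, e3 q9592 L171970 q9109, e3 q9593 L171987 q8854, e3 q9594 L172004 q8857, e3 q9595 L172018 q8860, e3 q9596 L172028 q8861, e3 q9597 (flp_g L172034) q8842, e3 q9598 (flp_g L178284) q10255, e3 q9599 L172062 q8867, trivial⟩ (by decide +kernel)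

theorem ce_g_150 : ∀ r, r < 64 → sm gg (Qf (9600 + r)) = Qf (tab Gen.g (9600 + r)) :=
  edges_tab (sm gg) Qf (tab Gen.g) 9600 [(9600, 8845), (9601, 10258), (9602, 8870), (9603, 8871), (9604, 8849), (9605, 9435), (9606, 8874), (9607, 9138), (9608, 9392), (9609, 9393), (9610, 9141), (9611, 9396), (9612, 10251), (9613, 9859), (9614, 8855), (9615, 9858), (9616, 10273), (9617, 10132), (9618, 10252), (9619, 8859), (9620, 10278), (9621, 10253), (9622, 10254), (9623, 9868), (9624, 8865), (9625, 9866), (9626, 10284), (9627, 10136), (9628, 10257), (9629, 8869), (9630, 10290), (9631, 10260), (9632, 10261), (9633, 10296), (9634, 10201), (9635, 10265), (9636, 8876), (9637, 10299), (9638, 8888), (9639, 9449), (9640, 8891), (9641, 9431), (9642, 8926), (9643, 8894), (9644, 10009), (9645, 8886), (9646, 10007), (9647, 10307), (9648, 10139), (9649, 10301), (9650, 9720), (9651, 8890), (9652, 10203), (9653, 10304), (9654, 9993), (9655, 9380), (9656, 10306), (9657, 8904), (9658, 9220), (9659, 9355), (9660, 9370),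 (9661, 10317), (9662, 8916), (9663, 8919)]
    ⟨e3 q9600 L172076 q8845, e3 q9601 (flp_g L178314) q10258, e3 q9602 L172094 q8870, e3 q9603 L172100 q8871, e3 q9604 L172112 q8849, e3 q9605 L172126 q9435, e3 q9606 L172136 q8874, e3 q9607 L172149 q9138, e3 q9608 L172160 q9392, e3 q9609 L172171 q9393, e3 q9610 L172185 q9141, e3 q9611 L172195 q9396, e3 q9612 (flp_g L178229) q10251, e3 q9613 (flp_g L174569) q9859, e3 q9614 (flp_g L172216) q8855, e3 q9615 (flp_g L174552) q9858, e3 q9616 (flp_g L178465) q10273, e3 q9617 (flp_g L176920) q10132, e3 q9618 (flp_g L178248) q10252, e3 q9619 L172269 q8859, e3 q9620 (flp_g L178510) q10278, e3 q9621 (flp_g L178258) q10253, e3 q9622 (flp_g L178268) q10254, e3 q9623 (flp_g L174652) q9868, e3 q9624 L172303 q8865, e3 q9625 (flp_g L174630) q9866, e3 q9626 (flp_g L178546) q10284, e3 q9627 (flp_g L176966) q10136, e3 q9628 (flp_g L178298) q10257, e3 q9629 L172333 q8869, e3 q9630 (flp_g L178578) q10290, e3 q9631 (flp_g L178330) q10260, e3 q9632 (flp_g L178336) q10261,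 e3 q9633 L178604 q10296, e3 q9634 (flp_g L177725) q10201, e3 q9635 (flp_g L178376) q10265, e3 q9636 L172376 q8876, e3 q9637 (flp_g L178641) q10299, e3 q9638 L172388 q8888, e3 q9639 L172399 q9449, e3 q9640 L172404 q8891, e3 q9641 L172415 q9431, e3 q9642 L172424 q8926, e3 q9643 L172434 q8894, e3 q9644 (flp_g L175947) q10009, e3 q9645 L172447 q8886, e3 q9646 (flp_g L175927) q10007, e3 q9647 (flp_g L178723) q10307, e3 q9648 (flp_g L176996) q10139, e3 q9649 (flp_g L178658) q10301, e3 q9650 (flp_g L173247) q9720, e3 q9651 L172485 q8890, e3 q9652 (flp_g L177755) q10203, e3 q9653 (flp_g L178686) q10304, e3 q9654 (flp_g L175789) q9993, e3 q9655 L172514 q9380, e3 q9656 (flp_g L178711) q10306, e3 q9657 L172538 q8904, e3 q9658 L172555 q9220, e3 q9659 L172565 q9355, e3 q9660 L172581 q9370, e3 q9661 (flp_g L178805) q10317, e3 q9662 L172605 q8916, e3 q9663 L172620 q8919, trivial⟩ (by decide +kernel)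

theorem ce_g_151 : ∀ r, r < 64 → sm gg (Qf (9664 + r)) = Qf (tab Gen.g (9664 + r)) :=
  edges_tab (sm gg) Qf (tab Gen.g) 9664 [(9664, 9377), (9665, 8937), (9666, 8921), (9667, 9217), (9668, 9399), (9669, 8915), (9670, 10325), (9671, 10321), (9672, 8918), (9673, 9376), (9674, 9375), (9675, 10322), (9676, 9374), (9677, 10264), (9678, 9379), (9679, 8948), (9680, 9988), (9681, 8952), (9682, 9103), (9683, 9105), (9684, 9927), (9685, 8951), (9686, 9444), (9687, 9978), (9688, 9098), (9689, 9100), (9690, 8959), (9691, 8962), (9692, 10158), (9693, 10334), (9694, 9083), (9695, 9086), (9696, 10335), (9697, 8967), (9698, 9414), (9699, 10342), (9700, 8970), (9701, 9430), (9702, 9367), (9703, 9816), (9704, 9824), (9705, 8982), (9706, 8985), (9707, 8986), (9708, 8988), (9709, 9329), (9710, 9330), (9711, 9834), (9712, 10064), (9713, 10346), (9714, 9119), (9715, 9214), (9716, 9842), (9717, 10347), (9718, 10348), (9719, 9999), (9720, 9650), (9721, 10140), (9722, 8996), (9723, 9002), (9724, 9337), (9725,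 9213), (9726, 9194), (9727, 10362)]
    ⟨e3 q9664 L172633 q9377, e3 q9665 L172649 q8937, e3 q9666 L172663 q8921, e3 q9667 L172677 q9217, e3 q9668 L172687 q9399, e3 q9669 L172702 q8915, e3 q9670 (flp_g L178917) q10325, e3 q9671 (flp_g L178864) q10321, e3 q9672 L172722 q8918, e3 q9673 L172737 q9376, e3 q9674 L172752 q9375, e3 q9675 (flp_g L178877) q10322, e3 q9676 L172776 q9374, e3 q9677 (flp_g L178362) q10264, e3 q9678 L172799 q9379, e3 q9679 L172812 q8948, e3 q9680 (flp_g L175743) q9988, e3 q9681 L172828 q8952, e3 q9682 L172844 q9103, e3 q9683 L172853 q9105, e3 q9684 (flp_g L175137) q9927, e3 q9685 L172874 q8951, e3 q9686 L172885 q9444, e3 q9687 (flp_g L175628) q9978, e3 q9688 L172914 q9098, e3 q9689 L172924 q9100, e3 q9690 L172938 q8959, e3 q9691 L172946 q8962, e3 q9692 (flp_g L177244) q10158, e3 q9693 (flp_g L179023) q10334, e3 q9694 L172980 q9083, e3 q9695 L172988 q9086, e3 q9696 (flp_g L179035) q10335, e3 q9697 L173008 q8967, e3 q9698 L173024 q9414, e3 q9699 (flp_g L179109) q10342, e3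 q9700 L173044 q8970, e3 q9701 L173059 q9430, e3 q9702 L173072 q9367, e3 q9703 (flp_g L174175) q9816, e3 q9704 (flp_g L174231) q9824, e3 q9705 L173105 q8982, e3 q9706 L173117 q8985, e3 q9707 L173125 q8986, e3 q9708 L173134 q8988, e3 q9709 L173145 q9329, e3 q9710 L173160 q9330, e3 q9711 (flp_g L174329) q9834, e3 q9712 (flp_g L176382) q10064, e3 q9713 (flp_g L179159) q10346, e3 q9714 L173197 q9119, e3 q9715 L173211 q9214, e3 q9716 (flp_g L174429) q9842, e3 q9717 (flp_g L179169) q10347, e3 q9718 (flp_g L179175) q10348, e3 q9719 (flp_g L175865) q9999, e3 q9720 L173247 q9650, e3 q9721 (flp_g L177015) q10140, e3 q9722 L173273 q8996, e3 q9723 L173281 q9002, e3 q9724 L173295 q9337, e3 q9725 L173307 q9213, e3 q9726 L173317 q9194, e3 q9727 (flp_g L179308) q10362, trivial⟩ (by decide +kernel)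

theorem ce_g_152 : ∀ r, r < 64 → sm gg (Qf (9728 + r)) = Qf (tab Gen.g (9728 + r)) :=
  edges_tab (sm gg) Qf (tab Gen.g) 9728 [(9728, 9499), (9729, 9497), (9730, 10170), (9731, 9322), (9732, 9209), (9733, 10172), (9734, 9190), (9735, 10363), (9736, 10074), (9737, 10159), (9738, 10160), (9739, 10161), (9740, 9023), (9741, 9025), (9742, 9026), (9743, 10147), (9744, 9031), (9745, 9032), (9746, 10148), (9747, 9035), (9748, 9036), (9749, 9343), (9750, 9344), (9751, 9345), (9752, 9346), (9753, 9754), (9754, 9753), (9755, 10150), (9756, 10212), (9757, 10381), (9758, 10153), (9759, 10382), (9760, 10383), (9761, 10384), (9762, 9764), (9763, 9030), (9764, 9762), (9765, 10407), (9766, 10386), (9767, 10387), (9768, 9034), (9769, 10413), (9770, 9152), (9771, 10389), (9772, 10418), (9773, 10168), (9774, 9359), (9775, 9043), (9776, 9357), (9777, 10420), (9778, 9051), (9779, 9781), (9780, 9050), (9781, 9779), (9782, 10422), (9783, 9321), (9784, 9149), (9785, 9312), (9786, 9054), (9787, 10167), (9788, 9124),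 (9789, 9062), (9790, 9369), (9791, 10427)]
    ⟨e3 q9728 L173333 q9499, e3 q9729 L173351 q9497, e3 q9730 (flp_g L177395) q10170, e3 q9731 L173373 q9322, e3 q9732 L173381 q9209, e3 q9733 (flp_g L177417) q10172, e3 q9734 L173397 q9190, e3 q9735 (flp_g L179318) q10363, e3 q9736 (flp_g L176467) q10074, e3 q9737 (flp_g L177260) q10159, e3 q9738 (flp_g L177270) q10160, e3 q9739 (flp_g L177282) q10161, e3 q9740 L173454 q9023, e3 q9741 L173466 q9025, e3 q9742 L173476 q9026, e3 q9743 (flp_g L177121) q10147, e3 q9744 L173496 q9031, e3 q9745 L173504 q9032, e3 q9746 (flp_g L177135) q10148, e3 q9747 L173520 q9035, e3 q9748 L173530 q9036, e3 q9749 L173543 q9343, e3 q9750 L173556 q9344, e3 q9751 L173568 q9345, e3 q9752 L173576 q9346, e3 q9753 (flp_g L173604) q9754, e3 q9754 L173604 q9753, e3 q9755 (flp_g L177158) q10150, e3 q9756 (flp_g L177867) q10212, e3 q9757 (flp_g L179481) q10381, e3 q9758 (flp_g L177190) q10153, e3 q9759 (flp_g L179489) q10382, e3 q9760 (flp_g L179497) q10383, e3 q9761 (flp_g L179507)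 q10384, e3 q9762 (flp_g L173675) q9764, e3 q9763 L173663 q9030, e3 q9764 L173675 q9762, e3 q9765 (flp_g L179705) q10407, e3 q9766 (flp_g L179523) q10386, e3 q9767 (flp_g L179531) q10387, e3 q9768 L173705 q9034, e3 q9769 (flp_g L179759) q10413, e3 q9770 L173717 q9152, e3 q9771 (flp_g L179553) q10389, e3 q9772 L179797 q10418, e3 q9773 (flp_g L177371) q10168, e3 q9774 L173755 q9359, e3 q9775 L173768 q9043, e3 q9776 L173781 q9357, e3 q9777 (flp_g L179821) q10420, e3 q9778 L173797 q9051, e3 q9779 (flp_g L173828) q9781, e3 q9780 L173815 q9050, e3 q9781 L173828 q9779, e3 q9782 (flp_g L179849) q10422, e3 q9783 L173848 q9321, e3 q9784 L173858 q9149, e3 q9785 L173869 q9312, e3 q9786 L173882 q9054, e3 q9787 (flp_g L177357) q10167, e3 q9788 L173910 q9124, e3 q9789 L173924 q9062, e3 q9790 L173935 q9369, e3 q9791 (flp_g L179912) q10427, trivial⟩ (by decide +kernel)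

theorem ce_g_153 : ∀ r, r < 64 → sm gg (Qf (9792 + r)) = Qf (tab Gen.g (9792 + r)) :=
  edges_tab (sm gg) Qf (tab Gen.g) 9792 [(9792, 9071), (9793, 9072), (9794, 9073), (9795, 9372), (9796, 9373), (9797, 10156), (9798, 10429), (9799, 10430), (9800, 9078), (9801, 10434), (9802, 10204), (9803, 9502), (9804, 10339), (9805, 9515), (9806, 10221), (9807, 10340), (9808, 9101), (9809, 10131), (9810, 9453), (9811, 10247), (9812, 10146), (9813, 10248), (9814, 10249), (9815, 10207), (9816, 9703), (9817, 10208), (9818, 9457), (9819, 10332), (9820, 10227), (9821, 10333), (9822, 10457), (9823, 10329), (9824, 9704), (9825, 10195), (9826, 10250), (9827, 9123), (9828, 9127), (9829, 9128), (9830, 9131), (9831, 9331), (9832, 9333), (9833, 9334), (9834, 9711), (9835, 9382), (9836, 9383), (9837, 10354), (9838, 9386), (9839, 9387), (9840, 9455), (9841, 9332), (9842, 9716), (9843, 10459), (9844, 10426), (9845, 9126), (9846, 10477), (9847, 10460), (9848, 10461), (9849, 9130), (9850, 10482), (9851, 10462), (9852,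 9148), (9853, 9153), (9854, 9338), (9855, 9339)]
    ⟨e3 q9792 L173951 q9071, e3 q9793 L173960 q9072, e3 q9794 L173970 q9073, e3 q9795 L173982 q9372, e3 q9796 L173991 q9373, e3 q9797 (flp_g L177216) q10156, e3 q9798 (flp_g L179932) q10429, e3 q9799 (flp_g L179947) q10430, e3 q9800 L174025 q9078, e3 q9801 (flp_g L179981) q10434, e3 q9802 (flp_g L177770) q10204, e3 q9803 L174052 q9502, e3 q9804 (flp_g L179073) q10339, e3 q9805 L174072 q9515, e3 q9806 (flp_g L177940) q10221, e3 q9807 (flp_g L179087) q10340, e3 q9808 L174098 q9101, e3 q9809 (flp_g L176905) q10131, e3 q9810 L174124 q9453, e3 q9811 (flp_g L178188) q10247, e3 q9812 (flp_g L177103) q10146, e3 q9813 (flp_g L178198) q10248, e3 q9814 (flp_g L178208) q10249, e3 q9815 (flp_g L177808) q10207, e3 q9816 L174175 q9703, e3 q9817 (flp_g L177818) q10208, e3 q9818 L174191 q9457, e3 q9819 (flp_g L178999) q10332, e3 q9820 (flp_g L178004) q10227, e3 q9821 (flp_g L179013) q10333, e3 q9822 L180156 q10457, e3 q9823 (flp_g L178962) q10329, e3 q9824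 L174231 q9704, e3 q9825 (flp_g L177647) q10195, e3 q9826 (flp_g L178216) q10250, e3 q9827 L174259 q9123, e3 q9828 L174269 q9127, e3 q9829 L174275 q9128, e3 q9830 L174287 q9131, e3 q9831 L174297 q9331, e3 q9832 L174310 q9333, e3 q9833 L174318 q9334, e3 q9834 L174329 q9711, e3 q9835 L174344 q9382, e3 q9836 L174357 q9383, e3 q9837 (flp_g L179243) q10354, e3 q9838 L174377 q9386, e3 q9839 L174385 q9387, e3 q9840 L174397 q9455, e3 q9841 L174417 q9332, e3 q9842 L174429 q9716, e3 q9843 (flp_g L180181) q10459, e3 q9844 (flp_g L179902) q10426, e3 q9845 L174453 q9126, e3 q9846 (flp_g L180367) q10477, e3 q9847 (flp_g L180187) q10460, e3 q9848 (flp_g L180193) q10461, e3 q9849 L174471 q9130, e3 q9850 (flp_g L180391) q10482, e3 q9851 (flp_g L180205) q10462, e3 q9852 L174495 q9148, e3 q9853 L174501 q9153, e3 q9854 L174514 q9338, e3 q9855 L174525 q9339, trivial⟩ (by decide +kernel)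

theorem ce_g_154 : ∀ r, r < 64 → sm gg (Qf (9856 + r)) = Qf (tab Gen.g (9856 + r)) :=
  edges_tab (sm gg) Qf (tab Gen.g) 9856 [(9856, 9340), (9857, 9341), (9858, 9615), (9859, 9613), (9860, 10266), (9861, 9394), (9862, 9395), (9863, 10269), (9864, 9397), (9865, 9398), (9866, 9625), (9867, 9147), (9868, 9623), (9869, 10501), (9870, 10424), (9871, 10411), (9872, 9151), (9873, 10506), (9874, 10416), (9875, 10509), (9876, 9403), (9877, 9158), (9878, 9401), (9879, 10511), (9880, 9186), (9881, 9187), (9882, 9162), (9883, 10516), (9884, 9191), (9885, 10519), (9886, 9887), (9887, 9886), (9888, 10228), (9889, 9350), (9890, 9351), (9891, 10231), (9892, 9353), (9893, 9354), (9894, 9896), (9895, 9175), (9896, 9894), (9897, 10530), (9898, 9405), (9899, 9406), (9900, 9179), (9901, 10536), (9902, 9409), (9903, 9410), (9904, 10542), (9905, 9907), (9906, 9185), (9907, 9905), (9908, 10544), (9909, 10514), (9910, 10373), (9911, 10515), (9912, 9189), (9913, 10173), (9914, 10553), (9915, 10366), (9916, 10375),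 (9917, 10558), (9918, 9192), (9919, 9418)]
    ⟨e3 q9856 L174535 q9340, e3 q9857 L174543 q9341, e3 q9858 L174552 q9615, e3 q9859 L174569 q9613, e3 q9860 (flp_g L178393) q10266, e3 q9861 L174589 q9394, e3 q9862 L174596 q9395, e3 q9863 (flp_g L178427) q10269, e3 q9864 L174612 q9397, e3 q9865 L174620 q9398, e3 q9866 L174630 q9625, e3 q9867 L174640 q9147, e3 q9868 L174652 q9623, e3 q9869 (flp_g L180553) q10501, e3 q9870 (flp_g L179873) q10424, e3 q9871 (flp_g L179741) q10411, e3 q9872 L174674 q9151, e3 q9873 (flp_g L180587) q10506, e3 q9874 (flp_g L179785) q10416, e3 q9875 L180601 q10509, e3 q9876 L174702 q9403, e3 q9877 L174716 q9158, e3 q9878 L174728 q9401, e3 q9879 (flp_g L180627) q10511, e3 q9880 L174744 q9186, e3 q9881 L174752 q9187, e3 q9882 L174764 q9162, e3 q9883 (flp_g L180675) q10516, e3 q9884 L174776 q9191, e3 q9885 L180687 q10519, e3 q9886 (flp_g L174810) q9887, e3 q9887 L174810 q9886, e3 q9888 (flp_g L178020) q10228, e3 q9889 L174832 q9350, e3 q9890 L174842 q9351, e3 q9891 (flp_g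 L178058) q10231, e3 q9892 L174856 q9353, e3 q9893 L174862 q9354, e3 q9894 (flp_g L174898) q9896, e3 q9895 L174886 q9175, e3 q9896 L174898 q9894, e3 q9897 (flp_g L180797) q10530, e3 q9898 L174916 q9405, e3 q9899 L174924 q9406, e3 q9900 L174936 q9179, e3 q9901 (flp_g L180855) q10536, e3 q9902 L174946 q9409, e3 q9903 L174954 q9410, e3 q9904 L180887 q10542, e3 q9905 (flp_g L174986) q9907, e3 q9906 L174974 q9185, e3 q9907 L174986 q9905, e3 q9908 (flp_g L180899) q10544, e3 q9909 (flp_g L180657) q10514, e3 q9910 (flp_g L179414) q10373, e3 q9911 (flp_g L180665) q10515, e3 q9912 L175012 q9189, e3 q9913 (flp_g L177425) q10173, e3 q9914 (flp_g L180957) q10553, e3 q9915 (flp_g L179346) q10366, e3 q9916 (flp_g L179436) q10375, e3 q9917 L180975 q10558, e3 q9918 (flp_g L175034) q9192, e3 q9919 L175042 q9418, trivial⟩ (by decide +kernel)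

theorem ce_g_155 : ∀ r, r < 64 → sm gg (Qf (9920 + r)) = Qf (tab Gen.g (9920 + r)) :=
  edges_tab (sm gg) Qf (tab Gen.g) 9920 [(9920, 9198), (9921, 9416), (9922, 10560), (9923, 9208), (9924, 9210), (9925, 9202), (9926, 9512), (9927, 9684), (9928, 9207), (9929, 10171), (9930, 10372), (9931, 10563), (9932, 10365), (9933, 10355), (9934, 9552), (9935, 9342), (9936, 10198), (9937, 9400), (9938, 9371), (9939, 10202), (9940, 9356), (9941, 10187), (9942, 9378), (9943, 9415), (9944, 9987), (9945, 9232), (9946, 9245), (9947, 9311), (9948, 9336), (9949, 9238), (9950, 9390), (9951, 9241), (9952, 9438), (9953, 9244), (9954, 9955), (9955, 9954), (9956, 10571), (9957, 9959), (9958, 9249), (9959, 9957), (9960, 10577), (9961, 9361), (9962, 9362), (9963, 9253), (9964, 10582), (9965, 9365), (9966, 9968), (9967, 9258), (9968, 9966), (9969, 10586), (9970, 9420), (9971, 9421), (9972, 9422), (9973, 9262), (9974, 10192), (9975, 9426), (9976, 9427), (9977, 9315), (9978, 9687), (9979, 9269), (9980, 9445), (9981,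 9446), (9982, 9447), (9983, 9450)]
    ⟨e3 q9920 L175054 q9198, e3 q9921 L175066 q9416, e3 q9922 (flp_g L180996) q10560, e3 q9923 L175086 q9208, e3 q9924 L175098 q9210, e3 q9925 L175112 q9202, e3 q9926 L175124 q9512, e3 q9927 L175137 q9684, e3 q9928 L175147 q9207, e3 q9929 (flp_g L177403) q10171, e3 q9930 (flp_g L179406) q10372, e3 q9931 (flp_g L181040) q10563, e3 q9932 (flp_g L179340) q10365, e3 q9933 (flp_g L179253) q10355, e3 q9934 L175203 q9552, e3 q9935 L175215 q9342, e3 q9936 (flp_g L177686) q10198, e3 q9937 L175231 q9400, e3 q9938 L175242 q9371, e3 q9939 (flp_g L177739) q10202, e3 q9940 L175265 q9356, e3 q9941 (flp_g L177553) q10187, e3 q9942 L175279 q9378, e3 q9943 L175285 q9415, e3 q9944 (flp_g L175730) q9987, e3 q9945 L175311 q9232, e3 q9946 L175324 q9245, e3 q9947 L175340 q9311, e3 q9948 L175349 q9336, e3 q9949 L175364 q9238, e3 q9950 L175370 q9390, e3 q9951 L175384 q9241, e3 q9952 L175391 q9438, e3 q9953 L175403 q9244, e3 q9954 (flp_g L175421) q9955, e3 q9955 L175421 q9954, e3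 q9956 (flp_g L181121) q10571, e3 q9957 (flp_g L175460) q9959, e3 q9958 L175448 q9249, e3 q9959 L175460 q9957, e3 q9960 (flp_g L181172) q10577, e3 q9961 L175476 q9361, e3 q9962 L175485 q9362, e3 q9963 L175499 q9253, e3 q9964 (flp_g L181225) q10582, e3 q9965 L175514 q9365, e3 q9966 (flp_g L175545) q9968, e3 q9967 L175533 q9258, e3 q9968 L175545 q9966, e3 q9969 (flp_g L181262) q10586, e3 q9970 L175563 q9420, e3 q9971 L175570 q9421, e3 q9972 L175578 q9422, e3 q9973 L175590 q9262, e3 q9974 (flp_g L177606) q10192, e3 q9975 L175604 q9426, e3 q9976 L175613 q9427, e3 q9977 L175623 q9315, e3 q9978 L175628 q9687, e3 q9979 L175640 q9269, e3 q9980 L175653 q9445, e3 q9981 L175666 q9446, e3 q9982 L175675 q9447, e3 q9983 L175685 q9450, trivial⟩ (by decide +kernel)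

theorem ce_g_156 : ∀ r, r < 64 → sm gg (Qf (9984 + r)) = Qf (tab Gen.g (9984 + r)) :=
  edges_tab (sm gg) Qf (tab Gen.g) 9984 [(9984, 9441), (9985, 9280), (9986, 9439), (9987, 9944), (9988, 9680), (9989, 9290), (9990, 10193), (9991, 9368), (9992, 10002), (9993, 9654), (9994, 9432), (9995, 9516), (9996, 9316), (9997, 9458), (9998, 9335), (9999, 9719), (10000, 10425), (10001, 10049), (10002, 9992), (10003, 10053), (10004, 10593), (10005, 10011), (10006, 10598), (10007, 9646), (10008, 9320), (10009, 9644), (10010, 9327), (10011, 10005), (10012, 10611), (10013, 10349), (10014, 10350), (10015, 10463), (10016, 10473), (10017, 10464), (10018, 10465), (10019, 10600), (10020, 10311), (10021, 10364), (10022, 10487), (10023, 10488), (10024, 10489), (10025, 10490), (10026, 10566), (10027, 10391), (10028, 10392), (10029, 10393), (10030, 10394), (10031, 10395), (10032, 10209), (10033, 10229), (10034, 10230), (10035, 10523), (10036, 10524), (10037, 10232), (10038, 10526), (10039, 10527), (10040, 10645),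 (10041, 10318), (10042, 10570), (10043, 10421), (10044, 9360), (10045, 10419), (10046, 10647), (10047, 10580)]
    ⟨e3 q9984 L175694 q9441, e3 q9985 L175704 q9280, e3 q9986 L175719 q9439, e3 q9987 L175730 q9944, e3 q9988 L175743 q9680, e3 q9989 L175755 q9290, e3 q9990 (flp_g L177619) q10193, e3 q9991 L175770 q9368, e3 q9992 (flp_g L175890) q10002, e3 q9993 L175789 q9654, e3 q9994 L175806 q9432, e3 q9995 L175816 q9516, e3 q9996 L175831 q9316, e3 q9997 L175844 q9458, e3 q9998 L175856 q9335, e3 q9999 L175865 q9719, e3 q10000 (flp_g L179886) q10425, e3 q10001 (flp_g L176260) q10049, e3 q10002 L175890 q9992, e3 q10003 (flp_g L176301) q10053, e3 q10004 (flp_g L181330) q10593, e3 q10005 (flp_g L175968) q10011, e3 q10006 (flp_g L181376) q10598, e3 q10007 L175927 q9646, e3 q10008 L175936 q9320, e3 q10009 L175947 q9644, e3 q10010 L175958 q9327, e3 q10011 L175968 q10005, e3 q10012 (flp_g L181508) q10611, e3 q10013 (flp_g L179192) q10349, e3 q10014 (flp_g L179201) q10350, e3 q10015 (flp_g L180218) q10463,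 e3 q10016 (flp_g L180337) q10473, e3 q10017 (flp_g L180228) q10464, e3 q10018 (flp_g L180236) q10465, e3 q10019 (flp_g L181403) q10600, e3 q10020 (flp_g L178751) q10311, e3 q10021 (flp_g L179330) q10364, e3 q10022 (flp_g L180430) q10487, e3 q10023 (flp_g L180437) q10488, e3 q10024 (flp_g L180443) q10489, e3 q10025 (flp_g L180451) q10490, e3 q10026 (flp_g L181070) q10566, e3 q10027 (flp_g L179574) q10391, e3 q10028 (flp_g L179585) q10392, e3 q10029 (flp_g L179593) q10393, e3 q10030 (flp_g L179599) q10394, e3 q10031 (flp_g L179611) q10395, e3 q10032 (flp_g L177834) q10209, e3 q10033 (flp_g L178034) q10229, e3 q10034 (flp_g L178044) q10230, e3 q10035 (flp_g L180739) q10523, e3 q10036 (flp_g L180747) q10524, e3 q10037 (flp_g L178068) q10232, e3 q10038 (flp_g L180761) q10526, e3 q10039 (flp_g L180769) q10527, e3 q10040 L181752 q10645, e3 q10041 (flp_g L178818) q10318, e3 q10042 (flp_g L181109) q10570, e3 q10043 (flp_g L179836) q10421, e3 q10044 L176219 q9360, e3 q10045 (flp_g L179808) q10419,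 e3 q10046 (flp_g L181773) q10647, e3 q10047 (flp_g L181205) q10580, trivial⟩ (by decide +kernel)

theorem ce_g_157 : ∀ r, r < 64 → sm gg (Qf (10048 + r)) = Qf (tab Gen.g (10048 + r)) :=
  edges_tab (sm gg) Qf (tab Gen.g) 10048 [(10048, 10581), (10049, 10001), (10050, 9364), (10051, 10344), (10052, 10584), (10053, 10003), (10054, 10305), (10055, 10428), (10056, 10319), (10057, 10568), (10058, 10431), (10059, 10320), (10060, 10297), (10061, 10323), (10062, 10327), (10063, 10314), (10064, 9712), (10065, 10467), (10066, 10468), (10067, 9385), (10068, 10664), (10069, 10470), (10070, 10471), (10071, 9389), (10072, 10669), (10073, 10572), (10074, 9736), (10075, 10267), (10076, 10268), (10077, 10494), (10078, 10495), (10079, 10270), (10080, 10497), (10081, 10498), (10082, 10683), (10083, 10324), (10084, 10512), (10085, 9404), (10086, 10510), (10087, 10685), (10088, 10533), (10089, 10534), (10090, 10535), (10091, 9408), (10092, 10694), (10093, 10695), (10094, 10539), (10095, 10540), (10096, 10702),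 (10097, 9411), (10098, 9413), (10099, 10186), (10100, 10343), (10101, 10263), (10102, 10561), (10103, 9419), (10104, 10559), (10105, 10705), (10106, 10125), (10107, 10588), (10108, 10589), (10109, 10590), (10110, 10591), (10111, 9424)]
    ⟨e3 q10048 (flp_g L181214) q10581, e3 q10049 L176260 q10001, e3 q10050 L176273 q9364, e3 q10051 (flp_g L179135) q10344, e3 q10052 (flp_g L181241) q10584, e3 q10053 L176301 q10003, e3 q10054 (flp_g L178694) q10305, e3 q10055 (flp_g L179923) q10428, e3 q10056 (flp_g L178834) q10319, e3 q10057 (flp_g L181088) q10568, e3 q10058 (flp_g L179957) q10431, e3 q10059 (flp_g L178849) q10320, e3 q10060 (flp_g L178616) q10297, e3 q10061 (flp_g L178892) q10323, e3 q10062 (flp_g L178935) q10327, e3 q10063 (flp_g L178775) q10314, e3 q10064 L176382 q9712, e3 q10065 (flp_g L180268) q10467, e3 q10066 (flp_g L180277) q10468, e3 q10067 L176406 q9385, e3 q10068 (flp_g L181917) q10664, e3 q10069 (flp_g L180295) q10470, e3 q10070 (flp_g L180303) q10471, e3 q10071 L176436 q9389,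 e3 q10072 (flp_g L181953) q10669, e3 q10073 (flp_g L181127) q10572, e3 q10074 L176467 q9736, e3 q10075 (flp_g L178406) q10267, e3 q10076 (flp_g L178413) q10268, e3 q10077 (flp_g L180493) q10494, e3 q10078 (flp_g L180501) q10495, e3 q10079 (flp_g L178435) q10270, e3 q10080 (flp_g L180515) q10497, e3 q10081 (flp_g L180525) q10498, e3 q10082 L182046 q10683, e3 q10083 (flp_g L178904) q10324, e3 q10084 (flp_g L180641) q10512, e3 q10085 L176531 q9404, e3 q10086 (flp_g L180613) q10510, e3 q10087 (flp_g L182056) q10685, e3 q10088 (flp_g L180827) q10533, e3 q10089 (flp_g L180833) q10534, e3 q10090 (flp_g L180843) q10535, e3 q10091 L176565 q9408, e3 q10092 (flp_g L182110) q10694, e3 q10093 (flp_g L182116) q10695, e3 q10094 (flp_g L180871) q10539, e3 q10095 (flp_g L180879) q10540, e3 q10096 L182144 q10702, e3 q10097 (flp_g L176587) q9411, e3 q10098 L176593 q9413, e3 q10099 (flp_g L177541) q10186, e3 q10100 (flp_g L179125) q10343, e3 q10101 (flp_g L178350) q10263, e3 q10102 (flp_g L181012) q10561, e3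 q10103 L176633 q9419, e3 q10104 (flp_g L180983) q10559, e3 q10105 (flp_g L182162) q10705, e3 q10106 (flp_g L176853) q10125, e3 q10107 (flp_g L181282) q10588, e3 q10108 (flp_g L181291) q10589, e3 q10109 (flp_g L181302) q10590, e3 q10110 (flp_g L181312) q10591, e3 q10111 L176694 q9424, trivial⟩ (by decide +kernel)

theorem ce_g_158 : ∀ r, r < 64 → sm gg (Qf (10112 + r)) = Qf (tab Gen.g (10112 + r)) :=
  edges_tab (sm gg) Qf (tab Gen.g) 10112 [(10112, 10113), (10113, 10112), (10114, 10302), (10115, 10592), (10116, 9541), (10117, 10370), (10118, 9533), (10119, 9437), (10120, 10121), (10121, 10120), (10122, 10573), (10123, 10124), (10124, 10123), (10125, 10106), (10126, 10219), (10127, 10330), (10128, 10300), (10129, 10594), (10130, 10303), (10131, 9809), (10132, 9617), (10133, 10444), (10134, 9580), (10135, 10472), (10136, 9627), (10137, 10453), (10138, 10599), (10139, 9648), (10140, 9721), (10141, 9470), (10142, 9473), (10143, 9475), (10144, 9476), (10145, 9478), (10146, 9812), (10147, 9743),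 (10148, 9746), (10149, 10733), (10150, 9755), (10151, 9555), (10152, 10734), (10153, 9758), (10154, 10735), (10155, 10736), (10156, 9797), (10157, 10737), (10158, 9692), (10159, 9737), (10160, 9738), (10161, 9739), (10162, 9490), (10163, 9496), (10164, 9505), (10165, 9506), (10166, 9509), (10167, 9787), (10168, 9773), (10169, 10756), (10170, 9730), (10171, 9929), (10172, 9733), (10173, 9913), (10174, 10757), (10175, 10758)]
    ⟨e3 q10112 (flp_g L176718) q10113, e3 q10113 L176718 q10112, e3 q10114 (flp_g L178668) q10302, e3 q10115 (flp_g L181322) q10592, e3 q10116 L176747 q9541, e3 q10117 (flp_g L179390) q10370, e3 q10118 L176776 q9533, e3 q10119 L176787 q9437, e3 q10120 (flp_g L176809) q10121, e3 q10121 L176809 q10120, e3 q10122 (flp_g L181136) q10573, e3 q10123 (flp_g L176838) q10124, e3 q10124 L176838 q10123, e3 q10125 L176853 q10106, e3 q10126 (flp_g L177924) q10219, e3 q10127 (flp_g L178973) q10330, e3 q10128 (flp_g L178652) q10300, e3 q10129 (flp_g L181336) q10594, e3 q10130 (flp_g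 L178678) q10303, e3 q10131 L176905 q9809, e3 q10132 L176920 q9617, e3 q10133 (flp_g L180070) q10444, e3 q10134 L176942 q9580, e3 q10135 (flp_g L180321) q10472, e3 q10136 L176966 q9627, e3 q10137 (flp_g L180136) q10453, e3 q10138 (flp_g L181390) q10599, e3 q10139 L176996 q9648, e3 q10140 L177015 q9721, e3 q10141 L177031 q9470, e3 q10142 L177048 q9473, e3 q10143 L177062 q9475, e3 q10144 L177070 q9476, e3 q10145 L177084 q9478, e3 q10146 L177103 q9812, e3 q10147 L177121 q9743, e3 q10148 L177135 q9746, e3 q10149 (flp_g L182457) q10733, e3 q10150 L177158 q9755, e3 q10151 L177171 q9555, e3 q10152 (flp_g L182472) q10734, e3 q10153 L177190 q9758, e3 q10154 (flp_g L182484) q10735, e3 q10155 (flp_g L182494) q10736, e3 q10156 L177216 q9797, e3 q10157 (flp_g L182506) q10737, e3 q10158 L177244 q9692, e3 q10159 L177260 q9737, e3 q10160 L177270 q9738, e3 q10161 L177282 q9739, e3 q10162 L177301 q9490, e3 q10163 L177309 q9496, e3 q10164 L177319 q9505, e3 q10165 L177327 q9506, e3 q10166 L177337 q9509, e3 q10167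 L177357 q9787, e3 q10168 L177371 q9773, e3 q10169 (flp_g L182726) q10756, e3 q10170 L177395 q9730, e3 q10171 L177403 q9929, e3 q10172 L177417 q9733, e3 q10173 L177425 q9913, e3 q10174 (flp_g L182736) q10757, e3 q10175 (flp_g L182746) q10758, trivial⟩ (by decide +kernel)

theorem ce_g_159 : ∀ r, r < 64 → sm gg (Qf (10176 + r)) = Qf (tab Gen.g (10176 + r)) :=
  edges_tab (sm gg) Qf (tab Gen.g) 10176 [(10176, 9500), (10177, 10369), (10178, 10772), (10179, 9558), (10180, 10437), (10181, 9504), (10182, 10778), (10183, 10759), (10184, 10760), (10185, 10784), (10186, 10099), (10187, 9941), (10188, 9513), (10189, 10562), (10190, 9562), (10191, 10439), (10192, 9974), (10193, 9990), (10194, 9524), (10195, 9825), (10196, 10789), (10197, 9587), (10198, 9936), (10199, 9535), (10200, 10716), (10201, 9634), (10202, 9939), (10203, 9652), (10204, 9802), (10205, 9553), (10206, 9559), (10207, 9815), (10208, 9817), (10209, 10032), (10210, 10564), (10211, 10795), (10212, 9756), (10213, 10744), (10214, 9557),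 (10215, 10804), (10216, 10775), (10217, 10796), (10218, 9561), (10219, 10126), (10220, 10786), (10221, 9806), (10222, 9575), (10223, 9581), (10224, 9584), (10225, 9585), (10226, 9588), (10227, 9820), (10228, 9888), (10229, 10033), (10230, 10034), (10231, 9891), (10232, 10037), (10233, 10813), (10234, 10236), (10235, 9579), (10236, 10234), (10237, 10828), (10238, 10726), (10239, 10814)]
    ⟨e3 q10176 L177453 q9500, e3 q10177 (flp_g L179374) q10369, e3 q10178 (flp_g L182894) q10772, e3 q10179 L177483 q9558, e3 q10180 (flp_g L180004) q10437, e3 q10181 L177505 q9504, e3 q10182 (flp_g L182948) q10778, e3 q10183 (flp_g L182756) q10759, e3 q10184 (flp_g L182768) q10760, e3 q10185 L182996 q10784, e3 q10186 L177541 q10099, e3 q10187 L177553 q9941, e3 q10188 L177567 q9513, e3 q10189 (flp_g L181026) q10562, e3 q10190 L177587 q9562, e3 q10191 (flp_g L180024) q10439, e3 q10192 L177606 q9974, e3 q10193 L177619 q9990, e3 q10194 L177632 q9524, e3 q10195 L177647 q9825, e3 q10196 (flp_g L183062) q10789,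 e3 q10197 L177669 q9587, e3 q10198 L177686 q9936, e3 q10199 L177699 q9535, e3 q10200 (flp_g L182263) q10716, e3 q10201 L177725 q9634, e3 q10202 L177739 q9939, e3 q10203 L177755 q9652, e3 q10204 L177770 q9802, e3 q10205 L177782 q9553, e3 q10206 L177788 q9559, e3 q10207 L177808 q9815, e3 q10208 L177818 q9817, e3 q10209 L177834 q10032, e3 q10210 (flp_g L181054) q10564, e3 q10211 (flp_g L183143) q10795, e3 q10212 L177867 q9756, e3 q10213 (flp_g L182591) q10744, e3 q10214 L177884 q9557, e3 q10215 (flp_g L183242) q10804, e3 q10216 (flp_g L182922) q10775, e3 q10217 (flp_g L183155) q10796, e3 q10218 L177912 q9561, e3 q10219 L177924 q10126, e3 q10220 (flp_g L183026) q10786, e3 q10221 L177940 q9806, e3 q10222 L177954 q9575, e3 q10223 L177967 q9581, e3 q10224 L177975 q9584, e3 q10225 L177983 q9585, e3 q10226 L177993 q9588, e3 q10227 L178004 q9820, e3 q10228 L178020 q9888, e3 q10229 L178034 q10033, e3 q10230 L178044 q10034, e3 q10231 L178058 q9891, e3 q10232 L178068 q10037, e3 q10233 (flp_g L183325)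 q10813, e3 q10234 (flp_g L178107) q10236, e3 q10235 L178096 q9579, e3 q10236 L178107 q10234, e3 q10237 (flp_g L183486) q10828, e3 q10238 (flp_g L182378) q10726, e3 q10239 (flp_g L183337) q10814, trivial⟩ (by decide +kernel)

theorem ce_g_160 : ∀ r, r < 64 → sm gg (Qf (10240 + r)) = Qf (tab Gen.g (10240 + r)) :=
  edges_tab (sm gg) Qf (tab Gen.g) 10240 [(10240, 9583), (10241, 10834), (10242, 10815), (10243, 10816), (10244, 10840), (10245, 10791), (10246, 10818), (10247, 9811), (10248, 9813), (10249, 9814), (10250, 9826), (10251, 9612), (10252, 9618), (10253, 9621), (10254, 9622), (10255, 9598), (10256, 10852), (10257, 9628), (10258, 9601), (10259, 10856), (10260, 9631), (10261, 9632), (10262, 10862), (10263, 10101), (10264, 9677), (10265, 9635), (10266, 9860), (10267, 10075), (10268, 10076), (10269, 9863), (10270, 10079), (10271, 10847), (10272, 10492), (10273, 9616), (10274, 10491), (10275, 10873), (10276, 10724), (10277, 10848), (10278, 9620), (10279, 10879), (10280, 10849), (10281, 10850),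 (10282, 10885), (10283, 10502), (10284, 9626), (10285, 10500), (10286, 10887), (10287, 10728), (10288, 10854), (10289, 10855), (10290, 9630), (10291, 10792), (10292, 10896), (10293, 10859), (10294, 10860), (10295, 10903), (10296, 9633), (10297, 10060), (10298, 10864), (10299, 9637), (10300, 10128), (10301, 9649), (10302, 10114), (10303, 10130)]
    ⟨e3 q10240 L178135 q9583, e3 q10241 (flp_g L183530) q10834, e3 q10242 (flp_g L183345) q10815, e3 q10243 (flp_g L183355) q10816, e3 q10244 L183570 q10840, e3 q10245 (flp_g L183092) q10791, e3 q10246 (flp_g L183373) q10818, e3 q10247 L178188 q9811, e3 q10248 L178198 q9813, e3 q10249 L178208 q9814, e3 q10250 L178216 q9826, e3 q10251 L178229 q9612, e3 q10252 L178248 q9618, e3 q10253 L178258 q9621, e3 q10254 L178268 q9622, e3 q10255 L178284 q9598, e3 q10256 (flp_g L183720) q10852, e3 q10257 L178298 q9628, e3 q10258 L178314 q9601, e3 q10259 (flp_g L183754) q10856, e3 q10260 L178330 q9631, e3 q10261 L178336 q9632, e3 q10262 L183800 q10862, e3 q10263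 L178350 q10101, e3 q10264 L178362 q9677, e3 q10265 L178376 q9635, e3 q10266 L178393 q9860, e3 q10267 L178406 q10075, e3 q10268 L178413 q10076, e3 q10269 L178427 q9863, e3 q10270 L178435 q10079, e3 q10271 (flp_g L183656) q10847, e3 q10272 (flp_g L180479) q10492, e3 q10273 L178465 q9616, e3 q10274 (flp_g L180464) q10491, e3 q10275 (flp_g L183928) q10873, e3 q10276 (flp_g L182355) q10724, e3 q10277 (flp_g L183672) q10848, e3 q10278 L178510 q9620, e3 q10279 (flp_g L183976) q10879, e3 q10280 (flp_g L183682) q10849, e3 q10281 (flp_g L183694) q10850, e3 q10282 L184010 q10885, e3 q10283 (flp_g L180565) q10502, e3 q10284 L178546 q9626, e3 q10285 (flp_g L180543) q10500, e3 q10286 (flp_g L184022) q10887, e3 q10287 (flp_g L182400) q10728, e3 q10288 (flp_g L183734) q10854, e3 q10289 (flp_g L183742) q10855, e3 q10290 L178578 q9630, e3 q10291 (flp_g L183107) q10792, e3 q10292 (flp_g L184072) q10896, e3 q10293 (flp_g L183786) q10859, e3 q10294 (flp_g L183792) q10860, e3 q10295 L184114 q10903, e3 q10296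 (flp_g L178604) q9633, e3 q10297 L178616 q10060, e3 q10298 (flp_g L183830) q10864, e3 q10299 L178641 q9637, e3 q10300 L178652 q10128, e3 q10301 L178658 q9649, e3 q10302 L178668 q10114, e3 q10303 L178678 q10130, trivial⟩ (by decide +kernel)

theorem ce_g_161 : ∀ r, r < 64 → sm gg (Qf (10304 + r)) = Qf (tab Gen.g (10304 + r)) :=
  edges_tab (sm gg) Qf (tab Gen.g) 10304 [(10304, 9653), (10305, 10054), (10306, 9656), (10307, 9647), (10308, 10610), (10309, 10793), (10310, 10731), (10311, 10020), (10312, 10906), (10313, 10360), (10314, 10063), (10315, 10909), (10316, 10597), (10317, 9661), (10318, 10041), (10319, 10056), (10320, 10059), (10321, 9671), (10322, 9675), (10323, 10061), (10324, 10083), (10325, 9670), (10326, 10919), (10327, 10062), (10328, 10918), (10329, 9823), (10330, 10127), (10331, 10585), (10332, 9819), (10333, 9821), (10334, 9693), (10335, 9696), (10336, 10752), (10337, 10924), (10338, 10925), (10339, 9804), (10340, 9807), (10341, 10933), (10342, 9699), (10343, 10100), (10344,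 10051), (10345, 10451), (10346, 9713), (10347, 9717), (10348, 9718), (10349, 10013), (10350, 10014), (10351, 10466), (10352, 10661), (10353, 10936), (10354, 9837), (10355, 9933), (10356, 10474), (10357, 10937), (10358, 10938), (10359, 10601), (10360, 10313), (10361, 10732), (10362, 9727), (10363, 9735), (10364, 10021), (10365, 9932), (10366, 9915), (10367, 10955)]
    ⟨e3 q10304 L178686 q9653, e3 q10305 L178694 q10054, e3 q10306 L178711 q9656, e3 q10307 L178723 q9647, e3 q10308 (flp_g L181496) q10610, e3 q10309 (flp_g L183121) q10793, e3 q10310 (flp_g L182430) q10731, e3 q10311 L178751 q10020, e3 q10312 (flp_g L184139) q10906, e3 q10313 (flp_g L179288) q10360, e3 q10314 L178775 q10063, e3 q10315 (flp_g L184172) q10909, e3 q10316 (flp_g L181366) q10597, e3 q10317 L178805 q9661, e3 q10318 L178818 q10041, e3 q10319 L178834 q10056, e3 q10320 L178849 q10059, e3 q10321 L178864 q9671, e3 q10322 L178877 q9675, e3 q10323 L178892 q10061, e3 q10324 L178904 q10083, e3 q10325 L178917 q9670, e3 q10326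 (flp_g L184261) q10919, e3 q10327 L178935 q10062, e3 q10328 (flp_g L184244) q10918, e3 q10329 L178962 q9823, e3 q10330 L178973 q10127, e3 q10331 (flp_g L181251) q10585, e3 q10332 L178999 q9819, e3 q10333 L179013 q9821, e3 q10334 L179023 q9693, e3 q10335 L179035 q9696, e3 q10336 (flp_g L182677) q10752, e3 q10337 (flp_g L184325) q10924, e3 q10338 (flp_g L184339) q10925, e3 q10339 L179073 q9804, e3 q10340 L179087 q9807, e3 q10341 L184419 q10933, e3 q10342 L179109 q9699, e3 q10343 L179125 q10100, e3 q10344 L179135 q10051, e3 q10345 (flp_g L180122) q10451, e3 q10346 L179159 q9713, e3 q10347 L179169 q9717, e3 q10348 L179175 q9718, e3 q10349 L179192 q10013, e3 q10350 L179201 q10014, e3 q10351 (flp_g L180253) q10466, e3 q10352 (flp_g L181896) q10661, e3 q10353 (flp_g L184459) q10936, e3 q10354 L179243 q9837, e3 q10355 L179253 q9933, e3 q10356 (flp_g L180345) q10474, e3 q10357 (flp_g L184467) q10937, e3 q10358 (flp_g L184479) q10938, e3 q10359 (flp_g L181414) q10601, e3 q10360 L179288 q10313, e3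 q10361 (flp_g L182443) q10732, e3 q10362 L179308 q9727, e3 q10363 L179318 q9735, e3 q10364 L179330 q10021, e3 q10365 L179340 q9932, e3 q10366 L179346 q9915, e3 q10367 (flp_g L184626) q10955, trivial⟩ (by decide +kernel)

theorem ce_g_162 : ∀ r, r < 64 → sm gg (Qf (10368 + r)) = Qf (tab Gen.g (10368 + r)) :=
  edges_tab (sm gg) Qf (tab Gen.g) 10368 [(10368, 10956), (10369, 10177), (10370, 10117), (10371, 10766), (10372, 9930), (10373, 9910), (10374, 10768), (10375, 9916), (10376, 10971), (10377, 10673), (10378, 10753), (10379, 10754), (10380, 10755), (10381, 9757), (10382, 9759), (10383, 9760), (10384, 9761), (10385, 10739), (10386, 9766), (10387, 9767), (10388, 10740), (10389, 9771), (10390, 10986), (10391, 10027), (10392, 10028), (10393, 10029), (10394, 10030), (10395, 10031), (10396, 10397), (10397, 10396), (10398, 10743), (10399, 10802), (10400, 10976), (10401, 10746), (10402, 10977), (10403, 10978), (10404, 10979), (10405, 11005), (10406, 10408), (10407, 9765), (10408, 10406), (10409,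 11007), (10410, 10982), (10411, 9871), (10412, 10983), (10413, 9769), (10414, 10763), (10415, 11015), (10416, 9874), (10417, 11019), (10418, 9772), (10419, 10045), (10420, 9777), (10421, 10043), (10422, 9782), (10423, 10762), (10424, 9870), (10425, 10000), (10426, 9844), (10427, 9791), (10428, 10055), (10429, 9798), (10430, 9799), (10431, 10058)]
    ⟨e3 q10368 (flp_g L184640) q10956, e3 q10369 L179374 q10177, e3 q10370 L179390 q10117, e3 q10371 (flp_g L182834) q10766, e3 q10372 L179406 q9930, e3 q10373 L179414 q9910, e3 q10374 (flp_g L182856) q10768, e3 q10375 L179436 q9916, e3 q10376 L184790 q10971, e3 q10377 (flp_g L181992) q10673, e3 q10378 (flp_g L182691) q10753, e3 q10379 (flp_g L182701) q10754, e3 q10380 (flp_g L182711) q10755, e3 q10381 L179481 q9757, e3 q10382 L179489 q9759, e3 q10383 L179497 q9760, e3 q10384 L179507 q9761, e3 q10385 (flp_g L182537) q10739, e3 q10386 L179523 q9766, e3 q10387 L179531 q9767, e3 q10388 (flp_g L182549) q10740, e3 q10389 L179553 q9771, e3 q10390 L184922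 q10986, e3 q10391 L179574 q10027, e3 q10392 L179585 q10028, e3 q10393 L179593 q10029, e3 q10394 L179599 q10030, e3 q10395 L179611 q10031, e3 q10396 (flp_g L179641) q10397, e3 q10397 L179641 q10396, e3 q10398 (flp_g L182580) q10743, e3 q10399 (flp_g L183226) q10802, e3 q10400 (flp_g L184830) q10976, e3 q10401 (flp_g L182609) q10746, e3 q10402 (flp_g L184838) q10977, e3 q10403 (flp_g L184852) q10978, e3 q10404 (flp_g L184864) q10979, e3 q10405 L185082 q11005, e3 q10406 (flp_g L179719) q10408, e3 q10407 L179705 q9765, e3 q10408 L179719 q10406, e3 q10409 (flp_g L185094) q11007, e3 q10410 (flp_g L184886) q10982, e3 q10411 L179741 q9871, e3 q10412 (flp_g L184900) q10983, e3 q10413 L179759 q9769, e3 q10414 (flp_g L182802) q10763, e3 q10415 (flp_g L185170) q11015, e3 q10416 L179785 q9874, e3 q10417 L185200 q11019, e3 q10418 (flp_g L179797) q9772, e3 q10419 L179808 q10045, e3 q10420 L179821 q9777, e3 q10421 L179836 q10043, e3 q10422 L179849 q9782, e3 q10423 (flp_g L182790) q10762, e3 q10424 L179873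 q9870, e3 q10425 L179886 q10000, e3 q10426 L179902 q9844, e3 q10427 L179912 q9791, e3 q10428 L179923 q10055, e3 q10429 L179932 q9798, e3 q10430 L179947 q9799, e3 q10431 L179957 q10058, trivial⟩ (by decide +kernel)

theorem ce_g_163 : ∀ r, r < 64 → sm gg (Qf (10432 + r)) = Qf (tab Gen.g (10432 + r)) :=
  edges_tab (sm gg) Qf (tab Gen.g) 10432 [(10432, 10750), (10433, 11023), (10434, 9801), (10435, 11025), (10436, 10794), (10437, 10180), (10438, 10931), (10439, 10191), (10440, 10812), (10441, 11032), (10442, 11033), (10443, 10723), (10444, 10133), (10445, 10843), (10446, 10738), (10447, 10844), (10448, 10845), (10449, 11042), (10450, 10797), (10451, 10345), (10452, 10798), (10453, 10137), (10454, 10922), (10455, 10819), (10456, 11049), (10457, 9822), (10458, 10790), (10459, 9843), (10460, 9847), (10461, 9848), (10462, 9851), (10463, 10015), (10464, 10017), (10465, 10018), (10466, 10351), (10467, 10065), (10468, 10066), (10469, 10945), (10470, 10069), (10471, 10070), (10472, 10135), (10473,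 10016), (10474, 10356), (10475, 11021), (10476, 11022), (10477, 9846), (10478, 11070), (10479, 11050), (10480, 11051), (10481, 11076), (10482, 9850), (10483, 11077), (10484, 10574), (10485, 11053), (10486, 11081), (10487, 10022), (10488, 10023), (10489, 10024), (10490, 10025), (10491, 10274), (10492, 10272), (10493, 10865), (10494, 10077), (10495, 10078)]
    ⟨e3 q10432 (flp_g L182647) q10750, e3 q10433 (flp_g L185254) q11023, e3 q10434 L179981 q9801, e3 q10435 (flp_g L185271) q11025, e3 q10436 (flp_g L183129) q10794, e3 q10437 L180004 q10180, e3 q10438 (flp_g L184401) q10931, e3 q10439 L180024 q10191, e3 q10440 (flp_g L183311) q10812, e3 q10441 L185327 q11032, e3 q10442 L185335 q11033, e3 q10443 (flp_g L182340) q10723, e3 q10444 L180070 q10133, e3 q10445 (flp_g L183614) q10843, e3 q10446 (flp_g L182521) q10738, e3 q10447 (flp_g L183624) q10844, e3 q10448 (flp_g L183636) q10845, e3 q10449 L185402 q11042, e3 q10450 (flp_g L183171) q10797, e3 q10451 L180122 q10345, e3 q10452 (flp_g L183181)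 q10798, e3 q10453 L180136 q10137, e3 q10454 (flp_g L184301) q10922, e3 q10455 (flp_g L183386) q10819, e3 q10456 L185462 q11049, e3 q10457 (flp_g L180156) q9822, e3 q10458 (flp_g L183077) q10790, e3 q10459 L180181 q9843, e3 q10460 L180187 q9847, e3 q10461 L180193 q9848, e3 q10462 L180205 q9851, e3 q10463 L180218 q10015, e3 q10464 L180228 q10017, e3 q10465 L180236 q10018, e3 q10466 L180253 q10351, e3 q10467 L180268 q10065, e3 q10468 L180277 q10066, e3 q10469 (flp_g L184550) q10945, e3 q10470 L180295 q10069, e3 q10471 L180303 q10070, e3 q10472 L180321 q10135, e3 q10473 L180337 q10016, e3 q10474 L180345 q10356, e3 q10475 (flp_g L185226) q11021, e3 q10476 (flp_g L185242) q11022, e3 q10477 L180367 q9846, e3 q10478 (flp_g L185659) q11070, e3 q10479 (flp_g L185472) q11050, e3 q10480 (flp_g L185480) q11051, e3 q10481 L185683 q11076, e3 q10482 L180391 q9850, e3 q10483 (flp_g L185691) q11077, e3 q10484 (flp_g L181147) q10574, e3 q10485 (flp_g L185496) q11053, e3 q10486 L185721 q11081, e3 q10487 L180430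 q10022, e3 q10488 L180437 q10023, e3 q10489 L180443 q10024, e3 q10490 L180451 q10025, e3 q10491 L180464 q10274, e3 q10492 L180479 q10272, e3 q10493 (flp_g L183847) q10865, e3 q10494 L180493 q10077, e3 q10495 L180501 q10078, trivial⟩ (by decide +kernel)

theorem ce_g_164 : ∀ r, r < 64 → sm gg (Qf (10496 + r)) = Qf (tab Gen.g (10496 + r)) :=
  edges_tab (sm gg) Qf (tab Gen.g) 10496 [(10496, 10868), (10497, 10080), (10498, 10081), (10499, 11097), (10500, 10285), (10501, 9869), (10502, 10283), (10503, 11099), (10504, 11011), (10505, 11013), (10506, 9873), (10507, 11104), (10508, 11106), (10509, 9875), (10510, 10086), (10511, 9879), (10512, 10084), (10513, 11108), (10514, 9909), (10515, 9911), (10516, 9883), (10517, 11113), (10518, 11115), (10519, 9885), (10520, 10521), (10521, 10520), (10522, 10820), (10523, 10035), (10524, 10036), (10525, 10823), (10526, 10038), (10527, 10039), (10528, 11127), (10529, 10531), (10530, 9897), (10531, 10529), (10532, 11129), (10533, 10088), (10534, 10089), (10535,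 10090), (10536, 9901), (10537, 10781), (10538, 11138), (10539, 10094), (10540, 10095), (10541, 11143), (10542, 9904), (10543, 10545), (10544, 9908), (10545, 10543), (10546, 10767), (10547, 11146), (10548, 10967), (10549, 11111), (10550, 10960), (10551, 10968), (10552, 11155), (10553, 9914), (10554, 10769), (10555, 11158), (10556, 10961), (10557, 11160), (10558, 9917), (10559, 10104)]
    ⟨e3 q10496 (flp_g L183878) q10868, e3 q10497 L180515 q10080, e3 q10498 L180525 q10081, e3 q10499 L185867 q11097, e3 q10500 L180543 q10285, e3 q10501 L180553 q9869, e3 q10502 L180565 q10283, e3 q10503 (flp_g L185883) q11099, e3 q10504 (flp_g L185132) q11011, e3 q10505 (flp_g L185156) q11013, e3 q10506 L180587 q9873, e3 q10507 (flp_g L185915) q11104, e3 q10508 L185925 q11106, e3 q10509 (flp_g L180601) q9875, e3 q10510 L180613 q10086, e3 q10511 L180627 q9879, e3 q10512 L180641 q10084, e3 q10513 (flp_g L185945) q11108, e3 q10514 L180657 q9909, e3 q10515 L180665 q9911, e3 q10516 L180675 q9883, e3 q10517 (flp_g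 L185985) q11113, e3 q10518 L185993 q11115, e3 q10519 (flp_g L180687) q9885, e3 q10520 (flp_g L180721) q10521, e3 q10521 L180721 q10520, e3 q10522 (flp_g L183402) q10820, e3 q10523 L180739 q10035, e3 q10524 L180747 q10036, e3 q10525 (flp_g L183436) q10823, e3 q10526 L180761 q10038, e3 q10527 L180769 q10039, e3 q10528 L186099 q11127, e3 q10529 (flp_g L180811) q10531, e3 q10530 L180797 q9897, e3 q10531 L180811 q10529, e3 q10532 (flp_g L186119) q11129, e3 q10533 L180827 q10088, e3 q10534 L180833 q10089, e3 q10535 L180843 q10090, e3 q10536 L180855 q9901, e3 q10537 (flp_g L182978) q10781, e3 q10538 (flp_g L186201) q11138, e3 q10539 L180871 q10094, e3 q10540 L180879 q10095, e3 q10541 L186225 q11143, e3 q10542 (flp_g L180887) q9904, e3 q10543 (flp_g L180909) q10545, e3 q10544 L180899 q9908, e3 q10545 L180909 q10543, e3 q10546 (flp_g L182842) q10767, e3 q10547 (flp_g L186251) q11146, e3 q10548 (flp_g L184754) q10967, e3 q10549 (flp_g L185971) q11111, e3 q10550 (flp_g L184680) q10960, e3 q10551 (flp_g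 L184768) q10968, e3 q10552 L186307 q11155, e3 q10553 L180957 q9914, e3 q10554 (flp_g L182868) q10769, e3 q10555 L186319 q11158, e3 q10556 (flp_g L184692) q10961, e3 q10557 L186327 q11160, e3 q10558 (flp_g L180975) q9917, e3 q10559 L180983 q10104, trivial⟩ (by decide +kernel)

theorem ce_g_165 : ∀ r, r < 64 → sm gg (Qf (10560 + r)) = Qf (tab Gen.g (10560 + r)) :=
  edges_tab (sm gg) Qf (tab Gen.g) 10560 [(10560, 9922), (10561, 10102), (10562, 10189), (10563, 9931), (10564, 10210), (10565, 10946), (10566, 10026), (10567, 10751), (10568, 10057), (10569, 10785), (10570, 10042), (10571, 9956), (10572, 10073), (10573, 10122), (10574, 10484), (10575, 11163), (10576, 10578), (10577, 9960), (10578, 10576), (10579, 11168), (10580, 10047), (10581, 10048), (10582, 9964), (10583, 10788), (10584, 10052), (10585, 10331), (10586, 9969), (10587, 10787), (10588, 10107), (10589, 10108), (10590, 10109), (10591, 10110), (10592, 10115), (10593, 10004), (10594, 10129), (10595, 10604), (10596, 10605), (10597, 10316),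 (10598, 10006), (10599, 10138), (10600, 10019), (10601, 10359), (10602, 10651), (10603, 10653), (10604, 10595), (10605, 10596), (10606, 10655), (10607, 10608), (10608, 10607), (10609, 11179), (10610, 10308), (10611, 10012), (10612, 10939), (10613, 10940), (10614, 11054), (10615, 11065), (10616, 11055), (10617, 11056), (10618, 11180), (10619, 10913), (10620, 10958), (10621, 10959), (10622, 11082), (10623, 11083)]
    ⟨e3 q10560 L180996 q9922, e3 q10561 L181012 q10102, e3 q10562 L181026 q10189, e3 q10563 L181040 q9931, e3 q10564 L181054 q10210, e3 q10565 (flp_g L184558) q10946, e3 q10566 L181070 q10026, e3 q10567 (flp_g L182660) q10751, e3 q10568 L181088 q10057, e3 q10569 (flp_g L183012) q10785, e3 q10570 L181109 q10042, e3 q10571 L181121 q9956, e3 q10572 L181127 q10073, e3 q10573 L181136 q10122, e3 q10574 L181147 q10484, e3 q10575 (flp_g L186359) q11163, e3 q10576 (flp_g L181185) q10578, e3 q10577 L181172 q9960, e3 q10578 L181185 q10576, e3 q10579 (flp_g L186413) q11168, e3 q10580 L181205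 q10047, e3 q10581 L181214 q10048, e3 q10582 L181225 q9964, e3 q10583 (flp_g L183049) q10788, e3 q10584 L181241 q10052, e3 q10585 L181251 q10331, e3 q10586 L181262 q9969, e3 q10587 (flp_g L183035) q10787, e3 q10588 L181282 q10107, e3 q10589 L181291 q10108, e3 q10590 L181302 q10109, e3 q10591 L181312 q10110, e3 q10592 L181322 q10115, e3 q10593 L181330 q10004, e3 q10594 L181336 q10129, e3 q10595 (flp_g L181442) q10604, e3 q10596 (flp_g L181452) q10605, e3 q10597 L181366 q10316, e3 q10598 L181376 q10006, e3 q10599 L181390 q10138, e3 q10600 L181403 q10019, e3 q10601 L181414 q10359, e3 q10602 (flp_g L181813) q10651, e3 q10603 (flp_g L181833) q10653, e3 q10604 L181442 q10595, e3 q10605 L181452 q10596, e3 q10606 (flp_g L181854) q10655, e3 q10607 (flp_g L181481) q10608, e3 q10608 L181481 q10607, e3 q10609 (flp_g L186528) q11179, e3 q10610 L181496 q10308, e3 q10611 L181508 q10012, e3 q10612 (flp_g L184494) q10939, e3 q10613 (flp_g L184504) q10940, e3 q10614 (flp_g L185509) q11054, e3 q10615 (flp_g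 L185625) q11065, e3 q10616 (flp_g L185515) q11055, e3 q10617 (flp_g L185525) q11056, e3 q10618 (flp_g L186540) q11180, e3 q10619 (flp_g L184207) q10913, e3 q10620 (flp_g L184660) q10958, e3 q10621 (flp_g L184672) q10959, e3 q10622 (flp_g L185738) q11082, e3 q10623 (flp_g L185746) q11083, trivial⟩ (by decide +kernel)

theorem ce_g_166 : ∀ r, r < 64 → sm gg (Qf (10624 + r)) = Qf (tab Gen.g (10624 + r)) :=
  edges_tab (sm gg) Qf (tab Gen.g) 10624 [(10624, 11084), (10625, 11085), (10626, 11207), (10627, 11162), (10628, 10987), (10629, 10988), (10630, 10989), (10631, 10990), (10632, 10991), (10633, 11216), (10634, 10799), (10635, 10821), (10636, 10822), (10637, 11119), (10638, 11120), (10639, 11121), (10640, 10824), (10641, 10825), (10642, 11124), (10643, 11125), (10644, 11231), (10645, 10040), (10646, 10863), (10647, 10046), (10648, 11020), (10649, 10934), (10650, 11170), (10651, 10602), (10652, 11171), (10653, 10603), (10654, 10907), (10655, 10606), (10656, 10841), (10657, 10920), (10658, 10842),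 (10659, 10897), (10660, 10911), (10661, 10352), (10662, 11058), (10663, 11059), (10664, 10068), (10665, 11247), (10666, 11061), (10667, 11062), (10668, 11253), (10669, 10072), (10670, 11254), (10671, 10717), (10672, 11164), (10673, 10377), (10674, 10866), (10675, 10867), (10676, 11090), (10677, 11091), (10678, 11092), (10679, 10869), (10680, 10870), (10681, 11095), (10682, 11269), (10683, 10082), (10684, 11109), (10685, 10087), (10686, 11107), (10687, 11272)]
    ⟨e3 q10624 (flp_g L185754) q11084, e3 q10625 (flp_g L185764) q11085, e3 q10626 L186754 q11207, e3 q10627 (flp_g L186344) q11162, e3 q10628 (flp_g L184939) q10987, e3 q10629 (flp_g L184949) q10988, e3 q10630 (flp_g L184957) q10989, e3 q10631 (flp_g L184969) q10990, e3 q10632 (flp_g L184979) q10991, e3 q10633 L186805 q11216, e3 q10634 (flp_g L183197) q10799, e3 q10635 (flp_g L183414) q10821, e3 q10636 (flp_g L183424) q10822, e3 q10637 (flp_g L186043) q11119, e3 q10638 (flp_g L186051) q11120, e3 q10639 (flp_g L186061) q11121, e3 q10640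 (flp_g L183444) q10824, e3 q10641 (flp_g L183458) q10825, e3 q10642 (flp_g L186083) q11124, e3 q10643 (flp_g L186091) q11125, e3 q10644 L186913 q11231, e3 q10645 (flp_g L181752) q10040, e3 q10646 (flp_g L183810) q10863, e3 q10647 L181773 q10046, e3 q10648 (flp_g L185211) q11020, e3 q10649 (flp_g L184439) q10934, e3 q10650 (flp_g L186435) q11170, e3 q10651 L181813 q10602, e3 q10652 (flp_g L186442) q11171, e3 q10653 L181833 q10603, e3 q10654 (flp_g L184150) q10907, e3 q10655 L181854 q10606, e3 q10656 (flp_g L183584) q10841, e3 q10657 (flp_g L184276) q10920, e3 q10658 (flp_g L183601) q10842, e3 q10659 (flp_g L184082) q10897, e3 q10660 (flp_g L184188) q10911, e3 q10661 L181896 q10352, e3 q10662 (flp_g L185553) q11058, e3 q10663 (flp_g L185561) q11059, e3 q10664 L181917 q10068, e3 q10665 (flp_g L187048) q11247, e3 q10666 (flp_g L185575) q11061, e3 q10667 (flp_g L185585) q11062, e3 q10668 L187088 q11253, e3 q10669 L181953 q10072, e3 q10670 (flp_g L187098) q11254, e3 q10671 (flp_g L182275) q10717,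 e3 q10672 (flp_g L186366) q11164, e3 q10673 L181992 q10377, e3 q10674 (flp_g L183858) q10866, e3 q10675 (flp_g L183866) q10867, e3 q10676 (flp_g L185816) q11090, e3 q10677 (flp_g L185824) q11091, e3 q10678 (flp_g L185833) q11092, e3 q10679 (flp_g L183886) q10869, e3 q10680 (flp_g L183896) q10870, e3 q10681 (flp_g L185855) q11095, e3 q10682 L187204 q11269, e3 q10683 (flp_g L182046) q10082, e3 q10684 (flp_g L185957) q11109, e3 q10685 L182056 q10087, e3 q10686 (flp_g L185935) q11107, e3 q10687 (flp_g L187226) q11272, trivial⟩ (by decide +kernel)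

theorem ce_g_167 : ∀ r, r < 64 → sm gg (Qf (10688 + r)) = Qf (tab Gen.g (10688 + r)) :=
  edges_tab (sm gg) Qf (tab Gen.g) 10688 [(10688, 11273), (10689, 11133), (10690, 11134), (10691, 11135), (10692, 11136), (10693, 11286), (10694, 10092), (10695, 10093), (10696, 10779), (10697, 11287), (10698, 11292), (10699, 10857), (10700, 11141), (10701, 11295), (10702, 10096), (10703, 10927), (10704, 10965), (10705, 10105), (10706, 11161), (10707, 10719), (10708, 10709), (10709, 10708), (10710, 10809), (10711, 11173), (10712, 10904), (10713, 11174), (10714, 11175), (10715, 10908), (10716, 10200), (10717, 10671), (10718, 11165), (10719, 10707), (10720, 10730), (10721, 10810), (10722, 10905), (10723, 10443), (10724, 10276), (10725, 11035), (10726, 10238), (10727, 11064), (10728, 10287), (10729, 11046), (10730, 10720), (10731, 10310), (10732, 10361), (10733, 10149), (10734, 10152), (10735, 10154), (10736, 10155), (10737, 10157), (10738, 10446), (10739, 10385), (10740, 10388), (10741, 11320), (10742,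 11321), (10743, 10398), (10744, 10213), (10745, 11322), (10746, 10401), (10747, 11323), (10748, 11324), (10749, 11341), (10750, 10432), (10751, 10567)]
    ⟨e3 q10688 (flp_g L187234) q11273, e3 q10689 (flp_g L186153) q11133, e3 q10690 (flp_g L186163) q11134, e3 q10691 (flp_g L186175) q11135, e3 q10692 (flp_g L186185) q11136, e3 q10693 L187312 q11286, e3 q10694 L182110 q10092, e3 q10695 L182116 q10093, e3 q10696 (flp_g L182960) q10779, e3 q10697 (flp_g L187322) q11287, e3 q10698 L187340 q11292, e3 q10699 (flp_g L183766) q10857, e3 q10700 (flp_g L186219) q11141, e3 q10701 L187352 q11295, e3 q10702 (flp_g L182144) q10096, e3 q10703 (flp_g L184365) q10927, e3 q10704 (flp_g L184736) q10965, e3 q10705 L182162 q10105, e3 q10706 (flp_g L186333) q11161, e3 q10707 (flp_g L182294) q10719, e3 q10708 (flp_g L182204) q10709, e3 q10709 L182204 q10708, e3 q10710 (flp_g L183274) q10809, e3 q10711 (flp_g L186464) q11173, e3 q10712 (flp_g L184124) q10904, e3 q10713 (flp_g L186475) q11174, e3 q10714 (flp_g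 L186485) q11175, e3 q10715 (flp_g L184162) q10908, e3 q10716 L182263 q10200, e3 q10717 L182275 q10671, e3 q10718 (flp_g L186377) q11165, e3 q10719 L182294 q10707, e3 q10720 (flp_g L182419) q10730, e3 q10721 (flp_g L183285) q10810, e3 q10722 (flp_g L184133) q10905, e3 q10723 L182340 q10443, e3 q10724 L182355 q10276, e3 q10725 (flp_g L185361) q11035, e3 q10726 L182378 q10238, e3 q10727 (flp_g L185609) q11064, e3 q10728 L182400 q10287, e3 q10729 (flp_g L185442) q11046, e3 q10730 L182419 q10720, e3 q10731 L182430 q10310, e3 q10732 L182443 q10361, e3 q10733 L182457 q10149, e3 q10734 L182472 q10152, e3 q10735 L182484 q10154, e3 q10736 L182494 q10155, e3 q10737 L182506 q10157, e3 q10738 L182521 q10446, e3 q10739 L182537 q10385, e3 q10740 L182549 q10388, e3 q10741 (flp_g L187634) q11320, e3 q10742 (flp_g L187648) q11321, e3 q10743 L182580 q10398, e3 q10744 L182591 q10213, e3 q10745 (flp_g L187662) q11322, e3 q10746 L182609 q10401, e3 q10747 (flp_g L187674) q11323, e3 q10748 (flp_g L187688) q11324,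 e3 q10749 L187869 q11341, e3 q10750 L182647 q10432, e3 q10751 L182660 q10567, trivial⟩ (by decide +kernel)

theorem ce_g_168 : ∀ r, r < 64 → sm gg (Qf (10752 + r)) = Qf (tab Gen.g (10752 + r)) :=
  edges_tab (sm gg) Qf (tab Gen.g) 10752 [(10752, 10336), (10753, 10378), (10754, 10379), (10755, 10380), (10756, 10169), (10757, 10174), (10758, 10175), (10759, 10183), (10760, 10184), (10761, 11351), (10762, 10423), (10763, 10414), (10764, 11296), (10765, 11346), (10766, 10371), (10767, 10546), (10768, 10374), (10769, 10554), (10770, 11347), (10771, 11362), (10772, 10178), (10773, 10964), (10774, 11363), (10775, 10216), (10776, 11028), (10777, 11029), (10778, 10182), (10779, 10696), (10780, 11371), (10781, 10537), (10782, 11349), (10783, 11377), (10784, 10185), (10785, 10569), (10786, 10220), (10787, 10587), (10788, 10583), (10789, 10196), (10790, 10458), (10791, 10245), (10792, 10291), (10793, 10309), (10794, 10436), (10795, 10211), (10796, 10217), (10797, 10450), (10798, 10452), (10799, 10634),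 (10800, 11144), (10801, 11382), (10802, 10399), (10803, 11333), (10804, 10215), (10805, 11392), (10806, 11366), (10807, 11367), (10808, 11398), (10809, 10710), (10810, 10721), (10811, 11172), (10812, 10440), (10813, 10233), (10814, 10239), (10815, 10242)]
    ⟨e3 q10752 L182677 q10336, e3 q10753 L182691 q10378, e3 q10754 L182701 q10379, e3 q10755 L182711 q10380, e3 q10756 L182726 q10169, e3 q10757 L182736 q10174, e3 q10758 L182746 q10175, e3 q10759 L182756 q10183, e3 q10760 L182768 q10184, e3 q10761 L187979 q11351, e3 q10762 L182790 q10423, e3 q10763 L182802 q10414, e3 q10764 (flp_g L187366) q11296, e3 q10765 (flp_g L187933) q11346, e3 q10766 L182834 q10371, e3 q10767 L182842 q10546, e3 q10768 L182856 q10374, e3 q10769 L182868 q10554, e3 q10770 (flp_g L187947) q11347, e3 q10771 L188103 q11362, e3 q10772 L182894 q10178, e3 q10773 (flp_g L184720) q10964, e3 q10774 (flp_g L188117) q11363, e3 q10775 L182922 q10216, e3 q10776 (flp_g L185289) q11028, e3 q10777 (flp_g L185301) q11029, e3 q10778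 L182948 q10182, e3 q10779 L182960 q10696, e3 q10780 (flp_g L188193) q11371, e3 q10781 L182978 q10537, e3 q10782 (flp_g L187965) q11349, e3 q10783 L188249 q11377, e3 q10784 (flp_g L182996) q10185, e3 q10785 L183012 q10569, e3 q10786 L183026 q10220, e3 q10787 L183035 q10587, e3 q10788 L183049 q10583, e3 q10789 L183062 q10196, e3 q10790 L183077 q10458, e3 q10791 L183092 q10245, e3 q10792 L183107 q10291, e3 q10793 L183121 q10309, e3 q10794 L183129 q10436, e3 q10795 L183143 q10211, e3 q10796 L183155 q10217, e3 q10797 L183171 q10450, e3 q10798 L183181 q10452, e3 q10799 L183197 q10634, e3 q10800 (flp_g L186237) q11144, e3 q10801 (flp_g L188315) q11382, e3 q10802 L183226 q10399, e3 q10803 (flp_g L187792) q11333, e3 q10804 L183242 q10215, e3 q10805 (flp_g L188414) q11392, e3 q10806 (flp_g L188143) q11366, e3 q10807 (flp_g L188153) q11367, e3 q10808 L188462 q11398, e3 q10809 L183274 q10710, e3 q10810 L183285 q10721, e3 q10811 (flp_g L186453) q11172, e3 q10812 L183311 q10440, e3 q10813 L183325 q10233,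 e3 q10814 L183337 q10239, e3 q10815 L183345 q10242, trivial⟩ (by decide +kernel)

theorem ce_g_169 : ∀ r, r < 64 → sm gg (Qf (10816 + r)) = Qf (tab Gen.g (10816 + r)) :=
  edges_tab (sm gg) Qf (tab Gen.g) 10816 [(10816, 10243), (10817, 11408), (10818, 10246), (10819, 10455), (10820, 10522), (10821, 10635), (10822, 10636), (10823, 10525), (10824, 10640), (10825, 10641), (10826, 11417), (10827, 10829), (10828, 10237), (10829, 10827), (10830, 11419), (10831, 11311), (10832, 11403), (10833, 11404), (10834, 10241), (10835, 11379), (10836, 11428), (10837, 11405), (10838, 11406), (10839, 11435), (10840, 10244), (10841, 10656), (10842, 10658), (10843, 10445), (10844, 10447), (10845, 10448), (10846, 11440), (10847, 10271), (10848, 10277), (10849, 10280), (10850, 10281), (10851, 11447), (10852, 10256), (10853, 11448), (10854, 10288), (10855, 10289), (10856, 10259), (10857, 10699), (10858, 11454), (10859, 10293), (10860, 10294), (10861, 11461), (10862, 10262), (10863, 10646), (10864, 10298), (10865,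 10493), (10866, 10674), (10867, 10675), (10868, 10496), (10869, 10679), (10870, 10680), (10871, 11469), (10872, 11088), (10873, 10275), (10874, 11087), (10875, 11471), (10876, 11308), (10877, 11442), (10878, 11443), (10879, 10279)]
    ⟨e3 q10816 L183355 q10243, e3 q10817 L188571 q11408, e3 q10818 L183373 q10246, e3 q10819 L183386 q10455, e3 q10820 L183402 q10522, e3 q10821 L183414 q10635, e3 q10822 L183424 q10636, e3 q10823 L183436 q10525, e3 q10824 L183444 q10640, e3 q10825 L183458 q10641, e3 q10826 L188671 q11417, e3 q10827 (flp_g L183497) q10829, e3 q10828 L183486 q10237, e3 q10829 L183497 q10827, e3 q10830 (flp_g L188691) q11419, e3 q10831 (flp_g L187531) q11311, e3 q10832 (flp_g L188524) q11403, e3 q10833 (flp_g L188533) q11404, e3 q10834 L183530 q10241, e3 q10835 (flp_g L188275) q11379, e3 q10836 (flp_g L188754) q11428, e3 q10837 (flp_g L188543) q11405, e3 q10838 (flp_g L188555) q11406, e3 q10839 L188820 q11435, e3 q10840 (flp_g L183570) q10244, e3 q10841 L183584 q10656, e3 q10842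 L183601 q10658, e3 q10843 L183614 q10445, e3 q10844 L183624 q10447, e3 q10845 L183636 q10448, e3 q10846 L188871 q11440, e3 q10847 L183656 q10271, e3 q10848 L183672 q10277, e3 q10849 L183682 q10280, e3 q10850 L183694 q10281, e3 q10851 L188956 q11447, e3 q10852 L183720 q10256, e3 q10853 (flp_g L188976) q11448, e3 q10854 L183734 q10288, e3 q10855 L183742 q10289, e3 q10856 L183754 q10259, e3 q10857 L183766 q10699, e3 q10858 (flp_g L189030) q11454, e3 q10859 L183786 q10293, e3 q10860 L183792 q10294, e3 q10861 L189100 q11461, e3 q10862 (flp_g L183800) q10262, e3 q10863 L183810 q10646, e3 q10864 L183830 q10298, e3 q10865 L183847 q10493, e3 q10866 L183858 q10674, e3 q10867 L183866 q10675, e3 q10868 L183878 q10496, e3 q10869 L183886 q10679, e3 q10870 L183896 q10680, e3 q10871 L189177 q11469, e3 q10872 (flp_g L185800) q11088, e3 q10873 L183928 q10275, e3 q10874 (flp_g L185785) q11087, e3 q10875 (flp_g L189201) q11471, e3 q10876 (flp_g L187502) q11308, e3 q10877 (flp_g L188901) q11442, e3 q10878 (flp_g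 L188912) q11443, e3 q10879 L183976 q10279, trivial⟩ (by decide +kernel)

theorem ce_g_170 : ∀ r, r < 64 → sm gg (Qf (10880 + r)) = Qf (tab Gen.g (10880 + r)) :=
  edges_tab (sm gg) Qf (tab Gen.g) 10880 [(10880, 11480), (10881, 11481), (10882, 11444), (10883, 11445), (10884, 11486), (10885, 10282), (10886, 11100), (10887, 10286), (10888, 11098), (10889, 11380), (10890, 11488), (10891, 11313), (10892, 11314), (10893, 11451), (10894, 11452), (10895, 11501), (10896, 10292), (10897, 10659), (10898, 11360), (10899, 11505), (10900, 11458), (10901, 11459), (10902, 11508), (10903, 10295), (10904, 10712), (10905, 10722), (10906, 10312), (10907, 10654), (10908, 10715), (10909, 10315), (10910, 11187), (10911, 10660), (10912, 11318), (10913, 10619), (10914, 11511), (10915, 10953), (10916, 10948), (10917, 11178), (10918, 10328), (10919, 10326), (10920, 10657), (10921, 11167), (10922, 10454), (10923, 11520), (10924, 10337), (10925, 10338), (10926, 11523), (10927, 10703), (10928, 11342), (10929, 11521),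 (10930, 11527), (10931, 10438), (10932, 11529), (10933, 10341), (10934, 10649), (10935, 11044), (10936, 10353), (10937, 10357), (10938, 10358), (10939, 10612), (10940, 10613), (10941, 11057), (10942, 11243), (10943, 11532)]
    ⟨e3 q10880 (flp_g L189264) q11480, e3 q10881 (flp_g L189278) q11481, e3 q10882 (flp_g L188924) q11444, e3 q10883 (flp_g L188938) q11445, e3 q10884 L189310 q11486, e3 q10885 (flp_g L184010) q10282, e3 q10886 (flp_g L185893) q11100, e3 q10887 L184022 q10286, e3 q10888 (flp_g L185877) q11098, e3 q10889 (flp_g L188291) q11380, e3 q10890 (flp_g L189324) q11488, e3 q10891 (flp_g L187553) q11313, e3 q10892 (flp_g L187563) q11314, e3 q10893 (flp_g L189006) q11451, e3 q10894 (flp_g L189014) q11452, e3 q10895 L189406 q11501, e3 q10896 L184072 q10292, e3 q10897 L184082 q10659, e3 q10898 (flp_g L188089) q11360, e3 q10899 L189430 q11505, e3 q10900 (flp_g L189080) q11458, e3 q10901 (flp_g L189090) q11459, e3 q10902 L189448 q11508, e3 q10903 (flp_g L184114) q10295, e3 q10904 L184124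 q10712, e3 q10905 L184133 q10722, e3 q10906 L184139 q10312, e3 q10907 L184150 q10654, e3 q10908 L184162 q10715, e3 q10909 L184172 q10315, e3 q10910 (flp_g L186604) q11187, e3 q10911 L184188 q10660, e3 q10912 (flp_g L187608) q11318, e3 q10913 L184207 q10619, e3 q10914 (flp_g L189480) q11511, e3 q10915 (flp_g L184609) q10953, e3 q10916 (flp_g L184572) q10948, e3 q10917 (flp_g L186515) q11178, e3 q10918 L184244 q10328, e3 q10919 L184261 q10326, e3 q10920 L184276 q10657, e3 q10921 (flp_g L186401) q11167, e3 q10922 L184301 q10454, e3 q10923 L189567 q11520, e3 q10924 L184325 q10337, e3 q10925 L184339 q10338, e3 q10926 L189607 q11523, e3 q10927 L184365 q10703, e3 q10928 (flp_g L187887) q11342, e3 q10929 (flp_g L189589) q11521, e3 q10930 L189653 q11527, e3 q10931 L184401 q10438, e3 q10932 L189673 q11529, e3 q10933 (flp_g L184419) q10341, e3 q10934 L184439 q10649, e3 q10935 (flp_g L185426) q11044, e3 q10936 L184459 q10353, e3 q10937 L184467 q10357, e3 q10938 L184479 q10358, e3 q10939 L184494 q10612,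 e3 q10940 L184504 q10613, e3 q10941 (flp_g L185538) q11057, e3 q10942 (flp_g L187023) q11243, e3 q10943 (flp_g L189712) q11532, trivial⟩ (by decide +kernel)

theorem ce_g_171 : ∀ r, r < 64 → sm gg (Qf (10944 + r)) = Qf (tab Gen.g (10944 + r)) :=
  edges_tab (sm gg) Qf (tab Gen.g) 10944 [(10944, 11533), (10945, 10469), (10946, 10565), (10947, 11066), (10948, 10916), (10949, 11534), (10950, 11551), (10951, 11181), (10952, 11166), (10953, 10915), (10954, 11319), (10955, 10367), (10956, 10368), (10957, 11558), (10958, 10620), (10959, 10621), (10960, 10550), (10961, 10556), (10962, 11556), (10963, 11564), (10964, 10773), (10965, 10704), (10966, 11356), (10967, 10548), (10968, 10551), (10969, 11358), (10970, 11571), (10971, 10376), (10972, 11258), (10973, 11343), (10974, 11344), (10975, 11576), (10976, 10400), (10977, 10402), (10978, 10403), (10979, 10404), (10980, 11583), (10981, 11328), (10982, 10410), (10983, 10412), (10984, 11329), (10985, 11588), (10986, 10390), (10987, 10628), (10988, 10629),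 (10989, 10630), (10990, 10631), (10991, 10632), (10992, 11595), (10993, 10994), (10994, 10993), (10995, 11332), (10996, 11389), (10997, 11577), (10998, 11578), (10999, 11336), (11000, 11337), (11001, 11579), (11002, 11607), (11003, 11581), (11004, 11610), (11005, 10405), (11006, 11008), (11007, 10409)]
    ⟨e3 q10944 (flp_g L189725) q11533, e3 q10945 L184550 q10469, e3 q10946 L184558 q10565, e3 q10947 (flp_g L185633) q11066, e3 q10948 L184572 q10916, e3 q10949 (flp_g L189735) q11534, e3 q10950 L189873 q11551, e3 q10951 (flp_g L186551) q11181, e3 q10952 (flp_g L186389) q11166, e3 q10953 L184609 q10915, e3 q10954 (flp_g L187622) q11319, e3 q10955 L184626 q10367, e3 q10956 L184640 q10368, e3 q10957 L189939 q11558, e3 q10958 L184660 q10620, e3 q10959 L184672 q10621, e3 q10960 L184680 q10550, e3 q10961 L184692 q10556, e3 q10962 (flp_g L189925) q11556, e3 q10963 L189995 q11564, e3 q10964 L184720 q10773, e3 q10965 L184736 q10704, e3 q10966 (flp_g L188043) q11356, e3 q10967 L184754 q10548, e3 q10968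 L184768 q10551, e3 q10969 (flp_g L188069) q11358, e3 q10970 L190065 q11571, e3 q10971 (flp_g L184790) q10376, e3 q10972 (flp_g L187140) q11258, e3 q10973 (flp_g L187899) q11343, e3 q10974 (flp_g L187913) q11344, e3 q10975 L190108 q11576, e3 q10976 L184830 q10400, e3 q10977 L184838 q10402, e3 q10978 L184852 q10403, e3 q10979 L184864 q10404, e3 q10980 L190175 q11583, e3 q10981 (flp_g L187736) q11328, e3 q10982 L184886 q10410, e3 q10983 L184900 q10412, e3 q10984 (flp_g L187752) q11329, e3 q10985 L190221 q11588, e3 q10986 (flp_g L184922) q10390, e3 q10987 L184939 q10628, e3 q10988 L184949 q10629, e3 q10989 L184957 q10630, e3 q10990 L184969 q10631, e3 q10991 L184979 q10632, e3 q10992 L190292 q11595, e3 q10993 (flp_g L185015) q10994, e3 q10994 L185015 q10993, e3 q10995 (flp_g L187782) q11332, e3 q10996 (flp_g L188393) q11389, e3 q10997 (flp_g L190120) q11577, e3 q10998 (flp_g L190133) q11578, e3 q10999 (flp_g L187817) q11336, e3 q11000 (flp_g L187831) q11337, e3 q11001 (flp_g L190145) q11579,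 e3 q11002 L190394 q11607, e3 q11003 (flp_g L190165) q11581, e3 q11004 L190408 q11610, e3 q11005 (flp_g L185082) q10405, e3 q11006 (flp_g L185106) q11008, e3 q11007 L185094 q10409, trivial⟩ (by decide +kernel)

theorem ce_g_172 : ∀ r, r < 64 → sm gg (Qf (11008 + r)) = Qf (tab Gen.g (11008 + r)) :=
  edges_tab (sm gg) Qf (tab Gen.g) 11008 [(11008, 11006), (11009, 11352), (11010, 11612), (11011, 10504), (11012, 11585), (11013, 10505), (11014, 11620), (11015, 10415), (11016, 11353), (11017, 11623), (11018, 11624), (11019, 10417), (11020, 10648), (11021, 10475), (11022, 10476), (11023, 10433), (11024, 11626), (11025, 10435), (11026, 11628), (11027, 11381), (11028, 10776), (11029, 10777), (11030, 11632), (11031, 11633), (11032, 10441), (11033, 10442), (11034, 11307), (11035, 10725), (11036, 11436), (11037, 11437), (11038, 11326), (11039, 11327), (11040, 11438), (11041, 11643), (11042, 10449), (11043, 11384), (11044, 10935), (11045, 11385), (11046, 10729), (11047, 11648), (11048, 11649), (11049,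 10456), (11050, 10479), (11051, 10480), (11052, 11653), (11053, 10485), (11054, 10614), (11055, 10616), (11056, 10617), (11057, 10941), (11058, 10662), (11059, 10663), (11060, 11544), (11061, 10666), (11062, 10667), (11063, 11666), (11064, 10727), (11065, 10615), (11066, 10947), (11067, 11625), (11068, 11237), (11069, 11618), (11070, 10478), (11071, 11676)]
    ⟨e3 q11008 L185106 q11006, e3 q11009 (flp_g L187995) q11352, e3 q11010 (flp_g L190422) q11612, e3 q11011 L185132 q10504, e3 q11012 (flp_g L190197) q11585, e3 q11013 L185156 q10505, e3 q11014 L190500 q11620, e3 q11015 L185170 q10415, e3 q11016 (flp_g L188011) q11353, e3 q11017 L190522 q11623, e3 q11018 L190528 q11624, e3 q11019 (flp_g L185200) q10417, e3 q11020 L185211 q10648, e3 q11021 L185226 q10475, e3 q11022 L185242 q10476, e3 q11023 L185254 q10433, e3 q11024 (flp_g L190562) q11626, e3 q11025 L185271 q10435, e3 q11026 (flp_g L190581) q11628, e3 q11027 (flp_g L188301) q11381, e3 q11028 L185289 q10776, e3 q11029 L185301 q10777, e3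 q11030 L190618 q11632, e3 q11031 L190628 q11633, e3 q11032 (flp_g L185327) q10441, e3 q11033 (flp_g L185335) q10442, e3 q11034 (flp_g L187488) q11307, e3 q11035 L185361 q10725, e3 q11036 (flp_g L188830) q11436, e3 q11037 (flp_g L188843) q11437, e3 q11038 (flp_g L187708) q11326, e3 q11039 (flp_g L187722) q11327, e3 q11040 (flp_g L188855) q11438, e3 q11041 L190712 q11643, e3 q11042 (flp_g L185402) q10449, e3 q11043 (flp_g L188335) q11384, e3 q11044 L185426 q10935, e3 q11045 (flp_g L188347) q11385, e3 q11046 L185442 q10729, e3 q11047 L190756 q11648, e3 q11048 L190762 q11649, e3 q11049 (flp_g L185462) q10456, e3 q11050 L185472 q10479, e3 q11051 L185480 q10480, e3 q11052 L190794 q11653, e3 q11053 L185496 q10485, e3 q11054 L185509 q10614, e3 q11055 L185515 q10616, e3 q11056 L185525 q10617, e3 q11057 L185538 q10941, e3 q11058 L185553 q10662, e3 q11059 L185561 q10663, e3 q11060 (flp_g L189823) q11544, e3 q11061 L185575 q10666, e3 q11062 L185585 q10667, e3 q11063 L190921 q11666, e3 q11064 L185609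 q10727, e3 q11065 L185625 q10615, e3 q11066 L185633 q10947, e3 q11067 (flp_g L190550) q11625, e3 q11068 (flp_g L186975) q11237, e3 q11069 (flp_g L190484) q11618, e3 q11070 L185659 q10478, e3 q11071 (flp_g L191009) q11676, trivial⟩ (by decide +kernel)

theorem ce_g_173 : ∀ r, r < 64 → sm gg (Qf (11072 + r)) = Qf (tab Gen.g (11072 + r)) :=
  edges_tab (sm gg) Qf (tab Gen.g) 11072 [(11072, 11677), (11073, 11650), (11074, 11651), (11075, 11684), (11076, 10481), (11077, 10483), (11078, 11079), (11079, 11078), (11080, 11654), (11081, 10486), (11082, 10622), (11083, 10623), (11084, 10624), (11085, 10625), (11086, 11693), (11087, 10874), (11088, 10872), (11089, 11462), (11090, 10676), (11091, 10677), (11092, 10678), (11093, 11338), (11094, 11466), (11095, 10681), (11096, 11705), (11097, 10499), (11098, 10888), (11099, 10503), (11100, 10886), (11101, 11708), (11102, 11616), (11103, 11712), (11104, 10507), (11105, 11714), (11106, 10508), (11107, 10686), (11108, 10513), (11109, 10684), (11110, 11717),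 (11111, 10549), (11112, 11721), (11113, 10517), (11114, 11723), (11115, 10518), (11116, 11117), (11117, 11116), (11118, 11410), (11119, 10637), (11120, 10638), (11121, 10639), (11122, 11374), (11123, 11414), (11124, 10642), (11125, 10643), (11126, 11737), (11127, 10528), (11128, 11130), (11129, 10532), (11130, 11128), (11131, 11368), (11132, 11740), (11133, 10689), (11134, 10690), (11135, 10691)]
    ⟨e3 q11072 (flp_g L191019) q11677, e3 q11073 (flp_g L190774) q11650, e3 q11074 (flp_g L190784) q11651, e3 q11075 L191049 q11684, e3 q11076 (flp_g L185683) q10481, e3 q11077 L185691 q10483, e3 q11078 (flp_g L185711) q11079, e3 q11079 L185711 q11078, e3 q11080 (flp_g L190810) q11654, e3 q11081 (flp_g L185721) q10486, e3 q11082 L185738 q10622, e3 q11083 L185746 q10623, e3 q11084 L185754 q10624, e3 q11085 L185764 q10625, e3 q11086 L191132 q11693, e3 q11087 L185785 q10874, e3 q11088 L185800 q10872, e3 q11089 (flp_g L189114) q11462, e3 q11090 L185816 q10676, e3 q11091 L185824 q10677, e3 q11092 L185833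 q10678, e3 q11093 (flp_g L187843) q11338, e3 q11094 (flp_g L189153) q11466, e3 q11095 L185855 q10681, e3 q11096 L191230 q11705, e3 q11097 (flp_g L185867) q10499, e3 q11098 L185877 q10888, e3 q11099 L185883 q10503, e3 q11100 L185893 q10886, e3 q11101 (flp_g L191258) q11708, e3 q11102 (flp_g L190466) q11616, e3 q11103 L191288 q11712, e3 q11104 L185915 q10507, e3 q11105 L191296 q11714, e3 q11106 (flp_g L185925) q10508, e3 q11107 L185935 q10686, e3 q11108 L185945 q10513, e3 q11109 L185957 q10684, e3 q11110 (flp_g L191324) q11717, e3 q11111 L185971 q10549, e3 q11112 L191356 q11721, e3 q11113 L185985 q10517, e3 q11114 L191370 q11723, e3 q11115 (flp_g L185993) q10518, e3 q11116 (flp_g L186027) q11117, e3 q11117 L186027 q11116, e3 q11118 (flp_g L188597) q11410, e3 q11119 L186043 q10637, e3 q11120 L186051 q10638, e3 q11121 L186061 q10639, e3 q11122 (flp_g L188225) q11374, e3 q11123 (flp_g L188641) q11414, e3 q11124 L186083 q10642, e3 q11125 L186091 q10643, e3 q11126 L191492 q11737, e3 q11127 (flp_g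 L186099) q10528, e3 q11128 (flp_g L186131) q11130, e3 q11129 L186119 q10532, e3 q11130 L186131 q11128, e3 q11131 (flp_g L188165) q11368, e3 q11132 (flp_g L191522) q11740, e3 q11133 L186153 q10689, e3 q11134 L186163 q10690, e3 q11135 L186175 q10691, trivial⟩ (by decide +kernel)

theorem ce_g_174 : ∀ r, r < 64 → sm gg (Qf (11136 + r)) = Qf (tab Gen.g (11136 + r)) :=
  edges_tab (sm gg) Qf (tab Gen.g) 11136 [(11136, 10692), (11137, 11749), (11138, 10538), (11139, 11375), (11140, 11752), (11141, 10700), (11142, 11754), (11143, 10541), (11144, 10800), (11145, 11147), (11146, 10547), (11147, 11145), (11148, 11357), (11149, 11760), (11150, 11568), (11151, 11762), (11152, 11561), (11153, 11545), (11154, 11765), (11155, 10552), (11156, 11766), (11157, 11767), (11158, 10555), (11159, 11768), (11160, 10557), (11161, 10706), (11162, 10627), (11163, 10575), (11164, 10672), (11165, 10718), (11166, 10952), (11167, 10921), (11168, 10579), (11169, 11378), (11170, 10650), (11171, 10652), (11172, 10811), (11173,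 10711), (11174, 10713), (11175, 10714), (11176, 11184), (11177, 11185), (11178, 10917), (11179, 10609), (11180, 10618), (11181, 10951), (11182, 11234), (11183, 11236), (11184, 11176), (11185, 11177), (11186, 11238), (11187, 10910), (11188, 11536), (11189, 11537), (11190, 11538), (11191, 11655), (11192, 11668), (11193, 11515), (11194, 11656), (11195, 11791), (11196, 11776), (11197, 11305), (11198, 11514), (11199, 11559)]
    ⟨e3 q11136 L186185 q10692, e3 q11137 L191600 q11749, e3 q11138 L186201 q10538, e3 q11139 (flp_g L188237) q11375, e3 q11140 L191622 q11752, e3 q11141 L186219 q10700, e3 q11142 L191634 q11754, e3 q11143 (flp_g L186225) q10541, e3 q11144 L186237 q10800, e3 q11145 (flp_g L186259) q11147, e3 q11146 L186251 q10547, e3 q11147 L186259 q11145, e3 q11148 (flp_g L188057) q11357, e3 q11149 L191684 q11760, e3 q11150 (flp_g L190041) q11568, e3 q11151 L191696 q11762, e3 q11152 (flp_g L189975) q11561, e3 q11153 (flp_g L189833) q11545, e3 q11154 L191714 q11765, e3 q11155 (flp_g L186307)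 q10552, e3 q11156 L191720 q11766, e3 q11157 L191724 q11767, e3 q11158 (flp_g L186319) q10555, e3 q11159 L191730 q11768, e3 q11160 (flp_g L186327) q10557, e3 q11161 L186333 q10706, e3 q11162 L186344 q10627, e3 q11163 L186359 q10575, e3 q11164 L186366 q10672, e3 q11165 L186377 q10718, e3 q11166 L186389 q10952, e3 q11167 L186401 q10921, e3 q11168 L186413 q10579, e3 q11169 (flp_g L188261) q11378, e3 q11170 L186435 q10650, e3 q11171 L186442 q10652, e3 q11172 L186453 q10811, e3 q11173 L186464 q10711, e3 q11174 L186475 q10713, e3 q11175 L186485 q10714, e3 q11176 (flp_g L186577) q11184, e3 q11177 (flp_g L186587) q11185, e3 q11178 L186515 q10917, e3 q11179 L186528 q10609, e3 q11180 L186540 q10618, e3 q11181 L186551 q10951, e3 q11182 (flp_g L186942) q11234, e3 q11183 (flp_g L186963) q11236, e3 q11184 L186577 q11176, e3 q11185 L186587 q11177, e3 q11186 (flp_g L186988) q11238, e3 q11187 L186604 q10910, e3 q11188 (flp_g L189757) q11536, e3 q11189 (flp_g L189765) q11537, e3 q11190 (flp_g L189778) q11538,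 e3 q11191 (flp_g L190820) q11655, e3 q11192 (flp_g L190951) q11668, e3 q11193 (flp_g L189520) q11515, e3 q11194 (flp_g L190828) q11656, e3 q11195 L191941 q11791, e3 q11196 (flp_g L191818) q11776, e3 q11197 (flp_g L187462) q11305, e3 q11198 (flp_g L189511) q11514, e3 q11199 (flp_g L189957) q11559, trivial⟩ (by decide +kernel)

theorem ce_g_175 : ∀ r, r < 64 → sm gg (Qf (11200 + r)) = Qf (tab Gen.g (11200 + r)) :=
  edges_tab (sm gg) Qf (tab Gen.g) 11200 [(11200, 11797), (11201, 11687), (11202, 11688), (11203, 11689), (11204, 11690), (11205, 11691), (11206, 11805), (11207, 10626), (11208, 11589), (11209, 11590), (11210, 11591), (11211, 11518), (11212, 11592), (11213, 11814), (11214, 11503), (11215, 11817), (11216, 10633), (11217, 11386), (11218, 11411), (11219, 11412), (11220, 11413), (11221, 11728), (11222, 11729), (11223, 11730), (11224, 11731), (11225, 11830), (11226, 11415), (11227, 11832), (11228, 11455), (11229, 11735), (11230, 11835), (11231, 10644), (11232, 11530), (11233, 11771),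 (11234, 11182), (11235, 11509), (11236, 11183), (11237, 11068), (11238, 11186), (11239, 11429), (11240, 11432), (11241, 11491), (11242, 11512), (11243, 10942), (11244, 11659), (11245, 11660), (11246, 11661), (11247, 10665), (11248, 11851), (11249, 11852), (11250, 11663), (11251, 11664), (11252, 11859), (11253, 10668), (11254, 10670), (11255, 11256), (11256, 11255), (11257, 11769), (11258, 10972), (11259, 11463), (11260, 11464), (11261, 11465), (11262, 11698), (11263, 11699)]
    ⟨e3 q11200 L191986 q11797, e3 q11201 (flp_g L191077) q11687, e3 q11202 (flp_g L191087) q11688, e3 q11203 (flp_g L191096) q11689, e3 q11204 (flp_g L191106) q11690, e3 q11205 (flp_g L191120) q11691, e3 q11206 L192042 q11805, e3 q11207 (flp_g L186754) q10626, e3 q11208 (flp_g L190241) q11589, e3 q11209 (flp_g L190249) q11590, e3 q11210 (flp_g L190260) q11591, e3 q11211 (flp_g L189547) q11518, e3 q11212 (flp_g L190272) q11592, e3 q11213 L192100 q11814, e3 q11214 (flp_g L189420) q11503, e3 q11215 L192116 q11817, e3 q11216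 (flp_g L186805) q10633, e3 q11217 (flp_g L188359) q11386, e3 q11218 (flp_g L188607) q11411, e3 q11219 (flp_g L188617) q11412, e3 q11220 (flp_g L188631) q11413, e3 q11221 (flp_g L191422) q11728, e3 q11222 (flp_g L191432) q11729, e3 q11223 (flp_g L191442) q11730, e3 q11224 (flp_g L191452) q11731, e3 q11225 L192224 q11830, e3 q11226 (flp_g L188655) q11415, e3 q11227 L192240 q11832, e3 q11228 (flp_g L189042) q11455, e3 q11229 (flp_g L191482) q11735, e3 q11230 L192256 q11835, e3 q11231 (flp_g L186913) q10644, e3 q11232 (flp_g L189695) q11530, e3 q11233 (flp_g L191760) q11771, e3 q11234 L186942 q11182, e3 q11235 (flp_g L189458) q11509, e3 q11236 L186963 q11183, e3 q11237 L186975 q11068, e3 q11238 L186988 q11186, e3 q11239 (flp_g L188766) q11429, e3 q11240 (flp_g L188796) q11432, e3 q11241 (flp_g L189346) q11491, e3 q11242 (flp_g L189490) q11512, e3 q11243 L187023 q10942, e3 q11244 (flp_g L190864) q11659, e3 q11245 (flp_g L190872) q11660, e3 q11246 (flp_g L190881) q11661, e3 q11247 L187048 q10665,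 e3 q11248 (flp_g L192394) q11851, e3 q11249 (flp_g L192406) q11852, e3 q11250 (flp_g L190899) q11663, e3 q11251 (flp_g L190909) q11664, e3 q11252 L192458 q11859, e3 q11253 (flp_g L187088) q10668, e3 q11254 L187098 q10670, e3 q11255 (flp_g L187120) q11256, e3 q11256 L187120 q11255, e3 q11257 (flp_g L191738) q11769, e3 q11258 L187140 q10972, e3 q11259 (flp_g L189124) q11463, e3 q11260 (flp_g L189134) q11464, e3 q11261 (flp_g L189143) q11465, e3 q11262 (flp_g L191179) q11698, e3 q11263 (flp_g L191190) q11699, trivial⟩ (by decide +kernel)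

theorem ce_g_176 : ∀ r, r < 64 → sm gg (Qf (11264 + r)) = Qf (tab Gen.g (11264 + r)) :=
  edges_tab (sm gg) Qf (tab Gen.g) 11264 [(11264, 11700), (11265, 11872), (11266, 11467), (11267, 11874), (11268, 11875), (11269, 10682), (11270, 11566), (11271, 11718), (11272, 10687), (11273, 10688), (11274, 11715), (11275, 11716), (11276, 11299), (11277, 11878), (11278, 11886), (11279, 11393), (11280, 11744), (11281, 11891), (11282, 11449), (11283, 11746), (11284, 11747), (11285, 11896), (11286, 10693), (11287, 10697), (11288, 11898), (11289, 11372), (11290, 11524), (11291, 11902), (11292, 10698), (11293, 11456), (11294, 11904), (11295, 10701), (11296, 10764), (11297, 11298), (11298, 11297), (11299, 11276), (11300, 11316), (11301, 11399), (11302, 11772), (11303, 11510), (11304, 11773), (11305, 11197), (11306, 11317), (11307, 11034), (11308, 10876), (11309, 11636), (11310, 11637), (11311, 10831), (11312, 11667), (11313, 10891), (11314, 10892), (11315, 11923), (11316, 11300), (11317, 11306), (11318,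 10912), (11319, 10954), (11320, 10741), (11321, 10742), (11322, 10745), (11323, 10747), (11324, 10748), (11325, 11934), (11326, 11038), (11327, 11039)]
    ⟨e3 q11264 (flp_g L191200) q11700, e3 q11265 L192562 q11872, e3 q11266 (flp_g L189165) q11467, e3 q11267 L192574 q11874, e3 q11268 L192580 q11875, e3 q11269 (flp_g L187204) q10682, e3 q11270 (flp_g L190019) q11566, e3 q11271 (flp_g L191336) q11718, e3 q11272 L187226 q10687, e3 q11273 L187234 q10688, e3 q11274 (flp_g L191304) q11715, e3 q11275 (flp_g L191314) q11716, e3 q11276 (flp_g L187408) q11299, e3 q11277 (flp_g L192606) q11878, e3 q11278 L192668 q11886, e3 q11279 (flp_g L188426) q11393, e3 q11280 (flp_g L191560) q11744, e3 q11281 L192704 q11891, e3 q11282 (flp_g L188988) q11449, e3 q11283 (flp_g L191578) q11746, e3 q11284 (flp_g L191586) q11747, e3 q11285 L192734 q11896, e3 q11286 (flp_g L187312) q10693, e3 q11287 L187322 q10697, e3 q11288 L192744 q11898, e3 q11289 (flp_g L188207) q11372, e3 q11290 (flp_g L189627) q11524, e3 q11291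 L192774 q11902, e3 q11292 (flp_g L187340) q10698, e3 q11293 (flp_g L189056) q11456, e3 q11294 L192784 q11904, e3 q11295 (flp_g L187352) q10701, e3 q11296 L187366 q10764, e3 q11297 (flp_g L187393) q11298, e3 q11298 L187393 q11297, e3 q11299 L187408 q11276, e3 q11300 (flp_g L187585) q11316, e3 q11301 (flp_g L188476) q11399, e3 q11302 (flp_g L191770) q11772, e3 q11303 (flp_g L189471) q11510, e3 q11304 (flp_g L191782) q11773, e3 q11305 L187462 q11197, e3 q11306 (flp_g L187595) q11317, e3 q11307 L187488 q11034, e3 q11308 L187502 q10876, e3 q11309 (flp_g L190659) q11636, e3 q11310 (flp_g L190674) q11637, e3 q11311 L187531 q10831, e3 q11312 (flp_g L190937) q11667, e3 q11313 L187553 q10891, e3 q11314 L187563 q10892, e3 q11315 L192987 q11923, e3 q11316 L187585 q11300, e3 q11317 L187595 q11306, e3 q11318 L187608 q10912, e3 q11319 L187622 q10954, e3 q11320 L187634 q10741, e3 q11321 L187648 q10742, e3 q11322 L187662 q10745, e3 q11323 L187674 q10747, e3 q11324 L187688 q10748, e3 q11325 L193131 q11934,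 e3 q11326 L187708 q11038, e3 q11327 L187722 q11039, trivial⟩ (by decide +kernel)

theorem ce_g_177 : ∀ r, r < 64 → sm gg (Qf (11328 + r)) = Qf (tab Gen.g (11328 + r)) :=
  edges_tab (sm gg) Qf (tab Gen.g) 11328 [(11328, 10981), (11329, 10984), (11330, 11928), (11331, 11941), (11332, 10995), (11333, 10803), (11334, 11930), (11335, 11931), (11336, 10999), (11337, 11000), (11338, 11093), (11339, 11932), (11340, 11953), (11341, 10749), (11342, 10928), (11343, 10973), (11344, 10974), (11345, 11957), (11346, 10765), (11347, 10770), (11348, 11960), (11349, 10782), (11350, 11962), (11351, 10761), (11352, 11009), (11353, 11016), (11354, 11901), (11355, 11966), (11356, 10966), (11357, 11148), (11358, 10969), (11359, 11970), (11360, 10898), (11361, 11973), (11362, 10771), (11363, 10774), (11364, 11565), (11365, 11974), (11366, 10806), (11367, 10807), (11368, 11131), (11369, 11630), (11370, 11982), (11371, 10780), (11372, 11289), (11373, 11985), (11374, 11122), (11375, 11139), (11376, 11988), (11377,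 10783), (11378, 11169), (11379, 10835), (11380, 10889), (11381, 11027), (11382, 10801), (11383, 11992), (11384, 11043), (11385, 11045), (11386, 11217), (11387, 11755), (11388, 11997), (11389, 10996), (11390, 11944), (11391, 11945)]
    ⟨e3 q11328 L187736 q10981, e3 q11329 L187752 q10984, e3 q11330 (flp_g L193058) q11928, e3 q11331 L193221 q11941, e3 q11332 L187782 q10995, e3 q11333 L187792 q10803, e3 q11334 (flp_g L193082) q11930, e3 q11335 (flp_g L193097) q11931, e3 q11336 L187817 q10999, e3 q11337 L187831 q11000, e3 q11338 L187843 q11093, e3 q11339 (flp_g L193113) q11932, e3 q11340 L193354 q11953, e3 q11341 (flp_g L187869) q10749, e3 q11342 L187887 q10928, e3 q11343 L187899 q10973, e3 q11344 L187913 q10974, e3 q11345 L193402 q11957, e3 q11346 L187933 q10765, e3 q11347 L187947 q10770, e3 q11348 L193436 q11960, e3 q11349 L187965 q10782, e3 q11350 L193456 q11962, e3 q11351 (flp_g L187979) q10761, e3 q11352 L187995 q11009, e3 q11353 L188011 q11016, e3 q11354 (flp_g L192768) q11901, e3 q11355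 L193510 q11966, e3 q11356 L188043 q10966, e3 q11357 L188057 q11148, e3 q11358 L188069 q10969, e3 q11359 L193554 q11970, e3 q11360 L188089 q10898, e3 q11361 L193588 q11973, e3 q11362 (flp_g L188103) q10771, e3 q11363 L188117 q10774, e3 q11364 (flp_g L190007) q11565, e3 q11365 (flp_g L193604) q11974, e3 q11366 L188143 q10806, e3 q11367 L188153 q10807, e3 q11368 L188165 q11131, e3 q11369 (flp_g L190600) q11630, e3 q11370 L193678 q11982, e3 q11371 L188193 q10780, e3 q11372 L188207 q11289, e3 q11373 L193708 q11985, e3 q11374 L188225 q11122, e3 q11375 L188237 q11139, e3 q11376 L193740 q11988, e3 q11377 (flp_g L188249) q10783, e3 q11378 L188261 q11169, e3 q11379 L188275 q10835, e3 q11380 L188291 q10889, e3 q11381 L188301 q11027, e3 q11382 L188315 q10801, e3 q11383 L193787 q11992, e3 q11384 L188335 q11043, e3 q11385 L188347 q11045, e3 q11386 L188359 q11217, e3 q11387 (flp_g L191648) q11755, e3 q11388 L193847 q11997, e3 q11389 L188393 q10996, e3 q11390 (flp_g L193256) q11944, e3 q11391 (flp_g L193269)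 q11945, trivial⟩ (by decide +kernel)

theorem ce_g_178 : ∀ r, r < 64 → sm gg (Qf (11392 + r)) = Qf (tab Gen.g (11392 + r)) :=
  edges_tab (sm gg) Qf (tab Gen.g) 11392 [(11392, 10805), (11393, 11279), (11394, 12003), (11395, 11738), (11396, 11977), (11397, 12009), (11398, 10808), (11399, 11301), (11400, 11770), (11401, 12011), (11402, 12012), (11403, 10832), (11404, 10833), (11405, 10837), (11406, 10838), (11407, 12018), (11408, 10817), (11409, 12019), (11410, 11118), (11411, 11218), (11412, 11219), (11413, 11220), (11414, 11123), (11415, 11226), (11416, 12027), (11417, 10826), (11418, 11420), (11419, 10830), (11420, 11418), (11421, 11989), (11422, 12030), (11423, 11916), (11424, 11917), (11425, 12013), (11426, 12014), (11427, 12043), (11428, 10836), (11429, 11239), (11430, 11939), (11431, 12047), (11432, 11240), (11433, 12016), (11434, 12050), (11435, 10839), (11436, 11036), (11437, 11037), (11438, 11040), (11439, 12054), (11440, 10846), (11441, 12055), (11442, 10877), (11443, 10878), (11444,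 10882), (11445, 10883), (11446, 12061), (11447, 10851), (11448, 10853), (11449, 11282), (11450, 12062), (11451, 10893), (11452, 10894), (11453, 12069), (11454, 10858), (11455, 11228)]
    ⟨e3 q11392 L188414 q10805, e3 q11393 L188426 q11279, e3 q11394 (flp_g L193911) q12003, e3 q11395 (flp_g L191504) q11738, e3 q11396 (flp_g L193632) q11977, e3 q11397 L193965 q12009, e3 q11398 (flp_g L188462) q10808, e3 q11399 L188476 q11301, e3 q11400 (flp_g L191751) q11770, e3 q11401 L193981 q12011, e3 q11402 L193995 q12012, e3 q11403 L188524 q10832, e3 q11404 L188533 q10833, e3 q11405 L188543 q10837, e3 q11406 L188555 q10838, e3 q11407 L194064 q12018, e3 q11408 (flp_g L188571) q10817, e3 q11409 L194076 q12019, e3 q11410 L188597 q11118, e3 q11411 L188607 q11218, e3 q11412 L188617 q11219, e3 q11413 L188631 q11220, e3 q11414 L188641 q11123, e3 q11415 L188655 q11226, e3 q11416 L194172 q12027, e3 q11417 (flp_g L188671) q10826, e3 q11418 (flp_g L188701) q11420, e3 q11419 L188691 q10830, e3 q11420 L188701 q11418,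 e3 q11421 (flp_g L193758) q11989, e3 q11422 (flp_g L194203) q12030, e3 q11423 (flp_g L192912) q11916, e3 q11424 (flp_g L192925) q11917, e3 q11425 (flp_g L194016) q12013, e3 q11426 (flp_g L194028) q12014, e3 q11427 L194310 q12043, e3 q11428 L188754 q10836, e3 q11429 L188766 q11239, e3 q11430 (flp_g L193203) q11939, e3 q11431 L194348 q12047, e3 q11432 L188796 q11240, e3 q11433 (flp_g L194048) q12016, e3 q11434 L194380 q12050, e3 q11435 (flp_g L188820) q10839, e3 q11436 L188830 q11036, e3 q11437 L188843 q11037, e3 q11438 L188855 q11040, e3 q11439 L194422 q12054, e3 q11440 (flp_g L188871) q10846, e3 q11441 L194434 q12055, e3 q11442 L188901 q10877, e3 q11443 L188912 q10878, e3 q11444 L188924 q10882, e3 q11445 L188938 q10883, e3 q11446 L194511 q12061, e3 q11447 (flp_g L188956) q10851, e3 q11448 L188976 q10853, e3 q11449 L188988 q11282, e3 q11450 (flp_g L194533) q12062, e3 q11451 L189006 q10893, e3 q11452 L189014 q10894, e3 q11453 L194599 q12069, e3 q11454 L189030 q10858, e3 q11455 L189042 q11228,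 trivial⟩ (by decide +kernel)

theorem ce_g_179 : ∀ r, r < 64 → sm gg (Qf (11456 + r)) = Qf (tab Gen.g (11456 + r)) :=
  edges_tab (sm gg) Qf (tab Gen.g) 11456 [(11456, 11293), (11457, 12074), (11458, 10900), (11459, 10901), (11460, 12076), (11461, 10861), (11462, 11089), (11463, 11259), (11464, 11260), (11465, 11261), (11466, 11094), (11467, 11266), (11468, 12084), (11469, 10871), (11470, 11695), (11471, 10875), (11472, 11694), (11473, 12087), (11474, 12088), (11475, 11912), (11476, 11913), (11477, 12056), (11478, 12057), (11479, 12099), (11480, 10880), (11481, 10881), (11482, 12100), (11483, 12104), (11484, 12059), (11485, 12106), (11486, 10884), (11487, 11709), (11488, 10890), (11489, 11706), (11490, 11707), (11491, 11241), (11492, 11972), (11493, 12114), (11494, 11920), (11495, 11921), (11496, 12119), (11497, 12066), (11498, 12067), (11499, 11549), (11500, 12124), (11501, 10895), (11502, 12125), (11503, 11214), (11504, 12127), (11505, 10899), (11506, 12072), (11507, 12129), (11508, 10902),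 (11509, 11235), (11510, 11303), (11511, 10914), (11512, 11242), (11513, 11926), (11514, 11198), (11515, 11193), (11516, 11554), (11517, 11548), (11518, 11211), (11519, 12137)]
    ⟨e3 q11456 L189056 q11293, e3 q11457 L194657 q12074, e3 q11458 L189080 q10900, e3 q11459 L189090 q10901, e3 q11460 L194675 q12076, e3 q11461 (flp_g L189100) q10861, e3 q11462 L189114 q11089, e3 q11463 L189124 q11259, e3 q11464 L189134 q11260, e3 q11465 L189143 q11261, e3 q11466 L189153 q11094, e3 q11467 L189165 q11266, e3 q11468 L194754 q12084, e3 q11469 (flp_g L189177) q10871, e3 q11470 (flp_g L191158) q11695, e3 q11471 L189201 q10875, e3 q11472 (flp_g L191146) q11694, e3 q11473 (flp_g L194793) q12087, e3 q11474 (flp_g L194806) q12088, e3 q11475 (flp_g L192869) q11912, e3 q11476 (flp_g L192882) q11913, e3 q11477 (flp_g L194455) q12056, e3 q11478 (flp_g L194469) q12057, e3 q11479 L194881 q12099, e3 q11480 L189264 q10880, e3 q11481 L189278 q10881, e3 q11482 (flp_g L194895) q12100, e3 q11483 L194933 q12104, e3 q11484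 (flp_g L194493) q12059, e3 q11485 L194951 q12106, e3 q11486 (flp_g L189310) q10884, e3 q11487 (flp_g L191268) q11709, e3 q11488 L189324 q10890, e3 q11489 (flp_g L191242) q11706, e3 q11490 (flp_g L191250) q11707, e3 q11491 L189346 q11241, e3 q11492 (flp_g L193586) q11972, e3 q11493 L195007 q12114, e3 q11494 (flp_g L192963) q11920, e3 q11495 (flp_g L192973) q11921, e3 q11496 L195045 q12119, e3 q11497 (flp_g L194579) q12066, e3 q11498 (flp_g L194589) q12067, e3 q11499 (flp_g L189863) q11549, e3 q11500 L195075 q12124, e3 q11501 (flp_g L189406) q10895, e3 q11502 L195081 q12125, e3 q11503 L189420 q11214, e3 q11504 L195097 q12127, e3 q11505 (flp_g L189430) q10899, e3 q11506 (flp_g L194639) q12072, e3 q11507 L195111 q12129, e3 q11508 (flp_g L189448) q10902, e3 q11509 L189458 q11235, e3 q11510 L189471 q11303, e3 q11511 L189480 q10914, e3 q11512 L189490 q11242, e3 q11513 (flp_g L193029) q11926, e3 q11514 L189511 q11198, e3 q11515 L189520 q11193, e3 q11516 (flp_g L189901) q11554, e3 q11517 (flp_g L189855)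 q11548, e3 q11518 L189547 q11211, e3 q11519 L195182 q12137, trivial⟩ (by decide +kernel)

theorem ce_g_180 : ∀ r, r < 64 → sm gg (Qf (11520 + r)) = Qf (tab Gen.g (11520 + r)) :=
  edges_tab (sm gg) Qf (tab Gen.g) 11520 [(11520, 10923), (11521, 10929), (11522, 12139), (11523, 10926), (11524, 11290), (11525, 12141), (11526, 12142), (11527, 10930), (11528, 12143), (11529, 10932), (11530, 11232), (11531, 11645), (11532, 10943), (11533, 10944), (11534, 10949), (11535, 12148), (11536, 11188), (11537, 11189), (11538, 11190), (11539, 11658), (11540, 11844), (11541, 11845), (11542, 12145), (11543, 12160), (11544, 11060), (11545, 11153), (11546, 11669), (11547, 11670), (11548, 11517), (11549, 11499), (11550, 12169), (11551, 10950), (11552, 11777), (11553, 11685), (11554, 11516), (11555, 12173), (11556, 10962), (11557, 12175), (11558, 10957), (11559, 11199), (11560, 12177), (11561, 11152), (11562, 12179), (11563, 12180), (11564, 10963), (11565, 11364), (11566, 11270), (11567, 11967), (11568, 11150),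 (11569, 12185), (11570, 12186), (11571, 10970), (11572, 11862), (11573, 11863), (11574, 11955), (11575, 12190), (11576, 10975), (11577, 10997), (11578, 10998), (11579, 11001), (11580, 12194), (11581, 11003), (11582, 12197), (11583, 10980)]
    ⟨e3 q11520 (flp_g L189567) q10923, e3 q11521 L189589 q10929, e3 q11522 L195212 q12139, e3 q11523 (flp_g L189607) q10926, e3 q11524 L189627 q11290, e3 q11525 L195236 q12141, e3 q11526 L195246 q12142, e3 q11527 (flp_g L189653) q10930, e3 q11528 L195256 q12143, e3 q11529 (flp_g L189673) q10932, e3 q11530 L189695 q11232, e3 q11531 (flp_g L190734) q11645, e3 q11532 L189712 q10943, e3 q11533 L189725 q10944, e3 q11534 L189735 q10949, e3 q11535 L195312 q12148, e3 q11536 L189757 q11188, e3 q11537 L189765 q11189, e3 q11538 L189778 q11190, e3 q11539 (flp_g L190850) q11658, e3 q11540 (flp_g L192339) q11844, e3 q11541 (flp_g L192350) q11845, e3 q11542 (flp_g L195290) q12145, e3 q11543 L195418 q12160, e3 q11544 L189823 q11060, e3 q11545 L189833 q11153, e3 q11546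 (flp_g L190961) q11669, e3 q11547 (flp_g L190969) q11670, e3 q11548 L189855 q11517, e3 q11549 L189863 q11499, e3 q11550 L195492 q12169, e3 q11551 (flp_g L189873) q10950, e3 q11552 (flp_g L191827) q11777, e3 q11553 (flp_g L191061) q11685, e3 q11554 L189901 q11516, e3 q11555 L195528 q12173, e3 q11556 L189925 q10962, e3 q11557 L195548 q12175, e3 q11558 (flp_g L189939) q10957, e3 q11559 L189957 q11199, e3 q11560 L195568 q12177, e3 q11561 L189975 q11152, e3 q11562 L195586 q12179, e3 q11563 L195598 q12180, e3 q11564 (flp_g L189995) q10963, e3 q11565 L190007 q11364, e3 q11566 L190019 q11270, e3 q11567 (flp_g L193526) q11967, e3 q11568 L190041 q11150, e3 q11569 L195650 q12185, e3 q11570 L195660 q12186, e3 q11571 (flp_g L190065) q10970, e3 q11572 (flp_g L192493) q11862, e3 q11573 (flp_g L192506) q11863, e3 q11574 (flp_g L193384) q11955, e3 q11575 L195696 q12190, e3 q11576 (flp_g L190108) q10975, e3 q11577 L190120 q10997, e3 q11578 L190133 q10998, e3 q11579 L190145 q11001, e3 q11580 L195732 q12194,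 e3 q11581 L190165 q11003, e3 q11582 L195766 q12197, e3 q11583 (flp_g L190175) q10980, trivial⟩ (by decide +kernel)

theorem ce_g_181 : ∀ r, r < 64 → sm gg (Qf (11584 + r)) = Qf (tab Gen.g (11584 + r)) :=
  edges_tab (sm gg) Qf (tab Gen.g) 11584 [(11584, 11937), (11585, 11012), (11586, 12200), (11587, 12201), (11588, 10985), (11589, 11208), (11590, 11209), (11591, 11210), (11592, 11212), (11593, 12207), (11594, 12208), (11595, 10992), (11596, 11597), (11597, 11596), (11598, 11942), (11599, 11943), (11600, 11998), (11601, 11999), (11602, 12191), (11603, 12219), (11604, 11949), (11605, 12221), (11606, 12222), (11607, 11002), (11608, 12223), (11609, 12196), (11610, 11004), (11611, 11613), (11612, 11010), (11613, 11611), (11614, 11963), (11615, 12230), (11616, 11102), (11617, 12233), (11618, 11069), (11619, 12235), (11620, 11014), (11621, 12236), (11622, 12237), (11623, 11017), (11624, 11018), (11625, 11067), (11626, 11024), (11627, 12238), (11628, 11026), (11629, 12239), (11630, 11369), (11631,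 12241), (11632, 11030), (11633, 11031), (11634, 11910), (11635, 11911), (11636, 11309), (11637, 11310), (11638, 12051), (11639, 12248), (11640, 11935), (11641, 12250), (11642, 12251), (11643, 11041), (11644, 11993), (11645, 11531), (11646, 12254), (11647, 12255)]
    ⟨e3 q11584 (flp_g L193175) q11937, e3 q11585 L190197 q11012, e3 q11586 L195794 q12200, e3 q11587 L195804 q12201, e3 q11588 (flp_g L190221) q10985, e3 q11589 L190241 q11208, e3 q11590 L190249 q11209, e3 q11591 L190260 q11210, e3 q11592 L190272 q11212, e3 q11593 L195867 q12207, e3 q11594 L195877 q12208, e3 q11595 (flp_g L190292) q10992, e3 q11596 (flp_g L190322) q11597, e3 q11597 L190322 q11596, e3 q11598 (flp_g L193235) q11942, e3 q11599 (flp_g L193248) q11943, e3 q11600 (flp_g L193861) q11998, e3 q11601 (flp_g L193876) q11999, e3 q11602 (flp_g L195710) q12191, e3 q11603 L195986 q12219, e3 q11604 (flp_g L193312) q11949, e3 q11605 L196002 q12221, e3 q11606 L196008 q12222, e3 q11607 (flp_g L190394) q11002, e3 q11608 L196016 q12223,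 e3 q11609 (flp_g L195762) q12196, e3 q11610 (flp_g L190408) q11004, e3 q11611 (flp_g L190432) q11613, e3 q11612 L190422 q11010, e3 q11613 L190432 q11611, e3 q11614 (flp_g L193476) q11963, e3 q11615 L196066 q12230, e3 q11616 L190466 q11102, e3 q11617 L196098 q12233, e3 q11618 L190484 q11069, e3 q11619 L196116 q12235, e3 q11620 (flp_g L190500) q11014, e3 q11621 L196128 q12236, e3 q11622 L196134 q12237, e3 q11623 (flp_g L190522) q11017, e3 q11624 (flp_g L190528) q11018, e3 q11625 L190550 q11067, e3 q11626 L190562 q11024, e3 q11627 (flp_g L196156) q12238, e3 q11628 L190581 q11026, e3 q11629 L196158 q12239, e3 q11630 L190600 q11369, e3 q11631 L196180 q12241, e3 q11632 (flp_g L190618) q11030, e3 q11633 (flp_g L190628) q11031, e3 q11634 (flp_g L192840) q11910, e3 q11635 (flp_g L192855) q11911, e3 q11636 L190659 q11309, e3 q11637 L190674 q11310, e3 q11638 (flp_g L194394) q12051, e3 q11639 L196249 q12248, e3 q11640 (flp_g L193149) q11935, e3 q11641 L196263 q12250, e3 q11642 L196271 q12251, e3 q11643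 (flp_g L190712) q11041, e3 q11644 (flp_g L193803) q11993, e3 q11645 L190734 q11531, e3 q11646 L196299 q12254, e3 q11647 L196305 q12255, trivial⟩ (by decide +kernel)

theorem ce_g_182 : ∀ r, r < 64 → sm gg (Qf (11648 + r)) = Qf (tab Gen.g (11648 + r)) :=
  edges_tab (sm gg) Qf (tab Gen.g) 11648 [(11648, 11047), (11649, 11048), (11650, 11073), (11651, 11074), (11652, 12259), (11653, 11052), (11654, 11080), (11655, 11191), (11656, 11194), (11657, 12262), (11658, 11539), (11659, 11244), (11660, 11245), (11661, 11246), (11662, 12161), (11663, 11250), (11664, 11251), (11665, 12273), (11666, 11063), (11667, 11312), (11668, 11192), (11669, 11546), (11670, 11547), (11671, 11838), (11672, 12231), (11673, 11840), (11674, 11828), (11675, 12286), (11676, 11071), (11677, 11072), (11678, 11686), (11679, 12287), (11680, 12293), (11681, 12256), (11682, 12257), (11683, 12296), (11684, 11075), (11685, 11553), (11686, 11678), (11687, 11201), (11688, 11202), (11689, 11203), (11690, 11204), (11691, 11205), (11692,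 12304), (11693, 11086), (11694, 11472), (11695, 11470), (11696, 11946), (11697, 12077), (11698, 11262), (11699, 11263), (11700, 11264), (11701, 12314), (11702, 11951), (11703, 12316), (11704, 12317), (11705, 11096), (11706, 11489), (11707, 11490), (11708, 11101), (11709, 11487), (11710, 12322), (11711, 12323)]
    ⟨e3 q11648 (flp_g L190756) q11047, e3 q11649 (flp_g L190762) q11048, e3 q11650 L190774 q11073, e3 q11651 L190784 q11074, e3 q11652 L196349 q12259, e3 q11653 (flp_g L190794) q11052, e3 q11654 L190810 q11080, e3 q11655 L190820 q11191, e3 q11656 L190828 q11194, e3 q11657 L196375 q12262, e3 q11658 L190850 q11539, e3 q11659 L190864 q11244, e3 q11660 L190872 q11245, e3 q11661 L190881 q11246, e3 q11662 (flp_g L195430) q12161, e3 q11663 L190899 q11250, e3 q11664 L190909 q11251, e3 q11665 L196485 q12273, e3 q11666 (flp_g L190921) q11063, e3 q11667 L190937 q11312, e3 q11668 L190951 q11192, e3 q11669 L190961 q11546, e3 q11670 L190969 q11547, e3 q11671 (flp_g L192290) q11838, e3 q11672 (flp_g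 L196080) q12231, e3 q11673 (flp_g L192315) q11840, e3 q11674 (flp_g L192208) q11828, e3 q11675 L196597 q12286, e3 q11676 L191009 q11071, e3 q11677 L191019 q11072, e3 q11678 (flp_g L191069) q11686, e3 q11679 (flp_g L196609) q12287, e3 q11680 L196649 q12293, e3 q11681 (flp_g L196325) q12256, e3 q11682 (flp_g L196335) q12257, e3 q11683 L196661 q12296, e3 q11684 (flp_g L191049) q11075, e3 q11685 L191061 q11553, e3 q11686 L191069 q11678, e3 q11687 L191077 q11201, e3 q11688 L191087 q11202, e3 q11689 L191096 q11203, e3 q11690 L191106 q11204, e3 q11691 L191120 q11205, e3 q11692 L196741 q12304, e3 q11693 (flp_g L191132) q11086, e3 q11694 L191146 q11472, e3 q11695 L191158 q11470, e3 q11696 (flp_g L193282) q11946, e3 q11697 (flp_g L194689) q12077, e3 q11698 L191179 q11262, e3 q11699 L191190 q11263, e3 q11700 L191200 q11264, e3 q11701 L196831 q12314, e3 q11702 (flp_g L193338) q11951, e3 q11703 L196847 q12316, e3 q11704 L196855 q12317, e3 q11705 (flp_g L191230) q11096, e3 q11706 L191242 q11489, e3 q11707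 L191250 q11490, e3 q11708 L191258 q11101, e3 q11709 L191268 q11487, e3 q11710 L196895 q12322, e3 q11711 L196901 q12323, trivial⟩ (by decide +kernel)

theorem ce_g_183 : ∀ r, r < 64 → sm gg (Qf (11712 + r)) = Qf (tab Gen.g (11712 + r)) :=
  edges_tab (sm gg) Qf (tab Gen.g) 11712 [(11712, 11103), (11713, 12324), (11714, 11105), (11715, 11274), (11716, 11275), (11717, 11110), (11718, 11271), (11719, 12329), (11720, 12330), (11721, 11112), (11722, 12331), (11723, 11114), (11724, 11725), (11725, 11724), (11726, 11979), (11727, 12020), (11728, 11221), (11729, 11222), (11730, 11223), (11731, 11224), (11732, 12342), (11733, 11986), (11734, 12344), (11735, 11229), (11736, 12346), (11737, 11126), (11738, 11395), (11739, 11741), (11740, 11132), (11741, 11739), (11742, 11980), (11743, 12352), (11744, 11280), (11745, 12355), (11746, 11283), (11747, 11284), (11748, 12359), (11749, 11137), (11750, 12360), (11751, 12361), (11752, 11140), (11753, 12362), (11754, 11142), (11755, 11387), (11756, 12364), (11757,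 12365), (11758, 12366), (11759, 12367), (11760, 11149), (11761, 12368), (11762, 11151), (11763, 12369), (11764, 12370), (11765, 11154), (11766, 11156), (11767, 11157), (11768, 11159), (11769, 11257), (11770, 11400), (11771, 11233), (11772, 11302), (11773, 11304), (11774, 11775), (11775, 11774)]
    ⟨e3 q11712 (flp_g L191288) q11103, e3 q11713 L196907 q12324, e3 q11714 (flp_g L191296) q11105, e3 q11715 L191304 q11274, e3 q11716 L191314 q11275, e3 q11717 L191324 q11110, e3 q11718 L191336 q11271, e3 q11719 L196951 q12329, e3 q11720 L196959 q12330, e3 q11721 (flp_g L191356) q11112, e3 q11722 L196967 q12331, e3 q11723 (flp_g L191370) q11114, e3 q11724 (flp_g L191396) q11725, e3 q11725 L191396 q11724, e3 q11726 (flp_g L193654) q11979, e3 q11727 (flp_g L194094) q12020, e3 q11728 L191422 q11221, e3 q11729 L191432 q11222, e3 q11730 L191442 q11223, e3 q11731 L191452 q11224, e3 q11732 L197083 q12342, e3 q11733 (flp_g L193724) q11986, e3 q11734 L197101 q12344, e3 q11735 L191482 q11229, e3 q11736 L197113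 q12346, e3 q11737 (flp_g L191492) q11126, e3 q11738 L191504 q11395, e3 q11739 (flp_g L191532) q11741, e3 q11740 L191522 q11132, e3 q11741 L191532 q11739, e3 q11742 (flp_g L193666) q11980, e3 q11743 L197173 q12352, e3 q11744 L191560 q11280, e3 q11745 L197199 q12355, e3 q11746 L191578 q11283, e3 q11747 L191586 q11284, e3 q11748 L197239 q12359, e3 q11749 (flp_g L191600) q11137, e3 q11750 L197247 q12360, e3 q11751 L197255 q12361, e3 q11752 (flp_g L191622) q11140, e3 q11753 L197261 q12362, e3 q11754 (flp_g L191634) q11142, e3 q11755 L191648 q11387, e3 q11756 L197281 q12364, e3 q11757 L197285 q12365, e3 q11758 L197293 q12366, e3 q11759 L197303 q12367, e3 q11760 (flp_g L191684) q11149, e3 q11761 L197315 q12368, e3 q11762 (flp_g L191696) q11151, e3 q11763 L197321 q12369, e3 q11764 L197329 q12370, e3 q11765 (flp_g L191714) q11154, e3 q11766 (flp_g L191720) q11156, e3 q11767 (flp_g L191724) q11157, e3 q11768 (flp_g L191730) q11159, e3 q11769 L191738 q11257, e3 q11770 L191751 q11400, e3 q11771 L191760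 q11233, e3 q11772 L191770 q11302, e3 q11773 L191782 q11304, e3 q11774 (flp_g L191805) q11775, e3 q11775 L191805 q11774, trivial⟩ (by decide +kernel)

theorem ce_g_184 : ∀ r, r < 64 → sm gg (Qf (11776 + r)) = Qf (tab Gen.g (11776 + r)) :=
  edges_tab (sm gg) Qf (tab Gen.g) 11776 [(11776, 11196), (11777, 11552), (11778, 11837), (11779, 11839), (11780, 12149), (11781, 12150), (11782, 12151), (11783, 12378), (11784, 12133), (11785, 12260), (11786, 12275), (11787, 12276), (11788, 12132), (11789, 12117), (11790, 12388), (11791, 11195), (11792, 12371), (11793, 11860), (11794, 12131), (11795, 12045), (11796, 12394), (11797, 11200), (11798, 12297), (11799, 12298), (11800, 12299), (11801, 12300), (11802, 12401), (11803, 12302), (11804, 12403), (11805, 11206), (11806, 12202), (11807, 12203), (11808, 12136), (11809, 12204), (11810, 12410), (11811, 12102), (11812, 12048), (11813, 12414), (11814, 11213), (11815, 12416), (11816, 12112), (11817, 11215), (11818, 11995), (11819, 12021), (11820, 12022), (11821,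 12023), (11822, 12423), (11823, 12337), (11824, 12338), (11825, 12428), (11826, 12063), (11827, 12340), (11828, 11674), (11829, 12433), (11830, 11225), (11831, 12434), (11832, 11227), (11833, 12071), (11834, 12435), (11835, 11230), (11836, 11924), (11837, 11778), (11838, 11671), (11839, 11779)]
    ⟨e3 q11776 L191818 q11196, e3 q11777 L191827 q11552, e3 q11778 (flp_g L192277) q11837, e3 q11779 (flp_g L192303) q11839, e3 q11780 (flp_g L195328) q12149, e3 q11781 (flp_g L195339) q12150, e3 q11782 (flp_g L195351) q12151, e3 q11783 L197389 q12378, e3 q11784 (flp_g L195149) q12133, e3 q11785 (flp_g L196361) q12260, e3 q11786 (flp_g L196513) q12275, e3 q11787 (flp_g L196527) q12276, e3 q11788 (flp_g L195139) q12132, e3 q11789 (flp_g L195031) q12117, e3 q11790 L197480 q12388, e3 q11791 (flp_g L191941) q11195, e3 q11792 (flp_g L197339) q12371, e3 q11793 (flp_g L192472) q11860, e3 q11794 (flp_g L195130) q12131, e3 q11795 (flp_g L194334) q12045, e3 q11796 L197532 q12394, e3 q11797 (flp_g L191986) q11200,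 e3 q11798 (flp_g L196669) q12297, e3 q11799 (flp_g L196682) q12298, e3 q11800 (flp_g L196695) q12299, e3 q11801 (flp_g L196709) q12300, e3 q11802 L197582 q12401, e3 q11803 (flp_g L196727) q12302, e3 q11804 L197594 q12403, e3 q11805 (flp_g L192042) q11206, e3 q11806 (flp_g L195820) q12202, e3 q11807 (flp_g L195833) q12203, e3 q11808 (flp_g L195179) q12136, e3 q11809 (flp_g L195845) q12204, e3 q11810 L197642 q12410, e3 q11811 (flp_g L194919) q12102, e3 q11812 (flp_g L194364) q12048, e3 q11813 L197668 q12414, e3 q11814 (flp_g L192100) q11213, e3 q11815 L197680 q12416, e3 q11816 (flp_g L194995) q12112, e3 q11817 (flp_g L192116) q11215, e3 q11818 (flp_g L193827) q11995, e3 q11819 (flp_g L194102) q12021, e3 q11820 (flp_g L194118) q12022, e3 q11821 (flp_g L194134) q12023, e3 q11822 L197740 q12423, e3 q11823 (flp_g L197039) q12337, e3 q11824 (flp_g L197049) q12338, e3 q11825 L197784 q12428, e3 q11826 (flp_g L194543) q12063, e3 q11827 (flp_g L197067) q12340, e3 q11828 L192208 q11674, e3 q11829 L197828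 q12433, e3 q11830 (flp_g L192224) q11225, e3 q11831 L197836 q12434, e3 q11832 (flp_g L192240) q11227, e3 q11833 (flp_g L194627) q12071, e3 q11834 L197844 q12435, e3 q11835 (flp_g L192256) q11230, e3 q11836 (flp_g L193001) q11924, e3 q11837 L192277 q11778, e3 q11838 L192290 q11671, e3 q11839 L192303 q11779, trivial⟩ (by decide +kernel)

theorem ce_g_185 : ∀ r, r < 64 → sm gg (Qf (11840 + r)) = Qf (tab Gen.g (11840 + r)) :=
  edges_tab (sm gg) Qf (tab Gen.g) 11840 [(11840, 11673), (11841, 12033), (11842, 12039), (11843, 12109), (11844, 11540), (11845, 11541), (11846, 12264), (11847, 12265), (11848, 12266), (11849, 12267), (11850, 12450), (11851, 11248), (11852, 11249), (11853, 11861), (11854, 12451), (11855, 12457), (11856, 12270), (11857, 12271), (11858, 12460), (11859, 11252), (11860, 11793), (11861, 11853), (11862, 11572), (11863, 11573), (11864, 12078), (11865, 12079), (11866, 12080), (11867, 12467), (11868, 12310), (11869, 12470), (11870, 12312), (11871, 12472), (11872, 11265), (11873,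 12473), (11874, 11267), (11875, 11268), (11876, 12182), (11877, 12475), (11878, 11277), (11879, 12477), (11880, 11905), (11881, 12325), (11882, 12481), (11883, 11884), (11884, 11883), (11885, 12484), (11886, 11278), (11887, 11918), (11888, 12004), (11889, 12353), (11890, 12490), (11891, 11281), (11892, 12064), (11893, 12356), (11894, 12494), (11895, 12495), (11896, 11285), (11897, 12496), (11898, 11288), (11899, 12497), (11900, 12498), (11901, 11354), (11902, 11291), (11903, 12500)]
    ⟨e3 q11840 L192315 q11673, e3 q11841 (flp_g L194235) q12033, e3 q11842 (flp_g L194285) q12039, e3 q11843 (flp_g L194971) q12109, e3 q11844 L192339 q11540, e3 q11845 L192350 q11541, e3 q11846 (flp_g L196403) q12264, e3 q11847 (flp_g L196416) q12265, e3 q11848 (flp_g L196427) q12266, e3 q11849 (flp_g L196437) q12267, e3 q11850 L197971 q12450, e3 q11851 L192394 q11248, e3 q11852 L192406 q11249, e3 q11853 (flp_g L192481) q11861, e3 q11854 (flp_g L197981) q12451, e3 q11855 L198039 q12457, e3 q11856 (flp_g L196465)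 q12270, e3 q11857 (flp_g L196475) q12271, e3 q11858 L198061 q12460, e3 q11859 (flp_g L192458) q11252, e3 q11860 L192472 q11793, e3 q11861 L192481 q11853, e3 q11862 L192493 q11572, e3 q11863 L192506 q11573, e3 q11864 (flp_g L194697) q12078, e3 q11865 (flp_g L194710) q12079, e3 q11866 (flp_g L194724) q12080, e3 q11867 L198118 q12467, e3 q11868 (flp_g L196806) q12310, e3 q11869 L198137 q12470, e3 q11870 (flp_g L196822) q12312, e3 q11871 L198147 q12472, e3 q11872 (flp_g L192562) q11265, e3 q11873 L198153 q12473, e3 q11874 (flp_g L192574) q11267, e3 q11875 (flp_g L192580) q11268, e3 q11876 (flp_g L195622) q12182, e3 q11877 L198173 q12475, e3 q11878 L192606 q11277, e3 q11879 L198185 q12477, e3 q11880 (flp_g L192796) q11905, e3 q11881 (flp_g L196917) q12325, e3 q11882 L198225 q12481, e3 q11883 (flp_g L192652) q11884, e3 q11884 L192652 q11883, e3 q11885 L198255 q12484, e3 q11886 (flp_g L192668) q11278, e3 q11887 (flp_g L192939) q11918, e3 q11888 (flp_g L193925) q12004, e3 q11889 (flp_g L197185)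 q12353, e3 q11890 L198303 q12490, e3 q11891 (flp_g L192704) q11281, e3 q11892 (flp_g L194557) q12064, e3 q11893 (flp_g L197213) q12356, e3 q11894 L198327 q12494, e3 q11895 L198333 q12495, e3 q11896 (flp_g L192734) q11285, e3 q11897 L198339 q12496, e3 q11898 (flp_g L192744) q11288, e3 q11899 L198345 q12497, e3 q11900 L198351 q12498, e3 q11901 L192768 q11354, e3 q11902 (flp_g L192774) q11291, e3 q11903 L198371 q12500, trivial⟩ (by decide +kernel)

theorem ce_g_186 : ∀ r, r < 64 → sm gg (Qf (11904 + r)) = Qf (tab Gen.g (11904 + r)) :=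
  edges_tab (sm gg) Qf (tab Gen.g) 11904 [(11904, 11294), (11905, 11880), (11906, 11925), (11907, 12010), (11908, 12153), (11909, 12130), (11910, 11634), (11911, 11635), (11912, 11475), (11913, 11476), (11914, 12244), (11915, 12510), (11916, 11423), (11917, 11424), (11918, 11887), (11919, 12274), (11920, 11494), (11921, 11495), (11922, 12520), (11923, 11315), (11924, 11836), (11925, 11906), (11926, 11513), (11927, 12522), (11928, 11330), (11929, 12524), (11930, 11334), (11931, 11335), (11932, 11339), (11933, 12528), (11934, 11325), (11935, 11640), (11936, 12530), (11937, 11584), (11938, 12532), (11939, 11430), (11940, 12535), (11941, 11331), (11942, 11598), (11943, 11599), (11944, 11390), (11945, 11391), (11946, 11696), (11947, 12525), (11948, 12543), (11949, 11604), (11950, 12545), (11951, 11702), (11952, 12547), (11953, 11340), (11954, 12548), (11955, 11574), (11956, 12550), (11957, 11345), (11958, 12551), (11959, 12552), (11960, 11348), (11961, 12553), (11962, 11350), (11963, 11614),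 (11964, 12555), (11965, 12556), (11966, 11355), (11967, 11567)]
    ⟨e3 q11904 (flp_g L192784) q11294, e3 q11905 L192796 q11880, e3 q11906 (flp_g L193015) q11925, e3 q11907 (flp_g L193975) q12010, e3 q11908 (flp_g L195373) q12153, e3 q11909 (flp_g L195121) q12130, e3 q11910 L192840 q11634, e3 q11911 L192855 q11635, e3 q11912 L192869 q11475, e3 q11913 L192882 q11476, e3 q11914 (flp_g L196218) q12244, e3 q11915 L198478 q12510, e3 q11916 L192912 q11423, e3 q11917 L192925 q11424, e3 q11918 L192939 q11887, e3 q11919 (flp_g L196499) q12274, e3 q11920 L192963 q11494, e3 q11921 L192973 q11495, e3 q11922 L198605 q12520, e3 q11923 (flp_g L192987) q11315, e3 q11924 L193001 q11836, e3 q11925 L193015 q11906, e3 q11926 L193029 q11513, e3 q11927 L198627 q12522, e3 q11928 L193058 q11330, e3 q11929 L198657 q12524, e3 q11930 L193082 q11334, e3 q11931 L193097 q11335, e3 q11932 L193113 q11339, e3 q11933 L198713 q12528, e3 q11934 (flp_g L193131) q11325, e3 q11935 L193149 q11640, e3 q11936 L198741 q12530, e3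 q11937 L193175 q11584, e3 q11938 L198771 q12532, e3 q11939 L193203 q11430, e3 q11940 L198813 q12535, e3 q11941 (flp_g L193221) q11331, e3 q11942 L193235 q11598, e3 q11943 L193248 q11599, e3 q11944 L193256 q11390, e3 q11945 L193269 q11391, e3 q11946 L193282 q11696, e3 q11947 (flp_g L198679) q12525, e3 q11948 L198896 q12543, e3 q11949 L193312 q11604, e3 q11950 L198916 q12545, e3 q11951 L193338 q11702, e3 q11952 L198944 q12547, e3 q11953 (flp_g L193354) q11340, e3 q11954 L198954 q12548, e3 q11955 L193384 q11574, e3 q11956 L198984 q12550, e3 q11957 (flp_g L193402) q11345, e3 q11958 L198998 q12551, e3 q11959 L199014 q12552, e3 q11960 (flp_g L193436) q11348, e3 q11961 L199026 q12553, e3 q11962 (flp_g L193456) q11350, e3 q11963 L193476 q11614, e3 q11964 L199056 q12555, e3 q11965 L199072 q12556, e3 q11966 (flp_g L193510) q11355, e3 q11967 L193526 q11567, trivial⟩ (by decide +kernel)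

theorem ce_g_187 : ∀ r, r < 64 → sm gg (Qf (11968 + r)) = Qf (tab Gen.g (11968 + r)) :=
  edges_tab (sm gg) Qf (tab Gen.g) 11968 [(11968, 12558), (11969, 12559), (11970, 11359), (11971, 12560), (11972, 11492), (11973, 11361), (11974, 11365), (11975, 12181), (11976, 12564), (11977, 11396), (11978, 12566), (11979, 11726), (11980, 11742), (11981, 12569), (11982, 11370), (11983, 12570), (11984, 12571), (11985, 11373), (11986, 11733), (11987, 12573), (11988, 11376), (11989, 11421), (11990, 12574), (11991, 12575), (11992, 11383), (11993, 11644), (11994, 12577), (11995, 11818), (11996, 12579), (11997, 11388), (11998, 11600), (11999, 11601), (12000, 12085), (12001, 12538), (12002, 12585), (12003, 11394), (12004, 11888), (12005, 12589), (12006, 12332), (12007, 12347), (12008, 12592), (12009, 11397), (12010, 11907), (12011, 11401), (12012, 11402), (12013, 11425), (12014, 11426), (12015, 12597), (12016, 11433), (12017, 12599), (12018, 11407), (12019, 11409), (12020, 11727), (12021, 11819), (12022,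 11820), (12023, 11821), (12024, 12604), (12025, 12605), (12026, 12606), (12027, 11416), (12028, 12031), (12029, 12032), (12030, 11422), (12031, 12028)]
    ⟨e3 q11968 L199098 q12558, e3 q11969 L199108 q12559, e3 q11970 (flp_g L193554) q11359, e3 q11971 L199124 q12560, e3 q11972 L193586 q11492, e3 q11973 (flp_g L193588) q11361, e3 q11974 L193604 q11365, e3 q11975 (flp_g L195608) q12181, e3 q11976 L199174 q12564, e3 q11977 L193632 q11396, e3 q11978 L199192 q12566, e3 q11979 L193654 q11726, e3 q11980 L193666 q11742, e3 q11981 L199224 q12569, e3 q11982 (flp_g L193678) q11370, e3 q11983 L199232 q12570, e3 q11984 L199248 q12571, e3 q11985 (flp_g L193708) q11373, e3 q11986 L193724 q11733, e3 q11987 L199274 q12573, e3 q11988 (flp_g L193740) q11376, e3 q11989 L193758 q11421, e3 q11990 L199286 q12574, e3 q11991 L199300 q12575, e3 q11992 (flp_g L193787) q11383, e3 q11993 L193803 q11644, e3 q11994 L199332 q12577, e3 q11995 L193827 q11818, e3 q11996 L199358 q12579, e3 q11997 (flp_g L193847) q11388, e3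 q11998 L193861 q11600, e3 q11999 L193876 q11601, e3 q12000 (flp_g L194768) q12085, e3 q12001 (flp_g L198851) q12538, e3 q12002 L199419 q12585, e3 q12003 L193911 q11394, e3 q12004 L193925 q11888, e3 q12005 L199459 q12589, e3 q12006 (flp_g L196981) q12332, e3 q12007 (flp_g L197127) q12347, e3 q12008 L199491 q12592, e3 q12009 (flp_g L193965) q11397, e3 q12010 L193975 q11907, e3 q12011 (flp_g L193981) q11401, e3 q12012 (flp_g L193995) q11402, e3 q12013 L194016 q11425, e3 q12014 L194028 q11426, e3 q12015 L199537 q12597, e3 q12016 L194048 q11433, e3 q12017 L199561 q12599, e3 q12018 (flp_g L194064) q11407, e3 q12019 (flp_g L194076) q11409, e3 q12020 L194094 q11727, e3 q12021 L194102 q11819, e3 q12022 L194118 q11820, e3 q12023 L194134 q11821, e3 q12024 L199623 q12604, e3 q12025 L199633 q12605, e3 q12026 L199647 q12606, e3 q12027 (flp_g L194172) q11416, e3 q12028 (flp_g L194213) q12031, e3 q12029 (flp_g L194222) q12032, e3 q12030 L194203 q11422, e3 q12031 L194213 q12028, trivial⟩ (by decide +kernel)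

theorem ce_g_188 : ∀ r, r < 64 → sm gg (Qf (12032 + r)) = Qf (tab Gen.g (12032 + r)) :=
  edges_tab (sm gg) Qf (tab Gen.g) 12032 [(12032, 12029), (12033, 11841), (12034, 12534), (12035, 12616), (12036, 12511), (12037, 12512), (12038, 12621), (12039, 11842), (12040, 12594), (12041, 12595), (12042, 12626), (12043, 11427), (12044, 12627), (12045, 11795), (12046, 12629), (12047, 11431), (12048, 11812), (12049, 12631), (12050, 11434), (12051, 11638), (12052, 12634), (12053, 12635), (12054, 11439), (12055, 11441), (12056, 11477), (12057, 11478), (12058, 12639), (12059, 11484), (12060, 12641), (12061, 11446), (12062, 11450), (12063, 11826), (12064, 11892), (12065, 12646), (12066, 11497), (12067, 11498), (12068, 12649), (12069, 11453), (12070, 12650), (12071, 11833), (12072, 11506), (12073, 12653), (12074, 11457), (12075, 12654), (12076, 11460), (12077, 11697), (12078, 11864), (12079, 11865), (12080, 11866), (12081, 12660), (12082, 12661), (12083, 12662), (12084, 11468), (12085, 12000), (12086,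 12307), (12087, 11473), (12088, 11474), (12089, 12305), (12090, 12306), (12091, 12665), (12092, 12671), (12093, 12505), (12094, 12506), (12095, 12675)]
    ⟨e3 q12032 L194222 q12029, e3 q12033 L194235 q11841, e3 q12034 (flp_g L198811) q12534, e3 q12035 L199745 q12616, e3 q12036 (flp_g L198491) q12511, e3 q12037 (flp_g L198507) q12512, e3 q12038 L199789 q12621, e3 q12039 L194285 q11842, e3 q12040 (flp_g L199518) q12594, e3 q12041 (flp_g L199524) q12595, e3 q12042 L199828 q12626, e3 q12043 (flp_g L194310) q11427, e3 q12044 L199834 q12627, e3 q12045 L194334 q11795, e3 q12046 L199862 q12629, e3 q12047 (flp_g L194348) q11431, e3 q12048 L194364 q11812, e3 q12049 L199884 q12631, e3 q12050 (flp_g L194380) q11434, e3 q12051 L194394 q11638, e3 q12052 L199917 q12634, e3 q12053 L199929 q12635, e3 q12054 (flp_g L194422) q11439, e3 q12055 (flp_g L194434) q11441, e3 q12056 L194455 q11477, e3 q12057 L194469 q11478, e3 q12058 L199976 q12639, e3 q12059 L194493 q11484, e3 q12060 L200004 q12641, e3 q12061 (flp_g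 L194511) q11446, e3 q12062 L194533 q11450, e3 q12063 L194543 q11826, e3 q12064 L194557 q11892, e3 q12065 L200060 q12646, e3 q12066 L194579 q11497, e3 q12067 L194589 q11498, e3 q12068 L200088 q12649, e3 q12069 (flp_g L194599) q11453, e3 q12070 L200096 q12650, e3 q12071 L194627 q11833, e3 q12072 L194639 q11506, e3 q12073 L200140 q12653, e3 q12074 (flp_g L194657) q11457, e3 q12075 L200152 q12654, e3 q12076 (flp_g L194675) q11460, e3 q12077 L194689 q11697, e3 q12078 L194697 q11864, e3 q12079 L194710 q11865, e3 q12080 L194724 q11866, e3 q12081 L200209 q12660, e3 q12082 L200217 q12661, e3 q12083 L200231 q12662, e3 q12084 (flp_g L194754) q11468, e3 q12085 L194768 q12000, e3 q12086 (flp_g L196780) q12307, e3 q12087 L194793 q11473, e3 q12088 L194806 q11474, e3 q12089 (flp_g L196757) q12305, e3 q12090 (flp_g L196768) q12306, e3 q12091 (flp_g L200273) q12665, e3 q12092 L200318 q12671, e3 q12093 (flp_g L198427) q12505, e3 q12094 (flp_g L198443) q12506, e3 q12095 L200347 q12675, trivial⟩ (by decide +kernel)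

theorem ce_g_189 : ∀ r, r < 64 → sm gg (Qf (12096 + r)) = Qf (tab Gen.g (12096 + r)) :=
  edges_tab (sm gg) Qf (tab Gen.g) 12096 [(12096, 12636), (12097, 12637), (12098, 12679), (12099, 11479), (12100, 11482), (12101, 12681), (12102, 11811), (12103, 12684), (12104, 11483), (12105, 12685), (12106, 11485), (12107, 12686), (12108, 12687), (12109, 11843), (12110, 12318), (12111, 12690), (12112, 11816), (12113, 12692), (12114, 11493), (12115, 12517), (12116, 12518), (12117, 11789), (12118, 12698), (12119, 11496), (12120, 12647), (12121, 12167), (12122, 12703), (12123, 12704), (12124, 11500), (12125, 11502), (12126, 12705), (12127, 11504), (12128, 12706), (12129, 11507), (12130, 11909), (12131, 11794), (12132, 11788), (12133, 11784), (12134, 12166), (12135, 12155), (12136, 11808), (12137, 11519), (12138, 12712), (12139, 11522), (12140, 12713), (12141, 11525), (12142, 11526), (12143, 11528), (12144, 12714), (12145, 11542), (12146, 12717), (12147, 12718), (12148, 11535), (12149, 11780), (12150,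 11781), (12151, 11782), (12152, 12723), (12153, 11908), (12154, 12263), (12155, 12135), (12156, 12441), (12157, 12730), (12158, 12715), (12159, 12732)]
    ⟨e3 q12096 (flp_g L199951) q12636, e3 q12097 (flp_g L199959) q12637, e3 q12098 L200372 q12679, e3 q12099 (flp_g L194881) q11479, e3 q12100 L194895 q11482, e3 q12101 L200392 q12681, e3 q12102 L194919 q11811, e3 q12103 L200432 q12684, e3 q12104 (flp_g L194933) q11483, e3 q12105 L200438 q12685, e3 q12106 (flp_g L194951) q11485, e3 q12107 L200448 q12686, e3 q12108 L200454 q12687, e3 q12109 L194971 q11843, e3 q12110 (flp_g L196867) q12318, e3 q12111 L200478 q12690, e3 q12112 L194995 q11816, e3 q12113 L200494 q12692, e3 q12114 (flp_g L195007) q11493, e3 q12115 (flp_g L198577) q12517, e3 q12116 (flp_g L198589) q12518, e3 q12117 L195031 q11789, e3 q12118 L200546 q12698, e3 q12119 (flp_g L195045) q11496, e3 q12120 (flp_g L200078) q12647, e3 q12121 (flp_g L195480) q12167, e3 q12122 L200584 q12703, e3 q12123 L200590 q12704, e3 q12124 (flp_g L195075)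 q11500, e3 q12125 (flp_g L195081) q11502, e3 q12126 L200596 q12705, e3 q12127 (flp_g L195097) q11504, e3 q12128 L200608 q12706, e3 q12129 (flp_g L195111) q11507, e3 q12130 L195121 q11909, e3 q12131 L195130 q11794, e3 q12132 L195139 q11788, e3 q12133 L195149 q11784, e3 q12134 (flp_g L195470) q12166, e3 q12135 (flp_g L195393) q12155, e3 q12136 L195179 q11808, e3 q12137 (flp_g L195182) q11519, e3 q12138 L200670 q12712, e3 q12139 (flp_g L195212) q11522, e3 q12140 L200686 q12713, e3 q12141 (flp_g L195236) q11525, e3 q12142 (flp_g L195246) q11526, e3 q12143 (flp_g L195256) q11528, e3 q12144 L200700 q12714, e3 q12145 L195290 q11542, e3 q12146 L200731 q12717, e3 q12147 L200741 q12718, e3 q12148 (flp_g L195312) q11535, e3 q12149 L195328 q11780, e3 q12150 L195339 q11781, e3 q12151 L195351 q11782, e3 q12152 L200794 q12723, e3 q12153 L195373 q11908, e3 q12154 (flp_g L196391) q12263, e3 q12155 L195393 q12135, e3 q12156 (flp_g L197904) q12441, e3 q12157 L200858 q12730, e3 q12158 (flp_g L200718) q12715,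 e3 q12159 L200868 q12732, trivial⟩ (by decide +kernel)

theorem ce_g_190 : ∀ r, r < 64 → sm gg (Qf (12160 + r)) = Qf (tab Gen.g (12160 + r)) :=
  edges_tab (sm gg) Qf (tab Gen.g) 12160 [(12160, 11543), (12161, 11662), (12162, 12734), (12163, 12277), (12164, 12278), (12165, 12739), (12166, 12134), (12167, 12121), (12168, 12742), (12169, 11550), (12170, 12171), (12171, 12170), (12172, 12289), (12173, 11555), (12174, 12744), (12175, 11557), (12176, 12745), (12177, 11560), (12178, 12746), (12179, 11562), (12180, 11563), (12181, 11975), (12182, 11876), (12183, 12749), (12184, 12750), (12185, 11569), (12186, 11570), (12187, 12461), (12188, 12753), (12189, 12754), (12190, 11575), (12191, 11602), (12192, 12757), (12193, 12758), (12194, 11580), (12195, 12759), (12196, 11609), (12197, 11582), (12198, 12762), (12199, 12763), (12200, 11586), (12201, 11587), (12202, 11806), (12203, 11807), (12204, 11809), (12205, 12768), (12206, 12769), (12207, 11593), (12208, 11594), (12209, 12211), (12210, 12212),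 (12211, 12209), (12212, 12210), (12213, 12536), (12214, 12776), (12215, 12580), (12216, 12779), (12217, 12755), (12218, 12781), (12219, 11603), (12220, 12782), (12221, 11605), (12222, 11606), (12223, 11608)]
    ⟨e3 q12160 (flp_g L195418) q11543, e3 q12161 L195430 q11662, e3 q12162 L200888 q12734, e3 q12163 (flp_g L196541) q12277, e3 q12164 (flp_g L196549) q12278, e3 q12165 L200928 q12739, e3 q12166 L195470 q12134, e3 q12167 L195480 q12121, e3 q12168 L200952 q12742, e3 q12169 (flp_g L195492) q11550, e3 q12170 (flp_g L195516) q12171, e3 q12171 L195516 q12170, e3 q12172 (flp_g L196627) q12289, e3 q12173 (flp_g L195528) q11555, e3 q12174 L200974 q12744, e3 q12175 (flp_g L195548) q11557, e3 q12176 L200986 q12745, e3 q12177 (flp_g L195568) q11560, e3 q12178 L200996 q12746, e3 q12179 (flp_g L195586) q11562, e3 q12180 (flp_g L195598) q11563, e3 q12181 L195608 q11975, e3 q12182 L195622 q11876, e3 q12183 L201032 q12749, e3 q12184 L201042 q12750, e3 q12185 (flp_g L195650) q11569, e3 q12186 (flp_g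 L195660) q11570, e3 q12187 (flp_g L198075) q12461, e3 q12188 L201071 q12753, e3 q12189 L201079 q12754, e3 q12190 (flp_g L195696) q11575, e3 q12191 L195710 q11602, e3 q12192 L201108 q12757, e3 q12193 L201118 q12758, e3 q12194 (flp_g L195732) q11580, e3 q12195 L201130 q12759, e3 q12196 L195762 q11609, e3 q12197 (flp_g L195766) q11582, e3 q12198 L201166 q12762, e3 q12199 L201176 q12763, e3 q12200 (flp_g L195794) q11586, e3 q12201 (flp_g L195804) q11587, e3 q12202 L195820 q11806, e3 q12203 L195833 q11807, e3 q12204 L195845 q11809, e3 q12205 L201229 q12768, e3 q12206 L201241 q12769, e3 q12207 (flp_g L195867) q11593, e3 q12208 (flp_g L195877) q11594, e3 q12209 (flp_g L195918) q12211, e3 q12210 (flp_g L195933) q12212, e3 q12211 L195918 q12209, e3 q12212 L195933 q12210, e3 q12213 (flp_g L198831) q12536, e3 q12214 L201320 q12776, e3 q12215 (flp_g L199378) q12580, e3 q12216 L201345 q12779, e3 q12217 (flp_g L201095) q12755, e3 q12218 L201357 q12781, e3 q12219 (flp_g L195986) q11603, e3 q12220 L201365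 q12782, e3 q12221 (flp_g L196002) q11605, e3 q12222 (flp_g L196008) q11606, e3 q12223 (flp_g L196016) q11608, trivial⟩ (by decide +kernel)

theorem ce_g_191 : ∀ r, r < 64 → sm gg (Qf (12224 + r)) = Qf (tab Gen.g (12224 + r)) :=
  edges_tab (sm gg) Qf (tab Gen.g) 12224 [(12224, 12783), (12225, 12761), (12226, 12785), (12227, 12786), (12228, 12787), (12229, 12788), (12230, 11615), (12231, 11672), (12232, 12790), (12233, 11617), (12234, 12791), (12235, 11619), (12236, 11621), (12237, 11622), (12238, 11627), (12239, 11629), (12240, 12792), (12241, 11631), (12242, 12503), (12243, 12795), (12244, 11914), (12245, 12798), (12246, 12632), (12247, 12800), (12248, 11639), (12249, 12801), (12250, 11641), (12251, 11642), (12252, 12802), (12253, 12803), (12254, 11646), (12255, 11647), (12256, 11681), (12257, 11682), (12258, 12806), (12259, 11652), (12260, 11785), (12261, 12808), (12262, 11657), (12263, 12154), (12264, 11846), (12265, 11847), (12266, 11848), (12267, 11849), (12268, 12817), (12269, 12818),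 (12270, 11856), (12271, 11857), (12272, 12821), (12273, 11665), (12274, 11919), (12275, 11786), (12276, 11787), (12277, 12163), (12278, 12164), (12279, 12829), (12280, 12437), (12281, 12426), (12282, 12833), (12283, 12438), (12284, 12430), (12285, 12836), (12286, 11675), (12287, 11679)]
    ⟨e3 q12224 (flp_g L201377) q12783, e3 q12225 (flp_g L201164) q12761, e3 q12226 L201383 q12785, e3 q12227 L201389 q12786, e3 q12228 L201399 q12787, e3 q12229 L201411 q12788, e3 q12230 (flp_g L196066) q11615, e3 q12231 L196080 q11672, e3 q12232 L201437 q12790, e3 q12233 (flp_g L196098) q11617, e3 q12234 L201451 q12791, e3 q12235 (flp_g L196116) q11619, e3 q12236 (flp_g L196128) q11621, e3 q12237 (flp_g L196134) q11622, e3 q12238 L196156 q11627, e3 q12239 (flp_g L196158) q11629, e3 q12240 L201465 q12792, e3 q12241 (flp_g L196180) q11631, e3 q12242 (flp_g L198402) q12503, e3 q12243 L201494 q12795, e3 q12244 L196218 q11914, e3 q12245 L201533 q12798, e3 q12246 (flp_g L199898) q12632, e3 q12247 L201555 q12800,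 e3 q12248 (flp_g L196249) q11639, e3 q12249 L201561 q12801, e3 q12250 (flp_g L196263) q11641, e3 q12251 (flp_g L196271) q11642, e3 q12252 L201567 q12802, e3 q12253 L201577 q12803, e3 q12254 (flp_g L196299) q11646, e3 q12255 (flp_g L196305) q11647, e3 q12256 L196325 q11681, e3 q12257 L196335 q11682, e3 q12258 L201615 q12806, e3 q12259 (flp_g L196349) q11652, e3 q12260 L196361 q11785, e3 q12261 L201635 q12808, e3 q12262 (flp_g L196375) q11657, e3 q12263 L196391 q12154, e3 q12264 L196403 q11846, e3 q12265 L196416 q11847, e3 q12266 L196427 q11848, e3 q12267 L196437 q11849, e3 q12268 L201726 q12817, e3 q12269 L201736 q12818, e3 q12270 L196465 q11856, e3 q12271 L196475 q11857, e3 q12272 L201764 q12821, e3 q12273 (flp_g L196485) q11665, e3 q12274 L196499 q11919, e3 q12275 L196513 q11786, e3 q12276 L196527 q11787, e3 q12277 L196541 q12163, e3 q12278 L196549 q12164, e3 q12279 L201848 q12829, e3 q12280 (flp_g L197868) q12437, e3 q12281 (flp_g L197768) q12426, e3 q12282 L201876 q12833, e3 q12283 (flp_g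 L197880) q12438, e3 q12284 (flp_g L197804) q12430, e3 q12285 L201898 q12836, e3 q12286 (flp_g L196597) q11675, e3 q12287 L196609 q11679, trivial⟩ (by decide +kernel)

theorem ce_g_192 : ∀ r, r < 64 → sm gg (Qf (12288 + r)) = Qf (tab Gen.g (12288 + r)) :=
  edges_tab (sm gg) Qf (tab Gen.g) 12288 [(12288, 12838), (12289, 12172), (12290, 12291), (12291, 12290), (12292, 12841), (12293, 11680), (12294, 12804), (12295, 12843), (12296, 11683), (12297, 11798), (12298, 11799), (12299, 11800), (12300, 11801), (12301, 12850), (12302, 11803), (12303, 12852), (12304, 11692), (12305, 12089), (12306, 12090), (12307, 12086), (12308, 12540), (12309, 12858), (12310, 11868), (12311, 12861), (12312, 11870), (12313, 12863), (12314, 11701), (12315, 12864), (12316, 11703), (12317, 11704), (12318, 12110), (12319, 12866), (12320, 12867), (12321, 12868), (12322, 11710), (12323, 11711), (12324, 11713), (12325, 11881), (12326, 12870), (12327, 12871), (12328, 12872), (12329, 11719), (12330, 11720), (12331, 11722), (12332,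 12006), (12333, 12334), (12334, 12333), (12335, 12567), (12336, 12877), (12337, 11823), (12338, 11824), (12339, 12880), (12340, 11827), (12341, 12882), (12342, 11732), (12343, 12883), (12344, 11734), (12345, 12884), (12346, 11736), (12347, 12007), (12348, 12886), (12349, 12887), (12350, 12888), (12351, 12889)]
    ⟨e3 q12288 L201914 q12838, e3 q12289 L196627 q12172, e3 q12290 (flp_g L196639) q12291, e3 q12291 L196639 q12290, e3 q12292 L201938 q12841, e3 q12293 (flp_g L196649) q11680, e3 q12294 (flp_g L201601) q12804, e3 q12295 L201948 q12843, e3 q12296 (flp_g L196661) q11683, e3 q12297 L196669 q11798, e3 q12298 L196682 q11799, e3 q12299 L196695 q11800, e3 q12300 L196709 q11801, e3 q12301 L202018 q12850, e3 q12302 L196727 q11803, e3 q12303 L202040 q12852, e3 q12304 (flp_g L196741) q11692, e3 q12305 L196757 q12089, e3 q12306 L196768 q12090, e3 q12307 L196780 q12086, e3 q12308 (flp_g L198877) q12540, e3 q12309 L202097 q12858, e3 q12310 L196806 q11868, e3 q12311 L202120 q12861, e3 q12312 L196822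 q11870, e3 q12313 L202134 q12863, e3 q12314 (flp_g L196831) q11701, e3 q12315 L202142 q12864, e3 q12316 (flp_g L196847) q11703, e3 q12317 (flp_g L196855) q11704, e3 q12318 L196867 q12110, e3 q12319 L202156 q12866, e3 q12320 L202164 q12867, e3 q12321 L202174 q12868, e3 q12322 (flp_g L196895) q11710, e3 q12323 (flp_g L196901) q11711, e3 q12324 (flp_g L196907) q11713, e3 q12325 L196917 q11881, e3 q12326 L202192 q12870, e3 q12327 L202202 q12871, e3 q12328 L202216 q12872, e3 q12329 (flp_g L196951) q11719, e3 q12330 (flp_g L196959) q11720, e3 q12331 (flp_g L196967) q11722, e3 q12332 L196981 q12006, e3 q12333 (flp_g L197009) q12334, e3 q12334 L197009 q12333, e3 q12335 (flp_g L199210) q12567, e3 q12336 L202284 q12877, e3 q12337 L197039 q11823, e3 q12338 L197049 q11824, e3 q12339 L202312 q12880, e3 q12340 L197067 q11827, e3 q12341 L202330 q12882, e3 q12342 (flp_g L197083) q11732, e3 q12343 L202342 q12883, e3 q12344 (flp_g L197101) q11734, e3 q12345 L202350 q12884, e3 q12346 (flp_g L197113) q11736,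 e3 q12347 L197127 q12007, e3 q12348 L202370 q12886, e3 q12349 L202378 q12887, e3 q12350 L202390 q12888, e3 q12351 L202402 q12889, trivial⟩ (by decide +kernel)

theorem ce_g_193 : ∀ r, r < 64 → sm gg (Qf (12352 + r)) = Qf (tab Gen.g (12352 + r)) :=
  edges_tab (sm gg) Qf (tab Gen.g) 12352 [(12352, 11743), (12353, 11889), (12354, 12891), (12355, 11745), (12356, 11893), (12357, 12893), (12358, 12894), (12359, 11748), (12360, 11750), (12361, 11751), (12362, 11753), (12363, 12895), (12364, 11756), (12365, 11757), (12366, 11758), (12367, 11759), (12368, 11761), (12369, 11763), (12370, 11764), (12371, 11792), (12372, 12436), (12373, 12708), (12374, 12719), (12375, 12900), (12376, 12721), (12377, 12903), (12378, 11783), (12379, 12709), (12380, 12697), (12381, 12908), (12382, 12823), (12383, 12824), (12384, 12913), (12385, 12707), (12386, 12694), (12387, 12916), (12388, 11790), (12389, 12390), (12390, 12389), (12391, 12453), (12392, 12918), (12393, 12613), (12394, 11796), (12395, 12844), (12396,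 12845), (12397, 12924), (12398, 12847), (12399, 12848), (12400, 12928), (12401, 11802), (12402, 12929), (12403, 11804), (12404, 12711), (12405, 12764), (12406, 12933), (12407, 12683), (12408, 12766), (12409, 12938), (12410, 11810), (12411, 12939), (12412, 12940), (12413, 12622), (12414, 11813), (12415, 12943)]
    ⟨e3 q12352 (flp_g L197173) q11743, e3 q12353 L197185 q11889, e3 q12354 L202424 q12891, e3 q12355 (flp_g L197199) q11745, e3 q12356 L197213 q11893, e3 q12357 L202442 q12893, e3 q12358 L202454 q12894, e3 q12359 (flp_g L197239) q11748, e3 q12360 (flp_g L197247) q11750, e3 q12361 (flp_g L197255) q11751, e3 q12362 (flp_g L197261) q11753, e3 q12363 L202466 q12895, e3 q12364 (flp_g L197281) q11756, e3 q12365 (flp_g L197285) q11757, e3 q12366 (flp_g L197293) q11758, e3 q12367 (flp_g L197303) q11759, e3 q12368 (flp_g L197315) q11761, e3 q12369 (flp_g L197321) q11763, e3 q12370 (flp_g L197329) q11764, e3 q12371 L197339 q11792, e3 q12372 (flp_g L197855) q12436, e3 q12373 (flp_g L200630) q12708,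 e3 q12374 (flp_g L200759) q12719, e3 q12375 L202510 q12900, e3 q12376 (flp_g L200779) q12721, e3 q12377 L202529 q12903, e3 q12378 (flp_g L197389) q11783, e3 q12379 (flp_g L200641) q12709, e3 q12380 (flp_g L200542) q12697, e3 q12381 L202569 q12908, e3 q12382 (flp_g L201790) q12823, e3 q12383 (flp_g L201804) q12824, e3 q12384 L202625 q12913, e3 q12385 (flp_g L200622) q12707, e3 q12386 (flp_g L200512) q12694, e3 q12387 L202653 q12916, e3 q12388 (flp_g L197480) q11790, e3 q12389 (flp_g L197507) q12390, e3 q12390 L197507 q12389, e3 q12391 (flp_g L198005) q12453, e3 q12392 L202673 q12918, e3 q12393 (flp_g L199730) q12613, e3 q12394 (flp_g L197532) q11796, e3 q12395 (flp_g L201957) q12844, e3 q12396 (flp_g L201973) q12845, e3 q12397 L202716 q12924, e3 q12398 (flp_g L201999) q12847, e3 q12399 (flp_g L202007) q12848, e3 q12400 L202741 q12928, e3 q12401 (flp_g L197582) q11802, e3 q12402 L202749 q12929, e3 q12403 (flp_g L197594) q11804, e3 q12404 (flp_g L200666) q12711, e3 q12405 (flp_g L201194) q12764,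 e3 q12406 L202776 q12933, e3 q12407 (flp_g L200430) q12683, e3 q12408 (flp_g L201216) q12766, e3 q12409 L202810 q12938, e3 q12410 (flp_g L197642) q11810, e3 q12411 L202816 q12939, e3 q12412 L202822 q12940, e3 q12413 (flp_g L199803) q12622, e3 q12414 (flp_g L197668) q11813, e3 q12415 L202842 q12943, trivial⟩ (by decide +kernel)

theorem ce_g_194 : ∀ r, r < 64 → sm gg (Qf (12416 + r)) = Qf (tab Gen.g (12416 + r)) :=
  edges_tab (sm gg) Qf (tab Gen.g) 12416 [(12416, 11815), (12417, 12945), (12418, 12688), (12419, 12947), (12420, 12601), (12421, 12949), (12422, 12950), (12423, 11822), (12424, 12514), (12425, 12878), (12426, 12281), (12427, 12955), (12428, 11825), (12429, 12643), (12430, 12284), (12431, 12958), (12432, 12959), (12433, 11829), (12434, 11831), (12435, 11834), (12436, 12372), (12437, 12280), (12438, 12283), (12439, 12610), (12440, 12617), (12441, 12156), (12442, 12963), (12443, 12810), (12444, 12811), (12445, 12968), (12446, 12813), (12447, 12814), (12448, 12815), (12449, 12973),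 (12450, 11850), (12451, 11854), (12452, 12975), (12453, 12391), (12454, 12455), (12455, 12454), (12456, 12979), (12457, 11855), (12458, 12819), (12459, 12981), (12460, 11858), (12461, 12187), (12462, 12984), (12463, 12656), (12464, 12987), (12465, 12658), (12466, 12989), (12467, 11867), (12468, 12859), (12469, 12992), (12470, 11869), (12471, 12994), (12472, 11871), (12473, 11873), (12474, 12995), (12475, 11877), (12476, 12996), (12477, 11879), (12478, 12479), (12479, 12478)]
    ⟨e3 q12416 (flp_g L197680) q11815, e3 q12417 (flp_g L202862) q12945, e3 q12418 (flp_g L200466) q12688, e3 q12419 L202874 q12947, e3 q12420 (flp_g L199591) q12601, e3 q12421 L202898 q12949, e3 q12422 L202906 q12950, e3 q12423 (flp_g L197740) q11822, e3 q12424 (flp_g L198533) q12514, e3 q12425 (flp_g L202296) q12878, e3 q12426 L197768 q12281, e3 q12427 L202954 q12955, e3 q12428 (flp_g L197784) q11825, e3 q12429 (flp_g L200038) q12643, e3 q12430 L197804 q12284, e3 q12431 L202984 q12958, e3 q12432 L202990 q12959, e3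 q12433 (flp_g L197828) q11829, e3 q12434 (flp_g L197836) q11831, e3 q12435 (flp_g L197844) q11834, e3 q12436 L197855 q12372, e3 q12437 L197868 q12280, e3 q12438 L197880 q12283, e3 q12439 (flp_g L199692) q12610, e3 q12440 (flp_g L199758) q12617, e3 q12441 L197904 q12156, e3 q12442 L203035 q12963, e3 q12443 (flp_g L201660) q12810, e3 q12444 (flp_g L201674) q12811, e3 q12445 L203083 q12968, e3 q12446 (flp_g L201699) q12813, e3 q12447 (flp_g L201709) q12814, e3 q12448 (flp_g L201715) q12815, e3 q12449 L203120 q12973, e3 q12450 (flp_g L197971) q11850, e3 q12451 L197981 q11854, e3 q12452 L203136 q12975, e3 q12453 L198005 q12391, e3 q12454 (flp_g L198023) q12455, e3 q12455 L198023 q12454, e3 q12456 L203182 q12979, e3 q12457 (flp_g L198039) q11855, e3 q12458 (flp_g L201752) q12819, e3 q12459 L203196 q12981, e3 q12460 (flp_g L198061) q11858, e3 q12461 L198075 q12187, e3 q12462 L203227 q12984, e3 q12463 (flp_g L200176) q12656, e3 q12464 L203256 q12987, e3 q12465 (flp_g L200198) q12658, e3 q12466 L203268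 q12989, e3 q12467 (flp_g L198118) q11867, e3 q12468 (flp_g L202107) q12859, e3 q12469 L203287 q12992, e3 q12470 (flp_g L198137) q11869, e3 q12471 L203298 q12994, e3 q12472 (flp_g L198147) q11871, e3 q12473 (flp_g L198153) q11873, e3 q12474 L203302 q12995, e3 q12475 (flp_g L198173) q11877, e3 q12476 L203314 q12996, e3 q12477 (flp_g L198185) q11879, e3 q12478 (flp_g L198209) q12479, e3 q12479 L198209 q12478, trivial⟩ (by decide +kernel)

theorem ce_g_195 : ∀ r, r < 64 → sm gg (Qf (12480 + r)) = Qf (tab Gen.g (12480 + r)) :=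
  edges_tab (sm gg) Qf (tab Gen.g) 12480 [(12480, 12999), (12481, 11882), (12482, 13000), (12483, 13001), (12484, 11885), (12485, 12515), (12486, 12587), (12487, 13006), (12488, 13007), (12489, 12724), (12490, 11890), (12491, 12644), (12492, 13010), (12493, 13011), (12494, 11894), (12495, 11895), (12496, 11897), (12497, 11899), (12498, 11900), (12499, 13012), (12500, 11903), (12501, 12521), (12502, 12593), (12503, 12242), (12504, 13016), (12505, 12093), (12506, 12094), (12507, 13020), (12508, 12796), (12509, 13023), (12510, 11915), (12511, 12036), (12512, 12037), (12513, 13027), (12514, 12424), (12515, 12485), (12516, 13031), (12517, 12115), (12518, 12116), (12519, 13034), (12520, 11922), (12521, 12501), (12522, 11927), (12523, 13036), (12524, 11929), (12525, 11947), (12526, 13039), (12527, 13040), (12528, 11933), (12529, 13041), (12530, 11936), (12531, 13042), (12532, 11938), (12533, 13043), (12534, 12034), (12535, 11940), (12536, 12213), (12537, 13047), (12538, 12001), (12539, 13050),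 (12540, 12308), (12541, 13037), (12542, 13054), (12543, 11948)]
    ⟨e3 q12480 L203350 q12999, e3 q12481 (flp_g L198225) q11882, e3 q12482 L203358 q13000, e3 q12483 L203368 q13001, e3 q12484 (flp_g L198255) q11885, e3 q12485 (flp_g L198549) q12515, e3 q12486 (flp_g L199441) q12587, e3 q12487 L203424 q13006, e3 q12488 L203430 q13007, e3 q12489 (flp_g L200812) q12724, e3 q12490 (flp_g L198303) q11890, e3 q12491 (flp_g L200046) q12644, e3 q12492 L203454 q13010, e3 q12493 L203460 q13011, e3 q12494 (flp_g L198327) q11894, e3 q12495 (flp_g L198333) q11895, e3 q12496 (flp_g L198339) q11897, e3 q12497 (flp_g L198345) q11899, e3 q12498 (flp_g L198351) q11900, e3 q12499 (flp_g L203478) q13012, e3 q12500 (flp_g L198371) q11903, e3 q12501 (flp_g L198621) q12521, e3 q12502 (flp_g L199505) q12593, e3 q12503 L198402 q12242, e3 q12504 L203522 q13016, e3 q12505 L198427 q12093, e3 q12506 L198443 q12094, e3 q12507 L203575 q13020, e3 q12508 (flp_g L201510) q12796, e3 q12509 L203608 q13023, e3 q12510 (flp_g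 L198478) q11915, e3 q12511 L198491 q12036, e3 q12512 L198507 q12037, e3 q12513 L203657 q13027, e3 q12514 L198533 q12424, e3 q12515 L198549 q12485, e3 q12516 L203711 q13031, e3 q12517 L198577 q12115, e3 q12518 L198589 q12116, e3 q12519 L203749 q13034, e3 q12520 (flp_g L198605) q11922, e3 q12521 L198621 q12501, e3 q12522 (flp_g L198627) q11927, e3 q12523 L203776 q13036, e3 q12524 (flp_g L198657) q11929, e3 q12525 L198679 q11947, e3 q12526 L203821 q13039, e3 q12527 L203837 q13040, e3 q12528 (flp_g L198713) q11933, e3 q12529 L203853 q13041, e3 q12530 (flp_g L198741) q11936, e3 q12531 L203869 q13042, e3 q12532 (flp_g L198771) q11938, e3 q12533 L203887 q13043, e3 q12534 L198811 q12034, e3 q12535 (flp_g L198813) q11940, e3 q12536 L198831 q12213, e3 q12537 L203938 q13047, e3 q12538 L198851 q12001, e3 q12539 L203973 q13050, e3 q12540 L198877 q12308, e3 q12541 (flp_g L203798) q13037, e3 q12542 L204018 q13054, e3 q12543 (flp_g L198896) q11948, trivial⟩ (by decide +kernel)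

theorem ce_g_196 : ∀ r, r < 64 → sm gg (Qf (12544 + r)) = Qf (tab Gen.g (12544 + r)) :=
  edges_tab (sm gg) Qf (tab Gen.g) 12544 [(12544, 13055), (12545, 11950), (12546, 13056), (12547, 11952), (12548, 11954), (12549, 13057), (12550, 11956), (12551, 11958), (12552, 11959), (12553, 11961), (12554, 13058), (12555, 11964), (12556, 11965), (12557, 13059), (12558, 11968), (12559, 11969), (12560, 11971), (12561, 13060), (12562, 13061), (12563, 13062), (12564, 11976), (12565, 13063), (12566, 11978), (12567, 12335), (12568, 13065), (12569, 11981), (12570, 11983), (12571, 11984), (12572, 13066), (12573, 11987), (12574, 11990), (12575, 11991), (12576, 13067), (12577, 11994), (12578, 13068), (12579, 11996), (12580, 12215), (12581, 13071), (12582, 12663), (12583, 13048), (12584, 13075), (12585, 12002), (12586, 13076), (12587, 12486), (12588, 13079), (12589, 12005), (12590, 12873), (12591, 13081), (12592, 12008), (12593, 12502), (12594, 12040), (12595, 12041), (12596, 13085), (12597, 12015), (12598,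 13086), (12599, 12017), (12600, 13087), (12601, 12420), (12602, 13089), (12603, 13090), (12604, 12024), (12605, 12025), (12606, 12026), (12607, 12611)]
    ⟨e3 q12544 L204026 q13055, e3 q12545 (flp_g L198916) q11950, e3 q12546 L204042 q13056, e3 q12547 (flp_g L198944) q11952, e3 q12548 (flp_g L198954) q11954, e3 q12549 L204058 q13057, e3 q12550 (flp_g L198984) q11956, e3 q12551 (flp_g L198998) q11958, e3 q12552 (flp_g L199014) q11959, e3 q12553 (flp_g L199026) q11961, e3 q12554 L204074 q13058, e3 q12555 (flp_g L199056) q11964, e3 q12556 (flp_g L199072) q11965, e3 q12557 L204092 q13059, e3 q12558 (flp_g L199098) q11968, e3 q12559 (flp_g L199108) q11969, e3 q12560 (flp_g L199124) q11971, e3 q12561 (flp_g L204120) q13060, e3 q12562 L204122 q13061, e3 q12563 L204136 q13062, e3 q12564 (flp_g L199174) q11976, e3 q12565 L204148 q13063, e3 q12566 (flp_g L199192) q11978, e3 q12567 L199210 q12335, e3 q12568 L204172 q13065, e3 q12569 (flp_g L199224) q11981, e3 q12570 (flp_g L199232) q11983, e3 q12571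 (flp_g L199248) q11984, e3 q12572 L204184 q13066, e3 q12573 (flp_g L199274) q11987, e3 q12574 (flp_g L199286) q11990, e3 q12575 (flp_g L199300) q11991, e3 q12576 L204200 q13067, e3 q12577 (flp_g L199332) q11994, e3 q12578 L204218 q13068, e3 q12579 (flp_g L199358) q11996, e3 q12580 L199378 q12215, e3 q12581 L204261 q13071, e3 q12582 (flp_g L200247) q12663, e3 q12583 (flp_g L203954) q13048, e3 q12584 L204304 q13075, e3 q12585 (flp_g L199419) q12002, e3 q12586 L204310 q13076, e3 q12587 L199441 q12486, e3 q12588 L204348 q13079, e3 q12589 (flp_g L199459) q12005, e3 q12590 (flp_g L202236) q12873, e3 q12591 L204372 q13081, e3 q12592 (flp_g L199491) q12008, e3 q12593 L199505 q12502, e3 q12594 L199518 q12040, e3 q12595 L199524 q12041, e3 q12596 L204413 q13085, e3 q12597 (flp_g L199537) q12015, e3 q12598 L204423 q13086, e3 q12599 (flp_g L199561) q12017, e3 q12600 L204439 q13087, e3 q12601 L199591 q12420, e3 q12602 L204465 q13089, e3 q12603 L204479 q13090, e3 q12604 (flp_g L199623) q12024, e3 q12605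 (flp_g L199633) q12025, e3 q12606 (flp_g L199647) q12026, e3 q12607 (flp_g L199706) q12611, trivial⟩ (by decide +kernel)

theorem ce_g_197 : ∀ r, r < 64 → sm gg (Qf (12608 + r)) = Qf (tab Gen.g (12608 + r)) :=
  edges_tab (sm gg) Qf (tab Gen.g) 12608 [(12608, 13093), (12609, 13094), (12610, 12439), (12611, 12607), (12612, 13098), (12613, 12393), (12614, 13022), (12615, 13102), (12616, 12035), (12617, 12440), (12618, 13024), (12619, 13025), (12620, 13108), (12621, 12038), (12622, 12413), (12623, 13082), (12624, 13112), (12625, 13114), (12626, 12042), (12627, 12044), (12628, 13115), (12629, 12046), (12630, 13116), (12631, 12049), (12632, 12246), (12633, 13118), (12634, 12052), (12635, 12053), (12636, 12096), (12637, 12097), (12638, 13122), (12639, 12058), (12640, 13123), (12641, 12060), (12642, 13124), (12643, 12429), (12644, 12491), (12645, 13127), (12646, 12065), (12647, 12120), (12648, 13129), (12649, 12068), (12650, 12070), (12651, 13130), (12652, 13131), (12653, 12073), (12654, 12075),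 (12655, 13132), (12656, 12463), (12657, 13135), (12658, 12465), (12659, 13137), (12660, 12081), (12661, 12082), (12662, 12083), (12663, 12582), (12664, 13140), (12665, 12091), (12666, 13143), (12667, 12853), (12668, 13146), (12669, 13141), (12670, 13149), (12671, 12092)]
    ⟨e3 q12608 L204510 q13093, e3 q12609 L204516 q13094, e3 q12610 L199692 q12439, e3 q12611 L199706 q12607, e3 q12612 L204565 q13098, e3 q12613 L199730 q12393, e3 q12614 (flp_g L203604) q13022, e3 q12615 L204604 q13102, e3 q12616 (flp_g L199745) q12035, e3 q12617 L199758 q12440, e3 q12618 (flp_g L203626) q13024, e3 q12619 (flp_g L203636) q13025, e3 q12620 L204662 q13108, e3 q12621 (flp_g L199789) q12038, e3 q12622 L199803 q12413, e3 q12623 (flp_g L204390) q13082, e3 q12624 L204703 q13112, e3 q12625 L204716 q13114, e3 q12626 (flp_g L199828) q12042, e3 q12627 (flp_g L199834) q12044, e3 q12628 L204722 q13115, e3 q12629 (flp_g L199862) q12046, e3 q12630 L204738 q13116, e3 q12631 (flp_g L199884) q12049, e3 q12632 L199898 q12246,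 e3 q12633 L204764 q13118, e3 q12634 (flp_g L199917) q12052, e3 q12635 (flp_g L199929) q12053, e3 q12636 L199951 q12096, e3 q12637 L199959 q12097, e3 q12638 L204811 q13122, e3 q12639 (flp_g L199976) q12058, e3 q12640 L204823 q13123, e3 q12641 (flp_g L200004) q12060, e3 q12642 L204839 q13124, e3 q12643 L200038 q12429, e3 q12644 L200046 q12491, e3 q12645 L204871 q13127, e3 q12646 (flp_g L200060) q12065, e3 q12647 L200078 q12120, e3 q12648 L204895 q13129, e3 q12649 (flp_g L200088) q12068, e3 q12650 (flp_g L200096) q12070, e3 q12651 L204903 q13130, e3 q12652 L204919 q13131, e3 q12653 (flp_g L200140) q12073, e3 q12654 (flp_g L200152) q12075, e3 q12655 L204935 q13132, e3 q12656 L200176 q12463, e3 q12657 L204968 q13135, e3 q12658 L200198 q12465, e3 q12659 L204988 q13137, e3 q12660 (flp_g L200209) q12081, e3 q12661 (flp_g L200217) q12082, e3 q12662 (flp_g L200231) q12083, e3 q12663 L200247 q12582, e3 q12664 L205021 q13140, e3 q12665 L200273 q12091, e3 q12666 L205058 q13143, e3 q12667 (flp_g L202056)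 q12853, e3 q12668 L205089 q13146, e3 q12669 (flp_g L205039) q13141, e3 q12670 L205116 q13149, e3 q12671 (flp_g L200318) q12092, trivial⟩ (by decide +kernel)

theorem ce_g_198 : ∀ r, r < 64 → sm gg (Qf (12672 + r)) = Qf (tab Gen.g (12672 + r)) :=
  edges_tab (sm gg) Qf (tab Gen.g) 12672 [(12672, 13017), (12673, 13018), (12674, 13153), (12675, 12095), (12676, 13119), (12677, 13156), (12678, 13158), (12679, 12098), (12680, 13159), (12681, 12101), (12682, 13160), (12683, 12407), (12684, 12103), (12685, 12105), (12686, 12107), (12687, 12108), (12688, 12418), (12689, 13164), (12690, 12111), (12691, 13165), (12692, 12113), (12693, 13032), (12694, 12386), (12695, 13171), (12696, 13172), (12697, 12380), (12698, 12118), (12699, 12740), (12700, 13176), (12701, 12727), (12702, 13178), (12703, 12122), (12704, 12123), (12705, 12126), (12706, 12128), (12707, 12385), (12708, 12373), (12709, 12379), (12710, 12726), (12711, 12404), (12712, 12138), (12713, 12140), (12714, 12144), (12715, 12158), (12716, 13182),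 (12717, 12146), (12718, 12147), (12719, 12374), (12720, 13185), (12721, 12376), (12722, 13187), (12723, 12152), (12724, 12489), (12725, 13190), (12726, 12710), (12727, 12701), (12728, 12961), (12729, 13195), (12730, 12157), (12731, 13197), (12732, 12159), (12733, 13198), (12734, 12162), (12735, 12743)]
    ⟨e3 q12672 (flp_g L203546) q13017, e3 q12673 (flp_g L203556) q13018, e3 q12674 L205147 q13153, e3 q12675 (flp_g L200347) q12095, e3 q12676 (flp_g L204784) q13119, e3 q12677 L205170 q13156, e3 q12678 L205181 q13158, e3 q12679 (flp_g L200372) q12098, e3 q12680 L205185 q13159, e3 q12681 (flp_g L200392) q12101, e3 q12682 L205201 q13160, e3 q12683 L200430 q12407, e3 q12684 (flp_g L200432) q12103, e3 q12685 (flp_g L200438) q12105, e3 q12686 (flp_g L200448) q12107, e3 q12687 (flp_g L200454) q12108, e3 q12688 L200466 q12418, e3 q12689 L205253 q13164, e3 q12690 (flp_g L200478) q12111, e3 q12691 L205261 q13165, e3 q12692 (flp_g L200494) q12113, e3 q12693 (flp_g L203733) q13032, e3 q12694 L200512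 q12386, e3 q12695 L205321 q13171, e3 q12696 L205327 q13172, e3 q12697 L200542 q12380, e3 q12698 (flp_g L200546) q12118, e3 q12699 (flp_g L200940) q12740, e3 q12700 L205365 q13176, e3 q12701 (flp_g L200845) q12727, e3 q12702 L205383 q13178, e3 q12703 (flp_g L200584) q12122, e3 q12704 (flp_g L200590) q12123, e3 q12705 (flp_g L200596) q12126, e3 q12706 (flp_g L200608) q12128, e3 q12707 L200622 q12385, e3 q12708 L200630 q12373, e3 q12709 L200641 q12379, e3 q12710 (flp_g L200835) q12726, e3 q12711 L200666 q12404, e3 q12712 (flp_g L200670) q12138, e3 q12713 (flp_g L200686) q12140, e3 q12714 (flp_g L200700) q12144, e3 q12715 L200718 q12158, e3 q12716 L205427 q13182, e3 q12717 (flp_g L200731) q12146, e3 q12718 (flp_g L200741) q12147, e3 q12719 L200759 q12374, e3 q12720 L205460 q13185, e3 q12721 L200779 q12376, e3 q12722 L205482 q13187, e3 q12723 (flp_g L200794) q12152, e3 q12724 L200812 q12489, e3 q12725 L205519 q13190, e3 q12726 L200835 q12710, e3 q12727 L200845 q12701, e3 q12728 (flp_g L203020)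 q12961, e3 q12729 L205566 q13195, e3 q12730 (flp_g L200858) q12157, e3 q12731 L205573 q13197, e3 q12732 (flp_g L200868) q12159, e3 q12733 L205577 q13198, e3 q12734 (flp_g L200888) q12162, e3 q12735 (flp_g L200970) q12743, trivial⟩ (by decide +kernel)

theorem ce_g_199 : ∀ r, r < 64 → sm gg (Qf (12736 + r)) = Qf (tab Gen.g (12736 + r)) :=
  edges_tab (sm gg) Qf (tab Gen.g) 12736 [(12736, 12826), (12737, 12827), (12738, 13203), (12739, 12165), (12740, 12699), (12741, 13205), (12742, 12168), (12743, 12735), (12744, 12174), (12745, 12176), (12746, 12178), (12747, 13206), (12748, 13207), (12749, 12183), (12750, 12184), (12751, 12982), (12752, 13209), (12753, 12188), (12754, 12189), (12755, 12217), (12756, 13211), (12757, 12192), (12758, 12193), (12759, 12195), (12760, 13212), (12761, 12225), (12762, 12198), (12763, 12199), (12764, 12405), (12765, 13216), (12766, 12408), (12767, 13218), (12768, 12205), (12769, 12206), (12770, 12772), (12771, 13221), (12772, 12770), (12773, 13224), (12774, 13045),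 (12775, 13226), (12776, 12214), (12777, 13069), (12778, 13229), (12779, 12216), (12780, 13231), (12781, 12218), (12782, 12220), (12783, 12224), (12784, 13232), (12785, 12226), (12786, 12227), (12787, 12228), (12788, 12229), (12789, 13233), (12790, 12232), (12791, 12234), (12792, 12240), (12793, 13014), (12794, 13235), (12795, 12243), (12796, 12508), (12797, 13237), (12798, 12245), (12799, 13239)]
    ⟨e3 q12736 (flp_g L201828) q12826, e3 q12737 (flp_g L201836) q12827, e3 q12738 L205631 q13203, e3 q12739 (flp_g L200928) q12165, e3 q12740 L200940 q12699, e3 q12741 L205649 q13205, e3 q12742 (flp_g L200952) q12168, e3 q12743 L200970 q12735, e3 q12744 (flp_g L200974) q12174, e3 q12745 (flp_g L200986) q12176, e3 q12746 (flp_g L200996) q12178, e3 q12747 L205657 q13206, e3 q12748 L205669 q13207, e3 q12749 (flp_g L201032) q12183, e3 q12750 (flp_g L201042) q12184, e3 q12751 (flp_g L203208) q12982, e3 q12752 L205697 q13209, e3 q12753 (flp_g L201071) q12188, e3 q12754 (flp_g L201079) q12189, e3 q12755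 L201095 q12217, e3 q12756 L205713 q13211, e3 q12757 (flp_g L201108) q12192, e3 q12758 (flp_g L201118) q12193, e3 q12759 (flp_g L201130) q12195, e3 q12760 (flp_g L205735) q13212, e3 q12761 L201164 q12225, e3 q12762 (flp_g L201166) q12198, e3 q12763 (flp_g L201176) q12199, e3 q12764 L201194 q12405, e3 q12765 L205774 q13216, e3 q12766 L201216 q12408, e3 q12767 L205796 q13218, e3 q12768 (flp_g L201229) q12205, e3 q12769 (flp_g L201241) q12206, e3 q12770 (flp_g L201285) q12772, e3 q12771 L205833 q13221, e3 q12772 L201285 q12770, e3 q12773 L205876 q13224, e3 q12774 (flp_g L203921) q13045, e3 q12775 L205898 q13226, e3 q12776 (flp_g L201320) q12214, e3 q12777 (flp_g L204242) q13069, e3 q12778 L205923 q13229, e3 q12779 (flp_g L201345) q12216, e3 q12780 L205938 q13231, e3 q12781 (flp_g L201357) q12218, e3 q12782 (flp_g L201365) q12220, e3 q12783 L201377 q12224, e3 q12784 (flp_g L205946) q13232, e3 q12785 (flp_g L201383) q12226, e3 q12786 (flp_g L201389) q12227, e3 q12787 (flp_g L201399) q12228, e3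 q12788 (flp_g L201411) q12229, e3 q12789 L205948 q13233, e3 q12790 (flp_g L201437) q12232, e3 q12791 (flp_g L201451) q12234, e3 q12792 (flp_g L201465) q12240, e3 q12793 (flp_g L203499) q13014, e3 q12794 L205968 q13235, e3 q12795 (flp_g L201494) q12243, e3 q12796 L201510 q12508, e3 q12797 L205992 q13237, e3 q12798 (flp_g L201533) q12245, e3 q12799 L206013 q13239, trivial⟩ (by decide +kernel)

theorem ce_g_200 : ∀ r, r < 64 → sm gg (Qf (12800 + r)) = Qf (tab Gen.g (12800 + r)) :=
  edges_tab (sm gg) Qf (tab Gen.g) 12800 [(12800, 12247), (12801, 12249), (12802, 12252), (12803, 12253), (12804, 12294), (12805, 13241), (12806, 12258), (12807, 13242), (12808, 12261), (12809, 13243), (12810, 12443), (12811, 12444), (12812, 13248), (12813, 12446), (12814, 12447), (12815, 12448), (12816, 13253), (12817, 12268), (12818, 12269), (12819, 12458), (12820, 13255), (12821, 12272), (12822, 13256), (12823, 12382), (12824, 12383), (12825, 13259), (12826, 12736), (12827, 12737), (12828, 13262), (12829, 12279),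 (12830, 12960), (12831, 12952), (12832, 13265), (12833, 12282), (12834, 12956), (12835, 13267), (12836, 12285), (12837, 13268), (12838, 12288), (12839, 13269), (12840, 13270), (12841, 12292), (12842, 13271), (12843, 12295), (12844, 12395), (12845, 12396), (12846, 13275), (12847, 12398), (12848, 12399), (12849, 13279), (12850, 12301), (12851, 13280), (12852, 12303), (12853, 12667), (12854, 13283), (12855, 13284), (12856, 13051), (12857, 13286), (12858, 12309), (12859, 12468), (12860, 13288), (12861, 12311), (12862, 13290), (12863, 12313)]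
    ⟨e3 q12800 (flp_g L201555) q12247, e3 q12801 (flp_g L201561) q12249, e3 q12802 (flp_g L201567) q12252, e3 q12803 (flp_g L201577) q12253, e3 q12804 L201601 q12294, e3 q12805 L206031 q13241, e3 q12806 (flp_g L201615) q12258, e3 q12807 L206043 q13242, e3 q12808 (flp_g L201635) q12261, e3 q12809 L206053 q13243, e3 q12810 L201660 q12443, e3 q12811 L201674 q12444, e3 q12812 L206117 q13248, e3 q12813 L201699 q12446, e3 q12814 L201709 q12447, e3 q12815 L201715 q12448, e3 q12816 L206168 q13253, e3 q12817 (flp_g L201726) q12268, e3 q12818 (flp_g L201736) q12269, e3 q12819 L201752 q12458, e3 q12820 L206184 q13255, e3 q12821 (flp_g L201764) q12272, e3 q12822 L206194 q13256, e3 q12823 L201790 q12382, e3 q12824 L201804 q12383, e3 q12825 L206232 q13259, e3 q12826 L201828 q12736, e3 q12827 L201836 q12737, e3 q12828 L206264 q13262, e3 q12829 (flp_g L201848) q12279, e3 q12830 (flp_g L203012) q12960, e3 q12831 (flp_g L202930) q12952, e3 q12832 L206290 q13265, e3 q12833 (flp_g L201876) q12282, e3 q12834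 (flp_g L202968) q12956, e3 q12835 L206306 q13267, e3 q12836 (flp_g L201898) q12285, e3 q12837 L206312 q13268, e3 q12838 (flp_g L201914) q12288, e3 q12839 L206324 q13269, e3 q12840 L206332 q13270, e3 q12841 (flp_g L201938) q12292, e3 q12842 L206340 q13271, e3 q12843 (flp_g L201948) q12295, e3 q12844 L201957 q12395, e3 q12845 L201973 q12396, e3 q12846 L206381 q13275, e3 q12847 L201999 q12398, e3 q12848 L202007 q12399, e3 q12849 L206424 q13279, e3 q12850 (flp_g L202018) q12301, e3 q12851 L206434 q13280, e3 q12852 (flp_g L202040) q12303, e3 q12853 L202056 q12667, e3 q12854 L206473 q13283, e3 q12855 L206485 q13284, e3 q12856 (flp_g L203993) q13051, e3 q12857 L206505 q13286, e3 q12858 (flp_g L202097) q12309, e3 q12859 L202107 q12468, e3 q12860 L206519 q13288, e3 q12861 (flp_g L202120) q12311, e3 q12862 L206532 q13290, e3 q12863 (flp_g L202134) q12313, trivial⟩ (by decide +kernel)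

theorem ce_g_201 : ∀ r, r < 64 → sm gg (Qf (12864 + r)) = Qf (tab Gen.g (12864 + r)) :=
  edges_tab (sm gg) Qf (tab Gen.g) 12864 [(12864, 12315), (12865, 13291), (12866, 12319), (12867, 12320), (12868, 12321), (12869, 13292), (12870, 12326), (12871, 12327), (12872, 12328), (12873, 12590), (12874, 13294), (12875, 13295), (12876, 13296), (12877, 12336), (12878, 12425), (12879, 13298), (12880, 12339), (12881, 13299), (12882, 12341), (12883, 12343), (12884, 12345), (12885, 13300), (12886, 12348), (12887, 12349), (12888, 12350), (12889, 12351), (12890, 13301), (12891, 12354), (12892, 13302), (12893, 12357), (12894, 12358), (12895, 12363), (12896, 13179), (12897, 13168), (12898, 13183), (12899, 13308), (12900, 12375), (12901, 13310), (12902, 13099), (12903, 12377), (12904, 13180), (12905, 13170), (12906, 13107), (12907, 13317), (12908, 12381), (12909, 12917), (12910, 13257), (12911, 12976), (12912, 13322), (12913, 12384), (12914, 13166), (12915, 13324), (12916, 12387), (12917, 12909), (12918,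 12392), (12919, 13325), (12920, 13095), (12921, 13272), (12922, 13273), (12923, 13330), (12924, 12397), (12925, 13276), (12926, 13333), (12927, 13335)]
    ⟨e3 q12864 (flp_g L202142) q12315, e3 q12865 L206538 q13291, e3 q12866 (flp_g L202156) q12319, e3 q12867 (flp_g L202164) q12320, e3 q12868 (flp_g L202174) q12321, e3 q12869 L206546 q13292, e3 q12870 (flp_g L202192) q12326, e3 q12871 (flp_g L202202) q12327, e3 q12872 (flp_g L202216) q12328, e3 q12873 L202236 q12590, e3 q12874 L206570 q13294, e3 q12875 L206584 q13295, e3 q12876 L206600 q13296, e3 q12877 (flp_g L202284) q12336, e3 q12878 L202296 q12425, e3 q12879 L206620 q13298, e3 q12880 (flp_g L202312) q12339, e3 q12881 L206632 q13299, e3 q12882 (flp_g L202330) q12341, e3 q12883 (flp_g L202342) q12343, e3 q12884 (flp_g L202350) q12345, e3 q12885 L206642 q13300, e3 q12886 (flp_g L202370) q12348, e3 q12887 (flp_g L202378) q12349, e3 q12888 (flp_g L202390) q12350, e3 q12889 (flp_g L202402) q12351, e3 q12890 L206656 q13301, e3 q12891 (flp_g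 L202424) q12354, e3 q12892 L206668 q13302, e3 q12893 (flp_g L202442) q12357, e3 q12894 (flp_g L202454) q12358, e3 q12895 (flp_g L202466) q12363, e3 q12896 (flp_g L205397) q13179, e3 q12897 (flp_g L205297) q13168, e3 q12898 (flp_g L205443) q13183, e3 q12899 L206722 q13308, e3 q12900 (flp_g L202510) q12375, e3 q12901 L206733 q13310, e3 q12902 (flp_g L204583) q13099, e3 q12903 (flp_g L202529) q12377, e3 q12904 (flp_g L205414) q13180, e3 q12905 (flp_g L205317) q13170, e3 q12906 (flp_g L204656) q13107, e3 q12907 L206783 q13317, e3 q12908 (flp_g L202569) q12381, e3 q12909 (flp_g L202669) q12917, e3 q12910 (flp_g L206214) q13257, e3 q12911 (flp_g L203154) q12976, e3 q12912 L206841 q13322, e3 q12913 (flp_g L202625) q12384, e3 q12914 (flp_g L205279) q13166, e3 q12915 L206861 q13324, e3 q12916 (flp_g L202653) q12387, e3 q12917 L202669 q12909, e3 q12918 (flp_g L202673) q12392, e3 q12919 (flp_g L206869) q13325, e3 q12920 (flp_g L204538) q13095, e3 q12921 (flp_g L206352) q13272, e3 q12922 (flp_g L206362)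 q13273, e3 q12923 L206902 q13330, e3 q12924 (flp_g L202716) q12397, e3 q12925 (flp_g L206401) q13276, e3 q12926 L206927 q13333, e3 q12927 L206938 q13335, trivial⟩ (by decide +kernel)

theorem ce_g_202 : ∀ r, r < 64 → sm gg (Qf (12928 + r)) = Qf (tab Gen.g (12928 + r)) :=
  edges_tab (sm gg) Qf (tab Gen.g) 12928 [(12928, 12400), (12929, 12402), (12930, 13162), (12931, 13214), (12932, 13340), (12933, 12406), (12934, 13148), (12935, 13342), (12936, 13344), (12937, 13109), (12938, 12409), (12939, 12411), (12940, 12412), (12941, 13347), (12942, 13103), (12943, 12415), (12944, 13349), (12945, 12417), (12946, 13352), (12947, 12419), (12948, 13353), (12949, 12421), (12950, 12422), (12951, 13028), (12952, 12831), (12953, 13356), (12954, 13357), (12955, 12427), (12956, 12834), (12957, 13358), (12958, 12431), (12959, 12432), (12960, 12830), (12961, 12728), (12962, 13360), (12963, 12442), (12964, 13244), (12965, 13245), (12966, 13246), (12967, 13365), (12968, 12445), (12969, 13249), (12970, 13250),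 (12971, 13369), (12972, 13371), (12973, 12449), (12974, 13372), (12975, 12452), (12976, 12911), (12977, 13374), (12978, 13375), (12979, 12456), (12980, 13376), (12981, 12459), (12982, 12751), (12983, 13378), (12984, 12462), (12985, 13133), (12986, 13380), (12987, 12464), (12988, 13382), (12989, 12466), (12990, 13384), (12991, 13188)]
    ⟨e3 q12928 (flp_g L202741) q12400, e3 q12929 (flp_g L202749) q12402, e3 q12930 (flp_g L205239) q13162, e3 q12931 (flp_g L205755) q13214, e3 q12932 L206972 q13340, e3 q12933 (flp_g L202776) q12406, e3 q12934 (flp_g L205112) q13148, e3 q12935 L206984 q13342, e3 q12936 L206997 q13344, e3 q12937 (flp_g L204676) q13109, e3 q12938 (flp_g L202810) q12409, e3 q12939 (flp_g L202816) q12411, e3 q12940 (flp_g L202822) q12412, e3 q12941 (flp_g L207024) q13347, e3 q12942 (flp_g L204620) q13103, e3 q12943 (flp_g L202842) q12415, e3 q12944 (flp_g L207042) q13349, e3 q12945 L202862 q12417, e3 q12946 (flp_g L207072) q13352, e3 q12947 (flp_g L202874) q12419, e3 q12948 L207074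 q13353, e3 q12949 (flp_g L202898) q12421, e3 q12950 (flp_g L202906) q12422, e3 q12951 (flp_g L203681) q13028, e3 q12952 L202930 q12831, e3 q12953 L207108 q13356, e3 q12954 L207114 q13357, e3 q12955 (flp_g L202954) q12427, e3 q12956 L202968 q12834, e3 q12957 L207128 q13358, e3 q12958 (flp_g L202984) q12431, e3 q12959 (flp_g L202990) q12432, e3 q12960 L203012 q12830, e3 q12961 L203020 q12728, e3 q12962 L207148 q13360, e3 q12963 (flp_g L203035) q12442, e3 q12964 (flp_g L206072) q13244, e3 q12965 (flp_g L206086) q13245, e3 q12966 (flp_g L206096) q13246, e3 q12967 L207197 q13365, e3 q12968 (flp_g L203083) q12445, e3 q12969 (flp_g L206139) q13249, e3 q12970 (flp_g L206147) q13250, e3 q12971 L207232 q13369, e3 q12972 L207245 q13371, e3 q12973 (flp_g L203120) q12449, e3 q12974 L207251 q13372, e3 q12975 (flp_g L203136) q12452, e3 q12976 L203154 q12911, e3 q12977 L207275 q13374, e3 q12978 L207287 q13375, e3 q12979 (flp_g L203182) q12456, e3 q12980 L207299 q13376, e3 q12981 (flp_g L203196) q12459,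 e3 q12982 L203208 q12751, e3 q12983 L207317 q13378, e3 q12984 (flp_g L203227) q12462, e3 q12985 (flp_g L204951) q13133, e3 q12986 L207337 q13380, e3 q12987 (flp_g L203256) q12464, e3 q12988 L207352 q13382, e3 q12989 (flp_g L203268) q12466, e3 q12990 L207361 q13384, e3 q12991 (flp_g L205498) q13188, trivial⟩ (by decide +kernel)

theorem ce_g_203 : ∀ r, r < 64 → sm gg (Qf (12992 + r)) = Qf (tab Gen.g (12992 + r)) :=
  edges_tab (sm gg) Qf (tab Gen.g) 12992 [(12992, 12469), (12993, 13386), (12994, 12471), (12995, 12474), (12996, 12476), (12997, 13387), (12998, 13388), (12999, 12480), (13000, 12482), (13001, 12483), (13002, 13029), (13003, 13391), (13004, 13392), (13005, 13078), (13006, 12487), (13007, 12488), (13008, 13394), (13009, 13395), (13010, 12492), (13011, 12493), (13012, 12499), (13013, 13035), (13014, 12793), (13015, 13397), (13016, 12504), (13017, 12672), (13018, 12673), (13019, 13401), (13020, 12507), (13021, 13403), (13022, 12614), (13023, 12509), (13024, 12618), (13025, 12619),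 (13026, 13408), (13027, 12513), (13028, 12951), (13029, 13002), (13030, 13412), (13031, 12516), (13032, 12693), (13033, 13414), (13034, 12519), (13035, 13013), (13036, 12523), (13037, 12541), (13038, 13416), (13039, 12526), (13040, 12527), (13041, 12529), (13042, 12531), (13043, 12533), (13044, 13417), (13045, 12774), (13046, 13419), (13047, 12537), (13048, 12583), (13049, 13421), (13050, 12539), (13051, 12856), (13052, 13423), (13053, 13425), (13054, 12542), (13055, 12544)]
    ⟨e3 q12992 (flp_g L203287) q12469, e3 q12993 L207373 q13386, e3 q12994 (flp_g L203298) q12471, e3 q12995 (flp_g L203302) q12474, e3 q12996 (flp_g L203314) q12476, e3 q12997 L207377 q13387, e3 q12998 L207391 q13388, e3 q12999 (flp_g L203350) q12480, e3 q13000 (flp_g L203358) q12482, e3 q13001 (flp_g L203368) q12483, e3 q13002 (flp_g L203691) q13029, e3 q13003 L207427 q13391, e3 q13004 L207437 q13392, e3 q13005 (flp_g L204344) q13078, e3 q13006 (flp_g L203424) q12487, e3 q13007 (flp_g L203430) q12488, e3 q13008 (flp_g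 L207465) q13394, e3 q13009 L207467 q13395, e3 q13010 (flp_g L203454) q12492, e3 q13011 (flp_g L203460) q12493, e3 q13012 L203478 q12499, e3 q13013 (flp_g L203771) q13035, e3 q13014 L203499 q12793, e3 q13015 L207487 q13397, e3 q13016 (flp_g L203522) q12504, e3 q13017 L203546 q12672, e3 q13018 L203556 q12673, e3 q13019 L207540 q13401, e3 q13020 (flp_g L203575) q12507, e3 q13021 L207561 q13403, e3 q13022 L203604 q12614, e3 q13023 (flp_g L203608) q12509, e3 q13024 L203626 q12618, e3 q13025 L203636 q12619, e3 q13026 L207616 q13408, e3 q13027 (flp_g L203657) q12513, e3 q13028 L203681 q12951, e3 q13029 L203691 q13002, e3 q13030 L207672 q13412, e3 q13031 (flp_g L203711) q12516, e3 q13032 L203733 q12693, e3 q13033 L207702 q13414, e3 q13034 (flp_g L203749) q12519, e3 q13035 L203771 q13013, e3 q13036 (flp_g L203776) q12523, e3 q13037 L203798 q12541, e3 q13038 L207726 q13416, e3 q13039 (flp_g L203821) q12526, e3 q13040 (flp_g L203837) q12527, e3 q13041 (flp_g L203853) q12529, e3 q13042 (flp_g L203869)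 q12531, e3 q13043 (flp_g L203887) q12533, e3 q13044 (flp_g L207754) q13417, e3 q13045 L203921 q12774, e3 q13046 L207766 q13419, e3 q13047 (flp_g L203938) q12537, e3 q13048 L203954 q12583, e3 q13049 L207792 q13421, e3 q13050 (flp_g L203973) q12539, e3 q13051 L203993 q12856, e3 q13052 L207814 q13423, e3 q13053 L207835 q13425, e3 q13054 (flp_g L204018) q12542, e3 q13055 (flp_g L204026) q12544, trivial⟩ (by decide +kernel)

theorem ce_g_204 : ∀ r, r < 64 → sm gg (Qf (13056 + r)) = Qf (tab Gen.g (13056 + r)) :=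
  edges_tab (sm gg) Qf (tab Gen.g) 13056 [(13056, 12546), (13057, 12549), (13058, 12554), (13059, 12557), (13060, 12561), (13061, 12562), (13062, 12563), (13063, 12565), (13064, 13426), (13065, 12568), (13066, 12572), (13067, 12576), (13068, 12578), (13069, 12777), (13070, 13429), (13071, 12581), (13072, 13138), (13073, 13431), (13074, 13433), (13075, 12584), (13076, 12586), (13077, 13434), (13078, 13005), (13079, 12588), (13080, 13436), (13081, 12591), (13082, 12623), (13083, 13438), (13084, 13440), (13085, 12596), (13086, 12598), (13087, 12600), (13088, 13441), (13089, 12602), (13090, 12603), (13091, 13096), (13092, 13443), (13093, 12608), (13094, 12609), (13095, 12920), (13096, 13091), (13097, 13447), (13098, 12612), (13099, 12902), (13100, 13450), (13101, 13452), (13102, 12615), (13103, 12942), (13104, 13405), (13105, 13457), (13106, 13459), (13107, 12906), (13108, 12620), (13109, 12937), (13110, 13462), (13111, 13464), (13112, 12624), (13113, 13465), (13114, 12625), (13115, 12628),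 (13116, 12630), (13117, 13467), (13118, 12633), (13119, 12676)]
    ⟨e3 q13056 (flp_g L204042) q12546, e3 q13057 (flp_g L204058) q12549, e3 q13058 (flp_g L204074) q12554, e3 q13059 (flp_g L204092) q12557, e3 q13060 L204120 q12561, e3 q13061 (flp_g L204122) q12562, e3 q13062 (flp_g L204136) q12563, e3 q13063 (flp_g L204148) q12565, e3 q13064 L207843 q13426, e3 q13065 (flp_g L204172) q12568, e3 q13066 (flp_g L204184) q12572, e3 q13067 (flp_g L204200) q12576, e3 q13068 (flp_g L204218) q12578, e3 q13069 L204242 q12777, e3 q13070 L207880 q13429, e3 q13071 (flp_g L204261) q12581, e3 q13072 (flp_g L205002) q13138, e3 q13073 L207906 q13431, e3 q13074 L207925 q13433, e3 q13075 (flp_g L204304) q12584, e3 q13076 (flp_g L204310) q12586, e3 q13077 L207933 q13434, e3 q13078 L204344 q13005, e3 q13079 (flp_g L204348) q12588, e3 q13080 L207959 q13436, e3 q13081 (flp_g L204372) q12591, e3 q13082 L204390 q12623, e3 q13083 L207981 q13438, e3 q13084 L208002 q13440, e3 q13085 (flp_g L204413) q12596, e3 q13086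 (flp_g L204423) q12598, e3 q13087 (flp_g L204439) q12600, e3 q13088 L208010 q13441, e3 q13089 (flp_g L204465) q12602, e3 q13090 (flp_g L204479) q12603, e3 q13091 (flp_g L204546) q13096, e3 q13092 L208036 q13443, e3 q13093 (flp_g L204510) q12608, e3 q13094 (flp_g L204516) q12609, e3 q13095 L204538 q12920, e3 q13096 L204546 q13091, e3 q13097 L208081 q13447, e3 q13098 (flp_g L204565) q12612, e3 q13099 L204583 q12902, e3 q13100 L208114 q13450, e3 q13101 L208133 q13452, e3 q13102 (flp_g L204604) q12615, e3 q13103 L204620 q12942, e3 q13104 (flp_g L207583) q13405, e3 q13105 L208183 q13457, e3 q13106 L208198 q13459, e3 q13107 L204656 q12906, e3 q13108 (flp_g L204662) q12620, e3 q13109 L204676 q12937, e3 q13110 L208228 q13462, e3 q13111 L208249 q13464, e3 q13112 (flp_g L204703) q12624, e3 q13113 L208257 q13465, e3 q13114 (flp_g L204716) q12625, e3 q13115 (flp_g L204722) q12628, e3 q13116 (flp_g L204738) q12630, e3 q13117 L208274 q13467, e3 q13118 (flp_g L204764) q12633, e3 q13119 L204784 q12676,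 trivial⟩ (by decide +kernel)

theorem ce_g_205 : ∀ r, r < 64 → sm gg (Qf (13120 + r)) = Qf (tab Gen.g (13120 + r)) :=
  edges_tab (sm gg) Qf (tab Gen.g) 13120 [(13120, 13469), (13121, 13471), (13122, 12638), (13123, 12640), (13124, 12642), (13125, 13472), (13126, 13473), (13127, 12645), (13128, 13474), (13129, 12648), (13130, 12651), (13131, 12652), (13132, 12655), (13133, 12985), (13134, 13476), (13135, 12657), (13136, 13478), (13137, 12659), (13138, 13072), (13139, 13480), (13140, 12664), (13141, 12669), (13142, 13482), (13143, 12666), (13144, 13281), (13145, 13484), (13146, 12668), (13147, 13486), (13148, 12934), (13149, 12670), (13150, 13398), (13151, 13491), (13152, 13493), (13153, 12674), (13154, 13192), (13155, 13496), (13156, 12677), (13157, 13497), (13158, 12678), (13159, 12680), (13160, 12682), (13161, 13498), (13162, 12930), (13163, 13500), (13164, 12689), (13165, 12691), (13166, 12914), (13167, 13504), (13168, 12897), (13169, 13506), (13170, 12905), (13171, 12695), (13172, 12696),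 (13173, 13508), (13174, 13191), (13175, 13510), (13176, 12700), (13177, 13511), (13178, 12702), (13179, 12896), (13180, 12904), (13181, 13513), (13182, 12716), (13183, 12898)]
    ⟨e3 q13120 L208296 q13469, e3 q13121 L208321 q13471, e3 q13122 (flp_g L204811) q12638, e3 q13123 (flp_g L204823) q12640, e3 q13124 (flp_g L204839) q12642, e3 q13125 L208333 q13472, e3 q13126 L208347 q13473, e3 q13127 (flp_g L204871) q12645, e3 q13128 L208355 q13474, e3 q13129 (flp_g L204895) q12648, e3 q13130 (flp_g L204903) q12651, e3 q13131 (flp_g L204919) q12652, e3 q13132 (flp_g L204935) q12655, e3 q13133 L204951 q12985, e3 q13134 L208379 q13476, e3 q13135 (flp_g L204968) q12657, e3 q13136 L208396 q13478, e3 q13137 (flp_g L204988) q12659, e3 q13138 L205002 q13072, e3 q13139 L208414 q13480, e3 q13140 (flp_g L205021) q12664, e3 q13141 L205039 q12669, e3 q13142 L208440 q13482, e3 q13143 (flp_g L205058) q12666, e3 q13144 (flp_g L206454) q13281, e3 q13145 L208464 q13484, e3 q13146 (flp_g L205089) q12668, e3 q13147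 L208479 q13486, e3 q13148 L205112 q12934, e3 q13149 (flp_g L205116) q12670, e3 q13150 (flp_g L207509) q13398, e3 q13151 L208523 q13491, e3 q13152 L208538 q13493, e3 q13153 (flp_g L205147) q12674, e3 q13154 (flp_g L205545) q13192, e3 q13155 L208561 q13496, e3 q13156 (flp_g L205170) q12677, e3 q13157 L208569 q13497, e3 q13158 (flp_g L205181) q12678, e3 q13159 (flp_g L205185) q12680, e3 q13160 (flp_g L205201) q12682, e3 q13161 (flp_g L208585) q13498, e3 q13162 L205239 q12930, e3 q13163 L208601 q13500, e3 q13164 (flp_g L205253) q12689, e3 q13165 (flp_g L205261) q12691, e3 q13166 L205279 q12914, e3 q13167 L208651 q13504, e3 q13168 L205297 q12897, e3 q13169 L208669 q13506, e3 q13170 L205317 q12905, e3 q13171 (flp_g L205321) q12695, e3 q13172 (flp_g L205327) q12696, e3 q13173 (flp_g L208695) q13508, e3 q13174 (flp_g L205537) q13191, e3 q13175 L208709 q13510, e3 q13176 (flp_g L205365) q12700, e3 q13177 L208717 q13511, e3 q13178 (flp_g L205383) q12702, e3 q13179 L205397 q12896, e3 q13180 L205414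 q12904, e3 q13181 L208734 q13513, e3 q13182 (flp_g L205427) q12716, e3 q13183 L205443 q12898, trivial⟩ (by decide +kernel)

theorem ce_g_206 : ∀ r, r < 64 → sm gg (Qf (13184 + r)) = Qf (tab Gen.g (13184 + r)) :=
  edges_tab (sm gg) Qf (tab Gen.g) 13184 [(13184, 13515), (13185, 12720), (13186, 13517), (13187, 12722), (13188, 12991), (13189, 13519), (13190, 12725), (13191, 13174), (13192, 13154), (13193, 13522), (13194, 13524), (13195, 12729), (13196, 13525), (13197, 12731), (13198, 12733), (13199, 13200), (13200, 13199), (13201, 13528), (13202, 13529), (13203, 12738), (13204, 13530), (13205, 12741), (13206, 12747), (13207, 12748), (13208, 13532), (13209, 12752), (13210, 13534), (13211, 12756), (13212, 12760), (13213, 13535), (13214, 12931), (13215, 13538), (13216, 12765), (13217, 13540), (13218, 12767), (13219, 13222), (13220, 13542), (13221, 12771), (13222, 13219), (13223, 13544), (13224, 12773), (13225, 13546), (13226, 12775), (13227, 13548), (13228, 13428), (13229, 12778), (13230, 13550),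 (13231, 12780), (13232, 12784), (13233, 12789), (13234, 13552), (13235, 12794), (13236, 13554), (13237, 12797), (13238, 13555), (13239, 12799), (13240, 13556), (13241, 12805), (13242, 12807), (13243, 12809), (13244, 12964), (13245, 12965), (13246, 12966), (13247, 13561)]
    ⟨e3 q13184 L208754 q13515, e3 q13185 (flp_g L205460) q12720, e3 q13186 L208773 q13517, e3 q13187 (flp_g L205482) q12722, e3 q13188 L205498 q12991, e3 q13189 L208795 q13519, e3 q13190 (flp_g L205519) q12725, e3 q13191 L205537 q13174, e3 q13192 L205545 q13154, e3 q13193 L208827 q13522, e3 q13194 L208842 q13524, e3 q13195 (flp_g L205566) q12729, e3 q13196 L208848 q13525, e3 q13197 (flp_g L205573) q12731, e3 q13198 (flp_g L205577) q12733, e3 q13199 (flp_g L205609) q13200, e3 q13200 L205609 q13199, e3 q13201 L208876 q13528, e3 q13202 L208884 q13529, e3 q13203 (flp_g L205631) q12738, e3 q13204 L208892 q13530, e3 q13205 (flp_g L205649) q12741, e3 q13206 (flp_g L205657) q12747, e3 q13207 (flp_g L205669) q12748, e3 q13208 L208913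 q13532, e3 q13209 (flp_g L205697) q12752, e3 q13210 L208930 q13534, e3 q13211 (flp_g L205713) q12756, e3 q13212 L205735 q12760, e3 q13213 (flp_g L208952) q13535, e3 q13214 L205755 q12931, e3 q13215 L208975 q13538, e3 q13216 (flp_g L205774) q12765, e3 q13217 L208996 q13540, e3 q13218 (flp_g L205796) q12767, e3 q13219 (flp_g L205853) q13222, e3 q13220 L209020 q13542, e3 q13221 (flp_g L205833) q12771, e3 q13222 L205853 q13219, e3 q13223 L209048 q13544, e3 q13224 (flp_g L205876) q12773, e3 q13225 L209071 q13546, e3 q13226 (flp_g L205898) q12775, e3 q13227 L209084 q13548, e3 q13228 (flp_g L207874) q13428, e3 q13229 (flp_g L205923) q12778, e3 q13230 L209100 q13550, e3 q13231 (flp_g L205938) q12780, e3 q13232 L205946 q12784, e3 q13233 (flp_g L205948) q12789, e3 q13234 L209113 q13552, e3 q13235 (flp_g L205968) q12794, e3 q13236 L209134 q13554, e3 q13237 (flp_g L205992) q12797, e3 q13238 L209150 q13555, e3 q13239 (flp_g L206013) q12799, e3 q13240 L209156 q13556, e3 q13241 (flp_g L206031) q12805,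 e3 q13242 (flp_g L206043) q12807, e3 q13243 (flp_g L206053) q12809, e3 q13244 L206072 q12964, e3 q13245 L206086 q12965, e3 q13246 L206096 q12966, e3 q13247 L209221 q13561, trivial⟩ (by decide +kernel)

theorem ce_g_207 : ∀ r, r < 64 → sm gg (Qf (13248 + r)) = Qf (tab Gen.g (13248 + r)) :=
  edges_tab (sm gg) Qf (tab Gen.g) 13248 [(13248, 12812), (13249, 12969), (13250, 12970), (13251, 13564), (13252, 13566), (13253, 12816), (13254, 13567), (13255, 12820), (13256, 12822), (13257, 12910), (13258, 13569), (13259, 12825), (13260, 13570), (13261, 13571), (13262, 12828), (13263, 13354), (13264, 13573), (13265, 12832), (13266, 13574), (13267, 12835), (13268, 12837), (13269, 12839), (13270, 12840), (13271, 12842), (13272, 12921), (13273, 12922), (13274, 13578), (13275, 12846), (13276, 12925), (13277, 13580), (13278, 13582), (13279, 12849), (13280, 12851), (13281, 13144), (13282, 13584), (13283, 12854), (13284, 12855), (13285, 13586), (13286, 12857), (13287, 13588), (13288, 12860), (13289, 13589),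 (13290, 12862), (13291, 12865), (13292, 12869), (13293, 13590), (13294, 12874), (13295, 12875), (13296, 12876), (13297, 13591), (13298, 12879), (13299, 12881), (13300, 12885), (13301, 12890), (13302, 12892), (13303, 13501), (13304, 13489), (13305, 13596), (13306, 13598), (13307, 13448), (13308, 12899), (13309, 13600), (13310, 12901), (13311, 13602)]
    ⟨e3 q13248 (flp_g L206117) q12812, e3 q13249 L206139 q12969, e3 q13250 L206147 q12970, e3 q13251 L209253 q13564, e3 q13252 L209268 q13566, e3 q13253 (flp_g L206168) q12816, e3 q13254 L209276 q13567, e3 q13255 (flp_g L206184) q12820, e3 q13256 (flp_g L206194) q12822, e3 q13257 L206214 q12910, e3 q13258 L209298 q13569, e3 q13259 (flp_g L206232) q12825, e3 q13260 L209312 q13570, e3 q13261 L209322 q13571, e3 q13262 (flp_g L206264) q12828, e3 q13263 (flp_g L207092) q13354, e3 q13264 L209342 q13573, e3 q13265 (flp_g L206290) q12832, e3 q13266 L209348 q13574, e3 q13267 (flp_g L206306) q12835, e3 q13268 (flp_g L206312) q12837, e3 q13269 (flp_g L206324)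 q12839, e3 q13270 (flp_g L206332) q12840, e3 q13271 (flp_g L206340) q12842, e3 q13272 L206352 q12921, e3 q13273 L206362 q12922, e3 q13274 L209397 q13578, e3 q13275 (flp_g L206381) q12846, e3 q13276 L206401 q12925, e3 q13277 L209419 q13580, e3 q13278 L209438 q13582, e3 q13279 (flp_g L206424) q12849, e3 q13280 (flp_g L206434) q12851, e3 q13281 L206454 q13144, e3 q13282 L209456 q13584, e3 q13283 (flp_g L206473) q12854, e3 q13284 (flp_g L206485) q12855, e3 q13285 L209475 q13586, e3 q13286 (flp_g L206505) q12857, e3 q13287 L209484 q13588, e3 q13288 (flp_g L206519) q12860, e3 q13289 L209492 q13589, e3 q13290 (flp_g L206532) q12862, e3 q13291 (flp_g L206538) q12865, e3 q13292 (flp_g L206546) q12869, e3 q13293 L209496 q13590, e3 q13294 (flp_g L206570) q12874, e3 q13295 (flp_g L206584) q12875, e3 q13296 (flp_g L206600) q12876, e3 q13297 L209514 q13591, e3 q13298 (flp_g L206620) q12879, e3 q13299 (flp_g L206632) q12881, e3 q13300 (flp_g L206642) q12885, e3 q13301 (flp_g L206656) q12890, e3 q13302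 (flp_g L206668) q12892, e3 q13303 (flp_g L208619) q13501, e3 q13304 (flp_g L208507) q13489, e3 q13305 L209570 q13596, e3 q13306 L209585 q13598, e3 q13307 (flp_g L208098) q13448, e3 q13308 (flp_g L206722) q12899, e3 q13309 L209603 q13600, e3 q13310 (flp_g L206733) q12901, e3 q13311 (flp_g L209616) q13602, trivial⟩ (by decide +kernel)

theorem ce_g_208 : ∀ r, r < 64 → sm gg (Qf (13312 + r)) = Qf (tab Gen.g (13312 + r)) :=
  edges_tab (sm gg) Qf (tab Gen.g) 13312 [(13312, 13444), (13313, 13503), (13314, 13456), (13315, 13608), (13316, 13610), (13317, 12907), (13318, 13319), (13319, 13318), (13320, 13613), (13321, 13614), (13322, 12912), (13323, 13615), (13324, 12915), (13325, 12919), (13326, 13616), (13327, 13575), (13328, 13619), (13329, 13621), (13330, 12923), (13331, 13366), (13332, 13624), (13333, 12926), (13334, 13625), (13335, 12927), (13336, 13488), (13337, 13628), (13338, 13630), (13339, 13537), (13340, 12932), (13341, 13633), (13342, 12935), (13343, 13634), (13344, 12936), (13345,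 13636), (13346, 13453), (13347, 12941), (13348, 13638), (13349, 12944), (13350, 13639), (13351, 13640), (13352, 12946), (13353, 12948), (13354, 13263), (13355, 13642), (13356, 12953), (13357, 12954), (13358, 12957), (13359, 13644), (13360, 12962), (13361, 13557), (13362, 13558), (13363, 13647), (13364, 13649), (13365, 12967), (13366, 13331), (13367, 13651), (13368, 13653), (13369, 12971), (13370, 13654), (13371, 12972), (13372, 12974), (13373, 13655), (13374, 12977), (13375, 12978)]
    ⟨e3 q13312 (flp_g L208050) q13444, e3 q13313 (flp_g L208647) q13503, e3 q13314 (flp_g L208177) q13456, e3 q13315 L209674 q13608, e3 q13316 L209691 q13610, e3 q13317 (flp_g L206783) q12907, e3 q13318 (flp_g L206813) q13319, e3 q13319 L206813 q13318, e3 q13320 L209727 q13613, e3 q13321 L209739 q13614, e3 q13322 (flp_g L206841) q12912, e3 q13323 L209749 q13615, e3 q13324 (flp_g L206861) q12915, e3 q13325 L206869 q12919, e3 q13326 (flp_g L209761) q13616, e3 q13327 (flp_g L209364) q13575, e3 q13328 L209786 q13619,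 e3 q13329 L209801 q13621, e3 q13330 (flp_g L206902) q12923, e3 q13331 (flp_g L207209) q13366, e3 q13332 L209824 q13624, e3 q13333 (flp_g L206927) q12926, e3 q13334 L209830 q13625, e3 q13335 (flp_g L206938) q12927, e3 q13336 (flp_g L208502) q13488, e3 q13337 L209859 q13628, e3 q13338 L209874 q13630, e3 q13339 (flp_g L208971) q13537, e3 q13340 (flp_g L206972) q12932, e3 q13341 L209893 q13633, e3 q13342 (flp_g L206984) q12935, e3 q13343 L209899 q13634, e3 q13344 (flp_g L206997) q12936, e3 q13345 (flp_g L209916) q13636, e3 q13346 (flp_g L208143) q13453, e3 q13347 L207024 q12941, e3 q13348 (flp_g L209936) q13638, e3 q13349 L207042 q12944, e3 q13350 (flp_g L209946) q13639, e3 q13351 (flp_g L209960) q13640, e3 q13352 L207072 q12946, e3 q13353 (flp_g L207074) q12948, e3 q13354 L207092 q13263, e3 q13355 L209974 q13642, e3 q13356 (flp_g L207108) q12953, e3 q13357 (flp_g L207114) q12954, e3 q13358 (flp_g L207128) q12957, e3 q13359 L209995 q13644, e3 q13360 (flp_g L207148) q12962, e3 q13361 (flp_g L209178)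 q13557, e3 q13362 (flp_g L209188) q13558, e3 q13363 L210025 q13647, e3 q13364 L210042 q13649, e3 q13365 (flp_g L207197) q12967, e3 q13366 L207209 q13331, e3 q13367 L210060 q13651, e3 q13368 L210075 q13653, e3 q13369 (flp_g L207232) q12971, e3 q13370 L210083 q13654, e3 q13371 (flp_g L207245) q12972, e3 q13372 (flp_g L207251) q12974, e3 q13373 L210089 q13655, e3 q13374 (flp_g L207275) q12977, e3 q13375 (flp_g L207287) q12978, trivial⟩ (by decide +kernel)

theorem ce_g_209 : ∀ r, r < 64 → sm gg (Qf (13376 + r)) = Qf (tab Gen.g (13376 + r)) :=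
  edges_tab (sm gg) Qf (tab Gen.g) 13376 [(13376, 12980), (13377, 13657), (13378, 12983), (13379, 13659), (13380, 12986), (13381, 13660), (13382, 12988), (13383, 13661), (13384, 12990), (13385, 13663), (13386, 12993), (13387, 12997), (13388, 12998), (13389, 13665), (13390, 13411), (13391, 13003), (13392, 13004), (13393, 13667), (13394, 13008), (13395, 13009), (13396, 13669), (13397, 13015), (13398, 13150), (13399, 13671), (13400, 13673), (13401, 13019), (13402, 13674), (13403, 13021), (13404, 13676), (13405, 13104), (13406, 13678), (13407, 13680), (13408, 13026), (13409, 13681), (13410, 13682), (13411, 13390), (13412, 13030), (13413, 13684), (13414, 13033), (13415, 13686), (13416, 13038), (13417, 13044), (13418, 13688), (13419, 13046), (13420, 13690), (13421, 13049), (13422, 13692), (13423, 13052), (13424, 13693), (13425, 13053), (13426, 13064), (13427, 13695), (13428, 13228), (13429, 13070), (13430, 13698), (13431, 13073), (13432, 13699), (13433, 13074), (13434, 13077), (13435, 13700),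 (13436, 13080), (13437, 13702), (13438, 13083), (13439, 13703)]
    ⟨e3 q13376 (flp_g L207299) q12980, e3 q13377 L210116 q13657, e3 q13378 (flp_g L207317) q12983, e3 q13379 L210137 q13659, e3 q13380 (flp_g L207337) q12986, e3 q13381 L210143 q13660, e3 q13382 (flp_g L207352) q12988, e3 q13383 L210149 q13661, e3 q13384 (flp_g L207361) q12990, e3 q13385 (flp_g L210164) q13663, e3 q13386 (flp_g L207373) q12993, e3 q13387 (flp_g L207377) q12997, e3 q13388 (flp_g L207391) q12998, e3 q13389 L210171 q13665, e3 q13390 (flp_g L207666) q13411, e3 q13391 (flp_g L207427) q13003, e3 q13392 (flp_g L207437) q13004, e3 q13393 (flp_g L210201) q13667, e3 q13394 L207465 q13008, e3 q13395 (flp_g L207467) q13009, e3 q13396 L210218 q13669, e3 q13397 (flp_g L207487) q13015, e3 q13398 L207509 q13150, e3 q13399 L210246 q13671, e3 q13400 L210273 q13673, e3 q13401 (flp_g L207540) q13019, e3 q13402 L210285 q13674, e3 q13403 (flp_g L207561) q13021, e3 q13404 (flp_g L210312) q13676, e3 q13405 L207583 q13104, e3 q13406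 L210328 q13678, e3 q13407 L210357 q13680, e3 q13408 (flp_g L207616) q13026, e3 q13409 L210371 q13681, e3 q13410 L210387 q13682, e3 q13411 L207666 q13390, e3 q13412 (flp_g L207672) q13030, e3 q13413 L210417 q13684, e3 q13414 (flp_g L207702) q13033, e3 q13415 L210450 q13686, e3 q13416 (flp_g L207726) q13038, e3 q13417 L207754 q13044, e3 q13418 L210477 q13688, e3 q13419 (flp_g L207766) q13046, e3 q13420 L210500 q13690, e3 q13421 (flp_g L207792) q13049, e3 q13422 L210525 q13692, e3 q13423 (flp_g L207814) q13052, e3 q13424 L210537 q13693, e3 q13425 (flp_g L207835) q13053, e3 q13426 (flp_g L207843) q13064, e3 q13427 L210556 q13695, e3 q13428 L207874 q13228, e3 q13429 (flp_g L207880) q13070, e3 q13430 L210591 q13698, e3 q13431 (flp_g L207906) q13073, e3 q13432 L210601 q13699, e3 q13433 (flp_g L207925) q13074, e3 q13434 (flp_g L207933) q13077, e3 q13435 (flp_g L210619) q13700, e3 q13436 (flp_g L207959) q13080, e3 q13437 L210634 q13702, e3 q13438 (flp_g L207981) q13083, e3 q13439 L210646 q13703,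 trivial⟩ (by decide +kernel)

theorem ce_g_210 : ∀ r, r < 64 → sm gg (Qf (13440 + r)) = Qf (tab Gen.g (13440 + r)) :=
  edges_tab (sm gg) Qf (tab Gen.g) 13440 [(13440, 13084), (13441, 13088), (13442, 13705), (13443, 13092), (13444, 13312), (13445, 13707), (13446, 13709), (13447, 13097), (13448, 13307), (13449, 13712), (13450, 13100), (13451, 13713), (13452, 13101), (13453, 13346), (13454, 13715), (13455, 13717), (13456, 13314), (13457, 13105), (13458, 13719), (13459, 13106), (13460, 13721), (13461, 13723), (13462, 13110), (13463, 13724), (13464, 13111), (13465, 13113), (13466, 13726), (13467, 13117), (13468, 13728), (13469, 13120), (13470, 13729), (13471, 13121), (13472, 13125), (13473, 13126), (13474, 13128), (13475, 13731), (13476, 13134), (13477, 13732), (13478, 13136), (13479, 13734), (13480, 13139), (13481, 13736), (13482, 13142), (13483, 13738), (13484, 13145), (13485, 13739), (13486, 13147), (13487, 13741), (13488, 13336), (13489, 13304), (13490, 13745), (13491, 13151), (13492, 13746),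 (13493, 13152), (13494, 13748), (13495, 13749), (13496, 13155), (13497, 13157), (13498, 13161), (13499, 13751), (13500, 13163), (13501, 13303), (13502, 13753), (13503, 13313)]
    ⟨e3 q13440 (flp_g L208002) q13084, e3 q13441 (flp_g L208010) q13088, e3 q13442 L210663 q13705, e3 q13443 (flp_g L208036) q13092, e3 q13444 L208050 q13312, e3 q13445 L210685 q13707, e3 q13446 L210712 q13709, e3 q13447 (flp_g L208081) q13097, e3 q13448 L208098 q13307, e3 q13449 L210745 q13712, e3 q13450 (flp_g L208114) q13100, e3 q13451 L210757 q13713, e3 q13452 (flp_g L208133) q13101, e3 q13453 L208143 q13346, e3 q13454 L210775 q13715, e3 q13455 L210798 q13717, e3 q13456 L208177 q13314, e3 q13457 (flp_g L208183) q13105, e3 q13458 L210816 q13719, e3 q13459 (flp_g L208198) q13106, e3 q13460 (flp_g L210841) q13721, e3 q13461 L210860 q13723, e3 q13462 (flp_g L208228) q13110, e3 q13463 L210874 q13724, e3 q13464 (flp_g L208249) q13111, e3 q13465 (flp_g L208257) q13113, e3 q13466 L210887 q13726, e3 q13467 (flp_g L208274)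 q13117, e3 q13468 L210910 q13728, e3 q13469 (flp_g L208296) q13120, e3 q13470 L210922 q13729, e3 q13471 (flp_g L208321) q13121, e3 q13472 (flp_g L208333) q13125, e3 q13473 (flp_g L208347) q13126, e3 q13474 (flp_g L208355) q13128, e3 q13475 L210943 q13731, e3 q13476 (flp_g L208379) q13134, e3 q13477 L210955 q13732, e3 q13478 (flp_g L208396) q13136, e3 q13479 L210972 q13734, e3 q13480 (flp_g L208414) q13139, e3 q13481 L210997 q13736, e3 q13482 (flp_g L208440) q13142, e3 q13483 L211022 q13738, e3 q13484 (flp_g L208464) q13145, e3 q13485 L211032 q13739, e3 q13486 (flp_g L208479) q13147, e3 q13487 (flp_g L211057) q13741, e3 q13488 L208502 q13336, e3 q13489 L208507 q13304, e3 q13490 L211088 q13745, e3 q13491 (flp_g L208523) q13151, e3 q13492 L211096 q13746, e3 q13493 (flp_g L208538) q13152, e3 q13494 L211113 q13748, e3 q13495 L211123 q13749, e3 q13496 (flp_g L208561) q13155, e3 q13497 (flp_g L208569) q13157, e3 q13498 L208585 q13161, e3 q13499 (flp_g L211146) q13751, e3 q13500 (flp_g L208601)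 q13163, e3 q13501 L208619 q13303, e3 q13502 L211164 q13753, e3 q13503 L208647 q13313, trivial⟩ (by decide +kernel)

theorem ce_g_211 : ∀ r, r < 64 → sm gg (Qf (13504 + r)) = Qf (tab Gen.g (13504 + r)) :=
  edges_tab (sm gg) Qf (tab Gen.g) 13504 [(13504, 13167), (13505, 13755), (13506, 13169), (13507, 13756), (13508, 13173), (13509, 13757), (13510, 13175), (13511, 13177), (13512, 13758), (13513, 13181), (13514, 13760), (13515, 13184), (13516, 13761), (13517, 13186), (13518, 13763), (13519, 13189), (13520, 13764), (13521, 13766), (13522, 13193), (13523, 13767), (13524, 13194), (13525, 13196), (13526, 13769), (13527, 13770), (13528, 13201), (13529, 13202), (13530, 13204), (13531, 13771), (13532, 13208), (13533, 13772), (13534, 13210), (13535, 13213), (13536, 13774), (13537, 13339), (13538, 13215), (13539, 13776), (13540, 13217), (13541, 13778), (13542, 13220), (13543, 13780), (13544, 13223), (13545, 13781), (13546, 13225), (13547, 13782), (13548, 13227), (13549, 13784), (13550, 13230), (13551,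 13786), (13552, 13234), (13553, 13787), (13554, 13236), (13555, 13238), (13556, 13240), (13557, 13361), (13558, 13362), (13559, 13791), (13560, 13793), (13561, 13247), (13562, 13794), (13563, 13796), (13564, 13251), (13565, 13797), (13566, 13252), (13567, 13254)]
    ⟨e3 q13504 (flp_g L208651) q13167, e3 q13505 L211188 q13755, e3 q13506 (flp_g L208669) q13169, e3 q13507 (flp_g L211206) q13756, e3 q13508 L208695 q13173, e3 q13509 L211210 q13757, e3 q13510 (flp_g L208709) q13175, e3 q13511 (flp_g L208717) q13177, e3 q13512 L211220 q13758, e3 q13513 (flp_g L208734) q13181, e3 q13514 L211239 q13760, e3 q13515 (flp_g L208754) q13184, e3 q13516 L211251 q13761, e3 q13517 (flp_g L208773) q13186, e3 q13518 L211272 q13763, e3 q13519 (flp_g L208795) q13189, e3 q13520 L211286 q13764, e3 q13521 L211305 q13766, e3 q13522 (flp_g L208827) q13193, e3 q13523 L211317 q13767, e3 q13524 (flp_g L208842) q13194, e3 q13525 (flp_g L208848) q13196, e3 q13526 L211326 q13769, e3 q13527 L211338 q13770, e3 q13528 (flp_g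 L208876) q13201, e3 q13529 (flp_g L208884) q13202, e3 q13530 (flp_g L208892) q13204, e3 q13531 L211352 q13771, e3 q13532 (flp_g L208913) q13208, e3 q13533 L211362 q13772, e3 q13534 (flp_g L208930) q13210, e3 q13535 L208952 q13213, e3 q13536 L211381 q13774, e3 q13537 L208971 q13339, e3 q13538 (flp_g L208975) q13215, e3 q13539 L211403 q13776, e3 q13540 (flp_g L208996) q13217, e3 q13541 L211426 q13778, e3 q13542 (flp_g L209020) q13220, e3 q13543 L211455 q13780, e3 q13544 (flp_g L209048) q13223, e3 q13545 L211471 q13781, e3 q13546 (flp_g L209071) q13225, e3 q13547 L211479 q13782, e3 q13548 (flp_g L209084) q13227, e3 q13549 (flp_g L211498) q13784, e3 q13550 (flp_g L209100) q13230, e3 q13551 L211507 q13786, e3 q13552 (flp_g L209113) q13234, e3 q13553 L211515 q13787, e3 q13554 (flp_g L209134) q13236, e3 q13555 (flp_g L209150) q13238, e3 q13556 (flp_g L209156) q13240, e3 q13557 L209178 q13361, e3 q13558 L209188 q13362, e3 q13559 L211562 q13791, e3 q13560 L211589 q13793, e3 q13561 (flp_g L209221)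 q13247, e3 q13562 L211603 q13794, e3 q13563 L211624 q13796, e3 q13564 (flp_g L209253) q13251, e3 q13565 L211636 q13797, e3 q13566 (flp_g L209268) q13252, e3 q13567 (flp_g L209276) q13254, trivial⟩ (by decide +kernel)

theorem ce_g_212 : ∀ r, r < 64 → sm gg (Qf (13568 + r)) = Qf (tab Gen.g (13568 + r)) :=
  edges_tab (sm gg) Qf (tab Gen.g) 13568 [(13568, 13798), (13569, 13258), (13570, 13260), (13571, 13261), (13572, 13799), (13573, 13264), (13574, 13266), (13575, 13327), (13576, 13801), (13577, 13803), (13578, 13274), (13579, 13805), (13580, 13277), (13581, 13806), (13582, 13278), (13583, 13808), (13584, 13282), (13585, 13809), (13586, 13285), (13587, 13810), (13588, 13287), (13589, 13289), (13590, 13293), (13591, 13297), (13592, 13595), (13593, 13813), (13594, 13815), (13595, 13592), (13596, 13305), (13597, 13817), (13598, 13306), (13599, 13819), (13600, 13309), (13601, 13821), (13602, 13311), (13603, 13823), (13604, 13606), (13605, 13825), (13606, 13604), (13607, 13828), (13608, 13315),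 (13609, 13829), (13610, 13316), (13611, 13830), (13612, 13831), (13613, 13320), (13614, 13321), (13615, 13323), (13616, 13326), (13617, 13627), (13618, 13834), (13619, 13328), (13620, 13835), (13621, 13329), (13622, 13837), (13623, 13838), (13624, 13332), (13625, 13334), (13626, 13841), (13627, 13617), (13628, 13337), (13629, 13843), (13630, 13338), (13631, 13845)]
    ⟨e3 q13568 L211642 q13798, e3 q13569 (flp_g L209298) q13258, e3 q13570 (flp_g L209312) q13260, e3 q13571 (flp_g L209322) q13261, e3 q13572 L211656 q13799, e3 q13573 (flp_g L209342) q13264, e3 q13574 (flp_g L209348) q13266, e3 q13575 L209364 q13327, e3 q13576 L211678 q13801, e3 q13577 L211705 q13803, e3 q13578 (flp_g L209397) q13274, e3 q13579 L211730 q13805, e3 q13580 (flp_g L209419) q13277, e3 q13581 L211742 q13806, e3 q13582 (flp_g L209438) q13278, e3 q13583 L211759 q13808, e3 q13584 (flp_g L209456) q13282, e3 q13585 L211771 q13809, e3 q13586 (flp_g L209475) q13285, e3 q13587 L211777 q13810, e3 q13588 (flp_g L209484) q13287,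 e3 q13589 (flp_g L209492) q13289, e3 q13590 (flp_g L209496) q13293, e3 q13591 (flp_g L209514) q13297, e3 q13592 (flp_g L209564) q13595, e3 q13593 L211802 q13813, e3 q13594 L211819 q13815, e3 q13595 L209564 q13592, e3 q13596 (flp_g L209570) q13305, e3 q13597 L211841 q13817, e3 q13598 (flp_g L209585) q13306, e3 q13599 (flp_g L211864) q13819, e3 q13600 (flp_g L209603) q13309, e3 q13601 (flp_g L211877) q13821, e3 q13602 L209616 q13311, e3 q13603 (flp_g L211894) q13823, e3 q13604 (flp_g L209658) q13606, e3 q13605 L211912 q13825, e3 q13606 L209658 q13604, e3 q13607 L211943 q13828, e3 q13608 (flp_g L209674) q13315, e3 q13609 L211949 q13829, e3 q13610 (flp_g L209691) q13316, e3 q13611 L211959 q13830, e3 q13612 L211975 q13831, e3 q13613 (flp_g L209727) q13320, e3 q13614 (flp_g L209739) q13321, e3 q13615 (flp_g L209749) q13323, e3 q13616 L209761 q13326, e3 q13617 (flp_g L209853) q13627, e3 q13618 L212010 q13834, e3 q13619 (flp_g L209786) q13328, e3 q13620 L212018 q13835, e3 q13621 (flp_g L209801)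 q13329, e3 q13622 L212035 q13837, e3 q13623 L212045 q13838, e3 q13624 (flp_g L209824) q13332, e3 q13625 (flp_g L209830) q13334, e3 q13626 L212063 q13841, e3 q13627 L209853 q13617, e3 q13628 (flp_g L209859) q13337, e3 q13629 L212085 q13843, e3 q13630 (flp_g L209874) q13338, e3 q13631 (flp_g L212106) q13845, trivial⟩ (by decide +kernel)

theorem ce_g_213 : ∀ r, r < 64 → sm gg (Qf (13632 + r)) = Qf (tab Gen.g (13632 + r)) :=
  edges_tab (sm gg) Qf (tab Gen.g) 13632 [(13632, 13846), (13633, 13341), (13634, 13343), (13635, 13848), (13636, 13345), (13637, 13850), (13638, 13348), (13639, 13350), (13640, 13351), (13641, 13851), (13642, 13355), (13643, 13852), (13644, 13359), (13645, 13853), (13646, 13855), (13647, 13363), (13648, 13856), (13649, 13364), (13650, 13858), (13651, 13367), (13652, 13859), (13653, 13368), (13654, 13370), (13655, 13373), (13656, 13861), (13657, 13377), (13658, 13862), (13659, 13379), (13660, 13381), (13661, 13383), (13662, 13865), (13663, 13385), (13664, 13664), (13665,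 13389), (13666, 13866), (13667, 13393), (13668, 13867), (13669, 13396), (13670, 13869), (13671, 13399), (13672, 13870), (13673, 13400), (13674, 13402), (13675, 13872), (13676, 13404), (13677, 13874), (13678, 13406), (13679, 13875), (13680, 13407), (13681, 13409), (13682, 13410), (13683, 13876), (13684, 13413), (13685, 13877), (13686, 13415), (13687, 13878), (13688, 13418), (13689, 13879), (13690, 13420), (13691, 13880), (13692, 13422), (13693, 13424), (13694, 13882), (13695, 13427)]
    ⟨e3 q13632 L212108 q13846, e3 q13633 (flp_g L209893) q13341, e3 q13634 (flp_g L209899) q13343, e3 q13635 (flp_g L212125) q13848, e3 q13636 L209916 q13345, e3 q13637 (flp_g L212144) q13850, e3 q13638 L209936 q13348, e3 q13639 L209946 q13350, e3 q13640 L209960 q13351, e3 q13641 (flp_g L212158) q13851, e3 q13642 (flp_g L209974) q13355, e3 q13643 L212160 q13852, e3 q13644 (flp_g L209995) q13359, e3 q13645 L212170 q13853, e3 q13646 L212189 q13855, e3 q13647 (flp_g L210025) q13363, e3 q13648 L212199 q13856, e3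 q13649 (flp_g L210042) q13364, e3 q13650 L212216 q13858, e3 q13651 (flp_g L210060) q13367, e3 q13652 L212228 q13859, e3 q13653 (flp_g L210075) q13368, e3 q13654 (flp_g L210083) q13370, e3 q13655 (flp_g L210089) q13373, e3 q13656 L212241 q13861, e3 q13657 (flp_g L210116) q13377, e3 q13658 L212255 q13862, e3 q13659 (flp_g L210137) q13379, e3 q13660 (flp_g L210143) q13381, e3 q13661 (flp_g L210149) q13383, e3 q13662 (flp_g L212277) q13865, e3 q13663 L210164 q13385, e3 q13664 L210170 q13664, e3 q13665 (flp_g L210171) q13389, e3 q13666 (flp_g L212289) q13866, e3 q13667 L210201 q13393, e3 q13668 L212291 q13867, e3 q13669 (flp_g L210218) q13396, e3 q13670 L212320 q13869, e3 q13671 (flp_g L210246) q13399, e3 q13672 L212334 q13870, e3 q13673 (flp_g L210273) q13400, e3 q13674 (flp_g L210285) q13402, e3 q13675 (flp_g L212361) q13872, e3 q13676 L210312 q13404, e3 q13677 L212378 q13874, e3 q13678 (flp_g L210328) q13406, e3 q13679 L212392 q13875, e3 q13680 (flp_g L210357) q13407, e3 q13681 (flp_g L210371)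 q13409, e3 q13682 (flp_g L210387) q13410, e3 q13683 (flp_g L212418) q13876, e3 q13684 (flp_g L210417) q13413, e3 q13685 L212424 q13877, e3 q13686 (flp_g L210450) q13415, e3 q13687 L212440 q13878, e3 q13688 (flp_g L210477) q13418, e3 q13689 L212452 q13879, e3 q13690 (flp_g L210500) q13420, e3 q13691 L212464 q13880, e3 q13692 (flp_g L210525) q13422, e3 q13693 (flp_g L210537) q13424, e3 q13694 L212483 q13882, e3 q13695 (flp_g L210556) q13427, trivial⟩ (by decide +kernel)

theorem ce_g_214 : ∀ r, r < 64 → sm gg (Qf (13696 + r)) = Qf (tab Gen.g (13696 + r)) :=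
  edges_tab (sm gg) Qf (tab Gen.g) 13696 [(13696, 13884), (13697, 13885), (13698, 13430), (13699, 13432), (13700, 13435), (13701, 13887), (13702, 13437), (13703, 13439), (13704, 13889), (13705, 13442), (13706, 13891), (13707, 13445), (13708, 13892), (13709, 13446), (13710, 13894), (13711, 13895), (13712, 13449), (13713, 13451), (13714, 13898), (13715, 13454), (13716, 13899), (13717, 13455), (13718, 13901), (13719, 13458), (13720, 13903), (13721, 13460), (13722, 13904), (13723, 13461), (13724, 13463), (13725, 13725), (13726, 13466), (13727, 13907), (13728, 13468), (13729, 13470), (13730, 13909), (13731, 13475), (13732, 13477), (13733, 13911), (13734, 13479), (13735, 13912), (13736, 13481), (13737, 13913), (13738, 13483), (13739, 13485), (13740, 13915), (13741, 13487), (13742, 13917), (13743, 13919), (13744, 13920), (13745, 13490), (13746, 13492), (13747, 13922), (13748, 13494), (13749, 13495), (13750, 13750), (13751, 13499), (13752, 13924), (13753, 13502), (13754, 13925), (13755, 13505),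 (13756, 13507), (13757, 13509), (13758, 13512), (13759, 13927)]
    ⟨e3 q13696 (flp_g L212516) q13884, e3 q13697 L212522 q13885, e3 q13698 (flp_g L210591) q13430, e3 q13699 (flp_g L210601) q13432, e3 q13700 L210619 q13435, e3 q13701 L212541 q13887, e3 q13702 (flp_g L210634) q13437, e3 q13703 (flp_g L210646) q13439, e3 q13704 L212562 q13889, e3 q13705 (flp_g L210663) q13442, e3 q13706 L212585 q13891, e3 q13707 (flp_g L210685) q13445, e3 q13708 L212599 q13892, e3 q13709 (flp_g L210712) q13446, e3 q13710 L212622 q13894, e3 q13711 L212634 q13895, e3 q13712 (flp_g L210745) q13449, e3 q13713 (flp_g L210757) q13451, e3 q13714 L212664 q13898, e3 q13715 (flp_g L210775) q13454, e3 q13716 L212678 q13899, e3 q13717 (flp_g L210798) q13455, e3 q13718 (flp_g L212701) q13901, e3 q13719 (flp_g L210816) q13458, e3 q13720 (flp_g L212720) q13903, e3 q13721 L210841 q13460, e3 q13722 L212724 q13904, e3 q13723 (flp_g L210860) q13461, e3 q13724 (flp_g L210874) q13463, e3 q13725 L210886 q13725, e3 q13726 (flp_g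 L210887) q13466, e3 q13727 L212758 q13907, e3 q13728 (flp_g L210910) q13468, e3 q13729 (flp_g L210922) q13470, e3 q13730 L212783 q13909, e3 q13731 (flp_g L210943) q13475, e3 q13732 (flp_g L210955) q13477, e3 q13733 L212800 q13911, e3 q13734 (flp_g L210972) q13479, e3 q13735 L212812 q13912, e3 q13736 (flp_g L210997) q13481, e3 q13737 L212826 q13913, e3 q13738 (flp_g L211022) q13483, e3 q13739 (flp_g L211032) q13485, e3 q13740 (flp_g L212851) q13915, e3 q13741 L211057 q13487, e3 q13742 (flp_g L212876) q13917, e3 q13743 L212889 q13919, e3 q13744 L212901 q13920, e3 q13745 (flp_g L211088) q13490, e3 q13746 (flp_g L211096) q13492, e3 q13747 L212914 q13922, e3 q13748 (flp_g L211113) q13494, e3 q13749 (flp_g L211123) q13495, e3 q13750 L211133 q13750, e3 q13751 L211146 q13499, e3 q13752 L212933 q13924, e3 q13753 (flp_g L211164) q13502, e3 q13754 (flp_g L212959) q13925, e3 q13755 (flp_g L211188) q13505, e3 q13756 L211206 q13507, e3 q13757 (flp_g L211210) q13509, e3 q13758 (flp_g L211220) q13512, e3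 q13759 L212972 q13927, trivial⟩ (by decide +kernel)

theorem ce_g_215 : ∀ r, r < 64 → sm gg (Qf (13760 + r)) = Qf (tab Gen.g (13760 + r)) :=
  edges_tab (sm gg) Qf (tab Gen.g) 13760 [(13760, 13514), (13761, 13516), (13762, 13929), (13763, 13518), (13764, 13520), (13765, 13930), (13766, 13521), (13767, 13523), (13768, 13768), (13769, 13526), (13770, 13527), (13771, 13531), (13772, 13533), (13773, 13934), (13774, 13536), (13775, 13936), (13776, 13539), (13777, 13938), (13778, 13541), (13779, 13939), (13780, 13543), (13781, 13545), (13782, 13547), (13783, 13942), (13784, 13549), (13785, 13785), (13786, 13551), (13787, 13553), (13788, 13788), (13789, 13945), (13790, 13947), (13791, 13559), (13792, 13948), (13793, 13560), (13794, 13562), (13795, 13949), (13796, 13563), (13797, 13565), (13798, 13568), (13799, 13572), (13800, 13952), (13801, 13576), (13802, 13953), (13803, 13577), (13804, 13954), (13805, 13579), (13806, 13581), (13807, 13956), (13808, 13583), (13809, 13585), (13810, 13587), (13811,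 13811), (13812, 13960), (13813, 13593), (13814, 13961), (13815, 13594), (13816, 13963), (13817, 13597), (13818, 13965), (13819, 13599), (13820, 13820), (13821, 13601), (13822, 13967), (13823, 13603)]
    ⟨e3 q13760 (flp_g L211239) q13514, e3 q13761 (flp_g L211251) q13516, e3 q13762 L212993 q13929, e3 q13763 (flp_g L211272) q13518, e3 q13764 (flp_g L211286) q13520, e3 q13765 L213007 q13930, e3 q13766 (flp_g L211305) q13521, e3 q13767 (flp_g L211317) q13523, e3 q13768 L211325 q13768, e3 q13769 (flp_g L211326) q13526, e3 q13770 (flp_g L211338) q13527, e3 q13771 (flp_g L211352) q13531, e3 q13772 (flp_g L211362) q13533, e3 q13773 L213040 q13934, e3 q13774 (flp_g L211381) q13536, e3 q13775 (flp_g L213071) q13936, e3 q13776 (flp_g L211403) q13539, e3 q13777 L213084 q13938, e3 q13778 (flp_g L211426) q13541, e3 q13779 L213100 q13939, e3 q13780 (flp_g L211455) q13543, e3 q13781 (flp_g L211471) q13545, e3 q13782 (flp_g L211479) q13547, e3 q13783 (flp_g L213136) q13942, e3 q13784 L211498 q13549, e3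 q13785 L211506 q13785, e3 q13786 (flp_g L211507) q13551, e3 q13787 (flp_g L211515) q13553, e3 q13788 L211535 q13788, e3 q13789 L213162 q13945, e3 q13790 L213191 q13947, e3 q13791 (flp_g L211562) q13559, e3 q13792 L213205 q13948, e3 q13793 (flp_g L211589) q13560, e3 q13794 (flp_g L211603) q13562, e3 q13795 L213219 q13949, e3 q13796 (flp_g L211624) q13563, e3 q13797 (flp_g L211636) q13565, e3 q13798 (flp_g L211642) q13568, e3 q13799 (flp_g L211656) q13572, e3 q13800 L213251 q13952, e3 q13801 (flp_g L211678) q13576, e3 q13802 L213265 q13953, e3 q13803 (flp_g L211705) q13577, e3 q13804 L213277 q13954, e3 q13805 (flp_g L211730) q13579, e3 q13806 (flp_g L211742) q13581, e3 q13807 L213296 q13956, e3 q13808 (flp_g L211759) q13583, e3 q13809 (flp_g L211771) q13585, e3 q13810 (flp_g L211777) q13587, e3 q13811 L211787 q13811, e3 q13812 L213333 q13960, e3 q13813 (flp_g L211802) q13593, e3 q13814 L213347 q13961, e3 q13815 (flp_g L211819) q13594, e3 q13816 (flp_g L213378) q13963, e3 q13817 (flp_g L211841)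 q13597, e3 q13818 (flp_g L213399) q13965, e3 q13819 L211864 q13599, e3 q13820 L211872 q13820, e3 q13821 L211877 q13601, e3 q13822 (flp_g L213412) q13967, e3 q13823 L211894 q13603, trivial⟩ (by decide +kernel)

theorem ce_g_216 : ∀ r, r < 64 → sm gg (Qf (13824 + r)) = Qf (tab Gen.g (13824 + r)) :=
  edges_tab (sm gg) Qf (tab Gen.g) 13824 [(13824, 13969), (13825, 13605), (13826, 13971), (13827, 13972), (13828, 13607), (13829, 13609), (13830, 13611), (13831, 13612), (13832, 13975), (13833, 13976), (13834, 13618), (13835, 13620), (13836, 13978), (13837, 13622), (13838, 13623), (13839, 13839), (13840, 13980), (13841, 13626), (13842, 13982), (13843, 13629), (13844, 13984), (13845, 13631), (13846, 13632), (13847, 13847), (13848, 13635), (13849, 13987), (13850, 13637), (13851, 13641), (13852, 13643), (13853, 13645), (13854, 13989), (13855, 13646), (13856, 13648), (13857, 13991), (13858, 13650), (13859, 13652), (13860, 13860), (13861, 13656), (13862, 13658), (13863, 13863), (13864, 13864), (13865,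 13662), (13866, 13666), (13867, 13668), (13868, 13997), (13869, 13670), (13870, 13672), (13871, 13871), (13872, 13675), (13873, 14000), (13874, 13677), (13875, 13679), (13876, 13683), (13877, 13685), (13878, 13687), (13879, 13689), (13880, 13691), (13881, 13881), (13882, 13694), (13883, 14007), (13884, 13696), (13885, 13697), (13886, 13886), (13887, 13701)]
    ⟨e3 q13824 L213431 q13969, e3 q13825 (flp_g L211912) q13605, e3 q13826 L213458 q13971, e3 q13827 L213474 q13972, e3 q13828 (flp_g L211943) q13607, e3 q13829 (flp_g L211949) q13609, e3 q13830 (flp_g L211959) q13611, e3 q13831 (flp_g L211975) q13612, e3 q13832 L213506 q13975, e3 q13833 L213520 q13976, e3 q13834 (flp_g L212010) q13618, e3 q13835 (flp_g L212018) q13620, e3 q13836 L213535 q13978, e3 q13837 (flp_g L212035) q13622, e3 q13838 (flp_g L212045) q13623, e3 q13839 L212055 q13839, e3 q13840 L213550 q13980, e3 q13841 (flp_g L212063) q13626, e3 q13842 (flp_g L213583) q13982, e3 q13843 (flp_g L212085) q13629, e3 q13844 (flp_g L213602)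 q13984, e3 q13845 L212106 q13631, e3 q13846 (flp_g L212108) q13632, e3 q13847 L212118 q13847, e3 q13848 L212125 q13635, e3 q13849 (flp_g L213626) q13987, e3 q13850 L212144 q13637, e3 q13851 L212158 q13641, e3 q13852 (flp_g L212160) q13643, e3 q13853 (flp_g L212170) q13645, e3 q13854 L213639 q13989, e3 q13855 (flp_g L212189) q13646, e3 q13856 (flp_g L212199) q13648, e3 q13857 L213656 q13991, e3 q13858 (flp_g L212216) q13650, e3 q13859 (flp_g L212228) q13652, e3 q13860 L212240 q13860, e3 q13861 (flp_g L212241) q13656, e3 q13862 (flp_g L212255) q13658, e3 q13863 L212267 q13863, e3 q13864 L212272 q13864, e3 q13865 L212277 q13662, e3 q13866 L212289 q13666, e3 q13867 (flp_g L212291) q13668, e3 q13868 L213719 q13997, e3 q13869 (flp_g L212320) q13670, e3 q13870 (flp_g L212334) q13672, e3 q13871 L212352 q13871, e3 q13872 L212361 q13675, e3 q13873 L213759 q14000, e3 q13874 (flp_g L212378) q13677, e3 q13875 (flp_g L212392) q13679, e3 q13876 L212418 q13683, e3 q13877 (flp_g L212424) q13685, e3 q13878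 (flp_g L212440) q13687, e3 q13879 (flp_g L212452) q13689, e3 q13880 (flp_g L212464) q13691, e3 q13881 L212482 q13881, e3 q13882 (flp_g L212483) q13694, e3 q13883 (flp_g L213865) q14007, e3 q13884 L212516 q13696, e3 q13885 (flp_g L212522) q13697, e3 q13886 L212540 q13886, e3 q13887 (flp_g L212541) q13701, trivial⟩ (by decide +kernel)

theorem ce_g_217 : ∀ r, r < 64 → sm gg (Qf (13888 + r)) = Qf (tab Gen.g (13888 + r)) :=
  edges_tab (sm gg) Qf (tab Gen.g) 13888 [(13888, 13888), (13889, 13704), (13890, 14011), (13891, 13706), (13892, 13708), (13893, 14013), (13894, 13710), (13895, 13711), (13896, 13896), (13897, 14015), (13898, 13714), (13899, 13716), (13900, 14017), (13901, 13718), (13902, 13902), (13903, 13720), (13904, 13722), (13905, 13905), (13906, 13906), (13907, 13727), (13908, 13908), (13909, 13730), (13910, 13910), (13911, 13733), (13912, 13735), (13913, 13737), (13914, 13914), (13915, 13740), (13916, 14026), (13917, 13742), (13918, 14027), (13919, 13743), (13920, 13744), (13921,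 13921), (13922, 13747), (13923, 13923), (13924, 13752), (13925, 13754), (13926, 13926), (13927, 13759), (13928, 13928), (13929, 13762), (13930, 13765), (13931, 13931), (13932, 13932), (13933, 13933), (13934, 13773), (13935, 14034), (13936, 13775), (13937, 13937), (13938, 13777), (13939, 13779), (13940, 13940), (13941, 13941), (13942, 13783), (13943, 13943), (13944, 13944), (13945, 13789), (13946, 14038), (13947, 13790), (13948, 13792), (13949, 13795), (13950, 13950), (13951, 14041)]
    ⟨e3 q13888 L212561 q13888, e3 q13889 (flp_g L212562) q13704, e3 q13890 L213904 q14011, e3 q13891 (flp_g L212585) q13706, e3 q13892 (flp_g L212599) q13708, e3 q13893 L213931 q14013, e3 q13894 (flp_g L212622) q13710, e3 q13895 (flp_g L212634) q13711, e3 q13896 L212650 q13896, e3 q13897 L213956 q14015, e3 q13898 (flp_g L212664) q13714, e3 q13899 (flp_g L212678) q13716, e3 q13900 (flp_g L213983) q14017, e3 q13901 L212701 q13718, e3 q13902 L212711 q13902, e3 q13903 L212720 q13720, e3 q13904 (flp_g L212724) q13722,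 e3 q13905 L212744 q13905, e3 q13906 L212757 q13906, e3 q13907 (flp_g L212758) q13727, e3 q13908 L212782 q13908, e3 q13909 (flp_g L212783) q13730, e3 q13910 L212799 q13910, e3 q13911 (flp_g L212800) q13733, e3 q13912 (flp_g L212812) q13735, e3 q13913 (flp_g L212826) q13737, e3 q13914 L212842 q13914, e3 q13915 L212851 q13740, e3 q13916 (flp_g L214101) q14026, e3 q13917 L212876 q13742, e3 q13918 L214103 q14027, e3 q13919 (flp_g L212889) q13743, e3 q13920 (flp_g L212901) q13744, e3 q13921 L212913 q13921, e3 q13922 (flp_g L212914) q13747, e3 q13923 L212932 q13923, e3 q13924 (flp_g L212933) q13752, e3 q13925 L212959 q13754, e3 q13926 L212971 q13926, e3 q13927 (flp_g L212972) q13759, e3 q13928 L212992 q13928, e3 q13929 (flp_g L212993) q13762, e3 q13930 (flp_g L213007) q13765, e3 q13931 L213021 q13931, e3 q13932 L213030 q13932, e3 q13933 L213039 q13933, e3 q13934 (flp_g L213040) q13773, e3 q13935 (flp_g L214193) q14034, e3 q13936 L213071 q13775, e3 q13937 L213083 q13937, e3 q13938 (flp_g L213084)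 q13777, e3 q13939 (flp_g L213100) q13779, e3 q13940 L213122 q13940, e3 q13941 L213129 q13941, e3 q13942 L213136 q13783, e3 q13943 L213144 q13943, e3 q13944 L213161 q13944, e3 q13945 (flp_g L213162) q13789, e3 q13946 L214236 q14038, e3 q13947 (flp_g L213191) q13790, e3 q13948 (flp_g L213205) q13792, e3 q13949 (flp_g L213219) q13795, e3 q13950 L213237 q13950, e3 q13951 L214278 q14041, trivial⟩ (by decide +kernel)

theorem ce_g_218 : ∀ r, r < 64 → sm gg (Qf (13952 + r)) = Qf (tab Gen.g (13952 + r)) :=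
  edges_tab (sm gg) Qf (tab Gen.g) 13952 [(13952, 13800), (13953, 13802), (13954, 13804), (13955, 13955), (13956, 13807), (13957, 13957), (13958, 13958), (13959, 14045), (13960, 13812), (13961, 13814), (13962, 14047), (13963, 13816), (13964, 13964), (13965, 13818), (13966, 13966), (13967, 13822), (13968, 14050), (13969, 13824), (13970, 14051), (13971, 13826), (13972, 13827), (13973, 13973), (13974, 14053), (13975, 13832), (13976, 13833), (13977, 13977), (13978, 13836), (13979, 13979), (13980, 13840), (13981, 14057), (13982, 13842), (13983, 13983), (13984, 13844), (13985, 13985), (13986, 13986), (13987, 13849), (13988, 13988), (13989, 13854), (13990, 13990), (13991, 13857), (13992, 13992), (13993, 13993), (13994, 13994), (13995, 13995), (13996, 13996), (13997, 13868), (13998, 13998), (13999, 13999), (14000, 13873), (14001, 14001), (14002, 14002), (14003, 14003), (14004, 14004), (14005, 14005), (14006, 14006), (14007, 13883), (14008, 14008), (14009, 14009), (14010, 14010), (14011, 13890),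 (14012, 14012), (14013, 13893), (14014, 14014), (14015, 13897)]
    ⟨e3 q13952 (flp_g L213251) q13800, e3 q13953 (flp_g L213265) q13802, e3 q13954 (flp_g L213277) q13804, e3 q13955 L213295 q13955, e3 q13956 (flp_g L213296) q13807, e3 q13957 L213312 q13957, e3 q13958 L213319 q13958, e3 q13959 L214331 q14045, e3 q13960 (flp_g L213333) q13812, e3 q13961 (flp_g L213347) q13814, e3 q13962 (flp_g L214362) q14047, e3 q13963 L213378 q13816, e3 q13964 L213390 q13964, e3 q13965 L213399 q13818, e3 q13966 L213405 q13966, e3 q13967 L213412 q13822, e3 q13968 L214384 q14050, e3 q13969 (flp_g L213431) q13824, e3 q13970 L214400 q14051, e3 q13971 (flp_g L213458) q13826, e3 q13972 (flp_g L213474) q13827, e3 q13973 L213490 q13973, e3 q13974 L214421 q14053, e3 q13975 (flp_g L213506) q13832, e3 q13976 (flp_g L213520) q13833, e3 q13977 L213534 q13977, e3 q13978 (flp_g L213535) q13836, e3 q13979 L213549 q13979, e3 q13980 (flp_g L213550) q13840, e3 q13981 (flp_g L214470) q14057, e3 q13982 L213583 q13842, e3 q13983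 L213595 q13983, e3 q13984 L213602 q13844, e3 q13985 L213610 q13985, e3 q13986 L213617 q13986, e3 q13987 L213626 q13849, e3 q13988 L213638 q13988, e3 q13989 (flp_g L213639) q13854, e3 q13990 L213655 q13990, e3 q13991 (flp_g L213656) q13857, e3 q13992 L213672 q13992, e3 q13993 L213687 q13993, e3 q13994 L213694 q13994, e3 q13995 L213699 q13995, e3 q13996 L213718 q13996, e3 q13997 (flp_g L213719) q13868, e3 q13998 L213745 q13998, e3 q13999 L213756 q13999, e3 q14000 (flp_g L213759) q13873, e3 q14001 L213787 q14001, e3 q14002 L213804 q14002, e3 q14003 L213817 q14003, e3 q14004 L213830 q14004, e3 q14005 L213843 q14005, e3 q14006 L213856 q14006, e3 q14007 L213865 q13883, e3 q14008 L213881 q14008, e3 q14009 L213894 q14009, e3 q14010 L213903 q14010, e3 q14011 (flp_g L213904) q13890, e3 q14012 L213930 q14012, e3 q14013 (flp_g L213931) q13893, e3 q14014 L213955 q14014, e3 q14015 (flp_g L213956) q13897, trivial⟩ (by decide +kernel)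

theorem ce_g_219 : ∀ r, r < 64 → sm gg (Qf (14016 + r)) = Qf (tab Gen.g (14016 + r)) :=
  edges_tab (sm gg) Qf (tab Gen.g) 14016 [(14016, 14016), (14017, 13900), (14018, 14018), (14019, 14019), (14020, 14020), (14021, 14021), (14022, 14022), (14023, 14023), (14024, 14024), (14025, 14025), (14026, 13916), (14027, 13918), (14028, 14028), (14029, 14029), (14030, 14030), (14031, 14031), (14032, 14032), (14033, 14033), (14034, 13935), (14035, 14035), (14036, 14036), (14037, 14037), (14038, 13946), (14039, 14039), (14040, 14040), (14041, 13951), (14042, 14042), (14043, 14043), (14044, 14044), (14045, 13959), (14046, 14046), (14047, 13962), (14048, 14048), (14049, 14049), (14050, 13968), (14051, 13970), (14052, 14052), (14053, 13974), (14054, 14054), (14055, 14055), (14056, 14056), (14057, 13981), (14058, 14058), (14059, 14059), (14060, 14060), (14061, 14061), (14062, 14062), (14063, 14063), (14064, 14064), (14065, 14065), (14066, 14066), (14067, 14067), (14068, 14068), (14069, 14069), (14070,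 14070), (14071, 14071), (14072, 14072), (14073, 14073), (14074, 14074), (14075, 14075), (14076, 14076), (14077, 14077), (14078, 14078), (14079, 14079)]
    ⟨e3 q14016 L213976 q14016, e3 q14017 L213983 q13900, e3 q14018 L213997 q14018, e3 q14019 L214014 q14019, e3 q14020 L214027 q14020, e3 q14021 L214038 q14021, e3 q14022 L214051 q14022, e3 q14023 L214066 q14023, e3 q14024 L214077 q14024, e3 q14025 L214088 q14025, e3 q14026 L214101 q13916, e3 q14027 (flp_g L214103) q13918, e3 q14028 L214121 q14028, e3 q14029 L214132 q14029, e3 q14030 L214145 q14030, e3 q14031 L214160 q14031, e3 q14032 L214171 q14032, e3 q14033 L214184 q14033, e3 q14034 L214193 q13935, e3 q14035 L214211 q14035, e3 q14036 L214228 q14036, e3 q14037 L214235 q14037, e3 q14038 (flp_g L214236) q13946, e3 q14039 L214264 q14039, e3 q14040 L214277 q14040, e3 q14041 (flp_g L214278) q13951, e3 q14042 L214304 q14042, e3 q14043 L214317 q14043, e3 q14044 L214330 q14044, e3 q14045 (flp_g L214331) q13959, e3 q14046 L214351 q14046, e3 q14047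 L214362 q13962, e3 q14048 L214374 q14048, e3 q14049 L214381 q14049, e3 q14050 (flp_g L214384) q13968, e3 q14051 (flp_g L214400) q13970, e3 q14052 L214420 q14052, e3 q14053 (flp_g L214421) q13974, e3 q14054 L214443 q14054, e3 q14055 L214452 q14055, e3 q14056 L214459 q14056, e3 q14057 L214470 q13981, e3 q14058 L214482 q14058, e3 q14059 L214493 q14059, e3 q14060 L214502 q14060, e3 q14061 L214513 q14061, e3 q14062 L214528 q14062, e3 q14063 L214543 q14063, e3 q14064 L214554 q14064, e3 q14065 L214573 q14065, e3 q14066 L214586 q14066, e3 q14067 L214601 q14067, e3 q14068 L214610 q14068, e3 q14069 L214625 q14069, e3 q14070 L214638 q14070, e3 q14071 L214649 q14071, e3 q14072 L214666 q14072, e3 q14073 L214681 q14073, e3 q14074 L214694 q14074, e3 q14075 L214707 q14075, e3 q14076 L214724 q14076, e3 q14077 L214739 q14077, e3 q14078 L214754 q14078, e3 q14079 L214767 q14079, trivial⟩ (by decide +kernel)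

theorem cl_g : ∀ i, i < 14080 → sm gg (Qf i) = Qf (tab Gen.g i) :=
  all_of_chunks (fun i => sm gg (Qf i) = Qf (tab Gen.g i)) 220 0
    ⟨ce_g_0, ce_g_1, ce_g_2, ce_g_3, ce_g_4, ce_g_5, ce_g_6, ce_g_7, ce_g_8, ce_g_9, ce_g_10, ce_g_11, ce_g_12, ce_g_13, ce_g_14, ce_g_15, ce_g_16, ce_g_17, ce_g_18, ce_g_19, ce_g_20, ce_g_21, ce_g_22, ce_g_23, ce_g_24, ce_g_25, ce_g_26, ce_g_27, ce_g_28, ce_g_29, ce_g_30, ce_g_31, ce_g_32, ce_g_33, ce_g_34, ce_g_35, ce_g_36, ce_g_37, ce_g_38, ce_g_39, ce_g_40, ce_g_41, ce_g_42, ce_g_43, ce_g_44, ce_g_45, ce_g_46, ce_g_47, ce_g_48, ce_g_49, ce_g_50, ce_g_51, ce_g_52, ce_g_53, ce_g_54, ce_g_55, ce_g_56, ce_g_57, ce_g_58, ce_g_59, ce_g_60, ce_g_61, ce_g_62, ce_g_63, ce_g_64, ce_g_65, ce_g_66, ce_g_67, ce_g_68, ce_g_69, ce_g_70, ce_g_71, ce_g_72, ce_g_73, ce_g_74, ce_g_75, ce_g_76, ce_g_77, ce_g_78, ce_g_79, ce_g_80, ce_g_81, ce_g_82, ce_g_83, ce_g_84, ce_g_85, ce_g_86, ce_g_87, ce_g_88, ce_g_89, ce_g_90, ce_g_91, ce_g_92, ce_g_93, ce_g_94, ce_g_95, ce_g_96, ce_g_97,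 ce_g_98, ce_g_99, ce_g_100, ce_g_101, ce_g_102, ce_g_103, ce_g_104, ce_g_105, ce_g_106, ce_g_107, ce_g_108, ce_g_109, ce_g_110, ce_g_111, ce_g_112, ce_g_113, ce_g_114, ce_g_115, ce_g_116, ce_g_117, ce_g_118, ce_g_119, ce_g_120, ce_g_121, ce_g_122, ce_g_123, ce_g_124, ce_g_125, ce_g_126, ce_g_127, ce_g_128, ce_g_129, ce_g_130, ce_g_131, ce_g_132, ce_g_133, ce_g_134, ce_g_135, ce_g_136, ce_g_137, ce_g_138, ce_g_139, ce_g_140, ce_g_141, ce_g_142, ce_g_143, ce_g_144, ce_g_145, ce_g_146, ce_g_147, ce_g_148, ce_g_149, ce_g_150, ce_g_151, ce_g_152, ce_g_153, ce_g_154, ce_g_155, ce_g_156, ce_g_157, ce_g_158, ce_g_159, ce_g_160, ce_g_161, ce_g_162, ce_g_163, ce_g_164, ce_g_165, ce_g_166, ce_g_167, ce_g_168, ce_g_169, ce_g_170, ce_g_171, ce_g_172, ce_g_173, ce_g_174, ce_g_175, ce_g_176, ce_g_177, ce_g_178, ce_g_179, ce_g_180, ce_g_181, ce_g_182, ce_g_183, ce_g_184, ce_g_185, ce_g_186, ce_g_187, ce_g_188, ce_g_189, ce_g_190, ce_g_191, ce_g_192, ce_g_193, ce_g_194, ce_g_195, ce_g_196, ce_g_197, ce_g_198,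 ce_g_199, ce_g_200, ce_g_201, ce_g_202, ce_g_203, ce_g_204, ce_g_205, ce_g_206, ce_g_207, ce_g_208, ce_g_209, ce_g_210, ce_g_211, ce_g_212, ce_g_213, ce_g_214, ce_g_215, ce_g_216, ce_g_217, ce_g_218, ce_g_219, trivial⟩
    (fun r hr => absurd hr (Nat.not_lt_zero r))


end Cfsg.Agent.Helper28.FibA
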