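import Cfsg.Agent.Helper28.FibC0

/-!
# The Fi₂₂ presentation, cosets of the subgroup generated by b, …, i: the action of the generator h (helper28; generated)
-/

set_option autoImplicit false
set_option maxRecDepth 100000
set_option linter.unusedSimpArgs false
set_option linter.constructorNameAsVariable false

noncomputable section

namespace Cfsg.Agent.Helper28.FibA

open Cfsg.Spor Cfsg.Spor.Fi22 Cfsg.Agent.Helper28.CosetTable

theorem ce_h_0 : ∀ r, r < 64 → sm gh (Qf (0 + r)) = Qf (tab Gen.h (0 + r)) :=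
  edges_tab (sm gh) Qf (tab Gen.h) 0 [(0, 0), (1, 1), (2, 2), (3, 3), (4, 6), (5, 8), (6, 4), (7, 11), (8, 5), (9, 9), (10, 14), (11, 7), (12, 12), (13, 13), (14, 10), (15, 15), (16, 16), (17, 17), (18, 26), (19, 19), (20, 20), (21, 21), (22, 22), (23, 34), (24, 24), (25, 37), (26, 18), (27, 27), (28, 28), (29, 43), (30, 30), (31, 31), (32, 49), (33, 50), (34, 23), (35, 35), (36, 52), (37, 25), (38, 38), (39, 39), (40, 60), (41, 41), (42, 62), (43, 29), (44, 44), (45, 45), (46, 67), (47, 68), (48, 70), (49, 32), (50, 33), (51, 73), (52, 36), (53, 53), (54, 54), (55, 55), (56, 81), (57, 83), (58, 58), (59, 86), (60, 40), (61, 88), (62, 42), (63, 63)]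
    ⟨e3 q0 L6 q0, e3 q1 L15 q1, e3 q2 L23 q2, e3 q3 L32 q3, e3 q4 L51 q6, e3 q5 L67 q8, e3 q6 (flp_h L51) q4, e3 q7 L93 q11, e3 q8 (flp_h L67) q5, e3 q9 L83 q9, e3 q10 L117 q14, e3 q11 (flp_h L93) q7, e3 q12 L107 q12, e3 q13 L116 q13, e3 q14 (flp_h L117) q10, e3 q15 L132 q15, e3 q16 L141 q16, e3 q17 L147 q17, e3 q18 L212 q26, e3 q19 L164 q19, e3 q20 L174 q20, e3 q21 L180 q21, e3 q22 L186 q22, e3 q23 L275 q34, e3 q24 L202 q24, e3 q25 L299 q37, e3 q26 (flp_h L212) q18, e3 q27 L226 q27, e3 q28 L234 q28, e3 q29 L349 q43, e3 q30 L250 q30, e3 q31 L257 q31, e3 q32 L395 q49, e3 q33 L403 q50, e3 q34 (flp_h L275) q23, e3 q35 L289 q35, e3 q36 L420 q52, e3 q37 (flp_h L299) q25, e3 q38 L313 q38, e3 q39 L322 q39, e3 q40 L485 q60, e3 q41 L337 q41, e3 q42 L503 q62, e3 q43 (flp_h L349) q29, e3 q44 L364 q44, e3 q45 L371 q45, e3 q46 L543 q67, e3 q47 L551 q68, e3 q48 L566 q70, e3 q49 (flp_h L395) q32, e3 q50 (flp_h L403) q33, e3 q51 L591 q73, e3 q52 (flp_h L420) q36, e3 q53 L434 q53, e3 q54 L442 q54, e3 q55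 L451 q55, e3 q56 L658 q81, e3 q57 L674 q83, e3 q58 L473 q58, e3 q59 L700 q86, e3 q60 (flp_h L485) q40, e3 q61 L719 q88, e3 q62 (flp_h L503) q42, e3 q63 L518 q63, trivial⟩ (by decide +kernel)

theorem ce_h_1 : ∀ r, r < 64 → sm gh (Qf (64 + r)) = Qf (tab Gen.h (64 + r)) :=
  edges_tab (sm gh) Qf (tab Gen.h) 64 [(64, 92), (65, 94), (66, 96), (67, 46), (68, 47), (69, 99), (70, 48), (71, 71), (72, 72), (73, 51), (74, 74), (75, 75), (76, 76), (77, 110), (78, 113), (79, 79), (80, 116), (81, 56), (82, 119), (83, 57), (84, 122), (85, 123), (86, 59), (87, 87), (88, 61), (89, 89), (90, 93), (91, 129), (92, 64), (93, 90), (94, 65), (95, 133), (96, 66), (97, 97), (98, 137), (99, 69), (100, 138), (101, 101), (102, 102), (103, 103), (104, 104), (105, 105), (106, 106), (107, 111), (108, 108), (109, 148), (110, 77), (111, 107), (112, 153), (113, 78), (114, 156), (115, 157), (116, 80), (117, 117), (118, 161), (119, 82), (120, 164), (121, 165), (122, 84), (123, 85), (124, 166), (125, 125), (126, 126), (127,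 127)]
    ⟨e3 q64 L753 q92, e3 q65 L768 q94, e3 q66 L789 q96, e3 q67 (flp_h L543) q46, e3 q68 (flp_h L551) q47, e3 q69 L813 q99, e3 q70 (flp_h L566) q48, e3 q71 L582 q71, e3 q72 L590 q72, e3 q73 (flp_h L591) q51, e3 q74 L606 q74, e3 q75 L612 q75, e3 q76 L623 q76, e3 q77 L894 q110, e3 q78 L920 q113, e3 q79 L646 q79, e3 q80 L950 q116, e3 q81 (flp_h L658) q56, e3 q82 L976 q119, e3 q83 (flp_h L674) q57, e3 q84 L1001 q122, e3 q85 L1008 q123, e3 q86 (flp_h L700) q59, e3 q87 L718 q87, e3 q88 (flp_h L719) q61, e3 q89 L736 q89, e3 q90 L777 q93, e3 q91 L1058 q129, e3 q92 (flp_h L753) q64, e3 q93 (flp_h L777) q90, e3 q94 (flp_h L768) q65, e3 q95 L1096 q133, e3 q96 (flp_h L789) q66, e3 q97 L805 q97, e3 q98 L1122 q137, e3 q99 (flp_h L813) q69, e3 q100 (flp_h L1134) q138, e3 q101 L828 q101, e3 q102 L835 q102, e3 q103 L844 q103, e3 q104 L848 q104, e3 q105 L857 q105, e3 q106 L865 q106, e3 q107 L911 q111, e3 q108 L881 q108, e3 q109 L1232 q148, e3 q110 (flp_h L894) q77, e3 q111 (flp_h L911) q107, e3 q112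 L1278 q153, e3 q113 (flp_h L920) q78, e3 q114 L1311 q156, e3 q115 L1318 q157, e3 q116 (flp_h L950) q80, e3 q117 L968 q117, e3 q118 L1352 q161, e3 q119 (flp_h L976) q82, e3 q120 L1377 q164, e3 q121 L1384 q165, e3 q122 (flp_h L1001) q84, e3 q123 (flp_h L1008) q85, e3 q124 (flp_h L1398) q166, e3 q125 L1030 q125, e3 q126 L1040 q126, e3 q127 L1047 q127, trivial⟩ (by decide +kernel)

theorem ce_h_2 : ∀ r, r < 64 → sm gh (Qf (128 + r)) = Qf (tab Gen.h (128 + r)) :=
  edges_tab (sm gh) Qf (tab Gen.h) 128 [(128, 174), (129, 91), (130, 130), (131, 177), (132, 178), (133, 95), (134, 179), (135, 135), (136, 136), (137, 98), (138, 100), (139, 185), (140, 186), (141, 141), (142, 142), (143, 143), (144, 144), (145, 150), (146, 195), (147, 196), (148, 109), (149, 149), (150, 145), (151, 201), (152, 202), (153, 112), (154, 205), (155, 206), (156, 114), (157, 115), (158, 207), (159, 159), (160, 160), (161, 118), (162, 215), (163, 216), (164, 120), (165, 121), (166, 124), (167, 217), (168, 219), (169, 220),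 (170, 170), (171, 171), (172, 172), (173, 173), (174, 128), (175, 230), (176, 176), (177, 131), (178, 132), (179, 134), (180, 235), (181, 236), (182, 182), (183, 183), (184, 184), (185, 139), (186, 140), (187, 244), (188, 245), (189, 246), (190, 190), (191, 191)]
    ⟨e3 q128 L1455 q174, e3 q129 (flp_h L1058) q91, e3 q130 L1076 q130, e3 q131 L1485 q177, e3 q132 L1494 q178, e3 q133 (flp_h L1096) q95, e3 q134 (flp_h L1511) q179, e3 q135 L1112 q135, e3 q136 L1120 q136, e3 q137 (flp_h L1122) q98, e3 q138 L1134 q100, e3 q139 (flp_h L1551) q185, e3 q140 (flp_h L1557) q186, e3 q141 L1153 q141, e3 q142 L1161 q142, e3 q143 L1194 q143, e3 q144 L1201 q144, e3 q145 (flp_h L1259) q150, e3 q146 L1661 q195, e3 q147 L1669 q196, e3 q148 (flp_h L1232) q109, e3 q149 L1252 q149, e3 q150 L1259 q145, e3 q151 L1725 q201, e3 q152 L1735 q202, e3 q153 (flp_h L1278) q112, e3 q154 L1768 q205, e3 q155 L1775 q206, e3 q156 (flp_h L1311) q114, e3 q157 (flp_h L1318) q115, e3 q158 (flp_h L1794) q207, e3 q159 L1340 q159,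 e3 q160 L1350 q160, e3 q161 (flp_h L1352) q118, e3 q162 L1850 q215, e3 q163 L1858 q216, e3 q164 (flp_h L1377) q120, e3 q165 (flp_h L1384) q121, e3 q166 L1398 q124, e3 q167 (flp_h L1873) q217, e3 q168 (flp_h L1888) q219, e3 q169 (flp_h L1896) q220, e3 q170 L1427 q170, e3 q171 L1436 q171, e3 q172 L1443 q172, e3 q173 L1452 q173, e3 q174 (flp_h L1455) q128, e3 q175 (flp_h L1977) q230, e3 q176 L1483 q176, e3 q177 (flp_h L1485) q131, e3 q178 (flp_h L1494) q132, e3 q179 L1511 q134, e3 q180 (flp_h L2040) q235, e3 q181 (flp_h L2046) q236, e3 q182 L1530 q182, e3 q183 L1536 q183, e3 q184 L1546 q184, e3 q185 L1551 q139, e3 q186 L1557 q140, e3 q187 (flp_h L2110) q244, e3 q188 (flp_h L2117) q245, e3 q189 (flp_h L2123) q246, e3 q190 L1586 q190, e3 q191 L1593 q191, trivial⟩ (by decide +kernel)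

theorem ce_h_3 : ∀ r, r < 64 → sm gh (Qf (192 + r)) = Qf (tab Gen.h (192 + r)) :=
  edges_tab (sm gh) Qf (tab Gen.h) 192 [(192, 192), (193, 199), (194, 252), (195, 146), (196, 147), (197, 253), (198, 198), (199, 193), (200, 260), (201, 151), (202, 152), (203, 264), (204, 265), (205, 154), (206, 155), (207, 158), (208, 266), (209, 268), (210, 269), (211, 211), (212, 212), (213, 213), (214, 280), (215, 162), (216, 163), (217, 167), (218, 218), (219, 168), (220, 169), (221, 283), (222, 284), (223, 287), (224, 288), (225, 289), (226, 226), (227, 227), (228, 228), (229, 229), (230, 175), (231, 300), (232, 301), (233, 233), (234, 234), (235, 180), (236, 181), (237, 308), (238, 309), (239, 310), (240, 316), (241, 241), (242, 242), (243, 243), (244, 187), (245, 188), (246, 189), (247, 320), (248, 321), (249, 323), (250, 324), (251, 328), (252, 194), (253, 197), (254, 329), (255, 330)]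
    ⟨e3 q192 L1640 q192, e3 q193 (flp_h L1713) q199, e3 q194 L2220 q252, e3 q195 (flp_h L1661) q146, e3 q196 (flp_h L1669) q147, e3 q197 (flp_h L2235) q253, e3 q198 L1705 q198, e3 q199 L1713 q193, e3 q200 L2309 q260, e3 q201 (flp_h L1725) q151, e3 q202 (flp_h L1735) q152, e3 q203 L2350 q264, e3 q204 L2358 q265, e3 q205 (flp_h L1768) q154, e3 q206 (flp_h L1775) q155, e3 q207 L1794 q158, e3 q208 (flp_h L2378) q266, e3 q209 (flp_h L2395) q268, e3 q210 (flp_h L2403) q269, e3 q211 L1826 q211, e3 q212 L1832 q212, e3 q213 L1841 q213, e3 q214 L2483 q280, e3 q215 (flp_h L1850) q162, e3 q216 (flp_h L1858) q163, e3 q217 L1873 q167, e3 q218 L1882 q218, e3 q219 L1888 q168, e3 q220 L1896 q169, e3 q221 (flp_h L2514) q283, e3 q222 (flp_h L2521) q284, e3 q223 (flp_h L2546) q287, e3 q224 (flp_h L2555) q288, e3 q225 (flp_h L2561) q289, e3 q226 L1941 q226, e3 q227 L1950 q227, e3 q228 L1959 q228, e3 q229 L1968 q229, e3 q230 L1977 q175, e3 q231 (flp_h L2646) q300, e3 q232 (flp_h L2653) q301, e3 q233 L2026 q233,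 e3 q234 L2036 q234, e3 q235 L2040 q180, e3 q236 L2046 q181, e3 q237 (flp_h L2749) q308, e3 q238 (flp_h L2757) q309, e3 q239 (flp_h L2764) q310, e3 q240 L2807 q316, e3 q241 L2089 q241, e3 q242 L2095 q242, e3 q243 L2102 q243, e3 q244 L2110 q187, e3 q245 L2117 q188, e3 q246 L2123 q189, e3 q247 (flp_h L2848) q320, e3 q248 (flp_h L2855) q321, e3 q249 (flp_h L2868) q323, e3 q250 (flp_h L2876) q324, e3 q251 L2970 q328, e3 q252 (flp_h L2220) q194, e3 q253 L2235 q197, e3 q254 (flp_h L2987) q329, e3 q255 (flp_h L2995) q330, trivial⟩ (by decide +kernel)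

theorem ce_h_4 : ∀ r, r < 64 → sm gh (Qf (256 + r)) = Qf (tab Gen.h (256 + r)) :=
  edges_tab (sm gh) Qf (tab Gen.h) 256 [(256, 331), (257, 257), (258, 258), (259, 338), (260, 200), (261, 261), (262, 262), (263, 343), (264, 203), (265, 204), (266, 208), (267, 267), (268, 209), (269, 210), (270, 346), (271, 347), (272, 350), (273, 351), (274, 352), (275, 362), (276, 276), (277, 277), (278, 278), (279, 364), (280, 214), (281, 281), (282, 282), (283, 221), (284, 222), (285, 285), (286, 286), (287, 223), (288, 224), (289, 225), (290, 370), (291, 371), (292, 372), (293, 376), (294, 377), (295, 379), (296, 380), (297, 297), (298, 298), (299, 391), (300, 231), (301, 232), (302, 392), (303, 393), (304, 304), (305, 305), (306, 306), (307, 307), (308, 237), (309, 238), (310, 239), (311, 402), (312, 403), (313, 410), (314, 405), (315, 406), (316, 240), (317, 317), (318, 318), (319, 319)]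
    ⟨e3 q256 (flp_h L3004) q331, e3 q257 L2289 q257, e3 q258 L2299 q258, e3 q259 L3094 q338, e3 q260 (flp_h L2309) q200, e3 q261 L2326 q261, e3 q262 L2337 q262, e3 q263 L3144 q343, e3 q264 (flp_h L2350) q203, e3 q265 (flp_h L2358) q204, e3 q266 L2378 q208, e3 q267 L2390 q267, e3 q268 L2395 q209, e3 q269 L2403 q210, e3 q270 (flp_h L3182) q346, e3 q271 (flp_h L3189) q347, e3 q272 (flp_h L3218) q350, e3 q273 (flp_h L3228) q351, e3 q274 (flp_h L3235) q352, e3 q275 L3305 q362, e3 q276 L2454 q276, e3 q277 L2462 q277, e3 q278 L2472 q278, e3 q279 L3332 q364, e3 q280 (flp_h L2483) q214, e3 q281 L2498 q281, e3 q282 L2507 q282, e3 q283 L2514 q221, e3 q284 L2521 q222, e3 q285 L2528 q285, e3 q286 L2537 q286, e3 q287 L2546 q223, e3 q288 L2555 q224, e3 q289 L2561 q225, e3 q290 (flp_h L3383) q370, e3 q291 (flp_h L3391) q371, e3 q292 (flp_h L3396) q372, e3 q293 (flp_h L3430) q376, e3 q294 (flp_h L3439) q377, e3 q295 (flp_h L3454) q379, e3 q296 (flp_h L3460) q380, e3 q297 L2622 q297, e3 q298 L2631 q298, e3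 q299 L3544 q391, e3 q300 L2646 q231, e3 q301 L2653 q232, e3 q302 (flp_h L3554) q392, e3 q303 (flp_h L3563) q393, e3 q304 L2714 q304, e3 q305 L2722 q305, e3 q306 L2731 q306, e3 q307 L2742 q307, e3 q308 L2749 q237, e3 q309 L2757 q238, e3 q310 L2764 q239, e3 q311 (flp_h L3712) q402, e3 q312 (flp_h L3720) q403, e3 q313 L3769 q410, e3 q314 (flp_h L3729) q405, e3 q315 (flp_h L3738) q406, e3 q316 (flp_h L2807) q240, e3 q317 L2825 q317, e3 q318 L2833 q318, e3 q319 L2840 q319, trivial⟩ (by decide +kernel)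

theorem ce_h_5 : ∀ r, r < 64 → sm gh (Qf (320 + r)) = Qf (tab Gen.h (320 + r)) :=
  edges_tab (sm gh) Qf (tab Gen.h) 320 [(320, 247), (321, 248), (322, 322), (323, 249), (324, 250), (325, 417), (326, 419), (327, 421), (328, 251), (329, 254), (330, 255), (331, 256), (332, 425), (333, 426), (334, 427), (335, 428), (336, 429), (337, 436), (338, 259), (339, 339), (340, 340), (341, 341), (342, 443), (343, 263), (344, 344), (345, 345), (346, 270), (347, 271), (348, 348), (349, 349), (350, 272), (351, 273), (352, 274), (353, 449), (354, 450), (355, 451), (356, 455), (357, 456), (358, 469), (359, 458), (360, 459), (361, 472), (362, 275), (363, 474), (364, 279), (365, 475), (366, 366), (367, 367), (368, 368), (369, 369), (370, 290), (371, 291), (372, 292), (373, 373), (374, 374), (375, 375), (376, 293), (377, 294), (378, 378), (379, 295), (380, 296), (381, 484), (382, 485), (383, 503)]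
    ⟨e3 q320 L2848 q247, e3 q321 L2855 q248, e3 q322 L2862 q322, e3 q323 L2868 q249, e3 q324 L2876 q250, e3 q325 (flp_h L3849) q417, e3 q326 (flp_h L3861) q419, e3 q327 (flp_h L3877) q421, e3 q328 (flp_h L2970) q251, e3 q329 L2987 q254, e3 q330 L2995 q255, e3 q331 L3004 q256, e3 q332 (flp_h L4005) q425, e3 q333 (flp_h L4013) q426, e3 q334 (flp_h L4019) q427, e3 q335 (flp_h L4030) q428, e3 q336 (flp_h L4038) q429, e3 q337 L4153 q436, e3 q338 (flp_h L3094) q259, e3 q339 L3113 q339, e3 q340 L3118 q340, e3 q341 L3128 q341, e3 q342 L4211 q443, e3 q343 (flp_h L3144) q263, e3 q344 L3164 q344, e3 q345 L3176 q345, e3 q346 L3182 q270, e3 q347 L3189 q271, e3 q348 L3197 q348, e3 q349 L3210 q349, e3 q350 L3218 q272, e3 q351 L3228 q273, e3 q352 L3235 q274, e3 q353 (flp_h L4272) q449, e3 q354 (flp_h L4281) q450, e3 q355 (flp_h L4287) q451, e3 q356 (flp_h L4329) q455, e3 q357 (flp_h L4339) q456, e3 q358 L4432 q469, e3 q359 (flp_h L4350) q458, e3 q360 (flp_h L4357) q459, e3 q361 L4460 q472, e3 q362 (flp_h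 L3305) q275, e3 q363 L4474 q474, e3 q364 (flp_h L3332) q279, e3 q365 (flp_h L4490) q475, e3 q366 L3351 q366, e3 q367 L3357 q367, e3 q368 L3366 q368, e3 q369 L3374 q369, e3 q370 L3383 q290, e3 q371 L3391 q291, e3 q372 L3396 q292, e3 q373 L3405 q373, e3 q374 L3415 q374, e3 q375 L3422 q375, e3 q376 L3430 q293, e3 q377 L3439 q294, e3 q378 L3448 q378, e3 q379 L3454 q295, e3 q380 L3460 q296, e3 q381 (flp_h L4560) q484, e3 q382 (flp_h L4568) q485, e3 q383 L4705 q503, trivial⟩ (by decide +kernel)

theorem ce_h_6 : ∀ r, r < 64 → sm gh (Qf (384 + r)) = Qf (tab Gen.h (384 + r)) :=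
  edges_tab (sm gh) Qf (tab Gen.h) 384 [(384, 487), (385, 488), (386, 494), (387, 496), (388, 498), (389, 389), (390, 509), (391, 299), (392, 302), (393, 303), (394, 511), (395, 512), (396, 396), (397, 397), (398, 398), (399, 399), (400, 400), (401, 401), (402, 311), (403, 312), (404, 528), (405, 314), (406, 315), (407, 524), (408, 532), (409, 526), (410, 313), (411, 529), (412, 412), (413, 413), (414, 538), (415, 415), (416, 416), (417, 325), (418, 418), (419, 326), (420, 420), (421, 327), (422, 541), (423, 544), (424, 424), (425, 332), (426, 333), (427, 334), (428, 335), (429, 336), (430, 550), (431, 551), (432, 552), (433, 553), (434, 554), (435, 556), (436, 337), (437, 563), (438, 438), (439, 439), (440, 440), (441, 441), (442, 442), (443, 342), (444, 574), (445, 445), (446, 446), (447, 447)]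
    ⟨e3 q384 (flp_h L4580) q487, e3 q385 (flp_h L4589) q488, e3 q386 (flp_h L4643) q494, e3 q387 (flp_h L4657) q496, e3 q388 (flp_h L4671) q498, e3 q389 L3534 q389, e3 q390 L4751 q509, e3 q391 (flp_h L3544) q299, e3 q392 L3554 q302, e3 q393 L3563 q303, e3 q394 (flp_h L4770) q511, e3 q395 (flp_h L4779) q512, e3 q396 L3658 q396, e3 q397 L3666 q397, e3 q398 L3673 q398, e3 q399 L3682 q399, e3 q400 L3693 q400, e3 q401 L3703 q401, e3 q402 L3712 q311, e3 q403 L3720 q312, e3 q404 L5026 q528, e3 q405 L3729 q314, e3 q406 L3738 q315, e3 q407 (flp_h L5006) q524, e3 q408 L5061 q532, e3 q409 (flp_h L5018) q526, e3 q410 (flp_h L3769) q313, e3 q411 (flp_h L5036) q529, e3 q412 L3809 q412, e3 q413 L3817 q413, e3 q414 L5159 q538, e3 q415 L3832 q415, e3 q416 L3841 q416, e3 q417 L3849 q325, e3 q418 L3856 q418, e3 q419 L3861 q326, e3 q420 L3870 q420, e3 q421 L3877 q327, e3 q422 (flp_h L5187) q541, e3 q423 (flp_h L5207) q544, e3 q424 L3997 q424, e3 q425 L4005 q332, e3 q426 L4013 q333, e3 q427 L4019 q334, e3 q428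 L4030 q335, e3 q429 L4038 q336, e3 q430 (flp_h L5372) q550, e3 q431 (flp_h L5382) q551, e3 q432 (flp_h L5389) q552, e3 q433 (flp_h L5398) q553, e3 q434 (flp_h L5409) q554, e3 q435 (flp_h L5424) q556, e3 q436 (flp_h L4153) q337, e3 q437 (flp_h L5605) q563, e3 q438 L4173 q438, e3 q439 L4182 q439, e3 q440 L4191 q440, e3 q441 L4201 q441, e3 q442 L4208 q442, e3 q443 (flp_h L4211) q342, e3 q444 (flp_h L5704) q574, e3 q445 L4236 q445, e3 q446 L4242 q446, e3 q447 L4252 q447, trivial⟩ (by decide +kernel)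

theorem ce_h_7 : ∀ r, r < 64 → sm gh (Qf (448 + r)) = Qf (tab Gen.h (448 + r)) :=
  edges_tab (sm gh) Qf (tab Gen.h) 448 [(448, 448), (449, 353), (450, 354), (451, 355), (452, 452), (453, 453), (454, 454), (455, 356), (456, 357), (457, 597), (458, 359), (459, 360), (460, 583), (461, 584), (462, 603), (463, 586), (464, 587), (465, 593), (466, 608), (467, 595), (468, 611), (469, 358), (470, 598), (471, 613), (472, 361), (473, 473), (474, 363), (475, 365), (476, 615), (477, 616), (478, 478), (479, 479), (480, 480), (481, 481), (482, 482), (483, 483), (484, 381), (485, 382), (486, 634), (487, 384), (488, 385), (489, 489), (490, 490), (491, 640), (492, 492), (493, 493), (494, 386), (495, 495), (496, 387), (497, 497), (498, 388), (499, 630), (500, 653), (501, 632), (502, 656), (503, 383), (504, 635), (505, 643), (506, 646), (507, 660), (508, 661), (509, 390), (510, 510), (511, 394)]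
    ⟨e3 q448 L4264 q448, e3 q449 L4272 q353, e3 q450 L4281 q354, e3 q451 L4287 q355, e3 q452 L4297 q452, e3 q453 L4310 q453, e3 q454 L4320 q454, e3 q455 L4329 q356, e3 q456 L4339 q357, e3 q457 L5904 q597, e3 q458 L4350 q359, e3 q459 L4357 q360, e3 q460 (flp_h L5788) q583, e3 q461 (flp_h L5797) q584, e3 q462 L5949 q603, e3 q463 (flp_h L5806) q586, e3 q464 (flp_h L5816) q587, e3 q465 (flp_h L5883) q593, e3 q466 L5986 q608, e3 q467 (flp_h L5897) q595, e3 q468 L6018 q611, e3 q469 (flp_h L4432) q358, e3 q470 (flp_h L5915) q598, e3 q471 L6039 q613, e3 q472 (flp_h L4460) q361, e3 q473 L4473 q473, e3 q474 (flp_h L4474) q363, e3 q475 L4490 q365, e3 q476 (flp_h L6073) q615, e3 q477 (flp_h L6080) q616, e3 q478 L4513 q478, e3 q479 L4520 q479, e3 q480 L4526 q480, e3 q481 L4534 q481, e3 q482 L4543 q482, e3 q483 L4549 q483, e3 q484 L4560 q381, e3 q485 L4568 q382, e3 q486 L6213 q634, e3 q487 L4580 q384, e3 q488 L4589 q385, e3 q489 L4597 q489, e3 q490 L4607 q490, e3 q491 L6264 q640, e3 q492 L4624 q492, e3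 q493 L4631 q493, e3 q494 L4643 q386, e3 q495 L4652 q495, e3 q496 L4657 q387, e3 q497 L4665 q497, e3 q498 L4671 q388, e3 q499 (flp_h L6192) q630, e3 q500 L6368 q653, e3 q501 (flp_h L6204) q632, e3 q502 L6392 q656, e3 q503 (flp_h L4705) q383, e3 q504 (flp_h L6227) q635, e3 q505 (flp_h L6297) q643, e3 q506 (flp_h L6317) q646, e3 q507 L6424 q660, e3 q508 L6432 q661, e3 q509 (flp_h L4751) q390, e3 q510 L4765 q510, e3 q511 L4770 q394, trivial⟩ (by decide +kernel)

theorem ce_h_8 : ∀ r, r < 64 → sm gh (Qf (512 + r)) = Qf (tab Gen.h (512 + r)) :=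
  edges_tab (sm gh) Qf (tab Gen.h) 512 [(512, 395), (513, 527), (514, 663), (515, 515), (516, 516), (517, 669), (518, 518), (519, 519), (520, 520), (521, 674), (522, 522), (523, 523), (524, 407), (525, 680), (526, 409), (527, 513), (528, 404), (529, 411), (530, 683), (531, 677), (532, 408), (533, 681), (534, 534), (535, 689), (536, 536), (537, 693), (538, 414), (539, 539), (540, 540), (541, 422), (542, 542), (543, 543), (544, 423), (545, 545), (546, 546), (547, 696), (548, 548), (549, 549), (550, 430), (551, 431), (552, 432), (553, 433), (554, 434), (555, 682), (556, 435), (557, 704), (558, 705), (559, 716), (560, 707), (561, 708), (562, 710), (563, 437), (564, 718), (565, 719), (566, 566), (567, 567), (568, 568), (569, 569), (570, 570), (571, 732), (572, 572), (573, 573), (574, 444), (575, 734)]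
    ⟨e3 q512 L4779 q395, e3 q513 L108572 q527, e3 q514 (flp_h L6454) q663, e3 q515 L4915 q515, e3 q516 L4923 q516, e3 q517 L6677 q669, e3 q518 L4937 q518, e3 q519 L4956 q519, e3 q520 L4967 q520, e3 q521 L6729 q674, e3 q522 L4985 q522, e3 q523 L4997 q523, e3 q524 L5006 q407, e3 q525 L6771 q680, e3 q526 L5018 q409, e3 q527 (flp_h L108572) q513, e3 q528 (flp_h L5026) q404, e3 q529 L5036 q411, e3 q530 L6815 q683, e3 q531 (flp_h L6757) q677, e3 q532 (flp_h L5061) q408, e3 q533 (flp_h L6784) q681, e3 q534 L5133 q534, e3 q535 L6953 q689, e3 q536 L5147 q536, e3 q537 L6984 q693, e3 q538 (flp_h L5159) q414, e3 q539 L5172 q539, e3 q540 L5181 q540, e3 q541 L5187 q422, e3 q542 L5193 q542, e3 q543 L5201 q543, e3 q544 L5207 q423, e3 q545 L5213 q545, e3 q546 L5222 q546, e3 q547 (flp_h L7012) q696, e3 q548 L5357 q548, e3 q549 L5364 q549, e3 q550 L5372 q430, e3 q551 L5382 q431, e3 q552 L5389 q432, e3 q553 L5398 q433, e3 q554 L5409 q434, e3 q555 (flp_h L108761) q682, e3 q556 L5424 q435, e3 q557 (flp_h L7223)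 q704, e3 q558 (flp_h L7233) q705, e3 q559 L7342 q716, e3 q560 (flp_h L7246) q707, e3 q561 (flp_h L7269) q708, e3 q562 (flp_h L7282) q710, e3 q563 L5605 q437, e3 q564 (flp_h L7532) q718, e3 q565 (flp_h L7540) q719, e3 q566 L5630 q566, e3 q567 L5639 q567, e3 q568 L5645 q568, e3 q569 L5657 q569, e3 q570 L5667 q570, e3 q571 L7648 q732, e3 q572 L5683 q572, e3 q573 L5690 q573, e3 q574 L5704 q444, e3 q575 (flp_h L7671) q734, trivial⟩ (by decide +kernel)

theorem ce_h_9 : ∀ r, r < 64 → sm gh (Qf (576 + r)) = Qf (tab Gen.h (576 + r)) :=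
  edges_tab (sm gh) Qf (tab Gen.h) 576 [(576, 735), (577, 577), (578, 578), (579, 579), (580, 580), (581, 581), (582, 582), (583, 460), (584, 461), (585, 753), (586, 463), (587, 464), (588, 588), (589, 589), (590, 759), (591, 591), (592, 592), (593, 465), (594, 765), (595, 467), (596, 769), (597, 457), (598, 470), (599, 749), (600, 775), (601, 751), (602, 779), (603, 462), (604, 754), (605, 782), (606, 762), (607, 785), (608, 466), (609, 766), (610, 787), (611, 468), (612, 612), (613, 471), (614, 614), (615, 476), (616, 477), (617, 791), (618, 792), (619, 793), (620, 620), (621, 621), (622, 803), (623, 623), (624, 624), (625, 625), (626, 626), (627, 809), (628, 628), (629, 629), (630, 499), (631, 815), (632, 501), (633, 819), (634, 486), (635, 504), (636, 636), (637, 825), (638, 638), (639, 829)]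
    ⟨e3 q576 (flp_h L7682) q735, e3 q577 L5731 q577, e3 q578 L5739 q578, e3 q579 L5746 q579, e3 q580 L5755 q580, e3 q581 L5767 q581, e3 q582 L5776 q582, e3 q583 L5788 q460, e3 q584 L5797 q461, e3 q585 L7835 q753, e3 q586 L5806 q463, e3 q587 L5816 q464, e3 q588 L5827 q588, e3 q589 L5840 q589, e3 q590 L7890 q759, e3 q591 L5860 q591, e3 q592 L5870 q592, e3 q593 L5883 q465, e3 q594 L7938 q765, e3 q595 L5897 q467, e3 q596 L7966 q769, e3 q597 (flp_h L5904) q457, e3 q598 L5915 q470, e3 q599 (flp_h L7814) q749, e3 q600 L8011 q775, e3 q601 (flp_h L7827) q751, e3 q602 L8041 q779, e3 q603 (flp_h L5949) q462, e3 q604 (flp_h L7846) q754, e3 q605 L8060 q782, e3 q606 (flp_h L7923) q762, e3 q607 L8094 q785, e3 q608 (flp_h L5986) q466, e3 q609 (flp_h L7952) q766, e3 q610 L8117 q787, e3 q611 (flp_h L6018) q468, e3 q612 L6031 q612, e3 q613 (flp_h L6039) q471, e3 q614 L6067 q614, e3 q615 L6073 q476, e3 q616 L6080 q477, e3 q617 (flp_h L8197) q791, e3 q618 (flp_h L8206) q792, e3 q619 (flp_h L8213) q793, e3 q620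 L6112 q620, e3 q621 L6119 q621, e3 q622 L8284 q803, e3 q623 L6132 q623, e3 q624 L6140 q624, e3 q625 L6148 q625, e3 q626 L6157 q626, e3 q627 L8333 q809, e3 q628 L6172 q628, e3 q629 L6182 q629, e3 q630 L6192 q499, e3 q631 L8376 q815, e3 q632 L6204 q501, e3 q633 L8405 q819, e3 q634 (flp_h L6213) q486, e3 q635 L6227 q504, e3 q636 L6237 q636, e3 q637 L8453 q825, e3 q638 L6253 q638, e3 q639 L8488 q829, trivial⟩ (by decide +kernel)

theorem ce_h_10 : ∀ r, r < 64 → sm gh (Qf (640 + r)) = Qf (tab Gen.h (640 + r)) :=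
  edges_tab (sm gh) Qf (tab Gen.h) 640 [(640, 491), (641, 641), (642, 642), (643, 505), (644, 644), (645, 645), (646, 506), (647, 647), (648, 648), (649, 839), (650, 812), (651, 842), (652, 844), (653, 500), (654, 816), (655, 846), (656, 502), (657, 657), (658, 832), (659, 849), (660, 507), (661, 508), (662, 662), (663, 514), (664, 679), (665, 665), (666, 859), (667, 667), (668, 861), (669, 517), (670, 670), (671, 866), (672, 672), (673, 860), (674, 521), (675, 675), (676, 871), (677, 531), (678, 874), (679, 664), (680, 525), (681, 533), (682, 555), (683, 530), (684, 872), (685, 878), (686, 686), (687, 881), (688, 884), (689, 535), (690, 690), (691, 886), (692, 887), (693, 537), (694, 694), (695, 695), (696, 547), (697, 697), (698, 698), (699, 699), (700, 700), (701, 701), (702, 702), (703, 703)]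
    ⟨e3 q640 (flp_h L6264) q491, e3 q641 L6278 q641, e3 q642 L6291 q642, e3 q643 L6297 q505, e3 q644 L6304 q644, e3 q645 L6312 q645, e3 q646 L6317 q506, e3 q647 L6325 q647, e3 q648 L6333 q648, e3 q649 L8566 q839, e3 q650 (flp_h L8362) q812, e3 q651 L8590 q842, e3 q652 L8607 q844, e3 q653 (flp_h L6368) q500, e3 q654 (flp_h L8390) q816, e3 q655 L8622 q846, e3 q656 (flp_h L6392) q502, e3 q657 L6406 q657, e3 q658 (flp_h L8517) q832, e3 q659 L8646 q849, e3 q660 (flp_h L6424) q507, e3 q661 (flp_h L6432) q508, e3 q662 L6446 q662, e3 q663 L6454 q514, e3 q664 (flp_h L111586) q679, e3 q665 L6650 q665, e3 q666 L8998 q859, e3 q667 L6666 q667, e3 q668 L9029 q861, e3 q669 (flp_h L6677) q517, e3 q670 L6699 q670, e3 q671 L9082 q866, e3 q672 L6716 q672, e3 q673 L108464 q860, e3 q674 (flp_h L6729) q521, e3 q675 L6744 q675, e3 q676 L9148 q871, e3 q677 L6757 q531, e3 q678 L9170 q874, e3 q679 L111586 q664, e3 q680 (flp_h L6771) q525, e3 q681 L6784 q533, e3 q682 L108761 q555, e3 q683 (flp_h L6815) q530, e3 q684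 (flp_h L9161) q872, e3 q685 L9373 q878, e3 q686 L6935 q686, e3 q687 L9397 q881, e3 q688 L9420 q884, e3 q689 (flp_h L6953) q535, e3 q690 L6965 q690, e3 q691 L9437 q886, e3 q692 L9445 q887, e3 q693 (flp_h L6984) q537, e3 q694 L6997 q694, e3 q695 L7005 q695, e3 q696 L7012 q547, e3 q697 L7019 q697, e3 q698 L7024 q698, e3 q699 L7033 q699, e3 q700 L7041 q700, e3 q701 L7198 q701, e3 q702 L7207 q702, e3 q703 L7215 q703, trivial⟩ (by decide +kernel)

theorem ce_h_11 : ∀ r, r < 64 → sm gh (Qf (704 + r)) = Qf (tab Gen.h (704 + r)) :=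
  edges_tab (sm gh) Qf (tab Gen.h) 704 [(704, 557), (705, 558), (706, 904), (707, 560), (708, 561), (709, 875), (710, 562), (711, 768), (712, 900), (713, 914), (714, 902), (715, 915), (716, 559), (717, 906), (718, 564), (719, 565), (720, 917), (721, 918), (722, 919), (723, 723), (724, 724), (725, 929), (726, 726), (727, 727), (728, 728), (729, 935), (730, 730), (731, 939), (732, 571), (733, 733), (734, 575), (735, 576), (736, 941), (737, 942), (738, 943), (739, 739), (740, 740), (741, 953), (742, 742), (743, 743), (744, 744), (745, 745), (746, 959), (747, 747), (748, 748), (749, 599), (750, 965), (751, 601), (752, 969), (753, 585), (754, 604), (755, 755), (756, 975), (757, 757), (758, 979), (759, 590), (760, 760), (761, 983), (762, 606), (763, 986), (764, 989), (765, 594), (766, 609), (767, 992)]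
    ⟨e3 q704 L7223 q557, e3 q705 L7233 q558, e3 q706 L9779 q904, e3 q707 L7246 q560, e3 q708 L7269 q561, e3 q709 (flp_h L111572) q875, e3 q710 L7282 q562, e3 q711 L108748 q768, e3 q712 (flp_h L9757) q900, e3 q713 L9908 q914, e3 q714 (flp_h L9769) q902, e3 q715 L9941 q915, e3 q716 (flp_h L7342) q559, e3 q717 (flp_h L9812) q906, e3 q718 L7532 q564, e3 q719 L7540 q565, e3 q720 (flp_h L10199) q917, e3 q721 (flp_h L10208) q918, e3 q722 (flp_h L10215) q919, e3 q723 L7576 q723, e3 q724 L7585 q724, e3 q725 L10295 q929, e3 q726 L7599 q726, e3 q727 L7609 q727, e3 q728 L7620 q728, e3 q729 L10347 q935, e3 q730 L7638 q730, e3 q731 L10382 q939, e3 q732 (flp_h L7648) q571, e3 q733 L7660 q733, e3 q734 L7671 q575, e3 q735 L7682 q576, e3 q736 (flp_h L10403) q941, e3 q737 (flp_h L10415) q942, e3 q738 (flp_h L10425) q943, e3 q739 L7722 q739, e3 q740 L7730 q740, e3 q741 L10509 q953, e3 q742 L7740 q742, e3 q743 L7749 q743, e3 q744 L7760 q744, e3 q745 L7772 q745, e3 q746 L10562 q959, e3 q747 L7790 q747, e3 q748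 L7803 q748, e3 q749 L7814 q599, e3 q750 L10608 q965, e3 q751 L7827 q601, e3 q752 L10635 q969, e3 q753 (flp_h L7835) q585, e3 q754 L7846 q604, e3 q755 L7859 q755, e3 q756 L10688 q975, e3 q757 L7878 q757, e3 q758 L10728 q979, e3 q759 (flp_h L7890) q590, e3 q760 L7906 q760, e3 q761 L10762 q983, e3 q762 L7923 q606, e3 q763 L10787 q986, e3 q764 L10807 q989, e3 q765 (flp_h L7938) q594, e3 q766 L7952 q609, e3 q767 L10828 q992, trivial⟩ (by decide +kernel)

theorem ce_h_12 : ∀ r, r < 64 → sm gh (Qf (768 + r)) = Qf (tab Gen.h (768 + r)) :=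
  edges_tab (sm gh) Qf (tab Gen.h) 768 [(768, 711), (769, 596), (770, 980), (771, 995), (772, 962), (773, 998), (774, 1001), (775, 600), (776, 966), (777, 1003), (778, 1004), (779, 602), (780, 780), (781, 1007), (782, 605), (783, 984), (784, 1009), (785, 607), (786, 786), (787, 610), (788, 788), (789, 789), (790, 790), (791, 617), (792, 618), (793, 619), (794, 1015), (795, 1016), (796, 1024), (797, 1018), (798, 1019), (799, 799), (800, 1030), (801, 801), (802, 1034), (803, 622), (804, 804), (805, 805), (806, 1040), (807, 807), (808, 1044), (809, 627), (810, 810), (811, 1048), (812, 650), (813, 1051), (814, 1054), (815, 631), (816, 654), (817, 1057), (818, 1058), (819, 633), (820, 1045), (821, 1062), (822, 822), (823, 1065), (824, 1068), (825, 637), (826, 826), (827, 1070), (828, 1071), (829, 639), (830, 830), (831, 831)]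
    ⟨e3 q768 (flp_h L108748) q711, e3 q769 (flp_h L7966) q596, e3 q770 (flp_h L10746) q980, e3 q771 L10865 q995, e3 q772 (flp_h L10593) q962, e3 q773 L10889 q998, e3 q774 L10912 q1001, e3 q775 (flp_h L8011) q600, e3 q776 (flp_h L10623) q966, e3 q777 L10933 q1003, e3 q778 L10939 q1004, e3 q779 (flp_h L8041) q602, e3 q780 L8051 q780, e3 q781 L10968 q1007, e3 q782 (flp_h L8060) q605, e3 q783 (flp_h L10776) q984, e3 q784 L10992 q1009, e3 q785 (flp_h L8094) q607, e3 q786 L8109 q786, e3 q787 (flp_h L8117) q610, e3 q788 L8159 q788, e3 q789 L8181 q789, e3 q790 L8190 q790, e3 q791 L8197 q617, e3 q792 L8206 q618, e3 q793 L8213 q619, e3 q794 (flp_h L11117) q1015, e3 q795 (flp_h L11126) q1016, e3 q796 L11185 q1024, e3 q797 (flp_h L11140) q1018, e3 q798 (flp_h L11149) q1019, e3 q799 L8264 q799, e3 q800 L11227 q1030, e3 q801 L8275 q801, e3 q802 L11256 q1034, e3 q803 (flp_h L8284) q622, e3 q804 L8298 q804, e3 q805 L8306 q805, e3 q806 L11305 q1040, e3 q807 L8321 q807, e3 q808 L11338 q1044, e3 q809 (flp_h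 L8333) q627, e3 q810 L8346 q810, e3 q811 L11365 q1048, e3 q812 L8362 q650, e3 q813 L11388 q1051, e3 q814 L11408 q1054, e3 q815 (flp_h L8376) q631, e3 q816 L8390 q654, e3 q817 L11431 q1057, e3 q818 L11438 q1058, e3 q819 (flp_h L8405) q633, e3 q820 (flp_h L11350) q1045, e3 q821 L11471 q1062, e3 q822 L8434 q822, e3 q823 L11498 q1065, e3 q824 L11524 q1068, e3 q825 (flp_h L8453) q637, e3 q826 L8466 q826, e3 q827 L11540 q1070, e3 q828 L11548 q1071, e3 q829 (flp_h L8488) q639, e3 q830 L8503 q830, e3 q831 L8511 q831, trivial⟩ (by decide +kernel)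

theorem ce_h_13 : ∀ r, r < 64 → sm gh (Qf (832 + r)) = Qf (tab Gen.h (832 + r)) :=
  edges_tab (sm gh) Qf (tab Gen.h) 832 [(832, 658), (833, 833), (834, 834), (835, 835), (836, 836), (837, 1082), (838, 1084), (839, 649), (840, 1049), (841, 1087), (842, 651), (843, 1090), (844, 652), (845, 845), (846, 655), (847, 847), (848, 1093), (849, 659), (850, 850), (851, 851), (852, 852), (853, 870), (854, 873), (855, 1101), (856, 856), (857, 1103), (858, 1105), (859, 666), (860, 673), (861, 668), (862, 1108), (863, 863), (864, 1111), (865, 1104), (866, 671), (867, 867), (868, 940), (869, 1115), (870, 853), (871, 676), (872, 684), (873, 854), (874, 678), (875, 709), (876, 1120), (877, 1123), (878, 685), (879, 879), (880, 1126), (881, 687), (882, 1129), (883, 1130), (884, 688), (885, 1132), (886, 691), (887, 692), (888, 888), (889, 889), (890, 890), (891, 891), (892, 892), (893, 893), (894, 894), (895, 895)]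
    ⟨e3 q832 L8517 q658, e3 q833 L8526 q833, e3 q834 L8531 q834, e3 q835 L8539 q835, e3 q836 L8548 q836, e3 q837 L11636 q1082, e3 q838 L11655 q1084, e3 q839 (flp_h L8566) q649, e3 q840 (flp_h L11381) q1049, e3 q841 L11680 q1087, e3 q842 (flp_h L8590) q651, e3 q843 L11701 q1090, e3 q844 (flp_h L8607) q652, e3 q845 L8621 q845, e3 q846 (flp_h L8622) q655, e3 q847 L8637 q847, e3 q848 L11726 q1093, e3 q849 (flp_h L8646) q659, e3 q850 L8662 q850, e3 q851 L8669 q851, e3 q852 L8677 q852, e3 q853 L111594 q870, e3 q854 (flp_h L111053) q873, e3 q855 L12186 q1101, e3 q856 L8978 q856, e3 q857 L12210 q1103, e3 q858 L12234 q1105, e3 q859 (flp_h L8998) q666, e3 q860 (flp_h L108464) q673, e3 q861 (flp_h L9029) q668, e3 q862 L12299 q1108, e3 q863 L9061 q863, e3 q864 L12329 q1111, e3 q865 L111094 q1104, e3 q866 (flp_h L9082) q671, e3 q867 L9096 q867, e3 q868 L108725 q940, e3 q869 L12419 q1115, e3 q870 (flp_h L111594) q853, e3 q871 (flp_h L9148) q676, e3 q872 L9161 q684, e3 q873 L111053 q854, e3 q874 (flp_h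 L9170) q678, e3 q875 L111572 q709, e3 q876 L12704 q1120, e3 q877 L12730 q1123, e3 q878 (flp_h L9373) q685, e3 q879 L9387 q879, e3 q880 L12754 q1126, e3 q881 (flp_h L9397) q687, e3 q882 L12776 q1129, e3 q883 L12784 q1130, e3 q884 (flp_h L9420) q688, e3 q885 L12800 q1132, e3 q886 (flp_h L9437) q691, e3 q887 (flp_h L9445) q692, e3 q888 L9456 q888, e3 q889 L9465 q889, e3 q890 L9471 q890, e3 q891 L9481 q891, e3 q892 L9487 q892, e3 q893 L9494 q893, e3 q894 L9502 q894, e3 q895 L9508 q895, trivial⟩ (by decide +kernel)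

theorem ce_h_14 : ∀ r, r < 64 → sm gh (Qf (896 + r)) = Qf (tab Gen.h (896 + r)) :=
  edges_tab (sm gh) Qf (tab Gen.h) 896 [(896, 896), (897, 897), (898, 1145), (899, 899), (900, 712), (901, 1150), (902, 714), (903, 1152), (904, 706), (905, 1116), (906, 717), (907, 1117), (908, 988), (909, 991), (910, 1160), (911, 1147), (912, 1162), (913, 1163), (914, 713), (915, 715), (916, 916), (917, 720), (918, 721), (919, 722), (920, 1166), (921, 1167), (922, 1175), (923, 1169), (924, 1170), (925, 925), (926, 1181), (927, 927), (928, 1185), (929, 725), (930, 930), (931, 1189), (932, 932), (933, 1192), (934, 1195), (935, 729), (936, 936), (937, 1198), (938, 1199), (939, 731), (940, 868), (941, 736), (942, 737), (943, 738), (944, 1201), (945, 1202), (946, 1210), (947, 1204), (948, 1205), (949, 949), (950, 1216), (951, 951), (952, 1220), (953, 741), (954, 954), (955, 955), (956, 1226), (957, 957), (958, 1230), (959, 746)]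
    ⟨e3 q896 L9714 q896, e3 q897 L9723 q897, e3 q898 L13160 q1145, e3 q899 L9737 q899, e3 q900 L9757 q712, e3 q901 L13205 q1150, e3 q902 L9769 q714, e3 q903 L13235 q1152, e3 q904 (flp_h L9779) q706, e3 q905 L111549 q1116, e3 q906 L9812 q717, e3 q907 L110910 q1117, e3 q908 L111457 q988, e3 q909 (flp_h L108912) q991, e3 q910 L13378 q1160, e3 q911 (flp_h L13191) q1147, e3 q912 L13404 q1162, e3 q913 L13427 q1163, e3 q914 (flp_h L9908) q713, e3 q915 (flp_h L9941) q715, e3 q916 L9955 q916, e3 q917 L10199 q720, e3 q918 L10208 q721, e3 q919 L10215 q722, e3 q920 (flp_h L13805) q1166, e3 q921 (flp_h L13814) q1167, e3 q922 L13873 q1175, e3 q923 (flp_h L13827) q1169, e3 q924 (flp_h L13836) q1170, e3 q925 L10267 q925, e3 q926 L13923 q1181, e3 q927 L10284 q927, e3 q928 L13957 q1185, e3 q929 (flp_h L10295) q725, e3 q930 L10307 q930, e3 q931 L13989 q1189, e3 q932 L10326 q932, e3 q933 L14016 q1192, e3 q934 L14043 q1195, e3 q935 (flp_h L10347) q729, e3 q936 L10361 q936, e3 q937 L14068 q1198, e3 q938 L14075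 q1199, e3 q939 (flp_h L10382) q731, e3 q940 (flp_h L108725) q868, e3 q941 L10403 q736, e3 q942 L10415 q737, e3 q943 L10425 q738, e3 q944 (flp_h L14098) q1201, e3 q945 (flp_h L14110) q1202, e3 q946 L14182 q1210, e3 q947 (flp_h L14127) q1204, e3 q948 (flp_h L14139) q1205, e3 q949 L10489 q949, e3 q950 L14227 q1216, e3 q951 L10501 q951, e3 q952 L14254 q1220, e3 q953 (flp_h L10509) q741, e3 q954 L10520 q954, e3 q955 L10531 q955, e3 q956 L14308 q1226, e3 q957 L10549 q957, e3 q958 L14347 q1230, e3 q959 (flp_h L10562) q746, trivial⟩ (by decide +kernel)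

theorem ce_h_15 : ∀ r, r < 64 → sm gh (Qf (960 + r)) = Qf (tab Gen.h (960 + r)) :=
  edges_tab (sm gh) Qf (tab Gen.h) 960 [(960, 960), (961, 1234), (962, 772), (963, 1237), (964, 1240), (965, 750), (966, 776), (967, 1243), (968, 1244), (969, 752), (970, 1231), (971, 1248), (972, 972), (973, 1251), (974, 1254), (975, 756), (976, 976), (977, 1257), (978, 1200), (979, 758), (980, 770), (981, 1260), (982, 1263), (983, 761), (984, 783), (985, 1267), (986, 763), (987, 1270), (988, 908), (989, 764), (990, 1255), (991, 909), (992, 767), (993, 1274), (994, 1277), (995, 771), (996, 1235), (997, 1281), (998, 773), (999, 1284), (1000, 1285), (1001, 774), (1002, 1002), (1003, 777), (1004, 778), (1005, 1005), (1006, 1290), (1007, 781), (1008, 1008), (1009, 784), (1010, 1287), (1011, 1011), (1012, 1012), (1013, 1013), (1014, 1014), (1015, 794), (1016, 795), (1017, 1303), (1018, 797), (1019, 798), (1020, 1299), (1021, 1309), (1022, 1301), (1023, 1313)]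
    ⟨e3 q960 L10578 q960, e3 q961 L14377 q1234, e3 q962 L10593 q772, e3 q963 L14401 q1237, e3 q964 L14419 q1240, e3 q965 (flp_h L10608) q750, e3 q966 L10623 q776, e3 q967 L14440 q1243, e3 q968 L14444 q1244, e3 q969 (flp_h L10635) q752, e3 q970 (flp_h L14362) q1231, e3 q971 L14479 q1248, e3 q972 L10666 q972, e3 q973 L14512 q1251, e3 q974 L14539 q1254, e3 q975 (flp_h L10688) q756, e3 q976 L10703 q976, e3 q977 L14566 q1257, e3 q978 (flp_h L87317) q1200, e3 q979 (flp_h L10728) q758, e3 q980 L10746 q770, e3 q981 L14610 q1260, e3 q982 L14631 q1263, e3 q983 (flp_h L10762) q761, e3 q984 L10776 q783, e3 q985 L14661 q1267, e3 q986 (flp_h L10787) q763, e3 q987 L14683 q1270, e3 q988 (flp_h L111457) q908, e3 q989 (flp_h L10807) q764, e3 q990 (flp_h L14555) q1255, e3 q991 L108912 q909, e3 q992 (flp_h L10828) q767, e3 q993 L14754 q1274, e3 q994 L14778 q1277, e3 q995 (flp_h L10865) q771, e3 q996 (flp_h L14392) q1235, e3 q997 L14808 q1281, e3 q998 (flp_h L10889) q773, e3 q999 L14838 q1284, e3 q1000 L14845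 q1285, e3 q1001 (flp_h L10912) q774, e3 q1002 L10924 q1002, e3 q1003 (flp_h L10933) q777, e3 q1004 (flp_h L10939) q778, e3 q1005 L10950 q1005, e3 q1006 L14901 q1290, e3 q1007 (flp_h L10968) q781, e3 q1008 L10983 q1008, e3 q1009 (flp_h L10992) q784, e3 q1010 (flp_h L14877) q1287, e3 q1011 L11080 q1011, e3 q1012 L11094 q1012, e3 q1013 L11103 q1013, e3 q1014 L11110 q1014, e3 q1015 L11117 q794, e3 q1016 L11126 q795, e3 q1017 L15122 q1303, e3 q1018 L11140 q797, e3 q1019 L11149 q798, e3 q1020 (flp_h L15098) q1299, e3 q1021 L15172 q1309, e3 q1022 (flp_h L15111) q1301, e3 q1023 L15205 q1313, trivial⟩ (by decide +kernel)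

theorem ce_h_16 : ∀ r, r < 64 → sm gh (Qf (1024 + r)) = Qf (tab Gen.h (1024 + r)) :=
  edges_tab (sm gh) Qf (tab Gen.h) 1024 [(1024, 796), (1025, 1304), (1026, 1317), (1027, 1027), (1028, 1320), (1029, 1323), (1030, 800), (1031, 1031), (1032, 1326), (1033, 1327), (1034, 802), (1035, 1314), (1036, 1331), (1037, 1037), (1038, 1334), (1039, 1337), (1040, 806), (1041, 1041), (1042, 1312), (1043, 1311), (1044, 808), (1045, 820), (1046, 1341), (1047, 1344), (1048, 811), (1049, 840), (1050, 1348), (1051, 813), (1052, 1352), (1053, 1353), (1054, 814), (1055, 1338), (1056, 1328), (1057, 817), (1058, 818), (1059, 1325), (1060, 1357), (1061, 1360), (1062, 821), (1063, 1063), (1064, 1363), (1065, 823), (1066, 1366), (1067, 1367), (1068, 824), (1069, 1302), (1070, 827), (1071, 828), (1072, 1072), (1073, 1073), (1074, 1074), (1075, 1075), (1076, 1076), (1077, 1077), (1078, 1078), (1079, 1079), (1080, 1376), (1081, 1378), (1082, 837), (1083, 1381), (1084, 838), (1085, 1085), (1086, 1383), (1087, 841)]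
    ⟨e3 q1024 (flp_h L11185) q796, e3 q1025 (flp_h L15135) q1304, e3 q1026 L15234 q1317, e3 q1027 L11213 q1027, e3 q1028 L15256 q1320, e3 q1029 L15277 q1323, e3 q1030 (flp_h L11227) q800, e3 q1031 L11239 q1031, e3 q1032 L15299 q1326, e3 q1033 L15307 q1327, e3 q1034 (flp_h L11256) q802, e3 q1035 (flp_h L15219) q1314, e3 q1036 L15341 q1331, e3 q1037 L11286 q1037, e3 q1038 L15366 q1334, e3 q1039 L15390 q1337, e3 q1040 (flp_h L11305) q806, e3 q1041 L11318 q1041, e3 q1042 (flp_h L120392) q1312, e3 q1043 (flp_h L115226) q1311, e3 q1044 (flp_h L11338) q808, e3 q1045 L11350 q820, e3 q1046 L15447 q1341, e3 q1047 L15471 q1344, e3 q1048 (flp_h L11365) q811, e3 q1049 L11381 q840, e3 q1050 L15499 q1348, e3 q1051 (flp_h L11388) q813, e3 q1052 L15524 q1352, e3 q1053 L15532 q1353, e3 q1054 (flp_h L11408) q814, e3 q1055 (flp_h L15404) q1338, e3 q1056 (flp_h L120482) q1328, e3 q1057 (flp_h L11431) q817, e3 q1058 (flp_h L11438) q818, e3 q1059 (flp_h L120493) q1325, e3 q1060 L15596 q1357, e3 q1061 L15625 q1360,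 e3 q1062 (flp_h L11471) q821, e3 q1063 L11486 q1063, e3 q1064 L15651 q1363, e3 q1065 (flp_h L11498) q823, e3 q1066 L15674 q1366, e3 q1067 L15682 q1367, e3 q1068 (flp_h L11524) q824, e3 q1069 (flp_h L120302) q1302, e3 q1070 (flp_h L11540) q827, e3 q1071 (flp_h L11548) q828, e3 q1072 L11563 q1072, e3 q1073 L11572 q1073, e3 q1074 L11578 q1074, e3 q1075 L11587 q1075, e3 q1076 L11595 q1076, e3 q1077 L11602 q1077, e3 q1078 L11611 q1078, e3 q1079 L11616 q1079, e3 q1080 L15776 q1376, e3 q1081 L15794 q1378, e3 q1082 (flp_h L11636) q837, e3 q1083 L15818 q1381, e3 q1084 (flp_h L11655) q838, e3 q1085 L11671 q1085, e3 q1086 L15836 q1383, e3 q1087 (flp_h L11680) q841, trivial⟩ (by decide +kernel)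

theorem ce_h_17 : ∀ r, r < 64 → sm gh (Qf (1088 + r)) = Qf (tab Gen.h (1088 + r)) :=
  edges_tab (sm gh) Qf (tab Gen.h) 1088 [(1088, 1282), (1089, 1089), (1090, 843), (1091, 1091), (1092, 1092), (1093, 848), (1094, 1094), (1095, 1095), (1096, 1096), (1097, 1395), (1098, 1114), (1099, 1399), (1100, 1401), (1101, 855), (1102, 1403), (1103, 857), (1104, 865), (1105, 858), (1106, 1407), (1107, 1400), (1108, 862), (1109, 1109), (1110, 1402), (1111, 864), (1112, 1196), (1113, 1412), (1114, 1098), (1115, 869), (1116, 905), (1117, 907), (1118, 1415), (1119, 1418), (1120, 876), (1121, 1421), (1122, 1422), (1123, 877), (1124, 1425), (1125, 1426), (1126, 880), (1127, 1410), (1128, 1430), (1129, 882), (1130, 883), (1131, 1296), (1132, 885), (1133, 1133), (1134, 1134), (1135, 1135), (1136, 1136), (1137, 1137), (1138, 1428), (1139, 1139), (1140, 1140), (1141, 1141), (1142, 1443), (1143, 1143), (1144, 1445), (1145, 898), (1146, 1449), (1147, 911), (1148, 1451), (1149, 1453), (1150, 901), (1151, 1455)]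
    ⟨e3 q1088 (flp_h L14819) q1282, e3 q1089 L11700 q1089, e3 q1090 (flp_h L11701) q843, e3 q1091 L11716 q1091, e3 q1092 L11725 q1092, e3 q1093 (flp_h L11726) q848, e3 q1094 L11741 q1094, e3 q1095 L11750 q1095, e3 q1096 L11756 q1096, e3 q1097 L15926 q1395, e3 q1098 L111902 q1114, e3 q1099 L16511 q1399, e3 q1100 L16536 q1401, e3 q1101 (flp_h L12186) q855, e3 q1102 L16569 q1403, e3 q1103 (flp_h L12210) q857, e3 q1104 (flp_h L111094) q865, e3 q1105 (flp_h L12234) q858, e3 q1106 L16683 q1407, e3 q1107 (flp_h L111632) q1400, e3 q1108 (flp_h L12299) q862, e3 q1109 L12317 q1109, e3 q1110 (flp_h L111045) q1402, e3 q1111 (flp_h L12329) q864, e3 q1112 L111544 q1196, e3 q1113 L16860 q1412, e3 q1114 (flp_h L111902) q1098, e3 q1115 (flp_h L12419) q869, e3 q1116 (flp_h L111549) q905, e3 q1117 (flp_h L110910) q907, e3 q1118 L17224 q1415, e3 q1119 L17249 q1418, e3 q1120 (flp_h L12704) q876, e3 q1121 L17274 q1421, e3 q1122 L17283 q1422, e3 q1123 (flp_h L12730) q877, e3 q1124 L17308 q1425, e3 q1125 L17317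 q1426, e3 q1126 (flp_h L12754) q880, e3 q1127 (flp_h L16761) q1410, e3 q1128 L17346 q1430, e3 q1129 (flp_h L12776) q882, e3 q1130 (flp_h L12784) q883, e3 q1131 L120222 q1296, e3 q1132 (flp_h L12800) q885, e3 q1133 L12815 q1133, e3 q1134 L12822 q1134, e3 q1135 L12829 q1135, e3 q1136 L12837 q1136, e3 q1137 L12846 q1137, e3 q1138 (flp_h L90549) q1428, e3 q1139 L12859 q1139, e3 q1140 L12865 q1140, e3 q1141 L13139 q1141, e3 q1142 L17818 q1443, e3 q1143 L13150 q1143, e3 q1144 L17848 q1445, e3 q1145 (flp_h L13160) q898, e3 q1146 L17879 q1449, e3 q1147 L13191 q911, e3 q1148 L17905 q1451, e3 q1149 L17923 q1453, e3 q1150 (flp_h L13205) q901, e3 q1151 L17946 q1455, trivial⟩ (by decide +kernel)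

theorem ce_h_18 : ∀ r, r < 64 → sm gh (Qf (1152 + r)) = Qf (tab Gen.h (1152 + r)) :=
  edges_tab (sm gh) Qf (tab Gen.h) 1152 [(1152, 903), (1153, 1186), (1154, 1413), (1155, 1262), (1156, 1266), (1157, 1269), (1158, 1463), (1159, 1464), (1160, 910), (1161, 1466), (1162, 912), (1163, 913), (1164, 1164), (1165, 1165), (1166, 920), (1167, 921), (1168, 1474), (1169, 923), (1170, 924), (1171, 1470), (1172, 1480), (1173, 1472), (1174, 1484), (1175, 922), (1176, 1475), (1177, 1488), (1178, 1178), (1179, 1491), (1180, 1494), (1181, 926), (1182, 1182), (1183, 1497), (1184, 1498), (1185, 928), (1186, 1153), (1187, 1502), (1188, 1505), (1189, 931), (1190, 1190), (1191, 1509), (1192, 933), (1193, 1513), (1194, 1514), (1195, 934), (1196, 1112), (1197, 1517), (1198, 937), (1199, 938), (1200, 978), (1201, 944), (1202, 945), (1203, 1523), (1204, 947), (1205, 948), (1206, 1519), (1207, 1529), (1208, 1521), (1209, 1533), (1210, 946), (1211, 1524), (1212, 1537), (1213, 1213), (1214, 1540), (1215, 1543)]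
    ⟨e3 q1152 (flp_h L13235) q903, e3 q1153 (flp_h L13968) q1186, e3 q1154 (flp_h L111567) q1413, e3 q1155 (flp_h L111553) q1262, e3 q1156 (flp_h L84465) q1266, e3 q1157 (flp_h L104260) q1269, e3 q1158 L18150 q1463, e3 q1159 L18178 q1464, e3 q1160 (flp_h L13378) q910, e3 q1161 L18210 q1466, e3 q1162 (flp_h L13404) q912, e3 q1163 (flp_h L13427) q913, e3 q1164 L13439 q1164, e3 q1165 L13473 q1165, e3 q1166 L13805 q920, e3 q1167 L13814 q921, e3 q1168 L18767 q1474, e3 q1169 L13827 q923, e3 q1170 L13836 q924, e3 q1171 (flp_h L18742) q1470, e3 q1172 L18818 q1480, e3 q1173 (flp_h L18757) q1472, e3 q1174 L18852 q1484, e3 q1175 (flp_h L13873) q922, e3 q1176 (flp_h L18779) q1475, e3 q1177 L18885 q1488, e3 q1178 L13902 q1178, e3 q1179 L18911 q1491, e3 q1180 L18937 q1494, e3 q1181 (flp_h L13923) q926, e3 q1182 L13938 q1182, e3 q1183 L18962 q1497, e3 q1184 L18968 q1498, e3 q1185 (flp_h L13957) q928, e3 q1186 L13968 q1153, e3 q1187 L19000 q1502, e3 q1188 L19028 q1505, e3 q1189 (flp_h L13989) q931, e3 q1190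 L14003 q1190, e3 q1191 L19065 q1509, e3 q1192 (flp_h L14016) q933, e3 q1193 L19099 q1513, e3 q1194 L19107 q1514, e3 q1195 (flp_h L14043) q934, e3 q1196 (flp_h L111544) q1112, e3 q1197 L19134 q1517, e3 q1198 (flp_h L14068) q937, e3 q1199 (flp_h L14075) q938, e3 q1200 L87317 q978, e3 q1201 L14098 q944, e3 q1202 L14110 q945, e3 q1203 L19202 q1523, e3 q1204 L14127 q947, e3 q1205 L14139 q948, e3 q1206 (flp_h L19174) q1519, e3 q1207 L19263 q1529, e3 q1208 (flp_h L19190) q1521, e3 q1209 L19302 q1533, e3 q1210 (flp_h L14182) q946, e3 q1211 (flp_h L19218) q1524, e3 q1212 L19334 q1537, e3 q1213 L14212 q1213, e3 q1214 L19357 q1540, e3 q1215 L19376 q1543, trivial⟩ (by decide +kernel)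

theorem ce_h_19 : ∀ r, r < 64 → sm gh (Qf (1216 + r)) = Qf (tab Gen.h (1216 + r)) :=
  edges_tab (sm gh) Qf (tab Gen.h) 1216 [(1216, 950), (1217, 1217), (1218, 1546), (1219, 1547), (1220, 952), (1221, 1534), (1222, 1551), (1223, 1223), (1224, 1554), (1225, 1557), (1226, 956), (1227, 1227), (1228, 1560), (1229, 1561), (1230, 958), (1231, 970), (1232, 1565), (1233, 1568), (1234, 961), (1235, 996), (1236, 1572), (1237, 963), (1238, 1576), (1239, 1577), (1240, 964), (1241, 1558), (1242, 1580), (1243, 967), (1244, 968), (1245, 1562), (1246, 1586), (1247, 1589), (1248, 971), (1249, 1249), (1250, 1593), (1251, 973), (1252, 1597), (1253, 1515), (1254, 974), (1255, 990), (1256, 1516), (1257, 977), (1258, 1599), (1259, 1602), (1260, 981), (1261, 1605), (1262, 1155), (1263, 982), (1264, 1590), (1265, 1608), (1266, 1156), (1267, 985), (1268, 1595), (1269, 1157), (1270, 987), (1271, 1581), (1272, 1612), (1273, 1615), (1274, 993), (1275, 1618), (1276, 1619), (1277, 994), (1278, 1278), (1279, 1621)]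
    ⟨e3 q1216 (flp_h L14227) q950, e3 q1217 L14240 q1217, e3 q1218 L19396 q1546, e3 q1219 L19402 q1547, e3 q1220 (flp_h L14254) q952, e3 q1221 (flp_h L19319) q1534, e3 q1222 L19438 q1551, e3 q1223 L14286 q1223, e3 q1224 L19470 q1554, e3 q1225 L19496 q1557, e3 q1226 (flp_h L14308) q956, e3 q1227 L14324 q1227, e3 q1228 L19523 q1560, e3 q1229 L19531 q1561, e3 q1230 (flp_h L14347) q958, e3 q1231 L14362 q970, e3 q1232 L19561 q1565, e3 q1233 L19581 q1568, e3 q1234 (flp_h L14377) q961, e3 q1235 L14392 q996, e3 q1236 L19607 q1572, e3 q1237 (flp_h L14401) q963, e3 q1238 L19633 q1576, e3 q1239 L19639 q1577, e3 q1240 (flp_h L14419) q964, e3 q1241 (flp_h L19511) q1558, e3 q1242 L19661 q1580, e3 q1243 (flp_h L14440) q967, e3 q1244 (flp_h L14444) q968, e3 q1245 (flp_h L19546) q1562, e3 q1246 L19707 q1586, e3 q1247 L19739 q1589, e3 q1248 (flp_h L14479) q971, e3 q1249 L14498 q1249, e3 q1250 L19781 q1593, e3 q1251 (flp_h L14512) q973, e3 q1252 L19815 q1597, e3 q1253 L110788 q1515, e3 q1254 (flp_h L14539)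 q974, e3 q1255 L14555 q990, e3 q1256 (flp_h L108903) q1516, e3 q1257 (flp_h L14566) q977, e3 q1258 L19898 q1599, e3 q1259 L19922 q1602, e3 q1260 (flp_h L14610) q981, e3 q1261 L19946 q1605, e3 q1262 L111553 q1155, e3 q1263 (flp_h L14631) q982, e3 q1264 (flp_h L19759) q1590, e3 q1265 L19982 q1608, e3 q1266 L84465 q1156, e3 q1267 (flp_h L14661) q985, e3 q1268 (flp_h L19805) q1595, e3 q1269 L104260 q1157, e3 q1270 (flp_h L14683) q987, e3 q1271 (flp_h L19671) q1581, e3 q1272 L20082 q1612, e3 q1273 L20108 q1615, e3 q1274 (flp_h L14754) q993, e3 q1275 L20141 q1618, e3 q1276 L20148 q1619, e3 q1277 (flp_h L14778) q994, e3 q1278 L14790 q1278, e3 q1279 L20171 q1621, trivial⟩ (by decide +kernel)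

theorem ce_h_20 : ∀ r, r < 64 → sm gh (Qf (1280 + r)) = Qf (tab Gen.h (1280 + r)) :=
  edges_tab (sm gh) Qf (tab Gen.h) 1280 [(1280, 1622), (1281, 997), (1282, 1088), (1283, 1283), (1284, 999), (1285, 1000), (1286, 1286), (1287, 1010), (1288, 1288), (1289, 1289), (1290, 1006), (1291, 1627), (1292, 1630), (1293, 1293), (1294, 1294), (1295, 1295), (1296, 1131), (1297, 1297), (1298, 1298), (1299, 1020), (1300, 1643), (1301, 1022), (1302, 1069), (1303, 1017), (1304, 1025), (1305, 1647), (1306, 1640), (1307, 1650), (1308, 1653), (1309, 1021), (1310, 1644), (1311, 1043), (1312, 1042), (1313, 1023), (1314, 1035), (1315, 1657), (1316, 1660), (1317, 1026), (1318, 1318), (1319, 1664), (1320, 1028), (1321, 1668), (1322, 1669), (1323, 1029), (1324, 1654), (1325, 1059), (1326, 1032), (1327, 1033), (1328, 1056), (1329, 1673), (1330, 1676), (1331, 1036), (1332, 1332), (1333, 1680), (1334, 1038), (1335, 1652), (1336, 1651), (1337, 1039), (1338, 1055), (1339, 1684), (1340, 1687), (1341, 1046), (1342, 1691),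 (1343, 1692)]
    ⟨e3 q1280 L20179 q1622, e3 q1281 (flp_h L14808) q997, e3 q1282 L14819 q1088, e3 q1283 L14828 q1283, e3 q1284 (flp_h L14838) q999, e3 q1285 (flp_h L14845) q1000, e3 q1286 L14858 q1286, e3 q1287 L14877 q1010, e3 q1288 L14885 q1288, e3 q1289 L14892 q1289, e3 q1290 (flp_h L14901) q1006, e3 q1291 (flp_h L20237) q1627, e3 q1292 (flp_h L20279) q1630, e3 q1293 L15034 q1293, e3 q1294 L15056 q1294, e3 q1295 L15065 q1295, e3 q1296 (flp_h L120222) q1131, e3 q1297 L15080 q1297, e3 q1298 L15089 q1298, e3 q1299 L15098 q1020, e3 q1300 L20550 q1643, e3 q1301 L15111 q1022, e3 q1302 L120302 q1069, e3 q1303 (flp_h L15122) q1017, e3 q1304 L15135 q1025, e3 q1305 L20613 q1647, e3 q1306 (flp_h L20534) q1640, e3 q1307 L20637 q1650, e3 q1308 L20662 q1653, e3 q1309 (flp_h L15172) q1021, e3 q1310 (flp_h L20562) q1644, e3 q1311 L115226 q1043, e3 q1312 L120392 q1042, e3 q1313 (flp_h L15205) q1023, e3 q1314 L15219 q1035, e3 q1315 L20724 q1657, e3 q1316 L20747 q1660, e3 q1317 (flp_h L15234) q1026, e3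 q1318 L15248 q1318, e3 q1319 L20777 q1664, e3 q1320 (flp_h L15256) q1028, e3 q1321 L20806 q1668, e3 q1322 L20813 q1669, e3 q1323 (flp_h L15277) q1029, e3 q1324 (flp_h L20674) q1654, e3 q1325 L120493 q1059, e3 q1326 (flp_h L15299) q1032, e3 q1327 (flp_h L15307) q1033, e3 q1328 L120482 q1056, e3 q1329 L20884 q1673, e3 q1330 L20912 q1676, e3 q1331 (flp_h L15341) q1036, e3 q1332 L15356 q1332, e3 q1333 L20944 q1680, e3 q1334 (flp_h L15366) q1038, e3 q1335 L119851 q1652, e3 q1336 L120400 q1651, e3 q1337 (flp_h L15390) q1039, e3 q1338 L15404 q1055, e3 q1339 L21041 q1684, e3 q1340 L21062 q1687, e3 q1341 (flp_h L15447) q1046, e3 q1342 L21094 q1691, e3 q1343 L21103 q1692, trivial⟩ (by decide +kernel)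

theorem ce_h_21 : ∀ r, r < 64 → sm gh (Qf (1344 + r)) = Qf (tab Gen.h (1344 + r)) :=
  edges_tab (sm gh) Qf (tab Gen.h) 1344 [(1344, 1047), (1345, 1677), (1346, 1696), (1347, 1697), (1348, 1050), (1349, 1573), (1350, 1682), (1351, 1670), (1352, 1052), (1353, 1053), (1354, 1667), (1355, 1703), (1356, 1706), (1357, 1060), (1358, 1709), (1359, 1710), (1360, 1061), (1361, 1713), (1362, 1714), (1363, 1064), (1364, 1594), (1365, 1642), (1366, 1066), (1367, 1067), (1368, 1368), (1369, 1369), (1370, 1370), (1371, 1371), (1372, 1723), (1373, 1373), (1374, 1374), (1375, 1726), (1376, 1080), (1377, 1729), (1378, 1081), (1379, 1616), (1380, 1380), (1381, 1083), (1382, 1382), (1383, 1086), (1384, 1623), (1385, 1385), (1386, 1625), (1387, 1741), (1388, 1388), (1389, 1389), (1390, 1390), (1391, 1391), (1392, 1747), (1393, 1393), (1394, 1750), (1395, 1097), (1396, 1411), (1397, 1752), (1398, 1754), (1399, 1099), (1400, 1107), (1401, 1100), (1402, 1110), (1403, 1102), (1404, 1404), (1405, 1759), (1406,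 1753), (1407, 1106)]
    ⟨e3 q1344 (flp_h L15471) q1047, e3 q1345 (flp_h L20928) q1677, e3 q1346 L21133 q1696, e3 q1347 L21140 q1697, e3 q1348 (flp_h L15499) q1050, e3 q1349 (flp_h L19618) q1573, e3 q1350 (flp_h L20960) q1682, e3 q1351 (flp_h L119914) q1670, e3 q1352 (flp_h L15524) q1052, e3 q1353 (flp_h L15532) q1053, e3 q1354 L120607 q1667, e3 q1355 L21230 q1703, e3 q1356 L21259 q1706, e3 q1357 (flp_h L15596) q1060, e3 q1358 L21285 q1709, e3 q1359 L21294 q1710, e3 q1360 (flp_h L15625) q1061, e3 q1361 L21320 q1713, e3 q1362 L21329 q1714, e3 q1363 (flp_h L15651) q1064, e3 q1364 (flp_h L19794) q1594, e3 q1365 L119859 q1642, e3 q1366 (flp_h L15674) q1066, e3 q1367 (flp_h L15682) q1067, e3 q1368 L15722 q1368, e3 q1369 L15729 q1369, e3 q1370 L15737 q1370, e3 q1371 L15747 q1371, e3 q1372 L21448 q1723, e3 q1373 L15759 q1373, e3 q1374 L15764 q1374, e3 q1375 L21471 q1726, e3 q1376 (flp_h L15776) q1080, e3 q1377 L21496 q1729, e3 q1378 (flp_h L15794) q1081, e3 q1379 (flp_h L20121) q1616, e3 q1380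 L15817 q1380, e3 q1381 (flp_h L15818) q1083, e3 q1382 L15835 q1382, e3 q1383 (flp_h L15836) q1086, e3 q1384 (flp_h L20192) q1623, e3 q1385 L15858 q1385, e3 q1386 (flp_h L20206) q1625, e3 q1387 L21586 q1741, e3 q1388 L15879 q1388, e3 q1389 L15887 q1389, e3 q1390 L15896 q1390, e3 q1391 L15903 q1391, e3 q1392 L21630 q1747, e3 q1393 L15917 q1393, e3 q1394 L21653 q1750, e3 q1395 (flp_h L15926) q1097, e3 q1396 (flp_h L83153) q1411, e3 q1397 L22453 q1752, e3 q1398 L22479 q1754, e3 q1399 (flp_h L16511) q1099, e3 q1400 L111632 q1107, e3 q1401 (flp_h L16536) q1100, e3 q1402 L111045 q1110, e3 q1403 (flp_h L16569) q1102, e3 q1404 L16581 q1404, e3 q1405 L22685 q1759, e3 q1406 L112007 q1753, e3 q1407 (flp_h L16683) q1106, trivial⟩ (by decide +kernel)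

theorem ce_h_22 : ∀ r, r < 64 → sm gh (Qf (1408 + r)) = Qf (tab Gen.h (1408 + r)) :=
  edges_tab (sm gh) Qf (tab Gen.h) 1408 [(1408, 1506), (1409, 1511), (1410, 1127), (1411, 1396), (1412, 1113), (1413, 1154), (1414, 1765), (1415, 1118), (1416, 1769), (1417, 1770), (1418, 1119), (1419, 1761), (1420, 1774), (1421, 1121), (1422, 1122), (1423, 1423), (1424, 1778), (1425, 1124), (1426, 1125), (1427, 1756), (1428, 1138), (1429, 1637), (1430, 1128), (1431, 1431), (1432, 1432), (1433, 1433), (1434, 1772), (1435, 1435), (1436, 1436), (1437, 1716), (1438, 1438), (1439, 1787), (1440, 1440), (1441, 1789), (1442, 1791), (1443, 1142), (1444, 1793), (1445, 1144), (1446, 1485), (1447, 1797), (1448, 1799), (1449, 1146), (1450, 1802), (1451, 1148), (1452, 1805), (1453, 1149), (1454, 1495), (1455, 1151), (1456, 1499), (1457, 1762), (1458, 1601), (1459, 1604), (1460, 1607), (1461, 1812), (1462, 1813), (1463, 1158), (1464, 1159), (1465, 1465), (1466, 1161), (1467, 1467), (1468, 1468), (1469, 1469), (1470,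 1171), (1471, 1825)]
    ⟨e3 q1408 (flp_h L83605) q1506, e3 q1409 L111003 q1511, e3 q1410 L16761 q1127, e3 q1411 L83153 q1396, e3 q1412 (flp_h L16860) q1113, e3 q1413 L111567 q1154, e3 q1414 L23417 q1765, e3 q1415 (flp_h L17224) q1118, e3 q1416 L23450 q1769, e3 q1417 L23460 q1770, e3 q1418 (flp_h L17249) q1119, e3 q1419 (flp_h L22727) q1761, e3 q1420 L23493 q1774, e3 q1421 (flp_h L17274) q1121, e3 q1422 (flp_h L17283) q1122, e3 q1423 L114808 q1423, e3 q1424 L23533 q1778, e3 q1425 (flp_h L17308) q1124, e3 q1426 (flp_h L17317) q1125, e3 q1427 (flp_h L106322) q1756, e3 q1428 L90549 q1138, e3 q1429 (flp_h L120210) q1637, e3 q1430 (flp_h L17346) q1128, e3 q1431 L17362 q1431, e3 q1432 L17393 q1432, e3 q1433 L17401 q1433, e3 q1434 L106290 q1772, e3 q1435 L17416 q1435, e3 q1436 L17423 q1436, e3 q1437 L110382 q1716, e3 q1438 L17442 q1438, e3 q1439 L24143 q1787, e3 q1440 L17804 q1440, e3 q1441 L24168 q1789, e3 q1442 L24187 q1791, e3 q1443 (flp_h L17818) q1142, e3 q1444 L24209 q1793, e3 q1445 (flp_h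 L17848) q1144, e3 q1446 (flp_h L18865) q1485, e3 q1447 L24249 q1797, e3 q1448 L24273 q1799, e3 q1449 (flp_h L17879) q1146, e3 q1450 L24302 q1802, e3 q1451 (flp_h L17905) q1148, e3 q1452 L24327 q1805, e3 q1453 (flp_h L17923) q1149, e3 q1454 (flp_h L18952) q1495, e3 q1455 (flp_h L17946) q1151, e3 q1456 (flp_h L18979) q1499, e3 q1457 L111896 q1762, e3 q1458 L111448 q1601, e3 q1459 L111437 q1604, e3 q1460 L110828 q1607, e3 q1461 L24628 q1812, e3 q1462 L24654 q1813, e3 q1463 (flp_h L18150) q1158, e3 q1464 (flp_h L18178) q1159, e3 q1465 L18194 q1465, e3 q1466 (flp_h L18210) q1161, e3 q1467 L18221 q1467, e3 q1468 L18229 q1468, e3 q1469 L18259 q1469, e3 q1470 L18742 q1171, e3 q1471 L25466 q1825, trivial⟩ (by decide +kernel)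

theorem ce_h_23 : ∀ r, r < 64 → sm gh (Qf (1472 + r)) = Qf (tab Gen.h (1472 + r)) :=
  edges_tab (sm gh) Qf (tab Gen.h) 1472 [(1472, 1173), (1473, 1829), (1474, 1168), (1475, 1176), (1476, 1833), (1477, 1822), (1478, 1836), (1479, 1839), (1480, 1172), (1481, 1826), (1482, 1842), (1483, 1843), (1484, 1174), (1485, 1446), (1486, 1847), (1487, 1850), (1488, 1177), (1489, 1489), (1490, 1854), (1491, 1179), (1492, 1858), (1493, 1859), (1494, 1180), (1495, 1454), (1496, 1862), (1497, 1183), (1498, 1184), (1499, 1456), (1500, 1867), (1501, 1870), (1502, 1187), (1503, 1874), (1504, 1875), (1505, 1188), (1506, 1408), (1507, 1879), (1508, 1880), (1509, 1191), (1510, 1510), (1511, 1409), (1512, 1885), (1513, 1193), (1514, 1194), (1515, 1253), (1516, 1256), (1517, 1197), (1518, 1863), (1519, 1206), (1520, 1893), (1521, 1208), (1522, 1897), (1523, 1203), (1524, 1211), (1525, 1901), (1526, 1890), (1527, 1904), (1528, 1907), (1529, 1207), (1530, 1894), (1531, 1910), (1532, 1911), (1533, 1209), (1534,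 1221), (1535, 1915)]
    ⟨e3 q1472 L18757 q1173, e3 q1473 L25497 q1829, e3 q1474 (flp_h L18767) q1168, e3 q1475 L18779 q1176, e3 q1476 L25530 q1833, e3 q1477 (flp_h L25448) q1822, e3 q1478 L25555 q1836, e3 q1479 L25582 q1839, e3 q1480 (flp_h L18818) q1172, e3 q1481 (flp_h L25480) q1826, e3 q1482 L25606 q1842, e3 q1483 L25614 q1843, e3 q1484 (flp_h L18852) q1174, e3 q1485 L18865 q1446, e3 q1486 L25646 q1847, e3 q1487 L25674 q1850, e3 q1488 (flp_h L18885) q1177, e3 q1489 L18900 q1489, e3 q1490 L25707 q1854, e3 q1491 (flp_h L18911) q1179, e3 q1492 L25737 q1858, e3 q1493 L25745 q1859, e3 q1494 (flp_h L18937) q1180, e3 q1495 L18952 q1454, e3 q1496 L25771 q1862, e3 q1497 (flp_h L18962) q1183, e3 q1498 (flp_h L18968) q1184, e3 q1499 L18979 q1456, e3 q1500 L25808 q1867, e3 q1501 L25838 q1870, e3 q1502 (flp_h L19000) q1187, e3 q1503 L25875 q1874, e3 q1504 L25883 q1875, e3 q1505 (flp_h L19028) q1188, e3 q1506 L83605 q1408, e3 q1507 L25918 q1879, e3 q1508 L25927 q1880, e3 q1509 (flp_h L19065) q1191,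 e3 q1510 L19079 q1510, e3 q1511 (flp_h L111003) q1409, e3 q1512 L25971 q1885, e3 q1513 (flp_h L19099) q1193, e3 q1514 (flp_h L19107) q1194, e3 q1515 (flp_h L110788) q1253, e3 q1516 L108903 q1256, e3 q1517 (flp_h L19134) q1197, e3 q1518 (flp_h L25782) q1863, e3 q1519 L19174 q1206, e3 q1520 L26079 q1893, e3 q1521 L19190 q1208, e3 q1522 L26115 q1897, e3 q1523 (flp_h L19202) q1203, e3 q1524 L19218 q1211, e3 q1525 L26155 q1901, e3 q1526 (flp_h L26060) q1890, e3 q1527 L26186 q1904, e3 q1528 L26213 q1907, e3 q1529 (flp_h L19263) q1207, e3 q1530 (flp_h L26094) q1894, e3 q1531 L26239 q1910, e3 q1532 L26249 q1911, e3 q1533 (flp_h L19302) q1209, e3 q1534 L19319 q1221, e3 q1535 L26283 q1915, trivial⟩ (by decide +kernel)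

theorem ce_h_24 : ∀ r, r < 64 → sm gh (Qf (1536 + r)) = Qf (tab Gen.h (1536 + r)) :=
  edges_tab (sm gh) Qf (tab Gen.h) 1536 [(1536, 1918), (1537, 1212), (1538, 1538), (1539, 1922), (1540, 1214), (1541, 1926), (1542, 1927), (1543, 1215), (1544, 1908), (1545, 1930), (1546, 1218), (1547, 1219), (1548, 1912), (1549, 1936), (1550, 1939), (1551, 1222), (1552, 1552), (1553, 1943), (1554, 1224), (1555, 1947), (1556, 1948), (1557, 1225), (1558, 1241), (1559, 1950), (1560, 1228), (1561, 1229), (1562, 1245), (1563, 1955), (1564, 1958), (1565, 1232), (1566, 1962), (1567, 1963), (1568, 1233), (1569, 1940), (1570, 1967), (1571, 1968), (1572, 1236), (1573, 1349), (1574, 1945), (1575, 1974), (1576, 1238), (1577, 1239), (1578, 1949), (1579, 1951), (1580, 1242), (1581, 1271), (1582, 1952), (1583, 1953), (1584, 1982), (1585, 1985), (1586, 1246), (1587, 1989), (1588, 1876), (1589, 1247), (1590, 1264), (1591, 1992), (1592, 1882), (1593, 1250), (1594, 1364), (1595, 1268), (1596, 1884), (1597, 1252), (1598,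 1997), (1599, 1258)]
    ⟨e3 q1536 L26302 q1918, e3 q1537 (flp_h L19334) q1212, e3 q1538 L19347 q1538, e3 q1539 L26330 q1922, e3 q1540 (flp_h L19357) q1214, e3 q1541 L26360 q1926, e3 q1542 L26366 q1927, e3 q1543 (flp_h L19376) q1215, e3 q1544 (flp_h L26226) q1908, e3 q1545 L26387 q1930, e3 q1546 (flp_h L19396) q1218, e3 q1547 (flp_h L19402) q1219, e3 q1548 (flp_h L26266) q1912, e3 q1549 L26434 q1936, e3 q1550 L26466 q1939, e3 q1551 (flp_h L19438) q1222, e3 q1552 L19458 q1552, e3 q1553 L26504 q1943, e3 q1554 (flp_h L19470) q1224, e3 q1555 L26535 q1947, e3 q1556 L26543 q1948, e3 q1557 (flp_h L19496) q1225, e3 q1558 L19511 q1241, e3 q1559 L26571 q1950, e3 q1560 (flp_h L19523) q1228, e3 q1561 (flp_h L19531) q1229, e3 q1562 L19546 q1245, e3 q1563 L26614 q1955, e3 q1564 L26634 q1958, e3 q1565 (flp_h L19561) q1232, e3 q1566 L26666 q1962, e3 q1567 L26672 q1963, e3 q1568 (flp_h L19581) q1233, e3 q1569 (flp_h L26485) q1940, e3 q1570 L26701 q1967, e3 q1571 L26707 q1968, e3 q1572 (flp_h L19607) q1236,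 e3 q1573 L19618 q1349, e3 q1574 (flp_h L26523) q1945, e3 q1575 L26749 q1974, e3 q1576 (flp_h L19633) q1238, e3 q1577 (flp_h L19639) q1239, e3 q1578 (flp_h L26558) q1949, e3 q1579 (flp_h L109133) q1951, e3 q1580 (flp_h L19661) q1242, e3 q1581 L19671 q1271, e3 q1582 (flp_h L26596) q1952, e3 q1583 (flp_h L26606) q1953, e3 q1584 L26822 q1982, e3 q1585 L26855 q1985, e3 q1586 (flp_h L19707) q1246, e3 q1587 L26894 q1989, e3 q1588 L111514 q1876, e3 q1589 (flp_h L19739) q1247, e3 q1590 L19759 q1264, e3 q1591 L26944 q1992, e3 q1592 (flp_h L84501) q1882, e3 q1593 (flp_h L19781) q1250, e3 q1594 L19794 q1364, e3 q1595 L19805 q1268, e3 q1596 (flp_h L110759) q1884, e3 q1597 (flp_h L19815) q1252, e3 q1598 L27104 q1997, e3 q1599 (flp_h L19898) q1258, trivial⟩ (by decide +kernel)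

theorem ce_h_25 : ∀ r, r < 64 → sm gh (Qf (1600 + r)) = Qf (tab Gen.h (1600 + r)) :=
  edges_tab (sm gh) Qf (tab Gen.h) 1600 [(1600, 2001), (1601, 1458), (1602, 1259), (1603, 1987), (1604, 1459), (1605, 1261), (1606, 2004), (1607, 1460), (1608, 1265), (1609, 1975), (1610, 1979), (1611, 2010), (1612, 1272), (1613, 2013), (1614, 2014), (1615, 1273), (1616, 1379), (1617, 1617), (1618, 1275), (1619, 1276), (1620, 1620), (1621, 1279), (1622, 1280), (1623, 1384), (1624, 1624), (1625, 1386), (1626, 2030), (1627, 1291), (1628, 1628), (1629, 1629), (1630, 1292), (1631, 1865), (1632, 2019), (1633, 2031), (1634, 2033), (1635, 1635), (1636, 1636), (1637, 1429), (1638, 1638), (1639, 2043), (1640, 1306), (1641, 2046), (1642, 1365), (1643, 1300), (1644, 1310), (1645, 2049), (1646, 2052), (1647, 1305), (1648, 2044), (1649, 2056), (1650, 1307), (1651, 1336), (1652, 1335), (1653, 1308), (1654, 1324), (1655, 2060), (1656, 2063), (1657, 1315), (1658, 2067), (1659, 2068), (1660, 1316), (1661, 2053), (1662,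 2072), (1663, 2073)]
    ⟨e3 q1600 L27134 q2001, e3 q1601 (flp_h L111448) q1458, e3 q1602 (flp_h L19922) q1259, e3 q1603 (flp_h L26882) q1987, e3 q1604 (flp_h L111437) q1459, e3 q1605 (flp_h L19946) q1261, e3 q1606 L27205 q2004, e3 q1607 (flp_h L110828) q1460, e3 q1608 (flp_h L19982) q1265, e3 q1609 (flp_h L26763) q1975, e3 q1610 (flp_h L26803) q1979, e3 q1611 L27342 q2010, e3 q1612 (flp_h L20082) q1272, e3 q1613 L27375 q2013, e3 q1614 L27384 q2014, e3 q1615 (flp_h L20108) q1273, e3 q1616 L20121 q1379, e3 q1617 L20131 q1617, e3 q1618 (flp_h L20141) q1275, e3 q1619 (flp_h L20148) q1276, e3 q1620 L20161 q1620, e3 q1621 (flp_h L20171) q1279, e3 q1622 (flp_h L20179) q1280, e3 q1623 L20192 q1384, e3 q1624 L20201 q1624, e3 q1625 L20206 q1386, e3 q1626 L27539 q2030, e3 q1627 L20237 q1291, e3 q1628 L20246 q1628, e3 q1629 L20254 q1629, e3 q1630 L20279 q1292, e3 q1631 (flp_h L109360) q1865, e3 q1632 (flp_h L27447) q2019, e3 q1633 (flp_h L27574) q2031, e3 q1634 (flp_h L27615) q2033, e3 q1635 L20458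 q1635, e3 q1636 L20480 q1636, e3 q1637 L120210 q1429, e3 q1638 L20495 q1638, e3 q1639 L27949 q2043, e3 q1640 L20534 q1306, e3 q1641 L27973 q2046, e3 q1642 (flp_h L119859) q1365, e3 q1643 (flp_h L20550) q1300, e3 q1644 L20562 q1310, e3 q1645 L28058 q2049, e3 q1646 L28085 q2052, e3 q1647 (flp_h L20613) q1305, e3 q1648 (flp_h L27963) q2044, e3 q1649 L28119 q2056, e3 q1650 (flp_h L20637) q1307, e3 q1651 (flp_h L120400) q1336, e3 q1652 (flp_h L119851) q1335, e3 q1653 (flp_h L20662) q1308, e3 q1654 L20674 q1324, e3 q1655 L28224 q2060, e3 q1656 L28247 q2063, e3 q1657 (flp_h L20724) q1315, e3 q1658 L28277 q2067, e3 q1659 L28285 q2068, e3 q1660 (flp_h L20747) q1316, e3 q1661 (flp_h L28099) q2053, e3 q1662 L28316 q2072, e3 q1663 L28325 q2073, trivial⟩ (by decide +kernel)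

theorem ce_h_26 : ∀ r, r < 64 → sm gh (Qf (1664 + r)) = Qf (tab Gen.h (1664 + r)) :=
  edges_tab (sm gh) Qf (tab Gen.h) 1664 [(1664, 1319), (1665, 1923), (1666, 2058), (1667, 1354), (1668, 1321), (1669, 1322), (1670, 1351), (1671, 2079), (1672, 2082), (1673, 1329), (1674, 2051), (1675, 2050), (1676, 1330), (1677, 1345), (1678, 2055), (1679, 2054), (1680, 1333), (1681, 1944), (1682, 1350), (1683, 2091), (1684, 1339), (1685, 2096), (1686, 2097), (1687, 1340), (1688, 1959), (1689, 2084), (1690, 2069), (1691, 1342), (1692, 1343), (1693, 2066), (1694, 2103), (1695, 2075), (1696, 1346), (1697, 1347), (1698, 1969), (1699, 2071), (1700, 1971), (1701, 2110), (1702, 2113), (1703, 1355), (1704, 2117), (1705, 2118), (1706, 1356), (1707, 1986), (1708, 2042), (1709, 1358), (1710, 1359), (1711, 2122), (1712, 2045), (1713, 1361), (1714, 1362), (1715, 1993), (1716, 1437), (1717, 1717), (1718, 1718), (1719, 2130), (1720, 1720), (1721, 1721), (1722, 2133), (1723, 1372), (1724, 1724), (1725, 2135), (1726,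 1375), (1727, 2011)]
    ⟨e3 q1664 (flp_h L20777) q1319, e3 q1665 (flp_h L26344) q1923, e3 q1666 (flp_h L28140) q2058, e3 q1667 (flp_h L120607) q1354, e3 q1668 (flp_h L20806) q1321, e3 q1669 (flp_h L20813) q1322, e3 q1670 L119914 q1351, e3 q1671 L28442 q2079, e3 q1672 L28467 q2082, e3 q1673 (flp_h L20884) q1329, e3 q1674 (flp_h L119840) q2051, e3 q1675 (flp_h L117478) q2050, e3 q1676 (flp_h L20912) q1330, e3 q1677 L20928 q1345, e3 q1678 (flp_h L119833) q2055, e3 q1679 (flp_h L119743) q2054, e3 q1680 (flp_h L20944) q1333, e3 q1681 (flp_h L26514) q1944, e3 q1682 L20960 q1350, e3 q1683 L28678 q2091, e3 q1684 (flp_h L21041) q1339, e3 q1685 L28712 q2096, e3 q1686 L28721 q2097, e3 q1687 (flp_h L21062) q1340, e3 q1688 (flp_h L26649) q1959, e3 q1689 (flp_h L28489) q2084, e3 q1690 L117434 q2069, e3 q1691 (flp_h L21094) q1342, e3 q1692 (flp_h L21103) q1343, e3 q1693 L117521 q2066, e3 q1694 L28807 q2103, e3 q1695 L119755 q2075, e3 q1696 (flp_h L21133) q1346, e3 q1697 (flp_h L21140) q1347, e3 q1698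 (flp_h L26720) q1969, e3 q1699 L116313 q2071, e3 q1700 (flp_h L26733) q1971, e3 q1701 L28876 q2110, e3 q1702 L28926 q2113, e3 q1703 (flp_h L21230) q1355, e3 q1704 L28960 q2117, e3 q1705 L28970 q2118, e3 q1706 (flp_h L21259) q1356, e3 q1707 (flp_h L26870) q1986, e3 q1708 L119250 q2042, e3 q1709 (flp_h L21285) q1358, e3 q1710 (flp_h L21294) q1359, e3 q1711 L29033 q2122, e3 q1712 L119413 q2045, e3 q1713 (flp_h L21320) q1361, e3 q1714 (flp_h L21329) q1362, e3 q1715 (flp_h L26968) q1993, e3 q1716 (flp_h L110382) q1437, e3 q1717 L21409 q1717, e3 q1718 L21417 q1718, e3 q1719 L29147 q2130, e3 q1720 L21433 q1720, e3 q1721 L21439 q1721, e3 q1722 L29169 q2133, e3 q1723 (flp_h L21448) q1372, e3 q1724 L21458 q1724, e3 q1725 L29180 q2135, e3 q1726 (flp_h L21471) q1375, e3 q1727 (flp_h L27355) q2011, trivial⟩ (by decide +kernel)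

theorem ce_h_27 : ∀ r, r < 64 → sm gh (Qf (1728 + r)) = Qf (tab Gen.h (1728 + r)) :=
  edges_tab (sm gh) Qf (tab Gen.h) 1728 [(1728, 1728), (1729, 1377), (1730, 2015), (1731, 1731), (1732, 2017), (1733, 2147), (1734, 1734), (1735, 2024), (1736, 1736), (1737, 2026), (1738, 2152), (1739, 2028), (1740, 2155), (1741, 1387), (1742, 1742), (1743, 1743), (1744, 2160), (1745, 1745), (1746, 2163), (1747, 1392), (1748, 1748), (1749, 2165), (1750, 1394), (1751, 2168), (1752, 1397), (1753, 1406), (1754, 1398), (1755, 1755), (1756, 1427), (1757, 1757), (1758, 2167), (1759, 1405), (1760, 1872), (1761, 1419), (1762, 1457), (1763, 2176), (1764, 2177), (1765, 1414), (1766, 2173), (1767, 1767), (1768, 2183), (1769, 1416), (1770, 1417), (1771, 2170), (1772, 1434), (1773, 2038), (1774, 1420), (1775, 1775), (1776, 1776), (1777, 2040), (1778, 1424), (1779, 1883), (1780, 2180), (1781, 1781), (1782, 2120), (1783, 1783), (1784, 2126), (1785, 2193), (1786, 2195), (1787, 1439), (1788, 2198), (1789, 1441), (1790,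 2201), (1791, 1442)]
    ⟨e3 q1728 L21495 q1728, e3 q1729 (flp_h L21496) q1377, e3 q1730 (flp_h L27399) q2015, e3 q1731 L21521 q1731, e3 q1732 (flp_h L27415) q2017, e3 q1733 L29274 q2147, e3 q1734 L21545 q1734, e3 q1735 (flp_h L27503) q2024, e3 q1736 L21561 q1736, e3 q1737 (flp_h L27517) q2026, e3 q1738 L29306 q2152, e3 q1739 (flp_h L27530) q2028, e3 q1740 L29325 q2155, e3 q1741 (flp_h L21586) q1387, e3 q1742 L21596 q1742, e3 q1743 L21605 q1743, e3 q1744 L29363 q2160, e3 q1745 L21620 q1745, e3 q1746 L29388 q2163, e3 q1747 (flp_h L21630) q1392, e3 q1748 L21644 q1748, e3 q1749 L29405 q2165, e3 q1750 (flp_h L21653) q1394, e3 q1751 L30527 q2168, e3 q1752 (flp_h L22453) q1397, e3 q1753 (flp_h L112007) q1406, e3 q1754 (flp_h L22479) q1398, e3 q1755 L22493 q1755, e3 q1756 L106322 q1427, e3 q1757 L22577 q1757, e3 q1758 (flp_h L111990) q2167, e3 q1759 (flp_h L22685) q1405, e3 q1760 L111530 q1872, e3 q1761 L22727 q1419, e3 q1762 (flp_h L111896) q1457, e3 q1763 L31840 q2176, e3 q1764 L31850 q2177,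 e3 q1765 (flp_h L23417) q1414, e3 q1766 (flp_h L30876) q2173, e3 q1767 L77779 q1767, e3 q1768 L31904 q2183, e3 q1769 (flp_h L23450) q1416, e3 q1770 (flp_h L23460) q1417, e3 q1771 L105754 q2170, e3 q1772 (flp_h L106290) q1434, e3 q1773 L119264 q2038, e3 q1774 (flp_h L23493) q1420, e3 q1775 L23511 q1775, e3 q1776 L114817 q1776, e3 q1777 (flp_h L119348) q2040, e3 q1778 (flp_h L23533) q1424, e3 q1779 (flp_h L90470) q1883, e3 q1780 (flp_h L96740) q2180, e3 q1781 L23627 q1781, e3 q1782 (flp_h L106460) q2120, e3 q1783 L23648 q1783, e3 q1784 L90589 q2126, e3 q1785 L32801 q2193, e3 q1786 L32824 q2195, e3 q1787 (flp_h L24143) q1439, e3 q1788 L32855 q2198, e3 q1789 (flp_h L24168) q1441, e3 q1790 L32884 q2201, e3 q1791 (flp_h L24187) q1442, trivial⟩ (by decide +kernel)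

theorem ce_h_28 : ∀ r, r < 64 → sm gh (Qf (1792 + r)) = Qf (tab Gen.h (1792 + r)) :=
  edges_tab (sm gh) Qf (tab Gen.h) 1792 [(1792, 1840), (1793, 1444), (1794, 1844), (1795, 2206), (1796, 2208), (1797, 1447), (1798, 2211), (1799, 1448), (1800, 1851), (1801, 2214), (1802, 1450), (1803, 1803), (1804, 1856), (1805, 1452), (1806, 1860), (1807, 1864), (1808, 1996), (1809, 2000), (1810, 2222), (1811, 2223), (1812, 1461), (1813, 1462), (1814, 1814), (1815, 1815), (1816, 1816), (1817, 1817), (1818, 1818), (1819, 1819), (1820, 2234), (1821, 2237), (1822, 1477), (1823, 2240), (1824, 2243), (1825, 1471), (1826, 1481), (1827, 2246), (1828, 2247), (1829, 1473), (1830, 1830), (1831, 2251), (1832, 2254), (1833, 1476), (1834, 2238), (1835, 2258), (1836, 1478), (1837, 2262), (1838, 2263), (1839, 1479), (1840, 1792), (1841, 2266), (1842, 1482), (1843, 1483), (1844, 1794), (1845, 2271), (1846, 2274), (1847, 1486), (1848, 2278), (1849, 2279), (1850, 1487), (1851, 1800), (1852, 2283), (1853, 2284), (1854,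 1490), (1855, 1855)]
    ⟨e3 q1792 (flp_h L25595) q1840, e3 q1793 (flp_h L24209) q1444, e3 q1794 (flp_h L25627) q1844, e3 q1795 L32954 q2206, e3 q1796 L32975 q2208, e3 q1797 (flp_h L24249) q1447, e3 q1798 L33008 q2211, e3 q1799 (flp_h L24273) q1448, e3 q1800 (flp_h L25689) q1851, e3 q1801 L33048 q2214, e3 q1802 (flp_h L24302) q1450, e3 q1803 L24313 q1803, e3 q1804 (flp_h L25725) q1856, e3 q1805 (flp_h L24327) q1452, e3 q1806 (flp_h L25760) q1860, e3 q1807 (flp_h L25790) q1864, e3 q1808 L112086 q1996, e3 q1809 (flp_h L102719) q2000, e3 q1810 L33329 q2222, e3 q1811 L33525 q2223, e3 q1812 (flp_h L24628) q1461, e3 q1813 (flp_h L24654) q1462, e3 q1814 L24667 q1814, e3 q1815 L24676 q1815, e3 q1816 L24714 q1816, e3 q1817 L24752 q1817, e3 q1818 L24760 q1818, e3 q1819 L24765 q1819, e3 q1820 L33752 q2234, e3 q1821 L34644 q2237, e3 q1822 L25448 q1477, e3 q1823 L34669 q2240, e3 q1824 L34691 q2243, e3 q1825 (flp_h L25466) q1471, e3 q1826 L25480 q1481, e3 q1827 L34715 q2246, e3 q1828 L34721 q2247, e3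 q1829 (flp_h L25497) q1473, e3 q1830 L25511 q1830, e3 q1831 L34756 q2251, e3 q1832 L34783 q2254, e3 q1833 (flp_h L25530) q1476, e3 q1834 (flp_h L34658) q2238, e3 q1835 L34818 q2258, e3 q1836 (flp_h L25555) q1478, e3 q1837 L34852 q2262, e3 q1838 L34860 q2263, e3 q1839 (flp_h L25582) q1479, e3 q1840 L25595 q1792, e3 q1841 L34885 q2266, e3 q1842 (flp_h L25606) q1482, e3 q1843 (flp_h L25614) q1483, e3 q1844 L25627 q1794, e3 q1845 L34924 q2271, e3 q1846 L34951 q2274, e3 q1847 (flp_h L25646) q1486, e3 q1848 L34987 q2278, e3 q1849 L34995 q2279, e3 q1850 (flp_h L25674) q1487, e3 q1851 L25689 q1800, e3 q1852 L35029 q2283, e3 q1853 L35037 q2284, e3 q1854 (flp_h L25707) q1490, e3 q1855 L25717 q1855, trivial⟩ (by decide +kernel)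

theorem ce_h_29 : ∀ r, r < 64 → sm gh (Qf (1856 + r)) = Qf (tab Gen.h (1856 + r)) :=
  edges_tab (sm gh) Qf (tab Gen.h) 1856 [(1856, 1804), (1857, 2290), (1858, 1492), (1859, 1493), (1860, 1806), (1861, 2294), (1862, 1496), (1863, 1518), (1864, 1807), (1865, 1631), (1866, 2301), (1867, 1500), (1868, 2306), (1869, 2307), (1870, 1501), (1871, 1871), (1872, 1760), (1873, 2312), (1874, 1503), (1875, 1504), (1876, 1588), (1877, 2315), (1878, 2317), (1879, 1507), (1880, 1508), (1881, 1881), (1882, 1592), (1883, 1779), (1884, 1596), (1885, 1512), (1886, 2291), (1887, 2295), (1888, 2297), (1889, 2328), (1890, 1526), (1891, 2331), (1892, 2334), (1893, 1520), (1894, 1530), (1895, 2337), (1896, 2338), (1897, 1522), (1898, 1898), (1899, 2342), (1900, 2345), (1901, 1525), (1902, 2329), (1903, 2349), (1904, 1527), (1905, 2353), (1906, 2354), (1907, 1528), (1908, 1544), (1909, 2356), (1910, 1531), (1911, 1532), (1912, 1548), (1913, 2361), (1914, 2364), (1915, 1535), (1916, 2368), (1917, 2369), (1918,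 1536), (1919, 2346)]
    ⟨e3 q1856 L25725 q1804, e3 q1857 L35082 q2290, e3 q1858 (flp_h L25737) q1492, e3 q1859 (flp_h L25745) q1493, e3 q1860 L25760 q1806, e3 q1861 L35119 q2294, e3 q1862 (flp_h L25771) q1496, e3 q1863 L25782 q1518, e3 q1864 L25790 q1807, e3 q1865 L109360 q1631, e3 q1866 L35174 q2301, e3 q1867 (flp_h L25808) q1500, e3 q1868 L35220 q2306, e3 q1869 L35230 q2307, e3 q1870 (flp_h L25838) q1501, e3 q1871 L25854 q1871, e3 q1872 (flp_h L111530) q1760, e3 q1873 L35278 q2312, e3 q1874 (flp_h L25875) q1503, e3 q1875 (flp_h L25883) q1504, e3 q1876 (flp_h L111514) q1588, e3 q1877 L35322 q2315, e3 q1878 L35339 q2317, e3 q1879 (flp_h L25918) q1507, e3 q1880 (flp_h L25927) q1508, e3 q1881 L25942 q1881, e3 q1882 L84501 q1592, e3 q1883 L90470 q1779, e3 q1884 L110759 q1596, e3 q1885 (flp_h L25971) q1512, e3 q1886 (flp_h L35097) q2291, e3 q1887 (flp_h L35131) q2295, e3 q1888 (flp_h L35146) q2297, e3 q1889 L35518 q2328, e3 q1890 L26060 q1526, e3 q1891 L35549 q2331, e3 q1892 L35571 q2334, e3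 q1893 (flp_h L26079) q1520, e3 q1894 L26094 q1530, e3 q1895 L35597 q2337, e3 q1896 L35605 q2338, e3 q1897 (flp_h L26115) q1522, e3 q1898 L26133 q1898, e3 q1899 L35648 q2342, e3 q1900 L35679 q2345, e3 q1901 (flp_h L26155) q1525, e3 q1902 (flp_h L35537) q2329, e3 q1903 L35719 q2349, e3 q1904 (flp_h L26186) q1527, e3 q1905 L35754 q2353, e3 q1906 L35762 q2354, e3 q1907 (flp_h L26213) q1528, e3 q1908 L26226 q1544, e3 q1909 L35789 q2356, e3 q1910 (flp_h L26239) q1531, e3 q1911 (flp_h L26249) q1532, e3 q1912 L26266 q1548, e3 q1913 L35837 q2361, e3 q1914 L35859 q2364, e3 q1915 (flp_h L26283) q1535, e3 q1916 L35889 q2368, e3 q1917 L35895 q2369, e3 q1918 (flp_h L26302) q1536, e3 q1919 (flp_h L35696) q2346, trivial⟩ (by decide +kernel)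

theorem ce_h_30 : ∀ r, r < 64 → sm gh (Qf (1920 + r)) = Qf (tab Gen.h (1920 + r)) :=
  edges_tab (sm gh) Qf (tab Gen.h) 1920 [(1920, 2373), (1921, 2374), (1922, 1539), (1923, 1665), (1924, 2351), (1925, 2380), (1926, 1541), (1927, 1542), (1928, 2355), (1929, 2384), (1930, 1545), (1931, 1931), (1932, 2358), (1933, 2359), (1934, 2390), (1935, 2393), (1936, 1549), (1937, 2397), (1938, 2398), (1939, 1550), (1940, 1569), (1941, 2402), (1942, 2403), (1943, 1553), (1944, 1681), (1945, 1574), (1946, 2408), (1947, 1555), (1948, 1556), (1949, 1578), (1950, 1559), (1951, 1579), (1952, 1582), (1953, 1583), (1954, 2416), (1955, 1563), (1956, 2421), (1957, 2422), (1958, 1564), (1959, 1688), (1960, 2395), (1961, 2428), (1962, 1566), (1963, 1567), (1964, 2399), (1965, 2433), (1966, 2435), (1967, 1570), (1968, 1571), (1969, 1698), (1970, 2405), (1971, 1700), (1972, 2444), (1973, 2409), (1974, 1575), (1975, 1609), (1976, 2410), (1977, 2411), (1978, 2412), (1979, 1610), (1980, 2296), (1981, 2452), (1982,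 1584), (1983, 2457)]
    ⟨e3 q1920 L35925 q2373, e3 q1921 L35933 q2374, e3 q1922 (flp_h L26330) q1539, e3 q1923 L26344 q1665, e3 q1924 (flp_h L35743) q2351, e3 q1925 L35981 q2380, e3 q1926 (flp_h L26360) q1541, e3 q1927 (flp_h L26366) q1542, e3 q1928 (flp_h L35775) q2355, e3 q1929 L36009 q2384, e3 q1930 (flp_h L26387) q1545, e3 q1931 L26398 q1931, e3 q1932 (flp_h L35816) q2358, e3 q1933 (flp_h L35827) q2359, e3 q1934 L36051 q2390, e3 q1935 L36081 q2393, e3 q1936 (flp_h L26434) q1549, e3 q1937 L36120 q2397, e3 q1938 L36130 q2398, e3 q1939 (flp_h L26466) q1550, e3 q1940 L26485 q1569, e3 q1941 L36169 q2402, e3 q1942 L36177 q2403, e3 q1943 (flp_h L26504) q1553, e3 q1944 L26514 q1681, e3 q1945 L26523 q1574, e3 q1946 L36224 q2408, e3 q1947 (flp_h L26535) q1555, e3 q1948 (flp_h L26543) q1556, e3 q1949 L26558 q1578, e3 q1950 (flp_h L26571) q1559, e3 q1951 L109133 q1579, e3 q1952 L26596 q1582, e3 q1953 L26606 q1583, e3 q1954 L36318 q2416, e3 q1955 (flp_h L26614) q1563, e3 q1956 L36352 q2421, e3 q1957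 L36360 q2422, e3 q1958 (flp_h L26634) q1564, e3 q1959 L26649 q1688, e3 q1960 (flp_h L36106) q2395, e3 q1961 L36412 q2428, e3 q1962 (flp_h L26666) q1566, e3 q1963 (flp_h L26672) q1567, e3 q1964 (flp_h L36149) q2399, e3 q1965 L36451 q2433, e3 q1966 L36462 q2435, e3 q1967 (flp_h L26701) q1570, e3 q1968 (flp_h L26707) q1571, e3 q1969 L26720 q1698, e3 q1970 (flp_h L36197) q2405, e3 q1971 L26733 q1700, e3 q1972 L36521 q2444, e3 q1973 L102279 q2409, e3 q1974 (flp_h L26749) q1575, e3 q1975 L26763 q1609, e3 q1976 (flp_h L36249) q2410, e3 q1977 (flp_h L36259) q2411, e3 q1978 (flp_h L36287) q2412, e3 q1979 L26803 q1610, e3 q1980 L86799 q2296, e3 q1981 L36636 q2452, e3 q1982 (flp_h L26822) q1584, e3 q1983 L36687 q2457, trivial⟩ (by decide +kernel)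

theorem ce_h_31 : ∀ r, r < 64 → sm gh (Qf (1984 + r)) = Qf (tab Gen.h (1984 + r)) :=
  edges_tab (sm gh) Qf (tab Gen.h) 1984 [(1984, 2309), (1985, 1585), (1986, 1707), (1987, 1603), (1988, 2311), (1989, 1587), (1990, 2461), (1991, 2316), (1992, 1591), (1993, 1715), (1994, 1994), (1995, 2466), (1996, 1808), (1997, 1598), (1998, 2454), (1999, 2468), (2000, 1809), (2001, 1600), (2002, 2429), (2003, 2471), (2004, 1606), (2005, 2472), (2006, 2446), (2007, 2448), (2008, 2477), (2009, 2478), (2010, 1611), (2011, 1727), (2012, 2012), (2013, 1613), (2014, 1614), (2015, 1730), (2016, 2016), (2017, 1732), (2018, 2492), (2019, 1632), (2020, 2020), (2021, 2021), (2022, 2022), (2023, 2023), (2024, 1735), (2025, 2025), (2026, 1737), (2027, 2502), (2028, 1739), (2029, 2505), (2030, 1626), (2031, 1633), (2032, 2293), (2033, 1634), (2034, 2269), (2035, 2493), (2036, 2506), (2037, 2508), (2038, 1773), (2039, 2039), (2040, 1777), (2041, 2515), (2042, 1708), (2043, 1639), (2044, 1648), (2045, 1712), (2046,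 1641), (2047, 2518)]
    ⟨e3 q1984 (flp_h L111800) q2309, e3 q1985 (flp_h L26855) q1585, e3 q1986 L26870 q1707, e3 q1987 L26882 q1603, e3 q1988 (flp_h L111375) q2311, e3 q1989 (flp_h L26894) q1587, e3 q1990 L36812 q2461, e3 q1991 L111195 q2316, e3 q1992 (flp_h L26944) q1591, e3 q1993 L26968 q1715, e3 q1994 L26997 q1994, e3 q1995 L37028 q2466, e3 q1996 (flp_h L112086) q1808, e3 q1997 (flp_h L27104) q1598, e3 q1998 (flp_h L36665) q2454, e3 q1999 L37061 q2468, e3 q2000 L102719 q1809, e3 q2001 (flp_h L27134) q1600, e3 q2002 (flp_h L36426) q2429, e3 q2003 L37152 q2471, e3 q2004 (flp_h L27205) q1606, e3 q2005 (flp_h L37163) q2472, e3 q2006 (flp_h L36557) q2446, e3 q2007 (flp_h L36598) q2448, e3 q2008 L37319 q2477, e3 q2009 L37327 q2478, e3 q2010 (flp_h L27342) q1611, e3 q2011 L27355 q1727, e3 q2012 L27364 q2012, e3 q2013 (flp_h L27375) q1613, e3 q2014 (flp_h L27384) q1614, e3 q2015 L27399 q1730, e3 q2016 L27409 q2016, e3 q2017 L27415 q1732, e3 q2018 L37459 q2492, e3 q2019 L27447 q1632, e3 q2020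 L27456 q2020, e3 q2021 L27464 q2021, e3 q2022 L27487 q2022, e3 q2023 L27496 q2023, e3 q2024 L27503 q1735, e3 q2025 L27513 q2025, e3 q2026 L27517 q1737, e3 q2027 L37576 q2502, e3 q2028 L27530 q1739, e3 q2029 L37597 q2505, e3 q2030 (flp_h L27539) q1626, e3 q2031 L27574 q1633, e3 q2032 (flp_h L98662) q2293, e3 q2033 L27615 q1634, e3 q2034 L103906 q2269, e3 q2035 (flp_h L37497) q2493, e3 q2036 (flp_h L37640) q2506, e3 q2037 (flp_h L37703) q2508, e3 q2038 (flp_h L119264) q1773, e3 q2039 L27868 q2039, e3 q2040 L119348 q1777, e3 q2041 L38126 q2515, e3 q2042 (flp_h L119250) q1708, e3 q2043 (flp_h L27949) q1639, e3 q2044 L27963 q1648, e3 q2045 (flp_h L119413) q1712, e3 q2046 (flp_h L27973) q1641, e3 q2047 L38279 q2518, trivial⟩ (by decide +kernel)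

theorem ce_h_32 : ∀ r, r < 64 → sm gh (Qf (2048 + r)) = Qf (tab Gen.h (2048 + r)) :=
  edges_tab (sm gh) Qf (tab Gen.h) 2048 [(2048, 2521), (2049, 1645), (2050, 1675), (2051, 1674), (2052, 1646), (2053, 1661), (2054, 1679), (2055, 1678), (2056, 1649), (2057, 2350), (2058, 1666), (2059, 2530), (2060, 1655), (2061, 2535), (2062, 2536), (2063, 1656), (2064, 2365), (2065, 2523), (2066, 1693), (2067, 1658), (2068, 1659), (2069, 1690), (2070, 2542), (2071, 1699), (2072, 1662), (2073, 1663), (2074, 2375), (2075, 1695), (2076, 2377), (2077, 2549), (2078, 2552), (2079, 1671), (2080, 2520), (2081, 2519), (2082, 1672), (2083, 2394), (2084, 1689), (2085, 2559), (2086, 2404), (2087, 2406), (2088, 2563), (2089, 2566), (2090, 2567), (2091, 1683), (2092, 2417), (2093, 2554), (2094, 2574), (2095, 2538), (2096, 1685), (2097, 1686), (2098, 2423), (2099, 2534), (2100, 2425), (2101, 2581), (2102, 2582), (2103, 1694), (2104, 2583), (2105, 2438), (2106, 2440), (2107, 2589), (2108, 2442), (2109, 2592), (2110,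 1701), (2111, 2595)]
    ⟨e3 q2048 L38306 q2521, e3 q2049 (flp_h L28058) q1645, e3 q2050 L117478 q1675, e3 q2051 L119840 q1674, e3 q2052 (flp_h L28085) q1646, e3 q2053 L28099 q1661, e3 q2054 L119743 q1679, e3 q2055 L119833 q1678, e3 q2056 (flp_h L28119) q1649, e3 q2057 (flp_h L35732) q2350, e3 q2058 L28140 q1666, e3 q2059 L38525 q2530, e3 q2060 (flp_h L28224) q1655, e3 q2061 L38564 q2535, e3 q2062 L38573 q2536, e3 q2063 (flp_h L28247) q1656, e3 q2064 (flp_h L35873) q2365, e3 q2065 (flp_h L38327) q2523, e3 q2066 (flp_h L117521) q1693, e3 q2067 (flp_h L28277) q1658, e3 q2068 (flp_h L28285) q1659, e3 q2069 (flp_h L117434) q1690, e3 q2070 L38661 q2542, e3 q2071 (flp_h L116313) q1699, e3 q2072 (flp_h L28316) q1662, e3 q2073 (flp_h L28325) q1663, e3 q2074 (flp_h L35949) q2375, e3 q2075 (flp_h L119755) q1695, e3 q2076 (flp_h L35965) q2377, e3 q2077 L38745 q2549, e3 q2078 L38838 q2552, e3 q2079 (flp_h L28442) q1671, e3 q2080 L119749 q2520, e3 q2081 L118917 q2519, e3 q2082 (flp_h L28467) q1672, e3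 q2083 (flp_h L36095) q2394, e3 q2084 L28489 q1689, e3 q2085 L38986 q2559, e3 q2086 (flp_h L36189) q2404, e3 q2087 (flp_h L36203) q2406, e3 q2088 L39055 q2563, e3 q2089 L39163 q2566, e3 q2090 L39171 q2567, e3 q2091 (flp_h L28678) q1683, e3 q2092 (flp_h L36329) q2417, e3 q2093 (flp_h L38857) q2554, e3 q2094 L39219 q2574, e3 q2095 (flp_h L118947) q2538, e3 q2096 (flp_h L28712) q1685, e3 q2097 (flp_h L28721) q1686, e3 q2098 (flp_h L36377) q2423, e3 q2099 (flp_h L119702) q2534, e3 q2100 (flp_h L36394) q2425, e3 q2101 L39310 q2581, e3 q2102 L39344 q2582, e3 q2103 (flp_h L28807) q1694, e3 q2104 (flp_h L39354) q2583, e3 q2105 (flp_h L36485) q2438, e3 q2106 (flp_h L36498) q2440, e3 q2107 L39420 q2589, e3 q2108 (flp_h L36512) q2442, e3 q2109 L39439 q2592, e3 q2110 (flp_h L28876) q1701, e3 q2111 L39473 q2595, trivial⟩ (by decide +kernel)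

theorem ce_h_33 : ∀ r, r < 64 → sm gh (Qf (2112 + r)) = Qf (tab Gen.h (2112 + r)) :=
  edges_tab (sm gh) Qf (tab Gen.h) 2112 [(2112, 2596), (2113, 1702), (2114, 2453), (2115, 2601), (2116, 2514), (2117, 1704), (2118, 1705), (2119, 2458), (2120, 1782), (2121, 2606), (2122, 1711), (2123, 2607), (2124, 2321), (2125, 2463), (2126, 1784), (2127, 2614), (2128, 2128), (2129, 2617), (2130, 1719), (2131, 2131), (2132, 2620), (2133, 1722), (2134, 2608), (2135, 1725), (2136, 2479), (2137, 2137), (2138, 2481), (2139, 2482), (2140, 2631), (2141, 2486), (2142, 2142), (2143, 2488), (2144, 2636), (2145, 2490), (2146, 2639), (2147, 1733), (2148, 2498), (2149, 2642), (2150, 2500), (2151, 2645), (2152, 1738), (2153, 2503), (2154, 2647), (2155, 1740), (2156, 2156), (2157, 2652), (2158, 2158), (2159, 2655), (2160, 1744), (2161, 2161), (2162, 2657), (2163, 1746), (2164, 2659), (2165, 1749), (2166, 2648), (2167, 1758), (2168, 1751), (2169, 2169), (2170, 1771), (2171, 2171), (2172, 2303), (2173, 1766), (2174,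 2174), (2175, 2669)]
    ⟨e3 q2112 L39483 q2596, e3 q2113 (flp_h L28926) q1702, e3 q2114 (flp_h L36652) q2453, e3 q2115 L39527 q2601, e3 q2116 (flp_h L119382) q2514, e3 q2117 (flp_h L28960) q1704, e3 q2118 (flp_h L28970) q1705, e3 q2119 (flp_h L36714) q2458, e3 q2120 L106460 q1782, e3 q2121 L39618 q2606, e3 q2122 (flp_h L29033) q1711, e3 q2123 (flp_h L39627) q2607, e3 q2124 (flp_h L111806) q2321, e3 q2125 (flp_h L36880) q2463, e3 q2126 (flp_h L90589) q1784, e3 q2127 L39749 q2614, e3 q2128 L29140 q2128, e3 q2129 L39773 q2617, e3 q2130 (flp_h L29147) q1719, e3 q2131 L29159 q2131, e3 q2132 L39792 q2620, e3 q2133 (flp_h L29169) q1722, e3 q2134 (flp_h L39633) q2608, e3 q2135 (flp_h L29180) q1725, e3 q2136 (flp_h L37342) q2479, e3 q2137 L29206 q2137, e3 q2138 (flp_h L37356) q2481, e3 q2139 (flp_h L37364) q2482, e3 q2140 L39875 q2631, e3 q2141 (flp_h L37418) q2486, e3 q2142 L29245 q2142, e3 q2143 (flp_h L37434) q2488, e3 q2144 L39912 q2636, e3 q2145 (flp_h L37449) q2490, e3 q2146 L39934 q2639,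 e3 q2147 (flp_h L29274) q1733, e3 q2148 (flp_h L37554) q2498, e3 q2149 L39954 q2642, e3 q2150 (flp_h L37567) q2500, e3 q2151 L39975 q2645, e3 q2152 (flp_h L29306) q1738, e3 q2153 (flp_h L37588) q2503, e3 q2154 L39988 q2647, e3 q2155 (flp_h L29325) q1740, e3 q2156 L29338 q2156, e3 q2157 L40023 q2652, e3 q2158 L29353 q2158, e3 q2159 L40048 q2655, e3 q2160 (flp_h L29363) q1744, e3 q2161 L29378 q2161, e3 q2162 L40066 q2657, e3 q2163 (flp_h L29388) q1746, e3 q2164 L40082 q2659, e3 q2165 (flp_h L29405) q1749, e3 q2166 (flp_h L39998) q2648, e3 q2167 L111990 q1758, e3 q2168 (flp_h L30527) q1751, e3 q2169 L30540 q2169, e3 q2170 (flp_h L105754) q1771, e3 q2171 L30595 q2171, e3 q2172 L112033 q2303, e3 q2173 L30876 q1766, e3 q2174 L114799 q2174, e3 q2175 L43389 q2669, trivial⟩ (by decide +kernel)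

theorem ce_h_34 : ∀ r, r < 64 → sm gh (Qf (2176 + r)) = Qf (tab Gen.h (2176 + r)) :=
  edges_tab (sm gh) Qf (tab Gen.h) 2176 [(2176, 1763), (2177, 1764), (2178, 2662), (2179, 2665), (2180, 1780), (2181, 2181), (2182, 2512), (2183, 1768), (2184, 2310), (2185, 2185), (2186, 2672), (2187, 2599), (2188, 2188), (2189, 2605), (2190, 2611), (2191, 2679), (2192, 2681), (2193, 1785), (2194, 2684), (2195, 1786), (2196, 2255), (2197, 2687), (2198, 1788), (2199, 2199), (2200, 2260), (2201, 1790), (2202, 2264), (2203, 2203), (2204, 2268), (2205, 2696), (2206, 1795), (2207, 2700), (2208, 1796), (2209, 2209), (2210, 2276), (2211, 1798), (2212, 2280), (2213, 2706), (2214, 1801), (2215, 2215), (2216, 2286), (2217, 2217), (2218, 2713), (2219, 2292), (2220, 2465), (2221, 2715), (2222, 1810), (2223, 1811), (2224, 2224), (2225, 2225), (2226, 2226), (2227, 2227), (2228, 2228), (2229, 2726), (2230, 2230), (2231, 2729), (2232, 2232), (2233, 2732), (2234, 1820), (2235, 2735), (2236, 2738), (2237, 1821), (2238,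 1834), (2239, 2742)]
    ⟨e3 q2176 (flp_h L31840) q1763, e3 q2177 (flp_h L31850) q1764, e3 q2178 L112278 q2662, e3 q2179 (flp_h L42119) q2665, e3 q2180 L96740 q1780, e3 q2181 L77764 q2181, e3 q2182 (flp_h L118523) q2512, e3 q2183 (flp_h L31904) q1768, e3 q2184 L111816 q2310, e3 q2185 L90338 q2185, e3 q2186 L112247 q2672, e3 q2187 L96867 q2599, e3 q2188 L32126 q2188, e3 q2189 (flp_h L106271) q2605, e3 q2190 (flp_h L106251) q2611, e3 q2191 L44638 q2679, e3 q2192 L44661 q2681, e3 q2193 (flp_h L32801) q1785, e3 q2194 L44692 q2684, e3 q2195 (flp_h L32824) q1786, e3 q2196 (flp_h L34796) q2255, e3 q2197 L44733 q2687, e3 q2198 (flp_h L32855) q1788, e3 q2199 L32869 q2199, e3 q2200 (flp_h L34841) q2260, e3 q2201 (flp_h L32884) q1790, e3 q2202 (flp_h L34873) q2264, e3 q2203 L32928 q2203, e3 q2204 (flp_h L34906) q2268, e3 q2205 L44871 q2696, e3 q2206 (flp_h L32954) q1795, e3 q2207 L44907 q2700, e3 q2208 (flp_h L32975) q1796, e3 q2209 L32990 q2209, e3 q2210 (flp_h L34975) q2276, e3 q2211 (flp_h L33008)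 q1798, e3 q2212 (flp_h L35010) q2280, e3 q2213 L45013 q2706, e3 q2214 (flp_h L33048) q1801, e3 q2215 L33067 q2215, e3 q2216 (flp_h L35056) q2286, e3 q2217 L33079 q2217, e3 q2218 L45079 q2713, e3 q2219 (flp_h L35107) q2292, e3 q2220 (flp_h L102558) q2465, e3 q2221 L45260 q2715, e3 q2222 (flp_h L33329) q1810, e3 q2223 (flp_h L33525) q1811, e3 q2224 L33540 q2224, e3 q2225 L33550 q2225, e3 q2226 L33593 q2226, e3 q2227 L33602 q2227, e3 q2228 L33608 q2228, e3 q2229 L45826 q2726, e3 q2230 L33732 q2230, e3 q2231 L45976 q2729, e3 q2232 L33744 q2232, e3 q2233 L45995 q2732, e3 q2234 (flp_h L33752) q1820, e3 q2235 L47192 q2735, e3 q2236 L47215 q2738, e3 q2237 (flp_h L34644) q1821, e3 q2238 L34658 q1834, e3 q2239 L47247 q2742, trivial⟩ (by decide +kernel)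

theorem ce_h_35 : ∀ r, r < 64 → sm gh (Qf (2240 + r)) = Qf (tab Gen.h (2240 + r)) :=
  edges_tab (sm gh) Qf (tab Gen.h) 2240 [(2240, 1823), (2241, 2746), (2242, 2747), (2243, 1824), (2244, 2244), (2245, 2750), (2246, 1827), (2247, 1828), (2248, 2248), (2249, 2755), (2250, 2758), (2251, 1831), (2252, 2762), (2253, 2763), (2254, 1832), (2255, 2196), (2256, 2767), (2257, 2768), (2258, 1835), (2259, 2259), (2260, 2200), (2261, 2774), (2262, 1837), (2263, 1838), (2264, 2202), (2265, 2778), (2266, 1841), (2267, 2267), (2268, 2204), (2269, 2034), (2270, 2785), (2271, 1845), (2272, 2790), (2273, 2791), (2274, 1846), (2275, 2275), (2276, 2210), (2277, 2797), (2278, 1848), (2279, 1849), (2280, 2212), (2281, 2802), (2282, 2804), (2283, 1852), (2284, 1853), (2285, 2285), (2286, 2216), (2287, 2287), (2288, 2813), (2289, 2814), (2290, 1857), (2291, 1886), (2292, 2219), (2293, 2032), (2294, 1861), (2295, 1887), (2296, 1980), (2297, 1888), (2298, 2819), (2299, 2826), (2300, 2827), (2301, 1866), (2302,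 2302), (2303, 2172)]
    ⟨e3 q2240 (flp_h L34669) q1823, e3 q2241 L47277 q2746, e3 q2242 L47284 q2747, e3 q2243 (flp_h L34691) q1824, e3 q2244 L34707 q2244, e3 q2245 L47309 q2750, e3 q2246 (flp_h L34715) q1827, e3 q2247 (flp_h L34721) q1828, e3 q2248 L34736 q2248, e3 q2249 L47347 q2755, e3 q2250 L47376 q2758, e3 q2251 (flp_h L34756) q1831, e3 q2252 L47410 q2762, e3 q2253 L47418 q2763, e3 q2254 (flp_h L34783) q1832, e3 q2255 L34796 q2196, e3 q2256 L47453 q2767, e3 q2257 L47463 q2768, e3 q2258 (flp_h L34818) q1835, e3 q2259 L34831 q2259, e3 q2260 L34841 q2200, e3 q2261 L47514 q2774, e3 q2262 (flp_h L34852) q1837, e3 q2263 (flp_h L34860) q1838, e3 q2264 L34873 q2202, e3 q2265 L47548 q2778, e3 q2266 (flp_h L34885) q1841, e3 q2267 L34897 q2267, e3 q2268 L34906 q2204, e3 q2269 (flp_h L103906) q2034, e3 q2270 L47601 q2785, e3 q2271 (flp_h L34924) q1845, e3 q2272 L47643 q2790, e3 q2273 L47653 q2791, e3 q2274 (flp_h L34951) q1846, e3 q2275 L34965 q2275, e3 q2276 L34975 q2210, e3 q2277 L47708 q2797,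 e3 q2278 (flp_h L34987) q1848, e3 q2279 (flp_h L34995) q1849, e3 q2280 L35010 q2212, e3 q2281 L47754 q2802, e3 q2282 L47770 q2804, e3 q2283 (flp_h L35029) q1852, e3 q2284 (flp_h L35037) q1853, e3 q2285 L35049 q2285, e3 q2286 L35056 q2216, e3 q2287 L35062 q2287, e3 q2288 L47833 q2813, e3 q2289 L47840 q2814, e3 q2290 (flp_h L35082) q1857, e3 q2291 L35097 q1886, e3 q2292 L35107 q2219, e3 q2293 L98662 q2032, e3 q2294 (flp_h L35119) q1861, e3 q2295 L35131 q1887, e3 q2296 (flp_h L86799) q1980, e3 q2297 L35146 q1888, e3 q2298 (flp_h L109185) q2819, e3 q2299 L47957 q2826, e3 q2300 L47966 q2827, e3 q2301 (flp_h L35174) q1866, e3 q2302 L35189 q2302, e3 q2303 (flp_h L112033) q2172, trivial⟩ (by decide +kernel)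

theorem ce_h_36 : ∀ r, r < 64 → sm gh (Qf (2304 + r)) = Qf (tab Gen.h (2304 + r)) :=
  edges_tab (sm gh) Qf (tab Gen.h) 2304 [(2304, 2833), (2305, 2835), (2306, 1868), (2307, 1869), (2308, 2308), (2309, 1984), (2310, 2184), (2311, 1988), (2312, 1873), (2313, 2798), (2314, 2843), (2315, 1877), (2316, 1991), (2317, 1878), (2318, 2844), (2319, 2319), (2320, 2320), (2321, 2124), (2322, 2815), (2323, 2817), (2324, 2820), (2325, 2822), (2326, 2857), (2327, 2860), (2328, 1889), (2329, 1902), (2330, 2863), (2331, 1891), (2332, 2867), (2333, 2868), (2334, 1892), (2335, 2335), (2336, 2871), (2337, 1895), (2338, 1896), (2339, 2339), (2340, 2876), (2341, 2879), (2342, 1899), (2343, 2883), (2344, 2884), (2345, 1900), (2346, 1919), (2347, 2888), (2348, 2889), (2349, 1903), (2350, 2057), (2351, 1924), (2352, 2894), (2353, 1905), (2354, 1906), (2355, 1928), (2356, 1909), (2357, 2357), (2358, 1932), (2359, 1933), (2360, 2904), (2361, 1913), (2362, 2909), (2363, 2910), (2364, 1914), (2365, 2064), (2366,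 2881), (2367, 2916)]
    ⟨e3 q2304 L48019 q2833, e3 q2305 L48038 q2835, e3 q2306 (flp_h L35220) q1868, e3 q2307 (flp_h L35230) q1869, e3 q2308 L35247 q2308, e3 q2309 L111800 q1984, e3 q2310 (flp_h L111816) q2184, e3 q2311 L111375 q1988, e3 q2312 (flp_h L35278) q1873, e3 q2313 (flp_h L47723) q2798, e3 q2314 L48167 q2843, e3 q2315 (flp_h L35322) q1877, e3 q2316 (flp_h L111195) q1991, e3 q2317 (flp_h L35339) q1878, e3 q2318 (flp_h L48178) q2844, e3 q2319 L35372 q2319, e3 q2320 L35388 q2320, e3 q2321 L111806 q2124, e3 q2322 (flp_h L47856) q2815, e3 q2323 (flp_h L47873) q2817, e3 q2324 (flp_h L47906) q2820, e3 q2325 (flp_h L47920) q2822, e3 q2326 L48407 q2857, e3 q2327 L48434 q2860, e3 q2328 (flp_h L35518) q1889, e3 q2329 L35537 q1902, e3 q2330 L48471 q2863, e3 q2331 (flp_h L35549) q1891, e3 q2332 L48502 q2867, e3 q2333 L48509 q2868, e3 q2334 (flp_h L35571) q1892, e3 q2335 L35587 q2335, e3 q2336 L48536 q2871, e3 q2337 (flp_h L35597) q1895, e3 q2338 (flp_h L35605) q1896, e3 q2339 L35624 q2339,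 e3 q2340 L48585 q2876, e3 q2341 L48617 q2879, e3 q2342 (flp_h L35648) q1899, e3 q2343 L48654 q2883, e3 q2344 L48664 q2884, e3 q2345 (flp_h L35679) q1900, e3 q2346 L35696 q1919, e3 q2347 L48704 q2888, e3 q2348 L48714 q2889, e3 q2349 (flp_h L35719) q1903, e3 q2350 L35732 q2057, e3 q2351 L35743 q1924, e3 q2352 L48767 q2894, e3 q2353 (flp_h L35754) q1905, e3 q2354 (flp_h L35762) q1906, e3 q2355 L35775 q1928, e3 q2356 (flp_h L35789) q1909, e3 q2357 L35805 q2357, e3 q2358 L35816 q1932, e3 q2359 L35827 q1933, e3 q2360 L48863 q2904, e3 q2361 (flp_h L35837) q1913, e3 q2362 L48902 q2909, e3 q2363 L48910 q2910, e3 q2364 (flp_h L35859) q1914, e3 q2365 L35873 q2064, e3 q2366 (flp_h L48641) q2881, e3 q2367 L48958 q2916, trivial⟩ (by decide +kernel)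

theorem ce_h_37 : ∀ r, r < 64 → sm gh (Qf (2368 + r)) = Qf (tab Gen.h (2368 + r)) :=
  edges_tab (sm gh) Qf (tab Gen.h) 2368 [(2368, 1916), (2369, 1917), (2370, 2885), (2371, 2921), (2372, 2923), (2373, 1920), (2374, 1921), (2375, 2074), (2376, 2891), (2377, 2076), (2378, 2932), (2379, 2933), (2380, 1925), (2381, 2381), (2382, 2896), (2383, 2897), (2384, 1929), (2385, 2385), (2386, 2899), (2387, 2387), (2388, 2942), (2389, 2945), (2390, 1934), (2391, 2950), (2392, 2951), (2393, 1935), (2394, 2083), (2395, 1960), (2396, 2956), (2397, 1937), (2398, 1938), (2399, 1964), (2400, 2961), (2401, 2962), (2402, 1941), (2403, 1942), (2404, 2086), (2405, 1970), (2406, 2087), (2407, 2971), (2408, 1946), (2409, 1973), (2410, 1976), (2411, 1977), (2412, 1978), (2413, 2821), (2414, 2977), (2415, 2978), (2416, 1954), (2417, 2092), (2418, 2947), (2419, 2985), (2420, 2987), (2421, 1956), (2422, 1957), (2423, 2098), (2424, 2953), (2425, 2100), (2426, 2996), (2427, 2957), (2428, 1961), (2429, 2002), (2430,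 2958), (2431, 2959)]
    ⟨e3 q2368 (flp_h L35889) q1916, e3 q2369 (flp_h L35895) q1917, e3 q2370 (flp_h L48681) q2885, e3 q2371 L48995 q2921, e3 q2372 L49009 q2923, e3 q2373 (flp_h L35925) q1920, e3 q2374 (flp_h L35933) q1921, e3 q2375 L35949 q2074, e3 q2376 (flp_h L48739) q2891, e3 q2377 L35965 q2076, e3 q2378 L49081 q2932, e3 q2379 L49089 q2933, e3 q2380 (flp_h L35981) q1925, e3 q2381 L35994 q2381, e3 q2382 (flp_h L48790) q2896, e3 q2383 (flp_h L48799) q2897, e3 q2384 (flp_h L36009) q1929, e3 q2385 L36021 q2385, e3 q2386 (flp_h L48829) q2899, e3 q2387 L36033 q2387, e3 q2388 L49163 q2942, e3 q2389 L49188 q2945, e3 q2390 (flp_h L36051) q1934, e3 q2391 L49236 q2950, e3 q2392 L49246 q2951, e3 q2393 (flp_h L36081) q1935, e3 q2394 L36095 q2083, e3 q2395 L36106 q1960, e3 q2396 L49305 q2956, e3 q2397 (flp_h L36120) q1937, e3 q2398 (flp_h L36130) q1938, e3 q2399 L36149 q1964, e3 q2400 L49360 q2961, e3 q2401 L49377 q2962, e3 q2402 (flp_h L36169) q1941, e3 q2403 (flp_h L36177) q1942, e3 q2404 L36189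 q2086, e3 q2405 L36197 q1970, e3 q2406 L36203 q2087, e3 q2407 L49443 q2971, e3 q2408 (flp_h L36224) q1946, e3 q2409 (flp_h L102279) q1973, e3 q2410 L36249 q1976, e3 q2411 L36259 q1977, e3 q2412 L36287 q1978, e3 q2413 (flp_h L109190) q2821, e3 q2414 L49573 q2977, e3 q2415 L49579 q2978, e3 q2416 (flp_h L36318) q1954, e3 q2417 L36329 q2092, e3 q2418 (flp_h L49212) q2947, e3 q2419 L49631 q2985, e3 q2420 L49646 q2987, e3 q2421 (flp_h L36352) q1956, e3 q2422 (flp_h L36360) q1957, e3 q2423 L36377 q2098, e3 q2424 (flp_h L49272) q2953, e3 q2425 L36394 q2100, e3 q2426 L49723 q2996, e3 q2427 L104664 q2957, e3 q2428 (flp_h L36412) q1961, e3 q2429 L36426 q2002, e3 q2430 (flp_h L49336) q2958, e3 q2431 (flp_h L49348) q2959, trivial⟩ (by decide +kernel)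

theorem ce_h_38 : ∀ r, r < 64 → sm gh (Qf (2432 + r)) = Qf (tab Gen.h (2432 + r)) :=
  edges_tab (sm gh) Qf (tab Gen.h) 2432 [(2432, 3001), (2433, 1965), (2434, 2973), (2435, 1966), (2436, 3002), (2437, 2964), (2438, 2105), (2439, 2966), (2440, 2106), (2441, 3013), (2442, 2108), (2443, 3016), (2444, 1972), (2445, 2972), (2446, 2006), (2447, 2816), (2448, 2007), (2449, 2780), (2450, 3023), (2451, 2829), (2452, 1981), (2453, 2114), (2454, 1998), (2455, 3028), (2456, 2834), (2457, 1983), (2458, 2119), (2459, 2459), (2460, 3031), (2461, 1990), (2462, 3032), (2463, 2125), (2464, 3037), (2465, 2220), (2466, 1995), (2467, 3039), (2468, 1999), (2469, 3040), (2470, 2998), (2471, 2003), (2472, 2005), (2473, 3033), (2474, 3045), (2475, 3017), (2476, 3019), (2477, 2008), (2478, 2009), (2479, 2136), (2480, 2480), (2481, 2138), (2482, 2139), (2483, 3060), (2484, 2484), (2485, 2485), (2486, 2141), (2487, 2487), (2488, 2143), (2489, 3068), (2490, 2145), (2491, 3071), (2492, 2018), (2493, 2035), (2494,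 2800), (2495, 2495)]
    ⟨e3 q2432 L49779 q3001, e3 q2433 (flp_h L36451) q1965, e3 q2434 (flp_h L103610) q2973, e3 q2435 (flp_h L36462) q1966, e3 q2436 (flp_h L49789) q3002, e3 q2437 (flp_h L49397) q2964, e3 q2438 L36485 q2105, e3 q2439 (flp_h L49414) q2966, e3 q2440 L36498 q2106, e3 q2441 L49859 q3013, e3 q2442 L36512 q2108, e3 q2443 L49880 q3016, e3 q2444 (flp_h L36521) q1972, e3 q2445 (flp_h L49477) q2972, e3 q2446 L36557 q2006, e3 q2447 (flp_h L109196) q2816, e3 q2448 L36598 q2007, e3 q2449 (flp_h L109193) q2780, e3 q2450 L50029 q3023, e3 q2451 (flp_h L112104) q2829, e3 q2452 (flp_h L36636) q1981, e3 q2453 L36652 q2114, e3 q2454 L36665 q1998, e3 q2455 L50112 q3028, e3 q2456 (flp_h L110767) q2834, e3 q2457 (flp_h L36687) q1983, e3 q2458 L36714 q2119, e3 q2459 L36746 q2459, e3 q2460 L50281 q3031, e3 q2461 (flp_h L36812) q1990, e3 q2462 (flp_h L50293) q3032, e3 q2463 L36880 q2125, e3 q2464 L50551 q3037, e3 q2465 L102558 q2220, e3 q2466 (flp_h L37028) q1995, e3 q2467 L50603 q3039, e3 q2468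 (flp_h L37061) q1999, e3 q2469 (flp_h L50616) q3040, e3 q2470 (flp_h L49763) q2998, e3 q2471 (flp_h L37152) q2003, e3 q2472 L37163 q2005, e3 q2473 (flp_h L50302) q3033, e3 q2474 (flp_h L50745) q3045, e3 q2475 (flp_h L49926) q3017, e3 q2476 (flp_h L49991) q3019, e3 q2477 (flp_h L37319) q2008, e3 q2478 (flp_h L37327) q2009, e3 q2479 L37342 q2136, e3 q2480 L37351 q2480, e3 q2481 L37356 q2138, e3 q2482 L37364 q2139, e3 q2483 L51040 q3060, e3 q2484 L37400 q2484, e3 q2485 L37410 q2485, e3 q2486 L37418 q2141, e3 q2487 L37429 q2487, e3 q2488 L37434 q2143, e3 q2489 L51130 q3068, e3 q2490 L37449 q2145, e3 q2491 L51154 q3071, e3 q2492 (flp_h L37459) q2018, e3 q2493 L37497 q2035, e3 q2494 (flp_h L104742) q2800, e3 q2495 L37534 q2495, trivial⟩ (by decide +kernel)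

theorem ce_h_39 : ∀ r, r < 64 → sm gh (Qf (2496 + r)) = Qf (tab Gen.h (2496 + r)) :=
  edges_tab (sm gh) Qf (tab Gen.h) 2496 [(2496, 2496), (2497, 3079), (2498, 2148), (2499, 3082), (2500, 2150), (2501, 3085), (2502, 2027), (2503, 2153), (2504, 3087), (2505, 2029), (2506, 2036), (2507, 2808), (2508, 2037), (2509, 2777), (2510, 3072), (2511, 3089), (2512, 2182), (2513, 3095), (2514, 2116), (2515, 2041), (2516, 2864), (2517, 3100), (2518, 2047), (2519, 2081), (2520, 2080), (2521, 2048), (2522, 2880), (2523, 2065), (2524, 2965), (2525, 2890), (2526, 2892), (2527, 3109), (2528, 3112), (2529, 3113), (2530, 2059), (2531, 2905), (2532, 3102), (2533, 3120), (2534, 2099), (2535, 2061), (2536, 2062), (2537, 2911), (2538, 2095), (2539, 2913), (2540, 3127), (2541, 3128), (2542, 2070), (2543, 3129), (2544, 2926), (2545, 2928), (2546, 3135), (2547, 2930), (2548, 3138), (2549, 2077), (2550, 3099), (2551, 3098), (2552, 2078), (2553, 2946), (2554, 2093), (2555, 3144), (2556, 2952), (2557, 2954), (2558,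 3148), (2559, 2085)]
    ⟨e3 q2496 L37540 q2496, e3 q2497 L51289 q3079, e3 q2498 L37554 q2148, e3 q2499 L51308 q3082, e3 q2500 L37567 q2150, e3 q2501 L51331 q3085, e3 q2502 (flp_h L37576) q2027, e3 q2503 L37588 q2153, e3 q2504 L51345 q3087, e3 q2505 (flp_h L37597) q2029, e3 q2506 L37640 q2036, e3 q2507 L104492 q2808, e3 q2508 L37703 q2037, e3 q2509 (flp_h L104127) q2777, e3 q2510 (flp_h L51200) q3072, e3 q2511 (flp_h L51412) q3089, e3 q2512 L118523 q2182, e3 q2513 L52044 q3095, e3 q2514 L119382 q2116, e3 q2515 (flp_h L38126) q2041, e3 q2516 (flp_h L48484) q2864, e3 q2517 L52279 q3100, e3 q2518 (flp_h L38279) q2047, e3 q2519 (flp_h L118917) q2081, e3 q2520 (flp_h L119749) q2080, e3 q2521 (flp_h L38306) q2048, e3 q2522 (flp_h L48630) q2880, e3 q2523 L38327 q2065, e3 q2524 L116432 q2965, e3 q2525 (flp_h L48729) q2890, e3 q2526 (flp_h L48746) q2892, e3 q2527 L52511 q3109, e3 q2528 L52624 q3112, e3 q2529 L52634 q3113, e3 q2530 (flp_h L38525) q2059, e3 q2531 (flp_h L48878) q2905, e3 q2532 (flp_h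 L52304) q3102, e3 q2533 L52692 q3120, e3 q2534 L119702 q2099, e3 q2535 (flp_h L38564) q2061, e3 q2536 (flp_h L38573) q2062, e3 q2537 (flp_h L48926) q2911, e3 q2538 L118947 q2095, e3 q2539 (flp_h L48942) q2913, e3 q2540 L52776 q3127, e3 q2541 L52833 q3128, e3 q2542 (flp_h L38661) q2070, e3 q2543 (flp_h L52845) q3129, e3 q2544 (flp_h L49039) q2926, e3 q2545 (flp_h L49055) q2928, e3 q2546 L52929 q3135, e3 q2547 (flp_h L49071) q2930, e3 q2548 L52951 q3138, e3 q2549 (flp_h L38745) q2077, e3 q2550 (flp_h L118769) q3099, e3 q2551 L117644 q3098, e3 q2552 (flp_h L38838) q2078, e3 q2553 (flp_h L49201) q2946, e3 q2554 L38857 q2093, e3 q2555 L53105 q3144, e3 q2556 (flp_h L49262) q2952, e3 q2557 (flp_h L49280) q2954, e3 q2558 L53196 q3148, e3 q2559 (flp_h L38986) q2085, trivial⟩ (by decide +kernel)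

theorem ce_h_40 : ∀ r, r < 64 → sm gh (Qf (2560 + r)) = Qf (tab Gen.h (2560 + r)) :=
  edges_tab (sm gh) Qf (tab Gen.h) 2560 [(2560, 2967), (2561, 2969), (2562, 3153), (2563, 2088), (2564, 3156), (2565, 3115), (2566, 2089), (2567, 2090), (2568, 2979), (2569, 3111), (2570, 2981), (2571, 2982), (2572, 3166), (2573, 3167), (2574, 2094), (2575, 3168), (2576, 2990), (2577, 2992), (2578, 3174), (2579, 2994), (2580, 3177), (2581, 2101), (2582, 2102), (2583, 2104), (2584, 3149), (2585, 3179), (2586, 3009), (2587, 3011), (2588, 3185), (2589, 2107), (2590, 3014), (2591, 3187), (2592, 2109), (2593, 3191), (2594, 3094), (2595, 2111), (2596, 2112), (2597, 3024), (2598, 3025), (2599, 2187), (2600, 3198), (2601, 2115), (2602, 3199), (2603, 2839), (2604, 3030), (2605, 2189), (2606, 2121), (2607, 2123), (2608, 2134), (2609, 3205), (2610, 2850), (2611, 2190), (2612, 3209), (2613, 3211), (2614, 2127), (2615, 2615), (2616, 3214), (2617, 2129), (2618, 3200), (2619, 3216), (2620, 2132), (2621, 3204), (2622,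 3051), (2623, 2623)]
    ⟨e3 q2560 (flp_h L49419) q2967, e3 q2561 (flp_h L49433) q2969, e3 q2562 L53356 q3153, e3 q2563 (flp_h L39055) q2088, e3 q2564 L53480 q3156, e3 q2565 L118826 q3115, e3 q2566 (flp_h L39163) q2089, e3 q2567 (flp_h L39171) q2090, e3 q2568 (flp_h L49592) q2979, e3 q2569 L118785 q3111, e3 q2570 (flp_h L49603) q2981, e3 q2571 (flp_h L49612) q2982, e3 q2572 L53576 q3166, e3 q2573 L53590 q3167, e3 q2574 (flp_h L39219) q2094, e3 q2575 (flp_h L53604) q3168, e3 q2576 (flp_h L49677) q2990, e3 q2577 (flp_h L49694) q2992, e3 q2578 L53690 q3174, e3 q2579 (flp_h L49712) q2994, e3 q2580 L53715 q3177, e3 q2581 (flp_h L39310) q2101, e3 q2582 (flp_h L39344) q2102, e3 q2583 L39354 q2104, e3 q2584 (flp_h L53277) q3149, e3 q2585 (flp_h L53763) q3179, e3 q2586 (flp_h L49834) q3009, e3 q2587 (flp_h L49849) q3011, e3 q2588 L53850 q3185, e3 q2589 (flp_h L39420) q2107, e3 q2590 (flp_h L49871) q3014, e3 q2591 L53864 q3187, e3 q2592 (flp_h L39439) q2109, e3 q2593 L53890 q3191, e3 q2594 (flp_h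 L118639) q3094, e3 q2595 (flp_h L39473) q2111, e3 q2596 (flp_h L39483) q2112, e3 q2597 (flp_h L50058) q3024, e3 q2598 (flp_h L50076) q3025, e3 q2599 (flp_h L96867) q2187, e3 q2600 L53974 q3198, e3 q2601 (flp_h L39527) q2115, e3 q2602 (flp_h L53985) q3199, e3 q2603 L111783 q2839, e3 q2604 (flp_h L50188) q3030, e3 q2605 L106271 q2189, e3 q2606 (flp_h L39618) q2121, e3 q2607 L39627 q2123, e3 q2608 L39633 q2134, e3 q2609 (flp_h L54112) q3205, e3 q2610 L106327 q2850, e3 q2611 L106251 q2190, e3 q2612 L54236 q3209, e3 q2613 L54250 q3211, e3 q2614 (flp_h L39749) q2127, e3 q2615 L39762 q2615, e3 q2616 L54272 q3214, e3 q2617 (flp_h L39773) q2129, e3 q2618 (flp_h L53992) q3200, e3 q2619 L54287 q3216, e3 q2620 (flp_h L39792) q2132, e3 q2621 (flp_h L54102) q3204, e3 q2622 (flp_h L50975) q3051, e3 q2623 L39823 q2623, trivial⟩ (by decide +kernel)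

theorem ce_h_41 : ∀ r, r < 64 → sm gh (Qf (2624 + r)) = Qf (tab Gen.h (2624 + r)) :=
  edges_tab (sm gh) Qf (tab Gen.h) 2624 [(2624, 3053), (2625, 3054), (2626, 3225), (2627, 3056), (2628, 3229), (2629, 3058), (2630, 3232), (2631, 2140), (2632, 3064), (2633, 3235), (2634, 3066), (2635, 3238), (2636, 2144), (2637, 3069), (2638, 3240), (2639, 2146), (2640, 3080), (2641, 3244), (2642, 2149), (2643, 3083), (2644, 3246), (2645, 2151), (2646, 3248), (2647, 2154), (2648, 2166), (2649, 3252), (2650, 2650), (2651, 3256), (2652, 2157), (2653, 2653), (2654, 3259), (2655, 2159), (2656, 3261), (2657, 2162), (2658, 3241), (2659, 2164), (2660, 3249), (2661, 3250), (2662, 2178), (2663, 2663), (2664, 2664), (2665, 2179), (2666, 2666), (2667, 2667), (2668, 3093), (2669, 2175), (2670, 2831), (2671, 3264), (2672, 2186), (2673, 2673), (2674, 2674), (2675, 3196), (2676, 3197), (2677, 3203), (2678, 3274), (2679, 2191), (2680, 3278), (2681, 2192), (2682, 2682), (2683, 2760), (2684, 2194), (2685, 2764), (2686,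 3285), (2687, 2197)]
    ⟨e3 q2624 (flp_h L50991) q3053, e3 q2625 (flp_h L50998) q3054, e3 q2626 L54354 q3225, e3 q2627 (flp_h L51015) q3056, e3 q2628 L54382 q3229, e3 q2629 (flp_h L51029) q3058, e3 q2630 L54405 q3232, e3 q2631 (flp_h L39875) q2140, e3 q2632 (flp_h L51105) q3064, e3 q2633 L54428 q3235, e3 q2634 (flp_h L51120) q3066, e3 q2635 L54452 q3238, e3 q2636 (flp_h L39912) q2144, e3 q2637 (flp_h L51144) q3069, e3 q2638 L54467 q3240, e3 q2639 (flp_h L39934) q2146, e3 q2640 (flp_h L51298) q3080, e3 q2641 L54495 q3244, e3 q2642 (flp_h L39954) q2149, e3 q2643 (flp_h L51322) q3083, e3 q2644 L54510 q3246, e3 q2645 (flp_h L39975) q2151, e3 q2646 L54522 q3248, e3 q2647 (flp_h L39988) q2154, e3 q2648 L39998 q2166, e3 q2649 L54547 q3252, e3 q2650 L40012 q2650, e3 q2651 L54580 q3256, e3 q2652 (flp_h L40023) q2157, e3 q2653 L40038 q2653, e3 q2654 L54608 q3259, e3 q2655 (flp_h L40048) q2159, e3 q2656 L54625 q3261, e3 q2657 (flp_h L40066) q2162, e3 q2658 (flp_h L54479) q3241, e3 q2659 (flp_h L40082)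 q2164, e3 q2660 (flp_h L54533) q3249, e3 q2661 (flp_h L54539) q3250, e3 q2662 (flp_h L112278) q2178, e3 q2663 L41653 q2663, e3 q2664 L41667 q2664, e3 q2665 L42119 q2179, e3 q2666 L114803 q2666, e3 q2667 L114814 q2667, e3 q2668 L118685 q3093, e3 q2669 (flp_h L43389) q2175, e3 q2670 (flp_h L83237) q2831, e3 q2671 (flp_h L82715) q3264, e3 q2672 (flp_h L112247) q2186, e3 q2673 L114811 q2673, e3 q2674 L90366 q2674, e3 q2675 L96807 q3196, e3 q2676 L96792 q3197, e3 q2677 (flp_h L106219) q3203, e3 q2678 L60861 q3274, e3 q2679 (flp_h L44638) q2191, e3 q2680 L60902 q3278, e3 q2681 (flp_h L44661) q2192, e3 q2682 L44675 q2682, e3 q2683 (flp_h L47399) q2760, e3 q2684 (flp_h L44692) q2194, e3 q2685 (flp_h L47431) q2764, e3 q2686 L61002 q3285, e3 q2687 (flp_h L44733) q2197, trivial⟩ (by decide +kernel)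

theorem ce_h_42 : ∀ r, r < 64 → sm gh (Qf (2688 + r)) = Qf (tab Gen.h (2688 + r)) :=
  edges_tab (sm gh) Qf (tab Gen.h) 2688 [(2688, 2688), (2689, 2770), (2690, 2690), (2691, 3292), (2692, 2692), (2693, 2776), (2694, 3295), (2695, 3297), (2696, 2205), (2697, 2697), (2698, 2787), (2699, 3303), (2700, 2207), (2701, 2701), (2702, 2793), (2703, 2703), (2704, 3310), (2705, 2799), (2706, 2213), (2707, 3311), (2708, 2806), (2709, 2709), (2710, 3317), (2711, 2711), (2712, 3320), (2713, 2218), (2714, 3322), (2715, 2221), (2716, 2845), (2717, 2717), (2718, 2718), (2719, 2719), (2720, 2720), (2721, 3331), (2722, 2722), (2723, 3334), (2724, 2724), (2725, 3337), (2726, 2229), (2727, 2727), (2728, 3340), (2729, 2231), (2730, 2730), (2731, 3342), (2732, 2233), (2733, 3345), (2734, 3348), (2735, 2235), (2736, 3352), (2737, 3353), (2738, 2236), (2739, 2739), (2740, 3355), (2741, 3356), (2742, 2239), (2743, 2743), (2744, 2744), (2745, 3361), (2746, 2241), (2747, 2242), (2748, 2748), (2749, 3365), (2750,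 2245), (2751, 2751)]
    ⟨e3 q2688 L44757 q2688, e3 q2689 (flp_h L47487) q2770, e3 q2690 L44772 q2690, e3 q2691 L61084 q3292, e3 q2692 L44800 q2692, e3 q2693 (flp_h L47537) q2776, e3 q2694 L61175 q3295, e3 q2695 L61194 q3297, e3 q2696 (flp_h L44871) q2205, e3 q2697 L44884 q2697, e3 q2698 (flp_h L47620) q2787, e3 q2699 L61256 q3303, e3 q2700 (flp_h L44907) q2207, e3 q2701 L44932 q2701, e3 q2702 (flp_h L47678) q2793, e3 q2703 L44948 q2703, e3 q2704 L61344 q3310, e3 q2705 (flp_h L47733) q2799, e3 q2706 (flp_h L45013) q2213, e3 q2707 (flp_h L61416) q3311, e3 q2708 (flp_h L47790) q2806, e3 q2709 L45058 q2709, e3 q2710 L61483 q3317, e3 q2711 L45071 q2711, e3 q2712 L61502 q3320, e3 q2713 (flp_h L45079) q2218, e3 q2714 L61656 q3322, e3 q2715 (flp_h L45260) q2221, e3 q2716 (flp_h L48186) q2845, e3 q2717 L45695 q2717, e3 q2718 L45705 q2718, e3 q2719 L45710 q2719, e3 q2720 L45719 q2720, e3 q2721 L62420 q3331, e3 q2722 L45803 q2722, e3 q2723 L62539 q3334, e3 q2724 L45817 q2724, e3 q2725 L62561 q3337,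 e3 q2726 (flp_h L45826) q2229, e3 q2727 L45968 q2727, e3 q2728 L62789 q3340, e3 q2729 (flp_h L45976) q2231, e3 q2730 L45987 q2730, e3 q2731 L62802 q3342, e3 q2732 (flp_h L45995) q2233, e3 q2733 L64421 q3345, e3 q2734 L64445 q3348, e3 q2735 (flp_h L47192) q2235, e3 q2736 L64478 q3352, e3 q2737 L64485 q3353, e3 q2738 (flp_h L47215) q2236, e3 q2739 L47231 q2739, e3 q2740 L64518 q3355, e3 q2741 L64526 q3356, e3 q2742 (flp_h L47247) q2239, e3 q2743 L47260 q2743, e3 q2744 L47268 q2744, e3 q2745 L64574 q3361, e3 q2746 (flp_h L47277) q2241, e3 q2747 (flp_h L47284) q2242, e3 q2748 L47301 q2748, e3 q2749 L64608 q3365, e3 q2750 (flp_h L47309) q2245, e3 q2751 L47321 q2751, trivial⟩ (by decide +kernel)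

theorem ce_h_43 : ∀ r, r < 64 → sm gh (Qf (2752 + r)) = Qf (tab Gen.h (2752 + r)) :=
  edges_tab (sm gh) Qf (tab Gen.h) 2752 [(2752, 2752), (2753, 2753), (2754, 3372), (2755, 2249), (2756, 3377), (2757, 3378), (2758, 2250), (2759, 2759), (2760, 2683), (2761, 3384), (2762, 2252), (2763, 2253), (2764, 2685), (2765, 3389), (2766, 3391), (2767, 2256), (2768, 2257), (2769, 2769), (2770, 2689), (2771, 2771), (2772, 3400), (2773, 3401), (2774, 2261), (2775, 2775), (2776, 2693), (2777, 2509), (2778, 2265), (2779, 2779), (2780, 2449), (2781, 2781), (2782, 3412), (2783, 3415), (2784, 3416), (2785, 2270), (2786, 2786), (2787, 2698), (2788, 3423), (2789, 3425), (2790, 2272), (2791, 2273), (2792, 2792), (2793, 2702), (2794, 2794), (2795, 3434), (2796, 3435), (2797, 2277), (2798, 2313), (2799, 2705), (2800, 2494), (2801, 3441), (2802, 2281), (2803, 3444), (2804, 2282), (2805, 3442), (2806, 2708), (2807, 2807), (2808, 2507), (2809, 2809), (2810, 3454), (2811, 2811), (2812, 3457), (2813, 2288), (2814,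 2289), (2815, 2322)]
    ⟨e3 q2752 L47328 q2752, e3 q2753 L47337 q2753, e3 q2754 L64664 q3372, e3 q2755 (flp_h L47347) q2249, e3 q2756 L64711 q3377, e3 q2757 L64721 q3378, e3 q2758 (flp_h L47376) q2250, e3 q2759 L47389 q2759, e3 q2760 L47399 q2683, e3 q2761 L64772 q3384, e3 q2762 (flp_h L47410) q2252, e3 q2763 (flp_h L47418) q2253, e3 q2764 L47431 q2685, e3 q2765 L64816 q3389, e3 q2766 L64835 q3391, e3 q2767 (flp_h L47453) q2256, e3 q2768 (flp_h L47463) q2257, e3 q2769 L47478 q2769, e3 q2770 L47487 q2689, e3 q2771 L47494 q2771, e3 q2772 L64911 q3400, e3 q2773 L64919 q3401, e3 q2774 (flp_h L47514) q2261, e3 q2775 L47528 q2775, e3 q2776 L47537 q2693, e3 q2777 L104127 q2509, e3 q2778 (flp_h L47548) q2265, e3 q2779 L47561 q2779, e3 q2780 L109193 q2449, e3 q2781 L47576 q2781, e3 q2782 L65004 q3412, e3 q2783 L65028 q3415, e3 q2784 L65036 q3416, e3 q2785 (flp_h L47601) q2270, e3 q2786 L47612 q2786, e3 q2787 L47620 q2698, e3 q2788 L65089 q3423, e3 q2789 L65109 q3425, e3 q2790 (flp_h L47643) q2272,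 e3 q2791 (flp_h L47653) q2273, e3 q2792 L47669 q2792, e3 q2793 L47678 q2702, e3 q2794 L47686 q2794, e3 q2795 L65190 q3434, e3 q2796 L65199 q3435, e3 q2797 (flp_h L47708) q2277, e3 q2798 L47723 q2313, e3 q2799 L47733 q2705, e3 q2800 L104742 q2494, e3 q2801 L65255 q3441, e3 q2802 (flp_h L47754) q2281, e3 q2803 L65277 q3444, e3 q2804 (flp_h L47770) q2282, e3 q2805 (flp_h L65266) q3442, e3 q2806 L47790 q2708, e3 q2807 L47798 q2807, e3 q2808 (flp_h L104492) q2507, e3 q2809 L47811 q2809, e3 q2810 L65341 q3454, e3 q2811 L47824 q2811, e3 q2812 L65363 q3457, e3 q2813 (flp_h L47833) q2288, e3 q2814 (flp_h L47840) q2289, e3 q2815 L47856 q2322, trivial⟩ (by decide +kernel)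

theorem ce_h_44 : ∀ r, r < 64 → sm gh (Qf (2816 + r)) = Qf (tab Gen.h (2816 + r)) :=
  edges_tab (sm gh) Qf (tab Gen.h) 2816 [(2816, 2447), (2817, 2323), (2818, 3458), (2819, 2298), (2820, 2324), (2821, 2413), (2822, 2325), (2823, 3407), (2824, 3469), (2825, 3471), (2826, 2299), (2827, 2300), (2828, 2828), (2829, 2451), (2830, 2830), (2831, 2670), (2832, 3479), (2833, 2304), (2834, 2456), (2835, 2305), (2836, 3480), (2837, 2837), (2838, 2838), (2839, 2603), (2840, 3436), (2841, 3438), (2842, 3490), (2843, 2314), (2844, 2318), (2845, 2716), (2846, 3491), (2847, 3493), (2848, 3494), (2849, 2849), (2850, 2610), (2851, 3459), (2852, 3461), (2853, 3463), (2854, 3465), (2855, 3504), (2856, 3506), (2857, 2326), (2858, 3510), (2859, 3511), (2860, 2327), (2861, 2861), (2862, 3513), (2863, 2330), (2864, 2516), (2865, 2865), (2866, 3518), (2867, 2332), (2868, 2333), (2869, 2869), (2870, 3522), (2871, 2336), (2872, 2872), (2873, 2873), (2874, 2874), (2875, 3529), (2876, 2340), (2877, 3534), (2878,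 3535), (2879, 2341)]
    ⟨e3 q2816 L109196 q2447, e3 q2817 L47873 q2323, e3 q2818 L109153 q3458, e3 q2819 L109185 q2298, e3 q2820 L47906 q2324, e3 q2821 L109190 q2413, e3 q2822 L47920 q2325, e3 q2823 L109149 q3407, e3 q2824 L65522 q3469, e3 q2825 L65541 q3471, e3 q2826 (flp_h L47957) q2299, e3 q2827 (flp_h L47966) q2300, e3 q2828 L47982 q2828, e3 q2829 L112104 q2451, e3 q2830 L47998 q2830, e3 q2831 L83237 q2670, e3 q2832 L65642 q3479, e3 q2833 (flp_h L48019) q2304, e3 q2834 L110767 q2456, e3 q2835 (flp_h L48038) q2305, e3 q2836 (flp_h L65655) q3480, e3 q2837 L48075 q2837, e3 q2838 L48093 q2838, e3 q2839 (flp_h L111783) q2603, e3 q2840 (flp_h L65215) q3436, e3 q2841 (flp_h L65234) q3438, e3 q2842 L65825 q3490, e3 q2843 (flp_h L48167) q2314, e3 q2844 L48178 q2318, e3 q2845 L48186 q2716, e3 q2846 (flp_h L65837) q3491, e3 q2847 (flp_h L65851) q3493, e3 q2848 (flp_h L65856) q3494, e3 q2849 L48240 q2849, e3 q2850 (flp_h L106327) q2610, e3 q2851 (flp_h L65396) q3459, e3 q2852 (flp_h L65412) q3461,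 e3 q2853 (flp_h L65463) q3463, e3 q2854 (flp_h L65486) q3465, e3 q2855 L66142 q3504, e3 q2856 L66169 q3506, e3 q2857 (flp_h L48407) q2326, e3 q2858 L66205 q3510, e3 q2859 L66214 q3511, e3 q2860 (flp_h L48434) q2327, e3 q2861 L48454 q2861, e3 q2862 L66252 q3513, e3 q2863 (flp_h L48471) q2330, e3 q2864 L48484 q2516, e3 q2865 L48493 q2865, e3 q2866 L66310 q3518, e3 q2867 (flp_h L48502) q2332, e3 q2868 (flp_h L48509) q2333, e3 q2869 L48526 q2869, e3 q2870 L66344 q3522, e3 q2871 (flp_h L48536) q2336, e3 q2872 L48552 q2872, e3 q2873 L48561 q2873, e3 q2874 L48572 q2874, e3 q2875 L66415 q3529, e3 q2876 (flp_h L48585) q2340, e3 q2877 L66468 q3534, e3 q2878 L66478 q3535, e3 q2879 (flp_h L48617) q2341, trivial⟩ (by decide +kernel)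

theorem ce_h_45 : ∀ r, r < 64 → sm gh (Qf (2880 + r)) = Qf (tab Gen.h (2880 + r)) :=
  edges_tab (sm gh) Qf (tab Gen.h) 2880 [(2880, 2522), (2881, 2366), (2882, 3540), (2883, 2343), (2884, 2344), (2885, 2370), (2886, 3544), (2887, 3545), (2888, 2347), (2889, 2348), (2890, 2525), (2891, 2376), (2892, 2526), (2893, 3553), (2894, 2352), (2895, 2895), (2896, 2382), (2897, 2383), (2898, 2898), (2899, 2386), (2900, 2900), (2901, 3561), (2902, 3564), (2903, 3565), (2904, 2360), (2905, 2531), (2906, 3531), (2907, 3572), (2908, 3574), (2909, 2362), (2910, 2363), (2911, 2537), (2912, 3537), (2913, 2539), (2914, 3583), (2915, 3584), (2916, 2367), (2917, 2917), (2918, 3542), (2919, 3543), (2920, 3590), (2921, 2371), (2922, 3593), (2923, 2372), (2924, 3591), (2925, 3547), (2926, 2544), (2927, 3548), (2928, 2545), (2929, 3603), (2930, 2547), (2931, 3606), (2932, 2378), (2933, 2379), (2934, 2934), (2935, 3555), (2936, 2936), (2937, 3612), (2938, 3464), (2939, 3613), (2940, 2940), (2941, 3616), (2942,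 2388), (2943, 3619)]
    ⟨e3 q2880 L48630 q2522, e3 q2881 L48641 q2366, e3 q2882 L66533 q3540, e3 q2883 (flp_h L48654) q2343, e3 q2884 (flp_h L48664) q2344, e3 q2885 L48681 q2370, e3 q2886 L66586 q3544, e3 q2887 L66606 q3545, e3 q2888 (flp_h L48704) q2347, e3 q2889 (flp_h L48714) q2348, e3 q2890 L48729 q2525, e3 q2891 L48739 q2376, e3 q2892 L48746 q2526, e3 q2893 L66685 q3553, e3 q2894 (flp_h L48767) q2352, e3 q2895 L48781 q2895, e3 q2896 L48790 q2382, e3 q2897 L48799 q2383, e3 q2898 L48818 q2898, e3 q2899 L48829 q2386, e3 q2900 L48837 q2900, e3 q2901 L66789 q3561, e3 q2902 L66814 q3564, e3 q2903 L66822 q3565, e3 q2904 (flp_h L48863) q2360, e3 q2905 L48878 q2531, e3 q2906 (flp_h L66445) q3531, e3 q2907 L66884 q3572, e3 q2908 L66898 q3574, e3 q2909 (flp_h L48902) q2362, e3 q2910 (flp_h L48910) q2363, e3 q2911 L48926 q2537, e3 q2912 (flp_h L66503) q3537, e3 q2913 L48942 q2539, e3 q2914 L66970 q3583, e3 q2915 L66978 q3584, e3 q2916 (flp_h L48958) q2367, e3 q2917 L48971 q2917, e3 q2918 (flp_h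 L66562) q3542, e3 q2919 (flp_h L66573) q3543, e3 q2920 L67021 q3590, e3 q2921 (flp_h L48995) q2371, e3 q2922 L67043 q3593, e3 q2923 (flp_h L49009) q2372, e3 q2924 (flp_h L67034) q3591, e3 q2925 (flp_h L66632) q3547, e3 q2926 L49039 q2544, e3 q2927 (flp_h L66652) q3548, e3 q2928 L49055 q2545, e3 q2929 L67119 q3603, e3 q2930 L49071 q2547, e3 q2931 L67143 q3606, e3 q2932 (flp_h L49081) q2378, e3 q2933 (flp_h L49089) q2379, e3 q2934 L49103 q2934, e3 q2935 (flp_h L66718) q3555, e3 q2936 L49115 q2936, e3 q2937 L67193 q3612, e3 q2938 (flp_h L109022) q3464, e3 q2939 L67234 q3613, e3 q2940 L49155 q2940, e3 q2941 L67253 q3616, e3 q2942 (flp_h L49163) q2388, e3 q2943 L67279 q3619, trivial⟩ (by decide +kernel)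

theorem ce_h_46 : ∀ r, r < 64 → sm gh (Qf (2944 + r)) = Qf (tab Gen.h (2944 + r)) :=
  edges_tab (sm gh) Qf (tab Gen.h) 2944 [(2944, 3620), (2945, 2389), (2946, 2553), (2947, 2418), (2948, 3627), (2949, 3628), (2950, 2391), (2951, 2392), (2952, 2556), (2953, 2424), (2954, 2557), (2955, 3637), (2956, 2396), (2957, 2427), (2958, 2430), (2959, 2431), (2960, 3549), (2961, 2400), (2962, 2401), (2963, 3641), (2964, 2437), (2965, 2524), (2966, 2439), (2967, 2560), (2968, 3651), (2969, 2561), (2970, 3654), (2971, 2407), (2972, 2445), (2973, 2434), (2974, 3460), (2975, 3658), (2976, 3660), (2977, 2414), (2978, 2415), (2979, 2568), (2980, 3622), (2981, 2570), (2982, 2571), (2983, 3672), (2984, 3674), (2985, 2419), (2986, 3639), (2987, 2420), (2988, 3675), (2989, 3630), (2990, 2576), (2991, 3632), (2992, 2577), (2993, 3686), (2994, 2579), (2995, 3689), (2996, 2426), (2997, 3638), (2998, 2470), (2999, 3437), (3000, 3693), (3001, 2432), (3002, 2436), (3003, 3642), (3004, 3694), (3005, 3644), (3006,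 3696), (3007, 3697)]
    ⟨e3 q2944 L67289 q3620, e3 q2945 (flp_h L49188) q2389, e3 q2946 L49201 q2553, e3 q2947 L49212 q2418, e3 q2948 L67352 q3627, e3 q2949 L67373 q3628, e3 q2950 (flp_h L49236) q2391, e3 q2951 (flp_h L49246) q2392, e3 q2952 L49262 q2556, e3 q2953 L49272 q2424, e3 q2954 L49280 q2557, e3 q2955 L67457 q3637, e3 q2956 (flp_h L49305) q2396, e3 q2957 (flp_h L104664) q2427, e3 q2958 L49336 q2430, e3 q2959 L49348 q2431, e3 q2960 L116595 q3549, e3 q2961 (flp_h L49360) q2400, e3 q2962 (flp_h L49377) q2401, e3 q2963 (flp_h L67543) q3641, e3 q2964 L49397 q2437, e3 q2965 (flp_h L116432) q2524, e3 q2966 L49414 q2439, e3 q2967 L49419 q2560, e3 q2968 L67621 q3651, e3 q2969 L49433 q2561, e3 q2970 L67645 q3654, e3 q2971 (flp_h L49443) q2407, e3 q2972 L49477 q2445, e3 q2973 L103610 q2434, e3 q2974 (flp_h L94297) q3460, e3 q2975 L67815 q3658, e3 q2976 L67826 q3660, e3 q2977 (flp_h L49573) q2414, e3 q2978 (flp_h L49579) q2415, e3 q2979 L49592 q2568, e3 q2980 (flp_h L67314) q3622, e3 q2981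 L49603 q2570, e3 q2982 L49612 q2571, e3 q2983 L67911 q3672, e3 q2984 L67926 q3674, e3 q2985 (flp_h L49631) q2419, e3 q2986 (flp_h L94206) q3639, e3 q2987 (flp_h L49646) q2420, e3 q2988 (flp_h L67940) q3675, e3 q2989 (flp_h L67399) q3630, e3 q2990 L49677 q2576, e3 q2991 (flp_h L67420) q3632, e3 q2992 L49694 q2577, e3 q2993 L68032 q3686, e3 q2994 L49712 q2579, e3 q2995 L68059 q3689, e3 q2996 (flp_h L49723) q2426, e3 q2997 (flp_h L67499) q3638, e3 q2998 L49763 q2470, e3 q2999 (flp_h L91715) q3437, e3 q3000 L68134 q3693, e3 q3001 (flp_h L49779) q2432, e3 q3002 L49789 q2436, e3 q3003 (flp_h L67553) q3642, e3 q3004 (flp_h L68144) q3694, e3 q3005 (flp_h L67576) q3644, e3 q3006 (flp_h L68156) q3696, e3 q3007 (flp_h L68162) q3697, trivial⟩ (by decide +kernel)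

theorem ce_h_47 : ∀ r, r < 64 → sm gh (Qf (3008 + r)) = Qf (tab Gen.h (3008 + r)) :=
  edges_tab (sm gh) Qf (tab Gen.h) 3008 [(3008, 3706), (3009, 2586), (3010, 3709), (3011, 2587), (3012, 3712), (3013, 2441), (3014, 2590), (3015, 3714), (3016, 2443), (3017, 2475), (3018, 3446), (3019, 2476), (3020, 3403), (3021, 3721), (3022, 3470), (3023, 2450), (3024, 2597), (3025, 2598), (3026, 3026), (3027, 3726), (3028, 2455), (3029, 3727), (3030, 2604), (3031, 2460), (3032, 2462), (3033, 2473), (3034, 3731), (3035, 3734), (3036, 3735), (3037, 2464), (3038, 3736), (3039, 2467), (3040, 2469), (3041, 3728), (3042, 3740), (3043, 3690), (3044, 3730), (3045, 2474), (3046, 3492), (3047, 3744), (3048, 3716), (3049, 3049), (3050, 3050), (3051, 2622), (3052, 3052), (3053, 2624), (3054, 2625), (3055, 3757), (3056, 2627), (3057, 3761), (3058, 2629), (3059, 3764), (3060, 2483), (3061, 3061), (3062, 3062), (3063, 3770), (3064, 2632), (3065, 3773), (3066, 2634), (3067, 3776), (3068, 2489), (3069, 2637), (3070,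 3778), (3071, 2491)]
    ⟨e3 q3008 L68225 q3706, e3 q3009 L49834 q2586, e3 q3010 L68242 q3709, e3 q3011 L49849 q2587, e3 q3012 L68267 q3712, e3 q3013 (flp_h L49859) q2441, e3 q3014 L49871 q2590, e3 q3015 L68282 q3714, e3 q3016 (flp_h L49880) q2443, e3 q3017 L49926 q2475, e3 q3018 (flp_h L92041) q3446, e3 q3019 L49991 q2476, e3 q3020 L92254 q3403, e3 q3021 L68469 q3721, e3 q3022 (flp_h L102585) q3470, e3 q3023 (flp_h L50029) q2450, e3 q3024 L50058 q2597, e3 q3025 L50076 q2598, e3 q3026 L50101 q3026, e3 q3027 L68626 q3726, e3 q3028 (flp_h L50112) q2455, e3 q3029 (flp_h L68640) q3727, e3 q3030 L50188 q2604, e3 q3031 (flp_h L50281) q2460, e3 q3032 L50293 q2462, e3 q3033 L50302 q2473, e3 q3034 (flp_h L68875) q3731, e3 q3035 L69189 q3734, e3 q3036 L69203 q3735, e3 q3037 (flp_h L50551) q2464, e3 q3038 (flp_h L69218) q3736, e3 q3039 (flp_h L50603) q2467, e3 q3040 L50616 q2469, e3 q3041 (flp_h L68650) q3728, e3 q3042 (flp_h L69301) q3740, e3 q3043 (flp_h L68109) q3690, e3 q3044 (flp_h L68864) q3730,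 e3 q3045 L50745 q2474, e3 q3046 (flp_h L84637) q3492, e3 q3047 (flp_h L69466) q3744, e3 q3048 (flp_h L68352) q3716, e3 q3049 L50957 q3049, e3 q3050 L50966 q3050, e3 q3051 L50975 q2622, e3 q3052 L50985 q3052, e3 q3053 L50991 q2624, e3 q3054 L50998 q2625, e3 q3055 L69807 q3757, e3 q3056 L51015 q2627, e3 q3057 L69837 q3761, e3 q3058 L51029 q2629, e3 q3059 L69862 q3764, e3 q3060 (flp_h L51040) q2483, e3 q3061 L51082 q3061, e3 q3062 L51089 q3062, e3 q3063 L69955 q3770, e3 q3064 L51105 q2632, e3 q3065 L69977 q3773, e3 q3066 L51120 q2634, e3 q3067 L70003 q3776, e3 q3068 (flp_h L51130) q2489, e3 q3069 L51144 q2637, e3 q3070 L70019 q3778, e3 q3071 (flp_h L51154) q2491, trivial⟩ (by decide +kernel)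

theorem ce_h_48 : ∀ r, r < 64 → sm gh (Qf (3072 + r)) = Qf (tab Gen.h (3072 + r)) :=
  edges_tab (sm gh) Qf (tab Gen.h) 3072 [(3072, 2510), (3073, 3429), (3074, 3074), (3075, 3075), (3076, 3787), (3077, 3077), (3078, 3790), (3079, 2497), (3080, 2640), (3081, 3793), (3082, 2499), (3083, 2643), (3084, 3795), (3085, 2501), (3086, 3797), (3087, 2504), (3088, 3088), (3089, 2511), (3090, 3395), (3091, 3387), (3092, 3780), (3093, 2668), (3094, 2594), (3095, 2513), (3096, 3507), (3097, 3515), (3098, 2551), (3099, 2550), (3100, 2517), (3101, 3530), (3102, 2532), (3103, 3631), (3104, 3536), (3105, 3538), (3106, 3810), (3107, 3551), (3108, 3811), (3109, 2527), (3110, 3814), (3111, 2569), (3112, 2528), (3113, 2529), (3114, 3566), (3115, 2565), (3116, 3568), (3117, 3569), (3118, 3824), (3119, 3825), (3120, 2533), (3121, 3826), (3122, 3577), (3123, 3579), (3124, 3832), (3125, 3581), (3126, 3835), (3127, 2540), (3128, 2541), (3129, 2543), (3130, 3648), (3131, 3836), (3132, 3599), (3133, 3601), (3134,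 3841), (3135, 2546)]
    ⟨e3 q3072 L51200 q2510, e3 q3073 L94098 q3429, e3 q3074 L51261 q3074, e3 q3075 L51267 q3075, e3 q3076 L70206 q3787, e3 q3077 L51280 q3077, e3 q3078 L70227 q3790, e3 q3079 (flp_h L51289) q2497, e3 q3080 L51298 q2640, e3 q3081 L70247 q3793, e3 q3082 (flp_h L51308) q2499, e3 q3083 L51322 q2643, e3 q3084 L70263 q3795, e3 q3085 (flp_h L51331) q2501, e3 q3086 L70278 q3797, e3 q3087 (flp_h L51345) q2504, e3 q3088 L51359 q3088, e3 q3089 L51412 q2511, e3 q3090 L94152 q3395, e3 q3091 L93906 q3387, e3 q3092 (flp_h L70088) q3780, e3 q3093 (flp_h L118685) q2668, e3 q3094 L118639 q2594, e3 q3095 (flp_h L52044) q2513, e3 q3096 (flp_h L66184) q3507, e3 q3097 (flp_h L66291) q3515, e3 q3098 (flp_h L117644) q2551, e3 q3099 L118769 q2550, e3 q3100 (flp_h L52279) q2517, e3 q3101 (flp_h L66432) q3530, e3 q3102 L52304 q2532, e3 q3103 (flp_h L119620) q3631, e3 q3104 (flp_h L66493) q3536, e3 q3105 (flp_h L66510) q3538, e3 q3106 L71674 q3810, e3 q3107 (flp_h L66674) q3551, e3 q3108 L71849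 q3811, e3 q3109 (flp_h L52511) q2527, e3 q3110 L71990 q3814, e3 q3111 (flp_h L118785) q2569, e3 q3112 (flp_h L52624) q2528, e3 q3113 (flp_h L52634) q2529, e3 q3114 (flp_h L66839) q3566, e3 q3115 (flp_h L118826) q2565, e3 q3116 (flp_h L66854) q3568, e3 q3117 (flp_h L66864) q3569, e3 q3118 L72111 q3824, e3 q3119 L72126 q3825, e3 q3120 (flp_h L52692) q2533, e3 q3121 (flp_h L72138) q3826, e3 q3122 (flp_h L66928) q3577, e3 q3123 (flp_h L66944) q3579, e3 q3124 L72223 q3832, e3 q3125 (flp_h L66960) q3581, e3 q3126 L72245 q3835, e3 q3127 (flp_h L52776) q2540, e3 q3128 (flp_h L52833) q2541, e3 q3129 L52845 q2543, e3 q3130 (flp_h L116418) q3648, e3 q3131 (flp_h L72353) q3836, e3 q3132 (flp_h L67091) q3599, e3 q3133 (flp_h L67108) q3601, e3 q3134 L72475 q3841, e3 q3135 (flp_h L52929) q2546, trivial⟩ (by decide +kernel)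

theorem ce_h_49 : ∀ r, r < 64 → sm gh (Qf (3136 + r)) = Qf (tab Gen.h (3136 + r)) :=
  edges_tab (sm gh) Qf (tab Gen.h) 3136 [(3136, 3604), (3137, 3843), (3138, 2548), (3139, 3846), (3140, 3621), (3141, 3623), (3142, 3624), (3143, 3853), (3144, 2555), (3145, 3633), (3146, 3635), (3147, 3858), (3148, 2558), (3149, 2584), (3150, 3649), (3151, 3652), (3152, 3860), (3153, 2562), (3154, 3863), (3155, 3864), (3156, 2564), (3157, 3865), (3158, 3663), (3159, 3665), (3160, 3666), (3161, 3875), (3162, 3668), (3163, 3879), (3164, 3670), (3165, 3882), (3166, 2572), (3167, 2573), (3168, 2575), (3169, 3854), (3170, 3884), (3171, 3682), (3172, 3684), (3173, 3890), (3174, 2578), (3175, 3687), (3176, 3892), (3177, 2580), (3178, 3550), (3179, 2585), (3180, 3600), (3181, 3894), (3182, 3707), (3183, 3710), (3184, 3899), (3185, 2588), (3186, 3901), (3187, 2591), (3188, 3188), (3189, 3905), (3190, 3906), (3191, 2593), (3192, 3907), (3193, 3476), (3194, 3723), (3195, 3724), (3196, 2675), (3197, 2676), (3198,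 2600), (3199, 2602)]
    ⟨e3 q3136 (flp_h L67133) q3604, e3 q3137 L72491 q3843, e3 q3138 (flp_h L52951) q2548, e3 q3139 L72585 q3846, e3 q3140 (flp_h L67304) q3621, e3 q3141 (flp_h L67319) q3623, e3 q3142 (flp_h L67329) q3624, e3 q3143 L72684 q3853, e3 q3144 (flp_h L53105) q2555, e3 q3145 (flp_h L67427) q3633, e3 q3146 (flp_h L67445) q3635, e3 q3147 L72829 q3858, e3 q3148 (flp_h L53196) q2558, e3 q3149 L53277 q2584, e3 q3150 (flp_h L67612) q3649, e3 q3151 (flp_h L67635) q3652, e3 q3152 L73048 q3860, e3 q3153 (flp_h L53356) q2562, e3 q3154 L73184 q3863, e3 q3155 L73198 q3864, e3 q3156 (flp_h L53480) q2564, e3 q3157 (flp_h L73209) q3865, e3 q3158 (flp_h L67851) q3663, e3 q3159 (flp_h L67864) q3665, e3 q3160 (flp_h L67872) q3666, e3 q3161 L73308 q3875, e3 q3162 (flp_h L67889) q3668, e3 q3163 L73336 q3879, e3 q3164 (flp_h L67902) q3670, e3 q3165 L73356 q3882, e3 q3166 (flp_h L53576) q2572, e3 q3167 (flp_h L53590) q2573, e3 q3168 L53604 q2575, e3 q3169 (flp_h L72724) q3854, e3 q3170 (flp_h L73402)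 q3884, e3 q3171 (flp_h L68001) q3682, e3 q3172 (flp_h L68020) q3684, e3 q3173 L73515 q3890, e3 q3174 (flp_h L53690) q2578, e3 q3175 (flp_h L68048) q3687, e3 q3176 L73533 q3892, e3 q3177 (flp_h L53715) q2580, e3 q3178 (flp_h L116568) q3550, e3 q3179 L53763 q2585, e3 q3180 (flp_h L117807) q3600, e3 q3181 (flp_h L73586) q3894, e3 q3182 (flp_h L68231) q3707, e3 q3183 (flp_h L68257) q3710, e3 q3184 L73681 q3899, e3 q3185 (flp_h L53850) q2588, e3 q3186 L73691 q3901, e3 q3187 (flp_h L53864) q2591, e3 q3188 L53873 q3188, e3 q3189 L73717 q3905, e3 q3190 L73733 q3906, e3 q3191 (flp_h L53890) q2593, e3 q3192 (flp_h L73746) q3907, e3 q3193 (flp_h L83246) q3476, e3 q3194 (flp_h L68551) q3723, e3 q3195 (flp_h L68561) q3724, e3 q3196 (flp_h L96807) q2675, e3 q3197 (flp_h L96792) q2676, e3 q3198 (flp_h L53974) q2600, e3 q3199 L53985 q2602, trivial⟩ (by decide +kernel)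

theorem ce_h_50 : ∀ r, r < 64 → sm gh (Qf (3200 + r)) = Qf (tab Gen.h (3200 + r)) :=
  edges_tab (sm gh) Qf (tab Gen.h) 3200 [(3200, 2618), (3201, 3918), (3202, 3486), (3203, 2677), (3204, 2621), (3205, 2609), (3206, 3206), (3207, 3921), (3208, 3924), (3209, 2612), (3210, 3928), (3211, 2613), (3212, 3908), (3213, 3930), (3214, 2616), (3215, 3917), (3216, 2619), (3217, 3516), (3218, 3750), (3219, 3751), (3220, 3937), (3221, 3753), (3222, 3941), (3223, 3755), (3224, 3944), (3225, 2626), (3226, 3946), (3227, 3759), (3228, 3950), (3229, 2628), (3230, 3762), (3231, 3953), (3232, 2630), (3233, 3771), (3234, 3957), (3235, 2633), (3236, 3774), (3237, 3959), (3238, 2635), (3239, 3961), (3240, 2638), (3241, 2658), (3242, 3791), (3243, 3965), (3244, 2641), (3245, 3967), (3246, 2644), (3247, 3247), (3248, 2646), (3249, 2660), (3250, 2661), (3251, 3972), (3252, 2649), (3253, 3975), (3254, 3254), (3255, 3977), (3256, 2651), (3257, 3257), (3258, 3980), (3259, 2654), (3260, 3954), (3261, 2656), (3262,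 3962), (3263, 3963)]
    ⟨e3 q3200 L53992 q2618, e3 q3201 (flp_h L73892) q3918, e3 q3202 (flp_h L111795) q3486, e3 q3203 L106219 q2677, e3 q3204 L54102 q2621, e3 q3205 L54112 q2609, e3 q3206 L54120 q3206, e3 q3207 (flp_h L74063) q3921, e3 q3208 L74200 q3924, e3 q3209 (flp_h L54236) q2612, e3 q3210 L74227 q3928, e3 q3211 (flp_h L54250) q2613, e3 q3212 (flp_h L73754) q3908, e3 q3213 L74244 q3930, e3 q3214 (flp_h L54272) q2616, e3 q3215 (flp_h L73879) q3917, e3 q3216 (flp_h L54287) q2619, e3 q3217 (flp_h L119498) q3516, e3 q3218 (flp_h L69756) q3750, e3 q3219 (flp_h L69765) q3751, e3 q3220 L74305 q3937, e3 q3221 (flp_h L69782) q3753, e3 q3222 L74333 q3941, e3 q3223 (flp_h L69796) q3755, e3 q3224 L74358 q3944, e3 q3225 (flp_h L54354) q2626, e3 q3226 L74372 q3946, e3 q3227 (flp_h L69827) q3759, e3 q3228 L74401 q3950, e3 q3229 (flp_h L54382) q2628, e3 q3230 (flp_h L69851) q3762, e3 q3231 L74425 q3953, e3 q3232 (flp_h L54405) q2630, e3 q3233 (flp_h L69966) q3771, e3 q3234 L74457 q3957, e3 q3235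 (flp_h L54428) q2633, e3 q3236 (flp_h L69993) q3774, e3 q3237 L74474 q3959, e3 q3238 (flp_h L54452) q2635, e3 q3239 L74488 q3961, e3 q3240 (flp_h L54467) q2638, e3 q3241 L54479 q2658, e3 q3242 (flp_h L70237) q3791, e3 q3243 L74520 q3965, e3 q3244 (flp_h L54495) q2641, e3 q3245 L74533 q3967, e3 q3246 (flp_h L54510) q2644, e3 q3247 L54521 q3247, e3 q3248 (flp_h L54522) q2646, e3 q3249 L54533 q2660, e3 q3250 L54539 q2661, e3 q3251 L74590 q3972, e3 q3252 (flp_h L54547) q2649, e3 q3253 L74612 q3975, e3 q3254 L54569 q3254, e3 q3255 L74628 q3977, e3 q3256 (flp_h L54580) q2651, e3 q3257 L54598 q3257, e3 q3258 L74652 q3980, e3 q3259 (flp_h L54608) q2654, e3 q3260 (flp_h L74439) q3954, e3 q3261 (flp_h L54625) q2656, e3 q3262 (flp_h L74501) q3962, e3 q3263 (flp_h L74509) q3963, trivial⟩ (by decide +kernel)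

theorem ce_h_51 : ∀ r, r < 64 → sm gh (Qf (3264 + r)) = Qf (tab Gen.h (3264 + r)) :=
  edges_tab (sm gh) Qf (tab Gen.h) 3264 [(3264, 2671), (3265, 3265), (3266, 3266), (3267, 3267), (3268, 3477), (3269, 3269), (3270, 3270), (3271, 3916), (3272, 3914), (3273, 3988), (3274, 2678), (3275, 3275), (3276, 3374), (3277, 3994), (3278, 2680), (3279, 3279), (3280, 3380), (3281, 3281), (3282, 4001), (3283, 3283), (3284, 3386), (3285, 2686), (3286, 4004), (3287, 3393), (3288, 3288), (3289, 4011), (3290, 3290), (3291, 4014), (3292, 2691), (3293, 3293), (3294, 4016), (3295, 2694), (3296, 4018), (3297, 2695), (3298, 3298), (3299, 3418), (3300, 3300), (3301, 3301), (3302, 4028), (3303, 2699), (3304, 4029), (3305, 3427), (3306, 3306), (3307, 4035), (3308, 3308), (3309, 4038), (3310, 2704), (3311, 2707), (3312, 3443), (3313, 4039), (3314, 4043), (3315, 3315), (3316, 4046), (3317, 2710), (3318, 3318), (3319, 4048), (3320, 2712), (3321, 4050), (3322, 2714), (3323, 3481), (3324, 3324), (3325, 3325), (3326,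 4056), (3327, 3327)]
    ⟨e3 q3264 L82715 q2671, e3 q3265 L56850 q3265, e3 q3266 L120768 q3266, e3 q3267 L120767 q3267, e3 q3268 L120734 q3477, e3 q3269 L59250 q3269, e3 q3270 L120746 q3270, e3 q3271 (flp_h L120763) q3916, e3 q3272 (flp_h L120765) q3914, e3 q3273 L121110 q3988, e3 q3274 (flp_h L60861) q2678, e3 q3275 L60878 q3275, e3 q3276 (flp_h L64689) q3374, e3 q3277 L121165 q3994, e3 q3278 (flp_h L60902) q2680, e3 q3279 L60926 q3279, e3 q3280 (flp_h L64745) q3380, e3 q3281 L60941 q3281, e3 q3282 L121212 q4001, e3 q3283 L60975 q3283, e3 q3284 (flp_h L64795) q3386, e3 q3285 (flp_h L61002) q2686, e3 q3286 (flp_h L121238) q4004, e3 q3287 (flp_h L64861) q3393, e3 q3288 L61060 q3288, e3 q3289 L121277 q4011, e3 q3290 L61075 q3290, e3 q3291 L121299 q4014, e3 q3292 (flp_h L61084) q2691, e3 q3293 L61117 q3293, e3 q3294 L121313 q4016, e3 q3295 (flp_h L61175) q2694, e3 q3296 L121326 q4018, e3 q3297 (flp_h L61194) q2695, e3 q3298 L61217 q3298, e3 q3299 (flp_h L65056) q3418, e3 q3300 L61229 q3300,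 e3 q3301 L61239 q3301, e3 q3302 L121394 q4028, e3 q3303 (flp_h L61256) q2699, e3 q3304 (flp_h L121404) q4029, e3 q3305 (flp_h L65135) q3427, e3 q3306 L61317 q3306, e3 q3307 L121442 q4035, e3 q3308 L61334 q3308, e3 q3309 L121467 q4038, e3 q3310 (flp_h L61344) q2704, e3 q3311 L61416 q2707, e3 q3312 (flp_h L65275) q3443, e3 q3313 (flp_h L121479) q4039, e3 q3314 L121496 q4043, e3 q3315 L61474 q3315, e3 q3316 L121513 q4046, e3 q3317 (flp_h L61483) q2710, e3 q3318 L61494 q3318, e3 q3319 L121527 q4048, e3 q3320 (flp_h L61502) q2712, e3 q3321 L121538 q4050, e3 q3322 (flp_h L61656) q2714, e3 q3323 (flp_h L65664) q3481, e3 q3324 L62371 q3324, e3 q3325 L62379 q3325, e3 q3326 L121580 q4056, e3 q3327 L62395 q3327, trivial⟩ (by decide +kernel)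

theorem ce_h_52 : ∀ r, r < 64 → sm gh (Qf (3328 + r)) = Qf (tab Gen.h (3328 + r)) :=
  edges_tab (sm gh) Qf (tab Gen.h) 3328 [(3328, 4060), (3329, 3329), (3330, 4063), (3331, 2721), (3332, 3332), (3333, 4066), (3334, 2723), (3335, 3335), (3336, 4068), (3337, 2725), (3338, 3338), (3339, 4071), (3340, 2728), (3341, 4073), (3342, 2731), (3343, 3343), (3344, 4077), (3345, 2733), (3346, 4080), (3347, 4081), (3348, 2734), (3349, 3349), (3350, 3350), (3351, 4086), (3352, 2736), (3353, 2737), (3354, 3354), (3355, 2740), (3356, 2741), (3357, 3357), (3358, 3358), (3359, 3359), (3360, 4097), (3361, 2745), (3362, 3362), (3363, 3363), (3364, 3364), (3365, 2749), (3366, 3366), (3367, 3367), (3368, 3368), (3369, 4108), (3370, 4111), (3371, 4112), (3372, 2754), (3373, 3373), (3374, 3276), (3375, 4119), (3376, 4121), (3377, 2756), (3378, 2757), (3379, 3379), (3380, 3280), (3381, 3381), (3382, 4130), (3383, 4131), (3384, 2761), (3385, 3385), (3386, 3284), (3387, 3091), (3388, 4137), (3389, 2765), (3390,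 4140), (3391, 2766)]
    ⟨e3 q3328 L121610 q4060, e3 q3329 L62410 q3329, e3 q3330 L121633 q4063, e3 q3331 (flp_h L62420) q2721, e3 q3332 L62530 q3332, e3 q3333 L121657 q4066, e3 q3334 (flp_h L62539) q2723, e3 q3335 L62552 q3335, e3 q3336 L121672 q4068, e3 q3337 (flp_h L62561) q2725, e3 q3338 L62781 q3338, e3 q3339 L121694 q4071, e3 q3340 (flp_h L62789) q2728, e3 q3341 L121707 q4073, e3 q3342 (flp_h L62802) q2731, e3 q3343 L62814 q3343, e3 q3344 L121738 q4077, e3 q3345 (flp_h L64421) q2733, e3 q3346 L121760 q4080, e3 q3347 L121773 q4081, e3 q3348 (flp_h L64445) q2734, e3 q3349 L64460 q3349, e3 q3350 L64469 q3350, e3 q3351 L121820 q4086, e3 q3352 (flp_h L64478) q2736, e3 q3353 (flp_h L64485) q2737, e3 q3354 L64502 q3354, e3 q3355 (flp_h L64518) q2740, e3 q3356 (flp_h L64526) q2741, e3 q3357 L64541 q3357, e3 q3358 L64549 q3358, e3 q3359 L64556 q3359, e3 q3360 L121928 q4097, e3 q3361 (flp_h L64574) q2745, e3 q3362 L64589 q3362, e3 q3363 L64597 q3363, e3 q3364 L64607 q3364, e3 q3365 (flp_h L64608)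 q2749, e3 q3366 L64621 q3366, e3 q3367 L64629 q3367, e3 q3368 L64635 q3368, e3 q3369 L122030 q4108, e3 q3370 L122058 q4111, e3 q3371 L122068 q4112, e3 q3372 (flp_h L64664) q2754, e3 q3373 L64679 q3373, e3 q3374 L64689 q3276, e3 q3375 L122131 q4119, e3 q3376 L122150 q4121, e3 q3377 (flp_h L64711) q2756, e3 q3378 (flp_h L64721) q2757, e3 q3379 L64736 q3379, e3 q3380 L64745 q3280, e3 q3381 L64752 q3381, e3 q3382 L122226 q4130, e3 q3383 L122234 q4131, e3 q3384 (flp_h L64772) q2761, e3 q3385 L64786 q3385, e3 q3386 L64795 q3284, e3 q3387 (flp_h L93906) q3091, e3 q3388 L122288 q4137, e3 q3389 (flp_h L64816) q2765, e3 q3390 L122314 q4140, e3 q3391 (flp_h L64835) q2766, trivial⟩ (by decide +kernel)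

theorem ce_h_53 : ∀ r, r < 64 → sm gh (Qf (3392 + r)) = Qf (tab Gen.h (3392 + r)) :=
  edges_tab (sm gh) Qf (tab Gen.h) 3392 [(3392, 4138), (3393, 3287), (3394, 3394), (3395, 3090), (3396, 3396), (3397, 4150), (3398, 3398), (3399, 4153), (3400, 2772), (3401, 2773), (3402, 3402), (3403, 3020), (3404, 3404), (3405, 4160), (3406, 3406), (3407, 2823), (3408, 3408), (3409, 4165), (3410, 3410), (3411, 4168), (3412, 2782), (3413, 4171), (3414, 4173), (3415, 2783), (3416, 2784), (3417, 3417), (3418, 3299), (3419, 3419), (3420, 3420), (3421, 4185), (3422, 4187), (3423, 2788), (3424, 4190), (3425, 2789), (3426, 4188), (3427, 3305), (3428, 3428), (3429, 3073), (3430, 3430), (3431, 4200), (3432, 3432), (3433, 4203), (3434, 2795), (3435, 2796), (3436, 2840), (3437, 2999), (3438, 2841), (3439, 4204), (3440, 4210), (3441, 2801), (3442, 2805), (3443, 3312), (3444, 2803), (3445, 4211), (3446, 3018), (3447, 4213), (3448, 4214), (3449, 4226), (3450, 3450), (3451, 4229), (3452, 3452), (3453, 4232), (3454,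 2810), (3455, 3455)]
    ⟨e3 q3392 (flp_h L122302) q4138, e3 q3393 L64861 q3287, e3 q3394 L64870 q3394, e3 q3395 (flp_h L94152) q3090, e3 q3396 L64886 q3396, e3 q3397 L122396 q4150, e3 q3398 L64901 q3398, e3 q3399 L122421 q4153, e3 q3400 (flp_h L64911) q2772, e3 q3401 (flp_h L64919) q2773, e3 q3402 L64934 q3402, e3 q3403 (flp_h L92254) q3020, e3 q3404 L64949 q3404, e3 q3405 L122477 q4160, e3 q3406 L64964 q3406, e3 q3407 (flp_h L109149) q2823, e3 q3408 L64980 q3408, e3 q3409 L122527 q4165, e3 q3410 L64995 q3410, e3 q3411 L122549 q4168, e3 q3412 (flp_h L65004) q2782, e3 q3413 L122574 q4171, e3 q3414 L122590 q4173, e3 q3415 (flp_h L65028) q2783, e3 q3416 (flp_h L65036) q2784, e3 q3417 L65049 q3417, e3 q3418 L65056 q3299, e3 q3419 L65061 q3419, e3 q3420 L65068 q3420, e3 q3421 L122679 q4185, e3 q3422 L122699 q4187, e3 q3423 (flp_h L65089) q2788, e3 q3424 L122727 q4190, e3 q3425 (flp_h L65109) q2789, e3 q3426 (flp_h L122714) q4188, e3 q3427 L65135 q3305, e3 q3428 L65145 q3428, e3 q3429 (flp_h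 L94098) q3073, e3 q3430 L65162 q3430, e3 q3431 L122811 q4200, e3 q3432 L65179 q3432, e3 q3433 L122839 q4203, e3 q3434 (flp_h L65190) q2795, e3 q3435 (flp_h L65199) q2796, e3 q3436 L65215 q2840, e3 q3437 L91715 q2999, e3 q3438 L65234 q2841, e3 q3439 (flp_h L122859) q4204, e3 q3440 L122915 q4210, e3 q3441 (flp_h L65255) q2801, e3 q3442 L65266 q2805, e3 q3443 L65275 q3312, e3 q3444 (flp_h L65277) q2803, e3 q3445 (flp_h L122927) q4211, e3 q3446 L92041 q3018, e3 q3447 (flp_h L122942) q4213, e3 q3448 (flp_h L122948) q4214, e3 q3449 L123027 q4226, e3 q3450 L65321 q3450, e3 q3451 L123047 q4229, e3 q3452 L65333 q3452, e3 q3453 L123069 q4232, e3 q3454 (flp_h L65341) q2810, e3 q3455 L65354 q3455, trivial⟩ (by decide +kernel)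

theorem ce_h_54 : ∀ r, r < 64 → sm gh (Qf (3456 + r)) = Qf (tab Gen.h (3456 + r)) :=
  edges_tab (sm gh) Qf (tab Gen.h) 3456 [(3456, 4234), (3457, 2812), (3458, 2818), (3459, 2851), (3460, 2974), (3461, 2852), (3462, 4217), (3463, 2853), (3464, 2938), (3465, 2854), (3466, 4155), (3467, 4244), (3468, 4246), (3469, 2824), (3470, 3022), (3471, 2825), (3472, 4247), (3473, 3473), (3474, 3474), (3475, 3475), (3476, 3193), (3477, 3268), (3478, 4258), (3479, 2832), (3480, 2836), (3481, 3323), (3482, 4259), (3483, 4261), (3484, 4262), (3485, 3485), (3486, 3202), (3487, 4205), (3488, 4207), (3489, 4270), (3490, 2842), (3491, 2846), (3492, 3046), (3493, 2847), (3494, 2848), (3495, 4271), (3496, 4272), (3497, 4273), (3498, 4275), (3499, 4276), (3500, 4236), (3501, 4238), (3502, 4240), (3503, 4282), (3504, 2855), (3505, 4285), (3506, 2856), (3507, 3096), (3508, 3508), (3509, 4289), (3510, 2858), (3511, 2859), (3512, 3512), (3513, 2862), (3514, 3514), (3515, 3097), (3516, 3217), (3517, 4295), (3518,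 2866), (3519, 3519)]
    ⟨e3 q3456 L123083 q4234, e3 q3457 (flp_h L65363) q2812, e3 q3458 (flp_h L109153) q2818, e3 q3459 L65396 q2851, e3 q3460 L94297 q2974, e3 q3461 L65412 q2852, e3 q3462 (flp_h L122974) q4217, e3 q3463 L65463 q2853, e3 q3464 L109022 q2938, e3 q3465 L65486 q2854, e3 q3466 (flp_h L122447) q4155, e3 q3467 L123174 q4244, e3 q3468 L123193 q4246, e3 q3469 (flp_h L65522) q2824, e3 q3470 L102585 q3022, e3 q3471 (flp_h L65541) q2825, e3 q3472 (flp_h L123208) q4247, e3 q3473 L65577 q3473, e3 q3474 L65594 q3474, e3 q3475 L65601 q3475, e3 q3476 L83246 q3193, e3 q3477 (flp_h L120734) q3268, e3 q3478 L123312 q4258, e3 q3479 (flp_h L65642) q2832, e3 q3480 L65655 q2836, e3 q3481 L65664 q3323, e3 q3482 (flp_h L123330) q4259, e3 q3483 (flp_h L123347) q4261, e3 q3484 (flp_h L123353) q4262, e3 q3485 L65726 q3485, e3 q3486 L111795 q3202, e3 q3487 (flp_h L122870) q4205, e3 q3488 (flp_h L122892) q4207, e3 q3489 L123427 q4270, e3 q3490 (flp_h L65825) q2842, e3 q3491 L65837 q2846, e3 q3492 L84637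 q3046, e3 q3493 L65851 q2847, e3 q3494 L65856 q2848, e3 q3495 (flp_h L123446) q4271, e3 q3496 (flp_h L123454) q4272, e3 q3497 (flp_h L123467) q4273, e3 q3498 (flp_h L123489) q4275, e3 q3499 (flp_h L123502) q4276, e3 q3500 (flp_h L123104) q4236, e3 q3501 (flp_h L123126) q4238, e3 q3502 (flp_h L123144) q4240, e3 q3503 L123557 q4282, e3 q3504 (flp_h L66142) q2855, e3 q3505 L123590 q4285, e3 q3506 (flp_h L66169) q2856, e3 q3507 L66184 q3096, e3 q3508 L66194 q3508, e3 q3509 L123637 q4289, e3 q3510 (flp_h L66205) q2858, e3 q3511 (flp_h L66214) q2859, e3 q3512 L66235 q3512, e3 q3513 (flp_h L66252) q2862, e3 q3514 L66284 q3514, e3 q3515 L66291 q3097, e3 q3516 L119498 q3217, e3 q3517 L123705 q4295, e3 q3518 (flp_h L66310) q2866, e3 q3519 L66325 q3519, trivial⟩ (by decide +kernel)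

theorem ce_h_55 : ∀ r, r < 64 → sm gh (Qf (3520 + r)) = Qf (tab Gen.h (3520 + r)) :=
  edges_tab (sm gh) Qf (tab Gen.h) 3520 [(3520, 3520), (3521, 3521), (3522, 2870), (3523, 3523), (3524, 3524), (3525, 3525), (3526, 4305), (3527, 4308), (3528, 4309), (3529, 2875), (3530, 3101), (3531, 2906), (3532, 4315), (3533, 4316), (3534, 2877), (3535, 2878), (3536, 3104), (3537, 2912), (3538, 3105), (3539, 4324), (3540, 2882), (3541, 3541), (3542, 2918), (3543, 2919), (3544, 2886), (3545, 2887), (3546, 4329), (3547, 2925), (3548, 2927), (3549, 2960), (3550, 3178), (3551, 3107), (3552, 4338), (3553, 2893), (3554, 3554), (3555, 2935), (3556, 3556), (3557, 4343), (3558, 4344), (3559, 3559), (3560, 4347), (3561, 2901), (3562, 4350), (3563, 4352), (3564, 2902), (3565, 2903), (3566, 3114), (3567, 4311), (3568, 3116), (3569, 3117), (3570, 4364), (3571, 4366), (3572, 2907), (3573, 4369), (3574, 2908), (3575, 4367), (3576, 4318), (3577, 3122), (3578, 4319), (3579, 3123), (3580, 4379), (3581, 3125), (3582,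 4382), (3583, 2914)]
    ⟨e3 q3520 L66333 q3520, e3 q3521 L66343 q3521, e3 q3522 (flp_h L66344) q2870, e3 q3523 L66361 q3523, e3 q3524 L66371 q3524, e3 q3525 L66379 q3525, e3 q3526 L123795 q4305, e3 q3527 L123832 q4308, e3 q3528 L123844 q4309, e3 q3529 (flp_h L66415) q2875, e3 q3530 L66432 q3101, e3 q3531 L66445 q2906, e3 q3532 L123910 q4315, e3 q3533 L123921 q4316, e3 q3534 (flp_h L66468) q2877, e3 q3535 (flp_h L66478) q2878, e3 q3536 L66493 q3104, e3 q3537 L66503 q2912, e3 q3538 L66510 q3105, e3 q3539 L124003 q4324, e3 q3540 (flp_h L66533) q2882, e3 q3541 L66551 q3541, e3 q3542 L66562 q2918, e3 q3543 L66573 q2919, e3 q3544 (flp_h L66586) q2886, e3 q3545 (flp_h L66606) q2887, e3 q3546 (flp_h L124064) q4329, e3 q3547 L66632 q2925, e3 q3548 L66652 q2927, e3 q3549 (flp_h L116595) q2960, e3 q3550 L116568 q3178, e3 q3551 L66674 q3107, e3 q3552 L124145 q4338, e3 q3553 (flp_h L66685) q2893, e3 q3554 L66709 q3554, e3 q3555 L66718 q2935, e3 q3556 L66724 q3556, e3 q3557 L124182 q4343, e3 q3558 L124191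 q4344, e3 q3559 L66778 q3559, e3 q3560 L124217 q4347, e3 q3561 (flp_h L66789) q2901, e3 q3562 L124245 q4350, e3 q3563 L124262 q4352, e3 q3564 (flp_h L66814) q2902, e3 q3565 (flp_h L66822) q2903, e3 q3566 L66839 q3114, e3 q3567 (flp_h L123879) q4311, e3 q3568 L66854 q3116, e3 q3569 L66864 q3117, e3 q3570 L124368 q4364, e3 q3571 L124388 q4366, e3 q3572 (flp_h L66884) q2907, e3 q3573 L124410 q4369, e3 q3574 (flp_h L66898) q2908, e3 q3575 (flp_h L124401) q4367, e3 q3576 (flp_h L123947) q4318, e3 q3577 L66928 q3122, e3 q3578 (flp_h L123960) q4319, e3 q3579 L66944 q3123, e3 q3580 L124490 q4379, e3 q3581 L66960 q3125, e3 q3582 L124518 q4382, e3 q3583 (flp_h L66970) q2914, trivial⟩ (by decide +kernel)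

theorem ce_h_56 : ∀ r, r < 64 → sm gh (Qf (3584 + r)) = Qf (tab Gen.h (3584 + r)) :=
  edges_tab (sm gh) Qf (tab Gen.h) 3584 [(3584, 2915), (3585, 3585), (3586, 4326), (3587, 3587), (3588, 4388), (3589, 4389), (3590, 2920), (3591, 2924), (3592, 4330), (3593, 2922), (3594, 4390), (3595, 4332), (3596, 4392), (3597, 4393), (3598, 4405), (3599, 3132), (3600, 3180), (3601, 3133), (3602, 4410), (3603, 2929), (3604, 3136), (3605, 4412), (3606, 2931), (3607, 4241), (3608, 3608), (3609, 4415), (3610, 3610), (3611, 4418), (3612, 2937), (3613, 2939), (3614, 3614), (3615, 4420), (3616, 2941), (3617, 4423), (3618, 4424), (3619, 2943), (3620, 2944), (3621, 3140), (3622, 2980), (3623, 3141), (3624, 3142), (3625, 4436), (3626, 4320), (3627, 2948), (3628, 2949), (3629, 4437), (3630, 2989), (3631, 3103), (3632, 2991), (3633, 3145), (3634, 4447), (3635, 3146), (3636, 4450), (3637, 2955), (3638, 2997), (3639, 2986), (3640, 4206), (3641, 2963), (3642, 3003), (3643, 4334), (3644, 3005), (3645, 4453), (3646,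 4331), (3647, 4460)]
    ⟨e3 q3584 (flp_h L66978) q2915, e3 q3585 L66992 q3585, e3 q3586 (flp_h L124035) q4326, e3 q3587 L67006 q3587, e3 q3588 L124565 q4388, e3 q3589 L124571 q4389, e3 q3590 (flp_h L67021) q2920, e3 q3591 L67034 q2924, e3 q3592 (flp_h L124077) q4330, e3 q3593 (flp_h L67043) q2922, e3 q3594 (flp_h L124588) q4390, e3 q3595 (flp_h L124099) q4332, e3 q3596 (flp_h L124603) q4392, e3 q3597 (flp_h L124612) q4393, e3 q3598 L124696 q4405, e3 q3599 L67091 q3132, e3 q3600 L117807 q3180, e3 q3601 L67108 q3133, e3 q3602 L124737 q4410, e3 q3603 (flp_h L67119) q2929, e3 q3604 L67133 q3136, e3 q3605 L124756 q4412, e3 q3606 (flp_h L67143) q2931, e3 q3607 (flp_h L123157) q4241, e3 q3608 L67172 q3608, e3 q3609 L124781 q4415, e3 q3610 L67185 q3610, e3 q3611 L124806 q4418, e3 q3612 (flp_h L67193) q2937, e3 q3613 (flp_h L67234) q2939, e3 q3614 L67245 q3614, e3 q3615 L124823 q4420, e3 q3616 (flp_h L67253) q2941, e3 q3617 L124855 q4423, e3 q3618 L124863 q4424, e3 q3619 (flp_h L67279) q2943, e3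 q3620 (flp_h L67289) q2944, e3 q3621 L67304 q3140, e3 q3622 L67314 q2980, e3 q3623 L67319 q3141, e3 q3624 L67329 q3142, e3 q3625 L124969 q4436, e3 q3626 (flp_h L123970) q4320, e3 q3627 (flp_h L67352) q2948, e3 q3628 (flp_h L67373) q2949, e3 q3629 (flp_h L124984) q4437, e3 q3630 L67399 q2989, e3 q3631 L119620 q3103, e3 q3632 L67420 q2991, e3 q3633 L67427 q3145, e3 q3634 L125066 q4447, e3 q3635 L67445 q3146, e3 q3636 L125098 q4450, e3 q3637 (flp_h L67457) q2955, e3 q3638 L67499 q2997, e3 q3639 L94206 q2986, e3 q3640 (flp_h L122885) q4206, e3 q3641 L67543 q2963, e3 q3642 L67553 q3003, e3 q3643 (flp_h L124113) q4334, e3 q3644 L67576 q3005, e3 q3645 (flp_h L125130) q4453, e3 q3646 (flp_h L124087) q4331, e3 q3647 L125171 q4460, trivial⟩ (by decide +kernel)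

theorem ce_h_57 : ∀ r, r < 64 → sm gh (Qf (3648 + r)) = Qf (tab Gen.h (3648 + r)) :=
  edges_tab (sm gh) Qf (tab Gen.h) 3648 [(3648, 3130), (3649, 3150), (3650, 4391), (3651, 2968), (3652, 3151), (3653, 4463), (3654, 2970), (3655, 4237), (3656, 4466), (3657, 4468), (3658, 2975), (3659, 4451), (3660, 2976), (3661, 4469), (3662, 4426), (3663, 3158), (3664, 4428), (3665, 3159), (3666, 3160), (3667, 4483), (3668, 3162), (3669, 4487), (3670, 3164), (3671, 4490), (3672, 2983), (3673, 4492), (3674, 2984), (3675, 2988), (3676, 4438), (3677, 4493), (3678, 4440), (3679, 4495), (3680, 4496), (3681, 4505), (3682, 3171), (3683, 4508), (3684, 3172), (3685, 4511), (3686, 2993), (3687, 3175), (3688, 4513), (3689, 2995), (3690, 3043), (3691, 4192), (3692, 4517), (3693, 3000), (3694, 3004), (3695, 4336), (3696, 3006), (3697, 3007), (3698, 4526), (3699, 4519), (3700, 4529), (3701, 4521), (3702, 4522), (3703, 4535), (3704, 4524), (3705, 4538), (3706, 3008), (3707, 3182), (3708, 4541), (3709, 3010), (3710,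 3183), (3711, 4543)]
    ⟨e3 q3648 L116418 q3130, e3 q3649 L67612 q3150, e3 q3650 (flp_h L124599) q4391, e3 q3651 (flp_h L67621) q2968, e3 q3652 L67635 q3151, e3 q3653 L125192 q4463, e3 q3654 (flp_h L67645) q2970, e3 q3655 (flp_h L123117) q4237, e3 q3656 L125216 q4466, e3 q3657 L125230 q4468, e3 q3658 (flp_h L67815) q2975, e3 q3659 (flp_h L125113) q4451, e3 q3660 (flp_h L67826) q2976, e3 q3661 (flp_h L125242) q4469, e3 q3662 (flp_h L124889) q4426, e3 q3663 L67851 q3158, e3 q3664 (flp_h L124911) q4428, e3 q3665 L67864 q3159, e3 q3666 L67872 q3160, e3 q3667 L125334 q4483, e3 q3668 L67889 q3162, e3 q3669 L125364 q4487, e3 q3670 L67902 q3164, e3 q3671 L125386 q4490, e3 q3672 (flp_h L67911) q2983, e3 q3673 L125406 q4492, e3 q3674 (flp_h L67926) q2984, e3 q3675 L67940 q2988, e3 q3676 (flp_h L124996) q4438, e3 q3677 (flp_h L125422) q4493, e3 q3678 (flp_h L125014) q4440, e3 q3679 (flp_h L125440) q4495, e3 q3680 (flp_h L125448) q4496, e3 q3681 L125518 q4505, e3 q3682 L68001 q3171, e3 q3683 L125541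 q4508, e3 q3684 L68020 q3172, e3 q3685 L125574 q4511, e3 q3686 (flp_h L68032) q2993, e3 q3687 L68048 q3175, e3 q3688 L125593 q4513, e3 q3689 (flp_h L68059) q2995, e3 q3690 L68109 q3043, e3 q3691 (flp_h L122754) q4192, e3 q3692 L125632 q4517, e3 q3693 (flp_h L68134) q3000, e3 q3694 L68144 q3004, e3 q3695 (flp_h L124135) q4336, e3 q3696 L68156 q3006, e3 q3697 L68162 q3007, e3 q3698 L125705 q4526, e3 q3699 (flp_h L125656) q4519, e3 q3700 L125725 q4529, e3 q3701 (flp_h L125674) q4521, e3 q3702 (flp_h L125682) q4522, e3 q3703 L125769 q4535, e3 q3704 (flp_h L125697) q4524, e3 q3705 L125785 q4538, e3 q3706 (flp_h L68225) q3008, e3 q3707 L68231 q3182, e3 q3708 L125805 q4541, e3 q3709 (flp_h L68242) q3010, e3 q3710 L68257 q3183, e3 q3711 L125825 q4543, trivial⟩ (by decide +kernel)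

theorem ce_h_58 : ∀ r, r < 64 → sm gh (Qf (3712 + r)) = Qf (tab Gen.h (3712 + r)) :=
  edges_tab (sm gh) Qf (tab Gen.h) 3712 [(3712, 3012), (3713, 4545), (3714, 3015), (3715, 4235), (3716, 3048), (3717, 4142), (3718, 4133), (3719, 4550), (3720, 4551), (3721, 3021), (3722, 4552), (3723, 3194), (3724, 3195), (3725, 3725), (3726, 3027), (3727, 3029), (3728, 3041), (3729, 4558), (3730, 3044), (3731, 3034), (3732, 4274), (3733, 4561), (3734, 3035), (3735, 3036), (3736, 3038), (3737, 4553), (3738, 4565), (3739, 4557), (3740, 3042), (3741, 4260), (3742, 4568), (3743, 4515), (3744, 3047), (3745, 4212), (3746, 4571), (3747, 3747), (3748, 3748), (3749, 4578), (3750, 3218), (3751, 3219), (3752, 4583), (3753, 3221), (3754, 4587), (3755, 3223), (3756, 4590), (3757, 3055), (3758, 4592), (3759, 3227), (3760, 4596), (3761, 3057), (3762, 3230), (3763, 4599), (3764, 3059), (3765, 3765), (3766, 3766), (3767, 4606), (3768, 3768), (3769, 4609), (3770, 3063), (3771, 3233), (3772, 4612), (3773, 3065), (3774,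 3236), (3775, 4614)]
    ⟨e3 q3712 (flp_h L68267) q3012, e3 q3713 L125839 q4545, e3 q3714 (flp_h L68282) q3015, e3 q3715 (flp_h L123095) q4235, e3 q3716 L68352 q3048, e3 q3717 (flp_h L122341) q4142, e3 q3718 (flp_h L122258) q4133, e3 q3719 L125882 q4550, e3 q3720 L125891 q4551, e3 q3721 (flp_h L68469) q3021, e3 q3722 (flp_h L125907) q4552, e3 q3723 L68551 q3194, e3 q3724 L68561 q3195, e3 q3725 L68594 q3725, e3 q3726 (flp_h L68626) q3027, e3 q3727 L68640 q3029, e3 q3728 L68650 q3041, e3 q3729 (flp_h L125960) q4558, e3 q3730 L68864 q3044, e3 q3731 L68875 q3034, e3 q3732 (flp_h L123481) q4274, e3 q3733 L125983 q4561, e3 q3734 (flp_h L69189) q3035, e3 q3735 (flp_h L69203) q3036, e3 q3736 L69218 q3038, e3 q3737 (flp_h L125918) q4553, e3 q3738 (flp_h L126019) q4565, e3 q3739 (flp_h L125954) q4557, e3 q3740 L69301 q3042, e3 q3741 (flp_h L123339) q4260, e3 q3742 (flp_h L126045) q4568, e3 q3743 (flp_h L125618) q4515, e3 q3744 L69466 q3047, e3 q3745 (flp_h L122936) q4212, e3 q3746 (flp_h L126071)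 q4571, e3 q3747 L69733 q3747, e3 q3748 L69739 q3748, e3 q3749 L126127 q4578, e3 q3750 L69756 q3218, e3 q3751 L69765 q3219, e3 q3752 L126177 q4583, e3 q3753 L69782 q3221, e3 q3754 L126207 q4587, e3 q3755 L69796 q3223, e3 q3756 L126234 q4590, e3 q3757 (flp_h L69807) q3055, e3 q3758 L126249 q4592, e3 q3759 L69827 q3227, e3 q3760 L126278 q4596, e3 q3761 (flp_h L69837) q3057, e3 q3762 L69851 q3230, e3 q3763 L126304 q4599, e3 q3764 (flp_h L69862) q3059, e3 q3765 L69922 q3765, e3 q3766 L69929 q3766, e3 q3767 L126367 q4606, e3 q3768 L69945 q3768, e3 q3769 L126396 q4609, e3 q3770 (flp_h L69955) q3063, e3 q3771 L69966 q3233, e3 q3772 L126425 q4612, e3 q3773 (flp_h L69977) q3065, e3 q3774 L69993 q3236, e3 q3775 L126443 q4614, trivial⟩ (by decide +kernel)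

theorem ce_h_59 : ∀ r, r < 64 → sm gh (Qf (3776 + r)) = Qf (tab Gen.h (3776 + r)) :=
  edges_tab (sm gh) Qf (tab Gen.h) 3776 [(3776, 3067), (3777, 4616), (3778, 3070), (3779, 3779), (3780, 3092), (3781, 4177), (3782, 3782), (3783, 3783), (3784, 4624), (3785, 3785), (3786, 4627), (3787, 3076), (3788, 3788), (3789, 4629), (3790, 3078), (3791, 3242), (3792, 4632), (3793, 3081), (3794, 4634), (3795, 3084), (3796, 4630), (3797, 3086), (3798, 3798), (3799, 3799), (3800, 4125), (3801, 4283), (3802, 4287), (3803, 4427), (3804, 4310), (3805, 4312), (3806, 4313), (3807, 4645), (3808, 4322), (3809, 4646), (3810, 3106), (3811, 3108), (3812, 4649), (3813, 4650), (3814, 3110), (3815, 4651), (3816, 4355), (3817, 4357), (3818, 4358), (3819, 4661), (3820, 4360), (3821, 4665), (3822, 4362), (3823, 4668), (3824, 3118), (3825, 3119), (3826, 3121), (3827, 4444), (3828, 4669), (3829, 4375), (3830, 4377), (3831, 4674), (3832, 3124), (3833, 4380), (3834, 4676), (3835, 3126), (3836, 3131), (3837, 4678), (3838,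 4406), (3839, 4408)]
    ⟨e3 q3776 (flp_h L70003) q3067, e3 q3777 L126460 q4616, e3 q3778 (flp_h L70019) q3070, e3 q3779 L70035 q3779, e3 q3780 L70088 q3092, e3 q3781 (flp_h L122629) q4177, e3 q3782 L70179 q3782, e3 q3783 L70185 q3783, e3 q3784 L126532 q4624, e3 q3785 L70198 q3785, e3 q3786 L126556 q4627, e3 q3787 (flp_h L70206) q3076, e3 q3788 L70218 q3788, e3 q3789 L126575 q4629, e3 q3790 (flp_h L70227) q3078, e3 q3791 L70237 q3242, e3 q3792 L126601 q4632, e3 q3793 (flp_h L70247) q3081, e3 q3794 L126619 q4634, e3 q3795 (flp_h L70263) q3084, e3 q3796 (flp_h L126589) q4630, e3 q3797 (flp_h L70278) q3086, e3 q3798 L70293 q3798, e3 q3799 L70298 q3799, e3 q3800 (flp_h L122195) q4125, e3 q3801 (flp_h L123578) q4283, e3 q3802 (flp_h L123621) q4287, e3 q3803 (flp_h L124900) q4427, e3 q3804 (flp_h L123867) q4310, e3 q3805 (flp_h L123886) q4312, e3 q3806 (flp_h L123897) q4313, e3 q3807 L126721 q4645, e3 q3808 (flp_h L123992) q4322, e3 q3809 L126732 q4646, e3 q3810 (flp_h L71674) q3106, e3 q3811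 (flp_h L71849) q3108, e3 q3812 L126761 q4649, e3 q3813 L126769 q4650, e3 q3814 (flp_h L71990) q3110, e3 q3815 (flp_h L126790) q4651, e3 q3816 (flp_h L124295) q4355, e3 q3817 (flp_h L124312) q4357, e3 q3818 (flp_h L124321) q4358, e3 q3819 L126885 q4661, e3 q3820 (flp_h L124341) q4360, e3 q3821 L126922 q4665, e3 q3822 (flp_h L124357) q4362, e3 q3823 L126947 q4668, e3 q3824 (flp_h L72111) q3118, e3 q3825 (flp_h L72126) q3119, e3 q3826 L72138 q3121, e3 q3827 (flp_h L125048) q4444, e3 q3828 (flp_h L126964) q4669, e3 q3829 (flp_h L124460) q4375, e3 q3830 (flp_h L124479) q4377, e3 q3831 L127005 q4674, e3 q3832 (flp_h L72223) q3124, e3 q3833 (flp_h L124508) q4380, e3 q3834 L127023 q4676, e3 q3835 (flp_h L72245) q3126, e3 q3836 L72353 q3131, e3 q3837 (flp_h L127042) q4678, e3 q3838 (flp_h L124705) q4406, e3 q3839 (flp_h L124726) q4408, trivial⟩ (by decide +kernel)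

theorem ce_h_60 : ∀ r, r < 64 → sm gh (Qf (3840 + r)) = Qf (tab Gen.h (3840 + r)) :=
  edges_tab (sm gh) Qf (tab Gen.h) 3840 [(3840, 4682), (3841, 3134), (3842, 4683), (3843, 3137), (3844, 3844), (3845, 4686), (3846, 3139), (3847, 4429), (3848, 4430), (3849, 4432), (3850, 4693), (3851, 4434), (3852, 4696), (3853, 3143), (3854, 3169), (3855, 4445), (3856, 4448), (3857, 4698), (3858, 3147), (3859, 4700), (3860, 3152), (3861, 3861), (3862, 4703), (3863, 3154), (3864, 3155), (3865, 3157), (3866, 4687), (3867, 4707), (3868, 4708), (3869, 4476), (3870, 4477), (3871, 4479), (3872, 4717), (3873, 4481), (3874, 4720), (3875, 3161), (3876, 4722), (3877, 4485), (3878, 4726), (3879, 3163), (3880, 4488), (3881, 4729), (3882, 3165), (3883, 4321), (3884, 3170), (3885, 4376), (3886, 4731), (3887, 4506), (3888, 4509), (3889, 4736), (3890, 3173), (3891, 4738), (3892, 3176), (3893, 3893), (3894, 3181), (3895, 4407), (3896, 4741), (3897, 4539), (3898, 4743), (3899, 3184), (3900, 4398), (3901, 3186), (3902,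 3902), (3903, 3903)]
    ⟨e3 q3840 L127083 q4682, e3 q3841 (flp_h L72475) q3134, e3 q3842 L127092 q4683, e3 q3843 (flp_h L72491) q3137, e3 q3844 L72503 q3844, e3 q3845 L127112 q4686, e3 q3846 (flp_h L72585) q3139, e3 q3847 (flp_h L124917) q4429, e3 q3848 (flp_h L124926) q4430, e3 q3849 (flp_h L124942) q4432, e3 q3850 L127156 q4693, e3 q3851 (flp_h L124958) q4434, e3 q3852 L127175 q4696, e3 q3853 (flp_h L72684) q3143, e3 q3854 L72724 q3169, e3 q3855 (flp_h L125055) q4445, e3 q3856 (flp_h L125086) q4448, e3 q3857 L127191 q4698, e3 q3858 (flp_h L72829) q3147, e3 q3859 L127206 q4700, e3 q3860 (flp_h L73048) q3152, e3 q3861 L73058 q3861, e3 q3862 L127224 q4703, e3 q3863 (flp_h L73184) q3154, e3 q3864 (flp_h L73198) q3155, e3 q3865 L73209 q3157, e3 q3866 (flp_h L127124) q4687, e3 q3867 (flp_h L127254) q4707, e3 q3868 (flp_h L127261) q4708, e3 q3869 (flp_h L125283) q4476, e3 q3870 (flp_h L125293) q4477, e3 q3871 (flp_h L125310) q4479, e3 q3872 L127316 q4717, e3 q3873 (flp_h L125324) q4481, e3 q3874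 L127338 q4720, e3 q3875 (flp_h L73308) q3161, e3 q3876 L127351 q4722, e3 q3877 (flp_h L125353) q4485, e3 q3878 L127382 q4726, e3 q3879 (flp_h L73336) q3163, e3 q3880 (flp_h L125377) q4488, e3 q3881 L127405 q4729, e3 q3882 (flp_h L73356) q3165, e3 q3883 (flp_h L123984) q4321, e3 q3884 L73402 q3170, e3 q3885 (flp_h L124472) q4376, e3 q3886 (flp_h L127422) q4731, e3 q3887 (flp_h L125528) q4506, e3 q3888 (flp_h L125562) q4509, e3 q3889 L127459 q4736, e3 q3890 (flp_h L73515) q3173, e3 q3891 L127473 q4738, e3 q3892 (flp_h L73533) q3176, e3 q3893 L73546 q3893, e3 q3894 L73586 q3181, e3 q3895 (flp_h L124717) q4407, e3 q3896 (flp_h L127501) q4741, e3 q3897 (flp_h L125794) q4539, e3 q3898 L127509 q4743, e3 q3899 (flp_h L73681) q3184, e3 q3900 (flp_h L124651) q4398, e3 q3901 (flp_h L73691) q3186, e3 q3902 L73702 q3902, e3 q3903 L73706 q3903, trivial⟩ (by decide +kernel)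

theorem ce_h_61 : ∀ r, r < 64 → sm gh (Qf (3904 + r)) = Qf (tab Gen.h (3904 + r)) :=
  edges_tab (sm gh) Qf (tab Gen.h) 3904 [(3904, 4746), (3905, 3189), (3906, 3190), (3907, 3192), (3908, 3212), (3909, 4750), (3910, 4751), (3911, 4255), (3912, 4256), (3913, 4556), (3914, 3272), (3915, 3915), (3916, 3271), (3917, 3215), (3918, 3201), (3919, 3919), (3920, 4754), (3921, 3207), (3922, 3922), (3923, 4758), (3924, 3208), (3925, 3925), (3926, 4748), (3927, 4763), (3928, 3210), (3929, 4749), (3930, 3213), (3931, 4288), (3932, 4294), (3933, 4579), (3934, 4769), (3935, 4581), (3936, 4772), (3937, 3220), (3938, 4774), (3939, 4585), (3940, 4778), (3941, 3222), (3942, 4588), (3943, 4781), (3944, 3224), (3945, 4785), (3946, 3226), (3947, 4788), (3948, 4594), (3949, 4790), (3950, 3228), (3951, 3951), (3952, 4793), (3953, 3231), (3954, 3260), (3955, 4610), (3956, 4797), (3957, 3234), (3958, 4799), (3959, 3237), (3960, 3960), (3961, 3239), (3962, 3262), (3963, 3263), (3964, 4803), (3965, 3243), (3966,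 3966), (3967, 3245)]
    ⟨e3 q3904 L127525 q4746, e3 q3905 (flp_h L73717) q3189, e3 q3906 (flp_h L73733) q3190, e3 q3907 L73746 q3192, e3 q3908 L73754 q3212, e3 q3909 (flp_h L127560) q4750, e3 q3910 (flp_h L127569) q4751, e3 q3911 L123287 q4255, e3 q3912 L123299 q4256, e3 q3913 (flp_h L125942) q4556, e3 q3914 L120765 q3272, e3 q3915 L73832 q3915, e3 q3916 L120763 q3271, e3 q3917 L73879 q3215, e3 q3918 L73892 q3201, e3 q3919 L73901 q3919, e3 q3920 (flp_h L127596) q4754, e3 q3921 L74063 q3207, e3 q3922 L74071 q3922, e3 q3923 L127623 q4758, e3 q3924 (flp_h L74200) q3208, e3 q3925 L74212 q3925, e3 q3926 (flp_h L127543) q4748, e3 q3927 L127657 q4763, e3 q3928 (flp_h L74227) q3210, e3 q3929 (flp_h L127552) q4749, e3 q3930 (flp_h L74244) q3213, e3 q3931 (flp_h L123635) q4288, e3 q3932 (flp_h L123703) q4294, e3 q3933 (flp_h L126144) q4579, e3 q3934 L127703 q4769, e3 q3935 (flp_h L126163) q4581, e3 q3936 L127729 q4772, e3 q3937 (flp_h L74305) q3220, e3 q3938 L127744 q4774, e3 q3939 (flp_h L126196)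 q4585, e3 q3940 L127772 q4778, e3 q3941 (flp_h L74333) q3222, e3 q3942 (flp_h L126223) q4588, e3 q3943 L127796 q4781, e3 q3944 (flp_h L74358) q3224, e3 q3945 L127826 q4785, e3 q3946 (flp_h L74372) q3226, e3 q3947 L127861 q4788, e3 q3948 (flp_h L126268) q4594, e3 q3949 L127878 q4790, e3 q3950 (flp_h L74401) q3228, e3 q3951 L74414 q3951, e3 q3952 L127905 q4793, e3 q3953 (flp_h L74425) q3231, e3 q3954 L74439 q3260, e3 q3955 (flp_h L126412) q4610, e3 q3956 L127949 q4797, e3 q3957 (flp_h L74457) q3234, e3 q3958 L127964 q4799, e3 q3959 (flp_h L74474) q3237, e3 q3960 L74487 q3960, e3 q3961 (flp_h L74488) q3239, e3 q3962 L74501 q3262, e3 q3963 L74509 q3263, e3 q3964 L127997 q4803, e3 q3965 (flp_h L74520) q3243, e3 q3966 L74532 q3966, e3 q3967 (flp_h L74533) q3245, trivial⟩ (by decide +kernel)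

theorem ce_h_62 : ∀ r, r < 64 → sm gh (Qf (3968 + r)) = Qf (tab Gen.h (3968 + r)) :=
  edges_tab (sm gh) Qf (tab Gen.h) 3968 [(3968, 3968), (3969, 3969), (3970, 3971), (3971, 3970), (3972, 3251), (3973, 4809), (3974, 4810), (3975, 3253), (3976, 4811), (3977, 3255), (3978, 3986), (3979, 3979), (3980, 3258), (3981, 4794), (3982, 4795), (3983, 4802), (3984, 3984), (3985, 3985), (3986, 3978), (3987, 4814), (3988, 3273), (3989, 3989), (3990, 4114), (3991, 3991), (3992, 3992), (3993, 4824), (3994, 3277), (3995, 4825), (3996, 4123), (3997, 3997), (3998, 4832), (3999, 3999), (4000, 4835), (4001, 3282), (4002, 4002), (4003, 4838), (4004, 3286), (4005, 4139), (4006, 4839), (4007, 4840), (4008, 4846), (4009, 4009), (4010, 4849), (4011, 3289), (4012, 4012), (4013, 4851), (4014, 3291), (4015, 4853), (4016, 3294), (4017, 4854), (4018, 3296), (4019, 4855), (4020, 4175), (4021, 4021), (4022, 4022), (4023, 4864), (4024, 4024), (4025, 4868), (4026, 4026), (4027, 4871), (4028, 3302), (4029, 3304), (4030,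 4189), (4031, 4872)]
    ⟨e3 q3968 L74545 q3968, e3 q3969 L74549 q3969, e3 q3970 L127843 q3971, e3 q3971 (flp_h L127843) q3970, e3 q3972 (flp_h L74590) q3251, e3 q3973 L128045 q4809, e3 q3974 L128053 q4810, e3 q3975 (flp_h L74612) q3253, e3 q3976 L128061 q4811, e3 q3977 (flp_h L74628) q3255, e3 q3978 (flp_h L121099) q3986, e3 q3979 L74650 q3979, e3 q3980 (flp_h L74652) q3258, e3 q3981 (flp_h L127920) q4794, e3 q3982 (flp_h L127933) q4795, e3 q3983 (flp_h L127991) q4802, e3 q3984 L121079 q3984, e3 q3985 L121089 q3985, e3 q3986 L121099 q3978, e3 q3987 L128094 q4814, e3 q3988 (flp_h L121110) q3273, e3 q3989 L121128 q3989, e3 q3990 (flp_h L122094) q4114, e3 q3991 L121144 q3991, e3 q3992 L121155 q3992, e3 q3993 L128179 q4824, e3 q3994 (flp_h L121165) q3277, e3 q3995 (flp_h L128191) q4825, e3 q3996 (flp_h L122176) q4123, e3 q3997 L121188 q3997, e3 q3998 L128232 q4832, e3 q3999 L121203 q3999, e3 q4000 L128254 q4835, e3 q4001 (flp_h L121212) q3282, e3 q4002 L121224 q4002, e3 q4003 L128276 q4838,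 e3 q4004 L121238 q3286, e3 q4005 (flp_h L122312) q4139, e3 q4006 (flp_h L128286) q4839, e3 q4007 (flp_h L128293) q4840, e3 q4008 L128327 q4846, e3 q4009 L121267 q4009, e3 q4010 L128348 q4849, e3 q4011 (flp_h L121277) q3289, e3 q4012 L121290 q4012, e3 q4013 L128364 q4851, e3 q4014 (flp_h L121299) q3291, e3 q4015 L128378 q4853, e3 q4016 (flp_h L121313) q3294, e3 q4017 L128384 q4854, e3 q4018 (flp_h L121326) q3296, e3 q4019 (flp_h L128395) q4855, e3 q4020 (flp_h L122612) q4175, e3 q4021 L121347 q4021, e3 q4022 L121356 q4022, e3 q4023 L128448 q4864, e3 q4024 L121372 q4024, e3 q4025 L128478 q4868, e3 q4026 L121386 q4026, e3 q4027 L128498 q4871, e3 q4028 (flp_h L121394) q3302, e3 q4029 L121404 q3304, e3 q4030 (flp_h L122725) q4189, e3 q4031 (flp_h L128510) q4872, trivial⟩ (by decide +kernel)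

theorem ce_h_63 : ∀ r, r < 64 → sm gh (Qf (4032 + r)) = Qf (tab Gen.h (4032 + r)) :=
  edges_tab (sm gh) Qf (tab Gen.h) 4032 [(4032, 4876), (4033, 4033), (4034, 4879), (4035, 3307), (4036, 4036), (4037, 4881), (4038, 3309), (4039, 3313), (4040, 4885), (4041, 4883), (4042, 4888), (4043, 3314), (4044, 4044), (4045, 4890), (4046, 3316), (4047, 4892), (4048, 3319), (4049, 4464), (4050, 3321), (4051, 4248), (4052, 4052), (4053, 4900), (4054, 4054), (4055, 4903), (4056, 3326), (4057, 4905), (4058, 4058), (4059, 4909), (4060, 3328), (4061, 4061), (4062, 4912), (4063, 3330), (4064, 4064), (4065, 4915), (4066, 3333), (4067, 4917), (4068, 3336), (4069, 4069), (4070, 4920), (4071, 3339), (4072, 4633), (4073, 3341), (4074, 4074), (4075, 4075), (4076, 4927), (4077, 3344), (4078, 4078), (4079, 4079), (4080, 3346), (4081, 3347), (4082, 4082), (4083, 4083), (4084, 4084), (4085, 4940), (4086, 3351), (4087, 4087), (4088, 4088), (4089, 4089), (4090, 4090), (4091, 4091), (4092, 4092), (4093, 4093), (4094,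 4948), (4095, 4095)]
    ⟨e3 q4032 L128533 q4876, e3 q4033 L121431 q4033, e3 q4034 L128556 q4879, e3 q4035 (flp_h L121442) q3307, e3 q4036 L121457 q4036, e3 q4037 L128574 q4881, e3 q4038 (flp_h L121467) q3309, e3 q4039 L121479 q3313, e3 q4040 L128599 q4885, e3 q4041 (flp_h L128592) q4883, e3 q4042 L128613 q4888, e3 q4043 (flp_h L121496) q3314, e3 q4044 L121504 q4044, e3 q4045 L128625 q4890, e3 q4046 (flp_h L121513) q3316, e3 q4047 L128637 q4892, e3 q4048 (flp_h L121527) q3319, e3 q4049 (flp_h L125206) q4464, e3 q4050 (flp_h L121538) q3321, e3 q4051 (flp_h L123218) q4248, e3 q4052 L121555 q4052, e3 q4053 L128687 q4900, e3 q4054 L121570 q4054, e3 q4055 L128712 q4903, e3 q4056 (flp_h L121580) q3326, e3 q4057 L128726 q4905, e3 q4058 L121601 q4058, e3 q4059 L128757 q4909, e3 q4060 (flp_h L121610) q3328, e3 q4061 L121623 q4061, e3 q4062 L128783 q4912, e3 q4063 (flp_h L121633) q3330, e3 q4064 L121648 q4064, e3 q4065 L128808 q4915, e3 q4066 (flp_h L121657) q3333, e3 q4067 L128823 q4917, e3 q4068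 (flp_h L121672) q3336, e3 q4069 L121686 q4069, e3 q4070 L128847 q4920, e3 q4071 (flp_h L121694) q3339, e3 q4072 (flp_h L126617) q4633, e3 q4073 (flp_h L121707) q3341, e3 q4074 L121720 q4074, e3 q4075 L121725 q4075, e3 q4076 L128892 q4927, e3 q4077 (flp_h L121738) q3344, e3 q4078 L121751 q4078, e3 q4079 L121759 q4079, e3 q4080 (flp_h L121760) q3346, e3 q4081 (flp_h L121773) q3347, e3 q4082 L121792 q4082, e3 q4083 L121801 q4083, e3 q4084 L121809 q4084, e3 q4085 L129020 q4940, e3 q4086 (flp_h L121820) q3351, e3 q4087 L121839 q4087, e3 q4088 L121847 q4088, e3 q4089 L121857 q4089, e3 q4090 L121870 q4090, e3 q4091 L121881 q4091, e3 q4092 L121892 q4092, e3 q4093 L121900 q4093, e3 q4094 L129111 q4948, e3 q4095 L121918 q4095, trivial⟩ (by decide +kernel)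

theorem ce_h_64 : ∀ r, r < 64 → sm gh (Qf (4096 + r)) = Qf (tab Gen.h (4096 + r)) :=
  edges_tab (sm gh) Qf (tab Gen.h) 4096 [(4096, 4951), (4097, 3360), (4098, 4098), (4099, 4099), (4100, 4100), (4101, 4955), (4102, 4102), (4103, 4103), (4104, 4104), (4105, 4961), (4106, 4106), (4107, 4964), (4108, 3369), (4109, 4967), (4110, 4969), (4111, 3370), (4112, 3371), (4113, 4113), (4114, 3990), (4115, 4115), (4116, 4116), (4117, 4981), (4118, 4983), (4119, 3375), (4120, 4986), (4121, 3376), (4122, 4984), (4123, 3996), (4124, 4124), (4125, 3800), (4126, 4126), (4127, 4996), (4128, 4128), (4129, 4999), (4130, 3382), (4131, 3383), (4132, 4132), (4133, 3718), (4134, 4134), (4135, 5006), (4136, 5007), (4137, 3388), (4138, 3392), (4139, 4005), (4140, 3390), (4141, 5008), (4142, 3717), (4143, 5010), (4144, 5011), (4145, 5023), (4146, 4146), (4147, 5025), (4148, 4148), (4149, 5028), (4150, 3397), (4151, 4151), (4152, 5030), (4153, 3399), (4154, 4154), (4155, 3466), (4156, 4156), (4157, 5037), (4158,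 4158), (4159, 5040)]
    ⟨e3 q4096 L129138 q4951, e3 q4097 (flp_h L121928) q3360, e3 q4098 L121948 q4098, e3 q4099 L121961 q4099, e3 q4100 L121969 q4100, e3 q4101 L129184 q4955, e3 q4102 L121988 q4102, e3 q4103 L121998 q4103, e3 q4104 L122005 q4104, e3 q4105 L129247 q4961, e3 q4106 L122021 q4106, e3 q4107 L129270 q4964, e3 q4108 (flp_h L122030) q3369, e3 q4109 L129299 q4967, e3 q4110 L129319 q4969, e3 q4111 (flp_h L122058) q3370, e3 q4112 (flp_h L122068) q3371, e3 q4113 L122085 q4113, e3 q4114 L122094 q3990, e3 q4115 L122101 q4115, e3 q4116 L122109 q4116, e3 q4117 L129429 q4981, e3 q4118 L129452 q4983, e3 q4119 (flp_h L122131) q3375, e3 q4120 L129478 q4986, e3 q4121 (flp_h L122150) q3376, e3 q4122 (flp_h L129466) q4984, e3 q4123 L122176 q3996, e3 q4124 L122185 q4124, e3 q4125 L122195 q3800, e3 q4126 L122201 q4126, e3 q4127 L129562 q4996, e3 q4128 L122216 q4128, e3 q4129 L129587 q4999, e3 q4130 (flp_h L122226) q3382, e3 q4131 (flp_h L122234) q3383, e3 q4132 L122249 q4132, e3 q4133 L122258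 q3718, e3 q4134 L122266 q4134, e3 q4135 L129645 q5006, e3 q4136 L129654 q5007, e3 q4137 (flp_h L122288) q3388, e3 q4138 L122302 q3392, e3 q4139 L122312 q4005, e3 q4140 (flp_h L122314) q3390, e3 q4141 (flp_h L129671) q5008, e3 q4142 L122341 q3717, e3 q4143 (flp_h L129687) q5010, e3 q4144 (flp_h L129694) q5011, e3 q4145 L129794 q5023, e3 q4146 L122371 q4146, e3 q4147 L129814 q5025, e3 q4148 L122387 q4148, e3 q4149 L129843 q5028, e3 q4150 (flp_h L122396) q3397, e3 q4151 L122411 q4151, e3 q4152 L129859 q5030, e3 q4153 (flp_h L122421) q3399, e3 q4154 L122437 q4154, e3 q4155 L122447 q3466, e3 q4156 L122455 q4156, e3 q4157 L129928 q5037, e3 q4158 L122468 q4158, e3 q4159 L129952 q5040, trivial⟩ (by decide +kernel)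

theorem ce_h_65 : ∀ r, r < 64 → sm gh (Qf (4160 + r)) = Qf (tab Gen.h (4160 + r)) :=
  edges_tab (sm gh) Qf (tab Gen.h) 4160 [(4160, 3405), (4161, 4161), (4162, 5042), (4163, 4163), (4164, 5045), (4165, 3409), (4166, 4166), (4167, 5047), (4168, 3411), (4169, 5049), (4170, 5051), (4171, 3413), (4172, 5054), (4173, 3414), (4174, 5052), (4175, 4020), (4176, 4176), (4177, 3781), (4178, 4178), (4179, 4179), (4180, 5067), (4181, 4181), (4182, 5071), (4183, 4183), (4184, 5074), (4185, 3421), (4186, 5076), (4187, 3422), (4188, 3426), (4189, 4030), (4190, 3424), (4191, 5077), (4192, 3691), (4193, 5079), (4194, 5080), (4195, 5092), (4196, 4196), (4197, 5095), (4198, 4198), (4199, 5098), (4200, 3431), (4201, 4201), (4202, 5100), (4203, 3433), (4204, 3439), (4205, 3487), (4206, 3640), (4207, 3488), (4208, 5083), (4209, 5106), (4210, 3440), (4211, 3445), (4212, 3745), (4213, 3447), (4214, 3448), (4215, 5117), (4216, 5107), (4217, 3462), (4218, 5109), (4219, 5110), (4220, 5125), (4221, 5112), (4222,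 5113), (4223, 5131)]
    ⟨e3 q4160 (flp_h L122477) q3405, e3 q4161 L122494 q4161, e3 q4162 L129970 q5042, e3 q4163 L122514 q4163, e3 q4164 L130002 q5045, e3 q4165 (flp_h L122527) q3409, e3 q4166 L122540 q4166, e3 q4167 L130023 q5047, e3 q4168 (flp_h L122549) q3411, e3 q4169 L130039 q5049, e3 q4170 L130058 q5051, e3 q4171 (flp_h L122574) q3413, e3 q4172 L130082 q5054, e3 q4173 (flp_h L122590) q3414, e3 q4174 (flp_h L130071) q5052, e3 q4175 L122612 q4020, e3 q4176 L122621 q4176, e3 q4177 L122629 q3781, e3 q4178 L122635 q4178, e3 q4179 L122641 q4179, e3 q4180 L130174 q5067, e3 q4181 L122656 q4181, e3 q4182 L130203 q5071, e3 q4183 L122669 q4183, e3 q4184 L130226 q5074, e3 q4185 (flp_h L122679) q3421, e3 q4186 L130246 q5076, e3 q4187 (flp_h L122699) q3422, e3 q4188 L122714 q3426, e3 q4189 L122725 q4030, e3 q4190 (flp_h L122727) q3424, e3 q4191 (flp_h L130262) q5077, e3 q4192 L122754 q3691, e3 q4193 (flp_h L130281) q5079, e3 q4194 (flp_h L130289) q5080, e3 q4195 L130388 q5092, e3 q4196 L122785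 q4196, e3 q4197 L130412 q5095, e3 q4198 L122801 q4198, e3 q4199 L130440 q5098, e3 q4200 (flp_h L122811) q3431, e3 q4201 L122828 q4201, e3 q4202 L130458 q5100, e3 q4203 (flp_h L122839) q3433, e3 q4204 L122859 q3439, e3 q4205 L122870 q3487, e3 q4206 L122885 q3640, e3 q4207 L122892 q3488, e3 q4208 (flp_h L130321) q5083, e3 q4209 L130516 q5106, e3 q4210 (flp_h L122915) q3440, e3 q4211 L122927 q3445, e3 q4212 L122936 q3745, e3 q4213 L122942 q3447, e3 q4214 L122948 q3448, e3 q4215 L130626 q5117, e3 q4216 (flp_h L130539) q5107, e3 q4217 L122974 q3462, e3 q4218 (flp_h L130557) q5109, e3 q4219 (flp_h L130571) q5110, e3 q4220 L130710 q5125, e3 q4221 (flp_h L130590) q5112, e3 q4222 (flp_h L130602) q5113, e3 q4223 L130753 q5131, trivial⟩ (by decide +kernel)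

theorem ce_h_66 : ∀ r, r < 64 → sm gh (Qf (4224 + r)) = Qf (tab Gen.h (4224 + r)) :=
  edges_tab (sm gh) Qf (tab Gen.h) 4224 [(4224, 5115), (4225, 5134), (4226, 3449), (4227, 4227), (4228, 5137), (4229, 3451), (4230, 4230), (4231, 5139), (4232, 3453), (4233, 5141), (4234, 3456), (4235, 3715), (4236, 3500), (4237, 3655), (4238, 3501), (4239, 5014), (4240, 3502), (4241, 3607), (4242, 5001), (4243, 5149), (4244, 3467), (4245, 5153), (4246, 3468), (4247, 3472), (4248, 4051), (4249, 5154), (4250, 5156), (4251, 5157), (4252, 4252), (4253, 4253), (4254, 4254), (4255, 3911), (4256, 3912), (4257, 5166), (4258, 3478), (4259, 3482), (4260, 3741), (4261, 3483), (4262, 3484), (4263, 5167), (4264, 5168), (4265, 5169), (4266, 5171), (4267, 5172), (4268, 5102), (4269, 5104), (4270, 3489), (4271, 3495), (4272, 3496), (4273, 3497), (4274, 3732), (4275, 3498), (4276, 3499), (4277, 5108), (4278, 5179), (4279, 5182), (4280, 5144), (4281, 5185), (4282, 3503), (4283, 3801), (4284, 4284), (4285, 3505), (4286,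 4286), (4287, 3802)]
    ⟨e3 q4224 (flp_h L130617) q5115, e3 q4225 L130773 q5134, e3 q4226 (flp_h L123027) q3449, e3 q4227 L123038 q4227, e3 q4228 L130794 q5137, e3 q4229 (flp_h L123047) q3451, e3 q4230 L123061 q4230, e3 q4231 L130809 q5139, e3 q4232 (flp_h L123069) q3453, e3 q4233 L130822 q5141, e3 q4234 (flp_h L123083) q3456, e3 q4235 L123095 q3715, e3 q4236 L123104 q3500, e3 q4237 L123117 q3655, e3 q4238 L123126 q3501, e3 q4239 (flp_h L129724) q5014, e3 q4240 L123144 q3502, e3 q4241 L123157 q3607, e3 q4242 (flp_h L129613) q5001, e3 q4243 L130900 q5149, e3 q4244 (flp_h L123174) q3467, e3 q4245 L130935 q5153, e3 q4246 (flp_h L123193) q3468, e3 q4247 L123208 q3472, e3 q4248 L123218 q4051, e3 q4249 (flp_h L130955) q5154, e3 q4250 (flp_h L130972) q5156, e3 q4251 (flp_h L130979) q5157, e3 q4252 L123251 q4252, e3 q4253 L123262 q4253, e3 q4254 L123273 q4254, e3 q4255 (flp_h L123287) q3911, e3 q4256 (flp_h L123299) q3912, e3 q4257 L131063 q5166, e3 q4258 (flp_h L123312) q3478, e3 q4259 L123330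 q3482, e3 q4260 L123339 q3741, e3 q4261 L123347 q3483, e3 q4262 L123353 q3484, e3 q4263 (flp_h L131084) q5167, e3 q4264 (flp_h L131094) q5168, e3 q4265 (flp_h L131106) q5169, e3 q4266 (flp_h L131127) q5171, e3 q4267 (flp_h L131137) q5172, e3 q4268 (flp_h L130483) q5102, e3 q4269 (flp_h L130505) q5104, e3 q4270 (flp_h L123427) q3489, e3 q4271 L123446 q3495, e3 q4272 L123454 q3496, e3 q4273 L123467 q3497, e3 q4274 L123481 q3732, e3 q4275 L123489 q3498, e3 q4276 L123502 q3499, e3 q4277 (flp_h L130549) q5108, e3 q4278 (flp_h L131219) q5179, e3 q4279 (flp_h L131258) q5182, e3 q4280 (flp_h L130854) q5144, e3 q4281 L131284 q5185, e3 q4282 (flp_h L123557) q3503, e3 q4283 L123578 q3801, e3 q4284 L123589 q4284, e3 q4285 (flp_h L123590) q3505, e3 q4286 L123613 q4286, e3 q4287 L123621 q3802, trivial⟩ (by decide +kernel)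

theorem ce_h_67 : ∀ r, r < 64 → sm gh (Qf (4288 + r)) = Qf (tab Gen.h (4288 + r)) :=
  edges_tab (sm gh) Qf (tab Gen.h) 4288 [(4288, 3931), (4289, 3509), (4290, 4290), (4291, 4291), (4292, 4292), (4293, 4293), (4294, 3932), (4295, 3517), (4296, 4296), (4297, 4297), (4298, 4298), (4299, 5202), (4300, 4300), (4301, 4301), (4302, 5204), (4303, 4303), (4304, 5207), (4305, 3526), (4306, 5209), (4307, 5210), (4308, 3527), (4309, 3528), (4310, 3804), (4311, 3567), (4312, 3805), (4313, 3806), (4314, 5221), (4315, 3532), (4316, 3533), (4317, 5222), (4318, 3576), (4319, 3578), (4320, 3626), (4321, 3883), (4322, 3808), (4323, 5231), (4324, 3539), (4325, 4325), (4326, 3586), (4327, 4327), (4328, 5236), (4329, 3546), (4330, 3592), (4331, 3646), (4332, 3595), (4333, 5118), (4334, 3643), (4335, 5243), (4336, 3695), (4337, 5244), (4338, 3552), (4339, 4339), (4340, 5247), (4341, 4341), (4342, 5250), (4343, 3557), (4344, 3558), (4345, 4345), (4346, 5252), (4347, 3560), (4348, 5254), (4349, 5256), (4350,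 3562), (4351, 5259)]
    ⟨e3 q4288 L123635 q3931, e3 q4289 (flp_h L123637) q3509, e3 q4290 L123658 q4290, e3 q4291 L123668 q4291, e3 q4292 L123682 q4292, e3 q4293 L123693 q4293, e3 q4294 L123703 q3932, e3 q4295 (flp_h L123705) q3517, e3 q4296 L123723 q4296, e3 q4297 L123734 q4297, e3 q4298 L123740 q4298, e3 q4299 L131475 q5202, e3 q4300 L123757 q4300, e3 q4301 L123767 q4301, e3 q4302 L131493 q5204, e3 q4303 L123784 q4303, e3 q4304 L131520 q5207, e3 q4305 (flp_h L123795) q3526, e3 q4306 L131545 q5209, e3 q4307 L131557 q5210, e3 q4308 (flp_h L123832) q3527, e3 q4309 (flp_h L123844) q3528, e3 q4310 L123867 q3804, e3 q4311 L123879 q3567, e3 q4312 L123886 q3805, e3 q4313 L123897 q3806, e3 q4314 L131683 q5221, e3 q4315 (flp_h L123910) q3532, e3 q4316 (flp_h L123921) q3533, e3 q4317 (flp_h L131706) q5222, e3 q4318 L123947 q3576, e3 q4319 L123960 q3578, e3 q4320 L123970 q3626, e3 q4321 L123984 q3883, e3 q4322 L123992 q3808, e3 q4323 L131789 q5231, e3 q4324 (flp_h L124003) q3539, e3 q4325 L124024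 q4325, e3 q4326 L124035 q3586, e3 q4327 L124043 q4327, e3 q4328 L131832 q5236, e3 q4329 L124064 q3546, e3 q4330 L124077 q3592, e3 q4331 L124087 q3646, e3 q4332 L124099 q3595, e3 q4333 (flp_h L130640) q5118, e3 q4334 L124113 q3643, e3 q4335 L131901 q5243, e3 q4336 L124135 q3695, e3 q4337 L131909 q5244, e3 q4338 (flp_h L124145) q3552, e3 q4339 L124160 q4339, e3 q4340 L131938 q5247, e3 q4341 L124173 q4341, e3 q4342 L131962 q5250, e3 q4343 (flp_h L124182) q3557, e3 q4344 (flp_h L124191) q3558, e3 q4345 L124206 q4345, e3 q4346 L131979 q5252, e3 q4347 (flp_h L124217) q3560, e3 q4348 L131997 q5254, e3 q4349 L132018 q5256, e3 q4350 (flp_h L124245) q3562, e3 q4351 L132044 q5259, trivial⟩ (by decide +kernel)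

theorem ce_h_68 : ∀ r, r < 64 → sm gh (Qf (4352 + r)) = Qf (tab Gen.h (4352 + r)) :=
  edges_tab (sm gh) Qf (tab Gen.h) 4352 [(4352, 3563), (4353, 5257), (4354, 5212), (4355, 3816), (4356, 5213), (4357, 3817), (4358, 3818), (4359, 5272), (4360, 3820), (4361, 5276), (4362, 3822), (4363, 5279), (4364, 3570), (4365, 5280), (4366, 3571), (4367, 3575), (4368, 5223), (4369, 3573), (4370, 5281), (4371, 5225), (4372, 5283), (4373, 5284), (4374, 5296), (4375, 3829), (4376, 3885), (4377, 3830), (4378, 5301), (4379, 3580), (4380, 3833), (4381, 5303), (4382, 3582), (4383, 5147), (4384, 4384), (4385, 5307), (4386, 4386), (4387, 5310), (4388, 3588), (4389, 3589), (4390, 3594), (4391, 3650), (4392, 3596), (4393, 3597), (4394, 5320), (4395, 5311), (4396, 5145), (4397, 5313), (4398, 3900), (4399, 5327), (4400, 5315), (4401, 5316), (4402, 5333), (4403, 5318), (4404, 5336), (4405, 3598), (4406, 3838), (4407, 3895), (4408, 3839), (4409, 5340), (4410, 3602), (4411, 5342), (4412, 3605), (4413, 5031), (4414,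 5345), (4415, 3609)]
    ⟨e3 q4352 (flp_h L124262) q3563, e3 q4353 (flp_h L132034) q5257, e3 q4354 (flp_h L131589) q5212, e3 q4355 L124295 q3816, e3 q4356 (flp_h L131604) q5213, e3 q4357 L124312 q3817, e3 q4358 L124321 q3818, e3 q4359 L132162 q5272, e3 q4360 L124341 q3820, e3 q4361 L132201 q5276, e3 q4362 L124357 q3822, e3 q4363 L132228 q5279, e3 q4364 (flp_h L124368) q3570, e3 q4365 L132239 q5280, e3 q4366 (flp_h L124388) q3571, e3 q4367 L124401 q3575, e3 q4368 (flp_h L131719) q5223, e3 q4369 (flp_h L124410) q3573, e3 q4370 (flp_h L132256) q5281, e3 q4371 (flp_h L131741) q5225, e3 q4372 (flp_h L132273) q5283, e3 q4373 (flp_h L132282) q5284, e3 q4374 L132366 q5296, e3 q4375 L124460 q3829, e3 q4376 L124472 q3885, e3 q4377 L124479 q3830, e3 q4378 L132407 q5301, e3 q4379 (flp_h L124490) q3580, e3 q4380 L124508 q3833, e3 q4381 L132426 q5303, e3 q4382 (flp_h L124518) q3582, e3 q4383 (flp_h L130889) q5147, e3 q4384 L124544 q4384, e3 q4385 L132459 q5307, e3 q4386 L124557 q4386, e3 q4387 L132482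 q5310, e3 q4388 (flp_h L124565) q3588, e3 q4389 (flp_h L124571) q3589, e3 q4390 L124588 q3594, e3 q4391 L124599 q3650, e3 q4392 L124603 q3596, e3 q4393 L124612 q3597, e3 q4394 L132572 q5320, e3 q4395 (flp_h L132496) q5311, e3 q4396 (flp_h L130867) q5145, e3 q4397 (flp_h L132515) q5313, e3 q4398 L124651 q3900, e3 q4399 L132630 q5327, e3 q4400 (flp_h L132535) q5315, e3 q4401 (flp_h L132545) q5316, e3 q4402 L132675 q5333, e3 q4403 (flp_h L132560) q5318, e3 q4404 L132693 q5336, e3 q4405 (flp_h L124696) q3598, e3 q4406 L124705 q3838, e3 q4407 L124717 q3895, e3 q4408 L124726 q3839, e3 q4409 L132728 q5340, e3 q4410 (flp_h L124737) q3602, e3 q4411 L132751 q5342, e3 q4412 (flp_h L124756) q3605, e3 q4413 (flp_h L129874) q5031, e3 q4414 L132775 q5345, e3 q4415 (flp_h L124781) q3609, trivial⟩ (by decide +kernel)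

theorem ce_h_69 : ∀ r, r < 64 → sm gh (Qf (4416 + r)) = Qf (tab Gen.h (4416 + r)) :=
  edges_tab (sm gh) Qf (tab Gen.h) 4416 [(4416, 4416), (4417, 5347), (4418, 3611), (4419, 5349), (4420, 3615), (4421, 5351), (4422, 5215), (4423, 3617), (4424, 3618), (4425, 5352), (4426, 3662), (4427, 3803), (4428, 3664), (4429, 3847), (4430, 3848), (4431, 5365), (4432, 3849), (4433, 5369), (4434, 3851), (4435, 5372), (4436, 3625), (4437, 3629), (4438, 3676), (4439, 5227), (4440, 3678), (4441, 5373), (4442, 5224), (4443, 5381), (4444, 3827), (4445, 3855), (4446, 5282), (4447, 3634), (4448, 3856), (4449, 5384), (4450, 3636), (4451, 3659), (4452, 5103), (4453, 3645), (4454, 5388), (4455, 5389), (4456, 5238), (4457, 5392), (4458, 5120), (4459, 5394), (4460, 3647), (4461, 5312), (4462, 5395), (4463, 3653), (4464, 4049), (4465, 5399), (4466, 3656), (4467, 5403), (4468, 3657), (4469, 3661), (4470, 5353), (4471, 5404), (4472, 5355), (4473, 5406), (4474, 5407), (4475, 5417), (4476, 3869), (4477, 3870), (4478,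 5422), (4479, 3871)]
    ⟨e3 q4416 L124796 q4416, e3 q4417 L132794 q5347, e3 q4418 (flp_h L124806) q3611, e3 q4419 L132807 q5349, e3 q4420 (flp_h L124823) q3615, e3 q4421 L132831 q5351, e3 q4422 (flp_h L131628) q5215, e3 q4423 (flp_h L124855) q3617, e3 q4424 (flp_h L124863) q3618, e3 q4425 (flp_h L132847) q5352, e3 q4426 L124889 q3662, e3 q4427 L124900 q3803, e3 q4428 L124911 q3664, e3 q4429 L124917 q3847, e3 q4430 L124926 q3848, e3 q4431 L132952 q5365, e3 q4432 L124942 q3849, e3 q4433 L132989 q5369, e3 q4434 L124958 q3851, e3 q4435 L133014 q5372, e3 q4436 (flp_h L124969) q3625, e3 q4437 L124984 q3629, e3 q4438 L124996 q3676, e3 q4439 (flp_h L131757) q5227, e3 q4440 L125014 q3678, e3 q4441 (flp_h L133029) q5373, e3 q4442 (flp_h L131729) q5224, e3 q4443 L133088 q5381, e3 q4444 L125048 q3827, e3 q4445 L125055 q3855, e3 q4446 (flp_h L132267) q5282, e3 q4447 (flp_h L125066) q3634, e3 q4448 L125086 q3856, e3 q4449 L133115 q5384, e3 q4450 (flp_h L125098) q3636, e3 q4451 L125113 q3659, e3 q4452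 (flp_h L130498) q5103, e3 q4453 L125130 q3645, e3 q4454 L133152 q5388, e3 q4455 L133160 q5389, e3 q4456 (flp_h L131861) q5238, e3 q4457 L133180 q5392, e3 q4458 (flp_h L130663) q5120, e3 q4459 L133194 q5394, e3 q4460 (flp_h L125171) q3647, e3 q4461 (flp_h L132507) q5312, e3 q4462 L133198 q5395, e3 q4463 (flp_h L125192) q3653, e3 q4464 L125206 q4049, e3 q4465 L133232 q5399, e3 q4466 (flp_h L125216) q3656, e3 q4467 L133265 q5403, e3 q4468 (flp_h L125230) q3657, e3 q4469 L125242 q3661, e3 q4470 (flp_h L132857) q5353, e3 q4471 (flp_h L133277) q5404, e3 q4472 (flp_h L132875) q5355, e3 q4473 (flp_h L133289) q5406, e3 q4474 (flp_h L133295) q5407, e3 q4475 L133357 q5417, e3 q4476 L125283 q3869, e3 q4477 L125293 q3870, e3 q4478 L133395 q5422, e3 q4479 L125310 q3871, trivial⟩ (by decide +kernel)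

theorem ce_h_70 : ∀ r, r < 64 → sm gh (Qf (4480 + r)) = Qf (tab Gen.h (4480 + r)) :=
  edges_tab (sm gh) Qf (tab Gen.h) 4480 [(4480, 5426), (4481, 3873), (4482, 5429), (4483, 3667), (4484, 5431), (4485, 3877), (4486, 5435), (4487, 3669), (4488, 3880), (4489, 5438), (4490, 3671), (4491, 5440), (4492, 3673), (4493, 3677), (4494, 5229), (4495, 3679), (4496, 3680), (4497, 5449), (4498, 5442), (4499, 5452), (4500, 5444), (4501, 5445), (4502, 5458), (4503, 5447), (4504, 5461), (4505, 3681), (4506, 3887), (4507, 5464), (4508, 3683), (4509, 3888), (4510, 5466), (4511, 3685), (4512, 5468), (4513, 3688), (4514, 5101), (4515, 3743), (4516, 5056), (4517, 3692), (4518, 5180), (4519, 3699), (4520, 5473), (4521, 3701), (4522, 3702), (4523, 5479), (4524, 3704), (4525, 5482), (4526, 3698), (4527, 5472), (4528, 5485), (4529, 3700), (4530, 5474), (4531, 5475), (4532, 5490), (4533, 5477), (4534, 5493), (4535, 3703), (4536, 5480), (4537, 5495), (4538, 3705), (4539, 3897), (4540, 5498), (4541, 3708), (4542,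 5499), (4543, 3711)]
    ⟨e3 q4480 L133430 q5426, e3 q4481 L125324 q3873, e3 q4482 L133456 q5429, e3 q4483 (flp_h L125334) q3667, e3 q4484 L133470 q5431, e3 q4485 L125353 q3877, e3 q4486 L133501 q5435, e3 q4487 (flp_h L125364) q3669, e3 q4488 L125377 q3880, e3 q4489 L133526 q5438, e3 q4490 (flp_h L125386) q3671, e3 q4491 L133541 q5440, e3 q4492 (flp_h L125406) q3673, e3 q4493 L125422 q3677, e3 q4494 (flp_h L131779) q5229, e3 q4495 L125440 q3679, e3 q4496 L125448 q3680, e3 q4497 L133626 q5449, e3 q4498 (flp_h L133567) q5442, e3 q4499 L133652 q5452, e3 q4500 (flp_h L133587) q5444, e3 q4501 (flp_h L133597) q5445, e3 q4502 L133704 q5458, e3 q4503 (flp_h L133616) q5447, e3 q4504 L133726 q5461, e3 q4505 (flp_h L125518) q3681, e3 q4506 L125528 q3887, e3 q4507 L133752 q5464, e3 q4508 (flp_h L125541) q3683, e3 q4509 L125562 q3888, e3 q4510 L133774 q5466, e3 q4511 (flp_h L125574) q3685, e3 q4512 L133792 q5468, e3 q4513 (flp_h L125593) q3688, e3 q4514 (flp_h L130474) q5101, e3 q4515 L125618 q3743,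 e3 q4516 (flp_h L130105) q5056, e3 q4517 (flp_h L125632) q3692, e3 q4518 (flp_h L131233) q5180, e3 q4519 L125656 q3699, e3 q4520 L133842 q5473, e3 q4521 L125674 q3701, e3 q4522 L125682 q3702, e3 q4523 L133891 q5479, e3 q4524 L125697 q3704, e3 q4525 L133911 q5482, e3 q4526 (flp_h L125705) q3698, e3 q4527 (flp_h L133840) q5472, e3 q4528 L133933 q5485, e3 q4529 (flp_h L125725) q3700, e3 q4530 (flp_h L133856) q5474, e3 q4531 (flp_h L133864) q5475, e3 q4532 L133973 q5490, e3 q4533 (flp_h L133880) q5477, e3 q4534 L133995 q5493, e3 q4535 (flp_h L125769) q3703, e3 q4536 (flp_h L133903) q5480, e3 q4537 L134009 q5495, e3 q4538 (flp_h L125785) q3705, e3 q4539 L125794 q3897, e3 q4540 L134026 q5498, e3 q4541 (flp_h L125805) q3708, e3 q4542 L134037 q5499, e3 q4543 (flp_h L125825) q3711, trivial⟩ (by decide +kernel)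

theorem ce_h_71 : ∀ r, r < 64 → sm gh (Qf (4544 + r)) = Qf (tab Gen.h (4544 + r)) :=
  edges_tab (sm gh) Qf (tab Gen.h) 4544 [(4544, 5496), (4545, 3713), (4546, 5142), (4547, 5143), (4548, 4988), (4549, 5502), (4550, 3719), (4551, 3720), (4552, 3722), (4553, 3737), (4554, 5506), (4555, 5507), (4556, 3913), (4557, 3739), (4558, 3729), (4559, 5170), (4560, 5181), (4561, 3733), (4562, 4895), (4563, 5504), (4564, 5505), (4565, 3738), (4566, 5155), (4567, 5516), (4568, 3742), (4569, 5078), (4570, 5519), (4571, 3746), (4572, 5009), (4573, 4573), (4574, 4574), (4575, 5528), (4576, 4576), (4577, 5531), (4578, 3749), (4579, 3933), (4580, 5535), (4581, 3935), (4582, 5538), (4583, 3752), (4584, 5540), (4585, 3939), (4586, 5544), (4587, 3754), (4588, 3942), (4589, 5547), (4590, 3756), (4591, 5551), (4592, 3758), (4593, 5554), (4594, 3948), (4595, 5556), (4596, 3760), (4597, 4910), (4598, 5559), (4599, 3763), (4600, 4600), (4601, 4601), (4602, 4602), (4603, 5566), (4604, 4604), (4605, 5569), (4606,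 3767), (4607, 4607)]
    ⟨e3 q4544 (flp_h L134015) q5496, e3 q4545 (flp_h L125839) q3713, e3 q4546 (flp_h L130834) q5142, e3 q4547 (flp_h L130841) q5143, e3 q4548 (flp_h L129505) q4988, e3 q4549 L134059 q5502, e3 q4550 (flp_h L125882) q3719, e3 q4551 (flp_h L125891) q3720, e3 q4552 L125907 q3722, e3 q4553 L125918 q3737, e3 q4554 (flp_h L134102) q5506, e3 q4555 (flp_h L134109) q5507, e3 q4556 L125942 q3913, e3 q4557 L125954 q3739, e3 q4558 L125960 q3729, e3 q4559 (flp_h L131121) q5170, e3 q4560 (flp_h L131247) q5181, e3 q4561 (flp_h L125983) q3733, e3 q4562 (flp_h L128659) q4895, e3 q4563 (flp_h L134084) q5504, e3 q4564 (flp_h L134095) q5505, e3 q4565 L126019 q3738, e3 q4566 (flp_h L130965) q5155, e3 q4567 (flp_h L134181) q5516, e3 q4568 L126045 q3742, e3 q4569 (flp_h L130273) q5078, e3 q4570 (flp_h L134208) q5519, e3 q4571 L126071 q3746, e3 q4572 (flp_h L129681) q5009, e3 q4573 L126088 q4573, e3 q4574 L126098 q4574, e3 q4575 L134281 q5528, e3 q4576 L126114 q4576, e3 q4577 L134311 q5531,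 e3 q4578 (flp_h L126127) q3749, e3 q4579 L126144 q3933, e3 q4580 L134347 q5535, e3 q4581 L126163 q3935, e3 q4582 L134379 q5538, e3 q4583 (flp_h L126177) q3752, e3 q4584 L134395 q5540, e3 q4585 L126196 q3939, e3 q4586 L134423 q5544, e3 q4587 (flp_h L126207) q3754, e3 q4588 L126223 q3942, e3 q4589 L134449 q5547, e3 q4590 (flp_h L126234) q3756, e3 q4591 L134479 q5551, e3 q4592 (flp_h L126249) q3758, e3 q4593 L134502 q5554, e3 q4594 L126268 q3948, e3 q4595 L134515 q5556, e3 q4596 (flp_h L126278) q3760, e3 q4597 (flp_h L128772) q4910, e3 q4598 L134537 q5559, e3 q4599 (flp_h L126304) q3763, e3 q4600 L126322 q4600, e3 q4601 L126330 q4601, e3 q4602 L126339 q4602, e3 q4603 L134599 q5566, e3 q4604 L126355 q4604, e3 q4605 L134626 q5569, e3 q4606 (flp_h L126367) q3767, e3 q4607 L126384 q4607, trivial⟩ (by decide +kernel)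

theorem ce_h_72 : ∀ r, r < 64 → sm gh (Qf (4608 + r)) = Qf (tab Gen.h (4608 + r)) :=
  edges_tab (sm gh) Qf (tab Gen.h) 4608 [(4608, 5571), (4609, 3769), (4610, 3955), (4611, 5574), (4612, 3772), (4613, 5576), (4614, 3775), (4615, 5572), (4616, 3777), (4617, 4617), (4618, 4618), (4619, 4973), (4620, 4620), (4621, 5582), (4622, 4622), (4623, 5585), (4624, 3784), (4625, 4625), (4626, 5587), (4627, 3786), (4628, 5589), (4629, 3789), (4630, 3796), (4631, 5592), (4632, 3792), (4633, 4072), (4634, 3794), (4635, 5590), (4636, 5591), (4637, 5187), (4638, 5188), (4639, 5359), (4640, 5214), (4641, 5217), (4642, 5599), (4643, 5219), (4644, 5600), (4645, 3807), (4646, 3809), (4647, 4647), (4648, 5602), (4649, 3812), (4650, 3813), (4651, 3815), (4652, 5360), (4653, 5605), (4654, 5606), (4655, 5265), (4656, 5266), (4657, 5268), (4658, 5614), (4659, 5270), (4660, 5617), (4661, 3819), (4662, 5619), (4663, 5274), (4664, 5623), (4665, 3821), (4666, 5277), (4667, 5626), (4668, 3823), (4669, 3828), (4670,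 5628), (4671, 5297)]
    ⟨e3 q4608 L134648 q5571, e3 q4609 (flp_h L126396) q3769, e3 q4610 L126412 q3955, e3 q4611 L134677 q5574, e3 q4612 (flp_h L126425) q3772, e3 q4613 L134697 q5576, e3 q4614 (flp_h L126443) q3775, e3 q4615 (flp_h L134664) q5572, e3 q4616 (flp_h L126460) q3777, e3 q4617 L126477 q4617, e3 q4618 L126484 q4618, e3 q4619 (flp_h L129368) q4973, e3 q4620 L126505 q4620, e3 q4621 L134749 q5582, e3 q4622 L126521 q4622, e3 q4623 L134775 q5585, e3 q4624 (flp_h L126532) q3784, e3 q4625 L126546 q4625, e3 q4626 L134794 q5587, e3 q4627 (flp_h L126556) q3786, e3 q4628 L134807 q5589, e3 q4629 (flp_h L126575) q3789, e3 q4630 L126589 q3796, e3 q4631 L134832 q5592, e3 q4632 (flp_h L126601) q3792, e3 q4633 L126617 q4072, e3 q4634 (flp_h L126619) q3794, e3 q4635 (flp_h L134822) q5590, e3 q4636 (flp_h L134829) q5591, e3 q4637 (flp_h L131316) q5187, e3 q4638 (flp_h L131328) q5188, e3 q4639 (flp_h L132904) q5359, e3 q4640 (flp_h L131614) q5214, e3 q4641 (flp_h L131651) q5217, e3 q4642 L134894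 q5599, e3 q4643 (flp_h L131670) q5219, e3 q4644 L134905 q5600, e3 q4645 (flp_h L126721) q3807, e3 q4646 (flp_h L126732) q3809, e3 q4647 L126748 q4647, e3 q4648 L134922 q5602, e3 q4649 (flp_h L126761) q3812, e3 q4650 (flp_h L126769) q3813, e3 q4651 L126790 q3815, e3 q4652 (flp_h L132920) q5360, e3 q4653 (flp_h L134955) q5605, e3 q4654 (flp_h L134967) q5606, e3 q4655 (flp_h L132100) q5265, e3 q4656 (flp_h L132111) q5266, e3 q4657 (flp_h L132133) q5268, e3 q4658 L135040 q5614, e3 q4659 (flp_h L132150) q5270, e3 q4660 L135071 q5617, e3 q4661 (flp_h L126885) q3819, e3 q4662 L135089 q5619, e3 q4663 (flp_h L132189) q5274, e3 q4664 L135124 q5623, e3 q4665 (flp_h L126922) q3821, e3 q4666 (flp_h L132217) q5277, e3 q4667 L135151 q5626, e3 q4668 (flp_h L126947) q3823, e3 q4669 L126964 q3828, e3 q4670 (flp_h L135173) q5628, e3 q4671 (flp_h L132375) q5297, trivial⟩ (by decide +kernel)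

theorem ce_h_73 : ∀ r, r < 64 → sm gh (Qf (4672 + r)) = Qf (tab Gen.h (4672 + r)) :=
  edges_tab (sm gh) Qf (tab Gen.h) 4672 [(4672, 5299), (4673, 5632), (4674, 3831), (4675, 5633), (4676, 3834), (4677, 4677), (4678, 3837), (4679, 5636), (4680, 5337), (4681, 5637), (4682, 3840), (4683, 3842), (4684, 4684), (4685, 4685), (4686, 3845), (4687, 3866), (4688, 5361), (4689, 5363), (4690, 5643), (4691, 5367), (4692, 5647), (4693, 3850), (4694, 5370), (4695, 5650), (4696, 3852), (4697, 5652), (4698, 3857), (4699, 4699), (4700, 3859), (4701, 4701), (4702, 4702), (4703, 3862), (4704, 4704), (4705, 5639), (4706, 5216), (4707, 3867), (4708, 3868), (4709, 5267), (4710, 5660), (4711, 5662), (4712, 5418), (4713, 5420), (4714, 5671), (4715, 5424), (4716, 5675), (4717, 3872), (4718, 5427), (4719, 5678), (4720, 3874), (4721, 5682), (4722, 3876), (4723, 5685), (4724, 5433), (4725, 5687), (4726, 3878), (4727, 4727), (4728, 5690), (4729, 3881), (4730, 4730), (4731, 3886), (4732, 5298), (4733, 5693), (4734,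 5462), (4735, 5695)]
    ⟨e3 q4672 (flp_h L132396) q5299, e3 q4673 L135214 q5632, e3 q4674 (flp_h L127005) q3831, e3 q4675 L135223 q5633, e3 q4676 (flp_h L127023) q3834, e3 q4677 L127035 q4677, e3 q4678 L127042 q3837, e3 q4679 (flp_h L135252) q5636, e3 q4680 (flp_h L132705) q5337, e3 q4681 L135256 q5637, e3 q4682 (flp_h L127083) q3840, e3 q4683 (flp_h L127092) q3842, e3 q4684 L127106 q4684, e3 q4685 L127110 q4685, e3 q4686 (flp_h L127112) q3845, e3 q4687 L127124 q3866, e3 q4688 (flp_h L132927) q5361, e3 q4689 (flp_h L132942) q5363, e3 q4690 L135313 q5643, e3 q4691 (flp_h L132979) q5367, e3 q4692 L135340 q5647, e3 q4693 (flp_h L127156) q3850, e3 q4694 (flp_h L133003) q5370, e3 q4695 L135371 q5650, e3 q4696 (flp_h L127175) q3852, e3 q4697 L135387 q5652, e3 q4698 (flp_h L127191) q3857, e3 q4699 L127205 q4699, e3 q4700 (flp_h L127206) q3859, e3 q4701 L127216 q4701, e3 q4702 L127222 q4702, e3 q4703 (flp_h L127224) q3862, e3 q4704 L127237 q4704, e3 q4705 (flp_h L135286) q5639, e3 q4706 (flp_h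 L131642) q5216, e3 q4707 L127254 q3867, e3 q4708 L127261 q3868, e3 q4709 (flp_h L132124) q5267, e3 q4710 (flp_h L135452) q5660, e3 q4711 (flp_h L135464) q5662, e3 q4712 (flp_h L133369) q5418, e3 q4713 (flp_h L133384) q5420, e3 q4714 L135519 q5671, e3 q4715 (flp_h L133418) q5424, e3 q4716 L135549 q5675, e3 q4717 (flp_h L127316) q3872, e3 q4718 (flp_h L133446) q5427, e3 q4719 L135572 q5678, e3 q4720 (flp_h L127338) q3874, e3 q4721 L135600 q5682, e3 q4722 (flp_h L127351) q3876, e3 q4723 L135631 q5685, e3 q4724 (flp_h L133490) q5433, e3 q4725 L135653 q5687, e3 q4726 (flp_h L127382) q3878, e3 q4727 L127396 q4727, e3 q4728 L135688 q5690, e3 q4729 (flp_h L127405) q3881, e3 q4730 L127416 q4730, e3 q4731 L127422 q3886, e3 q4732 (flp_h L132387) q5298, e3 q4733 (flp_h L135720) q5693, e3 q4734 (flp_h L133739) q5462, e3 q4735 L135730 q5695, trivial⟩ (by decide +kernel)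

theorem ce_h_74 : ∀ r, r < 64 → sm gh (Qf (4736 + r)) = Qf (tab Gen.h (4736 + r)) :=
  edges_tab (sm gh) Qf (tab Gen.h) 4736 [(4736, 3889), (4737, 5289), (4738, 3891), (4739, 4739), (4740, 4740), (4741, 3896), (4742, 5338), (4743, 3898), (4744, 5325), (4745, 5323), (4746, 3904), (4747, 4747), (4748, 3926), (4749, 3929), (4750, 3909), (4751, 3910), (4752, 4752), (4753, 5165), (4754, 3920), (4755, 4755), (4756, 4756), (4757, 4791), (4758, 3923), (4759, 4759), (4760, 5701), (4761, 4761), (4762, 5713), (4763, 3927), (4764, 5189), (4765, 5191), (4766, 5716), (4767, 5533), (4768, 5720), (4769, 3934), (4770, 5536), (4771, 5723), (4772, 3936), (4773, 5727), (4774, 3938), (4775, 5730), (4776, 5542), (4777, 5732), (4778, 3940), (4779, 4779), (4780, 5735), (4781, 3943), (4782, 4782), (4783, 4784), (4784, 4783), (4785, 3945), (4786, 5741), (4787, 5742), (4788, 3947), (4789, 5743), (4790, 3949), (4791, 4757), (4792, 4792), (4793, 3952), (4794, 3981), (4795, 3982), (4796, 5745), (4797, 3956), (4798,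 4798), (4799, 3958)]
    ⟨e3 q4736 (flp_h L127459) q3889, e3 q4737 (flp_h L132321) q5289, e3 q4738 (flp_h L127473) q3891, e3 q4739 L127488 q4739, e3 q4740 L127494 q4740, e3 q4741 L127501 q3896, e3 q4742 (flp_h L132717) q5338, e3 q4743 (flp_h L127509) q3898, e3 q4744 (flp_h L132618) q5325, e3 q4745 (flp_h L132599) q5323, e3 q4746 (flp_h L127525) q3904, e3 q4747 L127536 q4747, e3 q4748 L127543 q3926, e3 q4749 L127552 q3929, e3 q4750 L127560 q3909, e3 q4751 L127569 q3910, e3 q4752 L127579 q4752, e3 q4753 L131061 q5165, e3 q4754 L127596 q3920, e3 q4755 L127606 q4755, e3 q4756 L127616 q4756, e3 q4757 (flp_h L127889) q4791, e3 q4758 (flp_h L127623) q3923, e3 q4759 L127637 q4759, e3 q4760 (flp_h L135791) q5701, e3 q4761 L127649 q4761, e3 q4762 L135895 q5713, e3 q4763 (flp_h L127657) q3927, e3 q4764 (flp_h L131341) q5189, e3 q4765 (flp_h L131365) q5191, e3 q4766 L135919 q5716, e3 q4767 (flp_h L134335) q5533, e3 q4768 L135951 q5720, e3 q4769 (flp_h L127703) q3934, e3 q4770 (flp_h L134365) q5536,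 e3 q4771 L135979 q5723, e3 q4772 (flp_h L127729) q3936, e3 q4773 L136017 q5727, e3 q4774 (flp_h L127744) q3938, e3 q4775 L136040 q5730, e3 q4776 (flp_h L134412) q5542, e3 q4777 L136054 q5732, e3 q4778 (flp_h L127772) q3940, e3 q4779 L127785 q4779, e3 q4780 L136073 q5735, e3 q4781 (flp_h L127796) q3943, e3 q4782 L127811 q4782, e3 q4783 (flp_h L127839) q4784, e3 q4784 L127839 q4783, e3 q4785 (flp_h L127826) q3945, e3 q4786 L136130 q5741, e3 q4787 L136139 q5742, e3 q4788 (flp_h L127861) q3947, e3 q4789 L136152 q5743, e3 q4790 (flp_h L127878) q3949, e3 q4791 L127889 q4757, e3 q4792 L127900 q4792, e3 q4793 (flp_h L127905) q3952, e3 q4794 L127920 q3981, e3 q4795 L127933 q3982, e3 q4796 L136171 q5745, e3 q4797 (flp_h L127949) q3956, e3 q4798 L127963 q4798, e3 q4799 (flp_h L127964) q3958, trivial⟩ (by decide +kernel)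

theorem ce_h_75 : ∀ r, r < 64 → sm gh (Qf (4800 + r)) = Qf (tab Gen.h (4800 + r)) :=
  edges_tab (sm gh) Qf (tab Gen.h) 4800 [(4800, 4800), (4801, 4801), (4802, 3983), (4803, 3964), (4804, 4804), (4805, 4805), (4806, 5164), (4807, 5749), (4808, 5750), (4809, 3973), (4810, 3974), (4811, 3976), (4812, 4812), (4813, 5751), (4814, 3987), (4815, 5752), (4816, 4971), (4817, 4817), (4818, 4818), (4819, 5761), (4820, 4820), (4821, 5765), (4822, 4822), (4823, 5768), (4824, 3993), (4825, 3995), (4826, 4985), (4827, 5769), (4828, 5770), (4829, 5777), (4830, 4830), (4831, 5780), (4832, 3998), (4833, 4833), (4834, 5782), (4835, 4000), (4836, 4836), (4837, 5785), (4838, 4003), (4839, 4006), (4840, 4007), (4841, 5788), (4842, 5123), (4843, 5790), (4844, 5121), (4845, 5792), (4846, 4008), (4847, 4847), (4848, 5794), (4849, 4010), (4850, 5796), (4851, 4013), (4852, 5245), (4853, 4015), (4854, 4017), (4855, 4019), (4856, 5053), (4857, 5802), (4858, 5803), (4859, 5809), (4860, 4860), (4861, 5813), (4862,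 4862), (4863, 5816)]
    ⟨e3 q4800 L127978 q4800, e3 q4801 L127984 q4801, e3 q4802 L127991 q3983, e3 q4803 (flp_h L127997) q3964, e3 q4804 L128010 q4804, e3 q4805 L128016 q4805, e3 q4806 L131048 q5164, e3 q4807 L136199 q5749, e3 q4808 L136210 q5750, e3 q4809 (flp_h L128045) q3973, e3 q4810 (flp_h L128053) q3974, e3 q4811 (flp_h L128061) q3976, e3 q4812 L128081 q4812, e3 q4813 L136224 q5751, e3 q4814 (flp_h L128094) q3987, e3 q4815 (flp_h L136238) q5752, e3 q4816 (flp_h L129347) q4971, e3 q4817 L128123 q4817, e3 q4818 L128133 q4818, e3 q4819 L136305 q5761, e3 q4820 L128152 q4820, e3 q4821 L136340 q5765, e3 q4822 L128169 q4822, e3 q4823 L136365 q5768, e3 q4824 (flp_h L128179) q3993, e3 q4825 L128191 q3995, e3 q4826 (flp_h L129476) q4985, e3 q4827 (flp_h L136379) q5769, e3 q4828 (flp_h L136386) q5770, e3 q4829 L136428 q5777, e3 q4830 L128222 q4830, e3 q4831 L136449 q5780, e3 q4832 (flp_h L128232) q3998, e3 q4833 L128245 q4833, e3 q4834 L136465 q5782, e3 q4835 (flp_h L128254) q4000, e3 q4836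 L128266 q4836, e3 q4837 L136486 q5785, e3 q4838 (flp_h L128276) q4003, e3 q4839 L128286 q4006, e3 q4840 L128293 q4007, e3 q4841 L136506 q5788, e3 q4842 (flp_h L130698) q5123, e3 q4843 L136519 q5790, e3 q4844 (flp_h L130675) q5121, e3 q4845 L136531 q5792, e3 q4846 (flp_h L128327) q4008, e3 q4847 L128338 q4847, e3 q4848 L136546 q5794, e3 q4849 (flp_h L128348) q4010, e3 q4850 L136561 q5796, e3 q4851 (flp_h L128364) q4013, e3 q4852 (flp_h L131930) q5245, e3 q4853 (flp_h L128378) q4015, e3 q4854 (flp_h L128384) q4017, e3 q4855 L128395 q4019, e3 q4856 (flp_h L130080) q5053, e3 q4857 (flp_h L136600) q5802, e3 q4858 (flp_h L136606) q5803, e3 q4859 L136639 q5809, e3 q4860 L128424 q4860, e3 q4861 L136666 q5813, e3 q4862 L128439 q4862, e3 q4863 L136690 q5816, trivial⟩ (by decide +kernel)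

theorem ce_h_76 : ∀ r, r < 64 → sm gh (Qf (4864 + r)) = Qf (tab Gen.h (4864 + r)) :=
  edges_tab (sm gh) Qf (tab Gen.h) 4864 [(4864, 4023), (4865, 5818), (4866, 4866), (4867, 5822), (4868, 4025), (4869, 4869), (4870, 5825), (4871, 4027), (4872, 4031), (4873, 5829), (4874, 5827), (4875, 5832), (4876, 4032), (4877, 4877), (4878, 5834), (4879, 4034), (4880, 5836), (4881, 4037), (4882, 5385), (4883, 4041), (4884, 5840), (4885, 4040), (4886, 5127), (4887, 5842), (4888, 4042), (4889, 5844), (4890, 4045), (4891, 5843), (4892, 4047), (4893, 5396), (4894, 5397), (4895, 4562), (4896, 5151), (4897, 5854), (4898, 4898), (4899, 5858), (4900, 4053), (4901, 4901), (4902, 5861), (4903, 4055), (4904, 5865), (4905, 4057), (4906, 5868), (4907, 4907), (4908, 5870), (4909, 4059), (4910, 4597), (4911, 5873), (4912, 4062), (4913, 4913), (4914, 5876), (4915, 4065), (4916, 5575), (4917, 4067), (4918, 4918), (4919, 4919), (4920, 4070), (4921, 5593), (4922, 5594), (4923, 4923), (4924, 4924), (4925, 4925), (4926,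 4926), (4927, 4076)]
    ⟨e3 q4864 (flp_h L128448) q4023, e3 q4865 L136703 q5818, e3 q4866 L128468 q4866, e3 q4867 L136736 q5822, e3 q4868 (flp_h L128478) q4025, e3 q4869 L128490 q4869, e3 q4870 L136761 q5825, e3 q4871 (flp_h L128498) q4027, e3 q4872 L128510 q4031, e3 q4873 L136788 q5829, e3 q4874 (flp_h L136779) q5827, e3 q4875 L136808 q5832, e3 q4876 (flp_h L128533) q4032, e3 q4877 L128545 q4877, e3 q4878 L136824 q5834, e3 q4879 (flp_h L128556) q4034, e3 q4880 L136840 q5836, e3 q4881 (flp_h L128574) q4037, e3 q4882 (flp_h L133133) q5385, e3 q4883 L128592 q4041, e3 q4884 L136870 q5840, e3 q4885 (flp_h L128599) q4040, e3 q4886 (flp_h L130728) q5127, e3 q4887 L136882 q5842, e3 q4888 (flp_h L128613) q4042, e3 q4889 L136890 q5844, e3 q4890 (flp_h L128625) q4045, e3 q4891 (flp_h L136888) q5843, e3 q4892 (flp_h L128637) q4047, e3 q4893 (flp_h L133212) q5396, e3 q4894 (flp_h L133219) q5397, e3 q4895 L128659 q4562, e3 q4896 (flp_h L130921) q5151, e3 q4897 L136947 q5854, e3 q4898 L128677 q4898,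 e3 q4899 L136977 q5858, e3 q4900 (flp_h L128687) q4053, e3 q4901 L128702 q4901, e3 q4902 L137003 q5861, e3 q4903 (flp_h L128712) q4055, e3 q4904 L137033 q5865, e3 q4905 (flp_h L128726) q4057, e3 q4906 L137056 q5868, e3 q4907 L128748 q4907, e3 q4908 L137071 q5870, e3 q4909 (flp_h L128757) q4059, e3 q4910 L128772 q4597, e3 q4911 L137092 q5873, e3 q4912 (flp_h L128783) q4062, e3 q4913 L128799 q4913, e3 q4914 L137117 q5876, e3 q4915 (flp_h L128808) q4065, e3 q4916 (flp_h L134695) q5575, e3 q4917 (flp_h L128823) q4067, e3 q4918 L128838 q4918, e3 q4919 L128845 q4919, e3 q4920 (flp_h L128847) q4070, e3 q4921 (flp_h L134849) q5593, e3 q4922 (flp_h L134856) q5594, e3 q4923 L128872 q4923, e3 q4924 L128877 q4924, e3 q4925 L128882 q4925, e3 q4926 L128889 q4926, e3 q4927 (flp_h L128892) q4076, trivial⟩ (by decide +kernel)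

theorem ce_h_77 : ∀ r, r < 64 → sm gh (Qf (4928 + r)) = Qf (tab Gen.h (4928 + r)) :=
  edges_tab (sm gh) Qf (tab Gen.h) 4928 [(4928, 4928), (4929, 4929), (4930, 4930), (4931, 4931), (4932, 5899), (4933, 4933), (4934, 4934), (4935, 4935), (4936, 4936), (4937, 5903), (4938, 4938), (4939, 5906), (4940, 4085), (4941, 4941), (4942, 4942), (4943, 4943), (4944, 5910), (4945, 5911), (4946, 4946), (4947, 5913), (4948, 4094), (4949, 4949), (4950, 5915), (4951, 4096), (4952, 5917), (4953, 4953), (4954, 5920), (4955, 4101), (4956, 4956), (4957, 4957), (4958, 5923), (4959, 4959), (4960, 5926), (4961, 4105), (4962, 4962), (4963, 5928), (4964, 4107), (4965, 5930), (4966, 5932), (4967, 4109), (4968, 5935), (4969, 4110), (4970, 5933), (4971, 4816), (4972, 4972), (4973, 4619), (4974, 4974), (4975, 4975), (4976, 5947), (4977, 4977), (4978, 5951), (4979, 4979), (4980, 5954), (4981, 4117), (4982, 5955), (4983, 4118), (4984, 4122), (4985, 4826), (4986, 4120), (4987, 5956), (4988, 4548), (4989, 5958), (4990,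 5959), (4991, 5971)]
    ⟨e3 q4928 L128911 q4928, e3 q4929 L128919 q4929, e3 q4930 L128924 q4930, e3 q4931 L128933 q4931, e3 q4932 L137292 q5899, e3 q4933 L128956 q4933, e3 q4934 L128968 q4934, e3 q4935 L128980 q4935, e3 q4936 L128989 q4936, e3 q4937 L137338 q5903, e3 q4938 L129009 q4938, e3 q4939 L137368 q5906, e3 q4940 (flp_h L129020) q4085, e3 q4941 L129041 q4941, e3 q4942 L129054 q4942, e3 q4943 L129064 q4943, e3 q4944 L137415 q5910, e3 q4945 L137424 q5911, e3 q4946 L129095 q4946, e3 q4947 L137451 q5913, e3 q4948 (flp_h L129111) q4094, e3 q4949 L129128 q4949, e3 q4950 L137478 q5915, e3 q4951 (flp_h L129138) q4096, e3 q4952 L137501 q5917, e3 q4953 L129170 q4953, e3 q4954 L137540 q5920, e3 q4955 (flp_h L129184) q4101, e3 q4956 L129198 q4956, e3 q4957 L129213 q4957, e3 q4958 L137580 q5923, e3 q4959 L129235 q4959, e3 q4960 L137616 q5926, e3 q4961 (flp_h L129247) q4105, e3 q4962 L129261 q4962, e3 q4963 L137633 q5928, e3 q4964 (flp_h L129270) q4107, e3 q4965 L137647 q5930, e3 q4966 L137671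 q5932, e3 q4967 (flp_h L129299) q4109, e3 q4968 L137701 q5935, e3 q4969 (flp_h L129319) q4110, e3 q4970 (flp_h L137688) q5933, e3 q4971 L129347 q4816, e3 q4972 L129358 q4972, e3 q4973 L129368 q4619, e3 q4974 L129376 q4974, e3 q4975 L129383 q4975, e3 q4976 L137810 q5947, e3 q4977 L129401 q4977, e3 q4978 L137844 q5951, e3 q4979 L129417 q4979, e3 q4980 L137872 q5954, e3 q4981 (flp_h L129429) q4117, e3 q4982 L137882 q5955, e3 q4983 (flp_h L129452) q4118, e3 q4984 L129466 q4122, e3 q4985 L129476 q4826, e3 q4986 (flp_h L129478) q4120, e3 q4987 (flp_h L137899) q5956, e3 q4988 L129505 q4548, e3 q4989 (flp_h L137917) q5958, e3 q4990 (flp_h L137924) q5959, e3 q4991 L138028 q5971, trivial⟩ (by decide +kernel)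

theorem ce_h_78 : ∀ r, r < 64 → sm gh (Qf (4992 + r)) = Qf (tab Gen.h (4992 + r)) :=
  edges_tab (sm gh) Qf (tab Gen.h) 4992 [(4992, 4992), (4993, 5973), (4994, 4994), (4995, 5976), (4996, 4127), (4997, 4997), (4998, 5978), (4999, 4129), (5000, 5000), (5001, 4242), (5002, 5002), (5003, 5985), (5004, 5004), (5005, 5988), (5006, 4135), (5007, 4136), (5008, 4141), (5009, 4572), (5010, 4143), (5011, 4144), (5012, 5999), (5013, 5989), (5014, 4239), (5015, 5991), (5016, 5992), (5017, 6006), (5018, 5994), (5019, 5995), (5020, 6012), (5021, 5997), (5022, 6015), (5023, 4145), (5024, 6016), (5025, 4147), (5026, 5026), (5027, 6018), (5028, 4149), (5029, 6020), (5030, 4152), (5031, 4413), (5032, 5032), (5033, 5033), (5034, 6025), (5035, 5035), (5036, 6028), (5037, 4157), (5038, 5038), (5039, 6030), (5040, 4159), (5041, 6032), (5042, 4162), (5043, 5043), (5044, 6034), (5045, 4164), (5046, 6035), (5047, 4167), (5048, 6037), (5049, 4169), (5050, 6041), (5051, 4170), (5052, 4174), (5053, 4856), (5054,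 4172), (5055, 6042)]
    ⟨e3 q4992 L129537 q4992, e3 q4993 L138048 q5973, e3 q4994 L129553 q4994, e3 q4995 L138077 q5976, e3 q4996 (flp_h L129562) q4127, e3 q4997 L129577 q4997, e3 q4998 L138093 q5978, e3 q4999 (flp_h L129587) q4129, e3 q5000 L129603 q5000, e3 q5001 L129613 q4242, e3 q5002 L129623 q5002, e3 q5003 L138162 q5985, e3 q5004 L129636 q5004, e3 q5005 L138184 q5988, e3 q5006 (flp_h L129645) q4135, e3 q5007 (flp_h L129654) q4136, e3 q5008 L129671 q4141, e3 q5009 L129681 q4572, e3 q5010 L129687 q4143, e3 q5011 L129694 q4144, e3 q5012 L138308 q5999, e3 q5013 (flp_h L138203) q5989, e3 q5014 L129724 q4239, e3 q5015 (flp_h L138226) q5991, e3 q5016 (flp_h L138241) q5992, e3 q5017 L138393 q6006, e3 q5018 (flp_h L138261) q5994, e3 q5019 (flp_h L138275) q5995, e3 q5020 L138457 q6012, e3 q5021 (flp_h L138295) q5997, e3 q5022 L138487 q6015, e3 q5023 (flp_h L129794) q4145, e3 q5024 L138493 q6016, e3 q5025 (flp_h L129814) q4147, e3 q5026 L129832 q5026, e3 q5027 L138520 q6018, e3 q5028 (flp_h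 L129843) q4149, e3 q5029 L138540 q6020, e3 q5030 (flp_h L129859) q4152, e3 q5031 L129874 q4413, e3 q5032 L129882 q5032, e3 q5033 L129895 q5033, e3 q5034 L138598 q6025, e3 q5035 L129917 q5035, e3 q5036 L138642 q6028, e3 q5037 (flp_h L129928) q4157, e3 q5038 L129943 q5038, e3 q5039 L138661 q6030, e3 q5040 (flp_h L129952) q4159, e3 q5041 L138677 q6032, e3 q5042 (flp_h L129970) q4162, e3 q5043 L129989 q5043, e3 q5044 L138706 q6034, e3 q5045 (flp_h L130002) q4164, e3 q5046 L138717 q6035, e3 q5047 (flp_h L130023) q4167, e3 q5048 L138734 q6037, e3 q5049 (flp_h L130039) q4169, e3 q5050 L138772 q6041, e3 q5051 (flp_h L130058) q4170, e3 q5052 L130071 q4174, e3 q5053 L130080 q4856, e3 q5054 (flp_h L130082) q4172, e3 q5055 (flp_h L138786) q6042, trivial⟩ (by decide +kernel)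

theorem ce_h_79 : ∀ r, r < 64 → sm gh (Qf (5056 + r)) = Qf (tab Gen.h (5056 + r)) :=
  edges_tab (sm gh) Qf (tab Gen.h) 5056 [(5056, 4516), (5057, 6044), (5058, 6045), (5059, 6057), (5060, 5060), (5061, 5061), (5062, 6062), (5063, 5063), (5064, 6066), (5065, 5065), (5066, 6069), (5067, 4180), (5068, 6071), (5069, 5069), (5070, 6075), (5071, 4182), (5072, 5072), (5073, 6078), (5074, 4184), (5075, 6080), (5076, 4186), (5077, 4191), (5078, 4569), (5079, 4193), (5080, 4194), (5081, 6091), (5082, 6081), (5083, 4208), (5084, 6083), (5085, 6084), (5086, 6099), (5087, 6086), (5088, 6087), (5089, 6105), (5090, 6089), (5091, 6108), (5092, 4195), (5093, 5093), (5094, 6111), (5095, 4197), (5096, 5096), (5097, 6113), (5098, 4199), (5099, 6115), (5100, 4202), (5101, 4514), (5102, 4268), (5103, 4452), (5104, 4269), (5105, 6048), (5106, 4209), (5107, 4216), (5108, 4277), (5109, 4218), (5110, 4219), (5111, 6125), (5112, 4221), (5113, 4222), (5114, 6130), (5115, 4224), (5116, 6133), (5117, 4215), (5118,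 4333), (5119, 6135)]
    ⟨e3 q5056 L130105 q4516, e3 q5057 (flp_h L138801) q6044, e3 q5058 (flp_h L138807) q6045, e3 q5059 L138889 q6057, e3 q5060 L130130 q5060, e3 q5061 L130138 q5061, e3 q5062 L138929 q6062, e3 q5063 L130153 q5063, e3 q5064 L138957 q6066, e3 q5065 L130165 q5065, e3 q5066 L138980 q6069, e3 q5067 (flp_h L130174) q4180, e3 q5068 L138994 q6071, e3 q5069 L130194 q5069, e3 q5070 L139023 q6075, e3 q5071 (flp_h L130203) q4182, e3 q5072 L130216 q5072, e3 q5073 L139048 q6078, e3 q5074 (flp_h L130226) q4184, e3 q5075 L139065 q6080, e3 q5076 (flp_h L130246) q4186, e3 q5077 L130262 q4191, e3 q5078 L130273 q4569, e3 q5079 L130281 q4193, e3 q5080 L130289 q4194, e3 q5081 L139185 q6091, e3 q5082 (flp_h L139090) q6081, e3 q5083 L130321 q4208, e3 q5084 (flp_h L139112) q6083, e3 q5085 (flp_h L139126) q6084, e3 q5086 L139275 q6099, e3 q5087 (flp_h L139145) q6086, e3 q5088 (flp_h L139155) q6087, e3 q5089 L139322 q6105, e3 q5090 (flp_h L139174) q6089, e3 q5091 L139348 q6108, e3 q5092 (flp_h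 L130388) q4195, e3 q5093 L130401 q5093, e3 q5094 L139371 q6111, e3 q5095 (flp_h L130412) q4197, e3 q5096 L130430 q5096, e3 q5097 L139390 q6113, e3 q5098 (flp_h L130440) q4199, e3 q5099 L139407 q6115, e3 q5100 (flp_h L130458) q4202, e3 q5101 L130474 q4514, e3 q5102 L130483 q4268, e3 q5103 L130498 q4452, e3 q5104 L130505 q4269, e3 q5105 (flp_h L138835) q6048, e3 q5106 (flp_h L130516) q4209, e3 q5107 L130539 q4216, e3 q5108 L130549 q4277, e3 q5109 L130557 q4218, e3 q5110 L130571 q4219, e3 q5111 L139523 q6125, e3 q5112 L130590 q4221, e3 q5113 L130602 q4222, e3 q5114 L139581 q6130, e3 q5115 L130617 q4224, e3 q5116 L139609 q6133, e3 q5117 (flp_h L130626) q4215, e3 q5118 L130640 q4333, e3 q5119 L139626 q6135, trivial⟩ (by decide +kernel)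

theorem ce_h_80 : ∀ r, r < 64 → sm gh (Qf (5120 + r)) = Qf (tab Gen.h (5120 + r)) :=
  edges_tab (sm gh) Qf (tab Gen.h) 5120 [(5120, 4458), (5121, 4844), (5122, 6139), (5123, 4842), (5124, 6142), (5125, 4220), (5126, 6126), (5127, 4886), (5128, 6147), (5129, 6128), (5130, 6150), (5131, 4223), (5132, 6131), (5133, 6152), (5134, 4225), (5135, 5135), (5136, 6155), (5137, 4228), (5138, 6157), (5139, 4231), (5140, 6153), (5141, 4233), (5142, 4546), (5143, 4547), (5144, 4280), (5145, 4396), (5146, 5962), (5147, 4383), (5148, 6162), (5149, 4243), (5150, 5503), (5151, 4896), (5152, 6168), (5153, 4245), (5154, 4249), (5155, 4566), (5156, 4250), (5157, 4251), (5158, 6169), (5159, 6170), (5160, 6171), (5161, 6173), (5162, 6174), (5163, 5163), (5164, 4806), (5165, 4753), (5166, 4257), (5167, 4263), (5168, 4264), (5169, 4265), (5170, 4559), (5171, 4266), (5172, 4267), (5173, 6082), (5174, 6182), (5175, 6183), (5176, 6186), (5177, 6187), (5178, 6118), (5179, 4278), (5180, 4518), (5181, 4560), (5182,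 4279), (5183, 5990)]
    ⟨e3 q5120 L130663 q4458, e3 q5121 L130675 q4844, e3 q5122 L139673 q6139, e3 q5123 L130698 q4842, e3 q5124 L139709 q6142, e3 q5125 (flp_h L130710) q4220, e3 q5126 (flp_h L139541) q6126, e3 q5127 L130728 q4886, e3 q5128 L139754 q6147, e3 q5129 (flp_h L139563) q6128, e3 q5130 L139782 q6150, e3 q5131 (flp_h L130753) q4223, e3 q5132 (flp_h L139598) q6131, e3 q5133 L139796 q6152, e3 q5134 (flp_h L130773) q4225, e3 q5135 L130783 q5135, e3 q5136 L139820 q6155, e3 q5137 (flp_h L130794) q4228, e3 q5138 L139838 q6157, e3 q5139 (flp_h L130809) q4231, e3 q5140 (flp_h L139806) q6153, e3 q5141 (flp_h L130822) q4233, e3 q5142 L130834 q4546, e3 q5143 L130841 q4547, e3 q5144 L130854 q4280, e3 q5145 L130867 q4396, e3 q5146 (flp_h L137954) q5962, e3 q5147 L130889 q4383, e3 q5148 L139884 q6162, e3 q5149 (flp_h L130900) q4243, e3 q5150 (flp_h L134073) q5503, e3 q5151 L130921 q4896, e3 q5152 L139926 q6168, e3 q5153 (flp_h L130935) q4245, e3 q5154 L130955 q4249, e3 q5155 L130965 q4566,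 e3 q5156 L130972 q4250, e3 q5157 L130979 q4251, e3 q5158 (flp_h L139949) q6169, e3 q5159 (flp_h L139958) q6170, e3 q5160 (flp_h L139967) q6171, e3 q5161 (flp_h L139989) q6173, e3 q5162 (flp_h L139998) q6174, e3 q5163 L131036 q5163, e3 q5164 (flp_h L131048) q4806, e3 q5165 (flp_h L131061) q4753, e3 q5166 (flp_h L131063) q4257, e3 q5167 L131084 q4263, e3 q5168 L131094 q4264, e3 q5169 L131106 q4265, e3 q5170 L131121 q4559, e3 q5171 L131127 q4266, e3 q5172 L131137 q4267, e3 q5173 (flp_h L139102) q6082, e3 q5174 (flp_h L140089) q6182, e3 q5175 (flp_h L140099) q6183, e3 q5176 (flp_h L140138) q6186, e3 q5177 (flp_h L140152) q6187, e3 q5178 (flp_h L139445) q6118, e3 q5179 L131219 q4278, e3 q5180 L131233 q4518, e3 q5181 L131247 q4560, e3 q5182 L131258 q4279, e3 q5183 (flp_h L138218) q5990, trivial⟩ (by decide +kernel)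

theorem ce_h_81 : ∀ r, r < 64 → sm gh (Qf (5184 + r)) = Qf (tab Gen.h (5184 + r)) :=
  edges_tab (sm gh) Qf (tab Gen.h) 5184 [(5184, 6121), (5185, 4281), (5186, 5186), (5187, 4637), (5188, 4638), (5189, 4764), (5190, 5190), (5191, 4765), (5192, 5192), (5193, 5193), (5194, 5194), (5195, 6199), (5196, 5196), (5197, 5197), (5198, 5198), (5199, 6202), (5200, 5200), (5201, 6205), (5202, 4299), (5203, 6206), (5204, 4302), (5205, 5205), (5206, 6208), (5207, 4304), (5208, 6210), (5209, 4306), (5210, 4307), (5211, 6211), (5212, 4354), (5213, 4356), (5214, 4640), (5215, 4422), (5216, 4706), (5217, 4641), (5218, 6224), (5219, 4643), (5220, 6226), (5221, 4314), (5222, 4317), (5223, 4368), (5224, 4442), (5225, 4371), (5226, 6092), (5227, 4439), (5228, 6233), (5229, 4494), (5230, 6234), (5231, 4323), (5232, 5232), (5233, 6238), (5234, 5234), (5235, 6241), (5236, 4328), (5237, 6242), (5238, 4456), (5239, 6244), (5240, 6001), (5241, 6247), (5242, 6248), (5243, 4335), (5244, 4337), (5245, 4852), (5246,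 6249), (5247, 4340)]
    ⟨e3 q5184 (flp_h L139484) q6121, e3 q5185 (flp_h L131284) q4281, e3 q5186 L131309 q5186, e3 q5187 L131316 q4637, e3 q5188 L131328 q4638, e3 q5189 L131341 q4764, e3 q5190 L131354 q5190, e3 q5191 L131365 q4765, e3 q5192 L131377 q5192, e3 q5193 L131390 q5193, e3 q5194 L131398 q5194, e3 q5195 L140277 q6199, e3 q5196 L131419 q5196, e3 q5197 L131432 q5197, e3 q5198 L131441 q5198, e3 q5199 L140319 q6202, e3 q5200 L131465 q5200, e3 q5201 L140360 q6205, e3 q5202 (flp_h L131475) q4299, e3 q5203 L140374 q6206, e3 q5204 (flp_h L131493) q4302, e3 q5205 L131509 q5205, e3 q5206 L140397 q6208, e3 q5207 (flp_h L131520) q4304, e3 q5208 L140423 q6210, e3 q5209 (flp_h L131545) q4306, e3 q5210 (flp_h L131557) q4307, e3 q5211 (flp_h L140448) q6211, e3 q5212 L131589 q4354, e3 q5213 L131604 q4356, e3 q5214 L131614 q4640, e3 q5215 L131628 q4422, e3 q5216 L131642 q4706, e3 q5217 L131651 q4641, e3 q5218 L140586 q6224, e3 q5219 L131670 q4643, e3 q5220 L140609 q6226, e3 q5221 (flp_h L131683)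 q4314, e3 q5222 L131706 q4317, e3 q5223 L131719 q4368, e3 q5224 L131729 q4442, e3 q5225 L131741 q4371, e3 q5226 (flp_h L139203) q6092, e3 q5227 L131757 q4439, e3 q5228 L140680 q6233, e3 q5229 L131779 q4494, e3 q5230 L140688 q6234, e3 q5231 (flp_h L131789) q4323, e3 q5232 L131806 q5232, e3 q5233 L140726 q6238, e3 q5234 L131821 q5234, e3 q5235 L140754 q6241, e3 q5236 (flp_h L131832) q4328, e3 q5237 L140763 q6242, e3 q5238 L131861 q4456, e3 q5239 L140787 q6244, e3 q5240 (flp_h L138340) q6001, e3 q5241 L140817 q6247, e3 q5242 L140823 q6248, e3 q5243 (flp_h L131901) q4335, e3 q5244 (flp_h L131909) q4337, e3 q5245 L131930 q4852, e3 q5246 L140835 q6249, e3 q5247 (flp_h L131938) q4340, trivial⟩ (by decide +kernel)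

theorem ce_h_82 : ∀ r, r < 64 → sm gh (Qf (5248 + r)) = Qf (tab Gen.h (5248 + r)) :=
  edges_tab (sm gh) Qf (tab Gen.h) 5248 [(5248, 5248), (5249, 6251), (5250, 4342), (5251, 6253), (5252, 4346), (5253, 6255), (5254, 4348), (5255, 6258), (5256, 4349), (5257, 4353), (5258, 6212), (5259, 4351), (5260, 6259), (5261, 6214), (5262, 6261), (5263, 6262), (5264, 6274), (5265, 4655), (5266, 4656), (5267, 4709), (5268, 4657), (5269, 6282), (5270, 4659), (5271, 6285), (5272, 4359), (5273, 6287), (5274, 4663), (5275, 6291), (5276, 4361), (5277, 4666), (5278, 6294), (5279, 4363), (5280, 4365), (5281, 4370), (5282, 4446), (5283, 4372), (5284, 4373), (5285, 6305), (5286, 6296), (5287, 6160), (5288, 6298), (5289, 4737), (5290, 6313), (5291, 6300), (5292, 6301), (5293, 6319), (5294, 6303), (5295, 6322), (5296, 4374), (5297, 4671), (5298, 4732), (5299, 4672), (5300, 6326), (5301, 4378), (5302, 6328), (5303, 4381), (5304, 5979), (5305, 5305), (5306, 6332), (5307, 4385), (5308, 5308), (5309, 6334), (5310,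 4387), (5311, 4395)]
    ⟨e3 q5248 L131953 q5248, e3 q5249 L140854 q6251, e3 q5250 (flp_h L131962) q4342, e3 q5251 L140874 q6253, e3 q5252 (flp_h L131979) q4346, e3 q5253 L140896 q6255, e3 q5254 (flp_h L131997) q4348, e3 q5255 L140921 q6258, e3 q5256 (flp_h L132018) q4349, e3 q5257 L132034 q4353, e3 q5258 (flp_h L140462) q6212, e3 q5259 (flp_h L132044) q4351, e3 q5260 (flp_h L140941) q6259, e3 q5261 (flp_h L140488) q6214, e3 q5262 (flp_h L140959) q6261, e3 q5263 (flp_h L140969) q6262, e3 q5264 L141062 q6274, e3 q5265 L132100 q4655, e3 q5266 L132111 q4656, e3 q5267 L132124 q4709, e3 q5268 L132133 q4657, e3 q5269 L141137 q6282, e3 q5270 L132150 q4659, e3 q5271 L141170 q6285, e3 q5272 (flp_h L132162) q4359, e3 q5273 L141189 q6287, e3 q5274 L132189 q4663, e3 q5275 L141224 q6291, e3 q5276 (flp_h L132201) q4361, e3 q5277 L132217 q4666, e3 q5278 L141253 q6294, e3 q5279 (flp_h L132228) q4363, e3 q5280 (flp_h L132239) q4365, e3 q5281 L132256 q4370, e3 q5282 L132267 q4446, e3 q5283 L132273 q4372,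 e3 q5284 L132282 q4373, e3 q5285 L141354 q6305, e3 q5286 (flp_h L141278) q6296, e3 q5287 (flp_h L139872) q6160, e3 q5288 (flp_h L141299) q6298, e3 q5289 L132321 q4737, e3 q5290 L141420 q6313, e3 q5291 (flp_h L141315) q6300, e3 q5292 (flp_h L141325) q6301, e3 q5293 L141461 q6319, e3 q5294 (flp_h L141342) q6303, e3 q5295 L141481 q6322, e3 q5296 (flp_h L132366) q4374, e3 q5297 L132375 q4671, e3 q5298 L132387 q4732, e3 q5299 L132396 q4672, e3 q5300 L141516 q6326, e3 q5301 (flp_h L132407) q4378, e3 q5302 L141539 q6328, e3 q5303 (flp_h L132426) q4381, e3 q5304 (flp_h L138108) q5979, e3 q5305 L132447 q5305, e3 q5306 L141574 q6332, e3 q5307 (flp_h L132459) q4385, e3 q5308 L132474 q5308, e3 q5309 L141595 q6334, e3 q5310 (flp_h L132482) q4387, e3 q5311 L132496 q4395, trivial⟩ (by decide +kernel)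

theorem ce_h_83 : ∀ r, r < 64 → sm gh (Qf (5312 + r)) = Qf (tab Gen.h (5312 + r)) :=
  edges_tab (sm gh) Qf (tab Gen.h) 5312 [(5312, 4461), (5313, 4397), (5314, 6338), (5315, 4400), (5316, 4401), (5317, 6342), (5318, 4403), (5319, 6344), (5320, 4394), (5321, 6000), (5322, 6346), (5323, 4745), (5324, 6348), (5325, 4744), (5326, 6350), (5327, 4399), (5328, 6339), (5329, 6140), (5330, 6354), (5331, 6013), (5332, 6356), (5333, 4402), (5334, 6010), (5335, 6359), (5336, 4404), (5337, 4680), (5338, 4742), (5339, 6362), (5340, 4409), (5341, 6360), (5342, 4411), (5343, 6021), (5344, 6022), (5345, 4414), (5346, 6365), (5347, 4417), (5348, 6357), (5349, 4419), (5350, 6218), (5351, 4421), (5352, 4425), (5353, 4470), (5354, 6216), (5355, 4472), (5356, 6370), (5357, 6213), (5358, 6379), (5359, 4639), (5360, 4652), (5361, 4688), (5362, 6384), (5363, 4689), (5364, 6260), (5365, 4431), (5366, 6387), (5367, 4691), (5368, 6391), (5369, 4433), (5370, 4694), (5371, 6394), (5372, 4435), (5373, 4441), (5374,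 6398), (5375, 6399)]
    ⟨e3 q5312 L132507 q4461, e3 q5313 L132515 q4397, e3 q5314 L141625 q6338, e3 q5315 L132535 q4400, e3 q5316 L132545 q4401, e3 q5317 L141665 q6342, e3 q5318 L132560 q4403, e3 q5319 L141679 q6344, e3 q5320 (flp_h L132572) q4394, e3 q5321 (flp_h L138324) q6000, e3 q5322 L141698 q6346, e3 q5323 L132599 q4745, e3 q5324 L141715 q6348, e3 q5325 L132618 q4744, e3 q5326 L141731 q6350, e3 q5327 (flp_h L132630) q4399, e3 q5328 (flp_h L141644) q6339, e3 q5329 (flp_h L139693) q6140, e3 q5330 L141773 q6354, e3 q5331 (flp_h L138473) q6013, e3 q5332 L141788 q6356, e3 q5333 (flp_h L132675) q4402, e3 q5334 (flp_h L138441) q6010, e3 q5335 L141806 q6359, e3 q5336 (flp_h L132693) q4404, e3 q5337 L132705 q4680, e3 q5338 L132717 q4742, e3 q5339 L141838 q6362, e3 q5340 (flp_h L132728) q4409, e3 q5341 (flp_h L141822) q6360, e3 q5342 (flp_h L132751) q4411, e3 q5343 (flp_h L138559) q6021, e3 q5344 (flp_h L138566) q6022, e3 q5345 (flp_h L132775) q4414, e3 q5346 L141868 q6365, e3 q5347 (flp_h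 L132794) q4417, e3 q5348 (flp_h L141796) q6357, e3 q5349 (flp_h L132807) q4419, e3 q5350 (flp_h L140530) q6218, e3 q5351 (flp_h L132831) q4421, e3 q5352 L132847 q4425, e3 q5353 L132857 q4470, e3 q5354 (flp_h L140506) q6216, e3 q5355 L132875 q4472, e3 q5356 (flp_h L141913) q6370, e3 q5357 (flp_h L140474) q6213, e3 q5358 L141973 q6379, e3 q5359 L132904 q4639, e3 q5360 L132920 q4652, e3 q5361 L132927 q4688, e3 q5362 L142016 q6384, e3 q5363 L132942 q4689, e3 q5364 (flp_h L140953) q6260, e3 q5365 (flp_h L132952) q4431, e3 q5366 L142044 q6387, e3 q5367 L132979 q4691, e3 q5368 L142083 q6391, e3 q5369 (flp_h L132989) q4433, e3 q5370 L133003 q4694, e3 q5371 L142116 q6394, e3 q5372 (flp_h L133014) q4435, e3 q5373 L133029 q4441, e3 q5374 L142155 q6398, e3 q5375 L142165 q6399, trivial⟩ (by decide +kernel)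

theorem ce_h_84 : ∀ r, r < 64 → sm gh (Qf (5376 + r)) = Qf (tab Gen.h (5376 + r)) :=
  edges_tab (sm gh) Qf (tab Gen.h) 5376 [(5376, 6396), (5377, 6228), (5378, 6404), (5379, 6136), (5380, 6406), (5381, 4443), (5382, 6297), (5383, 6407), (5384, 4449), (5385, 4882), (5386, 6119), (5387, 6410), (5388, 4454), (5389, 4455), (5390, 6003), (5391, 6412), (5392, 4457), (5393, 6413), (5394, 4459), (5395, 4462), (5396, 4893), (5397, 4894), (5398, 6415), (5399, 4465), (5400, 5800), (5401, 6369), (5402, 6421), (5403, 4467), (5404, 4471), (5405, 6220), (5406, 4473), (5407, 4474), (5408, 6431), (5409, 6423), (5410, 6424), (5411, 6436), (5412, 6426), (5413, 6427), (5414, 6443), (5415, 6429), (5416, 6446), (5417, 4475), (5418, 4712), (5419, 6450), (5420, 4713), (5421, 6453), (5422, 4478), (5423, 6455), (5424, 4715), (5425, 6459), (5426, 4480), (5427, 4718), (5428, 6462), (5429, 4482), (5430, 6466), (5431, 4484), (5432, 6469), (5433, 4724), (5434, 6471), (5435, 4486), (5436, 5823), (5437, 6474), (5438,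 4489), (5439, 6079)]
    ⟨e3 q5376 (flp_h L142143) q6396, e3 q5377 (flp_h L140640) q6228, e3 q5378 L142204 q6404, e3 q5379 (flp_h L139646) q6136, e3 q5380 L142222 q6406, e3 q5381 (flp_h L133088) q4443, e3 q5382 (flp_h L141289) q6297, e3 q5383 L142228 q6407, e3 q5384 (flp_h L133115) q4449, e3 q5385 L133133 q4882, e3 q5386 (flp_h L139460) q6119, e3 q5387 L142262 q6410, e3 q5388 (flp_h L133152) q4454, e3 q5389 (flp_h L133160) q4455, e3 q5390 (flp_h L138365) q6003, e3 q5391 L142279 q6412, e3 q5392 (flp_h L133180) q4457, e3 q5393 L142285 q6413, e3 q5394 (flp_h L133194) q4459, e3 q5395 (flp_h L133198) q4462, e3 q5396 L133212 q4893, e3 q5397 L133219 q4894, e3 q5398 L142303 q6415, e3 q5399 (flp_h L133232) q4465, e3 q5400 (flp_h L136589) q5800, e3 q5401 (flp_h L141907) q6369, e3 q5402 L142343 q6421, e3 q5403 (flp_h L133265) q4467, e3 q5404 L133277 q4471, e3 q5405 (flp_h L140558) q6220, e3 q5406 L133289 q4473, e3 q5407 L133295 q4474, e3 q5408 L142421 q6431, e3 q5409 (flp_h L142363) q6423, e3 q5410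 (flp_h L142375) q6424, e3 q5411 L142459 q6436, e3 q5412 (flp_h L142391) q6426, e3 q5413 (flp_h L142399) q6427, e3 q5414 L142505 q6443, e3 q5415 (flp_h L142411) q6429, e3 q5416 L142523 q6446, e3 q5417 (flp_h L133357) q4475, e3 q5418 L133369 q4712, e3 q5419 L142554 q6450, e3 q5420 L133384 q4713, e3 q5421 L142583 q6453, e3 q5422 (flp_h L133395) q4478, e3 q5423 L142601 q6455, e3 q5424 L133418 q4715, e3 q5425 L142633 q6459, e3 q5426 (flp_h L133430) q4480, e3 q5427 L133446 q4718, e3 q5428 L142659 q6462, e3 q5429 (flp_h L133456) q4482, e3 q5430 L142686 q6466, e3 q5431 (flp_h L133470) q4484, e3 q5432 L142713 q6469, e3 q5433 L133490 q4724, e3 q5434 L142733 q6471, e3 q5435 (flp_h L133501) q4486, e3 q5436 (flp_h L136752) q5823, e3 q5437 L142771 q6474, e3 q5438 (flp_h L133526) q4489, e3 q5439 (flp_h L139063) q6079, trivial⟩ (by decide +kernel)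

theorem ce_h_85 : ∀ r, r < 64 → sm gh (Qf (5440 + r)) = Qf (tab Gen.h (5440 + r)) :=
  edges_tab (sm gh) Qf (tab Gen.h) 5440 [(5440, 4491), (5441, 6184), (5442, 4498), (5443, 6478), (5444, 4500), (5445, 4501), (5446, 6484), (5447, 4503), (5448, 6487), (5449, 4497), (5450, 6477), (5451, 6490), (5452, 4499), (5453, 6479), (5454, 6480), (5455, 6495), (5456, 6482), (5457, 6498), (5458, 4502), (5459, 6485), (5460, 6500), (5461, 4504), (5462, 4734), (5463, 6503), (5464, 4507), (5465, 6504), (5466, 4510), (5467, 6501), (5468, 4512), (5469, 6116), (5470, 6117), (5471, 5937), (5472, 4527), (5473, 4520), (5474, 4530), (5475, 4531), (5476, 6511), (5477, 4533), (5478, 6513), (5479, 4523), (5480, 4536), (5481, 6515), (5482, 4525), (5483, 6008), (5484, 6517), (5485, 4528), (5486, 6508), (5487, 6520), (5488, 6148), (5489, 6522), (5490, 4532), (5491, 6145), (5492, 6524), (5493, 4534), (5494, 6526), (5495, 4537), (5496, 4544), (5497, 6529), (5498, 4540), (5499, 4542), (5500, 6527), (5501, 6528), (5502,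 4549), (5503, 5150)]
    ⟨e3 q5440 (flp_h L133541) q4491, e3 q5441 (flp_h L140115) q6184, e3 q5442 L133567 q4498, e3 q5443 L142811 q6478, e3 q5444 L133587 q4500, e3 q5445 L133597 q4501, e3 q5446 L142868 q6484, e3 q5447 L133616 q4503, e3 q5448 L142894 q6487, e3 q5449 (flp_h L133626) q4497, e3 q5450 (flp_h L142809) q6477, e3 q5451 L142922 q6490, e3 q5452 (flp_h L133652) q4499, e3 q5453 (flp_h L142827) q6479, e3 q5454 (flp_h L142837) q6480, e3 q5455 L142968 q6495, e3 q5456 (flp_h L142855) q6482, e3 q5457 L142994 q6498, e3 q5458 (flp_h L133704) q4502, e3 q5459 (flp_h L142884) q6485, e3 q5460 L143012 q6500, e3 q5461 (flp_h L133726) q4504, e3 q5462 L133739 q4734, e3 q5463 L143035 q6503, e3 q5464 (flp_h L133752) q4507, e3 q5465 L143046 q6504, e3 q5466 (flp_h L133774) q4510, e3 q5467 (flp_h L143022) q6501, e3 q5468 (flp_h L133792) q4512, e3 q5469 (flp_h L139423) q6116, e3 q5470 (flp_h L139432) q6117, e3 q5471 (flp_h L137730) q5937, e3 q5472 L133840 q4527, e3 q5473 (flp_h L133842) q4520, e3 q5474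 L133856 q4530, e3 q5475 L133864 q4531, e3 q5476 L143115 q6511, e3 q5477 L133880 q4533, e3 q5478 L143130 q6513, e3 q5479 (flp_h L133891) q4523, e3 q5480 L133903 q4536, e3 q5481 L143146 q6515, e3 q5482 (flp_h L133911) q4525, e3 q5483 (flp_h L138417) q6008, e3 q5484 L143162 q6517, e3 q5485 (flp_h L133933) q4528, e3 q5486 (flp_h L143095) q6508, e3 q5487 L143184 q6520, e3 q5488 (flp_h L139769) q6148, e3 q5489 L143198 q6522, e3 q5490 (flp_h L133973) q4532, e3 q5491 (flp_h L139739) q6145, e3 q5492 L143216 q6524, e3 q5493 (flp_h L133995) q4534, e3 q5494 L143228 q6526, e3 q5495 (flp_h L134009) q4537, e3 q5496 L134015 q4544, e3 q5497 L143242 q6529, e3 q5498 (flp_h L134026) q4540, e3 q5499 (flp_h L134037) q4542, e3 q5500 (flp_h L143236) q6527, e3 q5501 (flp_h L143240) q6528, e3 q5502 (flp_h L134059) q4549, e3 q5503 L134073 q5150, trivial⟩ (by decide +kernel)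

theorem ce_h_86 : ∀ r, r < 64 → sm gh (Qf (5504 + r)) = Qf (tab Gen.h (5504 + r)) :=
  edges_tab (sm gh) Qf (tab Gen.h) 5504 [(5504, 4563), (5505, 4564), (5506, 4554), (5507, 4555), (5508, 6172), (5509, 5744), (5510, 6185), (5511, 5513), (5512, 6531), (5513, 5511), (5514, 5851), (5515, 6544), (5516, 4567), (5517, 6164), (5518, 6545), (5519, 4570), (5520, 6043), (5521, 5957), (5522, 5522), (5523, 5523), (5524, 6553), (5525, 6555), (5526, 5526), (5527, 6559), (5528, 4575), (5529, 5529), (5530, 6562), (5531, 4577), (5532, 6565), (5533, 4767), (5534, 6569), (5535, 4580), (5536, 4770), (5537, 6572), (5538, 4582), (5539, 6576), (5540, 4584), (5541, 6579), (5542, 4776), (5543, 6581), (5544, 4586), (5545, 5859), (5546, 6584), (5547, 4589), (5548, 6563), (5549, 5726), (5550, 5725), (5551, 4591), (5552, 6590), (5553, 6591), (5554, 4593), (5555, 6593), (5556, 4595), (5557, 6592), (5558, 5872), (5559, 4598), (5560, 5560), (5561, 5561), (5562, 5562), (5563, 6597), (5564, 5564), (5565, 6600), (5566,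 4603), (5567, 5567)]
    ⟨e3 q5504 L134084 q4563, e3 q5505 L134095 q4564, e3 q5506 L134102 q4554, e3 q5507 L134109 q4555, e3 q5508 (flp_h L139983) q6172, e3 q5509 (flp_h L136167) q5744, e3 q5510 (flp_h L140130) q6185, e3 q5511 (flp_h L134162) q5513, e3 q5512 (flp_h L143271) q6531, e3 q5513 L134162 q5511, e3 q5514 (flp_h L136934) q5851, e3 q5515 L143371 q6544, e3 q5516 L134181 q4567, e3 q5517 (flp_h L139906) q6164, e3 q5518 (flp_h L143381) q6545, e3 q5519 L134208 q4570, e3 q5520 (flp_h L138795) q6043, e3 q5521 (flp_h L137909) q5957, e3 q5522 L134236 q5522, e3 q5523 L134246 q5523, e3 q5524 L143450 q6553, e3 q5525 L143467 q6555, e3 q5526 L134270 q5526, e3 q5527 L143501 q6559, e3 q5528 (flp_h L134281) q4575, e3 q5529 L134298 q5529, e3 q5530 L143531 q6562, e3 q5531 (flp_h L134311) q4577, e3 q5532 L143558 q6565, e3 q5533 L134335 q4767, e3 q5534 L143598 q6569, e3 q5535 (flp_h L134347) q4580, e3 q5536 L134365 q4770, e3 q5537 L143632 q6572, e3 q5538 (flp_h L134379) q4582, e3 q5539 L143666 q6576,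 e3 q5540 (flp_h L134395) q4584, e3 q5541 L143689 q6579, e3 q5542 L134412 q4776, e3 q5543 L143701 q6581, e3 q5544 (flp_h L134423) q4586, e3 q5545 (flp_h L136992) q5859, e3 q5546 L143723 q6584, e3 q5547 (flp_h L134449) q4589, e3 q5548 (flp_h L143549) q6563, e3 q5549 L136015 q5726, e3 q5550 L136005 q5725, e3 q5551 (flp_h L134479) q4591, e3 q5552 L143772 q6590, e3 q5553 L143778 q6591, e3 q5554 (flp_h L134502) q4593, e3 q5555 L143803 q6593, e3 q5556 (flp_h L134515) q4595, e3 q5557 (flp_h L143797) q6592, e3 q5558 (flp_h L137089) q5872, e3 q5559 (flp_h L134537) q4598, e3 q5560 L134556 q5560, e3 q5561 L134562 q5561, e3 q5562 L134573 q5562, e3 q5563 L143842 q6597, e3 q5564 L134589 q5564, e3 q5565 L143867 q6600, e3 q5566 (flp_h L134599) q4603, e3 q5567 L134614 q5567, trivial⟩ (by decide +kernel)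

theorem ce_h_87 : ∀ r, r < 64 → sm gh (Qf (5568 + r)) = Qf (tab Gen.h (5568 + r)) :=
  edges_tab (sm gh) Qf (tab Gen.h) 5568 [(5568, 6602), (5569, 4605), (5570, 6604), (5571, 4608), (5572, 4615), (5573, 6607), (5574, 4611), (5575, 4916), (5576, 4613), (5577, 6605), (5578, 6606), (5579, 5579), (5580, 5580), (5581, 6613), (5582, 4621), (5583, 5583), (5584, 6615), (5585, 4623), (5586, 6617), (5587, 4626), (5588, 6525), (5589, 4628), (5590, 4635), (5591, 4636), (5592, 4631), (5593, 4921), (5594, 4922), (5595, 6192), (5596, 5684), (5597, 6222), (5598, 5688), (5599, 4642), (5600, 4644), (5601, 5601), (5602, 4648), (5603, 5603), (5604, 6380), (5605, 4653), (5606, 4654), (5607, 6625), (5608, 6626), (5609, 6275), (5610, 6277), (5611, 6634), (5612, 6280), (5613, 6638), (5614, 4658), (5615, 6283), (5616, 6641), (5617, 4660), (5618, 6644), (5619, 4662), (5620, 5644), (5621, 6289), (5622, 6647), (5623, 4664), (5624, 5624), (5625, 6648), (5626, 4667), (5627, 5627), (5628, 4670), (5629, 6650), (5630,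 6323), (5631, 6651)]
    ⟨e3 q5568 L143887 q6602, e3 q5569 (flp_h L134626) q4605, e3 q5570 L143904 q6604, e3 q5571 (flp_h L134648) q4608, e3 q5572 L134664 q4615, e3 q5573 L143933 q6607, e3 q5574 (flp_h L134677) q4611, e3 q5575 L134695 q4916, e3 q5576 (flp_h L134697) q4613, e3 q5577 (flp_h L143921) q6605, e3 q5578 (flp_h L143930) q6606, e3 q5579 L134728 q5579, e3 q5580 L134738 q5580, e3 q5581 L143987 q6613, e3 q5582 (flp_h L134749) q4621, e3 q5583 L134764 q5583, e3 q5584 L144007 q6615, e3 q5585 (flp_h L134775) q4623, e3 q5586 L144023 q6617, e3 q5587 (flp_h L134794) q4626, e3 q5588 (flp_h L143226) q6525, e3 q5589 (flp_h L134807) q4628, e3 q5590 L134822 q4635, e3 q5591 L134829 q4636, e3 q5592 (flp_h L134832) q4631, e3 q5593 L134849 q4921, e3 q5594 L134856 q4922, e3 q5595 (flp_h L140208) q6192, e3 q5596 L135629 q5684, e3 q5597 (flp_h L140575) q6222, e3 q5598 (flp_h L135668) q5688, e3 q5599 (flp_h L134894) q4642, e3 q5600 (flp_h L134905) q4644, e3 q5601 L134921 q5601, e3 q5602 (flp_h L134922)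 q4648, e3 q5603 L134939 q5603, e3 q5604 (flp_h L141993) q6380, e3 q5605 L134955 q4653, e3 q5606 L134967 q4654, e3 q5607 (flp_h L144100) q6625, e3 q5608 (flp_h L144108) q6626, e3 q5609 (flp_h L141077) q6275, e3 q5610 (flp_h L141097) q6277, e3 q5611 L144190 q6634, e3 q5612 (flp_h L141124) q6280, e3 q5613 L144228 q6638, e3 q5614 (flp_h L135040) q4658, e3 q5615 (flp_h L141158) q6283, e3 q5616 L144265 q6641, e3 q5617 (flp_h L135071) q4660, e3 q5618 L144293 q6644, e3 q5619 (flp_h L135089) q4662, e3 q5620 (flp_h L135350) q5644, e3 q5621 (flp_h L141212) q6289, e3 q5622 L144325 q6647, e3 q5623 (flp_h L135124) q4664, e3 q5624 L135140 q5624, e3 q5625 L144334 q6648, e3 q5626 (flp_h L135151) q4667, e3 q5627 L135166 q5627, e3 q5628 L135173 q4670, e3 q5629 (flp_h L144359) q6650, e3 q5630 (flp_h L141493) q6323, e3 q5631 L144363 q6651, trivial⟩ (by decide +kernel)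

theorem ce_h_88 : ∀ r, r < 64 → sm gh (Qf (5632 + r)) = Qf (tab Gen.h (5632 + r)) :=
  edges_tab (sm gh) Qf (tab Gen.h) 5632 [(5632, 4673), (5633, 4675), (5634, 5634), (5635, 5635), (5636, 4679), (5637, 4681), (5638, 5638), (5639, 4705), (5640, 6655), (5641, 6382), (5642, 6658), (5643, 4690), (5644, 5620), (5645, 6389), (5646, 6661), (5647, 4692), (5648, 5648), (5649, 6662), (5650, 4695), (5651, 5651), (5652, 4697), (5653, 5653), (5654, 5654), (5655, 5655), (5656, 6219), (5657, 5657), (5658, 5658), (5659, 6670), (5660, 4710), (5661, 6276), (5662, 4711), (5663, 6278), (5664, 6677), (5665, 6672), (5666, 6674), (5667, 6680), (5668, 6448), (5669, 6451), (5670, 6684), (5671, 4714), (5672, 6687), (5673, 6457), (5674, 6689), (5675, 4716), (5676, 5676), (5677, 6692), (5678, 4719), (5679, 6267), (5680, 5681), (5681, 5680), (5682, 4721), (5683, 6698), (5684, 5596), (5685, 4723), (5686, 6699), (5687, 4725), (5688, 5598), (5689, 5689), (5690, 4728), (5691, 5691), (5692, 5692), (5693, 4733), (5694,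 6324), (5695, 4735)]
    ⟨e3 q5632 (flp_h L135214) q4673, e3 q5633 (flp_h L135223) q4675, e3 q5634 L135237 q5634, e3 q5635 L135243 q5635, e3 q5636 L135252 q4679, e3 q5637 (flp_h L135256) q4681, e3 q5638 L135278 q5638, e3 q5639 L135286 q4705, e3 q5640 L144411 q6655, e3 q5641 (flp_h L142005) q6382, e3 q5642 L144433 q6658, e3 q5643 (flp_h L135313) q4690, e3 q5644 L135350 q5620, e3 q5645 (flp_h L142073) q6389, e3 q5646 L144469 q6661, e3 q5647 (flp_h L135340) q4692, e3 q5648 L135362 q5648, e3 q5649 L144478 q6662, e3 q5650 (flp_h L135371) q4695, e3 q5651 L135386 q5651, e3 q5652 (flp_h L135387) q4697, e3 q5653 L135401 q5653, e3 q5654 L135409 q5654, e3 q5655 L135419 q5655, e3 q5656 (flp_h L140546) q6219, e3 q5657 L135431 q5657, e3 q5658 L135439 q5658, e3 q5659 L144537 q6670, e3 q5660 L135452 q4710, e3 q5661 (flp_h L141089) q6276, e3 q5662 L135464 q4711, e3 q5663 (flp_h L141110) q6278, e3 q5664 L144582 q6677, e3 q5665 (flp_h L144551) q6672, e3 q5666 (flp_h L144566) q6674, e3 q5667 L144600 q6680,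 e3 q5668 (flp_h L142541) q6448, e3 q5669 (flp_h L142572) q6451, e3 q5670 L144637 q6684, e3 q5671 (flp_h L135519) q4714, e3 q5672 L144660 q6687, e3 q5673 (flp_h L142621) q6457, e3 q5674 L144675 q6689, e3 q5675 (flp_h L135549) q4716, e3 q5676 L135563 q5676, e3 q5677 L144696 q6692, e3 q5678 (flp_h L135572) q4719, e3 q5679 (flp_h L141014) q6267, e3 q5680 L135598 q5681, e3 q5681 (flp_h L135598) q5680, e3 q5682 (flp_h L135600) q4721, e3 q5683 L144745 q6698, e3 q5684 (flp_h L135629) q5596, e3 q5685 (flp_h L135631) q4723, e3 q5686 L144758 q6699, e3 q5687 (flp_h L135653) q4725, e3 q5688 L135668 q5598, e3 q5689 L135683 q5689, e3 q5690 (flp_h L135688) q4728, e3 q5691 L135701 q5691, e3 q5692 L135709 q5692, e3 q5693 L135720 q4733, e3 q5694 (flp_h L141505) q6324, e3 q5695 (flp_h L135730) q4735, trivial⟩ (by decide +kernel)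

theorem ce_h_89 : ∀ r, r < 64 → sm gh (Qf (5696 + r)) = Qf (tab Gen.h (5696 + r)) :=
  edges_tab (sm gh) Qf (tab Gen.h) 5696 [(5696, 6311), (5697, 6309), (5698, 5698), (5699, 6361), (5700, 5700), (5701, 4760), (5702, 5702), (5703, 5703), (5704, 6708), (5705, 5705), (5706, 5706), (5707, 5707), (5708, 6193), (5709, 5709), (5710, 6710), (5711, 5711), (5712, 6713), (5713, 4762), (5714, 6194), (5715, 6716), (5716, 4766), (5717, 6719), (5718, 6567), (5719, 6721), (5720, 4768), (5721, 5721), (5722, 6724), (5723, 4771), (5724, 5724), (5725, 5550), (5726, 5549), (5727, 4773), (5728, 6730), (5729, 6731), (5730, 4775), (5731, 6733), (5732, 4777), (5733, 6732), (5734, 5734), (5735, 4780), (5736, 5736), (5737, 5737), (5738, 6181), (5739, 6738), (5740, 6739), (5741, 4786), (5742, 4787), (5743, 4789), (5744, 5509), (5745, 4796), (5746, 5746), (5747, 5747), (5748, 5748), (5749, 4807), (5750, 4808), (5751, 4813), (5752, 4815), (5753, 5934), (5754, 6744), (5755, 6745), (5756, 6752), (5757, 5757), (5758,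 6756), (5759, 5759)]
    ⟨e3 q5696 (flp_h L141408) q6311, e3 q5697 (flp_h L141389) q6309, e3 q5698 L135761 q5698, e3 q5699 (flp_h L141836) q6361, e3 q5700 L135783 q5700, e3 q5701 L135791 q4760, e3 q5702 L135799 q5702, e3 q5703 L135807 q5703, e3 q5704 L144854 q6708, e3 q5705 L135826 q5705, e3 q5706 L135838 q5706, e3 q5707 L135853 q5707, e3 q5708 (flp_h L140222) q6193, e3 q5709 L135872 q5709, e3 q5710 L144871 q6710, e3 q5711 L135887 q5711, e3 q5712 L144893 q6713, e3 q5713 (flp_h L135895) q4762, e3 q5714 (flp_h L140233) q6194, e3 q5715 L144922 q6716, e3 q5716 (flp_h L135919) q4766, e3 q5717 L144947 q6719, e3 q5718 (flp_h L143586) q6567, e3 q5719 L144964 q6721, e3 q5720 (flp_h L135951) q4768, e3 q5721 L135967 q5721, e3 q5722 L144986 q6724, e3 q5723 (flp_h L135979) q4771, e3 q5724 L135995 q5724, e3 q5725 (flp_h L136005) q5550, e3 q5726 (flp_h L136015) q5549, e3 q5727 (flp_h L136017) q4773, e3 q5728 L145042 q6730, e3 q5729 L145048 q6731, e3 q5730 (flp_h L136040) q4775, e3 q5731 L145060 q6733,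 e3 q5732 (flp_h L136054) q4777, e3 q5733 (flp_h L145058) q6732, e3 q5734 L136070 q5734, e3 q5735 (flp_h L136073) q4780, e3 q5736 L136091 q5736, e3 q5737 L136100 q5737, e3 q5738 L140076 q6181, e3 q5739 L145100 q6738, e3 q5740 L145112 q6739, e3 q5741 (flp_h L136130) q4786, e3 q5742 (flp_h L136139) q4787, e3 q5743 (flp_h L136152) q4789, e3 q5744 L136167 q5509, e3 q5745 (flp_h L136171) q4796, e3 q5746 L136186 q5746, e3 q5747 L136194 q5747, e3 q5748 L136198 q5748, e3 q5749 (flp_h L136199) q4807, e3 q5750 (flp_h L136210) q4808, e3 q5751 (flp_h L136224) q4813, e3 q5752 L136238 q4815, e3 q5753 (flp_h L137699) q5934, e3 q5754 (flp_h L145166) q6744, e3 q5755 (flp_h L145174) q6745, e3 q5756 L145223 q6752, e3 q5757 L136276 q5757, e3 q5758 L145255 q6756, e3 q5759 L136294 q5759, trivial⟩ (by decide +kernel)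

theorem ce_h_90 : ∀ r, r < 64 → sm gh (Qf (5760 + r)) = Qf (tab Gen.h (5760 + r)) :=
  edges_tab (sm gh) Qf (tab Gen.h) 5760 [(5760, 6759), (5761, 4819), (5762, 6761), (5763, 5763), (5764, 6765), (5765, 4821), (5766, 5766), (5767, 6768), (5768, 4823), (5769, 4827), (5770, 4828), (5771, 6773), (5772, 6770), (5773, 6097), (5774, 6777), (5775, 6095), (5776, 6779), (5777, 4829), (5778, 5778), (5779, 6781), (5780, 4831), (5781, 6783), (5782, 4834), (5783, 6235), (5784, 6786), (5785, 4837), (5786, 6788), (5787, 6789), (5788, 4841), (5789, 6790), (5790, 4843), (5791, 6792), (5792, 4845), (5793, 6794), (5794, 4848), (5795, 6793), (5796, 4850), (5797, 6201), (5798, 6200), (5799, 6791), (5800, 5400), (5801, 6039), (5802, 4857), (5803, 4858), (5804, 6805), (5805, 6801), (5806, 6809), (5807, 6803), (5808, 6812), (5809, 4859), (5810, 6814), (5811, 5811), (5812, 6818), (5813, 4861), (5814, 5814), (5815, 6821), (5816, 4863), (5817, 6825), (5818, 4865), (5819, 6828), (5820, 5820), (5821, 6830), (5822,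 4867), (5823, 5436)]
    ⟨e3 q5760 L145284 q6759, e3 q5761 (flp_h L136305) q4819, e3 q5762 L145300 q6761, e3 q5763 L136329 q5763, e3 q5764 L145345 q6765, e3 q5765 (flp_h L136340) q4821, e3 q5766 L136355 q5766, e3 q5767 L145378 q6768, e3 q5768 (flp_h L136365) q4823, e3 q5769 L136379 q4827, e3 q5770 L136386 q4828, e3 q5771 L145418 q6773, e3 q5772 (flp_h L145402) q6770, e3 q5773 (flp_h L139261) q6097, e3 q5774 L145444 q6777, e3 q5775 (flp_h L139236) q6095, e3 q5776 L145458 q6779, e3 q5777 (flp_h L136428) q4829, e3 q5778 L136439 q5778, e3 q5779 L145473 q6781, e3 q5780 (flp_h L136449) q4831, e3 q5781 L145488 q6783, e3 q5782 (flp_h L136465) q4834, e3 q5783 (flp_h L140709) q6235, e3 q5784 L145515 q6786, e3 q5785 (flp_h L136486) q4837, e3 q5786 L145528 q6788, e3 q5787 L145534 q6789, e3 q5788 (flp_h L136506) q4841, e3 q5789 L145542 q6790, e3 q5790 (flp_h L136519) q4843, e3 q5791 L145552 q6792, e3 q5792 (flp_h L136531) q4845, e3 q5793 L145564 q6794, e3 q5794 (flp_h L136546) q4848, e3 q5795 (flp_h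 L145562) q6793, e3 q5796 (flp_h L136561) q4850, e3 q5797 L140317 q6201, e3 q5798 L140301 q6200, e3 q5799 (flp_h L145550) q6791, e3 q5800 L136589 q5400, e3 q5801 (flp_h L138758) q6039, e3 q5802 L136600 q4857, e3 q5803 L136606 q4858, e3 q5804 L145632 q6805, e3 q5805 (flp_h L145612) q6801, e3 q5806 L145654 q6809, e3 q5807 (flp_h L145623) q6803, e3 q5808 L145672 q6812, e3 q5809 (flp_h L136639) q4859, e3 q5810 L145684 q6814, e3 q5811 L136655 q5811, e3 q5812 L145718 q6818, e3 q5813 (flp_h L136666) q4861, e3 q5814 L136681 q5814, e3 q5815 L145744 q6821, e3 q5816 (flp_h L136690) q4863, e3 q5817 L145771 q6825, e3 q5818 (flp_h L136703) q4865, e3 q5819 L145800 q6828, e3 q5820 L136726 q5820, e3 q5821 L145824 q6830, e3 q5822 (flp_h L136736) q4867, e3 q5823 L136752 q5436, trivial⟩ (by decide +kernel)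

theorem ce_h_91 : ∀ r, r < 64 → sm gh (Qf (5824 + r)) = Qf (tab Gen.h (5824 + r)) :=
  edges_tab (sm gh) Qf (tab Gen.h) 5824 [(5824, 6833), (5825, 4870), (5826, 6395), (5827, 4874), (5828, 6837), (5829, 4873), (5830, 6143), (5831, 6839), (5832, 4875), (5833, 6841), (5834, 4878), (5835, 6840), (5836, 4880), (5837, 6408), (5838, 6409), (5839, 6848), (5840, 4884), (5841, 6850), (5842, 4887), (5843, 4891), (5844, 4889), (5845, 6851), (5846, 6852), (5847, 6204), (5848, 6024), (5849, 6023), (5850, 5922), (5851, 5514), (5852, 6860), (5853, 6863), (5854, 4897), (5855, 6866), (5856, 5856), (5857, 6868), (5858, 4899), (5859, 5545), (5860, 6871), (5861, 4902), (5862, 6573), (5863, 6715), (5864, 6714), (5865, 4904), (5866, 6877), (5867, 6878), (5868, 4906), (5869, 6880), (5870, 4908), (5871, 6879), (5872, 5558), (5873, 4911), (5874, 5874), (5875, 5875), (5876, 4914), (5877, 6608), (5878, 6609), (5879, 5879), (5880, 5880), (5881, 5881), (5882, 5882), (5883, 5912), (5884, 6017), (5885, 5914), (5886,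 6154), (5887, 5887)]
    ⟨e3 q5824 L145861 q6833, e3 q5825 (flp_h L136761) q4870, e3 q5826 (flp_h L142135) q6395, e3 q5827 L136779 q4874, e3 q5828 L145897 q6837, e3 q5829 (flp_h L136788) q4873, e3 q5830 (flp_h L139721) q6143, e3 q5831 L145913 q6839, e3 q5832 (flp_h L136808) q4875, e3 q5833 L145925 q6841, e3 q5834 (flp_h L136824) q4878, e3 q5835 (flp_h L145923) q6840, e3 q5836 (flp_h L136840) q4880, e3 q5837 (flp_h L142246) q6408, e3 q5838 (flp_h L142255) q6409, e3 q5839 L145986 q6848, e3 q5840 (flp_h L136870) q4884, e3 q5841 L145997 q6850, e3 q5842 (flp_h L136882) q4887, e3 q5843 L136888 q4891, e3 q5844 (flp_h L136890) q4889, e3 q5845 (flp_h L146005) q6851, e3 q5846 (flp_h L146009) q6852, e3 q5847 L140358 q6204, e3 q5848 L138596 q6024, e3 q5849 L138581 q6023, e3 q5850 L137578 q5922, e3 q5851 L136934 q5514, e3 q5852 L146065 q6860, e3 q5853 L146082 q6863, e3 q5854 (flp_h L136947) q4897, e3 q5855 L146101 q6866, e3 q5856 L136967 q5856, e3 q5857 L146115 q6868, e3 q5858 (flp_h L136977) q4899,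 e3 q5859 L136992 q5545, e3 q5860 L146136 q6871, e3 q5861 (flp_h L137003) q4902, e3 q5862 (flp_h L143652) q6573, e3 q5863 L144920 q6715, e3 q5864 (flp_h L144908) q6714, e3 q5865 (flp_h L137033) q4904, e3 q5866 L146183 q6877, e3 q5867 L146189 q6878, e3 q5868 (flp_h L137056) q4906, e3 q5869 L146216 q6880, e3 q5870 (flp_h L137071) q4908, e3 q5871 (flp_h L146212) q6879, e3 q5872 L137089 q5558, e3 q5873 (flp_h L137092) q4911, e3 q5874 L137109 q5874, e3 q5875 L137115 q5875, e3 q5876 (flp_h L137117) q4914, e3 q5877 (flp_h L143952) q6608, e3 q5878 (flp_h L143961) q6609, e3 q5879 L137147 q5879, e3 q5880 L137154 q5880, e3 q5881 L137160 q5881, e3 q5882 L137167 q5882, e3 q5883 L137449 q5912, e3 q5884 L138518 q6017, e3 q5885 L137476 q5914, e3 q5886 L139818 q6154, e3 q5887 L137197 q5887, trivial⟩ (by decide +kernel)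

theorem ce_h_92 : ∀ r, r < 64 → sm gh (Qf (5888 + r)) = Qf (tab Gen.h (5888 + r)) :=
  edges_tab (sm gh) Qf (tab Gen.h) 5888 [(5888, 5888), (5889, 5889), (5890, 5890), (5891, 5891), (5892, 5892), (5893, 5893), (5894, 6902), (5895, 5895), (5896, 6883), (5897, 5897), (5898, 6882), (5899, 4932), (5900, 6906), (5901, 5901), (5902, 6908), (5903, 4937), (5904, 5904), (5905, 6910), (5906, 4939), (5907, 6911), (5908, 5908), (5909, 6914), (5910, 4944), (5911, 4945), (5912, 5883), (5913, 4947), (5914, 5885), (5915, 4950), (5916, 5916), (5917, 4952), (5918, 5918), (5919, 6916), (5920, 4954), (5921, 6857), (5922, 5850), (5923, 4958), (5924, 5924), (5925, 6918), (5926, 4960), (5927, 6919), (5928, 4963), (5929, 5929), (5930, 4965), (5931, 6922), (5932, 4966), (5933, 4970), (5934, 5753), (5935, 4968), (5936, 6923), (5937, 5471), (5938, 6925), (5939, 6926), (5940, 6938), (5941, 5941), (5942, 6940), (5943, 5943), (5944, 6944), (5945, 5945), (5946, 6947), (5947, 4976), (5948, 6827), (5949, 5949), (5950,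 6831), (5951, 4978)]
    ⟨e3 q5888 L137204 q5888, e3 q5889 L137210 q5889, e3 q5890 L137217 q5890, e3 q5891 L137225 q5891, e3 q5892 L137239 q5892, e3 q5893 L137247 q5893, e3 q5894 L146437 q6902, e3 q5895 L137267 q5895, e3 q5896 (flp_h L146252) q6883, e3 q5897 L137282 q5897, e3 q5898 (flp_h L146235) q6882, e3 q5899 (flp_h L137292) q4932, e3 q5900 L146472 q6906, e3 q5901 L137321 q5901, e3 q5902 L146501 q6908, e3 q5903 (flp_h L137338) q4937, e3 q5904 L137357 q5904, e3 q5905 L146530 q6910, e3 q5906 (flp_h L137368) q4939, e3 q5907 L146545 q6911, e3 q5908 L137401 q5908, e3 q5909 L146582 q6914, e3 q5910 (flp_h L137415) q4944, e3 q5911 (flp_h L137424) q4945, e3 q5912 (flp_h L137449) q5883, e3 q5913 (flp_h L137451) q4947, e3 q5914 (flp_h L137476) q5885, e3 q5915 (flp_h L137478) q4950, e3 q5916 L137500 q5916, e3 q5917 (flp_h L137501) q4952, e3 q5918 L137526 q5918, e3 q5919 L146609 q6916, e3 q5920 (flp_h L137540) q4954, e3 q5921 (flp_h L146044) q6857, e3 q5922 (flp_h L137578) q5850, e3 q5923 (flp_h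 L137580) q4958, e3 q5924 L137602 q5924, e3 q5925 L146636 q6918, e3 q5926 (flp_h L137616) q4960, e3 q5927 L146651 q6919, e3 q5928 (flp_h L137633) q4963, e3 q5929 L137646 q5929, e3 q5930 (flp_h L137647) q4965, e3 q5931 L146680 q6922, e3 q5932 (flp_h L137671) q4966, e3 q5933 L137688 q4970, e3 q5934 L137699 q5753, e3 q5935 (flp_h L137701) q4968, e3 q5936 (flp_h L146700) q6923, e3 q5937 L137730 q5471, e3 q5938 (flp_h L146719) q6925, e3 q5939 (flp_h L146727) q6926, e3 q5940 L146831 q6938, e3 q5941 L137764 q5941, e3 q5942 L146853 q6940, e3 q5943 L137784 q5943, e3 q5944 L146886 q6944, e3 q5945 L137799 q5945, e3 q5946 L146916 q6947, e3 q5947 (flp_h L137810) q4976, e3 q5948 L145798 q6827, e3 q5949 L137834 q5949, e3 q5950 (flp_h L145841) q6831, e3 q5951 (flp_h L137844) q4978, trivial⟩ (by decide +kernel)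

theorem ce_h_93 : ∀ r, r < 64 → sm gh (Qf (5952 + r)) = Qf (tab Gen.h (5952 + r)) :=
  edges_tab (sm gh) Qf (tab Gen.h) 5952 [(5952, 5952), (5953, 6952), (5954, 4980), (5955, 4982), (5956, 4987), (5957, 5521), (5958, 4989), (5959, 4990), (5960, 6963), (5961, 6953), (5962, 5146), (5963, 6955), (5964, 6956), (5965, 6970), (5966, 6958), (5967, 6959), (5968, 6976), (5969, 6961), (5970, 6979), (5971, 4991), (5972, 6980), (5973, 4993), (5974, 5974), (5975, 6982), (5976, 4995), (5977, 6984), (5978, 4998), (5979, 5304), (5980, 5980), (5981, 5981), (5982, 6989), (5983, 5983), (5984, 6992), (5985, 5003), (5986, 5986), (5987, 6994), (5988, 5005), (5989, 5013), (5990, 5183), (5991, 5015), (5992, 5016), (5993, 6999), (5994, 5018), (5995, 5019), (5996, 7003), (5997, 5021), (5998, 7005), (5999, 5012), (6000, 5321), (6001, 5240), (6002, 7008), (6003, 5390), (6004, 7011), (6005, 7012), (6006, 5017), (6007, 7000), (6008, 5483), (6009, 7016), (6010, 5334), (6011, 7018), (6012, 5020), (6013, 5331), (6014,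 7021), (6015, 5022)]
    ⟨e3 q5952 L137860 q5952, e3 q5953 L146960 q6952, e3 q5954 (flp_h L137872) q4980, e3 q5955 (flp_h L137882) q4982, e3 q5956 L137899 q4987, e3 q5957 L137909 q5521, e3 q5958 L137917 q4989, e3 q5959 L137924 q4990, e3 q5960 L147080 q6963, e3 q5961 (flp_h L146979) q6953, e3 q5962 L137954 q5146, e3 q5963 (flp_h L147004) q6955, e3 q5964 (flp_h L147017) q6956, e3 q5965 L147161 q6970, e3 q5966 (flp_h L147035) q6958, e3 q5967 (flp_h L147045) q6959, e3 q5968 L147219 q6976, e3 q5969 (flp_h L147067) q6961, e3 q5970 L147251 q6979, e3 q5971 (flp_h L138028) q4991, e3 q5972 L147257 q6980, e3 q5973 (flp_h L138048) q4993, e3 q5974 L138066 q5974, e3 q5975 L147284 q6982, e3 q5976 (flp_h L138077) q4995, e3 q5977 L147304 q6984, e3 q5978 (flp_h L138093) q4998, e3 q5979 L138108 q5304, e3 q5980 L138118 q5980, e3 q5981 L138131 q5981, e3 q5982 L147367 q6989, e3 q5983 L138151 q5983, e3 q5984 L147403 q6992, e3 q5985 (flp_h L138162) q5003, e3 q5986 L138175 q5986, e3 q5987 L147424 q6994, e3 q5988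 (flp_h L138184) q5005, e3 q5989 L138203 q5013, e3 q5990 L138218 q5183, e3 q5991 L138226 q5015, e3 q5992 L138241 q5016, e3 q5993 L147480 q6999, e3 q5994 L138261 q5018, e3 q5995 L138275 q5019, e3 q5996 L147530 q7003, e3 q5997 L138295 q5021, e3 q5998 L147551 q7005, e3 q5999 (flp_h L138308) q5012, e3 q6000 L138324 q5321, e3 q6001 L138340 q5240, e3 q6002 L147586 q7008, e3 q6003 L138365 q5390, e3 q6004 L147624 q7011, e3 q6005 L147632 q7012, e3 q6006 (flp_h L138393) q5017, e3 q6007 (flp_h L147501) q7000, e3 q6008 L138417 q5483, e3 q6009 L147682 q7016, e3 q6010 L138441 q5334, e3 q6011 L147704 q7018, e3 q6012 (flp_h L138457) q5020, e3 q6013 L138473 q5331, e3 q6014 L147736 q7021, e3 q6015 (flp_h L138487) q5022, trivial⟩ (by decide +kernel)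

theorem ce_h_94 : ∀ r, r < 64 → sm gh (Qf (6016 + r)) = Qf (tab Gen.h (6016 + r)) :=
  edges_tab (sm gh) Qf (tab Gen.h) 6016 [(6016, 5024), (6017, 5884), (6018, 5027), (6019, 7022), (6020, 5029), (6021, 5343), (6022, 5344), (6023, 5849), (6024, 5848), (6025, 5034), (6026, 6026), (6027, 7026), (6028, 5036), (6029, 7029), (6030, 5039), (6031, 7019), (6032, 5041), (6033, 7032), (6034, 5044), (6035, 5046), (6036, 7034), (6037, 5048), (6038, 6368), (6039, 5801), (6040, 7040), (6041, 5050), (6042, 5055), (6043, 5520), (6044, 5057), (6045, 5058), (6046, 7051), (6047, 7041), (6048, 5105), (6049, 7043), (6050, 7044), (6051, 7060), (6052, 7046), (6053, 7047), (6054, 7067), (6055, 7049), (6056, 7070), (6057, 5059), (6058, 6058), (6059, 7074), (6060, 6060), (6061, 7077), (6062, 5062), (6063, 7079), (6064, 6064), (6065, 7083), (6066, 5064), (6067, 6067), (6068, 7086), (6069, 5066), (6070, 7090), (6071, 5068), (6072, 6762), (6073, 6073), (6074, 7093), (6075, 5070), (6076, 6392), (6077, 7094), (6078,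 5073), (6079, 5439)]
    ⟨e3 q6016 (flp_h L138493) q5024, e3 q6017 (flp_h L138518) q5884, e3 q6018 (flp_h L138520) q5027, e3 q6019 (flp_h L147750) q7022, e3 q6020 (flp_h L138540) q5029, e3 q6021 L138559 q5343, e3 q6022 L138566 q5344, e3 q6023 (flp_h L138581) q5849, e3 q6024 (flp_h L138596) q5848, e3 q6025 (flp_h L138598) q5034, e3 q6026 L138629 q6026, e3 q6027 (flp_h L147795) q7026, e3 q6028 (flp_h L138642) q5036, e3 q6029 L147823 q7029, e3 q6030 (flp_h L138661) q5039, e3 q6031 (flp_h L147720) q7019, e3 q6032 (flp_h L138677) q5041, e3 q6033 L147856 q7032, e3 q6034 (flp_h L138706) q5044, e3 q6035 (flp_h L138717) q5046, e3 q6036 L147882 q7034, e3 q6037 (flp_h L138734) q5048, e3 q6038 (flp_h L141895) q6368, e3 q6039 L138758 q5801, e3 q6040 L147928 q7040, e3 q6041 (flp_h L138772) q5050, e3 q6042 L138786 q5055, e3 q6043 L138795 q5520, e3 q6044 L138801 q5057, e3 q6045 L138807 q5058, e3 q6046 L148024 q7051, e3 q6047 (flp_h L147951) q7041, e3 q6048 L138835 q5105, e3 q6049 (flp_h L147967) q7043,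 e3 q6050 (flp_h L147975) q7044, e3 q6051 L148107 q7060, e3 q6052 (flp_h L147992) q7046, e3 q6053 (flp_h L148000) q7047, e3 q6054 L148151 q7067, e3 q6055 (flp_h L148013) q7049, e3 q6056 L148175 q7070, e3 q6057 (flp_h L138889) q5059, e3 q6058 L138904 q6058, e3 q6059 L148204 q7074, e3 q6060 L138919 q6060, e3 q6061 L148232 q7077, e3 q6062 (flp_h L138929) q5062, e3 q6063 L148246 q7079, e3 q6064 L138947 q6064, e3 q6065 L148272 q7083, e3 q6066 (flp_h L138957) q5064, e3 q6067 L138971 q6067, e3 q6068 L148296 q7086, e3 q6069 (flp_h L138980) q5066, e3 q6070 L148325 q7090, e3 q6071 (flp_h L138994) q5068, e3 q6072 (flp_h L145325) q6762, e3 q6073 L139014 q6073, e3 q6074 L148350 q7093, e3 q6075 (flp_h L139023) q5070, e3 q6076 (flp_h L142105) q6392, e3 q6077 L148358 q7094, e3 q6078 (flp_h L139048) q5073, e3 q6079 L139063 q5439, trivial⟩ (by decide +kernel)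

theorem ce_h_95 : ∀ r, r < 64 → sm gh (Qf (6080 + r)) = Qf (tab Gen.h (6080 + r)) :=
  edges_tab (sm gh) Qf (tab Gen.h) 6080 [(6080, 5075), (6081, 5082), (6082, 5173), (6083, 5084), (6084, 5085), (6085, 7101), (6086, 5087), (6087, 5088), (6088, 7107), (6089, 5090), (6090, 7110), (6091, 5081), (6092, 5226), (6093, 7112), (6094, 7098), (6095, 5775), (6096, 7117), (6097, 5773), (6098, 7120), (6099, 5086), (6100, 7102), (6101, 7103), (6102, 7125), (6103, 7105), (6104, 7128), (6105, 5089), (6106, 7108), (6107, 7130), (6108, 5091), (6109, 6109), (6110, 7133), (6111, 5094), (6112, 7135), (6113, 5097), (6114, 7131), (6115, 5099), (6116, 5469), (6117, 5470), (6118, 5178), (6119, 5386), (6120, 6929), (6121, 5184), (6122, 7139), (6123, 7140), (6124, 7141), (6125, 5111), (6126, 5126), (6127, 7143), (6128, 5129), (6129, 7145), (6130, 5114), (6131, 5132), (6132, 7147), (6133, 5116), (6134, 7149), (6135, 5119), (6136, 5379), (6137, 7151), (6138, 7152), (6139, 5122), (6140, 5329), (6141, 7154), (6142,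 5124), (6143, 5830)]
    ⟨e3 q6080 (flp_h L139065) q5075, e3 q6081 L139090 q5082, e3 q6082 L139102 q5173, e3 q6083 L139112 q5084, e3 q6084 L139126 q5085, e3 q6085 L148445 q7101, e3 q6086 L139145 q5087, e3 q6087 L139155 q5088, e3 q6088 L148515 q7107, e3 q6089 L139174 q5090, e3 q6090 L148547 q7110, e3 q6091 (flp_h L139185) q5081, e3 q6092 L139203 q5226, e3 q6093 L148568 q7112, e3 q6094 (flp_h L148414) q7098, e3 q6095 L139236 q5775, e3 q6096 L148630 q7117, e3 q6097 L139261 q5773, e3 q6098 L148668 q7120, e3 q6099 (flp_h L139275) q5086, e3 q6100 (flp_h L148463) q7102, e3 q6101 (flp_h L148477) q7103, e3 q6102 L148711 q7125, e3 q6103 (flp_h L148497) q7105, e3 q6104 L148741 q7128, e3 q6105 (flp_h L139322) q5089, e3 q6106 (flp_h L148534) q7108, e3 q6107 L148759 q7130, e3 q6108 (flp_h L139348) q5091, e3 q6109 L139360 q6109, e3 q6110 L148787 q7133, e3 q6111 (flp_h L139371) q5094, e3 q6112 L148807 q7135, e3 q6113 (flp_h L139390) q5097, e3 q6114 (flp_h L148773) q7131, e3 q6115 (flp_h L139407) q5099,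 e3 q6116 L139423 q5469, e3 q6117 L139432 q5470, e3 q6118 L139445 q5178, e3 q6119 L139460 q5386, e3 q6120 (flp_h L146761) q6929, e3 q6121 L139484 q5184, e3 q6122 L148849 q7139, e3 q6123 L148863 q7140, e3 q6124 L148879 q7141, e3 q6125 (flp_h L139523) q5111, e3 q6126 L139541 q5126, e3 q6127 L148903 q7143, e3 q6128 L139563 q5129, e3 q6129 L148929 q7145, e3 q6130 (flp_h L139581) q5114, e3 q6131 L139598 q5132, e3 q6132 L148954 q7147, e3 q6133 (flp_h L139609) q5116, e3 q6134 L148969 q7149, e3 q6135 (flp_h L139626) q5119, e3 q6136 L139646 q5379, e3 q6137 L148993 q7151, e3 q6138 L149007 q7152, e3 q6139 (flp_h L139673) q5122, e3 q6140 L139693 q5329, e3 q6141 L149035 q7154, e3 q6142 (flp_h L139709) q5124, e3 q6143 L139721 q5830, trivial⟩ (by decide +kernel)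

theorem ce_h_96 : ∀ r, r < 64 → sm gh (Qf (6144 + r)) = Qf (tab Gen.h (6144 + r)) :=
  edges_tab (sm gh) Qf (tab Gen.h) 6144 [(6144, 7158), (6145, 5491), (6146, 7160), (6147, 5128), (6148, 5488), (6149, 7162), (6150, 5130), (6151, 7164), (6152, 5133), (6153, 5140), (6154, 5886), (6155, 5136), (6156, 7155), (6157, 5138), (6158, 7165), (6159, 7166), (6160, 5287), (6161, 6740), (6162, 5148), (6163, 6530), (6164, 5517), (6165, 6532), (6166, 6533), (6167, 7181), (6168, 5152), (6169, 5158), (6170, 5159), (6171, 5160), (6172, 5508), (6173, 5161), (6174, 5162), (6175, 7172), (6176, 7182), (6177, 7183), (6178, 7184), (6179, 7187), (6180, 7188), (6181, 5738), (6182, 5174), (6183, 5175), (6184, 5441), (6185, 5510), (6186, 5176), (6187, 5177), (6188, 7042), (6189, 7096), (6190, 6954), (6191, 6191), (6192, 5595), (6193, 5708), (6194, 5714), (6195, 6195), (6196, 7197), (6197, 6197), (6198, 7200), (6199, 5195), (6200, 5798), (6201, 5797), (6202, 5199), (6203, 6203), (6204, 5847), (6205, 5201), (6206,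 5203), (6207, 7202)]
    ⟨e3 q6144 L149077 q7158, e3 q6145 L139739 q5491, e3 q6146 L149096 q7160, e3 q6147 (flp_h L139754) q5128, e3 q6148 L139769 q5488, e3 q6149 L149119 q7162, e3 q6150 (flp_h L139782) q5130, e3 q6151 L149130 q7164, e3 q6152 (flp_h L139796) q5133, e3 q6153 L139806 q5140, e3 q6154 (flp_h L139818) q5886, e3 q6155 (flp_h L139820) q5136, e3 q6156 (flp_h L149053) q7155, e3 q6157 (flp_h L139838) q5138, e3 q6158 (flp_h L149140) q7165, e3 q6159 (flp_h L149146) q7166, e3 q6160 L139872 q5287, e3 q6161 (flp_h L145137) q6740, e3 q6162 (flp_h L139884) q5148, e3 q6163 (flp_h L143260) q6530, e3 q6164 L139906 q5517, e3 q6165 (flp_h L143278) q6532, e3 q6166 (flp_h L143285) q6533, e3 q6167 L149271 q7181, e3 q6168 (flp_h L139926) q5152, e3 q6169 L139949 q5158, e3 q6170 L139958 q5159, e3 q6171 L139967 q5160, e3 q6172 L139983 q5508, e3 q6173 L139989 q5161, e3 q6174 L139998 q5162, e3 q6175 (flp_h L149203) q7172, e3 q6176 (flp_h L149290) q7182, e3 q6177 (flp_h L149298) q7183, e3 q6178 (flp_h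 L149315) q7184, e3 q6179 (flp_h L149352) q7187, e3 q6180 (flp_h L149367) q7188, e3 q6181 (flp_h L140076) q5738, e3 q6182 L140089 q5174, e3 q6183 L140099 q5175, e3 q6184 L140115 q5441, e3 q6185 L140130 q5510, e3 q6186 L140138 q5176, e3 q6187 L140152 q5177, e3 q6188 (flp_h L147961) q7042, e3 q6189 (flp_h L148388) q7096, e3 q6190 (flp_h L146994) q6954, e3 q6191 L140199 q6191, e3 q6192 L140208 q5595, e3 q6193 L140222 q5708, e3 q6194 L140233 q5714, e3 q6195 L140245 q6195, e3 q6196 L149464 q7197, e3 q6197 L140265 q6197, e3 q6198 L149503 q7200, e3 q6199 (flp_h L140277) q5195, e3 q6200 (flp_h L140301) q5798, e3 q6201 (flp_h L140317) q5797, e3 q6202 (flp_h L140319) q5199, e3 q6203 L140344 q6203, e3 q6204 (flp_h L140358) q5847, e3 q6205 (flp_h L140360) q5201, e3 q6206 (flp_h L140374) q5203, e3 q6207 L149532 q7202, trivial⟩ (by decide +kernel)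

theorem ce_h_97 : ∀ r, r < 64 → sm gh (Qf (6208 + r)) = Qf (tab Gen.h (6208 + r)) :=
  edges_tab (sm gh) Qf (tab Gen.h) 6208 [(6208, 5206), (6209, 6209), (6210, 5208), (6211, 5211), (6212, 5258), (6213, 5357), (6214, 5261), (6215, 7205), (6216, 5354), (6217, 7213), (6218, 5350), (6219, 5656), (6220, 5405), (6221, 6468), (6222, 5597), (6223, 6472), (6224, 5218), (6225, 7218), (6226, 5220), (6227, 7219), (6228, 5377), (6229, 7222), (6230, 7053), (6231, 7225), (6232, 7226), (6233, 5228), (6234, 5230), (6235, 5783), (6236, 6236), (6237, 7228), (6238, 5233), (6239, 6239), (6240, 7230), (6241, 5235), (6242, 5237), (6243, 7232), (6244, 5239), (6245, 6965), (6246, 7234), (6247, 5241), (6248, 5242), (6249, 5246), (6250, 7237), (6251, 5249), (6252, 7235), (6253, 5251), (6254, 7240), (6255, 5253), (6256, 6742), (6257, 7204), (6258, 5255), (6259, 5260), (6260, 5364), (6261, 5262), (6262, 5263), (6263, 7255), (6264, 7246), (6265, 7138), (6266, 7248), (6267, 5679), (6268, 7264), (6269, 7250), (6270,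 7251), (6271, 7271)]
    ⟨e3 q6208 (flp_h L140397) q5206, e3 q6209 L140422 q6209, e3 q6210 (flp_h L140423) q5208, e3 q6211 L140448 q5211, e3 q6212 L140462 q5258, e3 q6213 L140474 q5357, e3 q6214 L140488 q5261, e3 q6215 (flp_h L149586) q7205, e3 q6216 L140506 q5354, e3 q6217 L149666 q7213, e3 q6218 L140530 q5350, e3 q6219 L140546 q5656, e3 q6220 L140558 q5405, e3 q6221 L142711 q6468, e3 q6222 L140575 q5597, e3 q6223 (flp_h L142752) q6472, e3 q6224 (flp_h L140586) q5218, e3 q6225 L149718 q7218, e3 q6226 (flp_h L140609) q5220, e3 q6227 L149730 q7219, e3 q6228 L140640 q5377, e3 q6229 L149766 q7222, e3 q6230 (flp_h L148048) q7053, e3 q6231 L149794 q7225, e3 q6232 L149802 q7226, e3 q6233 (flp_h L140680) q5228, e3 q6234 (flp_h L140688) q5230, e3 q6235 L140709 q5783, e3 q6236 L140715 q6236, e3 q6237 L149822 q7228, e3 q6238 (flp_h L140726) q5233, e3 q6239 L140743 q6239, e3 q6240 L149843 q7230, e3 q6241 (flp_h L140754) q5235, e3 q6242 (flp_h L140763) q5237, e3 q6243 L149861 q7232, e3 q6244 (flp_h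 L140787) q5239, e3 q6245 (flp_h L147112) q6965, e3 q6246 L149881 q7234, e3 q6247 (flp_h L140817) q5241, e3 q6248 (flp_h L140823) q5242, e3 q6249 (flp_h L140835) q5246, e3 q6250 L149908 q7237, e3 q6251 (flp_h L140854) q5249, e3 q6252 (flp_h L149895) q7235, e3 q6253 (flp_h L140874) q5251, e3 q6254 L149943 q7240, e3 q6255 (flp_h L140896) q5253, e3 q6256 (flp_h L145152) q6742, e3 q6257 (flp_h L149574) q7204, e3 q6258 (flp_h L140921) q5255, e3 q6259 L140941 q5260, e3 q6260 L140953 q5364, e3 q6261 L140959 q5262, e3 q6262 L140969 q5263, e3 q6263 L150082 q7255, e3 q6264 (flp_h L150002) q7246, e3 q6265 (flp_h L148847) q7138, e3 q6266 (flp_h L150024) q7248, e3 q6267 L141014 q5679, e3 q6268 L150163 q7264, e3 q6269 (flp_h L150040) q7250, e3 q6270 (flp_h L150052) q7251, e3 q6271 L150213 q7271, trivial⟩ (by decide +kernel)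

theorem ce_h_98 : ∀ r, r < 64 → sm gh (Qf (6272 + r)) = Qf (tab Gen.h (6272 + r)) :=
  edges_tab (sm gh) Qf (tab Gen.h) 6272 [(6272, 7253), (6273, 7274), (6274, 5264), (6275, 5609), (6276, 5661), (6277, 5610), (6278, 5663), (6279, 7281), (6280, 5612), (6281, 7285), (6282, 5269), (6283, 5615), (6284, 7288), (6285, 5271), (6286, 7292), (6287, 5273), (6288, 6388), (6289, 5621), (6290, 7295), (6291, 5275), (6292, 6766), (6293, 7296), (6294, 5278), (6295, 6835), (6296, 5286), (6297, 5382), (6298, 5288), (6299, 7301), (6300, 5291), (6301, 5292), (6302, 7306), (6303, 5294), (6304, 7308), (6305, 5285), (6306, 6964), (6307, 7310), (6308, 7299), (6309, 5697), (6310, 7314), (6311, 5696), (6312, 7316), (6313, 5290), (6314, 7302), (6315, 7303), (6316, 7321), (6317, 6977), (6318, 7323), (6319, 5293), (6320, 6974), (6321, 7326), (6322, 5295), (6323, 5630), (6324, 5694), (6325, 7329), (6326, 5300), (6327, 7327), (6328, 5302), (6329, 6985), (6330, 6847), (6331, 7331), (6332, 5306), (6333, 7333), (6334,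 5309), (6335, 7324)]
    ⟨e3 q6272 (flp_h L150068) q7253, e3 q6273 L150237 q7274, e3 q6274 (flp_h L141062) q5264, e3 q6275 L141077 q5609, e3 q6276 L141089 q5661, e3 q6277 L141097 q5610, e3 q6278 L141110 q5663, e3 q6279 L150304 q7281, e3 q6280 L141124 q5612, e3 q6281 L150340 q7285, e3 q6282 (flp_h L141137) q5269, e3 q6283 L141158 q5615, e3 q6284 L150376 q7288, e3 q6285 (flp_h L141170) q5271, e3 q6286 L150413 q7292, e3 q6287 (flp_h L141189) q5273, e3 q6288 (flp_h L142066) q6388, e3 q6289 L141212 q5621, e3 q6290 L150441 q7295, e3 q6291 (flp_h L141224) q5275, e3 q6292 (flp_h L145367) q6766, e3 q6293 L150452 q7296, e3 q6294 (flp_h L141253) q5278, e3 q6295 (flp_h L145883) q6835, e3 q6296 L141278 q5286, e3 q6297 L141289 q5382, e3 q6298 L141299 q5288, e3 q6299 L150503 q7301, e3 q6300 L141315 q5291, e3 q6301 L141325 q5292, e3 q6302 L150551 q7306, e3 q6303 L141342 q5294, e3 q6304 L150567 q7308, e3 q6305 (flp_h L141354) q5285, e3 q6306 (flp_h L147098) q6964, e3 q6307 L150586 q7310, e3 q6308 (flp_h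 L150488) q7299, e3 q6309 L141389 q5697, e3 q6310 L150624 q7314, e3 q6311 L141408 q5696, e3 q6312 L150640 q7316, e3 q6313 (flp_h L141420) q5290, e3 q6314 (flp_h L150520) q7302, e3 q6315 (flp_h L150530) q7303, e3 q6316 L150683 q7321, e3 q6317 (flp_h L147237) q6977, e3 q6318 L150696 q7323, e3 q6319 (flp_h L141461) q5293, e3 q6320 (flp_h L147201) q6974, e3 q6321 L150718 q7326, e3 q6322 (flp_h L141481) q5295, e3 q6323 L141493 q5630, e3 q6324 L141505 q5694, e3 q6325 L150750 q7329, e3 q6326 (flp_h L141516) q5300, e3 q6327 (flp_h L150734) q7327, e3 q6328 (flp_h L141539) q5302, e3 q6329 (flp_h L147323) q6985, e3 q6330 (flp_h L145979) q6847, e3 q6331 L150773 q7331, e3 q6332 (flp_h L141574) q5306, e3 q6333 L150790 q7333, e3 q6334 (flp_h L141595) q5309, e3 q6335 (flp_h L150708) q7324, trivial⟩ (by decide +kernel)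

theorem ce_h_99 : ∀ r, r < 64 → sm gh (Qf (6336 + r)) = Qf (tab Gen.h (6336 + r)) :=
  edges_tab (sm gh) Qf (tab Gen.h) 6336 [(6336, 7336), (6337, 7337), (6338, 5314), (6339, 5328), (6340, 7339), (6341, 7340), (6342, 5317), (6343, 7342), (6344, 5319), (6345, 7343), (6346, 5322), (6347, 7344), (6348, 5324), (6349, 7346), (6350, 5326), (6351, 7118), (6352, 7348), (6353, 7349), (6354, 5330), (6355, 7351), (6356, 5332), (6357, 5348), (6358, 7354), (6359, 5335), (6360, 5341), (6361, 5699), (6362, 5339), (6363, 7355), (6364, 7345), (6365, 5346), (6366, 7350), (6367, 7353), (6368, 6038), (6369, 5401), (6370, 5356), (6371, 7363), (6372, 7210), (6373, 7365), (6374, 7361), (6375, 7207), (6376, 7371), (6377, 7113), (6378, 7373), (6379, 5358), (6380, 5604), (6381, 7375), (6382, 5641), (6383, 7242), (6384, 5362), (6385, 7247), (6386, 7381), (6387, 5366), (6388, 6288), (6389, 5645), (6390, 7384), (6391, 5368), (6392, 6076), (6393, 7385), (6394, 5371), (6395, 5826), (6396, 5376), (6397, 7388), (6398,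 5374), (6399, 5375)]
    ⟨e3 q6336 L150813 q7336, e3 q6337 L150823 q7337, e3 q6338 (flp_h L141625) q5314, e3 q6339 L141644 q5328, e3 q6340 L150844 q7339, e3 q6341 L150854 q7340, e3 q6342 (flp_h L141665) q5317, e3 q6343 L150871 q7342, e3 q6344 (flp_h L141679) q5319, e3 q6345 L150881 q7343, e3 q6346 (flp_h L141698) q5322, e3 q6347 L150887 q7344, e3 q6348 (flp_h L141715) q5324, e3 q6349 L150907 q7346, e3 q6350 (flp_h L141731) q5326, e3 q6351 (flp_h L148652) q7118, e3 q6352 L150928 q7348, e3 q6353 L150936 q7349, e3 q6354 (flp_h L141773) q5330, e3 q6355 L150954 q7351, e3 q6356 (flp_h L141788) q5332, e3 q6357 L141796 q5348, e3 q6358 L150971 q7354, e3 q6359 (flp_h L141806) q5335, e3 q6360 L141822 q5341, e3 q6361 L141836 q5699, e3 q6362 (flp_h L141838) q5339, e3 q6363 (flp_h L150985) q7355, e3 q6364 (flp_h L150905) q7345, e3 q6365 (flp_h L141868) q5346, e3 q6366 (flp_h L150952) q7350, e3 q6367 (flp_h L150969) q7353, e3 q6368 L141895 q6038, e3 q6369 L141907 q5401, e3 q6370 L141913 q5356, e3 q6371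 L151050 q7363, e3 q6372 (flp_h L149642) q7210, e3 q6373 L151068 q7365, e3 q6374 (flp_h L151040) q7361, e3 q6375 (flp_h L149610) q7207, e3 q6376 L151110 q7371, e3 q6377 (flp_h L148588) q7113, e3 q6378 L151126 q7373, e3 q6379 (flp_h L141973) q5358, e3 q6380 L141993 q5604, e3 q6381 L151137 q7375, e3 q6382 L142005 q5641, e3 q6383 (flp_h L149972) q7242, e3 q6384 (flp_h L142016) q5362, e3 q6385 (flp_h L150014) q7247, e3 q6386 L151194 q7381, e3 q6387 (flp_h L142044) q5366, e3 q6388 L142066 q6288, e3 q6389 L142073 q5645, e3 q6390 L151224 q7384, e3 q6391 (flp_h L142083) q5368, e3 q6392 L142105 q6076, e3 q6393 L151235 q7385, e3 q6394 (flp_h L142116) q5371, e3 q6395 L142135 q5826, e3 q6396 L142143 q5376, e3 q6397 L151264 q7388, e3 q6398 (flp_h L142155) q5374, e3 q6399 (flp_h L142165) q5375, trivial⟩ (by decide +kernel)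

theorem ce_h_100 : ∀ r, r < 64 → sm gh (Qf (6400 + r)) = Qf (tab Gen.h (6400 + r)) :=
  edges_tab (sm gh) Qf (tab Gen.h) 6400 [(6400, 7220), (6401, 7391), (6402, 7009), (6403, 7393), (6404, 5378), (6405, 7394), (6406, 5380), (6407, 5383), (6408, 5837), (6409, 5838), (6410, 5387), (6411, 7395), (6412, 5391), (6413, 5393), (6414, 6700), (6415, 5398), (6416, 6539), (6417, 7215), (6418, 6798), (6419, 6799), (6420, 7407), (6421, 5402), (6422, 7193), (6423, 5409), (6424, 5410), (6425, 7411), (6426, 5412), (6427, 5413), (6428, 7418), (6429, 5415), (6430, 7421), (6431, 5408), (6432, 7408), (6433, 7425), (6434, 7410), (6435, 7428), (6436, 5411), (6437, 7412), (6438, 7413), (6439, 7434), (6440, 7436), (6441, 7416), (6442, 7440), (6443, 5414), (6444, 7419), (6445, 7443), (6446, 5416), (6447, 7446), (6448, 5668), (6449, 7450), (6450, 5419), (6451, 5669), (6452, 7453), (6453, 5421), (6454, 7456), (6455, 5423), (6456, 7459), (6457, 5673), (6458, 7461), (6459, 5425), (6460, 6819), (6461, 7464), (6462,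 5428), (6463, 7444)]
    ⟨e3 q6400 (flp_h L149752) q7220, e3 q6401 L151288 q7391, e3 q6402 (flp_h L147608) q7009, e3 q6403 L151305 q7393, e3 q6404 (flp_h L142204) q5378, e3 q6405 L151313 q7394, e3 q6406 (flp_h L142222) q5380, e3 q6407 (flp_h L142228) q5383, e3 q6408 L142246 q5837, e3 q6409 L142255 q5838, e3 q6410 (flp_h L142262) q5387, e3 q6411 L151321 q7395, e3 q6412 (flp_h L142279) q5391, e3 q6413 (flp_h L142285) q5393, e3 q6414 (flp_h L144775) q6700, e3 q6415 (flp_h L142303) q5398, e3 q6416 (flp_h L143338) q6539, e3 q6417 (flp_h L149700) q7215, e3 q6418 (flp_h L145591) q6798, e3 q6419 (flp_h L145599) q6799, e3 q6420 L151406 q7407, e3 q6421 (flp_h L142343) q5402, e3 q6422 (flp_h L149421) q7193, e3 q6423 L142363 q5409, e3 q6424 L142375 q5410, e3 q6425 L151440 q7411, e3 q6426 L142391 q5412, e3 q6427 L142399 q5413, e3 q6428 L151490 q7418, e3 q6429 L142411 q5415, e3 q6430 L151512 q7421, e3 q6431 (flp_h L142421) q5408, e3 q6432 (flp_h L151420) q7408, e3 q6433 L151544 q7425, e3 q6434 (flp_h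 L151438) q7410, e3 q6435 L151568 q7428, e3 q6436 (flp_h L142459) q5411, e3 q6437 (flp_h L151454) q7412, e3 q6438 (flp_h L151464) q7413, e3 q6439 L151620 q7434, e3 q6440 L151634 q7436, e3 q6441 (flp_h L151482) q7416, e3 q6442 L151654 q7440, e3 q6443 (flp_h L142505) q5414, e3 q6444 (flp_h L151502) q7419, e3 q6445 L151670 q7443, e3 q6446 (flp_h L142523) q5416, e3 q6447 L151688 q7446, e3 q6448 L142541 q5668, e3 q6449 L151724 q7450, e3 q6450 (flp_h L142554) q5419, e3 q6451 L142572 q5669, e3 q6452 L151760 q7453, e3 q6453 (flp_h L142583) q5421, e3 q6454 L151785 q7456, e3 q6455 (flp_h L142601) q5423, e3 q6456 L151811 q7459, e3 q6457 L142621 q5673, e3 q6458 L151825 q7461, e3 q6459 (flp_h L142633) q5425, e3 q6460 (flp_h L145734) q6819, e3 q6461 L151849 q7464, e3 q6462 (flp_h L142659) q5428, e3 q6463 (flp_h L151680) q7444, trivial⟩ (by decide +kernel)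

theorem ce_h_101 : ∀ r, r < 64 → sm gh (Qf (6464 + r)) = Qf (tab Gen.h (6464 + r)) :=
  edges_tab (sm gh) Qf (tab Gen.h) 6464 [(6464, 6683), (6465, 6682), (6466, 5430), (6467, 7470), (6468, 6221), (6469, 5432), (6470, 7471), (6471, 5434), (6472, 6223), (6473, 6832), (6474, 5437), (6475, 7095), (6476, 6769), (6477, 5450), (6478, 5443), (6479, 5453), (6480, 5454), (6481, 7478), (6482, 5456), (6483, 7480), (6484, 5446), (6485, 5459), (6486, 7482), (6487, 5448), (6488, 7013), (6489, 7484), (6490, 5451), (6491, 7474), (6492, 7487), (6493, 7476), (6494, 7490), (6495, 5455), (6496, 7156), (6497, 7492), (6498, 5457), (6499, 7494), (6500, 5460), (6501, 5467), (6502, 7497), (6503, 5463), (6504, 5465), (6505, 7495), (6506, 7496), (6507, 6785), (6508, 5486), (6509, 7500), (6510, 7501), (6511, 5476), (6512, 7502), (6513, 5478), (6514, 7504), (6515, 5481), (6516, 7505), (6517, 5484), (6518, 7126), (6519, 7507), (6520, 5487), (6521, 7508), (6522, 5489), (6523, 7510), (6524, 5492), (6525, 5588), (6526,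 5494), (6527, 5500)]
    ⟨e3 q6464 L144635 q6683, e3 q6465 L144625 q6682, e3 q6466 (flp_h L142686) q5430, e3 q6467 L151898 q7470, e3 q6468 (flp_h L142711) q6221, e3 q6469 (flp_h L142713) q5432, e3 q6470 L151910 q7471, e3 q6471 (flp_h L142733) q5434, e3 q6472 L142752 q6223, e3 q6473 (flp_h L145856) q6832, e3 q6474 (flp_h L142771) q5437, e3 q6475 (flp_h L148373) q7095, e3 q6476 (flp_h L145397) q6769, e3 q6477 L142809 q5450, e3 q6478 (flp_h L142811) q5443, e3 q6479 L142827 q5453, e3 q6480 L142837 q5454, e3 q6481 L151990 q7478, e3 q6482 L142855 q5456, e3 q6483 L152007 q7480, e3 q6484 (flp_h L142868) q5446, e3 q6485 L142884 q5459, e3 q6486 L152027 q7482, e3 q6487 (flp_h L142894) q5448, e3 q6488 (flp_h L147652) q7013, e3 q6489 L152047 q7484, e3 q6490 (flp_h L142922) q5451, e3 q6491 (flp_h L151961) q7474, e3 q6492 L152075 q7487, e3 q6493 (flp_h L151979) q7476, e3 q6494 L152099 q7490, e3 q6495 (flp_h L142968) q5455, e3 q6496 (flp_h L149062) q7156, e3 q6497 L152119 q7492, e3 q6498 (flp_h L142994)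 q5457, e3 q6499 L152135 q7494, e3 q6500 (flp_h L143012) q5460, e3 q6501 L143022 q5467, e3 q6502 L152155 q7497, e3 q6503 (flp_h L143035) q5463, e3 q6504 (flp_h L143046) q5465, e3 q6505 (flp_h L152147) q7495, e3 q6506 (flp_h L152153) q7496, e3 q6507 (flp_h L145509) q6785, e3 q6508 L143095 q5486, e3 q6509 L152183 q7500, e3 q6510 L152191 q7501, e3 q6511 (flp_h L143115) q5476, e3 q6512 L152201 q7502, e3 q6513 (flp_h L143130) q5478, e3 q6514 L152216 q7504, e3 q6515 (flp_h L143146) q5481, e3 q6516 L152222 q7505, e3 q6517 (flp_h L143162) q5484, e3 q6518 (flp_h L148726) q7126, e3 q6519 L152238 q7507, e3 q6520 (flp_h L143184) q5487, e3 q6521 L152246 q7508, e3 q6522 (flp_h L143198) q5489, e3 q6523 L152260 q7510, e3 q6524 (flp_h L143216) q5492, e3 q6525 L143226 q5588, e3 q6526 (flp_h L143228) q5494, e3 q6527 L143236 q5500, trivial⟩ (by decide +kernel)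

theorem ce_h_102 : ∀ r, r < 64 → sm gh (Qf (6528 + r)) = Qf (tab Gen.h (6528 + r)) :=
  edges_tab (sm gh) Qf (tab Gen.h) 6528 [(6528, 5501), (6529, 5497), (6530, 6163), (6531, 5512), (6532, 6165), (6533, 6166), (6534, 7517), (6535, 7185), (6536, 7186), (6537, 6540), (6538, 7519), (6539, 6416), (6540, 6537), (6541, 7525), (6542, 6858), (6543, 7528), (6544, 5515), (6545, 5518), (6546, 7036), (6547, 6924), (6548, 6548), (6549, 7533), (6550, 7535), (6551, 6551), (6552, 7539), (6553, 5524), (6554, 7543), (6555, 5525), (6556, 7546), (6557, 6557), (6558, 7548), (6559, 5527), (6560, 6570), (6561, 7551), (6562, 5530), (6563, 5548), (6564, 7556), (6565, 5532), (6566, 7559), (6567, 5718), (6568, 7561), (6569, 5534), (6570, 6560), (6571, 7564), (6572, 5537), (6573, 5862), (6574, 6575), (6575, 6574), (6576, 5539), (6577, 7570), (6578, 7571), (6579, 5541), (6580, 7573), (6581, 5543), (6582, 7572), (6583, 6870), (6584, 5546), (6585, 7552), (6586, 7553), (6587, 7578), (6588, 7579), (6589, 7580), (6590,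 5552), (6591, 5553)]
    ⟨e3 q6528 L143240 q5501, e3 q6529 (flp_h L143242) q5497, e3 q6530 L143260 q6163, e3 q6531 L143271 q5512, e3 q6532 L143278 q6165, e3 q6533 L143285 q6166, e3 q6534 L152316 q7517, e3 q6535 (flp_h L149328) q7185, e3 q6536 (flp_h L149342) q7186, e3 q6537 (flp_h L143347) q6540, e3 q6538 L152336 q7519, e3 q6539 L143338 q6416, e3 q6540 L143347 q6537, e3 q6541 L152389 q7525, e3 q6542 (flp_h L146055) q6858, e3 q6543 L152410 q7528, e3 q6544 (flp_h L143371) q5515, e3 q6545 L143381 q5518, e3 q6546 (flp_h L147907) q7036, e3 q6547 (flp_h L146711) q6924, e3 q6548 L143411 q6548, e3 q6549 L152454 q7533, e3 q6550 L152471 q7535, e3 q6551 L143438 q6551, e3 q6552 L152509 q7539, e3 q6553 (flp_h L143450) q5524, e3 q6554 L152547 q7543, e3 q6555 (flp_h L143467) q5525, e3 q6556 L152576 q7546, e3 q6557 L143490 q6557, e3 q6558 L152593 q7548, e3 q6559 (flp_h L143501) q5527, e3 q6560 (flp_h L143618) q6570, e3 q6561 L152615 q7551, e3 q6562 (flp_h L143531) q5530, e3 q6563 L143549 q5548, e3 q6564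 L152670 q7556, e3 q6565 (flp_h L143558) q5532, e3 q6566 L152703 q7559, e3 q6567 L143586 q5718, e3 q6568 L152722 q7561, e3 q6569 (flp_h L143598) q5534, e3 q6570 L143618 q6560, e3 q6571 L152749 q7564, e3 q6572 (flp_h L143632) q5537, e3 q6573 L143652 q5862, e3 q6574 L143664 q6575, e3 q6575 (flp_h L143664) q6574, e3 q6576 (flp_h L143666) q5539, e3 q6577 L152807 q7570, e3 q6578 L152812 q7571, e3 q6579 (flp_h L143689) q5541, e3 q6580 L152822 q7573, e3 q6581 (flp_h L143701) q5543, e3 q6582 (flp_h L152820) q7572, e3 q6583 (flp_h L146133) q6870, e3 q6584 (flp_h L143723) q5546, e3 q6585 (flp_h L152634) q7552, e3 q6586 (flp_h L152642) q7553, e3 q6587 L152869 q7578, e3 q6588 L152875 q7579, e3 q6589 L152886 q7580, e3 q6590 (flp_h L143772) q5552, e3 q6591 (flp_h L143778) q5553, trivial⟩ (by decide +kernel)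

theorem ce_h_103 : ∀ r, r < 64 → sm gh (Qf (6592 + r)) = Qf (tab Gen.h (6592 + r)) :=
  edges_tab (sm gh) Qf (tab Gen.h) 6592 [(6592, 5557), (6593, 5555), (6594, 7581), (6595, 6595), (6596, 7585), (6597, 5563), (6598, 6598), (6599, 7587), (6600, 5565), (6601, 7589), (6602, 5568), (6603, 7493), (6604, 5570), (6605, 5577), (6606, 5578), (6607, 5573), (6608, 5877), (6609, 5878), (6610, 7592), (6611, 6611), (6612, 7595), (6613, 5581), (6614, 7597), (6615, 5584), (6616, 7509), (6617, 5586), (6618, 7511), (6619, 7512), (6620, 6697), (6621, 6621), (6622, 6622), (6623, 6623), (6624, 7605), (6625, 5607), (6626, 5608), (6627, 7610), (6628, 7607), (6629, 7608), (6630, 7613), (6631, 7276), (6632, 7278), (6633, 7617), (6634, 5611), (6635, 7620), (6636, 7283), (6637, 7622), (6638, 5613), (6639, 6639), (6640, 7625), (6641, 5616), (6642, 6643), (6643, 6642), (6644, 5618), (6645, 6659), (6646, 7628), (6647, 5622), (6648, 5625), (6649, 6649), (6650, 5629), (6651, 5631), (6652, 6652), (6653, 7630), (6654,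 7631), (6655, 5640)]
    ⟨e3 q6592 L143797 q5557, e3 q6593 (flp_h L143803) q5555, e3 q6594 (flp_h L152911) q7581, e3 q6595 L143830 q6595, e3 q6596 L152950 q7585, e3 q6597 (flp_h L143842) q5563, e3 q6598 L143857 q6598, e3 q6599 L152970 q7587, e3 q6600 (flp_h L143867) q5565, e3 q6601 L152985 q7589, e3 q6602 (flp_h L143887) q5568, e3 q6603 (flp_h L152133) q7493, e3 q6604 (flp_h L143904) q5570, e3 q6605 L143921 q5577, e3 q6606 L143930 q5578, e3 q6607 (flp_h L143933) q5573, e3 q6608 L143952 q5877, e3 q6609 L143961 q5878, e3 q6610 (flp_h L153018) q7592, e3 q6611 L143976 q6611, e3 q6612 L153040 q7595, e3 q6613 (flp_h L143987) q5581, e3 q6614 L153056 q7597, e3 q6615 (flp_h L144007) q5584, e3 q6616 (flp_h L152258) q7509, e3 q6617 (flp_h L144023) q5586, e3 q6618 (flp_h L152272) q7511, e3 q6619 (flp_h L152278) q7512, e3 q6620 L144743 q6697, e3 q6621 L144063 q6621, e3 q6622 L144071 q6622, e3 q6623 L144081 q6623, e3 q6624 L153133 q7605, e3 q6625 L144100 q5607, e3 q6626 L144108 q5608, e3 q6627 L153188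 q7610, e3 q6628 (flp_h L153162) q7607, e3 q6629 (flp_h L153172) q7608, e3 q6630 L153223 q7613, e3 q6631 (flp_h L150259) q7276, e3 q6632 (flp_h L150282) q7278, e3 q6633 L153268 q7617, e3 q6634 (flp_h L144190) q5611, e3 q6635 L153296 q7620, e3 q6636 (flp_h L150327) q7283, e3 q6637 L153319 q7622, e3 q6638 (flp_h L144228) q5613, e3 q6639 L144250 q6639, e3 q6640 L153349 q7625, e3 q6641 (flp_h L144265) q5616, e3 q6642 L144291 q6643, e3 q6643 (flp_h L144291) q6642, e3 q6644 (flp_h L144293) q5618, e3 q6645 (flp_h L144449) q6659, e3 q6646 L153389 q7628, e3 q6647 (flp_h L144325) q5622, e3 q6648 (flp_h L144334) q5625, e3 q6649 L144351 q6649, e3 q6650 L144359 q5629, e3 q6651 (flp_h L144363) q5631, e3 q6652 L144384 q6652, e3 q6653 L153413 q7630, e3 q6654 L153427 q7631, e3 q6655 (flp_h L144411) q5640, trivial⟩ (by decide +kernel)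

theorem ce_h_104 : ∀ r, r < 64 → sm gh (Qf (6656 + r)) = Qf (tab Gen.h (6656 + r)) :=
  edges_tab (sm gh) Qf (tab Gen.h) 6656 [(6656, 7627), (6657, 7626), (6658, 5642), (6659, 6645), (6660, 7633), (6661, 5646), (6662, 5649), (6663, 6663), (6664, 6664), (6665, 7635), (6666, 6666), (6667, 7639), (6668, 6668), (6669, 7642), (6670, 5659), (6671, 7644), (6672, 5665), (6673, 7277), (6674, 5666), (6675, 7279), (6676, 7651), (6677, 5664), (6678, 7646), (6679, 7655), (6680, 5667), (6681, 7448), (6682, 6465), (6683, 6464), (6684, 5670), (6685, 7660), (6686, 7661), (6687, 5672), (6688, 7663), (6689, 5674), (6690, 7662), (6691, 6691), (6692, 5677), (6693, 7262), (6694, 7260), (6695, 7192), (6696, 7600), (6697, 6620), (6698, 5683), (6699, 5686), (6700, 6414), (6701, 6701), (6702, 7328), (6703, 7311), (6704, 6704), (6705, 7672), (6706, 7673), (6707, 7674), (6708, 5704), (6709, 7675), (6710, 5710), (6711, 6711), (6712, 7677), (6713, 5712), (6714, 5864), (6715, 5863), (6716, 5715), (6717, 7682), (6718,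 7683), (6719, 5717)]
    ⟨e3 q6656 (flp_h L153387) q7627, e3 q6657 L153372 q7626, e3 q6658 (flp_h L144433) q5642, e3 q6659 L144449 q6645, e3 q6660 L153450 q7633, e3 q6661 (flp_h L144469) q5646, e3 q6662 (flp_h L144478) q5649, e3 q6663 L144493 q6663, e3 q6664 L144500 q6664, e3 q6665 L153472 q7635, e3 q6666 L144516 q6666, e3 q6667 L153506 q7639, e3 q6668 L144529 q6668, e3 q6669 L153536 q7642, e3 q6670 (flp_h L144537) q5659, e3 q6671 L153548 q7644, e3 q6672 L144551 q5665, e3 q6673 (flp_h L150273) q7277, e3 q6674 L144566 q5666, e3 q6675 (flp_h L150295) q7279, e3 q6676 L153603 q7651, e3 q6677 (flp_h L144582) q5664, e3 q6678 (flp_h L153564) q7646, e3 q6679 L153642 q7655, e3 q6680 (flp_h L144600) q5667, e3 q6681 (flp_h L151711) q7448, e3 q6682 (flp_h L144625) q6465, e3 q6683 (flp_h L144635) q6464, e3 q6684 (flp_h L144637) q5670, e3 q6685 L153690 q7660, e3 q6686 L153696 q7661, e3 q6687 (flp_h L144660) q5672, e3 q6688 L153709 q7663, e3 q6689 (flp_h L144675) q5674, e3 q6690 (flp_h L153707) q7662,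 e3 q6691 L144693 q6691, e3 q6692 (flp_h L144696) q5677, e3 q6693 (flp_h L150149) q7262, e3 q6694 (flp_h L150131) q7260, e3 q6695 (flp_h L149407) q7192, e3 q6696 (flp_h L153091) q7600, e3 q6697 (flp_h L144743) q6620, e3 q6698 (flp_h L144745) q5683, e3 q6699 (flp_h L144758) q5686, e3 q6700 L144775 q6414, e3 q6701 L144791 q6701, e3 q6702 (flp_h L150748) q7328, e3 q6703 (flp_h L150600) q7311, e3 q6704 L144817 q6704, e3 q6705 L153783 q7672, e3 q6706 L153797 q7673, e3 q6707 L153811 q7674, e3 q6708 (flp_h L144854) q5704, e3 q6709 L153821 q7675, e3 q6710 (flp_h L144871) q5710, e3 q6711 L144885 q6711, e3 q6712 L153841 q7677, e3 q6713 (flp_h L144893) q5712, e3 q6714 L144908 q5864, e3 q6715 (flp_h L144920) q5863, e3 q6716 (flp_h L144922) q5715, e3 q6717 L153885 q7682, e3 q6718 L153891 q7683, e3 q6719 (flp_h L144947) q5717, trivial⟩ (by decide +kernel)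

theorem ce_h_105 : ∀ r, r < 64 → sm gh (Qf (6720 + r)) = Qf (tab Gen.h (6720 + r)) :=
  edges_tab (sm gh) Qf (tab Gen.h) 6720 [(6720, 7685), (6721, 5719), (6722, 7684), (6723, 6723), (6724, 5722), (6725, 6725), (6726, 6726), (6727, 7190), (6728, 7691), (6729, 7692), (6730, 5728), (6731, 5729), (6732, 5733), (6733, 5731), (6734, 7177), (6735, 7179), (6736, 7523), (6737, 6737), (6738, 5739), (6739, 5740), (6740, 6161), (6741, 6741), (6742, 6256), (6743, 6921), (6744, 5754), (6745, 5755), (6746, 7703), (6747, 7699), (6748, 7700), (6749, 7709), (6750, 7114), (6751, 7711), (6752, 5756), (6753, 7713), (6754, 6754), (6755, 7717), (6756, 5758), (6757, 6757), (6758, 7720), (6759, 5760), (6760, 7724), (6761, 5762), (6762, 6072), (6763, 6763), (6764, 7727), (6765, 5764), (6766, 6292), (6767, 7728), (6768, 5767), (6769, 6476), (6770, 5772), (6771, 7731), (6772, 7732), (6773, 5771), (6774, 7058), (6775, 7734), (6776, 7735), (6777, 5774), (6778, 7737), (6779, 5776), (6780, 7739), (6781, 5779), (6782,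 7738), (6783, 5781)]
    ⟨e3 q6720 L153907 q7685, e3 q6721 (flp_h L144964) q5719, e3 q6722 (flp_h L153905) q7684, e3 q6723 L144983 q6723, e3 q6724 (flp_h L144986) q5722, e3 q6725 L145003 q6725, e3 q6726 L145010 q6726, e3 q6727 (flp_h L149385) q7190, e3 q6728 L153954 q7691, e3 q6729 L153964 q7692, e3 q6730 (flp_h L145042) q5728, e3 q6731 (flp_h L145048) q5729, e3 q6732 L145058 q5733, e3 q6733 (flp_h L145060) q5731, e3 q6734 (flp_h L149240) q7177, e3 q6735 (flp_h L149261) q7179, e3 q6736 (flp_h L152375) q7523, e3 q6737 L145097 q6737, e3 q6738 (flp_h L145100) q5739, e3 q6739 (flp_h L145112) q5740, e3 q6740 L145137 q6161, e3 q6741 L145146 q6741, e3 q6742 L145152 q6256, e3 q6743 (flp_h L146678) q6921, e3 q6744 L145166 q5754, e3 q6745 L145174 q5755, e3 q6746 L154048 q7703, e3 q6747 (flp_h L154021) q7699, e3 q6748 (flp_h L154031) q7700, e3 q6749 L154092 q7709, e3 q6750 (flp_h L148602) q7114, e3 q6751 L154108 q7711, e3 q6752 (flp_h L145223) q5756, e3 q6753 L154123 q7713, e3 q6754 L145243 q6754,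 e3 q6755 L154161 q7717, e3 q6756 (flp_h L145255) q5758, e3 q6757 L145273 q6757, e3 q6758 L154195 q7720, e3 q6759 (flp_h L145284) q5760, e3 q6760 L154228 q7724, e3 q6761 (flp_h L145300) q5762, e3 q6762 L145325 q6072, e3 q6763 L145334 q6763, e3 q6764 L154263 q7727, e3 q6765 (flp_h L145345) q5764, e3 q6766 L145367 q6292, e3 q6767 L154275 q7728, e3 q6768 (flp_h L145378) q5767, e3 q6769 L145397 q6476, e3 q6770 L145402 q5772, e3 q6771 L154303 q7731, e3 q6772 L154311 q7732, e3 q6773 (flp_h L145418) q5771, e3 q6774 (flp_h L148093) q7058, e3 q6775 L154326 q7734, e3 q6776 L154330 q7735, e3 q6777 (flp_h L145444) q5774, e3 q6778 L154344 q7737, e3 q6779 (flp_h L145458) q5776, e3 q6780 L154356 q7739, e3 q6781 (flp_h L145473) q5779, e3 q6782 (flp_h L154354) q7738, e3 q6783 (flp_h L145488) q5781, trivial⟩ (by decide +kernel)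

theorem ce_h_106 : ∀ r, r < 64 → sm gh (Qf (6784 + r)) = Qf (tab Gen.h (6784 + r)) :=
  edges_tab (sm gh) Qf (tab Gen.h) 6784 [(6784, 7196), (6785, 6507), (6786, 5784), (6787, 7736), (6788, 5786), (6789, 5787), (6790, 5789), (6791, 5799), (6792, 5791), (6793, 5795), (6794, 5793), (6795, 7748), (6796, 7749), (6797, 7747), (6798, 6418), (6799, 6419), (6800, 7755), (6801, 5805), (6802, 7759), (6803, 5807), (6804, 7761), (6805, 5804), (6806, 7763), (6807, 7757), (6808, 7767), (6809, 5806), (6810, 7121), (6811, 7770), (6812, 5808), (6813, 7774), (6814, 5810), (6815, 7777), (6816, 6816), (6817, 7779), (6818, 5812), (6819, 6460), (6820, 7782), (6821, 5815), (6822, 7771), (6823, 7654), (6824, 7653), (6825, 5817), (6826, 7788), (6827, 5948), (6828, 5819), (6829, 7789), (6830, 5821), (6831, 5950), (6832, 6473), (6833, 5824), (6834, 7386), (6835, 6295), (6836, 7794), (6837, 5828), (6838, 7796), (6839, 5831), (6840, 5835), (6841, 5833), (6842, 7797), (6843, 7798), (6844, 7201), (6845, 6988), (6846,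 6987), (6847, 6330)]
    ⟨e3 q6784 L149462 q7196, e3 q6785 L145509 q6507, e3 q6786 (flp_h L145515) q5784, e3 q6787 (flp_h L154342) q7736, e3 q6788 (flp_h L145528) q5786, e3 q6789 (flp_h L145534) q5787, e3 q6790 (flp_h L145542) q5789, e3 q6791 L145550 q5799, e3 q6792 (flp_h L145552) q5791, e3 q6793 L145562 q5795, e3 q6794 (flp_h L145564) q5793, e3 q6795 (flp_h L154415) q7748, e3 q6796 (flp_h L154419) q7749, e3 q6797 (flp_h L154407) q7747, e3 q6798 L145591 q6418, e3 q6799 L145599 q6419, e3 q6800 L154457 q7755, e3 q6801 L145612 q5805, e3 q6802 L154478 q7759, e3 q6803 L145623 q5807, e3 q6804 L154491 q7761, e3 q6805 (flp_h L145632) q5804, e3 q6806 L154505 q7763, e3 q6807 (flp_h L154470) q7757, e3 q6808 L154529 q7767, e3 q6809 (flp_h L145654) q5806, e3 q6810 (flp_h L148684) q7121, e3 q6811 L154547 q7770, e3 q6812 (flp_h L145672) q5808, e3 q6813 L154573 q7774, e3 q6814 (flp_h L145684) q5810, e3 q6815 L154595 q7777, e3 q6816 L145707 q6816, e3 q6817 L154611 q7779, e3 q6818 (flp_h L145718) q5812,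 e3 q6819 L145734 q6460, e3 q6820 L154634 q7782, e3 q6821 (flp_h L145744) q5815, e3 q6822 (flp_h L154557) q7771, e3 q6823 L153640 q7654, e3 q6824 L153628 q7653, e3 q6825 (flp_h L145771) q5817, e3 q6826 L154683 q7788, e3 q6827 (flp_h L145798) q5948, e3 q6828 (flp_h L145800) q5819, e3 q6829 L154697 q7789, e3 q6830 (flp_h L145824) q5821, e3 q6831 L145841 q5950, e3 q6832 L145856 q6473, e3 q6833 (flp_h L145861) q5824, e3 q6834 (flp_h L151254) q7386, e3 q6835 L145883 q6295, e3 q6836 L154746 q7794, e3 q6837 (flp_h L145897) q5828, e3 q6838 L154761 q7796, e3 q6839 (flp_h L145913) q5831, e3 q6840 L145923 q5835, e3 q6841 (flp_h L145925) q5833, e3 q6842 (flp_h L154773) q7797, e3 q6843 (flp_h L154779) q7798, e3 q6844 L149530 q7201, e3 q6845 L147365 q6988, e3 q6846 L147348 q6987, e3 q6847 L145979 q6330, trivial⟩ (by decide +kernel)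

theorem ce_h_107 : ∀ r, r < 64 → sm gh (Qf (6848 + r)) = Qf (tab Gen.h (6848 + r)) :=
  edges_tab (sm gh) Qf (tab Gen.h) 6848 [(6848, 5839), (6849, 6849), (6850, 5841), (6851, 5845), (6852, 5846), (6853, 7805), (6854, 7806), (6855, 7807), (6856, 7808), (6857, 5921), (6858, 6542), (6859, 7812), (6860, 5852), (6861, 7555), (6862, 7554), (6863, 5853), (6864, 7816), (6865, 7817), (6866, 5855), (6867, 7819), (6868, 5857), (6869, 7818), (6870, 6583), (6871, 5860), (6872, 7565), (6873, 7566), (6874, 7827), (6875, 7828), (6876, 7829), (6877, 5866), (6878, 5867), (6879, 5871), (6880, 5869), (6881, 7830), (6882, 5898), (6883, 5896), (6884, 6884), (6885, 6885), (6886, 6886), (6887, 6887), (6888, 6907), (6889, 6981), (6890, 6909), (6891, 7593), (6892, 6892), (6893, 6893), (6894, 6894), (6895, 6895), (6896, 6896), (6897, 7132), (6898, 6898), (6899, 6899), (6900, 6900), (6901, 7837), (6902, 5894), (6903, 6903), (6904, 6904), (6905, 7832), (6906, 5900), (6907, 6888), (6908, 5902), (6909, 6890), (6910,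 5905), (6911, 5907)]
    ⟨e3 q6848 (flp_h L145986) q5839, e3 q6849 L145996 q6849, e3 q6850 (flp_h L145997) q5841, e3 q6851 L146005 q5845, e3 q6852 L146009 q5846, e3 q6853 (flp_h L154837) q7805, e3 q6854 (flp_h L154843) q7806, e3 q6855 (flp_h L154847) q7807, e3 q6856 (flp_h L154851) q7808, e3 q6857 L146044 q5921, e3 q6858 L146055 q6542, e3 q6859 L154878 q7812, e3 q6860 (flp_h L146065) q5852, e3 q6861 L152668 q7555, e3 q6862 L152653 q7554, e3 q6863 (flp_h L146082) q5853, e3 q6864 L154907 q7816, e3 q6865 L154912 q7817, e3 q6866 (flp_h L146101) q5855, e3 q6867 L154924 q7819, e3 q6868 (flp_h L146115) q5857, e3 q6869 (flp_h L154922) q7818, e3 q6870 L146133 q6583, e3 q6871 (flp_h L146136) q5860, e3 q6872 (flp_h L152770) q7565, e3 q6873 (flp_h L152778) q7566, e3 q6874 L154981 q7827, e3 q6875 L154989 q7828, e3 q6876 L154996 q7829, e3 q6877 (flp_h L146183) q5866, e3 q6878 (flp_h L146189) q5867, e3 q6879 L146212 q5871, e3 q6880 (flp_h L146216) q5869, e3 q6881 (flp_h L155017) q7830, e3 q6882 L146235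 q5898, e3 q6883 L146252 q5896, e3 q6884 L146266 q6884, e3 q6885 L146272 q6885, e3 q6886 L146279 q6886, e3 q6887 L146288 q6887, e3 q6888 L146499 q6907, e3 q6889 L147282 q6981, e3 q6890 L146528 q6909, e3 q6891 (flp_h L153026) q7593, e3 q6892 L146327 q6892, e3 q6893 L146335 q6893, e3 q6894 L146351 q6894, e3 q6895 L146367 q6895, e3 q6896 L146378 q6896, e3 q6897 L148785 q7132, e3 q6898 L146395 q6898, e3 q6899 L146410 q6899, e3 q6900 L146421 q6900, e3 q6901 L155082 q7837, e3 q6902 (flp_h L146437) q5894, e3 q6903 L146453 q6903, e3 q6904 L146462 q6904, e3 q6905 (flp_h L155039) q7832, e3 q6906 (flp_h L146472) q5900, e3 q6907 (flp_h L146499) q6888, e3 q6908 (flp_h L146501) q5902, e3 q6909 (flp_h L146528) q6890, e3 q6910 (flp_h L146530) q5905, e3 q6911 (flp_h L146545) q5907, trivial⟩ (by decide +kernel)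

theorem ce_h_108 : ∀ r, r < 64 → sm gh (Qf (6912 + r)) = Qf (tab Gen.h (6912 + r)) :=
  edges_tab (sm gh) Qf (tab Gen.h) 6912 [(6912, 6912), (6913, 7841), (6914, 5909), (6915, 7842), (6916, 5919), (6917, 7803), (6918, 5925), (6919, 5927), (6920, 7203), (6921, 6743), (6922, 5931), (6923, 5936), (6924, 6547), (6925, 5938), (6926, 5939), (6927, 7856), (6928, 7846), (6929, 6120), (6930, 7848), (6931, 7849), (6932, 7864), (6933, 7851), (6934, 7852), (6935, 7871), (6936, 7854), (6937, 7874), (6938, 5940), (6939, 7875), (6940, 5942), (6941, 7877), (6942, 6942), (6943, 7881), (6944, 5944), (6945, 6945), (6946, 7883), (6947, 5946), (6948, 7787), (6949, 6949), (6950, 7790), (6951, 7888), (6952, 5953), (6953, 5961), (6954, 6190), (6955, 5963), (6956, 5964), (6957, 7893), (6958, 5966), (6959, 5967), (6960, 7898), (6961, 5969), (6962, 7900), (6963, 5960), (6964, 6306), (6965, 6245), (6966, 7904), (6967, 7890), (6968, 7907), (6969, 7908), (6970, 5965), (6971, 7894), (6972, 7895), (6973, 7913), (6974,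 6320), (6975, 7915)]
    ⟨e3 q6912 L146568 q6912, e3 q6913 L155133 q7841, e3 q6914 (flp_h L146582) q5909, e3 q6915 L155145 q7842, e3 q6916 (flp_h L146609) q5919, e3 q6917 (flp_h L154819) q7803, e3 q6918 (flp_h L146636) q5925, e3 q6919 (flp_h L146651) q5927, e3 q6920 (flp_h L149559) q7203, e3 q6921 L146678 q6743, e3 q6922 (flp_h L146680) q5931, e3 q6923 L146700 q5936, e3 q6924 L146711 q6547, e3 q6925 L146719 q5938, e3 q6926 L146727 q5939, e3 q6927 L155291 q7856, e3 q6928 (flp_h L155198) q7846, e3 q6929 L146761 q6120, e3 q6930 (flp_h L155220) q7848, e3 q6931 (flp_h L155230) q7849, e3 q6932 L155378 q7864, e3 q6933 (flp_h L155249) q7851, e3 q6934 (flp_h L155259) q7852, e3 q6935 L155434 q7871, e3 q6936 (flp_h L155276) q7854, e3 q6937 L155468 q7874, e3 q6938 (flp_h L146831) q5940, e3 q6939 L155476 q7875, e3 q6940 (flp_h L146853) q5942, e3 q6941 L155495 q7877, e3 q6942 L146875 q6942, e3 q6943 L155535 q7881, e3 q6944 (flp_h L146886) q5944, e3 q6945 L146903 q6945, e3 q6946 L155558 q7883, e3 q6947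 (flp_h L146916) q5946, e3 q6948 L154681 q7787, e3 q6949 L146939 q6949, e3 q6950 (flp_h L154716) q7790, e3 q6951 L155604 q7888, e3 q6952 (flp_h L146960) q5953, e3 q6953 L146979 q5961, e3 q6954 L146994 q6190, e3 q6955 L147004 q5963, e3 q6956 L147017 q5964, e3 q6957 L155669 q7893, e3 q6958 L147035 q5966, e3 q6959 L147045 q5967, e3 q6960 L155727 q7898, e3 q6961 L147067 q5969, e3 q6962 L155750 q7900, e3 q6963 (flp_h L147080) q5960, e3 q6964 L147098 q6306, e3 q6965 L147112 q6245, e3 q6966 L155799 q7904, e3 q6967 (flp_h L155639) q7890, e3 q6968 L155833 q7907, e3 q6969 L155843 q7908, e3 q6970 (flp_h L147161) q5965, e3 q6971 (flp_h L155686) q7894, e3 q6972 (flp_h L155700) q7895, e3 q6973 L155903 q7913, e3 q6974 L147201 q6320, e3 q6975 L155923 q7915, trivial⟩ (by decide +kernel)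

theorem ce_h_109 : ∀ r, r < 64 → sm gh (Qf (6976 + r)) = Qf (tab Gen.h (6976 + r)) :=
  edges_tab (sm gh) Qf (tab Gen.h) 6976 [(6976, 5968), (6977, 6317), (6978, 7918), (6979, 5970), (6980, 5972), (6981, 6889), (6982, 5975), (6983, 7919), (6984, 5977), (6985, 6329), (6986, 6986), (6987, 6846), (6988, 6845), (6989, 5982), (6990, 6990), (6991, 7926), (6992, 5984), (6993, 7928), (6994, 5987), (6995, 7916), (6996, 7931), (6997, 7932), (6998, 7933), (6999, 5993), (7000, 6007), (7001, 7935), (7002, 7936), (7003, 5996), (7004, 7938), (7005, 5998), (7006, 7940), (7007, 7941), (7008, 6002), (7009, 6402), (7010, 7943), (7011, 6004), (7012, 6005), (7013, 6488), (7014, 7947), (7015, 7948), (7016, 6009), (7017, 7950), (7018, 6011), (7019, 6031), (7020, 7952), (7021, 6014), (7022, 6019), (7023, 7945), (7024, 7953), (7025, 7954), (7026, 6027), (7027, 7923), (7028, 7944), (7029, 6029), (7030, 7949), (7031, 7951), (7032, 6033), (7033, 7669), (7034, 6036), (7035, 7214), (7036, 6546), (7037, 7358), (7038,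 7359), (7039, 7967)]
    ⟨e3 q6976 (flp_h L147219) q5968, e3 q6977 L147237 q6317, e3 q6978 L155959 q7918, e3 q6979 (flp_h L147251) q5970, e3 q6980 (flp_h L147257) q5972, e3 q6981 (flp_h L147282) q6889, e3 q6982 (flp_h L147284) q5975, e3 q6983 (flp_h L155973) q7919, e3 q6984 (flp_h L147304) q5977, e3 q6985 L147323 q6329, e3 q6986 L147333 q6986, e3 q6987 (flp_h L147348) q6846, e3 q6988 (flp_h L147365) q6845, e3 q6989 (flp_h L147367) q5982, e3 q6990 L147392 q6990, e3 q6991 L156053 q7926, e3 q6992 (flp_h L147403) q5984, e3 q6993 L156077 q7928, e3 q6994 (flp_h L147424) q5987, e3 q6995 (flp_h L155943) q7916, e3 q6996 L156106 q7931, e3 q6997 L156122 q7932, e3 q6998 L156136 q7933, e3 q6999 (flp_h L147480) q5993, e3 q7000 L147501 q6007, e3 q7001 L156163 q7935, e3 q7002 L156177 q7936, e3 q7003 (flp_h L147530) q5996, e3 q7004 L156202 q7938, e3 q7005 (flp_h L147551) q5998, e3 q7006 L156225 q7940, e3 q7007 L156241 q7941, e3 q7008 (flp_h L147586) q6002, e3 q7009 L147608 q6402, e3 q7010 L156269 q7943,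 e3 q7011 (flp_h L147624) q6004, e3 q7012 (flp_h L147632) q6005, e3 q7013 L147652 q6488, e3 q7014 L156323 q7947, e3 q7015 L156331 q7948, e3 q7016 (flp_h L147682) q6009, e3 q7017 L156359 q7950, e3 q7018 (flp_h L147704) q6011, e3 q7019 L147720 q6031, e3 q7020 L156389 q7952, e3 q7021 (flp_h L147736) q6014, e3 q7022 L147750 q6019, e3 q7023 (flp_h L156307) q7945, e3 q7024 (flp_h L156415) q7953, e3 q7025 (flp_h L156425) q7954, e3 q7026 L147795 q6027, e3 q7027 (flp_h L156020) q7923, e3 q7028 (flp_h L156293) q7944, e3 q7029 (flp_h L147823) q6029, e3 q7030 (flp_h L156355) q7949, e3 q7031 (flp_h L156383) q7951, e3 q7032 (flp_h L147856) q6033, e3 q7033 (flp_h L153758) q7669, e3 q7034 (flp_h L147882) q6036, e3 q7035 (flp_h L149686) q7214, e3 q7036 L147907 q6546, e3 q7037 (flp_h L151012) q7358, e3 q7038 (flp_h L151024) q7359, e3 q7039 L156536 q7967, trivial⟩ (by decide +kernel)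

theorem ce_h_110 : ∀ r, r < 64 → sm gh (Qf (7040 + r)) = Qf (tab Gen.h (7040 + r)) :=
  edges_tab (sm gh) Qf (tab Gen.h) 7040 [(7040, 6040), (7041, 6047), (7042, 6188), (7043, 6049), (7044, 6050), (7045, 7975), (7046, 6052), (7047, 6053), (7048, 7982), (7049, 6055), (7050, 7985), (7051, 6046), (7052, 7969), (7053, 6230), (7054, 7989), (7055, 7971), (7056, 7972), (7057, 7996), (7058, 6774), (7059, 7999), (7060, 6051), (7061, 7976), (7062, 7977), (7063, 8005), (7064, 8007), (7065, 7980), (7066, 8011), (7067, 6054), (7068, 7983), (7069, 8014), (7070, 6056), (7071, 7844), (7072, 7072), (7073, 8020), (7074, 6059), (7075, 7075), (7076, 8022), (7077, 6061), (7078, 8026), (7079, 6063), (7080, 8029), (7081, 7081), (7082, 8031), (7083, 6065), (7084, 7378), (7085, 8034), (7086, 6068), (7087, 8015), (7088, 7650), (7089, 7649), (7090, 6070), (7091, 7725), (7092, 8039), (7093, 6074), (7094, 6077), (7095, 6475), (7096, 6189), (7097, 8040), (7098, 6094), (7099, 8042), (7100, 8043), (7101, 6085), (7102,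 6100), (7103, 6101)]
    ⟨e3 q7040 (flp_h L147928) q6040, e3 q7041 L147951 q6047, e3 q7042 L147961 q6188, e3 q7043 L147967 q6049, e3 q7044 L147975 q6050, e3 q7045 L156626 q7975, e3 q7046 L147992 q6052, e3 q7047 L148000 q6053, e3 q7048 L156685 q7982, e3 q7049 L148013 q6055, e3 q7050 L156715 q7985, e3 q7051 (flp_h L148024) q6046, e3 q7052 (flp_h L156567) q7969, e3 q7053 L148048 q6230, e3 q7054 L156756 q7989, e3 q7055 (flp_h L156589) q7971, e3 q7056 (flp_h L156605) q7972, e3 q7057 L156832 q7996, e3 q7058 L148093 q6774, e3 q7059 L156864 q7999, e3 q7060 (flp_h L148107) q6051, e3 q7061 (flp_h L156644) q7976, e3 q7062 (flp_h L156658) q7977, e3 q7063 L156911 q8005, e3 q7064 L156925 q8007, e3 q7065 (flp_h L156675) q7980, e3 q7066 L156949 q8011, e3 q7067 (flp_h L148151) q6054, e3 q7068 (flp_h L156702) q7983, e3 q7069 L156971 q8014, e3 q7070 (flp_h L148175) q6056, e3 q7071 (flp_h L155174) q7844, e3 q7072 L148193 q7072, e3 q7073 L157022 q8020, e3 q7074 (flp_h L148204) q6059, e3 q7075 L148220 q7075,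 e3 q7076 L157045 q8022, e3 q7077 (flp_h L148232) q6061, e3 q7078 L157076 q8026, e3 q7079 (flp_h L148246) q6063, e3 q7080 L157093 q8029, e3 q7081 L148262 q7081, e3 q7082 L157105 q8031, e3 q7083 (flp_h L148272) q6065, e3 q7084 (flp_h L151177) q7378, e3 q7085 L157125 q8034, e3 q7086 (flp_h L148296) q6068, e3 q7087 (flp_h L156985) q8015, e3 q7088 L153601 q7650, e3 q7089 (flp_h L153590) q7649, e3 q7090 (flp_h L148325) q6070, e3 q7091 (flp_h L154251) q7725, e3 q7092 L157167 q8039, e3 q7093 (flp_h L148350) q6074, e3 q7094 (flp_h L148358) q6077, e3 q7095 L148373 q6475, e3 q7096 L148388 q6189, e3 q7097 L157176 q8040, e3 q7098 L148414 q6094, e3 q7099 L157206 q8042, e3 q7100 L157222 q8043, e3 q7101 (flp_h L148445) q6085, e3 q7102 L148463 q6100, e3 q7103 L148477 q6101, trivial⟩ (by decide +kernel)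

theorem ce_h_111 : ∀ r, r < 64 → sm gh (Qf (7104 + r)) = Qf (tab Gen.h (7104 + r)) :=
  edges_tab (sm gh) Qf (tab Gen.h) 7104 [(7104, 8047), (7105, 6103), (7106, 8049), (7107, 6088), (7108, 6106), (7109, 8051), (7110, 6090), (7111, 8053), (7112, 6093), (7113, 6377), (7114, 6750), (7115, 8056), (7116, 8057), (7117, 6096), (7118, 6351), (7119, 8059), (7120, 6098), (7121, 6810), (7122, 8063), (7123, 8045), (7124, 8066), (7125, 6102), (7126, 6518), (7127, 8068), (7128, 6104), (7129, 8070), (7130, 6107), (7131, 6114), (7132, 6897), (7133, 6110), (7134, 8060), (7135, 6112), (7136, 8071), (7137, 8072), (7138, 6265), (7139, 6122), (7140, 6123), (7141, 6124), (7142, 8078), (7143, 6127), (7144, 8079), (7145, 6129), (7146, 8081), (7147, 6132), (7148, 7148), (7149, 6134), (7150, 8085), (7151, 6137), (7152, 6138), (7153, 8087), (7154, 6141), (7155, 6156), (7156, 6496), (7157, 8091), (7158, 6144), (7159, 8092), (7160, 6146), (7161, 8094), (7162, 6149), (7163, 7163), (7164, 6151), (7165, 6158), (7166,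 6159), (7167, 8088)]
    ⟨e3 q7104 L157276 q8047, e3 q7105 L148497 q6103, e3 q7106 L157298 q8049, e3 q7107 (flp_h L148515) q6088, e3 q7108 L148534 q6106, e3 q7109 L157323 q8051, e3 q7110 (flp_h L148547) q6090, e3 q7111 L157342 q8053, e3 q7112 (flp_h L148568) q6093, e3 q7113 L148588 q6377, e3 q7114 L148602 q6750, e3 q7115 L157383 q8056, e3 q7116 L157393 q8057, e3 q7117 (flp_h L148630) q6096, e3 q7118 L148652 q6351, e3 q7119 L157421 q8059, e3 q7120 (flp_h L148668) q6098, e3 q7121 L148684 q6810, e3 q7122 L157467 q8063, e3 q7123 (flp_h L157258) q8045, e3 q7124 L157497 q8066, e3 q7125 (flp_h L148711) q6102, e3 q7126 L148726 q6518, e3 q7127 L157516 q8068, e3 q7128 (flp_h L148741) q6104, e3 q7129 L157531 q8070, e3 q7130 (flp_h L148759) q6107, e3 q7131 L148773 q6114, e3 q7132 (flp_h L148785) q6897, e3 q7133 (flp_h L148787) q6110, e3 q7134 (flp_h L157441) q8060, e3 q7135 (flp_h L148807) q6112, e3 q7136 (flp_h L157545) q8071, e3 q7137 (flp_h L157553) q8072, e3 q7138 L148847 q6265, e3 q7139 (flp_h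 L148849) q6122, e3 q7140 (flp_h L148863) q6123, e3 q7141 (flp_h L148879) q6124, e3 q7142 L157603 q8078, e3 q7143 (flp_h L148903) q6127, e3 q7144 L157615 q8079, e3 q7145 (flp_h L148929) q6129, e3 q7146 L157643 q8081, e3 q7147 (flp_h L148954) q6132, e3 q7148 L148968 q7148, e3 q7149 (flp_h L148969) q6134, e3 q7150 L157686 q8085, e3 q7151 (flp_h L148993) q6137, e3 q7152 (flp_h L149007) q6138, e3 q7153 L157713 q8087, e3 q7154 (flp_h L149035) q6141, e3 q7155 L149053 q6156, e3 q7156 L149062 q6496, e3 q7157 L157762 q8091, e3 q7158 (flp_h L149077) q6144, e3 q7159 L157772 q8092, e3 q7160 (flp_h L149096) q6146, e3 q7161 L157795 q8094, e3 q7162 (flp_h L149119) q6149, e3 q7163 L149129 q7163, e3 q7164 (flp_h L149130) q6151, e3 q7165 L149140 q6158, e3 q7166 L149146 q6159, e3 q7167 (flp_h L157739) q8088, trivial⟩ (by decide +kernel)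

theorem ce_h_112 : ∀ r, r < 64 → sm gh (Qf (7168 + r)) = Qf (tab Gen.h (7168 + r)) :=
  edges_tab (sm gh) Qf (tab Gen.h) 7168 [(7168, 8089), (7169, 8097), (7170, 8098), (7171, 7173), (7172, 6175), (7173, 7171), (7174, 7513), (7175, 8108), (7176, 7397), (7177, 6734), (7178, 8113), (7179, 6735), (7180, 8116), (7181, 6167), (7182, 6176), (7183, 6177), (7184, 6178), (7185, 6535), (7186, 6536), (7187, 6179), (7188, 6180), (7189, 7959), (7190, 6727), (7191, 7582), (7192, 6695), (7193, 6422), (7194, 7847), (7195, 7968), (7196, 6784), (7197, 6196), (7198, 7198), (7199, 8122), (7200, 6198), (7201, 6844), (7202, 6207), (7203, 6920), (7204, 6257), (7205, 6215), (7206, 8126), (7207, 6375), (7208, 8129), (7209, 7986), (7210, 6372), (7211, 8134), (7212, 8135), (7213, 6217), (7214, 7035), (7215, 6417), (7216, 7469), (7217, 7472), (7218, 6225), (7219, 6227), (7220, 6400), (7221, 8139), (7222, 6229), (7223, 7858), (7224, 8141), (7225, 6231), (7226, 6232), (7227, 8143), (7228, 6237), (7229, 8145), (7230,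 6240), (7231, 8142)]
    ⟨e3 q7168 (flp_h L157747) q8089, e3 q7169 (flp_h L157831) q8097, e3 q7170 (flp_h L157841) q8098, e3 q7171 (flp_h L149212) q7173, e3 q7172 L149203 q6175, e3 q7173 L149212 q7171, e3 q7174 (flp_h L152289) q7513, e3 q7175 L157932 q8108, e3 q7176 (flp_h L151338) q7397, e3 q7177 L149240 q6734, e3 q7178 L157977 q8113, e3 q7179 L149261 q6735, e3 q7180 L158004 q8116, e3 q7181 (flp_h L149271) q6167, e3 q7182 L149290 q6176, e3 q7183 L149298 q6177, e3 q7184 L149315 q6178, e3 q7185 L149328 q6535, e3 q7186 L149342 q6536, e3 q7187 L149352 q6179, e3 q7188 L149367 q6180, e3 q7189 (flp_h L156484) q7959, e3 q7190 L149385 q6727, e3 q7191 (flp_h L152927) q7582, e3 q7192 L149407 q6695, e3 q7193 L149421 q6422, e3 q7194 (flp_h L155212) q7847, e3 q7195 (flp_h L156557) q7968, e3 q7196 (flp_h L149462) q6784, e3 q7197 (flp_h L149464) q6196, e3 q7198 L149491 q7198, e3 q7199 L158083 q8122, e3 q7200 (flp_h L149503) q6198, e3 q7201 (flp_h L149530) q6844, e3 q7202 (flp_h L149532) q6207, e3 q7203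 L149559 q6920, e3 q7204 L149574 q6257, e3 q7205 L149586 q6215, e3 q7206 L158138 q8126, e3 q7207 L149610 q6375, e3 q7208 L158178 q8129, e3 q7209 (flp_h L156731) q7986, e3 q7210 L149642 q6372, e3 q7211 L158234 q8134, e3 q7212 L158242 q8135, e3 q7213 (flp_h L149666) q6217, e3 q7214 L149686 q7035, e3 q7215 L149700 q6417, e3 q7216 L151896 q7469, e3 q7217 (flp_h L151931) q7472, e3 q7218 (flp_h L149718) q6225, e3 q7219 (flp_h L149730) q6227, e3 q7220 L149752 q6400, e3 q7221 L158292 q8139, e3 q7222 (flp_h L149766) q6229, e3 q7223 (flp_h L155319) q7858, e3 q7224 L158314 q8141, e3 q7225 (flp_h L149794) q6231, e3 q7226 (flp_h L149802) q6232, e3 q7227 L158330 q8143, e3 q7228 (flp_h L149822) q6237, e3 q7229 L158354 q8145, e3 q7230 (flp_h L149843) q6240, e3 q7231 (flp_h L158328) q8142, trivial⟩ (by decide +kernel)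

theorem ce_h_113 : ∀ r, r < 64 → sm gh (Qf (7232 + r)) = Qf (tab Gen.h (7232 + r)) :=
  edges_tab (sm gh) Qf (tab Gen.h) 7232 [(7232, 6243), (7233, 8149), (7234, 6246), (7235, 6252), (7236, 8148), (7237, 6250), (7238, 8150), (7239, 8080), (7240, 6254), (7241, 7520), (7242, 6383), (7243, 7696), (7244, 7697), (7245, 8162), (7246, 6264), (7247, 6385), (7248, 6266), (7249, 8167), (7250, 6269), (7251, 6270), (7252, 8174), (7253, 6272), (7254, 8176), (7255, 6263), (7256, 8163), (7257, 7901), (7258, 8180), (7259, 8165), (7260, 6694), (7261, 8186), (7262, 6693), (7263, 8188), (7264, 6268), (7265, 8168), (7266, 8169), (7267, 8194), (7268, 8196), (7269, 8172), (7270, 8200), (7271, 6271), (7272, 7911), (7273, 8203), (7274, 6273), (7275, 8206), (7276, 6631), (7277, 6673), (7278, 6632), (7279, 6675), (7280, 8213), (7281, 6279), (7282, 8216), (7283, 6636), (7284, 8218), (7285, 6281), (7286, 7718), (7287, 8221), (7288, 6284), (7289, 8204), (7290, 7616), (7291, 7615), (7292, 6286), (7293, 7382), (7294,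 8226), (7295, 6290)]
    ⟨e3 q7232 (flp_h L149861) q6243, e3 q7233 L158401 q8149, e3 q7234 (flp_h L149881) q6246, e3 q7235 L149895 q6252, e3 q7236 (flp_h L158399) q8148, e3 q7237 (flp_h L149908) q6250, e3 q7238 (flp_h L158419) q8150, e3 q7239 (flp_h L157639) q8080, e3 q7240 (flp_h L149943) q6254, e3 q7241 (flp_h L152349) q7520, e3 q7242 L149972 q6383, e3 q7243 (flp_h L154000) q7696, e3 q7244 (flp_h L154009) q7697, e3 q7245 L158515 q8162, e3 q7246 L150002 q6264, e3 q7247 L150014 q6385, e3 q7248 L150024 q6266, e3 q7249 L158560 q8167, e3 q7250 L150040 q6269, e3 q7251 L150052 q6270, e3 q7252 L158626 q8174, e3 q7253 L150068 q6272, e3 q7254 L158644 q8176, e3 q7255 (flp_h L150082) q6263, e3 q7256 (flp_h L158526) q8163, e3 q7257 (flp_h L155768) q7901, e3 q7258 L158683 q8180, e3 q7259 (flp_h L158544) q8165, e3 q7260 L150131 q6694, e3 q7261 L158739 q8186, e3 q7262 L150149 q6693, e3 q7263 L158757 q8188, e3 q7264 (flp_h L150163) q6268, e3 q7265 (flp_h L158580) q8168, e3 q7266 (flp_h L158592) q8169,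 e3 q7267 L158812 q8194, e3 q7268 L158826 q8196, e3 q7269 (flp_h L158614) q8172, e3 q7270 L158854 q8200, e3 q7271 (flp_h L150213) q6271, e3 q7272 (flp_h L155887) q7911, e3 q7273 L158876 q8203, e3 q7274 (flp_h L150237) q6273, e3 q7275 L158905 q8206, e3 q7276 L150259 q6631, e3 q7277 L150273 q6673, e3 q7278 L150282 q6632, e3 q7279 L150295 q6675, e3 q7280 L158976 q8213, e3 q7281 (flp_h L150304) q6279, e3 q7282 L159005 q8216, e3 q7283 L150327 q6636, e3 q7284 L159021 q8218, e3 q7285 (flp_h L150340) q6281, e3 q7286 (flp_h L154183) q7718, e3 q7287 L159054 q8221, e3 q7288 (flp_h L150376) q6284, e3 q7289 (flp_h L158896) q8204, e3 q7290 L153266 q7616, e3 q7291 L153253 q7615, e3 q7292 (flp_h L150413) q6286, e3 q7293 (flp_h L151214) q7382, e3 q7294 L159107 q8226, e3 q7295 (flp_h L150441) q6290, trivial⟩ (by decide +kernel)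

theorem ce_h_114 : ∀ r, r < 64 → sm gh (Qf (7296 + r)) = Qf (tab Gen.h (7296 + r)) :=
  edges_tab (sm gh) Qf (tab Gen.h) 7296 [(7296, 6293), (7297, 7792), (7298, 8227), (7299, 6308), (7300, 8229), (7301, 6299), (7302, 6314), (7303, 6315), (7304, 8232), (7305, 8233), (7306, 6302), (7307, 8235), (7308, 6304), (7309, 8236), (7310, 6307), (7311, 6703), (7312, 8238), (7313, 8239), (7314, 6310), (7315, 8241), (7316, 6312), (7317, 7997), (7318, 8243), (7319, 7872), (7320, 8245), (7321, 6316), (7322, 8247), (7323, 6318), (7324, 6335), (7325, 8250), (7326, 6321), (7327, 6327), (7328, 6702), (7329, 6325), (7330, 8251), (7331, 6331), (7332, 8240), (7333, 6333), (7334, 8246), (7335, 8249), (7336, 6336), (7337, 6337), (7338, 8258), (7339, 6340), (7340, 6341), (7341, 7341), (7342, 6343), (7343, 6345), (7344, 6347), (7345, 6364), (7346, 6349), (7347, 8263), (7348, 6352), (7349, 6353), (7350, 6366), (7351, 6355), (7352, 7352), (7353, 6367), (7354, 6358), (7355, 6363), (7356, 8262), (7357, 8264), (7358,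 7037), (7359, 7038)]
    ⟨e3 q7296 (flp_h L150452) q6293, e3 q7297 (flp_h L154734) q7792, e3 q7298 L159119 q8227, e3 q7299 L150488 q6308, e3 q7300 L159140 q8229, e3 q7301 (flp_h L150503) q6299, e3 q7302 L150520 q6314, e3 q7303 L150530 q6315, e3 q7304 L159171 q8232, e3 q7305 L159177 q8233, e3 q7306 (flp_h L150551) q6302, e3 q7307 L159198 q8235, e3 q7308 (flp_h L150567) q6304, e3 q7309 L159208 q8236, e3 q7310 (flp_h L150586) q6307, e3 q7311 L150600 q6703, e3 q7312 L159225 q8238, e3 q7313 L159233 q8239, e3 q7314 (flp_h L150624) q6310, e3 q7315 L159253 q8241, e3 q7316 (flp_h L150640) q6312, e3 q7317 (flp_h L156848) q7997, e3 q7318 L159274 q8243, e3 q7319 (flp_h L155452) q7872, e3 q7320 L159289 q8245, e3 q7321 (flp_h L150683) q6316, e3 q7322 L159301 q8247, e3 q7323 (flp_h L150696) q6318, e3 q7324 L150708 q6335, e3 q7325 L159324 q8250, e3 q7326 (flp_h L150718) q6321, e3 q7327 L150734 q6327, e3 q7328 L150748 q6702, e3 q7329 (flp_h L150750) q6325, e3 q7330 (flp_h L159338) q8251, e3 q7331 (flp_h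 L150773) q6331, e3 q7332 (flp_h L159251) q8240, e3 q7333 (flp_h L150790) q6333, e3 q7334 (flp_h L159299) q8246, e3 q7335 (flp_h L159322) q8249, e3 q7336 (flp_h L150813) q6336, e3 q7337 (flp_h L150823) q6337, e3 q7338 L159392 q8258, e3 q7339 (flp_h L150844) q6340, e3 q7340 (flp_h L150854) q6341, e3 q7341 L150870 q7341, e3 q7342 (flp_h L150871) q6343, e3 q7343 (flp_h L150881) q6345, e3 q7344 (flp_h L150887) q6347, e3 q7345 L150905 q6364, e3 q7346 (flp_h L150907) q6349, e3 q7347 L159443 q8263, e3 q7348 (flp_h L150928) q6352, e3 q7349 (flp_h L150936) q6353, e3 q7350 L150952 q6366, e3 q7351 (flp_h L150954) q6355, e3 q7352 L150966 q7352, e3 q7353 L150969 q6367, e3 q7354 (flp_h L150971) q6358, e3 q7355 L150985 q6363, e3 q7356 (flp_h L159439) q8262, e3 q7357 (flp_h L159459) q8264, e3 q7358 L151012 q7037, e3 q7359 L151024 q7038, trivial⟩ (by decide +kernel)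

theorem ce_h_115 : ∀ r, r < 64 → sm gh (Qf (7360 + r)) = Qf (tab Gen.h (7360 + r)) :=
  edges_tab (sm gh) Qf (tab Gen.h) 7360 [(7360, 8271), (7361, 6374), (7362, 8273), (7363, 6371), (7364, 8274), (7365, 6373), (7366, 8127), (7367, 8278), (7368, 8280), (7369, 7990), (7370, 8283), (7371, 6376), (7372, 8285), (7373, 6378), (7374, 8287), (7375, 6381), (7376, 8290), (7377, 8153), (7378, 7084), (7379, 8293), (7380, 8295), (7381, 6386), (7382, 7293), (7383, 8297), (7384, 6390), (7385, 6393), (7386, 6834), (7387, 8298), (7388, 6397), (7389, 7905), (7390, 8300), (7391, 6401), (7392, 8301), (7393, 6403), (7394, 6405), (7395, 6411), (7396, 7396), (7397, 7176), (7398, 8117), (7399, 7402), (7400, 7521), (7401, 8308), (7402, 7399), (7403, 7751), (7404, 8315), (7405, 7753), (7406, 8318), (7407, 6420), (7408, 6432), (7409, 8321), (7410, 6434), (7411, 6425), (7412, 6437), (7413, 6438), (7414, 8327), (7415, 8329), (7416, 6441), (7417, 8333), (7418, 6428), (7419, 6444), (7420, 8336), (7421, 6430), (7422,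 8338), (7423, 8320)]
    ⟨e3 q7360 L159521 q8271, e3 q7361 L151040 q6374, e3 q7362 L159539 q8273, e3 q7363 (flp_h L151050) q6371, e3 q7364 L159547 q8274, e3 q7365 (flp_h L151068) q6373, e3 q7366 (flp_h L158162) q8127, e3 q7367 L159576 q8278, e3 q7368 L159590 q8280, e3 q7369 (flp_h L156776) q7990, e3 q7370 L159618 q8283, e3 q7371 (flp_h L151110) q6376, e3 q7372 L159632 q8285, e3 q7373 (flp_h L151126) q6378, e3 q7374 L159647 q8287, e3 q7375 (flp_h L151137) q6381, e3 q7376 L159676 q8290, e3 q7377 (flp_h L158452) q8153, e3 q7378 L151177 q7084, e3 q7379 L159709 q8293, e3 q7380 L159737 q8295, e3 q7381 (flp_h L151194) q6386, e3 q7382 L151214 q7293, e3 q7383 L159765 q8297, e3 q7384 (flp_h L151224) q6390, e3 q7385 (flp_h L151235) q6393, e3 q7386 L151254 q6834, e3 q7387 L159777 q8298, e3 q7388 (flp_h L151264) q6397, e3 q7389 (flp_h L155819) q7905, e3 q7390 L159794 q8300, e3 q7391 (flp_h L151288) q6401, e3 q7392 L159800 q8301, e3 q7393 (flp_h L151305) q6403, e3 q7394 (flp_h L151313) q6405, e3 q7395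 (flp_h L151321) q6411, e3 q7396 L151331 q7396, e3 q7397 L151338 q7176, e3 q7398 (flp_h L158023) q8117, e3 q7399 (flp_h L151378) q7402, e3 q7400 (flp_h L152358) q7521, e3 q7401 L159856 q8308, e3 q7402 L151378 q7399, e3 q7403 (flp_h L154433) q7751, e3 q7404 L159908 q8315, e3 q7405 (flp_h L154446) q7753, e3 q7406 L159926 q8318, e3 q7407 (flp_h L151406) q6420, e3 q7408 L151420 q6432, e3 q7409 L159952 q8321, e3 q7410 L151438 q6434, e3 q7411 (flp_h L151440) q6425, e3 q7412 L151454 q6437, e3 q7413 L151464 q6438, e3 q7414 L160005 q8327, e3 q7415 L160021 q8329, e3 q7416 L151482 q6441, e3 q7417 L160045 q8333, e3 q7418 (flp_h L151490) q6428, e3 q7419 L151502 q6444, e3 q7420 L160065 q8336, e3 q7421 (flp_h L151512) q6430, e3 q7422 L160081 q8338, e3 q7423 (flp_h L159950) q8320, trivial⟩ (by decide +kernel)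

theorem ce_h_116 : ∀ r, r < 64 → sm gh (Qf (7424 + r)) = Qf (tab Gen.h (7424 + r)) :=
  edges_tab (sm gh) Qf (tab Gen.h) 7424 [(7424, 8342), (7425, 6433), (7426, 7909), (7427, 8345), (7428, 6435), (7429, 8322), (7430, 8349), (7431, 8351), (7432, 8325), (7433, 8355), (7434, 6439), (7435, 8359), (7436, 6440), (7437, 8362), (7438, 8331), (7439, 8364), (7440, 6442), (7441, 7768), (7442, 8367), (7443, 6445), (7444, 6463), (7445, 8372), (7446, 6447), (7447, 8375), (7448, 6681), (7449, 8377), (7450, 6449), (7451, 7540), (7452, 8380), (7453, 6452), (7454, 7455), (7455, 7454), (7456, 6454), (7457, 8384), (7458, 8385), (7459, 6456), (7460, 8387), (7461, 6458), (7462, 8386), (7463, 7781), (7464, 6461), (7465, 8368), (7466, 8369), (7467, 8393), (7468, 8394), (7469, 7216), (7470, 6467), (7471, 6470), (7472, 7217), (7473, 7729), (7474, 6491), (7475, 8397), (7476, 6493), (7477, 8399), (7478, 6481), (7479, 8400), (7480, 6483), (7481, 8402), (7482, 6486), (7483, 8403), (7484, 6489), (7485, 8064), (7486,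 8405), (7487, 6492)]
    ⟨e3 q7424 L160115 q8342, e3 q7425 (flp_h L151544) q6433, e3 q7426 (flp_h L155863) q7909, e3 q7427 L160141 q8345, e3 q7428 (flp_h L151568) q6435, e3 q7429 (flp_h L159970) q8322, e3 q7430 L160173 q8349, e3 q7431 L160189 q8351, e3 q7432 (flp_h L159993) q8325, e3 q7433 L160227 q8355, e3 q7434 (flp_h L151620) q6439, e3 q7435 L160257 q8359, e3 q7436 (flp_h L151634) q6440, e3 q7437 L160279 q8362, e3 q7438 (flp_h L160037) q8331, e3 q7439 L160289 q8364, e3 q7440 (flp_h L151654) q6442, e3 q7441 (flp_h L154537) q7768, e3 q7442 L160299 q8367, e3 q7443 (flp_h L151670) q6445, e3 q7444 L151680 q6463, e3 q7445 L160338 q8372, e3 q7446 (flp_h L151688) q6447, e3 q7447 L160366 q8375, e3 q7448 L151711 q6681, e3 q7449 L160383 q8377, e3 q7450 (flp_h L151724) q6449, e3 q7451 (flp_h L152528) q7540, e3 q7452 L160418 q8380, e3 q7453 (flp_h L151760) q6452, e3 q7454 L151783 q7455, e3 q7455 (flp_h L151783) q7454, e3 q7456 (flp_h L151785) q6454, e3 q7457 L160459 q8384, e3 q7458 L160465 q8385,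 e3 q7459 (flp_h L151811) q6456, e3 q7460 L160477 q8387, e3 q7461 (flp_h L151825) q6458, e3 q7462 (flp_h L160475) q8386, e3 q7463 (flp_h L154631) q7781, e3 q7464 (flp_h L151849) q6461, e3 q7465 (flp_h L160311) q8368, e3 q7466 (flp_h L160315) q8369, e3 q7467 L160527 q8393, e3 q7468 L160537 q8394, e3 q7469 (flp_h L151896) q7216, e3 q7470 (flp_h L151898) q6467, e3 q7471 (flp_h L151910) q6470, e3 q7472 L151931 q7217, e3 q7473 (flp_h L154296) q7729, e3 q7474 L151961 q6491, e3 q7475 L160578 q8397, e3 q7476 L151979 q6493, e3 q7477 L160595 q8399, e3 q7478 (flp_h L151990) q6481, e3 q7479 L160605 q8400, e3 q7480 (flp_h L152007) q6483, e3 q7481 L160624 q8402, e3 q7482 (flp_h L152027) q6486, e3 q7483 L160632 q8403, e3 q7484 (flp_h L152047) q6489, e3 q7485 (flp_h L157484) q8064, e3 q7486 L160652 q8405, e3 q7487 (flp_h L152075) q6492, trivial⟩ (by decide +kernel)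

theorem ce_h_117 : ∀ r, r < 64 → sm gh (Qf (7488 + r)) = Qf (tab Gen.h (7488 + r)) :=
  edges_tab (sm gh) Qf (tab Gen.h) 7488 [(7488, 8061), (7489, 8407), (7490, 6494), (7491, 8409), (7492, 6497), (7493, 6603), (7494, 6499), (7495, 6505), (7496, 6506), (7497, 6502), (7498, 8412), (7499, 8413), (7500, 6509), (7501, 6510), (7502, 6512), (7503, 7503), (7504, 6514), (7505, 6516), (7506, 8416), (7507, 6519), (7508, 6521), (7509, 6616), (7510, 6523), (7511, 6618), (7512, 6619), (7513, 7174), (7514, 8422), (7515, 8423), (7516, 8424), (7517, 6534), (7518, 8425), (7519, 6538), (7520, 7241), (7521, 7400), (7522, 8430), (7523, 6736), (7524, 8433), (7525, 6541), (7526, 7810), (7527, 8435), (7528, 6543), (7529, 7632), (7530, 8438), (7531, 7531), (7532, 8442), (7533, 6549), (7534, 8445), (7535, 6550), (7536, 8448), (7537, 7537), (7538, 8450), (7539, 6552), (7540, 7451), (7541, 7542), (7542, 7541), (7543, 6554), (7544, 8456), (7545, 8457), (7546, 6556), (7547, 8459), (7548, 6558), (7549, 8458), (7550,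 7563), (7551, 6561)]
    ⟨e3 q7488 (flp_h L157450) q8061, e3 q7489 L160672 q8407, e3 q7490 (flp_h L152099) q6494, e3 q7491 L160686 q8409, e3 q7492 (flp_h L152119) q6497, e3 q7493 L152133 q6603, e3 q7494 (flp_h L152135) q6499, e3 q7495 L152147 q6505, e3 q7496 L152153 q6506, e3 q7497 (flp_h L152155) q6502, e3 q7498 (flp_h L160716) q8412, e3 q7499 L160718 q8413, e3 q7500 (flp_h L152183) q6509, e3 q7501 (flp_h L152191) q6510, e3 q7502 (flp_h L152201) q6512, e3 q7503 L152215 q7503, e3 q7504 (flp_h L152216) q6514, e3 q7505 (flp_h L152222) q6516, e3 q7506 L160744 q8416, e3 q7507 (flp_h L152238) q6519, e3 q7508 (flp_h L152246) q6521, e3 q7509 L152258 q6616, e3 q7510 (flp_h L152260) q6523, e3 q7511 L152272 q6618, e3 q7512 L152278 q6619, e3 q7513 L152289 q7174, e3 q7514 L160794 q8422, e3 q7515 L160803 q8423, e3 q7516 L160812 q8424, e3 q7517 (flp_h L152316) q6534, e3 q7518 L160819 q8425, e3 q7519 (flp_h L152336) q6538, e3 q7520 L152349 q7241, e3 q7521 L152358 q7400, e3 q7522 L160865 q8430, e3 q7523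 L152375 q6736, e3 q7524 L160895 q8433, e3 q7525 (flp_h L152389) q6541, e3 q7526 (flp_h L154866) q7810, e3 q7527 L160913 q8435, e3 q7528 (flp_h L152410) q6543, e3 q7529 (flp_h L153448) q7632, e3 q7530 L160930 q8438, e3 q7531 L152441 q7531, e3 q7532 L160972 q8442, e3 q7533 (flp_h L152454) q6549, e3 q7534 L161001 q8445, e3 q7535 (flp_h L152471) q6550, e3 q7536 L161029 q8448, e3 q7537 L152497 q7537, e3 q7538 L161048 q8450, e3 q7539 (flp_h L152509) q6552, e3 q7540 L152528 q7451, e3 q7541 L152545 q7542, e3 q7542 (flp_h L152545) q7541, e3 q7543 (flp_h L152547) q6554, e3 q7544 L161105 q8456, e3 q7545 L161112 q8457, e3 q7546 (flp_h L152576) q6556, e3 q7547 L161128 q8459, e3 q7548 (flp_h L152593) q6558, e3 q7549 (flp_h L161126) q8458, e3 q7550 (flp_h L152745) q7563, e3 q7551 (flp_h L152615) q6561, trivial⟩ (by decide +kernel)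

theorem ce_h_118 : ∀ r, r < 64 → sm gh (Qf (7552 + r)) = Qf (tab Gen.h (7552 + r)) :=
  edges_tab (sm gh) Qf (tab Gen.h) 7552 [(7552, 6585), (7553, 6586), (7554, 6862), (7555, 6861), (7556, 6564), (7557, 8468), (7558, 8469), (7559, 6566), (7560, 8471), (7561, 6568), (7562, 8470), (7563, 7550), (7564, 6571), (7565, 6872), (7566, 6873), (7567, 8477), (7568, 8478), (7569, 8479), (7570, 6577), (7571, 6578), (7572, 6582), (7573, 6580), (7574, 8480), (7575, 8482), (7576, 8483), (7577, 8464), (7578, 6587), (7579, 6588), (7580, 6589), (7581, 6594), (7582, 7191), (7583, 7583), (7584, 8488), (7585, 6596), (7586, 8490), (7587, 6599), (7588, 8408), (7589, 6601), (7590, 8410), (7591, 8411), (7592, 6610), (7593, 6891), (7594, 8495), (7595, 6612), (7596, 8417), (7597, 6614), (7598, 8418), (7599, 8419), (7600, 6696), (7601, 7601), (7602, 7602), (7603, 7603), (7604, 8499), (7605, 6624), (7606, 8501), (7607, 6628), (7608, 6629), (7609, 8505), (7610, 6627), (7611, 8502), (7612, 8509), (7613, 6630), (7614,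 8208), (7615, 7291)]
    ⟨e3 q7552 L152634 q6585, e3 q7553 L152642 q6586, e3 q7554 (flp_h L152653) q6862, e3 q7555 (flp_h L152668) q6861, e3 q7556 (flp_h L152670) q6564, e3 q7557 L161219 q8468, e3 q7558 L161226 q8469, e3 q7559 (flp_h L152703) q6566, e3 q7560 L161244 q8471, e3 q7561 (flp_h L152722) q6568, e3 q7562 (flp_h L161242) q8470, e3 q7563 L152745 q7550, e3 q7564 (flp_h L152749) q6571, e3 q7565 L152770 q6872, e3 q7566 L152778 q6873, e3 q7567 L161303 q8477, e3 q7568 L161308 q8478, e3 q7569 L161315 q8479, e3 q7570 (flp_h L152807) q6577, e3 q7571 (flp_h L152812) q6578, e3 q7572 L152820 q6582, e3 q7573 (flp_h L152822) q6580, e3 q7574 (flp_h L161331) q8480, e3 q7575 (flp_h L161349) q8482, e3 q7576 (flp_h L161354) q8483, e3 q7577 (flp_h L161176) q8464, e3 q7578 (flp_h L152869) q6587, e3 q7579 (flp_h L152875) q6588, e3 q7580 (flp_h L152886) q6589, e3 q7581 L152911 q6594, e3 q7582 L152927 q7191, e3 q7583 L152938 q7583, e3 q7584 L161399 q8488, e3 q7585 (flp_h L152950) q6596, e3 q7586 L161418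 q8490, e3 q7587 (flp_h L152970) q6599, e3 q7588 (flp_h L160684) q8408, e3 q7589 (flp_h L152985) q6601, e3 q7590 (flp_h L160702) q8410, e3 q7591 (flp_h L160710) q8411, e3 q7592 L153018 q6610, e3 q7593 L153026 q6891, e3 q7594 L161457 q8495, e3 q7595 (flp_h L153040) q6612, e3 q7596 (flp_h L160756) q8417, e3 q7597 (flp_h L153056) q6614, e3 q7598 (flp_h L160764) q8418, e3 q7599 (flp_h L160772) q8419, e3 q7600 L153091 q6696, e3 q7601 L153107 q7601, e3 q7602 L153118 q7602, e3 q7603 L153124 q7603, e3 q7604 L161495 q8499, e3 q7605 (flp_h L153133) q6624, e3 q7606 L161515 q8501, e3 q7607 L153162 q6628, e3 q7608 L153172 q6629, e3 q7609 L161572 q8505, e3 q7610 (flp_h L153188) q6627, e3 q7611 (flp_h L161534) q8502, e3 q7612 L161631 q8509, e3 q7613 (flp_h L153223) q6630, e3 q7614 (flp_h L158931) q8208, e3 q7615 (flp_h L153253) q7291, trivial⟩ (by decide +kernel)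

theorem ce_h_119 : ∀ r, r < 64 → sm gh (Qf (7616 + r)) = Qf (tab Gen.h (7616 + r)) :=
  edges_tab (sm gh) Qf (tab Gen.h) 7616 [(7616, 7290), (7617, 6633), (7618, 8292), (7619, 8512), (7620, 6635), (7621, 8514), (7622, 6637), (7623, 8513), (7624, 7624), (7625, 6640), (7626, 6657), (7627, 6656), (7628, 6646), (7629, 8517), (7630, 6653), (7631, 6654), (7632, 7529), (7633, 6660), (7634, 8519), (7635, 6665), (7636, 8521), (7637, 7637), (7638, 8524), (7639, 6667), (7640, 7640), (7641, 8526), (7642, 6669), (7643, 8530), (7644, 6671), (7645, 8533), (7646, 6678), (7647, 8209), (7648, 8210), (7649, 7089), (7650, 7088), (7651, 6676), (7652, 8510), (7653, 6824), (7654, 6823), (7655, 6679), (7656, 8506), (7657, 8119), (7658, 8137), (7659, 8537), (7660, 6685), (7661, 6686), (7662, 6690), (7663, 6688), (7664, 8110), (7665, 8539), (7666, 8428), (7667, 8184), (7668, 8181), (7669, 7033), (7670, 7670), (7671, 8545), (7672, 6705), (7673, 6706), (7674, 6707), (7675, 6709), (7676, 8463), (7677, 6712), (7678,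 8436), (7679, 8550)]
    ⟨e3 q7616 (flp_h L153266) q7290, e3 q7617 (flp_h L153268) q6633, e3 q7618 L159707 q8292, e3 q7619 L161667 q8512, e3 q7620 (flp_h L153296) q6635, e3 q7621 L161688 q8514, e3 q7622 (flp_h L153319) q6637, e3 q7623 (flp_h L161686) q8513, e3 q7624 L153346 q7624, e3 q7625 (flp_h L153349) q6640, e3 q7626 (flp_h L153372) q6657, e3 q7627 L153387 q6656, e3 q7628 (flp_h L153389) q6646, e3 q7629 L161721 q8517, e3 q7630 (flp_h L153413) q6653, e3 q7631 (flp_h L153427) q6654, e3 q7632 L153448 q7529, e3 q7633 (flp_h L153450) q6660, e3 q7634 L161751 q8519, e3 q7635 (flp_h L153472) q6665, e3 q7636 L161773 q8521, e3 q7637 L153495 q7637, e3 q7638 L161796 q8524, e3 q7639 (flp_h L153506) q6667, e3 q7640 L153526 q7640, e3 q7641 L161819 q8526, e3 q7642 (flp_h L153536) q6669, e3 q7643 L161849 q8530, e3 q7644 (flp_h L153548) q6671, e3 q7645 L161872 q8533, e3 q7646 L153564 q6678, e3 q7647 (flp_h L158945) q8209, e3 q7648 (flp_h L158958) q8210, e3 q7649 L153590 q7089, e3 q7650 (flp_h L153601)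 q7088, e3 q7651 (flp_h L153603) q6676, e3 q7652 (flp_h L161654) q8510, e3 q7653 (flp_h L153628) q6824, e3 q7654 (flp_h L153640) q6823, e3 q7655 (flp_h L153642) q6679, e3 q7656 (flp_h L161597) q8506, e3 q7657 (flp_h L158051) q8119, e3 q7658 (flp_h L158278) q8137, e3 q7659 L161904 q8537, e3 q7660 (flp_h L153690) q6685, e3 q7661 (flp_h L153696) q6686, e3 q7662 L153707 q6690, e3 q7663 (flp_h L153709) q6688, e3 q7664 (flp_h L157952) q8110, e3 q7665 (flp_h L161924) q8539, e3 q7666 (flp_h L160852) q8428, e3 q7667 (flp_h L158727) q8184, e3 q7668 (flp_h L158701) q8181, e3 q7669 L153758 q7033, e3 q7670 L153769 q7670, e3 q7671 L161973 q8545, e3 q7672 (flp_h L153783) q6705, e3 q7673 (flp_h L153797) q6706, e3 q7674 (flp_h L153811) q6707, e3 q7675 (flp_h L153821) q6709, e3 q7676 (flp_h L161165) q8463, e3 q7677 (flp_h L153841) q6712, e3 q7678 (flp_h L160921) q8436, e3 q7679 L162018 q8550, trivial⟩ (by decide +kernel)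

theorem ce_h_120 : ∀ r, r < 64 → sm gh (Qf (7680 + r)) = Qf (tab Gen.h (7680 + r)) :=
  edges_tab (sm gh) Qf (tab Gen.h) 7680 [(7680, 8551), (7681, 8552), (7682, 6717), (7683, 6718), (7684, 6722), (7685, 6720), (7686, 8553), (7687, 8114), (7688, 8431), (7689, 7689), (7690, 7690), (7691, 6728), (7692, 6729), (7693, 8481), (7694, 8104), (7695, 7965), (7696, 7243), (7697, 7244), (7698, 8564), (7699, 6747), (7700, 6748), (7701, 8568), (7702, 8569), (7703, 6746), (7704, 7994), (7705, 8572), (7706, 8574), (7707, 7991), (7708, 8577), (7709, 6749), (7710, 8579), (7711, 6751), (7712, 8583), (7713, 6753), (7714, 8586), (7715, 7715), (7716, 8588), (7717, 6755), (7718, 7286), (7719, 8591), (7720, 6758), (7721, 8580), (7722, 8508), (7723, 8507), (7724, 6760), (7725, 7091), (7726, 8596), (7727, 6764), (7728, 6767), (7729, 7473), (7730, 8597), (7731, 6771), (7732, 6772), (7733, 8600), (7734, 6775), (7735, 6776), (7736, 6787), (7737, 6778), (7738, 6782), (7739, 6780), (7740, 8604), (7741, 8605), (7742,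 8601), (7743, 8603)]
    ⟨e3 q7680 L162033 q8551, e3 q7681 L162047 q8552, e3 q7682 (flp_h L153885) q6717, e3 q7683 (flp_h L153891) q6718, e3 q7684 L153905 q6722, e3 q7685 (flp_h L153907) q6720, e3 q7686 (flp_h L162064) q8553, e3 q7687 (flp_h L157992) q8114, e3 q7688 (flp_h L160881) q8431, e3 q7689 L153945 q7689, e3 q7690 L153951 q7690, e3 q7691 (flp_h L153954) q6728, e3 q7692 (flp_h L153964) q6729, e3 q7693 (flp_h L161342) q8481, e3 q7694 (flp_h L157905) q8104, e3 q7695 (flp_h L156525) q7965, e3 q7696 L154000 q7243, e3 q7697 L154009 q7244, e3 q7698 L162154 q8564, e3 q7699 L154021 q6747, e3 q7700 L154031 q6748, e3 q7701 L162180 q8568, e3 q7702 L162188 q8569, e3 q7703 (flp_h L154048) q6746, e3 q7704 (flp_h L156820) q7994, e3 q7705 L162213 q8572, e3 q7706 L162227 q8574, e3 q7707 (flp_h L156790) q7991, e3 q7708 L162253 q8577, e3 q7709 (flp_h L154092) q6749, e3 q7710 L162267 q8579, e3 q7711 (flp_h L154108) q6751, e3 q7712 L162299 q8583, e3 q7713 (flp_h L154123) q6753, e3 q7714 L162324 q8586,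 e3 q7715 L154149 q7715, e3 q7716 L162342 q8588, e3 q7717 (flp_h L154161) q6755, e3 q7718 L154183 q7286, e3 q7719 L162374 q8591, e3 q7720 (flp_h L154195) q6758, e3 q7721 (flp_h L162281) q8580, e3 q7722 L161629 q8508, e3 q7723 L161612 q8507, e3 q7724 (flp_h L154228) q6760, e3 q7725 L154251 q7091, e3 q7726 L162426 q8596, e3 q7727 (flp_h L154263) q6764, e3 q7728 (flp_h L154275) q6767, e3 q7729 L154296 q7473, e3 q7730 L162439 q8597, e3 q7731 (flp_h L154303) q6771, e3 q7732 (flp_h L154311) q6772, e3 q7733 L162459 q8600, e3 q7734 (flp_h L154326) q6775, e3 q7735 (flp_h L154330) q6776, e3 q7736 L154342 q6787, e3 q7737 (flp_h L154344) q6778, e3 q7738 L154354 q6782, e3 q7739 (flp_h L154356) q6780, e3 q7740 (flp_h L162488) q8604, e3 q7741 (flp_h L162494) q8605, e3 q7742 (flp_h L162469) q8601, e3 q7743 (flp_h L162480) q8603, trivial⟩ (by decide +kernel)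

theorem ce_h_121 : ∀ r, r < 64 → sm gh (Qf (7744 + r)) = Qf (tab Gen.h (7744 + r)) :=
  edges_tab (sm gh) Qf (tab Gen.h) 7744 [(7744, 7744), (7745, 7745), (7746, 7746), (7747, 6797), (7748, 6795), (7749, 6796), (7750, 8614), (7751, 7403), (7752, 8618), (7753, 7405), (7754, 8621), (7755, 6800), (7756, 8623), (7757, 6807), (7758, 8626), (7759, 6802), (7760, 8628), (7761, 6804), (7762, 8632), (7763, 6806), (7764, 8635), (7765, 8000), (7766, 8637), (7767, 6808), (7768, 7441), (7769, 8640), (7770, 6811), (7771, 6822), (7772, 8371), (7773, 8370), (7774, 6813), (7775, 8646), (7776, 8647), (7777, 6815), (7778, 8649), (7779, 6817), (7780, 8648), (7781, 7463), (7782, 6820), (7783, 8641), (7784, 8642), (7785, 8657), (7786, 8658), (7787, 6948), (7788, 6826), (7789, 6829), (7790, 6950), (7791, 8121), (7792, 7297), (7793, 7924), (7794, 6836), (7795, 7795), (7796, 6838), (7797, 6842), (7798, 6843), (7799, 8664), (7800, 8665), (7801, 8666), (7802, 8667), (7803, 6917), (7804, 7804), (7805, 6853), (7806,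 6854), (7807, 6855)]
    ⟨e3 q7744 L154394 q7744, e3 q7745 L154401 q7745, e3 q7746 L154404 q7746, e3 q7747 L154407 q6797, e3 q7748 L154415 q6795, e3 q7749 L154419 q6796, e3 q7750 (flp_h L162545) q8614, e3 q7751 L154433 q7403, e3 q7752 L162568 q8618, e3 q7753 L154446 q7405, e3 q7754 L162592 q8621, e3 q7755 (flp_h L154457) q6800, e3 q7756 L162605 q8623, e3 q7757 L154470 q6807, e3 q7758 L162621 q8626, e3 q7759 (flp_h L154478) q6802, e3 q7760 L162633 q8628, e3 q7761 (flp_h L154491) q6804, e3 q7762 L162660 q8632, e3 q7763 (flp_h L154505) q6806, e3 q7764 L162680 q8635, e3 q7765 (flp_h L156880) q8000, e3 q7766 L162692 q8637, e3 q7767 (flp_h L154529) q6808, e3 q7768 L154537 q7441, e3 q7769 L162704 q8640, e3 q7770 (flp_h L154547) q6811, e3 q7771 L154557 q6822, e3 q7772 L160336 q8371, e3 q7773 L160324 q8370, e3 q7774 (flp_h L154573) q6813, e3 q7775 L162747 q8646, e3 q7776 L162753 q8647, e3 q7777 (flp_h L154595) q6815, e3 q7778 L162767 q8649, e3 q7779 (flp_h L154611) q6817, e3 q7780 (flp_h L162765)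 q8648, e3 q7781 L154631 q7463, e3 q7782 (flp_h L154634) q6820, e3 q7783 (flp_h L162716) q8641, e3 q7784 (flp_h L162720) q8642, e3 q7785 L162821 q8657, e3 q7786 L162835 q8658, e3 q7787 (flp_h L154681) q6948, e3 q7788 (flp_h L154683) q6826, e3 q7789 (flp_h L154697) q6829, e3 q7790 L154716 q6950, e3 q7791 L158081 q8121, e3 q7792 L154734 q7297, e3 q7793 L156037 q7924, e3 q7794 (flp_h L154746) q6836, e3 q7795 L154760 q7795, e3 q7796 (flp_h L154761) q6838, e3 q7797 L154773 q6842, e3 q7798 L154779 q6843, e3 q7799 (flp_h L162923) q8664, e3 q7800 (flp_h L162931) q8665, e3 q7801 (flp_h L162937) q8666, e3 q7802 (flp_h L162941) q8667, e3 q7803 L154819 q6917, e3 q7804 L154832 q7804, e3 q7805 L154837 q6853, e3 q7806 L154843 q6854, e3 q7807 L154847 q6855, trivial⟩ (by decide +kernel)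

theorem ce_h_122 : ∀ r, r < 64 → sm gh (Qf (7808 + r)) = Qf (tab Gen.h (7808 + r)) :=
  edges_tab (sm gh) Qf (tab Gen.h) 7808 [(7808, 6856), (7809, 8670), (7810, 7526), (7811, 8672), (7812, 6859), (7813, 8674), (7814, 8675), (7815, 8676), (7816, 6864), (7817, 6865), (7818, 6869), (7819, 6867), (7820, 8677), (7821, 8679), (7822, 8680), (7823, 7836), (7824, 8475), (7825, 7839), (7826, 8476), (7827, 6874), (7828, 6875), (7829, 6876), (7830, 6881), (7831, 8689), (7832, 6905), (7833, 8544), (7834, 7882), (7835, 8021), (7836, 7823), (7837, 6901), (7838, 7838), (7839, 7825), (7840, 8661), (7841, 6913), (7842, 6915), (7843, 8123), (7844, 7071), (7845, 8695), (7846, 6928), (7847, 7194), (7848, 6930), (7849, 6931), (7850, 8702), (7851, 6933), (7852, 6934), (7853, 8709), (7854, 6936), (7855, 8711), (7856, 6927), (7857, 8696), (7858, 7223), (7859, 8716), (7860, 8698), (7861, 8699), (7862, 8720), (7863, 8721), (7864, 6932), (7865, 8703), (7866, 8704), (7867, 8727), (7868, 8729), (7869, 8707), (7870,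 8733), (7871, 6935)]
    ⟨e3 q7808 L154851 q6856, e3 q7809 (flp_h L162959) q8670, e3 q7810 L154866 q7526, e3 q7811 L162971 q8672, e3 q7812 (flp_h L154878) q6859, e3 q7813 L162988 q8674, e3 q7814 L162995 q8675, e3 q7815 L163000 q8676, e3 q7816 (flp_h L154907) q6864, e3 q7817 (flp_h L154912) q6865, e3 q7818 L154922 q6869, e3 q7819 (flp_h L154924) q6867, e3 q7820 (flp_h L163012) q8677, e3 q7821 (flp_h L163023) q8679, e3 q7822 (flp_h L163028) q8680, e3 q7823 L155080 q7836, e3 q7824 (flp_h L161288) q8475, e3 q7825 L155118 q7839, e3 q7826 (flp_h L161297) q8476, e3 q7827 (flp_h L154981) q6874, e3 q7828 (flp_h L154989) q6875, e3 q7829 (flp_h L154996) q6876, e3 q7830 L155017 q6881, e3 q7831 (flp_h L163103) q8689, e3 q7832 L155039 q6905, e3 q7833 L161971 q8544, e3 q7834 L155556 q7882, e3 q7835 L157043 q8021, e3 q7836 (flp_h L155080) q7823, e3 q7837 (flp_h L155082) q6901, e3 q7838 L155105 q7838, e3 q7839 (flp_h L155118) q7825, e3 q7840 (flp_h L162886) q8661, e3 q7841 (flp_h L155133) q6913, e3 q7842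 (flp_h L155145) q6915, e3 q7843 (flp_h L158109) q8123, e3 q7844 L155174 q7071, e3 q7845 L163156 q8695, e3 q7846 L155198 q6928, e3 q7847 L155212 q7194, e3 q7848 L155220 q6930, e3 q7849 L155230 q6931, e3 q7850 L163242 q8702, e3 q7851 L155249 q6933, e3 q7852 L155259 q6934, e3 q7853 L163317 q8709, e3 q7854 L155276 q6936, e3 q7855 L163340 q8711, e3 q7856 (flp_h L155291) q6927, e3 q7857 (flp_h L163175) q8696, e3 q7858 L155319 q7223, e3 q7859 L163401 q8716, e3 q7860 (flp_h L163199) q8698, e3 q7861 (flp_h L163217) q8699, e3 q7862 L163453 q8720, e3 q7863 L163461 q8721, e3 q7864 (flp_h L155378) q6932, e3 q7865 (flp_h L163262) q8703, e3 q7866 (flp_h L163278) q8704, e3 q7867 L163529 q8727, e3 q7868 L163545 q8729, e3 q7869 (flp_h L163303) q8707, e3 q7870 L163587 q8733, e3 q7871 (flp_h L155434) q6935, trivial⟩ (by decide +kernel)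

theorem ce_h_123 : ∀ r, r < 64 → sm gh (Qf (7872 + r)) = Qf (tab Gen.h (7872 + r)) :=
  edges_tab (sm gh) Qf (tab Gen.h) 7872 [(7872, 7319), (7873, 8736), (7874, 6937), (7875, 6939), (7876, 8741), (7877, 6941), (7878, 8744), (7879, 7879), (7880, 8660), (7881, 6943), (7882, 7834), (7883, 6946), (7884, 8737), (7885, 8504), (7886, 8503), (7887, 8659), (7888, 6951), (7889, 8749), (7890, 6967), (7891, 8751), (7892, 8752), (7893, 6957), (7894, 6971), (7895, 6972), (7896, 8755), (7897, 8756), (7898, 6960), (7899, 8758), (7900, 6962), (7901, 7257), (7902, 8761), (7903, 8762), (7904, 6966), (7905, 7389), (7906, 8764), (7907, 6968), (7908, 6969), (7909, 7426), (7910, 8768), (7911, 7272), (7912, 8770), (7913, 6973), (7914, 8772), (7915, 6975), (7916, 6995), (7917, 8774), (7918, 6978), (7919, 6983), (7920, 8766), (7921, 8775), (7922, 8776), (7923, 7027), (7924, 7793), (7925, 8662), (7926, 6991), (7927, 8765), (7928, 6993), (7929, 8771), (7930, 8773), (7931, 6996), (7932, 6997), (7933, 6998), (7934,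 8785), (7935, 7001)]
    ⟨e3 q7872 L155452 q7319, e3 q7873 L163617 q8736, e3 q7874 (flp_h L155468) q6937, e3 q7875 (flp_h L155476) q6939, e3 q7876 L163666 q8741, e3 q7877 (flp_h L155495) q6941, e3 q7878 L163694 q8744, e3 q7879 L155522 q7879, e3 q7880 (flp_h L162872) q8660, e3 q7881 (flp_h L155535) q6943, e3 q7882 (flp_h L155556) q7834, e3 q7883 (flp_h L155558) q6946, e3 q7884 (flp_h L163635) q8737, e3 q7885 L161570 q8504, e3 q7886 L161550 q8503, e3 q7887 (flp_h L162860) q8659, e3 q7888 (flp_h L155604) q6951, e3 q7889 L163737 q8749, e3 q7890 L155639 q6967, e3 q7891 L163766 q8751, e3 q7892 L163780 q8752, e3 q7893 (flp_h L155669) q6957, e3 q7894 L155686 q6971, e3 q7895 L155700 q6972, e3 q7896 L163821 q8755, e3 q7897 L163829 q8756, e3 q7898 (flp_h L155727) q6960, e3 q7899 L163856 q8758, e3 q7900 (flp_h L155750) q6962, e3 q7901 L155768 q7257, e3 q7902 L163893 q8761, e3 q7903 L163909 q8762, e3 q7904 (flp_h L155799) q6966, e3 q7905 L155819 q7389, e3 q7906 L163937 q8764, e3 q7907 (flp_h L155833)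 q6968, e3 q7908 (flp_h L155843) q6969, e3 q7909 L155863 q7426, e3 q7910 L163987 q8768, e3 q7911 L155887 q7272, e3 q7912 L164009 q8770, e3 q7913 (flp_h L155903) q6973, e3 q7914 L164027 q8772, e3 q7915 (flp_h L155923) q6975, e3 q7916 L155943 q6995, e3 q7917 L164057 q8774, e3 q7918 (flp_h L155959) q6978, e3 q7919 L155973 q6983, e3 q7920 (flp_h L163971) q8766, e3 q7921 (flp_h L164083) q8775, e3 q7922 (flp_h L164095) q8776, e3 q7923 L156020 q7027, e3 q7924 (flp_h L156037) q7793, e3 q7925 (flp_h L162903) q8662, e3 q7926 (flp_h L156053) q6991, e3 q7927 (flp_h L163957) q8765, e3 q7928 (flp_h L156077) q6993, e3 q7929 (flp_h L164025) q8771, e3 q7930 (flp_h L164051) q8773, e3 q7931 (flp_h L156106) q6996, e3 q7932 (flp_h L156122) q6997, e3 q7933 (flp_h L156136) q6998, e3 q7934 L164195 q8785, e3 q7935 (flp_h L156163) q7001, trivial⟩ (by decide +kernel)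

theorem ce_h_124 : ∀ r, r < 64 → sm gh (Qf (7936 + r)) = Qf (tab Gen.h (7936 + r)) :=
  edges_tab (sm gh) Qf (tab Gen.h) 7936 [(7936, 7002), (7937, 7937), (7938, 7004), (7939, 7939), (7940, 7006), (7941, 7007), (7942, 8791), (7943, 7010), (7944, 7028), (7945, 7023), (7946, 8793), (7947, 7014), (7948, 7015), (7949, 7030), (7950, 7017), (7951, 7031), (7952, 7020), (7953, 7024), (7954, 7025), (7955, 8792), (7956, 8795), (7957, 8794), (7958, 8103), (7959, 7189), (7960, 8132), (7961, 8801), (7962, 8267), (7963, 8268), (7964, 8808), (7965, 7695), (7966, 8811), (7967, 7039), (7968, 7195), (7969, 7052), (7970, 8813), (7971, 7055), (7972, 7056), (7973, 8817), (7974, 8818), (7975, 7045), (7976, 7061), (7977, 7062), (7978, 8823), (7979, 8825), (7980, 7065), (7981, 8829), (7982, 7048), (7983, 7068), (7984, 8832), (7985, 7050), (7986, 7209), (7987, 8836), (7988, 8837), (7989, 7054), (7990, 7369), (7991, 7707), (7992, 8841), (7993, 8691), (7994, 7704), (7995, 8846), (7996, 7057), (7997, 7317), (7998,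 8849), (7999, 7059)]
    ⟨e3 q7936 (flp_h L156177) q7002, e3 q7937 L156201 q7937, e3 q7938 (flp_h L156202) q7004, e3 q7939 L156224 q7939, e3 q7940 (flp_h L156225) q7006, e3 q7941 (flp_h L156241) q7007, e3 q7942 L164284 q8791, e3 q7943 (flp_h L156269) q7010, e3 q7944 L156293 q7028, e3 q7945 L156307 q7023, e3 q7946 L164314 q8793, e3 q7947 (flp_h L156323) q7014, e3 q7948 (flp_h L156331) q7015, e3 q7949 L156355 q7030, e3 q7950 (flp_h L156359) q7017, e3 q7951 L156383 q7031, e3 q7952 (flp_h L156389) q7020, e3 q7953 L156415 q7024, e3 q7954 L156425 q7025, e3 q7955 (flp_h L164312) q8792, e3 q7956 (flp_h L164352) q8795, e3 q7957 (flp_h L164340) q8794, e3 q7958 (flp_h L157894) q8103, e3 q7959 L156484 q7189, e3 q7960 (flp_h L158222) q8132, e3 q7961 L164415 q8801, e3 q7962 (flp_h L159485) q8267, e3 q7963 (flp_h L159497) q8268, e3 q7964 L164474 q8808, e3 q7965 L156525 q7695, e3 q7966 L164498 q8811, e3 q7967 (flp_h L156536) q7039, e3 q7968 L156557 q7195, e3 q7969 L156567 q7052, e3 q7970 L164516 q8813,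 e3 q7971 L156589 q7055, e3 q7972 L156605 q7056, e3 q7973 L164565 q8817, e3 q7974 L164573 q8818, e3 q7975 (flp_h L156626) q7045, e3 q7976 L156644 q7061, e3 q7977 L156658 q7062, e3 q7978 L164633 q8823, e3 q7979 L164648 q8825, e3 q7980 L156675 q7065, e3 q7981 L164680 q8829, e3 q7982 (flp_h L156685) q7048, e3 q7983 L156702 q7068, e3 q7984 L164709 q8832, e3 q7985 (flp_h L156715) q7050, e3 q7986 L156731 q7209, e3 q7987 L164751 q8836, e3 q7988 L164761 q8837, e3 q7989 (flp_h L156756) q7054, e3 q7990 L156776 q7369, e3 q7991 L156790 q7707, e3 q7992 L164814 q8841, e3 q7993 (flp_h L163124) q8691, e3 q7994 L156820 q7704, e3 q7995 L164868 q8846, e3 q7996 (flp_h L156832) q7057, e3 q7997 L156848 q7317, e3 q7998 L164896 q8849, e3 q7999 (flp_h L156864) q7059, trivial⟩ (by decide +kernel)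

theorem ce_h_125 : ∀ r, r < 64 → sm gh (Qf (8000 + r)) = Qf (tab Gen.h (8000 + r)) :=
  edges_tab (sm gh) Qf (tab Gen.h) 8000 [(8000, 7765), (8001, 8854), (8002, 8856), (8003, 8821), (8004, 8860), (8005, 7063), (8006, 8864), (8007, 7064), (8008, 8867), (8009, 8827), (8010, 8869), (8011, 7066), (8012, 8284), (8013, 8872), (8014, 7069), (8015, 7087), (8016, 8693), (8017, 8877), (8018, 8018), (8019, 8879), (8020, 7073), (8021, 7835), (8022, 7076), (8023, 8850), (8024, 8529), (8025, 8528), (8026, 7078), (8027, 8886), (8028, 8887), (8029, 7080), (8030, 8889), (8031, 7082), (8032, 8888), (8033, 8291), (8034, 7085), (8035, 8873), (8036, 8874), (8037, 8594), (8038, 8595), (8039, 7092), (8040, 7097), (8041, 8895), (8042, 7099), (8043, 7100), (8044, 8897), (8045, 7123), (8046, 8899), (8047, 7104), (8048, 8900), (8049, 7106), (8050, 8902), (8051, 7109), (8052, 8052), (8053, 7111), (8054, 8906), (8055, 8907), (8056, 7115), (8057, 7116), (8058, 8909), (8059, 7119), (8060, 7134), (8061, 7488), (8062,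 8913), (8063, 7122)]
    ⟨e3 q8000 L156880 q7765, e3 q8001 L164949 q8854, e3 q8002 L164964 q8856, e3 q8003 (flp_h L164615) q8821, e3 q8004 L165000 q8860, e3 q8005 (flp_h L156911) q7063, e3 q8006 L165026 q8864, e3 q8007 (flp_h L156925) q7064, e3 q8008 L165044 q8867, e3 q8009 (flp_h L164668) q8827, e3 q8010 L165056 q8869, e3 q8011 (flp_h L156949) q7066, e3 q8012 (flp_h L159630) q8284, e3 q8013 L165070 q8872, e3 q8014 (flp_h L156971) q7069, e3 q8015 L156985 q7087, e3 q8016 (flp_h L163142) q8693, e3 q8017 L165110 q8877, e3 q8018 L157009 q8018, e3 q8019 L165129 q8879, e3 q8020 (flp_h L157022) q7073, e3 q8021 (flp_h L157043) q7835, e3 q8022 (flp_h L157045) q7076, e3 q8023 (flp_h L164916) q8850, e3 q8024 L161841 q8529, e3 q8025 L161847 q8528, e3 q8026 (flp_h L157076) q7078, e3 q8027 L165186 q8886, e3 q8028 L165191 q8887, e3 q8029 (flp_h L157093) q7080, e3 q8030 L165201 q8889, e3 q8031 (flp_h L157105) q7082, e3 q8032 (flp_h L165199) q8888, e3 q8033 (flp_h L159690) q8291, e3 q8034 (flp_h L157125)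 q7085, e3 q8035 (flp_h L165084) q8873, e3 q8036 (flp_h L165090) q8874, e3 q8037 (flp_h L162410) q8594, e3 q8038 (flp_h L162424) q8595, e3 q8039 (flp_h L157167) q7092, e3 q8040 (flp_h L157176) q7097, e3 q8041 L165244 q8895, e3 q8042 (flp_h L157206) q7099, e3 q8043 (flp_h L157222) q7100, e3 q8044 L165273 q8897, e3 q8045 L157258 q7123, e3 q8046 L165301 q8899, e3 q8047 (flp_h L157276) q7104, e3 q8048 L165313 q8900, e3 q8049 (flp_h L157298) q7106, e3 q8050 L165341 q8902, e3 q8051 (flp_h L157323) q7109, e3 q8052 L157341 q8052, e3 q8053 (flp_h L157342) q7111, e3 q8054 L165390 q8906, e3 q8055 L165406 q8907, e3 q8056 (flp_h L157383) q7115, e3 q8057 (flp_h L157393) q7116, e3 q8058 L165433 q8909, e3 q8059 (flp_h L157421) q7119, e3 q8060 L157441 q7134, e3 q8061 L157450 q7488, e3 q8062 L165484 q8913, e3 q8063 (flp_h L157467) q7122, trivial⟩ (by decide +kernel)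

theorem ce_h_126 : ∀ r, r < 64 → sm gh (Qf (8064 + r)) = Qf (tab Gen.h (8064 + r)) :=
  edges_tab (sm gh) Qf (tab Gen.h) 8064 [(8064, 7485), (8065, 8915), (8066, 7124), (8067, 8917), (8068, 7127), (8069, 8069), (8070, 7129), (8071, 7136), (8072, 7137), (8073, 8910), (8074, 8911), (8075, 8920), (8076, 8921), (8077, 8077), (8078, 7142), (8079, 7144), (8080, 7239), (8081, 7146), (8082, 8082), (8083, 8083), (8084, 8084), (8085, 7150), (8086, 8086), (8087, 7153), (8088, 7167), (8089, 7168), (8090, 8933), (8091, 7157), (8092, 7159), (8093, 8093), (8094, 7161), (8095, 8095), (8096, 8096), (8097, 7169), (8098, 7170), (8099, 8931), (8100, 8932), (8101, 8937), (8102, 8938), (8103, 7958), (8104, 7694), (8105, 8942), (8106, 8420), (8107, 8944), (8108, 7175), (8109, 8152), (8110, 7664), (8111, 8948), (8112, 8949), (8113, 7178), (8114, 7687), (8115, 8951), (8116, 7180), (8117, 7398), (8118, 8518), (8119, 7657), (8120, 8395), (8121, 7791), (8122, 7199), (8123, 7843), (8124, 8954), (8125, 8955), (8126,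 7206), (8127, 7366)]
    ⟨e3 q8064 L157484 q7485, e3 q8065 L165509 q8915, e3 q8066 (flp_h L157497) q7124, e3 q8067 L165522 q8917, e3 q8068 (flp_h L157516) q7127, e3 q8069 L157530 q8069, e3 q8070 (flp_h L157531) q7129, e3 q8071 L157545 q7136, e3 q8072 L157553 q7137, e3 q8073 (flp_h L165459) q8910, e3 q8074 (flp_h L165469) q8911, e3 q8075 (flp_h L165564) q8920, e3 q8076 (flp_h L165570) q8921, e3 q8077 L157602 q8077, e3 q8078 (flp_h L157603) q7142, e3 q8079 (flp_h L157615) q7144, e3 q8080 L157639 q7239, e3 q8081 (flp_h L157643) q7146, e3 q8082 L157663 q8082, e3 q8083 L157668 q8083, e3 q8084 L157685 q8084, e3 q8085 (flp_h L157686) q7150, e3 q8086 L157712 q8086, e3 q8087 (flp_h L157713) q7153, e3 q8088 L157739 q7167, e3 q8089 L157747 q7168, e3 q8090 L165718 q8933, e3 q8091 (flp_h L157762) q7157, e3 q8092 (flp_h L157772) q7159, e3 q8093 L157794 q8093, e3 q8094 (flp_h L157795) q7161, e3 q8095 L157813 q8095, e3 q8096 L157818 q8096, e3 q8097 L157831 q7169, e3 q8098 L157841 q7170, e3 q8099 (flp_h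 L165692) q8931, e3 q8100 (flp_h L165710) q8932, e3 q8101 (flp_h L165777) q8937, e3 q8102 L165779 q8938, e3 q8103 L157894 q7958, e3 q8104 L157905 q7694, e3 q8105 L165833 q8942, e3 q8106 (flp_h L160781) q8420, e3 q8107 L165854 q8944, e3 q8108 (flp_h L157932) q7175, e3 q8109 (flp_h L158439) q8152, e3 q8110 L157952 q7664, e3 q8111 L165895 q8948, e3 q8112 L165901 q8949, e3 q8113 (flp_h L157977) q7178, e3 q8114 L157992 q7687, e3 q8115 L165924 q8951, e3 q8116 (flp_h L158004) q7180, e3 q8117 L158023 q7398, e3 q8118 (flp_h L161749) q8518, e3 q8119 L158051 q7657, e3 q8120 (flp_h L160563) q8395, e3 q8121 (flp_h L158081) q7791, e3 q8122 (flp_h L158083) q7199, e3 q8123 L158109 q7843, e3 q8124 L165955 q8954, e3 q8125 L165970 q8955, e3 q8126 (flp_h L158138) q7206, e3 q8127 L158162 q7366, trivial⟩ (by decide +kernel)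

theorem ce_h_127 : ∀ r, r < 64 → sm gh (Qf (8128 + r)) = Qf (tab Gen.h (8128 + r)) :=
  edges_tab (sm gh) Qf (tab Gen.h) 8128 [(8128, 8957), (8129, 7208), (8130, 8713), (8131, 8959), (8132, 7960), (8133, 8961), (8134, 7211), (8135, 7212), (8136, 8963), (8137, 7658), (8138, 8964), (8139, 7221), (8140, 8966), (8141, 7224), (8142, 7231), (8143, 7227), (8144, 8965), (8145, 7229), (8146, 8967), (8147, 8901), (8148, 7236), (8149, 7233), (8150, 7238), (8151, 8972), (8152, 8109), (8153, 7377), (8154, 8309), (8155, 8426), (8156, 8979), (8157, 8559), (8158, 8560), (8159, 8986), (8160, 8562), (8161, 8988), (8162, 7245), (8163, 7256), (8164, 8990), (8165, 7259), (8166, 8992), (8167, 7249), (8168, 7265), (8169, 7266), (8170, 8996), (8171, 8998), (8172, 7269), (8173, 9001), (8174, 7252), (8175, 9003), (8176, 7254), (8177, 8712), (8178, 9006), (8179, 9007), (8180, 7258), (8181, 7668), (8182, 9010), (8183, 9012), (8184, 7667), (8185, 9015), (8186, 7261), (8187, 9017), (8188, 7263), (8189, 8844), (8190,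 9020), (8191, 9022)]
    ⟨e3 q8128 L165996 q8957, e3 q8129 (flp_h L158178) q7208, e3 q8130 (flp_h L163374) q8713, e3 q8131 L166020 q8959, e3 q8132 L158222 q7960, e3 q8133 L166040 q8961, e3 q8134 (flp_h L158234) q7211, e3 q8135 (flp_h L158242) q7212, e3 q8136 L166062 q8963, e3 q8137 L158278 q7658, e3 q8138 L166076 q8964, e3 q8139 (flp_h L158292) q7221, e3 q8140 L166100 q8966, e3 q8141 (flp_h L158314) q7224, e3 q8142 L158328 q7231, e3 q8143 (flp_h L158330) q7227, e3 q8144 (flp_h L166098) q8965, e3 q8145 (flp_h L158354) q7229, e3 q8146 (flp_h L166114) q8967, e3 q8147 (flp_h L165337) q8901, e3 q8148 L158399 q7236, e3 q8149 (flp_h L158401) q7233, e3 q8150 L158419 q7238, e3 q8151 (flp_h L166170) q8972, e3 q8152 L158439 q8109, e3 q8153 L158452 q7377, e3 q8154 (flp_h L159870) q8309, e3 q8155 (flp_h L160835) q8426, e3 q8156 L166231 q8979, e3 q8157 (flp_h L162117) q8559, e3 q8158 (flp_h L162126) q8560, e3 q8159 L166287 q8986, e3 q8160 (flp_h L162142) q8562, e3 q8161 L166302 q8988, e3 q8162 (flp_h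 L158515) q7245, e3 q8163 L158526 q7256, e3 q8164 L166317 q8990, e3 q8165 L158544 q7259, e3 q8166 L166341 q8992, e3 q8167 (flp_h L158560) q7249, e3 q8168 L158580 q7265, e3 q8169 L158592 q7266, e3 q8170 L166381 q8996, e3 q8171 L166397 q8998, e3 q8172 L158614 q7269, e3 q8173 L166425 q9001, e3 q8174 (flp_h L158626) q7252, e3 q8175 L166443 q9003, e3 q8176 (flp_h L158644) q7254, e3 q8177 (flp_h L163356) q8712, e3 q8178 L166470 q9006, e3 q8179 L166478 q9007, e3 q8180 (flp_h L158683) q7258, e3 q8181 L158701 q7668, e3 q8182 L166507 q9010, e3 q8183 L166525 q9012, e3 q8184 L158727 q7667, e3 q8185 L166553 q9015, e3 q8186 (flp_h L158739) q7261, e3 q8187 L166571 q9017, e3 q8188 (flp_h L158757) q7263, e3 q8189 (flp_h L164852) q8844, e3 q8190 L166606 q9020, e3 q8191 L166623 q9022, trivial⟩ (by decide +kernel)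

theorem ce_h_128 : ∀ r, r < 64 → sm gh (Qf (8192 + r)) = Qf (tab Gen.h (8192 + r)) :=
  edges_tab (sm gh) Qf (tab Gen.h) 8192 [(8192, 8731), (8193, 9025), (8194, 7267), (8195, 9029), (8196, 7268), (8197, 9032), (8198, 8725), (8199, 9034), (8200, 7270), (8201, 8578), (8202, 9037), (8203, 7273), (8204, 7289), (8205, 9042), (8206, 7275), (8207, 9045), (8208, 7614), (8209, 7647), (8210, 7648), (8211, 8212), (8212, 8211), (8213, 7280), (8214, 9050), (8215, 9051), (8216, 7282), (8217, 9053), (8218, 7284), (8219, 9052), (8220, 8590), (8221, 7287), (8222, 9038), (8223, 9039), (8224, 8294), (8225, 8296), (8226, 7294), (8227, 7298), (8228, 9058), (8229, 7300), (8230, 9060), (8231, 9061), (8232, 7304), (8233, 7305), (8234, 8234), (8235, 7307), (8236, 7309), (8237, 9064), (8238, 7312), (8239, 7313), (8240, 7332), (8241, 7315), (8242, 9068), (8243, 7318), (8244, 9070), (8245, 7320), (8246, 7334), (8247, 7322), (8248, 8248), (8249, 7335), (8250, 7325), (8251, 7330), (8252, 9065), (8253, 9067), (8254,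 9069), (8255, 9072)]
    ⟨e3 q8192 (flp_h L163573) q8731, e3 q8193 L166643 q9025, e3 q8194 (flp_h L158812) q7267, e3 q8195 L166671 q9029, e3 q8196 (flp_h L158826) q7268, e3 q8197 L166699 q9032, e3 q8198 (flp_h L163513) q8725, e3 q8199 L166713 q9034, e3 q8200 (flp_h L158854) q7270, e3 q8201 (flp_h L162265) q8578, e3 q8202 L166729 q9037, e3 q8203 (flp_h L158876) q7273, e3 q8204 L158896 q7289, e3 q8205 L166786 q9042, e3 q8206 (flp_h L158905) q7275, e3 q8207 L166817 q9045, e3 q8208 L158931 q7614, e3 q8209 L158945 q7647, e3 q8210 L158958 q7648, e3 q8211 L158974 q8212, e3 q8212 (flp_h L158974) q8211, e3 q8213 (flp_h L158976) q7280, e3 q8214 L166871 q9050, e3 q8215 L166878 q9051, e3 q8216 (flp_h L159005) q7282, e3 q8217 L166894 q9053, e3 q8218 (flp_h L159021) q7284, e3 q8219 (flp_h L166892) q9052, e3 q8220 (flp_h L162369) q8590, e3 q8221 (flp_h L159054) q7287, e3 q8222 (flp_h L166747) q9038, e3 q8223 (flp_h L166757) q9039, e3 q8224 (flp_h L159735) q8294, e3 q8225 (flp_h L159763) q8296, e3 q8226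 (flp_h L159107) q7294, e3 q8227 (flp_h L159119) q7298, e3 q8228 L166955 q9058, e3 q8229 (flp_h L159140) q7300, e3 q8230 L166978 q9060, e3 q8231 L166988 q9061, e3 q8232 (flp_h L159171) q7304, e3 q8233 (flp_h L159177) q7305, e3 q8234 L159197 q8234, e3 q8235 (flp_h L159198) q7307, e3 q8236 (flp_h L159208) q7309, e3 q8237 L167016 q9064, e3 q8238 (flp_h L159225) q7312, e3 q8239 (flp_h L159233) q7313, e3 q8240 L159251 q7332, e3 q8241 (flp_h L159253) q7315, e3 q8242 L167061 q9068, e3 q8243 (flp_h L159274) q7318, e3 q8244 L167081 q9070, e3 q8245 (flp_h L159289) q7320, e3 q8246 L159299 q7334, e3 q8247 (flp_h L159301) q7322, e3 q8248 L159317 q8248, e3 q8249 L159322 q7335, e3 q8250 (flp_h L159324) q7325, e3 q8251 L159338 q7330, e3 q8252 (flp_h L167036) q9065, e3 q8253 (flp_h L167057) q9067, e3 q8254 (flp_h L167079) q9069, e3 q8255 (flp_h L167096) q9072, trivial⟩ (by decide +kernel)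

theorem ce_h_129 : ∀ r, r < 64 → sm gh (Qf (8256 + r)) = Qf (tab Gen.h (8256 + r)) :=
  edges_tab (sm gh) Qf (tab Gen.h) 8256 [(8256, 9073), (8257, 8257), (8258, 7338), (8259, 8259), (8260, 8260), (8261, 8261), (8262, 7356), (8263, 7347), (8264, 7357), (8265, 8265), (8266, 8266), (8267, 7962), (8268, 7963), (8269, 9083), (8270, 9084), (8271, 7360), (8272, 9085), (8273, 7362), (8274, 7364), (8275, 9089), (8276, 8717), (8277, 9092), (8278, 7367), (8279, 9095), (8280, 7368), (8281, 9098), (8282, 9099), (8283, 7370), (8284, 8012), (8285, 7372), (8286, 9102), (8287, 7374), (8288, 9105), (8289, 9106), (8290, 7376), (8291, 8033), (8292, 7618), (8293, 7379), (8294, 8224), (8295, 7380), (8296, 8225), (8297, 7383), (8298, 7387), (8299, 9108), (8300, 7390), (8301, 7392), (8302, 8302), (8303, 8303), (8304, 9111), (8305, 8310), (8306, 9114), (8307, 9115), (8308, 7401), (8309, 8154), (8310, 8305), (8311, 9121), (8312, 9123), (8313, 8616), (8314, 9127), (8315, 7404), (8316, 8619), (8317, 9130), (8318,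 7406), (8319, 9133)]
    ⟨e3 q8256 (flp_h L167102) q9073, e3 q8257 L159391 q8257, e3 q8258 (flp_h L159392) q7338, e3 q8259 L159410 q8259, e3 q8260 L159419 q8260, e3 q8261 L159430 q8261, e3 q8262 L159439 q7356, e3 q8263 (flp_h L159443) q7347, e3 q8264 L159459 q7357, e3 q8265 L159469 q8265, e3 q8266 L159478 q8266, e3 q8267 L159485 q7962, e3 q8268 L159497 q7963, e3 q8269 L167188 q9083, e3 q8270 L167196 q9084, e3 q8271 (flp_h L159521) q7360, e3 q8272 L167208 q9085, e3 q8273 (flp_h L159539) q7362, e3 q8274 (flp_h L159547) q7364, e3 q8275 L167243 q9089, e3 q8276 (flp_h L163425) q8717, e3 q8277 L167277 q9092, e3 q8278 (flp_h L159576) q7367, e3 q8279 L167301 q9095, e3 q8280 (flp_h L159590) q7368, e3 q8281 L167335 q9098, e3 q8282 L167341 q9099, e3 q8283 (flp_h L159618) q7370, e3 q8284 L159630 q8012, e3 q8285 (flp_h L159632) q7372, e3 q8286 L167357 q9102, e3 q8287 (flp_h L159647) q7374, e3 q8288 L167390 q9105, e3 q8289 L167395 q9106, e3 q8290 (flp_h L159676) q7376, e3 q8291 L159690 q8033, e3 q8292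 (flp_h L159707) q7618, e3 q8293 (flp_h L159709) q7379, e3 q8294 L159735 q8224, e3 q8295 (flp_h L159737) q7380, e3 q8296 L159763 q8225, e3 q8297 (flp_h L159765) q7383, e3 q8298 (flp_h L159777) q7387, e3 q8299 L167421 q9108, e3 q8300 (flp_h L159794) q7390, e3 q8301 (flp_h L159800) q7392, e3 q8302 L159814 q8302, e3 q8303 L159819 q8303, e3 q8304 L167441 q9111, e3 q8305 (flp_h L159880) q8310, e3 q8306 L167473 q9114, e3 q8307 L167481 q9115, e3 q8308 (flp_h L159856) q7401, e3 q8309 L159870 q8154, e3 q8310 L159880 q8305, e3 q8311 L167538 q9121, e3 q8312 L167556 q9123, e3 q8313 (flp_h L162558) q8616, e3 q8314 L167586 q9127, e3 q8315 (flp_h L159908) q7404, e3 q8316 (flp_h L162581) q8619, e3 q8317 L167604 q9130, e3 q8318 (flp_h L159926) q7406, e3 q8319 L167628 q9133, trivial⟩ (by decide +kernel)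

theorem ce_h_130 : ∀ r, r < 64 → sm gh (Qf (8320 + r)) = Qf (tab Gen.h (8320 + r)) :=
  edges_tab (sm gh) Qf (tab Gen.h) 8320 [(8320, 7423), (8321, 7409), (8322, 7429), (8323, 9137), (8324, 9139), (8325, 7432), (8326, 9142), (8327, 7414), (8328, 9146), (8329, 7415), (8330, 9149), (8331, 7438), (8332, 9151), (8333, 7417), (8334, 9128), (8335, 9154), (8336, 7420), (8337, 9157), (8338, 7422), (8339, 9160), (8340, 8722), (8341, 9162), (8342, 7424), (8343, 8356), (8344, 9165), (8345, 7427), (8346, 9167), (8347, 8858), (8348, 9170), (8349, 7430), (8350, 9174), (8351, 7431), (8352, 9177), (8353, 8852), (8354, 9179), (8355, 7433), (8356, 8343), (8357, 8358), (8358, 8357), (8359, 7435), (8360, 9185), (8361, 9186), (8362, 7437), (8363, 9188), (8364, 7439), (8365, 9187), (8366, 8639), (8367, 7442), (8368, 7465), (8369, 7466), (8370, 7773), (8371, 7772), (8372, 7445), (8373, 9198), (8374, 9199), (8375, 7447), (8376, 9201), (8377, 7449), (8378, 9200), (8379, 8452), (8380, 7452), (8381, 9204), (8382,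 9205), (8383, 9206)]
    ⟨e3 q8320 L159950 q7423, e3 q8321 (flp_h L159952) q7409, e3 q8322 L159970 q7429, e3 q8323 L167665 q9137, e3 q8324 L167682 q9139, e3 q8325 L159993 q7432, e3 q8326 L167708 q9142, e3 q8327 (flp_h L160005) q7414, e3 q8328 L167746 q9146, e3 q8329 (flp_h L160021) q7415, e3 q8330 L167772 q9149, e3 q8331 L160037 q7438, e3 q8332 L167782 q9151, e3 q8333 (flp_h L160045) q7417, e3 q8334 (flp_h L167594) q9128, e3 q8335 L167798 q9154, e3 q8336 (flp_h L160065) q7420, e3 q8337 L167830 q9157, e3 q8338 (flp_h L160081) q7422, e3 q8339 L167860 q9160, e3 q8340 (flp_h L163483) q8722, e3 q8341 L167878 q9162, e3 q8342 (flp_h L160115) q7424, e3 q8343 (flp_h L160243) q8356, e3 q8344 L167898 q9165, e3 q8345 (flp_h L160141) q7427, e3 q8346 L167914 q9167, e3 q8347 (flp_h L164986) q8858, e3 q8348 L167944 q9170, e3 q8349 (flp_h L160173) q7430, e3 q8350 L167982 q9174, e3 q8351 (flp_h L160189) q7431, e3 q8352 L168014 q9177, e3 q8353 (flp_h L164933) q8852, e3 q8354 L168034 q9179, e3 q8355 (flp_h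 L160227) q7433, e3 q8356 L160243 q8343, e3 q8357 L160255 q8358, e3 q8358 (flp_h L160255) q8357, e3 q8359 (flp_h L160257) q7435, e3 q8360 L168080 q9185, e3 q8361 L168086 q9186, e3 q8362 (flp_h L160279) q7437, e3 q8363 L168096 q9188, e3 q8364 (flp_h L160289) q7439, e3 q8365 (flp_h L168094) q9187, e3 q8366 (flp_h L162702) q8639, e3 q8367 (flp_h L160299) q7442, e3 q8368 L160311 q7465, e3 q8369 L160315 q7466, e3 q8370 (flp_h L160324) q7773, e3 q8371 (flp_h L160336) q7772, e3 q8372 (flp_h L160338) q7445, e3 q8373 L168161 q9198, e3 q8374 L168167 q9199, e3 q8375 (flp_h L160366) q7447, e3 q8376 L168185 q9201, e3 q8377 (flp_h L160383) q7449, e3 q8378 (flp_h L168183) q9200, e3 q8379 (flp_h L161071) q8452, e3 q8380 (flp_h L160418) q7452, e3 q8381 L168224 q9204, e3 q8382 L168230 q9205, e3 q8383 L168238 q9206, trivial⟩ (by decide +kernel)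

theorem ce_h_131 : ∀ r, r < 64 → sm gh (Qf (8384 + r)) = Qf (tab Gen.h (8384 + r)) :=
  edges_tab (sm gh) Qf (tab Gen.h) 8384 [(8384, 7457), (8385, 7458), (8386, 7462), (8387, 7460), (8388, 9207), (8389, 9209), (8390, 9210), (8391, 9193), (8392, 9194), (8393, 7467), (8394, 7468), (8395, 8120), (8396, 9216), (8397, 7475), (8398, 9217), (8399, 7477), (8400, 7479), (8401, 8401), (8402, 7481), (8403, 7483), (8404, 9220), (8405, 7486), (8406, 9222), (8407, 7489), (8408, 7588), (8409, 7491), (8410, 7590), (8411, 7591), (8412, 7498), (8413, 7499), (8414, 8414), (8415, 8415), (8416, 7506), (8417, 7596), (8418, 7598), (8419, 7599), (8420, 8106), (8421, 9231), (8422, 7514), (8423, 7515), (8424, 7516), (8425, 7518), (8426, 8155), (8427, 9236), (8428, 7666), (8429, 9239), (8430, 7522), (8431, 7688), (8432, 9241), (8433, 7524), (8434, 9243), (8435, 7527), (8436, 7678), (8437, 9248), (8438, 7530), (8439, 9251), (8440, 8440), (8441, 9253), (8442, 7532), (8443, 8444), (8444, 8443), (8445, 7534), (8446,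 9258), (8447, 9259)]
    ⟨e3 q8384 (flp_h L160459) q7457, e3 q8385 (flp_h L160465) q7458, e3 q8386 L160475 q7462, e3 q8387 (flp_h L160477) q7460, e3 q8388 (flp_h L168256) q9207, e3 q8389 (flp_h L168270) q9209, e3 q8390 (flp_h L168276) q9210, e3 q8391 (flp_h L168120) q9193, e3 q8392 (flp_h L168124) q9194, e3 q8393 (flp_h L160527) q7467, e3 q8394 (flp_h L160537) q7468, e3 q8395 L160563 q8120, e3 q8396 L168332 q9216, e3 q8397 (flp_h L160578) q7475, e3 q8398 L168344 q9217, e3 q8399 (flp_h L160595) q7477, e3 q8400 (flp_h L160605) q7479, e3 q8401 L160623 q8401, e3 q8402 (flp_h L160624) q7481, e3 q8403 (flp_h L160632) q7483, e3 q8404 L168370 q9220, e3 q8405 (flp_h L160652) q7486, e3 q8406 L168388 q9222, e3 q8407 (flp_h L160672) q7489, e3 q8408 L160684 q7588, e3 q8409 (flp_h L160686) q7491, e3 q8410 L160702 q7590, e3 q8411 L160710 q7591, e3 q8412 L160716 q7498, e3 q8413 (flp_h L160718) q7499, e3 q8414 L160736 q8414, e3 q8415 L160743 q8415, e3 q8416 (flp_h L160744) q7506, e3 q8417 L160756 q7596,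 e3 q8418 L160764 q7598, e3 q8419 L160772 q7599, e3 q8420 L160781 q8106, e3 q8421 L168471 q9231, e3 q8422 (flp_h L160794) q7514, e3 q8423 (flp_h L160803) q7515, e3 q8424 (flp_h L160812) q7516, e3 q8425 (flp_h L160819) q7518, e3 q8426 L160835 q8155, e3 q8427 L168522 q9236, e3 q8428 L160852 q7666, e3 q8429 L168555 q9239, e3 q8430 (flp_h L160865) q7522, e3 q8431 L160881 q7688, e3 q8432 L168577 q9241, e3 q8433 (flp_h L160895) q7524, e3 q8434 L168596 q9243, e3 q8435 (flp_h L160913) q7527, e3 q8436 L160921 q7678, e3 q8437 L168632 q9248, e3 q8438 (flp_h L160930) q7530, e3 q8439 L168663 q9251, e3 q8440 L160959 q8440, e3 q8441 L168684 q9253, e3 q8442 (flp_h L160972) q7532, e3 q8443 L160999 q8444, e3 q8444 (flp_h L160999) q8443, e3 q8445 (flp_h L161001) q7534, e3 q8446 L168733 q9258, e3 q8447 L168739 q9259, trivial⟩ (by decide +kernel)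

theorem ce_h_132 : ∀ r, r < 64 → sm gh (Qf (8448 + r)) = Qf (tab Gen.h (8448 + r)) :=
  edges_tab (sm gh) Qf (tab Gen.h) 8448 [(8448, 7536), (8449, 9261), (8450, 7538), (8451, 9260), (8452, 8379), (8453, 9266), (8454, 9267), (8455, 9268), (8456, 7544), (8457, 7545), (8458, 7549), (8459, 7547), (8460, 9269), (8461, 9271), (8462, 9272), (8463, 7676), (8464, 7577), (8465, 9277), (8466, 9278), (8467, 9279), (8468, 7557), (8469, 7558), (8470, 7562), (8471, 7560), (8472, 9280), (8473, 9282), (8474, 9283), (8475, 7824), (8476, 7826), (8477, 7567), (8478, 7568), (8479, 7569), (8480, 7574), (8481, 7693), (8482, 7575), (8483, 7576), (8484, 9289), (8485, 9290), (8486, 9288), (8487, 9291), (8488, 7584), (8489, 9221), (8490, 7586), (8491, 9223), (8492, 9224), (8493, 9225), (8494, 9226), (8495, 7594), (8496, 9229), (8497, 9237), (8498, 9297), (8499, 7604), (8500, 9301), (8501, 7606), (8502, 7611), (8503, 7886), (8504, 7885), (8505, 7609), (8506, 7656), (8507, 7723), (8508, 7722), (8509, 7612), (8510,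 7652), (8511, 9107)]
    ⟨e3 q8448 (flp_h L161029) q7536, e3 q8449 L168757 q9261, e3 q8450 (flp_h L161048) q7538, e3 q8451 (flp_h L168755) q9260, e3 q8452 L161071 q8379, e3 q8453 L168802 q9266, e3 q8454 L168809 q9267, e3 q8455 L168820 q9268, e3 q8456 (flp_h L161105) q7544, e3 q8457 (flp_h L161112) q7545, e3 q8458 L161126 q7549, e3 q8459 (flp_h L161128) q7547, e3 q8460 (flp_h L168840) q9269, e3 q8461 (flp_h L168859) q9271, e3 q8462 (flp_h L168868) q9272, e3 q8463 L161165 q7676, e3 q8464 L161176 q7577, e3 q8465 L168902 q9277, e3 q8466 L168915 q9278, e3 q8467 L168928 q9279, e3 q8468 (flp_h L161219) q7557, e3 q8469 (flp_h L161226) q7558, e3 q8470 L161242 q7562, e3 q8471 (flp_h L161244) q7560, e3 q8472 (flp_h L168946) q9280, e3 q8473 (flp_h L168962) q9282, e3 q8474 (flp_h L168971) q9283, e3 q8475 L161288 q7824, e3 q8476 L161297 q7826, e3 q8477 (flp_h L161303) q7567, e3 q8478 (flp_h L161308) q7568, e3 q8479 (flp_h L161315) q7569, e3 q8480 L161331 q7574, e3 q8481 L161342 q7693, e3 q8482 L161349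 q7575, e3 q8483 L161354 q7576, e3 q8484 (flp_h L169039) q9289, e3 q8485 (flp_h L169047) q9290, e3 q8486 (flp_h L169026) q9288, e3 q8487 L169049 q9291, e3 q8488 (flp_h L161399) q7584, e3 q8489 (flp_h L168386) q9221, e3 q8490 (flp_h L161418) q7586, e3 q8491 (flp_h L168402) q9223, e3 q8492 (flp_h L168408) q9224, e3 q8493 (flp_h L168418) q9225, e3 q8494 (flp_h L168426) q9226, e3 q8495 (flp_h L161457) q7594, e3 q8496 (flp_h L168458) q9229, e3 q8497 (flp_h L168542) q9237, e3 q8498 L169097 q9297, e3 q8499 (flp_h L161495) q7604, e3 q8500 L169145 q9301, e3 q8501 (flp_h L161515) q7606, e3 q8502 L161534 q7611, e3 q8503 (flp_h L161550) q7886, e3 q8504 (flp_h L161570) q7885, e3 q8505 (flp_h L161572) q7609, e3 q8506 L161597 q7656, e3 q8507 (flp_h L161612) q7723, e3 q8508 (flp_h L161629) q7722, e3 q8509 (flp_h L161631) q7612, e3 q8510 L161654 q7652, e3 q8511 (flp_h L167419) q9107, trivial⟩ (by decide +kernel)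

theorem ce_h_133 : ∀ r, r < 64 → sm gh (Qf (8512 + r)) = Qf (tab Gen.h (8512 + r)) :=
  edges_tab (sm gh) Qf (tab Gen.h) 8512 [(8512, 7619), (8513, 7623), (8514, 7621), (8515, 8945), (8516, 9234), (8517, 7629), (8518, 8118), (8519, 7634), (8520, 9309), (8521, 7636), (8522, 9312), (8523, 9313), (8524, 7638), (8525, 9265), (8526, 7641), (8527, 9131), (8528, 8025), (8529, 8024), (8530, 7643), (8531, 9320), (8532, 9321), (8533, 7645), (8534, 9046), (8535, 9304), (8536, 9303), (8537, 7659), (8538, 9208), (8539, 7665), (8540, 8939), (8541, 8803), (8542, 8806), (8543, 9119), (8544, 7833), (8545, 7671), (8546, 9232), (8547, 9233), (8548, 9244), (8549, 9245), (8550, 7679), (8551, 7680), (8552, 7681), (8553, 7686), (8554, 9281), (8555, 8941), (8556, 8557), (8557, 8556), (8558, 8809), (8559, 8157), (8560, 8158), (8561, 9334), (8562, 8160), (8563, 9336), (8564, 7698), (8565, 9337), (8566, 9338), (8567, 9340), (8568, 7701), (8569, 7702), (8570, 9343), (8571, 9345), (8572, 7705), (8573, 9348), (8574,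 7706), (8575, 9351)]
    ⟨e3 q8512 (flp_h L161667) q7619, e3 q8513 L161686 q7623, e3 q8514 (flp_h L161688) q7621, e3 q8515 (flp_h L165868) q8945, e3 q8516 (flp_h L168506) q9234, e3 q8517 (flp_h L161721) q7629, e3 q8518 L161749 q8118, e3 q8519 (flp_h L161751) q7634, e3 q8520 L169247 q9309, e3 q8521 (flp_h L161773) q7636, e3 q8522 L169276 q9312, e3 q8523 L169281 q9313, e3 q8524 (flp_h L161796) q7638, e3 q8525 (flp_h L168796) q9265, e3 q8526 (flp_h L161819) q7641, e3 q8527 (flp_h L167614) q9131, e3 q8528 (flp_h L161847) q8025, e3 q8529 (flp_h L161841) q8024, e3 q8530 (flp_h L161849) q7643, e3 q8531 L169340 q9320, e3 q8532 L169345 q9321, e3 q8533 (flp_h L161872) q7645, e3 q8534 (flp_h L166838) q9046, e3 q8535 (flp_h L169198) q9304, e3 q8536 (flp_h L169183) q9303, e3 q8537 (flp_h L161904) q7659, e3 q8538 (flp_h L168266) q9208, e3 q8539 L161924 q7665, e3 q8540 (flp_h L165798) q8939, e3 q8541 (flp_h L164439) q8803, e3 q8542 (flp_h L164464) q8806, e3 q8543 (flp_h L167524) q9119, e3 q8544 (flp_h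 L161971) q7833, e3 q8545 (flp_h L161973) q7671, e3 q8546 (flp_h L168489) q9232, e3 q8547 (flp_h L168498) q9233, e3 q8548 (flp_h L168606) q9244, e3 q8549 (flp_h L168611) q9245, e3 q8550 (flp_h L162018) q7679, e3 q8551 (flp_h L162033) q7680, e3 q8552 (flp_h L162047) q7681, e3 q8553 L162064 q7686, e3 q8554 (flp_h L168955) q9281, e3 q8555 (flp_h L165825) q8941, e3 q8556 (flp_h L162102) q8557, e3 q8557 L162102 q8556, e3 q8558 (flp_h L164487) q8809, e3 q8559 L162117 q8157, e3 q8560 L162126 q8158, e3 q8561 L169463 q9334, e3 q8562 L162142 q8160, e3 q8563 L169481 q9336, e3 q8564 (flp_h L162154) q7698, e3 q8565 L169490 q9337, e3 q8566 L169498 q9338, e3 q8567 L169512 q9340, e3 q8568 (flp_h L162180) q7701, e3 q8569 (flp_h L162188) q7702, e3 q8570 L169537 q9343, e3 q8571 L169553 q9345, e3 q8572 (flp_h L162213) q7705, e3 q8573 L169575 q9348, e3 q8574 (flp_h L162227) q7706, e3 q8575 L169601 q9351, trivial⟩ (by decide +kernel)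

theorem ce_h_134 : ∀ r, r < 64 → sm gh (Qf (8576 + r)) = Qf (tab Gen.h (8576 + r)) :=
  edges_tab (sm gh) Qf (tab Gen.h) 8576 [(8576, 9352), (8577, 7708), (8578, 8201), (8579, 7710), (8580, 7721), (8581, 9041), (8582, 9040), (8583, 7712), (8584, 9360), (8585, 9361), (8586, 7714), (8587, 9363), (8588, 7716), (8589, 9362), (8590, 8220), (8591, 7719), (8592, 9355), (8593, 9356), (8594, 8037), (8595, 8038), (8596, 7726), (8597, 7730), (8598, 8598), (8599, 8599), (8600, 7733), (8601, 7742), (8602, 8602), (8603, 7743), (8604, 7740), (8605, 7741), (8606, 9378), (8607, 9373), (8608, 9374), (8609, 9377), (8610, 8610), (8611, 8611), (8612, 8612), (8613, 8613), (8614, 7750), (8615, 9382), (8616, 8313), (8617, 9386), (8618, 7752), (8619, 8316), (8620, 9389), (8621, 7754), (8622, 9392), (8623, 7756), (8624, 9395), (8625, 9396), (8626, 7758), (8627, 9387), (8628, 7760), (8629, 8629), (8630, 9156), (8631, 9155), (8632, 7762), (8633, 9404), (8634, 9405), (8635, 7764), (8636, 9407), (8637, 7766), (8638,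 9406), (8639, 8366)]
    ⟨e3 q8576 L169609 q9352, e3 q8577 (flp_h L162253) q7708, e3 q8578 L162265 q8201, e3 q8579 (flp_h L162267) q7710, e3 q8580 L162281 q7721, e3 q8581 L166784 q9041, e3 q8582 L166771 q9040, e3 q8583 (flp_h L162299) q7712, e3 q8584 L169671 q9360, e3 q8585 L169678 q9361, e3 q8586 (flp_h L162324) q7714, e3 q8587 L169694 q9363, e3 q8588 (flp_h L162342) q7716, e3 q8589 (flp_h L169692) q9362, e3 q8590 L162369 q8220, e3 q8591 (flp_h L162374) q7719, e3 q8592 (flp_h L169635) q9355, e3 q8593 (flp_h L169641) q9356, e3 q8594 L162410 q8037, e3 q8595 L162424 q8038, e3 q8596 (flp_h L162426) q7726, e3 q8597 (flp_h L162439) q7730, e3 q8598 L162451 q8598, e3 q8599 L162458 q8599, e3 q8600 (flp_h L162459) q7733, e3 q8601 L162469 q7742, e3 q8602 L162475 q8602, e3 q8603 L162480 q7743, e3 q8604 L162488 q7740, e3 q8605 L162494 q7741, e3 q8606 (flp_h L169807) q9378, e3 q8607 (flp_h L169775) q9373, e3 q8608 (flp_h L169781) q9374, e3 q8609 (flp_h L169803) q9377, e3 q8610 L162521 q8610, e3 q8611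 L162526 q8611, e3 q8612 L162531 q8612, e3 q8613 L162536 q8613, e3 q8614 L162545 q7750, e3 q8615 L169835 q9382, e3 q8616 L162558 q8313, e3 q8617 L169871 q9386, e3 q8618 (flp_h L162568) q7752, e3 q8619 L162581 q8316, e3 q8620 L169894 q9389, e3 q8621 (flp_h L162592) q7754, e3 q8622 L169924 q9392, e3 q8623 (flp_h L162605) q7756, e3 q8624 L169943 q9395, e3 q8625 L169946 q9396, e3 q8626 (flp_h L162621) q7758, e3 q8627 (flp_h L169883) q9387, e3 q8628 (flp_h L162633) q7760, e3 q8629 L162647 q8629, e3 q8630 L167828 q9156, e3 q8631 (flp_h L167812) q9155, e3 q8632 (flp_h L162660) q7762, e3 q8633 L169998 q9404, e3 q8634 L170004 q9405, e3 q8635 (flp_h L162680) q7764, e3 q8636 L170016 q9407, e3 q8637 (flp_h L162692) q7766, e3 q8638 (flp_h L170014) q9406, e3 q8639 L162702 q8366, trivial⟩ (by decide +kernel)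

theorem ce_h_135 : ∀ r, r < 64 → sm gh (Qf (8640 + r)) = Qf (tab Gen.h (8640 + r)) :=
  edges_tab (sm gh) Qf (tab Gen.h) 8640 [(8640, 7769), (8641, 7783), (8642, 7784), (8643, 9416), (8644, 9417), (8645, 9418), (8646, 7775), (8647, 7776), (8648, 7780), (8649, 7778), (8650, 9419), (8651, 9421), (8652, 9422), (8653, 9412), (8654, 9413), (8655, 9414), (8656, 9415), (8657, 7785), (8658, 7786), (8659, 7887), (8660, 7880), (8661, 7840), (8662, 7925), (8663, 8663), (8664, 7799), (8665, 7800), (8666, 7801), (8667, 7802), (8668, 9434), (8669, 9435), (8670, 7809), (8671, 9436), (8672, 7811), (8673, 8673), (8674, 7813), (8675, 7814), (8676, 7815), (8677, 7820), (8678, 8678), (8679, 7821), (8680, 7822), (8681, 9440), (8682, 9442), (8683, 9443), (8684, 9446), (8685, 9447), (8686, 8745), (8687, 8878), (8688, 9439), (8689, 7831), (8690, 8834), (8691, 7993), (8692, 9457), (8693, 8016), (8694, 9459), (8695, 7845), (8696, 7857), (8697, 9461), (8698, 7860), (8699, 7861), (8700, 9465), (8701, 9466), (8702,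 7850), (8703, 7865)]
    ⟨e3 q8640 (flp_h L162704) q7769, e3 q8641 L162716 q7783, e3 q8642 L162720 q7784, e3 q8643 L170064 q9416, e3 q8644 L170072 q9417, e3 q8645 L170078 q9418, e3 q8646 (flp_h L162747) q7775, e3 q8647 (flp_h L162753) q7776, e3 q8648 L162765 q7780, e3 q8649 (flp_h L162767) q7778, e3 q8650 (flp_h L170092) q9419, e3 q8651 (flp_h L170103) q9421, e3 q8652 (flp_h L170109) q9422, e3 q8653 (flp_h L170044) q9412, e3 q8654 (flp_h L170050) q9413, e3 q8655 (flp_h L170056) q9414, e3 q8656 (flp_h L170060) q9415, e3 q8657 (flp_h L162821) q7785, e3 q8658 (flp_h L162835) q7786, e3 q8659 L162860 q7887, e3 q8660 L162872 q7880, e3 q8661 L162886 q7840, e3 q8662 L162903 q7925, e3 q8663 L162916 q8663, e3 q8664 L162923 q7799, e3 q8665 L162931 q7800, e3 q8666 L162937 q7801, e3 q8667 L162941 q7802, e3 q8668 (flp_h L170201) q9434, e3 q8669 (flp_h L170205) q9435, e3 q8670 L162959 q7809, e3 q8671 L170209 q9436, e3 q8672 (flp_h L162971) q7811, e3 q8673 L162987 q8673, e3 q8674 (flp_h L162988) q7813,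 e3 q8675 (flp_h L162995) q7814, e3 q8676 (flp_h L163000) q7815, e3 q8677 L163012 q7820, e3 q8678 L163019 q8678, e3 q8679 L163023 q7821, e3 q8680 L163028 q7822, e3 q8681 (flp_h L170246) q9440, e3 q8682 (flp_h L170261) q9442, e3 q8683 (flp_h L170272) q9443, e3 q8684 (flp_h L170292) q9446, e3 q8685 (flp_h L170299) q9447, e3 q8686 L163712 q8745, e3 q8687 L165127 q8878, e3 q8688 (flp_h L170239) q9439, e3 q8689 L163103 q7831, e3 q8690 (flp_h L164737) q8834, e3 q8691 L163124 q7993, e3 q8692 L170402 q9457, e3 q8693 L163142 q8016, e3 q8694 L170420 q9459, e3 q8695 (flp_h L163156) q7845, e3 q8696 L163175 q7857, e3 q8697 L170445 q9461, e3 q8698 L163199 q7860, e3 q8699 L163217 q7861, e3 q8700 L170504 q9465, e3 q8701 L170514 q9466, e3 q8702 (flp_h L163242) q7850, e3 q8703 L163262 q7865, trivial⟩ (by decide +kernel)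

theorem ce_h_136 : ∀ r, r < 64 → sm gh (Qf (8704 + r)) = Qf (tab Gen.h (8704 + r)) :=
  edges_tab (sm gh) Qf (tab Gen.h) 8704 [(8704, 7866), (8705, 9470), (8706, 9472), (8707, 7869), (8708, 9475), (8709, 7853), (8710, 9477), (8711, 7855), (8712, 8177), (8713, 8130), (8714, 9481), (8715, 9482), (8716, 7859), (8717, 8276), (8718, 9484), (8719, 9485), (8720, 7862), (8721, 7863), (8722, 8340), (8723, 9490), (8724, 9492), (8725, 8198), (8726, 9495), (8727, 7867), (8728, 9499), (8729, 7868), (8730, 9502), (8731, 8192), (8732, 9504), (8733, 7870), (8734, 8962), (8735, 9507), (8736, 7873), (8737, 7884), (8738, 9487), (8739, 9300), (8740, 9299), (8741, 7876), (8742, 9513), (8743, 9514), (8744, 7878), (8745, 8686), (8746, 9515), (8747, 9508), (8748, 9509), (8749, 7889), (8750, 9519), (8751, 7891), (8752, 7892), (8753, 9522), (8754, 9523), (8755, 7896), (8756, 7897), (8757, 8757), (8758, 7899), (8759, 8759), (8760, 9528), (8761, 7902), (8762, 7903), (8763, 9530), (8764, 7906), (8765, 7927), (8766,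 7920), (8767, 9532)]
    ⟨e3 q8704 L163278 q7866, e3 q8705 L170572 q9470, e3 q8706 L170593 q9472, e3 q8707 L163303 q7869, e3 q8708 L170627 q9475, e3 q8709 (flp_h L163317) q7853, e3 q8710 L170647 q9477, e3 q8711 (flp_h L163340) q7855, e3 q8712 L163356 q8177, e3 q8713 L163374 q8130, e3 q8714 L170700 q9481, e3 q8715 L170710 q9482, e3 q8716 (flp_h L163401) q7859, e3 q8717 L163425 q8276, e3 q8718 L170740 q9484, e3 q8719 L170750 q9485, e3 q8720 (flp_h L163453) q7862, e3 q8721 (flp_h L163461) q7863, e3 q8722 L163483 q8340, e3 q8723 L170816 q9490, e3 q8724 L170838 q9492, e3 q8725 L163513 q8198, e3 q8726 L170876 q9495, e3 q8727 (flp_h L163529) q7867, e3 q8728 L170916 q9499, e3 q8729 (flp_h L163545) q7868, e3 q8730 L170948 q9502, e3 q8731 L163573 q8192, e3 q8732 L170968 q9504, e3 q8733 (flp_h L163587) q7870, e3 q8734 (flp_h L166060) q8962, e3 q8735 L170988 q9507, e3 q8736 (flp_h L163617) q7873, e3 q8737 L163635 q7884, e3 q8738 (flp_h L170784) q9487, e3 q8739 L169143 q9300, e3 q8740 L169129 q9299,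 e3 q8741 (flp_h L163666) q7876, e3 q8742 L171058 q9513, e3 q8743 L171064 q9514, e3 q8744 (flp_h L163694) q7878, e3 q8745 (flp_h L163712) q8686, e3 q8746 (flp_h L171080) q9515, e3 q8747 (flp_h L171014) q9508, e3 q8748 (flp_h L171022) q9509, e3 q8749 (flp_h L163737) q7889, e3 q8750 L171111 q9519, e3 q8751 (flp_h L163766) q7891, e3 q8752 (flp_h L163780) q7892, e3 q8753 L171155 q9522, e3 q8754 L171169 q9523, e3 q8755 (flp_h L163821) q7896, e3 q8756 (flp_h L163829) q7897, e3 q8757 L163855 q8757, e3 q8758 (flp_h L163856) q7899, e3 q8759 L163878 q8759, e3 q8760 L171239 q9528, e3 q8761 (flp_h L163893) q7902, e3 q8762 (flp_h L163909) q7903, e3 q8763 L171270 q9530, e3 q8764 (flp_h L163937) q7906, e3 q8765 L163957 q7927, e3 q8766 L163971 q7920, e3 q8767 L171296 q9532, trivial⟩ (by decide +kernel)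

theorem ce_h_137 : ∀ r, r < 64 → sm gh (Qf (8768 + r)) = Qf (tab Gen.h (8768 + r)) :=
  edges_tab (sm gh) Qf (tab Gen.h) 8768 [(8768, 7910), (8769, 9534), (8770, 7912), (8771, 7929), (8772, 7914), (8773, 7930), (8774, 7917), (8775, 7921), (8776, 7922), (8777, 9537), (8778, 9538), (8779, 9531), (8780, 9533), (8781, 9535), (8782, 9536), (8783, 8783), (8784, 8784), (8785, 7934), (8786, 8786), (8787, 8787), (8788, 8788), (8789, 8789), (8790, 8790), (8791, 7942), (8792, 7955), (8793, 7946), (8794, 7957), (8795, 7956), (8796, 9544), (8797, 8799), (8798, 9546), (8799, 8797), (8800, 9548), (8801, 7961), (8802, 8973), (8803, 8541), (8804, 9553), (8805, 9463), (8806, 8542), (8807, 9558), (8808, 7964), (8809, 8558), (8810, 9561), (8811, 7966), (8812, 9563), (8813, 7970), (8814, 9564), (8815, 9454), (8816, 9566), (8817, 7973), (8818, 7974), (8819, 9569), (8820, 9571), (8821, 8003), (8822, 9574), (8823, 7978), (8824, 9578), (8825, 7979), (8826, 9581), (8827, 8009), (8828, 9583), (8829, 7981), (8830,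 9559), (8831, 9586)]
    ⟨e3 q8768 (flp_h L163987) q7910, e3 q8769 L171324 q9534, e3 q8770 (flp_h L164009) q7912, e3 q8771 L164025 q7929, e3 q8772 (flp_h L164027) q7914, e3 q8773 L164051 q7930, e3 q8774 (flp_h L164057) q7917, e3 q8775 L164083 q7921, e3 q8776 L164095 q7922, e3 q8777 (flp_h L171370) q9537, e3 q8778 (flp_h L171388) q9538, e3 q8779 (flp_h L171294) q9531, e3 q8780 (flp_h L171322) q9533, e3 q8781 (flp_h L171344) q9535, e3 q8782 (flp_h L171356) q9536, e3 q8783 L164179 q8783, e3 q8784 L164194 q8784, e3 q8785 (flp_h L164195) q7934, e3 q8786 L164223 q8786, e3 q8787 L164232 q8787, e3 q8788 L164253 q8788, e3 q8789 L164262 q8789, e3 q8790 L164283 q8790, e3 q8791 (flp_h L164284) q7942, e3 q8792 L164312 q7955, e3 q8793 (flp_h L164314) q7946, e3 q8794 L164340 q7957, e3 q8795 L164352 q7956, e3 q8796 (flp_h L171465) q9544, e3 q8797 (flp_h L164401) q8799, e3 q8798 L171483 q9546, e3 q8799 L164401 q8797, e3 q8800 L171507 q9548, e3 q8801 (flp_h L164415) q7961, e3 q8802 (flp_h L166178) q8973,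 e3 q8803 L164439 q8541, e3 q8804 L171567 q9553, e3 q8805 (flp_h L170488) q9463, e3 q8806 L164464 q8542, e3 q8807 L171617 q9558, e3 q8808 (flp_h L164474) q7964, e3 q8809 L164487 q8558, e3 q8810 L171640 q9561, e3 q8811 (flp_h L164498) q7966, e3 q8812 L171657 q9563, e3 q8813 (flp_h L164516) q7970, e3 q8814 L171671 q9564, e3 q8815 (flp_h L170374) q9454, e3 q8816 L171698 q9566, e3 q8817 (flp_h L164565) q7973, e3 q8818 (flp_h L164573) q7974, e3 q8819 L171733 q9569, e3 q8820 L171759 q9571, e3 q8821 L164615 q8003, e3 q8822 L171799 q9574, e3 q8823 (flp_h L164633) q7978, e3 q8824 L171839 q9578, e3 q8825 (flp_h L164648) q7979, e3 q8826 L171862 q9581, e3 q8827 L164668 q8009, e3 q8828 L171879 q9583, e3 q8829 (flp_h L164680) q7981, e3 q8830 (flp_h L171629) q9559, e3 q8831 L171899 q9586, trivial⟩ (by decide +kernel)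

theorem ce_h_138 : ∀ r, r < 64 → sm gh (Qf (8832 + r)) = Qf (tab Gen.h (8832 + r)) :=
  edges_tab (sm gh) Qf (tab Gen.h) 8832 [(8832, 7984), (8833, 8833), (8834, 8690), (8835, 9590), (8836, 7987), (8837, 7988), (8838, 9593), (8839, 9452), (8840, 9595), (8841, 7992), (8842, 9455), (8843, 9599), (8844, 8189), (8845, 9601), (8846, 7995), (8847, 9087), (8848, 9604), (8849, 7998), (8850, 8023), (8851, 9608), (8852, 8353), (8853, 9611), (8854, 8001), (8855, 9615), (8856, 8002), (8857, 9618), (8858, 8347), (8859, 9620), (8860, 8004), (8861, 9093), (8862, 9145), (8863, 9144), (8864, 8006), (8865, 9626), (8866, 9627), (8867, 8008), (8868, 9629), (8869, 8010), (8870, 9628), (8871, 9101), (8872, 8013), (8873, 8035), (8874, 8036), (8875, 9308), (8876, 9637), (8877, 8017), (8878, 8687), (8879, 8019), (8880, 9638), (8881, 9605), (8882, 9606), (8883, 9644), (8884, 9645), (8885, 9646), (8886, 8027), (8887, 8028), (8888, 8032), (8889, 8030), (8890, 9647), (8891, 9649), (8892, 9650), (8893, 9634), (8894,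 9635), (8895, 8041)]
    ⟨e3 q8832 (flp_h L164709) q7984, e3 q8833 L164727 q8833, e3 q8834 L164737 q8690, e3 q8835 L171940 q9590, e3 q8836 (flp_h L164751) q7987, e3 q8837 (flp_h L164761) q7988, e3 q8838 L171977 q9593, e3 q8839 (flp_h L170348) q9452, e3 q8840 L172006 q9595, e3 q8841 (flp_h L164814) q7992, e3 q8842 (flp_h L170388) q9455, e3 q8843 L172058 q9599, e3 q8844 L164852 q8189, e3 q8845 L172078 q9601, e3 q8846 (flp_h L164868) q7995, e3 q8847 (flp_h L167232) q9087, e3 q8848 L172102 q9604, e3 q8849 (flp_h L164896) q7998, e3 q8850 L164916 q8023, e3 q8851 L172151 q9608, e3 q8852 L164933 q8353, e3 q8853 L172187 q9611, e3 q8854 (flp_h L164949) q8001, e3 q8855 L172227 q9615, e3 q8856 (flp_h L164964) q8002, e3 q8857 L172252 q9618, e3 q8858 L164986 q8347, e3 q8859 L172271 q9620, e3 q8860 (flp_h L165000) q8004, e3 q8861 (flp_h L167291) q9093, e3 q8862 L167744 q9145, e3 q8863 L167734 q9144, e3 q8864 (flp_h L165026) q8006, e3 q8865 L172311 q9626, e3 q8866 L172317 q9627, e3 q8867 (flp_h L165044)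 q8008, e3 q8868 L172327 q9629, e3 q8869 (flp_h L165056) q8010, e3 q8870 (flp_h L172325) q9628, e3 q8871 (flp_h L167355) q9101, e3 q8872 (flp_h L165070) q8013, e3 q8873 L165084 q8035, e3 q8874 L165090 q8036, e3 q8875 L169245 q9308, e3 q8876 L172378 q9637, e3 q8877 (flp_h L165110) q8017, e3 q8878 (flp_h L165127) q8687, e3 q8879 (flp_h L165129) q8019, e3 q8880 (flp_h L172390) q9638, e3 q8881 (flp_h L172130) q9605, e3 q8882 (flp_h L172138) q9606, e3 q8883 L172439 q9644, e3 q8884 L172444 q9645, e3 q8885 L172449 q9646, e3 q8886 (flp_h L165186) q8027, e3 q8887 (flp_h L165191) q8028, e3 q8888 L165199 q8032, e3 q8889 (flp_h L165201) q8030, e3 q8890 (flp_h L172461) q9647, e3 q8891 (flp_h L172471) q9649, e3 q8892 (flp_h L172476) q9650, e3 q8893 (flp_h L172357) q9634, e3 q8894 (flp_h L172363) q9635, e3 q8895 (flp_h L165244) q8041, trivial⟩ (by decide +kernel)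

theorem ce_h_139 : ∀ r, r < 64 → sm gh (Qf (8896 + r)) = Qf (tab Gen.h (8896 + r)) :=
  edges_tab (sm gh) Qf (tab Gen.h) 8896 [(8896, 8896), (8897, 8044), (8898, 9658), (8899, 8046), (8900, 8048), (8901, 8147), (8902, 8050), (8903, 8903), (8904, 8904), (8905, 8905), (8906, 8054), (8907, 8055), (8908, 8908), (8909, 8058), (8910, 8073), (8911, 8074), (8912, 9667), (8913, 8062), (8914, 9669), (8915, 8065), (8916, 8916), (8917, 8067), (8918, 8918), (8919, 8919), (8920, 8075), (8921, 8076), (8922, 9664), (8923, 9665), (8924, 9666), (8925, 9676), (8926, 9677), (8927, 8927), (8928, 8928), (8929, 8929), (8930, 8930), (8931, 8099), (8932, 8100), (8933, 8090), (8934, 8934), (8935, 8935), (8936, 8936), (8937, 8101), (8938, 8102), (8939, 8540), (8940, 9679), (8941, 8555), (8942, 8105), (8943, 9680), (8944, 8107), (8945, 8515), (8946, 9683), (8947, 9684), (8948, 8111), (8949, 8112), (8950, 9685), (8951, 8115), (8952, 8952), (8953, 9688), (8954, 8124), (8955, 8125), (8956, 9690), (8957, 8128), (8958,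 9692), (8959, 8131)]
    ⟨e3 q8896 L165272 q8896, e3 q8897 (flp_h L165273) q8044, e3 q8898 L172545 q9658, e3 q8899 (flp_h L165301) q8046, e3 q8900 (flp_h L165313) q8048, e3 q8901 L165337 q8147, e3 q8902 (flp_h L165341) q8050, e3 q8903 L165363 q8903, e3 q8904 L165370 q8904, e3 q8905 L165389 q8905, e3 q8906 (flp_h L165390) q8054, e3 q8907 (flp_h L165406) q8055, e3 q8908 L165432 q8908, e3 q8909 (flp_h L165433) q8058, e3 q8910 L165459 q8073, e3 q8911 L165469 q8074, e3 q8912 L172667 q9667, e3 q8913 (flp_h L165484) q8062, e3 q8914 L172692 q9669, e3 q8915 (flp_h L165509) q8065, e3 q8916 L165521 q8916, e3 q8917 (flp_h L165522) q8067, e3 q8918 L165542 q8918, e3 q8919 L165549 q8919, e3 q8920 L165564 q8075, e3 q8921 L165570 q8076, e3 q8922 (flp_h L172635) q9664, e3 q8923 (flp_h L172651) q9665, e3 q8924 (flp_h L172665) q9666, e3 q8925 (flp_h L172778) q9676, e3 q8926 (flp_h L172788) q9677, e3 q8927 L165634 q8927, e3 q8928 L165649 q8928, e3 q8929 L165666 q8929, e3 q8930 L165679 q8930, e3 q8931 L165692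 q8099, e3 q8932 L165710 q8100, e3 q8933 (flp_h L165718) q8090, e3 q8934 L165740 q8934, e3 q8935 L165755 q8935, e3 q8936 L165764 q8936, e3 q8937 L165777 q8101, e3 q8938 (flp_h L165779) q8102, e3 q8939 L165798 q8540, e3 q8940 L172804 q9679, e3 q8941 L165825 q8555, e3 q8942 (flp_h L165833) q8105, e3 q8943 L172818 q9680, e3 q8944 (flp_h L165854) q8107, e3 q8945 L165868 q8515, e3 q8946 L172846 q9683, e3 q8947 L172855 q9684, e3 q8948 (flp_h L165895) q8111, e3 q8949 (flp_h L165901) q8112, e3 q8950 L172867 q9685, e3 q8951 (flp_h L165924) q8115, e3 q8952 L165940 q8952, e3 q8953 L172904 q9688, e3 q8954 (flp_h L165955) q8124, e3 q8955 (flp_h L165970) q8125, e3 q8956 L172930 q9690, e3 q8957 (flp_h L165996) q8128, e3 q8958 L172954 q9692, e3 q8959 (flp_h L166020) q8131, trivial⟩ (by decide +kernel)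

theorem ce_h_140 : ∀ r, r < 64 → sm gh (Qf (8960 + r)) = Qf (tab Gen.h (8960 + r)) :=
  edges_tab (sm gh) Qf (tab Gen.h) 8960 [(8960, 9694), (8961, 8133), (8962, 8734), (8963, 8136), (8964, 8138), (8965, 8144), (8966, 8140), (8967, 8146), (8968, 9697), (8969, 9698), (8970, 9699), (8971, 9659), (8972, 8151), (8973, 8802), (8974, 9704), (8975, 8980), (8976, 9116), (8977, 9707), (8978, 9708), (8979, 8156), (8980, 8975), (8981, 9329), (8982, 9713), (8983, 9714), (8984, 9332), (8985, 9717), (8986, 8159), (8987, 9719), (8988, 8161), (8989, 9721), (8990, 8164), (8991, 9722), (8992, 8166), (8993, 9724), (8994, 9556), (8995, 9726), (8996, 8170), (8997, 9729), (8998, 8171), (8999, 9732), (9000, 9733), (9001, 8173), (9002, 9718), (9003, 8175), (9004, 9088), (9005, 9737), (9006, 8178), (9007, 8179), (9008, 9554), (9009, 9741), (9010, 8182), (9011, 9551), (9012, 8183), (9013, 9745), (9014, 9746), (9015, 8185), (9016, 9171), (9017, 8187), (9018, 9749), (9019, 9751), (9020, 8190), (9021, 9754), (9022,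 8191), (9023, 9757)]
    ⟨e3 q8960 L172972 q9694, e3 q8961 (flp_h L166040) q8133, e3 q8962 L166060 q8734, e3 q8963 (flp_h L166062) q8136, e3 q8964 (flp_h L166076) q8138, e3 q8965 L166098 q8144, e3 q8966 (flp_h L166100) q8140, e3 q8967 L166114 q8146, e3 q8968 (flp_h L173014) q9697, e3 q8969 (flp_h L173028) q9698, e3 q8970 (flp_h L173034) q9699, e3 q8971 (flp_h L172571) q9659, e3 q8972 L166170 q8151, e3 q8973 L166178 q8802, e3 q8974 L173085 q9704, e3 q8975 (flp_h L166247) q8980, e3 q8976 (flp_h L167497) q9116, e3 q8977 L173119 q9707, e3 q8978 L173127 q9708, e3 q8979 (flp_h L166231) q8156, e3 q8980 L166247 q8975, e3 q8981 (flp_h L169423) q9329, e3 q8982 L173180 q9713, e3 q8983 L173185 q9714, e3 q8984 (flp_h L169451) q9332, e3 q8985 L173221 q9717, e3 q8986 (flp_h L166287) q8159, e3 q8987 L173235 q9719, e3 q8988 (flp_h L166302) q8161, e3 q8989 L173253 q9721, e3 q8990 (flp_h L166317) q8164, e3 q8991 L173263 q9722, e3 q8992 (flp_h L166341) q8166, e3 q8993 L173287 q9724, e3 q8994 (flp_h L171605)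 q9556, e3 q8995 L173309 q9726, e3 q8996 (flp_h L166381) q8170, e3 q8997 L173339 q9729, e3 q8998 (flp_h L166397) q8171, e3 q8999 L173375 q9732, e3 q9000 L173383 q9733, e3 q9001 (flp_h L166425) q8173, e3 q9002 (flp_h L173233) q9718, e3 q9003 (flp_h L166443) q8175, e3 q9004 L167241 q9088, e3 q9005 L173418 q9737, e3 q9006 (flp_h L166470) q8178, e3 q9007 (flp_h L166478) q8179, e3 q9008 (flp_h L171584) q9554, e3 q9009 L173456 q9741, e3 q9010 (flp_h L166507) q8182, e3 q9011 (flp_h L171555) q9551, e3 q9012 (flp_h L166525) q8183, e3 q9013 L173498 q9745, e3 q9014 L173506 q9746, e3 q9015 (flp_h L166553) q8185, e3 q9016 (flp_h L167960) q9171, e3 q9017 (flp_h L166571) q8187, e3 q9018 L173532 q9749, e3 q9019 L173558 q9751, e3 q9020 (flp_h L166606) q8190, e3 q9021 L173593 q9754, e3 q9022 (flp_h L166623) q8191, e3 q9023 L173622 q9757, trivial⟩ (by decide +kernel)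

theorem ce_h_141 : ∀ r, r < 64 → sm gh (Qf (9024 + r)) = Qf (tab Gen.h (9024 + r)) :=
  edges_tab (sm gh) Qf (tab Gen.h) 9024 [(9024, 9758), (9025, 8193), (9026, 9346), (9027, 9028), (9028, 9027), (9029, 8195), (9030, 9765), (9031, 9766), (9032, 8197), (9033, 9768), (9034, 8199), (9035, 9767), (9036, 9354), (9037, 8202), (9038, 8222), (9039, 8223), (9040, 8582), (9041, 8581), (9042, 8205), (9043, 9777), (9044, 9778), (9045, 8207), (9046, 8534), (9047, 9779), (9048, 9780), (9049, 9781), (9050, 8214), (9051, 8215), (9052, 8219), (9053, 8217), (9054, 9782), (9055, 9784), (9056, 9785), (9057, 9773), (9058, 8228), (9059, 9059), (9060, 8230), (9061, 8231), (9062, 9062), (9063, 9063), (9064, 8237), (9065, 8252), (9066, 9066), (9067, 8253), (9068, 8242), (9069, 8254), (9070, 8244), (9071, 9071), (9072, 8255), (9073, 8256), (9074, 9074), (9075, 9793), (9076, 9794), (9077, 9796), (9078, 9799), (9079, 9079), (9080, 9080), (9081, 9802), (9082, 9803), (9083, 8269), (9084, 8270), (9085, 8272), (9086,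 9804), (9087, 8847)]
    ⟨e3 q9024 L173627 q9758, e3 q9025 (flp_h L166643) q8193, e3 q9026 (flp_h L169565) q9346, e3 q9027 L166669 q9028, e3 q9028 (flp_h L166669) q9027, e3 q9029 (flp_h L166671) q8195, e3 q9030 L173677 q9765, e3 q9031 L173685 q9766, e3 q9032 (flp_h L166699) q8197, e3 q9033 L173699 q9768, e3 q9034 (flp_h L166713) q8199, e3 q9035 (flp_h L173697) q9767, e3 q9036 (flp_h L169625) q9354, e3 q9037 (flp_h L166729) q8202, e3 q9038 L166747 q8222, e3 q9039 L166757 q8223, e3 q9040 (flp_h L166771) q8582, e3 q9041 (flp_h L166784) q8581, e3 q9042 (flp_h L166786) q8205, e3 q9043 L173783 q9777, e3 q9044 L173792 q9778, e3 q9045 (flp_h L166817) q8207, e3 q9046 L166838 q8534, e3 q9047 L173803 q9779, e3 q9048 L173810 q9780, e3 q9049 L173819 q9781, e3 q9050 (flp_h L166871) q8214, e3 q9051 (flp_h L166878) q8215, e3 q9052 L166892 q8219, e3 q9053 (flp_h L166894) q8217, e3 q9054 (flp_h L173839) q9782, e3 q9055 (flp_h L173860) q9784, e3 q9056 (flp_h L173871) q9785, e3 q9057 (flp_h L173741) q9773,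 e3 q9058 (flp_h L166955) q8228, e3 q9059 L166977 q9059, e3 q9060 (flp_h L166978) q8230, e3 q9061 (flp_h L166988) q8231, e3 q9062 L167006 q9062, e3 q9063 L167015 q9063, e3 q9064 (flp_h L167016) q8237, e3 q9065 L167036 q8252, e3 q9066 L167048 q9066, e3 q9067 L167057 q8253, e3 q9068 (flp_h L167061) q8242, e3 q9069 L167079 q8254, e3 q9070 (flp_h L167081) q8244, e3 q9071 L167093 q9071, e3 q9072 L167096 q8255, e3 q9073 L167102 q8256, e3 q9074 L167114 q9074, e3 q9075 (flp_h L173962) q9793, e3 q9076 (flp_h L173972) q9794, e3 q9077 (flp_h L173993) q9796, e3 q9078 (flp_h L174015) q9799, e3 q9079 L167156 q9079, e3 q9080 L167165 q9080, e3 q9081 L174034 q9802, e3 q9082 L174044 q9803, e3 q9083 (flp_h L167188) q8269, e3 q9084 (flp_h L167196) q8270, e3 q9085 (flp_h L167208) q8272, e3 q9086 (flp_h L174064) q9804, e3 q9087 L167232 q8847, trivial⟩ (by decide +kernel)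

theorem ce_h_142 : ∀ r, r < 64 → sm gh (Qf (9088 + r)) = Qf (tab Gen.h (9088 + r)) :=
  edges_tab (sm gh) Qf (tab Gen.h) 9088 [(9088, 9004), (9089, 8275), (9090, 9811), (9091, 9812), (9092, 8277), (9093, 8861), (9094, 9488), (9095, 8279), (9096, 9817), (9097, 9818), (9098, 8281), (9099, 8282), (9100, 9819), (9101, 8871), (9102, 8286), (9103, 9823), (9104, 9824), (9105, 8288), (9106, 8289), (9107, 8511), (9108, 8299), (9109, 9109), (9110, 9110), (9111, 8304), (9112, 9827), (9113, 9828), (9114, 8306), (9115, 8307), (9116, 8976), (9117, 9833), (9118, 9835), (9119, 8543), (9120, 9838), (9121, 8311), (9122, 9841), (9123, 8312), (9124, 9844), (9125, 9384), (9126, 9846), (9127, 8314), (9128, 8334), (9129, 9849), (9130, 8317), (9131, 8527), (9132, 9549), (9133, 8319), (9134, 9829), (9135, 9854), (9136, 9856), (9137, 8323), (9138, 9859), (9139, 8324), (9140, 9862), (9141, 9863), (9142, 8326), (9143, 9839), (9144, 8863), (9145, 8862), (9146, 8328), (9147, 9869), (9148, 9870), (9149, 8330), (9150,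 9872), (9151, 8332)]
    ⟨e3 q9088 (flp_h L167241) q9004, e3 q9089 (flp_h L167243) q8275, e3 q9090 L174126 q9811, e3 q9091 L174133 q9812, e3 q9092 (flp_h L167277) q8277, e3 q9093 L167291 q8861, e3 q9094 (flp_h L170800) q9488, e3 q9095 (flp_h L167301) q8279, e3 q9096 L174177 q9817, e3 q9097 L174183 q9818, e3 q9098 (flp_h L167335) q8281, e3 q9099 (flp_h L167341) q8282, e3 q9100 (flp_h L174197) q9819, e3 q9101 L167355 q8871, e3 q9102 (flp_h L167357) q8286, e3 q9103 L174215 q9823, e3 q9104 L174224 q9824, e3 q9105 (flp_h L167390) q8288, e3 q9106 (flp_h L167395) q8289, e3 q9107 L167419 q8511, e3 q9108 (flp_h L167421) q8299, e3 q9109 L167433 q9109, e3 q9110 L167440 q9110, e3 q9111 (flp_h L167441) q8304, e3 q9112 L174247 q9827, e3 q9113 L174261 q9828, e3 q9114 (flp_h L167473) q8306, e3 q9115 (flp_h L167481) q8307, e3 q9116 L167497 q8976, e3 q9117 L174312 q9833, e3 q9118 L174333 q9835, e3 q9119 L167524 q8543, e3 q9120 L174369 q9838, e3 q9121 (flp_h L167538) q8311, e3 q9122 L174405 q9841, e3 q9123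 (flp_h L167556) q8312, e3 q9124 L174437 q9844, e3 q9125 (flp_h L169859) q9384, e3 q9126 L174455 q9846, e3 q9127 (flp_h L167586) q8314, e3 q9128 L167594 q8334, e3 q9129 L174467 q9849, e3 q9130 (flp_h L167604) q8317, e3 q9131 L167614 q8527, e3 q9132 (flp_h L171523) q9549, e3 q9133 (flp_h L167628) q8319, e3 q9134 (flp_h L174277) q9829, e3 q9135 L174505 q9854, e3 q9136 L174527 q9856, e3 q9137 (flp_h L167665) q8323, e3 q9138 L174558 q9859, e3 q9139 (flp_h L167682) q8324, e3 q9140 L174591 q9862, e3 q9141 L174598 q9863, e3 q9142 (flp_h L167708) q8326, e3 q9143 (flp_h L174389) q9839, e3 q9144 (flp_h L167734) q8863, e3 q9145 (flp_h L167744) q8862, e3 q9146 (flp_h L167746) q8328, e3 q9147 L174654 q9869, e3 q9148 L174660 q9870, e3 q9149 (flp_h L167772) q8330, e3 q9150 L174670 q9872, e3 q9151 (flp_h L167782) q8332, trivial⟩ (by decide +kernel)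

theorem ce_h_143 : ∀ r, r < 64 → sm gh (Qf (9152 + r)) = Qf (tab Gen.h (9152 + r)) :=
  edges_tab (sm gh) Qf (tab Gen.h) 9152 [(9152, 9871), (9153, 9848), (9154, 8335), (9155, 8631), (9156, 8630), (9157, 8337), (9158, 9879), (9159, 9880), (9160, 8339), (9161, 9882), (9162, 8341), (9163, 9881), (9164, 9181), (9165, 8344), (9166, 9887), (9167, 8346), (9168, 9890), (9169, 9891), (9170, 8348), (9171, 9016), (9172, 9173), (9173, 9172), (9174, 8350), (9175, 9897), (9176, 9898), (9177, 8352), (9178, 9900), (9179, 8354), (9180, 9899), (9181, 9164), (9182, 9905), (9183, 9906), (9184, 9907), (9185, 8360), (9186, 8361), (9187, 8365), (9188, 8363), (9189, 9908), (9190, 9910), (9191, 9911), (9192, 9411), (9193, 8391), (9194, 8392), (9195, 9919), (9196, 9920), (9197, 9921), (9198, 8373), (9199, 8374), (9200, 8378), (9201, 8376), (9202, 9922), (9203, 9924), (9204, 8381), (9205, 8382), (9206, 8383), (9207, 8388), (9208, 8538), (9209, 8389), (9210, 8390), (9211, 9928), (9212, 9929), (9213, 9932), (9214,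 9933), (9215, 9927)]
    ⟨e3 q9152 (flp_h L174668) q9871, e3 q9153 (flp_h L174465) q9848, e3 q9154 (flp_h L167798) q8335, e3 q9155 L167812 q8631, e3 q9156 (flp_h L167828) q8630, e3 q9157 (flp_h L167830) q8337, e3 q9158 L174730 q9879, e3 q9159 L174738 q9880, e3 q9160 (flp_h L167860) q8339, e3 q9161 L174756 q9882, e3 q9162 (flp_h L167878) q8341, e3 q9163 (flp_h L174754) q9881, e3 q9164 (flp_h L168054) q9181, e3 q9165 (flp_h L167898) q8344, e3 q9166 L174798 q9887, e3 q9167 (flp_h L167914) q8346, e3 q9168 L174834 q9890, e3 q9169 L174844 q9891, e3 q9170 (flp_h L167944) q8348, e3 q9171 L167960 q9016, e3 q9172 L167980 q9173, e3 q9173 (flp_h L167980) q9172, e3 q9174 (flp_h L167982) q8350, e3 q9175 L174900 q9897, e3 q9176 L174908 q9898, e3 q9177 (flp_h L168014) q8352, e3 q9178 L174928 q9900, e3 q9179 (flp_h L168034) q8354, e3 q9180 (flp_h L174926) q9899, e3 q9181 L168054 q9164, e3 q9182 L174964 q9905, e3 q9183 L174970 q9906, e3 q9184 L174978 q9907, e3 q9185 (flp_h L168080) q8360, e3 q9186 (flp_h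 L168086) q8361, e3 q9187 L168094 q8365, e3 q9188 (flp_h L168096) q8363, e3 q9189 (flp_h L174994) q9908, e3 q9190 (flp_h L175002) q9910, e3 q9191 (flp_h L175008) q9911, e3 q9192 (flp_h L170036) q9411, e3 q9193 L168120 q8391, e3 q9194 L168124 q8392, e3 q9195 L175036 q9919, e3 q9196 L175046 q9920, e3 q9197 L175058 q9921, e3 q9198 (flp_h L168161) q8373, e3 q9199 (flp_h L168167) q8374, e3 q9200 L168183 q8378, e3 q9201 (flp_h L168185) q8376, e3 q9202 (flp_h L175078) q9922, e3 q9203 (flp_h L175100) q9924, e3 q9204 (flp_h L168224) q8381, e3 q9205 (flp_h L168230) q8382, e3 q9206 (flp_h L168238) q8383, e3 q9207 L168256 q8388, e3 q9208 L168266 q8538, e3 q9209 L168270 q8389, e3 q9210 L168276 q8390, e3 q9211 (flp_h L175153) q9928, e3 q9212 (flp_h L175161) q9929, e3 q9213 (flp_h L175185) q9932, e3 q9214 (flp_h L175193) q9933, e3 q9215 (flp_h L175141) q9927, trivial⟩ (by decide +kernel)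

theorem ce_h_144 : ∀ r, r < 64 → sm gh (Qf (9216 + r)) = Qf (tab Gen.h (9216 + r)) :=
  edges_tab (sm gh) Qf (tab Gen.h) 9216 [(9216, 8396), (9217, 8398), (9218, 9218), (9219, 9219), (9220, 8404), (9221, 8489), (9222, 8406), (9223, 8491), (9224, 8492), (9225, 8493), (9226, 8494), (9227, 9227), (9228, 9228), (9229, 8496), (9230, 9944), (9231, 8421), (9232, 8546), (9233, 8547), (9234, 8516), (9235, 9948), (9236, 8427), (9237, 8497), (9238, 9931), (9239, 8429), (9240, 9951), (9241, 8432), (9242, 9242), (9243, 8434), (9244, 8548), (9245, 8549), (9246, 9247), (9247, 9246), (9248, 8437), (9249, 9960), (9250, 9961), (9251, 8439), (9252, 9963), (9253, 8441), (9254, 9962), (9255, 9966), (9256, 9967), (9257, 9968), (9258, 8446), (9259, 8447), (9260, 8451), (9261, 8449), (9262, 9969), (9263, 9971), (9264, 9972), (9265, 8525), (9266, 8453), (9267, 8454), (9268, 8455), (9269, 8460), (9270, 9270), (9271, 8461), (9272, 8462), (9273, 9979), (9274, 9981), (9275, 9982), (9276, 9953), (9277, 8465), (9278,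 8466), (9279, 8467)]
    ⟨e3 q9216 (flp_h L168332) q8396, e3 q9217 (flp_h L168344) q8398, e3 q9218 L168360 q9218, e3 q9219 L168369 q9219, e3 q9220 (flp_h L168370) q8404, e3 q9221 L168386 q8489, e3 q9222 (flp_h L168388) q8406, e3 q9223 L168402 q8491, e3 q9224 L168408 q8492, e3 q9225 L168418 q8493, e3 q9226 L168426 q8494, e3 q9227 L168436 q9227, e3 q9228 L168445 q9228, e3 q9229 L168458 q8496, e3 q9230 L175291 q9944, e3 q9231 (flp_h L168471) q8421, e3 q9232 L168489 q8546, e3 q9233 L168498 q8547, e3 q9234 L168506 q8516, e3 q9235 L175342 q9948, e3 q9236 (flp_h L168522) q8427, e3 q9237 L168542 q8497, e3 q9238 (flp_h L175175) q9931, e3 q9239 (flp_h L168555) q8429, e3 q9240 L175375 q9951, e3 q9241 (flp_h L168577) q8432, e3 q9242 L168595 q9242, e3 q9243 (flp_h L168596) q8434, e3 q9244 L168606 q8548, e3 q9245 L168611 q8549, e3 q9246 L168630 q9247, e3 q9247 (flp_h L168630) q9246, e3 q9248 (flp_h L168632) q8437, e3 q9249 L175462 q9960, e3 q9250 L175469 q9961, e3 q9251 (flp_h L168663) q8439, e3 q9252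 L175489 q9963, e3 q9253 (flp_h L168684) q8441, e3 q9254 (flp_h L175487) q9962, e3 q9255 L175519 q9966, e3 q9256 L175527 q9967, e3 q9257 L175537 q9968, e3 q9258 (flp_h L168733) q8446, e3 q9259 (flp_h L168739) q8447, e3 q9260 L168755 q8451, e3 q9261 (flp_h L168757) q8449, e3 q9262 (flp_h L175555) q9969, e3 q9263 (flp_h L175572) q9971, e3 q9264 (flp_h L175580) q9972, e3 q9265 L168796 q8525, e3 q9266 (flp_h L168802) q8453, e3 q9267 (flp_h L168809) q8454, e3 q9268 (flp_h L168820) q8455, e3 q9269 L168840 q8460, e3 q9270 L168851 q9270, e3 q9271 L168859 q8461, e3 q9272 L168868 q8462, e3 q9273 (flp_h L175648) q9979, e3 q9274 (flp_h L175668) q9981, e3 q9275 (flp_h L175677) q9982, e3 q9276 (flp_h L175405) q9953, e3 q9277 (flp_h L168902) q8465, e3 q9278 (flp_h L168915) q8466, e3 q9279 (flp_h L168928) q8467, trivial⟩ (by decide +kernel)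

theorem ce_h_145 : ∀ r, r < 64 → sm gh (Qf (9280 + r)) = Qf (tab Gen.h (9280 + r)) :=
  edges_tab (sm gh) Qf (tab Gen.h) 9280 [(9280, 8472), (9281, 8554), (9282, 8473), (9283, 8474), (9284, 9985), (9285, 9987), (9286, 9988), (9287, 9989), (9288, 8486), (9289, 8484), (9290, 8485), (9291, 8487), (9292, 9939), (9293, 9940), (9294, 9941), (9295, 9942), (9296, 9943), (9297, 8498), (9298, 9720), (9299, 8740), (9300, 8739), (9301, 8500), (9302, 9923), (9303, 8536), (9304, 8535), (9305, 9783), (9306, 9805), (9307, 9830), (9308, 8875), (9309, 8520), (9310, 9999), (9311, 10000), (9312, 8522), (9313, 8523), (9314, 10001), (9315, 9850), (9316, 9851), (9317, 10007), (9318, 10008), (9319, 10009), (9320, 8531), (9321, 8532), (9322, 9930), (9323, 9945), (9324, 9946), (9325, 9954), (9326, 9955), (9327, 9956), (9328, 9986), (9329, 8981), (9330, 10014), (9331, 9711), (9332, 8984), (9333, 10017), (9334, 8561), (9335, 10019), (9336, 8563), (9337, 8565), (9338, 8566), (9339, 10023), (9340, 8567), (9341, 10018),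 (9342, 9342), (9343, 8570)]
    ⟨e3 q9280 L168946 q8472, e3 q9281 L168955 q8554, e3 q9282 L168962 q8473, e3 q9283 L168971 q8474, e3 q9284 (flp_h L175710) q9985, e3 q9285 (flp_h L175732) q9987, e3 q9286 (flp_h L175745) q9988, e3 q9287 (flp_h L175757) q9989, e3 q9288 L169026 q8486, e3 q9289 L169039 q8484, e3 q9290 L169047 q8485, e3 q9291 (flp_h L169049) q8487, e3 q9292 (flp_h L175259) q9939, e3 q9293 (flp_h L175267) q9940, e3 q9294 (flp_h L175273) q9941, e3 q9295 (flp_h L175281) q9942, e3 q9296 (flp_h L175287) q9943, e3 q9297 (flp_h L169097) q8498, e3 q9298 (flp_h L173251) q9720, e3 q9299 (flp_h L169129) q8740, e3 q9300 (flp_h L169143) q8739, e3 q9301 (flp_h L169145) q8500, e3 q9302 (flp_h L175090) q9923, e3 q9303 L169183 q8536, e3 q9304 L169198 q8535, e3 q9305 (flp_h L173852) q9783, e3 q9306 (flp_h L174078) q9805, e3 q9307 (flp_h L174291) q9830, e3 q9308 (flp_h L169245) q8875, e3 q9309 (flp_h L169247) q8520, e3 q9310 L175858 q9999, e3 q9311 L175867 q10000, e3 q9312 (flp_h L169276) q8522,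 e3 q9313 (flp_h L169281) q8523, e3 q9314 (flp_h L175881) q10001, e3 q9315 (flp_h L174479) q9850, e3 q9316 (flp_h L174483) q9851, e3 q9317 L175922 q10007, e3 q9318 L175931 q10008, e3 q9319 L175940 q10009, e3 q9320 (flp_h L169340) q8531, e3 q9321 (flp_h L169345) q8532, e3 q9322 (flp_h L175167) q9930, e3 q9323 (flp_h L175317) q9945, e3 q9324 (flp_h L175326) q9946, e3 q9325 (flp_h L175412) q9954, e3 q9326 (flp_h L175423) q9955, e3 q9327 (flp_h L175427) q9956, e3 q9328 (flp_h L175723) q9986, e3 q9329 L169423 q8981, e3 q9330 L175985 q10014, e3 q9331 (flp_h L173169) q9711, e3 q9332 L169451 q8984, e3 q9333 L176017 q10017, e3 q9334 (flp_h L169463) q8561, e3 q9335 L176035 q10019, e3 q9336 (flp_h L169481) q8563, e3 q9337 (flp_h L169490) q8565, e3 q9338 (flp_h L169498) q8566, e3 q9339 L176067 q10023, e3 q9340 (flp_h L169512) q8567, e3 q9341 (flp_h L176033) q10018, e3 q9342 L169536 q9342, e3 q9343 (flp_h L169537) q8570, trivial⟩ (by decide +kernel)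

theorem ce_h_146 : ∀ r, r < 64 → sm gh (Qf (9344 + r)) = Qf (tab Gen.h (9344 + r)) :=
  edges_tab (sm gh) Qf (tab Gen.h) 9344 [(9344, 10028), (9345, 8571), (9346, 9026), (9347, 9468), (9348, 8573), (9349, 10034), (9350, 10035), (9351, 8575), (9352, 8576), (9353, 10036), (9354, 9036), (9355, 8592), (9356, 8593), (9357, 10043), (9358, 10044), (9359, 10045), (9360, 8584), (9361, 8585), (9362, 8589), (9363, 8587), (9364, 10046), (9365, 10048), (9366, 10049), (9367, 10041), (9368, 10042), (9369, 9369), (9370, 9370), (9371, 9371), (9372, 9372), (9373, 8607), (9374, 8608), (9375, 9375), (9376, 9376), (9377, 8609), (9378, 8606), (9379, 10061), (9380, 10060), (9381, 9709), (9382, 8615), (9383, 10066), (9384, 9125), (9385, 10068), (9386, 8617), (9387, 8627), (9388, 10071), (9389, 8620), (9390, 9390), (9391, 9451), (9392, 8622), (9393, 10076), (9394, 10077), (9395, 8624), (9396, 8625), (9397, 10078), (9398, 10070), (9399, 9399), (9400, 9400), (9401, 10084), (9402, 10085), (9403, 10086), (9404, 8633),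 (9405, 8634), (9406, 8638), (9407, 8636)]
    ⟨e3 q9344 L176098 q10028, e3 q9345 (flp_h L169553) q8571, e3 q9346 L169565 q9026, e3 q9347 L170556 q9468, e3 q9348 (flp_h L169575) q8573, e3 q9349 L176141 q10034, e3 q9350 L176149 q10035, e3 q9351 (flp_h L169601) q8575, e3 q9352 (flp_h L169609) q8576, e3 q9353 (flp_h L176163) q10036, e3 q9354 L169625 q9036, e3 q9355 L169635 q8592, e3 q9356 L169641 q8593, e3 q9357 L176203 q10043, e3 q9358 L176214 q10044, e3 q9359 L176221 q10045, e3 q9360 (flp_h L169671) q8584, e3 q9361 (flp_h L169678) q8585, e3 q9362 L169692 q8589, e3 q9363 (flp_h L169694) q8587, e3 q9364 (flp_h L176239) q10046, e3 q9365 (flp_h L176253) q10048, e3 q9366 (flp_h L176262) q10049, e3 q9367 (flp_h L176195) q10041, e3 q9368 (flp_h L176199) q10042, e3 q9369 L169753 q9369, e3 q9370 L169758 q9370, e3 q9371 L169765 q9371, e3 q9372 L169772 q9372, e3 q9373 L169775 q8607, e3 q9374 L169781 q8608, e3 q9375 L169787 q9375, e3 q9376 L169794 q9376, e3 q9377 L169803 q8609, e3 q9378 L169807 q8606,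 e3 q9379 (flp_h L176356) q10061, e3 q9380 (flp_h L176348) q10060, e3 q9381 (flp_h L173147) q9709, e3 q9382 (flp_h L169835) q8615, e3 q9383 L176391 q10066, e3 q9384 L169859 q9125, e3 q9385 L176408 q10068, e3 q9386 (flp_h L169871) q8617, e3 q9387 L169883 q8627, e3 q9388 L176430 q10071, e3 q9389 (flp_h L169894) q8620, e3 q9390 L169910 q9390, e3 q9391 (flp_h L170333) q9451, e3 q9392 (flp_h L169924) q8622, e3 q9393 L176476 q10076, e3 q9394 L176481 q10077, e3 q9395 (flp_h L169943) q8624, e3 q9396 (flp_h L169946) q8625, e3 q9397 (flp_h L176488) q10078, e3 q9398 (flp_h L176426) q10070, e3 q9399 L169970 q9399, e3 q9400 L169973 q9400, e3 q9401 L176519 q10084, e3 q9402 L176527 q10085, e3 q9403 L176533 q10086, e3 q9404 (flp_h L169998) q8633, e3 q9405 (flp_h L170004) q8634, e3 q9406 L170014 q8638, e3 q9407 (flp_h L170016) q8636, trivial⟩ (by decide +kernel)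

theorem ce_h_147 : ∀ r, r < 64 → sm gh (Qf (9408 + r)) = Qf (tab Gen.h (9408 + r)) :=
  edges_tab (sm gh) Qf (tab Gen.h) 9408 [(9408, 10087), (9409, 10089), (9410, 10090), (9411, 9192), (9412, 8653), (9413, 8654), (9414, 8655), (9415, 8656), (9416, 8643), (9417, 8644), (9418, 8645), (9419, 8650), (9420, 9420), (9421, 8651), (9422, 8652), (9423, 10103), (9424, 10105), (9425, 10106), (9426, 10109), (9427, 10110), (9428, 10098), (9429, 10099), (9430, 10100), (9431, 10101), (9432, 10102), (9433, 10118), (9434, 8668), (9435, 8669), (9436, 8671), (9437, 9437), (9438, 9438), (9439, 8688), (9440, 8681), (9441, 9441), (9442, 8682), (9443, 8683), (9444, 9444), (9445, 9445), (9446, 8684), (9447, 8685), (9448, 10125), (9449, 10128), (9450, 10129), (9451, 9391), (9452, 8839), (9453, 10133), (9454, 8815), (9455, 8842), (9456, 10136), (9457, 8692), (9458, 10138), (9459, 8694), (9460, 10140), (9461, 8697), (9462, 10141), (9463, 8805), (9464, 10143), (9465, 8700), (9466, 8701), (9467, 10146), (9468, 9347),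 (9469, 10148), (9470, 8705), (9471, 9753)]
    ⟨e3 q9408 (flp_h L176545) q10087, e3 q9409 (flp_h L176553) q10089, e3 q9410 (flp_h L176559) q10090, e3 q9411 L170036 q9192, e3 q9412 L170044 q8653, e3 q9413 L170050 q8654, e3 q9414 L170056 q8655, e3 q9415 L170060 q8656, e3 q9416 (flp_h L170064) q8643, e3 q9417 (flp_h L170072) q8644, e3 q9418 (flp_h L170078) q8645, e3 q9419 L170092 q8650, e3 q9420 L170100 q9420, e3 q9421 L170103 q8651, e3 q9422 L170109 q8652, e3 q9423 (flp_h L176635) q10103, e3 q9424 (flp_h L176650) q10105, e3 q9425 (flp_h L176658) q10106, e3 q9426 (flp_h L176682) q10109, e3 q9427 (flp_h L176690) q10110, e3 q9428 (flp_h L176595) q10098, e3 q9429 (flp_h L176601) q10099, e3 q9430 (flp_h L176609) q10100, e3 q9431 (flp_h L176615) q10101, e3 q9432 (flp_h L176625) q10102, e3 q9433 L176766 q10118, e3 q9434 L170201 q8668, e3 q9435 L170205 q8669, e3 q9436 (flp_h L170209) q8671, e3 q9437 L170227 q9437, e3 q9438 L170231 q9438, e3 q9439 L170239 q8688, e3 q9440 L170246 q8681, e3 q9441 L170255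 q9441, e3 q9442 L170261 q8682, e3 q9443 L170272 q8683, e3 q9444 L170277 q9444, e3 q9445 L170283 q9445, e3 q9446 L170292 q8684, e3 q9447 L170299 q8685, e3 q9448 (flp_h L176855) q10125, e3 q9449 (flp_h L176876) q10128, e3 q9450 (flp_h L176883) q10129, e3 q9451 L170333 q9391, e3 q9452 L170348 q8839, e3 q9453 L176922 q10133, e3 q9454 L170374 q8815, e3 q9455 L170388 q8842, e3 q9456 L176958 q10136, e3 q9457 (flp_h L170402) q8692, e3 q9458 L176980 q10138, e3 q9459 (flp_h L170420) q8694, e3 q9460 L177003 q10140, e3 q9461 (flp_h L170445) q8697, e3 q9462 L177019 q10141, e3 q9463 L170488 q8805, e3 q9464 L177050 q10143, e3 q9465 (flp_h L170504) q8700, e3 q9466 (flp_h L170514) q8701, e3 q9467 L177091 q10146, e3 q9468 (flp_h L170556) q9347, e3 q9469 L177123 q10148, e3 q9470 (flp_h L170572) q8705, e3 q9471 L173591 q9753, trivial⟩ (by decide +kernel)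

theorem ce_h_148 : ∀ r, r < 64 → sm gh (Qf (9472 + r)) = Qf (tab Gen.h (9472 + r)) :=
  edges_tab (sm gh) Qf (tab Gen.h) 9472 [(9472, 8706), (9473, 10152), (9474, 10153), (9475, 8708), (9476, 10137), (9477, 8710), (9478, 9478), (9479, 10158), (9480, 10159), (9481, 8714), (9482, 8715), (9483, 10162), (9484, 8718), (9485, 8719), (9486, 9691), (9487, 8738), (9488, 9094), (9489, 10168), (9490, 8723), (9491, 9497), (9492, 8724), (9493, 10171), (9494, 10172), (9495, 8726), (9496, 9693), (9497, 9491), (9498, 9728), (9499, 8728), (9500, 10178), (9501, 10179), (9502, 8730), (9503, 10181), (9504, 8732), (9505, 10180), (9506, 9696), (9507, 8735), (9508, 8747), (9509, 8748), (9510, 10166), (9511, 10188), (9512, 10189), (9513, 8742), (9514, 8743), (9515, 8746), (9516, 10191), (9517, 10186), (9518, 10187), (9519, 8750), (9520, 9520), (9521, 9521), (9522, 8753), (9523, 8754), (9524, 9524), (9525, 9525), (9526, 9526), (9527, 9527), (9528, 8760), (9529, 9529), (9530, 8763), (9531, 8779), (9532, 8767), (9533,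 8780), (9534, 8769), (9535, 8781)]
    ⟨e3 q9472 (flp_h L170593) q8706, e3 q9473 L177173 q10152, e3 q9474 L177178 q10153, e3 q9475 (flp_h L170627) q8708, e3 q9476 (flp_h L176978) q10137, e3 q9477 (flp_h L170647) q8710, e3 q9478 L170671 q9478, e3 q9479 L177232 q10158, e3 q9480 L177248 q10159, e3 q9481 (flp_h L170700) q8714, e3 q9482 (flp_h L170710) q8715, e3 q9483 L177289 q10162, e3 q9484 (flp_h L170740) q8718, e3 q9485 (flp_h L170750) q8719, e3 q9486 (flp_h L172952) q9691, e3 q9487 L170784 q8738, e3 q9488 L170800 q9094, e3 q9489 L177359 q10168, e3 q9490 (flp_h L170816) q8723, e3 q9491 L170902 q9497, e3 q9492 (flp_h L170838) q8724, e3 q9493 L177397 q10171, e3 q9494 L177405 q10172, e3 q9495 (flp_h L170876) q8726, e3 q9496 (flp_h L172970) q9693, e3 q9497 (flp_h L170902) q9491, e3 q9498 L173337 q9728, e3 q9499 (flp_h L170916) q8728, e3 q9500 L177467 q10178, e3 q9501 L177475 q10179, e3 q9502 (flp_h L170948) q8730, e3 q9503 L177493 q10181, e3 q9504 (flp_h L170968) q8732, e3 q9505 (flp_h L177491)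 q10180, e3 q9506 (flp_h L173000) q9696, e3 q9507 (flp_h L170988) q8735, e3 q9508 L171014 q8747, e3 q9509 L171022 q8748, e3 q9510 (flp_h L177339) q10166, e3 q9511 L177559 q10188, e3 q9512 L177571 q10189, e3 q9513 (flp_h L171058) q8742, e3 q9514 (flp_h L171064) q8743, e3 q9515 L171080 q8746, e3 q9516 (flp_h L177598) q10191, e3 q9517 (flp_h L177543) q10186, e3 q9518 (flp_h L177555) q10187, e3 q9519 (flp_h L171111) q8750, e3 q9520 L171139 q9520, e3 q9521 L171154 q9521, e3 q9522 (flp_h L171155) q8753, e3 q9523 (flp_h L171169) q8754, e3 q9524 L171193 q9524, e3 q9525 L171202 q9525, e3 q9526 L171223 q9526, e3 q9527 L171234 q9527, e3 q9528 (flp_h L171239) q8760, e3 q9529 L171269 q9529, e3 q9530 (flp_h L171270) q8763, e3 q9531 L171294 q8779, e3 q9532 (flp_h L171296) q8767, e3 q9533 L171322 q8780, e3 q9534 (flp_h L171324) q8769, e3 q9535 L171344 q8781, trivial⟩ (by decide +kernel)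

theorem ce_h_149 : ∀ r, r < 64 → sm gh (Qf (9536 + r)) = Qf (tab Gen.h (9536 + r)) :=
  edges_tab (sm gh) Qf (tab Gen.h) 9536 [(9536, 8782), (9537, 8777), (9538, 8778), (9539, 10202), (9540, 10199), (9541, 10200), (9542, 10201), (9543, 9543), (9544, 8796), (9545, 10204), (9546, 8798), (9547, 10205), (9548, 8800), (9549, 9132), (9550, 10208), (9551, 9011), (9552, 10210), (9553, 8804), (9554, 9008), (9555, 10213), (9556, 8994), (9557, 10215), (9558, 8807), (9559, 8830), (9560, 10218), (9561, 8810), (9562, 9562), (9563, 8812), (9564, 8814), (9565, 10223), (9566, 8816), (9567, 10206), (9568, 9568), (9569, 8819), (9570, 9886), (9571, 8820), (9572, 10230), (9573, 10231), (9574, 8822), (9575, 10211), (9576, 9577), (9577, 9576), (9578, 8824), (9579, 10237), (9580, 10238), (9581, 8826), (9582, 10240), (9583, 8828), (9584, 10239), (9585, 10217), (9586, 8831), (9587, 9587), (9588, 9588), (9589, 10247), (9590, 8835), (9591, 9596), (9592, 9592), (9593, 8838), (9594, 10252), (9595, 8840), (9596, 9591),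 (9597, 9840), (9598, 10256), (9599, 8843)]
    ⟨e3 q9536 L171356 q8782, e3 q9537 L171370 q8777, e3 q9538 L171388 q8778, e3 q9539 (flp_h L177741) q10202, e3 q9540 (flp_h L177701) q10199, e3 q9541 (flp_h L177713) q10200, e3 q9542 (flp_h L177727) q10201, e3 q9543 L171452 q9543, e3 q9544 L171465 q8796, e3 q9545 L177760 q10204, e3 q9546 (flp_h L171483) q8798, e3 q9547 L177772 q10205, e3 q9548 (flp_h L171507) q8800, e3 q9549 L171523 q9132, e3 q9550 L177810 q10208, e3 q9551 L171555 q9011, e3 q9552 L177836 q10210, e3 q9553 (flp_h L171567) q8804, e3 q9554 L171584 q9008, e3 q9555 L177869 q10213, e3 q9556 L171605 q8994, e3 q9557 L177886 q10215, e3 q9558 (flp_h L171617) q8807, e3 q9559 L171629 q8830, e3 q9560 L177906 q10218, e3 q9561 (flp_h L171640) q8810, e3 q9562 L171656 q9562, e3 q9563 (flp_h L171657) q8812, e3 q9564 (flp_h L171671) q8814, e3 q9565 L177960 q10223, e3 q9566 (flp_h L171698) q8816, e3 q9567 (flp_h L177792) q10206, e3 q9568 L171732 q9568, e3 q9569 (flp_h L171733) q8819, e3 q9570 L174796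 q9886, e3 q9571 (flp_h L171759) q8820, e3 q9572 L178036 q10230, e3 q9573 L178046 q10231, e3 q9574 (flp_h L171799) q8822, e3 q9575 (flp_h L177854) q10211, e3 q9576 L171837 q9577, e3 q9577 (flp_h L171837) q9576, e3 q9578 (flp_h L171839) q8824, e3 q9579 L178109 q10237, e3 q9580 L178114 q10238, e3 q9581 (flp_h L171862) q8826, e3 q9582 L178123 q10240, e3 q9583 (flp_h L171879) q8828, e3 q9584 (flp_h L178121) q10239, e3 q9585 (flp_h L177904) q10217, e3 q9586 (flp_h L171899) q8831, e3 q9587 L171921 q9587, e3 q9588 L171926 q9588, e3 q9589 L178181 q10247, e3 q9590 (flp_h L171940) q8835, e3 q9591 (flp_h L172032) q9596, e3 q9592 L171976 q9592, e3 q9593 (flp_h L171977) q8838, e3 q9594 L178237 q10252, e3 q9595 (flp_h L172006) q8840, e3 q9596 L172032 q9591, e3 q9597 L174403 q9840, e3 q9598 L178286 q10256, e3 q9599 (flp_h L172058) q8843, trivial⟩ (by decide +kernel)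

theorem ce_h_150 : ∀ r, r < 64 → sm gh (Qf (9600 + r)) = Qf (tab Gen.h (9600 + r)) :=
  edges_tab (sm gh) Qf (tab Gen.h) 9600 [(9600, 10258), (9601, 8845), (9602, 10257), (9603, 9808), (9604, 8848), (9605, 8881), (9606, 8882), (9607, 9613), (9608, 8851), (9609, 10268), (9610, 10269), (9611, 8853), (9612, 9738), (9613, 9607), (9614, 9858), (9615, 8855), (9616, 10275), (9617, 10276), (9618, 8857), (9619, 10278), (9620, 8859), (9621, 10277), (9622, 9814), (9623, 10283), (9624, 10284), (9625, 10285), (9626, 8865), (9627, 8866), (9628, 8870), (9629, 8868), (9630, 10286), (9631, 10288), (9632, 10289), (9633, 9822), (9634, 8893), (9635, 8894), (9636, 10299), (9637, 8876), (9638, 8880), (9639, 10300), (9640, 10301), (9641, 10263), (9642, 10264), (9643, 10265), (9644, 8883), (9645, 8884), (9646, 8885), (9647, 8890), (9648, 9648), (9649, 8891), (9650, 8892), (9651, 10307), (9652, 10309), (9653, 10312), (9654, 10313), (9655, 10297), (9656, 10298), (9657, 9657), (9658, 8898), (9659, 8971), (9660, 9660),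 (9661, 9661), (9662, 9662), (9663, 9663)]
    ⟨e3 q9600 L178302 q10258, e3 q9601 (flp_h L172078) q8845, e3 q9602 (flp_h L178300) q10257, e3 q9603 (flp_h L174100) q9808, e3 q9604 (flp_h L172102) q8848, e3 q9605 L172130 q8881, e3 q9606 L172138 q8882, e3 q9607 L172214 q9613, e3 q9608 (flp_h L172151) q8851, e3 q9609 L178408 q10268, e3 q9610 L178415 q10269, e3 q9611 (flp_h L172187) q8853, e3 q9612 (flp_h L173432) q9738, e3 q9613 (flp_h L172214) q9607, e3 q9614 L174556 q9858, e3 q9615 (flp_h L172227) q8855, e3 q9616 L178478 q10275, e3 q9617 L178485 q10276, e3 q9618 (flp_h L172252) q8857, e3 q9619 L178498 q10278, e3 q9620 (flp_h L172271) q8859, e3 q9621 (flp_h L178496) q10277, e3 q9622 (flp_h L174151) q9814, e3 q9623 L178536 q10283, e3 q9624 L178542 q10284, e3 q9625 L178548 q10285, e3 q9626 (flp_h L172311) q8865, e3 q9627 (flp_h L172317) q8866, e3 q9628 L172325 q8870, e3 q9629 (flp_h L172327) q8868, e3 q9630 (flp_h L178560) q10286, e3 q9631 (flp_h L178568) q10288, e3 q9632 (flp_h L178574) q10289,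 e3 q9633 (flp_h L174211) q9822, e3 q9634 L172357 q8893, e3 q9635 L172363 q8894, e3 q9636 L178634 q10299, e3 q9637 (flp_h L172378) q8876, e3 q9638 L172390 q8880, e3 q9639 (flp_h L178654) q10300, e3 q9640 (flp_h L178660) q10301, e3 q9641 (flp_h L178352) q10263, e3 q9642 (flp_h L178364) q10264, e3 q9643 (flp_h L178378) q10265, e3 q9644 (flp_h L172439) q8883, e3 q9645 (flp_h L172444) q8884, e3 q9646 (flp_h L172449) q8885, e3 q9647 L172461 q8890, e3 q9648 L172468 q9648, e3 q9649 L172471 q8891, e3 q9650 L172476 q8892, e3 q9651 (flp_h L178725) q10307, e3 q9652 (flp_h L178739) q10309, e3 q9653 (flp_h L178760) q10312, e3 q9654 (flp_h L178767) q10313, e3 q9655 (flp_h L178618) q10297, e3 q9656 (flp_h L178632) q10298, e3 q9657 L172540 q9657, e3 q9658 (flp_h L172545) q8898, e3 q9659 L172571 q8971, e3 q9660 L172583 q9660, e3 q9661 L172594 q9661, e3 q9662 L172611 q9662, e3 q9663 L172622 q9663, trivial⟩ (by decide +kernel)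

theorem ce_h_151 : ∀ r, r < 64 → sm gh (Qf (9664 + r)) = Qf (tab Gen.h (9664 + r)) :=
  edges_tab (sm gh) Qf (tab Gen.h) 9664 [(9664, 8922), (9665, 8923), (9666, 8924), (9667, 8912), (9668, 9668), (9669, 8914), (9670, 9670), (9671, 9671), (9672, 9672), (9673, 9673), (9674, 9674), (9675, 9675), (9676, 8925), (9677, 8926), (9678, 10323), (9679, 8940), (9680, 8943), (9681, 9681), (9682, 10329), (9683, 8946), (9684, 8947), (9685, 8950), (9686, 9686), (9687, 9687), (9688, 8953), (9689, 10332), (9690, 8956), (9691, 9486), (9692, 8958), (9693, 9496), (9694, 8960), (9695, 10339), (9696, 9506), (9697, 8968), (9698, 8969), (9699, 8970), (9700, 10342), (9701, 10343), (9702, 10318), (9703, 10345), (9704, 8974), (9705, 10346), (9706, 10347), (9707, 8977), (9708, 8978), (9709, 9381), (9710, 10350), (9711, 9331), (9712, 10352), (9713, 8982), (9714, 8983), (9715, 10355), (9716, 10356), (9717, 8985), (9718, 9002), (9719, 8987), (9720, 9298), (9721, 8989), (9722, 8991), (9723, 10348), (9724, 8993), (9725,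 10365), (9726, 8995), (9727, 10353)]
    ⟨e3 q9664 L172635 q8922, e3 q9665 L172651 q8923, e3 q9666 L172665 q8924, e3 q9667 (flp_h L172667) q8912, e3 q9668 L172691 q9668, e3 q9669 (flp_h L172692) q8914, e3 q9670 L172712 q9670, e3 q9671 L172715 q9671, e3 q9672 L172730 q9672, e3 q9673 L172739 q9673, e3 q9674 L172754 q9674, e3 q9675 L172767 q9675, e3 q9676 L172778 q8925, e3 q9677 L172788 q8926, e3 q9678 (flp_h L178894) q10323, e3 q9679 (flp_h L172804) q8940, e3 q9680 (flp_h L172818) q8943, e3 q9681 L172832 q9681, e3 q9682 L178953 q10329, e3 q9683 (flp_h L172846) q8946, e3 q9684 (flp_h L172855) q8947, e3 q9685 (flp_h L172867) q8950, e3 q9686 L172891 q9686, e3 q9687 L172899 q9687, e3 q9688 (flp_h L172904) q8953, e3 q9689 (flp_h L179005) q10332, e3 q9690 (flp_h L172930) q8956, e3 q9691 L172952 q9486, e3 q9692 (flp_h L172954) q8958, e3 q9693 L172970 q9496, e3 q9694 (flp_h L172972) q8960, e3 q9695 (flp_h L179079) q10339, e3 q9696 L173000 q9506, e3 q9697 L173014 q8968, e3 q9698 L173028 q8969, e3 q9699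 L173034 q8970, e3 q9700 (flp_h L179111) q10342, e3 q9701 (flp_h L179127) q10343, e3 q9702 (flp_h L178820) q10318, e3 q9703 L179142 q10345, e3 q9704 (flp_h L173085) q8974, e3 q9705 L179152 q10346, e3 q9706 L179161 q10347, e3 q9707 (flp_h L173119) q8977, e3 q9708 (flp_h L173127) q8978, e3 q9709 L173147 q9381, e3 q9710 L179194 q10350, e3 q9711 L173169 q9331, e3 q9712 L179216 q10352, e3 q9713 (flp_h L173180) q8982, e3 q9714 (flp_h L173185) q8983, e3 q9715 L179245 q10355, e3 q9716 L179255 q10356, e3 q9717 (flp_h L173221) q8985, e3 q9718 L173233 q9002, e3 q9719 (flp_h L173235) q8987, e3 q9720 L173251 q9298, e3 q9721 (flp_h L173253) q8989, e3 q9722 (flp_h L173263) q8991, e3 q9723 (flp_h L179179) q10348, e3 q9724 (flp_h L173287) q8993, e3 q9725 L179334 q10365, e3 q9726 (flp_h L173309) q8995, e3 q9727 (flp_h L179227) q10353, trivial⟩ (by decide +kernel)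

theorem ce_h_152 : ∀ r, r < 64 → sm gh (Qf (9728 + r)) = Qf (tab Gen.h (9728 + r)) :=
  edges_tab (sm gh) Qf (tab Gen.h) 9728 [(9728, 9498), (9729, 8997), (9730, 10371), (9731, 10372), (9732, 8999), (9733, 9000), (9734, 10373), (9735, 10358), (9736, 10377), (9737, 9005), (9738, 9612), (9739, 9739), (9740, 10381), (9741, 9009), (9742, 9752), (9743, 10385), (9744, 10386), (9745, 9013), (9746, 9014), (9747, 10387), (9748, 9893), (9749, 9018), (9750, 10392), (9751, 9019), (9752, 9742), (9753, 9471), (9754, 9021), (9755, 10398), (9756, 10399), (9757, 9023), (9758, 9024), (9759, 10400), (9760, 10030), (9761, 10031), (9762, 10406), (9763, 10407), (9764, 10408), (9765, 9030), (9766, 9031), (9767, 9035), (9768, 9033), (9769, 10409), (9770, 10411), (9771, 10412), (9772, 10040), (9773, 9057), (9774, 10419), (9775, 10420), (9776, 10421), (9777, 9043), (9778, 9044), (9779, 9047), (9780, 9048), (9781, 9049), (9782, 9054), (9783, 9305), (9784, 9055), (9785, 9056), (9786, 10422), (9787, 10423), (9788,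 10426), (9789, 9789), (9790, 9790), (9791, 9791)]
    ⟨e3 q9728 (flp_h L173337) q9498, e3 q9729 (flp_h L173339) q8997, e3 q9730 L179392 q10371, e3 q9731 L179400 q10372, e3 q9732 (flp_h L173375) q8999, e3 q9733 (flp_h L173383) q9000, e3 q9734 (flp_h L179418) q10373, e3 q9735 (flp_h L179271) q10358, e3 q9736 L179448 q10377, e3 q9737 (flp_h L173418) q9005, e3 q9738 L173432 q9612, e3 q9739 L173444 q9739, e3 q9740 L179474 q10381, e3 q9741 (flp_h L173456) q9009, e3 q9742 (flp_h L173578) q9752, e3 q9743 L179509 q10385, e3 q9744 L179517 q10386, e3 q9745 (flp_h L173498) q9013, e3 q9746 (flp_h L173506) q9014, e3 q9747 (flp_h L179535) q10387, e3 q9748 (flp_h L174864) q9893, e3 q9749 (flp_h L173532) q9018, e3 q9750 L179576 q10392, e3 q9751 (flp_h L173558) q9019, e3 q9752 L173578 q9742, e3 q9753 (flp_h L173591) q9471, e3 q9754 (flp_h L173593) q9021, e3 q9755 L179643 q10398, e3 q9756 L179650 q10399, e3 q9757 (flp_h L173622) q9023, e3 q9758 (flp_h L173627) q9024, e3 q9759 (flp_h L179661) q10400, e3 q9760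 (flp_h L176111) q10030, e3 q9761 (flp_h L176119) q10031, e3 q9762 L179691 q10406, e3 q9763 L179699 q10407, e3 q9764 L179709 q10408, e3 q9765 (flp_h L173677) q9030, e3 q9766 (flp_h L173685) q9031, e3 q9767 L173697 q9035, e3 q9768 (flp_h L173699) q9033, e3 q9769 (flp_h L179729) q10409, e3 q9770 (flp_h L179743) q10411, e3 q9771 (flp_h L179753) q10412, e3 q9772 (flp_h L176187) q10040, e3 q9773 L173741 q9057, e3 q9774 L179801 q10419, e3 q9775 L179812 q10420, e3 q9776 L179827 q10421, e3 q9777 (flp_h L173783) q9043, e3 q9778 (flp_h L173792) q9044, e3 q9779 (flp_h L173803) q9047, e3 q9780 (flp_h L173810) q9048, e3 q9781 (flp_h L173819) q9049, e3 q9782 L173839 q9054, e3 q9783 L173852 q9305, e3 q9784 L173860 q9055, e3 q9785 L173871 q9056, e3 q9786 (flp_h L179855) q10422, e3 q9787 (flp_h L179865) q10423, e3 q9788 (flp_h L179904) q10426, e3 q9789 L173928 q9789, e3 q9790 L173939 q9790, e3 q9791 L173942 q9791, trivial⟩ (by decide +kernel)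

theorem ce_h_153 : ∀ r, r < 64 → sm gh (Qf (9792 + r)) = Qf (tab Gen.h (9792 + r)) :=
  edges_tab (sm gh) Qf (tab Gen.h) 9792 [(9792, 9792), (9793, 9075), (9794, 9076), (9795, 9795), (9796, 9077), (9797, 9797), (9798, 9798), (9799, 9078), (9800, 10430), (9801, 10435), (9802, 9081), (9803, 9082), (9804, 9086), (9805, 9306), (9806, 10436), (9807, 10438), (9808, 9603), (9809, 10443), (9810, 10444), (9811, 9090), (9812, 9091), (9813, 10445), (9814, 9622), (9815, 10450), (9816, 10451), (9817, 9096), (9818, 9097), (9819, 9100), (9820, 10452), (9821, 10454), (9822, 9633), (9823, 9103), (9824, 9104), (9825, 9825), (9826, 9826), (9827, 9112), (9828, 9113), (9829, 9134), (9830, 9307), (9831, 9834), (9832, 10464), (9833, 9117), (9834, 9831), (9835, 9118), (9836, 10468), (9837, 10469), (9838, 9120), (9839, 9143), (9840, 9597), (9841, 9122), (9842, 10474), (9843, 10475), (9844, 9124), (9845, 10477), (9846, 9126), (9847, 10476), (9848, 9153), (9849, 9129), (9850, 9315), (9851, 9316), (9852, 10424), (9853,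 10461), (9854, 9135), (9855, 10488)]
    ⟨e3 q9792 L173955 q9792, e3 q9793 L173962 q9075, e3 q9794 L173972 q9076, e3 q9795 L173986 q9795, e3 q9796 L173993 q9077, e3 q9797 L174003 q9797, e3 q9798 L174006 q9798, e3 q9799 L174015 q9078, e3 q9800 (flp_h L179949) q10430, e3 q9801 L179987 q10435, e3 q9802 (flp_h L174034) q9081, e3 q9803 (flp_h L174044) q9082, e3 q9804 L174064 q9086, e3 q9805 L174078 q9306, e3 q9806 (flp_h L179998) q10436, e3 q9807 (flp_h L180014) q10438, e3 q9808 L174100 q9603, e3 q9809 L180050 q10443, e3 q9810 L180059 q10444, e3 q9811 (flp_h L174126) q9090, e3 q9812 (flp_h L174133) q9091, e3 q9813 (flp_h L180078) q10445, e3 q9814 L174151 q9622, e3 q9815 L180104 q10450, e3 q9816 L180112 q10451, e3 q9817 (flp_h L174177) q9096, e3 q9818 (flp_h L174183) q9097, e3 q9819 L174197 q9100, e3 q9820 (flp_h L180130) q10452, e3 q9821 (flp_h L180144) q10454, e3 q9822 L174211 q9633, e3 q9823 (flp_h L174215) q9103, e3 q9824 (flp_h L174224) q9104, e3 q9825 L174243 q9825, e3 q9826 L174246 q9826,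 e3 q9827 (flp_h L174247) q9112, e3 q9828 (flp_h L174261) q9113, e3 q9829 L174277 q9134, e3 q9830 L174291 q9307, e3 q9831 L174331 q9834, e3 q9832 L180220 q10464, e3 q9833 (flp_h L174312) q9117, e3 q9834 (flp_h L174331) q9831, e3 q9835 (flp_h L174333) q9118, e3 q9836 L180270 q10468, e3 q9837 L180279 q10469, e3 q9838 (flp_h L174369) q9120, e3 q9839 L174389 q9143, e3 q9840 (flp_h L174403) q9597, e3 q9841 (flp_h L174405) q9122, e3 q9842 L180339 q10474, e3 q9843 L180347 q10475, e3 q9844 (flp_h L174437) q9124, e3 q9845 L180359 q10477, e3 q9846 (flp_h L174455) q9126, e3 q9847 (flp_h L180357) q10476, e3 q9848 L174465 q9153, e3 q9849 (flp_h L174467) q9129, e3 q9850 L174479 q9315, e3 q9851 L174483 q9316, e3 q9852 (flp_h L179875) q10424, e3 q9853 (flp_h L180195) q10461, e3 q9854 (flp_h L174505) q9135, e3 q9855 L180432 q10488, trivial⟩ (by decide +kernel)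

theorem ce_h_154 : ∀ r, r < 64 → sm gh (Qf (9856 + r)) = Qf (tab Gen.h (9856 + r)) :=
  edges_tab (sm gh) Qf (tab Gen.h) 9856 [(9856, 9136), (9857, 10465), (9858, 9614), (9859, 9138), (9860, 10493), (9861, 10494), (9862, 9140), (9863, 9141), (9864, 10495), (9865, 10471), (9866, 10500), (9867, 10501), (9868, 10502), (9869, 9147), (9870, 9148), (9871, 9152), (9872, 9150), (9873, 10503), (9874, 10505), (9875, 10481), (9876, 10510), (9877, 10511), (9878, 10512), (9879, 9158), (9880, 9159), (9881, 9163), (9882, 9161), (9883, 10513), (9884, 10515), (9885, 9904), (9886, 9570), (9887, 9166), (9888, 10522), (9889, 10523), (9890, 9168), (9891, 9169), (9892, 10524), (9893, 9748), (9894, 10529), (9895, 10530), (9896, 10531), (9897, 9175), (9898, 9176), (9899, 9180), (9900, 9178), (9901, 10532), (9902, 10534), (9903, 10535), (9904, 9885), (9905, 9182), (9906, 9183), (9907, 9184), (9908, 9189), (9909, 10504), (9910, 9190), (9911, 9191), (9912, 10544), (9913, 10546), (9914, 10547), (9915, 10550), (9916,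 10551), (9917, 10552), (9918, 10097), (9919, 9195)]
    ⟨e3 q9856 (flp_h L174527) q9136, e3 q9857 (flp_h L180242) q10465, e3 q9858 (flp_h L174556) q9614, e3 q9859 (flp_h L174558) q9138, e3 q9860 L180481 q10493, e3 q9861 L180488 q10494, e3 q9862 (flp_h L174591) q9140, e3 q9863 (flp_h L174598) q9141, e3 q9864 (flp_h L180503) q10495, e3 q9865 (flp_h L180305) q10471, e3 q9866 L180537 q10500, e3 q9867 L180547 q10501, e3 q9868 L180557 q10502, e3 q9869 (flp_h L174654) q9147, e3 q9870 (flp_h L174660) q9148, e3 q9871 L174668 q9152, e3 q9872 (flp_h L174670) q9150, e3 q9873 (flp_h L180573) q10503, e3 q9874 (flp_h L180583) q10505, e3 q9875 (flp_h L180383) q10481, e3 q9876 L180605 q10510, e3 q9877 L180617 q10511, e3 q9878 L180631 q10512, e3 q9879 (flp_h L174730) q9158, e3 q9880 (flp_h L174738) q9159, e3 q9881 L174754 q9163, e3 q9882 (flp_h L174756) q9161, e3 q9883 (flp_h L180651) q10513, e3 q9884 (flp_h L180667) q10515, e3 q9885 (flp_h L174962) q9904, e3 q9886 (flp_h L174796) q9570, e3 q9887 (flp_h L174798)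 q9166, e3 q9888 L180723 q10522, e3 q9889 L180731 q10523, e3 q9890 (flp_h L174834) q9168, e3 q9891 (flp_h L174844) q9169, e3 q9892 (flp_h L180749) q10524, e3 q9893 L174864 q9748, e3 q9894 L180779 q10529, e3 q9895 L180789 q10530, e3 q9896 L180801 q10531, e3 q9897 (flp_h L174900) q9175, e3 q9898 (flp_h L174908) q9176, e3 q9899 L174926 q9180, e3 q9900 (flp_h L174928) q9178, e3 q9901 (flp_h L180821) q10532, e3 q9902 (flp_h L180835) q10534, e3 q9903 (flp_h L180845) q10535, e3 q9904 L174962 q9885, e3 q9905 (flp_h L174964) q9182, e3 q9906 (flp_h L174970) q9183, e3 q9907 (flp_h L174978) q9184, e3 q9908 L174994 q9189, e3 q9909 (flp_h L180579) q10504, e3 q9910 L175002 q9190, e3 q9911 L175008 q9191, e3 q9912 (flp_h L180903) q10544, e3 q9913 (flp_h L180917) q10546, e3 q9914 (flp_h L180925) q10547, e3 q9915 (flp_h L180943) q10550, e3 q9916 (flp_h L180949) q10551, e3 q9917 (flp_h L180953) q10552, e3 q9918 (flp_h L176589) q10097, e3 q9919 (flp_h L175036) q9195, trivial⟩ (by decide +kernel)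

theorem ce_h_155 : ∀ r, r < 64 → sm gh (Qf (9920 + r)) = Qf (tab Gen.h (9920 + r)) :=
  edges_tab (sm gh) Qf (tab Gen.h) 9920 [(9920, 9196), (9921, 9197), (9922, 9202), (9923, 9302), (9924, 9203), (9925, 10560), (9926, 10562), (9927, 9215), (9928, 9211), (9929, 9212), (9930, 9322), (9931, 9238), (9932, 9213), (9933, 9214), (9934, 10564), (9935, 9935), (9936, 9936), (9937, 9937), (9938, 9938), (9939, 9292), (9940, 9293), (9941, 9294), (9942, 9295), (9943, 9296), (9944, 9230), (9945, 9323), (9946, 9324), (9947, 10425), (9948, 9235), (9949, 10563), (9950, 9950), (9951, 9240), (9952, 9952), (9953, 9276), (9954, 9325), (9955, 9326), (9956, 9327), (9957, 10576), (9958, 10577), (9959, 10578), (9960, 9249), (9961, 9250), (9962, 9254), (9963, 9252), (9964, 10579), (9965, 10581), (9966, 9255), (9967, 9256), (9968, 9257), (9969, 9262), (9970, 9970), (9971, 9263), (9972, 9264), (9973, 10586), (9974, 10587), (9975, 10590), (9976, 10591), (9977, 10482), (9978, 9978), (9979, 9273), (9980, 9980), (9981,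 9274), (9982, 9275), (9983, 10594)]
    ⟨e3 q9920 (flp_h L175046) q9196, e3 q9921 (flp_h L175058) q9197, e3 q9922 L175078 q9202, e3 q9923 L175090 q9302, e3 q9924 L175100 q9203, e3 q9925 (flp_h L181000) q10560, e3 q9926 (flp_h L181028) q10562, e3 q9927 L175141 q9215, e3 q9928 L175153 q9211, e3 q9929 L175161 q9212, e3 q9930 L175167 q9322, e3 q9931 L175175 q9238, e3 q9932 L175185 q9213, e3 q9933 L175193 q9214, e3 q9934 (flp_h L181056) q10564, e3 q9935 L175219 q9935, e3 q9936 L175228 q9936, e3 q9937 L175233 q9937, e3 q9938 L175244 q9938, e3 q9939 L175259 q9292, e3 q9940 L175267 q9293, e3 q9941 L175273 q9294, e3 q9942 L175281 q9295, e3 q9943 L175287 q9296, e3 q9944 (flp_h L175291) q9230, e3 q9945 L175317 q9323, e3 q9946 L175326 q9324, e3 q9947 (flp_h L179888) q10425, e3 q9948 (flp_h L175342) q9235, e3 q9949 (flp_h L181042) q10563, e3 q9950 L175374 q9950, e3 q9951 (flp_h L175375) q9240, e3 q9952 L175393 q9952, e3 q9953 L175405 q9276, e3 q9954 L175412 q9325, e3 q9955 L175423 q9326, e3 q9956 L175427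 q9327, e3 q9957 L181156 q10576, e3 q9958 L181165 q10577, e3 q9959 L181176 q10578, e3 q9960 (flp_h L175462) q9249, e3 q9961 (flp_h L175469) q9250, e3 q9962 L175487 q9254, e3 q9963 (flp_h L175489) q9252, e3 q9964 (flp_h L181196) q10579, e3 q9965 (flp_h L181216) q10581, e3 q9966 (flp_h L175519) q9255, e3 q9967 (flp_h L175527) q9256, e3 q9968 (flp_h L175537) q9257, e3 q9969 L175555 q9262, e3 q9970 L175567 q9970, e3 q9971 L175572 q9263, e3 q9972 L175580 q9264, e3 q9973 (flp_h L181268) q10586, e3 q9974 (flp_h L181276) q10587, e3 q9975 (flp_h L181304) q10590, e3 q9976 (flp_h L181314) q10591, e3 q9977 (flp_h L180393) q10482, e3 q9978 L175634 q9978, e3 q9979 L175648 q9273, e3 q9980 L175655 q9980, e3 q9981 L175668 q9274, e3 q9982 L175677 q9275, e3 q9983 (flp_h L181338) q10594, trivial⟩ (by decide +kernel)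

theorem ce_h_156 : ∀ r, r < 64 → sm gh (Qf (9984 + r)) = Qf (tab Gen.h (9984 + r)) :=
  edges_tab (sm gh) Qf (tab Gen.h) 9984 [(9984, 9984), (9985, 9284), (9986, 9328), (9987, 9285), (9988, 9286), (9989, 9287), (9990, 10569), (9991, 10570), (9992, 10359), (9993, 10360), (9994, 10561), (9995, 10439), (9996, 10462), (9997, 10599), (9998, 10600), (9999, 9310), (10000, 9311), (10001, 9314), (10002, 10601), (10003, 10603), (10004, 10483), (10005, 10484), (10006, 10485), (10007, 9317), (10008, 9318), (10009, 9319), (10010, 10571), (10011, 10574), (10012, 10575), (10013, 10612), (10014, 9330), (10015, 10614), (10016, 10615), (10017, 9333), (10018, 9341), (10019, 9335), (10020, 10020), (10021, 10613), (10022, 10622), (10023, 9339), (10024, 10623), (10025, 10617), (10026, 10026), (10027, 10628), (10028, 9344), (10029, 10629), (10030, 9760), (10031, 9761), (10032, 10634), (10033, 10635), (10034, 9349), (10035, 9350), (10036, 9353), (10037, 10636), (10038, 10638), (10039, 10639), (10040, 9772), (10041,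 9367), (10042, 9368), (10043, 9357), (10044, 9358), (10045, 9359), (10046, 9364), (10047, 10047)]
    ⟨e3 q9984 L175698 q9984, e3 q9985 L175710 q9284, e3 q9986 L175723 q9328, e3 q9987 L175732 q9285, e3 q9988 L175745 q9286, e3 q9989 L175757 q9287, e3 q9990 (flp_h L181103) q10569, e3 q9991 (flp_h L181111) q10570, e3 q9992 (flp_h L179280) q10359, e3 q9993 (flp_h L179290) q10360, e3 q9994 (flp_h L181018) q10561, e3 q9995 (flp_h L180026) q10439, e3 q9996 (flp_h L180207) q10462, e3 q9997 L181381 q10599, e3 q9998 L181394 q10600, e3 q9999 (flp_h L175858) q9310, e3 q10000 (flp_h L175867) q9311, e3 q10001 L175881 q9314, e3 q10002 (flp_h L181416) q10601, e3 q10003 (flp_h L181434) q10603, e3 q10004 (flp_h L180399) q10483, e3 q10005 (flp_h L180405) q10484, e3 q10006 (flp_h L180409) q10485, e3 q10007 (flp_h L175922) q9317, e3 q10008 (flp_h L175931) q9318, e3 q10009 (flp_h L175940) q9319, e3 q10010 (flp_h L181123) q10571, e3 q10011 (flp_h L181149) q10574, e3 q10012 (flp_h L181153) q10575, e3 q10013 L181512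 q10612, e3 q10014 (flp_h L175985) q9330, e3 q10015 L181529 q10614, e3 q10016 L181538 q10615, e3 q10017 (flp_h L176017) q9333, e3 q10018 L176033 q9341, e3 q10019 (flp_h L176035) q9335, e3 q10020 L176053 q10020, e3 q10021 (flp_h L181527) q10613, e3 q10022 L181595 q10622, e3 q10023 (flp_h L176067) q9339, e3 q10024 (flp_h L181606) q10623, e3 q10025 (flp_h L181562) q10617, e3 q10026 L176088 q10026, e3 q10027 L181637 q10628, e3 q10028 (flp_h L176098) q9344, e3 q10029 (flp_h L181650) q10629, e3 q10030 L176111 q9760, e3 q10031 L176119 q9761, e3 q10032 L181674 q10634, e3 q10033 L181684 q10635, e3 q10034 (flp_h L176141) q9349, e3 q10035 (flp_h L176149) q9350, e3 q10036 L176163 q9353, e3 q10037 (flp_h L181700) q10636, e3 q10038 (flp_h L181712) q10638, e3 q10039 (flp_h L181720) q10639, e3 q10040 L176187 q9772, e3 q10041 L176195 q9367, e3 q10042 L176199 q9368, e3 q10043 (flp_h L176203) q9357, e3 q10044 (flp_h L176214) q9358, e3 q10045 (flp_h L176221) q9359, e3 q10046 L176239 q9364, e3 q10047 L176248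 q10047, trivial⟩ (by decide +kernel)

theorem ce_h_157 : ∀ r, r < 64 → sm gh (Qf (10048 + r)) = Qf (tab Gen.h (10048 + r)) :=
  edges_tab (sm gh) Qf (tab Gen.h) 10048 [(10048, 9365), (10049, 9366), (10050, 10647), (10051, 10649), (10052, 10652), (10053, 10653), (10054, 10646), (10055, 10055), (10056, 10056), (10057, 10057), (10058, 10058), (10059, 10059), (10060, 9380), (10061, 9379), (10062, 10062), (10063, 10660), (10064, 10661), (10065, 10662), (10066, 9383), (10067, 10664), (10068, 9385), (10069, 10663), (10070, 9398), (10071, 9388), (10072, 10072), (10073, 10073), (10074, 10673), (10075, 10674), (10076, 9393), (10077, 9394), (10078, 9397), (10079, 10675), (10080, 10677), (10081, 10678), (10082, 10668), (10083, 10083), (10084, 9401), (10085, 9402), (10086, 9403), (10087, 9408), (10088, 10676), (10089, 9409), (10090, 9410), (10091, 10685), (10092, 10687), (10093, 10688), (10094, 10691), (10095, 10692), (10096, 10693), (10097, 9918), (10098, 9428), (10099, 9429), (10100, 9430), (10101,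 9431), (10102, 9432), (10103, 9423), (10104, 10104), (10105, 9424), (10106, 9425), (10107, 10107), (10108, 10108), (10109, 9426), (10110, 9427), (10111, 10705)]
    ⟨e3 q10048 L176253 q9365, e3 q10049 L176262 q9366, e3 q10050 (flp_h L181777) q10647, e3 q10051 (flp_h L181799) q10649, e3 q10052 (flp_h L181824) q10652, e3 q10053 (flp_h L181835) q10653, e3 q10054 (flp_h L181764) q10646, e3 q10055 L176319 q10055, e3 q10056 L176326 q10056, e3 q10057 L176331 q10057, e3 q10058 L176336 q10058, e3 q10059 L176341 q10059, e3 q10060 L176348 q9380, e3 q10061 L176356 q9379, e3 q10062 L176362 q10062, e3 q10063 L181880 q10660, e3 q10064 L181885 q10661, e3 q10065 L181898 q10662, e3 q10066 (flp_h L176391) q9383, e3 q10067 L181909 q10664, e3 q10068 (flp_h L176408) q9385, e3 q10069 (flp_h L181907) q10663, e3 q10070 L176426 q9398, e3 q10071 (flp_h L176430) q9388, e3 q10072 L176448 q10072, e3 q10073 L176451 q10073, e3 q10074 L181981 q10673, e3 q10075 L181994 q10674, e3 q10076 (flp_h L176476) q9393, e3 q10077 (flp_h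 L176481) q9394, e3 q10078 L176488 q9397, e3 q10079 (flp_h L182005) q10675, e3 q10080 (flp_h L182015) q10677, e3 q10081 (flp_h L182020) q10678, e3 q10082 (flp_h L181943) q10668, e3 q10083 L176516 q10083, e3 q10084 (flp_h L176519) q9401, e3 q10085 (flp_h L176527) q9402, e3 q10086 (flp_h L176533) q9403, e3 q10087 L176545 q9408, e3 q10088 (flp_h L182011) q10676, e3 q10089 L176553 q9409, e3 q10090 L176559 q9410, e3 q10091 (flp_h L182058) q10685, e3 q10092 (flp_h L182070) q10687, e3 q10093 (flp_h L182076) q10688, e3 q10094 (flp_h L182094) q10691, e3 q10095 (flp_h L182100) q10692, e3 q10096 (flp_h L182106) q10693, e3 q10097 L176589 q9918, e3 q10098 L176595 q9428, e3 q10099 L176601 q9429, e3 q10100 L176609 q9430, e3 q10101 L176615 q9431, e3 q10102 L176625 q9432, e3 q10103 L176635 q9423, e3 q10104 L176645 q10104, e3 q10105 L176650 q9424, e3 q10106 L176658 q9425, e3 q10107 L176666 q10107, e3 q10108 L176673 q10108, e3 q10109 L176682 q9426, e3 q10110 L176690 q9427, e3 q10111 (flp_h L182164) q10705,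 trivial⟩ (by decide +kernel)

theorem ce_h_158 : ∀ r, r < 64 → sm gh (Qf (10112 + r)) = Qf (tab Gen.h (10112 + r)) :=
  edges_tab (sm gh) Qf (tab Gen.h) 10112 [(10112, 10708), (10113, 10709), (10114, 10712), (10115, 10713), (10116, 10716), (10117, 10704), (10118, 9433), (10119, 10119), (10120, 10120), (10121, 10121), (10122, 10122), (10123, 10123), (10124, 10124), (10125, 9448), (10126, 10126), (10127, 10127), (10128, 9449), (10129, 9450), (10130, 10722), (10131, 10723), (10132, 10724), (10133, 9453), (10134, 10726), (10135, 10727), (10136, 9456), (10137, 9476), (10138, 9458), (10139, 10139), (10140, 9460), (10141, 9462), (10142, 10734), (10143, 9464), (10144, 10453), (10145, 10145), (10146, 9467), (10147, 10739), (10148, 9469), (10149, 10725), (10150, 10743), (10151, 10744), (10152, 9473), (10153, 9474), (10154, 10745), (10155, 10729), (10156, 10156), (10157, 10157), (10158, 9479), (10159, 9480), (10160, 10251), (10161, 10161), (10162, 9483), (10163, 10334), (10164, 10437), (10165, 10335),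 (10166, 9510), (10167, 10762), (10168, 9489), (10169, 10336), (10170, 10766), (10171, 9493), (10172, 9494), (10173, 10767), (10174, 10337), (10175, 10338)]
    ⟨e3 q10112 (flp_h L182190) q10708, e3 q10113 (flp_h L182206) q10709, e3 q10114 (flp_h L182230) q10712, e3 q10115 (flp_h L182238) q10713, e3 q10116 L182251 q10716, e3 q10117 (flp_h L182158) q10704, e3 q10118 (flp_h L176766) q9433, e3 q10119 L176791 q10119, e3 q10120 L176797 q10120, e3 q10121 L176811 q10121, e3 q10122 L176818 q10122, e3 q10123 L176826 q10123, e3 q10124 L176840 q10124, e3 q10125 L176855 q9448, e3 q10126 L176859 q10126, e3 q10127 L176867 q10127, e3 q10128 L176876 q9449, e3 q10129 L176883 q9450, e3 q10130 (flp_h L182327) q10722, e3 q10131 L182329 q10723, e3 q10132 L182344 q10724, e3 q10133 (flp_h L176922) q9453, e3 q10134 L182367 q10726, e3 q10135 L182382 q10727, e3 q10136 (flp_h L176958) q9456, e3 q10137 L176978 q9476, e3 q10138 (flp_h L176980) q9458, e3 q10139 L177002 q10139, e3 q10140 (flp_h L177003) q9460, e3 q10141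 (flp_h L177019) q9462, e3 q10142 L182461 q10734, e3 q10143 (flp_h L177050) q9464, e3 q10144 (flp_h L180140) q10453, e3 q10145 L177090 q10145, e3 q10146 (flp_h L177091) q9467, e3 q10147 L182525 q10739, e3 q10148 (flp_h L177123) q9469, e3 q10149 (flp_h L182365) q10725, e3 q10150 L182571 q10743, e3 q10151 L182582 q10744, e3 q10152 (flp_h L177173) q9473, e3 q10153 (flp_h L177178) q9474, e3 q10154 (flp_h L182599) q10745, e3 q10155 (flp_h L182410) q10729, e3 q10156 L177222 q10156, e3 q10157 L177229 q10157, e3 q10158 (flp_h L177232) q9479, e3 q10159 (flp_h L177248) q9480, e3 q10160 (flp_h L178235) q10251, e3 q10161 L177288 q10161, e3 q10162 (flp_h L177289) q9483, e3 q10163 (flp_h L179027) q10334, e3 q10164 (flp_h L180008) q10437, e3 q10165 (flp_h L179037) q10335, e3 q10166 L177339 q9510, e3 q10167 L182778 q10762, e3 q10168 (flp_h L177359) q9489, e3 q10169 (flp_h L179051) q10336, e3 q10170 L182824 q10766, e3 q10171 (flp_h L177397) q9493, e3 q10172 (flp_h L177405) q9494, e3 q10173 (flp_h L182846)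 q10767, e3 q10174 (flp_h L179057) q10337, e3 q10175 (flp_h L179067) q10338, trivial⟩ (by decide +kernel)

theorem ce_h_159 : ∀ r, r < 64 → sm gh (Qf (10176 + r)) = Qf (tab Gen.h (10176 + r)) :=
  edges_tab (sm gh) Qf (tab Gen.h) 10176 [(10176, 10772), (10177, 10773), (10178, 9500), (10179, 9501), (10180, 9505), (10181, 9503), (10182, 10774), (10183, 10776), (10184, 10777), (10185, 10341), (10186, 9517), (10187, 9518), (10188, 9511), (10189, 9512), (10190, 10190), (10191, 9516), (10192, 10787), (10193, 10785), (10194, 10194), (10195, 10195), (10196, 10196), (10197, 10197), (10198, 10198), (10199, 9540), (10200, 9541), (10201, 9542), (10202, 9539), (10203, 10793), (10204, 9545), (10205, 9547), (10206, 9567), (10207, 10797), (10208, 9550), (10209, 10799), (10210, 9552), (10211, 9575), (10212, 10802), (10213, 9555), (10214, 10804), (10215, 9557), (10216, 10803), (10217, 9585), (10218, 9560), (10219, 10219), (10220, 10220), (10221, 10794), (10222, 10795), (10223, 9565), (10224, 10814), (10225,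 10796), (10226, 10226), (10227, 10798), (10228, 10820), (10229, 10821), (10230, 9572), (10231, 9573), (10232, 10822), (10233, 10801), (10234, 10827), (10235, 10828), (10236, 10829), (10237, 9579), (10238, 9580), (10239, 9584)]
    ⟨e3 q10176 L182884 q10772, e3 q10177 L182896 q10773, e3 q10178 (flp_h L177467) q9500, e3 q10179 (flp_h L177475) q9501, e3 q10180 L177491 q9505, e3 q10181 (flp_h L177493) q9503, e3 q10182 (flp_h L182916) q10774, e3 q10183 (flp_h L182930) q10776, e3 q10184 (flp_h L182938) q10777, e3 q10185 (flp_h L179099) q10341, e3 q10186 L177543 q9517, e3 q10187 L177555 q9518, e3 q10188 (flp_h L177559) q9511, e3 q10189 (flp_h L177571) q9512, e3 q10190 L177593 q10190, e3 q10191 L177598 q9516, e3 q10192 (flp_h L183037) q10787, e3 q10193 (flp_h L183014) q10785, e3 q10194 L177638 q10194, e3 q10195 L177653 q10195, e3 q10196 L177658 q10196, e3 q10197 L177671 q10197, e3 q10198 L177688 q10198, e3 q10199 L177701 q9540, e3 q10200 L177713 q9541, e3 q10201 L177727 q9542, e3 q10202 L177741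 q9539, e3 q10203 L183111 q10793, e3 q10204 (flp_h L177760) q9545, e3 q10205 (flp_h L177772) q9547, e3 q10206 L177792 q9567, e3 q10207 L183159 q10797, e3 q10208 (flp_h L177810) q9550, e3 q10209 L183185 q10799, e3 q10210 (flp_h L177836) q9552, e3 q10211 L177854 q9575, e3 q10212 L183217 q10802, e3 q10213 (flp_h L177869) q9555, e3 q10214 L183234 q10804, e3 q10215 (flp_h L177886) q9557, e3 q10216 (flp_h L183232) q10803, e3 q10217 L177904 q9585, e3 q10218 (flp_h L177906) q9560, e3 q10219 L177928 q10219, e3 q10220 L177933 q10220, e3 q10221 (flp_h L183133) q10794, e3 q10222 (flp_h L183149) q10795, e3 q10223 (flp_h L177960) q9565, e3 q10224 (flp_h L183339) q10814, e3 q10225 (flp_h L183157) q10796, e3 q10226 L177995 q10226, e3 q10227 (flp_h L183183) q10798, e3 q10228 L183392 q10820, e3 q10229 L183404 q10821, e3 q10230 (flp_h L178036) q9572, e3 q10231 (flp_h L178046) q9573, e3 q10232 (flp_h L183426) q10822, e3 q10233 (flp_h L183215) q10801, e3 q10234 L183472 q10827, e3 q10235 L183477 q10828, e3 q10236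 L183490 q10829, e3 q10237 (flp_h L178109) q9579, e3 q10238 (flp_h L178114) q9580, e3 q10239 L178121 q9584, trivial⟩ (by decide +kernel)

theorem ce_h_160 : ∀ r, r < 64 → sm gh (Qf (10240 + r)) = Qf (tab Gen.h (10240 + r)) :=
  edges_tab (sm gh) Qf (tab Gen.h) 10240 [(10240, 9582), (10241, 10830), (10242, 10832), (10243, 10833), (10244, 10808), (10245, 10245), (10246, 10246), (10247, 9589), (10248, 10843), (10249, 10254), (10250, 10250), (10251, 10160), (10252, 9594), (10253, 10848), (10254, 10249), (10255, 10852), (10256, 9598), (10257, 9602), (10258, 9600), (10259, 10853), (10260, 10854), (10261, 10855), (10262, 10442), (10263, 9641), (10264, 9642), (10265, 9643), (10266, 10865), (10267, 10866), (10268, 9609), (10269, 9610), (10270, 10867), (10271, 10379), (10272, 10872), (10273, 10873), (10274, 10874), (10275, 9616), (10276, 9617), (10277, 9621), (10278, 9619), (10279, 10875), (10280, 10877), (10281, 10878), (10282, 10449), (10283, 9623), (10284, 9624), (10285, 9625), (10286, 9630), (10287,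 10831), (10288, 9631), (10289, 9632), (10290, 10887), (10291, 10889), (10292, 10890), (10293, 10893), (10294, 10894), (10295, 10895), (10296, 10457), (10297, 9655), (10298, 9656), (10299, 9636), (10300, 9639), (10301, 9640), (10302, 10904), (10303, 10905)]
    ⟨e3 q10240 (flp_h L178123) q9582, e3 q10241 (flp_h L183505) q10830, e3 q10242 (flp_h L183515) q10832, e3 q10243 (flp_h L183520) q10833, e3 q10244 (flp_h L183266) q10808, e3 q10245 L178169 q10245, e3 q10246 L178176 q10246, e3 q10247 (flp_h L178181) q9589, e3 q10248 (flp_h L183618) q10843, e3 q10249 (flp_h L178270) q10254, e3 q10250 L178218 q10250, e3 q10251 L178235 q10160, e3 q10252 (flp_h L178237) q9594, e3 q10253 (flp_h L183674) q10848, e3 q10254 L178270 q10249, e3 q10255 L183710 q10852, e3 q10256 (flp_h L178286) q9598, e3 q10257 L178300 q9602, e3 q10258 (flp_h L178302) q9600, e3 q10259 (flp_h L183730) q10853, e3 q10260 (flp_h L183736) q10854, e3 q10261 (flp_h L183744) q10855, e3 q10262 (flp_h L180048) q10442, e3 q10263 L178352 q9641,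 e3 q10264 L178364 q9642, e3 q10265 L178378 q9643, e3 q10266 L183838 q10865, e3 q10267 L183849 q10866, e3 q10268 (flp_h L178408) q9609, e3 q10269 (flp_h L178415) q9610, e3 q10270 (flp_h L183868) q10867, e3 q10271 (flp_h L179463) q10379, e3 q10272 L183908 q10872, e3 q10273 L183919 q10873, e3 q10274 L183930 q10874, e3 q10275 (flp_h L178478) q9616, e3 q10276 (flp_h L178485) q9617, e3 q10277 L178496 q9621, e3 q10278 (flp_h L178498) q9619, e3 q10279 (flp_h L183949) q10875, e3 q10280 (flp_h L183959) q10877, e3 q10281 (flp_h L183966) q10878, e3 q10282 (flp_h L180100) q10449, e3 q10283 (flp_h L178536) q9623, e3 q10284 (flp_h L178542) q9624, e3 q10285 (flp_h L178548) q9625, e3 q10286 L178560 q9630, e3 q10287 (flp_h L183511) q10831, e3 q10288 L178568 q9631, e3 q10289 L178574 q9632, e3 q10290 (flp_h L184024) q10887, e3 q10291 (flp_h L184036) q10889, e3 q10292 (flp_h L184042) q10890, e3 q10293 (flp_h L184058) q10893, e3 q10294 (flp_h L184064) q10894, e3 q10295 (flp_h L184068) q10895, e3 q10296 (flp_h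 L180162) q10457, e3 q10297 L178618 q9655, e3 q10298 L178632 q9656, e3 q10299 (flp_h L178634) q9636, e3 q10300 L178654 q9639, e3 q10301 L178660 q9640, e3 q10302 (flp_h L184126) q10904, e3 q10303 (flp_h L184135) q10905, trivial⟩ (by decide +kernel)

theorem ce_h_161 : ∀ r, r < 64 → sm gh (Qf (10304 + r)) = Qf (tab Gen.h (10304 + r)) :=
  edges_tab (sm gh) Qf (tab Gen.h) 10304 [(10304, 10906), (10305, 10863), (10306, 10864), (10307, 9651), (10308, 10308), (10309, 9652), (10310, 10310), (10311, 10311), (10312, 9653), (10313, 9654), (10314, 10911), (10315, 10914), (10316, 10915), (10317, 10317), (10318, 9702), (10319, 10319), (10320, 10320), (10321, 10321), (10322, 10322), (10323, 9678), (10324, 10324), (10325, 10325), (10326, 10326), (10327, 10327), (10328, 10328), (10329, 9682), (10330, 10330), (10331, 10331), (10332, 9689), (10333, 10922), (10334, 10163), (10335, 10165), (10336, 10169), (10337, 10174), (10338, 10175), (10339, 9695), (10340, 10931), (10341, 10185), (10342, 9700), (10343, 9701),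 (10344, 10934), (10345, 9703), (10346, 9705), (10347, 9706), (10348, 9723), (10349, 10939), (10350, 9710), (10351, 10941), (10352, 9712), (10353, 9727), (10354, 10945), (10355, 9715), (10356, 9716), (10357, 10946), (10358, 9735), (10359, 9992), (10360, 9993), (10361, 10935), (10362, 10936), (10363, 10938), (10364, 10940), (10365, 9725), (10366, 10960), (10367, 10943)]
    ⟨e3 q10304 (flp_h L184141) q10906, e3 q10305 (flp_h L183812) q10863, e3 q10306 (flp_h L183832) q10864, e3 q10307 L178725 q9651, e3 q10308 L178734 q10308, e3 q10309 L178739 q9652, e3 q10310 L178743 q10310, e3 q10311 L178753 q10311, e3 q10312 L178760 q9653, e3 q10313 L178767 q9654, e3 q10314 (flp_h L184190) q10911, e3 q10315 (flp_h L184217) q10914, e3 q10316 (flp_h L184224) q10915, e3 q10317 L178807 q10317, e3 q10318 L178820 q9702, e3 q10319 L178836 q10319, e3 q10320 L178851 q10320, e3 q10321 L178866 q10321, e3 q10322 L178879 q10322, e3 q10323 L178894 q9678, e3 q10324 L178906 q10324, e3 q10325 L178923 q10325, e3 q10326 L178928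 q10326, e3 q10327 L178937 q10327, e3 q10328 L178948 q10328, e3 q10329 (flp_h L178953) q9682, e3 q10330 L178975 q10330, e3 q10331 L178990 q10331, e3 q10332 L179005 q9689, e3 q10333 (flp_h L184303) q10922, e3 q10334 L179027 q10163, e3 q10335 L179037 q10165, e3 q10336 L179051 q10169, e3 q10337 L179057 q10174, e3 q10338 L179067 q10175, e3 q10339 L179079 q9695, e3 q10340 (flp_h L184403) q10931, e3 q10341 L179099 q10185, e3 q10342 L179111 q9700, e3 q10343 L179127 q9701, e3 q10344 L184429 q10934, e3 q10345 (flp_h L179142) q9703, e3 q10346 (flp_h L179152) q9705, e3 q10347 (flp_h L179161) q9706, e3 q10348 L179179 q9723, e3 q10349 L184483 q10939, e3 q10350 (flp_h L179194) q9710, e3 q10351 L184510 q10941, e3 q10352 (flp_h L179216) q9712, e3 q10353 L179227 q9727, e3 q10354 L184538 q10945, e3 q10355 (flp_h L179245) q9715, e3 q10356 (flp_h L179255) q9716, e3 q10357 (flp_h L184560) q10946, e3 q10358 L179271 q9735, e3 q10359 L179280 q9992, e3 q10360 L179290 q9993, e3 q10361 (flp_h L184451) q10935, e3 q10362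 (flp_h L184461) q10936, e3 q10363 (flp_h L184481) q10938, e3 q10364 (flp_h L184508) q10940, e3 q10365 (flp_h L179334) q9725, e3 q10366 (flp_h L184684) q10960, e3 q10367 (flp_h L184529) q10943, trivial⟩ (by decide +kernel)

theorem ce_h_162 : ∀ r, r < 64 → sm gh (Qf (10368 + r)) = Qf (tab Gen.h (10368 + r)) :=
  edges_tab (sm gh) Qf (tab Gen.h) 10368 [(10368, 10944), (10369, 10964), (10370, 10965), (10371, 9730), (10372, 9731), (10373, 9734), (10374, 10966), (10375, 10968), (10376, 10950), (10377, 9736), (10378, 10972), (10379, 10271), (10380, 10380), (10381, 9740), (10382, 10976), (10383, 10394), (10384, 10395), (10385, 9743), (10386, 9744), (10387, 9747), (10388, 10981), (10389, 10983), (10390, 10528), (10391, 10987), (10392, 9750), (10393, 10988), (10394, 10383), (10395, 10384), (10396, 10993), (10397, 10994), (10398, 9755), (10399, 9756), (10400, 9759), (10401, 10995), (10402, 10997), (10403, 10998), (10404, 10632), (10405, 10633), (10406, 9762), (10407, 9763), (10408, 9764), (10409,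 9769), (10410, 10967), (10411, 9770), (10412, 9771), (10413, 11007), (10414, 11009), (10415, 11010), (10416, 11013), (10417, 11014), (10418, 10645), (10419, 9774), (10420, 9775), (10421, 9776), (10422, 9786), (10423, 9787), (10424, 9852), (10425, 9947), (10426, 9788), (10427, 10427), (10428, 10428), (10429, 10429), (10430, 9800), (10431, 10431)]
    ⟨e3 q10368 (flp_h L184536) q10944, e3 q10369 L184710 q10964, e3 q10370 L184724 q10965, e3 q10371 (flp_h L179392) q9730, e3 q10372 (flp_h L179400) q9731, e3 q10373 L179418 q9734, e3 q10374 (flp_h L184748) q10966, e3 q10375 (flp_h L184770) q10968, e3 q10376 (flp_h L184586) q10950, e3 q10377 (flp_h L179448) q9736, e3 q10378 (flp_h L184800) q10972, e3 q10379 L179463 q10271, e3 q10380 L179471 q10380, e3 q10381 (flp_h L179474) q9740, e3 q10382 (flp_h L184832) q10976, e3 q10383 (flp_h L179601) q10394, e3 q10384 (flp_h L179613) q10395, e3 q10385 (flp_h L179509) q9743, e3 q10386 (flp_h L179517) q9744, e3 q10387 L179535 q9747, e3 q10388 (flp_h L184880)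 q10981, e3 q10389 (flp_h L184902) q10983, e3 q10390 (flp_h L180777) q10528, e3 q10391 L184928 q10987, e3 q10392 (flp_h L179576) q9750, e3 q10393 (flp_h L184951) q10988, e3 q10394 L179601 q10383, e3 q10395 L179613 q10384, e3 q10396 L184991 q10993, e3 q10397 L185004 q10994, e3 q10398 (flp_h L179643) q9755, e3 q10399 (flp_h L179650) q9756, e3 q10400 L179661 q9759, e3 q10401 (flp_h L185025) q10995, e3 q10402 (flp_h L185035) q10997, e3 q10403 (flp_h L185044) q10998, e3 q10404 (flp_h L181666) q10632, e3 q10405 (flp_h L181672) q10633, e3 q10406 (flp_h L179691) q9762, e3 q10407 (flp_h L179699) q9763, e3 q10408 (flp_h L179709) q9764, e3 q10409 L179729 q9769, e3 q10410 (flp_h L184760) q10967, e3 q10411 L179743 q9770, e3 q10412 L179753 q9771, e3 q10413 (flp_h L185098) q11007, e3 q10414 (flp_h L185116) q11009, e3 q10415 (flp_h L185126) q11010, e3 q10416 (flp_h L185158) q11013, e3 q10417 (flp_h L185164) q11014, e3 q10418 (flp_h L181756) q10645, e3 q10419 (flp_h L179801) q9774, e3 q10420 (flp_h L179812)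 q9775, e3 q10421 (flp_h L179827) q9776, e3 q10422 L179855 q9786, e3 q10423 L179865 q9787, e3 q10424 L179875 q9852, e3 q10425 L179888 q9947, e3 q10426 L179904 q9788, e3 q10427 L179914 q10427, e3 q10428 L179925 q10428, e3 q10429 L179934 q10429, e3 q10430 L179949 q9800, e3 q10431 L179959 q10431, trivial⟩ (by decide +kernel)

theorem ce_h_163 : ∀ r, r < 64 → sm gh (Qf (10432 + r)) = Qf (tab Gen.h (10432 + r)) :=
  edges_tab (sm gh) Qf (tab Gen.h) 10432 [(10432, 10432), (10433, 11024), (10434, 11025), (10435, 9801), (10436, 9806), (10437, 10164), (10438, 9807), (10439, 9995), (10440, 11027), (10441, 11030), (10442, 10262), (10443, 9809), (10444, 9810), (10445, 9813), (10446, 11034), (10447, 11036), (10448, 11037), (10449, 10282), (10450, 9815), (10451, 9816), (10452, 9820), (10453, 10144), (10454, 9821), (10455, 11045), (10456, 11047), (10457, 10296), (10458, 10458), (10459, 11021), (10460, 11022), (10461, 9853), (10462, 9996), (10463, 11054), (10464, 9832), (10465, 9857), (10466, 11057), (10467,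 11058), (10468, 9836), (10469, 9837), (10470, 11059), (10471, 9865), (10472, 11064), (10473, 11065), (10474, 9842), (10475, 9843), (10476, 9847), (10477, 9845), (10478, 11066), (10479, 11068), (10480, 11069), (10481, 9875), (10482, 9977), (10483, 10004), (10484, 10005), (10485, 10006), (10486, 11052), (10487, 11082), (10488, 9855), (10489, 11083), (10490, 11056), (10491, 11087), (10492, 11088), (10493, 9860), (10494, 9861), (10495, 9864)]
    ⟨e3 q10432 L179966 q10432, e3 q10433 L185256 q11024, e3 q10434 L185260 q11025, e3 q10435 (flp_h L179987) q9801, e3 q10436 L179998 q9806, e3 q10437 L180008 q10164, e3 q10438 L180014 q9807, e3 q10439 L180026 q9995, e3 q10440 (flp_h L185281) q11027, e3 q10441 (flp_h L185313) q11030, e3 q10442 L180048 q10262, e3 q10443 (flp_h L180050) q9809, e3 q10444 (flp_h L180059) q9810, e3 q10445 L180078 q9813, e3 q10446 (flp_h L185351) q11034, e3 q10447 (flp_h L185369) q11036, e3 q10448 (flp_h L185376) q11037, e3 q10449 L180100 q10282, e3 q10450 (flp_h L180104) q9815,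 e3 q10451 (flp_h L180112) q9816, e3 q10452 L180130 q9820, e3 q10453 L180140 q10144, e3 q10454 L180144 q9821, e3 q10455 (flp_h L185436) q11045, e3 q10456 (flp_h L185454) q11047, e3 q10457 L180162 q10296, e3 q10458 L180168 q10458, e3 q10459 (flp_h L185228) q11021, e3 q10460 (flp_h L185244) q11022, e3 q10461 L180195 q9853, e3 q10462 L180207 q9996, e3 q10463 L185502 q11054, e3 q10464 (flp_h L180220) q9832, e3 q10465 L180242 q9857, e3 q10466 L185531 q11057, e3 q10467 L185542 q11058, e3 q10468 (flp_h L180270) q9836, e3 q10469 (flp_h L180279) q9837, e3 q10470 (flp_h L185563) q11059, e3 q10471 L180305 q9865, e3 q10472 L185599 q11064, e3 q10473 L185613 q11065, e3 q10474 (flp_h L180339) q9842, e3 q10475 (flp_h L180347) q9843, e3 q10476 L180357 q9847, e3 q10477 (flp_h L180359) q9845, e3 q10478 (flp_h L185635) q11066, e3 q10479 (flp_h L185643) q11068, e3 q10480 (flp_h L185649) q11069, e3 q10481 L180383 q9875, e3 q10482 L180393 q9977, e3 q10483 L180399 q10004, e3 q10484 L180405 q10005, e3 q10485 L180409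 q10006, e3 q10486 (flp_h L185488) q11052, e3 q10487 L185729 q11082, e3 q10488 (flp_h L180432) q9855, e3 q10489 (flp_h L185748) q11083, e3 q10490 (flp_h L185527) q11056, e3 q10491 L185776 q11087, e3 q10492 L185789 q11088, e3 q10493 (flp_h L180481) q9860, e3 q10494 (flp_h L180488) q9861, e3 q10495 L180503 q9864, trivial⟩ (by decide +kernel)

theorem ce_h_164 : ∀ r, r < 64 → sm gh (Qf (10496 + r)) = Qf (tab Gen.h (10496 + r)) :=
  edges_tab (sm gh) Qf (tab Gen.h) 10496 [(10496, 11089), (10497, 11091), (10498, 11092), (10499, 11063), (10500, 9866), (10501, 9867), (10502, 9868), (10503, 9873), (10504, 9909), (10505, 9874), (10506, 11099), (10507, 11101), (10508, 11103), (10509, 11076), (10510, 9876), (10511, 9877), (10512, 9878), (10513, 9883), (10514, 11011), (10515, 9884), (10516, 11108), (10517, 11110), (10518, 11112), (10519, 10542), (10520, 11116), (10521, 11117), (10522, 9888), (10523, 9889), (10524, 9892), (10525, 11118), (10526, 11120), (10527, 11121), (10528, 10390), (10529, 9894), (10530,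 9895), (10531, 9896), (10532, 9901), (10533, 11090), (10534, 9902), (10535, 9903), (10536, 11129), (10537, 11131), (10538, 11132), (10539, 11135), (10540, 11136), (10541, 11137), (10542, 10519), (10543, 10886), (10544, 9912), (10545, 11100), (10546, 9913), (10547, 9914), (10548, 10982), (10549, 11102), (10550, 9915), (10551, 9916), (10552, 9917), (10553, 11146), (10554, 11148), (10555, 11149), (10556, 11152), (10557, 11154), (10558, 11155), (10559, 10559)]
    ⟨e3 q10496 (flp_h L185810) q11089, e3 q10497 (flp_h L185826) q11091, e3 q10498 (flp_h L185835) q11092, e3 q10499 (flp_h L185595) q11063, e3 q10500 (flp_h L180537) q9866, e3 q10501 (flp_h L180547) q9867, e3 q10502 (flp_h L180557) q9868, e3 q10503 L180573 q9873, e3 q10504 L180579 q9909, e3 q10505 L180583 q9874, e3 q10506 (flp_h L185887) q11099, e3 q10507 (flp_h L185901) q11101, e3 q10508 (flp_h L185911) q11103, e3 q10509 (flp_h L185685) q11076, e3 q10510 (flp_h L180605) q9876, e3 q10511 (flp_h L180617) q9877, e3 q10512 (flp_h L180631)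 q9878, e3 q10513 L180651 q9883, e3 q10514 (flp_h L185134) q11011, e3 q10515 L180667 q9884, e3 q10516 (flp_h L185949) q11108, e3 q10517 (flp_h L185965) q11110, e3 q10518 (flp_h L185979) q11112, e3 q10519 (flp_h L180891) q10542, e3 q10520 L186001 q11116, e3 q10521 L186015 q11117, e3 q10522 (flp_h L180723) q9888, e3 q10523 (flp_h L180731) q9889, e3 q10524 L180749 q9892, e3 q10525 (flp_h L186037) q11118, e3 q10526 (flp_h L186053) q11120, e3 q10527 (flp_h L186063) q11121, e3 q10528 L180777 q10390, e3 q10529 (flp_h L180779) q9894, e3 q10530 (flp_h L180789) q9895, e3 q10531 (flp_h L180801) q9896, e3 q10532 L180821 q9901, e3 q10533 (flp_h L185820) q11090, e3 q10534 L180835 q9902, e3 q10535 L180845 q9903, e3 q10536 (flp_h L186123) q11129, e3 q10537 (flp_h L186139) q11131, e3 q10538 (flp_h L186149) q11132, e3 q10539 (flp_h L186177) q11135, e3 q10540 (flp_h L186187) q11136, e3 q10541 (flp_h L186195) q11137, e3 q10542 L180891 q10519, e3 q10543 (flp_h L184018) q10886, e3 q10544 L180903 q9912, e3 q10545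 (flp_h L185897) q11100, e3 q10546 L180917 q9913, e3 q10547 L180925 q9914, e3 q10548 (flp_h L184892) q10982, e3 q10549 (flp_h L185905) q11102, e3 q10550 L180943 q9915, e3 q10551 L180949 q9916, e3 q10552 L180953 q9917, e3 q10553 (flp_h L186253) q11146, e3 q10554 (flp_h L186271) q11148, e3 q10555 (flp_h L186277) q11149, e3 q10556 (flp_h L186295) q11152, e3 q10557 (flp_h L186305) q11154, e3 q10558 (flp_h L186309) q11155, e3 q10559 L180987 q10559, trivial⟩ (by decide +kernel)

theorem ce_h_165 : ∀ r, r < 64 → sm gh (Qf (10560 + r)) = Qf (tab Gen.h (10560 + r)) :=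
  edges_tab (sm gh) Qf (tab Gen.h) 10560 [(10560, 9925), (10561, 9994), (10562, 9926), (10563, 9949), (10564, 9934), (10565, 10937), (10566, 10566), (10567, 10567), (10568, 10568), (10569, 9990), (10570, 9991), (10571, 10010), (10572, 10572), (10573, 10573), (10574, 10011), (10575, 10012), (10576, 9957), (10577, 9958), (10578, 9959), (10579, 9964), (10580, 10580), (10581, 9965), (10582, 11168), (10583, 11169), (10584, 11171), (10585, 10585), (10586, 9973), (10587, 9974), (10588, 10588), (10589, 10589), (10590, 9975), (10591, 9976), (10592, 11174), (10593, 11077), (10594, 9983), (10595, 10951), (10596, 10952), (10597, 10953), (10598, 11053), (10599, 9997), (10600, 9998), (10601, 10002), (10602, 10602), (10603, 10003), (10604, 11181), (10605, 11166), (10606, 11183), (10607, 11078), (10608, 11079), (10609, 11080), (10610, 10610), (10611, 11163), (10612, 10013), (10613, 10021), (10614, 10015), (10615, 10016), (10616, 11191), (10617, 10025), (10618, 10618), (10619, 10619), (10620, 11189), (10621,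 11190), (10622, 10022), (10623, 10024)]
    ⟨e3 q10560 L181000 q9925, e3 q10561 L181018 q9994, e3 q10562 L181028 q9926, e3 q10563 L181042 q9949, e3 q10564 L181056 q9934, e3 q10565 (flp_h L184471) q10937, e3 q10566 L181072 q10566, e3 q10567 L181079 q10567, e3 q10568 L181090 q10568, e3 q10569 L181103 q9990, e3 q10570 L181111 q9991, e3 q10571 L181123 q10010, e3 q10572 L181129 q10572, e3 q10573 L181138 q10573, e3 q10574 L181149 q10011, e3 q10575 L181153 q10012, e3 q10576 (flp_h L181156) q9957, e3 q10577 (flp_h L181165) q9958, e3 q10578 (flp_h L181176) q9959, e3 q10579 L181196 q9964, e3 q10580 L181209 q10580, e3 q10581 L181216 q9965, e3 q10582 (flp_h L186419) q11168, e3 q10583 (flp_h L186429) q11169, e3 q10584 (flp_h L186444) q11171, e3 q10585 L181255 q10585, e3 q10586 L181268 q9973, e3 q10587 L181276 q9974, e3 q10588 L181284 q10588, e3 q10589 L181293 q10589, e3 q10590 L181304 q9975, e3 q10591 L181314 q9976, e3 q10592 (flp_h L186477) q11174, e3 q10593 (flp_h L185693) q11077, e3 q10594 L181338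 q9983, e3 q10595 (flp_h L184594) q10951, e3 q10596 (flp_h L184601) q10952, e3 q10597 (flp_h L184611) q10953, e3 q10598 (flp_h L185498) q11053, e3 q10599 (flp_h L181381) q9997, e3 q10600 (flp_h L181394) q9998, e3 q10601 L181416 q10002, e3 q10602 L181427 q10602, e3 q10603 L181434 q10003, e3 q10604 (flp_h L186553) q11181, e3 q10605 (flp_h L186391) q11166, e3 q10606 (flp_h L186568) q11183, e3 q10607 (flp_h L185699) q11078, e3 q10608 (flp_h L185713) q11079, e3 q10609 (flp_h L185719) q11080, e3 q10610 L181500 q10610, e3 q10611 (flp_h L186361) q11163, e3 q10612 (flp_h L181512) q10013, e3 q10613 L181527 q10021, e3 q10614 (flp_h L181529) q10015, e3 q10615 (flp_h L181538) q10016, e3 q10616 (flp_h L186636) q11191, e3 q10617 L181562 q10025, e3 q10618 L181575 q10618, e3 q10619 L181580 q10619, e3 q10620 (flp_h L186617) q11189, e3 q10621 (flp_h L186626) q11190, e3 q10622 (flp_h L181595) q10022, e3 q10623 L181606 q10024, trivial⟩ (by decide +kernel)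

theorem ce_h_166 : ∀ r, r < 64 → sm gh (Qf (10624 + r)) = Qf (tab Gen.h (10624 + r)) :=
  edges_tab (sm gh) Qf (tab Gen.h) 10624 [(10624, 11202), (10625, 11203), (10626, 11195), (10627, 10627), (10628, 10027), (10629, 10029), (10630, 11209), (10631, 11210), (10632, 10404), (10633, 10405), (10634, 10032), (10635, 10033), (10636, 10037), (10637, 11201), (10638, 10038), (10639, 10039), (10640, 11219), (10641, 11220), (10642, 11223), (10643, 11224), (10644, 11225), (10645, 10418), (10646, 10054), (10647, 10050), (10648, 10648), (10649, 10051), (10650, 10650), (10651, 10651), (10652, 10052), (10653, 10053), (10654, 11235), (10655, 11236), (10656, 10656), (10657, 10657), (10658, 10658), (10659, 11241), (10660, 10063), (10661, 10064), (10662, 10065), (10663, 10069), (10664, 10067), (10665, 11243), (10666, 11245), (10667, 11246), (10668, 10082), (10669, 10669), (10670, 10670), (10671, 10671), (10672, 10672), (10673, 10074), (10674, 10075), (10675, 10079), (10676, 10088), (10677, 10080), (10678,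 10081), (10679, 11260), (10680, 11261), (10681, 11264), (10682, 11265), (10683, 11253), (10684, 11043), (10685, 10091), (10686, 11259), (10687, 10092)]
    ⟨e3 q10624 (flp_h L186723) q11202, e3 q10625 (flp_h L186730) q11203, e3 q10626 (flp_h L186670) q11195, e3 q10627 L181632 q10627, e3 q10628 (flp_h L181637) q10027, e3 q10629 L181650 q10029, e3 q10630 (flp_h L186768) q11209, e3 q10631 (flp_h L186775) q11210, e3 q10632 L181666 q10404, e3 q10633 L181672 q10405, e3 q10634 (flp_h L181674) q10032, e3 q10635 (flp_h L181684) q10033, e3 q10636 L181700 q10037, e3 q10637 (flp_h L186717) q11201, e3 q10638 L181712 q10038, e3 q10639 L181720 q10039, e3 q10640 (flp_h L186835) q11219, e3 q10641 (flp_h L186843) q11220, e3 q10642 (flp_h L186865) q11223, e3 q10643 (flp_h L186873) q11224, e3 q10644 (flp_h L186881) q11225, e3 q10645 L181756 q10418, e3 q10646 L181764 q10054, e3 q10647 L181777 q10050, e3 q10648 L181790 q10648, e3 q10649 L181799 q10051, e3 q10650 L181805 q10650, e3 q10651 L181815 q10651, e3 q10652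 L181824 q10052, e3 q10653 L181835 q10053, e3 q10654 (flp_h L186954) q11235, e3 q10655 (flp_h L186965) q11236, e3 q10656 L181865 q10656, e3 q10657 L181870 q10657, e3 q10658 L181877 q10658, e3 q10659 L187003 q11241, e3 q10660 (flp_h L181880) q10063, e3 q10661 (flp_h L181885) q10064, e3 q10662 (flp_h L181898) q10065, e3 q10663 L181907 q10069, e3 q10664 (flp_h L181909) q10067, e3 q10665 (flp_h L187025) q11243, e3 q10666 (flp_h L187035) q11245, e3 q10667 (flp_h L187040) q11246, e3 q10668 L181943 q10082, e3 q10669 L181957 q10669, e3 q10670 L181962 q10670, e3 q10671 L181969 q10671, e3 q10672 L181976 q10672, e3 q10673 (flp_h L181981) q10074, e3 q10674 (flp_h L181994) q10075, e3 q10675 L182005 q10079, e3 q10676 L182011 q10088, e3 q10677 L182015 q10080, e3 q10678 L182020 q10081, e3 q10679 (flp_h L187156) q11260, e3 q10680 (flp_h L187161) q11261, e3 q10681 (flp_h L187180) q11264, e3 q10682 (flp_h L187184) q11265, e3 q10683 (flp_h L187090) q11253, e3 q10684 (flp_h L185416) q11043, e3 q10685 L182058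 q10091, e3 q10686 (flp_h L187150) q11259, e3 q10687 L182070 q10092, trivial⟩ (by decide +kernel)

theorem ce_h_167 : ∀ r, r < 64 → sm gh (Qf (10688 + r)) = Qf (tab Gen.h (10688 + r)) :=
  edges_tab (sm gh) Qf (tab Gen.h) 10688 [(10688, 10093), (10689, 11262), (10690, 11263), (10691, 10094), (10692, 10095), (10693, 10096), (10694, 11272), (10695, 11273), (10696, 11276), (10697, 11277), (10698, 11278), (10699, 11282), (10700, 11283), (10701, 11285), (10702, 11286), (10703, 11296), (10704, 10117), (10705, 10111), (10706, 10706), (10707, 10707), (10708, 10112), (10709, 10113), (10710, 10710), (10711, 10711), (10712, 10114), (10713, 10115), (10714, 10916), (10715, 11303), (10716, 10116), (10717, 10717), (10718, 10718), (10719, 10719), (10720, 10720), (10721, 10721), (10722, 10130), (10723, 10131), (10724, 10132), (10725, 10149), (10726, 10134), (10727, 10135), (10728, 11311), (10729, 10155), (10730, 10730), (10731, 10731), (10732, 11044), (10733, 11035), (10734, 10142), (10735, 11322), (10736,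 11046), (10737, 10737), (10738, 11307), (10739, 10147), (10740, 11328), (10741, 11309), (10742, 11310), (10743, 10150), (10744, 10151), (10745, 10154), (10746, 11332), (10747, 11334), (10748, 11335), (10749, 11315), (10750, 10750), (10751, 10751)]
    ⟨e3 q10688 L182076 q10093, e3 q10689 (flp_h L187165) q11262, e3 q10690 (flp_h L187172) q11263, e3 q10691 L182094 q10094, e3 q10692 L182100 q10095, e3 q10693 L182106 q10096, e3 q10694 (flp_h L187228) q11272, e3 q10695 (flp_h L187236) q11273, e3 q10696 (flp_h L187256) q11276, e3 q10697 (flp_h L187262) q11277, e3 q10698 (flp_h L187266) q11278, e3 q10699 (flp_h L187292) q11282, e3 q10700 (flp_h L187298) q11283, e3 q10701 (flp_h L187310) q11285, e3 q10702 (flp_h L187316) q11286, e3 q10703 L187356 q11296, e3 q10704 L182158 q10117, e3 q10705 L182164 q10111, e3 q10706 L182170 q10706, e3 q10707 L182179 q10707, e3 q10708 L182190 q10112, e3 q10709 L182206 q10113, e3 q10710 L182212 q10710, e3 q10711 L182221 q10711, e3 q10712 L182230 q10114, e3 q10713 L182238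 q10115, e3 q10714 (flp_h L184228) q10916, e3 q10715 (flp_h L187448) q11303, e3 q10716 (flp_h L182251) q10116, e3 q10717 L182277 q10717, e3 q10718 L182282 q10718, e3 q10719 L182296 q10719, e3 q10720 L182307 q10720, e3 q10721 L182315 q10721, e3 q10722 L182327 q10130, e3 q10723 (flp_h L182329) q10131, e3 q10724 (flp_h L182344) q10132, e3 q10725 L182365 q10149, e3 q10726 (flp_h L182367) q10134, e3 q10727 (flp_h L182382) q10135, e3 q10728 (flp_h L187535) q11311, e3 q10729 L182410 q10155, e3 q10730 L182423 q10730, e3 q10731 L182432 q10731, e3 q10732 (flp_h L185432) q11044, e3 q10733 (flp_h L185365) q11035, e3 q10734 (flp_h L182461) q10142, e3 q10735 (flp_h L187666) q11322, e3 q10736 (flp_h L185444) q11046, e3 q10737 L182508 q10737, e3 q10738 (flp_h L187492) q11307, e3 q10739 (flp_h L182525) q10147, e3 q10740 (flp_h L187742) q11328, e3 q10741 (flp_h L187512) q11309, e3 q10742 (flp_h L187521) q11310, e3 q10743 (flp_h L182571) q10150, e3 q10744 (flp_h L182582) q10151, e3 q10745 L182599 q10154, e3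 q10746 (flp_h L187784) q11332, e3 q10747 (flp_h L187802) q11334, e3 q10748 (flp_h L187809) q11335, e3 q10749 (flp_h L187575) q11315, e3 q10750 L182649 q10750, e3 q10751 L182662 q10751, trivial⟩ (by decide +kernel)

theorem ce_h_168 : ∀ r, r < 64 → sm gh (Qf (10752 + r)) = Qf (tab Gen.h (10752 + r)) :=
  edges_tab (sm gh) Qf (tab Gen.h) 10752 [(10752, 10756), (10753, 11258), (10754, 10847), (10755, 10755), (10756, 10752), (10757, 10924), (10758, 10925), (10759, 11028), (10760, 11029), (10761, 10926), (10762, 10167), (10763, 11352), (10764, 10927), (10765, 10928), (10766, 10170), (10767, 10173), (10768, 11356), (10769, 11357), (10770, 10929), (10771, 10930), (10772, 10176), (10773, 10177), (10774, 10182), (10775, 11333), (10776, 10183), (10777, 10184), (10778, 11363), (10779, 11299), (10780, 11365), (10781, 11368), (10782, 11369), (10783, 11370), (10784, 10933), (10785, 10193), (10786, 10786), (10787, 10192), (10788, 11378), (10789, 10789), (10790, 10790), (10791, 10791), (10792, 11380), (10793,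 10203), (10794, 10221), (10795, 10222), (10796, 10225), (10797, 10207), (10798, 10227), (10799, 10209), (10800, 11386), (10801, 10233), (10802, 10212), (10803, 10216), (10804, 10214), (10805, 11389), (10806, 11390), (10807, 11391), (10808, 10244), (10809, 10809), (10810, 10810), (10811, 10811), (10812, 11381), (10813, 11382), (10814, 10224), (10815, 11403)]
    ⟨e3 q10752 (flp_h L182730) q10756, e3 q10753 (flp_h L187142) q11258, e3 q10754 (flp_h L183658) q10847, e3 q10755 L182713 q10755, e3 q10756 L182730 q10752, e3 q10757 (flp_h L184327) q10924, e3 q10758 (flp_h L184341) q10925, e3 q10759 (flp_h L185291) q11028, e3 q10760 (flp_h L185303) q11029, e3 q10761 (flp_h L184355) q10926, e3 q10762 (flp_h L182778) q10167, e3 q10763 (flp_h L188001) q11352, e3 q10764 (flp_h L184367) q10927, e3 q10765 (flp_h L184377) q10928, e3 q10766 (flp_h L182824) q10170, e3 q10767 L182846 q10173, e3 q10768 (flp_h L188049) q11356, e3 q10769 (flp_h L188059) q11357, e3 q10770 (flp_h L184385) q10929, e3 q10771 (flp_h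 L184391) q10930, e3 q10772 (flp_h L182884) q10176, e3 q10773 (flp_h L182896) q10177, e3 q10774 L182916 q10182, e3 q10775 (flp_h L187796) q11333, e3 q10776 L182930 q10183, e3 q10777 L182938 q10184, e3 q10778 (flp_h L188121) q11363, e3 q10779 (flp_h L187412) q11299, e3 q10780 (flp_h L188137) q11365, e3 q10781 (flp_h L188167) q11368, e3 q10782 (flp_h L188177) q11369, e3 q10783 (flp_h L188183) q11370, e3 q10784 (flp_h L184427) q10933, e3 q10785 L183014 q10193, e3 q10786 L183028 q10786, e3 q10787 L183037 q10192, e3 q10788 (flp_h L188263) q11378, e3 q10789 L183064 q10789, e3 q10790 L183079 q10790, e3 q10791 L183094 q10791, e3 q10792 L188281 q11380, e3 q10793 (flp_h L183111) q10203, e3 q10794 L183133 q10221, e3 q10795 L183149 q10222, e3 q10796 L183157 q10225, e3 q10797 (flp_h L183159) q10207, e3 q10798 L183183 q10227, e3 q10799 (flp_h L183185) q10209, e3 q10800 (flp_h L188365) q11386, e3 q10801 L183215 q10233, e3 q10802 (flp_h L183217) q10212, e3 q10803 L183232 q10216, e3 q10804 (flp_h L183234)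 q10214, e3 q10805 (flp_h L188397) q11389, e3 q10806 (flp_h L188401) q11390, e3 q10807 (flp_h L188406) q11391, e3 q10808 L183266 q10244, e3 q10809 L183276 q10809, e3 q10810 L183287 q10810, e3 q10811 L183300 q10811, e3 q10812 (flp_h L188303) q11381, e3 q10813 (flp_h L188317) q11382, e3 q10814 L183339 q10224, e3 q10815 (flp_h L188526) q11403, trivial⟩ (by decide +kernel)

theorem ce_h_169 : ∀ r, r < 64 → sm gh (Qf (10816 + r)) = Qf (tab Gen.h (10816 + r)) :=
  edges_tab (sm gh) Qf (tab Gen.h) 10816 [(10816, 11404), (10817, 11383), (10818, 10818), (10819, 11385), (10820, 10228), (10821, 10229), (10822, 10232), (10823, 11410), (10824, 11412), (10825, 11413), (10826, 11388), (10827, 10234), (10828, 10235), (10829, 10236), (10830, 10241), (10831, 10287), (10832, 10242), (10833, 10243), (10834, 11419), (10835, 11421), (10836, 11422), (10837, 11425), (10838, 11426), (10839, 11427), (10840, 11398), (10841, 10841), (10842, 10842), (10843, 10248), (10844, 11436), (10845, 11437), (10846, 10851), (10847,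 10754), (10848, 10253), (10849, 11442), (10850, 11443), (10851, 10846), (10852, 10255), (10853, 10259), (10854, 10260), (10855, 10261), (10856, 11448), (10857, 11449), (10858, 11450), (10859, 11451), (10860, 11452), (10861, 11453), (10862, 11033), (10863, 10305), (10864, 10306), (10865, 10266), (10866, 10267), (10867, 10270), (10868, 11462), (10869, 11464), (10870, 11465), (10871, 10975), (10872, 10272), (10873, 10273), (10874, 10274), (10875, 10279), (10876, 11411), (10877, 10280), (10878, 10281), (10879, 11471)]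
    ⟨e3 q10816 (flp_h L188535) q11404, e3 q10817 (flp_h L188325) q11383, e3 q10818 L183375 q10818, e3 q10819 (flp_h L188349) q11385, e3 q10820 (flp_h L183392) q10228, e3 q10821 (flp_h L183404) q10229, e3 q10822 L183426 q10232, e3 q10823 (flp_h L188599) q11410, e3 q10824 (flp_h L188619) q11412, e3 q10825 (flp_h L188633) q11413, e3 q10826 (flp_h L188381) q11388, e3 q10827 (flp_h L183472) q10234, e3 q10828 (flp_h L183477) q10235, e3 q10829 (flp_h L183490) q10236, e3 q10830 L183505 q10241, e3 q10831 L183511 q10287, e3 q10832 L183515 q10242, e3 q10833 L183520 q10243, e3 q10834 (flp_h L188695) q11419, e3 q10835 (flp_h L188711) q11421, e3 q10836 (flp_h L188716) q11422, e3 q10837 (flp_h L188734) q11425, e3 q10838 (flp_h L188742) q11426, e3 q10839 (flp_h L188746) q11427, e3 q10840 (flp_h L188468) q11398, e3 q10841 L183586 q10841, e3 q10842 L183603 q10842, e3 q10843 L183618 q10248, e3 q10844 (flp_h L188832) q11436, e3 q10845 (flp_h L188845) q11437, e3 q10846 (flp_h L183706) q10851, e3 q10847 L183658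 q10754, e3 q10848 L183674 q10253, e3 q10849 (flp_h L188903) q11442, e3 q10850 (flp_h L188914) q11443, e3 q10851 L183706 q10846, e3 q10852 (flp_h L183710) q10255, e3 q10853 L183730 q10259, e3 q10854 L183736 q10260, e3 q10855 L183744 q10261, e3 q10856 (flp_h L188980) q11448, e3 q10857 (flp_h L188990) q11449, e3 q10858 (flp_h L189000) q11450, e3 q10859 (flp_h L189008) q11451, e3 q10860 (flp_h L189016) q11452, e3 q10861 (flp_h L189020) q11453, e3 q10862 (flp_h L185339) q11033, e3 q10863 L183812 q10305, e3 q10864 L183832 q10306, e3 q10865 (flp_h L183838) q10266, e3 q10866 (flp_h L183849) q10267, e3 q10867 L183868 q10270, e3 q10868 (flp_h L189116) q11462, e3 q10869 (flp_h L189136) q11464, e3 q10870 (flp_h L189145) q11465, e3 q10871 (flp_h L184820) q10975, e3 q10872 (flp_h L183908) q10272, e3 q10873 (flp_h L183919) q10273, e3 q10874 (flp_h L183930) q10274, e3 q10875 L183949 q10279, e3 q10876 (flp_h L188611) q11411, e3 q10877 L183959 q10280, e3 q10878 L183966 q10281, e3 q10879 (flp_h L189203) q11471,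 trivial⟩ (by decide +kernel)

theorem ce_h_170 : ∀ r, r < 64 → sm gh (Qf (10880 + r)) = Qf (tab Gen.h (10880 + r)) :=
  edges_tab (sm gh) Qf (tab Gen.h) 10880 [(10880, 11473), (10881, 11474), (10882, 11477), (10883, 11478), (10884, 11479), (10885, 11042), (10886, 10543), (10887, 10290), (10888, 11420), (10889, 10291), (10890, 10292), (10891, 11423), (10892, 11424), (10893, 10293), (10894, 10294), (10895, 10295), (10896, 11488), (10897, 11491), (10898, 11492), (10899, 11493), (10900, 11497), (10901, 11498), (10902, 11500), (10903, 11501), (10904, 10302), (10905, 10303), (10906, 10304), (10907, 11509), (10908, 11510), (10909, 11511), (10910, 10910), (10911, 10314), (10912, 10912), (10913, 10913), (10914, 10315), (10915, 10316), (10916, 10714), (10917, 11516), (10918, 10918), (10919, 10919), (10920, 10920), (10921, 10921), (10922, 10333), (10923, 11519), (10924, 10757), (10925, 10758), (10926, 10761), (10927, 10764), (10928, 10765), (10929, 10770), (10930, 10771), (10931, 10340), (10932, 11528),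 (10933, 10784), (10934, 10344), (10935, 10361), (10936, 10362), (10937, 10565), (10938, 10363), (10939, 10349), (10940, 10364), (10941, 10351), (10942, 11247), (10943, 10367)]
    ⟨e3 q10880 (flp_h L189219) q11473, e3 q10881 (flp_h L189226) q11474, e3 q10882 (flp_h L189242) q11477, e3 q10883 (flp_h L189250) q11478, e3 q10884 (flp_h L189256) q11479, e3 q10885 (flp_h L185408) q11042, e3 q10886 L184018 q10543, e3 q10887 L184024 q10290, e3 q10888 (flp_h L188705) q11420, e3 q10889 L184036 q10291, e3 q10890 L184042 q10292, e3 q10891 (flp_h L188720) q11423, e3 q10892 (flp_h L188727) q11424, e3 q10893 L184058 q10293, e3 q10894 L184064 q10294, e3 q10895 L184068 q10295, e3 q10896 (flp_h L189326) q11488, e3 q10897 (flp_h L189348) q11491, e3 q10898 (flp_h L189356) q11492, e3 q10899 (flp_h L189360) q11493, e3 q10900 (flp_h L189386) q11497, e3 q10901 (flp_h L189392) q11498, e3 q10902 (flp_h L189404) q11500, e3 q10903 (flp_h L189408) q11501, e3 q10904 L184126 q10302, e3 q10905 L184135 q10303, e3 q10906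 L184141 q10304, e3 q10907 (flp_h L189460) q11509, e3 q10908 (flp_h L189473) q11510, e3 q10909 (flp_h L189482) q11511, e3 q10910 L184181 q10910, e3 q10911 L184190 q10314, e3 q10912 L184197 q10912, e3 q10913 L184209 q10913, e3 q10914 L184217 q10315, e3 q10915 L184224 q10316, e3 q10916 L184228 q10714, e3 q10917 (flp_h L189531) q11516, e3 q10918 L184246 q10918, e3 q10919 L184263 q10919, e3 q10920 L184278 q10920, e3 q10921 L184291 q10921, e3 q10922 L184303 q10333, e3 q10923 (flp_h L189561) q11519, e3 q10924 L184327 q10757, e3 q10925 L184341 q10758, e3 q10926 L184355 q10761, e3 q10927 L184367 q10764, e3 q10928 L184377 q10765, e3 q10929 L184385 q10770, e3 q10930 L184391 q10771, e3 q10931 L184403 q10340, e3 q10932 (flp_h L189669) q11528, e3 q10933 L184427 q10784, e3 q10934 (flp_h L184429) q10344, e3 q10935 L184451 q10361, e3 q10936 L184461 q10362, e3 q10937 L184471 q10565, e3 q10938 L184481 q10363, e3 q10939 (flp_h L184483) q10349, e3 q10940 L184508 q10364, e3 q10941 (flp_h L184510) q10351, e3 q10942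 (flp_h L187052) q11247, e3 q10943 L184529 q10367, trivial⟩ (by decide +kernel)

theorem ce_h_171 : ∀ r, r < 64 → sm gh (Qf (10944 + r)) = Qf (tab Gen.h (10944 + r)) :=
  edges_tab (sm gh) Qf (tab Gen.h) 10944 [(10944, 10368), (10945, 10354), (10946, 10357), (10947, 11070), (10948, 11175), (10949, 11545), (10950, 10376), (10951, 10595), (10952, 10596), (10953, 10597), (10954, 11531), (10955, 11532), (10956, 11533), (10957, 11535), (10958, 11537), (10959, 11538), (10960, 10366), (10961, 11561), (10962, 11542), (10963, 11543), (10964, 10369), (10965, 10370), (10966, 10374), (10967, 10410), (10968, 10375), (10969, 11567), (10970, 11569), (10971, 11551), (10972, 10378), (10973, 11572), (10974, 11573), (10975, 10871), (10976, 10382), (10977, 11577), (10978, 11578), (10979, 10991), (10980, 10992), (10981, 10388), (10982, 10548), (10983, 10389), (10984, 11584), (10985, 11586), (10986, 11127), (10987, 10391), (10988, 10393), (10989, 11590), (10990, 11591), (10991, 10979), (10992, 10980), (10993,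 10396), (10994, 10397), (10995, 10401), (10996, 11392), (10997, 10402), (10998, 10403), (10999, 11598), (11000, 11599), (11001, 11602), (11002, 11603), (11003, 11609), (11004, 11215), (11005, 11216), (11006, 11270), (11007, 10413)]
    ⟨e3 q10944 L184536 q10368, e3 q10945 (flp_h L184538) q10354, e3 q10946 L184560 q10357, e3 q10947 (flp_h L185661) q11070, e3 q10948 (flp_h L186489) q11175, e3 q10949 (flp_h L189835) q11545, e3 q10950 L184586 q10376, e3 q10951 L184594 q10595, e3 q10952 L184601 q10596, e3 q10953 L184611 q10597, e3 q10954 (flp_h L189704) q11531, e3 q10955 (flp_h L189714) q11532, e3 q10956 (flp_h L189727) q11533, e3 q10957 (flp_h L189747) q11535, e3 q10958 (flp_h L189767) q11537, e3 q10959 (flp_h L189780) q11538, e3 q10960 L184684 q10366, e3 q10961 (flp_h L189977) q11561, e3 q10962 (flp_h L189807) q11542, e3 q10963 (flp_h L189813) q11543, e3 q10964 (flp_h L184710) q10369, e3 q10965 (flp_h L184724) q10370, e3 q10966 L184748 q10374, e3 q10967 L184760 q10410, e3 q10968 L184770 q10375,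 e3 q10969 (flp_h L190033) q11567, e3 q10970 (flp_h L190053) q11569, e3 q10971 (flp_h L189877) q11551, e3 q10972 L184800 q10378, e3 q10973 (flp_h L190081) q11572, e3 q10974 (flp_h L190088) q11573, e3 q10975 L184820 q10871, e3 q10976 L184832 q10382, e3 q10977 (flp_h L190122) q11577, e3 q10978 (flp_h L190135) q11578, e3 q10979 (flp_h L184981) q10991, e3 q10980 (flp_h L184989) q10992, e3 q10981 L184880 q10388, e3 q10982 L184892 q10548, e3 q10983 L184902 q10389, e3 q10984 (flp_h L190189) q11584, e3 q10985 (flp_h L190209) q11586, e3 q10986 (flp_h L186103) q11127, e3 q10987 (flp_h L184928) q10391, e3 q10988 L184951 q10393, e3 q10989 (flp_h L190251) q11590, e3 q10990 (flp_h L190262) q11591, e3 q10991 L184981 q10979, e3 q10992 L184989 q10980, e3 q10993 (flp_h L184991) q10396, e3 q10994 (flp_h L185004) q10397, e3 q10995 L185025 q10401, e3 q10996 (flp_h L188420) q11392, e3 q10997 L185035 q10402, e3 q10998 L185044 q10403, e3 q10999 (flp_h L190332) q11598, e3 q11000 (flp_h L190341) q11599, e3 q11001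 (flp_h L190364) q11602, e3 q11002 (flp_h L190370) q11603, e3 q11003 L190404 q11609, e3 q11004 (flp_h L186803) q11215, e3 q11005 (flp_h L186809) q11216, e3 q11006 (flp_h L187216) q11270, e3 q11007 L185098 q10413, trivial⟩ (by decide +kernel)

theorem ce_h_172 : ∀ r, r < 64 → sm gh (Qf (11008 + r)) = Qf (tab Gen.h (11008 + r)) :=
  edges_tab (sm gh) Qf (tab Gen.h) 11008 [(11008, 11566), (11009, 10414), (11010, 10415), (11011, 10514), (11012, 11568), (11013, 10416), (11014, 10417), (11015, 11612), (11016, 11614), (11017, 11615), (11018, 11619), (11019, 11620), (11020, 11020), (11021, 10459), (11022, 10460), (11023, 11626), (11024, 10433), (11025, 10434), (11026, 11026), (11027, 10440), (11028, 10759), (11029, 10760), (11030, 10441), (11031, 11629), (11032, 11632), (11033, 10862), (11034, 10446), (11035, 10733), (11036, 10447), (11037, 10448), (11038, 11634), (11039, 11635), (11040, 11638), (11041, 11639), (11042, 10885), (11043, 10684), (11044, 10732), (11045, 10455), (11046, 10736), (11047,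 10456), (11048, 11646), (11049, 11648), (11050, 11237), (11051, 11618), (11052, 10486), (11053, 10598), (11054, 10463), (11055, 11655), (11056, 10490), (11057, 10466), (11058, 10467), (11059, 10470), (11060, 11658), (11061, 11660), (11062, 11661), (11063, 10499), (11064, 10472), (11065, 10473), (11066, 10478), (11067, 11244), (11068, 10479), (11069, 10480), (11070, 10947), (11071, 11669)]
    ⟨e3 q11008 (flp_h L190025) q11566, e3 q11009 L185116 q10414, e3 q11010 L185126 q10415, e3 q11011 L185134 q10514, e3 q11012 (flp_h L190043) q11568, e3 q11013 L185158 q10416, e3 q11014 L185164 q10417, e3 q11015 (flp_h L190424) q11612, e3 q11016 (flp_h L190446) q11614, e3 q11017 (flp_h L190454) q11615, e3 q11018 (flp_h L190498) q11619, e3 q11019 (flp_h L190504) q11620, e3 q11020 L185217 q11020, e3 q11021 L185228 q10459, e3 q11022 L185244 q10460, e3 q11023 L190554 q11626, e3 q11024 (flp_h L185256) q10433, e3 q11025 (flp_h L185260) q10434, e3 q11026 L185276 q11026, e3 q11027 L185281 q10440, e3 q11028 L185291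 q10759, e3 q11029 L185303 q10760, e3 q11030 L185313 q10441, e3 q11031 (flp_h L190588) q11629, e3 q11032 (flp_h L190624) q11632, e3 q11033 L185339 q10862, e3 q11034 L185351 q10446, e3 q11035 L185365 q10733, e3 q11036 L185369 q10447, e3 q11037 L185376 q10448, e3 q11038 (flp_h L190640) q11634, e3 q11039 (flp_h L190649) q11635, e3 q11040 (flp_h L190686) q11638, e3 q11041 (flp_h L190694) q11639, e3 q11042 L185408 q10885, e3 q11043 L185416 q10684, e3 q11044 L185432 q10732, e3 q11045 L185436 q10455, e3 q11046 L185444 q10736, e3 q11047 L185454 q10456, e3 q11048 (flp_h L190742) q11646, e3 q11049 (flp_h L190760) q11648, e3 q11050 (flp_h L186979) q11237, e3 q11051 (flp_h L190488) q11618, e3 q11052 L185488 q10486, e3 q11053 L185498 q10598, e3 q11054 (flp_h L185502) q10463, e3 q11055 (flp_h L190822) q11655, e3 q11056 L185527 q10490, e3 q11057 (flp_h L185531) q10466, e3 q11058 (flp_h L185542) q10467, e3 q11059 L185563 q10470, e3 q11060 (flp_h L190854) q11658, e3 q11061 (flp_h L190874) q11660, e3 q11062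 (flp_h L190883) q11661, e3 q11063 L185595 q10499, e3 q11064 (flp_h L185599) q10472, e3 q11065 (flp_h L185613) q10473, e3 q11066 L185635 q10478, e3 q11067 (flp_h L187031) q11244, e3 q11068 L185643 q10479, e3 q11069 L185649 q10480, e3 q11070 L185661 q10947, e3 q11071 (flp_h L190963) q11669, trivial⟩ (by decide +kernel)

theorem ce_h_173 : ∀ r, r < 64 → sm gh (Qf (11072 + r)) = Qf (tab Gen.h (11072 + r)) :=
  edges_tab (sm gh) Qf (tab Gen.h) 11072 [(11072, 11670), (11073, 11673), (11074, 11674), (11075, 11675), (11076, 10509), (11077, 10593), (11078, 10607), (11079, 10608), (11080, 10609), (11081, 11653), (11082, 10487), (11083, 10489), (11084, 11688), (11085, 11689), (11086, 11657), (11087, 10491), (11088, 10492), (11089, 10496), (11090, 10533), (11091, 10497), (11092, 10498), (11093, 11696), (11094, 11697), (11095, 11700), (11096, 11701), (11097, 11666), (11098, 11418), (11099, 10506), (11100, 10545), (11101, 10507), (11102, 10549), (11103, 10508), (11104, 11708), (11105, 11710), (11106,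 11712), (11107, 11463), (11108, 10516), (11109, 11384), (11110, 10517), (11111, 11616), (11112, 10518), (11113, 11717), (11114, 11719), (11115, 11721), (11116, 10520), (11117, 10521), (11118, 10525), (11119, 11687), (11120, 10526), (11121, 10527), (11122, 11726), (11123, 11727), (11124, 11730), (11125, 11731), (11126, 11732), (11127, 10986), (11128, 11470), (11129, 10536), (11130, 11695), (11131, 10537), (11132, 10538), (11133, 11698), (11134, 11699), (11135, 10539)]
    ⟨e3 q11072 (flp_h L190971) q11670, e3 q11073 (flp_h L190989) q11673, e3 q11074 (flp_h L190995) q11674, e3 q11075 (flp_h L191001) q11675, e3 q11076 L185685 q10509, e3 q11077 L185693 q10593, e3 q11078 L185699 q10607, e3 q11079 L185713 q10608, e3 q11080 L185719 q10609, e3 q11081 (flp_h L190798) q11653, e3 q11082 (flp_h L185729) q10487, e3 q11083 L185748 q10489, e3 q11084 (flp_h L191089) q11688, e3 q11085 (flp_h L191098) q11689, e3 q11086 (flp_h L190840) q11657, e3 q11087 (flp_h L185776) q10491, e3 q11088 (flp_h L185789) q10492,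 e3 q11089 L185810 q10496, e3 q11090 L185820 q10533, e3 q11091 L185826 q10497, e3 q11092 L185835 q10498, e3 q11093 (flp_h L191168) q11696, e3 q11094 (flp_h L191175) q11697, e3 q11095 (flp_h L191202) q11700, e3 q11096 (flp_h L191208) q11701, e3 q11097 (flp_h L190925) q11666, e3 q11098 (flp_h L188681) q11418, e3 q11099 L185887 q10506, e3 q11100 L185897 q10545, e3 q11101 L185901 q10507, e3 q11102 L185905 q10549, e3 q11103 L185911 q10508, e3 q11104 (flp_h L191260) q11708, e3 q11105 (flp_h L191278) q11710, e3 q11106 (flp_h L191290) q11712, e3 q11107 (flp_h L189128) q11463, e3 q11108 L185949 q10516, e3 q11109 (flp_h L188341) q11384, e3 q11110 L185965 q10517, e3 q11111 (flp_h L190468) q11616, e3 q11112 L185979 q10518, e3 q11113 (flp_h L191326) q11717, e3 q11114 (flp_h L191346) q11719, e3 q11115 (flp_h L191360) q11721, e3 q11116 (flp_h L186001) q10520, e3 q11117 (flp_h L186015) q10521, e3 q11118 L186037 q10525, e3 q11119 (flp_h L191081) q11687, e3 q11120 L186053 q10526, e3 q11121 L186063 q10527,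 e3 q11122 (flp_h L191408) q11726, e3 q11123 (flp_h L191416) q11727, e3 q11124 (flp_h L191444) q11730, e3 q11125 (flp_h L191454) q11731, e3 q11126 (flp_h L191464) q11732, e3 q11127 L186103 q10986, e3 q11128 (flp_h L189191) q11470, e3 q11129 L186123 q10536, e3 q11130 (flp_h L191162) q11695, e3 q11131 L186139 q10537, e3 q11132 L186149 q10538, e3 q11133 (flp_h L191181) q11698, e3 q11134 (flp_h L191192) q11699, e3 q11135 L186177 q10539, trivial⟩ (by decide +kernel)

theorem ce_h_174 : ∀ r, r < 64 → sm gh (Qf (11136 + r)) = Qf (tab Gen.h (11136 + r)) :=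
  edges_tab (sm gh) Qf (tab Gen.h) 11136 [(11136, 10540), (11137, 10541), (11138, 11740), (11139, 11742), (11140, 11743), (11141, 11746), (11142, 11748), (11143, 11749), (11144, 11217), (11145, 11487), (11146, 10553), (11147, 11709), (11148, 10554), (11149, 10555), (11150, 11585), (11151, 11711), (11152, 10556), (11153, 11534), (11154, 10557), (11155, 10558), (11156, 11757), (11157, 11759), (11158, 11760), (11159, 11763), (11160, 11765), (11161, 11161), (11162, 11162), (11163, 10611), (11164, 11164), (11165, 11165), (11166, 10605), (11167, 11167), (11168, 10582), (11169, 10583), (11170, 11170), (11171, 10584), (11172, 11172), (11173, 11173), (11174, 10592), (11175, 10948), (11176, 11552), (11177, 11553), (11178, 11554), (11179, 11654), (11180, 11180), (11181, 10604), (11182, 11182), (11183, 10606), (11184, 11777), (11185, 11685), (11186, 11779), (11187, 11187), (11188, 11192), (11189, 10620), (11190, 10621), (11191, 10616), (11192, 11188), (11193, 11784), (11194, 11785), (11195, 10626),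 (11196, 11196), (11197, 11197), (11198, 11198), (11199, 11782)]
    ⟨e3 q11136 L186187 q10540, e3 q11137 L186195 q10541, e3 q11138 (flp_h L191524) q11740, e3 q11139 (flp_h L191544) q11742, e3 q11140 (flp_h L191552) q11743, e3 q11141 (flp_h L191580) q11746, e3 q11142 (flp_h L191598) q11748, e3 q11143 (flp_h L191606) q11749, e3 q11144 (flp_h L186819) q11217, e3 q11145 (flp_h L189318) q11487, e3 q11146 L186253 q10553, e3 q11147 (flp_h L191270) q11709, e3 q11148 L186271 q10554, e3 q11149 L186277 q10555, e3 q11150 (flp_h L190199) q11585, e3 q11151 (flp_h L191284) q11711, e3 q11152 L186295 q10556, e3 q11153 (flp_h L189737) q11534, e3 q11154 L186305 q10557, e3 q11155 L186309 q10558, e3 q11156 (flp_h L191660) q11757, e3 q11157 (flp_h L191680) q11759, e3 q11158 (flp_h L191688) q11760, e3 q11159 (flp_h L191704) q11763, e3 q11160 (flp_h L191718) q11765, e3 q11161 L186335 q11161, e3 q11162 L186346 q11162, e3 q11163 L186361 q10611, e3 q11164 L186368 q11164, e3 q11165 L186379 q11165, e3 q11166 L186391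 q10605, e3 q11167 L186405 q11167, e3 q11168 L186419 q10582, e3 q11169 L186429 q10583, e3 q11170 L186437 q11170, e3 q11171 L186444 q10584, e3 q11172 L186455 q11172, e3 q11173 L186466 q11173, e3 q11174 L186477 q10592, e3 q11175 L186489 q10948, e3 q11176 (flp_h L189883) q11552, e3 q11177 (flp_h L189892) q11553, e3 q11178 (flp_h L189903) q11554, e3 q11179 (flp_h L190812) q11654, e3 q11180 L186544 q11180, e3 q11181 L186553 q10604, e3 q11182 L186561 q11182, e3 q11183 L186568 q10606, e3 q11184 (flp_h L191829) q11777, e3 q11185 (flp_h L191063) q11685, e3 q11186 (flp_h L191845) q11779, e3 q11187 L186606 q11187, e3 q11188 (flp_h L186648) q11192, e3 q11189 L186617 q10620, e3 q11190 L186626 q10621, e3 q11191 L186636 q10616, e3 q11192 L186648 q11188, e3 q11193 (flp_h L191884) q11784, e3 q11194 (flp_h L191891) q11785, e3 q11195 L186670 q10626, e3 q11196 L186680 q11196, e3 q11197 L186688 q11197, e3 q11198 L186695 q11198, e3 q11199 (flp_h L191866) q11782, trivial⟩ (by decide +kernel)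

theorem ce_h_175 : ∀ r, r < 64 → sm gh (Qf (11200 + r)) = Qf (tab Gen.h (11200 + r)) :=
  edges_tab (sm gh) Qf (tab Gen.h) 11200 [(11200, 11783), (11201, 10637), (11202, 10624), (11203, 10625), (11204, 11800), (11205, 11801), (11206, 11802), (11207, 11791), (11208, 11312), (11209, 10630), (11210, 10631), (11211, 11808), (11212, 11809), (11213, 11810), (11214, 11816), (11215, 11004), (11216, 11005), (11217, 11144), (11218, 11308), (11219, 10640), (11220, 10641), (11221, 11798), (11222, 11799), (11223, 10642), (11224, 10643), (11225, 10644), (11226, 11821), (11227, 11822), (11228, 11826), (11229, 11827), (11230, 11829), (11231, 11830), (11232, 11232), (11233, 11233), (11234, 11234), (11235, 10654), (11236, 10655), (11237, 11050), (11238, 11839), (11239, 11841), (11240, 11842), (11241, 10659), (11242, 11242), (11243, 10665), (11244, 11067), (11245, 10666), (11246, 10667), (11247, 10942), (11248, 11844), (11249, 11845), (11250, 11848), (11251, 11849), (11252, 11850), (11253, 10683), (11254,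 11254), (11255, 11255), (11256, 11256), (11257, 11257), (11258, 10753), (11259, 10686), (11260, 10679), (11261, 10680), (11262, 10689), (11263, 10690)]
    ⟨e3 q11200 (flp_h L191874) q11783, e3 q11201 L186717 q10637, e3 q11202 L186723 q10624, e3 q11203 L186730 q10625, e3 q11204 (flp_h L192012) q11800, e3 q11205 (flp_h L192020) q11801, e3 q11206 (flp_h L192026) q11802, e3 q11207 (flp_h L191945) q11791, e3 q11208 (flp_h L187547) q11312, e3 q11209 L186768 q10630, e3 q11210 L186775 q10631, e3 q11211 (flp_h L192066) q11808, e3 q11212 (flp_h L192074) q11809, e3 q11213 (flp_h L192082) q11810, e3 q11214 L192110 q11816, e3 q11215 L186803 q11004, e3 q11216 L186809 q11005, e3 q11217 L186819 q11144, e3 q11218 (flp_h L187506) q11308, e3 q11219 L186835 q10640, e3 q11220 L186843 q10641, e3 q11221 (flp_h L191996) q11798, e3 q11222 (flp_h L192005) q11799, e3 q11223 L186865 q10642, e3 q11224 L186873 q10643, e3 q11225 L186881 q10644, e3 q11226 (flp_h L192154) q11821, e3 q11227 (flp_h L192162) q11822, e3 q11228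 (flp_h L192194) q11826, e3 q11229 (flp_h L192202) q11827, e3 q11230 (flp_h L192222) q11829, e3 q11231 (flp_h L192230) q11830, e3 q11232 L186927 q11232, e3 q11233 L186932 q11233, e3 q11234 L186944 q11234, e3 q11235 L186954 q10654, e3 q11236 L186965 q10655, e3 q11237 L186979 q11050, e3 q11238 (flp_h L192305) q11839, e3 q11239 L192319 q11841, e3 q11240 L192322 q11842, e3 q11241 (flp_h L187003) q10659, e3 q11242 L187014 q11242, e3 q11243 L187025 q10665, e3 q11244 L187031 q11067, e3 q11245 L187035 q10666, e3 q11246 L187040 q10667, e3 q11247 L187052 q10942, e3 q11248 (flp_h L192341) q11844, e3 q11249 (flp_h L192352) q11845, e3 q11250 (flp_h L192374) q11848, e3 q11251 (flp_h L192382) q11849, e3 q11252 (flp_h L192388) q11850, e3 q11253 L187090 q10683, e3 q11254 L187100 q11254, e3 q11255 L187107 q11255, e3 q11256 L187122 q11256, e3 q11257 L187129 q11257, e3 q11258 L187142 q10753, e3 q11259 L187150 q10686, e3 q11260 L187156 q10679, e3 q11261 L187161 q10680, e3 q11262 L187165 q10689, e3 q11263 L187172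 q10690, trivial⟩ (by decide +kernel)

theorem ce_h_176 : ∀ r, r < 64 → sm gh (Qf (11264 + r)) = Qf (tab Gen.h (11264 + r)) :=
  edges_tab (sm gh) Qf (tab Gen.h) 11264 [(11264, 10681), (11265, 10682), (11266, 11866), (11267, 11867), (11268, 11871), (11269, 11872), (11270, 11006), (11271, 11644), (11272, 10694), (11273, 10695), (11274, 11864), (11275, 11865), (11276, 10696), (11277, 10697), (11278, 10698), (11279, 11600), (11280, 11868), (11281, 11869), (11282, 10699), (11283, 10700), (11284, 11499), (11285, 10701), (11286, 10702), (11287, 11878), (11288, 11879), (11289, 11883), (11290, 11901), (11291, 11885), (11292, 11886), (11293, 11892), (11294, 11894), (11295, 11896), (11296, 10703), (11297, 11297), (11298, 11298), (11299, 10779), (11300, 11300), (11301, 11301), (11302, 11908), (11303, 10715), (11304, 11517), (11305, 11305), (11306, 11306), (11307, 10738), (11308, 11218), (11309, 10741), (11310, 10742), (11311, 10728), (11312, 11208), (11313, 11916), (11314, 11917), (11315, 10749), (11316,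 11316), (11317, 11317), (11318, 11318), (11319, 11645), (11320, 11636), (11321, 11637), (11322, 10735), (11323, 11930), (11324, 11931), (11325, 11647), (11326, 11910), (11327, 11911)]
    ⟨e3 q11264 L187180 q10681, e3 q11265 L187184 q10682, e3 q11266 (flp_h L192531) q11866, e3 q11267 (flp_h L192535) q11867, e3 q11268 (flp_h L192560) q11871, e3 q11269 (flp_h L192564) q11872, e3 q11270 L187216 q11006, e3 q11271 (flp_h L190722) q11644, e3 q11272 L187228 q10694, e3 q11273 L187236 q10695, e3 q11274 (flp_h L192516) q11864, e3 q11275 (flp_h L192523) q11865, e3 q11276 L187256 q10696, e3 q11277 L187262 q10697, e3 q11278 L187266 q10698, e3 q11279 (flp_h L190345) q11600, e3 q11280 (flp_h L192543) q11868, e3 q11281 (flp_h L192549) q11869, e3 q11282 L187292 q10699, e3 q11283 L187298 q10700, e3 q11284 (flp_h L189398) q11499, e3 q11285 L187310 q10701, e3 q11286 L187316 q10702, e3 q11287 (flp_h L192608) q11878, e3 q11288 (flp_h L192612) q11879, e3 q11289 (flp_h L192642) q11883, e3 q11290 L192758 q11901,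 e3 q11291 (flp_h L192664) q11885, e3 q11292 (flp_h L192672) q11886, e3 q11293 (flp_h L192714) q11892, e3 q11294 (flp_h L192726) q11894, e3 q11295 (flp_h L192738) q11896, e3 q11296 (flp_h L187356) q10703, e3 q11297 L187376 q11297, e3 q11298 L187395 q11298, e3 q11299 L187412 q10779, e3 q11300 L187420 q11300, e3 q11301 L187429 q11301, e3 q11302 L192823 q11908, e3 q11303 L187448 q10715, e3 q11304 (flp_h L189537) q11517, e3 q11305 L187464 q11305, e3 q11306 L187473 q11306, e3 q11307 L187492 q10738, e3 q11308 L187506 q11218, e3 q11309 L187512 q10741, e3 q11310 L187521 q10742, e3 q11311 L187535 q10728, e3 q11312 L187547 q11208, e3 q11313 (flp_h L192914) q11916, e3 q11314 (flp_h L192927) q11917, e3 q11315 L187575 q10749, e3 q11316 L187587 q11316, e3 q11317 L187597 q11317, e3 q11318 L187610 q11318, e3 q11319 (flp_h L190736) q11645, e3 q11320 (flp_h L190661) q11636, e3 q11321 (flp_h L190676) q11637, e3 q11322 L187666 q10735, e3 q11323 (flp_h L193084) q11930, e3 q11324 (flp_h L193099) q11931, e3 q11325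 (flp_h L190752) q11647, e3 q11326 (flp_h L192842) q11910, e3 q11327 (flp_h L192857) q11911, trivial⟩ (by decide +kernel)

theorem ce_h_177 : ∀ r, r < 64 → sm gh (Qf (11328 + r)) = Qf (tab Gen.h (11328 + r)) :=
  edges_tab (sm gh) Qf (tab Gen.h) 11328 [(11328, 10740), (11329, 11937), (11330, 11914), (11331, 11915), (11332, 10746), (11333, 10775), (11334, 10747), (11335, 10748), (11336, 11942), (11337, 11943), (11338, 11946), (11339, 11947), (11340, 11948), (11341, 11923), (11342, 11346), (11343, 11862), (11344, 11863), (11345, 11441), (11346, 11342), (11347, 11521), (11348, 11522), (11349, 11630), (11350, 11631), (11351, 11523), (11352, 10763), (11353, 11963), (11354, 11524), (11355, 11525), (11356, 10768), (11357, 10769), (11358, 11967), (11359, 11968), (11360, 11972), (11361, 11526), (11362, 11527), (11363, 10778), (11364, 11596), (11365, 10780), (11366, 11944), (11367, 11945), (11368, 10781), (11369, 10782), (11370, 10783), (11371, 11974), (11372, 11884), (11373, 11976), (11374, 11979),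 (11375, 11980), (11376, 11981), (11377, 11982), (11378, 10788), (11379, 11989), (11380, 10792), (11381, 10812), (11382, 10813), (11383, 10817), (11384, 11109), (11385, 10819), (11386, 10800), (11387, 11995), (11388, 10826), (11389, 10805), (11390, 10806), (11391, 10807)]
    ⟨e3 q11328 L187742 q10740, e3 q11329 (flp_h L193177) q11937, e3 q11330 (flp_h L192896) q11914, e3 q11331 (flp_h L192902) q11915, e3 q11332 L187784 q10746, e3 q11333 L187796 q10775, e3 q11334 L187802 q10747, e3 q11335 L187809 q10748, e3 q11336 (flp_h L193237) q11942, e3 q11337 (flp_h L193250) q11943, e3 q11338 (flp_h L193284) q11946, e3 q11339 (flp_h L193296) q11947, e3 q11340 (flp_h L193302) q11948, e3 q11341 (flp_h L192995) q11923, e3 q11342 (flp_h L187935) q11346, e3 q11343 (flp_h L192495) q11862, e3 q11344 (flp_h L192508) q11863, e3 q11345 (flp_h L188889) q11441, e3 q11346 L187935 q11342, e3 q11347 (flp_h L189591) q11521, e3 q11348 (flp_h L189603) q11522, e3 q11349 (flp_h L190602) q11630, e3 q11350 (flp_h L190614)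 q11631, e3 q11351 (flp_h L189615) q11523, e3 q11352 L188001 q10763, e3 q11353 (flp_h L193478) q11963, e3 q11354 (flp_h L189629) q11524, e3 q11355 (flp_h L189639) q11525, e3 q11356 L188049 q10768, e3 q11357 L188059 q10769, e3 q11358 (flp_h L193528) q11967, e3 q11359 (flp_h L193538) q11968, e3 q11360 L193576 q11972, e3 q11361 (flp_h L189649) q11526, e3 q11362 (flp_h L189659) q11527, e3 q11363 L188121 q10778, e3 q11364 (flp_h L190312) q11596, e3 q11365 L188137 q10780, e3 q11366 (flp_h L193258) q11944, e3 q11367 (flp_h L193271) q11945, e3 q11368 L188167 q10781, e3 q11369 L188177 q10782, e3 q11370 L188183 q10783, e3 q11371 (flp_h L193606) q11974, e3 q11372 L192658 q11884, e3 q11373 (flp_h L193622) q11976, e3 q11374 (flp_h L193656) q11979, e3 q11375 (flp_h L193668) q11980, e3 q11376 (flp_h L193676) q11981, e3 q11377 (flp_h L193682) q11982, e3 q11378 L188263 q10788, e3 q11379 L193748 q11989, e3 q11380 (flp_h L188281) q10792, e3 q11381 L188303 q10812, e3 q11382 L188317 q10813, e3 q11383 L188325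 q10817, e3 q11384 L188341 q11109, e3 q11385 L188349 q10819, e3 q11386 L188365 q10800, e3 q11387 (flp_h L193829) q11995, e3 q11388 L188381 q10826, e3 q11389 L188397 q10805, e3 q11390 L188401 q10806, e3 q11391 L188406 q10807, trivial⟩ (by decide +kernel)

theorem ce_h_178 : ∀ r, r < 64 → sm gh (Qf (11392 + r)) = Qf (tab Gen.h (11392 + r)) :=
  edges_tab (sm gh) Qf (tab Gen.h) 11392 [(11392, 10996), (11393, 11998), (11394, 11999), (11395, 12000), (11396, 12001), (11397, 12002), (11398, 10840), (11399, 11399), (11400, 11400), (11401, 11990), (11402, 11991), (11403, 10815), (11404, 10816), (11405, 12013), (11406, 12014), (11407, 12015), (11408, 11992), (11409, 11994), (11410, 10823), (11411, 10876), (11412, 10824), (11413, 10825), (11414, 12020), (11415, 12023), (11416, 12024), (11417, 11997), (11418, 11098), (11419, 10834), (11420, 10888), (11421, 10835), (11422, 10836), (11423, 10891), (11424, 10892), (11425, 10837), (11426, 10838), (11427, 10839), (11428, 12030), (11429, 12033), (11430, 12034),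 (11431, 12035), (11432, 12039), (11433, 12040), (11434, 12042), (11435, 12043), (11436, 10844), (11437, 10845), (11438, 12051), (11439, 12052), (11440, 11447), (11441, 11345), (11442, 10849), (11443, 10850), (11444, 12056), (11445, 12057), (11446, 12058), (11447, 11440), (11448, 10856), (11449, 10857), (11450, 10858), (11451, 10859), (11452, 10860), (11453, 10861), (11454, 12062), (11455, 12063)]
    ⟨e3 q11392 L188420 q10996, e3 q11393 (flp_h L193863) q11998, e3 q11394 (flp_h L193878) q11999, e3 q11395 (flp_h L193887) q12000, e3 q11396 (flp_h L193897) q12001, e3 q11397 (flp_h L193903) q12002, e3 q11398 L188468 q10840, e3 q11399 L188478 q11399, e3 q11400 L188491 q11400, e3 q11401 (flp_h L193769) q11990, e3 q11402 (flp_h L193781) q11991, e3 q11403 L188526 q10815, e3 q11404 L188535 q10816, e3 q11405 (flp_h L194018) q12013, e3 q11406 (flp_h L194030) q12014, e3 q11407 (flp_h L194036) q12015, e3 q11408 (flp_h L193791) q11992, e3 q11409 (flp_h L193815) q11994, e3 q11410 L188599 q10823, e3 q11411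 L188611 q10876, e3 q11412 L188619 q10824, e3 q11413 L188633 q10825, e3 q11414 (flp_h L194096) q12020, e3 q11415 (flp_h L194136) q12023, e3 q11416 (flp_h L194146) q12024, e3 q11417 (flp_h L193853) q11997, e3 q11418 L188681 q11098, e3 q11419 L188695 q10834, e3 q11420 L188705 q10888, e3 q11421 L188711 q10835, e3 q11422 L188716 q10836, e3 q11423 L188720 q10891, e3 q11424 L188727 q10892, e3 q11425 L188734 q10837, e3 q11426 L188742 q10838, e3 q11427 L188746 q10839, e3 q11428 (flp_h L194205) q12030, e3 q11429 (flp_h L194237) q12033, e3 q11430 (flp_h L194247) q12034, e3 q11431 (flp_h L194251) q12035, e3 q11432 (flp_h L194287) q12039, e3 q11433 (flp_h L194297) q12040, e3 q11434 (flp_h L194308) q12042, e3 q11435 (flp_h L194312) q12043, e3 q11436 L188832 q10844, e3 q11437 L188845 q10845, e3 q11438 (flp_h L194396) q12051, e3 q11439 (flp_h L194404) q12052, e3 q11440 (flp_h L188964) q11447, e3 q11441 L188889 q11345, e3 q11442 L188903 q10849, e3 q11443 L188914 q10850, e3 q11444 (flp_h L194457) q12056,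 e3 q11445 (flp_h L194471) q12057, e3 q11446 (flp_h L194481) q12058, e3 q11447 L188964 q11440, e3 q11448 L188980 q10856, e3 q11449 L188990 q10857, e3 q11450 L189000 q10858, e3 q11451 L189008 q10859, e3 q11452 L189016 q10860, e3 q11453 L189020 q10861, e3 q11454 (flp_h L194535) q12062, e3 q11455 (flp_h L194545) q12063, trivial⟩ (by decide +kernel)

theorem ce_h_179 : ∀ r, r < 64 → sm gh (Qf (11456 + r)) = Qf (tab Gen.h (11456 + r)) :=
  edges_tab (sm gh) Qf (tab Gen.h) 11456 [(11456, 12064), (11457, 12065), (11458, 12066), (11459, 12067), (11460, 12068), (11461, 12069), (11462, 10868), (11463, 11107), (11464, 10869), (11465, 10870), (11466, 12077), (11467, 12080), (11468, 12081), (11469, 11576), (11470, 11128), (11471, 10879), (11472, 11724), (11473, 10880), (11474, 10881), (11475, 12021), (11476, 12022), (11477, 10882), (11478, 10883), (11479, 10884), (11480, 12087), (11481, 12088), (11482, 12091), (11483, 12092), (11484, 12096), (11485, 12098), (11486, 12099), (11487, 11145), (11488, 10896),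 (11489, 12031), (11490, 12032), (11491, 10897), (11492, 10898), (11493, 10899), (11494, 12036), (11495, 12037), (11496, 12038), (11497, 10900), (11498, 10901), (11499, 11284), (11500, 10902), (11501, 10903), (11502, 12108), (11503, 12112), (11504, 12113), (11505, 12114), (11506, 12120), (11507, 12122), (11508, 12124), (11509, 10907), (11510, 10908), (11511, 10909), (11512, 11512), (11513, 11513), (11514, 11514), (11515, 12133), (11516, 10917), (11517, 11304), (11518, 12136), (11519, 10923)]
    ⟨e3 q11456 (flp_h L194559) q12064, e3 q11457 (flp_h L194567) q12065, e3 q11458 (flp_h L194581) q12066, e3 q11459 (flp_h L194591) q12067, e3 q11460 (flp_h L194597) q12068, e3 q11461 (flp_h L194601) q12069, e3 q11462 L189116 q10868, e3 q11463 L189128 q11107, e3 q11464 L189136 q10869, e3 q11465 L189145 q10870, e3 q11466 (flp_h L194691) q12077, e3 q11467 (flp_h L194726) q12080, e3 q11468 (flp_h L194732) q12081, e3 q11469 (flp_h L190114) q11576, e3 q11470 L189191 q11128, e3 q11471 L189203 q10879, e3 q11472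 (flp_h L191386) q11724, e3 q11473 L189219 q10880, e3 q11474 L189226 q10881, e3 q11475 (flp_h L194104) q12021, e3 q11476 (flp_h L194120) q12022, e3 q11477 L189242 q10882, e3 q11478 L189250 q10883, e3 q11479 L189256 q10884, e3 q11480 (flp_h L194795) q12087, e3 q11481 (flp_h L194808) q12088, e3 q11482 (flp_h L194833) q12091, e3 q11483 (flp_h L194839) q12092, e3 q11484 (flp_h L194870) q12096, e3 q11485 (flp_h L194879) q12098, e3 q11486 (flp_h L194885) q12099, e3 q11487 L189318 q11145, e3 q11488 L189326 q10896, e3 q11489 (flp_h L194215) q12031, e3 q11490 (flp_h L194224) q12032, e3 q11491 L189348 q10897, e3 q11492 L189356 q10898, e3 q11493 L189360 q10899, e3 q11494 (flp_h L194258) q12036, e3 q11495 (flp_h L194268) q12037, e3 q11496 (flp_h L194274) q12038, e3 q11497 L189386 q10900, e3 q11498 L189392 q10901, e3 q11499 L189398 q11284, e3 q11500 L189404 q10902, e3 q11501 L189408 q10903, e3 q11502 (flp_h L194963) q12108, e3 q11503 (flp_h L194997) q12112, e3 q11504 (flp_h L195003) q12113, e3 q11505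 (flp_h L195011) q12114, e3 q11506 (flp_h L195053) q12120, e3 q11507 (flp_h L195067) q12122, e3 q11508 (flp_h L195079) q12124, e3 q11509 L189460 q10907, e3 q11510 L189473 q10908, e3 q11511 L189482 q10909, e3 q11512 L189492 q11512, e3 q11513 L189503 q11513, e3 q11514 L189513 q11514, e3 q11515 L195143 q12133, e3 q11516 L189531 q10917, e3 q11517 L189537 q11304, e3 q11518 L195169 q12136, e3 q11519 L189561 q10923, trivial⟩ (by decide +kernel)

theorem ce_h_180 : ∀ r, r < 64 → sm gh (Qf (11520 + r)) = Qf (tab Gen.h (11520 + r)) :=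
  edges_tab (sm gh) Qf (tab Gen.h) 11520 [(11520, 12137), (11521, 11347), (11522, 11348), (11523, 11351), (11524, 11354), (11525, 11355), (11526, 11361), (11527, 11362), (11528, 10932), (11529, 12143), (11530, 11530), (11531, 10954), (11532, 10955), (11533, 10956), (11534, 11153), (11535, 10957), (11536, 11668), (11537, 10958), (11538, 10959), (11539, 11544), (11540, 11851), (11541, 11852), (11542, 10962), (11543, 10963), (11544, 11539), (11545, 10949), (11546, 11676), (11547, 11677), (11548, 11773), (11549, 11747), (11550, 12162), (11551, 10971), (11552, 11176), (11553, 11177), (11554, 11178), (11555, 12144), (11556, 12145), (11557, 12146), (11558, 12148), (11559, 12151), (11560, 12152), (11561, 10961), (11562, 12178), (11563, 12159), (11564, 12160), (11565, 11597), (11566, 11008), (11567, 10969), (11568, 11012), (11569, 10970), (11570, 12183), (11571, 12185), (11572, 10973), (11573, 10974), (11574, 12187), (11575, 12188), (11576, 11469), (11577, 10977), (11578, 10978), (11579, 12191),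 (11580, 12192), (11581, 12196), (11582, 11594), (11583, 11595)]
    ⟨e3 q11520 (flp_h L195192) q12137, e3 q11521 L189591 q11347, e3 q11522 L189603 q11348, e3 q11523 L189615 q11351, e3 q11524 L189629 q11354, e3 q11525 L189639 q11355, e3 q11526 L189649 q11361, e3 q11527 L189659 q11362, e3 q11528 L189669 q10932, e3 q11529 (flp_h L195264) q12143, e3 q11530 L189697 q11530, e3 q11531 L189704 q10954, e3 q11532 L189714 q10955, e3 q11533 L189727 q10956, e3 q11534 L189737 q11153, e3 q11535 L189747 q10957, e3 q11536 (flp_h L190955) q11668, e3 q11537 L189767 q10958, e3 q11538 L189780 q10959, e3 q11539 (flp_h L189827) q11544, e3 q11540 (flp_h L192396) q11851, e3 q11541 (flp_h L192408) q11852, e3 q11542 L189807 q10962, e3 q11543 L189813 q10963, e3 q11544 L189827 q11539, e3 q11545 L189835 q10949, e3 q11546 (flp_h L191011) q11676, e3 q11547 (flp_h L191021) q11677, e3 q11548 (flp_h L191784) q11773, e3 q11549 (flp_h L191592) q11747, e3 q11550 (flp_h L195444) q12162, e3 q11551 L189877 q10971, e3 q11552 L189883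 q11176, e3 q11553 L189892 q11177, e3 q11554 L189903 q11178, e3 q11555 (flp_h L195276) q12144, e3 q11556 (flp_h L195292) q12145, e3 q11557 (flp_h L195300) q12146, e3 q11558 (flp_h L195318) q12148, e3 q11559 (flp_h L195353) q12151, e3 q11560 (flp_h L195363) q12152, e3 q11561 L189977 q10961, e3 q11562 (flp_h L195584) q12178, e3 q11563 (flp_h L195416) q12159, e3 q11564 (flp_h L195422) q12160, e3 q11565 (flp_h L190326) q11597, e3 q11566 L190025 q11008, e3 q11567 L190033 q10969, e3 q11568 L190043 q11012, e3 q11569 L190053 q10970, e3 q11570 (flp_h L195636) q12183, e3 q11571 (flp_h L195656) q12185, e3 q11572 L190081 q10973, e3 q11573 L190088 q10974, e3 q11574 (flp_h L195676) q12187, e3 q11575 (flp_h L195684) q12188, e3 q11576 L190114 q11469, e3 q11577 L190122 q10977, e3 q11578 L190135 q10978, e3 q11579 (flp_h L195712) q12191, e3 q11580 (flp_h L195720) q12192, e3 q11581 L195754 q12196, e3 q11582 (flp_h L190290) q11594, e3 q11583 (flp_h L190298) q11595, trivial⟩ (by decide +kernel)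

theorem ce_h_181 : ∀ r, r < 64 → sm gh (Qf (11584 + r)) = Qf (tab Gen.h (11584 + r)) :=
  edges_tab (sm gh) Qf (tab Gen.h) 11584 [(11584, 10984), (11585, 11150), (11586, 10985), (11587, 12198), (11588, 12200), (11589, 11667), (11590, 10989), (11591, 10990), (11592, 12204), (11593, 12205), (11594, 11582), (11595, 11583), (11596, 11364), (11597, 11565), (11598, 10999), (11599, 11000), (11600, 11279), (11601, 12003), (11602, 11001), (11603, 11002), (11604, 12213), (11605, 12214), (11606, 12218), (11607, 12219), (11608, 12224), (11609, 11003), (11610, 11817), (11611, 11876), (11612, 11015), (11613, 12182), (11614, 11016), (11615, 11017), (11616, 11111), (11617, 12184), (11618, 11051), (11619, 11018), (11620, 11019), (11621, 12227), (11622, 12229), (11623, 12230), (11624, 12235), (11625, 11659), (11626, 11023), (11627, 12093), (11628, 11628), (11629, 11031), (11630, 11349), (11631, 11350), (11632, 11032), (11633, 12239), (11634, 11038), (11635, 11039), (11636, 11320), (11637, 11321), (11638,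 11040), (11639, 11041), (11640, 12242), (11641, 12243), (11642, 12247), (11643, 12248), (11644, 11271), (11645, 11319), (11646, 11048), (11647, 11325)]
    ⟨e3 q11584 L190189 q10984, e3 q11585 L190199 q11150, e3 q11586 L190209 q10985, e3 q11587 (flp_h L195780) q12198, e3 q11588 (flp_h L195800) q12200, e3 q11589 (flp_h L190941) q11667, e3 q11590 L190251 q10989, e3 q11591 L190262 q10990, e3 q11592 (flp_h L195847) q12204, e3 q11593 (flp_h L195857) q12205, e3 q11594 L190290 q11582, e3 q11595 L190298 q11583, e3 q11596 L190312 q11364, e3 q11597 L190326 q11565, e3 q11598 L190332 q10999, e3 q11599 L190341 q11000, e3 q11600 L190345 q11279, e3 q11601 (flp_h L193913) q12003, e3 q11602 L190364 q11001, e3 q11603 L190370 q11002, e3 q11604 (flp_h L195947) q12213, e3 q11605 (flp_h L195953) q12214, e3 q11606 (flp_h L195984) q12218, e3 q11607 (flp_h L195990) q12219, e3 q11608 L196020 q12224, e3 q11609 (flp_h L190404) q11003, e3 q11610 (flp_h L192120) q11817, e3 q11611 (flp_h L192592) q11876, e3 q11612 L190424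 q11015, e3 q11613 (flp_h L195624) q12182, e3 q11614 L190446 q11016, e3 q11615 L190454 q11017, e3 q11616 L190468 q11111, e3 q11617 (flp_h L195646) q12184, e3 q11618 L190488 q11051, e3 q11619 L190498 q11018, e3 q11620 L190504 q11019, e3 q11621 (flp_h L196038) q12227, e3 q11622 (flp_h L196062) q12229, e3 q11623 (flp_h L196072) q12230, e3 q11624 (flp_h L196124) q12235, e3 q11625 (flp_h L190868) q11659, e3 q11626 (flp_h L190554) q11023, e3 q11627 (flp_h L194846) q12093, e3 q11628 L190583 q11628, e3 q11629 L190588 q11031, e3 q11630 L190602 q11349, e3 q11631 L190614 q11350, e3 q11632 L190624 q11032, e3 q11633 (flp_h L196164) q12239, e3 q11634 L190640 q11038, e3 q11635 L190649 q11039, e3 q11636 L190661 q11320, e3 q11637 L190676 q11321, e3 q11638 L190686 q11040, e3 q11639 L190694 q11041, e3 q11640 (flp_h L196196) q12242, e3 q11641 (flp_h L196204) q12243, e3 q11642 (flp_h L196247) q12247, e3 q11643 (flp_h L196255) q12248, e3 q11644 L190722 q11271, e3 q11645 L190736 q11319, e3 q11646 L190742 q11048,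 e3 q11647 L190752 q11325, trivial⟩ (by decide +kernel)

theorem ce_h_182 : ∀ r, r < 64 → sm gh (Qf (11648 + r)) = Qf (tab Gen.h (11648 + r)) :=
  edges_tab (sm gh) Qf (tab Gen.h) 11648 [(11648, 11049), (11649, 12254), (11650, 11840), (11651, 11828), (11652, 12234), (11653, 11081), (11654, 11179), (11655, 11055), (11656, 12260), (11657, 11086), (11658, 11060), (11659, 11625), (11660, 11061), (11661, 11062), (11662, 12263), (11663, 12266), (11664, 12267), (11665, 12268), (11666, 11097), (11667, 11589), (11668, 11536), (11669, 11071), (11670, 11072), (11671, 11846), (11672, 11847), (11673, 11073), (11674, 11074), (11675, 11075), (11676, 11546), (11677, 11547), (11678, 12277), (11679, 12278), (11680, 12279), (11681, 12283), (11682, 12284), (11683, 12285), (11684, 12286), (11685, 11185), (11686, 12163), (11687, 11119), (11688, 11084), (11689, 11085), (11690, 12299), (11691, 12300), (11692, 12301), (11693, 12262), (11694, 11725), (11695, 11130), (11696, 11093), (11697, 11094), (11698, 11133),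 (11699, 11134), (11700, 11095), (11701, 11096), (11702, 12308), (11703, 12309), (11704, 12313), (11705, 12314), (11706, 12028), (11707, 12029), (11708, 11104), (11709, 11147), (11710, 11105), (11711, 11151)]
    ⟨e3 q11648 L190760 q11049, e3 q11649 (flp_h L196303) q12254, e3 q11650 (flp_h L192317) q11840, e3 q11651 (flp_h L192214) q11828, e3 q11652 (flp_h L196112) q12234, e3 q11653 L190798 q11081, e3 q11654 L190812 q11179, e3 q11655 L190822 q11055, e3 q11656 (flp_h L196363) q12260, e3 q11657 L190840 q11086, e3 q11658 L190854 q11060, e3 q11659 L190868 q11625, e3 q11660 L190874 q11061, e3 q11661 L190883 q11062, e3 q11662 (flp_h L196393) q12263, e3 q11663 (flp_h L196429) q12266, e3 q11664 (flp_h L196439) q12267, e3 q11665 (flp_h L196447) q12268, e3 q11666 L190925 q11097, e3 q11667 L190941 q11589, e3 q11668 L190955 q11536, e3 q11669 L190963 q11071, e3 q11670 L190971 q11072, e3 q11671 (flp_h L192358) q11846, e3 q11672 (flp_h L192365) q11847, e3 q11673 L190989 q11073, e3 q11674 L190995 q11074,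 e3 q11675 L191001 q11075, e3 q11676 L191011 q11546, e3 q11677 L191021 q11547, e3 q11678 (flp_h L196543) q12277, e3 q11679 (flp_h L196551) q12278, e3 q11680 (flp_h L196555) q12279, e3 q11681 (flp_h L196581) q12283, e3 q11682 (flp_h L196589) q12284, e3 q11683 (flp_h L196595) q12285, e3 q11684 (flp_h L196601) q12286, e3 q11685 L191063 q11185, e3 q11686 (flp_h L195452) q12163, e3 q11687 L191081 q11119, e3 q11688 L191089 q11084, e3 q11689 L191098 q11085, e3 q11690 (flp_h L196697) q12299, e3 q11691 (flp_h L196711) q12300, e3 q11692 (flp_h L196717) q12301, e3 q11693 (flp_h L196381) q12262, e3 q11694 (flp_h L191400) q11725, e3 q11695 L191162 q11130, e3 q11696 L191168 q11093, e3 q11697 L191175 q11094, e3 q11698 L191181 q11133, e3 q11699 L191192 q11134, e3 q11700 L191202 q11095, e3 q11701 L191208 q11096, e3 q11702 (flp_h L196792) q12308, e3 q11703 (flp_h L196798) q12309, e3 q11704 (flp_h L196829) q12313, e3 q11705 (flp_h L196835) q12314, e3 q11706 (flp_h L194186) q12028, e3 q11707 (flp_h L194193)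 q12029, e3 q11708 L191260 q11104, e3 q11709 L191270 q11147, e3 q11710 L191278 q11105, e3 q11711 L191284 q11151, trivial⟩ (by decide +kernel)

theorem ce_h_183 : ∀ r, r < 64 → sm gh (Qf (11712 + r)) = Qf (tab Gen.h (11712 + r)) :=
  edges_tab (sm gh) Qf (tab Gen.h) 11712 [(11712, 11106), (11713, 12320), (11714, 12322), (11715, 12078), (11716, 12079), (11717, 11113), (11718, 11993), (11719, 11114), (11720, 12232), (11721, 11115), (11722, 12327), (11723, 12329), (11724, 11472), (11725, 11694), (11726, 11122), (11727, 11123), (11728, 12297), (11729, 12298), (11730, 11124), (11731, 11125), (11732, 11126), (11733, 12335), (11734, 12336), (11735, 12340), (11736, 12341), (11737, 12342), (11738, 12085), (11739, 12086), (11740, 11138), (11741, 12307), (11742, 11139), (11743, 11140), (11744, 12310), (11745, 12311), (11746, 11141), (11747, 11549), (11748, 11142), (11749, 11143), (11750, 12349), (11751, 12351), (11752, 12352), (11753, 12357), (11754, 12359), (11755, 11818), (11756, 12107), (11757, 11156),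 (11758, 12321), (11759, 11157), (11760, 11158), (11761, 12199), (11762, 12323), (11763, 11159), (11764, 12147), (11765, 11160), (11766, 12365), (11767, 12367), (11768, 12369), (11769, 11769), (11770, 11770), (11771, 11771), (11772, 12153), (11773, 11548), (11774, 12170), (11775, 12171)]
    ⟨e3 q11712 L191290 q11106, e3 q11713 (flp_h L196881) q12320, e3 q11714 (flp_h L196899) q12322, e3 q11715 (flp_h L194699) q12078, e3 q11716 (flp_h L194712) q12079, e3 q11717 L191326 q11113, e3 q11718 (flp_h L193805) q11993, e3 q11719 L191346 q11114, e3 q11720 (flp_h L196094) q12232, e3 q11721 L191360 q11115, e3 q11722 (flp_h L196935) q12327, e3 q11723 (flp_h L196957) q12329, e3 q11724 L191386 q11472, e3 q11725 L191400 q11694, e3 q11726 L191408 q11122, e3 q11727 L191416 q11123, e3 q11728 (flp_h L196671) q12297, e3 q11729 (flp_h L196684) q12298, e3 q11730 L191444 q11124, e3 q11731 L191454 q11125, e3 q11732 L191464 q11126, e3 q11733 (flp_h L197023) q12335, e3 q11734 (flp_h L197031) q12336, e3 q11735 (flp_h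 L197069) q12340, e3 q11736 (flp_h L197081) q12341, e3 q11737 (flp_h L197089) q12342, e3 q11738 (flp_h L194770) q12085, e3 q11739 (flp_h L194781) q12086, e3 q11740 L191524 q11138, e3 q11741 (flp_h L196782) q12307, e3 q11742 L191544 q11139, e3 q11743 L191552 q11140, e3 q11744 (flp_h L196808) q12310, e3 q11745 (flp_h L196816) q12311, e3 q11746 L191580 q11141, e3 q11747 L191592 q11549, e3 q11748 L191598 q11142, e3 q11749 L191606 q11143, e3 q11750 (flp_h L197145) q12349, e3 q11751 (flp_h L197169) q12351, e3 q11752 (flp_h L197179) q12352, e3 q11753 (flp_h L197225) q12357, e3 q11754 (flp_h L197243) q12359, e3 q11755 (flp_h L192128) q11818, e3 q11756 (flp_h L194959) q12107, e3 q11757 L191660 q11156, e3 q11758 (flp_h L196889) q12321, e3 q11759 L191680 q11157, e3 q11760 L191688 q11158, e3 q11761 (flp_h L195790) q12199, e3 q11762 (flp_h L196903) q12323, e3 q11763 L191704 q11159, e3 q11764 (flp_h L195310) q12147, e3 q11765 L191718 q11160, e3 q11766 (flp_h L197287) q12365, e3 q11767 (flp_h L197313) q12367,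 e3 q11768 (flp_h L197327) q12369, e3 q11769 L191740 q11769, e3 q11770 L191753 q11770, e3 q11771 L191762 q11771, e3 q11772 (flp_h L195375) q12153, e3 q11773 L191784 q11548, e3 q11774 (flp_h L195503) q12170, e3 q11775 (flp_h L195518) q12171, trivial⟩ (by decide +kernel)

theorem ce_h_184 : ∀ r, r < 64 → sm gh (Qf (11776 + r)) = Qf (tab Gen.h (11776 + r)) :=
  edges_tab (sm gh) Qf (tab Gen.h) 11776 [(11776, 11776), (11777, 11184), (11778, 11778), (11779, 11186), (11780, 11786), (11781, 11787), (11782, 11199), (11783, 11200), (11784, 11193), (11785, 11194), (11786, 11780), (11787, 11781), (11788, 12379), (11789, 12380), (11790, 12381), (11791, 11207), (11792, 11792), (11793, 11793), (11794, 11794), (11795, 12393), (11796, 12377), (11797, 12378), (11798, 11221), (11799, 11222), (11800, 11204), (11801, 11205), (11802, 11206), (11803, 12398), (11804, 12400), (11805, 12401), (11806, 11918), (11807, 11919), (11808, 11211), (11809, 11212), (11810, 11213), (11811, 12407), (11812, 12413), (11813, 12409),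 (11814, 12410), (11815, 12417), (11816, 11214), (11817, 11610), (11818, 11755), (11819, 11912), (11820, 11913), (11821, 11226), (11822, 11227), (11823, 12395), (11824, 12396), (11825, 12397), (11826, 11228), (11827, 11229), (11828, 11651), (11829, 11230), (11830, 11231), (11831, 12422), (11832, 12423), (11833, 12429), (11834, 12431), (11835, 12433), (11836, 11836), (11837, 11837), (11838, 12264), (11839, 11238)]
    ⟨e3 q11776 L191820 q11776, e3 q11777 L191829 q11184, e3 q11778 L191836 q11778, e3 q11779 L191845 q11186, e3 q11780 (flp_h L191901) q11786, e3 q11781 (flp_h L191913) q11787, e3 q11782 L191866 q11199, e3 q11783 L191874 q11200, e3 q11784 L191884 q11193, e3 q11785 L191891 q11194, e3 q11786 L191901 q11780, e3 q11787 L191913 q11781, e3 q11788 (flp_h L197402) q12379, e3 q11789 (flp_h L197410) q12380, e3 q11790 (flp_h L197418) q12381, e3 q11791 L191945 q11207, e3 q11792 L191953 q11792, e3 q11793 L191963 q11793, e3 q11794 L191969 q11794, e3 q11795 L197528 q12393, e3 q11796 (flp_h L197385)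 q12377, e3 q11797 (flp_h L197393) q12378, e3 q11798 L191996 q11221, e3 q11799 L192005 q11222, e3 q11800 L192012 q11204, e3 q11801 L192020 q11205, e3 q11802 L192026 q11206, e3 q11803 (flp_h L197567) q12398, e3 q11804 (flp_h L197580) q12400, e3 q11805 (flp_h L197586) q12401, e3 q11806 (flp_h L192941) q11918, e3 q11807 (flp_h L192953) q11919, e3 q11808 L192066 q11211, e3 q11809 L192074 q11212, e3 q11810 L192082 q11213, e3 q11811 (flp_h L197629) q12407, e3 q11812 L197662 q12413, e3 q11813 (flp_h L197640) q12409, e3 q11814 (flp_h L197648) q12410, e3 q11815 L197684 q12417, e3 q11816 (flp_h L192110) q11214, e3 q11817 L192120 q11610, e3 q11818 L192128 q11755, e3 q11819 (flp_h L192871) q11912, e3 q11820 (flp_h L192884) q11913, e3 q11821 L192154 q11226, e3 q11822 L192162 q11227, e3 q11823 (flp_h L197541) q12395, e3 q11824 (flp_h L197551) q12396, e3 q11825 (flp_h L197559) q12397, e3 q11826 L192194 q11228, e3 q11827 L192202 q11229, e3 q11828 L192214 q11651, e3 q11829 L192222 q11230, e3 q11830 L192230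 q11231, e3 q11831 (flp_h L197736) q12422, e3 q11832 (flp_h L197746) q12423, e3 q11833 (flp_h L197798) q12429, e3 q11834 (flp_h L197814) q12431, e3 q11835 (flp_h L197834) q12433, e3 q11836 L192267 q11836, e3 q11837 L192279 q11837, e3 q11838 (flp_h L196405) q12264, e3 q11839 L192305 q11238, trivial⟩ (by decide +kernel)

theorem ce_h_185 : ∀ r, r < 64 → sm gh (Qf (11840 + r)) = Qf (tab Gen.h (11840 + r)) :=
  edges_tab (sm gh) Qf (tab Gen.h) 11840 [(11840, 11650), (11841, 11239), (11842, 11240), (11843, 12439), (11844, 11248), (11845, 11249), (11846, 11671), (11847, 11672), (11848, 11250), (11849, 11251), (11850, 11252), (11851, 11540), (11852, 11541), (11853, 12135), (11854, 12441), (11855, 12442), (11856, 12446), (11857, 12447), (11858, 12449), (11859, 12450), (11860, 11860), (11861, 12155), (11862, 11343), (11863, 11344), (11864, 11274), (11865, 11275), (11866, 11266), (11867, 11267), (11868, 11280), (11869, 11281), (11870, 12041), (11871, 11268), (11872, 11269), (11873, 12466), (11874,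 12467), (11875, 12472), (11876, 11611), (11877, 12252), (11878, 11287), (11879, 11288), (11880, 12211), (11881, 12463), (11882, 12464), (11883, 11289), (11884, 11372), (11885, 11291), (11886, 11292), (11887, 12202), (11888, 12215), (11889, 12489), (11890, 12469), (11891, 12470), (11892, 11293), (11893, 12121), (11894, 11294), (11895, 12123), (11896, 11295), (11897, 12476), (11898, 12477), (11899, 12482), (11900, 12499), (11901, 11290), (11902, 12484), (11903, 12492)]
    ⟨e3 q11840 L192317 q11650, e3 q11841 (flp_h L192319) q11239, e3 q11842 (flp_h L192322) q11240, e3 q11843 (flp_h L197889) q12439, e3 q11844 L192341 q11248, e3 q11845 L192352 q11249, e3 q11846 L192358 q11671, e3 q11847 L192365 q11672, e3 q11848 L192374 q11250, e3 q11849 L192382 q11251, e3 q11850 L192388 q11252, e3 q11851 L192396 q11540, e3 q11852 L192408 q11541, e3 q11853 (flp_h L195164) q12135, e3 q11854 (flp_h L197906) q12441, e3 q11855 (flp_h L197916) q12442, e3 q11856 (flp_h L197950) q12446, e3 q11857 (flp_h L197958) q12447,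 e3 q11858 (flp_h L197969) q12449, e3 q11859 (flp_h L197975) q12450, e3 q11860 L192474 q11860, e3 q11861 (flp_h L195395) q12155, e3 q11862 L192495 q11343, e3 q11863 L192508 q11344, e3 q11864 L192516 q11274, e3 q11865 L192523 q11275, e3 q11866 L192531 q11266, e3 q11867 L192535 q11267, e3 q11868 L192543 q11280, e3 q11869 L192549 q11281, e3 q11870 (flp_h L194302) q12041, e3 q11871 L192560 q11268, e3 q11872 L192564 q11269, e3 q11873 (flp_h L198114) q12466, e3 q11874 (flp_h L198122) q12467, e3 q11875 (flp_h L198151) q12472, e3 q11876 L192592 q11611, e3 q11877 (flp_h L196281) q12252, e3 q11878 L192608 q11287, e3 q11879 L192612 q11288, e3 q11880 (flp_h L195920) q12211, e3 q11881 (flp_h L198095) q12463, e3 q11882 (flp_h L198101) q12464, e3 q11883 L192642 q11289, e3 q11884 (flp_h L192658) q11372, e3 q11885 L192664 q11291, e3 q11886 L192672 q11292, e3 q11887 (flp_h L195822) q12202, e3 q11888 (flp_h L195963) q12215, e3 q11889 L198297 q12489, e3 q11890 (flp_h L198133) q12469, e3 q11891 (flp_h L198139)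 q12470, e3 q11892 L192714 q11293, e3 q11893 (flp_h L195061) q12121, e3 q11894 L192726 q11294, e3 q11895 (flp_h L195073) q12123, e3 q11896 L192738 q11295, e3 q11897 (flp_h L198183) q12476, e3 q11898 (flp_h L198187) q12477, e3 q11899 (flp_h L198237) q12482, e3 q11900 L198355 q12499, e3 q11901 (flp_h L192758) q11290, e3 q11902 (flp_h L198261) q12484, e3 q11903 (flp_h L198319) q12492, trivial⟩ (by decide +kernel)

theorem ce_h_186 : ∀ r, r < 64 → sm gh (Qf (11904 + r)) = Qf (tab Gen.h (11904 + r)) :=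
  edges_tab (sm gh) Qf (tab Gen.h) 11904 [(11904, 12494), (11905, 12209), (11906, 11906), (11907, 12502), (11908, 11302), (11909, 12134), (11910, 11326), (11911, 11327), (11912, 11819), (11913, 11820), (11914, 11330), (11915, 11331), (11916, 11313), (11917, 11314), (11918, 11806), (11919, 11807), (11920, 12511), (11921, 12512), (11922, 12513), (11923, 11341), (11924, 11924), (11925, 11925), (11926, 11926), (11927, 12253), (11928, 12244), (11929, 12245), (11930, 11323), (11931, 11324), (11932, 12525), (11933, 12526), (11934, 12255), (11935, 12503), (11936, 12504), (11937, 11329), (11938, 12531), (11939, 12534), (11940, 12509), (11941, 12510), (11942, 11336), (11943, 11337), (11944, 11366), (11945, 11367), (11946, 11338), (11947, 11339), (11948, 11340), (11949, 12536), (11950, 12537), (11951, 12540), (11952, 12542), (11953, 12543), (11954, 11958), (11955, 12461), (11956, 12462), (11957, 12055), (11958, 11954), (11959, 12138), (11960, 12139), (11961, 12240), (11962, 12241), (11963, 11353),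 (11964, 12554), (11965, 12140), (11966, 12141), (11967, 11358)]
    ⟨e3 q11904 (flp_h L198331) q12494, e3 q11905 (flp_h L195893) q12209, e3 q11906 L192808 q11906, e3 q11907 L198385 q12502, e3 q11908 (flp_h L192823) q11302, e3 q11909 (flp_h L195158) q12134, e3 q11910 L192842 q11326, e3 q11911 L192857 q11327, e3 q11912 L192871 q11819, e3 q11913 L192884 q11820, e3 q11914 L192896 q11330, e3 q11915 L192902 q11331, e3 q11916 L192914 q11313, e3 q11917 L192927 q11314, e3 q11918 L192941 q11806, e3 q11919 L192953 q11807, e3 q11920 (flp_h L198493) q12511, e3 q11921 (flp_h L198509) q12512, e3 q11922 (flp_h L198521) q12513, e3 q11923 L192995 q11341, e3 q11924 L193003 q11924, e3 q11925 L193017 q11925, e3 q11926 L193031 q11926, e3 q11927 (flp_h L196293) q12253, e3 q11928 (flp_h L196220) q12244, e3 q11929 (flp_h L196232) q12245, e3 q11930 L193084 q11323, e3 q11931 L193099 q11324, e3 q11932 (flp_h L198681) q12525, e3 q11933 (flp_h L198693) q12526, e3 q11934 (flp_h L196311) q12255, e3 q11935 (flp_h L198404)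 q12503, e3 q11936 (flp_h L198416) q12504, e3 q11937 L193177 q11329, e3 q11938 (flp_h L198765) q12531, e3 q11939 L198801 q12534, e3 q11940 (flp_h L198474) q12509, e3 q11941 (flp_h L198484) q12510, e3 q11942 L193237 q11336, e3 q11943 L193250 q11337, e3 q11944 L193258 q11366, e3 q11945 L193271 q11367, e3 q11946 L193284 q11338, e3 q11947 L193296 q11339, e3 q11948 L193302 q11340, e3 q11949 (flp_h L198833) q12536, e3 q11950 (flp_h L198841) q12537, e3 q11951 (flp_h L198879) q12540, e3 q11952 (flp_h L198894) q12542, e3 q11953 (flp_h L198900) q12543, e3 q11954 (flp_h L193420) q11958, e3 q11955 (flp_h L198077) q12461, e3 q11956 (flp_h L198087) q12462, e3 q11957 (flp_h L194444) q12055, e3 q11958 L193420 q11954, e3 q11959 (flp_h L195208) q12138, e3 q11960 (flp_h L195218) q12139, e3 q11961 (flp_h L196176) q12240, e3 q11962 (flp_h L196186) q12241, e3 q11963 L193478 q11353, e3 q11964 (flp_h L199050) q12554, e3 q11965 (flp_h L195232) q12140, e3 q11966 (flp_h L195244) q12141, e3 q11967 L193528 q11358, trivial⟩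 (by decide +kernel)

theorem ce_h_187 : ∀ r, r < 64 → sm gh (Qf (11968 + r)) = Qf (tab Gen.h (11968 + r)) :=
  edges_tab (sm gh) Qf (tab Gen.h) 11968 [(11968, 11359), (11969, 12557), (11970, 12558), (11971, 12561), (11972, 11360), (11973, 12142), (11974, 11371), (11975, 12210), (11976, 11373), (11977, 12538), (11978, 12539), (11979, 11374), (11980, 11375), (11981, 11376), (11982, 11377), (11983, 12562), (11984, 12483), (11985, 12564), (11986, 12567), (11987, 12568), (11988, 12569), (11989, 11379), (11990, 11401), (11991, 11402), (11992, 11408), (11993, 11718), (11994, 11409), (11995, 11387), (11996, 12578), (11997, 11417), (11998, 11393), (11999, 11394), (12000, 11395), (12001, 11396), (12002, 11397), (12003, 11601), (12004, 12580), (12005, 12581), (12006, 12305), (12007, 12582), (12008, 12584), (12009, 12585), (12010, 12593), (12011, 12574), (12012, 12575), (12013, 11405), (12014, 11406), (12015, 11407), (12016, 12594), (12017, 12596), (12018, 12597), (12019, 12577), (12020, 11414), (12021,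 11475), (12022, 11476), (12023, 11415), (12024, 11416), (12025, 12600), (12026, 12603), (12027, 12604), (12028, 11706), (12029, 11707), (12030, 11428), (12031, 11489)]
    ⟨e3 q11968 L193538 q11359, e3 q11969 (flp_h L199092) q12557, e3 q11970 (flp_h L199104) q12558, e3 q11971 L199138 q12561, e3 q11972 (flp_h L193576) q11360, e3 q11973 (flp_h L195254) q12142, e3 q11974 L193606 q11371, e3 q11975 (flp_h L195906) q12210, e3 q11976 L193622 q11373, e3 q11977 (flp_h L198853) q12538, e3 q11978 (flp_h L198865) q12539, e3 q11979 L193656 q11374, e3 q11980 L193668 q11375, e3 q11981 L193676 q11376, e3 q11982 L193682 q11377, e3 q11983 (flp_h L199158) q12562, e3 q11984 (flp_h L198251) q12483, e3 q11985 (flp_h L199180) q12564, e3 q11986 (flp_h L199212) q12567, e3 q11987 (flp_h L199220) q12568, e3 q11988 (flp_h L199230) q12569, e3 q11989 (flp_h L193748) q11379, e3 q11990 L193769 q11401, e3 q11991 L193781 q11402, e3 q11992 L193791 q11408, e3 q11993 L193805 q11718, e3 q11994 L193815 q11409, e3 q11995 L193829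 q11387, e3 q11996 (flp_h L199352) q12578, e3 q11997 L193853 q11417, e3 q11998 L193863 q11393, e3 q11999 L193878 q11394, e3 q12000 L193887 q11395, e3 q12001 L193897 q11396, e3 q12002 L193903 q11397, e3 q12003 L193913 q11601, e3 q12004 (flp_h L199380) q12580, e3 q12005 (flp_h L199390) q12581, e3 q12006 (flp_h L196759) q12305, e3 q12007 (flp_h L199402) q12582, e3 q12008 (flp_h L199417) q12584, e3 q12009 (flp_h L199423) q12585, e3 q12010 L199497 q12593, e3 q12011 (flp_h L199296) q12574, e3 q12012 (flp_h L199310) q12575, e3 q12013 L194018 q11405, e3 q12014 L194030 q11406, e3 q12015 L194036 q11407, e3 q12016 (flp_h L199520) q12594, e3 q12017 (flp_h L199533) q12596, e3 q12018 (flp_h L199543) q12597, e3 q12019 (flp_h L199338) q12577, e3 q12020 L194096 q11414, e3 q12021 L194104 q11475, e3 q12022 L194120 q11476, e3 q12023 L194136 q11415, e3 q12024 L194146 q11416, e3 q12025 (flp_h L199579) q12600, e3 q12026 (flp_h L199621) q12603, e3 q12027 (flp_h L199629) q12604, e3 q12028 L194186 q11706, e3 q12029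 L194193 q11707, e3 q12030 L194205 q11428, e3 q12031 L194215 q11489, trivial⟩ (by decide +kernel)

theorem ce_h_188 : ∀ r, r < 64 → sm gh (Qf (12032 + r)) = Qf (tab Gen.h (12032 + r)) :=
  edges_tab (sm gh) Qf (tab Gen.h) 12032 [(12032, 11490), (12033, 11429), (12034, 11430), (12035, 11431), (12036, 11494), (12037, 11495), (12038, 11496), (12039, 11432), (12040, 11433), (12041, 11870), (12042, 11434), (12043, 11435), (12044, 12609), (12045, 12613), (12046, 12615), (12047, 12616), (12048, 12622), (12049, 12624), (12050, 12626), (12051, 11438), (12052, 11439), (12053, 12633), (12054, 12634), (12055, 11957), (12056, 11444), (12057, 11445), (12058, 11446), (12059, 12636), (12060, 12638), (12061, 12639), (12062, 11454), (12063, 11455), (12064, 11456), (12065, 11457), (12066, 11458), (12067, 11459), (12068, 11460), (12069, 11461), (12070, 12642), (12071, 12643), (12072, 12647), (12073, 12645), (12074, 12646), (12075, 12648), (12076, 12649), (12077, 11466), (12078, 11715), (12079, 11716), (12080,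 11467), (12081, 11468), (12082, 12655), (12083, 12659), (12084, 12660), (12085, 11738), (12086, 11739), (12087, 11480), (12088, 11481), (12089, 12332), (12090, 12333), (12091, 11482), (12092, 11483), (12093, 11627), (12094, 12601), (12095, 12602)]
    ⟨e3 q12032 L194224 q11490, e3 q12033 L194237 q11429, e3 q12034 L194247 q11430, e3 q12035 L194251 q11431, e3 q12036 L194258 q11494, e3 q12037 L194268 q11495, e3 q12038 L194274 q11496, e3 q12039 L194287 q11432, e3 q12040 L194297 q11433, e3 q12041 L194302 q11870, e3 q12042 L194308 q11434, e3 q12043 L194312 q11435, e3 q12044 (flp_h L199681) q12609, e3 q12045 (flp_h L199732) q12613, e3 q12046 (flp_h L199741) q12615, e3 q12047 (flp_h L199749) q12616, e3 q12048 (flp_h L199805) q12622, e3 q12049 (flp_h L199820) q12624, e3 q12050 (flp_h L199832) q12626, e3 q12051 L194396 q11438, e3 q12052 L194404 q11439, e3 q12053 (flp_h L199911) q12633, e3 q12054 (flp_h L199923) q12634, e3 q12055 L194444 q11957, e3 q12056 L194457 q11444, e3 q12057 L194471 q11445, e3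 q12058 L194481 q11446, e3 q12059 (flp_h L199953) q12636, e3 q12060 (flp_h L199972) q12638, e3 q12061 (flp_h L199986) q12639, e3 q12062 L194535 q11454, e3 q12063 L194545 q11455, e3 q12064 L194559 q11456, e3 q12065 L194567 q11457, e3 q12066 L194581 q11458, e3 q12067 L194591 q11459, e3 q12068 L194597 q11460, e3 q12069 L194601 q11461, e3 q12070 (flp_h L200026) q12642, e3 q12071 (flp_h L200040) q12643, e3 q12072 (flp_h L200080) q12647, e3 q12073 (flp_h L200056) q12645, e3 q12074 (flp_h L200068) q12646, e3 q12075 (flp_h L200086) q12648, e3 q12076 (flp_h L200092) q12649, e3 q12077 L194691 q11466, e3 q12078 L194699 q11715, e3 q12079 L194712 q11716, e3 q12080 L194726 q11467, e3 q12081 L194732 q11468, e3 q12082 (flp_h L200166) q12655, e3 q12083 (flp_h L200207) q12659, e3 q12084 (flp_h L200213) q12660, e3 q12085 L194770 q11738, e3 q12086 L194781 q11739, e3 q12087 L194795 q11480, e3 q12088 L194808 q11481, e3 q12089 (flp_h L196983) q12332, e3 q12090 (flp_h L196997) q12333, e3 q12091 L194833 q11482, e3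 q12092 L194839 q11483, e3 q12093 L194846 q11627, e3 q12094 (flp_h L199593) q12601, e3 q12095 (flp_h L199607) q12602, trivial⟩ (by decide +kernel)

theorem ce_h_189 : ∀ r, r < 64 → sm gh (Qf (12096 + r)) = Qf (tab Gen.h (12096 + r)) :=
  edges_tab (sm gh) Qf (tab Gen.h) 12096 [(12096, 11484), (12097, 12632), (12098, 11485), (12099, 11486), (12100, 12665), (12101, 12666), (12102, 12683), (12103, 12670), (12104, 12671), (12105, 12677), (12106, 12679), (12107, 11756), (12108, 11502), (12109, 12610), (12110, 12611), (12111, 12612), (12112, 11503), (12113, 11504), (12114, 11505), (12115, 12617), (12116, 12618), (12117, 12697), (12118, 12620), (12119, 12621), (12120, 11506), (12121, 11893), (12122, 11507), (12123, 11895), (12124, 11508), (12125, 12687), (12126, 12691), (12127, 12692), (12128, 12700), (12129, 12703), (12130, 12166), (12131, 12131), (12132, 12709), (12133, 11515), (12134, 11909), (12135, 11853), (12136, 11518), (12137, 11520), (12138, 11959), (12139, 11960), (12140, 11965), (12141,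 11966), (12142, 11973), (12143, 11529), (12144, 11555), (12145, 11556), (12146, 11557), (12147, 11764), (12148, 11558), (12149, 12275), (12150, 12276), (12151, 11559), (12152, 11560), (12153, 11772), (12154, 12161), (12155, 11861), (12156, 12451), (12157, 12452), (12158, 12676), (12159, 11563)]
    ⟨e3 q12096 L194870 q11484, e3 q12097 (flp_h L199903) q12632, e3 q12098 L194879 q11485, e3 q12099 L194885 q11486, e3 q12100 (flp_h L200275) q12665, e3 q12101 (flp_h L200283) q12666, e3 q12102 L200420 q12683, e3 q12103 (flp_h L200314) q12670, e3 q12104 (flp_h L200324) q12671, e3 q12105 (flp_h L200366) q12677, e3 q12106 (flp_h L200376) q12679, e3 q12107 L194959 q11756, e3 q12108 L194963 q11502, e3 q12109 (flp_h L199694) q12610, e3 q12110 (flp_h L199708) q12611, e3 q12111 (flp_h L199716) q12612, e3 q12112 L194997 q11503, e3 q12113 L195003 q11504, e3 q12114 L195011 q11505, e3 q12115 (flp_h L199760) q12617, e3 q12116 (flp_h L199772) q12618, e3 q12117 L200534 q12697, e3 q12118 (flp_h L199785) q12620,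 e3 q12119 (flp_h L199791) q12621, e3 q12120 L195053 q11506, e3 q12121 L195061 q11893, e3 q12122 L195067 q11507, e3 q12123 L195073 q11895, e3 q12124 L195079 q11508, e3 q12125 (flp_h L200456) q12687, e3 q12126 (flp_h L200490) q12691, e3 q12127 (flp_h L200500) q12692, e3 q12128 (flp_h L200564) q12700, e3 q12129 (flp_h L200588) q12703, e3 q12130 (flp_h L195472) q12166, e3 q12131 L195132 q12131, e3 q12132 L200637 q12709, e3 q12133 (flp_h L195143) q11515, e3 q12134 L195158 q11909, e3 q12135 L195164 q11853, e3 q12136 (flp_h L195169) q11518, e3 q12137 L195192 q11520, e3 q12138 L195208 q11959, e3 q12139 L195218 q11960, e3 q12140 L195232 q11965, e3 q12141 L195244 q11966, e3 q12142 L195254 q11973, e3 q12143 L195264 q11529, e3 q12144 L195276 q11555, e3 q12145 L195292 q11556, e3 q12146 L195300 q11557, e3 q12147 L195310 q11764, e3 q12148 L195318 q11558, e3 q12149 (flp_h L196515) q12275, e3 q12150 (flp_h L196529) q12276, e3 q12151 L195353 q11559, e3 q12152 L195363 q11560, e3 q12153 L195375 q11772, e3 q12154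 (flp_h L195432) q12161, e3 q12155 L195395 q11861, e3 q12156 (flp_h L197983) q12451, e3 q12157 (flp_h L197993) q12452, e3 q12158 (flp_h L200358) q12676, e3 q12159 L195416 q11563, trivial⟩ (by decide +kernel)

theorem ce_h_190 : ∀ r, r < 64 → sm gh (Qf (12160 + r)) = Qf (tab Gen.h (12160 + r)) :=
  edges_tab (sm gh) Qf (tab Gen.h) 12160 [(12160, 11564), (12161, 12154), (12162, 11550), (12163, 11686), (12164, 12287), (12165, 12288), (12166, 12130), (12167, 12356), (12168, 12358), (12169, 12734), (12170, 11774), (12171, 11775), (12172, 12735), (12173, 12714), (12174, 12716), (12175, 12717), (12176, 12722), (12177, 12723), (12178, 11562), (12179, 12746), (12180, 12732), (12181, 12212), (12182, 11613), (12183, 11570), (12184, 11617), (12185, 11571), (12186, 12749), (12187, 11574), (12188, 11575), (12189, 12752), (12190, 12753), (12191, 11579), (12192, 11580), (12193, 12756), (12194, 12757), (12195, 12760), (12196, 11581), (12197, 12208), (12198, 11587), (12199, 11761), (12200, 11588), (12201,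 12762), (12202, 11887), (12203, 12274), (12204, 11592), (12205, 11593), (12206, 12767), (12207, 12768), (12208, 12197), (12209, 11905), (12210, 11975), (12211, 11880), (12212, 12181), (12213, 11604), (12214, 11605), (12215, 11888), (12216, 12586), (12217, 12623), (12218, 11606), (12219, 11607), (12220, 12775), (12221, 12776), (12222, 12781), (12223, 12783)]
    ⟨e3 q12160 L195422 q11564, e3 q12161 L195432 q12154, e3 q12162 L195444 q11550, e3 q12163 L195452 q11686, e3 q12164 (flp_h L196611) q12287, e3 q12165 (flp_h L196617) q12288, e3 q12166 L195472 q12130, e3 q12167 (flp_h L197217) q12356, e3 q12168 (flp_h L197237) q12358, e3 q12169 (flp_h L200894) q12734, e3 q12170 L195503 q11774, e3 q12171 L195518 q11775, e3 q12172 (flp_h L200904) q12735, e3 q12173 (flp_h L200708) q12714, e3 q12174 (flp_h L200729) q12716, e3 q12175 (flp_h L200737) q12717, e3 q12176 (flp_h L200790) q12722, e3 q12177 (flp_h L200800) q12723, e3 q12178 L195584 q11562, e3 q12179 (flp_h L201002) q12746, e3 q12180 (flp_h L200872)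 q12732, e3 q12181 (flp_h L195935) q12212, e3 q12182 L195624 q11613, e3 q12183 L195636 q11570, e3 q12184 L195646 q11617, e3 q12185 L195656 q11571, e3 q12186 (flp_h L201040) q12749, e3 q12187 L195676 q11574, e3 q12188 L195684 q11575, e3 q12189 (flp_h L201069) q12752, e3 q12190 (flp_h L201077) q12753, e3 q12191 L195712 q11579, e3 q12192 L195720 q11580, e3 q12193 (flp_h L201106) q12756, e3 q12194 (flp_h L201114) q12757, e3 q12195 L201142 q12760, e3 q12196 (flp_h L195754) q11581, e3 q12197 (flp_h L195883) q12208, e3 q12198 L195780 q11587, e3 q12199 L195790 q11761, e3 q12200 L195800 q11588, e3 q12201 (flp_h L201174) q12762, e3 q12202 L195822 q11887, e3 q12203 (flp_h L196501) q12274, e3 q12204 L195847 q11592, e3 q12205 L195857 q11593, e3 q12206 (flp_h L201227) q12767, e3 q12207 (flp_h L201237) q12768, e3 q12208 L195883 q12197, e3 q12209 L195893 q11905, e3 q12210 L195906 q11975, e3 q12211 L195920 q11880, e3 q12212 L195935 q12181, e3 q12213 L195947 q11604, e3 q12214 L195953 q11605, e3 q12215 L195963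 q11888, e3 q12216 (flp_h L199433) q12586, e3 q12217 (flp_h L199812) q12623, e3 q12218 L195984 q11606, e3 q12219 L195990 q11607, e3 q12220 (flp_h L201316) q12775, e3 q12221 (flp_h L201326) q12776, e3 q12222 (flp_h L201363) q12781, e3 q12223 L201375 q12783, trivial⟩ (by decide +kernel)

theorem ce_h_191 : ∀ r, r < 64 → sm gh (Qf (12224 + r)) = Qf (tab Gen.h (12224 + r)) :=
  edges_tab (sm gh) Qf (tab Gen.h) 12224 [(12224, 11608), (12225, 12672), (12226, 12474), (12227, 11621), (12228, 12748), (12229, 11622), (12230, 11623), (12231, 12265), (12232, 11720), (12233, 12750), (12234, 11652), (12235, 11624), (12236, 12786), (12237, 12788), (12238, 12505), (12239, 11633), (12240, 11961), (12241, 11962), (12242, 11640), (12243, 11641), (12244, 11928), (12245, 11929), (12246, 12637), (12247, 11642), (12248, 11643), (12249, 12794), (12250, 12795), (12251, 12800), (12252, 11877), (12253, 11927), (12254, 11649), (12255, 11934), (12256, 12438), (12257, 12430), (12258, 12432), (12259, 12791), (12260, 11656),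 (12261, 12807), (12262, 11693), (12263, 11662), (12264, 11838), (12265, 12231), (12266, 11663), (12267, 11664), (12268, 11665), (12269, 12809), (12270, 12813), (12271, 12814), (12272, 12816), (12273, 12817), (12274, 12203), (12275, 12149), (12276, 12150), (12277, 11678), (12278, 11679), (12279, 11680), (12280, 12443), (12281, 12444), (12282, 12445), (12283, 11681), (12284, 11682), (12285, 11683), (12286, 11684), (12287, 12164)]
    ⟨e3 q12224 (flp_h L196020) q11608, e3 q12225 (flp_h L200332) q12672, e3 q12226 (flp_h L198169) q12474, e3 q12227 L196038 q11621, e3 q12228 (flp_h L201026) q12748, e3 q12229 L196062 q11622, e3 q12230 L196072 q11623, e3 q12231 (flp_h L196418) q12265, e3 q12232 L196094 q11720, e3 q12233 (flp_h L201048) q12750, e3 q12234 L196112 q11652, e3 q12235 L196124 q11624, e3 q12236 (flp_h L201393) q12786, e3 q12237 (flp_h L201423) q12788, e3 q12238 (flp_h L198429) q12505, e3 q12239 L196164 q11633, e3 q12240 L196176 q11961, e3 q12241 L196186 q11962, e3 q12242 L196196 q11640,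 e3 q12243 L196204 q11641, e3 q12244 L196220 q11928, e3 q12245 L196232 q11929, e3 q12246 (flp_h L199964) q12637, e3 q12247 L196247 q11642, e3 q12248 L196255 q11643, e3 q12249 (flp_h L201488) q12794, e3 q12250 (flp_h L201500) q12795, e3 q12251 (flp_h L201559) q12800, e3 q12252 L196281 q11877, e3 q12253 L196293 q11927, e3 q12254 L196303 q11649, e3 q12255 L196311 q11934, e3 q12256 (flp_h L197882) q12438, e3 q12257 (flp_h L197808) q12430, e3 q12258 (flp_h L197824) q12432, e3 q12259 (flp_h L201461) q12791, e3 q12260 L196363 q11656, e3 q12261 (flp_h L201633) q12807, e3 q12262 L196381 q11693, e3 q12263 L196393 q11662, e3 q12264 L196405 q11838, e3 q12265 L196418 q12231, e3 q12266 L196429 q11663, e3 q12267 L196439 q11664, e3 q12268 L196447 q11665, e3 q12269 (flp_h L201649) q12809, e3 q12270 (flp_h L201701) q12813, e3 q12271 (flp_h L201711) q12814, e3 q12272 (flp_h L201724) q12816, e3 q12273 (flp_h L201732) q12817, e3 q12274 L196501 q12203, e3 q12275 L196515 q12149, e3 q12276 L196529 q12150, e3 q12277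 L196543 q11678, e3 q12278 L196551 q11679, e3 q12279 L196555 q11680, e3 q12280 (flp_h L197923) q12443, e3 q12281 (flp_h L197933) q12444, e3 q12282 (flp_h L197941) q12445, e3 q12283 L196581 q11681, e3 q12284 L196589 q11682, e3 q12285 L196595 q11683, e3 q12286 L196601 q11684, e3 q12287 L196611 q12164, trivial⟩ (by decide +kernel)

theorem ce_h_192 : ∀ r, r < 64 → sm gh (Qf (12288 + r)) = Qf (tab Gen.h (12288 + r)) :=
  edges_tab (sm gh) Qf (tab Gen.h) 12288 [(12288, 12165), (12289, 12743), (12290, 12826), (12291, 12736), (12292, 12828), (12293, 12829), (12294, 12834), (12295, 12835), (12296, 12836), (12297, 11728), (12298, 11729), (12299, 11690), (12300, 11691), (12301, 11692), (12302, 12847), (12303, 12849), (12304, 12850), (12305, 12006), (12306, 12334), (12307, 11741), (12308, 11702), (12309, 11703), (12310, 11744), (12311, 11745), (12312, 12595), (12313, 11704), (12314, 11705), (12315, 12857), (12316, 12858), (12317, 12863), (12318, 12607), (12319, 12608), (12320, 11713), (12321, 11758),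 (12322, 11714), (12323, 11762), (12324, 12867), (12325, 12656), (12326, 12657), (12327, 11722), (12328, 12576), (12329, 11723), (12330, 12790), (12331, 12871), (12332, 12089), (12333, 12090), (12334, 12306), (12335, 11733), (12336, 11734), (12337, 12844), (12338, 12845), (12339, 12846), (12340, 11735), (12341, 11736), (12342, 11737), (12343, 12876), (12344, 12877), (12345, 12881), (12346, 12882), (12347, 12663), (12348, 12664), (12349, 11750), (12350, 12855), (12351, 11751)]
    ⟨e3 q12288 L196617 q12165, e3 q12289 (flp_h L200972) q12743, e3 q12290 (flp_h L201830) q12826, e3 q12291 (flp_h L200912) q12736, e3 q12292 (flp_h L201844) q12828, e3 q12293 (flp_h L201852) q12829, e3 q12294 (flp_h L201888) q12834, e3 q12295 (flp_h L201896) q12835, e3 q12296 (flp_h L201902) q12836, e3 q12297 L196671 q11728, e3 q12298 L196684 q11729, e3 q12299 L196697 q11690, e3 q12300 L196711 q11691, e3 q12301 L196717 q11692, e3 q12302 (flp_h L202001) q12847, e3 q12303 (flp_h L202016) q12849, e3 q12304 (flp_h L202022)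 q12850, e3 q12305 L196759 q12006, e3 q12306 (flp_h L197011) q12334, e3 q12307 L196782 q11741, e3 q12308 L196792 q11702, e3 q12309 L196798 q11703, e3 q12310 L196808 q11744, e3 q12311 L196816 q11745, e3 q12312 (flp_h L199527) q12595, e3 q12313 L196829 q11704, e3 q12314 L196835 q11705, e3 q12315 (flp_h L202093) q12857, e3 q12316 (flp_h L202103) q12858, e3 q12317 (flp_h L202138) q12863, e3 q12318 (flp_h L199665) q12607, e3 q12319 (flp_h L199673) q12608, e3 q12320 L196881 q11713, e3 q12321 L196889 q11758, e3 q12322 L196899 q11714, e3 q12323 L196903 q11762, e3 q12324 (flp_h L202168) q12867, e3 q12325 (flp_h L200178) q12656, e3 q12326 (flp_h L200190) q12657, e3 q12327 L196935 q11722, e3 q12328 (flp_h L199326) q12576, e3 q12329 L196957 q11723, e3 q12330 (flp_h L201445) q12790, e3 q12331 (flp_h L202210) q12871, e3 q12332 L196983 q12089, e3 q12333 L196997 q12090, e3 q12334 L197011 q12306, e3 q12335 L197023 q11733, e3 q12336 L197031 q11734, e3 q12337 (flp_h L201959) q12844, e3 q12338 (flp_h L201975)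 q12845, e3 q12339 (flp_h L201987) q12846, e3 q12340 L197069 q11735, e3 q12341 L197081 q11736, e3 q12342 L197089 q11737, e3 q12343 (flp_h L202280) q12876, e3 q12344 (flp_h L202290) q12877, e3 q12345 (flp_h L202328) q12881, e3 q12346 (flp_h L202338) q12882, e3 q12347 (flp_h L200249) q12663, e3 q12348 (flp_h L200259) q12664, e3 q12349 L197145 q11750, e3 q12350 (flp_h L202080) q12855, e3 q12351 L197169 q11751, trivial⟩ (by decide +kernel)

theorem ce_h_193 : ∀ r, r < 64 → sm gh (Qf (12352 + r)) = Qf (tab Gen.h (12352 + r)) :=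
  edges_tab (sm gh) Qf (tab Gen.h) 12352 [(12352, 11752), (12353, 12724), (12354, 12860), (12355, 12861), (12356, 12167), (12357, 11753), (12358, 12168), (12359, 11754), (12360, 12887), (12361, 12889), (12362, 12893), (12363, 12419), (12364, 12686), (12365, 11766), (12366, 12868), (12367, 11767), (12368, 12763), (12369, 11768), (12370, 12718), (12371, 12371), (12372, 12372), (12373, 12382), (12374, 12383), (12375, 12384), (12376, 12902), (12377, 11796), (12378, 11797), (12379, 11788), (12380, 11789), (12381, 11790), (12382, 12373), (12383, 12374), (12384, 12375), (12385, 12904), (12386, 12905), (12387, 12907), (12388, 12908), (12389, 12389), (12390, 12390), (12391, 12726), (12392, 12919), (12393, 11795), (12394, 12903), (12395, 11823), (12396, 11824), (12397, 11825), (12398, 11803), (12399, 12541), (12400, 11804), (12401, 11805), (12402, 12926), (12403, 12928), (12404, 12514), (12405, 12515), (12406, 12516), (12407, 11811), (12408, 12937), (12409, 11813), (12410, 11814), (12411, 12935),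 (12412, 12941), (12413, 11812), (12414, 12938), (12415, 12944)]
    ⟨e3 q12352 L197179 q11752, e3 q12353 (flp_h L200814) q12724, e3 q12354 (flp_h L202116) q12860, e3 q12355 (flp_h L202124) q12861, e3 q12356 L197217 q12167, e3 q12357 L197225 q11753, e3 q12358 L197237 q12168, e3 q12359 L197243 q11754, e3 q12360 (flp_h L202384) q12887, e3 q12361 (flp_h L202412) q12889, e3 q12362 (flp_h L202450) q12893, e3 q12363 (flp_h L197706) q12419, e3 q12364 (flp_h L200452) q12686, e3 q12365 L197287 q11766, e3 q12366 (flp_h L202180) q12868, e3 q12367 L197313 q11767, e3 q12368 (flp_h L201182) q12763, e3 q12369 L197327 q11768, e3 q12370 (flp_h L200749) q12718, e3 q12371 L197341 q12371, e3 q12372 L197350 q12372, e3 q12373 (flp_h L197428) q12382, e3 q12374 (flp_h L197440) q12383, e3 q12375 (flp_h L197452) q12384, e3 q12376 L202524 q12902, e3 q12377 L197385 q11796, e3 q12378 L197393 q11797, e3 q12379 L197402 q11788, e3 q12380 L197410 q11789, e3 q12381 L197418 q11790, e3 q12382 L197428 q12373, e3 q12383 L197440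 q12374, e3 q12384 L197452 q12375, e3 q12385 (flp_h L202542) q12904, e3 q12386 (flp_h L202550) q12905, e3 q12387 (flp_h L202565) q12907, e3 q12388 (flp_h L202577) q12908, e3 q12389 L197493 q12389, e3 q12390 L197509 q12390, e3 q12391 (flp_h L200837) q12726, e3 q12392 L202679 q12919, e3 q12393 (flp_h L197528) q11795, e3 q12394 (flp_h L202533) q12903, e3 q12395 L197541 q11823, e3 q12396 L197551 q11824, e3 q12397 L197559 q11825, e3 q12398 L197567 q11803, e3 q12399 (flp_h L198886) q12541, e3 q12400 L197580 q11804, e3 q12401 L197586 q11805, e3 q12402 (flp_h L202733) q12926, e3 q12403 (flp_h L202747) q12928, e3 q12404 (flp_h L198535) q12514, e3 q12405 (flp_h L198551) q12515, e3 q12406 (flp_h L198563) q12516, e3 q12407 L197629 q11811, e3 q12408 L202803 q12937, e3 q12409 L197640 q11813, e3 q12410 L197648 q11814, e3 q12411 (flp_h L202795) q12935, e3 q12412 L202828 q12941, e3 q12413 (flp_h L197662) q11812, e3 q12414 (flp_h L202814) q12938, e3 q12415 L202850 q12944, trivial⟩ (by decide +kernel)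

theorem ce_h_194 : ∀ r, r < 64 → sm gh (Qf (12416 + r)) = Qf (tab Gen.h (12416 + r)) :=
  edges_tab (sm gh) Qf (tab Gen.h) 12416 [(12416, 12945), (12417, 11815), (12418, 12920), (12419, 12363), (12420, 12506), (12421, 12507), (12422, 11831), (12423, 11832), (12424, 12711), (12425, 12921), (12426, 12811), (12427, 12923), (12428, 12924), (12429, 11833), (12430, 12257), (12431, 11834), (12432, 12258), (12433, 11835), (12434, 12950), (12435, 12958), (12436, 12436), (12437, 12810), (12438, 12256), (12439, 11843), (12440, 12517), (12441, 11854), (12442, 11855), (12443, 12280), (12444, 12281), (12445, 12282), (12446, 11856), (12447, 11857), (12448, 12583), (12449, 11858), (12450, 11859), (12451, 12156), (12452, 12157), (12453, 12710), (12454, 12701), (12455, 12727), (12456, 12962), (12457, 12963), (12458, 12969), (12459, 12971), (12460, 12973), (12461, 11955), (12462, 11956), (12463, 11881), (12464, 11882), (12465, 12751), (12466, 11873), (12467, 11874), (12468, 12991), (12469, 11890), (12470,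 11891), (12471, 12625), (12472, 11875), (12473, 12989), (12474, 12226), (12475, 12802), (12476, 11897), (12477, 11898), (12478, 12772), (12479, 12770)]
    ⟨e3 q12416 L202860 q12945, e3 q12417 (flp_h L197684) q11815, e3 q12418 (flp_h L202689) q12920, e3 q12419 L197706 q12363, e3 q12420 (flp_h L198445) q12506, e3 q12421 (flp_h L198457) q12507, e3 q12422 L197736 q11831, e3 q12423 L197746 q11832, e3 q12424 (flp_h L200668) q12711, e3 q12425 (flp_h L202695) q12921, e3 q12426 (flp_h L201676) q12811, e3 q12427 (flp_h L202712) q12923, e3 q12428 (flp_h L202720) q12924, e3 q12429 L197798 q11833, e3 q12430 L197808 q12257, e3 q12431 L197814 q11834, e3 q12432 L197824 q12258, e3 q12433 L197834 q11835, e3 q12434 (flp_h L202916) q12950, e3 q12435 (flp_h L202988) q12958, e3 q12436 L197857 q12436, e3 q12437 (flp_h L201662) q12810, e3 q12438 L197882 q12256, e3 q12439 L197889 q11843, e3 q12440 (flp_h L198579) q12517, e3 q12441 L197906 q11854, e3 q12442 L197916 q11855, e3 q12443 L197923 q12280, e3 q12444 L197933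 q12281, e3 q12445 L197941 q12282, e3 q12446 L197950 q11856, e3 q12447 L197958 q11857, e3 q12448 (flp_h L199411) q12583, e3 q12449 L197969 q11858, e3 q12450 L197975 q11859, e3 q12451 L197983 q12156, e3 q12452 L197993 q12157, e3 q12453 (flp_h L200652) q12710, e3 q12454 (flp_h L200572) q12701, e3 q12455 (flp_h L200847) q12727, e3 q12456 (flp_h L203031) q12962, e3 q12457 (flp_h L203045) q12963, e3 q12458 (flp_h L203097) q12969, e3 q12459 (flp_h L203112) q12971, e3 q12460 (flp_h L203124) q12973, e3 q12461 L198077 q11955, e3 q12462 L198087 q11956, e3 q12463 L198095 q11881, e3 q12464 L198101 q11882, e3 q12465 (flp_h L201061) q12751, e3 q12466 L198114 q11873, e3 q12467 L198122 q11874, e3 q12468 L203282 q12991, e3 q12469 L198133 q11890, e3 q12470 L198139 q11891, e3 q12471 (flp_h L199826) q12625, e3 q12472 L198151 q11875, e3 q12473 (flp_h L203274) q12989, e3 q12474 L198169 q12226, e3 q12475 (flp_h L201575) q12802, e3 q12476 L198183 q11897, e3 q12477 L198187 q11898, e3 q12478 (flp_h L201287) q12772,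 e3 q12479 (flp_h L201259) q12770, trivial⟩ (by decide +kernel)

theorem ce_h_195 : ∀ r, r < 64 → sm gh (Qf (12480 + r)) = Qf (tab Gen.h (12480 + r)) :=
  edges_tab (sm gh) Qf (tab Gen.h) 12480 [(12480, 12986), (12481, 12987), (12482, 11899), (12483, 11984), (12484, 11902), (12485, 12764), (12486, 13005), (12487, 12778), (12488, 13008), (12489, 11889), (12490, 12992), (12491, 12699), (12492, 11903), (12493, 12702), (12494, 11904), (12495, 12704), (12496, 12996), (12497, 13000), (12498, 13012), (12499, 11900), (12500, 13010), (12501, 13013), (12502, 11907), (12503, 11935), (12504, 11936), (12505, 12238), (12506, 12420), (12507, 12421), (12508, 13022), (12509, 11940), (12510, 11941), (12511, 11920), (12512, 11921), (12513, 11922), (12514, 12404), (12515, 12405), (12516, 12406), (12517, 12440), (12518, 13024), (12519, 13026), (12520, 13027), (12521, 13035), (12522, 12803), (12523, 12797), (12524, 12798), (12525, 11932), (12526, 11933), (12527, 13038), (12528, 13039), (12529, 13015), (12530,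 13016), (12531, 11938), (12532, 13042), (12533, 13044), (12534, 11939), (12535, 13023), (12536, 11949), (12537, 11950), (12538, 11977), (12539, 11978), (12540, 11951), (12541, 12399), (12542, 11952), (12543, 11953)]
    ⟨e3 q12480 (flp_h L203250) q12986, e3 q12481 (flp_h L203260) q12987, e3 q12482 L198237 q11899, e3 q12483 L198251 q11984, e3 q12484 L198261 q11902, e3 q12485 (flp_h L201196) q12764, e3 q12486 L203416 q13005, e3 q12487 (flp_h L201341) q12778, e3 q12488 L203440 q13008, e3 q12489 (flp_h L198297) q11889, e3 q12490 (flp_h L203291) q12992, e3 q12491 (flp_h L200558) q12699, e3 q12492 L198319 q11903, e3 q12493 (flp_h L200582) q12702, e3 q12494 L198331 q11904, e3 q12495 (flp_h L200594) q12704, e3 q12496 (flp_h L203318) q12996, e3 q12497 (flp_h L203366) q13000, e3 q12498 L203466 q13012, e3 q12499 (flp_h L198355) q11900, e3 q12500 (flp_h L203458) q13010, e3 q12501 L203484 q13013, e3 q12502 (flp_h L198385) q11907, e3 q12503 L198404 q11935, e3 q12504 L198416 q11936, e3 q12505 L198429 q12238,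 e3 q12506 L198445 q12420, e3 q12507 L198457 q12421, e3 q12508 L203597 q13022, e3 q12509 L198474 q11940, e3 q12510 L198484 q11941, e3 q12511 L198493 q11920, e3 q12512 L198509 q11921, e3 q12513 L198521 q11922, e3 q12514 L198535 q12404, e3 q12515 L198551 q12405, e3 q12516 L198563 q12406, e3 q12517 L198579 q12440, e3 q12518 (flp_h L203628) q13024, e3 q12519 (flp_h L203651) q13026, e3 q12520 (flp_h L203667) q13027, e3 q12521 L203761 q13035, e3 q12522 (flp_h L201587) q12803, e3 q12523 (flp_h L201527) q12797, e3 q12524 (flp_h L201543) q12798, e3 q12525 L198681 q11932, e3 q12526 L198693 q11933, e3 q12527 (flp_h L203815) q13038, e3 q12528 (flp_h L203831) q13039, e3 q12529 (flp_h L203516) q13015, e3 q12530 (flp_h L203532) q13016, e3 q12531 L198765 q11938, e3 q12532 (flp_h L203881) q13042, e3 q12533 L203903 q13044, e3 q12534 (flp_h L198801) q11939, e3 q12535 (flp_h L203616) q13023, e3 q12536 L198833 q11949, e3 q12537 L198841 q11950, e3 q12538 L198853 q11977, e3 q12539 L198865 q11978, e3 q12540 L198879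 q11951, e3 q12541 L198886 q12399, e3 q12542 L198894 q11952, e3 q12543 L198900 q11953, trivial⟩ (by decide +kernel)

theorem ce_h_196 : ∀ r, r < 64 → sm gh (Qf (12544 + r)) = Qf (tab Gen.h (12544 + r)) :=
  edges_tab (sm gh) Qf (tab Gen.h) 12544 [(12544, 13046), (12545, 13047), (12546, 13052), (12547, 13054), (12548, 12551), (12549, 12983), (12550, 12984), (12551, 12548), (12552, 12712), (12553, 12792), (12554, 11964), (12555, 13058), (12556, 12713), (12557, 11969), (12558, 11970), (12559, 13059), (12560, 13060), (12561, 11971), (12562, 11983), (12563, 12771), (12564, 11985), (12565, 13049), (12566, 13050), (12567, 11986), (12568, 11987), (12569, 11988), (12570, 13061), (12571, 13001), (12572, 13064), (12573, 13065), (12574, 12011), (12575, 12012), (12576, 12328), (12577, 12019), (12578, 11996), (12579, 13068), (12580, 12004), (12581, 12005), (12582, 12007), (12583, 12448), (12584, 12008), (12585, 12009), (12586, 12216), (12587, 13078), (12588, 13070), (12589, 13071), (12590, 12853), (12591,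 13073), (12592, 13075), (12593, 12010), (12594, 12016), (12595, 12312), (12596, 12017), (12597, 12018), (12598, 13083), (12599, 13085), (12600, 12025), (12601, 12094), (12602, 12095), (12603, 12026), (12604, 12027), (12605, 13087), (12606, 13090), (12607, 12318)]
    ⟨e3 q12544 (flp_h L203934) q13046, e3 q12545 (flp_h L203946) q13047, e3 q12546 (flp_h L204006) q13052, e3 q12547 (flp_h L204024) q13054, e3 q12548 (flp_h L199008) q12551, e3 q12549 (flp_h L203223) q12983, e3 q12550 (flp_h L203237) q12984, e3 q12551 L199008 q12548, e3 q12552 (flp_h L200680) q12712, e3 q12553 (flp_h L201473) q12792, e3 q12554 L199050 q11964, e3 q12555 (flp_h L204086) q13058, e3 q12556 (flp_h L200696) q12713, e3 q12557 L199092 q11969, e3 q12558 L199104 q11970, e3 q12559 (flp_h L204102) q13059, e3 q12560 L204108 q13060, e3 q12561 (flp_h L199138) q11971, e3 q12562 L199158 q11983, e3 q12563 (flp_h L201271) q12771, e3 q12564 L199180 q11985, e3 q12565 (flp_h L203969) q13049, e3 q12566 (flp_h L203981) q13050, e3 q12567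 L199212 q11986, e3 q12568 L199220 q11987, e3 q12569 L199230 q11988, e3 q12570 (flp_h L204132) q13061, e3 q12571 (flp_h L203380) q13001, e3 q12572 (flp_h L204168) q13064, e3 q12573 (flp_h L204180) q13065, e3 q12574 L199296 q12011, e3 q12575 L199310 q12012, e3 q12576 L199326 q12328, e3 q12577 L199338 q12019, e3 q12578 L199352 q11996, e3 q12579 (flp_h L204230) q13068, e3 q12580 L199380 q12004, e3 q12581 L199390 q12005, e3 q12582 L199402 q12007, e3 q12583 L199411 q12448, e3 q12584 L199417 q12008, e3 q12585 L199423 q12009, e3 q12586 L199433 q12216, e3 q12587 L204336 q13078, e3 q12588 (flp_h L204255) q13070, e3 q12589 (flp_h L204269) q13071, e3 q12590 (flp_h L202058) q12853, e3 q12591 (flp_h L204290) q13073, e3 q12592 (flp_h L204308) q13075, e3 q12593 (flp_h L199497) q12010, e3 q12594 L199520 q12016, e3 q12595 L199527 q12312, e3 q12596 L199533 q12017, e3 q12597 L199543 q12018, e3 q12598 (flp_h L204403) q13083, e3 q12599 (flp_h L204419) q13085, e3 q12600 L199579 q12025, e3 q12601 L199593 q12094,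 e3 q12602 L199607 q12095, e3 q12603 L199621 q12026, e3 q12604 L199629 q12027, e3 q12605 (flp_h L204447) q13087, e3 q12606 (flp_h L204489) q13090, e3 q12607 L199665 q12318, trivial⟩ (by decide +kernel)

theorem ce_h_197 : ∀ r, r < 64 → sm gh (Qf (12608 + r)) = Qf (tab Gen.h (12608 + r)) :=
  edges_tab (sm gh) Qf (tab Gen.h) 12608 [(12608, 12319), (12609, 12044), (12610, 12109), (12611, 12110), (12612, 12111), (12613, 12045), (12614, 12796), (12615, 12046), (12616, 12047), (12617, 12115), (12618, 12116), (12619, 13107), (12620, 12118), (12621, 12119), (12622, 12048), (12623, 12217), (12624, 12049), (12625, 12471), (12626, 12050), (12627, 13094), (12628, 13100), (12629, 13102), (12630, 13110), (12631, 13112), (12632, 12097), (12633, 12053), (12634, 12054), (12635, 13118), (12636, 12059), (12637, 12246), (12638, 12060), (12639, 12061), (12640, 13120), (12641, 13122), (12642, 12070), (12643, 12071), (12644, 12740), (12645, 12073), (12646, 12074), (12647, 12072), (12648, 12075), (12649, 12076),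 (12650, 13124), (12651, 13125), (12652, 13128), (12653, 13127), (12654, 13129), (12655, 12082), (12656, 12325), (12657, 12326), (12658, 12982), (12659, 12083), (12660, 12084), (12661, 13132), (12662, 13137), (12663, 12347), (12664, 12348), (12665, 12100), (12666, 12101), (12667, 12873), (12668, 12874), (12669, 13148), (12670, 12103), (12671, 12104)]
    ⟨e3 q12608 L199673 q12319, e3 q12609 L199681 q12044, e3 q12610 L199694 q12109, e3 q12611 L199708 q12110, e3 q12612 L199716 q12111, e3 q12613 L199732 q12045, e3 q12614 (flp_h L201517) q12796, e3 q12615 L199741 q12046, e3 q12616 L199749 q12047, e3 q12617 L199760 q12115, e3 q12618 L199772 q12116, e3 q12619 L204649 q13107, e3 q12620 L199785 q12118, e3 q12621 L199791 q12119, e3 q12622 L199805 q12048, e3 q12623 L199812 q12217, e3 q12624 L199820 q12049, e3 q12625 L199826 q12471, e3 q12626 L199832 q12050, e3 q12627 (flp_h L204524) q13094, e3 q12628 (flp_h L204596) q13100, e3 q12629 (flp_h L204610) q13102, e3 q12630 (flp_h L204691) q13110, e3 q12631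 (flp_h L204709) q13112, e3 q12632 L199903 q12097, e3 q12633 L199911 q12053, e3 q12634 L199923 q12054, e3 q12635 (flp_h L204772) q13118, e3 q12636 L199953 q12059, e3 q12637 L199964 q12246, e3 q12638 L199972 q12060, e3 q12639 L199986 q12061, e3 q12640 (flp_h L204797) q13120, e3 q12641 (flp_h L204819) q13122, e3 q12642 L200026 q12070, e3 q12643 L200040 q12071, e3 q12644 (flp_h L200942) q12740, e3 q12645 L200056 q12073, e3 q12646 L200068 q12074, e3 q12647 L200080 q12072, e3 q12648 L200086 q12075, e3 q12649 L200092 q12076, e3 q12650 (flp_h L204849) q13124, e3 q12651 (flp_h L204861) q13125, e3 q12652 (flp_h L204891) q13128, e3 q12653 (flp_h L204879) q13127, e3 q12654 (flp_h L204899) q13129, e3 q12655 L200166 q12082, e3 q12656 L200178 q12325, e3 q12657 L200190 q12326, e3 q12658 (flp_h L203213) q12982, e3 q12659 L200207 q12083, e3 q12660 L200213 q12084, e3 q12661 (flp_h L204943) q13132, e3 q12662 (flp_h L204994) q13137, e3 q12663 L200249 q12347, e3 q12664 L200259 q12348, e3 q12665 L200275 q12100,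 e3 q12666 L200283 q12101, e3 q12667 (flp_h L202238) q12873, e3 q12668 (flp_h L202252) q12874, e3 q12669 L205105 q13148, e3 q12670 L200314 q12103, e3 q12671 L200324 q12104, trivial⟩ (by decide +kernel)

theorem ce_h_198 : ∀ r, r < 64 → sm gh (Qf (12672 + r)) = Qf (tab Gen.h (12672 + r)) :=
  edges_tab (sm gh) Qf (tab Gen.h) 12672 [(12672, 12225), (12673, 13091), (12674, 13088), (12675, 13089), (12676, 12158), (12677, 12105), (12678, 13117), (12679, 12106), (12680, 13142), (12681, 13143), (12682, 13161), (12683, 12102), (12684, 13149), (12685, 13156), (12686, 12364), (12687, 12125), (12688, 13095), (12689, 13097), (12690, 13098), (12691, 12126), (12692, 12127), (12693, 13103), (12694, 13170), (12695, 13105), (12696, 13173), (12697, 12117), (12698, 13108), (12699, 12491), (12700, 12128), (12701, 12454), (12702, 12493), (12703, 12129), (12704, 12495), (12705, 13165), (12706, 13176), (12707, 13180), (12708, 12823), (12709, 12132), (12710, 12453), (12711, 12424), (12712, 12552), (12713, 12556),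 (12714, 12173), (12715, 13119), (12716, 12174), (12717, 12175), (12718, 12370), (12719, 12824), (12720, 12825), (12721, 13099), (12722, 12176), (12723, 12177), (12724, 12353), (12725, 12733), (12726, 12391), (12727, 12455), (12728, 13154), (12729, 12974), (12730, 12975), (12731, 13155), (12732, 12180), (12733, 12725), (12734, 12169), (12735, 12172)]
    ⟨e3 q12672 L200332 q12225, e3 q12673 (flp_h L204500) q13091, e3 q12674 (flp_h L204461) q13088, e3 q12675 (flp_h L204473) q13089, e3 q12676 L200358 q12158, e3 q12677 L200366 q12105, e3 q12678 (flp_h L204760) q13117, e3 q12679 L200376 q12106, e3 q12680 (flp_h L205054) q13142, e3 q12681 (flp_h L205066) q13143, e3 q12682 L205217 q13161, e3 q12683 (flp_h L200420) q12102, e3 q12684 (flp_h L205122) q13149, e3 q12685 (flp_h L205176) q13156, e3 q12686 L200452 q12364, e3 q12687 L200456 q12125, e3 q12688 (flp_h L204540) q13095, e3 q12689 (flp_h L204559) q13097, e3 q12690 (flp_h L204571) q13098, e3 q12691 L200490 q12126, e3 q12692 L200500 q12127, e3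 q12693 (flp_h L204622) q13103, e3 q12694 L205311 q13170, e3 q12695 (flp_h L204639) q13105, e3 q12696 L205339 q13173, e3 q12697 (flp_h L200534) q12117, e3 q12698 (flp_h L204666) q13108, e3 q12699 L200558 q12491, e3 q12700 L200564 q12128, e3 q12701 L200572 q12454, e3 q12702 L200582 q12493, e3 q12703 L200588 q12129, e3 q12704 L200594 q12495, e3 q12705 (flp_h L205269) q13165, e3 q12706 (flp_h L205371) q13176, e3 q12707 L205406 q13180, e3 q12708 (flp_h L201792) q12823, e3 q12709 (flp_h L200637) q12132, e3 q12710 L200652 q12453, e3 q12711 L200668 q12424, e3 q12712 L200680 q12552, e3 q12713 L200696 q12556, e3 q12714 L200708 q12173, e3 q12715 (flp_h L204787) q13119, e3 q12716 L200729 q12174, e3 q12717 L200737 q12175, e3 q12718 L200749 q12370, e3 q12719 (flp_h L201806) q12824, e3 q12720 (flp_h L201818) q12825, e3 q12721 (flp_h L204586) q13099, e3 q12722 L200790 q12176, e3 q12723 L200800 q12177, e3 q12724 L200814 q12353, e3 q12725 (flp_h L200882) q12733, e3 q12726 L200837 q12391, e3 q12727 L200847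 q12455, e3 q12728 (flp_h L205156) q13154, e3 q12729 (flp_h L203130) q12974, e3 q12730 (flp_h L203142) q12975, e3 q12731 (flp_h L205168) q13155, e3 q12732 L200872 q12180, e3 q12733 L200882 q12725, e3 q12734 L200894 q12169, e3 q12735 L200904 q12172, trivial⟩ (by decide +kernel)

theorem ce_h_199 : ∀ r, r < 64 → sm gh (Qf (12736 + r)) = Qf (tab Gen.h (12736 + r)) :=
  edges_tab (sm gh) Qf (tab Gen.h) 12736 [(12736, 12291), (12737, 13199), (12738, 12837), (12739, 12838), (12740, 12644), (12741, 12892), (12742, 12894), (12743, 12289), (12744, 13182), (12745, 13187), (12746, 12179), (12747, 12773), (12748, 12228), (12749, 12186), (12750, 12233), (12751, 12465), (12752, 12189), (12753, 12190), (12754, 13209), (12755, 13082), (12756, 12193), (12757, 12194), (12758, 13211), (12759, 13212), (12760, 12195), (12761, 13017), (12762, 12201), (12763, 12368), (12764, 12485), (12765, 12822), (12766, 13109), (12767, 12206), (12768, 12207), (12769, 13218), (12770, 12479), (12771, 12563), (12772, 12478), (12773,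 12747), (12774, 13014), (12775, 12220), (12776, 12221), (12777, 13228), (12778, 12487), (12779, 13076), (12780, 13111), (12781, 12222), (12782, 13226), (12783, 12223), (12784, 13151), (12785, 12995), (12786, 12236), (12787, 13207), (12788, 12237), (12789, 12812), (12790, 12330), (12791, 12259), (12792, 12553), (12793, 13045), (12794, 12249), (12795, 12250), (12796, 12614), (12797, 12523), (12798, 12524), (12799, 13121)]
    ⟨e3 q12736 L200912 q12291, e3 q12737 (flp_h L205599) q13199, e3 q12738 (flp_h L201910) q12837, e3 q12739 (flp_h L201920) q12838, e3 q12740 L200942 q12644, e3 q12741 (flp_h L202438) q12892, e3 q12742 (flp_h L202462) q12894, e3 q12743 L200972 q12289, e3 q12744 (flp_h L205435) q13182, e3 q12745 (flp_h L205488) q13187, e3 q12746 L201002 q12179, e3 q12747 (flp_h L201299) q12773, e3 q12748 L201026 q12228, e3 q12749 L201040 q12186, e3 q12750 L201048 q12233, e3 q12751 L201061 q12465, e3 q12752 L201069 q12189, e3 q12753 L201077 q12190, e3 q12754 (flp_h L205703) q13209, e3 q12755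 (flp_h L204393) q13082, e3 q12756 L201106 q12193, e3 q12757 L201114 q12194, e3 q12758 (flp_h L205721) q13211, e3 q12759 L205725 q13212, e3 q12760 (flp_h L201142) q12195, e3 q12761 (flp_h L203548) q13017, e3 q12762 L201174 q12201, e3 q12763 L201182 q12368, e3 q12764 L201196 q12485, e3 q12765 (flp_h L201778) q12822, e3 q12766 (flp_h L204681) q13109, e3 q12767 L201227 q12206, e3 q12768 L201237 q12207, e3 q12769 (flp_h L205802) q13218, e3 q12770 L201259 q12479, e3 q12771 L201271 q12563, e3 q12772 L201287 q12478, e3 q12773 L201299 q12747, e3 q12774 (flp_h L203506) q13014, e3 q12775 L201316 q12220, e3 q12776 L201326 q12221, e3 q12777 L205916 q13228, e3 q12778 L201341 q12487, e3 q12779 (flp_h L204318) q13076, e3 q12780 (flp_h L204701) q13111, e3 q12781 L201363 q12222, e3 q12782 (flp_h L205906) q13226, e3 q12783 (flp_h L201375) q12223, e3 q12784 (flp_h L205137) q13151, e3 q12785 (flp_h L203312) q12995, e3 q12786 L201393 q12236, e3 q12787 (flp_h L205681) q13207, e3 q12788 L201423 q12237, e3 q12789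 (flp_h L201688) q12812, e3 q12790 L201445 q12330, e3 q12791 L201461 q12259, e3 q12792 L201473 q12553, e3 q12793 (flp_h L203924) q13045, e3 q12794 L201488 q12249, e3 q12795 L201500 q12250, e3 q12796 L201517 q12614, e3 q12797 L201527 q12523, e3 q12798 L201543 q12524, e3 q12799 (flp_h L204809) q13121, trivial⟩ (by decide +kernel)

theorem ce_h_200 : ∀ r, r < 64 → sm gh (Qf (12800 + r)) = Qf (tab Gen.h (12800 + r)) :=
  edges_tab (sm gh) Qf (tab Gen.h) 12800 [(12800, 12251), (12801, 13235), (12802, 12475), (12803, 12522), (12804, 12956), (12805, 12957), (12806, 12959), (12807, 12261), (12808, 13242), (12809, 12269), (12810, 12437), (12811, 12426), (12812, 12789), (12813, 12270), (12814, 12271), (12815, 13048), (12816, 12272), (12817, 12273), (12818, 13243), (12819, 13249), (12820, 13251), (12821, 13253), (12822, 12765), (12823, 12708), (12824, 12719), (12825, 12720), (12826, 12290), (12827, 13200), (12828, 12292), (12829, 12293), (12830, 12964), (12831, 12965), (12832, 12967), (12833, 12968),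 (12834, 12294), (12835, 12295), (12836, 12296), (12837, 12738), (12838, 12739), (12839, 13260), (12840, 13201), (12841, 13262), (12842, 13266), (12843, 13267), (12844, 12337), (12845, 12338), (12846, 12339), (12847, 12302), (12848, 13037), (12849, 12303), (12850, 12304), (12851, 13277), (12852, 13279), (12853, 12590), (12854, 12875), (12855, 12350), (12856, 13276), (12857, 12315), (12858, 12316), (12859, 13188), (12860, 12354), (12861, 12355), (12862, 13084), (12863, 12317)]
    ⟨e3 q12800 L201559 q12251, e3 q12801 (flp_h L205974) q13235, e3 q12802 L201575 q12475, e3 q12803 L201587 q12522, e3 q12804 (flp_h L202972) q12956, e3 q12805 (flp_h L202980) q12957, e3 q12806 (flp_h L203000) q12959, e3 q12807 L201633 q12261, e3 q12808 (flp_h L206049) q13242, e3 q12809 L201649 q12269, e3 q12810 L201662 q12437, e3 q12811 L201676 q12426, e3 q12812 L201688 q12789, e3 q12813 L201701 q12270, e3 q12814 L201711 q12271, e3 q12815 (flp_h L203961) q13048, e3 q12816 L201724 q12272, e3 q12817 L201732 q12273, e3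 q12818 (flp_h L206059) q13243, e3 q12819 (flp_h L206141) q13249, e3 q12820 (flp_h L206160) q13251, e3 q12821 (flp_h L206172) q13253, e3 q12822 L201778 q12765, e3 q12823 L201792 q12708, e3 q12824 L201806 q12719, e3 q12825 L201818 q12720, e3 q12826 L201830 q12290, e3 q12827 (flp_h L205613) q13200, e3 q12828 L201844 q12292, e3 q12829 L201852 q12293, e3 q12830 (flp_h L203054) q12964, e3 q12831 (flp_h L203064) q12965, e3 q12832 (flp_h L203079) q12967, e3 q12833 (flp_h L203087) q12968, e3 q12834 L201888 q12294, e3 q12835 L201896 q12295, e3 q12836 L201902 q12296, e3 q12837 L201910 q12738, e3 q12838 L201920 q12739, e3 q12839 (flp_h L206252) q13260, e3 q12840 (flp_h L205619) q13201, e3 q12841 (flp_h L206270) q13262, e3 q12842 (flp_h L206304) q13266, e3 q12843 (flp_h L206310) q13267, e3 q12844 L201959 q12337, e3 q12845 L201975 q12338, e3 q12846 L201987 q12339, e3 q12847 L202001 q12302, e3 q12848 (flp_h L203805) q13037, e3 q12849 L202016 q12303, e3 q12850 L202022 q12304, e3 q12851 (flp_h L206414) q13277,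 e3 q12852 (flp_h L206430) q13279, e3 q12853 L202058 q12590, e3 q12854 (flp_h L202266) q12875, e3 q12855 L202080 q12350, e3 q12856 (flp_h L206404) q13276, e3 q12857 L202093 q12315, e3 q12858 L202103 q12316, e3 q12859 (flp_h L205505) q13188, e3 q12860 L202116 q12354, e3 q12861 L202124 q12355, e3 q12862 (flp_h L204411) q13084, e3 q12863 L202138 q12317, trivial⟩ (by decide +kernel)

theorem ce_h_201 : ∀ r, r < 64 → sm gh (Qf (12864 + r)) = Qf (tab Gen.h (12864 + r)) :=
  edges_tab (sm gh) Qf (tab Gen.h) 12864 [(12864, 13286), (12865, 13092), (12866, 13093), (12867, 12324), (12868, 12366), (12869, 13134), (12870, 13135), (12871, 12331), (12872, 13067), (12873, 12667), (12874, 12668), (12875, 12854), (12876, 12343), (12877, 12344), (12878, 13272), (12879, 13274), (12880, 13275), (12881, 12345), (12882, 12346), (12883, 13296), (12884, 13299), (12885, 13139), (12886, 13140), (12887, 12360), (12888, 13284), (12889, 12361), (12890, 13189), (12891, 13288), (12892, 12741), (12893, 12362), (12894, 12742),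 (12895, 12947), (12896, 12909), (12897, 12910), (12898, 13307), (12899, 12912), (12900, 12913), (12901, 13311), (12902, 12376), (12903, 12394), (12904, 12385), (12905, 12386), (12906, 13025), (12907, 12387), (12908, 12388), (12909, 12896), (12910, 12897), (12911, 13191), (12912, 12899), (12913, 12900), (12914, 13313), (12915, 13315), (12916, 13317), (12917, 13179), (12918, 13325), (12919, 12392), (12920, 12418), (12921, 12425), (12922, 13246), (12923, 12427), (12924, 12428), (12925, 13051), (12926, 12402), (12927, 13053)]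
    ⟨e3 q12864 (flp_h L206511) q13286, e3 q12865 (flp_h L204506) q13092, e3 q12866 (flp_h L204514) q13093, e3 q12867 L202168 q12324, e3 q12868 L202180 q12366, e3 q12869 (flp_h L204964) q13134, e3 q12870 (flp_h L204976) q13135, e3 q12871 L202210 q12331, e3 q12872 (flp_h L204212) q13067, e3 q12873 L202238 q12667, e3 q12874 L202252 q12668, e3 q12875 L202266 q12854, e3 q12876 L202280 q12343, e3 q12877 L202290 q12344, e3 q12878 (flp_h L206354) q13272, e3 q12879 (flp_h L206377) q13274, e3 q12880 (flp_h L206389) q13275, e3 q12881 L202328 q12345, e3 q12882 L202338 q12346, e3 q12883 (flp_h L206610) q13296, e3 q12884 (flp_h L206638) q13299, e3 q12885 (flp_h L205015) q13139, e3 q12886 (flp_h L205029) q13140, e3 q12887 L202384 q12360, e3 q12888 (flp_h L206495) q13284, e3 q12889 L202412 q12361, e3 q12890 (flp_h L205513) q13189, e3 q12891 (flp_h L206523) q13288, e3 q12892 L202438 q12741, e3 q12893 L202450 q12362, e3 q12894 L202462 q12742, e3 q12895 (flp_h L202884) q12947, e3 q12896 (flp_h L202587) q12909,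 e3 q12897 (flp_h L202599) q12910, e3 q12898 L206713 q13307, e3 q12899 (flp_h L202619) q12912, e3 q12900 (flp_h L202635) q12913, e3 q12901 L206739 q13311, e3 q12902 (flp_h L202524) q12376, e3 q12903 L202533 q12394, e3 q12904 L202542 q12385, e3 q12905 L202550 q12386, e3 q12906 (flp_h L203643) q13025, e3 q12907 L202565 q12387, e3 q12908 L202577 q12388, e3 q12909 L202587 q12896, e3 q12910 L202599 q12897, e3 q12911 (flp_h L205539) q13191, e3 q12912 L202619 q12899, e3 q12913 L202635 q12900, e3 q12914 (flp_h L206760) q13313, e3 q12915 (flp_h L206771) q13315, e3 q12916 (flp_h L206791) q13317, e3 q12917 L205404 q13179, e3 q12918 L206867 q13325, e3 q12919 (flp_h L202679) q12392, e3 q12920 L202689 q12418, e3 q12921 L202695 q12425, e3 q12922 (flp_h L206103) q13246, e3 q12923 L202712 q12427, e3 q12924 L202720 q12428, e3 q12925 (flp_h L203996) q13051, e3 q12926 L202733 q12402, e3 q12927 (flp_h L204016) q13053, trivial⟩ (by decide +kernel)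

theorem ce_h_202 : ∀ r, r < 64 → sm gh (Qf (12928 + r)) = Qf (tab Gen.h (12928 + r)) :=
  edges_tab (sm gh) Qf (tab Gen.h) 12928 [(12928, 12403), (12929, 13333), (12930, 13028), (12931, 13339), (12932, 13030), (12933, 13031), (12934, 13141), (12935, 12411), (12936, 13345), (12937, 12408), (12938, 12414), (12939, 13342), (12940, 13347), (12941, 12412), (12942, 13032), (12943, 13349), (12944, 12415), (12945, 12416), (12946, 13326), (12947, 12895), (12948, 13019), (12949, 13020), (12950, 12434), (12951, 13162), (12952, 13245), (12953, 13328), (12954, 13247), (12955, 13330), (12956, 12804), (12957, 12805), (12958, 12435), (12959, 12806), (12960, 13244), (12961, 13192), (12962, 12456), (12963, 12457), (12964, 12830), (12965, 12831), (12966, 13273), (12967, 12832), (12968, 12833), (12969, 12458), (12970, 13072), (12971, 12459), (12972, 13074), (12973, 12460), (12974, 12729), (12975, 12730), (12976, 13174), (12977, 13177), (12978, 13193), (12979, 13360), (12980, 13367), (12981, 13369), (12982,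 12658), (12983, 12549), (12984, 12550), (12985, 13219), (12986, 12480), (12987, 12481), (12988, 13208), (12989, 12473), (12990, 13385), (12991, 12468)]
    ⟨e3 q12928 L202747 q12403, e3 q12929 (flp_h L206931) q13333, e3 q12930 (flp_h L203683) q13028, e3 q12931 L206967 q13339, e3 q12932 (flp_h L203705) q13030, e3 q12933 (flp_h L203721) q13031, e3 q12934 (flp_h L205044) q13141, e3 q12935 L202795 q12411, e3 q12936 L207003 q13345, e3 q12937 (flp_h L202803) q12408, e3 q12938 L202814 q12414, e3 q12939 (flp_h L206990) q13342, e3 q12940 L207020 q13347, e3 q12941 (flp_h L202828) q12412, e3 q12942 (flp_h L203735) q13032, e3 q12943 L207034 q13349, e3 q12944 (flp_h L202850) q12415, e3 q12945 (flp_h L202860) q12416, e3 q12946 (flp_h L206877) q13326, e3 q12947 L202884 q12895, e3 q12948 (flp_h L203569) q13019, e3 q12949 (flp_h L203585) q13020, e3 q12950 L202916 q12434, e3 q12951 (flp_h L205241) q13162, e3 q12952 (flp_h L206088) q13245, e3 q12953 (flp_h L206890) q13328, e3 q12954 (flp_h L206111) q13247,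 e3 q12955 (flp_h L206908) q13330, e3 q12956 L202972 q12804, e3 q12957 L202980 q12805, e3 q12958 L202988 q12435, e3 q12959 L203000 q12806, e3 q12960 (flp_h L206074) q13244, e3 q12961 (flp_h L205550) q13192, e3 q12962 L203031 q12456, e3 q12963 L203045 q12457, e3 q12964 L203054 q12830, e3 q12965 L203064 q12831, e3 q12966 (flp_h L206369) q13273, e3 q12967 L203079 q12832, e3 q12968 L203087 q12833, e3 q12969 L203097 q12458, e3 q12970 (flp_h L204282) q13072, e3 q12971 L203112 q12459, e3 q12972 (flp_h L204302) q13074, e3 q12973 L203124 q12460, e3 q12974 L203130 q12729, e3 q12975 L203142 q12730, e3 q12976 (flp_h L205355) q13174, e3 q12977 (flp_h L205379) q13177, e3 q12978 (flp_h L205558) q13193, e3 q12979 (flp_h L207156) q13360, e3 q12980 (flp_h L207222) q13367, e3 q12981 (flp_h L207238) q13369, e3 q12982 L203213 q12658, e3 q12983 L203223 q12549, e3 q12984 L203237 q12550, e3 q12985 (flp_h L205817) q13219, e3 q12986 L203250 q12480, e3 q12987 L203260 q12481, e3 q12988 (flp_h L205695) q13208, e3 q12989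 L203274 q12473, e3 q12990 L207367 q13385, e3 q12991 (flp_h L203282) q12468, trivial⟩ (by decide +kernel)

theorem ce_h_203 : ∀ r, r < 64 → sm gh (Qf (12992 + r)) = Qf (tab Gen.h (12992 + r)) :=
  edges_tab (sm gh) Qf (tab Gen.h) 12992 [(12992, 12490), (12993, 13113), (12994, 13114), (12995, 12785), (12996, 12496), (12997, 13223), (12998, 13220), (12999, 13380), (13000, 12497), (13001, 12571), (13002, 13390), (13003, 13215), (13004, 13393), (13005, 12486), (13006, 13229), (13007, 13394), (13008, 12488), (13009, 13175), (13010, 12500), (13011, 13178), (13012, 12498), (13013, 12501), (13014, 12774), (13015, 12529), (13016, 12530), (13017, 12761), (13018, 13096), (13019, 12948), (13020, 12949), (13021, 13404), (13022, 12508), (13023, 12535), (13024, 12518), (13025, 12906), (13026, 12519), (13027, 12520), (13028, 12930), (13029, 13411), (13030, 12932), (13031, 12933), (13032, 12942), (13033, 13406), (13034, 13408), (13035, 12521), (13036, 13237), (13037, 12848), (13038, 12527), (13039, 12528),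 (13040, 13416), (13041, 13397), (13042, 12532), (13043, 13417), (13044, 12533), (13045, 12793), (13046, 12544), (13047, 12545), (13048, 12815), (13049, 12565), (13050, 12566), (13051, 12925), (13052, 12546), (13053, 12927), (13054, 12547), (13055, 13419)]
    ⟨e3 q12992 L203291 q12490, e3 q12993 (flp_h L204713) q13113, e3 q12994 (flp_h L204720) q13114, e3 q12995 L203312 q12785, e3 q12996 L203318 q12496, e3 q12997 (flp_h L205870) q13223, e3 q12998 (flp_h L205827) q13220, e3 q12999 (flp_h L207343) q13380, e3 q13000 L203366 q12497, e3 q13001 L203380 q12571, e3 q13002 L207419 q13390, e3 q13003 (flp_h L205768) q13215, e3 q13004 L207449 q13393, e3 q13005 (flp_h L203416) q12486, e3 q13006 (flp_h L205929) q13229, e3 q13007 L207459 q13394, e3 q13008 (flp_h L203440) q12488, e3 q13009 (flp_h L205363) q13175, e3 q13010 L203458 q12500, e3 q13011 (flp_h L205389) q13178, e3 q13012 (flp_h L203466) q12498, e3 q13013 (flp_h L203484) q12501, e3 q13014 L203506 q12774, e3 q13015 L203516 q12529, e3 q13016 L203532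 q12530, e3 q13017 L203548 q12761, e3 q13018 (flp_h L204553) q13096, e3 q13019 L203569 q12948, e3 q13020 L203585 q12949, e3 q13021 L207567 q13404, e3 q13022 (flp_h L203597) q12508, e3 q13023 L203616 q12535, e3 q13024 L203628 q12518, e3 q13025 L203643 q12906, e3 q13026 L203651 q12519, e3 q13027 L203667 q12520, e3 q13028 L203683 q12930, e3 q13029 L207656 q13411, e3 q13030 L203705 q12932, e3 q13031 L203721 q12933, e3 q13032 L203735 q12942, e3 q13033 (flp_h L207598) q13406, e3 q13034 (flp_h L207624) q13408, e3 q13035 (flp_h L203761) q12521, e3 q13036 (flp_h L206002) q13237, e3 q13037 L203805 q12848, e3 q13038 L203815 q12527, e3 q13039 L203831 q12528, e3 q13040 (flp_h L207736) q13416, e3 q13041 (flp_h L207497) q13397, e3 q13042 L203881 q12532, e3 q13043 L207742 q13417, e3 q13044 (flp_h L203903) q12533, e3 q13045 L203924 q12793, e3 q13046 L203934 q12544, e3 q13047 L203946 q12545, e3 q13048 L203961 q12815, e3 q13049 L203969 q12565, e3 q13050 L203981 q12566, e3 q13051 L203996 q12925, e3 q13052 L204006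 q12546, e3 q13053 L204016 q12927, e3 q13054 L204024 q12547, e3 q13055 (flp_h L207776) q13419, trivial⟩ (by decide +kernel)

theorem ce_h_204 : ∀ r, r < 64 → sm gh (Qf (13056 + r)) = Qf (tab Gen.h (13056 + r)) :=
  edges_tab (sm gh) Qf (tab Gen.h) 13056 [(13056, 13423), (13057, 13378), (13058, 12555), (13059, 12559), (13060, 12560), (13061, 12570), (13062, 13221), (13063, 13421), (13064, 12572), (13065, 12573), (13066, 13426), (13067, 12872), (13068, 12579), (13069, 13428), (13070, 12588), (13071, 12589), (13072, 12970), (13073, 12591), (13074, 12972), (13075, 12592), (13076, 12779), (13077, 13435), (13078, 12587), (13079, 13429), (13080, 13282), (13081, 13431), (13082, 12755), (13083, 12598), (13084, 12862), (13085, 12599), (13086, 13438), (13087, 12605), (13088, 12674), (13089, 12675), (13090, 12606), (13091, 12673), (13092, 12865), (13093, 12866), (13094, 12627), (13095, 12688), (13096, 13018), (13097, 12689), (13098, 12690), (13099, 12721), (13100, 12628), (13101, 13236), (13102, 12629),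 (13103, 12693), (13104, 13456), (13105, 12695), (13106, 13460), (13107, 12619), (13108, 12698), (13109, 12766), (13110, 12630), (13111, 12780), (13112, 12631), (13113, 12993), (13114, 12994), (13115, 13450), (13116, 13462), (13117, 12678), (13118, 12635), (13119, 12715)]
    ⟨e3 q13056 (flp_h L207824) q13423, e3 q13057 (flp_h L207327) q13378, e3 q13058 L204086 q12555, e3 q13059 L204102 q12559, e3 q13060 (flp_h L204108) q12560, e3 q13061 L204132 q12570, e3 q13062 (flp_h L205843) q13221, e3 q13063 (flp_h L207798) q13421, e3 q13064 L204168 q12572, e3 q13065 L204180 q12573, e3 q13066 (flp_h L207853) q13426, e3 q13067 L204212 q12872, e3 q13068 L204230 q12579, e3 q13069 L207867 q13428, e3 q13070 L204255 q12588, e3 q13071 L204269 q12589, e3 q13072 L204282 q12970, e3 q13073 L204290 q12591, e3 q13074 L204302 q12972, e3 q13075 L204308 q12592, e3 q13076 L204318 q12779, e3 q13077 L207947 q13435, e3 q13078 (flp_h L204336) q12587, e3 q13079 (flp_h L207890) q13429, e3 q13080 (flp_h L206467) q13282, e3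 q13081 (flp_h L207914) q13431, e3 q13082 L204393 q12755, e3 q13083 L204403 q12598, e3 q13084 L204411 q12862, e3 q13085 L204419 q12599, e3 q13086 (flp_h L207991) q13438, e3 q13087 L204447 q12605, e3 q13088 L204461 q12674, e3 q13089 L204473 q12675, e3 q13090 L204489 q12606, e3 q13091 L204500 q12673, e3 q13092 L204506 q12865, e3 q13093 L204514 q12866, e3 q13094 L204524 q12627, e3 q13095 L204540 q12688, e3 q13096 L204553 q13018, e3 q13097 L204559 q12689, e3 q13098 L204571 q12690, e3 q13099 L204586 q12721, e3 q13100 L204596 q12628, e3 q13101 (flp_h L205988) q13236, e3 q13102 L204610 q12629, e3 q13103 L204622 q12693, e3 q13104 L208172 q13456, e3 q13105 L204639 q12695, e3 q13106 L208204 q13460, e3 q13107 (flp_h L204649) q12619, e3 q13108 L204666 q12698, e3 q13109 L204681 q12766, e3 q13110 L204691 q12630, e3 q13111 L204701 q12780, e3 q13112 L204709 q12631, e3 q13113 L204713 q12993, e3 q13114 L204720 q12994, e3 q13115 (flp_h L208124) q13450, e3 q13116 (flp_h L208238) q13462, e3 q13117 L204760 q12678,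 e3 q13118 L204772 q12635, e3 q13119 L204787 q12715, trivial⟩ (by decide +kernel)

theorem ce_h_205 : ∀ r, r < 64 → sm gh (Qf (13120 + r)) = Qf (tab Gen.h (13120 + r)) :=
  edges_tab (sm gh) Qf (tab Gen.h) 13120 [(13120, 12640), (13121, 12799), (13122, 12641), (13123, 13469), (13124, 12650), (13125, 12651), (13126, 13204), (13127, 12653), (13128, 12652), (13129, 12654), (13130, 13472), (13131, 13474), (13132, 12661), (13133, 13222), (13134, 12869), (13135, 12870), (13136, 13377), (13137, 12662), (13138, 13250), (13139, 12885), (13140, 12886), (13141, 12934), (13142, 12680), (13143, 12681), (13144, 13331), (13145, 13293), (13146, 13294), (13147, 13487), (13148, 12669), (13149, 12684), (13150, 13312), (13151, 12784), (13152, 13442), (13153, 13441), (13154, 12728), (13155, 12731), (13156, 12685), (13157, 13466), (13158, 13467), (13159, 13482), (13160, 13498), (13161, 12682), (13162, 12951), (13163, 13445), (13164, 13447), (13165, 12705), (13166, 13503), (13167, 13454), (13168, 13257), (13169,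 13507), (13170, 12694), (13171, 13457), (13172, 13508), (13173, 12696), (13174, 12976), (13175, 13009), (13176, 12706), (13177, 12977), (13178, 13011), (13179, 12917), (13180, 12707), (13181, 13468), (13182, 12744), (13183, 13448)]
    ⟨e3 q13120 L204797 q12640, e3 q13121 L204809 q12799, e3 q13122 L204819 q12641, e3 q13123 (flp_h L208306) q13469, e3 q13124 L204849 q12650, e3 q13125 L204861 q12651, e3 q13126 (flp_h L205647) q13204, e3 q13127 L204879 q12653, e3 q13128 L204891 q12652, e3 q13129 L204899 q12654, e3 q13130 (flp_h L208343) q13472, e3 q13131 (flp_h L208365) q13474, e3 q13132 L204943 q12661, e3 q13133 (flp_h L205860) q13222, e3 q13134 L204964 q12869, e3 q13135 L204976 q12870, e3 q13136 (flp_h L207315) q13377, e3 q13137 L204994 q12662, e3 q13138 (flp_h L206152) q13250, e3 q13139 L205015 q12885, e3 q13140 L205029 q12886, e3 q13141 L205044 q12934, e3 q13142 L205054 q12680, e3 q13143 L205066 q12681, e3 q13144 (flp_h L206917) q13331, e3 q13145 (flp_h L206564) q13293, e3 q13146 (flp_h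 L206580) q13294, e3 q13147 L208483 q13487, e3 q13148 (flp_h L205105) q12669, e3 q13149 L205122 q12684, e3 q13150 (flp_h L206752) q13312, e3 q13151 L205137 q12784, e3 q13152 (flp_h L208032) q13442, e3 q13153 (flp_h L208020) q13441, e3 q13154 L205156 q12728, e3 q13155 L205168 q12731, e3 q13156 L205176 q12685, e3 q13157 (flp_h L208267) q13466, e3 q13158 (flp_h L208280) q13467, e3 q13159 (flp_h L208450) q13482, e3 q13160 L208573 q13498, e3 q13161 (flp_h L205217) q12682, e3 q13162 L205241 q12951, e3 q13163 (flp_h L208065) q13445, e3 q13164 (flp_h L208087) q13447, e3 q13165 L205269 q12705, e3 q13166 L208637 q13503, e3 q13167 (flp_h L208158) q13454, e3 q13168 (flp_h L206216) q13257, e3 q13169 L208679 q13507, e3 q13170 (flp_h L205311) q12694, e3 q13171 (flp_h L208189) q13457, e3 q13172 L208687 q13508, e3 q13173 (flp_h L205339) q12696, e3 q13174 L205355 q12976, e3 q13175 L205363 q13009, e3 q13176 L205371 q12706, e3 q13177 L205379 q12977, e3 q13178 L205389 q13011, e3 q13179 (flp_h L205404) q12917,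 e3 q13180 (flp_h L205406) q12707, e3 q13181 (flp_h L208294) q13468, e3 q13182 L205435 q12744, e3 q13183 (flp_h L208100) q13448, trivial⟩ (by decide +kernel)

theorem ce_h_206 : ∀ r, r < 64 → sm gh (Qf (13184 + r)) = Qf (tab Gen.h (13184 + r)) :=
  edges_tab (sm gh) Qf (tab Gen.h) 13184 [(13184, 13258), (13185, 13259), (13186, 13449), (13187, 12745), (13188, 12859), (13189, 12890), (13190, 13198), (13191, 12911), (13192, 12961), (13193, 12978), (13194, 13494), (13195, 13372), (13196, 13495), (13197, 13496), (13198, 13190), (13199, 12737), (13200, 12827), (13201, 12840), (13202, 13526), (13203, 13268), (13204, 13126), (13205, 13302), (13206, 13224), (13207, 12787), (13208, 12988), (13209, 12754), (13210, 13437), (13211, 12758), (13212, 12759), (13213, 13399), (13214, 13537), (13215, 13003), (13216, 13256), (13217, 13461), (13218, 12769), (13219, 12985), (13220, 12998), (13221, 13062), (13222, 13133), (13223, 12997), (13224, 13206), (13225, 13396), (13226, 12782), (13227, 13549), (13228, 12777),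 (13229, 13006), (13230, 13463), (13231, 13464), (13232, 13491), (13233, 13248), (13234, 13418), (13235, 12801), (13236, 13101), (13237, 13036), (13238, 13470), (13239, 13471), (13240, 13350), (13241, 13358), (13242, 12808), (13243, 12818), (13244, 12960), (13245, 12952), (13246, 12922), (13247, 12954)]
    ⟨e3 q13184 (flp_h L206226) q13258, e3 q13185 (flp_h L206242) q13259, e3 q13186 (flp_h L208112) q13449, e3 q13187 L205488 q12745, e3 q13188 L205505 q12859, e3 q13189 L205513 q12890, e3 q13190 (flp_h L205587) q13198, e3 q13191 L205539 q12911, e3 q13192 L205550 q12961, e3 q13193 L205558 q12978, e3 q13194 (flp_h L208552) q13494, e3 q13195 (flp_h L207257) q13372, e3 q13196 (flp_h L208558) q13495, e3 q13197 (flp_h L208567) q13496, e3 q13198 L205587 q13190, e3 q13199 L205599 q12737, e3 q13200 L205613 q12827, e3 q13201 L205619 q12840, e3 q13202 (flp_h L208860) q13526, e3 q13203 (flp_h L206320) q13268, e3 q13204 L205647 q13126, e3 q13205 (flp_h L206676) q13302, e3 q13206 (flp_h L205886) q13224,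 e3 q13207 L205681 q12787, e3 q13208 L205695 q12988, e3 q13209 L205703 q12754, e3 q13210 (flp_h L207979) q13437, e3 q13211 L205721 q12758, e3 q13212 (flp_h L205725) q12759, e3 q13213 (flp_h L207524) q13399, e3 q13214 L208964 q13537, e3 q13215 L205768 q13003, e3 q13216 (flp_h L206202) q13256, e3 q13217 (flp_h L208226) q13461, e3 q13218 L205802 q12769, e3 q13219 L205817 q12985, e3 q13220 L205827 q12998, e3 q13221 L205843 q13062, e3 q13222 L205860 q13133, e3 q13223 L205870 q12997, e3 q13224 L205886 q13206, e3 q13225 (flp_h L207483) q13396, e3 q13226 L205906 q12782, e3 q13227 L209092 q13549, e3 q13228 (flp_h L205916) q12777, e3 q13229 L205929 q13006, e3 q13230 (flp_h L208246) q13463, e3 q13231 (flp_h L208255) q13464, e3 q13232 (flp_h L208529) q13491, e3 q13233 (flp_h L206127) q13248, e3 q13234 (flp_h L207764) q13418, e3 q13235 L205974 q12801, e3 q13236 L205988 q13101, e3 q13237 L206002 q13036, e3 q13238 (flp_h L208316) q13470, e3 q13239 (flp_h L208329) q13471, e3 q13240 (flp_h L207054) q13350,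 e3 q13241 (flp_h L207136) q13358, e3 q13242 L206049 q12808, e3 q13243 L206059 q12818, e3 q13244 L206074 q12960, e3 q13245 L206088 q12952, e3 q13246 L206103 q12922, e3 q13247 L206111 q12954, trivial⟩ (by decide +kernel)

theorem ce_h_207 : ∀ r, r < 64 → sm gh (Qf (13248 + r)) = Qf (tab Gen.h (13248 + r)) :=
  edges_tab (sm gh) Qf (tab Gen.h) 13248 [(13248, 13233), (13249, 12819), (13250, 13138), (13251, 12820), (13252, 13420), (13253, 12821), (13254, 13562), (13255, 13564), (13256, 13216), (13257, 13168), (13258, 13184), (13259, 13185), (13260, 12839), (13261, 13527), (13262, 12841), (13263, 13361), (13264, 13363), (13265, 13365), (13266, 12842), (13267, 12843), (13268, 13203), (13269, 13570), (13270, 13528), (13271, 13574), (13272, 12878), (13273, 12966), (13274, 12879), (13275, 12880), (13276, 12856), (13277, 12851), (13278, 13415), (13279, 12852), (13280, 13580), (13281, 13366), (13282, 13080), (13283, 13295), (13284, 12888), (13285, 13579), (13286, 12864), (13287, 13518), (13288, 12891),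 (13289, 13439), (13290, 13440), (13291, 13443), (13292, 13476), (13293, 13145), (13294, 13146), (13295, 13283), (13296, 12883), (13297, 13576), (13298, 13578), (13299, 12884), (13300, 13480), (13301, 13519), (13302, 13205), (13303, 13318), (13304, 13595), (13305, 13320), (13306, 13599), (13307, 12898), (13308, 13322), (13309, 13601), (13310, 13602), (13311, 12901)]
    ⟨e3 q13248 L206127 q13233, e3 q13249 L206141 q12819, e3 q13250 L206152 q13138, e3 q13251 L206160 q12820, e3 q13252 (flp_h L207788) q13420, e3 q13253 L206172 q12821, e3 q13254 (flp_h L209241) q13562, e3 q13255 (flp_h L209259) q13564, e3 q13256 L206202 q13216, e3 q13257 L206216 q13168, e3 q13258 L206226 q13184, e3 q13259 L206242 q13185, e3 q13260 L206252 q12839, e3 q13261 (flp_h L208872) q13527, e3 q13262 L206270 q12841, e3 q13263 (flp_h L207166) q13361, e3 q13264 (flp_h L207185) q13363, e3 q13265 (flp_h L207201) q13365, e3 q13266 L206304 q12842, e3 q13267 L206310 q12843, e3 q13268 L206320 q13203, e3 q13269 (flp_h L209318) q13570,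 e3 q13270 (flp_h L208882) q13528, e3 q13271 (flp_h L209356) q13574, e3 q13272 L206354 q12878, e3 q13273 L206369 q12966, e3 q13274 L206377 q12879, e3 q13275 L206389 q12880, e3 q13276 L206404 q12856, e3 q13277 L206414 q12851, e3 q13278 (flp_h L207722) q13415, e3 q13279 L206430 q12852, e3 q13280 (flp_h L209429) q13580, e3 q13281 (flp_h L207214) q13366, e3 q13282 L206467 q13080, e3 q13283 (flp_h L206594) q13295, e3 q13284 L206495 q12888, e3 q13285 (flp_h L209417) q13579, e3 q13286 L206511 q12864, e3 q13287 (flp_h L208791) q13518, e3 q13288 L206523 q12891, e3 q13289 (flp_h L207997) q13439, e3 q13290 (flp_h L208006) q13440, e3 q13291 (flp_h L208040) q13443, e3 q13292 (flp_h L208385) q13476, e3 q13293 L206564 q13145, e3 q13294 L206580 q13146, e3 q13295 L206594 q13283, e3 q13296 L206610 q12883, e3 q13297 (flp_h L209379) q13576, e3 q13298 (flp_h L209403) q13578, e3 q13299 L206638 q12884, e3 q13300 (flp_h L208422) q13480, e3 q13301 (flp_h L208803) q13519, e3 q13302 L206676 q13205, e3 q13303 (flp_h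 L206801) q13318, e3 q13304 L209555 q13595, e3 q13305 (flp_h L206825) q13320, e3 q13306 L209593 q13599, e3 q13307 (flp_h L206713) q12898, e3 q13308 (flp_h L206849) q13322, e3 q13309 L209609 q13601, e3 q13310 L209614 q13602, e3 q13311 (flp_h L206739) q12901, trivial⟩ (by decide +kernel)

theorem ce_h_208 : ∀ r, r < 64 → sm gh (Qf (13312 + r)) = Qf (tab Gen.h (13312 + r)) :=
  edges_tab (sm gh) Qf (tab Gen.h) 13312 [(13312, 13150), (13313, 12914), (13314, 13405), (13315, 12915), (13316, 13407), (13317, 12916), (13318, 13303), (13319, 13501), (13320, 13305), (13321, 13520), (13322, 13308), (13323, 13605), (13324, 13608), (13325, 12918), (13326, 12946), (13327, 13558), (13328, 12953), (13329, 13560), (13330, 12955), (13331, 13144), (13332, 13422), (13333, 12929), (13334, 13424), (13335, 13425), (13336, 13627), (13337, 13409), (13338, 13631), (13339, 12931), (13340, 13412), (13341, 13481), (13342, 12939), (13343, 13635), (13344, 13636), (13345, 12936), (13346, 13604), (13347, 12940), (13348, 13413),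 (13349, 12943), (13350, 13240), (13351, 13499), (13352, 13616), (13353, 13401), (13354, 13557), (13355, 13559), (13356, 13619), (13357, 13561), (13358, 13241), (13359, 13521), (13360, 12979), (13361, 13263), (13362, 13575), (13363, 13264), (13364, 13577), (13365, 13265), (13366, 13281), (13367, 12980), (13368, 13430), (13369, 12981), (13370, 13432), (13371, 13433), (13372, 13195), (13373, 13509), (13374, 13511), (13375, 13522)]
    ⟨e3 q13312 L206752 q13150, e3 q13313 L206760 q12914, e3 q13314 (flp_h L207588) q13405, e3 q13315 L206771 q12915, e3 q13316 (flp_h L207612) q13407, e3 q13317 L206791 q12916, e3 q13318 L206801 q13303, e3 q13319 L208625 q13501, e3 q13320 L206825 q13305, e3 q13321 (flp_h L208815) q13520, e3 q13322 L206849 q13308, e3 q13323 (flp_h L209649) q13605, e3 q13324 (flp_h L209680) q13608, e3 q13325 (flp_h L206867) q12918, e3 q13326 L206877 q12946, e3 q13327 (flp_h L209195) q13558, e3 q13328 L206890 q12953, e3 q13329 (flp_h L209217) q13560, e3 q13330 L206908 q12955, e3 q13331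 L206917 q13144, e3 q13332 (flp_h L207812) q13422, e3 q13333 L206931 q12929, e3 q13334 (flp_h L207832) q13424, e3 q13335 (flp_h L207841) q13425, e3 q13336 L209844 q13627, e3 q13337 (flp_h L207638) q13409, e3 q13338 L209882 q13631, e3 q13339 (flp_h L206967) q12931, e3 q13340 (flp_h L207680) q13412, e3 q13341 (flp_h L208438) q13481, e3 q13342 L206990 q12939, e3 q13343 L209905 q13635, e3 q13344 L209912 q13636, e3 q13345 (flp_h L207003) q12936, e3 q13346 (flp_h L209641) q13604, e3 q13347 (flp_h L207020) q12940, e3 q13348 (flp_h L207696) q13413, e3 q13349 (flp_h L207034) q12943, e3 q13350 L207054 q13240, e3 q13351 (flp_h L208599) q13499, e3 q13352 (flp_h L209763) q13616, e3 q13353 (flp_h L207548) q13401, e3 q13354 (flp_h L209180) q13557, e3 q13355 (flp_h L209203) q13559, e3 q13356 (flp_h L209790) q13619, e3 q13357 (flp_h L209229) q13561, e3 q13358 L207136 q13241, e3 q13359 (flp_h L208825) q13521, e3 q13360 L207156 q12979, e3 q13361 L207166 q13263, e3 q13362 (flp_h L209369) q13575, e3 q13363 L207185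 q13264, e3 q13364 (flp_h L209393) q13577, e3 q13365 L207201 q13265, e3 q13366 L207214 q13281, e3 q13367 L207222 q12980, e3 q13368 (flp_h L207902) q13430, e3 q13369 L207238 q12981, e3 q13370 (flp_h L207922) q13432, e3 q13371 (flp_h L207931) q13433, e3 q13372 L207257 q13195, e3 q13373 (flp_h L208705) q13509, e3 q13374 (flp_h L208725) q13511, e3 q13375 (flp_h L208833) q13522, trivial⟩ (by decide +kernel)

theorem ce_h_209 : ∀ r, r < 64 → sm gh (Qf (13376 + r)) = Qf (tab Gen.h (13376 + r)) :=
  edges_tab (sm gh) Qf (tab Gen.h) 13376 [(13376, 13651), (13377, 13136), (13378, 13057), (13379, 13541), (13380, 12999), (13381, 13531), (13382, 13532), (13383, 13662), (13384, 13663), (13385, 12990), (13386, 13465), (13387, 13544), (13388, 13542), (13389, 13666), (13390, 13002), (13391, 13538), (13392, 13667), (13393, 13004), (13394, 13007), (13395, 13510), (13396, 13225), (13397, 13041), (13398, 13444), (13399, 13213), (13400, 13446), (13401, 13353), (13402, 13675), (13403, 13676), (13404, 13021), (13405,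 13314), (13406, 13033), (13407, 13316), (13408, 13034), (13409, 13337), (13410, 13683), (13411, 13029), (13412, 13340), (13413, 13348), (13414, 13678), (13415, 13278), (13416, 13040), (13417, 13043), (13418, 13234), (13419, 13055), (13420, 13252), (13421, 13063), (13422, 13332), (13423, 13056), (13424, 13334), (13425, 13335), (13426, 13066), (13427, 13696), (13428, 13069), (13429, 13079), (13430, 13368), (13431, 13081), (13432, 13370), (13433, 13371), (13434, 13700), (13435, 13077), (13436, 13584), (13437, 13210), (13438, 13086), (13439, 13289)]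
    ⟨e3 q13376 (flp_h L210066) q13651, e3 q13377 L207315 q13136, e3 q13378 L207327 q13057, e3 q13379 (flp_h L209016) q13541, e3 q13380 L207343 q12999, e3 q13381 (flp_h L208910) q13531, e3 q13382 (flp_h L208921) q13532, e3 q13383 L210155 q13662, e3 q13384 L210162 q13663, e3 q13385 (flp_h L207367) q12990, e3 q13386 (flp_h L208261) q13465, e3 q13387 (flp_h L209058) q13544, e3 q13388 (flp_h L209030) q13542, e3 q13389 L210183 q13666, e3 q13390 (flp_h L207419) q13002, e3 q13391 (flp_h L208983) q13538, e3 q13392 L210193 q13667, e3 q13393 (flp_h L207449) q13004, e3 q13394 (flp_h L207459) q13007, e3 q13395 (flp_h L208715) q13510, e3 q13396 L207483 q13225, e3 q13397 L207497 q13041, e3 q13398 (flp_h L208055) q13444, e3 q13399 L207524 q13213, e3 q13400 (flp_h L208077) q13446, e3 q13401 L207548 q13353, e3 q13402 L210293 q13675, e3 q13403 L210304 q13676, e3 q13404 (flp_h L207567) q13021, e3 q13405 L207588 q13314, e3 q13406 L207598 q13033, e3 q13407 L207612 q13316, e3 q13408 L207624 q13034, e3 q13409 L207638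 q13337, e3 q13410 L210401 q13683, e3 q13411 (flp_h L207656) q13029, e3 q13412 L207680 q13340, e3 q13413 L207696 q13348, e3 q13414 (flp_h L210338) q13678, e3 q13415 L207722 q13278, e3 q13416 L207736 q13040, e3 q13417 (flp_h L207742) q13043, e3 q13418 L207764 q13234, e3 q13419 L207776 q13055, e3 q13420 L207788 q13252, e3 q13421 L207798 q13063, e3 q13422 L207812 q13332, e3 q13423 L207824 q13056, e3 q13424 L207832 q13334, e3 q13425 L207841 q13335, e3 q13426 L207853 q13066, e3 q13427 L210568 q13696, e3 q13428 (flp_h L207867) q13069, e3 q13429 L207890 q13079, e3 q13430 L207902 q13368, e3 q13431 L207914 q13081, e3 q13432 L207922 q13370, e3 q13433 L207931 q13371, e3 q13434 L210609 q13700, e3 q13435 (flp_h L207947) q13077, e3 q13436 (flp_h L209464) q13584, e3 q13437 L207979 q13210, e3 q13438 L207991 q13086, e3 q13439 L207997 q13289, trivial⟩ (by decide +kernel)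

theorem ce_h_210 : ∀ r, r < 64 → sm gh (Qf (13440 + r)) = Qf (tab Gen.h (13440 + r)) :=
  edges_tab (sm gh) Qf (tab Gen.h) 13440 [(13440, 13290), (13441, 13153), (13442, 13152), (13443, 13291), (13444, 13398), (13445, 13163), (13446, 13400), (13447, 13164), (13448, 13183), (13449, 13186), (13450, 13115), (13451, 13553), (13452, 13554), (13453, 13606), (13454, 13167), (13455, 13718), (13456, 13104), (13457, 13171), (13458, 13720), (13459, 13721), (13460, 13106), (13461, 13217), (13462, 13116), (13463, 13230), (13464, 13231), (13465, 13386), (13466, 13157), (13467, 13158), (13468, 13181), (13469, 13123), (13470, 13238), (13471, 13239), (13472, 13130), (13473, 13530), (13474, 13131), (13475, 13543), (13476, 13292), (13477, 13656), (13478, 13657), (13479, 13563), (13480, 13300), (13481, 13341), (13482, 13159), (13483, 13622), (13484, 13590), (13485, 13740), (13486, 13741), (13487, 13147), (13488, 13617), (13489, 13592), (13490, 13603), (13491, 13232), (13492, 13704), (13493, 13705), (13494,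 13194), (13495, 13196), (13496, 13197), (13497, 13726), (13498, 13160), (13499, 13351), (13500, 13707), (13501, 13319), (13502, 13754), (13503, 13166)]
    ⟨e3 q13440 L208006 q13290, e3 q13441 L208020 q13153, e3 q13442 L208032 q13152, e3 q13443 L208040 q13291, e3 q13444 L208055 q13398, e3 q13445 L208065 q13163, e3 q13446 L208077 q13400, e3 q13447 L208087 q13164, e3 q13448 L208100 q13183, e3 q13449 L208112 q13186, e3 q13450 L208124 q13115, e3 q13451 (flp_h L209127) q13553, e3 q13452 (flp_h L209144) q13554, e3 q13453 (flp_h L209660) q13606, e3 q13454 L208158 q13167, e3 q13455 L210806 q13718, e3 q13456 (flp_h L208172) q13104, e3 q13457 L208189 q13171, e3 q13458 L210822 q13720, e3 q13459 L210833 q13721, e3 q13460 (flp_h L208204) q13106, e3 q13461 L208226 q13217, e3 q13462 L208238 q13116, e3 q13463 L208246 q13230, e3 q13464 L208255 q13231, e3 q13465 L208261 q13386, e3 q13466 L208267 q13157, e3 q13467 L208280 q13158, e3 q13468 L208294 q13181, e3 q13469 L208306 q13123, e3 q13470 L208316 q13238,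 e3 q13471 L208329 q13239, e3 q13472 L208343 q13130, e3 q13473 (flp_h L208900) q13530, e3 q13474 L208365 q13131, e3 q13475 (flp_h L209044) q13543, e3 q13476 L208385 q13292, e3 q13477 (flp_h L210111) q13656, e3 q13478 (flp_h L210126) q13657, e3 q13479 (flp_h L209251) q13563, e3 q13480 L208422 q13300, e3 q13481 L208438 q13341, e3 q13482 L208450 q13159, e3 q13483 (flp_h L209817) q13622, e3 q13484 (flp_h L209508) q13590, e3 q13485 L211038 q13740, e3 q13486 L211049 q13741, e3 q13487 (flp_h L208483) q13147, e3 q13488 (flp_h L209770) q13617, e3 q13489 (flp_h L209535) q13592, e3 q13490 (flp_h L209628) q13603, e3 q13491 L208529 q13232, e3 q13492 (flp_h L210658) q13704, e3 q13493 (flp_h L210669) q13705, e3 q13494 L208552 q13194, e3 q13495 L208558 q13196, e3 q13496 L208567 q13197, e3 q13497 (flp_h L210895) q13726, e3 q13498 (flp_h L208573) q13160, e3 q13499 L208599 q13351, e3 q13500 (flp_h L210695) q13707, e3 q13501 (flp_h L208625) q13319, e3 q13502 L211176 q13754, e3 q13503 (flp_h L208637) q13166,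 trivial⟩ (by decide +kernel)

theorem ce_h_211 : ∀ r, r < 64 → sm gh (Qf (13504 + r)) = Qf (tab Gen.h (13504 + r)) :=
  edges_tab (sm gh) Qf (tab Gen.h) 13504 [(13504, 13715), (13505, 13568), (13506, 13756), (13507, 13169), (13508, 13172), (13509, 13373), (13510, 13395), (13511, 13374), (13512, 13727), (13513, 13728), (13514, 13710), (13515, 13569), (13516, 13711), (13517, 13712), (13518, 13287), (13519, 13301), (13520, 13321), (13521, 13359), (13522, 13375), (13523, 13747), (13524, 13748), (13525, 13749), (13526, 13202), (13527, 13261), (13528, 13270), (13529, 13769), (13530, 13473), (13531, 13381), (13532, 13382), (13533, 13701), (13534, 13702), (13535, 13671), (13536, 13775), (13537, 13214), (13538, 13391), (13539, 13722), (13540, 13723), (13541, 13379), (13542, 13388), (13543, 13475), (13544, 13387), (13545, 13668), (13546, 13669), (13547, 13783), (13548, 13784), (13549, 13227), (13550, 13724), (13551, 13687), (13552, 13688), (13553, 13451), (13554, 13452), (13555, 13729), (13556, 13639),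 (13557, 13354), (13558, 13327), (13559, 13355), (13560, 13329), (13561, 13357), (13562, 13254), (13563, 13479), (13564, 13255), (13565, 13689), (13566, 13690), (13567, 13794)]
    ⟨e3 q13504 (flp_h L210785) q13715, e3 q13505 (flp_h L209292) q13568, e3 q13506 L211200 q13756, e3 q13507 (flp_h L208679) q13169, e3 q13508 (flp_h L208687) q13172, e3 q13509 L208705 q13373, e3 q13510 L208715 q13395, e3 q13511 L208725 q13374, e3 q13512 (flp_h L210905) q13727, e3 q13513 (flp_h L210918) q13728, e3 q13514 (flp_h L210732) q13710, e3 q13515 (flp_h L209306) q13569, e3 q13516 (flp_h L210740) q13711, e3 q13517 (flp_h L210753) q13712, e3 q13518 L208791 q13287, e3 q13519 L208803 q13301, e3 q13520 L208815 q13321, e3 q13521 L208825 q13359, e3 q13522 L208833 q13375, e3 q13523 (flp_h L211108) q13747, e3 q13524 (flp_h L211121) q13748, e3 q13525 (flp_h L211129) q13749, e3 q13526 L208860 q13202, e3 q13527 L208872 q13261, e3 q13528 L208882 q13270, e3 q13529 (flp_h L211336) q13769, e3 q13530 L208900 q13473, e3 q13531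 L208910 q13381, e3 q13532 L208921 q13382, e3 q13533 (flp_h L210629) q13701, e3 q13534 (flp_h L210642) q13702, e3 q13535 (flp_h L210256) q13671, e3 q13536 L211393 q13775, e3 q13537 (flp_h L208964) q13214, e3 q13538 L208983 q13391, e3 q13539 (flp_h L210855) q13722, e3 q13540 (flp_h L210870) q13723, e3 q13541 L209016 q13379, e3 q13542 L209030 q13388, e3 q13543 L209044 q13475, e3 q13544 L209058 q13387, e3 q13545 (flp_h L210211) q13668, e3 q13546 (flp_h L210228) q13669, e3 q13547 L211487 q13783, e3 q13548 L211494 q13784, e3 q13549 (flp_h L209092) q13227, e3 q13550 (flp_h L210880) q13724, e3 q13551 (flp_h L210472) q13687, e3 q13552 (flp_h L210485) q13688, e3 q13553 L209127 q13451, e3 q13554 L209144 q13452, e3 q13555 (flp_h L210932) q13729, e3 q13556 (flp_h L209950) q13639, e3 q13557 L209180 q13354, e3 q13558 L209195 q13327, e3 q13559 L209203 q13355, e3 q13560 L209217 q13329, e3 q13561 L209229 q13357, e3 q13562 L209241 q13254, e3 q13563 L209251 q13479, e3 q13564 L209259 q13255, e3 q13565 (flp_h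 L210495) q13689, e3 q13566 (flp_h L210508) q13690, e3 q13567 (flp_h L211609) q13794, trivial⟩ (by decide +kernel)

theorem ce_h_212 : ∀ r, r < 64 → sm gh (Qf (13568 + r)) = Qf (tab Gen.h (13568 + r)) :=
  edges_tab (sm gh) Qf (tab Gen.h) 13568 [(13568, 13505), (13569, 13515), (13570, 13269), (13571, 13770), (13572, 13645), (13573, 13647), (13574, 13271), (13575, 13362), (13576, 13297), (13577, 13364), (13578, 13298), (13579, 13285), (13580, 13280), (13581, 13685), (13582, 13686), (13583, 13650), (13584, 13436), (13585, 13804), (13586, 13805), (13587, 13762), (13588, 13763), (13589, 13703), (13590, 13484), (13591, 13801), (13592, 13489), (13593, 13611), (13594, 13816), (13595, 13304), (13596, 13613), (13597, 13818), (13598, 13819), (13599, 13306), (13600, 13821), (13601, 13309), (13602, 13310), (13603, 13490), (13604, 13346), (13605, 13323), (13606, 13453), (13607, 13677), (13608, 13324), (13609, 13679), (13610, 13680), (13611, 13593), (13612, 13752), (13613, 13596), (13614, 13764), (13615,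 13825), (13616, 13352), (13617, 13488), (13618, 13790), (13619, 13356), (13620, 13792), (13621, 13793), (13622, 13483), (13623, 13691), (13624, 13692), (13625, 13693), (13626, 13842), (13627, 13336), (13628, 13681), (13629, 13844), (13630, 13845), (13631, 13338)]
    ⟨e3 q13568 L209292 q13505, e3 q13569 L209306 q13515, e3 q13570 L209318 q13269, e3 q13571 (flp_h L211348) q13770, e3 q13572 (flp_h L210011) q13645, e3 q13573 (flp_h L210031) q13647, e3 q13574 L209356 q13271, e3 q13575 L209369 q13362, e3 q13576 L209379 q13297, e3 q13577 L209393 q13364, e3 q13578 L209403 q13298, e3 q13579 L209417 q13285, e3 q13580 L209429 q13280, e3 q13581 (flp_h L210443) q13685, e3 q13582 (flp_h L210460) q13686, e3 q13583 (flp_h L210058) q13650, e3 q13584 L209464 q13436, e3 q13585 (flp_h L211725) q13804, e3 q13586 (flp_h L211738) q13805, e3 q13587 (flp_h L211265) q13762, e3 q13588 (flp_h L211280) q13763, e3 q13589 (flp_h L210652) q13703, e3 q13590 L209508 q13484, e3 q13591 (flp_h L211688) q13801, e3 q13592 L209535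 q13489, e3 q13593 (flp_h L209709) q13611, e3 q13594 L211827 q13816, e3 q13595 (flp_h L209555) q13304, e3 q13596 (flp_h L209735) q13613, e3 q13597 L211849 q13818, e3 q13598 L211858 q13819, e3 q13599 (flp_h L209593) q13306, e3 q13600 L211873 q13821, e3 q13601 (flp_h L209609) q13309, e3 q13602 (flp_h L209614) q13310, e3 q13603 L209628 q13490, e3 q13604 L209641 q13346, e3 q13605 L209649 q13323, e3 q13606 L209660 q13453, e3 q13607 (flp_h L210324) q13677, e3 q13608 L209680 q13324, e3 q13609 (flp_h L210350) q13679, e3 q13610 (flp_h L210365) q13680, e3 q13611 L209709 q13593, e3 q13612 (flp_h L211158) q13752, e3 q13613 L209735 q13596, e3 q13614 (flp_h L211292) q13764, e3 q13615 (flp_h L211920) q13825, e3 q13616 L209763 q13352, e3 q13617 L209770 q13488, e3 q13618 (flp_h L211558) q13790, e3 q13619 L209790 q13356, e3 q13620 (flp_h L211582) q13792, e3 q13621 (flp_h L211597) q13793, e3 q13622 L209817 q13483, e3 q13623 (flp_h L210520) q13691, e3 q13624 (flp_h L210533) q13692, e3 q13625 (flp_h L210543)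 q13693, e3 q13626 L212071 q13842, e3 q13627 (flp_h L209844) q13336, e3 q13628 (flp_h L210381) q13681, e3 q13629 L212093 q13844, e3 q13630 L212102 q13845, e3 q13631 (flp_h L209882) q13338, trivial⟩ (by decide +kernel)

theorem ce_h_213 : ∀ r, r < 64 → sm gh (Qf (13632 + r)) = Qf (tab Gen.h (13632 + r)) :=
  edges_tab (sm gh) Qf (tab Gen.h) 13632 [(13632, 13735), (13633, 13736), (13634, 13848), (13635, 13343), (13636, 13344), (13637, 13824), (13638, 13684), (13639, 13556), (13640, 13751), (13641, 13789), (13642, 13791), (13643, 13765), (13644, 13766), (13645, 13572), (13646, 13800), (13647, 13573), (13648, 13802), (13649, 13803), (13650, 13583), (13651, 13376), (13652, 13697), (13653, 13698), (13654, 13699), (13655, 13757), (13656, 13477), (13657, 13478), (13658, 13777), (13659, 13778), (13660, 13771), (13661, 13865), (13662, 13383), (13663, 13384), (13664, 13725), (13665, 13866), (13666, 13389), (13667, 13392), (13668, 13545), (13669, 13546), (13670, 13706), (13671, 13535), (13672, 13708),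 (13673, 13709), (13674, 13872), (13675, 13402), (13676, 13403), (13677, 13607), (13678, 13414), (13679, 13609), (13680, 13610), (13681, 13628), (13682, 13876), (13683, 13410), (13684, 13638), (13685, 13581), (13686, 13582), (13687, 13551), (13688, 13552), (13689, 13565), (13690, 13566), (13691, 13623), (13692, 13624), (13693, 13625), (13694, 13883), (13695, 13884)]
    ⟨e3 q13632 (flp_h L210992) q13735, e3 q13633 (flp_h L211007) q13736, e3 q13634 L212119 q13848, e3 q13635 (flp_h L209905) q13343, e3 q13636 (flp_h L209912) q13344, e3 q13637 (flp_h L211908) q13824, e3 q13638 (flp_h L210429) q13684, e3 q13639 L209950 q13556, e3 q13640 (flp_h L211148) q13751, e3 q13641 (flp_h L211544) q13789, e3 q13642 (flp_h L211570) q13791, e3 q13643 (flp_h L211302) q13765, e3 q13644 (flp_h L211313) q13766, e3 q13645 L210011 q13572, e3 q13646 (flp_h L211674) q13800, e3 q13647 L210031 q13573, e3 q13648 (flp_h L211700) q13802, e3 q13649 (flp_h L211713) q13803, e3 q13650 L210058 q13583, e3 q13651 L210066 q13376,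 e3 q13652 (flp_h L210584) q13697, e3 q13653 (flp_h L210597) q13698, e3 q13654 (flp_h L210607) q13699, e3 q13655 (flp_h L211218) q13757, e3 q13656 L210111 q13477, e3 q13657 L210126 q13478, e3 q13658 (flp_h L211419) q13777, e3 q13659 (flp_h L211436) q13778, e3 q13660 (flp_h L211360) q13771, e3 q13661 L212273 q13865, e3 q13662 (flp_h L210155) q13383, e3 q13663 (flp_h L210162) q13384, e3 q13664 (flp_h L210884) q13725, e3 q13665 L212281 q13866, e3 q13666 (flp_h L210183) q13389, e3 q13667 (flp_h L210193) q13392, e3 q13668 L210211 q13545, e3 q13669 L210228 q13546, e3 q13670 (flp_h L210681) q13706, e3 q13671 L210256 q13535, e3 q13672 (flp_h L210705) q13708, e3 q13673 (flp_h L210718) q13709, e3 q13674 L212353 q13872, e3 q13675 (flp_h L210293) q13402, e3 q13676 (flp_h L210304) q13403, e3 q13677 L210324 q13607, e3 q13678 L210338 q13414, e3 q13679 L210350 q13609, e3 q13680 L210365 q13610, e3 q13681 L210381 q13628, e3 q13682 L212406 q13876, e3 q13683 (flp_h L210401) q13410, e3 q13684 L210429 q13638,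 e3 q13685 L210443 q13581, e3 q13686 L210460 q13582, e3 q13687 L210472 q13551, e3 q13688 L210485 q13552, e3 q13689 L210495 q13565, e3 q13690 L210508 q13566, e3 q13691 L210520 q13623, e3 q13692 L210533 q13624, e3 q13693 L210543 q13625, e3 q13694 L212495 q13883, e3 q13695 L212508 q13884, trivial⟩ (by decide +kernel)

theorem ce_h_214 : ∀ r, r < 64 → sm gh (Qf (13696 + r)) = Qf (tab Gen.h (13696 + r)) :=
  edges_tab (sm gh) Qf (tab Gen.h) 13696 [(13696, 13427), (13697, 13652), (13698, 13653), (13699, 13654), (13700, 13434), (13701, 13533), (13702, 13534), (13703, 13589), (13704, 13492), (13705, 13493), (13706, 13670), (13707, 13500), (13708, 13672), (13709, 13673), (13710, 13514), (13711, 13516), (13712, 13517), (13713, 13787), (13714, 13826), (13715, 13504), (13716, 13900), (13717, 13901), (13718, 13455), (13719, 13903), (13720, 13458), (13721, 13459), (13722, 13539), (13723, 13540), (13724, 13550), (13725, 13664), (13726, 13497), (13727, 13512), (13728, 13513), (13729, 13555), (13730, 13779),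 (13731, 13780), (13732, 13861), (13733, 13795), (13734, 13796), (13735, 13632), (13736, 13633), (13737, 13836), (13738, 13837), (13739, 13915), (13740, 13485), (13741, 13486), (13742, 13832), (13743, 13812), (13744, 13822), (13745, 13823), (13746, 13889), (13747, 13523), (13748, 13524), (13749, 13525), (13750, 13906), (13751, 13640), (13752, 13612), (13753, 13925), (13754, 13502), (13755, 13798), (13756, 13506), (13757, 13655), (13758, 13907), (13759, 13893)]
    ⟨e3 q13696 (flp_h L210568) q13427, e3 q13697 L210584 q13652, e3 q13698 L210597 q13653, e3 q13699 L210607 q13654, e3 q13700 (flp_h L210609) q13434, e3 q13701 L210629 q13533, e3 q13702 L210642 q13534, e3 q13703 L210652 q13589, e3 q13704 L210658 q13492, e3 q13705 L210669 q13493, e3 q13706 L210681 q13670, e3 q13707 L210695 q13500, e3 q13708 L210705 q13672, e3 q13709 L210718 q13673, e3 q13710 L210732 q13514, e3 q13711 L210740 q13516, e3 q13712 L210753 q13517, e3 q13713 (flp_h L211527) q13787, e3 q13714 (flp_h L211932) q13826, e3 q13715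 L210785 q13504, e3 q13716 L212686 q13900, e3 q13717 L212695 q13901, e3 q13718 (flp_h L210806) q13455, e3 q13719 L212712 q13903, e3 q13720 (flp_h L210822) q13458, e3 q13721 (flp_h L210833) q13459, e3 q13722 L210855 q13539, e3 q13723 L210870 q13540, e3 q13724 L210880 q13550, e3 q13725 L210884 q13664, e3 q13726 L210895 q13497, e3 q13727 L210905 q13512, e3 q13728 L210918 q13513, e3 q13729 L210932 q13555, e3 q13730 (flp_h L211448) q13779, e3 q13731 (flp_h L211465) q13780, e3 q13732 (flp_h L212253) q13861, e3 q13733 (flp_h L211619) q13795, e3 q13734 (flp_h L211632) q13796, e3 q13735 L210992 q13632, e3 q13736 L211007 q13633, e3 q13737 (flp_h L212032) q13836, e3 q13738 (flp_h L212043) q13837, e3 q13739 L212843 q13915, e3 q13740 (flp_h L211038) q13485, e3 q13741 (flp_h L211049) q13486, e3 q13742 (flp_h L211999) q13832, e3 q13743 (flp_h L211798) q13812, e3 q13744 (flp_h L211886) q13822, e3 q13745 (flp_h L211896) q13823, e3 q13746 (flp_h L212568) q13889, e3 q13747 L211108 q13523, e3 q13748 L211121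 q13524, e3 q13749 L211129 q13525, e3 q13750 (flp_h L212751) q13906, e3 q13751 L211148 q13640, e3 q13752 L211158 q13612, e3 q13753 L212949 q13925, e3 q13754 (flp_h L211176) q13502, e3 q13755 (flp_h L211650) q13798, e3 q13756 (flp_h L211200) q13506, e3 q13757 L211218 q13655, e3 q13758 (flp_h L212768) q13907, e3 q13759 (flp_h L212617) q13893, trivial⟩ (by decide +kernel)

theorem ce_h_215 : ∀ r, r < 64 → sm gh (Qf (13760 + r)) = Qf (tab Gen.h (13760 + r)) :=
  edges_tab (sm gh) Qf (tab Gen.h) 13760 [(13760, 13894), (13761, 13895), (13762, 13587), (13763, 13588), (13764, 13614), (13765, 13643), (13766, 13644), (13767, 13922), (13768, 13923), (13769, 13529), (13770, 13571), (13771, 13660), (13772, 13887), (13773, 13935), (13774, 13936), (13775, 13536), (13776, 13904), (13777, 13658), (13778, 13659), (13779, 13730), (13780, 13731), (13781, 13867), (13782, 13942), (13783, 13547), (13784, 13548), (13785, 13905), (13786, 13878), (13787, 13713), (13788, 13908), (13789, 13641), (13790, 13618), (13791,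 13642), (13792, 13620), (13793, 13621), (13794, 13567), (13795, 13733), (13796, 13734), (13797, 13879), (13798, 13755), (13799, 13853), (13800, 13646), (13801, 13591), (13802, 13648), (13803, 13649), (13804, 13585), (13805, 13586), (13806, 13877), (13807, 13857), (13808, 13858), (13809, 13954), (13810, 13929), (13811, 13888), (13812, 13743), (13813, 13830), (13814, 13962), (13815, 13963), (13816, 13594), (13817, 13965), (13818, 13597), (13819, 13598), (13820, 13966), (13821, 13600), (13822, 13744), (13823, 13745)]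
    ⟨e3 q13760 (flp_h L212630) q13894, e3 q13761 (flp_h L212644) q13895, e3 q13762 L211265 q13587, e3 q13763 L211280 q13588, e3 q13764 L211292 q13614, e3 q13765 L211302 q13643, e3 q13766 L211313 q13644, e3 q13767 (flp_h L212924) q13922, e3 q13768 (flp_h L212930) q13923, e3 q13769 L211336 q13529, e3 q13770 L211348 q13571, e3 q13771 L211360 q13660, e3 q13772 (flp_h L212551) q13887, e3 q13773 L213052 q13935, e3 q13774 L213063 q13936, e3 q13775 (flp_h L211393) q13536, e3 q13776 (flp_h L212736) q13904, e3 q13777 L211419 q13658, e3 q13778 L211436 q13659, e3 q13779 L211448 q13730, e3 q13780 L211465 q13731, e3 q13781 (flp_h L212303) q13867, e3 q13782 L213130 q13942, e3 q13783 (flp_h L211487) q13547, e3 q13784 (flp_h L211494) q13548, e3 q13785 (flp_h L212742) q13905, e3 q13786 (flp_h L212450) q13878, e3 q13787 L211527 q13713, e3 q13788 (flp_h L212778) q13908, e3 q13789 L211544 q13641, e3 q13790 L211558 q13618, e3 q13791 L211570 q13642, e3 q13792 L211582 q13620, e3 q13793 L211597 q13621, e3 q13794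 L211609 q13567, e3 q13795 L211619 q13733, e3 q13796 L211632 q13734, e3 q13797 (flp_h L212460) q13879, e3 q13798 L211650 q13755, e3 q13799 (flp_h L212176) q13853, e3 q13800 L211674 q13646, e3 q13801 L211688 q13591, e3 q13802 L211700 q13648, e3 q13803 L211713 q13649, e3 q13804 L211725 q13585, e3 q13805 L211738 q13586, e3 q13806 (flp_h L212436) q13877, e3 q13807 (flp_h L212213) q13857, e3 q13808 (flp_h L212224) q13858, e3 q13809 (flp_h L213287) q13954, e3 q13810 (flp_h L213003) q13929, e3 q13811 (flp_h L212557) q13888, e3 q13812 L211798 q13743, e3 q13813 (flp_h L211971) q13830, e3 q13814 L213355 q13962, e3 q13815 L213368 q13963, e3 q13816 (flp_h L211827) q13594, e3 q13817 L213391 q13965, e3 q13818 (flp_h L211849) q13597, e3 q13819 (flp_h L211858) q13598, e3 q13820 L213401 q13966, e3 q13821 (flp_h L211873) q13600, e3 q13822 L211886 q13744, e3 q13823 L211896 q13745, trivial⟩ (by decide +kernel)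

theorem ce_h_216 : ∀ r, r < 64 → sm gh (Qf (13824 + r)) = Qf (tab Gen.h (13824 + r)) :=
  edges_tab (sm gh) Qf (tab Gen.h) 13824 [(13824, 13637), (13825, 13615), (13826, 13714), (13827, 13873), (13828, 13874), (13829, 13875), (13830, 13813), (13831, 13924), (13832, 13742), (13833, 13946), (13834, 13947), (13835, 13948), (13836, 13737), (13837, 13738), (13838, 13880), (13839, 13881), (13840, 13981), (13841, 13982), (13842, 13626), (13843, 13984), (13844, 13629), (13845, 13630), (13846, 13912), (13847, 13986), (13848, 13634), (13849, 13968), (13850, 13969), (13851, 13945), (13852, 13930), (13853, 13799), (13854, 13951), (13855, 13952), (13856, 13953), (13857, 13807), (13858, 13808), (13859, 13885), (13860, 13886), (13861, 13732), (13862, 13938), (13863, 13932), (13864, 13995), (13865, 13661), (13866, 13665), (13867, 13781), (13868, 13890), (13869, 13891), (13870, 13892), (13871, 13999), (13872, 13674), (13873, 13827), (13874, 13828), (13875, 13829), (13876, 13682), (13877, 13806), (13878,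 13786), (13879, 13797), (13880, 13838), (13881, 13839), (13882, 14007), (13883, 13694), (13884, 13695), (13885, 13859), (13886, 13860), (13887, 13772)]
    ⟨e3 q13824 L211908 q13637, e3 q13825 L211920 q13615, e3 q13826 L211932 q13714, e3 q13827 (flp_h L212371) q13873, e3 q13828 (flp_h L212386) q13874, e3 q13829 (flp_h L212402) q13875, e3 q13830 L211971 q13813, e3 q13831 (flp_h L212943) q13924, e3 q13832 L211999 q13742, e3 q13833 (flp_h L213184) q13946, e3 q13834 (flp_h L213199) q13947, e3 q13835 (flp_h L213215) q13948, e3 q13836 L212032 q13737, e3 q13837 L212043 q13738, e3 q13838 (flp_h L212474) q13880, e3 q13839 (flp_h L212480) q13881, e3 q13840 L213558 q13981, e3 q13841 L213573 q13982, e3 q13842 (flp_h L212071) q13626, e3 q13843 L213596 q13984, e3 q13844 (flp_h L212093) q13629, e3 q13845 (flp_h L212102) q13630, e3 q13846 (flp_h L212824) q13912, e3 q13847 L213611 q13986, e3 q13848 (flp_h L212119) q13634, e3 q13849 (flp_h L213424) q13968, e3 q13850 (flp_h L213441) q13969, e3 q13851 (flp_h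 L213172) q13945, e3 q13852 (flp_h L213015) q13930, e3 q13853 L212176 q13799, e3 q13854 (flp_h L213244) q13951, e3 q13855 (flp_h L213259) q13952, e3 q13856 (flp_h L213273) q13953, e3 q13857 L212213 q13807, e3 q13858 L212224 q13808, e3 q13859 (flp_h L212530) q13885, e3 q13860 (flp_h L212538) q13886, e3 q13861 L212253 q13732, e3 q13862 (flp_h L213096) q13938, e3 q13863 (flp_h L213028) q13932, e3 q13864 L213695 q13995, e3 q13865 (flp_h L212273) q13661, e3 q13866 (flp_h L212281) q13665, e3 q13867 L212303 q13781, e3 q13868 (flp_h L212578) q13890, e3 q13869 (flp_h L212593) q13891, e3 q13870 (flp_h L212607) q13892, e3 q13871 L213746 q13999, e3 q13872 (flp_h L212353) q13674, e3 q13873 L212371 q13827, e3 q13874 L212386 q13828, e3 q13875 L212402 q13829, e3 q13876 (flp_h L212406) q13682, e3 q13877 L212436 q13806, e3 q13878 L212450 q13786, e3 q13879 L212460 q13797, e3 q13880 L212474 q13838, e3 q13881 L212480 q13839, e3 q13882 L213857 q14007, e3 q13883 (flp_h L212495) q13694, e3 q13884 (flp_h L212508)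 q13695, e3 q13885 L212530 q13859, e3 q13886 L212538 q13860, e3 q13887 L212551 q13772, trivial⟩ (by decide +kernel)

theorem ce_h_217 : ∀ r, r < 64 → sm gh (Qf (13888 + r)) = Qf (tab Gen.h (13888 + r)) :=
  edges_tab (sm gh) Qf (tab Gen.h) 13888 [(13888, 13811), (13889, 13746), (13890, 13868), (13891, 13869), (13892, 13870), (13893, 13759), (13894, 13760), (13895, 13761), (13896, 13944), (13897, 13970), (13898, 13971), (13899, 14017), (13900, 13716), (13901, 13717), (13902, 14018), (13903, 13719), (13904, 13776), (13905, 13785), (13906, 13750), (13907, 13758), (13908, 13788), (13909, 13939), (13910, 13993), (13911, 13949), (13912, 13846), (13913, 13978), (13914, 14025), (13915, 13739), (13916, 13974), (13917, 13975), (13918, 13959), (13919, 13960), (13920, 13967), (13921, 14010), (13922, 13767), (13923, 13768), (13924, 13831), (13925, 13753), (13926, 14020), (13927, 14013), (13928, 14014), (13929, 13810), (13930, 13852), (13931, 14029), (13932, 13863), (13933, 14009), (13934, 14034), (13935,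 13773), (13936, 13774), (13937, 14019), (13938, 13862), (13939, 13909), (13940, 13996), (13941, 14037), (13942, 13782), (13943, 14003), (13944, 13896), (13945, 13851), (13946, 13833), (13947, 13834), (13948, 13835), (13949, 13911), (13950, 14004), (13951, 13854)]
    ⟨e3 q13888 L212557 q13811, e3 q13889 L212568 q13746, e3 q13890 L212578 q13868, e3 q13891 L212593 q13869, e3 q13892 L212607 q13870, e3 q13893 L212617 q13759, e3 q13894 L212630 q13760, e3 q13895 L212644 q13761, e3 q13896 (flp_h L213155) q13944, e3 q13897 (flp_h L213453) q13970, e3 q13898 (flp_h L213468) q13971, e3 q13899 L213977 q14017, e3 q13900 (flp_h L212686) q13716, e3 q13901 (flp_h L212695) q13717, e3 q13902 L213987 q14018, e3 q13903 (flp_h L212712) q13719, e3 q13904 L212736 q13776, e3 q13905 L212742 q13785, e3 q13906 L212751 q13750, e3 q13907 L212768 q13758, e3 q13908 L212778 q13788, e3 q13909 (flp_h L213112) q13939, e3 q13910 (flp_h L213683) q13993, e3 q13911 (flp_h L213229) q13949, e3 q13912 L212824 q13846, e3 q13913 (flp_h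 L213543) q13978, e3 q13914 L214078 q14025, e3 q13915 (flp_h L212843) q13739, e3 q13916 (flp_h L213499) q13974, e3 q13917 (flp_h L213516) q13975, e3 q13918 (flp_h L213328) q13959, e3 q13919 (flp_h L213343) q13960, e3 q13920 (flp_h L213414) q13967, e3 q13921 (flp_h L213899) q14010, e3 q13922 L212924 q13767, e3 q13923 L212930 q13768, e3 q13924 L212943 q13831, e3 q13925 (flp_h L212949) q13753, e3 q13926 (flp_h L214023) q14020, e3 q13927 (flp_h L213941) q14013, e3 q13928 (flp_h L213951) q14014, e3 q13929 L213003 q13810, e3 q13930 L213015 q13852, e3 q13931 (flp_h L214130) q14029, e3 q13932 L213028 q13863, e3 q13933 (flp_h L213890) q14009, e3 q13934 L214185 q14034, e3 q13935 (flp_h L213052) q13773, e3 q13936 (flp_h L213063) q13774, e3 q13937 (flp_h L214010) q14019, e3 q13938 L213096 q13862, e3 q13939 L213112 q13909, e3 q13940 (flp_h L213712) q13996, e3 q13941 L214229 q14037, e3 q13942 (flp_h L213130) q13782, e3 q13943 (flp_h L213813) q14003, e3 q13944 L213155 q13896, e3 q13945 L213172 q13851, e3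 q13946 L213184 q13833, e3 q13947 L213199 q13834, e3 q13948 L213215 q13835, e3 q13949 L213229 q13911, e3 q13950 (flp_h L213824) q14004, e3 q13951 L213244 q13854, trivial⟩ (by decide +kernel)

theorem ce_h_218 : ∀ r, r < 64 → sm gh (Qf (13952 + r)) = Qf (tab Gen.h (13952 + r)) :=
  edges_tab (sm gh) Qf (tab Gen.h) 13952 [(13952, 13855), (13953, 13856), (13954, 13809), (13955, 14002), (13956, 13991), (13957, 14043), (13958, 14031), (13959, 13918), (13960, 13919), (13961, 14047), (13962, 13814), (13963, 13815), (13964, 14048), (13965, 13817), (13966, 13820), (13967, 13920), (13968, 13849), (13969, 13850), (13970, 13897), (13971, 13898), (13972, 14000), (13973, 14001), (13974, 13916), (13975, 13917), (13976, 14038), (13977, 14039), (13978, 13913), (13979, 14005), (13980, 14057), (13981, 13840), (13982, 13841), (13983, 14058), (13984, 13843), (13985, 14023), (13986, 13847), (13987, 14050), (13988, 14032), (13989, 14041), (13990, 14042), (13991, 13956), (13992, 14008), (13993, 13910), (13994, 14035),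 (13995, 13864), (13996, 13940), (13997, 14011), (13998, 14012), (13999, 13871), (14000, 13972), (14001, 13973), (14002, 13955), (14003, 13943), (14004, 13950), (14005, 13979), (14006, 14064), (14007, 13882), (14008, 13992), (14009, 13933), (14010, 13921), (14011, 13997), (14012, 13998), (14013, 13927), (14014, 13928), (14015, 14051)]
    ⟨e3 q13952 L213259 q13855, e3 q13953 L213273 q13856, e3 q13954 L213287 q13809, e3 q13955 (flp_h L213798) q14002, e3 q13956 (flp_h L213664) q13991, e3 q13957 (flp_h L214313) q14043, e3 q13958 (flp_h L214154) q14031, e3 q13959 L213328 q13918, e3 q13960 L213343 q13919, e3 q13961 L214352 q14047, e3 q13962 (flp_h L213355) q13814, e3 q13963 (flp_h L213368) q13815, e3 q13964 L214366 q14048, e3 q13965 (flp_h L213391) q13817, e3 q13966 (flp_h L213401) q13820, e3 q13967 L213414 q13920, e3 q13968 L213424 q13849, e3 q13969 L213441 q13850, e3 q13970 L213453 q13897, e3 q13971 L213468 q13898, e3 q13972 (flp_h L213769) q14000, e3 q13973 (flp_h L213781) q14001, e3 q13974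 L213499 q13916, e3 q13975 L213516 q13917, e3 q13976 (flp_h L214246) q14038, e3 q13977 (flp_h L214258) q14039, e3 q13978 L213543 q13913, e3 q13979 (flp_h L213839) q14005, e3 q13980 L214460 q14057, e3 q13981 (flp_h L213558) q13840, e3 q13982 (flp_h L213573) q13841, e3 q13983 L214476 q14058, e3 q13984 (flp_h L213596) q13843, e3 q13985 (flp_h L214062) q14023, e3 q13986 (flp_h L213611) q13847, e3 q13987 (flp_h L214396) q14050, e3 q13988 (flp_h L214167) q14032, e3 q13989 (flp_h L214288) q14041, e3 q13990 (flp_h L214298) q14042, e3 q13991 L213664 q13956, e3 q13992 (flp_h L213877) q14008, e3 q13993 L213683 q13910, e3 q13994 (flp_h L214207) q14035, e3 q13995 (flp_h L213695) q13864, e3 q13996 L213712 q13940, e3 q13997 (flp_h L213914) q14011, e3 q13998 (flp_h L213924) q14012, e3 q13999 (flp_h L213746) q13871, e3 q14000 L213769 q13972, e3 q14001 L213781 q13973, e3 q14002 L213798 q13955, e3 q14003 L213813 q13943, e3 q14004 L213824 q13950, e3 q14005 L213839 q13979, e3 q14006 L214544 q14064, e3 q14007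 (flp_h L213857) q13882, e3 q14008 L213877 q13992, e3 q14009 L213890 q13933, e3 q14010 L213899 q13921, e3 q14011 L213914 q13997, e3 q14012 L213924 q13998, e3 q14013 L213941 q13927, e3 q14014 L213951 q13928, e3 q14015 (flp_h L214410) q14051, trivial⟩ (by decide +kernel)

theorem ce_h_219 : ∀ r, r < 64 → sm gh (Qf (14016 + r)) = Qf (tab Gen.h (14016 + r)) :=
  edges_tab (sm gh) Qf (tab Gen.h) 14016 [(14016, 14068), (14017, 13899), (14018, 13902), (14019, 13937), (14020, 13926), (14021, 14036), (14022, 14040), (14023, 13985), (14024, 14055), (14025, 13914), (14026, 14053), (14027, 14045), (14028, 14049), (14029, 13931), (14030, 14066), (14031, 13958), (14032, 13988), (14033, 14071), (14034, 13934), (14035, 13994), (14036, 14021), (14037, 13941), (14038, 13976), (14039, 13977), (14040, 14022), (14041, 13989), (14042, 13990), (14043, 13957), (14044, 14061), (14045, 14027), (14046, 14075), (14047, 13961), (14048, 13964), (14049, 14028), (14050, 13987), (14051, 14015), (14052, 14063), (14053, 14026),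 (14054, 14072), (14055, 14024), (14056, 14079), (14057, 13980), (14058, 13983), (14059, 14076), (14060, 14073), (14061, 14044), (14062, 14065), (14063, 14052), (14064, 14006), (14065, 14062), (14066, 14030), (14067, 14077), (14068, 14016), (14069, 14078), (14070, 14074), (14071, 14033), (14072, 14054), (14073, 14060), (14074, 14070), (14075, 14046), (14076, 14059), (14077, 14067), (14078, 14069), (14079, 14056)]
    ⟨e3 q14016 L214602 q14068, e3 q14017 (flp_h L213977) q13899, e3 q14018 (flp_h L213987) q13902, e3 q14019 L214010 q13937, e3 q14020 L214023 q13926, e3 q14021 (flp_h L214222) q14036, e3 q14022 (flp_h L214273) q14040, e3 q14023 L214062 q13985, e3 q14024 (flp_h L214450) q14055, e3 q14025 (flp_h L214078) q13914, e3 q14026 (flp_h L214433) q14053, e3 q14027 (flp_h L214341) q14045, e3 q14028 (flp_h L214382) q14049, e3 q14029 L214130 q13931, e3 q14030 (flp_h L214582) q14066, e3 q14031 L214154 q13958, e3 q14032 L214167 q13988, e3 q14033 L214639 q14071, e3 q14034 (flp_h L214185) q13934,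 e3 q14035 L214207 q13994, e3 q14036 L214222 q14021, e3 q14037 (flp_h L214229) q13941, e3 q14038 L214246 q13976, e3 q14039 L214258 q13977, e3 q14040 L214273 q14022, e3 q14041 L214288 q13989, e3 q14042 L214298 q13990, e3 q14043 L214313 q13957, e3 q14044 (flp_h L214509) q14061, e3 q14045 L214341 q14027, e3 q14046 L214695 q14075, e3 q14047 (flp_h L214352) q13961, e3 q14048 (flp_h L214366) q13964, e3 q14049 L214382 q14028, e3 q14050 L214396 q13987, e3 q14051 L214410 q14015, e3 q14052 (flp_h L214537) q14063, e3 q14053 L214433 q14026, e3 q14054 (flp_h L214660) q14072, e3 q14055 L214450 q14024, e3 q14056 L214755 q14079, e3 q14057 (flp_h L214460) q13980, e3 q14058 (flp_h L214476) q13983, e3 q14059 (flp_h L214720) q14076, e3 q14060 (flp_h L214675) q14073, e3 q14061 L214509 q14044, e3 q14062 (flp_h L214567) q14065, e3 q14063 L214537 q14052, e3 q14064 (flp_h L214544) q14006, e3 q14065 L214567 q14062, e3 q14066 L214582 q14030, e3 q14067 (flp_h L214733) q14077, e3 q14068 (flp_h L214602) q14016, e3 q14069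 (flp_h L214750) q14078, e3 q14070 (flp_h L214690) q14074, e3 q14071 (flp_h L214639) q14033, e3 q14072 L214660 q14054, e3 q14073 L214675 q14060, e3 q14074 L214690 q14070, e3 q14075 (flp_h L214695) q14046, e3 q14076 L214720 q14059, e3 q14077 L214733 q14067, e3 q14078 L214750 q14069, e3 q14079 (flp_h L214755) q14056, trivial⟩ (by decide +kernel)

theorem cl_h : ∀ i, i < 14080 → sm gh (Qf i) = Qf (tab Gen.h i) :=
  all_of_chunks (fun i => sm gh (Qf i) = Qf (tab Gen.h i)) 220 0
    ⟨ce_h_0, ce_h_1, ce_h_2, ce_h_3, ce_h_4, ce_h_5, ce_h_6, ce_h_7, ce_h_8, ce_h_9, ce_h_10, ce_h_11, ce_h_12, ce_h_13, ce_h_14, ce_h_15, ce_h_16, ce_h_17, ce_h_18, ce_h_19, ce_h_20, ce_h_21, ce_h_22, ce_h_23, ce_h_24, ce_h_25, ce_h_26, ce_h_27, ce_h_28, ce_h_29, ce_h_30, ce_h_31, ce_h_32, ce_h_33, ce_h_34, ce_h_35, ce_h_36, ce_h_37, ce_h_38, ce_h_39, ce_h_40, ce_h_41, ce_h_42, ce_h_43, ce_h_44, ce_h_45, ce_h_46, ce_h_47, ce_h_48, ce_h_49, ce_h_50, ce_h_51, ce_h_52, ce_h_53, ce_h_54, ce_h_55, ce_h_56, ce_h_57, ce_h_58,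 ce_h_59, ce_h_60, ce_h_61, ce_h_62, ce_h_63, ce_h_64, ce_h_65, ce_h_66, ce_h_67, ce_h_68, ce_h_69, ce_h_70, ce_h_71, ce_h_72, ce_h_73, ce_h_74, ce_h_75, ce_h_76, ce_h_77, ce_h_78, ce_h_79, ce_h_80, ce_h_81, ce_h_82, ce_h_83, ce_h_84, ce_h_85, ce_h_86, ce_h_87, ce_h_88, ce_h_89, ce_h_90, ce_h_91, ce_h_92, ce_h_93, ce_h_94, ce_h_95, ce_h_96, ce_h_97, ce_h_98, ce_h_99, ce_h_100, ce_h_101, ce_h_102, ce_h_103, ce_h_104, ce_h_105, ce_h_106, ce_h_107, ce_h_108, ce_h_109, ce_h_110, ce_h_111, ce_h_112, ce_h_113, ce_h_114, ce_h_115, ce_h_116, ce_h_117, ce_h_118, ce_h_119, ce_h_120, ce_h_121, ce_h_122, ce_h_123, ce_h_124, ce_h_125, ce_h_126, ce_h_127, ce_h_128, ce_h_129, ce_h_130, ce_h_131, ce_h_132, ce_h_133, ce_h_134, ce_h_135, ce_h_136, ce_h_137, ce_h_138, ce_h_139, ce_h_140, ce_h_141, ce_h_142, ce_h_143, ce_h_144, ce_h_145, ce_h_146, ce_h_147, ce_h_148, ce_h_149, ce_h_150, ce_h_151, ce_h_152, ce_h_153, ce_h_154, ce_h_155, ce_h_156, ce_h_157, ce_h_158, ce_h_159, ce_h_160, ce_h_161, ce_h_162, ce_h_163,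 ce_h_164, ce_h_165, ce_h_166, ce_h_167, ce_h_168, ce_h_169, ce_h_170, ce_h_171, ce_h_172, ce_h_173, ce_h_174, ce_h_175, ce_h_176, ce_h_177, ce_h_178, ce_h_179, ce_h_180, ce_h_181, ce_h_182, ce_h_183, ce_h_184, ce_h_185, ce_h_186, ce_h_187, ce_h_188, ce_h_189, ce_h_190, ce_h_191, ce_h_192, ce_h_193, ce_h_194, ce_h_195, ce_h_196, ce_h_197, ce_h_198, ce_h_199, ce_h_200, ce_h_201, ce_h_202, ce_h_203, ce_h_204, ce_h_205, ce_h_206, ce_h_207, ce_h_208, ce_h_209, ce_h_210, ce_h_211, ce_h_212, ce_h_213, ce_h_214, ce_h_215, ce_h_216, ce_h_217, ce_h_218, ce_h_219, trivial⟩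
    (fun r hr => absurd hr (Nat.not_lt_zero r))


end Cfsg.Agent.Helper28.FibA
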