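import Cfsg.Agent.Helper28.FibC0

/-!
# The Fi₂₂ presentation, cosets of the subgroup generated by b, …, i: the action of the generator i (helper28; generated)
-/

set_option autoImplicit false
set_option maxRecDepth 100000
set_option linter.unusedSimpArgs false
set_option linter.constructorNameAsVariable false

noncomputable section

namespace Cfsg.Agent.Helper28.FibA

open Cfsg.Spor Cfsg.Spor.Fi22 Cfsg.Agent.Helper28.CosetTable

theorem ce_i_0 : ∀ r, r < 64 → sm gi (Qf (0 + r)) = Qf (tab Gen.i (0 + r)) :=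
  edges_tab (sm gi) Qf (tab Gen.i) 0 [(0, 0), (1, 1), (2, 2), (3, 3), (4, 4), (5, 5), (6, 9), (7, 7), (8, 13), (9, 6), (10, 10), (11, 16), (12, 18), (13, 8), (14, 20), (15, 23), (16, 11), (17, 25), (18, 12), (19, 29), (20, 14), (21, 32), (22, 33), (23, 15), (24, 36), (25, 17), (26, 26), (27, 40), (28, 42), (29, 19), (30, 46), (31, 48), (32, 21), (33, 22), (34, 34), (35, 51), (36, 24), (37, 37), (38, 56), (39, 59), (40, 27), (41, 61), (42, 28), (43, 43), (44, 64), (45, 66), (46, 30), (47, 69), (48, 31), (49, 49), (50, 50), (51, 35), (52, 52), (53, 53), (54, 77), (55, 80), (56, 38), (57, 84), (58, 85), (59, 39), (60, 60), (61, 41), (62, 62), (63, 91)]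
    ⟨e3 q0 L7 q0, e3 q1 L16 q1, e3 q2 L24 q2, e3 q3 L33 q3, e3 q4 L41 q4, e3 q5 L49 q5, e3 q6 L75 q9, e3 q7 L65 q7, e3 q8 L108 q13, e3 q9 (flp_i L75) q6, e3 q10 L91 q10, e3 q11 L133 q16, e3 q12 L149 q18, e3 q13 (flp_i L108) q8, e3 q14 L165 q20, e3 q15 L189 q23, e3 q16 (flp_i L133) q11, e3 q17 L204 q25, e3 q18 (flp_i L149) q12, e3 q19 L236 q29, e3 q20 (flp_i L165) q14, e3 q21 L259 q32, e3 q22 L267 q33, e3 q23 (flp_i L189) q15, e3 q24 L291 q36, e3 q25 (flp_i L204) q17, e3 q26 L219 q26, e3 q27 L323 q40, e3 q28 L340 q42, e3 q29 (flp_i L236) q19, e3 q30 L373 q46, e3 q31 L387 q48, e3 q32 (flp_i L259) q21, e3 q33 (flp_i L267) q22, e3 q34 L282 q34, e3 q35 L411 q51, e3 q36 (flp_i L291) q24, e3 q37 L306 q37, e3 q38 L452 q56, e3 q39 L476 q59, e3 q40 (flp_i L323) q27, e3 q41 L494 q61, e3 q42 (flp_i L340) q28, e3 q43 L357 q43, e3 q44 L520 q64, e3 q45 L535 q66, e3 q46 (flp_i L373) q30, e3 q47 L558 q69, e3 q48 (flp_i L387) q31, e3 q49 L402 q49, e3 q50 L410 q50, e3 q51 (flp_i L411) q35, e3 q52 L427 q52,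 e3 q53 L432 q53, e3 q54 L624 q77, e3 q55 L649 q80, e3 q56 (flp_i L452) q38, e3 q57 L682 q84, e3 q58 L691 q85, e3 q59 (flp_i L476) q39, e3 q60 L493 q60, e3 q61 (flp_i L494) q41, e3 q62 L511 q62, e3 q63 L744 q91, trivial⟩ (by decide +kernel)

theorem ce_i_1 : ∀ r, r < 64 → sm gi (Qf (64 + r)) = Qf (tab Gen.i (64 + r)) :=
  edges_tab (sm gi) Qf (tab Gen.i) 64 [(64, 44), (65, 95), (66, 45), (67, 67), (68, 98), (69, 47), (70, 70), (71, 71), (72, 72), (73, 73), (74, 74), (75, 75), (76, 109), (77, 54), (78, 114), (79, 115), (80, 55), (81, 81), (82, 120), (83, 121), (84, 57), (85, 58), (86, 86), (87, 87), (88, 88), (89, 89), (90, 128), (91, 63), (92, 92), (93, 131), (94, 132), (95, 65), (96, 96), (97, 97), (98, 68), (99, 137), (100, 100), (101, 101), (102, 102), (103, 103), (104, 104), (105, 105), (106, 106), (107, 146), (108, 147), (109, 76), (110, 110), (111, 151), (112, 154), (113, 155), (114, 78), (115, 79), (116, 116), (117, 117), (118, 162), (119, 163), (120, 82), (121, 83), (122, 165), (123,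 123), (124, 124), (125, 125), (126, 126), (127, 127)]
    ⟨e3 q64 (flp_i L520) q44, e3 q65 L781 q95, e3 q66 (flp_i L535) q45, e3 q67 L550 q67, e3 q68 L806 q98, e3 q69 (flp_i L558) q47, e3 q70 L574 q70, e3 q71 L580 q71, e3 q72 L588 q72, e3 q73 L599 q73, e3 q74 L605 q74, e3 q75 L613 q75, e3 q76 L884 q109, e3 q77 (flp_i L624) q54, e3 q78 L932 q114, e3 q79 L941 q115, e3 q80 (flp_i L649) q55, e3 q81 L666 q81, e3 q82 L984 q120, e3 q83 L993 q121, e3 q84 (flp_i L682) q57, e3 q85 (flp_i L691) q58, e3 q86 L709 q86, e3 q87 L716 q87, e3 q88 L727 q88, e3 q89 L734 q89, e3 q90 L1049 q128, e3 q91 (flp_i L744) q63, e3 q92 L761 q92, e3 q93 L1077 q131, e3 q94 L1085 q132, e3 q95 (flp_i L781) q65, e3 q96 L797 q96, e3 q97 L804 q97, e3 q98 (flp_i L806) q68, e3 q99 (flp_i L1128) q137, e3 q100 L823 q100, e3 q101 L829 q101, e3 q102 L836 q102, e3 q103 L843 q103, e3 q104 L849 q104, e3 q105 L858 q105, e3 q106 L866 q106, e3 q107 L1212 q146, e3 q108 L1222 q147, e3 q109 (flp_i L884) q76, e3 q110 L903 q110, e3 q111 L1262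 q151, e3 q112 L1290 q154, e3 q113 L1299 q155, e3 q114 (flp_i L932) q78, e3 q115 (flp_i L941) q79, e3 q116 L959 q116, e3 q117 L967 q117, e3 q118 L1360 q162, e3 q119 L1369 q163, e3 q120 (flp_i L984) q82, e3 q121 (flp_i L993) q83, e3 q122 (flp_i L1391) q165, e3 q123 L1017 q123, e3 q124 L1023 q124, e3 q125 L1031 q125, e3 q126 L1039 q126, e3 q127 L1048 q127, trivial⟩ (by decide +kernel)

theorem ce_i_2 : ∀ r, r < 64 → sm gi (Qf (128 + r)) = Qf (tab Gen.i (128 + r)) :=
  edges_tab (sm gi) Qf (tab Gen.i) 128 [(128, 90), (129, 129), (130, 130), (131, 93), (132, 94), (133, 178), (134, 134), (135, 135), (136, 136), (137, 99), (138, 184), (139, 139), (140, 140), (141, 141), (142, 142), (143, 143), (144, 144), (145, 194), (146, 107), (147, 108), (148, 148), (149, 149), (150, 200), (151, 111), (152, 203), (153, 204), (154, 112), (155, 113), (156, 206), (157, 157), (158, 158), (159, 159), (160, 160), (161, 214), (162, 118), (163, 119), (164, 216), (165, 122), (166, 218), (167, 167), (168, 168), (169,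 169), (170, 170), (171, 171), (172, 172), (173, 173), (174, 177), (175, 175), (176, 176), (177, 174), (178, 133), (179, 234), (180, 180), (181, 181), (182, 182), (183, 183), (184, 138), (185, 242), (186, 243), (187, 187), (188, 188), (189, 189), (190, 190), (191, 191)]
    ⟨e3 q128 (flp_i L1049) q90, e3 q129 L1067 q129, e3 q130 L1075 q130, e3 q131 (flp_i L1077) q93, e3 q132 (flp_i L1085) q94, e3 q133 (flp_i L1504) q178, e3 q134 L1107 q134, e3 q135 L1113 q135, e3 q136 L1121 q136, e3 q137 L1128 q99, e3 q138 (flp_i L1544) q184, e3 q139 L1140 q139, e3 q140 L1146 q140, e3 q141 L1154 q141, e3 q142 L1162 q142, e3 q143 L1195 q143, e3 q144 L1202 q144, e3 q145 L1651 q194, e3 q146 (flp_i L1212) q107, e3 q147 (flp_i L1222) q108, e3 q148 L1242 q148, e3 q149 L1251 q149, e3 q150 L1716 q200, e3 q151 (flp_i L1262) q111, e3 q152 L1747 q203, e3 q153 L1756 q204, e3 q154 (flp_i L1290) q112, e3 q155 (flp_i L1299) q113, e3 q156 (flp_i L1786) q206, e3 q157 L1327 q157, e3 q158 L1334 q158, e3 q159 L1341 q159, e3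 q160 L1351 q160, e3 q161 L1842 q214, e3 q162 (flp_i L1360) q118, e3 q163 (flp_i L1369) q119, e3 q164 (flp_i L1865) q216, e3 q165 L1391 q122, e3 q166 (flp_i L1880) q218, e3 q167 L1406 q167, e3 q168 L1412 q168, e3 q169 L1420 q169, e3 q170 L1428 q170, e3 q171 L1437 q171, e3 q172 L1444 q172, e3 q173 L1453 q173, e3 q174 (flp_i L1492) q177, e3 q175 L1468 q175, e3 q176 L1484 q176, e3 q177 L1492 q174, e3 q178 L1504 q133, e3 q179 (flp_i L2034) q234, e3 q180 L1516 q180, e3 q181 L1522 q181, e3 q182 L1531 q182, e3 q183 L1537 q183, e3 q184 L1544 q138, e3 q185 (flp_i L2096) q242, e3 q186 (flp_i L2103) q243, e3 q187 L1565 q187, e3 q188 L1571 q188, e3 q189 L1578 q189, e3 q190 L1587 q190, e3 q191 L1594 q191, trivial⟩ (by decide +kernel)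

theorem ce_i_3 : ∀ r, r < 64 → sm gi (Qf (192 + r)) = Qf (tab Gen.i (192 + r)) :=
  edges_tab (sm gi) Qf (tab Gen.i) 192 [(192, 192), (193, 251), (194, 145), (195, 201), (196, 196), (197, 197), (198, 198), (199, 259), (200, 150), (201, 195), (202, 263), (203, 152), (204, 153), (205, 265), (206, 156), (207, 267), (208, 208), (209, 209), (210, 210), (211, 211), (212, 212), (213, 279), (214, 161), (215, 280), (216, 164), (217, 282), (218, 166), (219, 285), (220, 286), (221, 221), (222, 222), (223, 223), (224, 224), (225, 225), (226, 226), (227, 227), (228, 228), (229, 229), (230, 233), (231, 231), (232, 232), (233, 230), (234, 179), (235, 306), (236, 307), (237, 237), (238, 238), (239, 239), (240, 240), (241, 241), (242, 185), (243, 186), (244, 317), (245, 318), (246, 319), (247, 247), (248, 248), (249, 249), (250, 250), (251, 193), (252, 260), (253, 261), (254, 254), (255, 255)]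
    ⟨e3 q192 L1641 q192, e3 q193 L2210 q251, e3 q194 (flp_i L1651) q145, e3 q195 (flp_i L1733) q201, e3 q196 L1679 q196, e3 q197 L1687 q197, e3 q198 L1706 q198, e3 q199 L2300 q259, e3 q200 (flp_i L1716) q150, e3 q201 L1733 q195, e3 q202 L2338 q263, e3 q203 (flp_i L1747) q152, e3 q204 (flp_i L1756) q153, e3 q205 (flp_i L2369) q265, e3 q206 L1786 q156, e3 q207 (flp_i L2388) q267, e3 q208 L1803 q208, e3 q209 L1808 q209, e3 q210 L1816 q210, e3 q211 L1827 q211, e3 q212 L1833 q212, e3 q213 L2475 q279, e3 q214 (flp_i L1842) q161, e3 q215 (flp_i L2491) q280, e3 q216 L1865 q164, e3 q217 (flp_i L2505) q282, e3 q218 L1880 q166, e3 q219 (flp_i L2529) q285, e3 q220 (flp_i L2538) q286, e3 q221 L1905 q221, e3 q222 L1912 q222, e3 q223 L1920 q223, e3 q224 L1928 q224, e3 q225 L1935 q225, e3 q226 L1942 q226, e3 q227 L1951 q227, e3 q228 L1960 q228, e3 q229 L1969 q229, e3 q230 (flp_i L2024) q233, e3 q231 L1984 q231, e3 q232 L1991 q232, e3 q233 L2024 q230, e3 q234 L2034 q179, e3 q235 (flp_i L2732) q306, e3 q236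 (flp_i L2743) q307, e3 q237 L2053 q237, e3 q238 L2060 q238, e3 q239 L2067 q239, e3 q240 L2072 q240, e3 q241 L2090 q241, e3 q242 L2096 q185, e3 q243 L2103 q186, e3 q244 (flp_i L2826) q317, e3 q245 (flp_i L2834) q318, e3 q246 (flp_i L2841) q319, e3 q247 L2131 q247, e3 q248 L2137 q248, e3 q249 L2145 q249, e3 q250 L2153 q250, e3 q251 (flp_i L2210) q193, e3 q252 (flp_i L2317) q260, e3 q253 (flp_i L2324) q261, e3 q254 L2245 q254, e3 q255 L2252 q255, trivial⟩ (by decide +kernel)

theorem ce_i_4 : ∀ r, r < 64 → sm gi (Qf (256 + r)) = Qf (tab Gen.i (256 + r)) :=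
  edges_tab (sm gi) Qf (tab Gen.i) 256 [(256, 256), (257, 257), (258, 337), (259, 199), (260, 252), (261, 253), (262, 342), (263, 202), (264, 343), (265, 205), (266, 345), (267, 207), (268, 348), (269, 349), (270, 270), (271, 271), (272, 272), (273, 273), (274, 274), (275, 275), (276, 276), (277, 277), (278, 363), (279, 213), (280, 215), (281, 365), (282, 217), (283, 368), (284, 369), (285, 219), (286, 220), (287, 373), (288, 374), (289, 375), (290, 290), (291, 291), (292, 292), (293, 293), (294, 294), (295, 295), (296, 296), (297, 297), (298, 298), (299, 299), (300, 304), (301, 305), (302, 302), (303, 303), (304, 300), (305, 301), (306, 235), (307, 236), (308, 399), (309, 400), (310, 401), (311, 311), (312, 312), (313, 313), (314, 314), (315, 315), (316, 398), (317, 244), (318, 245), (319, 246)]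
    ⟨e3 q256 L2261 q256, e3 q257 L2290 q257, e3 q258 L3085 q337, e3 q259 (flp_i L2300) q199, e3 q260 L2317 q252, e3 q261 L2324 q253, e3 q262 L3132 q342, e3 q263 (flp_i L2338) q202, e3 q264 (flp_i L3156) q343, e3 q265 L2369 q205, e3 q266 (flp_i L3174) q345, e3 q267 L2388 q207, e3 q268 (flp_i L3198) q348, e3 q269 (flp_i L3211) q349, e3 q270 L2411 q270, e3 q271 L2418 q271, e3 q272 L2425 q272, e3 q273 L2434 q273, e3 q274 L2441 q274, e3 q275 L2447 q275, e3 q276 L2455 q276, e3 q277 L2463 q277, e3 q278 L3322 q363, e3 q279 (flp_i L2475) q213, e3 q280 L2491 q215, e3 q281 (flp_i L3344) q365, e3 q282 L2505 q217, e3 q283 (flp_i L3367) q368, e3 q284 (flp_i L3375) q369, e3 q285 L2529 q219, e3 q286 L2538 q220, e3 q287 (flp_i L3406) q373, e3 q288 (flp_i L3416) q374, e3 q289 (flp_i L3423) q375, e3 q290 L2570 q290, e3 q291 L2577 q291, e3 q292 L2582 q292, e3 q293 L2591 q293, e3 q294 L2599 q294, e3 q295 L2607 q295, e3 q296 L2613 q296, e3 q297 L2623 q297, e3 q298 L2632 q298, e3 q299 L2639 q299, e3 q300 (flp_i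 L2715) q304, e3 q301 (flp_i L2723) q305, e3 q302 L2660 q302, e3 q303 L2668 q303, e3 q304 L2715 q300, e3 q305 L2723 q301, e3 q306 L2732 q235, e3 q307 L2743 q236, e3 q308 (flp_i L3683) q399, e3 q309 (flp_i L3694) q400, e3 q310 (flp_i L3704) q401, e3 q311 L2773 q311, e3 q312 L2780 q312, e3 q313 L2783 q313, e3 q314 L2791 q314, e3 q315 L2800 q315, e3 q316 L108195 q398, e3 q317 L2826 q244, e3 q318 L2834 q245, e3 q319 L2841 q246, trivial⟩ (by decide +kernel)

theorem ce_i_5 : ∀ r, r < 64 → sm gi (Qf (320 + r)) = Qf (tab Gen.i (320 + r)) :=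
  edges_tab (sm gi) Qf (tab Gen.i) 320 [(320, 412), (321, 413), (322, 414), (323, 415), (324, 416), (325, 325), (326, 326), (327, 327), (328, 338), (329, 339), (330, 340), (331, 341), (332, 332), (333, 333), (334, 334), (335, 335), (336, 336), (337, 258), (338, 328), (339, 329), (340, 330), (341, 331), (342, 262), (343, 264), (344, 444), (345, 266), (346, 447), (347, 448), (348, 268), (349, 269), (350, 452), (351, 453), (352, 454), (353, 353), (354, 354), (355, 355), (356, 356), (357, 357), (358, 358), (359, 359), (360, 360), (361, 361), (362, 473), (363, 278), (364, 364), (365, 281), (366, 476), (367, 477), (368, 283), (369, 284), (370, 481), (371, 482), (372, 483), (373, 287), (374, 288), (375, 289), (376, 489), (377, 490), (378, 491), (379, 492), (380, 493), (381, 381), (382, 382), (383, 383)]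
    ⟨e3 q320 (flp_i L3810) q412, e3 q321 (flp_i L3818) q413, e3 q322 (flp_i L3823) q414, e3 q323 (flp_i L3833) q415, e3 q324 (flp_i L3842) q416, e3 q325 L2883 q325, e3 q326 L2890 q326, e3 q327 L2899 q327, e3 q328 (flp_i L3103) q338, e3 q329 (flp_i L3111) q339, e3 q330 (flp_i L3119) q340, e3 q331 (flp_i L3129) q341, e3 q332 L3014 q332, e3 q333 L3022 q333, e3 q334 L3029 q334, e3 q335 L3039 q335, e3 q336 L3047 q336, e3 q337 (flp_i L3085) q258, e3 q338 L3103 q328, e3 q339 L3111 q329, e3 q340 L3119 q330, e3 q341 L3129 q331, e3 q342 (flp_i L3132) q262, e3 q343 L3156 q264, e3 q344 (flp_i L4230) q444, e3 q345 L3174 q266, e3 q346 (flp_i L4253) q447, e3 q347 (flp_i L4265) q448, e3 q348 L3198 q268, e3 q349 L3211 q269, e3 q350 (flp_i L4298) q452, e3 q351 (flp_i L4311) q453, e3 q352 (flp_i L4321) q454, e3 q353 L3243 q353, e3 q354 L3251 q354, e3 q355 L3257 q355, e3 q356 L3267 q356, e3 q357 L3276 q357, e3 q358 L3281 q358, e3 q359 L3289 q359, e3 q360 L3296 q360, e3 q361 L3304 q361, e3 q362 L4466 q473, e3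 q363 (flp_i L3322) q278, e3 q364 L3338 q364, e3 q365 L3344 q281, e3 q366 (flp_i L4497) q476, e3 q367 (flp_i L4504) q477, e3 q368 L3367 q283, e3 q369 L3375 q284, e3 q370 (flp_i L4535) q481, e3 q371 (flp_i L4544) q482, e3 q372 (flp_i L4550) q483, e3 q373 L3406 q287, e3 q374 L3416 q288, e3 q375 L3423 q289, e3 q376 (flp_i L4598) q489, e3 q377 (flp_i L4608) q490, e3 q378 (flp_i L4615) q491, e3 q379 (flp_i L4625) q492, e3 q380 (flp_i L4632) q493, e3 q381 L3471 q381, e3 q382 L3478 q382, e3 q383 L3483 q383, trivial⟩ (by decide +kernel)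

theorem ce_i_6 : ∀ r, r < 64 → sm gi (Qf (384 + r)) = Qf (tab Gen.i (384 + r)) :=
  edges_tab (sm gi) Qf (tab Gen.i) 384 [(384, 384), (385, 385), (386, 386), (387, 387), (388, 388), (389, 389), (390, 390), (391, 510), (392, 396), (393, 397), (394, 394), (395, 395), (396, 392), (397, 393), (398, 316), (399, 308), (400, 309), (401, 310), (402, 519), (403, 520), (404, 521), (405, 522), (406, 523), (407, 407), (408, 408), (409, 409), (410, 518), (411, 411), (412, 320), (413, 321), (414, 322), (415, 323), (416, 324), (417, 534), (418, 535), (419, 536), (420, 537), (421, 539), (422, 422), (423, 423), (424, 437), (425, 438), (426, 439), (427, 440), (428, 441), (429, 442), (430, 430), (431, 431), (432, 432), (433, 433), (434, 434), (435, 435), (436, 436), (437, 424), (438, 425), (439, 426), (440, 427), (441, 428), (442, 429), (443, 443), (444, 344), (445, 575), (446, 576), (447, 346)]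
    ⟨e3 q384 L3492 q384, e3 q385 L3501 q385, e3 q386 L3510 q386, e3 q387 L3517 q387, e3 q388 L3524 q388, e3 q389 L3535 q389, e3 q390 L3543 q390, e3 q391 L4758 q510, e3 q392 (flp_i L3659) q396, e3 q393 (flp_i L3667) q397, e3 q394 L3579 q394, e3 q395 L3587 q395, e3 q396 L3659 q392, e3 q397 L3667 q393, e3 q398 (flp_i L108195) q316, e3 q399 L3683 q308, e3 q400 L3694 q309, e3 q401 L3704 q310, e3 q402 (flp_i L4957) q519, e3 q403 (flp_i L4968) q520, e3 q404 (flp_i L4974) q521, e3 q405 (flp_i L4986) q522, e3 q406 (flp_i L4998) q523, e3 q407 L3746 q407, e3 q408 L3751 q408, e3 q409 L3760 q409, e3 q410 (flp_i L109855) q518, e3 q411 L3779 q411, e3 q412 L3810 q320, e3 q413 L3818 q321, e3 q414 L3823 q322, e3 q415 L3833 q323, e3 q416 L3842 q324, e3 q417 (flp_i L5134) q534, e3 q418 (flp_i L5140) q535, e3 q419 (flp_i L5148) q536, e3 q420 (flp_i L5157) q537, e3 q421 (flp_i L5173) q539, e3 q422 L3885 q422, e3 q423 L3893 q423, e3 q424 (flp_i L4166) q437, e3 q425 (flp_i L4174) q438, e3 q426 (flp_i L4183) q439,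 e3 q427 (flp_i L4192) q440, e3 q428 (flp_i L4202) q441, e3 q429 (flp_i L4209) q442, e3 q430 L4046 q430, e3 q431 L4055 q431, e3 q432 L4062 q432, e3 q433 L4071 q433, e3 q434 L4081 q434, e3 q435 L4098 q435, e3 q436 L4160 q436, e3 q437 L4166 q424, e3 q438 L4174 q425, e3 q439 L4183 q426, e3 q440 L4192 q427, e3 q441 L4202 q428, e3 q442 L4209 q429, e3 q443 L4221 q443, e3 q444 L4230 q344, e3 q445 (flp_i L5712) q575, e3 q446 (flp_i L5723) q576, e3 q447 L4253 q346, trivial⟩ (by decide +kernel)

theorem ce_i_7 : ∀ r, r < 64 → sm gi (Qf (448 + r)) = Qf (tab Gen.i (448 + r)) :=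
  edges_tab (sm gi) Qf (tab Gen.i) 448 [(448, 347), (449, 580), (450, 581), (451, 582), (452, 350), (453, 351), (454, 352), (455, 588), (456, 589), (457, 590), (458, 591), (459, 592), (460, 460), (461, 461), (462, 462), (463, 463), (464, 464), (465, 465), (466, 466), (467, 467), (468, 468), (469, 612), (470, 470), (471, 471), (472, 573), (473, 362), (474, 474), (475, 475), (476, 366), (477, 367), (478, 617), (479, 618), (480, 619), (481, 370), (482, 371), (483, 372), (484, 625), (485, 626), (486, 627), (487, 628), (488, 629), (489, 376), (490, 377), (491, 378), (492, 379), (493, 380), (494, 636), (495, 637), (496, 638), (497, 639), (498, 641), (499, 499), (500, 500), (501, 501), (502, 502), (503, 657), (504, 504), (505, 505), (506, 506), (507, 507), (508, 508), (509, 662), (510, 391), (511, 515)]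
    ⟨e3 q448 L4265 q347, e3 q449 (flp_i L5756) q580, e3 q450 (flp_i L5768) q581, e3 q451 (flp_i L5777) q582, e3 q452 L4298 q350, e3 q453 L4311 q351, e3 q454 L4321 q352, e3 q455 (flp_i L5828) q588, e3 q456 (flp_i L5841) q589, e3 q457 (flp_i L5849) q590, e3 q458 (flp_i L5861) q591, e3 q459 (flp_i L5871) q592, e3 q460 L4369 q460, e3 q461 L4377 q461, e3 q462 L4381 q462, e3 q463 L4388 q463, e3 q464 L4398 q464, e3 q465 L4408 q465, e3 q466 L4415 q466, e3 q467 L4424 q467, e3 q468 L4431 q468, e3 q469 L6024 q612, e3 q470 L4443 q470, e3 q471 L4449 q471, e3 q472 L108116 q573, e3 q473 (flp_i L4466) q362, e3 q474 L4483 q474, e3 q475 L4489 q475, e3 q476 L4497 q366, e3 q477 L4504 q367, e3 q478 (flp_i L6089) q617, e3 q479 (flp_i L6097) q618, e3 q480 (flp_i L6104) q619, e3 q481 L4535 q370, e3 q482 L4544 q371, e3 q483 L4550 q372, e3 q484 (flp_i L6149) q625, e3 q485 (flp_i L6158) q626, e3 q486 (flp_i L6164) q627, e3 q487 (flp_i L6173) q628, e3 q488 (flp_i L6183) q629, e3 q489 L4598 q376, e3 q490 L4608 q377,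 e3 q491 L4615 q378, e3 q492 L4625 q379, e3 q493 L4632 q380, e3 q494 (flp_i L6238) q636, e3 q495 (flp_i L6246) q637, e3 q496 (flp_i L6254) q638, e3 q497 (flp_i L6262) q639, e3 q498 (flp_i L6279) q641, e3 q499 L4681 q499, e3 q500 L4687 q500, e3 q501 L4694 q501, e3 q502 L4703 q502, e3 q503 L6399 q657, e3 q504 L4719 q504, e3 q505 L4727 q505, e3 q506 L4733 q506, e3 q507 L4743 q507, e3 q508 L4748 q508, e3 q509 L6439 q662, e3 q510 (flp_i L4758) q391, e3 q511 (flp_i L4916) q515, trivial⟩ (by decide +kernel)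

theorem ce_i_8 : ∀ r, r < 64 → sm gi (Qf (512 + r)) = Qf (tab Gen.i (512 + r)) :=
  edges_tab (sm gi) Qf (tab Gen.i) 512 [(512, 516), (513, 517), (514, 514), (515, 511), (516, 512), (517, 513), (518, 410), (519, 402), (520, 403), (521, 404), (522, 405), (523, 406), (524, 670), (525, 671), (526, 672), (527, 673), (528, 668), (529, 675), (530, 530), (531, 531), (532, 667), (533, 533), (534, 417), (535, 418), (536, 419), (537, 420), (538, 538), (539, 421), (540, 685), (541, 686), (542, 687), (543, 688), (544, 690), (545, 691), (546, 692), (547, 547), (548, 564), (549, 565), (550, 566), (551, 567), (552, 568), (553, 569), (554, 570), (555, 571), (556, 572), (557, 557), (558, 558), (559, 559), (560, 560), (561, 561), (562, 562), (563, 563), (564, 548), (565, 549), (566, 550), (567, 551), (568, 552), (569, 553), (570, 554), (571, 555), (572, 556), (573, 472), (574, 574), (575, 445)]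
    ⟨e3 q512 (flp_i L4924) q516, e3 q513 (flp_i L4928) q517, e3 q514 L4811 q514, e3 q515 L4916 q511, e3 q516 L4924 q512, e3 q517 L4928 q513, e3 q518 L109855 q410, e3 q519 L4957 q402, e3 q520 L4968 q403, e3 q521 L4974 q404, e3 q522 L4986 q405, e3 q523 L4998 q406, e3 q524 (flp_i L6700) q670, e3 q525 (flp_i L6706) q671, e3 q526 (flp_i L6717) q672, e3 q527 (flp_i L6727) q673, e3 q528 (flp_i L108624) q668, e3 q529 (flp_i L6745) q675, e3 q530 L5042 q530, e3 q531 L5051 q531, e3 q532 L85866 q667, e3 q533 L5074 q533, e3 q534 L5134 q417, e3 q535 L5140 q418, e3 q536 L5148 q419, e3 q537 L5157 q420, e3 q538 L5165 q538, e3 q539 L5173 q421, e3 q540 (flp_i L6927) q685, e3 q541 (flp_i L6936) q686, e3 q542 (flp_i L6942) q687, e3 q543 (flp_i L6951) q688, e3 q544 (flp_i L6966) q690, e3 q545 (flp_i L6972) q691, e3 q546 (flp_i L6982) q692, e3 q547 L5230 q547, e3 q548 (flp_i L5611) q564, e3 q549 (flp_i L5619) q565, e3 q550 (flp_i L5631) q566, e3 q551 (flp_i L5640) q567, e3 q552 (flp_i L5646) q568, e3 q553 (flp_i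 L5658) q569, e3 q554 (flp_i L5668) q570, e3 q555 (flp_i L5674) q571, e3 q556 (flp_i L5684) q572, e3 q557 L5443 q557, e3 q558 L5452 q558, e3 q559 L5458 q559, e3 q560 L5467 q560, e3 q561 L5489 q561, e3 q562 L5503 q562, e3 q563 L5604 q563, e3 q564 L5611 q548, e3 q565 L5619 q549, e3 q566 L5631 q550, e3 q567 L5640 q551, e3 q568 L5646 q552, e3 q569 L5658 q553, e3 q570 L5668 q554, e3 q571 L5674 q555, e3 q572 L5684 q556, e3 q573 (flp_i L108116) q472, e3 q574 L5703 q574, e3 q575 L5712 q445, trivial⟩ (by decide +kernel)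

theorem ce_i_9 : ∀ r, r < 64 → sm gi (Qf (576 + r)) = Qf (tab Gen.i (576 + r)) :=
  edges_tab (sm gi) Qf (tab Gen.i) 576 [(576, 446), (577, 736), (578, 737), (579, 738), (580, 449), (581, 450), (582, 451), (583, 744), (584, 745), (585, 746), (586, 747), (587, 748), (588, 455), (589, 456), (590, 457), (591, 458), (592, 459), (593, 755), (594, 756), (595, 757), (596, 758), (597, 770), (598, 760), (599, 599), (600, 600), (601, 601), (602, 602), (603, 780), (604, 604), (605, 605), (606, 606), (607, 607), (608, 786), (609, 609), (610, 610), (611, 733), (612, 469), (613, 727), (614, 614), (615, 615), (616, 616), (617, 478), (618, 479), (619, 480), (620, 794), (621, 795), (622, 796), (623, 797), (624, 798), (625, 484), (626, 485), (627, 486), (628, 487), (629, 488), (630, 805), (631, 806), (632, 807), (633, 808), (634, 820), (635, 810), (636, 494), (637, 495), (638, 496), (639, 497)]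
    ⟨e3 q576 L5723 q446, e3 q577 (flp_i L7692) q736, e3 q578 (flp_i L7703) q737, e3 q579 (flp_i L7713) q738, e3 q580 L5756 q449, e3 q581 L5768 q450, e3 q582 L5777 q451, e3 q583 (flp_i L7761) q744, e3 q584 (flp_i L7773) q745, e3 q585 (flp_i L7780) q746, e3 q586 (flp_i L7791) q747, e3 q587 (flp_i L7804) q748, e3 q588 L5828 q455, e3 q589 L5841 q456, e3 q590 L5849 q457, e3 q591 L5861 q458, e3 q592 L5871 q459, e3 q593 (flp_i L7860) q755, e3 q594 (flp_i L7868) q756, e3 q595 (flp_i L7879) q757, e3 q596 (flp_i L7888) q758, e3 q597 L7973 q770, e3 q598 (flp_i L7907) q760, e3 q599 L5926 q599, e3 q600 L5932 q600, e3 q601 L5940 q601, e3 q602 L5948 q602, e3 q603 L8046 q780, e3 q604 L5960 q604, e3 q605 L5968 q605, e3 q606 L5977 q606, e3 q607 L5985 q607, e3 q608 L8101 q786, e3 q609 L6000 q609, e3 q610 L6007 q610, e3 q611 L109755 q733, e3 q612 (flp_i L6024) q469, e3 q613 (flp_i L108061) q727, e3 q614 L6066 q614, e3 q615 L6075 q615, e3 q616 L6082 q616, e3 q617 L6089 q478, e3 q618 L6097 q479, e3 q619 L6104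 q480, e3 q620 (flp_i L8222) q794, e3 q621 (flp_i L8230) q795, e3 q622 (flp_i L8236) q796, e3 q623 (flp_i L8246) q797, e3 q624 (flp_i L8255) q798, e3 q625 L6149 q484, e3 q626 L6158 q485, e3 q627 L6164 q486, e3 q628 L6173 q487, e3 q629 L6183 q488, e3 q630 (flp_i L8307) q805, e3 q631 (flp_i L8314) q806, e3 q632 (flp_i L8322) q807, e3 q633 (flp_i L8331) q808, e3 q634 L8412 q820, e3 q635 (flp_i L8347) q810, e3 q636 L6238 q494, e3 q637 L6246 q495, e3 q638 L6254 q496, e3 q639 L6262 q497, trivial⟩ (by decide +kernel)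

theorem ce_i_10 : ∀ r, r < 64 → sm gi (Qf (640 + r)) = Qf (tab Gen.i (640 + r)) :=
  edges_tab (sm gi) Qf (tab Gen.i) 640 [(640, 640), (641, 498), (642, 821), (643, 822), (644, 823), (645, 824), (646, 826), (647, 827), (648, 828), (649, 649), (650, 650), (651, 651), (652, 652), (653, 845), (654, 654), (655, 655), (656, 847), (657, 503), (658, 658), (659, 659), (660, 850), (661, 852), (662, 509), (663, 665), (664, 666), (665, 663), (666, 664), (667, 532), (668, 528), (669, 860), (670, 524), (671, 525), (672, 526), (673, 527), (674, 861), (675, 529), (676, 862), (677, 863), (678, 864), (679, 865), (680, 858), (681, 867), (682, 868), (683, 856), (684, 684), (685, 540), (686, 541), (687, 542), (688, 543), (689, 689), (690, 544), (691, 545), (692, 546), (693, 693), (694, 876), (695, 877), (696, 879), (697, 880), (698, 882), (699, 883), (700, 885), (701, 720), (702, 721), (703, 722)]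
    ⟨e3 q640 L6272 q640, e3 q641 L6279 q498, e3 q642 (flp_i L8426) q821, e3 q643 (flp_i L8435) q822, e3 q644 (flp_i L8442) q823, e3 q645 (flp_i L8451) q824, e3 q646 (flp_i L8467) q826, e3 q647 (flp_i L8475) q827, e3 q648 (flp_i L8484) q828, e3 q649 L6342 q649, e3 q650 L6350 q650, e3 q651 L6358 q651, e3 q652 L6366 q652, e3 q653 L8614 q845, e3 q654 L6381 q654, e3 q655 L6390 q655, e3 q656 L8630 q847, e3 q657 (flp_i L6399) q503, e3 q658 L6413 q658, e3 q659 L6422 q659, e3 q660 L8654 q850, e3 q661 L8670 q852, e3 q662 (flp_i L6439) q509, e3 q663 (flp_i L6651) q665, e3 q664 (flp_i L6657) q666, e3 q665 L6651 q663, e3 q666 L6657 q664, e3 q667 (flp_i L85866) q532, e3 q668 L108624 q528, e3 q669 (flp_i L108449) q860, e3 q670 L6700 q524, e3 q671 L6706 q525, e3 q672 L6717 q526, e3 q673 L6727 q527, e3 q674 L108687 q861, e3 q675 L6745 q529, e3 q676 (flp_i L9049) q862, e3 q677 (flp_i L9062) q863, e3 q678 (flp_i L9069) q864, e3 q679 (flp_i L9080) q865, e3 q680 (flp_i L109847) q858, e3 q681 (flp_i L9097) q867,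 e3 q682 (flp_i L9116) q868, e3 q683 (flp_i L109865) q856, e3 q684 L6828 q684, e3 q685 L6927 q540, e3 q686 L6936 q541, e3 q687 L6942 q542, e3 q688 L6951 q543, e3 q689 L6959 q689, e3 q690 L6966 q544, e3 q691 L6972 q545, e3 q692 L6982 q546, e3 q693 L6991 q693, e3 q694 (flp_i L9362) q876, e3 q695 (flp_i L9371) q877, e3 q696 (flp_i L9388) q879, e3 q697 (flp_i L9395) q880, e3 q698 (flp_i L9408) q882, e3 q699 (flp_i L9418) q883, e3 q700 (flp_i L9435) q885, e3 q701 (flp_i L7550) q720, e3 q702 (flp_i L7558) q721, e3 q703 (flp_i L7565) q722, trivial⟩ (by decide +kernel)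

theorem ce_i_11 : ∀ r, r < 64 → sm gi (Qf (704 + r)) = Qf (tab Gen.i (704 + r)) :=
  edges_tab (sm gi) Qf (tab Gen.i) 704 [(704, 723), (705, 724), (706, 725), (707, 726), (708, 728), (709, 729), (710, 730), (711, 731), (712, 712), (713, 713), (714, 714), (715, 715), (716, 916), (717, 717), (718, 718), (719, 719), (720, 701), (721, 702), (722, 703), (723, 704), (724, 705), (725, 706), (726, 707), (727, 613), (728, 708), (729, 709), (730, 710), (731, 711), (732, 940), (733, 611), (734, 734), (735, 735), (736, 577), (737, 578), (738, 579), (739, 944), (740, 945), (741, 946), (742, 947), (743, 948), (744, 583), (745, 584), (746, 585), (747, 586), (748, 587), (749, 955), (750, 956), (751, 957), (752, 958), (753, 970), (754, 960), (755, 593), (756, 594), (757, 595), (758, 596), (759, 980), (760, 598), (761, 971), (762, 972), (763, 973), (764, 974), (765, 990), (766, 976), (767, 977)]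
    ⟨e3 q704 (flp_i L7577) q723, e3 q705 (flp_i L7586) q724, e3 q706 (flp_i L7591) q725, e3 q707 (flp_i L7600) q726, e3 q708 (flp_i L7621) q728, e3 q709 (flp_i L7629) q729, e3 q710 (flp_i L7639) q730, e3 q711 (flp_i L7646) q731, e3 q712 L7318 q712, e3 q713 L7324 q713, e3 q714 L7331 q714, e3 q715 L7341 q715, e3 q716 L9948 q916, e3 q717 L7376 q717, e3 q718 L7534 q718, e3 q719 L7542 q719, e3 q720 L7550 q701, e3 q721 L7558 q702, e3 q722 L7565 q703, e3 q723 L7577 q704, e3 q724 L7586 q705, e3 q725 L7591 q706, e3 q726 L7600 q707, e3 q727 L108061 q613, e3 q728 L7621 q708, e3 q729 L7629 q709, e3 q730 L7639 q710, e3 q731 L7646 q711, e3 q732 L10388 q940, e3 q733 (flp_i L109755) q611, e3 q734 L7673 q734, e3 q735 L7684 q735, e3 q736 L7692 q577, e3 q737 L7703 q578, e3 q738 L7713 q579, e3 q739 (flp_i L10437) q944, e3 q740 (flp_i L10448) q945, e3 q741 (flp_i L10455) q946, e3 q742 (flp_i L10467) q947, e3 q743 (flp_i L10479) q948, e3 q744 L7761 q583, e3 q745 L7773 q584, e3 q746 L7780 q585, e3 q747 L7791 q586,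 e3 q748 L7804 q587, e3 q749 (flp_i L10532) q955, e3 q750 (flp_i L10539) q956, e3 q751 (flp_i L10550) q957, e3 q752 (flp_i L10560) q958, e3 q753 L10641 q970, e3 q754 (flp_i L10579) q960, e3 q755 L7860 q593, e3 q756 L7868 q594, e3 q757 L7879 q595, e3 q758 L7888 q596, e3 q759 L10736 q980, e3 q760 L7907 q598, e3 q761 (flp_i L10654) q971, e3 q762 (flp_i L10667) q972, e3 q763 (flp_i L10675) q973, e3 q764 (flp_i L10686) q974, e3 q765 L10815 q990, e3 q766 (flp_i L10704) q976, e3 q767 (flp_i L10713) q977, trivial⟩ (by decide +kernel)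

theorem ce_i_12 : ∀ r, r < 64 → sm gi (Qf (768 + r)) = Qf (tab Gen.i (768 + r)) :=
  edges_tab (sm gi) Qf (tab Gen.i) 768 [(768, 978), (769, 938), (770, 597), (771, 771), (772, 772), (773, 773), (774, 774), (775, 1002), (776, 776), (777, 777), (778, 778), (779, 1005), (780, 603), (781, 781), (782, 1008), (783, 783), (784, 784), (785, 936), (786, 608), (787, 930), (788, 924), (789, 789), (790, 790), (791, 791), (792, 792), (793, 793), (794, 620), (795, 621), (796, 622), (797, 623), (798, 624), (799, 1020), (800, 1021), (801, 1022), (802, 1023), (803, 1035), (804, 1025), (805, 630), (806, 631), (807, 632), (808, 633), (809, 1045), (810, 635), (811, 1036), (812, 1037), (813, 1038), (814, 1039), (815, 1055), (816, 1041), (817, 1042), (818, 1043), (819, 1059), (820, 634), (821, 642), (822, 643), (823, 644), (824, 645), (825, 825), (826, 646), (827, 647), (828, 648), (829, 829), (830, 1060), (831, 1061)]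
    ⟨e3 q768 (flp_i L10724) q978, e3 q769 L108775 q938, e3 q770 (flp_i L7973) q597, e3 q771 L7985 q771, e3 q772 L7993 q772, e3 q773 L8000 q773, e3 q774 L8010 q774, e3 q775 L10918 q1002, e3 q776 L8025 q776, e3 q777 L8030 q777, e3 q778 L8039 q778, e3 q779 L10945 q1005, e3 q780 (flp_i L8046) q603, e3 q781 L8059 q781, e3 q782 L10975 q1008, e3 q783 L8074 q783, e3 q784 L8082 q784, e3 q785 (flp_i L85946) q936, e3 q786 (flp_i L8101) q608, e3 q787 (flp_i L109722) q930, e3 q788 (flp_i L99435) q924, e3 q789 L8182 q789, e3 q790 L8191 q790, e3 q791 L8199 q791, e3 q792 L8208 q792, e3 q793 L8215 q793, e3 q794 L8222 q620, e3 q795 L8230 q621, e3 q796 L8236 q622, e3 q797 L8246 q623, e3 q798 L8255 q624, e3 q799 (flp_i L11159) q1020, e3 q800 (flp_i L11166) q1021, e3 q801 (flp_i L11173) q1022, e3 q802 (flp_i L11183) q1023, e3 q803 L11264 q1035, e3 q804 (flp_i L11198) q1025, e3 q805 L8307 q630, e3 q806 L8314 q631, e3 q807 L8322 q632, e3 q808 L8331 q633, e3 q809 L11344 q1045, e3 q810 L8347 q635, e3 q811 (flp_i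 L11278) q1036, e3 q812 (flp_i L11287) q1037, e3 q813 (flp_i L11295) q1038, e3 q814 (flp_i L11303) q1039, e3 q815 L11416 q1055, e3 q816 (flp_i L11319) q1041, e3 q817 (flp_i L11325) q1042, e3 q818 (flp_i L11335) q1043, e3 q819 L11446 q1059, e3 q820 (flp_i L8412) q634, e3 q821 L8426 q642, e3 q822 L8435 q643, e3 q823 L8442 q644, e3 q824 L8451 q645, e3 q825 L8461 q825, e3 q826 L8467 q646, e3 q827 L8475 q647, e3 q828 L8484 q648, e3 q829 L8495 q829, e3 q830 (flp_i L11460) q1060, e3 q831 (flp_i L11469) q1061, trivial⟩ (by decide +kernel)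

theorem ce_i_13 : ∀ r, r < 64 → sm gi (Qf (832 + r)) = Qf (tab Gen.i (832 + r)) :=
  edges_tab (sm gi) Qf (tab Gen.i) 832 [(832, 1063), (833, 1064), (834, 1066), (835, 1067), (836, 1069), (837, 837), (838, 838), (839, 1085), (840, 840), (841, 841), (842, 1089), (843, 843), (844, 1091), (845, 653), (846, 1092), (847, 656), (848, 848), (849, 1095), (850, 660), (851, 1097), (852, 661), (853, 855), (854, 857), (855, 853), (856, 683), (857, 854), (858, 680), (859, 1104), (860, 669), (861, 674), (862, 676), (863, 677), (864, 678), (865, 679), (866, 1105), (867, 681), (868, 682), (869, 1106), (870, 1107), (871, 1100), (872, 1109), (873, 1110), (874, 1102), (875, 1112), (876, 694), (877, 695), (878, 878), (879, 696), (880, 697), (881, 881), (882, 698), (883, 699), (884, 884), (885, 700), (886, 886), (887, 887), (888, 1118), (889, 1119), (890, 1121), (891, 1122), (892, 1124), (893, 1125), (894, 1128), (895, 1131)]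
    ⟨e3 q832 (flp_i L11487) q1063, e3 q833 (flp_i L11496) q1064, e3 q834 (flp_i L11511) q1066, e3 q835 (flp_i L11520) q1067, e3 q836 (flp_i L11538) q1069, e3 q837 L8556 q837, e3 q838 L8564 q838, e3 q839 L11663 q1085, e3 q840 L8581 q840, e3 q841 L8588 q841, e3 q842 L11692 q1089, e3 q843 L8605 q843, e3 q844 L11709 q1091, e3 q845 (flp_i L8614) q653, e3 q846 L11717 q1092, e3 q847 (flp_i L8630) q656, e3 q848 L8643 q848, e3 q849 L11742 q1095, e3 q850 (flp_i L8654) q660, e3 q851 L11757 q1097, e3 q852 (flp_i L8670) q661, e3 q853 (flp_i L8969) q855, e3 q854 (flp_i L8986) q857, e3 q855 L8969 q853, e3 q856 L109865 q683, e3 q857 L8986 q854, e3 q858 L109847 q680, e3 q859 (flp_i L111085) q1104, e3 q860 L108449 q669, e3 q861 (flp_i L108687) q674, e3 q862 L9049 q676, e3 q863 L9062 q677, e3 q864 L9069 q678, e3 q865 L9080 q679, e3 q866 (flp_i L111638) q1105, e3 q867 L9097 q681, e3 q868 L9116 q682, e3 q869 (flp_i L12285) q1106, e3 q870 (flp_i L12297) q1107, e3 q871 L111676 q1100, e3 q872 (flp_i L12318) q1109,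 e3 q873 (flp_i L12327) q1110, e3 q874 L111683 q1102, e3 q875 (flp_i L12351) q1112, e3 q876 L9362 q694, e3 q877 L9371 q695, e3 q878 L9380 q878, e3 q879 L9388 q696, e3 q880 L9395 q697, e3 q881 L9403 q881, e3 q882 L9408 q698, e3 q883 L9418 q699, e3 q884 L9427 q884, e3 q885 L9435 q700, e3 q886 L9444 q886, e3 q887 L9452 q887, e3 q888 (flp_i L12692) q1118, e3 q889 (flp_i L12702) q1119, e3 q890 (flp_i L12717) q1121, e3 q891 (flp_i L12728) q1122, e3 q892 (flp_i L12744) q1124, e3 q893 (flp_i L12752) q1125, e3 q894 (flp_i L12774) q1128, e3 q895 (flp_i L12797) q1131, trivial⟩ (by decide +kernel)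

theorem ce_i_14 : ∀ r, r < 64 → sm gi (Qf (896 + r)) = Qf (tab Gen.i (896 + r)) :=
  edges_tab (sm gi) Qf (tab Gen.i) 896 [(896, 920), (897, 921), (898, 922), (899, 923), (900, 925), (901, 926), (902, 927), (903, 928), (904, 1153), (905, 931), (906, 932), (907, 933), (908, 934), (909, 937), (910, 910), (911, 911), (912, 912), (913, 913), (914, 1164), (915, 1165), (916, 716), (917, 917), (918, 918), (919, 919), (920, 896), (921, 897), (922, 898), (923, 899), (924, 788), (925, 900), (926, 901), (927, 902), (928, 903), (929, 1186), (930, 787), (931, 905), (932, 906), (933, 907), (934, 908), (935, 1196), (936, 785), (937, 909), (938, 769), (939, 1200), (940, 732), (941, 941), (942, 942), (943, 943), (944, 739), (945, 740), (946, 741), (947, 742), (948, 743), (949, 1206), (950, 1207), (951, 1208), (952, 1209), (953, 1221), (954, 1211), (955, 749), (956, 750), (957, 751), (958, 752), (959, 1231)]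
    ⟨e3 q896 (flp_i L10226) q920, e3 q897 (flp_i L10234) q921, e3 q898 (flp_i L10239) q922, e3 q899 (flp_i L10249) q923, e3 q900 (flp_i L10268) q925, e3 q901 (flp_i L10275) q926, e3 q902 (flp_i L10285) q927, e3 q903 (flp_i L10293) q928, e3 q904 L13243 q1153, e3 q905 (flp_i L10317) q931, e3 q906 (flp_i L10327) q932, e3 q907 (flp_i L10335) q933, e3 q908 (flp_i L10345) q934, e3 q909 (flp_i L10369) q937, e3 q910 L9882 q910, e3 q911 L9891 q911, e3 q912 L9898 q912, e3 q913 L9907 q913, e3 q914 L13433 q1164, e3 q915 L13466 q1165, e3 q916 (flp_i L9948) q716, e3 q917 L10201 q917, e3 q918 L10210 q918, e3 q919 L10217 q919, e3 q920 L10226 q896, e3 q921 L10234 q897, e3 q922 L10239 q898, e3 q923 L10249 q899, e3 q924 L99435 q788, e3 q925 L10268 q900, e3 q926 L10275 q901, e3 q927 L10285 q902, e3 q928 L10293 q903, e3 q929 L13962 q1186, e3 q930 L109722 q787, e3 q931 L10317 q905, e3 q932 L10327 q906, e3 q933 L10335 q907, e3 q934 L10345 q908, e3 q935 L14050 q1196, e3 q936 L85946 q785, e3 q937 L10369 q909, e3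 q938 (flp_i L108775) q769, e3 q939 L14083 q1200, e3 q940 (flp_i L10388) q732, e3 q941 L10405 q941, e3 q942 L10417 q942, e3 q943 L10427 q943, e3 q944 L10437 q739, e3 q945 L10448 q740, e3 q946 L10455 q741, e3 q947 L10467 q742, e3 q948 L10479 q743, e3 q949 (flp_i L14152) q1206, e3 q950 (flp_i L14159) q1207, e3 q951 (flp_i L14169) q1208, e3 q952 (flp_i L14180) q1209, e3 q953 L14261 q1221, e3 q954 (flp_i L14198) q1211, e3 q955 L10532 q749, e3 q956 L10539 q750, e3 q957 L10550 q751, e3 q958 L10560 q752, e3 q959 L14354 q1231, trivial⟩ (by decide +kernel)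

theorem ce_i_15 : ∀ r, r < 64 → sm gi (Qf (960 + r)) = Qf (tab Gen.i (960 + r)) :=
  edges_tab (sm gi) Qf (tab Gen.i) 960 [(960, 754), (961, 1222), (962, 1223), (963, 1224), (964, 1225), (965, 1241), (966, 1227), (967, 1228), (968, 1229), (969, 1245), (970, 753), (971, 761), (972, 762), (973, 763), (974, 764), (975, 1255), (976, 766), (977, 767), (978, 768), (979, 1199), (980, 759), (981, 1246), (982, 1247), (983, 1264), (984, 1249), (985, 1250), (986, 1268), (987, 1252), (988, 1253), (989, 1194), (990, 765), (991, 1256), (992, 1197), (993, 993), (994, 994), (995, 1278), (996, 996), (997, 997), (998, 1283), (999, 999), (1000, 1000), (1001, 1286), (1002, 775), (1003, 1288), (1004, 1289), (1005, 779), (1006, 1006), (1007, 1190), (1008, 782), (1009, 1182), (1010, 1184), (1011, 1176), (1012, 1012), (1013, 1013), (1014, 1014), (1015, 1015), (1016, 1016), (1017, 1017), (1018, 1018), (1019, 1019), (1020, 799), (1021, 800), (1022, 801), (1023, 802)]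
    ⟨e3 q960 L10579 q754, e3 q961 (flp_i L14274) q1222, e3 q962 (flp_i L14287) q1223, e3 q963 (flp_i L14296) q1224, e3 q964 (flp_i L14306) q1225, e3 q965 L14427 q1241, e3 q966 (flp_i L14325) q1227, e3 q967 (flp_i L14332) q1228, e3 q968 (flp_i L14344) q1229, e3 q969 L14451 q1245, e3 q970 (flp_i L10641) q753, e3 q971 L10654 q761, e3 q972 L10667 q762, e3 q973 L10675 q763, e3 q974 L10686 q764, e3 q975 L14546 q1255, e3 q976 L10704 q766, e3 q977 L10713 q767, e3 q978 L10724 q768, e3 q979 (flp_i L108873) q1199, e3 q980 (flp_i L10736) q759, e3 q981 (flp_i L14465) q1246, e3 q982 (flp_i L14477) q1247, e3 q983 L14639 q1264, e3 q984 (flp_i L14499) q1249, e3 q985 (flp_i L14510) q1250, e3 q986 L14669 q1268, e3 q987 (flp_i L14525) q1252, e3 q988 (flp_i L14535) q1253, e3 q989 L111433 q1194, e3 q990 (flp_i L10815) q765, e3 q991 (flp_i L14564) q1256, e3 q992 L109241 q1197, e3 q993 L10855 q993, e3 q994 L10864 q994, e3 q995 L14784 q1278, e3 q996 L10879 q996, e3 q997 L10888 q997, e3 q998 L14821 q1283, e3 q999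 L10900 q999, e3 q1000 L10910 q1000, e3 q1001 L14852 q1286, e3 q1002 (flp_i L10918) q775, e3 q1003 L14879 q1288, e3 q1004 L14886 q1289, e3 q1005 (flp_i L10945) q779, e3 q1006 L10956 q1006, e3 q1007 L111429 q1190, e3 q1008 (flp_i L10975) q782, e3 q1009 L109748 q1182, e3 q1010 (flp_i L109381) q1184, e3 q1011 L102013 q1176, e3 q1012 L11095 q1012, e3 q1013 L11104 q1013, e3 q1014 L11111 q1014, e3 q1015 L11119 q1015, e3 q1016 L11128 q1016, e3 q1017 L11133 q1017, e3 q1018 L11142 q1018, e3 q1019 L11151 q1019, e3 q1020 L11159 q799, e3 q1021 L11166 q800, e3 q1022 L11173 q801, e3 q1023 L11183 q802, trivial⟩ (by decide +kernel)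

theorem ce_i_16 : ∀ r, r < 64 → sm gi (Qf (1024 + r)) = Qf (tab Gen.i (1024 + r)) :=
  edges_tab (sm gi) Qf (tab Gen.i) 1024 [(1024, 1314), (1025, 804), (1026, 1305), (1027, 1306), (1028, 1307), (1029, 1308), (1030, 1324), (1031, 1310), (1032, 1311), (1033, 1312), (1034, 1328), (1035, 803), (1036, 811), (1037, 812), (1038, 813), (1039, 814), (1040, 1338), (1041, 816), (1042, 817), (1043, 818), (1044, 1325), (1045, 809), (1046, 1329), (1047, 1330), (1048, 1345), (1049, 1332), (1050, 1333), (1051, 1350), (1052, 1335), (1053, 1336), (1054, 1354), (1055, 815), (1056, 1313), (1057, 1327), (1058, 1326), (1059, 819), (1060, 830), (1061, 831), (1062, 1062), (1063, 832), (1064, 833), (1065, 1065), (1066, 834), (1067, 835), (1068, 1068), (1069, 836), (1070, 1070), (1071, 1071), (1072, 1355), (1073, 1356), (1074, 1358), (1075, 1359), (1076, 1361), (1077, 1362), (1078, 1365), (1079, 1303), (1080, 1080), (1081, 1081), (1082, 1380), (1083, 1083), (1084, 1382), (1085, 839), (1086, 1086), (1087, 1385)]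
    ⟨e3 q1024 L15212 q1314, e3 q1025 L11198 q804, e3 q1026 (flp_i L15145) q1305, e3 q1027 (flp_i L15153) q1306, e3 q1028 (flp_i L15160) q1307, e3 q1029 (flp_i L15170) q1308, e3 q1030 L15284 q1324, e3 q1031 (flp_i L15183) q1310, e3 q1032 (flp_i L15191) q1311, e3 q1033 (flp_i L15202) q1312, e3 q1034 L15316 q1328, e3 q1035 (flp_i L11264) q803, e3 q1036 L11278 q811, e3 q1037 L11287 q812, e3 q1038 L11295 q813, e3 q1039 L11303 q814, e3 q1040 L15397 q1338, e3 q1041 L11319 q816, e3 q1042 L11325 q817, e3 q1043 L11335 q818, e3 q1044 L120519 q1325, e3 q1045 (flp_i L11344) q809, e3 q1046 (flp_i L15330) q1329, e3 q1047 (flp_i L15339) q1330, e3 q1048 L15480 q1345, e3 q1049 (flp_i L15357) q1332, e3 q1050 (flp_i L15364) q1333, e3 q1051 L15510 q1350, e3 q1052 (flp_i L15376) q1335, e3 q1053 (flp_i L15387) q1336, e3 q1054 L15541 q1354, e3 q1055 (flp_i L11416) q815, e3 q1056 L120409 q1313, e3 q1057 (flp_i L120473) q1327, e3 q1058 (flp_i L120466) q1326, e3 q1059 (flp_i L11446) q819, e3 q1060 L11460 q830, e3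 q1061 L11469 q831, e3 q1062 L11480 q1062, e3 q1063 L11487 q832, e3 q1064 L11496 q833, e3 q1065 L11506 q1065, e3 q1066 L11511 q834, e3 q1067 L11520 q835, e3 q1068 L11531 q1068, e3 q1069 L11538 q836, e3 q1070 L11547 q1070, e3 q1071 L11557 q1071, e3 q1072 (flp_i L15584) q1355, e3 q1073 (flp_i L15594) q1356, e3 q1074 (flp_i L15611) q1358, e3 q1075 (flp_i L15621) q1359, e3 q1076 (flp_i L15639) q1361, e3 q1077 (flp_i L15647) q1362, e3 q1078 (flp_i L15672) q1365, e3 q1079 (flp_i L115416) q1303, e3 q1080 L11625 q1080, e3 q1081 L11634 q1081, e3 q1082 L15808 q1380, e3 q1083 L11653 q1083, e3 q1084 L15827 q1382, e3 q1085 (flp_i L11663) q839, e3 q1086 L11678 q1086, e3 q1087 L15850 q1385, trivial⟩ (by decide +kernel)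

theorem ce_i_17 : ∀ r, r < 64 → sm gi (Qf (1088 + r)) = Qf (tab Gen.i (1088 + r)) :=
  edges_tab (sm gi) Qf (tab Gen.i) 1088 [(1088, 1387), (1089, 842), (1090, 1388), (1091, 844), (1092, 846), (1093, 1390), (1094, 1392), (1095, 849), (1096, 1394), (1097, 851), (1098, 1099), (1099, 1098), (1100, 871), (1101, 1400), (1102, 874), (1103, 1402), (1104, 859), (1105, 866), (1106, 869), (1107, 870), (1108, 1401), (1109, 872), (1110, 873), (1111, 1403), (1112, 875), (1113, 1405), (1114, 1406), (1115, 1398), (1116, 1408), (1117, 1409), (1118, 888), (1119, 889), (1120, 1120), (1121, 890), (1122, 891), (1123, 1123), (1124, 892), (1125, 893), (1126, 1126), (1127, 1127), (1128, 894), (1129, 1129), (1130, 1130), (1131, 895), (1132, 1132), (1133, 1133), (1134, 1414), (1135, 1416), (1136, 1417), (1137, 1420), (1138, 1423), (1139, 1424), (1140, 1429), (1141, 1171), (1142, 1172), (1143, 1173), (1144, 1174), (1145, 1446), (1146, 1177), (1147, 1178), (1148, 1179), (1149, 1180), (1150, 1454), (1151, 1183)]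
    ⟨e3 q1088 L15865 q1387, e3 q1089 (flp_i L11692) q842, e3 q1090 L15871 q1388, e3 q1091 (flp_i L11709) q844, e3 q1092 (flp_i L11717) q846, e3 q1093 L15888 q1390, e3 q1094 L15904 q1392, e3 q1095 (flp_i L11742) q849, e3 q1096 L15919 q1394, e3 q1097 (flp_i L11757) q851, e3 q1098 (flp_i L12175) q1099, e3 q1099 L12175 q1098, e3 q1100 (flp_i L111676) q871, e3 q1101 (flp_i L106091) q1400, e3 q1102 (flp_i L111683) q874, e3 q1103 L111141 q1402, e3 q1104 L111085 q859, e3 q1105 L111638 q866, e3 q1106 L12285 q869, e3 q1107 L12297 q870, e3 q1108 L83487 q1401, e3 q1109 L12318 q872, e3 q1110 L12327 q873, e3 q1111 (flp_i L111644) q1403, e3 q1112 L12351 q875, e3 q1113 (flp_i L16668) q1405, e3 q1114 (flp_i L16681) q1406, e3 q1115 (flp_i L83435) q1398, e3 q1116 (flp_i L16710) q1408, e3 q1117 (flp_i L16748) q1409, e3 q1118 L12692 q888, e3 q1119 L12702 q889, e3 q1120 L12711 q1120, e3 q1121 L12717 q890, e3 q1122 L12728 q891, e3 q1123 L12738 q1123, e3 q1124 L12744 q892, e3 q1125 L12752 q893, e3 q1126 L12761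 q1126, e3 q1127 L12765 q1127, e3 q1128 L12774 q894, e3 q1129 L12783 q1129, e3 q1130 L12791 q1130, e3 q1131 L12797 q895, e3 q1132 L12808 q1132, e3 q1133 L12813 q1133, e3 q1134 (flp_i L17222) q1414, e3 q1135 (flp_i L17238) q1416, e3 q1136 (flp_i L17247) q1417, e3 q1137 (flp_i L17272) q1420, e3 q1138 (flp_i L17296) q1423, e3 q1139 (flp_i L17306) q1424, e3 q1140 (flp_i L17343) q1429, e3 q1141 (flp_i L13846) q1171, e3 q1142 (flp_i L13853) q1172, e3 q1143 (flp_i L13862) q1173, e3 q1144 (flp_i L13871) q1174, e3 q1145 L17857 q1446, e3 q1146 (flp_i L13893) q1177, e3 q1147 (flp_i L13903) q1178, e3 q1148 (flp_i L13912) q1179, e3 q1149 (flp_i L13921) q1180, e3 q1150 L17931 q1454, e3 q1151 (flp_i L13944) q1183, trivial⟩ (by decide +kernel)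

theorem ce_i_18 : ∀ r, r < 64 → sm gi (Qf (1152 + r)) = Qf (tab Gen.i (1152 + r)) :=
  edges_tab (sm gi) Qf (tab Gen.i) 1152 [(1152, 1456), (1153, 904), (1154, 1187), (1155, 1188), (1156, 1191), (1157, 1193), (1158, 1158), (1159, 1159), (1160, 1465), (1161, 1161), (1162, 1468), (1163, 1469), (1164, 914), (1165, 915), (1166, 1166), (1167, 1167), (1168, 1168), (1169, 1169), (1170, 1170), (1171, 1141), (1172, 1142), (1173, 1143), (1174, 1144), (1175, 1485), (1176, 1011), (1177, 1146), (1178, 1147), (1179, 1148), (1180, 1149), (1181, 1495), (1182, 1009), (1183, 1151), (1184, 1010), (1185, 1499), (1186, 929), (1187, 1154), (1188, 1155), (1189, 1506), (1190, 1007), (1191, 1156), (1192, 1511), (1193, 1157), (1194, 989), (1195, 1515), (1196, 935), (1197, 992), (1198, 1516), (1199, 979), (1200, 939), (1201, 1201), (1202, 1202), (1203, 1203), (1204, 1204), (1205, 1205), (1206, 949), (1207, 950), (1208, 951), (1209, 952), (1210, 1534), (1211, 954), (1212, 1525), (1213, 1526), (1214, 1527), (1215,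 1528)]
    ⟨e3 q1152 L17961 q1456, e3 q1153 (flp_i L13243) q904, e3 q1154 (flp_i L13978) q1187, e3 q1155 (flp_i L13987) q1188, e3 q1156 (flp_i L14014) q1191, e3 q1157 (flp_i L14029) q1193, e3 q1158 L13367 q1158, e3 q1159 L13377 q1159, e3 q1160 L18186 q1465, e3 q1161 L13403 q1161, e3 q1162 L18222 q1468, e3 q1163 L18253 q1469, e3 q1164 (flp_i L13433) q914, e3 q1165 (flp_i L13466) q915, e3 q1166 L13807 q1166, e3 q1167 L13816 q1167, e3 q1168 L13820 q1168, e3 q1169 L13829 q1169, e3 q1170 L13838 q1170, e3 q1171 L13846 q1141, e3 q1172 L13853 q1142, e3 q1173 L13862 q1143, e3 q1174 L13871 q1144, e3 q1175 L18858 q1485, e3 q1176 (flp_i L102013) q1011, e3 q1177 L13893 q1146, e3 q1178 L13903 q1147, e3 q1179 L13912 q1148, e3 q1180 L13921 q1149, e3 q1181 L18944 q1495, e3 q1182 (flp_i L109748) q1009, e3 q1183 L13944 q1151, e3 q1184 L109381 q1010, e3 q1185 L18974 q1499, e3 q1186 (flp_i L13962) q929, e3 q1187 L13978 q1154, e3 q1188 L13987 q1155, e3 q1189 L19035 q1506, e3 q1190 (flp_i L111429) q1007, e3 q1191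 L14014 q1156, e3 q1192 L19080 q1511, e3 q1193 L14029 q1157, e3 q1194 (flp_i L111433) q989, e3 q1195 L19116 q1515, e3 q1196 (flp_i L14050) q935, e3 q1197 (flp_i L109241) q992, e3 q1198 L108941 q1516, e3 q1199 L108873 q979, e3 q1200 (flp_i L14083) q939, e3 q1201 L14100 q1201, e3 q1202 L14112 q1202, e3 q1203 L14118 q1203, e3 q1204 L14129 q1204, e3 q1205 L14141 q1205, e3 q1206 L14152 q949, e3 q1207 L14159 q950, e3 q1208 L14169 q951, e3 q1209 L14180 q952, e3 q1210 L19310 q1534, e3 q1211 L14198 q954, e3 q1212 (flp_i L19229) q1525, e3 q1213 (flp_i L19241) q1526, e3 q1214 (flp_i L19249) q1527, e3 q1215 (flp_i L19261) q1528, trivial⟩ (by decide +kernel)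

theorem ce_i_19 : ∀ r, r < 64 → sm gi (Qf (1216 + r)) = Qf (tab Gen.i (1216 + r)) :=
  edges_tab (sm gi) Qf (tab Gen.i) 1216 [(1216, 1544), (1217, 1530), (1218, 1531), (1219, 1532), (1220, 1548), (1221, 953), (1222, 961), (1223, 962), (1224, 963), (1225, 964), (1226, 1558), (1227, 966), (1228, 967), (1229, 968), (1230, 1562), (1231, 959), (1232, 1549), (1233, 1550), (1234, 1569), (1235, 1552), (1236, 1553), (1237, 1574), (1238, 1555), (1239, 1556), (1240, 1578), (1241, 965), (1242, 1559), (1243, 1582), (1244, 1583), (1245, 969), (1246, 981), (1247, 982), (1248, 1590), (1249, 984), (1250, 985), (1251, 1595), (1252, 987), (1253, 988), (1254, 1514), (1255, 975), (1256, 991), (1257, 1517), (1258, 1584), (1259, 1585), (1260, 1603), (1261, 1587), (1262, 1588), (1263, 1504), (1264, 983), (1265, 1591), (1266, 1592), (1267, 1508), (1268, 986), (1269, 1596), (1270, 1512), (1271, 1496), (1272, 1272), (1273, 1273), (1274, 1617), (1275, 1275), (1276, 1276), (1277, 1620), (1278, 995), (1279, 1279)]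
    ⟨e3 q1216 L19383 q1544, e3 q1217 (flp_i L19277) q1530, e3 q1218 (flp_i L19286) q1531, e3 q1219 (flp_i L19299) q1532, e3 q1220 L19410 q1548, e3 q1221 (flp_i L14261) q953, e3 q1222 L14274 q961, e3 q1223 L14287 q962, e3 q1224 L14296 q963, e3 q1225 L14306 q964, e3 q1226 L19503 q1558, e3 q1227 L14325 q966, e3 q1228 L14332 q967, e3 q1229 L14344 q968, e3 q1230 L19539 q1562, e3 q1231 (flp_i L14354) q959, e3 q1232 (flp_i L19424) q1549, e3 q1233 (flp_i L19436) q1550, e3 q1234 L19589 q1569, e3 q1235 (flp_i L19459) q1552, e3 q1236 (flp_i L19468) q1553, e3 q1237 L19620 q1574, e3 q1238 (flp_i L19481) q1555, e3 q1239 (flp_i L19493) q1556, e3 q1240 L19648 q1578, e3 q1241 (flp_i L14427) q965, e3 q1242 (flp_i L19521) q1559, e3 q1243 L19673 q1582, e3 q1244 L19677 q1583, e3 q1245 (flp_i L14451) q969, e3 q1246 L14465 q981, e3 q1247 L14477 q982, e3 q1248 L19748 q1590, e3 q1249 L14499 q984, e3 q1250 L14510 q985, e3 q1251 L19796 q1595, e3 q1252 L14525 q987, e3 q1253 L14535 q988, e3 q1254 (flp_i L110882) q1514,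 e3 q1255 (flp_i L14546) q975, e3 q1256 L14564 q991, e3 q1257 L109054 q1517, e3 q1258 (flp_i L19692) q1584, e3 q1259 (flp_i L19705) q1585, e3 q1260 L19931 q1603, e3 q1261 (flp_i L19723) q1587, e3 q1262 (flp_i L19735) q1588, e3 q1263 (flp_i L111464) q1504, e3 q1264 (flp_i L14639) q983, e3 q1265 (flp_i L19766) q1591, e3 q1266 (flp_i L19777) q1592, e3 q1267 L110958 q1508, e3 q1268 (flp_i L14669) q986, e3 q1269 (flp_i L19813) q1596, e3 q1270 L111422 q1512, e3 q1271 (flp_i L86739) q1496, e3 q1272 L14743 q1272, e3 q1273 L14753 q1273, e3 q1274 L20123 q1617, e3 q1275 L14766 q1275, e3 q1276 L14776 q1276, e3 q1277 L20155 q1620, e3 q1278 (flp_i L14784) q995, e3 q1279 L14796 q1279, trivial⟩ (by decide +kernel)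

theorem ce_i_20 : ∀ r, r < 64 → sm gi (Qf (1280 + r)) = Qf (tab Gen.i (1280 + r)) :=
  edges_tab (sm gi) Qf (tab Gen.i) 1280 [(1280, 1280), (1281, 1624), (1282, 1626), (1283, 998), (1284, 1628), (1285, 1629), (1286, 1001), (1287, 1631), (1288, 1003), (1289, 1004), (1290, 1489), (1291, 1493), (1292, 1483), (1293, 1481), (1294, 1294), (1295, 1295), (1296, 1296), (1297, 1297), (1298, 1298), (1299, 1299), (1300, 1300), (1301, 1301), (1302, 1302), (1303, 1079), (1304, 1304), (1305, 1026), (1306, 1027), (1307, 1028), (1308, 1029), (1309, 1654), (1310, 1031), (1311, 1032), (1312, 1033), (1313, 1056), (1314, 1024), (1315, 1645), (1316, 1646), (1317, 1661), (1318, 1648), (1319, 1649), (1320, 1666), (1321, 1651), (1322, 1652), (1323, 1670), (1324, 1030), (1325, 1044), (1326, 1058), (1327, 1057), (1328, 1034), (1329, 1046), (1330, 1047), (1331, 1677), (1332, 1049), (1333, 1050), (1334, 1682), (1335, 1052), (1336, 1053), (1337, 1667), (1338, 1040), (1339, 1671), (1340, 1672), (1341, 1689), (1342, 1674),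 (1343, 1675)]
    ⟨e3 q1280 L14806 q1280, e3 q1281 L20194 q1624, e3 q1282 L20209 q1626, e3 q1283 (flp_i L14821) q998, e3 q1284 L20239 q1628, e3 q1285 L20247 q1629, e3 q1286 (flp_i L14852) q1001, e3 q1287 L20282 q1631, e3 q1288 (flp_i L14879) q1003, e3 q1289 (flp_i L14886) q1004, e3 q1290 (flp_i L109728) q1489, e3 q1291 (flp_i L109717) q1493, e3 q1292 L109276 q1483, e3 q1293 (flp_i L100824) q1481, e3 q1294 L15057 q1294, e3 q1295 L15066 q1295, e3 q1296 L15071 q1296, e3 q1297 L15081 q1297, e3 q1298 L15090 q1298, e3 q1299 L15100 q1299, e3 q1300 L15106 q1300, e3 q1301 L15113 q1301, e3 q1302 L15121 q1302, e3 q1303 L115416 q1079, e3 q1304 L15137 q1304, e3 q1305 L15145 q1026, e3 q1306 L15153 q1027, e3 q1307 L15160 q1028, e3 q1308 L15170 q1029, e3 q1309 L20668 q1654, e3 q1310 L15183 q1031, e3 q1311 L15191 q1032, e3 q1312 L15202 q1033, e3 q1313 (flp_i L120409) q1056, e3 q1314 (flp_i L15212) q1024, e3 q1315 (flp_i L20602) q1645, e3 q1316 (flp_i L20611) q1646, e3 q1317 L20755 q1661, e3 q1318 (flp_i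 L20626) q1648, e3 q1319 (flp_i L20635) q1649, e3 q1320 L20791 q1666, e3 q1321 (flp_i L20649) q1651, e3 q1322 (flp_i L20659) q1652, e3 q1323 L20821 q1670, e3 q1324 (flp_i L15284) q1030, e3 q1325 (flp_i L120519) q1044, e3 q1326 L120466 q1058, e3 q1327 L120473 q1057, e3 q1328 (flp_i L15316) q1034, e3 q1329 L15330 q1046, e3 q1330 L15339 q1047, e3 q1331 L20920 q1677, e3 q1332 L15357 q1049, e3 q1333 L15364 q1050, e3 q1334 L20954 q1682, e3 q1335 L15376 q1052, e3 q1336 L15387 q1053, e3 q1337 L119822 q1667, e3 q1338 (flp_i L15397) q1040, e3 q1339 (flp_i L20873) q1671, e3 q1340 (flp_i L20882) q1672, e3 q1341 L21077 q1689, e3 q1342 (flp_i L20897) q1674, e3 q1343 (flp_i L20909) q1675, trivial⟩ (by decide +kernel)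

theorem ce_i_21 : ∀ r, r < 64 → sm gi (Qf (1344 + r)) = Qf (tab Gen.i (1344 + r)) :=
  edges_tab (sm gi) Qf (tab Gen.i) 1344 [(1344, 1693), (1345, 1048), (1346, 1678), (1347, 1679), (1348, 1699), (1349, 1701), (1350, 1051), (1351, 1653), (1352, 1669), (1353, 1668), (1354, 1054), (1355, 1072), (1356, 1073), (1357, 1357), (1358, 1074), (1359, 1075), (1360, 1360), (1361, 1076), (1362, 1077), (1363, 1363), (1364, 1364), (1365, 1078), (1366, 1366), (1367, 1367), (1368, 1702), (1369, 1704), (1370, 1705), (1371, 1708), (1372, 1711), (1373, 1712), (1374, 1643), (1375, 1375), (1376, 1728), (1377, 1377), (1378, 1731), (1379, 1733), (1380, 1082), (1381, 1734), (1382, 1084), (1383, 1736), (1384, 1738), (1385, 1087), (1386, 1740), (1387, 1088), (1388, 1090), (1389, 1744), (1390, 1093), (1391, 1746), (1392, 1094), (1393, 1749), (1394, 1096), (1395, 1395), (1396, 1397), (1397, 1396), (1398, 1115), (1399, 1753), (1400, 1101), (1401, 1108), (1402, 1103), (1403, 1111), (1404, 1756), (1405, 1113), (1406,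 1114), (1407, 1754)]
    ⟨e3 q1344 L21113 q1693, e3 q1345 (flp_i L15480) q1048, e3 q1346 (flp_i L20934) q1678, e3 q1347 (flp_i L20941) q1679, e3 q1348 L21153 q1699, e3 q1349 L21165 q1701, e3 q1350 (flp_i L15510) q1051, e3 q1351 L119893 q1653, e3 q1352 L116189 q1669, e3 q1353 L120662 q1668, e3 q1354 (flp_i L15541) q1054, e3 q1355 L15584 q1072, e3 q1356 L15594 q1073, e3 q1357 L15605 q1357, e3 q1358 L15611 q1074, e3 q1359 L15621 q1075, e3 q1360 L15633 q1360, e3 q1361 L15639 q1076, e3 q1362 L15647 q1077, e3 q1363 L15658 q1363, e3 q1364 L15664 q1364, e3 q1365 L15672 q1078, e3 q1366 L15681 q1366, e3 q1367 L15691 q1367, e3 q1368 (flp_i L21228) q1702, e3 q1369 (flp_i L21246) q1704, e3 q1370 (flp_i L21255) q1705, e3 q1371 (flp_i L21283) q1708, e3 q1372 (flp_i L21309) q1711, e3 q1373 (flp_i L21318) q1712, e3 q1374 L120242 q1643, e3 q1375 L15774 q1375, e3 q1376 L21486 q1728, e3 q1377 L15792 q1377, e3 q1378 L21512 q1731, e3 q1379 L21529 q1733, e3 q1380 (flp_i L15808) q1082, e3 q1381 L21536 q1734, e3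 q1382 (flp_i L15827) q1084, e3 q1383 L21552 q1736, e3 q1384 L21566 q1738, e3 q1385 (flp_i L15850) q1087, e3 q1386 L21578 q1740, e3 q1387 (flp_i L15865) q1088, e3 q1388 (flp_i L15871) q1090, e3 q1389 L21606 q1744, e3 q1390 (flp_i L15888) q1093, e3 q1391 L21622 q1746, e3 q1392 (flp_i L15904) q1094, e3 q1393 L21646 q1749, e3 q1394 (flp_i L15919) q1096, e3 q1395 L15933 q1395, e3 q1396 (flp_i L16499) q1397, e3 q1397 L16499 q1396, e3 q1398 L83435 q1115, e3 q1399 L111669 q1753, e3 q1400 L106091 q1101, e3 q1401 (flp_i L83487) q1108, e3 q1402 (flp_i L111141) q1103, e3 q1403 L111644 q1111, e3 q1404 (flp_i L111079) q1756, e3 q1405 L16668 q1113, e3 q1406 L16681 q1114, e3 q1407 L111727 q1754, trivial⟩ (by decide +kernel)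

theorem ce_i_22 : ∀ r, r < 64 → sm gi (Qf (1408 + r)) = Qf (tab Gen.i (1408 + r)) :=
  edges_tab (sm gi) Qf (tab Gen.i) 1408 [(1408, 1116), (1409, 1117), (1410, 1757), (1411, 1758), (1412, 1751), (1413, 1760), (1414, 1134), (1415, 1415), (1416, 1135), (1417, 1136), (1418, 1418), (1419, 1419), (1420, 1137), (1421, 1421), (1422, 1422), (1423, 1138), (1424, 1139), (1425, 1425), (1426, 1426), (1427, 1427), (1428, 1428), (1429, 1140), (1430, 1430), (1431, 1431), (1432, 1763), (1433, 1764), (1434, 1767), (1435, 1768), (1436, 1773), (1437, 1776), (1438, 1777), (1439, 1476), (1440, 1477), (1441, 1478), (1442, 1479), (1443, 1792), (1444, 1482), (1445, 1794), (1446, 1145), (1447, 1486), (1448, 1487), (1449, 1800), (1450, 1490), (1451, 1804), (1452, 1492), (1453, 1806), (1454, 1150), (1455, 1807), (1456, 1152), (1457, 1500), (1458, 1501), (1459, 1503), (1460, 1507), (1461, 1461), (1462, 1462), (1463, 1815), (1464, 1816), (1465, 1160), (1466, 1818), (1467, 1820), (1468, 1162), (1469, 1163), (1470,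 1470), (1471, 1471)]
    ⟨e3 q1408 L16710 q1116, e3 q1409 L16748 q1117, e3 q1410 L106367 q1757, e3 q1411 (flp_i L22683) q1758, e3 q1412 (flp_i L112025) q1751, e3 q1413 (flp_i L22712) q1760, e3 q1414 L17222 q1134, e3 q1415 L17231 q1415, e3 q1416 L17238 q1135, e3 q1417 L17247 q1136, e3 q1418 L17257 q1418, e3 q1419 L17262 q1419, e3 q1420 L17272 q1137, e3 q1421 L17282 q1421, e3 q1422 L17291 q1422, e3 q1423 L17296 q1138, e3 q1424 L17306 q1139, e3 q1425 L17316 q1425, e3 q1426 L17324 q1426, e3 q1427 L17330 q1427, e3 q1428 L17336 q1428, e3 q1429 L17343 q1140, e3 q1430 L17354 q1430, e3 q1431 L17360 q1431, e3 q1432 (flp_i L23406) q1763, e3 q1433 (flp_i L23415) q1764, e3 q1434 (flp_i L23437) q1767, e3 q1435 (flp_i L23448) q1768, e3 q1436 (flp_i L23490) q1773, e3 q1437 (flp_i L23518) q1776, e3 q1438 (flp_i L23530) q1777, e3 q1439 (flp_i L18788) q1476, e3 q1440 (flp_i L18797) q1477, e3 q1441 (flp_i L18805) q1478, e3 q1442 (flp_i L18816) q1479, e3 q1443 L24194 q1792, e3 q1444 (flp_i L18838) q1482, e3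 q1445 L24227 q1794, e3 q1446 (flp_i L17857) q1145, e3 q1447 (flp_i L18874) q1486, e3 q1448 (flp_i L18883) q1487, e3 q1449 L24283 q1800, e3 q1450 (flp_i L18909) q1490, e3 q1451 L24314 q1804, e3 q1452 (flp_i L18922) q1492, e3 q1453 L24342 q1806, e3 q1454 (flp_i L17931) q1150, e3 q1455 L24373 q1807, e3 q1456 (flp_i L17961) q1152, e3 q1457 (flp_i L18988) q1500, e3 q1458 (flp_i L18998) q1501, e3 q1459 (flp_i L19014) q1503, e3 q1460 (flp_i L19051) q1507, e3 q1461 L18138 q1461, e3 q1462 L18149 q1462, e3 q1463 L24668 q1815, e3 q1464 L24706 q1816, e3 q1465 (flp_i L18186) q1160, e3 q1466 L24753 q1818, e3 q1467 L24767 q1820, e3 q1468 (flp_i L18222) q1162, e3 q1469 (flp_i L18253) q1163, e3 q1470 L18744 q1470, e3 q1471 L18750 q1471, trivial⟩ (by decide +kernel)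

theorem ce_i_23 : ∀ r, r < 64 → sm gi (Qf (1472 + r)) = Qf (tab Gen.i (1472 + r)) :=
  edges_tab (sm gi) Qf (tab Gen.i) 1472 [(1472, 1472), (1473, 1473), (1474, 1830), (1475, 1475), (1476, 1439), (1477, 1440), (1478, 1441), (1479, 1442), (1480, 1840), (1481, 1293), (1482, 1444), (1483, 1292), (1484, 1844), (1485, 1175), (1486, 1447), (1487, 1448), (1488, 1851), (1489, 1290), (1490, 1450), (1491, 1856), (1492, 1452), (1493, 1291), (1494, 1860), (1495, 1181), (1496, 1271), (1497, 1864), (1498, 1865), (1499, 1185), (1500, 1457), (1501, 1458), (1502, 1872), (1503, 1459), (1504, 1263), (1505, 1876), (1506, 1189), (1507, 1460), (1508, 1267), (1509, 1882), (1510, 1883), (1511, 1192), (1512, 1270), (1513, 1884), (1514, 1254), (1515, 1195), (1516, 1198), (1517, 1257), (1518, 1861), (1519, 1519), (1520, 1520), (1521, 1521), (1522, 1522), (1523, 1898), (1524, 1524), (1525, 1212), (1526, 1213), (1527, 1214), (1528, 1215), (1529, 1908), (1530, 1217), (1531, 1218), (1532, 1219), (1533, 1912), (1534,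 1210), (1535, 1899)]
    ⟨e3 q1472 L18759 q1472, e3 q1473 L18766 q1473, e3 q1474 L25504 q1830, e3 q1475 L18781 q1475, e3 q1476 L18788 q1439, e3 q1477 L18797 q1440, e3 q1478 L18805 q1441, e3 q1479 L18816 q1442, e3 q1480 L25588 q1840, e3 q1481 L100824 q1293, e3 q1482 L18838 q1444, e3 q1483 (flp_i L109276) q1292, e3 q1484 L25621 q1844, e3 q1485 (flp_i L18858) q1175, e3 q1486 L18874 q1447, e3 q1487 L18883 q1448, e3 q1488 L25681 q1851, e3 q1489 L109728 q1290, e3 q1490 L18909 q1450, e3 q1491 L25718 q1856, e3 q1492 L18922 q1452, e3 q1493 L109717 q1291, e3 q1494 L25753 q1860, e3 q1495 (flp_i L18944) q1181, e3 q1496 L86739 q1271, e3 q1497 L25784 q1864, e3 q1498 L25792 q1865, e3 q1499 (flp_i L18974) q1185, e3 q1500 L18988 q1457, e3 q1501 L18998 q1458, e3 q1502 L25855 q1872, e3 q1503 L19014 q1459, e3 q1504 L111464 q1263, e3 q1505 L25892 q1876, e3 q1506 (flp_i L19035) q1189, e3 q1507 L19051 q1460, e3 q1508 (flp_i L110958) q1267, e3 q1509 L25943 q1882, e3 q1510 L25952 q1883, e3 q1511 (flp_i L19080) q1192,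 e3 q1512 (flp_i L111422) q1270, e3 q1513 L104297 q1884, e3 q1514 L110882 q1254, e3 q1515 (flp_i L19116) q1195, e3 q1516 (flp_i L108941) q1198, e3 q1517 (flp_i L109054) q1257, e3 q1518 L109233 q1861, e3 q1519 L19176 q1519, e3 q1520 L19182 q1520, e3 q1521 L19192 q1521, e3 q1522 L19201 q1522, e3 q1523 L26124 q1898, e3 q1524 L19220 q1524, e3 q1525 L19229 q1212, e3 q1526 L19241 q1213, e3 q1527 L19249 q1214, e3 q1528 L19261 q1215, e3 q1529 L26219 q1908, e3 q1530 L19277 q1217, e3 q1531 L19286 q1218, e3 q1532 L19299 q1219, e3 q1533 L26258 q1912, e3 q1534 (flp_i L19310) q1210, e3 q1535 (flp_i L26141) q1899, trivial⟩ (by decide +kernel)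

theorem ce_i_24 : ∀ r, r < 64 → sm gi (Qf (1536 + r)) = Qf (tab Gen.i (1536 + r)) :=
  edges_tab (sm gi) Qf (tab Gen.i) 1536 [(1536, 1900), (1537, 1919), (1538, 1902), (1539, 1903), (1540, 1924), (1541, 1905), (1542, 1906), (1543, 1928), (1544, 1216), (1545, 1909), (1546, 1932), (1547, 1933), (1548, 1220), (1549, 1232), (1550, 1233), (1551, 1940), (1552, 1235), (1553, 1236), (1554, 1945), (1555, 1238), (1556, 1239), (1557, 1949), (1558, 1226), (1559, 1242), (1560, 1952), (1561, 1953), (1562, 1230), (1563, 1934), (1564, 1935), (1565, 1960), (1566, 1937), (1567, 1938), (1568, 1964), (1569, 1234), (1570, 1941), (1571, 1942), (1572, 1970), (1573, 1972), (1574, 1237), (1575, 1946), (1576, 1976), (1577, 1977), (1578, 1240), (1579, 1887), (1580, 1978), (1581, 1980), (1582, 1243), (1583, 1244), (1584, 1258), (1585, 1259), (1586, 1987), (1587, 1261), (1588, 1262), (1589, 1875), (1590, 1248), (1591, 1265), (1592, 1266), (1593, 1880), (1594, 1994), (1595, 1251), (1596, 1269), (1597, 1885), (1598,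 1981), (1599, 1998)]
    ⟨e3 q1536 (flp_i L26153) q1900, e3 q1537 L26309 q1919, e3 q1538 (flp_i L26173) q1902, e3 q1539 (flp_i L26184) q1903, e3 q1540 L26346 q1924, e3 q1541 (flp_i L26199) q1905, e3 q1542 (flp_i L26210) q1906, e3 q1543 L26374 q1928, e3 q1544 (flp_i L19383) q1216, e3 q1545 (flp_i L26237) q1909, e3 q1546 L26399 q1932, e3 q1547 L26405 q1933, e3 q1548 (flp_i L19410) q1220, e3 q1549 L19424 q1232, e3 q1550 L19436 q1233, e3 q1551 L26475 q1940, e3 q1552 L19459 q1235, e3 q1553 L19468 q1236, e3 q1554 L26516 q1945, e3 q1555 L19481 q1238, e3 q1556 L19493 q1239, e3 q1557 L26551 q1949, e3 q1558 (flp_i L19503) q1226, e3 q1559 L19521 q1242, e3 q1560 L26588 q1952, e3 q1561 L26598 q1953, e3 q1562 (flp_i L19539) q1230, e3 q1563 (flp_i L26420) q1934, e3 q1564 (flp_i L26432) q1935, e3 q1565 L26651 q1960, e3 q1566 (flp_i L26449) q1937, e3 q1567 (flp_i L26463) q1938, e3 q1568 L26681 q1964, e3 q1569 (flp_i L19589) q1234, e3 q1570 (flp_i L26491) q1941, e3 q1571 (flp_i L26501) q1942, e3 q1572 L26722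 q1970, e3 q1573 L26735 q1972, e3 q1574 (flp_i L19620) q1237, e3 q1575 (flp_i L26533) q1946, e3 q1576 L26765 q1976, e3 q1577 L26771 q1977, e3 q1578 (flp_i L19648) q1240, e3 q1579 L86901 q1887, e3 q1580 L26793 q1978, e3 q1581 L26805 q1980, e3 q1582 (flp_i L19673) q1243, e3 q1583 (flp_i L19677) q1244, e3 q1584 L19692 q1258, e3 q1585 L19705 q1259, e3 q1586 L26872 q1987, e3 q1587 L19723 q1261, e3 q1588 L19735 q1262, e3 q1589 (flp_i L111361) q1875, e3 q1590 (flp_i L19748) q1248, e3 q1591 L19766 q1265, e3 q1592 L19777 q1266, e3 q1593 L111167 q1880, e3 q1594 L26989 q1994, e3 q1595 (flp_i L19796) q1251, e3 q1596 L19813 q1269, e3 q1597 (flp_i L111378) q1885, e3 q1598 (flp_i L26820) q1981, e3 q1599 L27112 q1998, trivial⟩ (by decide +kernel)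

theorem ce_i_25 : ∀ r, r < 64 → sm gi (Qf (1600 + r)) = Qf (tab Gen.i (1600 + r)) :=
  edges_tab (sm gi) Qf (tab Gen.i) 1600 [(1600, 1983), (1601, 1984), (1602, 1869), (1603, 1260), (1604, 1988), (1605, 1873), (1606, 1990), (1607, 1991), (1608, 1878), (1609, 1857), (1610, 1841), (1611, 1611), (1612, 2012), (1613, 1613), (1614, 1614), (1615, 2016), (1616, 2018), (1617, 1274), (1618, 2020), (1619, 2021), (1620, 1277), (1621, 2023), (1622, 2025), (1623, 2027), (1624, 1281), (1625, 2029), (1626, 1282), (1627, 2032), (1628, 1284), (1629, 1285), (1630, 2034), (1631, 1287), (1632, 1849), (1633, 1853), (1634, 1838), (1635, 1834), (1636, 1636), (1637, 1637), (1638, 1638), (1639, 1639), (1640, 1640), (1641, 1641), (1642, 1642), (1643, 1374), (1644, 1644), (1645, 1315), (1646, 1316), (1647, 2053), (1648, 1318), (1649, 1319), (1650, 2058), (1651, 1321), (1652, 1322), (1653, 1351), (1654, 1309), (1655, 2047), (1656, 2048), (1657, 2065), (1658, 2050), (1659, 2051), (1660, 2069), (1661, 1317), (1662,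 2054), (1663, 2055)]
    ⟨e3 q1600 (flp_i L26839) q1983, e3 q1601 (flp_i L26851) q1984, e3 q1602 L112068 q1869, e3 q1603 (flp_i L19931) q1260, e3 q1604 (flp_i L26892) q1988, e3 q1605 (flp_i L83750) q1873, e3 q1606 (flp_i L26931) q1990, e3 q1607 (flp_i L26942) q1991, e3 q1608 (flp_i L110848) q1878, e3 q1609 L109256 q1857, e3 q1610 L109249 q1841, e3 q1611 L20081 q1611, e3 q1612 L27357 q2012, e3 q1613 L20095 q1613, e3 q1614 L20106 q1614, e3 q1615 L27401 q2016, e3 q1616 L27418 q2018, e3 q1617 (flp_i L20123) q1274, e3 q1618 L27449 q2020, e3 q1619 L27457 q2021, e3 q1620 (flp_i L20155) q1277, e3 q1621 L27488 q2023, e3 q1622 L27505 q2025, e3 q1623 L27519 q2027, e3 q1624 (flp_i L20194) q1281, e3 q1625 L27532 q2029, e3 q1626 (flp_i L20209) q1282, e3 q1627 L27576 q2032, e3 q1628 (flp_i L20239) q1284, e3 q1629 (flp_i L20247) q1285, e3 q1630 L27617 q2034, e3 q1631 (flp_i L20282) q1287, e3 q1632 L104684 q1849, e3 q1633 (flp_i L104443) q1853, e3 q1634 L104072 q1838, e3 q1635 L103186 q1834, e3 q1636 L20481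 q1636, e3 q1637 L20487 q1637, e3 q1638 L20496 q1638, e3 q1639 L20528 q1639, e3 q1640 L20536 q1640, e3 q1641 L20541 q1641, e3 q1642 L20549 q1642, e3 q1643 (flp_i L120242) q1374, e3 q1644 L20564 q1644, e3 q1645 L20602 q1315, e3 q1646 L20611 q1316, e3 q1647 L28092 q2053, e3 q1648 L20626 q1318, e3 q1649 L20635 q1319, e3 q1650 L28132 q2058, e3 q1651 L20649 q1321, e3 q1652 L20659 q1322, e3 q1653 (flp_i L119893) q1351, e3 q1654 (flp_i L20668) q1309, e3 q1655 (flp_i L28045) q2047, e3 q1656 (flp_i L28056) q2048, e3 q1657 L28261 q2065, e3 q1658 (flp_i L28071) q2050, e3 q1659 (flp_i L28082) q2051, e3 q1660 L28294 q2069, e3 q1661 (flp_i L20755) q1317, e3 q1662 (flp_i L28107) q2054, e3 q1663 (flp_i L28116) q2055, trivial⟩ (by decide +kernel)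

theorem ce_i_26 : ∀ r, r < 64 → sm gi (Qf (1664 + r)) = Qf (tab Gen.i (1664 + r)) :=
  edges_tab (sm gi) Qf (tab Gen.i) 1664 [(1664, 2075), (1665, 2077), (1666, 1320), (1667, 1337), (1668, 1353), (1669, 1352), (1670, 1323), (1671, 1339), (1672, 1340), (1673, 2084), (1674, 1342), (1675, 1343), (1676, 2066), (1677, 1331), (1678, 1346), (1679, 1347), (1680, 2071), (1681, 2088), (1682, 1334), (1683, 2078), (1684, 2093), (1685, 2080), (1686, 2081), (1687, 2099), (1688, 2101), (1689, 1341), (1690, 2052), (1691, 2068), (1692, 2067), (1693, 1344), (1694, 2085), (1695, 2056), (1696, 2073), (1697, 2072), (1698, 2107), (1699, 1348), (1700, 2109), (1701, 1349), (1702, 1368), (1703, 1703), (1704, 1369), (1705, 1370), (1706, 1706), (1707, 1707), (1708, 1371), (1709, 1709), (1710, 1710), (1711, 1372), (1712, 1373), (1713, 1713), (1714, 1714), (1715, 1715), (1716, 1716), (1717, 2111), (1718, 2112), (1719, 2115), (1720, 2116), (1721, 2043), (1722, 2121), (1723, 2134), (1724, 2046), (1725, 1725), (1726,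 2137), (1727, 2140)]
    ⟨e3 q1664 L28341 q2075, e3 q1665 L28356 q2077, e3 q1666 (flp_i L20791) q1320, e3 q1667 (flp_i L119822) q1337, e3 q1668 (flp_i L120662) q1353, e3 q1669 (flp_i L116189) q1352, e3 q1670 (flp_i L20821) q1323, e3 q1671 L20873 q1339, e3 q1672 L20882 q1340, e3 q1673 L28481 q2084, e3 q1674 L20897 q1342, e3 q1675 L20909 q1343, e3 q1676 (flp_i L117508) q2066, e3 q1677 (flp_i L20920) q1331, e3 q1678 L20934 q1346, e3 q1679 L20941 q1347, e3 q1680 (flp_i L116293) q2071, e3 q1681 L28576 q2088, e3 q1682 (flp_i L20954) q1334, e3 q1683 (flp_i L28440) q2078, e3 q1684 L28690 q2093, e3 q1685 (flp_i L28455) q2080, e3 q1686 (flp_i L28464) q2081, e3 q1687 L28738 q2099, e3 q1688 L28754 q2101, e3 q1689 (flp_i L21077) q1341, e3 q1690 (flp_i L119877) q2052, e3 q1691 (flp_i L119792) q2068, e3 q1692 (flp_i L118958) q2067, e3 q1693 (flp_i L21113) q1344, e3 q1694 (flp_i L28532) q2085, e3 q1695 (flp_i L119867) q2056, e3 q1696 (flp_i L119784) q2073, e3 q1697 (flp_i L119664) q2072, e3 q1698 L28855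 q2107, e3 q1699 (flp_i L21153) q1348, e3 q1700 L28868 q2109, e3 q1701 (flp_i L21165) q1349, e3 q1702 L21228 q1368, e3 q1703 L21239 q1703, e3 q1704 L21246 q1369, e3 q1705 L21255 q1370, e3 q1706 L21267 q1706, e3 q1707 L21274 q1707, e3 q1708 L21283 q1371, e3 q1709 L21293 q1709, e3 q1710 L21304 q1710, e3 q1711 L21309 q1372, e3 q1712 L21318 q1373, e3 q1713 L21328 q1713, e3 q1714 L21338 q1714, e3 q1715 L21344 q1715, e3 q1716 L21352 q1716, e3 q1717 (flp_i L28913) q2111, e3 q1718 (flp_i L28922) q2112, e3 q1719 (flp_i L28948) q2115, e3 q1720 (flp_i L28958) q2116, e3 q1721 (flp_i L116913) q2043, e3 q1722 (flp_i L29031) q2121, e3 q1723 L29175 q2134, e3 q1724 L116753 q2046, e3 q1725 L21469 q1725, e3 q1726 L29197 q2137, e3 q1727 L29220 q2140, trivial⟩ (by decide +kernel)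

theorem ce_i_27 : ∀ r, r < 64 → sm gi (Qf (1728 + r)) = Qf (tab Gen.i (1728 + r)) :=
  edges_tab (sm gi) Qf (tab Gen.i) 1728 [(1728, 1376), (1729, 2142), (1730, 2144), (1731, 1378), (1732, 2146), (1733, 1379), (1734, 1381), (1735, 2149), (1736, 1383), (1737, 2151), (1738, 1384), (1739, 2154), (1740, 1386), (1741, 2030), (1742, 2157), (1743, 2159), (1744, 1389), (1745, 2162), (1746, 1391), (1747, 1747), (1748, 2164), (1749, 1393), (1750, 1750), (1751, 1412), (1752, 2167), (1753, 1399), (1754, 1407), (1755, 2170), (1756, 1404), (1757, 1410), (1758, 1411), (1759, 2168), (1760, 1413), (1761, 2171), (1762, 2172), (1763, 1432), (1764, 1433), (1765, 1765), (1766, 1766), (1767, 1434), (1768, 1435), (1769, 1769), (1770, 1770), (1771, 1771), (1772, 1772), (1773, 1436), (1774, 1774), (1775, 1775), (1776, 1437), (1777, 1438), (1778, 1778), (1779, 1779), (1780, 2174), (1781, 2175), (1782, 2181), (1783, 2182), (1784, 2185), (1785, 1831), (1786, 1832), (1787, 2196), (1788, 1835), (1789, 2200), (1790,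 1837), (1791, 2202)]
    ⟨e3 q1728 (flp_i L21486) q1376, e3 q1729 L29235 q2142, e3 q1730 L29251 q2144, e3 q1731 (flp_i L21512) q1378, e3 q1732 L29265 q2146, e3 q1733 (flp_i L21529) q1379, e3 q1734 (flp_i L21536) q1381, e3 q1735 L29286 q2149, e3 q1736 (flp_i L21552) q1383, e3 q1737 L29300 q2151, e3 q1738 (flp_i L21566) q1384, e3 q1739 L29318 q2154, e3 q1740 (flp_i L21578) q1386, e3 q1741 (flp_i L27544) q2030, e3 q1742 L29339 q2157, e3 q1743 L29355 q2159, e3 q1744 (flp_i L21606) q1389, e3 q1745 L29380 q2162, e3 q1746 (flp_i L21622) q1391, e3 q1747 L21638 q1747, e3 q1748 L29397 q2164, e3 q1749 (flp_i L21646) q1393, e3 q1750 L21660 q1750, e3 q1751 L112025 q1412, e3 q1752 (flp_i L112191) q2167, e3 q1753 (flp_i L111669) q1399, e3 q1754 (flp_i L111727) q1407, e3 q1755 (flp_i L112207) q2170, e3 q1756 L111079 q1404, e3 q1757 (flp_i L106367) q1410, e3 q1758 L22683 q1411, e3 q1759 (flp_i L112230) q2168, e3 q1760 L22712 q1413, e3 q1761 (flp_i L112236) q2171, e3 q1762 (flp_i L30860) q2172, e3 q1763 L23406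 q1432, e3 q1764 L23415 q1433, e3 q1765 L23425 q1765, e3 q1766 L23431 q1766, e3 q1767 L23437 q1434, e3 q1768 L23448 q1435, e3 q1769 L23459 q1769, e3 q1770 L23468 q1770, e3 q1771 L23475 q1771, e3 q1772 L23482 q1772, e3 q1773 L23490 q1436, e3 q1774 L23502 q1774, e3 q1775 L23509 q1775, e3 q1776 L23518 q1437, e3 q1777 L23530 q1438, e3 q1778 L23542 q1778, e3 q1779 L23553 q1779, e3 q1780 (flp_i L31828) q2174, e3 q1781 (flp_i L31838) q2175, e3 q1782 (flp_i L31887) q2181, e3 q1783 (flp_i L31901) q2182, e3 q1784 (flp_i L31975) q2185, e3 q1785 (flp_i L25519) q1831, e3 q1786 (flp_i L25528) q1832, e3 q1787 L32833 q2196, e3 q1788 (flp_i L25553) q1835, e3 q1789 L32870 q2200, e3 q1790 (flp_i L25568) q1837, e3 q1791 L32898 q2202, trivial⟩ (by decide +kernel)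

theorem ce_i_28 : ∀ r, r < 64 → sm gi (Qf (1792 + r)) = Qf (tab Gen.i (1792 + r)) :=
  edges_tab (sm gi) Qf (tab Gen.i) 1792 [(1792, 1443), (1793, 2204), (1794, 1445), (1795, 1845), (1796, 1846), (1797, 2210), (1798, 1848), (1799, 2212), (1800, 1449), (1801, 1852), (1802, 2216), (1803, 2218), (1804, 1451), (1805, 2219), (1806, 1453), (1807, 1455), (1808, 1866), (1809, 1868), (1810, 1877), (1811, 1811), (1812, 2225), (1813, 2227), (1814, 2229), (1815, 1463), (1816, 1464), (1817, 2231), (1818, 1466), (1819, 2233), (1820, 1467), (1821, 1821), (1822, 1822), (1823, 1823), (1824, 1824), (1825, 2244), (1826, 1826), (1827, 1827), (1828, 1828), (1829, 2248), (1830, 1474), (1831, 1785), (1832, 1786), (1833, 2255), (1834, 1635), (1835, 1788), (1836, 2260), (1837, 1790), (1838, 1634), (1839, 2264), (1840, 1480), (1841, 1610), (1842, 2268), (1843, 2269), (1844, 1484), (1845, 1795), (1846, 1796), (1847, 2276), (1848, 1798), (1849, 1632), (1850, 2280), (1851, 1488), (1852, 1801), (1853, 1633), (1854,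 2286), (1855, 2288)]
    ⟨e3 q1792 (flp_i L24194) q1443, e3 q1793 L32929 q2204, e3 q1794 (flp_i L24227) q1445, e3 q1795 (flp_i L25635) q1845, e3 q1796 (flp_i L25644) q1846, e3 q1797 L32991 q2210, e3 q1798 (flp_i L25659) q1848, e3 q1799 L33027 q2212, e3 q1800 (flp_i L24283) q1449, e3 q1801 (flp_i L25695) q1852, e3 q1802 L33068 q2216, e3 q1803 L33080 q2218, e3 q1804 (flp_i L24314) q1451, e3 q1805 L33110 q2219, e3 q1806 (flp_i L24342) q1453, e3 q1807 (flp_i L24373) q1455, e3 q1808 (flp_i L25806) q1866, e3 q1809 (flp_i L25823) q1868, e3 q1810 (flp_i L25906) q1877, e3 q1811 L24627 q1811, e3 q1812 L33541 q2225, e3 q1813 L33594 q2227, e3 q1814 L33610 q2229, e3 q1815 (flp_i L24668) q1463, e3 q1816 (flp_i L24706) q1464, e3 q1817 L33733 q2231, e3 q1818 (flp_i L24753) q1466, e3 q1819 L33745 q2233, e3 q1820 (flp_i L24767) q1467, e3 q1821 L25441 q1821, e3 q1822 L25450 q1822, e3 q1823 L25456 q1823, e3 q1824 L25465 q1824, e3 q1825 L34699 q2244, e3 q1826 L25482 q1826, e3 q1827 L25487 q1827, e3 q1828 L25495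 q1828, e3 q1829 L34729 q2248, e3 q1830 (flp_i L25504) q1474, e3 q1831 L25519 q1785, e3 q1832 L25528 q1786, e3 q1833 L34789 q2255, e3 q1834 (flp_i L103186) q1635, e3 q1835 L25553 q1788, e3 q1836 L34832 q2260, e3 q1837 L25568 q1790, e3 q1838 (flp_i L104072) q1634, e3 q1839 L34867 q2264, e3 q1840 (flp_i L25588) q1480, e3 q1841 (flp_i L109249) q1610, e3 q1842 L34898 q2268, e3 q1843 L34908 q2269, e3 q1844 (flp_i L25621) q1484, e3 q1845 L25635 q1795, e3 q1846 L25644 q1796, e3 q1847 L34966 q2276, e3 q1848 L25659 q1798, e3 q1849 (flp_i L104684) q1632, e3 q1850 L35003 q2280, e3 q1851 (flp_i L25681) q1488, e3 q1852 L25695 q1801, e3 q1853 L104443 q1633, e3 q1854 L35050 q2286, e3 q1855 L35065 q2288, trivial⟩ (by decide +kernel)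

theorem ce_i_29 : ∀ r, r < 64 → sm gi (Qf (1856 + r)) = Qf (tab Gen.i (1856 + r)) :=
  edges_tab (sm gi) Qf (tab Gen.i) 1856 [(1856, 1491), (1857, 1609), (1858, 2292), (1859, 2293), (1860, 1494), (1861, 1518), (1862, 2296), (1863, 2298), (1864, 1497), (1865, 1498), (1866, 1808), (1867, 2303), (1868, 1809), (1869, 1602), (1870, 2309), (1871, 2310), (1872, 1502), (1873, 1605), (1874, 2311), (1875, 1589), (1876, 1505), (1877, 1810), (1878, 1608), (1879, 2316), (1880, 1593), (1881, 2321), (1882, 1509), (1883, 1510), (1884, 1513), (1885, 1597), (1886, 2289), (1887, 1579), (1888, 2265), (1889, 1889), (1890, 1890), (1891, 1891), (1892, 1892), (1893, 2335), (1894, 1894), (1895, 1895), (1896, 1896), (1897, 2339), (1898, 1523), (1899, 1535), (1900, 1536), (1901, 2346), (1902, 1538), (1903, 1539), (1904, 2351), (1905, 1541), (1906, 1542), (1907, 2355), (1908, 1529), (1909, 1545), (1910, 2358), (1911, 2359), (1912, 1533), (1913, 2340), (1914, 2341), (1915, 2366), (1916, 2343), (1917, 2344), (1918,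 2370), (1919, 1537)]
    ⟨e3 q1856 (flp_i L25718) q1491, e3 q1857 (flp_i L109256) q1609, e3 q1858 L35099 q2292, e3 q1859 L35109 q2293, e3 q1860 (flp_i L25753) q1494, e3 q1861 (flp_i L109233) q1518, e3 q1862 L35133 q2296, e3 q1863 L35148 q2298, e3 q1864 (flp_i L25784) q1497, e3 q1865 (flp_i L25792) q1498, e3 q1866 L25806 q1808, e3 q1867 L35190 q2303, e3 q1868 L25823 q1809, e3 q1869 (flp_i L112068) q1602, e3 q1870 L35248 q2309, e3 q1871 L35258 q2310, e3 q1872 (flp_i L25855) q1502, e3 q1873 L83750 q1605, e3 q1874 L111398 q2311, e3 q1875 L111361 q1589, e3 q1876 (flp_i L25892) q1505, e3 q1877 L25906 q1810, e3 q1878 L110848 q1608, e3 q1879 (flp_i L111176) q2316, e3 q1880 (flp_i L111167) q1593, e3 q1881 L35390 q2321, e3 q1882 (flp_i L25943) q1509, e3 q1883 (flp_i L25952) q1510, e3 q1884 (flp_i L104297) q1513, e3 q1885 L111378 q1597, e3 q1886 (flp_i L104360) q2289, e3 q1887 (flp_i L86901) q1579, e3 q1888 L104057 q2265, e3 q1889 L26050 q1889, e3 q1890 L26062 q1890, e3 q1891 L26068 q1891, e3 q1892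 L26078 q1892, e3 q1893 L35579 q2335, e3 q1894 L26096 q1894, e3 q1895 L26103 q1895, e3 q1896 L26113 q1896, e3 q1897 L35615 q2339, e3 q1898 (flp_i L26124) q1523, e3 q1899 L26141 q1535, e3 q1900 L26153 q1536, e3 q1901 L35687 q2346, e3 q1902 L26173 q1538, e3 q1903 L26184 q1539, e3 q1904 L35734 q2351, e3 q1905 L26199 q1541, e3 q1906 L26210 q1542, e3 q1907 L35769 q2355, e3 q1908 (flp_i L26219) q1529, e3 q1909 L26237 q1545, e3 q1910 L35806 q2358, e3 q1911 L35818 q2359, e3 q1912 (flp_i L26258) q1533, e3 q1913 (flp_i L35632) q2340, e3 q1914 (flp_i L35646) q2341, e3 q1915 L35875 q2366, e3 q1916 (flp_i L35663) q2343, e3 q1917 (flp_i L35676) q2344, e3 q1918 L35903 q2370, e3 q1919 (flp_i L26309) q1537, trivial⟩ (by decide +kernel)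

theorem ce_i_30 : ∀ r, r < 64 → sm gi (Qf (1920 + r)) = Qf (tab Gen.i (1920 + r)) :=
  edges_tab (sm gi) Qf (tab Gen.i) 1920 [(1920, 2347), (1921, 2348), (1922, 2376), (1923, 2378), (1924, 1540), (1925, 2352), (1926, 2382), (1927, 2383), (1928, 1543), (1929, 2324), (1930, 2386), (1931, 2388), (1932, 1546), (1933, 1547), (1934, 1563), (1935, 1564), (1936, 2395), (1937, 1566), (1938, 1567), (1939, 2399), (1940, 1551), (1941, 1570), (1942, 1571), (1943, 2405), (1944, 2407), (1945, 1554), (1946, 1575), (1947, 2410), (1948, 2411), (1949, 1557), (1950, 2412), (1951, 2413), (1952, 1560), (1953, 1561), (1954, 2389), (1955, 2418), (1956, 2391), (1957, 2392), (1958, 2424), (1959, 2426), (1960, 1565), (1961, 2396), (1962, 2430), (1963, 2431), (1964, 1568), (1965, 2400), (1966, 2401), (1967, 2437), (1968, 2439), (1969, 2441), (1970, 1572), (1971, 2443), (1972, 1573), (1973, 2322), (1974, 2445), (1975, 2447), (1976, 1576), (1977, 1577), (1978, 1580), (1979, 2449), (1980, 1581), (1981, 1598), (1982,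 2454), (1983, 1600)]
    ⟨e3 q1920 (flp_i L35704) q2347, e3 q1921 (flp_i L35716) q2348, e3 q1922 L35951 q2376, e3 q1923 L35967 q2378, e3 q1924 (flp_i L26346) q1540, e3 q1925 (flp_i L35752) q2352, e3 q1926 L35995 q2382, e3 q1927 L36001 q2383, e3 q1928 (flp_i L26374) q1543, e3 q1929 (flp_i L109083) q2324, e3 q1930 L36022 q2386, e3 q1931 L36036 q2388, e3 q1932 (flp_i L26399) q1546, e3 q1933 (flp_i L26405) q1547, e3 q1934 L26420 q1563, e3 q1935 L26432 q1564, e3 q1936 L36097 q2395, e3 q1937 L26449 q1566, e3 q1938 L26463 q1567, e3 q1939 L36140 q2399, e3 q1940 (flp_i L26475) q1551, e3 q1941 L26491 q1570, e3 q1942 L26501 q1571, e3 q1943 L36191 q2405, e3 q1944 L36207 q2407, e3 q1945 (flp_i L26516) q1554, e3 q1946 L26533 q1575, e3 q1947 L36241 q2410, e3 q1948 L36251 q2411, e3 q1949 (flp_i L26551) q1557, e3 q1950 L36279 q2412, e3 q1951 L36298 q2413, e3 q1952 (flp_i L26588) q1560, e3 q1953 (flp_i L26598) q1561, e3 q1954 (flp_i L36049) q2389, e3 q1955 L36331 q2418, e3 q1956 (flp_i L36066) q2391, e3 q1957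 (flp_i L36078) q2392, e3 q1958 L36379 q2424, e3 q1959 L36396 q2426, e3 q1960 (flp_i L26651) q1565, e3 q1961 (flp_i L36118) q2396, e3 q1962 L36428 q2430, e3 q1963 L36434 q2431, e3 q1964 (flp_i L26681) q1568, e3 q1965 (flp_i L36155) q2400, e3 q1966 (flp_i L36167) q2401, e3 q1967 L36472 q2437, e3 q1968 L36487 q2439, e3 q1969 L36500 q2441, e3 q1970 (flp_i L26722) q1572, e3 q1971 L36514 q2443, e3 q1972 (flp_i L26735) q1573, e3 q1973 (flp_i L109089) q2322, e3 q1974 L36545 q2445, e3 q1975 L36559 q2447, e3 q1976 (flp_i L26765) q1576, e3 q1977 (flp_i L26771) q1577, e3 q1978 (flp_i L26793) q1580, e3 q1979 L36600 q2449, e3 q1980 (flp_i L26805) q1581, e3 q1981 L26820 q1598, e3 q1982 L36654 q2454, e3 q1983 L26839 q1600, trivial⟩ (by decide +kernel)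

theorem ce_i_31 : ∀ r, r < 64 → sm gi (Qf (1984 + r)) = Qf (tab Gen.i (1984 + r)) :=
  edges_tab (sm gi) Qf (tab Gen.i) 1984 [(1984, 1601), (1985, 2307), (1986, 2459), (1987, 1586), (1988, 1604), (1989, 2312), (1990, 1606), (1991, 1607), (1992, 2317), (1993, 2319), (1994, 1594), (1995, 2450), (1996, 2451), (1997, 2300), (1998, 1599), (1999, 2455), (2000, 2456), (2001, 2305), (2002, 2277), (2003, 2460), (2004, 2473), (2005, 2314), (2006, 2282), (2007, 2261), (2008, 2008), (2009, 2009), (2010, 2480), (2011, 2483), (2012, 1612), (2013, 2485), (2014, 2487), (2015, 2489), (2016, 1615), (2017, 2491), (2018, 1616), (2019, 2494), (2020, 1618), (2021, 1619), (2022, 2497), (2023, 1621), (2024, 2499), (2025, 1622), (2026, 2501), (2027, 1623), (2028, 2504), (2029, 1625), (2030, 1741), (2031, 2507), (2032, 1627), (2033, 2509), (2034, 1630), (2035, 2273), (2036, 2257), (2037, 2253), (2038, 2038), (2039, 2039), (2040, 2040), (2041, 2041), (2042, 2042), (2043, 1721), (2044, 2044), (2045, 2045), (2046,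 1724), (2047, 1655)]
    ⟨e3 q1984 L26851 q1601, e3 q1985 L112113 q2307, e3 q1986 L36737 q2459, e3 q1987 (flp_i L26872) q1586, e3 q1988 L26892 q1604, e3 q1989 L83797 q2312, e3 q1990 L26931 q1606, e3 q1991 L26942 q1607, e3 q1992 (flp_i L110875) q2317, e3 q1993 (flp_i L111770) q2319, e3 q1994 (flp_i L26989) q1594, e3 q1995 (flp_i L36619) q2450, e3 q1996 (flp_i L36632) q2451, e3 q1997 (flp_i L82967) q2300, e3 q1998 (flp_i L27112) q1599, e3 q1999 (flp_i L36673) q2455, e3 q2000 (flp_i L36685) q2456, e3 q2001 L111410 q2305, e3 q2002 L111404 q2277, e3 q2003 (flp_i L36810) q2460, e3 q2004 L37165 q2473, e3 q2005 L84695 q2314, e3 q2006 L104409 q2282, e3 q2007 (flp_i L104145) q2261, e3 q2008 L27330 q2008, e3 q2009 L27340 q2009, e3 q2010 L37344 q2480, e3 q2011 L37367 q2483, e3 q2012 (flp_i L27357) q1612, e3 q2013 L37401 q2485, e3 q2014 L37420 q2487, e3 q2015 L37436 q2489, e3 q2016 (flp_i L27401) q1615, e3 q2017 L37451 q2491, e3 q2018 (flp_i L27418) q1616, e3 q2019 L37499 q2494, e3 q2020 (flp_i L27449)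 q1618, e3 q2021 (flp_i L27457) q1619, e3 q2022 L37543 q2497, e3 q2023 (flp_i L27488) q1621, e3 q2024 L37556 q2499, e3 q2025 (flp_i L27505) q1622, e3 q2026 L37571 q2501, e3 q2027 (flp_i L27519) q1623, e3 q2028 L37591 q2504, e3 q2029 (flp_i L27532) q1625, e3 q2030 L27544 q1741, e3 q2031 L37644 q2507, e3 q2032 (flp_i L27576) q1627, e3 q2033 L37705 q2509, e3 q2034 (flp_i L27617) q1630, e3 q2035 L104422 q2273, e3 q2036 L104415 q2257, e3 q2037 L103168 q2253, e3 q2038 L27859 q2038, e3 q2039 L27869 q2039, e3 q2040 L27876 q2040, e3 q2041 L27940 q2041, e3 q2042 L27948 q2042, e3 q2043 L116913 q1721, e3 q2044 L27965 q2044, e3 q2045 L27972 q2045, e3 q2046 (flp_i L116753) q1724, e3 q2047 L28045 q1655, trivial⟩ (by decide +kernel)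

theorem ce_i_32 : ∀ r, r < 64 → sm gi (Qf (2048 + r)) = Qf (tab Gen.i (2048 + r)) :=
  edges_tab (sm gi) Qf (tab Gen.i) 2048 [(2048, 1656), (2049, 2523), (2050, 1658), (2051, 1659), (2052, 1690), (2053, 1647), (2054, 1662), (2055, 1663), (2056, 1695), (2057, 2527), (2058, 1650), (2059, 2517), (2060, 2532), (2061, 2519), (2062, 2520), (2063, 2538), (2064, 2540), (2065, 1657), (2066, 1676), (2067, 1692), (2068, 1691), (2069, 1660), (2070, 2524), (2071, 1680), (2072, 1697), (2073, 1696), (2074, 2546), (2075, 1664), (2076, 2548), (2077, 1665), (2078, 1683), (2079, 2554), (2080, 1685), (2081, 1686), (2082, 2534), (2083, 2558), (2084, 1673), (2085, 1694), (2086, 2541), (2087, 2562), (2088, 1681), (2089, 2550), (2090, 2551), (2091, 2569), (2092, 2572), (2093, 1684), (2094, 2555), (2095, 2521), (2096, 2536), (2097, 2535), (2098, 2578), (2099, 1687), (2100, 2580), (2101, 1688), (2102, 2525), (2103, 2584), (2104, 2544), (2105, 2543), (2106, 2588), (2107, 1698), (2108, 2591), (2109, 1700), (2110,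 2444), (2111, 1717)]
    ⟨e3 q2048 L28056 q1656, e3 q2049 L38319 q2523, e3 q2050 L28071 q1658, e3 q2051 L28082 q1659, e3 q2052 L119877 q1690, e3 q2053 (flp_i L28092) q1647, e3 q2054 L28107 q1662, e3 q2055 L28116 q1663, e3 q2056 L119867 q1695, e3 q2057 L38422 q2527, e3 q2058 (flp_i L28132) q1650, e3 q2059 (flp_i L38277) q2517, e3 q2060 L38541 q2532, e3 q2061 (flp_i L38294) q2519, e3 q2062 (flp_i L38303) q2520, e3 q2063 L38589 q2538, e3 q2064 L38604 q2540, e3 q2065 (flp_i L28261) q1657, e3 q2066 L117508 q1676, e3 q2067 L118958 q1692, e3 q2068 L119792 q1691, e3 q2069 (flp_i L28294) q1660, e3 q2070 (flp_i L38369) q2524, e3 q2071 L116293 q1680, e3 q2072 L119664 q1697, e3 q2073 L119784 q1696, e3 q2074 L38721 q2546, e3 q2075 (flp_i L28341) q1664, e3 q2076 L38736 q2548, e3 q2077 (flp_i L28356) q1665, e3 q2078 L28440 q1683, e3 q2079 L38850 q2554, e3 q2080 L28455 q1685, e3 q2081 L28464 q1686, e3 q2082 L119721 q2534, e3 q2083 L38920 q2558, e3 q2084 (flp_i L28481) q1673, e3 q2085 L28532 q1694, e3 q2086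 L119714 q2541, e3 q2087 L39048 q2562, e3 q2088 (flp_i L28576) q1681, e3 q2089 (flp_i L38827) q2550, e3 q2090 (flp_i L38835) q2551, e3 q2091 L39185 q2569, e3 q2092 L39204 q2572, e3 q2093 (flp_i L28690) q1684, e3 q2094 (flp_i L38864) q2555, e3 q2095 L118931 q2521, e3 q2096 (flp_i L118191) q2536, e3 q2097 L119649 q2535, e3 q2098 L39283 q2578, e3 q2099 (flp_i L28738) q1687, e3 q2100 L39300 q2580, e3 q2101 (flp_i L28754) q1688, e3 q2102 (flp_i L119508) q2525, e3 q2103 L39356 q2584, e3 q2104 (flp_i L118330) q2544, e3 q2105 L119643 q2543, e3 q2106 L39414 q2588, e3 q2107 (flp_i L28855) q1698, e3 q2108 L39432 q2591, e3 q2109 (flp_i L28868) q1700, e3 q2110 (flp_i L36526) q2444, e3 q2111 L28913 q1717, trivial⟩ (by decide +kernel)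

theorem ce_i_33 : ∀ r, r < 64 → sm gi (Qf (2112 + r)) = Qf (tab Gen.i (2112 + r)) :=
  edges_tab (sm gi) Qf (tab Gen.i) 2112 [(2112, 1718), (2113, 2113), (2114, 2114), (2115, 1719), (2116, 1720), (2117, 2117), (2118, 2118), (2119, 2119), (2120, 2120), (2121, 1722), (2122, 2608), (2123, 2123), (2124, 2124), (2125, 2125), (2126, 2126), (2127, 2593), (2128, 2594), (2129, 2600), (2130, 2618), (2131, 2515), (2132, 2516), (2133, 2621), (2134, 1723), (2135, 2623), (2136, 2626), (2137, 1726), (2138, 2628), (2139, 2630), (2140, 1727), (2141, 2633), (2142, 1729), (2143, 2635), (2144, 1730), (2145, 2638), (2146, 1732), (2147, 2492), (2148, 2641), (2149, 1735), (2150, 2644), (2151, 1737), (2152, 2502), (2153, 2646), (2154, 1739), (2155, 2505), (2156, 2651), (2157, 1742), (2158, 2654), (2159, 1743), (2160, 2160), (2161, 2656), (2162, 1745), (2163, 2163), (2164, 1748), (2165, 2165), (2166, 2166), (2167, 1752), (2168, 1759), (2169, 2662), (2170, 1755), (2171, 1761), (2172, 1762), (2173, 2663), (2174,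 1780), (2175, 1781)]
    ⟨e3 q2112 L28922 q1718, e3 q2113 L28934 q2113, e3 q2114 L28942 q2114, e3 q2115 L28948 q1719, e3 q2116 L28958 q1720, e3 q2117 L28969 q2117, e3 q2118 L28980 q2118, e3 q2119 L28987 q2119, e3 q2120 L28996 q2120, e3 q2121 L29031 q1722, e3 q2122 L39629 q2608, e3 q2123 L29061 q2123, e3 q2124 L29069 q2124, e3 q2125 L29075 q2125, e3 q2126 L29081 q2126, e3 q2127 (flp_i L39461) q2593, e3 q2128 (flp_i L39471) q2594, e3 q2129 (flp_i L39525) q2600, e3 q2130 L39780 q2618, e3 q2131 (flp_i L119340) q2515, e3 q2132 (flp_i L119516) q2516, e3 q2133 L39799 q2621, e3 q2134 (flp_i L29175) q1723, e3 q2135 L39813 q2623, e3 q2136 L39836 q2626, e3 q2137 (flp_i L29197) q1726, e3 q2138 L39851 q2628, e3 q2139 L39865 q2630, e3 q2140 (flp_i L29220) q1727, e3 q2141 L39889 q2633, e3 q2142 (flp_i L29235) q1729, e3 q2143 L39905 q2635, e3 q2144 (flp_i L29251) q1730, e3 q2145 L39926 q2638, e3 q2146 (flp_i L29265) q1732, e3 q2147 (flp_i L37465) q2492, e3 q2148 L39946 q2641, e3 q2149 (flp_i L29286) q1735,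 e3 q2150 L39967 q2644, e3 q2151 (flp_i L29300) q1737, e3 q2152 (flp_i L37582) q2502, e3 q2153 L39980 q2646, e3 q2154 (flp_i L29318) q1739, e3 q2155 (flp_i L37603) q2505, e3 q2156 L40014 q2651, e3 q2157 (flp_i L29339) q1742, e3 q2158 L40040 q2654, e3 q2159 (flp_i L29355) q1743, e3 q2160 L29371 q2160, e3 q2161 L40057 q2656, e3 q2162 (flp_i L29380) q1745, e3 q2163 L29396 q2163, e3 q2164 (flp_i L29397) q1748, e3 q2165 L29412 q2165, e3 q2166 L29417 q2166, e3 q2167 L112191 q1752, e3 q2168 L112230 q1759, e3 q2169 L82817 q2662, e3 q2170 L112207 q1755, e3 q2171 L112236 q1761, e3 q2172 L30860 q1762, e3 q2173 L82779 q2663, e3 q2174 L31828 q1780, e3 q2175 L31838 q1781, trivial⟩ (by decide +kernel)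

theorem ce_i_34 : ∀ r, r < 64 → sm gi (Qf (2176 + r)) = Qf (tab Gen.i (2176 + r)) :=
  edges_tab (sm gi) Qf (tab Gen.i) 2176 [(2176, 2176), (2177, 2177), (2178, 2178), (2179, 2179), (2180, 2180), (2181, 1782), (2182, 1783), (2183, 2183), (2184, 2184), (2185, 1784), (2186, 2666), (2187, 2667), (2188, 2668), (2189, 2673), (2190, 2674), (2191, 2249), (2192, 2250), (2193, 2683), (2194, 2252), (2195, 2685), (2196, 1787), (2197, 2256), (2198, 2689), (2199, 2691), (2200, 1789), (2201, 2693), (2202, 1791), (2203, 2694), (2204, 1793), (2205, 2270), (2206, 2698), (2207, 2272), (2208, 2702), (2209, 2704), (2210, 1797), (2211, 2705), (2212, 1799), (2213, 2281), (2214, 2708), (2215, 2710), (2216, 1802), (2217, 2712), (2218, 1803), (2219, 1805), (2220, 2299), (2221, 2304), (2222, 2716), (2223, 2718), (2224, 2721), (2225, 1812), (2226, 2723), (2227, 1813), (2228, 2725), (2229, 1814), (2230, 2728), (2231, 1817), (2232, 2731), (2233, 1819), (2234, 2234), (2235, 2235), (2236, 2236), (2237, 2739), (2238,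 2238), (2239, 2239)]
    ⟨e3 q2176 L31849 q2176, e3 q2177 L31858 q2177, e3 q2178 L31866 q2178, e3 q2179 L31870 q2179, e3 q2180 L31878 q2180, e3 q2181 L31887 q1782, e3 q2182 L31901 q1783, e3 q2183 L31914 q2183, e3 q2184 L31927 q2184, e3 q2185 L31975 q1784, e3 q2186 (flp_i L43361) q2666, e3 q2187 (flp_i L43372) q2667, e3 q2188 (flp_i L43386) q2668, e3 q2189 (flp_i L43450) q2673, e3 q2190 (flp_i L43561) q2674, e3 q2191 (flp_i L34743) q2249, e3 q2192 (flp_i L34754) q2250, e3 q2193 L44676 q2683, e3 q2194 (flp_i L34769) q2252, e3 q2195 L44710 q2685, e3 q2196 (flp_i L32833) q1787, e3 q2197 (flp_i L34804) q2256, e3 q2198 L44758 q2689, e3 q2199 L44773 q2691, e3 q2200 (flp_i L32870) q1789, e3 q2201 L44801 q2693, e3 q2202 (flp_i L32898) q1791, e3 q2203 L44850 q2694, e3 q2204 (flp_i L32929) q1793, e3 q2205 (flp_i L34922) q2270, e3 q2206 L44885 q2698, e3 q2207 (flp_i L34937) q2272, e3 q2208 L44933 q2702, e3 q2209 L44949 q2704, e3 q2210 (flp_i L32991) q1797, e3 q2211 L44987 q2705, e3 q2212 (flp_i L33027)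 q1799, e3 q2213 (flp_i L35016) q2281, e3 q2214 L45033 q2708, e3 q2215 L45059 q2710, e3 q2216 (flp_i L33068) q1802, e3 q2217 L45072 q2712, e3 q2218 (flp_i L33080) q1803, e3 q2219 (flp_i L33110) q1805, e3 q2220 (flp_i L35160) q2299, e3 q2221 (flp_i L35207) q2304, e3 q2222 L45421 q2716, e3 q2223 L45696 q2718, e3 q2224 L45721 q2721, e3 q2225 (flp_i L33541) q1812, e3 q2226 L45804 q2723, e3 q2227 (flp_i L33594) q1813, e3 q2228 L45818 q2725, e3 q2229 (flp_i L33610) q1814, e3 q2230 L45971 q2728, e3 q2231 (flp_i L33733) q1817, e3 q2232 L45989 q2731, e3 q2233 (flp_i L33745) q1819, e3 q2234 L33757 q2234, e3 q2235 L34635 q2235, e3 q2236 L34643 q2236, e3 q2237 L47223 q2739, e3 q2238 L34660 q2238, e3 q2239 L34668 q2239, trivial⟩ (by decide +kernel)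

theorem ce_i_35 : ∀ r, r < 64 → sm gi (Qf (2240 + r)) = Qf (tab Gen.i (2240 + r)) :=
  edges_tab (sm gi) Qf (tab Gen.i) 2240 [(2240, 2744), (2241, 2241), (2242, 2242), (2243, 2748), (2244, 1825), (2245, 2245), (2246, 2752), (2247, 2753), (2248, 1829), (2249, 2191), (2250, 2192), (2251, 2760), (2252, 2194), (2253, 2037), (2254, 2764), (2255, 1833), (2256, 2197), (2257, 2036), (2258, 2770), (2259, 2772), (2260, 1836), (2261, 2007), (2262, 2776), (2263, 2777), (2264, 1839), (2265, 1888), (2266, 2780), (2267, 2782), (2268, 1842), (2269, 1843), (2270, 2205), (2271, 2787), (2272, 2207), (2273, 2035), (2274, 2793), (2275, 2795), (2276, 1847), (2277, 2002), (2278, 2799), (2279, 2800), (2280, 1850), (2281, 2213), (2282, 2006), (2283, 2806), (2284, 2808), (2285, 2810), (2286, 1854), (2287, 2812), (2288, 1855), (2289, 1886), (2290, 2816), (2291, 2818), (2292, 1858), (2293, 1859), (2294, 2819), (2295, 2821), (2296, 1862), (2297, 2823), (2298, 1863), (2299, 2220), (2300, 1997), (2301, 2829), (2302,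 2831), (2303, 1867)]
    ⟨e3 q2240 L47261 q2744, e3 q2241 L34680 q2241, e3 q2242 L34689 q2242, e3 q2243 L47293 q2748, e3 q2244 (flp_i L34699) q1825, e3 q2245 L34714 q2245, e3 q2246 L47322 q2752, e3 q2247 L47329 q2753, e3 q2248 (flp_i L34729) q1829, e3 q2249 L34743 q2191, e3 q2250 L34754 q2192, e3 q2251 L47390 q2760, e3 q2252 L34769 q2194, e3 q2253 (flp_i L103168) q2037, e3 q2254 L47425 q2764, e3 q2255 (flp_i L34789) q1833, e3 q2256 L34804 q2197, e3 q2257 (flp_i L104415) q2036, e3 q2258 L47479 q2770, e3 q2259 L47497 q2772, e3 q2260 (flp_i L34832) q1836, e3 q2261 L104145 q2007, e3 q2262 L47529 q2776, e3 q2263 L47539 q2777, e3 q2264 (flp_i L34867) q1839, e3 q2265 (flp_i L104057) q1888, e3 q2266 L47562 q2780, e3 q2267 L47579 q2782, e3 q2268 (flp_i L34898) q1842, e3 q2269 (flp_i L34908) q1843, e3 q2270 L34922 q2205, e3 q2271 L47613 q2787, e3 q2272 L34937 q2207, e3 q2273 (flp_i L104422) q2035, e3 q2274 L47670 q2793, e3 q2275 L47689 q2795, e3 q2276 (flp_i L34966) q1847, e3 q2277 (flp_i L111404)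 q2002, e3 q2278 L47725 q2799, e3 q2279 L47735 q2800, e3 q2280 (flp_i L35003) q1850, e3 q2281 L35016 q2213, e3 q2282 (flp_i L104409) q2006, e3 q2283 L47782 q2806, e3 q2284 L47799 q2808, e3 q2285 L47812 q2810, e3 q2286 (flp_i L35050) q1854, e3 q2287 L47825 q2812, e3 q2288 (flp_i L35065) q1855, e3 q2289 L104360 q1886, e3 q2290 L47858 q2816, e3 q2291 L47875 q2818, e3 q2292 (flp_i L35099) q1858, e3 q2293 (flp_i L35109) q1859, e3 q2294 L47892 q2819, e3 q2295 L47908 q2821, e3 q2296 (flp_i L35133) q1862, e3 q2297 L47922 q2823, e3 q2298 (flp_i L35148) q1863, e3 q2299 L35160 q2220, e3 q2300 L82967 q1997, e3 q2301 L47983 q2829, e3 q2302 L48000 q2831, e3 q2303 (flp_i L35190) q1867, trivial⟩ (by decide +kernel)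

theorem ce_i_36 : ∀ r, r < 64 → sm gi (Qf (2304 + r)) = Qf (tab Gen.i (2304 + r)) :=
  edges_tab (sm gi) Qf (tab Gen.i) 2304 [(2304, 2221), (2305, 2001), (2306, 2834), (2307, 1985), (2308, 2839), (2309, 1870), (2310, 1871), (2311, 1874), (2312, 1989), (2313, 2796), (2314, 2005), (2315, 2845), (2316, 1879), (2317, 1992), (2318, 2842), (2319, 1993), (2320, 2850), (2321, 1881), (2322, 1973), (2323, 2803), (2324, 1929), (2325, 2773), (2326, 2326), (2327, 2327), (2328, 2861), (2329, 2329), (2330, 2330), (2331, 2865), (2332, 2332), (2333, 2333), (2334, 2869), (2335, 1893), (2336, 2336), (2337, 2873), (2338, 2874), (2339, 1897), (2340, 1913), (2341, 1914), (2342, 2881), (2343, 1916), (2344, 1917), (2345, 2885), (2346, 1901), (2347, 1920), (2348, 1921), (2349, 2891), (2350, 2893), (2351, 1904), (2352, 1925), (2353, 2896), (2354, 2897), (2355, 1907), (2356, 2899), (2357, 2901), (2358, 1910), (2359, 1911), (2360, 2875), (2361, 2906), (2362, 2877), (2363, 2878), (2364, 2912), (2365, 2914), (2366,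 1915), (2367, 2882)]
    ⟨e3 q2304 L35207 q2221, e3 q2305 (flp_i L111410) q2001, e3 q2306 L102640 q2834, e3 q2307 (flp_i L112113) q1985, e3 q2308 L48095 q2839, e3 q2309 (flp_i L35248) q1870, e3 q2310 (flp_i L35258) q1871, e3 q2311 (flp_i L111398) q1874, e3 q2312 (flp_i L83797) q1989, e3 q2313 L104633 q2796, e3 q2314 (flp_i L84695) q2005, e3 q2315 L48180 q2845, e3 q2316 L111176 q1879, e3 q2317 L110875 q1992, e3 q2318 (flp_i L110657) q2842, e3 q2319 L111770 q1993, e3 q2320 L48251 q2850, e3 q2321 (flp_i L35390) q1881, e3 q2322 L109089 q1973, e3 q2323 L92113 q2803, e3 q2324 L109083 q1929, e3 q2325 (flp_i L92327) q2773, e3 q2326 L35506 q2326, e3 q2327 L35517 q2327, e3 q2328 L48444 q2861, e3 q2329 L35539 q2329, e3 q2330 L35548 q2330, e3 q2331 L48486 q2865, e3 q2332 L35560 q2332, e3 q2333 L35569 q2333, e3 q2334 L48518 q2869, e3 q2335 (flp_i L35579) q1893, e3 q2336 L35596 q2336, e3 q2337 L48553 q2873, e3 q2338 L48562 q2874, e3 q2339 (flp_i L35615) q1897, e3 q2340 L35632 q1913, e3 q2341 L35646 q1914,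 e3 q2342 L48632 q2881, e3 q2343 L35663 q1916, e3 q2344 L35676 q1917, e3 q2345 L48673 q2885, e3 q2346 (flp_i L35687) q1901, e3 q2347 L35704 q1920, e3 q2348 L35716 q1921, e3 q2349 L48731 q2891, e3 q2350 L48750 q2893, e3 q2351 (flp_i L35734) q1904, e3 q2352 L35752 q1925, e3 q2353 L48782 q2896, e3 q2354 L48792 q2897, e3 q2355 (flp_i L35769) q1907, e3 q2356 L48819 q2899, e3 q2357 L48840 q2901, e3 q2358 (flp_i L35806) q1910, e3 q2359 (flp_i L35818) q1911, e3 q2360 (flp_i L48583) q2875, e3 q2361 L48880 q2906, e3 q2362 (flp_i L48602) q2877, e3 q2363 (flp_i L48614) q2878, e3 q2364 L48928 q2912, e3 q2365 L48944 q2914, e3 q2366 (flp_i L35875) q1915, e3 q2367 (flp_i L48652) q2882, trivial⟩ (by decide +kernel)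

theorem ce_i_37 : ∀ r, r < 64 → sm gi (Qf (2368 + r)) = Qf (tab Gen.i (2368 + r)) :=
  edges_tab (sm gi) Qf (tab Gen.i) 2368 [(2368, 2918), (2369, 2919), (2370, 1918), (2371, 2886), (2372, 2887), (2373, 2925), (2374, 2927), (2375, 2929), (2376, 1922), (2377, 2931), (2378, 1923), (2379, 2853), (2380, 2935), (2381, 2937), (2382, 1926), (2383, 1927), (2384, 2938), (2385, 2939), (2386, 1930), (2387, 2941), (2388, 1931), (2389, 1954), (2390, 2947), (2391, 1956), (2392, 1957), (2393, 2953), (2394, 2955), (2395, 1936), (2396, 1961), (2397, 2958), (2398, 2959), (2399, 1939), (2400, 1965), (2401, 1966), (2402, 2964), (2403, 2966), (2404, 2968), (2405, 1943), (2406, 2970), (2407, 1944), (2408, 2972), (2409, 2974), (2410, 1947), (2411, 1948), (2412, 1950), (2413, 1951), (2414, 2943), (2415, 2944), (2416, 2980), (2417, 2983), (2418, 1955), (2419, 2948), (2420, 2949), (2421, 2989), (2422, 2991), (2423, 2993), (2424, 1958), (2425, 2995), (2426, 1959), (2427, 2840), (2428, 2997), (2429, 2999), (2430,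 1962), (2431, 1963)]
    ⟨e3 q2368 L48972 q2918, e3 q2369 L48978 q2919, e3 q2370 (flp_i L35903) q1918, e3 q2371 (flp_i L48689) q2886, e3 q2372 (flp_i L48702) q2887, e3 q2373 L49023 q2925, e3 q2374 L49041 q2927, e3 q2375 L49057 q2929, e3 q2376 (flp_i L35951) q1922, e3 q2377 L49073 q2931, e3 q2378 (flp_i L35967) q1923, e3 q2379 (flp_i L104042) q2853, e3 q2380 L49104 q2935, e3 q2381 L49116 q2937, e3 q2382 (flp_i L35995) q1926, e3 q2383 (flp_i L36001) q1927, e3 q2384 L49128 q2938, e3 q2385 L49143 q2939, e3 q2386 (flp_i L36022) q1930, e3 q2387 L49156 q2941, e3 q2388 (flp_i L36036) q1931, e3 q2389 L36049 q1954, e3 q2390 L49203 q2947, e3 q2391 L36066 q1956, e3 q2392 L36078 q1957, e3 q2393 L49264 q2953, e3 q2394 L49284 q2955, e3 q2395 (flp_i L36097) q1936, e3 q2396 L36118 q1961, e3 q2397 L49326 q2958, e3 q2398 L49338 q2959, e3 q2399 (flp_i L36140) q1939, e3 q2400 L36155 q1965, e3 q2401 L36167 q1966, e3 q2402 L49389 q2964, e3 q2403 L49407 q2966, e3 q2404 L49421 q2968, e3 q2405 (flp_i L36191) q1943,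 e3 q2406 L49435 q2970, e3 q2407 (flp_i L36207) q1944, e3 q2408 L49469 q2972, e3 q2409 L49486 q2974, e3 q2410 (flp_i L36241) q1947, e3 q2411 (flp_i L36251) q1948, e3 q2412 (flp_i L36279) q1950, e3 q2413 (flp_i L36298) q1951, e3 q2414 (flp_i L49173) q2943, e3 q2415 (flp_i L49185) q2944, e3 q2416 L49594 q2980, e3 q2417 L49614 q2983, e3 q2418 (flp_i L36331) q1955, e3 q2419 (flp_i L49220) q2948, e3 q2420 (flp_i L49234) q2949, e3 q2421 L49660 q2989, e3 q2422 L49679 q2991, e3 q2423 L49696 q2993, e3 q2424 (flp_i L36379) q1958, e3 q2425 L49714 q2995, e3 q2426 (flp_i L36396) q1959, e3 q2427 L111338 q2840, e3 q2428 L49749 q2997, e3 q2429 L49765 q2999, e3 q2430 (flp_i L36428) q1962, e3 q2431 (flp_i L36434) q1963, trivial⟩ (by decide +kernel)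

theorem ce_i_38 : ∀ r, r < 64 → sm gi (Qf (2432 + r)) = Qf (tab Gen.i (2432 + r)) :=
  edges_tab (sm gi) Qf (tab Gen.i) 2432 [(2432, 2960), (2433, 3003), (2434, 2851), (2435, 3005), (2436, 3008), (2437, 1967), (2438, 3010), (2439, 1968), (2440, 3012), (2441, 1969), (2442, 3015), (2443, 1971), (2444, 2110), (2445, 1974), (2446, 3018), (2447, 1975), (2448, 3020), (2449, 1979), (2450, 1995), (2451, 1996), (2452, 2827), (2453, 3026), (2454, 1982), (2455, 1999), (2456, 2000), (2457, 2835), (2458, 2837), (2459, 1986), (2460, 2003), (2461, 3033), (2462, 2846), (2463, 2849), (2464, 3021), (2465, 3022), (2466, 2825), (2467, 3027), (2468, 3041), (2469, 2832), (2470, 2789), (2471, 3044), (2472, 3046), (2473, 2004), (2474, 2801), (2475, 2766), (2476, 2761), (2477, 3050), (2478, 3052), (2479, 3055), (2480, 2010), (2481, 3057), (2482, 3059), (2483, 2011), (2484, 3063), (2485, 2013), (2486, 3065), (2487, 2014), (2488, 3067), (2489, 2015), (2490, 3070), (2491, 2017), (2492, 2147), (2493, 3073), (2494,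 2019), (2495, 3076)]
    ⟨e3 q2432 (flp_i L49358) q2960, e3 q2433 L49791 q3003, e3 q2434 L104350 q2851, e3 q2435 L49808 q3005, e3 q2436 L49824 q3008, e3 q2437 (flp_i L36472) q1967, e3 q2438 L49836 q3010, e3 q2439 (flp_i L36487) q1968, e3 q2440 L49853 q3012, e3 q2441 (flp_i L36500) q1969, e3 q2442 L49874 q3015, e3 q2443 (flp_i L36514) q1971, e3 q2444 L36526 q2110, e3 q2445 (flp_i L36545) q1974, e3 q2446 L49930 q3018, e3 q2447 (flp_i L36559) q1975, e3 q2448 L49993 q3020, e3 q2449 (flp_i L36600) q1979, e3 q2450 L36619 q1995, e3 q2451 L36632 q1996, e3 q2452 (flp_i L112130) q2827, e3 q2453 L50092 q3026, e3 q2454 (flp_i L36654) q1982, e3 q2455 L36673 q1999, e3 q2456 L36685 q2000, e3 q2457 (flp_i L111366) q2835, e3 q2458 L111790 q2837, e3 q2459 (flp_i L36737) q1986, e3 q2460 L36810 q2003, e3 q2461 L50295 q3033, e3 q2462 L110560 q2846, e3 q2463 L90644 q2849, e3 q2464 (flp_i L50014) q3021, e3 q2465 (flp_i L50027) q3022, e3 q2466 L112062 q2825, e3 q2467 (flp_i L50110) q3027, e3 q2468 L50618 q3041,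 e3 q2469 (flp_i L110666) q2832, e3 q2470 (flp_i L104376) q2789, e3 q2471 L50735 q3044, e3 q2472 L50747 q3046, e3 q2473 (flp_i L37165) q2004, e3 q2474 (flp_i L110661) q2801, e3 q2475 (flp_i L104371) q2766, e3 q2476 L104080 q2761, e3 q2477 L50958 q3050, e3 q2478 L50977 q3052, e3 q2479 L51000 q3055, e3 q2480 (flp_i L37344) q2010, e3 q2481 L51017 q3057, e3 q2482 L51031 q3059, e3 q2483 (flp_i L37367) q2011, e3 q2484 L51092 q3063, e3 q2485 (flp_i L37401) q2013, e3 q2486 L51107 q3065, e3 q2487 (flp_i L37420) q2014, e3 q2488 L51124 q3067, e3 q2489 (flp_i L37436) q2015, e3 q2490 L51147 q3070, e3 q2491 (flp_i L37451) q2017, e3 q2492 L37465 q2147, e3 q2493 L51202 q3073, e3 q2494 (flp_i L37499) q2019, e3 q2495 L51268 q3076, trivial⟩ (by decide +kernel)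

theorem ce_i_39 : ∀ r, r < 64 → sm gi (Qf (2496 + r)) = Qf (tab Gen.i (2496 + r)) :=
  edges_tab (sm gi) Qf (tab Gen.i) 2496 [(2496, 3078), (2497, 2022), (2498, 3081), (2499, 2024), (2500, 3084), (2501, 2026), (2502, 2152), (2503, 3086), (2504, 2028), (2505, 2155), (2506, 3090), (2507, 2031), (2508, 3091), (2509, 2033), (2510, 2784), (2511, 2757), (2512, 2512), (2513, 2513), (2514, 2514), (2515, 2131), (2516, 2132), (2517, 2059), (2518, 3102), (2519, 2061), (2520, 2062), (2521, 2095), (2522, 3106), (2523, 2049), (2524, 2070), (2525, 2102), (2526, 3108), (2527, 2057), (2528, 3098), (2529, 3099), (2530, 3115), (2531, 3118), (2532, 2060), (2533, 3103), (2534, 2082), (2535, 2097), (2536, 2096), (2537, 3124), (2538, 2063), (2539, 3126), (2540, 2064), (2541, 2086), (2542, 3130), (2543, 2105), (2544, 2104), (2545, 3134), (2546, 2074), (2547, 3137), (2548, 2076), (2549, 2932), (2550, 2089), (2551, 2090), (2552, 3111), (2553, 3143), (2554, 2079), (2555, 2094), (2556, 3119), (2557, 3147), (2558,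 2083), (2559, 3149)]
    ⟨e3 q2496 L51282 q3078, e3 q2497 (flp_i L37543) q2022, e3 q2498 L51301 q3081, e3 q2499 (flp_i L37556) q2024, e3 q2500 L51324 q3084, e3 q2501 (flp_i L37571) q2026, e3 q2502 L37582 q2152, e3 q2503 L51338 q3086, e3 q2504 (flp_i L37591) q2028, e3 q2505 L37603 q2155, e3 q2506 L51414 q3090, e3 q2507 (flp_i L37644) q2031, e3 q2508 L51487 q3091, e3 q2509 (flp_i L37705) q2033, e3 q2510 L102820 q2784, e3 q2511 L94002 q2757, e3 q2512 L38005 q2512, e3 q2513 L38116 q2513, e3 q2514 L38125 q2514, e3 q2515 L119340 q2131, e3 q2516 L119516 q2132, e3 q2517 L38277 q2059, e3 q2518 L52295 q3102, e3 q2519 L38294 q2061, e3 q2520 L38303 q2062, e3 q2521 (flp_i L118931) q2095, e3 q2522 L52364 q3106, e3 q2523 (flp_i L38319) q2049, e3 q2524 L38369 q2070, e3 q2525 L119508 q2102, e3 q2526 L52503 q3108, e3 q2527 (flp_i L38422) q2057, e3 q2528 (flp_i L52266) q3098, e3 q2529 (flp_i L52276) q3099, e3 q2530 L52652 q3115, e3 q2531 L52676 q3118, e3 q2532 (flp_i L38541) q2060, e3 q2533 (flp_i L52311)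 q3103, e3 q2534 (flp_i L119721) q2082, e3 q2535 (flp_i L119649) q2097, e3 q2536 L118191 q2096, e3 q2537 L52752 q3124, e3 q2538 (flp_i L38589) q2063, e3 q2539 L52767 q3126, e3 q2540 (flp_i L38604) q2064, e3 q2541 (flp_i L119714) q2086, e3 q2542 L52847 q3130, e3 q2543 (flp_i L119643) q2105, e3 q2544 L118330 q2104, e3 q2545 L52922 q3134, e3 q2546 (flp_i L38721) q2074, e3 q2547 L52943 q3137, e3 q2548 (flp_i L38736) q2076, e3 q2549 (flp_i L49087) q2932, e3 q2550 L38827 q2089, e3 q2551 L38835 q2090, e3 q2552 L117618 q3111, e3 q2553 L53088 q3143, e3 q2554 (flp_i L38850) q2079, e3 q2555 L38864 q2094, e3 q2556 L118816 q3119, e3 q2557 L53187 q3147, e3 q2558 (flp_i L38920) q2083, e3 q2559 L53272 q3149, trivial⟩ (by decide +kernel)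

theorem ce_i_40 : ∀ r, r < 64 → sm gi (Qf (2560 + r)) = Qf (tab Gen.i (2560 + r)) :=
  edges_tab (sm gi) Qf (tab Gen.i) 2560 [(2560, 2920), (2561, 3152), (2562, 2087), (2563, 2971), (2564, 3139), (2565, 3100), (2566, 3113), (2567, 3112), (2568, 3161), (2569, 2091), (2570, 3163), (2571, 3165), (2572, 2092), (2573, 3104), (2574, 3169), (2575, 3122), (2576, 3121), (2577, 3173), (2578, 2098), (2579, 3176), (2580, 2100), (2581, 2996), (2582, 3178), (2583, 3180), (2584, 2103), (2585, 3132), (2586, 3131), (2587, 3184), (2588, 2106), (2589, 3013), (2590, 3186), (2591, 2108), (2592, 3016), (2593, 2127), (2594, 2128), (2595, 2595), (2596, 2596), (2597, 2597), (2598, 2598), (2599, 2599), (2600, 2129), (2601, 3200), (2602, 2602), (2603, 2603), (2604, 2604), (2605, 2605), (2606, 3204), (2607, 3206), (2608, 2122), (2609, 2609), (2610, 2610), (2611, 2611), (2612, 3189), (2613, 3190), (2614, 3212), (2615, 3095), (2616, 3096), (2617, 3215), (2618, 2130), (2619, 3097), (2620, 3217), (2621, 2133), (2622,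 3220), (2623, 2135)]
    ⟨e3 q2560 L119470 q2920, e3 q2561 L53350 q3152, e3 q2562 (flp_i L39048) q2087, e3 q2563 (flp_i L49449) q2971, e3 q2564 (flp_i L53035) q3139, e3 q2565 L118828 q3100, e3 q2566 L118115 q3113, e3 q2567 L118082 q3112, e3 q2568 L53540 q3161, e3 q2569 (flp_i L39185) q2091, e3 q2570 L53555 q3163, e3 q2571 L53568 q3165, e3 q2572 (flp_i L39204) q2092, e3 q2573 L119439 q3104, e3 q2574 L53606 q3169, e3 q2575 L118352 q3122, e3 q2576 L118017 q3121, e3 q2577 L53682 q3173, e3 q2578 (flp_i L39283) q2098, e3 q2579 L53706 q3176, e3 q2580 (flp_i L39300) q2100, e3 q2581 (flp_i L49730) q2996, e3 q2582 L53754 q3178, e3 q2583 L53765 q3180, e3 q2584 (flp_i L39356) q2103, e3 q2585 L117843 q3132, e3 q2586 L118171 q3131, e3 q2587 L53842 q3184, e3 q2588 (flp_i L39414) q2106, e3 q2589 (flp_i L49865) q3013, e3 q2590 L53856 q3186, e3 q2591 (flp_i L39432) q2108, e3 q2592 (flp_i L49887) q3016, e3 q2593 L39461 q2127, e3 q2594 L39471 q2128, e3 q2595 L39482 q2595, e3 q2596 L39493 q2596, e3 q2597 L39501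 q2597, e3 q2598 L39507 q2598, e3 q2599 L39517 q2599, e3 q2600 L39525 q2129, e3 q2601 L53987 q3200, e3 q2602 L39559 q2602, e3 q2603 L39568 q2603, e3 q2604 L39575 q2604, e3 q2605 L39582 q2605, e3 q2606 L54097 q3204, e3 q2607 L54114 q3206, e3 q2608 (flp_i L39629) q2122, e3 q2609 L39661 q2609, e3 q2610 L39670 q2610, e3 q2611 L39675 q2611, e3 q2612 (flp_i L53878) q3189, e3 q2613 (flp_i L53888) q3190, e3 q2614 L54258 q3212, e3 q2615 L118576 q3095, e3 q2616 L118697 q3096, e3 q2617 L54280 q3215, e3 q2618 (flp_i L39780) q2130, e3 q2619 (flp_i L118465) q3097, e3 q2620 L54293 q3217, e3 q2621 (flp_i L39799) q2133, e3 q2622 L54315 q3220, e3 q2623 (flp_i L39813) q2135, trivial⟩ (by decide +kernel)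

theorem ce_i_41 : ∀ r, r < 64 → sm gi (Qf (2624 + r)) = Qf (tab Gen.i (2624 + r)) :=
  edges_tab (sm gi) Qf (tab Gen.i) 2624 [(2624, 3222), (2625, 3224), (2626, 2136), (2627, 3228), (2628, 2138), (2629, 3231), (2630, 2139), (2631, 3060), (2632, 3234), (2633, 2141), (2634, 3237), (2635, 2143), (2636, 3068), (2637, 3239), (2638, 2145), (2639, 3071), (2640, 3243), (2641, 2148), (2642, 3082), (2643, 3245), (2644, 2150), (2645, 3085), (2646, 2153), (2647, 3087), (2648, 3088), (2649, 3253), (2650, 3255), (2651, 2156), (2652, 2652), (2653, 3258), (2654, 2158), (2655, 2655), (2656, 2161), (2657, 2657), (2658, 2658), (2659, 2659), (2660, 2660), (2661, 2661), (2662, 2169), (2663, 2173), (2664, 3264), (2665, 3265), (2666, 2186), (2667, 2187), (2668, 2188), (2669, 2669), (2670, 2670), (2671, 2671), (2672, 2672), (2673, 2189), (2674, 2190), (2675, 3266), (2676, 3267), (2677, 3270), (2678, 2754), (2679, 3276), (2680, 2756), (2681, 3280), (2682, 3282), (2683, 2193), (2684, 3284), (2685, 2195), (2686,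 2765), (2687, 3287)]
    ⟨e3 q2624 L54330 q3222, e3 q2625 L54346 q3224, e3 q2626 (flp_i L39836) q2136, e3 q2627 L54374 q3228, e3 q2628 (flp_i L39851) q2138, e3 q2629 L54396 q3231, e3 q2630 (flp_i L39865) q2139, e3 q2631 (flp_i L51047) q3060, e3 q2632 L54419 q3234, e3 q2633 (flp_i L39889) q2141, e3 q2634 L54443 q3237, e3 q2635 (flp_i L39905) q2143, e3 q2636 (flp_i L51137) q3068, e3 q2637 L54458 q3239, e3 q2638 (flp_i L39926) q2145, e3 q2639 (flp_i L51161) q3071, e3 q2640 L54488 q3243, e3 q2641 (flp_i L39946) q2148, e3 q2642 (flp_i L51315) q3082, e3 q2643 L54502 q3245, e3 q2644 (flp_i L39967) q2150, e3 q2645 (flp_i L51336) q3085, e3 q2646 (flp_i L39980) q2153, e3 q2647 (flp_i L51350) q3087, e3 q2648 (flp_i L51356) q3088, e3 q2649 L54554 q3253, e3 q2650 L54571 q3255, e3 q2651 (flp_i L40014) q2156, e3 q2652 L40031 q2652, e3 q2653 L54599 q3258, e3 q2654 (flp_i L40040) q2158, e3 q2655 L40056 q2655, e3 q2656 (flp_i L40057) q2161, e3 q2657 L40074 q2657, e3 q2658 L40080 q2658, e3 q2659 L40090 q2659,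 e3 q2660 L40096 q2660, e3 q2661 L40101 q2661, e3 q2662 (flp_i L82817) q2169, e3 q2663 (flp_i L82779) q2173, e3 q2664 L112254 q3264, e3 q2665 (flp_i L82747) q3265, e3 q2666 L43361 q2186, e3 q2667 L43372 q2187, e3 q2668 L43386 q2188, e3 q2669 L43399 q2669, e3 q2670 L43414 q2670, e3 q2671 L43420 q2671, e3 q2672 L43435 q2672, e3 q2673 L43450 q2189, e3 q2674 L43561 q2190, e3 q2675 (flp_i L59138) q3266, e3 q2676 (flp_i L59154) q3267, e3 q2677 (flp_i L59271) q3270, e3 q2678 (flp_i L47345) q2754, e3 q2679 L60879 q3276, e3 q2680 (flp_i L47362) q2756, e3 q2681 L60927 q3280, e3 q2682 L60942 q3282, e3 q2683 (flp_i L44676) q2193, e3 q2684 L60976 q3284, e3 q2685 (flp_i L44710) q2195, e3 q2686 (flp_i L47439) q2765, e3 q2687 L61029 q3287, trivial⟩ (by decide +kernel)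

theorem ce_i_42 : ∀ r, r < 64 → sm gi (Qf (2688 + r)) = Qf (tab Gen.i (2688 + r)) :=
  edges_tab (sm gi) Qf (tab Gen.i) 2688 [(2688, 3289), (2689, 2198), (2690, 3291), (2691, 2199), (2692, 3294), (2693, 2201), (2694, 2203), (2695, 2783), (2696, 3299), (2697, 3302), (2698, 2206), (2699, 2788), (2700, 3305), (2701, 3307), (2702, 2208), (2703, 3309), (2704, 2209), (2705, 2211), (2706, 3312), (2707, 3314), (2708, 2214), (2709, 3316), (2710, 2215), (2711, 3319), (2712, 2217), (2713, 2713), (2714, 2824), (2715, 3323), (2716, 2222), (2717, 3326), (2718, 2223), (2719, 3328), (2720, 3330), (2721, 2224), (2722, 3333), (2723, 2226), (2724, 3336), (2725, 2228), (2726, 2726), (2727, 3339), (2728, 2230), (2729, 2729), (2730, 3341), (2731, 2232), (2732, 2732), (2733, 2733), (2734, 2734), (2735, 3350), (2736, 2736), (2737, 2737), (2738, 3354), (2739, 2237), (2740, 2740), (2741, 2741), (2742, 3358), (2743, 3360), (2744, 2240), (2745, 2745), (2746, 3363), (2747, 3364), (2748, 2243), (2749, 2749), (2750,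 3367), (2751, 3369)]
    ⟨e3 q2688 L61061 q3289, e3 q2689 (flp_i L44758) q2198, e3 q2690 L61076 q3291, e3 q2691 (flp_i L44773) q2199, e3 q2692 L61118 q3294, e3 q2693 (flp_i L44801) q2201, e3 q2694 (flp_i L44850) q2203, e3 q2695 (flp_i L47589) q2783, e3 q2696 L61218 q3299, e3 q2697 L61240 q3302, e3 q2698 (flp_i L44885) q2206, e3 q2699 (flp_i L47628) q2788, e3 q2700 L61284 q3305, e3 q2701 L61318 q3307, e3 q2702 (flp_i L44933) q2208, e3 q2703 L61335 q3309, e3 q2704 (flp_i L44949) q2209, e3 q2705 (flp_i L44987) q2211, e3 q2706 L61418 q3312, e3 q2707 L61450 q3314, e3 q2708 (flp_i L45033) q2214, e3 q2709 L61477 q3316, e3 q2710 (flp_i L45059) q2215, e3 q2711 L61496 q3319, e3 q2712 (flp_i L45072) q2217, e3 q2713 L45084 q2713, e3 q2714 (flp_i L47945) q2824, e3 q2715 L61780 q3323, e3 q2716 (flp_i L45421) q2222, e3 q2717 L62380 q3326, e3 q2718 (flp_i L45696) q2223, e3 q2719 L62396 q3328, e3 q2720 L62411 q3330, e3 q2721 (flp_i L45721) q2224, e3 q2722 L62533 q3333, e3 q2723 (flp_i L45804) q2226, e3 q2724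 L62554 q3336, e3 q2725 (flp_i L45818) q2228, e3 q2726 L45832 q2726, e3 q2727 L62782 q3339, e3 q2728 (flp_i L45971) q2230, e3 q2729 L45982 q2729, e3 q2730 L62795 q3341, e3 q2731 (flp_i L45989) q2232, e3 q2732 L46001 q2732, e3 q2733 L47182 q2733, e3 q2734 L47191 q2734, e3 q2735 L64461 q3350, e3 q2736 L47204 q2736, e3 q2737 L47213 q2737, e3 q2738 L64494 q3354, e3 q2739 (flp_i L47223) q2237, e3 q2740 L47237 q2740, e3 q2741 L47245 q2741, e3 q2742 L64542 q3358, e3 q2743 L64558 q3360, e3 q2744 (flp_i L47261) q2240, e3 q2745 L47276 q2745, e3 q2746 L64590 q3363, e3 q2747 L64598 q3364, e3 q2748 (flp_i L47293) q2243, e3 q2749 L47306 q2749, e3 q2750 L64622 q3367, e3 q2751 L64637 q3369, trivial⟩ (by decide +kernel)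

theorem ce_i_43 : ∀ r, r < 64 → sm gi (Qf (2752 + r)) = Qf (tab Gen.i (2752 + r)) :=
  edges_tab (sm gi) Qf (tab Gen.i) 2752 [(2752, 2246), (2753, 2247), (2754, 2678), (2755, 3374), (2756, 2680), (2757, 2511), (2758, 3380), (2759, 3382), (2760, 2251), (2761, 2476), (2762, 3386), (2763, 3387), (2764, 2254), (2765, 2686), (2766, 2475), (2767, 3393), (2768, 3395), (2769, 3397), (2770, 2258), (2771, 3399), (2772, 2259), (2773, 2325), (2774, 3403), (2775, 3405), (2776, 2262), (2777, 2263), (2778, 3407), (2779, 3409), (2780, 2266), (2781, 3411), (2782, 2267), (2783, 2695), (2784, 2510), (2785, 3418), (2786, 3421), (2787, 2271), (2788, 2699), (2789, 2470), (2790, 3427), (2791, 3429), (2792, 3431), (2793, 2274), (2794, 3433), (2795, 2275), (2796, 2313), (2797, 3437), (2798, 3439), (2799, 2278), (2800, 2279), (2801, 2474), (2802, 3443), (2803, 2323), (2804, 3446), (2805, 3449), (2806, 2283), (2807, 3451), (2808, 2284), (2809, 3453), (2810, 2285), (2811, 3456), (2812, 2287), (2813, 2813), (2814,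 3458), (2815, 3460)]
    ⟨e3 q2752 (flp_i L47322) q2246, e3 q2753 (flp_i L47329) q2247, e3 q2754 L47345 q2678, e3 q2755 L64680 q3374, e3 q2756 L47362 q2680, e3 q2757 (flp_i L94002) q2511, e3 q2758 L64737 q3380, e3 q2759 L64755 q3382, e3 q2760 (flp_i L47390) q2251, e3 q2761 (flp_i L104080) q2476, e3 q2762 L64787 q3386, e3 q2763 L64797 q3387, e3 q2764 (flp_i L47425) q2254, e3 q2765 L47439 q2686, e3 q2766 L104371 q2475, e3 q2767 L64851 q3393, e3 q2768 L64871 q3395, e3 q2769 L64887 q3397, e3 q2770 (flp_i L47479) q2258, e3 q2771 L64902 q3399, e3 q2772 (flp_i L47497) q2259, e3 q2773 L92327 q2325, e3 q2774 L64935 q3403, e3 q2775 L64950 q3405, e3 q2776 (flp_i L47529) q2262, e3 q2777 (flp_i L47539) q2263, e3 q2778 L64965 q3407, e3 q2779 L64983 q3409, e3 q2780 (flp_i L47562) q2266, e3 q2781 L64996 q3411, e3 q2782 (flp_i L47579) q2267, e3 q2783 L47589 q2695, e3 q2784 (flp_i L102820) q2510, e3 q2785 L65050 q3418, e3 q2786 L65071 q3421, e3 q2787 (flp_i L47613) q2271, e3 q2788 L47628 q2699, e3 q2789 L104376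 q2470, e3 q2790 L65125 q3427, e3 q2791 L65146 q3429, e3 q2792 L65163 q3431, e3 q2793 (flp_i L47670) q2274, e3 q2794 L65180 q3433, e3 q2795 (flp_i L47689) q2275, e3 q2796 (flp_i L104633) q2313, e3 q2797 L65217 q3437, e3 q2798 L65236 q3439, e3 q2799 (flp_i L47725) q2278, e3 q2800 (flp_i L47735) q2279, e3 q2801 L110661 q2474, e3 q2802 L65268 q3443, e3 q2803 (flp_i L92113) q2323, e3 q2804 L65290 q3446, e3 q2805 L65310 q3449, e3 q2806 (flp_i L47782) q2283, e3 q2807 L65322 q3451, e3 q2808 (flp_i L47799) q2284, e3 q2809 L65336 q3453, e3 q2810 (flp_i L47812) q2285, e3 q2811 L65356 q3456, e3 q2812 (flp_i L47825) q2287, e3 q2813 L47839 q2813, e3 q2814 L65380 q3458, e3 q2815 L65398 q3460, trivial⟩ (by decide +kernel)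

theorem ce_i_44 : ∀ r, r < 64 → sm gi (Qf (2816 + r)) = Qf (tab Gen.i (2816 + r)) :=
  edges_tab (sm gi) Qf (tab Gen.i) 2816 [(2816, 2290), (2817, 3462), (2818, 2291), (2819, 2294), (2820, 3464), (2821, 2295), (2822, 3466), (2823, 2297), (2824, 2714), (2825, 2466), (2826, 3470), (2827, 2452), (2828, 3476), (2829, 2301), (2830, 3477), (2831, 2302), (2832, 2469), (2833, 3481), (2834, 2306), (2835, 2457), (2836, 3478), (2837, 2458), (2838, 3486), (2839, 2308), (2840, 2427), (2841, 3424), (2842, 2318), (2843, 3492), (2844, 3495), (2845, 2315), (2846, 2462), (2847, 3440), (2848, 3489), (2849, 2463), (2850, 2320), (2851, 2434), (2852, 3390), (2853, 2379), (2854, 3383), (2855, 2855), (2856, 2856), (2857, 3508), (2858, 2858), (2859, 2859), (2860, 3512), (2861, 2328), (2862, 2862), (2863, 3514), (2864, 3516), (2865, 2331), (2866, 2866), (2867, 3520), (2868, 3521), (2869, 2334), (2870, 2870), (2871, 3524), (2872, 3526), (2873, 2337), (2874, 2338), (2875, 2360), (2876, 3531), (2877, 2362), (2878,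 2363), (2879, 3537)]
    ⟨e3 q2816 (flp_i L47858) q2290, e3 q2817 L65416 q3462, e3 q2818 (flp_i L47875) q2291, e3 q2819 (flp_i L47892) q2294, e3 q2820 L65465 q3464, e3 q2821 (flp_i L47908) q2295, e3 q2822 L65488 q3466, e3 q2823 (flp_i L47922) q2297, e3 q2824 L47945 q2714, e3 q2825 (flp_i L112062) q2466, e3 q2826 L112139 q3470, e3 q2827 L112130 q2452, e3 q2828 L65603 q3476, e3 q2829 (flp_i L47983) q2301, e3 q2830 L65612 q3477, e3 q2831 (flp_i L48000) q2302, e3 q2832 L110666 q2469, e3 q2833 L65657 q3481, e3 q2834 (flp_i L102640) q2306, e3 q2835 L111366 q2457, e3 q2836 L110618 q3478, e3 q2837 (flp_i L111790) q2458, e3 q2838 L65738 q3486, e3 q2839 (flp_i L48095) q2308, e3 q2840 (flp_i L111338) q2427, e3 q2841 (flp_i L104368) q3424, e3 q2842 L110657 q2318, e3 q2843 L65839 q3492, e3 q2844 L65860 q3495, e3 q2845 (flp_i L48180) q2315, e3 q2846 (flp_i L110560) q2462, e3 q2847 L110615 q3440, e3 q2848 L110612 q3489, e3 q2849 (flp_i L90644) q2463, e3 q2850 (flp_i L48251) q2320, e3 q2851 (flp_i L104350)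 q2434, e3 q2852 (flp_i L104364) q3390, e3 q2853 L104042 q2379, e3 q2854 L104064 q3383, e3 q2855 L48394 q2855, e3 q2856 L48406 q2856, e3 q2857 L66186 q3508, e3 q2858 L48421 q2858, e3 q2859 L48432 q2859, e3 q2860 L66225 q3512, e3 q2861 (flp_i L48444) q2328, e3 q2862 L48460 q2862, e3 q2863 L66277 q3514, e3 q2864 L66294 q3516, e3 q2865 (flp_i L48486) q2331, e3 q2866 L48501 q2866, e3 q2867 L66326 q3520, e3 q2868 L66334 q3521, e3 q2869 (flp_i L48518) q2334, e3 q2870 L48533 q2870, e3 q2871 L66362 q3524, e3 q2872 L66381 q3526, e3 q2873 (flp_i L48553) q2337, e3 q2874 (flp_i L48562) q2338, e3 q2875 L48583 q2360, e3 q2876 L66434 q3531, e3 q2877 L48602 q2362, e3 q2878 L48614 q2363, e3 q2879 L66495 q3537, trivial⟩ (by decide +kernel)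

theorem ce_i_45 : ∀ r, r < 64 → sm gi (Qf (2880 + r)) = Qf (tab Gen.i (2880 + r)) :=
  edges_tab (sm gi) Qf (tab Gen.i) 2880 [(2880, 3539), (2881, 2342), (2882, 2367), (2883, 3542), (2884, 3543), (2885, 2345), (2886, 2371), (2887, 2372), (2888, 3547), (2889, 3548), (2890, 3550), (2891, 2349), (2892, 3552), (2893, 2350), (2894, 3555), (2895, 3557), (2896, 2353), (2897, 2354), (2898, 3558), (2899, 2356), (2900, 3560), (2901, 2357), (2902, 3527), (2903, 3528), (2904, 3567), (2905, 3570), (2906, 2361), (2907, 3532), (2908, 3533), (2909, 3576), (2910, 3578), (2911, 3580), (2912, 2364), (2913, 3582), (2914, 2365), (2915, 3502), (2916, 3586), (2917, 3588), (2918, 2368), (2919, 2369), (2920, 2560), (2921, 3592), (2922, 3500), (2923, 3595), (2924, 3598), (2925, 2373), (2926, 3600), (2927, 2374), (2928, 3602), (2929, 2375), (2930, 3605), (2931, 2377), (2932, 2549), (2933, 3607), (2934, 3609), (2935, 2380), (2936, 3611), (2937, 2381), (2938, 2384), (2939, 2385), (2940, 3615), (2941, 2387), (2942,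 2942), (2943, 2414)]
    ⟨e3 q2880 L66514 q3539, e3 q2881 (flp_i L48632) q2342, e3 q2882 L48652 q2367, e3 q2883 L66552 q3542, e3 q2884 L66564 q3543, e3 q2885 (flp_i L48673) q2345, e3 q2886 L48689 q2371, e3 q2887 L48702 q2372, e3 q2888 L66622 q3547, e3 q2889 L66643 q3548, e3 q2890 L66660 q3550, e3 q2891 (flp_i L48731) q2349, e3 q2892 L66676 q3552, e3 q2893 (flp_i L48750) q2350, e3 q2894 L66710 q3555, e3 q2895 L66725 q3557, e3 q2896 (flp_i L48782) q2353, e3 q2897 (flp_i L48792) q2354, e3 q2898 L66764 q3558, e3 q2899 (flp_i L48819) q2356, e3 q2900 L66779 q3560, e3 q2901 (flp_i L48840) q2357, e3 q2902 (flp_i L66398) q3527, e3 q2903 (flp_i L66412) q3528, e3 q2904 L66841 q3567, e3 q2905 L66866 q3570, e3 q2906 (flp_i L48880) q2361, e3 q2907 (flp_i L66453) q3532, e3 q2908 (flp_i L66466) q3533, e3 q2909 L66912 q3576, e3 q2910 L66930 q3578, e3 q2911 L66946 q3580, e3 q2912 (flp_i L48928) q2364, e3 q2913 L66962 q3582, e3 q2914 (flp_i L48944) q2365, e3 q2915 (flp_i L103146) q3502, e3 q2916 L66993 q3586,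 e3 q2917 L67007 q3588, e3 q2918 (flp_i L48972) q2368, e3 q2919 (flp_i L48978) q2369, e3 q2920 (flp_i L119470) q2560, e3 q2921 L67036 q3592, e3 q2922 (flp_i L104330) q3500, e3 q2923 L67058 q3595, e3 q2924 L67078 q3598, e3 q2925 (flp_i L49023) q2373, e3 q2926 L67093 q3600, e3 q2927 (flp_i L49041) q2374, e3 q2928 L67112 q3602, e3 q2929 (flp_i L49057) q2375, e3 q2930 L67136 q3605, e3 q2931 (flp_i L49073) q2377, e3 q2932 L49087 q2549, e3 q2933 L67160 q3607, e3 q2934 L67173 q3609, e3 q2935 (flp_i L49104) q2380, e3 q2936 L67188 q3611, e3 q2937 (flp_i L49116) q2381, e3 q2938 (flp_i L49128) q2384, e3 q2939 (flp_i L49143) q2385, e3 q2940 L67246 q3615, e3 q2941 (flp_i L49156) q2387, e3 q2942 L49166 q2942, e3 q2943 L49173 q2414, trivial⟩ (by decide +kernel)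

theorem ce_i_46 : ∀ r, r < 64 → sm gi (Qf (2944 + r)) = Qf (tab Gen.i (2944 + r)) :=
  edges_tab (sm gi) Qf (tab Gen.i) 2944 [(2944, 2415), (2945, 3622), (2946, 3625), (2947, 2390), (2948, 2419), (2949, 2420), (2950, 3630), (2951, 3632), (2952, 3634), (2953, 2393), (2954, 3636), (2955, 2394), (2956, 3638), (2957, 3640), (2958, 2397), (2959, 2398), (2960, 2432), (2961, 3642), (2962, 3644), (2963, 3647), (2964, 2402), (2965, 3648), (2966, 2403), (2967, 3650), (2968, 2404), (2969, 3653), (2970, 2406), (2971, 2563), (2972, 2408), (2973, 3655), (2974, 2409), (2975, 3617), (2976, 3618), (2977, 3662), (2978, 3664), (2979, 3667), (2980, 2416), (2981, 3669), (2982, 3671), (2983, 2417), (2984, 3626), (2985, 3676), (2986, 3487), (2987, 3678), (2988, 3681), (2989, 2421), (2990, 3683), (2991, 2422), (2992, 3685), (2993, 2423), (2994, 3688), (2995, 2425), (2996, 2581), (2997, 2428), (2998, 3691), (2999, 2429), (3000, 3496), (3001, 3695), (3002, 3698), (3003, 2433), (3004, 3700), (3005, 2435), (3006,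 3703), (3007, 3705)]
    ⟨e3 q2944 L49185 q2415, e3 q2945 L67306 q3622, e3 q2946 L67333 q3625, e3 q2947 (flp_i L49203) q2390, e3 q2948 L49220 q2419, e3 q2949 L49234 q2420, e3 q2950 L67389 q3630, e3 q2951 L67411 q3632, e3 q2952 L67429 q3634, e3 q2953 (flp_i L49264) q2393, e3 q2954 L67447 q3636, e3 q2955 (flp_i L49284) q2394, e3 q2956 L67489 q3638, e3 q2957 L67510 q3640, e3 q2958 (flp_i L49326) q2397, e3 q2959 (flp_i L49338) q2398, e3 q2960 L49358 q2432, e3 q2961 L67545 q3642, e3 q2962 L67568 q3644, e3 q2963 L67588 q3647, e3 q2964 (flp_i L49389) q2402, e3 q2965 L67601 q3648, e3 q2966 (flp_i L49407) q2403, e3 q2967 L67616 q3650, e3 q2968 (flp_i L49421) q2404, e3 q2969 L67638 q3653, e3 q2970 (flp_i L49435) q2406, e3 q2971 L49449 q2563, e3 q2972 (flp_i L49469) q2408, e3 q2973 L67699 q3655, e3 q2974 (flp_i L49486) q2409, e3 q2975 (flp_i L67265) q3617, e3 q2976 (flp_i L67277) q3618, e3 q2977 L67838 q3662, e3 q2978 L67853 q3664, e3 q2979 L67874 q3667, e3 q2980 (flp_i L49594) q2416, e3 q2981 L67891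 q3669, e3 q2982 L67904 q3671, e3 q2983 (flp_i L49614) q2417, e3 q2984 (flp_i L67350) q3626, e3 q2985 L67942 q3676, e3 q2986 (flp_i L104642) q3487, e3 q2987 L67965 q3678, e3 q2988 L67987 q3681, e3 q2989 (flp_i L49660) q2421, e3 q2990 L68003 q3683, e3 q2991 (flp_i L49679) q2422, e3 q2992 L68024 q3685, e3 q2993 (flp_i L49696) q2423, e3 q2994 L68051 q3688, e3 q2995 (flp_i L49714) q2425, e3 q2996 L49730 q2581, e3 q2997 (flp_i L49749) q2428, e3 q2998 L68111 q3691, e3 q2999 (flp_i L49765) q2429, e3 q3000 (flp_i L110604) q3496, e3 q3001 L68146 q3695, e3 q3002 L68166 q3698, e3 q3003 (flp_i L49791) q2433, e3 q3004 L68193 q3700, e3 q3005 (flp_i L49808) q2435, e3 q3006 L68209 q3703, e3 q3007 L68219 q3705, trivial⟩ (by decide +kernel)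

theorem ce_i_47 : ∀ r, r < 64 → sm gi (Qf (3008 + r)) = Qf (tab Gen.i (3008 + r)) :=
  edges_tab (sm gi) Qf (tab Gen.i) 3008 [(3008, 2436), (3009, 3708), (3010, 2438), (3011, 3711), (3012, 2440), (3013, 2589), (3014, 3713), (3015, 2442), (3016, 2592), (3017, 3717), (3018, 2446), (3019, 3718), (3020, 2448), (3021, 2464), (3022, 2465), (3023, 3471), (3024, 3473), (3025, 3725), (3026, 2453), (3027, 2467), (3028, 3728), (3029, 3482), (3030, 3485), (3031, 3730), (3032, 3732), (3033, 2461), (3034, 3497), (3035, 3719), (3036, 3720), (3037, 3737), (3038, 3468), (3039, 3739), (3040, 3741), (3041, 2468), (3042, 3422), (3043, 3414), (3044, 2471), (3045, 3745), (3046, 2472), (3047, 3388), (3048, 3376), (3049, 3749), (3050, 2477), (3051, 3752), (3052, 2478), (3053, 3754), (3054, 3756), (3055, 2479), (3056, 3760), (3057, 2481), (3058, 3763), (3059, 2482), (3060, 2631), (3061, 3767), (3062, 3769), (3063, 2484), (3064, 3772), (3065, 2486), (3066, 3775), (3067, 2488), (3068, 2636), (3069, 3777), (3070,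 2490), (3071, 2639)]
    ⟨e3 q3008 (flp_i L49824) q2436, e3 q3009 L68234 q3708, e3 q3010 (flp_i L49836) q2438, e3 q3011 L68259 q3711, e3 q3012 (flp_i L49853) q2440, e3 q3013 L49865 q2589, e3 q3014 L68275 q3713, e3 q3015 (flp_i L49874) q2442, e3 q3016 L49887 q2592, e3 q3017 L68354 q3717, e3 q3018 (flp_i L49930) q2446, e3 q3019 L68429 q3718, e3 q3020 (flp_i L49993) q2448, e3 q3021 L50014 q2464, e3 q3022 L50027 q2465, e3 q3023 (flp_i L102604) q3471, e3 q3024 (flp_i L111762) q3473, e3 q3025 L68584 q3725, e3 q3026 (flp_i L50092) q2453, e3 q3027 L50110 q2467, e3 q3028 L68642 q3728, e3 q3029 (flp_i L102363) q3482, e3 q3030 (flp_i L111748) q3485, e3 q3031 L68857 q3730, e3 q3032 L68879 q3732, e3 q3033 (flp_i L50295) q2461, e3 q3034 (flp_i L106226) q3497, e3 q3035 (flp_i L68454) q3719, e3 q3036 (flp_i L68467) q3720, e3 q3037 L69220 q3737, e3 q3038 (flp_i L102536) q3468, e3 q3039 L69288 q3739, e3 q3040 L69303 q3741, e3 q3041 (flp_i L50618) q2468, e3 q3042 (flp_i L102500) q3422, e3 q3043 L94168 q3414,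 e3 q3044 (flp_i L50735) q2471, e3 q3045 L69469 q3745, e3 q3046 (flp_i L50747) q2472, e3 q3047 (flp_i L104185) q3388, e3 q3048 (flp_i L102826) q3376, e3 q3049 L69742 q3749, e3 q3050 (flp_i L50958) q2477, e3 q3051 L69767 q3752, e3 q3052 (flp_i L50977) q2478, e3 q3053 L69784 q3754, e3 q3054 L69800 q3756, e3 q3055 (flp_i L51000) q2479, e3 q3056 L69829 q3760, e3 q3057 (flp_i L51017) q2481, e3 q3058 L69854 q3763, e3 q3059 (flp_i L51031) q2482, e3 q3060 L51047 q2631, e3 q3061 L69930 q3767, e3 q3062 L69947 q3769, e3 q3063 (flp_i L51092) q2484, e3 q3064 L69969 q3772, e3 q3065 (flp_i L51107) q2486, e3 q3066 L69995 q3775, e3 q3067 (flp_i L51124) q2488, e3 q3068 L51137 q2636, e3 q3069 L70011 q3777, e3 q3070 (flp_i L51147) q2490, e3 q3071 L51161 q2639, trivial⟩ (by decide +kernel)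

theorem ce_i_48 : ∀ r, r < 64 → sm gi (Qf (3072 + r)) = Qf (tab Gen.i (3072 + r)) :=
  edges_tab (sm gi) Qf (tab Gen.i) 3072 [(3072, 3781), (3073, 2493), (3074, 3784), (3075, 3786), (3076, 2495), (3077, 3789), (3078, 2496), (3079, 3079), (3080, 3792), (3081, 2498), (3082, 2642), (3083, 3794), (3084, 2500), (3085, 2645), (3086, 2503), (3087, 2647), (3088, 2648), (3089, 3800), (3090, 2506), (3091, 2508), (3092, 3371), (3093, 3093), (3094, 3094), (3095, 2615), (3096, 2616), (3097, 2619), (3098, 2528), (3099, 2529), (3100, 2565), (3101, 3807), (3102, 2518), (3103, 2533), (3104, 2573), (3105, 3809), (3106, 2522), (3107, 3692), (3108, 2526), (3109, 3553), (3110, 3803), (3111, 2552), (3112, 2567), (3113, 2566), (3114, 3819), (3115, 2530), (3116, 3821), (3117, 3823), (3118, 2531), (3119, 2556), (3120, 3827), (3121, 2576), (3122, 2575), (3123, 3831), (3124, 2537), (3125, 3834), (3126, 2539), (3127, 3583), (3128, 3651), (3129, 3709), (3130, 2542), (3131, 2586), (3132, 2585), (3133, 3840), (3134,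 2545), (3135, 3603)]
    ⟨e3 q3072 L70092 q3781, e3 q3073 (flp_i L51202) q2493, e3 q3074 L70186 q3784, e3 q3075 L70200 q3786, e3 q3076 (flp_i L51268) q2495, e3 q3077 L70219 q3789, e3 q3078 (flp_i L51282) q2496, e3 q3079 L51294 q3079, e3 q3080 L70241 q3792, e3 q3081 (flp_i L51301) q2498, e3 q3082 L51315 q2642, e3 q3083 L70256 q3794, e3 q3084 (flp_i L51324) q2500, e3 q3085 L51336 q2645, e3 q3086 (flp_i L51338) q2503, e3 q3087 L51350 q2647, e3 q3088 L51356 q2648, e3 q3089 L70366 q3800, e3 q3090 (flp_i L51414) q2506, e3 q3091 (flp_i L51487) q2508, e3 q3092 (flp_i L102839) q3371, e3 q3093 L51869 q3093, e3 q3094 L52043 q3094, e3 q3095 (flp_i L118576) q2615, e3 q3096 (flp_i L118697) q2616, e3 q3097 L118465 q2619, e3 q3098 L52266 q2528, e3 q3099 L52276 q2529, e3 q3100 (flp_i L118828) q2565, e3 q3101 L71571 q3807, e3 q3102 (flp_i L52295) q2518, e3 q3103 L52311 q2533, e3 q3104 (flp_i L119439) q2573, e3 q3105 L71666 q3809, e3 q3106 (flp_i L52364) q2522, e3 q3107 (flp_i L118439) q3692, e3 q3108 (flp_i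 L52503) q2526, e3 q3109 (flp_i L66692) q3553, e3 q3110 (flp_i L71505) q3803, e3 q3111 (flp_i L117618) q2552, e3 q3112 (flp_i L118082) q2567, e3 q3113 (flp_i L118115) q2566, e3 q3114 L72067 q3819, e3 q3115 (flp_i L52652) q2530, e3 q3116 L72085 q3821, e3 q3117 L72101 q3823, e3 q3118 (flp_i L52676) q2531, e3 q3119 (flp_i L118816) q2556, e3 q3120 L72140 q3827, e3 q3121 (flp_i L118017) q2576, e3 q3122 (flp_i L118352) q2575, e3 q3123 L72216 q3831, e3 q3124 (flp_i L52752) q2537, e3 q3125 L72237 q3834, e3 q3126 (flp_i L52767) q2539, e3 q3127 (flp_i L66976) q3583, e3 q3128 (flp_i L116484) q3651, e3 q3129 (flp_i L119574) q3709, e3 q3130 (flp_i L52847) q2542, e3 q3131 (flp_i L118171) q2586, e3 q3132 (flp_i L117843) q2585, e3 q3133 L72466 q3840, e3 q3134 (flp_i L52922) q2545, e3 q3135 (flp_i L67126) q3603, trivial⟩ (by decide +kernel)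

theorem ce_i_49 : ∀ r, r < 64 → sm gi (Qf (3136 + r)) = Qf (tab Gen.i (3136 + r)) :=
  edges_tab (sm gi) Qf (tab Gen.i) 3136 [(3136, 3842), (3137, 2547), (3138, 3606), (3139, 2564), (3140, 3813), (3141, 3850), (3142, 3852), (3143, 2553), (3144, 3854), (3145, 3571), (3146, 3857), (3147, 2557), (3148, 3637), (3149, 2559), (3150, 3589), (3151, 3859), (3152, 2561), (3153, 3654), (3154, 3845), (3155, 3804), (3156, 3866), (3157, 3816), (3158, 3815), (3159, 3872), (3160, 3874), (3161, 2568), (3162, 3878), (3163, 2570), (3164, 3881), (3165, 2571), (3166, 3672), (3167, 3883), (3168, 3885), (3169, 2574), (3170, 3829), (3171, 3828), (3172, 3889), (3173, 2577), (3174, 3686), (3175, 3891), (3176, 2579), (3177, 3689), (3178, 2582), (3179, 3895), (3180, 2583), (3181, 3838), (3182, 3837), (3183, 3898), (3184, 2587), (3185, 3712), (3186, 2590), (3187, 3714), (3188, 3715), (3189, 2612), (3190, 2613), (3191, 3908), (3192, 3192), (3193, 3193), (3194, 3194), (3195, 3195), (3196, 3196), (3197, 3197), (3198,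 3917), (3199, 3919)]
    ⟨e3 q3136 L72482 q3842, e3 q3137 (flp_i L52943) q2547, e3 q3138 (flp_i L67151) q3606, e3 q3139 L53035 q2564, e3 q3140 (flp_i L118796) q3813, e3 q3141 L72664 q3850, e3 q3142 L72676 q3852, e3 q3143 (flp_i L53088) q2553, e3 q3144 L72717 q3854, e3 q3145 (flp_i L118820) q3571, e3 q3146 L72821 q3857, e3 q3147 (flp_i L53187) q2557, e3 q3148 (flp_i L67465) q3637, e3 q3149 (flp_i L53272) q2559, e3 q3150 (flp_i L119453) q3589, e3 q3151 L73041 q3859, e3 q3152 (flp_i L53350) q2561, e3 q3153 (flp_i L67651) q3654, e3 q3154 (flp_i L72572) q3845, e3 q3155 (flp_i L118731) q3804, e3 q3156 L73211 q3866, e3 q3157 (flp_i L118323) q3816, e3 q3158 (flp_i L118130) q3815, e3 q3159 L73287 q3872, e3 q3160 L73302 q3874, e3 q3161 (flp_i L53540) q2568, e3 q3162 L73327 q3878, e3 q3163 (flp_i L53555) q2570, e3 q3164 L73349 q3881, e3 q3165 (flp_i L53568) q2571, e3 q3166 (flp_i L67916) q3672, e3 q3167 L73389 q3883, e3 q3168 L73404 q3885, e3 q3169 (flp_i L53606) q2574, e3 q3170 (flp_i L118180) q3829,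 e3 q3171 (flp_i L118034) q3828, e3 q3172 L73505 q3889, e3 q3173 (flp_i L53682) q2577, e3 q3174 (flp_i L68040) q3686, e3 q3175 L73523 q3891, e3 q3176 (flp_i L53706) q2579, e3 q3177 (flp_i L68068) q3689, e3 q3178 (flp_i L53754) q2582, e3 q3179 L73589 q3895, e3 q3180 (flp_i L53765) q2583, e3 q3181 (flp_i L118161) q3838, e3 q3182 (flp_i L118153) q3837, e3 q3183 L73673 q3898, e3 q3184 (flp_i L53842) q2587, e3 q3185 (flp_i L68273) q3712, e3 q3186 (flp_i L53856) q2590, e3 q3187 (flp_i L68288) q3714, e3 q3188 (flp_i L68293) q3715, e3 q3189 L53878 q2612, e3 q3190 L53888 q2613, e3 q3191 L73748 q3908, e3 q3192 L53924 q3192, e3 q3193 L53934 q3193, e3 q3194 L53940 q3194, e3 q3195 L53948 q3195, e3 q3196 L53957 q3196, e3 q3197 L53964 q3197, e3 q3198 L73873 q3917, e3 q3199 L73894 q3919, trivial⟩ (by decide +kernel)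

theorem ce_i_50 : ∀ r, r < 64 → sm gi (Qf (3200 + r)) = Qf (tab Gen.i (3200 + r)) :=
  edges_tab (sm gi) Qf (tab Gen.i) 3200 [(3200, 2601), (3201, 3201), (3202, 3202), (3203, 3203), (3204, 2606), (3205, 3922), (3206, 2607), (3207, 3207), (3208, 3904), (3209, 3926), (3210, 3801), (3211, 3929), (3212, 2614), (3213, 3802), (3214, 3931), (3215, 2617), (3216, 3932), (3217, 2620), (3218, 3934), (3219, 3936), (3220, 2622), (3221, 3940), (3222, 2624), (3223, 3943), (3224, 2625), (3225, 3757), (3226, 3947), (3227, 3949), (3228, 2627), (3229, 3761), (3230, 3952), (3231, 2629), (3232, 3764), (3233, 3956), (3234, 2632), (3235, 3773), (3236, 3958), (3237, 2634), (3238, 3776), (3239, 2637), (3240, 3778), (3241, 3779), (3242, 3964), (3243, 2640), (3244, 3793), (3245, 2643), (3246, 3795), (3247, 3796), (3248, 3797), (3249, 3798), (3250, 3799), (3251, 3973), (3252, 3974), (3253, 2649), (3254, 3976), (3255, 2650), (3256, 3256), (3257, 3257), (3258, 2653), (3259, 3259), (3260, 3260), (3261, 3261), (3262,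 3262), (3263, 3263)]
    ⟨e3 q3200 (flp_i L53987) q2601, e3 q3201 L54025 q3201, e3 q3202 L54035 q3202, e3 q3203 L54041 q3203, e3 q3204 (flp_i L54097) q2606, e3 q3205 L74066 q3922, e3 q3206 (flp_i L54114) q2607, e3 q3207 L54161 q3207, e3 q3208 (flp_i L73715) q3904, e3 q3209 L74213 q3926, e3 q3210 (flp_i L118610) q3801, e3 q3211 L74236 q3929, e3 q3212 (flp_i L54258) q2614, e3 q3213 (flp_i L118690) q3802, e3 q3214 L74251 q3931, e3 q3215 (flp_i L54280) q2617, e3 q3216 L74266 q3932, e3 q3217 (flp_i L54293) q2620, e3 q3218 L74279 q3934, e3 q3219 L74295 q3936, e3 q3220 (flp_i L54315) q2622, e3 q3221 L74326 q3940, e3 q3222 (flp_i L54330) q2624, e3 q3223 L74348 q3943, e3 q3224 (flp_i L54346) q2625, e3 q3225 (flp_i L69815) q3757, e3 q3226 L74379 q3947, e3 q3227 L74394 q3949, e3 q3228 (flp_i L54374) q2627, e3 q3229 (flp_i L69843) q3761, e3 q3230 L74415 q3952, e3 q3231 (flp_i L54396) q2629, e3 q3232 (flp_i L69870) q3764, e3 q3233 L74449 q3956, e3 q3234 (flp_i L54419) q2632, e3 q3235 (flp_i L69985) q3773,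 e3 q3236 L74465 q3958, e3 q3237 (flp_i L54443) q2634, e3 q3238 (flp_i L70009) q3776, e3 q3239 (flp_i L54458) q2637, e3 q3240 (flp_i L70025) q3778, e3 q3241 (flp_i L70032) q3779, e3 q3242 L74511 q3964, e3 q3243 (flp_i L54488) q2640, e3 q3244 (flp_i L70254) q3793, e3 q3245 (flp_i L54502) q2643, e3 q3246 (flp_i L70270) q3795, e3 q3247 (flp_i L70275) q3796, e3 q3248 (flp_i L70284) q3797, e3 q3249 (flp_i L70291) q3798, e3 q3250 (flp_i L70299) q3799, e3 q3251 L74597 q3973, e3 q3252 L74605 q3974, e3 q3253 (flp_i L54554) q2649, e3 q3254 L74618 q3976, e3 q3255 (flp_i L54571) q2650, e3 q3256 L54589 q3256, e3 q3257 L54596 q3257, e3 q3258 (flp_i L54599) q2653, e3 q3259 L54616 q3259, e3 q3260 L54623 q3260, e3 q3261 L54634 q3261, e3 q3262 L54641 q3262, e3 q3263 L54648 q3263, trivial⟩ (by decide +kernel)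

theorem ce_i_51 : ∀ r, r < 64 → sm gi (Qf (3264 + r)) = Qf (tab Gen.i (3264 + r)) :=
  edges_tab (sm gi) Qf (tab Gen.i) 3264 [(3264, 2664), (3265, 2665), (3266, 2675), (3267, 2676), (3268, 3268), (3269, 3269), (3270, 2677), (3271, 3984), (3272, 3985), (3273, 3370), (3274, 3990), (3275, 3993), (3276, 2679), (3277, 3375), (3278, 3996), (3279, 3998), (3280, 2681), (3281, 4000), (3282, 2682), (3283, 4003), (3284, 2684), (3285, 4005), (3286, 4008), (3287, 2687), (3288, 4010), (3289, 2688), (3290, 4013), (3291, 2690), (3292, 3292), (3293, 4015), (3294, 2692), (3295, 3295), (3296, 3413), (3297, 4020), (3298, 4023), (3299, 2696), (3300, 4025), (3301, 4027), (3302, 2697), (3303, 4030), (3304, 4032), (3305, 2700), (3306, 4034), (3307, 2701), (3308, 4037), (3309, 2703), (3310, 3310), (3311, 4040), (3312, 2706), (3313, 4042), (3314, 2707), (3315, 4045), (3316, 2709), (3317, 3317), (3318, 4047), (3319, 2711), (3320, 3320), (3321, 3467), (3322, 4051), (3323, 2715), (3324, 4053), (3325, 4055), (3326,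 2717), (3327, 4059)]
    ⟨e3 q3264 (flp_i L112254) q2664, e3 q3265 L82747 q2665, e3 q3266 L59138 q2675, e3 q3267 L59154 q2676, e3 q3268 L59217 q3268, e3 q3269 L59247 q3269, e3 q3270 L59271 q2677, e3 q3271 (flp_i L121080) q3984, e3 q3272 (flp_i L121090) q3985, e3 q3273 (flp_i L64650) q3370, e3 q3274 L121129 q3990, e3 q3275 L121156 q3993, e3 q3276 (flp_i L60879) q2679, e3 q3277 (flp_i L64697) q3375, e3 q3278 L121175 q3996, e3 q3279 L121189 q3998, e3 q3280 (flp_i L60927) q2681, e3 q3281 L121204 q4000, e3 q3282 (flp_i L60942) q2682, e3 q3283 L121225 q4003, e3 q3284 (flp_i L60976) q2684, e3 q3285 L121240 q4005, e3 q3286 L121256 q4008, e3 q3287 (flp_i L61029) q2687, e3 q3288 L121270 q4010, e3 q3289 (flp_i L61061) q2688, e3 q3290 L121292 q4013, e3 q3291 (flp_i L61076) q2690, e3 q3292 L61090 q3292, e3 q3293 L121308 q4015, e3 q3294 (flp_i L61118) q2692, e3 q3295 L61180 q3295, e3 q3296 (flp_i L65017) q3413, e3 q3297 L121335 q4020, e3 q3298 L121357 q4023, e3 q3299 (flp_i L61218) q2696, e3 q3300 L121373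 q4025, e3 q3301 L121387 q4027, e3 q3302 (flp_i L61240) q2697, e3 q3303 L121406 q4030, e3 q3304 L121419 q4032, e3 q3305 (flp_i L61284) q2700, e3 q3306 L121434 q4034, e3 q3307 (flp_i L61318) q2701, e3 q3308 L121459 q4037, e3 q3309 (flp_i L61335) q2703, e3 q3310 L61351 q3310, e3 q3311 L121482 q4040, e3 q3312 (flp_i L61418) q2706, e3 q3313 L121490 q4042, e3 q3314 (flp_i L61450) q2707, e3 q3315 L121505 q4045, e3 q3316 (flp_i L61477) q2709, e3 q3317 L61489 q3317, e3 q3318 L121520 q4047, e3 q3319 (flp_i L61496) q2711, e3 q3320 L61509 q3320, e3 q3321 (flp_i L65510) q3467, e3 q3322 L121544 q4051, e3 q3323 (flp_i L61780) q2715, e3 q3324 L121556 q4053, e3 q3325 L121573 q4055, e3 q3326 (flp_i L62380) q2717, e3 q3327 L121602 q4059, trivial⟩ (by decide +kernel)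

theorem ce_i_52 : ∀ r, r < 64 → sm gi (Qf (3328 + r)) = Qf (tab Gen.i (3328 + r)) :=
  edges_tab (sm gi) Qf (tab Gen.i) 3328 [(3328, 2719), (3329, 4062), (3330, 2720), (3331, 3331), (3332, 4065), (3333, 2722), (3334, 3334), (3335, 4067), (3336, 2724), (3337, 3337), (3338, 4070), (3339, 2727), (3340, 3340), (3341, 2730), (3342, 3342), (3343, 3343), (3344, 3344), (3345, 4079), (3346, 3346), (3347, 3347), (3348, 4083), (3349, 4085), (3350, 2735), (3351, 3351), (3352, 4088), (3353, 4089), (3354, 2738), (3355, 4090), (3356, 4092), (3357, 4094), (3358, 2742), (3359, 4096), (3360, 2743), (3361, 4099), (3362, 4101), (3363, 2746), (3364, 2747), (3365, 4103), (3366, 4105), (3367, 2750), (3368, 4107), (3369, 2751), (3370, 3273), (3371, 3092), (3372, 4114), (3373, 4117), (3374, 2755), (3375, 3277), (3376, 3048), (3377, 4123), (3378, 4125), (3379, 4127), (3380, 2758), (3381, 4129), (3382, 2759), (3383, 2854), (3384, 4133), (3385, 4135), (3386, 2762), (3387, 2763), (3388, 3047), (3389, 4139), (3390,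 2852), (3391, 4142)]
    ⟨e3 q3328 (flp_i L62396) q2719, e3 q3329 L121625 q4062, e3 q3330 (flp_i L62411) q2720, e3 q3331 L62427 q3331, e3 q3332 L121649 q4065, e3 q3333 (flp_i L62533) q2722, e3 q3334 L62546 q3334, e3 q3335 L121664 q4067, e3 q3336 (flp_i L62554) q2724, e3 q3337 L62568 q3337, e3 q3338 L121687 q4070, e3 q3339 (flp_i L62782) q2727, e3 q3340 L62794 q3340, e3 q3341 (flp_i L62795) q2730, e3 q3342 L62807 q3342, e3 q3343 L62812 q3343, e3 q3344 L64420 q3344, e3 q3345 L121752 q4079, e3 q3346 L64434 q3346, e3 q3347 L64443 q3347, e3 q3348 L121793 q4083, e3 q3349 L121811 q4085, e3 q3350 (flp_i L64461) q2735, e3 q3351 L64477 q3351, e3 q3352 L121840 q4088, e3 q3353 L121848 q4089, e3 q3354 (flp_i L64494) q2738, e3 q3355 L121858 q4090, e3 q3356 L121882 q4092, e3 q3357 L121903 q4094, e3 q3358 (flp_i L64542) q2742, e3 q3359 L121919 q4096, e3 q3360 (flp_i L64558) q2743, e3 q3361 L121949 q4099, e3 q3362 L121972 q4101, e3 q3363 (flp_i L64590) q2746, e3 q3364 (flp_i L64598) q2747, e3 q3365 L121989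 q4103, e3 q3366 L122007 q4105, e3 q3367 (flp_i L64622) q2750, e3 q3368 L122022 q4107, e3 q3369 (flp_i L64637) q2751, e3 q3370 L64650 q3273, e3 q3371 L102839 q3092, e3 q3372 L122086 q4114, e3 q3373 L122112 q4117, e3 q3374 (flp_i L64680) q2755, e3 q3375 L64697 q3277, e3 q3376 L102826 q3048, e3 q3377 L122166 q4123, e3 q3378 L122186 q4125, e3 q3379 L122202 q4127, e3 q3380 (flp_i L64737) q2758, e3 q3381 L122217 q4129, e3 q3382 (flp_i L64755) q2759, e3 q3383 (flp_i L104064) q2854, e3 q3384 L122250 q4133, e3 q3385 L122267 q4135, e3 q3386 (flp_i L64787) q2762, e3 q3387 (flp_i L64797) q2763, e3 q3388 L104185 q3047, e3 q3389 L122304 q4139, e3 q3390 L104364 q2852, e3 q3391 L122331 q4142, trivial⟩ (by decide +kernel)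

theorem ce_i_53 : ∀ r, r < 64 → sm gi (Qf (3392 + r)) = Qf (tab Gen.i (3392 + r)) :=
  edges_tab (sm gi) Qf (tab Gen.i) 3392 [(3392, 4145), (3393, 2767), (3394, 4147), (3395, 2768), (3396, 4149), (3397, 2769), (3398, 4152), (3399, 2771), (3400, 3400), (3401, 4155), (3402, 4157), (3403, 2774), (3404, 4159), (3405, 2775), (3406, 4162), (3407, 2778), (3408, 4164), (3409, 2779), (3410, 4167), (3411, 2781), (3412, 3412), (3413, 3296), (3414, 3043), (3415, 4175), (3416, 4177), (3417, 4180), (3418, 2785), (3419, 4182), (3420, 4184), (3421, 2786), (3422, 3042), (3423, 4189), (3424, 2841), (3425, 4192), (3426, 4195), (3427, 2790), (3428, 4197), (3429, 2791), (3430, 4199), (3431, 2792), (3432, 4202), (3433, 2794), (3434, 3434), (3435, 4204), (3436, 4206), (3437, 2797), (3438, 4208), (3439, 2798), (3440, 2847), (3441, 4212), (3442, 4215), (3443, 2802), (3444, 4217), (3445, 4220), (3446, 2804), (3447, 4223), (3448, 4225), (3449, 2805), (3450, 4228), (3451, 2807), (3452, 4231), (3453, 2809), (3454,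 3454), (3455, 4233)]
    ⟨e3 q3392 L122355 q4145, e3 q3393 (flp_i L64851) q2767, e3 q3394 L122374 q4147, e3 q3395 (flp_i L64871) q2768, e3 q3396 L122390 q4149, e3 q3397 (flp_i L64887) q2769, e3 q3398 L122413 q4152, e3 q3399 (flp_i L64902) q2771, e3 q3400 L64918 q3400, e3 q3401 L122438 q4155, e3 q3402 L122456 q4157, e3 q3403 (flp_i L64935) q2774, e3 q3404 L122471 q4159, e3 q3405 (flp_i L64950) q2775, e3 q3406 L122496 q4162, e3 q3407 (flp_i L64965) q2778, e3 q3408 L122515 q4164, e3 q3409 (flp_i L64983) q2779, e3 q3410 L122541 q4167, e3 q3411 (flp_i L64996) q2781, e3 q3412 L65010 q3412, e3 q3413 L65017 q3296, e3 q3414 (flp_i L94168) q3043, e3 q3415 L122604 q4175, e3 q3416 L122622 q4177, e3 q3417 L122642 q4180, e3 q3418 (flp_i L65050) q2785, e3 q3419 L122657 q4182, e3 q3420 L122670 q4184, e3 q3421 (flp_i L65071) q2786, e3 q3422 L102500 q3042, e3 q3423 L122716 q4189, e3 q3424 L104368 q2841, e3 q3425 L122744 q4192, e3 q3426 L122770 q4195, e3 q3427 (flp_i L65125) q2790, e3 q3428 L122786 q4197,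 e3 q3429 (flp_i L65146) q2791, e3 q3430 L122804 q4199, e3 q3431 (flp_i L65163) q2792, e3 q3432 L122830 q4202, e3 q3433 (flp_i L65180) q2794, e3 q3434 L65198 q3434, e3 q3435 L122848 q4204, e3 q3436 L122872 q4206, e3 q3437 (flp_i L65217) q2797, e3 q3438 L122894 q4208, e3 q3439 (flp_i L65236) q2798, e3 q3440 (flp_i L110615) q2847, e3 q3441 L122929 q4212, e3 q3442 L122951 q4215, e3 q3443 (flp_i L65268) q2802, e3 q3444 L122965 q4217, e3 q3445 L122990 q4220, e3 q3446 (flp_i L65290) q2804, e3 q3447 L123007 q4223, e3 q3448 L123021 q4225, e3 q3449 (flp_i L65310) q2805, e3 q3450 L123040 q4228, e3 q3451 (flp_i L65322) q2807, e3 q3452 L123062 q4231, e3 q3453 (flp_i L65336) q2809, e3 q3454 L65348 q3454, e3 q3455 L123075 q4233, trivial⟩ (by decide +kernel)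

theorem ce_i_54 : ∀ r, r < 64 → sm gi (Qf (3456 + r)) = Qf (tab Gen.i (3456 + r)) :=
  edges_tab (sm gi) Qf (tab Gen.i) 3456 [(3456, 2811), (3457, 3457), (3458, 2814), (3459, 4237), (3460, 2815), (3461, 4239), (3462, 2817), (3463, 4241), (3464, 2820), (3465, 4242), (3466, 2822), (3467, 3321), (3468, 3038), (3469, 4248), (3470, 2826), (3471, 3023), (3472, 4245), (3473, 3024), (3474, 4255), (3475, 4256), (3476, 2828), (3477, 2830), (3478, 2836), (3479, 4260), (3480, 4263), (3481, 2833), (3482, 3029), (3483, 4186), (3484, 4257), (3485, 3030), (3486, 2838), (3487, 2986), (3488, 4172), (3489, 2848), (3490, 4271), (3491, 4274), (3492, 2843), (3493, 4277), (3494, 4278), (3495, 2844), (3496, 3000), (3497, 3034), (3498, 4136), (3499, 4209), (3500, 2922), (3501, 4120), (3502, 2915), (3503, 3503), (3504, 4284), (3505, 3505), (3506, 4286), (3507, 4288), (3508, 2857), (3509, 3509), (3510, 4291), (3511, 4292), (3512, 2860), (3513, 4293), (3514, 2863), (3515, 4294), (3516, 2864), (3517, 3517), (3518,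 4297), (3519, 4299)]
    ⟨e3 q3456 (flp_i L65356) q2811, e3 q3457 L65369 q3457, e3 q3458 (flp_i L65380) q2814, e3 q3459 L123108 q4237, e3 q3460 (flp_i L65398) q2815, e3 q3461 L123128 q4239, e3 q3462 (flp_i L65416) q2817, e3 q3463 L123148 q4241, e3 q3464 (flp_i L65465) q2820, e3 q3465 L123159 q4242, e3 q3466 (flp_i L65488) q2822, e3 q3467 L65510 q3321, e3 q3468 L102536 q3038, e3 q3469 L123210 q4248, e3 q3470 (flp_i L112139) q2826, e3 q3471 L102604 q3023, e3 q3472 (flp_i L123189) q4245, e3 q3473 L111762 q3024, e3 q3474 L123275 q4255, e3 q3475 L123289 q4256, e3 q3476 (flp_i L65603) q2828, e3 q3477 (flp_i L65612) q2830, e3 q3478 (flp_i L110618) q2836, e3 q3479 L123332 q4260, e3 q3480 L123357 q4263, e3 q3481 (flp_i L65657) q2833, e3 q3482 L102363 q3029, e3 q3483 (flp_i L122695) q4186, e3 q3484 (flp_i L123307) q4257, e3 q3485 L111748 q3030, e3 q3486 (flp_i L65738) q2838, e3 q3487 L104642 q2986, e3 q3488 (flp_i L122585) q4172, e3 q3489 (flp_i L110612) q2848, e3 q3490 L123437 q4271, e3 q3491 L123472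 q4274, e3 q3492 (flp_i L65839) q2843, e3 q3493 L123507 q4277, e3 q3494 L123513 q4278, e3 q3495 (flp_i L65860) q2844, e3 q3496 L110604 q3000, e3 q3497 L106226 q3034, e3 q3498 (flp_i L122282) q4136, e3 q3499 (flp_i L122911) q4209, e3 q3500 L104330 q2922, e3 q3501 (flp_i L122145) q4120, e3 q3502 L103146 q2915, e3 q3503 L66141 q3503, e3 q3504 L123580 q4284, e3 q3505 L66157 q3505, e3 q3506 L123601 q4286, e3 q3507 L123624 q4288, e3 q3508 (flp_i L66186) q2857, e3 q3509 L66204 q3509, e3 q3510 L123659 q4291, e3 q3511 L123669 q4292, e3 q3512 (flp_i L66225) q2860, e3 q3513 L123683 q4293, e3 q3514 (flp_i L66277) q2863, e3 q3515 L123694 q4294, e3 q3516 (flp_i L66294) q2864, e3 q3517 L66307 q3517, e3 q3518 L123724 q4297, e3 q3519 L123741 q4299, trivial⟩ (by decide +kernel)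

theorem ce_i_55 : ∀ r, r < 64 → sm gi (Qf (3520 + r)) = Qf (tab Gen.i (3520 + r)) :=
  edges_tab (sm gi) Qf (tab Gen.i) 3520 [(3520, 2867), (3521, 2868), (3522, 4301), (3523, 4302), (3524, 2871), (3525, 4304), (3526, 2872), (3527, 2902), (3528, 2903), (3529, 4311), (3530, 4314), (3531, 2876), (3532, 2907), (3533, 2908), (3534, 4318), (3535, 4319), (3536, 4321), (3537, 2879), (3538, 4323), (3539, 2880), (3540, 4326), (3541, 4328), (3542, 2883), (3543, 2884), (3544, 4330), (3545, 4332), (3546, 4335), (3547, 2888), (3548, 2889), (3549, 4336), (3550, 2890), (3551, 4337), (3552, 2892), (3553, 3109), (3554, 4340), (3555, 2894), (3556, 4342), (3557, 2895), (3558, 2898), (3559, 4346), (3560, 2900), (3561, 3561), (3562, 4306), (3563, 4307), (3564, 4354), (3565, 4356), (3566, 4359), (3567, 2904), (3568, 4361), (3569, 4363), (3570, 2905), (3571, 3145), (3572, 4368), (3573, 4280), (3574, 4371), (3575, 4374), (3576, 2909), (3577, 4376), (3578, 2910), (3579, 4378), (3580, 2911), (3581, 4381), (3582,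 2913), (3583, 3127)]
    ⟨e3 q3520 (flp_i L66326) q2867, e3 q3521 (flp_i L66334) q2868, e3 q3522 L123758 q4301, e3 q3523 L123768 q4302, e3 q3524 (flp_i L66362) q2871, e3 q3525 L123785 q4304, e3 q3526 (flp_i L66381) q2872, e3 q3527 L66398 q2902, e3 q3528 L66412 q2903, e3 q3529 L123869 q4311, e3 q3530 L123901 q4314, e3 q3531 (flp_i L66434) q2876, e3 q3532 L66453 q2907, e3 q3533 L66466 q2908, e3 q3534 L123937 q4318, e3 q3535 L123949 q4319, e3 q3536 L123972 q4321, e3 q3537 (flp_i L66495) q2879, e3 q3538 L123994 q4323, e3 q3539 (flp_i L66514) q2880, e3 q3540 L124025 q4326, e3 q3541 L124044 q4328, e3 q3542 (flp_i L66552) q2883, e3 q3543 (flp_i L66564) q2884, e3 q3544 L124066 q4330, e3 q3545 L124089 q4332, e3 q3546 L124117 q4335, e3 q3547 (flp_i L66622) q2888, e3 q3548 (flp_i L66643) q2889, e3 q3549 L124125 q4336, e3 q3550 (flp_i L66660) q2890, e3 q3551 L124137 q4337, e3 q3552 (flp_i L66676) q2892, e3 q3553 L66692 q3109, e3 q3554 L124161 q4340, e3 q3555 (flp_i L66710) q2894, e3 q3556 L124176 q4342,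 e3 q3557 (flp_i L66725) q2895, e3 q3558 (flp_i L66764) q2898, e3 q3559 L124209 q4346, e3 q3560 (flp_i L66779) q2900, e3 q3561 L66797 q3561, e3 q3562 (flp_i L123812) q4306, e3 q3563 (flp_i L123830) q4307, e3 q3564 L124278 q4354, e3 q3565 L124297 q4356, e3 q3566 L124323 q4359, e3 q3567 (flp_i L66841) q2904, e3 q3568 L124343 q4361, e3 q3569 L124359 q4363, e3 q3570 (flp_i L66866) q2905, e3 q3571 L118820 q3145, e3 q3572 L124403 q4368, e3 q3573 (flp_i L123542) q4280, e3 q3574 L124425 q4371, e3 q3575 L124447 q4374, e3 q3576 (flp_i L66912) q2909, e3 q3577 L124462 q4376, e3 q3578 (flp_i L66930) q2910, e3 q3579 L124483 q4378, e3 q3580 (flp_i L66946) q2911, e3 q3581 L124511 q4381, e3 q3582 (flp_i L66962) q2913, e3 q3583 L66976 q3127, trivial⟩ (by decide +kernel)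

theorem ce_i_56 : ∀ r, r < 64 → sm gi (Qf (3584 + r)) = Qf (tab Gen.i (3584 + r)) :=
  edges_tab (sm gi) Qf (tab Gen.i) 3584 [(3584, 4383), (3585, 4385), (3586, 2916), (3587, 4387), (3588, 2917), (3589, 3150), (3590, 4391), (3591, 4394), (3592, 2921), (3593, 4396), (3594, 4399), (3595, 2923), (3596, 4402), (3597, 4404), (3598, 2924), (3599, 4407), (3600, 2926), (3601, 4409), (3602, 2928), (3603, 3135), (3604, 4411), (3605, 2930), (3606, 3138), (3607, 2933), (3608, 4414), (3609, 2934), (3610, 4417), (3611, 2936), (3612, 3612), (3613, 3613), (3614, 4419), (3615, 2940), (3616, 3616), (3617, 2975), (3618, 2976), (3619, 4426), (3620, 4428), (3621, 4431), (3622, 2945), (3623, 4433), (3624, 4435), (3625, 2946), (3626, 2984), (3627, 4438), (3628, 4440), (3629, 4443), (3630, 2950), (3631, 4444), (3632, 2951), (3633, 4446), (3634, 2952), (3635, 4449), (3636, 2954), (3637, 3148), (3638, 2956), (3639, 4452), (3640, 2957), (3641, 4454), (3642, 2961), (3643, 4455), (3644, 2962), (3645, 4457), (3646,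 4459), (3647, 2963)]
    ⟨e3 q3584 L124528 q4383, e3 q3585 L124545 q4385, e3 q3586 (flp_i L66993) q2916, e3 q3587 L124558 q4387, e3 q3588 (flp_i L67007) q2917, e3 q3589 L119453 q3150, e3 q3590 L124590 q4391, e3 q3591 L124616 q4394, e3 q3592 (flp_i L67036) q2921, e3 q3593 L124628 q4396, e3 q3594 L124655 q4399, e3 q3595 (flp_i L67058) q2923, e3 q3596 L124676 q4402, e3 q3597 L124688 q4404, e3 q3598 (flp_i L67078) q2924, e3 q3599 L124708 q4407, e3 q3600 (flp_i L67093) q2926, e3 q3601 L124728 q4409, e3 q3602 (flp_i L67112) q2928, e3 q3603 L67126 q3135, e3 q3604 L124748 q4411, e3 q3605 (flp_i L67136) q2930, e3 q3606 L67151 q3138, e3 q3607 (flp_i L67160) q2933, e3 q3608 L124772 q4414, e3 q3609 (flp_i L67173) q2934, e3 q3610 L124797 q4417, e3 q3611 (flp_i L67188) q2936, e3 q3612 L67198 q3612, e3 q3613 L67239 q3613, e3 q3614 L124812 q4419, e3 q3615 (flp_i L67246) q2940, e3 q3616 L67258 q3616, e3 q3617 L67265 q2975, e3 q3618 L67277 q2976, e3 q3619 L124879 q4426, e3 q3620 L124902 q4428, e3 q3621 L124928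 q4431, e3 q3622 (flp_i L67306) q2945, e3 q3623 L124944 q4433, e3 q3624 L124960 q4435, e3 q3625 (flp_i L67333) q2946, e3 q3626 L67350 q2984, e3 q3627 L124986 q4438, e3 q3628 L125004 q4440, e3 q3629 L125030 q4443, e3 q3630 (flp_i L67389) q2950, e3 q3631 L125038 q4444, e3 q3632 (flp_i L67411) q2951, e3 q3633 L125059 q4446, e3 q3634 (flp_i L67429) q2952, e3 q3635 L125089 q4449, e3 q3636 (flp_i L67447) q2954, e3 q3637 L67465 q3148, e3 q3638 (flp_i L67489) q2956, e3 q3639 L125117 q4452, e3 q3640 (flp_i L67510) q2957, e3 q3641 L125134 q4454, e3 q3642 (flp_i L67545) q2961, e3 q3643 L125140 q4455, e3 q3644 (flp_i L67568) q2962, e3 q3645 L125151 q4457, e3 q3646 L125165 q4459, e3 q3647 (flp_i L67588) q2963, trivial⟩ (by decide +kernel)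

theorem ce_i_57 : ∀ r, r < 64 → sm gi (Qf (3648 + r)) = Qf (tab Gen.i (3648 + r)) :=
  edges_tab (sm gi) Qf (tab Gen.i) 3648 [(3648, 2965), (3649, 4461), (3650, 2967), (3651, 3128), (3652, 4462), (3653, 2969), (3654, 3153), (3655, 2973), (3656, 4421), (3657, 4422), (3658, 4470), (3659, 4268), (3660, 4472), (3661, 4475), (3662, 2977), (3663, 4478), (3664, 2978), (3665, 4480), (3666, 4482), (3667, 2979), (3668, 4486), (3669, 2981), (3670, 4489), (3671, 2982), (3672, 3166), (3673, 4264), (3674, 4494), (3675, 4497), (3676, 2985), (3677, 4499), (3678, 2987), (3679, 4502), (3680, 4504), (3681, 2988), (3682, 4507), (3683, 2990), (3684, 4510), (3685, 2992), (3686, 3174), (3687, 4512), (3688, 2994), (3689, 3177), (3690, 4516), (3691, 2998), (3692, 3107), (3693, 4518), (3694, 4520), (3695, 3001), (3696, 4523), (3697, 4525), (3698, 3002), (3699, 4528), (3700, 3004), (3701, 4532), (3702, 4534), (3703, 3006), (3704, 4537), (3705, 3007), (3706, 4526), (3707, 4540), (3708, 3009), (3709, 3129), (3710,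 4542), (3711, 3011)]
    ⟨e3 q3648 (flp_i L67601) q2965, e3 q3649 L125177 q4461, e3 q3650 (flp_i L67616) q2967, e3 q3651 L116484 q3128, e3 q3652 L125184 q4462, e3 q3653 (flp_i L67638) q2969, e3 q3654 L67651 q3153, e3 q3655 (flp_i L67699) q2973, e3 q3656 (flp_i L124837) q4421, e3 q3657 (flp_i L124853) q4422, e3 q3658 L125244 q4470, e3 q3659 (flp_i L123416) q4268, e3 q3660 L125256 q4472, e3 q3661 L125272 q4475, e3 q3662 (flp_i L67838) q2977, e3 q3663 L125295 q4478, e3 q3664 (flp_i L67853) q2978, e3 q3665 L125312 q4480, e3 q3666 L125328 q4482, e3 q3667 (flp_i L67874) q2979, e3 q3668 L125355 q4486, e3 q3669 (flp_i L67891) q2981, e3 q3670 L125380 q4489, e3 q3671 (flp_i L67904) q2982, e3 q3672 L67916 q3166, e3 q3673 (flp_i L123373) q4264, e3 q3674 L125424 q4494, e3 q3675 L125452 q4497, e3 q3676 (flp_i L67942) q2985, e3 q3677 L125468 q4499, e3 q3678 (flp_i L67965) q2987, e3 q3679 L125494 q4502, e3 q3680 L125510 q4504, e3 q3681 (flp_i L67987) q2988, e3 q3682 L125531 q4507, e3 q3683 (flp_i L68003)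 q2990, e3 q3684 L125564 q4510, e3 q3685 (flp_i L68024) q2992, e3 q3686 L68040 q3174, e3 q3687 L125584 q4512, e3 q3688 (flp_i L68051) q2994, e3 q3689 L68068 q3177, e3 q3690 L125622 q4516, e3 q3691 (flp_i L68111) q2998, e3 q3692 L118439 q3107, e3 q3693 L125642 q4518, e3 q3694 L125660 q4520, e3 q3695 (flp_i L68146) q3001, e3 q3696 L125685 q4523, e3 q3697 L125699 q4525, e3 q3698 (flp_i L68166) q3002, e3 q3699 L125715 q4528, e3 q3700 (flp_i L68193) q3004, e3 q3701 L125745 q4532, e3 q3702 L125759 q4534, e3 q3703 (flp_i L68209) q3006, e3 q3704 L125779 q4537, e3 q3705 (flp_i L68219) q3007, e3 q3706 (flp_i L125707) q4526, e3 q3707 L125798 q4540, e3 q3708 (flp_i L68234) q3009, e3 q3709 L119574 q3129, e3 q3710 L125817 q4542, e3 q3711 (flp_i L68259) q3011, trivial⟩ (by decide +kernel)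

theorem ce_i_58 : ∀ r, r < 64 → sm gi (Qf (3712 + r)) = Qf (tab Gen.i (3712 + r)) :=
  edges_tab (sm gi) Qf (tab Gen.i) 3712 [(3712, 3185), (3713, 3014), (3714, 3187), (3715, 3188), (3716, 4548), (3717, 3017), (3718, 3019), (3719, 3035), (3720, 3036), (3721, 4553), (3722, 4249), (3723, 4252), (3724, 4253), (3725, 3025), (3726, 4557), (3727, 4559), (3728, 3028), (3729, 4265), (3730, 3031), (3731, 4560), (3732, 3032), (3733, 4549), (3734, 4563), (3735, 4564), (3736, 4566), (3737, 3037), (3738, 4243), (3739, 3039), (3740, 4569), (3741, 3040), (3742, 4170), (3743, 4110), (3744, 4572), (3745, 3045), (3746, 4118), (3747, 4575), (3748, 4577), (3749, 3049), (3750, 4580), (3751, 4582), (3752, 3051), (3753, 4586), (3754, 3053), (3755, 4589), (3756, 3054), (3757, 3225), (3758, 4593), (3759, 4595), (3760, 3056), (3761, 3229), (3762, 4598), (3763, 3058), (3764, 3232), (3765, 4603), (3766, 4605), (3767, 3061), (3768, 4608), (3769, 3062), (3770, 3770), (3771, 4611), (3772, 3064), (3773, 3235), (3774,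 4613), (3775, 3066)]
    ⟨e3 q3712 L68273 q3185, e3 q3713 (flp_i L68275) q3014, e3 q3714 L68288 q3187, e3 q3715 L68293 q3188, e3 q3716 L125861 q4548, e3 q3717 (flp_i L68354) q3017, e3 q3718 (flp_i L68429) q3019, e3 q3719 L68454 q3035, e3 q3720 L68467 q3036, e3 q3721 L125909 q4553, e3 q3722 (flp_i L123229) q4249, e3 q3723 (flp_i L123252) q4252, e3 q3724 (flp_i L123263) q4253, e3 q3725 (flp_i L68584) q3025, e3 q3726 L125946 q4557, e3 q3727 L125966 q4559, e3 q3728 (flp_i L68642) q3028, e3 q3729 (flp_i L123387) q4265, e3 q3730 (flp_i L68857) q3031, e3 q3731 L125974 q4560, e3 q3732 (flp_i L68879) q3032, e3 q3733 (flp_i L125880) q4549, e3 q3734 L125995 q4563, e3 q3735 L126002 q4564, e3 q3736 L126021 q4566, e3 q3737 (flp_i L69220) q3037, e3 q3738 (flp_i L123172) q4243, e3 q3739 (flp_i L69288) q3039, e3 q3740 L126047 q4569, e3 q3741 (flp_i L69303) q3040, e3 q3742 (flp_i L122572) q4170, e3 q3743 (flp_i L122056) q4110, e3 q3744 L126073 q4572, e3 q3745 (flp_i L69469) q3045, e3 q3746 (flp_i L122129)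 q4118, e3 q3747 L126099 q4575, e3 q3748 L126116 q4577, e3 q3749 (flp_i L69742) q3049, e3 q3750 L126146 q4580, e3 q3751 L126166 q4582, e3 q3752 (flp_i L69767) q3051, e3 q3753 L126200 q4586, e3 q3754 (flp_i L69784) q3053, e3 q3755 L126225 q4589, e3 q3756 (flp_i L69800) q3054, e3 q3757 L69815 q3225, e3 q3758 L126256 q4593, e3 q3759 L126271 q4595, e3 q3760 (flp_i L69829) q3056, e3 q3761 L69843 q3229, e3 q3762 L126295 q4598, e3 q3763 (flp_i L69854) q3058, e3 q3764 L69870 q3232, e3 q3765 L126340 q4603, e3 q3766 L126357 q4605, e3 q3767 (flp_i L69930) q3061, e3 q3768 L126387 q4608, e3 q3769 (flp_i L69947) q3062, e3 q3770 L69961 q3770, e3 q3771 L126416 q4611, e3 q3772 (flp_i L69969) q3064, e3 q3773 L69985 q3235, e3 q3774 L126435 q4613, e3 q3775 (flp_i L69995) q3066, trivial⟩ (by decide +kernel)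

theorem ce_i_59 : ∀ r, r < 64 → sm gi (Qf (3776 + r)) = Qf (tab Gen.i (3776 + r)) :=
  edges_tab (sm gi) Qf (tab Gen.i) 3776 [(3776, 3238), (3777, 3069), (3778, 3240), (3779, 3241), (3780, 4619), (3781, 3072), (3782, 4621), (3783, 4623), (3784, 3074), (3785, 4626), (3786, 3075), (3787, 3787), (3788, 4628), (3789, 3077), (3790, 3790), (3791, 4631), (3792, 3080), (3793, 3244), (3794, 3083), (3795, 3246), (3796, 3247), (3797, 3248), (3798, 3249), (3799, 3250), (3800, 3089), (3801, 3210), (3802, 3213), (3803, 3110), (3804, 3155), (3805, 4642), (3806, 4644), (3807, 3101), (3808, 4491), (3809, 3105), (3810, 4324), (3811, 4338), (3812, 4639), (3813, 3140), (3814, 4652), (3815, 3158), (3816, 3157), (3817, 4658), (3818, 4660), (3819, 3114), (3820, 4664), (3821, 3116), (3822, 4667), (3823, 3117), (3824, 4364), (3825, 4447), (3826, 4508), (3827, 3120), (3828, 3171), (3829, 3170), (3830, 4673), (3831, 3123), (3832, 4379), (3833, 4675), (3834, 3125), (3835, 4382), (3836, 4541), (3837, 3182), (3838,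 3181), (3839, 4681)]
    ⟨e3 q3776 L70009 q3238, e3 q3777 (flp_i L70011) q3069, e3 q3778 L70025 q3240, e3 q3779 L70032 q3241, e3 q3780 L126487 q4619, e3 q3781 (flp_i L70092) q3072, e3 q3782 L126506 q4621, e3 q3783 L126523 q4623, e3 q3784 (flp_i L70186) q3074, e3 q3785 L126549 q4626, e3 q3786 (flp_i L70200) q3075, e3 q3787 L70211 q3787, e3 q3788 L126565 q4628, e3 q3789 (flp_i L70219) q3077, e3 q3790 L70232 q3790, e3 q3791 L126591 q4631, e3 q3792 (flp_i L70241) q3080, e3 q3793 L70254 q3244, e3 q3794 (flp_i L70256) q3083, e3 q3795 L70270 q3246, e3 q3796 L70275 q3247, e3 q3797 L70284 q3248, e3 q3798 L70291 q3249, e3 q3799 L70299 q3250, e3 q3800 (flp_i L70366) q3089, e3 q3801 L118610 q3210, e3 q3802 L118690 q3213, e3 q3803 L71505 q3110, e3 q3804 L118731 q3155, e3 q3805 L126692 q4642, e3 q3806 L126711 q4644, e3 q3807 (flp_i L71571) q3101, e3 q3808 (flp_i L125401) q4491, e3 q3809 (flp_i L71666) q3105, e3 q3810 (flp_i L124014) q4324, e3 q3811 (flp_i L124154) q4338, e3 q3812 (flp_i L126668) q4639,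 e3 q3813 L118796 q3140, e3 q3814 L126792 q4652, e3 q3815 L118130 q3158, e3 q3816 L118323 q3157, e3 q3817 L126853 q4658, e3 q3818 L126873 q4660, e3 q3819 (flp_i L72067) q3114, e3 q3820 L126912 q4664, e3 q3821 (flp_i L72085) q3116, e3 q3822 L126938 q4667, e3 q3823 (flp_i L72101) q3117, e3 q3824 (flp_i L124375) q4364, e3 q3825 (flp_i L125077) q4447, e3 q3826 (flp_i L125552) q4508, e3 q3827 (flp_i L72140) q3120, e3 q3828 L118034 q3171, e3 q3829 L118180 q3170, e3 q3830 L126994 q4673, e3 q3831 (flp_i L72216) q3123, e3 q3832 (flp_i L124501) q4379, e3 q3833 L127014 q4675, e3 q3834 (flp_i L72237) q3125, e3 q3835 (flp_i L124526) q4382, e3 q3836 (flp_i L125815) q4541, e3 q3837 L118153 q3182, e3 q3838 L118161 q3181, e3 q3839 L127070 q4681, trivial⟩ (by decide +kernel)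

theorem ce_i_60 : ∀ r, r < 64 → sm gi (Qf (3840 + r)) = Qf (tab Gen.i (3840 + r)) :=
  edges_tab (sm gi) Qf (tab Gen.i) 3840 [(3840, 3133), (3841, 4410), (3842, 3136), (3843, 4412), (3844, 4413), (3845, 3154), (3846, 4687), (3847, 4648), (3848, 4349), (3849, 4692), (3850, 3141), (3851, 4695), (3852, 3142), (3853, 4436), (3854, 3144), (3855, 4365), (3856, 4697), (3857, 3146), (3858, 4450), (3859, 3151), (3860, 4463), (3861, 4464), (3862, 4640), (3863, 4705), (3864, 4706), (3865, 4709), (3866, 3156), (3867, 4655), (3868, 4656), (3869, 4653), (3870, 4654), (3871, 4716), (3872, 3159), (3873, 4719), (3874, 3160), (3875, 4483), (3876, 4723), (3877, 4725), (3878, 3162), (3879, 4487), (3880, 4728), (3881, 3164), (3882, 4490), (3883, 3167), (3884, 4732), (3885, 3168), (3886, 4671), (3887, 4670), (3888, 4735), (3889, 3172), (3890, 4511), (3891, 3175), (3892, 4513), (3893, 4514), (3894, 4742), (3895, 3179), (3896, 4680), (3897, 4679), (3898, 3183), (3899, 4543), (3900, 4544), (3901, 4545), (3902,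 4546), (3903, 4547)]
    ⟨e3 q3840 (flp_i L72466) q3133, e3 q3841 (flp_i L124746) q4410, e3 q3842 (flp_i L72482) q3136, e3 q3843 (flp_i L124763) q4412, e3 q3844 (flp_i L124770) q4413, e3 q3845 L72572 q3154, e3 q3846 L127119 q4687, e3 q3847 (flp_i L126757) q4648, e3 q3848 (flp_i L124243) q4349, e3 q3849 L127148 q4692, e3 q3850 (flp_i L72664) q3141, e3 q3851 L127168 q4695, e3 q3852 (flp_i L72676) q3142, e3 q3853 (flp_i L124976) q4436, e3 q3854 (flp_i L72717) q3144, e3 q3855 (flp_i L124384) q4365, e3 q3856 L127182 q4697, e3 q3857 (flp_i L72821) q3146, e3 q3858 (flp_i L125106) q4450, e3 q3859 (flp_i L73041) q3151, e3 q3860 (flp_i L125197) q4463, e3 q3861 (flp_i L125202) q4464, e3 q3862 (flp_i L126680) q4640, e3 q3863 L127238 q4705, e3 q3864 L127245 q4706, e3 q3865 L127263 q4709, e3 q3866 (flp_i L73211) q3156, e3 q3867 (flp_i L126830) q4655, e3 q3868 (flp_i L126842) q4656, e3 q3869 (flp_i L126806) q4653, e3 q3870 (flp_i L126819) q4654, e3 q3871 L127308 q4716, e3 q3872 (flp_i L73287) q3159, e3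 q3873 L127330 q4719, e3 q3874 (flp_i L73302) q3160, e3 q3875 (flp_i L125340) q4483, e3 q3876 L127358 q4723, e3 q3877 L127374 q4725, e3 q3878 (flp_i L73327) q3162, e3 q3879 (flp_i L125371) q4487, e3 q3880 L127397 q4728, e3 q3881 (flp_i L73349) q3164, e3 q3882 (flp_i L125393) q4490, e3 q3883 (flp_i L73389) q3167, e3 q3884 L127425 q4732, e3 q3885 (flp_i L73404) q3168, e3 q3886 (flp_i L126984) q4671, e3 q3887 (flp_i L126974) q4670, e3 q3888 L127449 q4735, e3 q3889 (flp_i L73505) q3172, e3 q3890 (flp_i L125582) q4511, e3 q3891 (flp_i L73523) q3175, e3 q3892 (flp_i L125601) q4513, e3 q3893 (flp_i L125608) q4514, e3 q3894 L127503 q4742, e3 q3895 (flp_i L73589) q3179, e3 q3896 (flp_i L127066) q4680, e3 q3897 (flp_i L127054) q4679, e3 q3898 (flp_i L73673) q3183, e3 q3899 (flp_i L125833) q4543, e3 q3900 (flp_i L125837) q4544, e3 q3901 (flp_i L125846) q4545, e3 q3902 (flp_i L125852) q4546, e3 q3903 (flp_i L125857) q4547, trivial⟩ (by decide +kernel)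

theorem ce_i_61 : ∀ r, r < 64 → sm gi (Qf (3904 + r)) = Qf (tab Gen.i (3904 + r)) :=
  edges_tab (sm gi) Qf (tab Gen.i) 3904 [(3904, 3208), (3905, 4748), (3906, 4749), (3907, 4752), (3908, 3191), (3909, 3909), (3910, 3910), (3911, 3911), (3912, 3912), (3913, 3913), (3914, 3914), (3915, 3915), (3916, 3916), (3917, 3198), (3918, 4755), (3919, 3199), (3920, 3920), (3921, 4756), (3922, 3205), (3923, 4637), (3924, 4760), (3925, 4762), (3926, 3209), (3927, 4638), (3928, 4764), (3929, 3211), (3930, 4765), (3931, 3214), (3932, 3216), (3933, 4768), (3934, 3218), (3935, 4771), (3936, 3219), (3937, 4583), (3938, 4775), (3939, 4777), (3940, 3221), (3941, 4587), (3942, 4780), (3943, 3223), (3944, 4590), (3945, 4786), (3946, 4787), (3947, 3226), (3948, 4789), (3949, 3227), (3950, 4596), (3951, 4597), (3952, 3230), (3953, 4599), (3954, 4600), (3955, 4796), (3956, 3233), (3957, 4612), (3958, 3236), (3959, 4614), (3960, 4615), (3961, 4616), (3962, 4617), (3963, 4618), (3964, 3242), (3965, 4632), (3966,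 4633), (3967, 4634)]
    ⟨e3 q3904 L73715 q3208, e3 q3905 L127537 q4748, e3 q3906 L127545 q4749, e3 q3907 L127571 q4752, e3 q3908 (flp_i L73748) q3191, e3 q3909 L73780 q3909, e3 q3910 L73787 q3910, e3 q3911 L73797 q3911, e3 q3912 L73807 q3912, e3 q3913 L73814 q3913, e3 q3914 L73820 q3914, e3 q3915 L73829 q3915, e3 q3916 L73839 q3916, e3 q3917 (flp_i L73873) q3198, e3 q3918 L127600 q4755, e3 q3919 (flp_i L73894) q3199, e3 q3920 L73948 q3920, e3 q3921 L127607 q4756, e3 q3922 (flp_i L74066) q3205, e3 q3923 (flp_i L126646) q4637, e3 q3924 L127638 q4760, e3 q3925 L127650 q4762, e3 q3926 (flp_i L74213) q3209, e3 q3927 (flp_i L126657) q4638, e3 q3928 L127665 q4764, e3 q3929 (flp_i L74236) q3211, e3 q3930 L127674 q4765, e3 q3931 (flp_i L74251) q3214, e3 q3932 (flp_i L74266) q3216, e3 q3933 L127694 q4768, e3 q3934 (flp_i L74279) q3218, e3 q3935 L127720 q4771, e3 q3936 (flp_i L74295) q3219, e3 q3937 (flp_i L126186) q4583, e3 q3938 L127749 q4775, e3 q3939 L127763 q4777, e3 q3940 (flp_i L74326) q3221,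 e3 q3941 (flp_i L126214) q4587, e3 q3942 L127786 q4780, e3 q3943 (flp_i L74348) q3223, e3 q3944 (flp_i L126241) q4590, e3 q3945 L127845 q4786, e3 q3946 L127854 q4787, e3 q3947 (flp_i L74379) q3226, e3 q3948 L127870 q4789, e3 q3949 (flp_i L74394) q3227, e3 q3950 (flp_i L126286) q4596, e3 q3951 (flp_i L126292) q4597, e3 q3952 (flp_i L74415) q3230, e3 q3953 (flp_i L126311) q4599, e3 q3954 (flp_i L126319) q4600, e3 q3955 L127939 q4796, e3 q3956 (flp_i L74449) q3233, e3 q3957 (flp_i L126433) q4612, e3 q3958 (flp_i L74465) q3236, e3 q3959 (flp_i L126451) q4614, e3 q3960 (flp_i L126457) q4615, e3 q3961 (flp_i L126467) q4616, e3 q3962 (flp_i L126475) q4617, e3 q3963 (flp_i L126485) q4618, e3 q3964 (flp_i L74511) q3242, e3 q3965 (flp_i L126607) q4632, e3 q3966 (flp_i L126614) q4633, e3 q3967 (flp_i L126626) q4634, trivial⟩ (by decide +kernel)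

theorem ce_i_62 : ∀ r, r < 64 → sm gi (Qf (3968 + r)) = Qf (tab Gen.i (3968 + r)) :=
  edges_tab (sm gi) Qf (tab Gen.i) 3968 [(3968, 4635), (3969, 4636), (3970, 4806), (3971, 4807), (3972, 4808), (3973, 3251), (3974, 3252), (3975, 4810), (3976, 3254), (3977, 3977), (3978, 3978), (3979, 3979), (3980, 3980), (3981, 3981), (3982, 3982), (3983, 3983), (3984, 3271), (3985, 3272), (3986, 4812), (3987, 4109), (3988, 4816), (3989, 4819), (3990, 3274), (3991, 4821), (3992, 4823), (3993, 3275), (3994, 4826), (3995, 4829), (3996, 3278), (3997, 4831), (3998, 3279), (3999, 4834), (4000, 3281), (4001, 4001), (4002, 4837), (4003, 3283), (4004, 4841), (4005, 3285), (4006, 4843), (4007, 4845), (4008, 3286), (4009, 4848), (4010, 3288), (4011, 4011), (4012, 4850), (4013, 3290), (4014, 4014), (4015, 3293), (4016, 4016), (4017, 4169), (4018, 4856), (4019, 4859), (4020, 3297), (4021, 4861), (4022, 4863), (4023, 3298), (4024, 4867), (4025, 3300), (4026, 4870), (4027, 3301), (4028, 4028), (4029, 4873), (4030,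 3303), (4031, 4875)]
    ⟨e3 q3968 (flp_i L126633) q4635, e3 q3969 (flp_i L126638) q4636, e3 q3970 L128017 q4806, e3 q3971 L128025 q4807, e3 q3972 L128034 q4808, e3 q3973 (flp_i L74597) q3251, e3 q3974 (flp_i L74605) q3252, e3 q3975 (flp_i L128059) q4810, e3 q3976 (flp_i L74618) q3254, e3 q3977 L74637 q3977, e3 q3978 L74643 q3978, e3 q3979 L74651 q3979, e3 q3980 L74661 q3980, e3 q3981 L74669 q3981, e3 q3982 L74675 q3982, e3 q3983 L74704 q3983, e3 q3984 L121080 q3271, e3 q3985 L121090 q3272, e3 q3986 (flp_i L128082) q4812, e3 q3987 (flp_i L122045) q4109, e3 q3988 L128107 q4816, e3 q3989 L128134 q4819, e3 q3990 (flp_i L121129) q3274, e3 q3991 L128153 q4821, e3 q3992 L128170 q4823, e3 q3993 (flp_i L121156) q3275, e3 q3994 L128193 q4826, e3 q3995 L128211 q4829, e3 q3996 (flp_i L121175) q3278, e3 q3997 L128225 q4831, e3 q3998 (flp_i L121189) q3279, e3 q3999 L128247 q4834, e3 q4000 (flp_i L121204) q3281, e3 q4001 L121218 q4001, e3 q4002 L128269 q4837, e3 q4003 (flp_i L121225) q3283, e3 q4004 L128296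 q4841, e3 q4005 (flp_i L121240) q3285, e3 q4006 L128307 q4843, e3 q4007 L128319 q4845, e3 q4008 (flp_i L121256) q3286, e3 q4009 L128339 q4848, e3 q4010 (flp_i L121270) q3288, e3 q4011 L121284 q4011, e3 q4012 L128356 q4850, e3 q4013 (flp_i L121292) q3290, e3 q4014 L121307 q4014, e3 q4015 (flp_i L121308) q3293, e3 q4016 L121318 q4016, e3 q4017 (flp_i L122561) q4169, e3 q4018 L128397 q4856, e3 q4019 L128412 q4859, e3 q4020 (flp_i L121335) q3297, e3 q4021 L128425 q4861, e3 q4022 L128442 q4863, e3 q4023 (flp_i L121357) q3298, e3 q4024 L128469 q4867, e3 q4025 (flp_i L121373) q3300, e3 q4026 L128492 q4870, e3 q4027 (flp_i L121387) q3301, e3 q4028 L121399 q4028, e3 q4029 L128513 q4873, e3 q4030 (flp_i L121406) q3303, e3 q4031 L128525 q4875, trivial⟩ (by decide +kernel)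

theorem ce_i_63 : ∀ r, r < 64 → sm gi (Qf (4032 + r)) = Qf (tab Gen.i (4032 + r)) :=
  edges_tab (sm gi) Qf (tab Gen.i) 4032 [(4032, 3304), (4033, 4878), (4034, 3306), (4035, 4035), (4036, 4880), (4037, 3308), (4038, 4038), (4039, 4884), (4040, 3311), (4041, 4887), (4042, 3313), (4043, 4885), (4044, 4889), (4045, 3315), (4046, 4046), (4047, 3318), (4048, 4048), (4049, 4049), (4050, 4896), (4051, 3322), (4052, 4899), (4053, 3324), (4054, 4902), (4055, 3325), (4056, 4056), (4057, 4906), (4058, 4908), (4059, 3327), (4060, 4060), (4061, 4911), (4062, 3329), (4063, 4063), (4064, 4914), (4065, 3332), (4066, 4066), (4067, 3335), (4068, 4068), (4069, 4069), (4070, 3338), (4071, 4071), (4072, 4072), (4073, 4073), (4074, 4074), (4075, 4075), (4076, 4076), (4077, 4929), (4078, 4932), (4079, 3345), (4080, 4933), (4081, 4935), (4082, 4937), (4083, 3348), (4084, 4939), (4085, 3349), (4086, 4942), (4087, 4944), (4088, 3352), (4089, 3353), (4090, 3355), (4091, 4945), (4092, 3356), (4093, 4947), (4094,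 3357), (4095, 4950)]
    ⟨e3 q4032 (flp_i L121419) q3304, e3 q4033 L128546 q4878, e3 q4034 (flp_i L121434) q3306, e3 q4035 L121450 q4035, e3 q4036 L128565 q4880, e3 q4037 (flp_i L121459) q3308, e3 q4038 L121476 q4038, e3 q4039 L128594 q4884, e3 q4040 (flp_i L121482) q3311, e3 q4041 L128607 q4887, e3 q4042 (flp_i L121490) q3313, e3 q4043 (flp_i L128601) q4885, e3 q4044 L128617 q4889, e3 q4045 (flp_i L121505) q3315, e3 q4046 L121519 q4046, e3 q4047 (flp_i L121520) q3318, e3 q4048 L121533 q4048, e3 q4049 L121537 q4049, e3 q4050 L128661 q4896, e3 q4051 (flp_i L121544) q3322, e3 q4052 L128680 q4899, e3 q4053 (flp_i L121556) q3324, e3 q4054 L128703 q4902, e3 q4055 (flp_i L121573) q3325, e3 q4056 L121588 q4056, e3 q4057 L128734 q4906, e3 q4058 L128750 q4908, e3 q4059 (flp_i L121602) q3327, e3 q4060 L121616 q4060, e3 q4061 L128774 q4911, e3 q4062 (flp_i L121625) q3329, e3 q4063 L121641 q4063, e3 q4064 L128800 q4914, e3 q4065 (flp_i L121649) q3332, e3 q4066 L121663 q4066, e3 q4067 (flp_i L121664)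 q3335, e3 q4068 L121678 q4068, e3 q4069 L121684 q4069, e3 q4070 (flp_i L121687) q3338, e3 q4071 L121701 q4071, e3 q4072 L121705 q4072, e3 q4073 L121713 q4073, e3 q4074 L121719 q4074, e3 q4075 L121726 q4075, e3 q4076 L121734 q4076, e3 q4077 L128912 q4929, e3 q4078 L128935 q4932, e3 q4079 (flp_i L121752) q3345, e3 q4080 L128943 q4933, e3 q4081 L128969 q4935, e3 q4082 L128992 q4937, e3 q4083 (flp_i L121793) q3348, e3 q4084 L129010 q4939, e3 q4085 (flp_i L121811) q3349, e3 q4086 L129042 q4942, e3 q4087 L129067 q4944, e3 q4088 (flp_i L121840) q3352, e3 q4089 (flp_i L121848) q3353, e3 q4090 (flp_i L121858) q3355, e3 q4091 L129076 q4945, e3 q4092 (flp_i L121882) q3356, e3 q4093 L129100 q4947, e3 q4094 (flp_i L121903) q3357, e3 q4095 L129130 q4950, trivial⟩ (by decide +kernel)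

theorem ce_i_64 : ∀ r, r < 64 → sm gi (Qf (4096 + r)) = Qf (tab Gen.i (4096 + r)) :=
  edges_tab (sm gi) Qf (tab Gen.i) 4096 [(4096, 3359), (4097, 4097), (4098, 4952), (4099, 3361), (4100, 4954), (4101, 3362), (4102, 4958), (4103, 3365), (4104, 4960), (4105, 3366), (4106, 4963), (4107, 3368), (4108, 4108), (4109, 3987), (4110, 3743), (4111, 4971), (4112, 4973), (4113, 4976), (4114, 3372), (4115, 4978), (4116, 4980), (4117, 3373), (4118, 3746), (4119, 4985), (4120, 3501), (4121, 4988), (4122, 4991), (4123, 3377), (4124, 4993), (4125, 3378), (4126, 4995), (4127, 3379), (4128, 4998), (4129, 3381), (4130, 4130), (4131, 5001), (4132, 5003), (4133, 3384), (4134, 5005), (4135, 3385), (4136, 3498), (4137, 5009), (4138, 5012), (4139, 3389), (4140, 5014), (4141, 5017), (4142, 3391), (4143, 5020), (4144, 5022), (4145, 3392), (4146, 5024), (4147, 3394), (4148, 5027), (4149, 3396), (4150, 4150), (4151, 5029), (4152, 3398), (4153, 4153), (4154, 5034), (4155, 3401), (4156, 5036), (4157, 3402), (4158,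 5039), (4159, 3404)]
    ⟨e3 q4096 (flp_i L121919) q3359, e3 q4097 L121935 q4097, e3 q4098 L129147 q4952, e3 q4099 (flp_i L121949) q3361, e3 q4100 L129173 q4954, e3 q4101 (flp_i L121972) q3362, e3 q4102 L129217 q4958, e3 q4103 (flp_i L121989) q3365, e3 q4104 L129238 q4960, e3 q4105 (flp_i L122007) q3366, e3 q4106 L129262 q4963, e3 q4107 (flp_i L122022) q3368, e3 q4108 L122036 q4108, e3 q4109 L122045 q3987, e3 q4110 L122056 q3743, e3 q4111 L129337 q4971, e3 q4112 L129359 q4973, e3 q4113 L129384 q4976, e3 q4114 (flp_i L122086) q3372, e3 q4115 L129402 q4978, e3 q4116 L129418 q4980, e3 q4117 (flp_i L122112) q3373, e3 q4118 L122129 q3746, e3 q4119 L129468 q4985, e3 q4120 L122145 q3501, e3 q4121 L129495 q4988, e3 q4122 L129521 q4991, e3 q4123 (flp_i L122166) q3377, e3 q4124 L129540 q4993, e3 q4125 (flp_i L122186) q3378, e3 q4126 L129556 q4995, e3 q4127 (flp_i L122202) q3379, e3 q4128 L129579 q4998, e3 q4129 (flp_i L122217) q3381, e3 q4130 L122233 q4130, e3 q4131 L129604 q5001, e3 q4132 L129624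 q5003, e3 q4133 (flp_i L122250) q3384, e3 q4134 L129637 q5005, e3 q4135 (flp_i L122267) q3385, e3 q4136 L122282 q3498, e3 q4137 L129673 q5009, e3 q4138 L129697 q5012, e3 q4139 (flp_i L122304) q3389, e3 q4140 L129713 q5014, e3 q4141 L129746 q5017, e3 q4142 (flp_i L122331) q3391, e3 q4143 L129770 q5020, e3 q4144 L129786 q5022, e3 q4145 (flp_i L122355) q3392, e3 q4146 L129802 q5024, e3 q4147 (flp_i L122374) q3394, e3 q4148 L129835 q5027, e3 q4149 (flp_i L122390) q3396, e3 q4150 L122404 q4150, e3 q4151 L129850 q5029, e3 q4152 (flp_i L122413) q3398, e3 q4153 L122428 q4153, e3 q4154 L129899 q5034, e3 q4155 (flp_i L122438) q3401, e3 q4156 L129920 q5036, e3 q4157 (flp_i L122456) q3402, e3 q4158 L129944 q5039, e3 q4159 (flp_i L122471) q3404, trivial⟩ (by decide +kernel)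

theorem ce_i_65 : ∀ r, r < 64 → sm gi (Qf (4160 + r)) = Qf (tab Gen.i (4160 + r)) :=
  edges_tab (sm gi) Qf (tab Gen.i) 4160 [(4160, 4160), (4161, 5041), (4162, 3406), (4163, 5044), (4164, 3408), (4165, 4165), (4166, 5046), (4167, 3410), (4168, 4168), (4169, 4017), (4170, 3742), (4171, 5053), (4172, 3488), (4173, 5056), (4174, 5059), (4175, 3415), (4176, 5062), (4177, 3416), (4178, 5064), (4179, 5066), (4180, 3417), (4181, 5070), (4182, 3419), (4183, 5073), (4184, 3420), (4185, 4185), (4186, 3483), (4187, 5078), (4188, 5081), (4189, 3423), (4190, 5083), (4191, 5086), (4192, 3425), (4193, 5089), (4194, 5091), (4195, 3426), (4196, 5094), (4197, 3428), (4198, 5097), (4199, 3430), (4200, 4200), (4201, 5099), (4202, 3432), (4203, 4203), (4204, 3435), (4205, 5103), (4206, 3436), (4207, 5105), (4208, 3438), (4209, 3499), (4210, 5108), (4211, 5111), (4212, 3441), (4213, 5114), (4214, 5116), (4215, 3442), (4216, 5119), (4217, 3444), (4218, 5122), (4219, 5124), (4220, 3445), (4221, 5128), (4222,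 5130), (4223, 3447)]
    ⟨e3 q4160 L122485 q4160, e3 q4161 L129959 q5041, e3 q4162 (flp_i L122496) q3406, e3 q4163 L129992 q5044, e3 q4164 (flp_i L122515) q3408, e3 q4165 L122533 q4165, e3 q4166 L130015 q5046, e3 q4167 (flp_i L122541) q3410, e3 q4168 L122555 q4168, e3 q4169 L122561 q4017, e3 q4170 L122572 q3742, e3 q4171 L130073 q5053, e3 q4172 L122585 q3488, e3 q4173 L130097 q5056, e3 q4174 L130117 q5059, e3 q4175 (flp_i L122604) q3415, e3 q4176 L130139 q5062, e3 q4177 (flp_i L122622) q3416, e3 q4178 L130154 q5064, e3 q4179 L130168 q5066, e3 q4180 (flp_i L122642) q3417, e3 q4181 L130195 q5070, e3 q4182 (flp_i L122657) q3419, e3 q4183 L130218 q5073, e3 q4184 (flp_i L122670) q3420, e3 q4185 L122686 q4185, e3 q4186 L122695 q3483, e3 q4187 L130264 q5078, e3 q4188 L130292 q5081, e3 q4189 (flp_i L122716) q3423, e3 q4190 L130310 q5083, e3 q4191 L130341 q5086, e3 q4192 (flp_i L122744) q3425, e3 q4193 L130362 q5089, e3 q4194 L130380 q5091, e3 q4195 (flp_i L122770) q3426, e3 q4196 L130403 q5094,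 e3 q4197 (flp_i L122786) q3428, e3 q4198 L130431 q5097, e3 q4199 (flp_i L122804) q3430, e3 q4200 L122820 q4200, e3 q4201 L130448 q5099, e3 q4202 (flp_i L122830) q3432, e3 q4203 L122847 q4203, e3 q4204 (flp_i L122848) q3435, e3 q4205 L130487 q5103, e3 q4206 (flp_i L122872) q3436, e3 q4207 L130509 q5105, e3 q4208 (flp_i L122894) q3438, e3 q4209 L122911 q3499, e3 q4210 L130541 q5108, e3 q4211 L130576 q5111, e3 q4212 (flp_i L122929) q3441, e3 q4213 L130606 q5114, e3 q4214 L130621 q5116, e3 q4215 (flp_i L122951) q3442, e3 q4216 L130645 q5119, e3 q4217 (flp_i L122965) q3444, e3 q4218 L130680 q5122, e3 q4219 L130702 q5124, e3 q4220 (flp_i L122990) q3445, e3 q4221 L130731 q5128, e3 q4222 L130746 q5130, e3 q4223 (flp_i L123007) q3447, trivial⟩ (by decide +kernel)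

theorem ce_i_66 : ∀ r, r < 64 → sm gi (Qf (4224 + r)) = Qf (tab Gen.i (4224 + r)) :=
  edges_tab (sm gi) Qf (tab Gen.i) 4224 [(4224, 5133), (4225, 3448), (4226, 5117), (4227, 5136), (4228, 3450), (4229, 4229), (4230, 5138), (4231, 3452), (4232, 4232), (4233, 3455), (4234, 4234), (4235, 4235), (4236, 5145), (4237, 3459), (4238, 5146), (4239, 3461), (4240, 5147), (4241, 3463), (4242, 3465), (4243, 3738), (4244, 5151), (4245, 3472), (4246, 5155), (4247, 5158), (4248, 3469), (4249, 3722), (4250, 5148), (4251, 5152), (4252, 3723), (4253, 3724), (4254, 5165), (4255, 3474), (4256, 3475), (4257, 3484), (4258, 5167), (4259, 5170), (4260, 3479), (4261, 5173), (4262, 5174), (4263, 3480), (4264, 3673), (4265, 3729), (4266, 5050), (4267, 5075), (4268, 3659), (4269, 4968), (4270, 5179), (4271, 3490), (4272, 5180), (4273, 5181), (4274, 3491), (4275, 5183), (4276, 5184), (4277, 3493), (4278, 3494), (4279, 4982), (4280, 3573), (4281, 4281), (4282, 5186), (4283, 5189), (4284, 3504), (4285, 5190), (4286,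 3506), (4287, 5191)]
    ⟨e3 q4224 L130765 q5133, e3 q4225 (flp_i L123021) q3448, e3 q4226 (flp_i L130632) q5117, e3 q4227 L130786 q5136, e3 q4228 (flp_i L123040) q3450, e3 q4229 L123055 q4229, e3 q4230 L130802 q5138, e3 q4231 (flp_i L123062) q3452, e3 q4232 L123074 q4232, e3 q4233 (flp_i L123075) q3455, e3 q4234 L123088 q4234, e3 q4235 L123092 q4235, e3 q4236 L130856 q5145, e3 q4237 (flp_i L123108) q3459, e3 q4238 L130869 q5146, e3 q4239 (flp_i L123128) q3461, e3 q4240 L130878 q5147, e3 q4241 (flp_i L123148) q3463, e3 q4242 (flp_i L123159) q3465, e3 q4243 L123172 q3738, e3 q4244 L130913 q5151, e3 q4245 L123189 q3472, e3 q4246 L130957 q5155, e3 q4247 L130983 q5158, e3 q4248 (flp_i L123210) q3469, e3 q4249 L123229 q3722, e3 q4250 (flp_i L130896) q5148, e3 q4251 (flp_i L130930) q5152, e3 q4252 L123252 q3723, e3 q4253 L123263 q3724, e3 q4254 L131050 q5165, e3 q4255 (flp_i L123275) q3474, e3 q4256 (flp_i L123289) q3475, e3 q4257 L123307 q3484, e3 q4258 L131074 q5167, e3 q4259 L131111 q5170,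 e3 q4260 (flp_i L123332) q3479, e3 q4261 L131142 q5173, e3 q4262 L131150 q5174, e3 q4263 (flp_i L123357) q3480, e3 q4264 L123373 q3673, e3 q4265 L123387 q3729, e3 q4266 (flp_i L130054) q5050, e3 q4267 (flp_i L130242) q5075, e3 q4268 L123416 q3659, e3 q4269 (flp_i L129314) q4968, e3 q4270 L131209 q5179, e3 q4271 (flp_i L123437) q3490, e3 q4272 L131221 q5180, e3 q4273 L131235 q5181, e3 q4274 (flp_i L123472) q3491, e3 q4275 L131260 q5183, e3 q4276 L131271 q5184, e3 q4277 (flp_i L123507) q3493, e3 q4278 (flp_i L123513) q3494, e3 q4279 (flp_i L129446) q4982, e3 q4280 L123542 q3573, e3 q4281 L123553 q4281, e3 q4282 L131296 q5186, e3 q4283 L131331 q5189, e3 q4284 (flp_i L123580) q3504, e3 q4285 L131343 q5190, e3 q4286 (flp_i L123601) q3506, e3 q4287 L131355 q5191, trivial⟩ (by decide +kernel)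

theorem ce_i_67 : ∀ r, r < 64 → sm gi (Qf (4288 + r)) = Qf (tab Gen.i (4288 + r)) :=
  edges_tab (sm gi) Qf (tab Gen.i) 4288 [(4288, 3507), (4289, 5193), (4290, 5195), (4291, 3510), (4292, 3511), (4293, 3513), (4294, 3515), (4295, 5197), (4296, 5199), (4297, 3518), (4298, 5201), (4299, 3519), (4300, 5203), (4301, 3522), (4302, 3523), (4303, 5206), (4304, 3525), (4305, 4305), (4306, 3562), (4307, 3563), (4308, 5212), (4309, 5213), (4310, 5216), (4311, 3529), (4312, 5218), (4313, 5220), (4314, 3530), (4315, 5223), (4316, 5225), (4317, 5228), (4318, 3534), (4319, 3535), (4320, 5229), (4321, 3536), (4322, 5230), (4323, 3538), (4324, 3810), (4325, 5233), (4326, 3540), (4327, 5235), (4328, 3541), (4329, 5237), (4330, 3544), (4331, 5239), (4332, 3545), (4333, 5241), (4334, 5242), (4335, 3546), (4336, 3549), (4337, 3551), (4338, 3811), (4339, 5246), (4340, 3554), (4341, 5249), (4342, 3556), (4343, 4343), (4344, 4344), (4345, 5251), (4346, 3559), (4347, 4347), (4348, 5208), (4349, 3848), (4350,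 5258), (4351, 5178)]
    ⟨e3 q4288 (flp_i L123624) q3507, e3 q4289 L131378 q5193, e3 q4290 L131399 q5195, e3 q4291 (flp_i L123659) q3510, e3 q4292 (flp_i L123669) q3511, e3 q4293 (flp_i L123683) q3513, e3 q4294 (flp_i L123694) q3515, e3 q4295 L131422 q5197, e3 q4296 L131446 q5199, e3 q4297 (flp_i L123724) q3518, e3 q4298 L131468 q5201, e3 q4299 (flp_i L123741) q3519, e3 q4300 L131484 q5203, e3 q4301 (flp_i L123758) q3522, e3 q4302 (flp_i L123768) q3523, e3 q4303 L131512 q5206, e3 q4304 (flp_i L123785) q3525, e3 q4305 L123803 q4305, e3 q4306 L123812 q3562, e3 q4307 L123830 q3563, e3 q4308 L131577 q5212, e3 q4309 L131591 q5213, e3 q4310 L131630 q5216, e3 q4311 (flp_i L123869) q3529, e3 q4312 L131653 q5218, e3 q4313 L131672 q5220, e3 q4314 (flp_i L123901) q3530, e3 q4315 L131708 q5223, e3 q4316 L131731 q5225, e3 q4317 L131761 q5228, e3 q4318 (flp_i L123937) q3534, e3 q4319 (flp_i L123949) q3535, e3 q4320 L131769 q5229, e3 q4321 (flp_i L123972) q3536, e3 q4322 L131781 q5230, e3 q4323 (flp_i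 L123994) q3538, e3 q4324 L124014 q3810, e3 q4325 L131807 q5233, e3 q4326 (flp_i L124025) q3540, e3 q4327 L131824 q5235, e3 q4328 (flp_i L124044) q3541, e3 q4329 L131843 q5237, e3 q4330 (flp_i L124066) q3544, e3 q4331 L131865 q5239, e3 q4332 (flp_i L124089) q3545, e3 q4333 L131883 q5241, e3 q4334 L131891 q5242, e3 q4335 (flp_i L124117) q3546, e3 q4336 (flp_i L124125) q3549, e3 q4337 (flp_i L124137) q3551, e3 q4338 L124154 q3811, e3 q4339 L131932 q5246, e3 q4340 (flp_i L124161) q3554, e3 q4341 L131954 q5249, e3 q4342 (flp_i L124176) q3556, e3 q4343 L124190 q4343, e3 q4344 L124199 q4344, e3 q4345 L131969 q5251, e3 q4346 (flp_i L124209) q3559, e3 q4347 L124225 q4347, e3 q4348 (flp_i L131540) q5208, e3 q4349 L124243 q3848, e3 q4350 L132036 q5258, e3 q4351 (flp_i L131205) q5178, trivial⟩ (by decide +kernel)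

theorem ce_i_68 : ∀ r, r < 64 → sm gi (Qf (4352 + r)) = Qf (tab Gen.i (4352 + r)) :=
  edges_tab (sm gi) Qf (tab Gen.i) 4352 [(4352, 5261), (4353, 5264), (4354, 3564), (4355, 5267), (4356, 3565), (4357, 5269), (4358, 5271), (4359, 3566), (4360, 5275), (4361, 3568), (4362, 5278), (4363, 3569), (4364, 3824), (4365, 3855), (4366, 5282), (4367, 5285), (4368, 3572), (4369, 5287), (4370, 5290), (4371, 3574), (4372, 5293), (4373, 5295), (4374, 3575), (4375, 5298), (4376, 3577), (4377, 5300), (4378, 3579), (4379, 3832), (4380, 5302), (4381, 3581), (4382, 3835), (4383, 3584), (4384, 5306), (4385, 3585), (4386, 5309), (4387, 3587), (4388, 4388), (4389, 5312), (4390, 5314), (4391, 3590), (4392, 5317), (4393, 5319), (4394, 3591), (4395, 5322), (4396, 3593), (4397, 5324), (4398, 5326), (4399, 3594), (4400, 5330), (4401, 5332), (4402, 3596), (4403, 5335), (4404, 3597), (4405, 5320), (4406, 5338), (4407, 3599), (4408, 5339), (4409, 3601), (4410, 3841), (4411, 3604), (4412, 3843), (4413, 3844), (4414,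 3608), (4415, 4415)]
    ⟨e3 q4352 L132063 q5261, e3 q4353 L132085 q5264, e3 q4354 (flp_i L124278) q3564, e3 q4355 L132113 q5267, e3 q4356 (flp_i L124297) q3565, e3 q4357 L132135 q5269, e3 q4358 L132154 q5271, e3 q4359 (flp_i L124323) q3566, e3 q4360 L132191 q5275, e3 q4361 (flp_i L124343) q3568, e3 q4362 L132220 q5278, e3 q4363 (flp_i L124359) q3569, e3 q4364 L124375 q3824, e3 q4365 L124384 q3855, e3 q4366 L132258 q5282, e3 q4367 L132286 q5285, e3 q4368 (flp_i L124403) q3572, e3 q4369 L132298 q5287, e3 q4370 L132325 q5290, e3 q4371 (flp_i L124425) q3574, e3 q4372 L132344 q5293, e3 q4373 L132358 q5295, e3 q4374 (flp_i L124447) q3575, e3 q4375 L132378 q5298, e3 q4376 (flp_i L124462) q3577, e3 q4377 L132398 q5300, e3 q4378 (flp_i L124483) q3579, e3 q4379 L124501 q3832, e3 q4380 L132418 q5302, e3 q4381 (flp_i L124511) q3581, e3 q4382 L124526 q3835, e3 q4383 (flp_i L124528) q3584, e3 q4384 L132450 q5306, e3 q4385 (flp_i L124545) q3585, e3 q4386 L132477 q5309, e3 q4387 (flp_i L124558) q3587,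 e3 q4388 L124570 q4388, e3 q4389 L132498 q5312, e3 q4390 L132520 q5314, e3 q4391 (flp_i L124590) q3590, e3 q4392 L132549 q5317, e3 q4393 L132562 q5319, e3 q4394 (flp_i L124616) q3591, e3 q4395 L132583 q5322, e3 q4396 (flp_i L124628) q3593, e3 q4397 L132602 q5324, e3 q4398 L132620 q5326, e3 q4399 (flp_i L124655) q3594, e3 q4400 L132653 q5330, e3 q4401 L132668 q5332, e3 q4402 (flp_i L124676) q3596, e3 q4403 L132685 q5335, e3 q4404 (flp_i L124688) q3597, e3 q4405 (flp_i L132576) q5320, e3 q4406 L132709 q5338, e3 q4407 (flp_i L124708) q3599, e3 q4408 L132719 q5339, e3 q4409 (flp_i L124728) q3601, e3 q4410 L124746 q3841, e3 q4411 (flp_i L124748) q3604, e3 q4412 L124763 q3843, e3 q4413 L124770 q3844, e3 q4414 (flp_i L124772) q3608, e3 q4415 L124788 q4415, trivial⟩ (by decide +kernel)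

theorem ce_i_69 : ∀ r, r < 64 → sm gi (Qf (4416 + r)) = Qf (tab Gen.i (4416 + r)) :=
  edges_tab (sm gi) Qf (tab Gen.i) 4416 [(4416, 5346), (4417, 3610), (4418, 4418), (4419, 3614), (4420, 4420), (4421, 3656), (4422, 3657), (4423, 5353), (4424, 5355), (4425, 5358), (4426, 3619), (4427, 5360), (4428, 3620), (4429, 5362), (4430, 5364), (4431, 3621), (4432, 5368), (4433, 3623), (4434, 5371), (4435, 3624), (4436, 3853), (4437, 5374), (4438, 3627), (4439, 5375), (4440, 3628), (4441, 5378), (4442, 5380), (4443, 3629), (4444, 3631), (4445, 5382), (4446, 3633), (4447, 3825), (4448, 5383), (4449, 3635), (4450, 3858), (4451, 5386), (4452, 3639), (4453, 5387), (4454, 3641), (4455, 3643), (4456, 5391), (4457, 3645), (4458, 5393), (4459, 3646), (4460, 5388), (4461, 3649), (4462, 3652), (4463, 3860), (4464, 3861), (4465, 5350), (4466, 5401), (4467, 5175), (4468, 5405), (4469, 5408), (4470, 3658), (4471, 5411), (4472, 3660), (4473, 5414), (4474, 5416), (4475, 3661), (4476, 5419), (4477, 5421), (4478,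 3663), (4479, 5425)]
    ⟨e3 q4416 L132785 q5346, e3 q4417 (flp_i L124797) q3610, e3 q4418 L124811 q4418, e3 q4419 (flp_i L124812) q3614, e3 q4420 L124830 q4420, e3 q4421 L124837 q3656, e3 q4422 L124853 q3657, e3 q4423 L132849 q5353, e3 q4424 L132865 q5355, e3 q4425 L132889 q5358, e3 q4426 (flp_i L124879) q3619, e3 q4427 L132909 q5360, e3 q4428 (flp_i L124902) q3620, e3 q4429 L132929 q5362, e3 q4430 L132946 q5364, e3 q4431 (flp_i L124928) q3621, e3 q4432 L132981 q5368, e3 q4433 (flp_i L124944) q3623, e3 q4434 L133006 q5371, e3 q4435 (flp_i L124960) q3624, e3 q4436 L124976 q3853, e3 q4437 L133033 q5374, e3 q4438 (flp_i L124986) q3627, e3 q4439 L133041 q5375, e3 q4440 (flp_i L125004) q3628, e3 q4441 L133062 q5378, e3 q4442 L133080 q5380, e3 q4443 (flp_i L125030) q3629, e3 q4444 (flp_i L125038) q3631, e3 q4445 L133096 q5382, e3 q4446 (flp_i L125059) q3633, e3 q4447 L125077 q3825, e3 q4448 L133105 q5383, e3 q4449 (flp_i L125089) q3635, e3 q4450 L125106 q3858, e3 q4451 L133135 q5386, e3 q4452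 (flp_i L125117) q3639, e3 q4453 L133144 q5387, e3 q4454 (flp_i L125134) q3641, e3 q4455 (flp_i L125140) q3643, e3 q4456 L133173 q5391, e3 q4457 (flp_i L125151) q3645, e3 q4458 L133186 q5393, e3 q4459 (flp_i L125165) q3646, e3 q4460 (flp_i L133158) q5388, e3 q4461 (flp_i L125177) q3649, e3 q4462 (flp_i L125184) q3652, e3 q4463 L125197 q3860, e3 q4464 L125202 q3861, e3 q4465 (flp_i L132829) q5350, e3 q4466 L133246 q5401, e3 q4467 (flp_i L131168) q5175, e3 q4468 L133279 q5405, e3 q4469 L133299 q5408, e3 q4470 (flp_i L125244) q3658, e3 q4471 L133319 q5411, e3 q4472 (flp_i L125256) q3660, e3 q4473 L133339 q5414, e3 q4474 L133349 q5416, e3 q4475 (flp_i L125272) q3661, e3 q4476 L133371 q5419, e3 q4477 L133387 q5421, e3 q4478 (flp_i L125295) q3663, e3 q4479 L133422 q5425, trivial⟩ (by decide +kernel)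

theorem ce_i_70 : ∀ r, r < 64 → sm gi (Qf (4480 + r)) = Qf (tab Gen.i (4480 + r)) :=
  edges_tab (sm gi) Qf (tab Gen.i) 4480 [(4480, 3665), (4481, 5428), (4482, 3666), (4483, 3875), (4484, 5432), (4485, 5434), (4486, 3668), (4487, 3879), (4488, 5437), (4489, 3670), (4490, 3882), (4491, 3808), (4492, 5441), (4493, 5443), (4494, 3674), (4495, 5446), (4496, 5448), (4497, 3675), (4498, 5451), (4499, 3677), (4500, 5455), (4501, 5457), (4502, 3679), (4503, 5460), (4504, 3680), (4505, 5449), (4506, 5463), (4507, 3682), (4508, 3826), (4509, 5465), (4510, 3684), (4511, 3890), (4512, 3687), (4513, 3892), (4514, 3893), (4515, 5471), (4516, 3690), (4517, 5244), (4518, 3693), (4519, 5341), (4520, 3694), (4521, 5476), (4522, 5478), (4523, 3696), (4524, 5481), (4525, 3697), (4526, 3706), (4527, 5484), (4528, 3699), (4529, 5473), (4530, 5487), (4531, 5489), (4532, 3701), (4533, 5492), (4534, 3702), (4535, 5479), (4536, 5494), (4537, 3704), (4538, 5482), (4539, 5497), (4540, 3707), (4541, 3836), (4542,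 3710), (4543, 3899)]
    ⟨e3 q4480 (flp_i L125312) q3665, e3 q4481 L133448 q5428, e3 q4482 (flp_i L125328) q3666, e3 q4483 L125340 q3875, e3 q4484 L133477 q5432, e3 q4485 L133493 q5434, e3 q4486 (flp_i L125355) q3668, e3 q4487 L125371 q3879, e3 q4488 L133519 q5437, e3 q4489 (flp_i L125380) q3670, e3 q4490 L125393 q3882, e3 q4491 L125401 q3808, e3 q4492 L133551 q5441, e3 q4493 L133571 q5443, e3 q4494 (flp_i L125424) q3674, e3 q4495 L133600 q5446, e3 q4496 L133618 q5448, e3 q4497 (flp_i L125452) q3675, e3 q4498 L133640 q5451, e3 q4499 (flp_i L125468) q3677, e3 q4500 L133676 q5455, e3 q4501 L133692 q5457, e3 q4502 (flp_i L125494) q3679, e3 q4503 L133718 q5460, e3 q4504 (flp_i L125510) q3680, e3 q4505 (flp_i L133630) q5449, e3 q4506 L133743 q5463, e3 q4507 (flp_i L125531) q3682, e3 q4508 L125552 q3826, e3 q4509 L133764 q5465, e3 q4510 (flp_i L125564) q3684, e3 q4511 L125582 q3890, e3 q4512 (flp_i L125584) q3687, e3 q4513 L125601 q3892, e3 q4514 L125608 q3893, e3 q4515 L133820 q5471, e3 q4516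 (flp_i L125622) q3690, e3 q4517 (flp_i L131919) q5244, e3 q4518 (flp_i L125642) q3693, e3 q4519 (flp_i L132745) q5341, e3 q4520 (flp_i L125660) q3694, e3 q4521 L133867 q5476, e3 q4522 L133882 q5478, e3 q4523 (flp_i L125685) q3696, e3 q4524 L133905 q5481, e3 q4525 (flp_i L125699) q3697, e3 q4526 L125707 q3706, e3 q4527 L133925 q5484, e3 q4528 (flp_i L125715) q3699, e3 q4529 (flp_i L133848) q5473, e3 q4530 L133949 q5487, e3 q4531 L133963 q5489, e3 q4532 (flp_i L125745) q3701, e3 q4533 L133987 q5492, e3 q4534 (flp_i L125759) q3702, e3 q4535 (flp_i L133897) q5479, e3 q4536 L134003 q5494, e3 q4537 (flp_i L125779) q3704, e3 q4538 (flp_i L133915) q5482, e3 q4539 L134017 q5497, e3 q4540 (flp_i L125798) q3707, e3 q4541 L125815 q3836, e3 q4542 (flp_i L125817) q3710, e3 q4543 L125833 q3899, trivial⟩ (by decide +kernel)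

theorem ce_i_71 : ∀ r, r < 64 → sm gi (Qf (4544 + r)) = Qf (tab Gen.i (4544 + r)) :=
  edges_tab (sm gi) Qf (tab Gen.i) 4544 [(4544, 3900), (4545, 3901), (4546, 3902), (4547, 3903), (4548, 3716), (4549, 3733), (4550, 5504), (4551, 5505), (4552, 5508), (4553, 3721), (4554, 5159), (4555, 5160), (4556, 5163), (4557, 3726), (4558, 5510), (4559, 3727), (4560, 3731), (4561, 5512), (4562, 5515), (4563, 3734), (4564, 3735), (4565, 5517), (4566, 3736), (4567, 5048), (4568, 5520), (4569, 3740), (4570, 4966), (4571, 5521), (4572, 3744), (4573, 5524), (4574, 5527), (4575, 3747), (4576, 5530), (4577, 3748), (4578, 4578), (4579, 5534), (4580, 3750), (4581, 5537), (4582, 3751), (4583, 3937), (4584, 5541), (4585, 5543), (4586, 3753), (4587, 3941), (4588, 5546), (4589, 3755), (4590, 3944), (4591, 5552), (4592, 5553), (4593, 3758), (4594, 5555), (4595, 3759), (4596, 3950), (4597, 3951), (4598, 3762), (4599, 3953), (4600, 3954), (4601, 5563), (4602, 5565), (4603, 3765), (4604, 5568), (4605, 3766), (4606,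 4606), (4607, 5570)]
    ⟨e3 q4544 L125837 q3900, e3 q4545 L125846 q3901, e3 q4546 L125852 q3902, e3 q4547 L125857 q3903, e3 q4548 (flp_i L125861) q3716, e3 q4549 L125880 q3733, e3 q4550 L134075 q5504, e3 q4551 L134086 q5505, e3 q4552 L134115 q5508, e3 q4553 (flp_i L125909) q3721, e3 q4554 (flp_i L130999) q5159, e3 q4555 (flp_i L131010) q5160, e3 q4556 (flp_i L131037) q5163, e3 q4557 (flp_i L125946) q3726, e3 q4558 L134131 q5510, e3 q4559 (flp_i L125966) q3727, e3 q4560 (flp_i L125974) q3731, e3 q4561 L134148 q5512, e3 q4562 L134171 q5515, e3 q4563 (flp_i L125995) q3734, e3 q4564 (flp_i L126002) q3735, e3 q4565 L134185 q5517, e3 q4566 (flp_i L126021) q3736, e3 q4567 (flp_i L130037) q5048, e3 q4568 L134212 q5520, e3 q4569 (flp_i L126047) q3740, e3 q4570 (flp_i L129297) q4966, e3 q4571 L134219 q5521, e3 q4572 (flp_i L126073) q3744, e3 q4573 L134247 q5524, e3 q4574 L134272 q5527, e3 q4575 (flp_i L126099) q3747, e3 q4576 L134301 q5530, e3 q4577 (flp_i L126116) q3748, e3 q4578 L126136 q4578,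 e3 q4579 L134338 q5534, e3 q4580 (flp_i L126146) q3750, e3 q4581 L134369 q5537, e3 q4582 (flp_i L126166) q3751, e3 q4583 L126186 q3937, e3 q4584 L134400 q5541, e3 q4585 L134414 q5543, e3 q4586 (flp_i L126200) q3753, e3 q4587 L126214 q3941, e3 q4588 L134440 q5546, e3 q4589 (flp_i L126225) q3755, e3 q4590 L126241 q3944, e3 q4591 L134487 q5552, e3 q4592 L134495 q5553, e3 q4593 (flp_i L126256) q3758, e3 q4594 L134507 q5555, e3 q4595 (flp_i L126271) q3759, e3 q4596 L126286 q3950, e3 q4597 L126292 q3951, e3 q4598 (flp_i L126295) q3762, e3 q4599 L126311 q3953, e3 q4600 L126319 q3954, e3 q4601 L134574 q5563, e3 q4602 L134591 q5565, e3 q4603 (flp_i L126340) q3765, e3 q4604 L134617 q5568, e3 q4605 (flp_i L126357) q3766, e3 q4606 L126376 q4606, e3 q4607 L134637 q5570, trivial⟩ (by decide +kernel)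

theorem ce_i_72 : ∀ r, r < 64 → sm gi (Qf (4608 + r)) = Qf (tab Gen.i (4608 + r)) :=
  edges_tab (sm gi) Qf (tab Gen.i) 4608 [(4608, 3768), (4609, 4609), (4610, 5573), (4611, 3771), (4612, 3957), (4613, 3774), (4614, 3959), (4615, 3960), (4616, 3961), (4617, 3962), (4618, 3963), (4619, 3780), (4620, 5581), (4621, 3782), (4622, 5584), (4623, 3783), (4624, 4624), (4625, 5586), (4626, 3785), (4627, 4627), (4628, 3788), (4629, 4629), (4630, 4630), (4631, 3791), (4632, 3965), (4633, 3966), (4634, 3967), (4635, 3968), (4636, 3969), (4637, 3923), (4638, 3927), (4639, 3812), (4640, 3862), (4641, 5598), (4642, 3805), (4643, 5402), (4644, 3806), (4645, 5221), (4646, 5231), (4647, 5245), (4648, 3847), (4649, 5604), (4650, 5365), (4651, 5422), (4652, 3814), (4653, 3869), (4654, 3870), (4655, 3867), (4656, 3868), (4657, 5613), (4658, 3817), (4659, 5616), (4660, 3818), (4661, 5272), (4662, 5620), (4663, 5622), (4664, 3820), (4665, 5276), (4666, 5625), (4667, 3822), (4668, 5279), (4669, 5464), (4670,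 3887), (4671, 3886)]
    ⟨e3 q4608 (flp_i L126387) q3768, e3 q4609 L126404 q4609, e3 q4610 L134666 q5573, e3 q4611 (flp_i L126416) q3771, e3 q4612 L126433 q3957, e3 q4613 (flp_i L126435) q3774, e3 q4614 L126451 q3959, e3 q4615 L126457 q3960, e3 q4616 L126467 q3961, e3 q4617 L126475 q3962, e3 q4618 L126485 q3963, e3 q4619 (flp_i L126487) q3780, e3 q4620 L134740 q5581, e3 q4621 (flp_i L126506) q3782, e3 q4622 L134767 q5584, e3 q4623 (flp_i L126523) q3783, e3 q4624 L126540 q4624, e3 q4625 L134785 q5586, e3 q4626 (flp_i L126549) q3785, e3 q4627 L126564 q4627, e3 q4628 (flp_i L126565) q3788, e3 q4629 L126581 q4629, e3 q4630 L126587 q4630, e3 q4631 (flp_i L126591) q3791, e3 q4632 L126607 q3965, e3 q4633 L126614 q3966, e3 q4634 L126626 q3967, e3 q4635 L126633 q3968, e3 q4636 L126638 q3969, e3 q4637 L126646 q3923, e3 q4638 L126657 q3927, e3 q4639 L126668 q3812, e3 q4640 L126680 q3862, e3 q4641 L134883 q5598, e3 q4642 (flp_i L126692) q3805, e3 q4643 (flp_i L133260) q5402, e3 q4644 (flp_i L126711)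 q3806, e3 q4645 (flp_i L131694) q5221, e3 q4646 (flp_i L131798) q5231, e3 q4647 (flp_i L131926) q5245, e3 q4648 L126757 q3847, e3 q4649 L134940 q5604, e3 q4650 (flp_i L132964) q5365, e3 q4651 (flp_i L133406) q5422, e3 q4652 (flp_i L126792) q3814, e3 q4653 L126806 q3869, e3 q4654 L126819 q3870, e3 q4655 L126830 q3867, e3 q4656 L126842 q3868, e3 q4657 L135029 q5613, e3 q4658 (flp_i L126853) q3817, e3 q4659 L135059 q5616, e3 q4660 (flp_i L126873) q3818, e3 q4661 (flp_i L132174) q5272, e3 q4662 L135097 q5620, e3 q4663 L135115 q5622, e3 q4664 (flp_i L126912) q3820, e3 q4665 (flp_i L132209) q5276, e3 q4666 L135141 q5625, e3 q4667 (flp_i L126938) q3822, e3 q4668 (flp_i L132237) q5279, e3 q4669 (flp_i L133762) q5464, e3 q4670 L126974 q3887, e3 q4671 L126984 q3886, trivial⟩ (by decide +kernel)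

theorem ce_i_73 : ∀ r, r < 64 → sm gi (Qf (4672 + r)) = Qf (tab Gen.i (4672 + r)) :=
  edges_tab (sm gi) Qf (tab Gen.i) 4672 [(4672, 5631), (4673, 3830), (4674, 5301), (4675, 3833), (4676, 5303), (4677, 5304), (4678, 5498), (4679, 3897), (4680, 3896), (4681, 3839), (4682, 5340), (4683, 5342), (4684, 5343), (4685, 5344), (4686, 5639), (4687, 3846), (4688, 5253), (4689, 5255), (4690, 5644), (4691, 5646), (4692, 3849), (4693, 5369), (4694, 5649), (4695, 3851), (4696, 5372), (4697, 3856), (4698, 5384), (4699, 5385), (4700, 5395), (4701, 5396), (4702, 5397), (4703, 5656), (4704, 5659), (4705, 3863), (4706, 3864), (4707, 5661), (4708, 5663), (4709, 3865), (4710, 5609), (4711, 5610), (4712, 5607), (4713, 5608), (4714, 5672), (4715, 5674), (4716, 3871), (4717, 5426), (4718, 5677), (4719, 3873), (4720, 5429), (4721, 5683), (4722, 5684), (4723, 3876), (4724, 5686), (4725, 3877), (4726, 5435), (4727, 5436), (4728, 3880), (4729, 5438), (4730, 5439), (4731, 5694), (4732, 3884), (4733, 5630), (4734,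 5629), (4735, 3888)]
    ⟨e3 q4672 L135201 q5631, e3 q4673 (flp_i L126994) q3830, e3 q4674 (flp_i L132416) q5301, e3 q4675 (flp_i L127014) q3833, e3 q4676 (flp_i L132433) q5303, e3 q4677 (flp_i L132440) q5304, e3 q4678 (flp_i L134035) q5498, e3 q4679 L127054 q3897, e3 q4680 L127066 q3896, e3 q4681 (flp_i L127070) q3839, e3 q4682 (flp_i L132737) q5340, e3 q4683 (flp_i L132759) q5342, e3 q4684 (flp_i L132767) q5343, e3 q4685 (flp_i L132772) q5344, e3 q4686 L135279 q5639, e3 q4687 (flp_i L127119) q3846, e3 q4688 (flp_i L131995) q5253, e3 q4689 (flp_i L132014) q5255, e3 q4690 L135319 q5644, e3 q4691 L135333 q5646, e3 q4692 (flp_i L127148) q3849, e3 q4693 (flp_i L132995) q5369, e3 q4694 L135363 q5649, e3 q4695 (flp_i L127168) q3851, e3 q4696 (flp_i L133021) q5372, e3 q4697 (flp_i L127182) q3856, e3 q4698 (flp_i L133122) q5384, e3 q4699 (flp_i L133129) q5385, e3 q4700 (flp_i L133204) q5395, e3 q4701 (flp_i L133210) q5396, e3 q4702 (flp_i L133221) q5397, e3 q4703 L135420 q5656, e3 q4704 L135440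 q5659, e3 q4705 (flp_i L127238) q3863, e3 q4706 (flp_i L127245) q3864, e3 q4707 L135454 q5661, e3 q4708 L135467 q5663, e3 q4709 (flp_i L127263) q3865, e3 q4710 (flp_i L135001) q5609, e3 q4711 (flp_i L135011) q5610, e3 q4712 (flp_i L134979) q5607, e3 q4713 (flp_i L134989) q5608, e3 q4714 L135524 q5672, e3 q4715 L135539 q5674, e3 q4716 (flp_i L127308) q3871, e3 q4717 (flp_i L133438) q5426, e3 q4718 L135564 q5677, e3 q4719 (flp_i L127330) q3873, e3 q4720 (flp_i L133462) q5429, e3 q4721 L135611 q5683, e3 q4722 L135620 q5684, e3 q4723 (flp_i L127358) q3876, e3 q4724 L135644 q5686, e3 q4725 (flp_i L127374) q3877, e3 q4726 (flp_i L133510) q5435, e3 q4727 (flp_i L133517) q5436, e3 q4728 (flp_i L127397) q3880, e3 q4729 (flp_i L133532) q5438, e3 q4730 (flp_i L133539) q5439, e3 q4731 L135722 q5694, e3 q4732 (flp_i L127425) q3884, e3 q4733 (flp_i L135197) q5630, e3 q4734 (flp_i L135185) q5629, e3 q4735 (flp_i L127449) q3888, trivial⟩ (by decide +kernel)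

theorem ce_i_74 : ∀ r, r < 64 → sm gi (Qf (4736 + r)) = Qf (tab Gen.i (4736 + r)) :=
  edges_tab (sm gi) Qf (tab Gen.i) 4736 [(4736, 5466), (4737, 5467), (4738, 5468), (4739, 5469), (4740, 5470), (4741, 5699), (4742, 3894), (4743, 5499), (4744, 5500), (4745, 5501), (4746, 5701), (4747, 5704), (4748, 3905), (4749, 3906), (4750, 5705), (4751, 5706), (4752, 3907), (4753, 4753), (4754, 5707), (4755, 3918), (4756, 3921), (4757, 5595), (4758, 5708), (4759, 5710), (4760, 3924), (4761, 5712), (4762, 3925), (4763, 5714), (4764, 3928), (4765, 3930), (4766, 5717), (4767, 5719), (4768, 3933), (4769, 5535), (4770, 5722), (4771, 3935), (4772, 5538), (4773, 5728), (4774, 5729), (4775, 3938), (4776, 5731), (4777, 3939), (4778, 5544), (4779, 5545), (4780, 3942), (4781, 5547), (4782, 5548), (4783, 5738), (4784, 5739), (4785, 5740), (4786, 3945), (4787, 3946), (4788, 5742), (4789, 3948), (4790, 5556), (4791, 5557), (4792, 5558), (4793, 5559), (4794, 5560), (4795, 5561), (4796, 3955), (4797, 5574), (4798,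 5575), (4799, 5576)]
    ⟨e3 q4736 (flp_i L133784) q5466, e3 q4737 (flp_i L133790) q5467, e3 q4738 (flp_i L133801) q5468, e3 q4739 (flp_i L133809) q5469, e3 q4740 (flp_i L133816) q5470, e3 q4741 L135766 q5699, e3 q4742 (flp_i L127503) q3894, e3 q4743 (flp_i L134045) q5499, e3 q4744 (flp_i L134051) q5500, e3 q4745 (flp_i L134055) q5501, e3 q4746 L135784 q5701, e3 q4747 L135808 q5704, e3 q4748 (flp_i L127537) q3905, e3 q4749 (flp_i L127545) q3906, e3 q4750 L135814 q5705, e3 q4751 L135827 q5706, e3 q4752 (flp_i L127571) q3907, e3 q4753 L127588 q4753, e3 q4754 L135839 q5707, e3 q4755 (flp_i L127600) q3918, e3 q4756 (flp_i L127607) q3921, e3 q4757 (flp_i L134868) q5595, e3 q4758 L135854 q5708, e3 q4759 L135873 q5710, e3 q4760 (flp_i L127638) q3924, e3 q4761 L135889 q5712, e3 q4762 (flp_i L127650) q3925, e3 q4763 L135901 q5714, e3 q4764 (flp_i L127665) q3928, e3 q4765 (flp_i L127674) q3930, e3 q4766 L135926 q5717, e3 q4767 L135943 q5719, e3 q4768 (flp_i L127694) q3933, e3 q4769 (flp_i L134355)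 q5535, e3 q4770 L135968 q5722, e3 q4771 (flp_i L127720) q3935, e3 q4772 (flp_i L134388) q5538, e3 q4773 L136027 q5728, e3 q4774 L136035 q5729, e3 q4775 (flp_i L127749) q3938, e3 q4776 L136045 q5731, e3 q4777 (flp_i L127763) q3939, e3 q4778 (flp_i L134430) q5544, e3 q4779 (flp_i L134437) q5545, e3 q4780 (flp_i L127786) q3942, e3 q4781 (flp_i L134458) q5547, e3 q4782 (flp_i L134465) q5548, e3 q4783 L136101 q5738, e3 q4784 L136109 q5739, e3 q4785 L136119 q5740, e3 q4786 (flp_i L127845) q3945, e3 q4787 (flp_i L127854) q3946, e3 q4788 (flp_i L136148) q5742, e3 q4789 (flp_i L127870) q3948, e3 q4790 (flp_i L134522) q5556, e3 q4791 (flp_i L134528) q5557, e3 q4792 (flp_i L134535) q5558, e3 q4793 (flp_i L134545) q5559, e3 q4794 (flp_i L134554) q5560, e3 q4795 (flp_i L134563) q5561, e3 q4796 (flp_i L127939) q3955, e3 q4797 (flp_i L134684) q5574, e3 q4798 (flp_i L134692) q5575, e3 q4799 (flp_i L134705) q5576, trivial⟩ (by decide +kernel)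

theorem ce_i_75 : ∀ r, r < 64 → sm gi (Qf (4800 + r)) = Qf (tab Gen.i (4800 + r)) :=
  edges_tab (sm gi) Qf (tab Gen.i) 4800 [(4800, 5577), (4801, 5578), (4802, 5579), (4803, 5592), (4804, 5593), (4805, 5594), (4806, 3970), (4807, 3971), (4808, 3972), (4809, 5750), (4810, 3975), (4811, 4811), (4812, 3986), (4813, 4965), (4814, 5753), (4815, 5756), (4816, 3988), (4817, 5758), (4818, 5760), (4819, 3989), (4820, 5764), (4821, 3991), (4822, 5767), (4823, 3992), (4824, 4824), (4825, 5771), (4826, 3994), (4827, 5774), (4828, 5776), (4829, 3995), (4830, 5779), (4831, 3997), (4832, 4832), (4833, 5781), (4834, 3999), (4835, 4835), (4836, 5784), (4837, 4002), (4838, 4838), (4839, 5786), (4840, 5787), (4841, 4004), (4842, 5789), (4843, 4006), (4844, 5791), (4845, 4007), (4846, 5788), (4847, 5793), (4848, 4009), (4849, 4849), (4850, 4012), (4851, 4851), (4852, 4852), (4853, 4853), (4854, 5801), (4855, 5804), (4856, 4018), (4857, 5806), (4858, 5808), (4859, 4019), (4860, 5812), (4861, 4021), (4862,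 5815), (4863, 4022)]
    ⟨e3 q4800 (flp_i L134713) q5577, e3 q4801 (flp_i L134720) q5578, e3 q4802 (flp_i L134729) q5579, e3 q4803 (flp_i L134840) q5592, e3 q4804 (flp_i L134847) q5593, e3 q4805 (flp_i L134858) q5594, e3 q4806 (flp_i L128017) q3970, e3 q4807 (flp_i L128025) q3971, e3 q4808 (flp_i L128034) q3972, e3 q4809 (flp_i L136220) q5750, e3 q4810 L128059 q3975, e3 q4811 L128071 q4811, e3 q4812 L128082 q3986, e3 q4813 (flp_i L129285) q4965, e3 q4814 L136240 q5753, e3 q4815 L136261 q5756, e3 q4816 (flp_i L128107) q3988, e3 q4817 L136277 q5758, e3 q4818 L136297 q5760, e3 q4819 (flp_i L128134) q3989, e3 q4820 L136330 q5764, e3 q4821 (flp_i L128153) q3991, e3 q4822 L136357 q5767, e3 q4823 (flp_i L128170) q3992, e3 q4824 L128186 q4824, e3 q4825 L136389 q5771, e3 q4826 (flp_i L128193) q3994, e3 q4827 L136406 q5774, e3 q4828 L136420 q5776, e3 q4829 (flp_i L128211) q3995, e3 q4830 L136440 q5779, e3 q4831 (flp_i L128225) q3997, e3 q4832 L128239 q4832, e3 q4833 L136457 q5781, e3 q4834 (flp_i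 L128247) q3999, e3 q4835 L128262 q4835, e3 q4836 L136479 q5784, e3 q4837 (flp_i L128269) q4002, e3 q4838 L128283 q4838, e3 q4839 L136494 q5786, e3 q4840 L136499 q5787, e3 q4841 (flp_i L128296) q4004, e3 q4842 L136512 q5789, e3 q4843 (flp_i L128307) q4006, e3 q4844 L136523 q5791, e3 q4845 (flp_i L128319) q4007, e3 q4846 (flp_i L136510) q5788, e3 q4847 L136537 q5793, e3 q4848 (flp_i L128339) q4009, e3 q4849 L128355 q4849, e3 q4850 (flp_i L128356) q4012, e3 q4851 L128371 q4851, e3 q4852 L128377 q4852, e3 q4853 L128383 q4853, e3 q4854 L136591 q5801, e3 q4855 L136609 q5804, e3 q4856 (flp_i L128397) q4018, e3 q4857 L136619 q5806, e3 q4858 L136631 q5808, e3 q4859 (flp_i L128412) q4019, e3 q4860 L136658 q5812, e3 q4861 (flp_i L128425) q4021, e3 q4862 L136682 q5815, e3 q4863 (flp_i L128442) q4022, trivial⟩ (by decide +kernel)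

theorem ce_i_76 : ∀ r, r < 64 → sm gi (Qf (4864 + r)) = Qf (tab Gen.i (4864 + r)) :=
  edges_tab (sm gi) Qf (tab Gen.i) 4864 [(4864, 4864), (4865, 5819), (4866, 5821), (4867, 4024), (4868, 4868), (4869, 5824), (4870, 4026), (4871, 4871), (4872, 5828), (4873, 4029), (4874, 5831), (4875, 4031), (4876, 5829), (4877, 5833), (4878, 4033), (4879, 4879), (4880, 4036), (4881, 4881), (4882, 4882), (4883, 5839), (4884, 4039), (4885, 4043), (4886, 5841), (4887, 4041), (4888, 5840), (4889, 4044), (4890, 4890), (4891, 4891), (4892, 4892), (4893, 4893), (4894, 4894), (4895, 5852), (4896, 4050), (4897, 5855), (4898, 5857), (4899, 4052), (4900, 4900), (4901, 5860), (4902, 4054), (4903, 4903), (4904, 5866), (4905, 5867), (4906, 4057), (4907, 5869), (4908, 4058), (4909, 4909), (4910, 4910), (4911, 4061), (4912, 4912), (4913, 4913), (4914, 4064), (4915, 4915), (4916, 4916), (4917, 4917), (4918, 4918), (4919, 4919), (4920, 4920), (4921, 4921), (4922, 4922), (4923, 4923), (4924, 4924), (4925, 4925), (4926,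 4926), (4927, 5892)]
    ⟨e3 q4864 L128454 q4864, e3 q4865 L136711 q5819, e3 q4866 L136728 q5821, e3 q4867 (flp_i L128469) q4024, e3 q4868 L128485 q4868, e3 q4869 L136754 q5824, e3 q4870 (flp_i L128492) q4026, e3 q4871 L128505 q4871, e3 q4872 L136781 q5828, e3 q4873 (flp_i L128513) q4029, e3 q4874 L136800 q5831, e3 q4875 (flp_i L128525) q4031, e3 q4876 (flp_i L136792) q5829, e3 q4877 L136814 q5833, e3 q4878 (flp_i L128546) q4033, e3 q4879 L128564 q4879, e3 q4880 (flp_i L128565) q4036, e3 q4881 L128582 q4881, e3 q4882 L128588 q4882, e3 q4883 L136865 q5839, e3 q4884 (flp_i L128594) q4039, e3 q4885 L128601 q4043, e3 q4886 L136876 q5841, e3 q4887 (flp_i L128607) q4041, e3 q4888 (flp_i L136874) q5840, e3 q4889 (flp_i L128617) q4044, e3 q4890 L128633 q4890, e3 q4891 L128636 q4891, e3 q4892 L128644 q4892, e3 q4893 L128649 q4893, e3 q4894 L128653 q4894, e3 q4895 L136937 q5852, e3 q4896 (flp_i L128661) q4050, e3 q4897 L136953 q5855, e3 q4898 L136968 q5857, e3 q4899 (flp_i L128680) q4052, e3 q4900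 L128694 q4900, e3 q4901 L136994 q5860, e3 q4902 (flp_i L128703) q4054, e3 q4903 L128719 q4903, e3 q4904 L137040 q5866, e3 q4905 L137048 q5867, e3 q4906 (flp_i L128734) q4057, e3 q4907 L137063 q5869, e3 q4908 (flp_i L128750) q4058, e3 q4909 L128765 q4909, e3 q4910 L128770 q4910, e3 q4911 (flp_i L128774) q4061, e3 q4912 L128790 q4912, e3 q4913 L128797 q4913, e3 q4914 (flp_i L128800) q4064, e3 q4915 L128816 q4915, e3 q4916 L128821 q4916, e3 q4917 L128830 q4917, e3 q4918 L128837 q4918, e3 q4919 L128846 q4919, e3 q4920 L128854 q4920, e3 q4921 L128860 q4921, e3 q4922 L128864 q4922, e3 q4923 L128871 q4923, e3 q4924 L128878 q4924, e3 q4925 L128883 q4925, e3 q4926 L128890 q4926, e3 q4927 L137227 q5892, trivial⟩ (by decide +kernel)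

theorem ce_i_77 : ∀ r, r < 64 → sm gi (Qf (4928 + r)) = Qf (tab Gen.i (4928 + r)) :=
  edges_tab (sm gi) Qf (tab Gen.i) 4928 [(4928, 5894), (4929, 4077), (4930, 5896), (4931, 5898), (4932, 4078), (4933, 4080), (4934, 5900), (4935, 4081), (4936, 5902), (4937, 4082), (4938, 5905), (4939, 4084), (4940, 4940), (4941, 5907), (4942, 4086), (4943, 5909), (4944, 4087), (4945, 4091), (4946, 5912), (4947, 4093), (4948, 4948), (4949, 5914), (4950, 4095), (4951, 4951), (4952, 4098), (4953, 5919), (4954, 4100), (4955, 4955), (4956, 5921), (4957, 5922), (4958, 4102), (4959, 5925), (4960, 4104), (4961, 4961), (4962, 5927), (4963, 4106), (4964, 4964), (4965, 4813), (4966, 4570), (4967, 5934), (4968, 4269), (4969, 5937), (4970, 5940), (4971, 4111), (4972, 5942), (4973, 4112), (4974, 5944), (4975, 5946), (4976, 4113), (4977, 5950), (4978, 4115), (4979, 5953), (4980, 4116), (4981, 4981), (4982, 4279), (4983, 5957), (4984, 5960), (4985, 4119), (4986, 5962), (4987, 5965), (4988, 4121), (4989, 5968), (4990,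 5970), (4991, 4122)]
    ⟨e3 q4928 L137250 q5894, e3 q4929 (flp_i L128912) q4077, e3 q4930 L137268 q5896, e3 q4931 L137283 q5898, e3 q4932 (flp_i L128935) q4078, e3 q4933 (flp_i L128943) q4080, e3 q4934 L137300 q5900, e3 q4935 (flp_i L128969) q4081, e3 q4936 L137326 q5902, e3 q4937 (flp_i L128992) q4082, e3 q4938 L137359 q5905, e3 q4939 (flp_i L129010) q4084, e3 q4940 L129028 q4940, e3 q4941 L137378 q5907, e3 q4942 (flp_i L129042) q4086, e3 q4943 L137402 q5909, e3 q4944 (flp_i L129067) q4087, e3 q4945 (flp_i L129076) q4091, e3 q4946 L137436 q5912, e3 q4947 (flp_i L129100) q4093, e3 q4948 L129119 q4948, e3 q4949 L137465 q5914, e3 q4950 (flp_i L129130) q4095, e3 q4951 L129146 q4951, e3 q4952 (flp_i L129147) q4098, e3 q4953 L137527 q5919, e3 q4954 (flp_i L129173) q4100, e3 q4955 L129192 q4955, e3 q4956 L137552 q5921, e3 q4957 L137564 q5922, e3 q4958 (flp_i L129217) q4102, e3 q4959 L137603 q5925, e3 q4960 (flp_i L129238) q4104, e3 q4961 L129254 q4961, e3 q4962 L137625 q5927, e3 q4963 (flp_i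 L129262) q4106, e3 q4964 L129277 q4964, e3 q4965 L129285 q4813, e3 q4966 L129297 q4570, e3 q4967 L137690 q5934, e3 q4968 L129314 q4269, e3 q4969 L137720 q5937, e3 q4970 L137746 q5940, e3 q4971 (flp_i L129337) q4111, e3 q4972 L137767 q5942, e3 q4973 (flp_i L129359) q4112, e3 q4974 L137785 q5944, e3 q4975 L137802 q5946, e3 q4976 (flp_i L129384) q4113, e3 q4977 L137835 q5950, e3 q4978 (flp_i L129402) q4115, e3 q4979 L137862 q5953, e3 q4980 (flp_i L129418) q4116, e3 q4981 L129438 q4981, e3 q4982 L129446 q4279, e3 q4983 L137901 q5957, e3 q4984 L137927 q5960, e3 q4985 (flp_i L129468) q4119, e3 q4986 L137943 q5962, e3 q4987 L137978 q5965, e3 q4988 (flp_i L129495) q4121, e3 q4989 L138002 q5968, e3 q4990 L138020 q5970, e3 q4991 (flp_i L129521) q4122, trivial⟩ (by decide +kernel)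

theorem ce_i_78 : ∀ r, r < 64 → sm gi (Qf (4992 + r)) = Qf (tab Gen.i (4992 + r)) :=
  edges_tab (sm gi) Qf (tab Gen.i) 4992 [(4992, 5972), (4993, 4124), (4994, 5975), (4995, 4126), (4996, 4996), (4997, 5977), (4998, 4128), (4999, 4999), (5000, 5982), (5001, 4131), (5002, 5984), (5003, 4132), (5004, 5987), (5005, 4134), (5006, 5006), (5007, 5990), (5008, 5993), (5009, 4137), (5010, 5996), (5011, 5998), (5012, 4138), (5013, 6002), (5014, 4140), (5015, 6004), (5016, 6005), (5017, 4141), (5018, 6009), (5019, 6011), (5020, 4143), (5021, 6014), (5022, 4144), (5023, 5999), (5024, 4146), (5025, 5025), (5026, 6017), (5027, 4148), (5028, 5028), (5029, 4151), (5030, 5030), (5031, 5031), (5032, 6023), (5033, 6024), (5034, 4154), (5035, 6027), (5036, 4156), (5037, 5037), (5038, 6029), (5039, 4158), (5040, 5040), (5041, 4161), (5042, 5042), (5043, 6033), (5044, 4163), (5045, 5045), (5046, 4166), (5047, 5047), (5048, 4567), (5049, 6039), (5050, 4266), (5051, 6043), (5052, 6046), (5053, 4171), (5054,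 6048), (5055, 6051)]
    ⟨e3 q4992 L138036 q5972, e3 q4993 (flp_i L129540) q4124, e3 q4994 L138069 q5975, e3 q4995 (flp_i L129556) q4126, e3 q4996 L129570 q4996, e3 q4997 L138084 q5977, e3 q4998 (flp_i L129579) q4128, e3 q4999 L129594 q4999, e3 q5000 L138135 q5982, e3 q5001 (flp_i L129604) q4131, e3 q5002 L138152 q5984, e3 q5003 (flp_i L129624) q4132, e3 q5004 L138178 q5987, e3 q5005 (flp_i L129637) q4134, e3 q5006 L129653 q5006, e3 q5007 L138207 q5990, e3 q5008 L138246 q5993, e3 q5009 (flp_i L129673) q4137, e3 q5010 L138281 q5996, e3 q5011 L138301 q5998, e3 q5012 (flp_i L129697) q4138, e3 q5013 L138345 q6002, e3 q5014 (flp_i L129713) q4140, e3 q5015 L138369 q6004, e3 q5016 L138379 q6005, e3 q5017 (flp_i L129746) q4141, e3 q5018 L138423 q6009, e3 q5019 L138447 q6011, e3 q5020 (flp_i L129770) q4143, e3 q5021 L138477 q6014, e3 q5022 (flp_i L129786) q4144, e3 q5023 (flp_i L138316) q5999, e3 q5024 (flp_i L129802) q4146, e3 q5025 L129823 q5025, e3 q5026 L138506 q6017, e3 q5027 (flp_i L129835)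 q4148, e3 q5028 L129849 q5028, e3 q5029 (flp_i L129850) q4151, e3 q5030 L129865 q5030, e3 q5031 L129871 q5031, e3 q5032 L138569 q6023, e3 q5033 L138583 q6024, e3 q5034 (flp_i L129899) q4154, e3 q5035 L138630 q6027, e3 q5036 (flp_i L129920) q4156, e3 q5037 L129936 q5037, e3 q5038 L138653 q6029, e3 q5039 (flp_i L129944) q4158, e3 q5040 L129958 q5040, e3 q5041 (flp_i L129959) q4161, e3 q5042 L129980 q5042, e3 q5043 L138694 q6033, e3 q5044 (flp_i L129992) q4163, e3 q5045 L130014 q5045, e3 q5046 (flp_i L130015) q4166, e3 q5047 L130029 q5047, e3 q5048 L130037 q4567, e3 q5049 L138749 q6039, e3 q5050 L130054 q4266, e3 q5051 L138788 q6043, e3 q5052 L138810 q6046, e3 q5053 (flp_i L130073) q4171, e3 q5054 L138826 q6048, e3 q5055 L138849 q6051, trivial⟩ (by decide +kernel)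

theorem ce_i_79 : ∀ r, r < 64 → sm gi (Qf (5056 + r)) = Qf (tab Gen.i (5056 + r)) :=
  edges_tab (sm gi) Qf (tab Gen.i) 5056 [(5056, 4173), (5057, 6054), (5058, 6056), (5059, 4174), (5060, 6059), (5061, 6061), (5062, 4176), (5063, 6065), (5064, 4178), (5065, 6068), (5066, 4179), (5067, 5067), (5068, 6072), (5069, 6074), (5070, 4181), (5071, 5071), (5072, 6077), (5073, 4183), (5074, 5074), (5075, 4267), (5076, 6082), (5077, 6085), (5078, 4187), (5079, 6088), (5080, 6090), (5081, 4188), (5082, 6093), (5083, 4190), (5084, 6096), (5085, 6098), (5086, 4191), (5087, 6102), (5088, 6104), (5089, 4193), (5090, 6107), (5091, 4194), (5092, 6091), (5093, 6110), (5094, 4196), (5095, 5095), (5096, 6112), (5097, 4198), (5098, 5098), (5099, 4201), (5100, 5100), (5101, 5101), (5102, 6119), (5103, 4205), (5104, 6120), (5105, 4207), (5106, 6121), (5107, 6122), (5108, 4210), (5109, 6123), (5110, 6124), (5111, 4211), (5112, 6127), (5113, 6129), (5114, 4213), (5115, 6132), (5116, 4214), (5117, 4226), (5118,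 6134), (5119, 4216)]
    ⟨e3 q5056 (flp_i L130097) q4173, e3 q5057 L138867 q6054, e3 q5058 L138881 q6056, e3 q5059 (flp_i L130117) q4174, e3 q5060 L138905 q6059, e3 q5061 L138921 q6061, e3 q5062 (flp_i L130139) q4176, e3 q5063 L138950 q6065, e3 q5064 (flp_i L130154) q4178, e3 q5065 L138972 q6068, e3 q5066 (flp_i L130168) q4179, e3 q5067 L130182 q5067, e3 q5068 L139001 q6072, e3 q5069 L139016 q6074, e3 q5070 (flp_i L130195) q4181, e3 q5071 L130209 q5071, e3 q5072 L139039 q6077, e3 q5073 (flp_i L130218) q4183, e3 q5074 L130233 q5074, e3 q5075 L130242 q4267, e3 q5076 L139092 q6082, e3 q5077 L139131 q6085, e3 q5078 (flp_i L130264) q4187, e3 q5079 L139159 q6088, e3 q5080 L139178 q6090, e3 q5081 (flp_i L130292) q4188, e3 q5082 L139208 q6093, e3 q5083 (flp_i L130310) q4190, e3 q5084 L139241 q6096, e3 q5085 L139265 q6098, e3 q5086 (flp_i L130341) q4191, e3 q5087 L139296 q6102, e3 q5088 L139313 q6104, e3 q5089 (flp_i L130362) q4193, e3 q5090 L139338 q6107, e3 q5091 (flp_i L130380) q4194, e3 q5092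 (flp_i L139193) q6091, e3 q5093 L139363 q6110, e3 q5094 (flp_i L130403) q4196, e3 q5095 L130422 q5095, e3 q5096 L139381 q6112, e3 q5097 (flp_i L130431) q4198, e3 q5098 L130447 q5098, e3 q5099 (flp_i L130448) q4201, e3 q5100 L130465 q5100, e3 q5101 L130471 q5101, e3 q5102 L139449 q6119, e3 q5103 (flp_i L130487) q4205, e3 q5104 L139462 q6120, e3 q5105 (flp_i L130509) q4207, e3 q5106 L139471 q6121, e3 q5107 L139486 q6122, e3 q5108 (flp_i L130541) q4210, e3 q5109 L139498 q6123, e3 q5110 L139512 q6124, e3 q5111 (flp_i L130576) q4211, e3 q5112 L139543 q6127, e3 q5113 L139569 q6129, e3 q5114 (flp_i L130606) q4213, e3 q5115 L139602 q6132, e3 q5116 (flp_i L130621) q4214, e3 q5117 L130632 q4226, e3 q5118 L139615 q6134, e3 q5119 (flp_i L130645) q4216, trivial⟩ (by decide +kernel)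

theorem ce_i_80 : ∀ r, r < 64 → sm gi (Qf (5120 + r)) = Qf (tab Gen.i (5120 + r)) :=
  edges_tab (sm gi) Qf (tab Gen.i) 5120 [(5120, 6137), (5121, 6138), (5122, 4218), (5123, 6141), (5124, 4219), (5125, 6125), (5126, 6144), (5127, 6146), (5128, 4221), (5129, 6149), (5130, 4222), (5131, 6130), (5132, 6151), (5133, 4224), (5134, 6133), (5135, 6154), (5136, 4227), (5137, 5137), (5138, 4230), (5139, 5139), (5140, 5140), (5141, 5141), (5142, 5142), (5143, 5143), (5144, 6160), (5145, 4236), (5146, 4238), (5147, 4240), (5148, 4250), (5149, 6164), (5150, 6167), (5151, 4244), (5152, 4251), (5153, 6169), (5154, 6172), (5155, 4246), (5156, 6175), (5157, 6176), (5158, 4247), (5159, 4554), (5160, 4555), (5161, 6036), (5162, 6161), (5163, 4556), (5164, 5749), (5165, 4254), (5166, 6182), (5167, 4258), (5168, 6184), (5169, 6185), (5170, 4259), (5171, 6188), (5172, 6189), (5173, 4261), (5174, 4262), (5175, 4467), (5176, 5931), (5177, 6040), (5178, 4351), (5179, 4270), (5180, 4272), (5181, 4273), (5182,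 6190), (5183, 4275)]
    ⟨e3 q5120 L139648 q6137, e3 q5121 L139660 q6138, e3 q5122 (flp_i L130680) q4218, e3 q5123 L139697 q6141, e3 q5124 (flp_i L130702) q4219, e3 q5125 (flp_i L139529) q6125, e3 q5126 L139724 q6144, e3 q5127 L139745 q6146, e3 q5128 (flp_i L130731) q4221, e3 q5129 L139773 q6149, e3 q5130 (flp_i L130746) q4222, e3 q5131 (flp_i L139587) q6130, e3 q5132 L139788 q6151, e3 q5133 (flp_i L130765) q4224, e3 q5134 (flp_i L139613) q6133, e3 q5135 L139808 q6154, e3 q5136 (flp_i L130786) q4227, e3 q5137 L130801 q5137, e3 q5138 (flp_i L130802) q4230, e3 q5139 L130816 q5139, e3 q5140 L130819 q5140, e3 q5141 L130828 q5141, e3 q5142 L130833 q5142, e3 q5143 L130843 q5143, e3 q5144 L139861 q6160, e3 q5145 (flp_i L130856) q4236, e3 q5146 (flp_i L130869) q4238, e3 q5147 (flp_i L130878) q4240, e3 q5148 L130896 q4250, e3 q5149 L139898 q6164, e3 q5150 L139919 q6167, e3 q5151 (flp_i L130913) q4244, e3 q5152 L130930 q4251, e3 q5153 L139938 q6169, e3 q5154 L139972 q6172, e3 q5155 (flp_i L130957)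 q4246, e3 q5156 L140001 q6175, e3 q5157 L140008 q6176, e3 q5158 (flp_i L130983) q4247, e3 q5159 L130999 q4554, e3 q5160 L131010 q4555, e3 q5161 (flp_i L138730) q6036, e3 q5162 (flp_i L139881) q6161, e3 q5163 L131037 q4556, e3 q5164 (flp_i L136208) q5749, e3 q5165 (flp_i L131050) q4254, e3 q5166 L140078 q6182, e3 q5167 (flp_i L131074) q4258, e3 q5168 L140103 q6184, e3 q5169 L140117 q6185, e3 q5170 (flp_i L131111) q4259, e3 q5171 L140157 q6188, e3 q5172 L140163 q6189, e3 q5173 (flp_i L131142) q4261, e3 q5174 (flp_i L131150) q4262, e3 q5175 L131168 q4467, e3 q5176 (flp_i L137665) q5931, e3 q5177 (flp_i L138768) q6040, e3 q5178 L131205 q4351, e3 q5179 (flp_i L131209) q4270, e3 q5180 (flp_i L131221) q4272, e3 q5181 (flp_i L131235) q4273, e3 q5182 L140176 q6190, e3 q5183 (flp_i L131260) q4275, trivial⟩ (by decide +kernel)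

theorem ce_i_81 : ∀ r, r < 64 → sm gi (Qf (5184 + r)) = Qf (tab Gen.i (5184 + r)) :=
  edges_tab (sm gi) Qf (tab Gen.i) 5184 [(5184, 4276), (5185, 6191), (5186, 4282), (5187, 6193), (5188, 6194), (5189, 4283), (5190, 4285), (5191, 4287), (5192, 6196), (5193, 4289), (5194, 6198), (5195, 4290), (5196, 6200), (5197, 4295), (5198, 6201), (5199, 4296), (5200, 6204), (5201, 4298), (5202, 5202), (5203, 4300), (5204, 5204), (5205, 6207), (5206, 4303), (5207, 5207), (5208, 4348), (5209, 6212), (5210, 6214), (5211, 6217), (5212, 4308), (5213, 4309), (5214, 6219), (5215, 6220), (5216, 4310), (5217, 6223), (5218, 4312), (5219, 6225), (5220, 4313), (5221, 4645), (5222, 6227), (5223, 4315), (5224, 6229), (5225, 4316), (5226, 6231), (5227, 6232), (5228, 4317), (5229, 4320), (5230, 4322), (5231, 4646), (5232, 6237), (5233, 4325), (5234, 6240), (5235, 4327), (5236, 5236), (5237, 4329), (5238, 6243), (5239, 4331), (5240, 6246), (5241, 4333), (5242, 4334), (5243, 6242), (5244, 4517), (5245, 4647), (5246,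 4339), (5247, 5247)]
    ⟨e3 q5184 (flp_i L131271) q4276, e3 q5185 L140187 q6191, e3 q5186 (flp_i L131296) q4282, e3 q5187 L140210 q6193, e3 q5188 L140224 q6194, e3 q5189 (flp_i L131331) q4283, e3 q5190 (flp_i L131343) q4285, e3 q5191 (flp_i L131355) q4287, e3 q5192 L140248 q6196, e3 q5193 (flp_i L131378) q4289, e3 q5194 L140268 q6198, e3 q5195 (flp_i L131399) q4290, e3 q5196 L140288 q6200, e3 q5197 (flp_i L131422) q4295, e3 q5198 L140303 q6201, e3 q5199 (flp_i L131446) q4296, e3 q5200 L140345 q6204, e3 q5201 (flp_i L131468) q4298, e3 q5202 L131483 q5202, e3 q5203 (flp_i L131484) q4300, e3 q5204 L131502 q5204, e3 q5205 L140387 q6207, e3 q5206 (flp_i L131512) q4303, e3 q5207 L131529 q5207, e3 q5208 L131540 q4348, e3 q5209 L140450 q6212, e3 q5210 L140476 q6214, e3 q5211 L140510 q6217, e3 q5212 (flp_i L131577) q4308, e3 q5213 (flp_i L131591) q4309, e3 q5214 L140532 q6219, e3 q5215 L140548 q6220, e3 q5216 (flp_i L131630) q4310, e3 q5217 L140577 q6223, e3 q5218 (flp_i L131653) q4312, e3 q5219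 L140599 q6225, e3 q5220 (flp_i L131672) q4313, e3 q5221 L131694 q4645, e3 q5222 L140620 q6227, e3 q5223 (flp_i L131708) q4315, e3 q5224 L140644 q6229, e3 q5225 (flp_i L131731) q4316, e3 q5226 L140660 q6231, e3 q5227 L140670 q6232, e3 q5228 (flp_i L131761) q4317, e3 q5229 (flp_i L131769) q4320, e3 q5230 (flp_i L131781) q4322, e3 q5231 L131798 q4646, e3 q5232 L140718 q6237, e3 q5233 (flp_i L131807) q4325, e3 q5234 L140746 q6240, e3 q5235 (flp_i L131824) q4327, e3 q5236 L131842 q5236, e3 q5237 (flp_i L131843) q4329, e3 q5238 L140777 q6243, e3 q5239 (flp_i L131865) q4331, e3 q5240 L140807 q6246, e3 q5241 (flp_i L131883) q4333, e3 q5242 (flp_i L131891) q4334, e3 q5243 (flp_i L140775) q6242, e3 q5244 L131919 q4517, e3 q5245 L131926 q4647, e3 q5246 (flp_i L131932) q4339, e3 q5247 L131946 q5247, trivial⟩ (by decide +kernel)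

theorem ce_i_82 : ∀ r, r < 64 → sm gi (Qf (5248 + r)) = Qf (tab Gen.i (5248 + r)) :=
  edges_tab (sm gi) Qf (tab Gen.i) 5248 [(5248, 6250), (5249, 4341), (5250, 5250), (5251, 4345), (5252, 5252), (5253, 4688), (5254, 6257), (5255, 4689), (5256, 6260), (5257, 6263), (5258, 4350), (5259, 6265), (5260, 6268), (5261, 4352), (5262, 6271), (5263, 6273), (5264, 4353), (5265, 6276), (5266, 6278), (5267, 4355), (5268, 6281), (5269, 4357), (5270, 6284), (5271, 4358), (5272, 4661), (5273, 6288), (5274, 6290), (5275, 4360), (5276, 4665), (5277, 6293), (5278, 4362), (5279, 4668), (5280, 6297), (5281, 6299), (5282, 4366), (5283, 6302), (5284, 6304), (5285, 4367), (5286, 6307), (5287, 4369), (5288, 6310), (5289, 6312), (5290, 4370), (5291, 6316), (5292, 6318), (5293, 4372), (5294, 6321), (5295, 4373), (5296, 6305), (5297, 6324), (5298, 4375), (5299, 6325), (5300, 4377), (5301, 4674), (5302, 4380), (5303, 4676), (5304, 4677), (5305, 6331), (5306, 4384), (5307, 5307), (5308, 6333), (5309, 4386), (5310,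 5310), (5311, 6336)]
    ⟨e3 q5248 L140846 q6250, e3 q5249 (flp_i L131954) q4341, e3 q5250 L131968 q5250, e3 q5251 (flp_i L131969) q4345, e3 q5252 L131985 q5252, e3 q5253 L131995 q4688, e3 q5254 L140912 q6257, e3 q5255 L132014 q4689, e3 q5256 L140943 q6260, e3 q5257 L140973 q6263, e3 q5258 (flp_i L132036) q4350, e3 q5259 L140989 q6265, e3 q5260 L141018 q6268, e3 q5261 (flp_i L132063) q4352, e3 q5262 L141038 q6271, e3 q5263 L141052 q6273, e3 q5264 (flp_i L132085) q4353, e3 q5265 L141079 q6276, e3 q5266 L141100 q6278, e3 q5267 (flp_i L132113) q4355, e3 q5268 L141128 q6281, e3 q5269 (flp_i L132135) q4357, e3 q5270 L141160 q6284, e3 q5271 (flp_i L132154) q4358, e3 q5272 L132174 q4661, e3 q5273 L141197 q6288, e3 q5274 L141215 q6290, e3 q5275 (flp_i L132191) q4360, e3 q5276 L132209 q4665, e3 q5277 L141244 q6293, e3 q5278 (flp_i L132220) q4362, e3 q5279 L132237 q4668, e3 q5280 L141280 q6297, e3 q5281 L141302 q6299, e3 q5282 (flp_i L132258) q4366, e3 q5283 L141329 q6302, e3 q5284 L141344 q6304,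 e3 q5285 (flp_i L132286) q4367, e3 q5286 L141365 q6307, e3 q5287 (flp_i L132298) q4369, e3 q5288 L141392 q6310, e3 q5289 L141410 q6312, e3 q5290 (flp_i L132325) q4370, e3 q5291 L141439 q6316, e3 q5292 L141452 q6318, e3 q5293 (flp_i L132344) q4372, e3 q5294 L141473 q6321, e3 q5295 (flp_i L132358) q4373, e3 q5296 (flp_i L141358) q6305, e3 q5297 L141497 q6324, e3 q5298 (flp_i L132378) q4375, e3 q5299 L141507 q6325, e3 q5300 (flp_i L132398) q4377, e3 q5301 L132416 q4674, e3 q5302 (flp_i L132418) q4380, e3 q5303 L132433 q4676, e3 q5304 L132440 q4677, e3 q5305 L141565 q6331, e3 q5306 (flp_i L132450) q4384, e3 q5307 L132466 q5307, e3 q5308 L141584 q6333, e3 q5309 (flp_i L132477) q4386, e3 q5310 L132489 q5310, e3 q5311 L141606 q6336, trivial⟩ (by decide +kernel)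

theorem ce_i_83 : ∀ r, r < 64 → sm gi (Qf (5312 + r)) = Qf (tab Gen.i (5312 + r)) :=
  edges_tab (sm gi) Qf (tab Gen.i) 5312 [(5312, 4389), (5313, 6337), (5314, 4390), (5315, 6340), (5316, 6341), (5317, 4392), (5318, 6343), (5319, 4393), (5320, 4405), (5321, 6345), (5322, 4395), (5323, 6347), (5324, 4397), (5325, 6349), (5326, 4398), (5327, 6338), (5328, 6352), (5329, 6353), (5330, 4400), (5331, 6355), (5332, 4401), (5333, 6342), (5334, 6358), (5335, 4403), (5336, 6344), (5337, 6361), (5338, 4406), (5339, 4408), (5340, 4682), (5341, 4519), (5342, 4683), (5343, 4684), (5344, 4685), (5345, 5345), (5346, 4416), (5347, 5347), (5348, 5348), (5349, 5349), (5350, 4465), (5351, 6369), (5352, 6371), (5353, 4423), (5354, 6373), (5355, 4424), (5356, 6376), (5357, 6378), (5358, 4425), (5359, 6380), (5360, 4427), (5361, 6383), (5362, 4429), (5363, 6385), (5364, 4430), (5365, 4650), (5366, 6388), (5367, 6390), (5368, 4432), (5369, 4693), (5370, 6393), (5371, 4434), (5372, 4696), (5373, 6397), (5374,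 4437), (5375, 4439)]
    ⟨e3 q5312 (flp_i L132498) q4389, e3 q5313 L141614 q6337, e3 q5314 (flp_i L132520) q4390, e3 q5315 L141646 q6340, e3 q5316 L141655 q6341, e3 q5317 (flp_i L132549) q4392, e3 q5318 L141671 q6343, e3 q5319 (flp_i L132562) q4393, e3 q5320 L132576 q4405, e3 q5321 L141691 q6345, e3 q5322 (flp_i L132583) q4395, e3 q5323 L141704 q6347, e3 q5324 (flp_i L132602) q4397, e3 q5325 L141723 q6349, e3 q5326 (flp_i L132620) q4398, e3 q5327 (flp_i L141635) q6338, e3 q5328 L141752 q6352, e3 q5329 L141762 q6353, e3 q5330 (flp_i L132653) q4400, e3 q5331 L141781 q6355, e3 q5332 (flp_i L132668) q4401, e3 q5333 (flp_i L141669) q6342, e3 q5334 L141798 q6358, e3 q5335 (flp_i L132685) q4403, e3 q5336 (flp_i L141689) q6344, e3 q5337 L141826 q6361, e3 q5338 (flp_i L132709) q4406, e3 q5339 (flp_i L132719) q4408, e3 q5340 L132737 q4682, e3 q5341 L132745 q4519, e3 q5342 L132759 q4683, e3 q5343 L132767 q4684, e3 q5344 L132772 q4685, e3 q5345 L132784 q5345, e3 q5346 (flp_i L132785) q4416, e3 q5347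 L132803 q5347, e3 q5348 L132806 q5348, e3 q5349 L132816 q5349, e3 q5350 L132829 q4465, e3 q5351 L141897 q6369, e3 q5352 L141915 q6371, e3 q5353 (flp_i L132849) q4423, e3 q5354 L141929 q6373, e3 q5355 (flp_i L132865) q4424, e3 q5356 L141949 q6376, e3 q5357 L141965 q6378, e3 q5358 (flp_i L132889) q4425, e3 q5359 L141981 q6380, e3 q5360 (flp_i L132909) q4427, e3 q5361 L142009 q6383, e3 q5362 (flp_i L132929) q4429, e3 q5363 L142029 q6385, e3 q5364 (flp_i L132946) q4430, e3 q5365 L132964 q4650, e3 q5366 L142056 q6388, e3 q5367 L142076 q6390, e3 q5368 (flp_i L132981) q4432, e3 q5369 L132995 q4693, e3 q5370 L142107 q6393, e3 q5371 (flp_i L133006) q4434, e3 q5372 L133021 q4696, e3 q5373 L142145 q6397, e3 q5374 (flp_i L133033) q4437, e3 q5375 (flp_i L133041) q4439, trivial⟩ (by decide +kernel)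

theorem ce_i_84 : ∀ r, r < 64 → sm gi (Qf (5376 + r)) = Qf (tab Gen.i (5376 + r)) :=
  edges_tab (sm gi) Qf (tab Gen.i) 5376 [(5376, 6401), (5377, 6403), (5378, 4441), (5379, 6405), (5380, 4442), (5381, 6398), (5382, 4445), (5383, 4448), (5384, 4698), (5385, 4699), (5386, 4451), (5387, 4453), (5388, 4460), (5389, 6248), (5390, 6411), (5391, 4456), (5392, 6410), (5393, 4458), (5394, 6244), (5395, 4700), (5396, 4701), (5397, 4702), (5398, 6177), (5399, 6417), (5400, 6420), (5401, 4466), (5402, 4643), (5403, 6422), (5404, 6425), (5405, 4468), (5406, 6428), (5407, 6430), (5408, 4469), (5409, 6433), (5410, 6435), (5411, 4471), (5412, 6439), (5413, 6442), (5414, 4473), (5415, 6445), (5416, 4474), (5417, 6431), (5418, 6449), (5419, 4476), (5420, 6452), (5421, 4477), (5422, 4651), (5423, 6456), (5424, 6458), (5425, 4479), (5426, 4717), (5427, 6461), (5428, 4481), (5429, 4720), (5430, 6467), (5431, 6468), (5432, 4484), (5433, 6470), (5434, 4485), (5435, 4726), (5436, 4727), (5437, 4488), (5438,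 4729), (5439, 4730)]
    ⟨e3 q5376 L142178 q6401, e3 q5377 L142195 q6403, e3 q5378 (flp_i L133062) q4441, e3 q5379 L142212 q6405, e3 q5380 (flp_i L133080) q4442, e3 q5381 (flp_i L142163) q6398, e3 q5382 (flp_i L133096) q4445, e3 q5383 (flp_i L133105) q4448, e3 q5384 L133122 q4698, e3 q5385 L133129 q4699, e3 q5386 (flp_i L133135) q4451, e3 q5387 (flp_i L133144) q4453, e3 q5388 L133158 q4460, e3 q5389 (flp_i L140833) q6248, e3 q5390 L142270 q6411, e3 q5391 (flp_i L133173) q4456, e3 q5392 (flp_i L142268) q6410, e3 q5393 (flp_i L133186) q4458, e3 q5394 (flp_i L140797) q6244, e3 q5395 L133204 q4700, e3 q5396 L133210 q4701, e3 q5397 L133221 q4702, e3 q5398 (flp_i L140025) q6177, e3 q5399 L142317 q6417, e3 q5400 L142337 q6420, e3 q5401 (flp_i L133246) q4466, e3 q5402 L133260 q4643, e3 q5403 L142353 q6422, e3 q5404 L142379 q6425, e3 q5405 (flp_i L133279) q4468, e3 q5406 L142401 q6428, e3 q5407 L142413 q6430, e3 q5408 (flp_i L133299) q4469, e3 q5409 L142435 q6433, e3 q5410 L142449 q6435, e3 q5411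 (flp_i L133319) q4471, e3 q5412 L142481 q6439, e3 q5413 L142499 q6442, e3 q5414 (flp_i L133339) q4473, e3 q5415 L142515 q6445, e3 q5416 (flp_i L133349) q4474, e3 q5417 (flp_i L142425) q6431, e3 q5418 L142544 q6449, e3 q5419 (flp_i L133371) q4476, e3 q5420 L142576 q6452, e3 q5421 (flp_i L133387) q4477, e3 q5422 L133406 q4651, e3 q5423 L142607 q6456, e3 q5424 L142623 q6458, e3 q5425 (flp_i L133422) q4479, e3 q5426 L133438 q4717, e3 q5427 L142651 q6461, e3 q5428 (flp_i L133448) q4481, e3 q5429 L133462 q4720, e3 q5430 L142694 q6467, e3 q5431 L142702 q6468, e3 q5432 (flp_i L133477) q4484, e3 q5433 L142724 q6470, e3 q5434 (flp_i L133493) q4485, e3 q5435 L133510 q4726, e3 q5436 L133517 q4727, e3 q5437 (flp_i L133519) q4488, e3 q5438 L133532 q4729, e3 q5439 L133539 q4730, trivial⟩ (by decide +kernel)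

theorem ce_i_85 : ∀ r, r < 64 → sm gi (Qf (5440 + r)) = Qf (tab Gen.i (5440 + r)) :=
  edges_tab (sm gi) Qf (tab Gen.i) 5440 [(5440, 6234), (5441, 4492), (5442, 6327), (5443, 4493), (5444, 6481), (5445, 6483), (5446, 4495), (5447, 6486), (5448, 4496), (5449, 4505), (5450, 6489), (5451, 4498), (5452, 6478), (5453, 6492), (5454, 6494), (5455, 4500), (5456, 6497), (5457, 4501), (5458, 6484), (5459, 6499), (5460, 4503), (5461, 6487), (5462, 6502), (5463, 4506), (5464, 4669), (5465, 4509), (5466, 4736), (5467, 4737), (5468, 4738), (5469, 4739), (5470, 4740), (5471, 4515), (5472, 6363), (5473, 4529), (5474, 6509), (5475, 6510), (5476, 4521), (5477, 6512), (5478, 4522), (5479, 4535), (5480, 6514), (5481, 4524), (5482, 4538), (5483, 6516), (5484, 4527), (5485, 6360), (5486, 6519), (5487, 4530), (5488, 6521), (5489, 4531), (5490, 6511), (5491, 6523), (5492, 4533), (5493, 6513), (5494, 4536), (5495, 6515), (5496, 6350), (5497, 4539), (5498, 4678), (5499, 4743), (5500, 4744), (5501, 4745), (5502,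 6531), (5503, 6534)]
    ⟨e3 q5440 (flp_i L140698) q6234, e3 q5441 (flp_i L133551) q4492, e3 q5442 (flp_i L141533) q6327, e3 q5443 (flp_i L133571) q4493, e3 q5444 L142840 q6481, e3 q5445 L142857 q6483, e3 q5446 (flp_i L133600) q4495, e3 q5447 L142886 q6486, e3 q5448 (flp_i L133618) q4496, e3 q5449 L133630 q4505, e3 q5450 L142912 q6489, e3 q5451 (flp_i L133640) q4498, e3 q5452 (flp_i L142819) q6478, e3 q5453 L142942 q6492, e3 q5454 L142958 q6494, e3 q5455 (flp_i L133676) q4500, e3 q5456 L142984 q6497, e3 q5457 (flp_i L133692) q4501, e3 q5458 (flp_i L142876) q6484, e3 q5459 L143004 q6499, e3 q5460 (flp_i L133718) q4503, e3 q5461 (flp_i L142900) q6487, e3 q5462 L143024 q6502, e3 q5463 (flp_i L133743) q4506, e3 q5464 L133762 q4669, e3 q5465 (flp_i L133764) q4509, e3 q5466 L133784 q4736, e3 q5467 L133790 q4737, e3 q5468 L133801 q4738, e3 q5469 L133809 q4739, e3 q5470 L133816 q4740, e3 q5471 (flp_i L133820) q4515, e3 q5472 (flp_i L141857) q6363, e3 q5473 L133848 q4529, e3 q5474 L143098 q6509,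 e3 q5475 L143106 q6510, e3 q5476 (flp_i L133867) q4521, e3 q5477 L143123 q6512, e3 q5478 (flp_i L133882) q4522, e3 q5479 L133897 q4535, e3 q5480 L143140 q6514, e3 q5481 (flp_i L133905) q4524, e3 q5482 L133915 q4538, e3 q5483 L143152 q6516, e3 q5484 (flp_i L133925) q4527, e3 q5485 (flp_i L141818) q6360, e3 q5486 L143174 q6519, e3 q5487 (flp_i L133949) q4530, e3 q5488 L143190 q6521, e3 q5489 (flp_i L133963) q4531, e3 q5490 (flp_i L143121) q6511, e3 q5491 L143206 q6523, e3 q5492 (flp_i L133987) q4533, e3 q5493 (flp_i L143138) q6513, e3 q5494 (flp_i L134003) q4536, e3 q5495 (flp_i L143150) q6515, e3 q5496 (flp_i L141741) q6350, e3 q5497 (flp_i L134017) q4539, e3 q5498 L134035 q4678, e3 q5499 L134045 q4743, e3 q5500 L134051 q4744, e3 q5501 L134055 q4745, e3 q5502 L143262 q6531, e3 q5503 L143289 q6534, trivial⟩ (by decide +kernel)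

theorem ce_i_86 : ∀ r, r < 64 → sm gi (Qf (5504 + r)) = Qf (tab Gen.i (5504 + r)) :=
  edges_tab (sm gi) Qf (tab Gen.i) 5504 [(5504, 4550), (5505, 4551), (5506, 6535), (5507, 6536), (5508, 4552), (5509, 6178), (5510, 4558), (5511, 6538), (5512, 4561), (5513, 6541), (5514, 6543), (5515, 4562), (5516, 6546), (5517, 4565), (5518, 5640), (5519, 6547), (5520, 4568), (5521, 4571), (5522, 6549), (5523, 6552), (5524, 4573), (5525, 6556), (5526, 6558), (5527, 4574), (5528, 5528), (5529, 6561), (5530, 4576), (5531, 5531), (5532, 6566), (5533, 6568), (5534, 4579), (5535, 4769), (5536, 6571), (5537, 4581), (5538, 4772), (5539, 6577), (5540, 6578), (5541, 4584), (5542, 6580), (5543, 4585), (5544, 4778), (5545, 4779), (5546, 4588), (5547, 4781), (5548, 4782), (5549, 6587), (5550, 6588), (5551, 6589), (5552, 4591), (5553, 4592), (5554, 6591), (5555, 4594), (5556, 4790), (5557, 4791), (5558, 4792), (5559, 4793), (5560, 4794), (5561, 4795), (5562, 6596), (5563, 4601), (5564, 6599), (5565, 4602), (5566,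 5566), (5567, 6601)]
    ⟨e3 q5504 (flp_i L134075) q4550, e3 q5505 (flp_i L134086) q4551, e3 q5506 L143296 q6535, e3 q5507 L143303 q6536, e3 q5508 (flp_i L134115) q4552, e3 q5509 (flp_i L140042) q6178, e3 q5510 (flp_i L134131) q4558, e3 q5511 L143323 q6538, e3 q5512 (flp_i L134148) q4561, e3 q5513 L143350 q6541, e3 q5514 L143364 q6543, e3 q5515 (flp_i L134171) q4562, e3 q5516 L143384 q6546, e3 q5517 (flp_i L134185) q4565, e3 q5518 (flp_i L135295) q5640, e3 q5519 L143393 q6547, e3 q5520 (flp_i L134212) q4568, e3 q5521 (flp_i L134219) q4571, e3 q5522 L143412 q6549, e3 q5523 L143440 q6552, e3 q5524 (flp_i L134247) q4573, e3 q5525 L143475 q6556, e3 q5526 L143493 q6558, e3 q5527 (flp_i L134272) q4574, e3 q5528 L134289 q5528, e3 q5529 L143519 q6561, e3 q5530 (flp_i L134301) q4576, e3 q5531 L134320 q5531, e3 q5532 L143569 q6566, e3 q5533 L143590 q6568, e3 q5534 (flp_i L134338) q4579, e3 q5535 L134355 q4769, e3 q5536 L143620 q6571, e3 q5537 (flp_i L134369) q4581, e3 q5538 L134388 q4772, e3 q5539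 L143677 q6577, e3 q5540 L143684 q6578, e3 q5541 (flp_i L134400) q4584, e3 q5542 L143692 q6580, e3 q5543 (flp_i L134414) q4585, e3 q5544 L134430 q4778, e3 q5545 L134437 q4779, e3 q5546 (flp_i L134440) q4588, e3 q5547 L134458 q4781, e3 q5548 L134465 q4782, e3 q5549 L143749 q6587, e3 q5550 L143755 q6588, e3 q5551 L143764 q6589, e3 q5552 (flp_i L134487) q4591, e3 q5553 (flp_i L134495) q4592, e3 q5554 (flp_i L143787) q6591, e3 q5555 (flp_i L134507) q4594, e3 q5556 L134522 q4790, e3 q5557 L134528 q4791, e3 q5558 L134535 q4792, e3 q5559 L134545 q4793, e3 q5560 L134554 q4794, e3 q5561 L134563 q4795, e3 q5562 L143832 q6596, e3 q5563 (flp_i L134574) q4601, e3 q5564 L143860 q6599, e3 q5565 (flp_i L134591) q4602, e3 q5566 L134606 q5566, e3 q5567 L143876 q6601, trivial⟩ (by decide +kernel)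

theorem ce_i_87 : ∀ r, r < 64 → sm gi (Qf (5568 + r)) = Qf (tab Gen.i (5568 + r)) :=
  edges_tab (sm gi) Qf (tab Gen.i) 5568 [(5568, 4604), (5569, 5569), (5570, 4607), (5571, 5571), (5572, 5572), (5573, 4610), (5574, 4797), (5575, 4798), (5576, 4799), (5577, 4800), (5578, 4801), (5579, 4802), (5580, 6612), (5581, 4620), (5582, 5582), (5583, 6614), (5584, 4622), (5585, 5585), (5586, 4625), (5587, 5587), (5588, 5588), (5589, 5589), (5590, 5590), (5591, 5591), (5592, 4803), (5593, 4804), (5594, 4805), (5595, 4757), (5596, 5685), (5597, 6414), (5598, 4641), (5599, 6224), (5600, 6226), (5601, 6235), (5602, 6384), (5603, 6624), (5604, 4649), (5605, 6450), (5606, 6453), (5607, 4712), (5608, 4713), (5609, 4710), (5610, 4711), (5611, 6635), (5612, 6637), (5613, 4657), (5614, 6282), (5615, 6640), (5616, 4659), (5617, 6285), (5618, 6645), (5619, 5643), (5620, 4662), (5621, 6646), (5622, 4663), (5623, 6291), (5624, 6292), (5625, 4666), (5626, 6294), (5627, 6295), (5628, 6503), (5629, 4734), (5630,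 4733), (5631, 4672)]
    ⟨e3 q5568 (flp_i L134617) q4604, e3 q5569 L134636 q5569, e3 q5570 (flp_i L134637) q4607, e3 q5571 L134655 q5571, e3 q5572 L134662 q5572, e3 q5573 (flp_i L134666) q4610, e3 q5574 L134684 q4797, e3 q5575 L134692 q4798, e3 q5576 L134705 q4799, e3 q5577 L134713 q4800, e3 q5578 L134720 q4801, e3 q5579 L134729 q4802, e3 q5580 L143979 q6612, e3 q5581 (flp_i L134740) q4620, e3 q5582 L134757 q5582, e3 q5583 L143997 q6614, e3 q5584 (flp_i L134767) q4622, e3 q5585 L134784 q5585, e3 q5586 (flp_i L134785) q4625, e3 q5587 L134801 q5587, e3 q5588 L134806 q5588, e3 q5589 L134815 q5589, e3 q5590 L134821 q5590, e3 q5591 L134831 q5591, e3 q5592 L134840 q4803, e3 q5593 L134847 q4804, e3 q5594 L134858 q4805, e3 q5595 L134868 q4757, e3 q5596 (flp_i L135640) q5685, e3 q5597 (flp_i L142299) q6414, e3 q5598 (flp_i L134883) q4641, e3 q5599 (flp_i L140597) q6224, e3 q5600 (flp_i L140618) q6226, e3 q5601 (flp_i L140705) q6235, e3 q5602 (flp_i L142027) q6384, e3 q5603 L144082 q6624, e3 q5604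 (flp_i L134940) q4649, e3 q5605 (flp_i L142565) q6450, e3 q5606 (flp_i L142593) q6453, e3 q5607 L134979 q4712, e3 q5608 L134989 q4713, e3 q5609 L135001 q4710, e3 q5610 L135011 q4711, e3 q5611 L144196 q6635, e3 q5612 L144217 q6637, e3 q5613 (flp_i L135029) q4657, e3 q5614 (flp_i L141148) q6282, e3 q5615 L144251 q6640, e3 q5616 (flp_i L135059) q4659, e3 q5617 (flp_i L141180) q6285, e3 q5618 L144305 q6645, e3 q5619 L135352 q5643, e3 q5620 (flp_i L135097) q4662, e3 q5621 L144315 q6646, e3 q5622 (flp_i L135115) q4663, e3 q5623 (flp_i L141234) q6291, e3 q5624 (flp_i L141242) q6292, e3 q5625 (flp_i L135141) q4666, e3 q5626 (flp_i L141261) q6294, e3 q5627 (flp_i L141270) q6295, e3 q5628 (flp_i L143044) q6503, e3 q5629 L135185 q4734, e3 q5630 L135197 q4733, e3 q5631 (flp_i L135201) q4672, trivial⟩ (by decide +kernel)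

theorem ce_i_88 : ∀ r, r < 64 → sm gi (Qf (5632 + r)) = Qf (tab Gen.i (5632 + r)) :=
  edges_tab (sm gi) Qf (tab Gen.i) 5632 [(5632, 6326), (5633, 6328), (5634, 6329), (5635, 6330), (5636, 6529), (5637, 6362), (5638, 6653), (5639, 4686), (5640, 5518), (5641, 6254), (5642, 6659), (5643, 5619), (5644, 4690), (5645, 6660), (5646, 4691), (5647, 6391), (5648, 6392), (5649, 4694), (5650, 6394), (5651, 6395), (5652, 6407), (5653, 6408), (5654, 6409), (5655, 6665), (5656, 4703), (5657, 6667), (5658, 6669), (5659, 4704), (5660, 6673), (5661, 4707), (5662, 6675), (5663, 4708), (5664, 6630), (5665, 6631), (5666, 6632), (5667, 6627), (5668, 6628), (5669, 6629), (5670, 6685), (5671, 6686), (5672, 4714), (5673, 6688), (5674, 4715), (5675, 6459), (5676, 6460), (5677, 4718), (5678, 6462), (5679, 6463), (5680, 6695), (5681, 6696), (5682, 6697), (5683, 4721), (5684, 4722), (5685, 5596), (5686, 4724), (5687, 6471), (5688, 6472), (5689, 6473), (5690, 6474), (5691, 6475), (5692, 6476), (5693, 6702), (5694,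 4731), (5695, 6504)]
    ⟨e3 q5632 (flp_i L141525) q6326, e3 q5633 (flp_i L141547) q6328, e3 q5634 (flp_i L141555) q6329, e3 q5635 (flp_i L141562) q6330, e3 q5636 (flp_i L143253) q6529, e3 q5637 (flp_i L141849) q6362, e3 q5638 L144385 q6653, e3 q5639 (flp_i L135279) q4686, e3 q5640 L135295 q5518, e3 q5641 (flp_i L140892) q6254, e3 q5642 L144441 q6659, e3 q5643 (flp_i L135352) q5619, e3 q5644 (flp_i L135319) q4690, e3 q5645 L144457 q6660, e3 q5646 (flp_i L135333) q4691, e3 q5647 (flp_i L142093) q6391, e3 q5648 (flp_i L142099) q6392, e3 q5649 (flp_i L135363) q4694, e3 q5650 (flp_i L142122) q6394, e3 q5651 (flp_i L142129) q6395, e3 q5652 (flp_i L142236) q6407, e3 q5653 (flp_i L142244) q6408, e3 q5654 (flp_i L142257) q6409, e3 q5655 L144501 q6665, e3 q5656 (flp_i L135420) q4703, e3 q5657 L144517 q6667, e3 q5658 L144531 q6669, e3 q5659 (flp_i L135440) q4704, e3 q5660 L144554 q6673, e3 q5661 (flp_i L135454) q4707, e3 q5662 L144568 q6675, e3 q5663 (flp_i L135467) q4708, e3 q5664 (flp_i L144155)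 q6630, e3 q5665 (flp_i L144167) q6631, e3 q5666 (flp_i L144179) q6632, e3 q5667 (flp_i L144119) q6627, e3 q5668 (flp_i L144132) q6628, e3 q5669 (flp_i L144144) q6629, e3 q5670 L144647 q6685, e3 q5671 L144655 q6686, e3 q5672 (flp_i L135524) q4714, e3 q5673 L144665 q6688, e3 q5674 (flp_i L135539) q4715, e3 q5675 (flp_i L142641) q6459, e3 q5676 (flp_i L142649) q6460, e3 q5677 (flp_i L135564) q4718, e3 q5678 (flp_i L142667) q6462, e3 q5679 (flp_i L142673) q6463, e3 q5680 L144712 q6695, e3 q5681 L144720 q6696, e3 q5682 L144730 q6697, e3 q5683 (flp_i L135611) q4721, e3 q5684 (flp_i L135620) q4722, e3 q5685 L135640 q5596, e3 q5686 (flp_i L135644) q4724, e3 q5687 (flp_i L142741) q6471, e3 q5688 (flp_i L142750) q6472, e3 q5689 (flp_i L142767) q6473, e3 q5690 (flp_i L142778) q6474, e3 q5691 (flp_i L142786) q6475, e3 q5692 (flp_i L142795) q6476, e3 q5693 L144796 q6702, e3 q5694 (flp_i L135722) q4731, e3 q5695 (flp_i L143056) q6504, trivial⟩ (by decide +kernel)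

theorem ce_i_89 : ∀ r, r < 64 → sm gi (Qf (5696 + r)) = Qf (tab Gen.i (5696 + r)) :=
  edges_tab (sm gi) Qf (tab Gen.i) 5696 [(5696, 6505), (5697, 6506), (5698, 6507), (5699, 4741), (5700, 6705), (5701, 4746), (5702, 6706), (5703, 6707), (5704, 4747), (5705, 4750), (5706, 4751), (5707, 4754), (5708, 4758), (5709, 6709), (5710, 4759), (5711, 6712), (5712, 4761), (5713, 5713), (5714, 4763), (5715, 6717), (5716, 6718), (5717, 4766), (5718, 6720), (5719, 4767), (5720, 6569), (5721, 6570), (5722, 4770), (5723, 6572), (5724, 6573), (5725, 6727), (5726, 6728), (5727, 6729), (5728, 4773), (5729, 4774), (5730, 6731), (5731, 4776), (5732, 6581), (5733, 6582), (5734, 6583), (5735, 6584), (5736, 6585), (5737, 6586), (5738, 4783), (5739, 4784), (5740, 4785), (5741, 6739), (5742, 4788), (5743, 6593), (5744, 6594), (5745, 6607), (5746, 6608), (5747, 6609), (5748, 6610), (5749, 5164), (5750, 4809), (5751, 6743), (5752, 6746), (5753, 4814), (5754, 6749), (5755, 6751), (5756, 4815), (5757, 6755), (5758,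 4817), (5759, 6758)]
    ⟨e3 q5696 (flp_i L143064) q6505, e3 q5697 (flp_i L143070) q6506, e3 q5698 (flp_i L143083) q6507, e3 q5699 (flp_i L135766) q4741, e3 q5700 L144818 q6705, e3 q5701 (flp_i L135784) q4746, e3 q5702 L144831 q6706, e3 q5703 L144845 q6707, e3 q5704 (flp_i L135808) q4747, e3 q5705 (flp_i L135814) q4750, e3 q5706 (flp_i L135827) q4751, e3 q5707 (flp_i L135839) q4754, e3 q5708 (flp_i L135854) q4758, e3 q5709 L144861 q6709, e3 q5710 (flp_i L135873) q4759, e3 q5711 L144886 q6712, e3 q5712 (flp_i L135889) q4761, e3 q5713 L135900 q5713, e3 q5714 (flp_i L135901) q4763, e3 q5715 L144932 q6717, e3 q5716 L144940 q6718, e3 q5717 (flp_i L135926) q4766, e3 q5718 L144954 q6720, e3 q5719 (flp_i L135943) q4767, e3 q5720 (flp_i L143607) q6569, e3 q5721 (flp_i L143615) q6570, e3 q5722 (flp_i L135968) q4770, e3 q5723 (flp_i L143640) q6572, e3 q5724 (flp_i L143649) q6573, e3 q5725 L145011 q6727, e3 q5726 L145022 q6728, e3 q5727 L145032 q6729, e3 q5728 (flp_i L136027) q4773, e3 q5729 (flp_i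 L136035) q4774, e3 q5730 (flp_i L145053) q6731, e3 q5731 (flp_i L136045) q4776, e3 q5732 (flp_i L143710) q6581, e3 q5733 (flp_i L143715) q6582, e3 q5734 (flp_i L143721) q6583, e3 q5735 (flp_i L143732) q6584, e3 q5736 (flp_i L143741) q6585, e3 q5737 (flp_i L143747) q6586, e3 q5738 (flp_i L136101) q4783, e3 q5739 (flp_i L136109) q4784, e3 q5740 (flp_i L136119) q4785, e3 q5741 (flp_i L145125) q6739, e3 q5742 L136148 q4788, e3 q5743 (flp_i L143811) q6593, e3 q5744 (flp_i L143818) q6594, e3 q5745 (flp_i L143942) q6607, e3 q5746 (flp_i L143950) q6608, e3 q5747 (flp_i L143963) q6609, e3 q5748 (flp_i L143968) q6610, e3 q5749 L136208 q5164, e3 q5750 L136220 q4809, e3 q5751 L145154 q6743, e3 q5752 L145177 q6746, e3 q5753 (flp_i L136240) q4814, e3 q5754 L145197 q6749, e3 q5755 L145213 q6751, e3 q5756 (flp_i L136261) q4815, e3 q5757 L145246 q6755, e3 q5758 (flp_i L136277) q4817, e3 q5759 L145274 q6758, trivial⟩ (by decide +kernel)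

theorem ce_i_90 : ∀ r, r < 64 → sm gi (Qf (5760 + r)) = Qf (tab Gen.i (5760 + r)) :=
  edges_tab (sm gi) Qf (tab Gen.i) 5760 [(5760, 4818), (5761, 5761), (5762, 6762), (5763, 6764), (5764, 4820), (5765, 5765), (5766, 6767), (5767, 4822), (5768, 5768), (5769, 6771), (5770, 6772), (5771, 4825), (5772, 6775), (5773, 6776), (5774, 4827), (5775, 6778), (5776, 4828), (5777, 6773), (5778, 6780), (5779, 4830), (5780, 5780), (5781, 4833), (5782, 5782), (5783, 5783), (5784, 4836), (5785, 5785), (5786, 4839), (5787, 4840), (5788, 4846), (5789, 4842), (5790, 6788), (5791, 4844), (5792, 6789), (5793, 4847), (5794, 5794), (5795, 5795), (5796, 5796), (5797, 5797), (5798, 5798), (5799, 5799), (5800, 6800), (5801, 4854), (5802, 6802), (5803, 6804), (5804, 4855), (5805, 6808), (5806, 4857), (5807, 6811), (5808, 4858), (5809, 6805), (5810, 6815), (5811, 6817), (5812, 4860), (5813, 5813), (5814, 6820), (5815, 4862), (5816, 5816), (5817, 6826), (5818, 6827), (5819, 4865), (5820, 6829), (5821, 4866), (5822,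 5822), (5823, 5823)]
    ⟨e3 q5760 (flp_i L136297) q4818, e3 q5761 L136313 q5761, e3 q5762 L145313 q6762, e3 q5763 L145336 q6764, e3 q5764 (flp_i L136330) q4820, e3 q5765 L136348 q5765, e3 q5766 L145369 q6767, e3 q5767 (flp_i L136357) q4822, e3 q5768 L136374 q5768, e3 q5769 L145404 q6771, e3 q5770 L145411 q6772, e3 q5771 (flp_i L136389) q4825, e3 q5772 L145429 q6775, e3 q5773 L145435 q6776, e3 q5774 (flp_i L136406) q4827, e3 q5775 L145450 q6778, e3 q5776 (flp_i L136420) q4828, e3 q5777 (flp_i L145422) q6773, e3 q5778 L145464 q6780, e3 q5779 (flp_i L136440) q4830, e3 q5780 L136456 q5780, e3 q5781 (flp_i L136457) q4833, e3 q5782 L136472 q5782, e3 q5783 L136478 q5783, e3 q5784 (flp_i L136479) q4836, e3 q5785 L136493 q5785, e3 q5786 (flp_i L136494) q4839, e3 q5787 (flp_i L136499) q4840, e3 q5788 L136510 q4846, e3 q5789 (flp_i L136512) q4842, e3 q5790 (flp_i L145532) q6788, e3 q5791 (flp_i L136523) q4844, e3 q5792 (flp_i L145540) q6789, e3 q5793 (flp_i L136537) q4847, e3 q5794 L136555 q5794,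 e3 q5795 L136560 q5795, e3 q5796 L136569 q5796, e3 q5797 L136576 q5797, e3 q5798 L136580 q5798, e3 q5799 L136584 q5799, e3 q5800 L145602 q6800, e3 q5801 (flp_i L136591) q4854, e3 q5802 L145614 q6802, e3 q5803 L145625 q6804, e3 q5804 (flp_i L136609) q4855, e3 q5805 L145648 q6808, e3 q5806 (flp_i L136619) q4857, e3 q5807 L145664 q6811, e3 q5808 (flp_i L136631) q4858, e3 q5809 (flp_i L145636) q6805, e3 q5810 L145691 q6815, e3 q5811 L145708 q6817, e3 q5812 (flp_i L136658) q4860, e3 q5813 L136674 q5813, e3 q5814 L145736 q6820, e3 q5815 (flp_i L136682) q4862, e3 q5816 L136696 q5816, e3 q5817 L145778 q6826, e3 q5818 L145786 q6827, e3 q5819 (flp_i L136711) q4865, e3 q5820 L145815 q6829, e3 q5821 (flp_i L136728) q4866, e3 q5822 L136745 q5822, e3 q5823 L136751 q5823, trivial⟩ (by decide +kernel)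

theorem ce_i_91 : ∀ r, r < 64 → sm gi (Qf (5824 + r)) = Qf (tab Gen.i (5824 + r)) :=
  edges_tab (sm gi) Qf (tab Gen.i) 5824 [(5824, 4869), (5825, 5825), (5826, 5826), (5827, 6836), (5828, 4872), (5829, 4876), (5830, 6838), (5831, 4874), (5832, 6837), (5833, 4877), (5834, 5834), (5835, 5835), (5836, 5836), (5837, 5837), (5838, 5838), (5839, 4883), (5840, 4888), (5841, 4886), (5842, 6848), (5843, 6849), (5844, 5844), (5845, 5845), (5846, 5846), (5847, 5847), (5848, 5848), (5849, 5849), (5850, 5850), (5851, 6859), (5852, 4895), (5853, 6864), (5854, 6865), (5855, 4897), (5856, 6867), (5857, 4898), (5858, 5858), (5859, 5859), (5860, 4901), (5861, 5861), (5862, 5862), (5863, 6874), (5864, 6875), (5865, 6876), (5866, 4904), (5867, 4905), (5868, 6878), (5869, 4907), (5870, 5870), (5871, 5871), (5872, 5872), (5873, 5873), (5874, 5874), (5875, 5875), (5876, 5876), (5877, 5877), (5878, 5878), (5879, 5879), (5880, 5880), (5881, 5881), (5882, 5882), (5883, 5883), (5884, 5884), (5885, 5885), (5886,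 5886), (5887, 5887)]
    ⟨e3 q5824 (flp_i L136754) q4869, e3 q5825 L136767 q5825, e3 q5826 L136773 q5826, e3 q5827 L145890 q6836, e3 q5828 (flp_i L136781) q4872, e3 q5829 L136792 q4876, e3 q5830 L145905 q6838, e3 q5831 (flp_i L136800) q4874, e3 q5832 (flp_i L145903) q6837, e3 q5833 (flp_i L136814) q4877, e3 q5834 L136834 q5834, e3 q5835 L136839 q5835, e3 q5836 L136849 q5836, e3 q5837 L136856 q5837, e3 q5838 L136862 q5838, e3 q5839 (flp_i L136865) q4883, e3 q5840 L136874 q4888, e3 q5841 (flp_i L136876) q4886, e3 q5842 (flp_i L145990) q6848, e3 q5843 (flp_i L145994) q6849, e3 q5844 L136898 q5844, e3 q5845 L136903 q5845, e3 q5846 L136906 q5846, e3 q5847 L136914 q5847, e3 q5848 L136919 q5848, e3 q5849 L136924 q5849, e3 q5850 L136930 q5850, e3 q5851 L146059 q6859, e3 q5852 (flp_i L136937) q4895, e3 q5853 L146088 q6864, e3 q5854 L146095 q6865, e3 q5855 (flp_i L136953) q4897, e3 q5856 L146106 q6867, e3 q5857 (flp_i L136968) q4898, e3 q5858 L136984 q5858, e3 q5859 L136990 q5859, e3 q5860 (flp_i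 L136994) q4901, e3 q5861 L137012 q5861, e3 q5862 L137018 q5862, e3 q5863 L146159 q6874, e3 q5864 L146167 q6875, e3 q5865 L146176 q6876, e3 q5866 (flp_i L137040) q4904, e3 q5867 (flp_i L137048) q4905, e3 q5868 (flp_i L146198) q6878, e3 q5869 (flp_i L137063) q4907, e3 q5870 L137078 q5870, e3 q5871 L137083 q5871, e3 q5872 L137091 q5872, e3 q5873 L137100 q5873, e3 q5874 L137108 q5874, e3 q5875 L137116 q5875, e3 q5876 L137125 q5876, e3 q5877 L137132 q5877, e3 q5878 L137138 q5878, e3 q5879 L137146 q5879, e3 q5880 L137155 q5880, e3 q5881 L137161 q5881, e3 q5882 L137168 q5882, e3 q5883 L137174 q5883, e3 q5884 L137179 q5884, e3 q5885 L137183 q5885, e3 q5886 L137190 q5886, e3 q5887 L137198 q5887, trivial⟩ (by decide +kernel)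

theorem ce_i_92 : ∀ r, r < 64 → sm gi (Qf (5888 + r)) = Qf (tab Gen.i (5888 + r)) :=
  edges_tab (sm gi) Qf (tab Gen.i) 5888 [(5888, 5888), (5889, 5889), (5890, 5890), (5891, 5891), (5892, 4927), (5893, 6901), (5894, 4928), (5895, 6879), (5896, 4930), (5897, 6905), (5898, 4931), (5899, 5899), (5900, 4934), (5901, 6907), (5902, 4936), (5903, 5903), (5904, 6909), (5905, 4938), (5906, 5906), (5907, 4941), (5908, 6913), (5909, 4943), (5910, 5910), (5911, 5911), (5912, 4946), (5913, 5913), (5914, 4949), (5915, 5915), (5916, 5916), (5917, 5917), (5918, 6915), (5919, 4953), (5920, 5920), (5921, 4956), (5922, 4957), (5923, 5923), (5924, 6917), (5925, 4959), (5926, 5926), (5927, 4962), (5928, 5928), (5929, 5929), (5930, 6921), (5931, 5176), (5932, 6924), (5933, 6927), (5934, 4967), (5935, 6929), (5936, 6932), (5937, 4969), (5938, 6935), (5939, 6937), (5940, 4970), (5941, 6939), (5942, 4972), (5943, 6943), (5944, 4974), (5945, 6946), (5946, 4975), (5947, 5947), (5948, 6828), (5949, 6950), (5950,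 4977), (5951, 5951)]
    ⟨e3 q5888 L137205 q5888, e3 q5889 L137211 q5889, e3 q5890 L137218 q5890, e3 q5891 L137226 q5891, e3 q5892 (flp_i L137227) q4927, e3 q5893 L146426 q6901, e3 q5894 (flp_i L137250) q4928, e3 q5895 (flp_i L146208) q6879, e3 q5896 (flp_i L137268) q4930, e3 q5897 L146464 q6905, e3 q5898 (flp_i L137283) q4931, e3 q5899 L137299 q5899, e3 q5900 (flp_i L137300) q4934, e3 q5901 L146485 q6907, e3 q5902 (flp_i L137326) q4936, e3 q5903 L137347 q5903, e3 q5904 L146516 q6909, e3 q5905 (flp_i L137359) q4938, e3 q5906 L137377 q5906, e3 q5907 (flp_i L137378) q4941, e3 q5908 L146571 q6913, e3 q5909 (flp_i L137402) q4943, e3 q5910 L137423 q5910, e3 q5911 L137435 q5911, e3 q5912 (flp_i L137436) q4946, e3 q5913 L137464 q5913, e3 q5914 (flp_i L137465) q4949, e3 q5915 L137489 q5915, e3 q5916 L137498 q5916, e3 q5917 L137514 q5917, e3 q5918 L146596 q6915, e3 q5919 (flp_i L137527) q4953, e3 q5920 L137551 q5920, e3 q5921 (flp_i L137552) q4956, e3 q5922 (flp_i L137564) q4957, e3 q5923 L137590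 q5923, e3 q5924 L146623 q6917, e3 q5925 (flp_i L137603) q4959, e3 q5926 L137624 q5926, e3 q5927 (flp_i L137625) q4962, e3 q5928 L137640 q5928, e3 q5929 L137644 q5929, e3 q5930 L146668 q6921, e3 q5931 L137665 q5176, e3 q5932 L146702 q6924, e3 q5933 L146730 q6927, e3 q5934 (flp_i L137690) q4967, e3 q5935 L146750 q6929, e3 q5936 L146781 q6932, e3 q5937 (flp_i L137720) q4969, e3 q5938 L146803 q6935, e3 q5939 L146821 q6937, e3 q5940 (flp_i L137746) q4970, e3 q5941 L146841 q6939, e3 q5942 (flp_i L137767) q4972, e3 q5943 L146878 q6943, e3 q5944 (flp_i L137785) q4974, e3 q5945 L146906 q6946, e3 q5946 (flp_i L137802) q4975, e3 q5947 L137820 q5947, e3 q5948 (flp_i L145811) q6828, e3 q5949 L146941 q6950, e3 q5950 (flp_i L137835) q4977, e3 q5951 L137851 q5951, trivial⟩ (by decide +kernel)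

theorem ce_i_93 : ∀ r, r < 64 → sm gi (Qf (5952 + r)) = Qf (tab Gen.i (5952 + r)) :=
  edges_tab (sm gi) Qf (tab Gen.i) 5952 [(5952, 6951), (5953, 4979), (5954, 5954), (5955, 6954), (5956, 6957), (5957, 4983), (5958, 6960), (5959, 6962), (5960, 4984), (5961, 6966), (5962, 4986), (5963, 6968), (5964, 6969), (5965, 4987), (5966, 6973), (5967, 6975), (5968, 4989), (5969, 6978), (5970, 4990), (5971, 6963), (5972, 4992), (5973, 5973), (5974, 6981), (5975, 4994), (5976, 5976), (5977, 4997), (5978, 5978), (5979, 5979), (5980, 6987), (5981, 6988), (5982, 5000), (5983, 6991), (5984, 5002), (5985, 5985), (5986, 6993), (5987, 5004), (5988, 5988), (5989, 6996), (5990, 5007), (5991, 6997), (5992, 6998), (5993, 5008), (5994, 7001), (5995, 7002), (5996, 5010), (5997, 7004), (5998, 5011), (5999, 5023), (6000, 7006), (6001, 7007), (6002, 5013), (6003, 7010), (6004, 5015), (6005, 5016), (6006, 6999), (6007, 7014), (6008, 7015), (6009, 5018), (6010, 7017), (6011, 5019), (6012, 7003), (6013, 7020), (6014,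 5021), (6015, 7005)]
    ⟨e3 q5952 L146949 q6951, e3 q5953 (flp_i L137862) q4979, e3 q5954 L137881 q5954, e3 q5955 L146983 q6954, e3 q5956 L147022 q6957, e3 q5957 (flp_i L137901) q4983, e3 q5958 L147051 q6960, e3 q5959 L147073 q6962, e3 q5960 (flp_i L137927) q4984, e3 q5961 L147117 q6966, e3 q5962 (flp_i L137943) q4986, e3 q5963 L147135 q6968, e3 q5964 L147147 q6969, e3 q5965 (flp_i L137978) q4987, e3 q5966 L147185 q6973, e3 q5967 L147207 q6975, e3 q5968 (flp_i L138002) q4989, e3 q5969 L147241 q6978, e3 q5970 (flp_i L138020) q4990, e3 q5971 (flp_i L147088) q6963, e3 q5972 (flp_i L138036) q4992, e3 q5973 L138057 q5973, e3 q5974 L147270 q6981, e3 q5975 (flp_i L138069) q4994, e3 q5976 L138083 q5976, e3 q5977 (flp_i L138084) q4997, e3 q5978 L138099 q5978, e3 q5979 L138105 q5979, e3 q5980 L147336 q6987, e3 q5981 L147350 q6988, e3 q5982 (flp_i L138135) q5000, e3 q5983 L147395 q6991, e3 q5984 (flp_i L138152) q5002, e3 q5985 L138170 q5985, e3 q5986 L147416 q6993, e3 q5987 (flp_i L138178) q5004,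 e3 q5988 L138192 q5988, e3 q5989 L147440 q6996, e3 q5990 (flp_i L138207) q5007, e3 q5991 L147454 q6997, e3 q5992 L147467 q6998, e3 q5993 (flp_i L138246) q5008, e3 q5994 L147503 q7001, e3 q5995 L147516 q7002, e3 q5996 (flp_i L138281) q5010, e3 q5997 L147538 q7004, e3 q5998 (flp_i L138301) q5011, e3 q5999 L138316 q5023, e3 q6000 L147559 q7006, e3 q6001 L147573 q7007, e3 q6002 (flp_i L138345) q5013, e3 q6003 L147610 q7010, e3 q6004 (flp_i L138369) q5015, e3 q6005 (flp_i L138379) q5016, e3 q6006 (flp_i L147488) q6999, e3 q6007 L147658 q7014, e3 q6008 L147668 q7015, e3 q6009 (flp_i L138423) q5018, e3 q6010 L147690 q7017, e3 q6011 (flp_i L138447) q5019, e3 q6012 (flp_i L147536) q7003, e3 q6013 L147722 q7020, e3 q6014 (flp_i L138477) q5021, e3 q6015 (flp_i L147557) q7005, trivial⟩ (by decide +kernel)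

theorem ce_i_94 : ∀ r, r < 64 → sm gi (Qf (6016 + r)) = Qf (tab Gen.i (6016 + r)) :=
  edges_tab (sm gi) Qf (tab Gen.i) 6016 [(6016, 6016), (6017, 5026), (6018, 6018), (6019, 6019), (6020, 6020), (6021, 6021), (6022, 6022), (6023, 5032), (6024, 5033), (6025, 6025), (6026, 7027), (6027, 5035), (6028, 6028), (6029, 5038), (6030, 6030), (6031, 6031), (6032, 6032), (6033, 5043), (6034, 6034), (6035, 6035), (6036, 5161), (6037, 7036), (6038, 7039), (6039, 5049), (6040, 5177), (6041, 7042), (6042, 7045), (6043, 5051), (6044, 7048), (6045, 7050), (6046, 5052), (6047, 7054), (6048, 5054), (6049, 7057), (6050, 7059), (6051, 5055), (6052, 7063), (6053, 7066), (6054, 5057), (6055, 7069), (6056, 5058), (6057, 7051), (6058, 7073), (6059, 5060), (6060, 7076), (6061, 5061), (6062, 6062), (6063, 7080), (6064, 7082), (6065, 5063), (6066, 6066), (6067, 7085), (6068, 5065), (6069, 6069), (6070, 7091), (6071, 6761), (6072, 5068), (6073, 7092), (6074, 5069), (6075, 6075), (6076, 6076), (6077, 5072), (6078,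 6078), (6079, 6079)]
    ⟨e3 q6016 L138505 q6016, e3 q6017 (flp_i L138506) q5026, e3 q6018 L138532 q6018, e3 q6019 L138537 q6019, e3 q6020 L138551 q6020, e3 q6021 L138558 q6021, e3 q6022 L138568 q6022, e3 q6023 (flp_i L138569) q5032, e3 q6024 (flp_i L138583) q5033, e3 q6025 L138612 q6025, e3 q6026 L147800 q7027, e3 q6027 (flp_i L138630) q5035, e3 q6028 L138652 q6028, e3 q6029 (flp_i L138653) q5038, e3 q6030 L138669 q6030, e3 q6031 L138674 q6031, e3 q6032 L138691 q6032, e3 q6033 (flp_i L138694) q5043, e3 q6034 L138716 q6034, e3 q6035 L138723 q6035, e3 q6036 L138730 q5161, e3 q6037 L147898 q7036, e3 q6038 L147920 q7039, e3 q6039 (flp_i L138749) q5049, e3 q6040 L138768 q5177, e3 q6041 L147953 q7042, e3 q6042 L147980 q7045, e3 q6043 (flp_i L138788) q5051, e3 q6044 L148002 q7048, e3 q6045 L148017 q7050, e3 q6046 (flp_i L138810) q5052, e3 q6047 L148053 q7054, e3 q6048 (flp_i L138826) q5054, e3 q6049 L148079 q7057, e3 q6050 L148097 q7059, e3 q6051 (flp_i L138849) q5055, e3 q6052 L148127 q7063,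 e3 q6053 L148145 q7066, e3 q6054 (flp_i L138867) q5057, e3 q6055 L148165 q7069, e3 q6056 (flp_i L138881) q5058, e3 q6057 (flp_i L148032) q7051, e3 q6058 L148195 q7073, e3 q6059 (flp_i L138905) q5060, e3 q6060 L148223 q7076, e3 q6061 (flp_i L138921) q5061, e3 q6062 L138938 q6062, e3 q6063 L148250 q7080, e3 q6064 L148263 q7082, e3 q6065 (flp_i L138950) q5063, e3 q6066 L138964 q6066, e3 q6067 L148288 q7085, e3 q6068 (flp_i L138972) q5065, e3 q6069 L138986 q6069, e3 q6070 L148333 q7091, e3 q6071 L145311 q6761, e3 q6072 (flp_i L139001) q5068, e3 q6073 L148342 q7092, e3 q6074 (flp_i L139016) q5069, e3 q6075 L139031 q6075, e3 q6076 L139036 q6076, e3 q6077 (flp_i L139039) q5072, e3 q6078 L139054 q6078, e3 q6079 L139060 q6079, trivial⟩ (by decide +kernel)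

theorem ce_i_95 : ∀ r, r < 64 → sm gi (Qf (6080 + r)) = Qf (tab Gen.i (6080 + r)) :=
  edges_tab (sm gi) Qf (tab Gen.i) 6080 [(6080, 7096), (6081, 7097), (6082, 5076), (6083, 7099), (6084, 7100), (6085, 5077), (6086, 7104), (6087, 7106), (6088, 5079), (6089, 7109), (6090, 5080), (6091, 5092), (6092, 7111), (6093, 5082), (6094, 7115), (6095, 7116), (6096, 5084), (6097, 7119), (6098, 5085), (6099, 7101), (6100, 7122), (6101, 7124), (6102, 5087), (6103, 7127), (6104, 5088), (6105, 7107), (6106, 7129), (6107, 5090), (6108, 7110), (6109, 7132), (6110, 5093), (6111, 6111), (6112, 5096), (6113, 6113), (6114, 6114), (6115, 6115), (6116, 6116), (6117, 6117), (6118, 7138), (6119, 5102), (6120, 5104), (6121, 5106), (6122, 5107), (6123, 5109), (6124, 5110), (6125, 5125), (6126, 7142), (6127, 5112), (6128, 7144), (6129, 5113), (6130, 5131), (6131, 7146), (6132, 5115), (6133, 5134), (6134, 5118), (6135, 7139), (6136, 7150), (6137, 5120), (6138, 5121), (6139, 7140), (6140, 7153), (6141, 5123), (6142,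 7141), (6143, 7157)]
    ⟨e3 q6080 L148375 q7096, e3 q6081 L148390 q7097, e3 q6082 (flp_i L139092) q5076, e3 q6083 L148418 q7099, e3 q6084 L148432 q7100, e3 q6085 (flp_i L139131) q5077, e3 q6086 L148481 q7104, e3 q6087 L148503 q7106, e3 q6088 (flp_i L139159) q5079, e3 q6089 L148538 q7109, e3 q6090 (flp_i L139178) q5080, e3 q6091 L139193 q5092, e3 q6092 L148555 q7111, e3 q6093 (flp_i L139208) q5082, e3 q6094 L148607 q7115, e3 q6095 L148617 q7116, e3 q6096 (flp_i L139241) q5084, e3 q6097 L148656 q7119, e3 q6098 (flp_i L139265) q5085, e3 q6099 (flp_i L148453) q7101, e3 q6100 L148687 q7122, e3 q6101 L148704 q7124, e3 q6102 (flp_i L139296) q5087, e3 q6103 L148730 q7127, e3 q6104 (flp_i L139313) q5088, e3 q6105 (flp_i L148523) q7107, e3 q6106 L148749 q7129, e3 q6107 (flp_i L139338) q5090, e3 q6108 (flp_i L148553) q7110, e3 q6109 L148775 q7132, e3 q6110 (flp_i L139363) q5093, e3 q6111 L139380 q6111, e3 q6112 (flp_i L139381) q5096, e3 q6113 L139399 q6113, e3 q6114 L139404 q6114, e3 q6115 L139415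 q6115, e3 q6116 L139422 q6116, e3 q6117 L139434 q6117, e3 q6118 L148834 q7138, e3 q6119 (flp_i L139449) q5102, e3 q6120 (flp_i L139462) q5104, e3 q6121 (flp_i L139471) q5106, e3 q6122 (flp_i L139486) q5107, e3 q6123 (flp_i L139498) q5109, e3 q6124 (flp_i L139512) q5110, e3 q6125 L139529 q5125, e3 q6126 L148891 q7142, e3 q6127 (flp_i L139543) q5112, e3 q6128 L148915 q7144, e3 q6129 (flp_i L139569) q5113, e3 q6130 L139587 q5131, e3 q6131 L148941 q7146, e3 q6132 (flp_i L139602) q5115, e3 q6133 L139613 q5134, e3 q6134 (flp_i L139615) q5118, e3 q6135 (flp_i L148861) q7139, e3 q6136 L148981 q7150, e3 q6137 (flp_i L139648) q5120, e3 q6138 (flp_i L139660) q5121, e3 q6139 (flp_i L148877) q7140, e3 q6140 L149021 q7153, e3 q6141 (flp_i L139697) q5123, e3 q6142 (flp_i L148889) q7141, e3 q6143 L149068 q7157, trivial⟩ (by decide +kernel)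

theorem ce_i_96 : ∀ r, r < 64 → sm gi (Qf (6144 + r)) = Qf (tab Gen.i (6144 + r)) :=
  edges_tab (sm gi) Qf (tab Gen.i) 6144 [(6144, 5126), (6145, 7159), (6146, 5127), (6147, 7143), (6148, 7161), (6149, 5129), (6150, 7145), (6151, 5132), (6152, 7147), (6153, 7148), (6154, 5135), (6155, 6155), (6156, 6156), (6157, 6157), (6158, 6158), (6159, 6159), (6160, 5144), (6161, 5162), (6162, 7172), (6163, 7175), (6164, 5149), (6165, 7178), (6166, 7180), (6167, 5150), (6168, 7182), (6169, 5153), (6170, 7185), (6171, 7186), (6172, 5154), (6173, 7189), (6174, 7191), (6175, 5156), (6176, 5157), (6177, 5398), (6178, 5509), (6179, 6654), (6180, 7033), (6181, 6738), (6182, 5166), (6183, 7193), (6184, 5168), (6185, 5169), (6186, 7194), (6187, 7195), (6188, 5171), (6189, 5172), (6190, 5182), (6191, 5185), (6192, 6592), (6193, 5187), (6194, 5188), (6195, 7196), (6196, 5192), (6197, 7199), (6198, 5194), (6199, 6199), (6200, 5196), (6201, 5198), (6202, 6202), (6203, 7201), (6204, 5200), (6205, 6205), (6206,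 6206), (6207, 5205)]
    ⟨e3 q6144 (flp_i L139724) q5126, e3 q6145 L149083 q7159, e3 q6146 (flp_i L139745) q5127, e3 q6147 (flp_i L148913) q7143, e3 q6148 L149106 q7161, e3 q6149 (flp_i L139773) q5129, e3 q6150 (flp_i L148939) q7145, e3 q6151 (flp_i L139788) q5132, e3 q6152 (flp_i L148960) q7147, e3 q6153 (flp_i L148964) q7148, e3 q6154 (flp_i L139808) q5135, e3 q6155 L139830 q6155, e3 q6156 L139835 q6156, e3 q6157 L139849 q6157, e3 q6158 L139854 q6158, e3 q6159 L139859 q6159, e3 q6160 (flp_i L139861) q5144, e3 q6161 L139881 q5162, e3 q6162 L149194 q7172, e3 q6163 L149222 q7175, e3 q6164 (flp_i L139898) q5149, e3 q6165 L149246 q7178, e3 q6166 L149265 q7180, e3 q6167 (flp_i L139919) q5150, e3 q6168 L149278 q7182, e3 q6169 (flp_i L139938) q5153, e3 q6170 L149319 q7185, e3 q6171 L149330 q7186, e3 q6172 (flp_i L139972) q5154, e3 q6173 L149370 q7189, e3 q6174 L149387 q7191, e3 q6175 (flp_i L140001) q5156, e3 q6176 (flp_i L140008) q5157, e3 q6177 L140025 q5398, e3 q6178 L140042 q5509, e3 q6179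 (flp_i L144407) q6654, e3 q6180 (flp_i L147879) q7033, e3 q6181 (flp_i L145108) q6738, e3 q6182 (flp_i L140078) q5166, e3 q6183 L149409 q7193, e3 q6184 (flp_i L140103) q5168, e3 q6185 (flp_i L140117) q5169, e3 q6186 L149423 q7194, e3 q6187 L149435 q7195, e3 q6188 (flp_i L140157) q5171, e3 q6189 (flp_i L140163) q5172, e3 q6190 (flp_i L140176) q5182, e3 q6191 (flp_i L140187) q5185, e3 q6192 (flp_i L143795) q6592, e3 q6193 (flp_i L140210) q5187, e3 q6194 (flp_i L140224) q5188, e3 q6195 L149448 q7196, e3 q6196 (flp_i L140248) q5192, e3 q6197 L149494 q7199, e3 q6198 (flp_i L140268) q5194, e3 q6199 L140287 q6199, e3 q6200 (flp_i L140288) q5196, e3 q6201 (flp_i L140303) q5198, e3 q6202 L140332 q6202, e3 q6203 L149517 q7201, e3 q6204 (flp_i L140345) q5200, e3 q6205 L140373 q6205, e3 q6206 L140386 q6206, e3 q6207 (flp_i L140387) q5205, trivial⟩ (by decide +kernel)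

theorem ce_i_97 : ∀ r, r < 64 → sm gi (Qf (6208 + r)) = Qf (tab Gen.i (6208 + r)) :=
  edges_tab (sm gi) Qf (tab Gen.i) 6208 [(6208, 6208), (6209, 6209), (6210, 7204), (6211, 7206), (6212, 5209), (6213, 7208), (6214, 5210), (6215, 7211), (6216, 7212), (6217, 5211), (6218, 7215), (6219, 5214), (6220, 5215), (6221, 6469), (6222, 7217), (6223, 5217), (6224, 5599), (6225, 5219), (6226, 5600), (6227, 5222), (6228, 7221), (6229, 5224), (6230, 7224), (6231, 5226), (6232, 5227), (6233, 7219), (6234, 5440), (6235, 5601), (6236, 7227), (6237, 5232), (6238, 6238), (6239, 7229), (6240, 5234), (6241, 6241), (6242, 5243), (6243, 5238), (6244, 5394), (6245, 7233), (6246, 5240), (6247, 7149), (6248, 5389), (6249, 6249), (6250, 5248), (6251, 6251), (6252, 6252), (6253, 6253), (6254, 5641), (6255, 7242), (6256, 7245), (6257, 5254), (6258, 7247), (6259, 7249), (6260, 5256), (6261, 7252), (6262, 7254), (6263, 5257), (6264, 7258), (6265, 5259), (6266, 7261), (6267, 7263), (6268, 5260), (6269, 7267), (6270,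 7270), (6271, 5262)]
    ⟨e3 q6208 L140408 q6208, e3 q6209 L140420 q6209, e3 q6210 L149561 q7204, e3 q6211 L149588 q7206, e3 q6212 (flp_i L140450) q5209, e3 q6213 L149614 q7208, e3 q6214 (flp_i L140476) q5210, e3 q6215 L149644 q7211, e3 q6216 L149654 q7212, e3 q6217 (flp_i L140510) q5211, e3 q6218 L149688 q7215, e3 q6219 (flp_i L140532) q5214, e3 q6220 (flp_i L140548) q5215, e3 q6221 (flp_i L142720) q6469, e3 q6222 L149710 q7217, e3 q6223 (flp_i L140577) q5217, e3 q6224 L140597 q5599, e3 q6225 (flp_i L140599) q5219, e3 q6226 L140618 q5600, e3 q6227 (flp_i L140620) q5222, e3 q6228 L149754 q7221, e3 q6229 (flp_i L140644) q5224, e3 q6230 L149786 q7224, e3 q6231 (flp_i L140660) q5226, e3 q6232 (flp_i L140670) q5227, e3 q6233 (flp_i L149742) q7219, e3 q6234 L140698 q5440, e3 q6235 L140705 q5601, e3 q6236 L149814 q7227, e3 q6237 (flp_i L140718) q5232, e3 q6238 L140736 q6238, e3 q6239 L149833 q7229, e3 q6240 (flp_i L140746) q5234, e3 q6241 L140762 q6241, e3 q6242 L140775 q5243, e3 q6243 (flp_i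 L140777) q5238, e3 q6244 L140797 q5394, e3 q6245 L149871 q7233, e3 q6246 (flp_i L140807) q5240, e3 q6247 (flp_i L148979) q7149, e3 q6248 L140833 q5389, e3 q6249 L140845 q6249, e3 q6250 (flp_i L140846) q5248, e3 q6251 L140866 q6251, e3 q6252 L140871 q6252, e3 q6253 L140882 q6253, e3 q6254 L140892 q5641, e3 q6255 L149961 q7242, e3 q6256 L149987 q7245, e3 q6257 (flp_i L140912) q5254, e3 q6258 L150004 q7247, e3 q6259 L150026 q7249, e3 q6260 (flp_i L140943) q5256, e3 q6261 L150054 q7252, e3 q6262 L150070 q7254, e3 q6263 (flp_i L140973) q5257, e3 q6264 L150105 q7258, e3 q6265 (flp_i L140989) q5259, e3 q6266 L150133 q7261, e3 q6267 L150151 q7263, e3 q6268 (flp_i L141018) q5260, e3 q6269 L150187 q7267, e3 q6270 L150205 q7270, e3 q6271 (flp_i L141038) q5262, trivial⟩ (by decide +kernel)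

theorem ce_i_98 : ∀ r, r < 64 → sm gi (Qf (6272 + r)) = Qf (tab Gen.i (6272 + r)) :=
  edges_tab (sm gi) Qf (tab Gen.i) 6272 [(6272, 7273), (6273, 5263), (6274, 7255), (6275, 7277), (6276, 5265), (6277, 7279), (6278, 5266), (6279, 7282), (6280, 7284), (6281, 5268), (6282, 5614), (6283, 7287), (6284, 5270), (6285, 5617), (6286, 7293), (6287, 6387), (6288, 5273), (6289, 7294), (6290, 5274), (6291, 5623), (6292, 5624), (6293, 5277), (6294, 5626), (6295, 5627), (6296, 7298), (6297, 5280), (6298, 7300), (6299, 5281), (6300, 7304), (6301, 7305), (6302, 5283), (6303, 7307), (6304, 5284), (6305, 5296), (6306, 7309), (6307, 5286), (6308, 7312), (6309, 7313), (6310, 5288), (6311, 7315), (6312, 5289), (6313, 7301), (6314, 7318), (6315, 7320), (6316, 5291), (6317, 7322), (6318, 5292), (6319, 7306), (6320, 7325), (6321, 5294), (6322, 7308), (6323, 7328), (6324, 5297), (6325, 5299), (6326, 5632), (6327, 5442), (6328, 5633), (6329, 5634), (6330, 5635), (6331, 5305), (6332, 6332), (6333, 5308), (6334,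 6334), (6335, 6335)]
    ⟨e3 q6272 L150227 q7273, e3 q6273 (flp_i L141052) q5263, e3 q6274 (flp_i L150088) q7255, e3 q6275 L150262 q7277, e3 q6276 (flp_i L141079) q5265, e3 q6277 L150286 q7279, e3 q6278 (flp_i L141100) q5266, e3 q6279 L150311 q7282, e3 q6280 L150329 q7284, e3 q6281 (flp_i L141128) q5268, e3 q6282 L141148 q5614, e3 q6283 L150366 q7287, e3 q6284 (flp_i L141160) q5270, e3 q6285 L141180 q5617, e3 q6286 L150422 q7293, e3 q6287 L142054 q6387, e3 q6288 (flp_i L141197) q5273, e3 q6289 L150431 q7294, e3 q6290 (flp_i L141215) q5274, e3 q6291 L141234 q5623, e3 q6292 L141242 q5624, e3 q6293 (flp_i L141244) q5277, e3 q6294 L141261 q5626, e3 q6295 L141270 q5627, e3 q6296 L150473 q7298, e3 q6297 (flp_i L141280) q5280, e3 q6298 L150492 q7300, e3 q6299 (flp_i L141302) q5281, e3 q6300 L150534 q7304, e3 q6301 L150539 q7305, e3 q6302 (flp_i L141329) q5283, e3 q6303 L150559 q7307, e3 q6304 (flp_i L141344) q5284, e3 q6305 L141358 q5296, e3 q6306 L150579 q7309, e3 q6307 (flp_i L141365) q5286,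 e3 q6308 L150603 q7312, e3 q6309 L150613 q7313, e3 q6310 (flp_i L141392) q5288, e3 q6311 L150632 q7315, e3 q6312 (flp_i L141410) q5289, e3 q6313 (flp_i L150513) q7301, e3 q6314 L150661 q7318, e3 q6315 L150676 q7320, e3 q6316 (flp_i L141439) q5291, e3 q6317 L150687 q7322, e3 q6318 (flp_i L141452) q5292, e3 q6319 (flp_i L150557) q7306, e3 q6320 L150710 q7325, e3 q6321 (flp_i L141473) q5294, e3 q6322 (flp_i L150577) q7308, e3 q6323 L150738 q7328, e3 q6324 (flp_i L141497) q5297, e3 q6325 (flp_i L141507) q5299, e3 q6326 L141525 q5632, e3 q6327 L141533 q5442, e3 q6328 L141547 q5633, e3 q6329 L141555 q5634, e3 q6330 L141562 q5635, e3 q6331 (flp_i L141565) q5305, e3 q6332 L141583 q6332, e3 q6333 (flp_i L141584) q5308, e3 q6334 L141600 q6334, e3 q6335 L141605 q6335, trivial⟩ (by decide +kernel)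

theorem ce_i_99 : ∀ r, r < 64 → sm gi (Qf (6336 + r)) = Qf (tab Gen.i (6336 + r)) :=
  edges_tab (sm gi) Qf (tab Gen.i) 6336 [(6336, 5311), (6337, 5313), (6338, 5327), (6339, 7338), (6340, 5315), (6341, 5316), (6342, 5333), (6343, 5318), (6344, 5336), (6345, 5321), (6346, 7336), (6347, 5323), (6348, 7337), (6349, 5325), (6350, 5496), (6351, 7347), (6352, 5328), (6353, 5329), (6354, 7339), (6355, 5331), (6356, 7340), (6357, 7341), (6358, 5334), (6359, 7342), (6360, 5485), (6361, 5337), (6362, 5637), (6363, 5472), (6364, 6364), (6365, 6365), (6366, 6366), (6367, 6367), (6368, 7360), (6369, 5351), (6370, 7362), (6371, 5352), (6372, 7364), (6373, 5354), (6374, 7367), (6375, 7370), (6376, 5356), (6377, 7372), (6378, 5357), (6379, 7363), (6380, 5359), (6381, 7376), (6382, 7377), (6383, 5361), (6384, 5602), (6385, 5363), (6386, 7382), (6387, 6287), (6388, 5366), (6389, 7383), (6390, 5367), (6391, 5647), (6392, 5648), (6393, 5370), (6394, 5650), (6395, 5651), (6396, 7387), (6397, 5373), (6398,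 5381), (6399, 7226)]
    ⟨e3 q6336 (flp_i L141606) q5311, e3 q6337 (flp_i L141614) q5313, e3 q6338 L141635 q5327, e3 q6339 L150835 q7338, e3 q6340 (flp_i L141646) q5315, e3 q6341 (flp_i L141655) q5316, e3 q6342 L141669 q5333, e3 q6343 (flp_i L141671) q5318, e3 q6344 L141689 q5336, e3 q6345 (flp_i L141691) q5321, e3 q6346 (flp_i L150821) q7336, e3 q6347 (flp_i L141704) q5323, e3 q6348 (flp_i L150833) q7337, e3 q6349 (flp_i L141723) q5325, e3 q6350 L141741 q5496, e3 q6351 L150917 q7347, e3 q6352 (flp_i L141752) q5328, e3 q6353 (flp_i L141762) q5329, e3 q6354 (flp_i L150852) q7339, e3 q6355 (flp_i L141781) q5331, e3 q6356 (flp_i L150864) q7340, e3 q6357 (flp_i L150868) q7341, e3 q6358 (flp_i L141798) q5334, e3 q6359 (flp_i L150879) q7342, e3 q6360 L141818 q5485, e3 q6361 (flp_i L141826) q5337, e3 q6362 L141849 q5637, e3 q6363 L141857 q5472, e3 q6364 L141867 q6364, e3 q6365 L141877 q6365, e3 q6366 L141884 q6366, e3 q6367 L141887 q6367, e3 q6368 L151028 q7360, e3 q6369 (flp_i L141897) q5351,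 e3 q6370 L151044 q7362, e3 q6371 (flp_i L141915) q5352, e3 q6372 L151060 q7364, e3 q6373 (flp_i L141929) q5354, e3 q6374 L151082 q7367, e3 q6375 L151104 q7370, e3 q6376 (flp_i L141949) q5356, e3 q6377 L151116 q7372, e3 q6378 (flp_i L141965) q5357, e3 q6379 (flp_i L151058) q7363, e3 q6380 (flp_i L141981) q5359, e3 q6381 L151148 q7376, e3 q6382 L151155 q7377, e3 q6383 (flp_i L142009) q5361, e3 q6384 L142027 q5602, e3 q6385 (flp_i L142029) q5363, e3 q6386 L151205 q7382, e3 q6387 (flp_i L142054) q6287, e3 q6388 (flp_i L142056) q5366, e3 q6389 L151216 q7383, e3 q6390 (flp_i L142076) q5367, e3 q6391 L142093 q5647, e3 q6392 L142099 q5648, e3 q6393 (flp_i L142107) q5370, e3 q6394 L142122 q5650, e3 q6395 L142129 q5651, e3 q6396 L151256 q7387, e3 q6397 (flp_i L142145) q5373, e3 q6398 L142163 q5381, e3 q6399 (flp_i L149812) q7226, trivial⟩ (by decide +kernel)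

theorem ce_i_100 : ∀ r, r < 64 → sm gi (Qf (6400 + r)) = Qf (tab Gen.i (6400 + r)) :=
  edges_tab (sm gi) Qf (tab Gen.i) 6400 [(6400, 7390), (6401, 5376), (6402, 7392), (6403, 5377), (6404, 7388), (6405, 5379), (6406, 7222), (6407, 5652), (6408, 5653), (6409, 5654), (6410, 5392), (6411, 5390), (6412, 7232), (6413, 7151), (6414, 5597), (6415, 7398), (6416, 7401), (6417, 5399), (6418, 7404), (6419, 7406), (6420, 5400), (6421, 7218), (6422, 5403), (6423, 7409), (6424, 7289), (6425, 5404), (6426, 7414), (6427, 7417), (6428, 5406), (6429, 7420), (6430, 5407), (6431, 5417), (6432, 7424), (6433, 5409), (6434, 7427), (6435, 5410), (6436, 7411), (6437, 7430), (6438, 7433), (6439, 5412), (6440, 7437), (6441, 7439), (6442, 5413), (6443, 7418), (6444, 7442), (6445, 5415), (6446, 7421), (6447, 7447), (6448, 7449), (6449, 5418), (6450, 5605), (6451, 7452), (6452, 5420), (6453, 5606), (6454, 7457), (6455, 7458), (6456, 5423), (6457, 7460), (6458, 5424), (6459, 5675), (6460, 5676), (6461, 5427), (6462,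 5678), (6463, 5679)]
    ⟨e3 q6400 L151281 q7390, e3 q6401 (flp_i L142178) q5376, e3 q6402 L151294 q7392, e3 q6403 (flp_i L142195) q5377, e3 q6404 (flp_i L151272) q7388, e3 q6405 (flp_i L142212) q5379, e3 q6406 (flp_i L149776) q7222, e3 q6407 L142236 q5652, e3 q6408 L142244 q5653, e3 q6409 L142257 q5654, e3 q6410 L142268 q5392, e3 q6411 (flp_i L142270) q5390, e3 q6412 (flp_i L149869) q7232, e3 q6413 (flp_i L149005) q7151, e3 q6414 L142299 q5597, e3 q6415 L151340 q7398, e3 q6416 L151364 q7401, e3 q6417 (flp_i L142317) q5399, e3 q6418 L151386 q7404, e3 q6419 L151398 q7406, e3 q6420 (flp_i L142337) q5400, e3 q6421 (flp_i L149728) q7218, e3 q6422 (flp_i L142353) q5403, e3 q6423 L151422 q7409, e3 q6424 (flp_i L150396) q7289, e3 q6425 (flp_i L142379) q5404, e3 q6426 L151466 q7414, e3 q6427 L151484 q7417, e3 q6428 (flp_i L142401) q5406, e3 q6429 L151504 q7420, e3 q6430 (flp_i L142413) q5407, e3 q6431 L142425 q5417, e3 q6432 L151534 q7424, e3 q6433 (flp_i L142435) q5409, e3 q6434 L151560 q7427,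 e3 q6435 (flp_i L142449) q5410, e3 q6436 (flp_i L151446) q7411, e3 q6437 L151584 q7430, e3 q6438 L151610 q7433, e3 q6439 (flp_i L142481) q5412, e3 q6440 L151638 q7437, e3 q6441 L151648 q7439, e3 q6442 (flp_i L142499) q5413, e3 q6443 (flp_i L151494) q7418, e3 q6444 L151662 q7442, e3 q6445 (flp_i L142515) q5415, e3 q6446 (flp_i L151518) q7421, e3 q6447 L151696 q7447, e3 q6448 L151715 q7449, e3 q6449 (flp_i L142544) q5418, e3 q6450 L142565 q5605, e3 q6451 L151751 q7452, e3 q6452 (flp_i L142576) q5420, e3 q6453 L142593 q5606, e3 q6454 L151797 q7457, e3 q6455 L151805 q7458, e3 q6456 (flp_i L142607) q5423, e3 q6457 L151815 q7460, e3 q6458 (flp_i L142623) q5424, e3 q6459 L142641 q5675, e3 q6460 L142649 q5676, e3 q6461 (flp_i L142651) q5427, e3 q6462 L142667 q5678, e3 q6463 L142673 q5679, trivial⟩ (by decide +kernel)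

theorem ce_i_101 : ∀ r, r < 64 → sm gi (Qf (6464 + r)) = Qf (tab Gen.i (6464 + r)) :=
  edges_tab (sm gi) Qf (tab Gen.i) 6464 [(6464, 7467), (6465, 7468), (6466, 7469), (6467, 5430), (6468, 5431), (6469, 6221), (6470, 5433), (6471, 5687), (6472, 5688), (6473, 5689), (6474, 5690), (6475, 5691), (6476, 5692), (6477, 7330), (6478, 5452), (6479, 7475), (6480, 7477), (6481, 5444), (6482, 7479), (6483, 5445), (6484, 5458), (6485, 7481), (6486, 5447), (6487, 5461), (6488, 7483), (6489, 5450), (6490, 7327), (6491, 7486), (6492, 5453), (6493, 7489), (6494, 5454), (6495, 7478), (6496, 7491), (6497, 5456), (6498, 7480), (6499, 5459), (6500, 7482), (6501, 7316), (6502, 5462), (6503, 5628), (6504, 5695), (6505, 5696), (6506, 5697), (6507, 5698), (6508, 7499), (6509, 5474), (6510, 5475), (6511, 5490), (6512, 5477), (6513, 5493), (6514, 5480), (6515, 5495), (6516, 5483), (6517, 7355), (6518, 7506), (6519, 5486), (6520, 7500), (6521, 5488), (6522, 7501), (6523, 5491), (6524, 7502), (6525, 7503), (6526,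 7504), (6527, 7346)]
    ⟨e3 q6464 L151871 q7467, e3 q6465 L151877 q7468, e3 q6466 L151886 q7469, e3 q6467 (flp_i L142694) q5430, e3 q6468 (flp_i L142702) q5431, e3 q6469 L142720 q6221, e3 q6470 (flp_i L142724) q5433, e3 q6471 L142741 q5687, e3 q6472 L142750 q5688, e3 q6473 L142767 q5689, e3 q6474 L142778 q5690, e3 q6475 L142786 q5691, e3 q6476 L142795 q5692, e3 q6477 (flp_i L150769) q7330, e3 q6478 L142819 q5452, e3 q6479 L151964 q7475, e3 q6480 L151981 q7477, e3 q6481 (flp_i L142840) q5444, e3 q6482 L151998 q7479, e3 q6483 (flp_i L142857) q5445, e3 q6484 L142876 q5458, e3 q6485 L152019 q7481, e3 q6486 (flp_i L142886) q5447, e3 q6487 L142900 q5461, e3 q6488 L152035 q7483, e3 q6489 (flp_i L142912) q5450, e3 q6490 (flp_i L150730) q7327, e3 q6491 L152063 q7486, e3 q6492 (flp_i L142942) q5453, e3 q6493 L152091 q7489, e3 q6494 (flp_i L142958) q5454, e3 q6495 (flp_i L151996) q7478, e3 q6496 L152107 q7491, e3 q6497 (flp_i L142984) q5456, e3 q6498 (flp_i L152017) q7480, e3 q6499 (flp_i L143004)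 q5459, e3 q6500 (flp_i L152033) q7482, e3 q6501 (flp_i L150650) q7316, e3 q6502 (flp_i L143024) q5462, e3 q6503 L143044 q5628, e3 q6504 L143056 q5695, e3 q6505 L143064 q5696, e3 q6506 L143070 q5697, e3 q6507 L143083 q5698, e3 q6508 L152174 q7499, e3 q6509 (flp_i L143098) q5474, e3 q6510 (flp_i L143106) q5475, e3 q6511 L143121 q5490, e3 q6512 (flp_i L143123) q5477, e3 q6513 L143138 q5493, e3 q6514 (flp_i L143140) q5480, e3 q6515 L143150 q5495, e3 q6516 (flp_i L143152) q5483, e3 q6517 (flp_i L150983) q7355, e3 q6518 L152230 q7506, e3 q6519 (flp_i L143174) q5486, e3 q6520 (flp_i L152189) q7500, e3 q6521 (flp_i L143190) q5488, e3 q6522 (flp_i L152199) q7501, e3 q6523 (flp_i L143206) q5491, e3 q6524 (flp_i L152207) q7502, e3 q6525 (flp_i L152213) q7503, e3 q6526 (flp_i L152220) q7504, e3 q6527 (flp_i L150915) q7346, trivial⟩ (by decide +kernel)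

theorem ce_i_102 : ∀ r, r < 64 → sm gi (Qf (6528 + r)) = Qf (tab Gen.i (6528 + r)) :=
  edges_tab (sm gi) Qf (tab Gen.i) 6528 [(6528, 7344), (6529, 5636), (6530, 7514), (6531, 5502), (6532, 7515), (6533, 7516), (6534, 5503), (6535, 5506), (6536, 5507), (6537, 7518), (6538, 5511), (6539, 7522), (6540, 7524), (6541, 5513), (6542, 7527), (6543, 5514), (6544, 6860), (6545, 7529), (6546, 5516), (6547, 5519), (6548, 7532), (6549, 5522), (6550, 7536), (6551, 7538), (6552, 5523), (6553, 6553), (6554, 7544), (6555, 7545), (6556, 5525), (6557, 7547), (6558, 5526), (6559, 6559), (6560, 6560), (6561, 5529), (6562, 6562), (6563, 6563), (6564, 7557), (6565, 7558), (6566, 5532), (6567, 7560), (6568, 5533), (6569, 5720), (6570, 5721), (6571, 5536), (6572, 5723), (6573, 5724), (6574, 7567), (6575, 7568), (6576, 7569), (6577, 5539), (6578, 5540), (6579, 7571), (6580, 5542), (6581, 5732), (6582, 5733), (6583, 5734), (6584, 5735), (6585, 5736), (6586, 5737), (6587, 5549), (6588, 5550), (6589, 5551), (6590,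 7580), (6591, 5554)]
    ⟨e3 q6528 (flp_i L150897) q7344, e3 q6529 L143253 q5636, e3 q6530 L152293 q7514, e3 q6531 (flp_i L143262) q5502, e3 q6532 L152300 q7515, e3 q6533 L152309 q7516, e3 q6534 (flp_i L143289) q5503, e3 q6535 (flp_i L143296) q5506, e3 q6536 (flp_i L143303) q5507, e3 q6537 L152325 q7518, e3 q6538 (flp_i L143323) q5511, e3 q6539 L152361 q7522, e3 q6540 L152379 q7524, e3 q6541 (flp_i L143350) q5513, e3 q6542 L152403 q7527, e3 q6543 (flp_i L143364) q5514, e3 q6544 (flp_i L146068) q6860, e3 q6545 L152415 q7529, e3 q6546 (flp_i L143384) q5516, e3 q6547 (flp_i L143393) q5519, e3 q6548 L152443 q7532, e3 q6549 (flp_i L143412) q5522, e3 q6550 L152480 q7536, e3 q6551 L152500 q7538, e3 q6552 (flp_i L143440) q5523, e3 q6553 L143459 q6553, e3 q6554 L152559 q7544, e3 q6555 L152568 q7545, e3 q6556 (flp_i L143475) q5525, e3 q6557 L152583 q7547, e3 q6558 (flp_i L143493) q5526, e3 q6559 L143510 q6559, e3 q6560 L143517 q6560, e3 q6561 (flp_i L143519) q5529, e3 q6562 L143539 q6562, e3 q6563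 L143547 q6563, e3 q6564 L152683 q7557, e3 q6565 L152692 q7558, e3 q6566 (flp_i L143569) q5532, e3 q6567 L152712 q7560, e3 q6568 (flp_i L143590) q5533, e3 q6569 L143607 q5720, e3 q6570 L143615 q5721, e3 q6571 (flp_i L143620) q5536, e3 q6572 L143640 q5723, e3 q6573 L143649 q5724, e3 q6574 L152782 q7567, e3 q6575 L152789 q7568, e3 q6576 L152796 q7569, e3 q6577 (flp_i L143677) q5539, e3 q6578 (flp_i L143684) q5540, e3 q6579 (flp_i L152815) q7571, e3 q6580 (flp_i L143692) q5542, e3 q6581 L143710 q5732, e3 q6582 L143715 q5733, e3 q6583 L143721 q5734, e3 q6584 L143732 q5735, e3 q6585 L143741 q5736, e3 q6586 L143747 q5737, e3 q6587 (flp_i L143749) q5549, e3 q6588 (flp_i L143755) q5550, e3 q6589 (flp_i L143764) q5551, e3 q6590 (flp_i L152898) q7580, e3 q6591 L143787 q5554, trivial⟩ (by decide +kernel)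

theorem ce_i_103 : ∀ r, r < 64 → sm gi (Qf (6592 + r)) = Qf (tab Gen.i (6592 + r)) :=
  edges_tab (sm gi) Qf (tab Gen.i) 6592 [(6592, 6192), (6593, 5743), (6594, 5744), (6595, 7584), (6596, 5562), (6597, 6597), (6598, 7586), (6599, 5564), (6600, 6600), (6601, 5567), (6602, 6602), (6603, 6603), (6604, 6604), (6605, 6605), (6606, 6606), (6607, 5745), (6608, 5746), (6609, 5747), (6610, 5748), (6611, 7594), (6612, 5580), (6613, 6613), (6614, 5583), (6615, 6615), (6616, 6616), (6617, 6617), (6618, 6618), (6619, 6619), (6620, 6698), (6621, 7378), (6622, 7451), (6623, 7604), (6624, 5603), (6625, 7450), (6626, 7453), (6627, 5667), (6628, 5668), (6629, 5669), (6630, 5664), (6631, 5665), (6632, 5666), (6633, 7618), (6634, 7619), (6635, 5611), (6636, 7621), (6637, 5612), (6638, 7285), (6639, 7286), (6640, 5615), (6641, 7288), (6642, 7626), (6643, 7627), (6644, 6658), (6645, 5618), (6646, 5621), (6647, 7295), (6648, 7296), (6649, 7297), (6650, 7497), (6651, 7329), (6652, 7629), (6653, 5638), (6654,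 6179), (6655, 7632)]
    ⟨e3 q6592 L143795 q6192, e3 q6593 L143811 q5743, e3 q6594 L143818 q5744, e3 q6595 L152941 q7584, e3 q6596 (flp_i L143832) q5562, e3 q6597 L143851 q6597, e3 q6598 L152961 q7586, e3 q6599 (flp_i L143860) q5564, e3 q6600 L143875 q6600, e3 q6601 (flp_i L143876) q5567, e3 q6602 L143896 q6602, e3 q6603 L143903 q6603, e3 q6604 L143913 q6604, e3 q6605 L143920 q6605, e3 q6606 L143932 q6606, e3 q6607 L143942 q5745, e3 q6608 L143950 q5746, e3 q6609 L143963 q5747, e3 q6610 L143968 q5748, e3 q6611 L153030 q7594, e3 q6612 (flp_i L143979) q5580, e3 q6613 L143996 q6613, e3 q6614 (flp_i L143997) q5583, e3 q6615 L144015 q6615, e3 q6616 L144022 q6616, e3 q6617 L144032 q6617, e3 q6618 L144037 q6618, e3 q6619 L144042 q6619, e3 q6620 (flp_i L144754) q6698, e3 q6621 (flp_i L151173) q7378, e3 q6622 (flp_i L151747) q7451, e3 q6623 L153126 q7604, e3 q6624 (flp_i L144082) q5603, e3 q6625 (flp_i L151736) q7450, e3 q6626 (flp_i L151769) q7453, e3 q6627 L144119 q5667, e3 q6628 L144132 q5668,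 e3 q6629 L144144 q5669, e3 q6630 L144155 q5664, e3 q6631 L144167 q5665, e3 q6632 L144179 q5666, e3 q6633 L153279 q7618, e3 q6634 L153290 q7619, e3 q6635 (flp_i L144196) q5611, e3 q6636 L153306 q7621, e3 q6637 (flp_i L144217) q5612, e3 q6638 (flp_i L150351) q7285, e3 q6639 (flp_i L150362) q7286, e3 q6640 (flp_i L144251) q5615, e3 q6641 (flp_i L150386) q7288, e3 q6642 L153361 q7626, e3 q6643 L153374 q7627, e3 q6644 L144439 q6658, e3 q6645 (flp_i L144305) q5618, e3 q6646 (flp_i L144315) q5621, e3 q6647 (flp_i L150450) q7295, e3 q6648 (flp_i L150461) q7296, e3 q6649 (flp_i L150471) q7297, e3 q6650 (flp_i L152166) q7497, e3 q6651 (flp_i L150761) q7329, e3 q6652 L153399 q7629, e3 q6653 (flp_i L144385) q5638, e3 q6654 L144407 q6179, e3 q6655 L153438 q7632, trivial⟩ (by decide +kernel)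

theorem ce_i_104 : ∀ r, r < 64 → sm gi (Qf (6656 + r)) = Qf (tab Gen.i (6656 + r)) :=
  edges_tab (sm gi) Qf (tab Gen.i) 6656 [(6656, 6657), (6657, 6656), (6658, 6644), (6659, 5642), (6660, 5645), (6661, 7384), (6662, 7385), (6663, 7386), (6664, 7634), (6665, 5655), (6666, 7638), (6667, 5657), (6668, 7641), (6669, 5658), (6670, 6670), (6671, 7645), (6672, 7647), (6673, 5660), (6674, 7648), (6675, 5662), (6676, 7612), (6677, 7652), (6678, 7614), (6679, 7609), (6680, 7656), (6681, 7611), (6682, 7657), (6683, 7658), (6684, 7659), (6685, 5670), (6686, 5671), (6687, 7661), (6688, 5673), (6689, 7461), (6690, 7462), (6691, 7463), (6692, 7464), (6693, 7465), (6694, 7466), (6695, 5680), (6696, 5681), (6697, 5682), (6698, 6620), (6699, 7471), (6700, 7472), (6701, 7473), (6702, 5693), (6703, 7498), (6704, 7671), (6705, 5700), (6706, 5702), (6707, 5703), (6708, 6708), (6709, 5709), (6710, 6710), (6711, 7676), (6712, 5711), (6713, 6713), (6714, 7679), (6715, 7680), (6716, 7681), (6717, 5715), (6718,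 5716), (6719, 7683)]
    ⟨e3 q6656 L144455 q6657, e3 q6657 (flp_i L144455) q6656, e3 q6658 (flp_i L144439) q6644, e3 q6659 (flp_i L144441) q5642, e3 q6660 (flp_i L144457) q5645, e3 q6661 (flp_i L151233) q7384, e3 q6662 (flp_i L151242) q7385, e3 q6663 (flp_i L151250) q7386, e3 q6664 L153462 q7634, e3 q6665 (flp_i L144501) q5655, e3 q6666 L153499 q7638, e3 q6667 (flp_i L144517) q5657, e3 q6668 L153529 q7641, e3 q6669 (flp_i L144531) q5658, e3 q6670 L144542 q6670, e3 q6671 L153553 q7645, e3 q6672 L153566 q7647, e3 q6673 (flp_i L144554) q5660, e3 q6674 L153574 q7648, e3 q6675 (flp_i L144568) q5662, e3 q6676 (flp_i L153221) q7612, e3 q6677 L153614 q7652, e3 q6678 (flp_i L153241) q7614, e3 q6679 (flp_i L153186) q7609, e3 q6680 L153652 q7656, e3 q6681 (flp_i L153208) q7611, e3 q6682 L153659 q7657, e3 q6683 L153670 q7658, e3 q6684 L153680 q7659, e3 q6685 (flp_i L144647) q5670, e3 q6686 (flp_i L144655) q5671, e3 q6687 (flp_i L153701) q7661, e3 q6688 (flp_i L144665) q5673, e3 q6689 (flp_i L151835)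 q7461, e3 q6690 (flp_i L151841) q7462, e3 q6691 (flp_i L151847) q7463, e3 q6692 (flp_i L151857) q7464, e3 q6693 (flp_i L151865) q7465, e3 q6694 (flp_i L151869) q7466, e3 q6695 (flp_i L144712) q5680, e3 q6696 (flp_i L144720) q5681, e3 q6697 (flp_i L144730) q5682, e3 q6698 L144754 q6620, e3 q6699 (flp_i L151919) q7471, e3 q6700 (flp_i L151929) q7472, e3 q6701 (flp_i L151947) q7473, e3 q6702 (flp_i L144796) q5693, e3 q6703 (flp_i L152172) q7498, e3 q6704 L153772 q7671, e3 q6705 (flp_i L144818) q5700, e3 q6706 (flp_i L144831) q5702, e3 q6707 (flp_i L144845) q5703, e3 q6708 L144860 q6708, e3 q6709 (flp_i L144861) q5709, e3 q6710 L144879 q6710, e3 q6711 L153832 q7676, e3 q6712 (flp_i L144886) q5711, e3 q6713 L144899 q6713, e3 q6714 L153853 q7679, e3 q6715 L153863 q7680, e3 q6716 L153875 q7681, e3 q6717 (flp_i L144932) q5715, e3 q6718 (flp_i L144940) q5716, e3 q6719 (flp_i L153898) q7683, trivial⟩ (by decide +kernel)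

theorem ce_i_105 : ∀ r, r < 64 → sm gi (Qf (6720 + r)) = Qf (tab Gen.i (6720 + r)) :=
  edges_tab (sm gi) Qf (tab Gen.i) 6720 [(6720, 5718), (6721, 7561), (6722, 7562), (6723, 7563), (6724, 7564), (6725, 7565), (6726, 7566), (6727, 5725), (6728, 5726), (6729, 5727), (6730, 7692), (6731, 5730), (6732, 7693), (6733, 7573), (6734, 7574), (6735, 7575), (6736, 7576), (6737, 7577), (6738, 6181), (6739, 5741), (6740, 7582), (6741, 7593), (6742, 7698), (6743, 5751), (6744, 7701), (6745, 7702), (6746, 5752), (6747, 7705), (6748, 7708), (6749, 5754), (6750, 7710), (6751, 5755), (6752, 7703), (6753, 7714), (6754, 7716), (6755, 5757), (6756, 6756), (6757, 7719), (6758, 5759), (6759, 6759), (6760, 7725), (6761, 6071), (6762, 5762), (6763, 7726), (6764, 5763), (6765, 6765), (6766, 6766), (6767, 5766), (6768, 6768), (6769, 6769), (6770, 7730), (6771, 5769), (6772, 5770), (6773, 5777), (6774, 7733), (6775, 5772), (6776, 5773), (6777, 7731), (6778, 5775), (6779, 7732), (6780, 5778), (6781, 6781), (6782,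 6782), (6783, 6783)]
    ⟨e3 q6720 (flp_i L144954) q5718, e3 q6721 (flp_i L152730) q7561, e3 q6722 (flp_i L152737) q7562, e3 q6723 (flp_i L152747) q7563, e3 q6724 (flp_i L152759) q7564, e3 q6725 (flp_i L152768) q7565, e3 q6726 (flp_i L152780) q7566, e3 q6727 (flp_i L145011) q5725, e3 q6728 (flp_i L145022) q5726, e3 q6729 (flp_i L145032) q5727, e3 q6730 (flp_i L153974) q7692, e3 q6731 L145053 q5730, e3 q6732 (flp_i L153979) q7693, e3 q6733 (flp_i L152831) q7573, e3 q6734 (flp_i L152838) q7574, e3 q6735 (flp_i L152849) q7575, e3 q6736 (flp_i L152856) q7576, e3 q6737 (flp_i L152865) q7577, e3 q6738 L145108 q6181, e3 q6739 L145125 q5741, e3 q6740 (flp_i L152923) q7582, e3 q6741 (flp_i L153028) q7593, e3 q6742 L154012 q7698, e3 q6743 (flp_i L145154) q5751, e3 q6744 L154033 q7701, e3 q6745 L154039 q7702, e3 q6746 (flp_i L145177) q5752, e3 q6747 L154062 q7705, e3 q6748 L154084 q7708, e3 q6749 (flp_i L145197) q5754, e3 q6750 L154098 q7710, e3 q6751 (flp_i L145213) q5755, e3 q6752 (flp_i L154054)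 q7703, e3 q6753 L154131 q7714, e3 q6754 L154150 q7716, e3 q6755 (flp_i L145246) q5757, e3 q6756 L145264 q6756, e3 q6757 L154185 q7719, e3 q6758 (flp_i L145274) q5759, e3 q6759 L145292 q6759, e3 q6760 L154240 q7725, e3 q6761 (flp_i L145311) q6071, e3 q6762 (flp_i L145313) q5762, e3 q6763 L154253 q7726, e3 q6764 (flp_i L145336) q5763, e3 q6765 L145357 q6765, e3 q6766 L145364 q6766, e3 q6767 (flp_i L145369) q5766, e3 q6768 L145386 q6768, e3 q6769 L145394 q6769, e3 q6770 L154298 q7730, e3 q6771 (flp_i L145404) q5769, e3 q6772 (flp_i L145411) q5770, e3 q6773 L145422 q5777, e3 q6774 L154319 q7733, e3 q6775 (flp_i L145429) q5772, e3 q6776 (flp_i L145435) q5773, e3 q6777 (flp_i L154309) q7731, e3 q6778 (flp_i L145450) q5775, e3 q6779 (flp_i L154317) q7732, e3 q6780 (flp_i L145464) q5778, e3 q6781 L145482 q6781, e3 q6782 L145487 q6782, e3 q6783 L145496 q6783, trivial⟩ (by decide +kernel)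

theorem ce_i_106 : ∀ r, r < 64 → sm gi (Qf (6784 + r)) = Qf (tab Gen.i (6784 + r)) :=
  edges_tab (sm gi) Qf (tab Gen.i) 6784 [(6784, 6784), (6785, 6785), (6786, 6786), (6787, 6787), (6788, 5790), (6789, 5792), (6790, 7154), (6791, 7744), (6792, 7152), (6793, 7745), (6794, 6794), (6795, 6795), (6796, 6796), (6797, 6797), (6798, 7752), (6799, 7754), (6800, 5800), (6801, 7758), (6802, 5802), (6803, 7760), (6804, 5803), (6805, 5809), (6806, 7764), (6807, 7766), (6808, 5805), (6809, 7759), (6810, 7769), (6811, 5807), (6812, 7761), (6813, 7775), (6814, 7776), (6815, 5810), (6816, 7778), (6817, 5811), (6818, 6818), (6819, 6819), (6820, 5814), (6821, 6821), (6822, 6822), (6823, 7785), (6824, 7786), (6825, 7787), (6826, 5817), (6827, 5818), (6828, 5948), (6829, 5820), (6830, 6830), (6831, 6831), (6832, 6832), (6833, 6833), (6834, 6834), (6835, 6835), (6836, 5827), (6837, 5832), (6838, 5830), (6839, 7794), (6840, 7795), (6841, 6841), (6842, 6842), (6843, 6843), (6844, 6844), (6845, 6845), (6846,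 6846), (6847, 6847)]
    ⟨e3 q6784 L145503 q6784, e3 q6785 L145511 q6785, e3 q6786 L145522 q6786, e3 q6787 L145527 q6787, e3 q6788 L145532 q5790, e3 q6789 L145540 q5792, e3 q6790 (flp_i L149045) q7154, e3 q6791 (flp_i L154392) q7744, e3 q6792 (flp_i L149019) q7152, e3 q6793 (flp_i L154399) q7745, e3 q6794 L145573 q6794, e3 q6795 L145580 q6795, e3 q6796 L145583 q6796, e3 q6797 L145587 q6797, e3 q6798 L154435 q7752, e3 q6799 L154450 q7754, e3 q6800 (flp_i L145602) q5800, e3 q6801 L154472 q7758, e3 q6802 (flp_i L145614) q5802, e3 q6803 L154484 q7760, e3 q6804 (flp_i L145625) q5803, e3 q6805 L145636 q5809, e3 q6806 L154511 q7764, e3 q6807 L154523 q7766, e3 q6808 (flp_i L145648) q5805, e3 q6809 (flp_i L154482) q7759, e3 q6810 L154539 q7769, e3 q6811 (flp_i L145664) q5807, e3 q6812 (flp_i L154497) q7761, e3 q6813 L154580 q7775, e3 q6814 L154588 q7776, e3 q6815 (flp_i L145691) q5810, e3 q6816 L154601 q7778, e3 q6817 (flp_i L145708) q5811, e3 q6818 L145726 q6818, e3 q6819 L145733 q6819, e3 q6820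 (flp_i L145736) q5814, e3 q6821 L145752 q6821, e3 q6822 L145757 q6822, e3 q6823 L154653 q7785, e3 q6824 L154661 q7786, e3 q6825 L154670 q7787, e3 q6826 (flp_i L145778) q5817, e3 q6827 (flp_i L145786) q5818, e3 q6828 L145811 q5948, e3 q6829 (flp_i L145815) q5820, e3 q6830 L145832 q6830, e3 q6831 L145840 q6831, e3 q6832 L145858 q6832, e3 q6833 L145868 q6833, e3 q6834 L145875 q6834, e3 q6835 L145885 q6835, e3 q6836 (flp_i L145890) q5827, e3 q6837 L145903 q5832, e3 q6838 (flp_i L145905) q5830, e3 q6839 (flp_i L154752) q7794, e3 q6840 (flp_i L154758) q7795, e3 q6841 L145935 q6841, e3 q6842 L145942 q6842, e3 q6843 L145947 q6843, e3 q6844 L145957 q6844, e3 q6845 L145964 q6845, e3 q6846 L145971 q6846, e3 q6847 L145981 q6847, trivial⟩ (by decide +kernel)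

theorem ce_i_107 : ∀ r, r < 64 → sm gi (Qf (6848 + r)) = Qf (tab Gen.i (6848 + r)) :=
  edges_tab (sm gi) Qf (tab Gen.i) 6848 [(6848, 5842), (6849, 5843), (6850, 7160), (6851, 7804), (6852, 7352), (6853, 6853), (6854, 6854), (6855, 6855), (6856, 6856), (6857, 6857), (6858, 7811), (6859, 5851), (6860, 6544), (6861, 7813), (6862, 7814), (6863, 7815), (6864, 5853), (6865, 5854), (6866, 7817), (6867, 5856), (6868, 6868), (6869, 6869), (6870, 6870), (6871, 6871), (6872, 6872), (6873, 6873), (6874, 5863), (6875, 5864), (6876, 5865), (6877, 7829), (6878, 5868), (6879, 5895), (6880, 6880), (6881, 6881), (6882, 6882), (6883, 6883), (6884, 6884), (6885, 6885), (6886, 6886), (6887, 6887), (6888, 6888), (6889, 6889), (6890, 6890), (6891, 6891), (6892, 6892), (6893, 6893), (6894, 6894), (6895, 6895), (6896, 6896), (6897, 6897), (6898, 6898), (6899, 6899), (6900, 7836), (6901, 5893), (6902, 6902), (6903, 7830), (6904, 7839), (6905, 5897), (6906, 6906), (6907, 5901), (6908, 6908), (6909, 5904), (6910,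 6910), (6911, 6911)]
    ⟨e3 q6848 L145990 q5842, e3 q6849 L145994 q5843, e3 q6850 (flp_i L149104) q7160, e3 q6851 (flp_i L154830) q7804, e3 q6852 (flp_i L150962) q7352, e3 q6853 L146015 q6853, e3 q6854 L146020 q6854, e3 q6855 L146025 q6855, e3 q6856 L146032 q6856, e3 q6857 L146046 q6857, e3 q6858 L154868 q7811, e3 q6859 (flp_i L146059) q5851, e3 q6860 L146068 q6544, e3 q6861 L154885 q7813, e3 q6862 L154894 q7814, e3 q6863 L154901 q7815, e3 q6864 (flp_i L146088) q5853, e3 q6865 (flp_i L146095) q5854, e3 q6866 (flp_i L154917) q7817, e3 q6867 (flp_i L146106) q5856, e3 q6868 L146124 q6868, e3 q6869 L146128 q6869, e3 q6870 L146135 q6870, e3 q6871 L146145 q6871, e3 q6872 L146153 q6872, e3 q6873 L146158 q6873, e3 q6874 (flp_i L146159) q5863, e3 q6875 (flp_i L146167) q5864, e3 q6876 (flp_i L146176) q5865, e3 q6877 (flp_i L155004) q7829, e3 q6878 L146198 q5868, e3 q6879 L146208 q5895, e3 q6880 L146224 q6880, e3 q6881 L146230 q6881, e3 q6882 L146237 q6882, e3 q6883 L146254 q6883, e3 q6884 L146265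 q6884, e3 q6885 L146273 q6885, e3 q6886 L146280 q6886, e3 q6887 L146289 q6887, e3 q6888 L146300 q6888, e3 q6889 L146307 q6889, e3 q6890 L146312 q6890, e3 q6891 L146319 q6891, e3 q6892 L146328 q6892, e3 q6893 L146336 q6893, e3 q6894 L146352 q6894, e3 q6895 L146368 q6895, e3 q6896 L146379 q6896, e3 q6897 L146386 q6897, e3 q6898 L146396 q6898, e3 q6899 L146411 q6899, e3 q6900 L155067 q7836, e3 q6901 (flp_i L146426) q5893, e3 q6902 L146445 q6902, e3 q6903 (flp_i L155015) q7830, e3 q6904 L155107 q7839, e3 q6905 (flp_i L146464) q5897, e3 q6906 L146484 q6906, e3 q6907 (flp_i L146485) q5901, e3 q6908 L146515 q6908, e3 q6909 (flp_i L146516) q5904, e3 q6910 L146542 q6910, e3 q6911 L146558 q6911, trivial⟩ (by decide +kernel)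

theorem ce_i_108 : ∀ r, r < 64 → sm gi (Qf (6912 + r)) = Qf (tab Gen.i (6912 + r)) :=
  edges_tab (sm gi) Qf (tab Gen.i) 6912 [(6912, 7840), (6913, 5908), (6914, 6914), (6915, 5918), (6916, 6916), (6917, 5924), (6918, 6918), (6919, 6919), (6920, 7845), (6921, 5930), (6922, 7847), (6923, 7850), (6924, 5932), (6925, 7853), (6926, 7855), (6927, 5933), (6928, 7859), (6929, 5935), (6930, 7862), (6931, 7863), (6932, 5936), (6933, 7867), (6934, 7870), (6935, 5938), (6936, 7873), (6937, 5939), (6938, 7856), (6939, 5941), (6940, 6940), (6941, 7878), (6942, 7880), (6943, 5943), (6944, 6944), (6945, 7882), (6946, 5945), (6947, 6947), (6948, 7788), (6949, 7887), (6950, 5949), (6951, 5952), (6952, 6952), (6953, 7889), (6954, 5955), (6955, 7891), (6956, 7892), (6957, 5956), (6958, 7896), (6959, 7897), (6960, 5958), (6961, 7899), (6962, 5959), (6963, 5971), (6964, 7902), (6965, 7903), (6966, 5961), (6967, 7906), (6968, 5963), (6969, 5964), (6970, 7893), (6971, 7910), (6972, 7912), (6973, 5966), (6974,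 7914), (6975, 5967)]
    ⟨e3 q6912 L155120 q7840, e3 q6913 (flp_i L146571) q5908, e3 q6914 L146595 q6914, e3 q6915 (flp_i L146596) q5918, e3 q6916 L146622 q6916, e3 q6917 (flp_i L146623) q5924, e3 q6918 L146648 q6918, e3 q6919 L146658 q6919, e3 q6920 L155177 q7845, e3 q6921 (flp_i L146668) q5930, e3 q6922 L155200 q7847, e3 q6923 L155235 q7850, e3 q6924 (flp_i L146702) q5932, e3 q6925 L155261 q7853, e3 q6926 L155282 q7855, e3 q6927 (flp_i L146730) q5933, e3 q6928 L155324 q7859, e3 q6929 (flp_i L146750) q5935, e3 q6930 L155356 q7862, e3 q6931 L155364 q7863, e3 q6932 (flp_i L146781) q5936, e3 q6933 L155404 q7867, e3 q6934 L155426 q7870, e3 q6935 (flp_i L146803) q5938, e3 q6936 L155456 q7873, e3 q6937 (flp_i L146821) q5939, e3 q6938 (flp_i L155301) q7856, e3 q6939 (flp_i L146841) q5941, e3 q6940 L146864 q6940, e3 q6941 L155506 q7878, e3 q6942 L155525 q7880, e3 q6943 (flp_i L146878) q5943, e3 q6944 L146894 q6944, e3 q6945 L155544 q7882, e3 q6946 (flp_i L146906) q5945, e3 q6947 L146924 q6947,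 e3 q6948 (flp_i L154693) q7788, e3 q6949 L155595 q7887, e3 q6950 (flp_i L146941) q5949, e3 q6951 (flp_i L146949) q5952, e3 q6952 L146968 q6952, e3 q6953 L155616 q7889, e3 q6954 (flp_i L146983) q5955, e3 q6955 L155643 q7891, e3 q6956 L155656 q7892, e3 q6957 (flp_i L147022) q5956, e3 q6958 L155706 q7896, e3 q6959 L155713 q7897, e3 q6960 (flp_i L147051) q5958, e3 q6961 L155737 q7899, e3 q6962 (flp_i L147073) q5959, e3 q6963 L147088 q5971, e3 q6964 L155772 q7902, e3 q6965 L155786 q7903, e3 q6966 (flp_i L147117) q5961, e3 q6967 L155823 q7906, e3 q6968 (flp_i L147135) q5963, e3 q6969 (flp_i L147147) q5964, e3 q6970 (flp_i L155677) q7893, e3 q6971 L155869 q7910, e3 q6972 L155893 q7912, e3 q6973 (flp_i L147185) q5966, e3 q6974 L155909 q7914, e3 q6975 (flp_i L147207) q5967, trivial⟩ (by decide +kernel)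

theorem ce_i_109 : ∀ r, r < 64 → sm gi (Qf (6976 + r)) = Qf (tab Gen.i (6976 + r)) :=
  edges_tab (sm gi) Qf (tab Gen.i) 6976 [(6976, 7898), (6977, 7917), (6978, 5969), (6979, 7900), (6980, 6980), (6981, 5974), (6982, 6982), (6983, 6983), (6984, 6984), (6985, 6985), (6986, 7924), (6987, 5980), (6988, 5981), (6989, 6989), (6990, 7925), (6991, 5983), (6992, 6992), (6993, 5986), (6994, 6994), (6995, 6995), (6996, 5989), (6997, 5991), (6998, 5992), (6999, 6006), (7000, 7934), (7001, 5994), (7002, 5995), (7003, 6012), (7004, 5997), (7005, 6015), (7006, 6000), (7007, 6001), (7008, 7931), (7009, 7942), (7010, 6003), (7011, 7932), (7012, 7933), (7013, 7946), (7014, 6007), (7015, 6008), (7016, 7935), (7017, 6010), (7018, 7936), (7019, 7937), (7020, 6013), (7021, 7938), (7022, 7939), (7023, 7023), (7024, 7024), (7025, 7025), (7026, 7026), (7027, 6026), (7028, 7028), (7029, 7029), (7030, 7030), (7031, 7031), (7032, 7032), (7033, 6180), (7034, 7959), (7035, 7961), (7036, 6037), (7037, 7964), (7038,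 7966), (7039, 6038)]
    ⟨e3 q6976 (flp_i L155735) q7898, e3 q6977 L155945 q7917, e3 q6978 (flp_i L147241) q5969, e3 q6979 (flp_i L155756) q7900, e3 q6980 L147269 q6980, e3 q6981 (flp_i L147270) q5974, e3 q6982 L147296 q6982, e3 q6983 L147301 q6983, e3 q6984 L147315 q6984, e3 q6985 L147322 q6985, e3 q6986 L156025 q7924, e3 q6987 (flp_i L147336) q5980, e3 q6988 (flp_i L147350) q5981, e3 q6989 L147381 q6989, e3 q6990 L156039 q7925, e3 q6991 (flp_i L147395) q5983, e3 q6992 L147415 q6992, e3 q6993 (flp_i L147416) q5986, e3 q6994 L147430 q6994, e3 q6995 L147437 q6995, e3 q6996 (flp_i L147440) q5989, e3 q6997 (flp_i L147454) q5991, e3 q6998 (flp_i L147467) q5992, e3 q6999 L147488 q6006, e3 q7000 L156150 q7934, e3 q7001 (flp_i L147503) q5994, e3 q7002 (flp_i L147516) q5995, e3 q7003 L147536 q6012, e3 q7004 (flp_i L147538) q5997, e3 q7005 L147557 q6015, e3 q7006 (flp_i L147559) q6000, e3 q7007 (flp_i L147573) q6001, e3 q7008 (flp_i L156120) q7931, e3 q7009 L156255 q7942, e3 q7010 (flp_i L147610)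 q6003, e3 q7011 (flp_i L156134) q7932, e3 q7012 (flp_i L156148) q7933, e3 q7013 L156309 q7946, e3 q7014 (flp_i L147658) q6007, e3 q7015 (flp_i L147668) q6008, e3 q7016 (flp_i L156175) q7935, e3 q7017 (flp_i L147690) q6010, e3 q7018 (flp_i L156191) q7936, e3 q7019 (flp_i L156197) q7937, e3 q7020 (flp_i L147722) q6013, e3 q7021 (flp_i L156214) q7938, e3 q7022 (flp_i L156220) q7939, e3 q7023 L147760 q7023, e3 q7024 L147773 q7024, e3 q7025 L147784 q7025, e3 q7026 L147797 q7026, e3 q7027 (flp_i L147800) q6026, e3 q7028 L147818 q7028, e3 q7029 L147831 q7029, e3 q7030 L147838 q7030, e3 q7031 L147851 q7031, e3 q7032 L147868 q7032, e3 q7033 L147879 q6180, e3 q7034 L156474 q7959, e3 q7035 L156492 q7961, e3 q7036 (flp_i L147898) q6037, e3 q7037 L156512 q7964, e3 q7038 L156529 q7966, e3 q7039 (flp_i L147920) q6038, trivial⟩ (by decide +kernel)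

theorem ce_i_110 : ∀ r, r < 64 → sm gi (Qf (7040 + r)) = Qf (tab Gen.i (7040 + r)) :=
  edges_tab (sm gi) Qf (tab Gen.i) 7040 [(7040, 7968), (7041, 7970), (7042, 6041), (7043, 7973), (7044, 7974), (7045, 6042), (7046, 7978), (7047, 7981), (7048, 6044), (7049, 7984), (7050, 6045), (7051, 6057), (7052, 7987), (7053, 7988), (7054, 6047), (7055, 7992), (7056, 7995), (7057, 6049), (7058, 7998), (7059, 6050), (7060, 7975), (7061, 8001), (7062, 8004), (7063, 6052), (7064, 8008), (7065, 8010), (7066, 6053), (7067, 7982), (7068, 8013), (7069, 6055), (7070, 7985), (7071, 8017), (7072, 8019), (7073, 6058), (7074, 7074), (7075, 8021), (7076, 6060), (7077, 7077), (7078, 8027), (7079, 8028), (7080, 6063), (7081, 8030), (7082, 6064), (7083, 7083), (7084, 7084), (7085, 6067), (7086, 7086), (7087, 7087), (7088, 8037), (7089, 8038), (7090, 7724), (7091, 6070), (7092, 6073), (7093, 7093), (7094, 7094), (7095, 7095), (7096, 6080), (7097, 6081), (7098, 8041), (7099, 6083), (7100, 6084), (7101, 6099), (7102,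 8044), (7103, 8046)]
    ⟨e3 q7040 L156544 q7968, e3 q7041 L156571 q7970, e3 q7042 (flp_i L147953) q6041, e3 q7043 L156609 q7973, e3 q7044 L156615 q7974, e3 q7045 (flp_i L147980) q6042, e3 q7046 L156660 q7978, e3 q7047 L156679 q7981, e3 q7048 (flp_i L148002) q6044, e3 q7049 L156706 q7984, e3 q7050 (flp_i L148017) q6045, e3 q7051 L148032 q6057, e3 q7052 L156735 q7987, e3 q7053 L156745 q7988, e3 q7054 (flp_i L148053) q6047, e3 q7055 L156794 q7992, e3 q7056 L156824 q7995, e3 q7057 (flp_i L148079) q6049, e3 q7058 L156852 q7998, e3 q7059 (flp_i L148097) q6050, e3 q7060 (flp_i L156634) q7975, e3 q7061 L156882 q8001, e3 q7062 L156903 q8004, e3 q7063 (flp_i L148127) q6052, e3 q7064 L156929 q8008, e3 q7065 L156941 q8010, e3 q7066 (flp_i L148145) q6053, e3 q7067 (flp_i L156691) q7982, e3 q7068 L156961 q8013, e3 q7069 (flp_i L148165) q6055, e3 q7070 (flp_i L156721) q7985, e3 q7071 L156994 q8017, e3 q7072 L157012 q8019, e3 q7073 (flp_i L148195) q6058, e3 q7074 L148212 q7074, e3 q7075 L157032 q8021,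 e3 q7076 (flp_i L148223) q6060, e3 q7077 L148240 q7077, e3 q7078 L157082 q8027, e3 q7079 L157089 q8028, e3 q7080 (flp_i L148250) q6063, e3 q7081 L157096 q8030, e3 q7082 (flp_i L148263) q6064, e3 q7083 L148279 q7083, e3 q7084 L148285 q7084, e3 q7085 (flp_i L148288) q6067, e3 q7086 L148304 q7086, e3 q7087 L148309 q7087, e3 q7088 L157150 q8037, e3 q7089 L157157 q8038, e3 q7090 L154238 q7724, e3 q7091 (flp_i L148333) q6070, e3 q7092 (flp_i L148342) q6073, e3 q7093 L148357 q7093, e3 q7094 L148365 q7094, e3 q7095 L148372 q7095, e3 q7096 (flp_i L148375) q6080, e3 q7097 (flp_i L148390) q6081, e3 q7098 L157192 q8041, e3 q7099 (flp_i L148418) q6083, e3 q7100 (flp_i L148432) q6084, e3 q7101 L148453 q6099, e3 q7102 L157236 q8044, e3 q7103 L157264 q8046, trivial⟩ (by decide +kernel)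

theorem ce_i_111 : ∀ r, r < 64 → sm gi (Qf (7104 + r)) = Qf (tab Gen.i (7104 + r)) :=
  edges_tab (sm gi) Qf (tab Gen.i) 7104 [(7104, 6086), (7105, 8048), (7106, 6087), (7107, 6105), (7108, 8050), (7109, 6089), (7110, 6108), (7111, 6092), (7112, 8040), (7113, 8054), (7114, 8055), (7115, 6094), (7116, 6095), (7117, 8042), (7118, 8058), (7119, 6097), (7120, 8043), (7121, 8062), (7122, 6100), (7123, 8065), (7124, 6101), (7125, 8047), (7126, 8067), (7127, 6103), (7128, 8049), (7129, 6106), (7130, 8051), (7131, 8052), (7132, 6109), (7133, 7133), (7134, 7134), (7135, 7135), (7136, 7136), (7137, 7137), (7138, 6118), (7139, 6135), (7140, 6139), (7141, 6142), (7142, 6126), (7143, 6147), (7144, 6128), (7145, 6150), (7146, 6131), (7147, 6152), (7148, 6153), (7149, 6247), (7150, 6136), (7151, 6413), (7152, 6792), (7153, 6140), (7154, 6790), (7155, 8077), (7156, 8090), (7157, 6143), (7158, 8078), (7159, 6145), (7160, 6850), (7161, 6148), (7162, 8079), (7163, 8080), (7164, 8081), (7165, 8082), (7166,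 8083), (7167, 7167)]
    ⟨e3 q7104 (flp_i L148481) q6086, e3 q7105 L157284 q8048, e3 q7106 (flp_i L148503) q6087, e3 q7107 L148523 q6105, e3 q7108 L157310 q8050, e3 q7109 (flp_i L148538) q6089, e3 q7110 L148553 q6108, e3 q7111 (flp_i L148555) q6092, e3 q7112 (flp_i L157190) q8040, e3 q7113 L157356 q8054, e3 q7114 L157370 q8055, e3 q7115 (flp_i L148607) q6094, e3 q7116 (flp_i L148617) q6095, e3 q7117 (flp_i L157220) q8042, e3 q7118 L157407 q8058, e3 q7119 (flp_i L148656) q6097, e3 q7120 (flp_i L157234) q8043, e3 q7121 L157456 q8062, e3 q7122 (flp_i L148687) q6100, e3 q7123 L157488 q8065, e3 q7124 (flp_i L148704) q6101, e3 q7125 (flp_i L157282) q8047, e3 q7126 L157503 q8067, e3 q7127 (flp_i L148730) q6103, e3 q7128 (flp_i L157308) q8049, e3 q7129 (flp_i L148749) q6106, e3 q7130 (flp_i L157331) q8051, e3 q7131 (flp_i L157337) q8052, e3 q7132 (flp_i L148775) q6109, e3 q7133 L148797 q7133, e3 q7134 L148804 q7134, e3 q7135 L148818 q7135, e3 q7136 L148825 q7136, e3 q7137 L148832 q7137, e3 q7138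 (flp_i L148834) q6118, e3 q7139 L148861 q6135, e3 q7140 L148877 q6139, e3 q7141 L148889 q6142, e3 q7142 (flp_i L148891) q6126, e3 q7143 L148913 q6147, e3 q7144 (flp_i L148915) q6128, e3 q7145 L148939 q6150, e3 q7146 (flp_i L148941) q6131, e3 q7147 L148960 q6152, e3 q7148 L148964 q6153, e3 q7149 L148979 q6247, e3 q7150 (flp_i L148981) q6136, e3 q7151 L149005 q6413, e3 q7152 L149019 q6792, e3 q7153 (flp_i L149021) q6140, e3 q7154 L149045 q6790, e3 q7155 (flp_i L157598) q8077, e3 q7156 L157749 q8090, e3 q7157 (flp_i L149068) q6143, e3 q7158 (flp_i L157613) q8078, e3 q7159 (flp_i L149083) q6145, e3 q7160 L149104 q6850, e3 q7161 (flp_i L149106) q6148, e3 q7162 (flp_i L157627) q8079, e3 q7163 (flp_i L157635) q8080, e3 q7164 (flp_i L157655) q8081, e3 q7165 (flp_i L157661) q8082, e3 q7166 (flp_i L157669) q8083, e3 q7167 L149156 q7167, trivial⟩ (by decide +kernel)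

theorem ce_i_112 : ∀ r, r < 64 → sm gi (Qf (7168 + r)) = Qf (tab Gen.i (7168 + r)) :=
  edges_tab (sm gi) Qf (tab Gen.i) 7168 [(7168, 7168), (7169, 7169), (7170, 7170), (7171, 8102), (7172, 6162), (7173, 8105), (7174, 8107), (7175, 6163), (7176, 8111), (7177, 8112), (7178, 6165), (7179, 8115), (7180, 6166), (7181, 7517), (7182, 6168), (7183, 8117), (7184, 7581), (7185, 6170), (7186, 6171), (7187, 8118), (7188, 8120), (7189, 6173), (7190, 7579), (7191, 6174), (7192, 7600), (7193, 6183), (7194, 6186), (7195, 6187), (7196, 6195), (7197, 7197), (7198, 8121), (7199, 6197), (7200, 7200), (7201, 6203), (7202, 7202), (7203, 8124), (7204, 6210), (7205, 8125), (7206, 6211), (7207, 8128), (7208, 6213), (7209, 8131), (7210, 8133), (7211, 6215), (7212, 6216), (7213, 8126), (7214, 8136), (7215, 6218), (7216, 7470), (7217, 6222), (7218, 6421), (7219, 6233), (7220, 8138), (7221, 6228), (7222, 6406), (7223, 8140), (7224, 6230), (7225, 8053), (7226, 6399), (7227, 6236), (7228, 7228), (7229, 6239), (7230,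 7230), (7231, 7231)]
    ⟨e3 q7168 L149163 q7168, e3 q7169 L149173 q7169, e3 q7170 L149184 q7170, e3 q7171 L157875 q8102, e3 q7172 (flp_i L149194) q6162, e3 q7173 L157909 q8105, e3 q7174 L157924 q8107, e3 q7175 (flp_i L149222) q6163, e3 q7176 L157958 q8111, e3 q7177 L157966 q8112, e3 q7178 (flp_i L149246) q6165, e3 q7179 L157994 q8115, e3 q7180 (flp_i L149265) q6166, e3 q7181 (flp_i L152323) q7517, e3 q7182 (flp_i L149278) q6168, e3 q7183 L158009 q8117, e3 q7184 (flp_i L152909) q7581, e3 q7185 (flp_i L149319) q6170, e3 q7186 (flp_i L149330) q6171, e3 q7187 L158025 q8118, e3 q7188 L158053 q8120, e3 q7189 (flp_i L149370) q6173, e3 q7190 (flp_i L152882) q7579, e3 q7191 (flp_i L149387) q6174, e3 q7192 (flp_i L153093) q7600, e3 q7193 (flp_i L149409) q6183, e3 q7194 (flp_i L149423) q6186, e3 q7195 (flp_i L149435) q6187, e3 q7196 (flp_i L149448) q6195, e3 q7197 L149479 q7197, e3 q7198 L158066 q8121, e3 q7199 (flp_i L149494) q6197, e3 q7200 L149516 q7200, e3 q7201 (flp_i L149517) q6203, e3 q7202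 L149545 q7202, e3 q7203 L158113 q8124, e3 q7204 (flp_i L149561) q6210, e3 q7205 L158126 q8125, e3 q7206 (flp_i L149588) q6211, e3 q7207 L158166 q8128, e3 q7208 (flp_i L149614) q6213, e3 q7209 L158202 q8131, e3 q7210 L158224 q8133, e3 q7211 (flp_i L149644) q6215, e3 q7212 (flp_i L149654) q6216, e3 q7213 (flp_i L158152) q8126, e3 q7214 L158256 q8136, e3 q7215 (flp_i L149688) q6218, e3 q7216 (flp_i L151906) q7470, e3 q7217 (flp_i L149710) q6222, e3 q7218 L149728 q6421, e3 q7219 L149742 q6233, e3 q7220 L158282 q8138, e3 q7221 (flp_i L149754) q6228, e3 q7222 L149776 q6406, e3 q7223 L158304 q8140, e3 q7224 (flp_i L149786) q6230, e3 q7225 (flp_i L157354) q8053, e3 q7226 L149812 q6399, e3 q7227 (flp_i L149814) q6236, e3 q7228 L149832 q7228, e3 q7229 (flp_i L149833) q6239, e3 q7230 L149851 q7230, e3 q7231 L149858 q7231, trivial⟩ (by decide +kernel)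

theorem ce_i_113 : ∀ r, r < 64 → sm gi (Qf (7232 + r)) = Qf (tab Gen.i (7232 + r)) :=
  edges_tab (sm gi) Qf (tab Gen.i) 7232 [(7232, 6412), (7233, 6245), (7234, 7941), (7235, 8084), (7236, 7236), (7237, 7237), (7238, 7238), (7239, 7239), (7240, 8153), (7241, 8156), (7242, 6255), (7243, 8159), (7244, 8161), (7245, 6256), (7246, 8164), (7247, 6258), (7248, 8166), (7249, 6259), (7250, 8170), (7251, 8173), (7252, 6261), (7253, 8175), (7254, 6262), (7255, 6274), (7256, 8178), (7257, 8179), (7258, 6264), (7259, 8182), (7260, 8185), (7261, 6266), (7262, 8187), (7263, 6267), (7264, 8167), (7265, 8190), (7266, 8193), (7267, 6269), (7268, 8197), (7269, 8199), (7270, 6270), (7271, 8174), (7272, 8202), (7273, 6272), (7274, 8176), (7275, 8207), (7276, 8209), (7277, 6275), (7278, 8210), (7279, 6277), (7280, 8214), (7281, 8215), (7282, 6279), (7283, 8217), (7284, 6280), (7285, 6638), (7286, 6639), (7287, 6283), (7288, 6641), (7289, 6424), (7290, 8224), (7291, 8225), (7292, 7381), (7293, 6286), (7294,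 6289), (7295, 6647)]
    ⟨e3 q7232 L149869 q6412, e3 q7233 (flp_i L149871) q6245, e3 q7234 (flp_i L156253) q7941, e3 q7235 (flp_i L157679) q8084, e3 q7236 L149903 q7236, e3 q7237 L149920 q7237, e3 q7238 L149929 q7238, e3 q7239 L149940 q7239, e3 q7240 L158441 q8153, e3 q7241 L158471 q8156, e3 q7242 (flp_i L149961) q6255, e3 q7243 L158491 q8159, e3 q7244 L158506 q8161, e3 q7245 (flp_i L149987) q6256, e3 q7246 L158528 q8164, e3 q7247 (flp_i L150004) q6258, e3 q7248 L158550 q8166, e3 q7249 (flp_i L150026) q6259, e3 q7250 L158594 q8170, e3 q7251 L158616 q8173, e3 q7252 (flp_i L150054) q6261, e3 q7253 L158634 q8175, e3 q7254 (flp_i L150070) q6262, e3 q7255 L150088 q6274, e3 q7256 L158664 q8178, e3 q7257 L158674 q8179, e3 q7258 (flp_i L150105) q6264, e3 q7259 L158703 q8182, e3 q7260 L158729 q8185, e3 q7261 (flp_i L150133) q6266, e3 q7262 L158747 q8187, e3 q7263 (flp_i L150151) q6267, e3 q7264 (flp_i L158572) q8167, e3 q7265 L158781 q8190, e3 q7266 L158804 q8193, e3 q7267 (flp_i L150187) q6269,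 e3 q7268 L158832 q8197, e3 q7269 L158846 q8199, e3 q7270 (flp_i L150205) q6270, e3 q7271 (flp_i L158632) q8174, e3 q7272 L158866 q8202, e3 q7273 (flp_i L150227) q6272, e3 q7274 (flp_i L158656) q8176, e3 q7275 L158914 q8207, e3 q7276 L158935 q8209, e3 q7277 (flp_i L150262) q6275, e3 q7278 L158947 q8210, e3 q7279 (flp_i L150286) q6277, e3 q7280 L158989 q8214, e3 q7281 L158998 q8215, e3 q7282 (flp_i L150311) q6279, e3 q7283 L159010 q8217, e3 q7284 (flp_i L150329) q6280, e3 q7285 L150351 q6638, e3 q7286 L150362 q6639, e3 q7287 (flp_i L150366) q6283, e3 q7288 L150386 q6641, e3 q7289 L150396 q6424, e3 q7290 L159090 q8224, e3 q7291 L159097 q8225, e3 q7292 L151203 q7381, e3 q7293 (flp_i L150422) q6286, e3 q7294 (flp_i L150431) q6289, e3 q7295 L150450 q6647, trivial⟩ (by decide +kernel)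

theorem ce_i_114 : ∀ r, r < 64 → sm gi (Qf (7296 + r)) = Qf (tab Gen.i (7296 + r)) :=
  edges_tab (sm gi) Qf (tab Gen.i) 7296 [(7296, 6648), (7297, 6649), (7298, 6296), (7299, 8228), (7300, 6298), (7301, 6313), (7302, 8230), (7303, 8231), (7304, 6300), (7305, 6301), (7306, 6319), (7307, 6303), (7308, 6322), (7309, 6306), (7310, 8227), (7311, 8237), (7312, 6308), (7313, 6309), (7314, 8229), (7315, 6311), (7316, 6501), (7317, 8242), (7318, 6314), (7319, 8244), (7320, 6315), (7321, 8232), (7322, 6317), (7323, 8233), (7324, 8234), (7325, 6320), (7326, 8235), (7327, 6490), (7328, 6323), (7329, 6651), (7330, 6477), (7331, 7331), (7332, 7332), (7333, 7333), (7334, 7334), (7335, 7335), (7336, 6346), (7337, 6348), (7338, 6339), (7339, 6354), (7340, 6356), (7341, 6357), (7342, 6359), (7343, 7940), (7344, 6528), (7345, 8257), (7346, 6527), (7347, 6351), (7348, 8258), (7349, 8087), (7350, 8259), (7351, 7952), (7352, 6852), (7353, 8096), (7354, 7950), (7355, 6517), (7356, 7356), (7357, 7357), (7358,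 8269), (7359, 8270)]
    ⟨e3 q7296 L150461 q6648, e3 q7297 L150471 q6649, e3 q7298 (flp_i L150473) q6296, e3 q7299 L159129 q8228, e3 q7300 (flp_i L150492) q6298, e3 q7301 L150513 q6313, e3 q7302 L159152 q8230, e3 q7303 L159161 q8231, e3 q7304 (flp_i L150534) q6300, e3 q7305 (flp_i L150539) q6301, e3 q7306 L150557 q6319, e3 q7307 (flp_i L150559) q6303, e3 q7308 L150577 q6322, e3 q7309 (flp_i L150579) q6306, e3 q7310 (flp_i L159127) q8227, e3 q7311 L159214 q8237, e3 q7312 (flp_i L150603) q6308, e3 q7313 (flp_i L150613) q6309, e3 q7314 (flp_i L159150) q8229, e3 q7315 (flp_i L150632) q6311, e3 q7316 L150650 q6501, e3 q7317 L159263 q8242, e3 q7318 (flp_i L150661) q6314, e3 q7319 L159282 q8244, e3 q7320 (flp_i L150676) q6315, e3 q7321 (flp_i L159175) q8232, e3 q7322 (flp_i L150687) q6317, e3 q7323 (flp_i L159189) q8233, e3 q7324 (flp_i L159195) q8234, e3 q7325 (flp_i L150710) q6320, e3 q7326 (flp_i L159206) q8235, e3 q7327 L150730 q6490, e3 q7328 (flp_i L150738) q6323, e3 q7329 L150761 q6651,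 e3 q7330 L150769 q6477, e3 q7331 L150782 q7331, e3 q7332 L150789 q7332, e3 q7333 L150801 q7333, e3 q7334 L150806 q7334, e3 q7335 L150811 q7335, e3 q7336 L150821 q6346, e3 q7337 L150833 q6348, e3 q7338 (flp_i L150835) q6339, e3 q7339 L150852 q6354, e3 q7340 L150864 q6356, e3 q7341 L150868 q6357, e3 q7342 L150879 q6359, e3 q7343 (flp_i L156239) q7940, e3 q7344 L150897 q6528, e3 q7345 (flp_i L159387) q8257, e3 q7346 L150915 q6527, e3 q7347 (flp_i L150917) q6351, e3 q7348 (flp_i L159400) q8258, e3 q7349 (flp_i L157727) q8087, e3 q7350 (flp_i L159408) q8259, e3 q7351 (flp_i L156403) q7952, e3 q7352 L150962 q6852, e3 q7353 (flp_i L157819) q8096, e3 q7354 (flp_i L156373) q7950, e3 q7355 L150983 q6517, e3 q7356 L150997 q7356, e3 q7357 L151007 q7357, e3 q7358 L159501 q8269, e3 q7359 L159509 q8270, trivial⟩ (by decide +kernel)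

theorem ce_i_115 : ∀ r, r < 64 → sm gi (Qf (7360 + r)) = Qf (tab Gen.i (7360 + r)) :=
  edges_tab (sm gi) Qf (tab Gen.i) 7360 [(7360, 6368), (7361, 8272), (7362, 6370), (7363, 6379), (7364, 6372), (7365, 8135), (7366, 8277), (7367, 6374), (7368, 8281), (7369, 8282), (7370, 6375), (7371, 8273), (7372, 6377), (7373, 8129), (7374, 8288), (7375, 8289), (7376, 6381), (7377, 6382), (7378, 6621), (7379, 8294), (7380, 8296), (7381, 7292), (7382, 6386), (7383, 6389), (7384, 6661), (7385, 6662), (7386, 6663), (7387, 6396), (7388, 6404), (7389, 8299), (7390, 6400), (7391, 8298), (7392, 6402), (7393, 8139), (7394, 8085), (7395, 7943), (7396, 8148), (7397, 8304), (7398, 6415), (7399, 8306), (7400, 8307), (7401, 6416), (7402, 8311), (7403, 8314), (7404, 6418), (7405, 8317), (7406, 6419), (7407, 7755), (7408, 8223), (7409, 6423), (7410, 8222), (7411, 6436), (7412, 8323), (7413, 8326), (7414, 6426), (7415, 8330), (7416, 8332), (7417, 6427), (7418, 6443), (7419, 8335), (7420, 6429), (7421, 6446), (7422,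 8339), (7423, 8341)]
    ⟨e3 q7360 (flp_i L151028) q6368, e3 q7361 L159531 q8272, e3 q7362 (flp_i L151044) q6370, e3 q7363 L151058 q6379, e3 q7364 (flp_i L151060) q6372, e3 q7365 (flp_i L158254) q8135, e3 q7366 L159568 q8277, e3 q7367 (flp_i L151082) q6374, e3 q7368 L159602 q8281, e3 q7369 L159610 q8282, e3 q7370 (flp_i L151104) q6375, e3 q7371 (flp_i L159545) q8273, e3 q7372 (flp_i L151116) q6377, e3 q7373 (flp_i L158190) q8129, e3 q7374 L159658 q8288, e3 q7375 L159665 q8289, e3 q7376 (flp_i L151148) q6381, e3 q7377 (flp_i L151155) q6382, e3 q7378 L151173 q6621, e3 q7379 L159726 q8294, e3 q7380 L159753 q8296, e3 q7381 (flp_i L151203) q7292, e3 q7382 (flp_i L151205) q6386, e3 q7383 (flp_i L151216) q6389, e3 q7384 L151233 q6661, e3 q7385 L151242 q6662, e3 q7386 L151250 q6663, e3 q7387 (flp_i L151256) q6396, e3 q7388 L151272 q6404, e3 q7389 L159785 q8299, e3 q7390 (flp_i L151281) q6400, e3 q7391 (flp_i L159783) q8298, e3 q7392 (flp_i L151294) q6402, e3 q7393 (flp_i L158302) q8139, e3 q7394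 (flp_i L157698) q8085, e3 q7395 (flp_i L156281) q7943, e3 q7396 (flp_i L158393) q8148, e3 q7397 L159820 q8304, e3 q7398 (flp_i L151340) q6415, e3 q7399 L159836 q8306, e3 q7400 L159846 q8307, e3 q7401 (flp_i L151364) q6416, e3 q7402 L159882 q8311, e3 q7403 L159902 q8314, e3 q7404 (flp_i L151386) q6418, e3 q7405 L159918 q8317, e3 q7406 (flp_i L151398) q6419, e3 q7407 (flp_i L154461) q7755, e3 q7408 (flp_i L159086) q8223, e3 q7409 (flp_i L151422) q6423, e3 q7410 (flp_i L159076) q8222, e3 q7411 L151446 q6436, e3 q7412 L159972 q8323, e3 q7413 L159995 q8326, e3 q7414 (flp_i L151466) q6426, e3 q7415 L160027 q8330, e3 q7416 L160039 q8332, e3 q7417 (flp_i L151484) q6427, e3 q7418 L151494 q6443, e3 q7419 L160057 q8335, e3 q7420 (flp_i L151504) q6429, e3 q7421 L151518 q6446, e3 q7422 L160089 q8339, e3 q7423 L160107 q8341, trivial⟩ (by decide +kernel)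

theorem ce_i_116 : ∀ r, r < 64 → sm gi (Qf (7424 + r)) = Qf (tab Gen.i (7424 + r)) :=
  edges_tab (sm gi) Qf (tab Gen.i) 7424 [(7424, 6432), (7425, 8321), (7426, 8344), (7427, 6434), (7428, 8204), (7429, 8348), (7430, 6437), (7431, 8352), (7432, 8354), (7433, 6438), (7434, 8327), (7435, 8360), (7436, 8361), (7437, 6440), (7438, 8363), (7439, 6441), (7440, 8333), (7441, 8334), (7442, 6444), (7443, 8336), (7444, 8188), (7445, 8373), (7446, 8374), (7447, 6447), (7448, 8376), (7449, 6448), (7450, 6625), (7451, 6622), (7452, 6451), (7453, 6626), (7454, 8381), (7455, 8382), (7456, 8383), (7457, 6454), (7458, 6455), (7459, 8385), (7460, 6457), (7461, 6689), (7462, 6690), (7463, 6691), (7464, 6692), (7465, 6693), (7466, 6694), (7467, 6464), (7468, 6465), (7469, 6466), (7470, 7216), (7471, 6699), (7472, 6700), (7473, 6701), (7474, 8396), (7475, 6479), (7476, 8398), (7477, 6480), (7478, 6495), (7479, 6482), (7480, 6498), (7481, 6485), (7482, 6500), (7483, 6488), (7484, 8251), (7485, 8404), (7486,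 6491), (7487, 8397)]
    ⟨e3 q7424 (flp_i L151534) q6432, e3 q7425 (flp_i L159960) q8321, e3 q7426 L160131 q8344, e3 q7427 (flp_i L151560) q6434, e3 q7428 (flp_i L158892) q8204, e3 q7429 L160163 q8348, e3 q7430 (flp_i L151584) q6437, e3 q7431 L160199 q8352, e3 q7432 L160219 q8354, e3 q7433 (flp_i L151610) q6438, e3 q7434 (flp_i L160013) q8327, e3 q7435 L160267 q8360, e3 q7436 L160275 q8361, e3 q7437 (flp_i L151638) q6440, e3 q7438 L160283 q8363, e3 q7439 (flp_i L151648) q6441, e3 q7440 (flp_i L160051) q8333, e3 q7441 (flp_i L160055) q8334, e3 q7442 (flp_i L151662) q6444, e3 q7443 (flp_i L160071) q8336, e3 q7444 (flp_i L158769) q8188, e3 q7445 L160350 q8373, e3 q7446 L160358 q8374, e3 q7447 (flp_i L151696) q6447, e3 q7448 L160372 q8376, e3 q7449 (flp_i L151715) q6448, e3 q7450 L151736 q6625, e3 q7451 L151747 q6622, e3 q7452 (flp_i L151751) q6451, e3 q7453 L151769 q6626, e3 q7454 L160431 q8381, e3 q7455 L160439 q8382, e3 q7456 L160447 q8383, e3 q7457 (flp_i L151797) q6454, e3 q7458 (flp_i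 L151805) q6455, e3 q7459 (flp_i L160469) q8385, e3 q7460 (flp_i L151815) q6457, e3 q7461 L151835 q6689, e3 q7462 L151841 q6690, e3 q7463 L151847 q6691, e3 q7464 L151857 q6692, e3 q7465 L151865 q6693, e3 q7466 L151869 q6694, e3 q7467 (flp_i L151871) q6464, e3 q7468 (flp_i L151877) q6465, e3 q7469 (flp_i L151886) q6466, e3 q7470 L151906 q7216, e3 q7471 L151919 q6699, e3 q7472 L151929 q6700, e3 q7473 L151947 q6701, e3 q7474 L160567 q8396, e3 q7475 (flp_i L151964) q6479, e3 q7476 L160588 q8398, e3 q7477 (flp_i L151981) q6480, e3 q7478 L151996 q6495, e3 q7479 (flp_i L151998) q6482, e3 q7480 L152017 q6498, e3 q7481 (flp_i L152019) q6485, e3 q7482 L152033 q6500, e3 q7483 (flp_i L152035) q6488, e3 q7484 (flp_i L159336) q8251, e3 q7485 L160642 q8404, e3 q7486 (flp_i L152063) q6491, e3 q7487 (flp_i L160586) q8397, trivial⟩ (by decide +kernel)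

theorem ce_i_117 : ∀ r, r < 64 → sm gi (Qf (7488 + r)) = Qf (tab Gen.i (7488 + r)) :=
  edges_tab (sm gi) Qf (tab Gen.i) 7488 [(7488, 8406), (7489, 6493), (7490, 8399), (7491, 6496), (7492, 8400), (7493, 8401), (7494, 8402), (7495, 8241), (7496, 8239), (7497, 6650), (7498, 6703), (7499, 6508), (7500, 6520), (7501, 6522), (7502, 6524), (7503, 6525), (7504, 6526), (7505, 7948), (7506, 6518), (7507, 8413), (7508, 8094), (7509, 8414), (7510, 8092), (7511, 8415), (7512, 8261), (7513, 8421), (7514, 6530), (7515, 6532), (7516, 6533), (7517, 7181), (7518, 6537), (7519, 7525), (7520, 8427), (7521, 8429), (7522, 6539), (7523, 8432), (7524, 6540), (7525, 7519), (7526, 8434), (7527, 6542), (7528, 7812), (7529, 6545), (7530, 8439), (7531, 8441), (7532, 6548), (7533, 7533), (7534, 8446), (7535, 8447), (7536, 6550), (7537, 8449), (7538, 6551), (7539, 7539), (7540, 7540), (7541, 8453), (7542, 8454), (7543, 8455), (7544, 6554), (7545, 6555), (7546, 8457), (7547, 6557), (7548, 7548), (7549, 7549), (7550,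 7550), (7551, 7551)]
    ⟨e3 q7488 L160662 q8406, e3 q7489 (flp_i L152091) q6493, e3 q7490 (flp_i L160603) q8399, e3 q7491 (flp_i L152107) q6496, e3 q7492 (flp_i L160613) q8400, e3 q7493 (flp_i L160621) q8401, e3 q7494 (flp_i L160630) q8402, e3 q7495 (flp_i L159261) q8241, e3 q7496 (flp_i L159243) q8239, e3 q7497 L152166 q6650, e3 q7498 L152172 q6703, e3 q7499 (flp_i L152174) q6508, e3 q7500 L152189 q6520, e3 q7501 L152199 q6522, e3 q7502 L152207 q6524, e3 q7503 L152213 q6525, e3 q7504 L152220 q6526, e3 q7505 (flp_i L156345) q7948, e3 q7506 (flp_i L152230) q6518, e3 q7507 (flp_i L160726) q8413, e3 q7508 (flp_i L157807) q8094, e3 q7509 (flp_i L160734) q8414, e3 q7510 (flp_i L157784) q8092, e3 q7511 (flp_i L160741) q8415, e3 q7512 (flp_i L159426) q8261, e3 q7513 L160783 q8421, e3 q7514 (flp_i L152293) q6530, e3 q7515 (flp_i L152300) q6532, e3 q7516 (flp_i L152309) q6533, e3 q7517 L152323 q7181, e3 q7518 (flp_i L152325) q6537, e3 q7519 (flp_i L152396) q7525, e3 q7520 L160838 q8427, e3 q7521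 L160856 q8429, e3 q7522 (flp_i L152361) q6539, e3 q7523 L160885 q8432, e3 q7524 (flp_i L152379) q6540, e3 q7525 L152396 q7519, e3 q7526 L160906 q8434, e3 q7527 (flp_i L152403) q6542, e3 q7528 (flp_i L154883) q7812, e3 q7529 (flp_i L152415) q6545, e3 q7530 L160940 q8439, e3 q7531 L160962 q8441, e3 q7532 (flp_i L152443) q6548, e3 q7533 L152464 q7533, e3 q7534 L161012 q8446, e3 q7535 L161020 q8447, e3 q7536 (flp_i L152480) q6550, e3 q7537 L161037 q8449, e3 q7538 (flp_i L152500) q6551, e3 q7539 L152519 q7539, e3 q7540 L152527 q7540, e3 q7541 L161074 q8453, e3 q7542 L161082 q8454, e3 q7543 L161093 q8455, e3 q7544 (flp_i L152559) q6554, e3 q7545 (flp_i L152568) q6555, e3 q7546 (flp_i L161119) q8457, e3 q7547 (flp_i L152583) q6557, e3 q7548 L152601 q7548, e3 q7549 L152607 q7549, e3 q7550 L152614 q7550, e3 q7551 L152625 q7551, trivial⟩ (by decide +kernel)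

theorem ce_i_118 : ∀ r, r < 64 → sm gi (Qf (7552 + r)) = Qf (tab Gen.i (7552 + r)) :=
  edges_tab (sm gi) Qf (tab Gen.i) 7552 [(7552, 7552), (7553, 7553), (7554, 8465), (7555, 8466), (7556, 8467), (7557, 6564), (7558, 6565), (7559, 8469), (7560, 6567), (7561, 6721), (7562, 6722), (7563, 6723), (7564, 6724), (7565, 6725), (7566, 6726), (7567, 6574), (7568, 6575), (7569, 6576), (7570, 8479), (7571, 6579), (7572, 8481), (7573, 6733), (7574, 6734), (7575, 6735), (7576, 6736), (7577, 6737), (7578, 7691), (7579, 7190), (7580, 6590), (7581, 7184), (7582, 6740), (7583, 8487), (7584, 6595), (7585, 7585), (7586, 6598), (7587, 7587), (7588, 7588), (7589, 7589), (7590, 7590), (7591, 7591), (7592, 7592), (7593, 6741), (7594, 6611), (7595, 7595), (7596, 7596), (7597, 7597), (7598, 7598), (7599, 7599), (7600, 7192), (7601, 8291), (7602, 8379), (7603, 8498), (7604, 6623), (7605, 7605), (7606, 8378), (7607, 8377), (7608, 8380), (7609, 6679), (7610, 8506), (7611, 6681), (7612, 6676), (7613, 8510), (7614,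 6678), (7615, 8295)]
    ⟨e3 q7552 L152633 q7552, e3 q7553 L152644 q7553, e3 q7554 L161181 q8465, e3 q7555 L161193 q8466, e3 q7556 L161206 q8467, e3 q7557 (flp_i L152683) q6564, e3 q7558 (flp_i L152692) q6565, e3 q7559 (flp_i L161235) q8469, e3 q7560 (flp_i L152712) q6567, e3 q7561 L152730 q6721, e3 q7562 L152737 q6722, e3 q7563 L152747 q6723, e3 q7564 L152759 q6724, e3 q7565 L152768 q6725, e3 q7566 L152780 q6726, e3 q7567 (flp_i L152782) q6574, e3 q7568 (flp_i L152789) q6575, e3 q7569 (flp_i L152796) q6576, e3 q7570 (flp_i L161324) q8479, e3 q7571 L152815 q6579, e3 q7572 (flp_i L161340) q8481, e3 q7573 L152831 q6733, e3 q7574 L152838 q6734, e3 q7575 L152849 q6735, e3 q7576 L152856 q6736, e3 q7577 L152865 q6737, e3 q7578 (flp_i L153962) q7691, e3 q7579 L152882 q7190, e3 q7580 L152898 q6590, e3 q7581 L152909 q7184, e3 q7582 L152923 q6740, e3 q7583 L161388 q8487, e3 q7584 (flp_i L152941) q6595, e3 q7585 L152960 q7585, e3 q7586 (flp_i L152961) q6598, e3 q7587 L152977 q7587, e3 q7588 L152984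 q7588, e3 q7589 L152996 q7589, e3 q7590 L153003 q7590, e3 q7591 L153010 q7591, e3 q7592 L153020 q7592, e3 q7593 L153028 q6741, e3 q7594 (flp_i L153030) q6611, e3 q7595 L153048 q7595, e3 q7596 L153055 q7596, e3 q7597 L153066 q7597, e3 q7598 L153073 q7598, e3 q7599 L153080 q7599, e3 q7600 L153093 q7192, e3 q7601 (flp_i L159692) q8291, e3 q7602 (flp_i L160416) q8379, e3 q7603 L161487 q8498, e3 q7604 (flp_i L153126) q6623, e3 q7605 L153145 q7605, e3 q7606 (flp_i L160404) q8378, e3 q7607 (flp_i L160394) q8377, e3 q7608 (flp_i L160429) q8380, e3 q7609 L153186 q6679, e3 q7610 L161586 q8506, e3 q7611 L153208 q6681, e3 q7612 L153221 q6676, e3 q7613 L161644 q8510, e3 q7614 L153241 q6678, e3 q7615 L159751 q8295, trivial⟩ (by decide +kernel)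

theorem ce_i_119 : ∀ r, r < 64 → sm gi (Qf (7616 + r)) = Qf (tab Gen.i (7616 + r)) :=
  edges_tab (sm gi) Qf (tab Gen.i) 7616 [(7616, 8293), (7617, 8511), (7618, 6633), (7619, 6634), (7620, 8512), (7621, 6636), (7622, 8218), (7623, 8219), (7624, 8220), (7625, 8221), (7626, 6642), (7627, 6643), (7628, 8226), (7629, 6652), (7630, 7630), (7631, 8518), (7632, 6655), (7633, 8297), (7634, 6664), (7635, 7635), (7636, 8522), (7637, 8523), (7638, 6666), (7639, 7639), (7640, 8525), (7641, 6668), (7642, 7642), (7643, 8531), (7644, 8532), (7645, 6671), (7646, 8534), (7647, 6672), (7648, 6674), (7649, 8507), (7650, 8508), (7651, 8535), (7652, 6677), (7653, 8503), (7654, 8504), (7655, 8536), (7656, 6680), (7657, 6682), (7658, 6683), (7659, 6684), (7660, 8537), (7661, 6687), (7662, 8538), (7663, 8387), (7664, 8388), (7665, 8389), (7666, 8390), (7667, 8391), (7668, 8392), (7669, 8395), (7670, 8544), (7671, 6704), (7672, 7672), (7673, 7673), (7674, 7674), (7675, 7675), (7676, 6711), (7677, 7677), (7678,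 7678), (7679, 6714)]
    ⟨e3 q7616 L159724 q8293, e3 q7617 L161656 q8511, e3 q7618 (flp_i L153279) q6633, e3 q7619 (flp_i L153290) q6634, e3 q7620 (flp_i L161677) q8512, e3 q7621 (flp_i L153306) q6636, e3 q7622 (flp_i L159032) q8218, e3 q7623 (flp_i L159041) q8219, e3 q7624 (flp_i L159052) q8220, e3 q7625 (flp_i L159066) q8221, e3 q7626 (flp_i L153361) q6642, e3 q7627 (flp_i L153374) q6643, e3 q7628 (flp_i L159117) q8226, e3 q7629 (flp_i L153399) q6652, e3 q7630 L153426 q7630, e3 q7631 L161736 q8518, e3 q7632 (flp_i L153438) q6655, e3 q7633 (flp_i L159775) q8297, e3 q7634 (flp_i L153462) q6664, e3 q7635 L153484 q7635, e3 q7636 L161779 q8522, e3 q7637 L161786 q8523, e3 q7638 (flp_i L153499) q6666, e3 q7639 L153516 q7639, e3 q7640 L161806 q8525, e3 q7641 (flp_i L153529) q6668, e3 q7642 L153542 q7642, e3 q7643 L161860 q8531, e3 q7644 L161867 q8532, e3 q7645 (flp_i L153553) q6671, e3 q7646 L161875 q8534, e3 q7647 (flp_i L153566) q6672, e3 q7648 (flp_i L153574) q6674, e3 q7649 (flp_i L161606)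 q8507, e3 q7650 (flp_i L161625) q8508, e3 q7651 L161883 q8535, e3 q7652 (flp_i L153614) q6677, e3 q7653 (flp_i L161546) q8503, e3 q7654 (flp_i L161566) q8504, e3 q7655 L161894 q8536, e3 q7656 (flp_i L153652) q6680, e3 q7657 (flp_i L153659) q6682, e3 q7658 (flp_i L153670) q6683, e3 q7659 (flp_i L153680) q6684, e3 q7660 (flp_i L161914) q8537, e3 q7661 L153701 q6687, e3 q7662 (flp_i L161920) q8538, e3 q7663 (flp_i L160487) q8387, e3 q7664 (flp_i L160495) q8388, e3 q7665 (flp_i L160501) q8389, e3 q7666 (flp_i L160509) q8390, e3 q7667 (flp_i L160519) q8391, e3 q7668 (flp_i L160523) q8392, e3 q7669 (flp_i L160559) q8395, e3 q7670 L161958 q8544, e3 q7671 (flp_i L153772) q6704, e3 q7672 L153796 q7672, e3 q7673 L153810 q7673, e3 q7674 L153820 q7674, e3 q7675 L153831 q7675, e3 q7676 (flp_i L153832) q6711, e3 q7677 L153848 q7677, e3 q7678 L153852 q7678, e3 q7679 (flp_i L153853) q6714, trivial⟩ (by decide +kernel)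

theorem ce_i_120 : ∀ r, r < 64 → sm gi (Qf (7680 + r)) = Qf (tab Gen.i (7680 + r)) :=
  edges_tab (sm gi) Qf (tab Gen.i) 7680 [(7680, 6715), (7681, 6716), (7682, 8552), (7683, 6719), (7684, 8554), (7685, 8471), (7686, 8472), (7687, 8473), (7688, 8474), (7689, 8475), (7690, 8476), (7691, 7578), (7692, 6730), (7693, 6732), (7694, 8484), (7695, 8485), (7696, 8561), (7697, 8563), (7698, 6742), (7699, 8565), (7700, 8567), (7701, 6744), (7702, 6745), (7703, 6752), (7704, 8571), (7705, 6747), (7706, 8575), (7707, 8576), (7708, 6748), (7709, 8568), (7710, 6750), (7711, 8569), (7712, 8584), (7713, 8585), (7714, 6753), (7715, 8587), (7716, 6754), (7717, 7717), (7718, 7718), (7719, 6757), (7720, 7720), (7721, 7721), (7722, 8594), (7723, 8595), (7724, 7090), (7725, 6760), (7726, 6763), (7727, 7727), (7728, 7728), (7729, 7729), (7730, 6770), (7731, 6777), (7732, 6779), (7733, 6774), (7734, 8597), (7735, 8059), (7736, 8598), (7737, 8057), (7738, 8599), (7739, 7739), (7740, 7740), (7741, 7741), (7742,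 7742), (7743, 7743)]
    ⟨e3 q7680 (flp_i L153863) q6715, e3 q7681 (flp_i L153875) q6716, e3 q7682 (flp_i L162057) q8552, e3 q7683 L153898 q6719, e3 q7684 (flp_i L162071) q8554, e3 q7685 (flp_i L161254) q8471, e3 q7686 (flp_i L161261) q8472, e3 q7687 (flp_i L161268) q8473, e3 q7688 (flp_i L161277) q8474, e3 q7689 (flp_i L161290) q8475, e3 q7690 (flp_i L161299) q8476, e3 q7691 L153962 q7578, e3 q7692 L153974 q6730, e3 q7693 L153979 q6732, e3 q7694 (flp_i L161363) q8484, e3 q7695 (flp_i L161375) q8485, e3 q7696 L162128 q8561, e3 q7697 L162146 q8563, e3 q7698 (flp_i L154012) q6742, e3 q7699 L162161 q8565, e3 q7700 L162172 q8567, e3 q7701 (flp_i L154033) q6744, e3 q7702 (flp_i L154039) q6745, e3 q7703 L154054 q6752, e3 q7704 L162205 q8571, e3 q7705 (flp_i L154062) q6747, e3 q7706 L162235 q8575, e3 q7707 L162245 q8576, e3 q7708 (flp_i L154084) q6748, e3 q7709 (flp_i L162186) q8568, e3 q7710 (flp_i L154098) q6750, e3 q7711 (flp_i L162196) q8569, e3 q7712 L162307 q8584, e3 q7713 L162316 q8585,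 e3 q7714 (flp_i L154131) q6753, e3 q7715 L162331 q8587, e3 q7716 (flp_i L154150) q6754, e3 q7717 L154170 q7717, e3 q7718 L154180 q7718, e3 q7719 (flp_i L154185) q6757, e3 q7720 L154205 q7720, e3 q7721 L154212 q7721, e3 q7722 L162399 q8594, e3 q7723 L162412 q8595, e3 q7724 (flp_i L154238) q7090, e3 q7725 (flp_i L154240) q6760, e3 q7726 (flp_i L154253) q6763, e3 q7727 L154274 q7727, e3 q7728 L154284 q7728, e3 q7729 L154293 q7729, e3 q7730 (flp_i L154298) q6770, e3 q7731 L154309 q6777, e3 q7732 L154317 q6779, e3 q7733 (flp_i L154319) q6774, e3 q7734 (flp_i L162443) q8597, e3 q7735 (flp_i L157431) q8059, e3 q7736 (flp_i L162449) q8598, e3 q7737 (flp_i L157405) q8057, e3 q7738 (flp_i L162456) q8599, e3 q7739 L154365 q7739, e3 q7740 L154372 q7740, e3 q7741 L154377 q7741, e3 q7742 L154383 q7742, e3 q7743 L154388 q7743, trivial⟩ (by decide +kernel)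

theorem ce_i_121 : ∀ r, r < 64 → sm gi (Qf (7744 + r)) = Qf (tab Gen.i (7744 + r)) :=
  edges_tab (sm gi) Qf (tab Gen.i) 7744 [(7744, 6791), (7745, 6793), (7746, 8088), (7747, 8610), (7748, 8086), (7749, 8611), (7750, 7750), (7751, 8617), (7752, 6798), (7753, 8620), (7754, 6799), (7755, 7407), (7756, 8624), (7757, 8625), (7758, 6801), (7759, 6809), (7760, 6803), (7761, 6812), (7762, 8633), (7763, 8634), (7764, 6806), (7765, 8636), (7766, 6807), (7767, 8626), (7768, 8627), (7769, 6810), (7770, 8628), (7771, 8629), (7772, 8643), (7773, 8644), (7774, 8645), (7775, 6813), (7776, 6814), (7777, 8647), (7778, 6816), (7779, 7779), (7780, 7780), (7781, 7781), (7782, 7782), (7783, 7783), (7784, 7784), (7785, 6823), (7786, 6824), (7787, 6825), (7788, 6948), (7789, 7789), (7790, 7790), (7791, 7791), (7792, 7792), (7793, 7793), (7794, 6839), (7795, 6840), (7796, 8091), (7797, 8663), (7798, 8248), (7799, 7799), (7800, 7800), (7801, 7801), (7802, 7802), (7803, 7803), (7804, 6851), (7805, 8093), (7806,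 8266), (7807, 8260)]
    ⟨e3 q7744 L154392 q6791, e3 q7745 L154399 q6793, e3 q7746 (flp_i L157737) q8088, e3 q7747 (flp_i L162522) q8610, e3 q7748 (flp_i L157708) q8086, e3 q7749 (flp_i L162527) q8611, e3 q7750 L154426 q7750, e3 q7751 L162562 q8617, e3 q7752 (flp_i L154435) q6798, e3 q7753 L162583 q8620, e3 q7754 (flp_i L154450) q6799, e3 q7755 L154461 q7407, e3 q7756 L162610 q8624, e3 q7757 L162615 q8625, e3 q7758 (flp_i L154472) q6801, e3 q7759 L154482 q6809, e3 q7760 (flp_i L154484) q6803, e3 q7761 L154497 q6812, e3 q7762 L162666 q8633, e3 q7763 L162674 q8634, e3 q7764 (flp_i L154511) q6806, e3 q7765 L162686 q8636, e3 q7766 (flp_i L154523) q6807, e3 q7767 (flp_i L162627) q8626, e3 q7768 (flp_i L162631) q8627, e3 q7769 (flp_i L154539) q6810, e3 q7770 (flp_i L162639) q8628, e3 q7771 (flp_i L162645) q8629, e3 q7772 L162722 q8643, e3 q7773 L162732 q8644, e3 q7774 L162740 q8645, e3 q7775 (flp_i L154580) q6813, e3 q7776 (flp_i L154588) q6814, e3 q7777 (flp_i L162759) q8647, e3 q7778 (flp_i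 L154601) q6816, e3 q7779 L154621 q7779, e3 q7780 L154626 q7780, e3 q7781 L154633 q7781, e3 q7782 L154642 q7782, e3 q7783 L154649 q7783, e3 q7784 L154652 q7784, e3 q7785 (flp_i L154653) q6823, e3 q7786 (flp_i L154661) q6824, e3 q7787 (flp_i L154670) q6825, e3 q7788 L154693 q6948, e3 q7789 L154706 q7789, e3 q7790 L154715 q7790, e3 q7791 L154727 q7791, e3 q7792 L154736 q7792, e3 q7793 L154745 q7793, e3 q7794 L154752 q6839, e3 q7795 L154758 q6840, e3 q7796 (flp_i L157770) q8091, e3 q7797 (flp_i L162914) q8663, e3 q7798 (flp_i L159313) q8248, e3 q7799 L154787 q7799, e3 q7800 L154794 q7800, e3 q7801 L154801 q7801, e3 q7802 L154808 q7802, e3 q7803 L154821 q7803, e3 q7804 L154830 q6851, e3 q7805 (flp_i L157792) q8093, e3 q7806 (flp_i L159474) q8266, e3 q7807 (flp_i L159415) q8260, trivial⟩ (by decide +kernel)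

theorem ce_i_122 : ∀ r, r < 64 → sm gi (Qf (7808 + r)) = Qf (tab Gen.i (7808 + r)) :=
  edges_tab (sm gi) Qf (tab Gen.i) 7808 [(7808, 8265), (7809, 7809), (7810, 8671), (7811, 6858), (7812, 7528), (7813, 6861), (7814, 6862), (7815, 6863), (7816, 8676), (7817, 6866), (7818, 8678), (7819, 7819), (7820, 7820), (7821, 7821), (7822, 7822), (7823, 7823), (7824, 7824), (7825, 7825), (7826, 7826), (7827, 8551), (7828, 8550), (7829, 6877), (7830, 6903), (7831, 7831), (7832, 7832), (7833, 7833), (7834, 7834), (7835, 7835), (7836, 6900), (7837, 7837), (7838, 8689), (7839, 6904), (7840, 6912), (7841, 7841), (7842, 7842), (7843, 8692), (7844, 8694), (7845, 6920), (7846, 8697), (7847, 6922), (7848, 8700), (7849, 8701), (7850, 6923), (7851, 8705), (7852, 8708), (7853, 6925), (7854, 8710), (7855, 6926), (7856, 6938), (7857, 8714), (7858, 8715), (7859, 6928), (7860, 8718), (7861, 8719), (7862, 6930), (7863, 6931), (7864, 8702), (7865, 8723), (7866, 8726), (7867, 6933), (7868, 8730), (7869, 8732), (7870,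 6934), (7871, 8709)]
    ⟨e3 q7808 (flp_i L159467) q8265, e3 q7809 L154857 q7809, e3 q7810 L162961 q8671, e3 q7811 (flp_i L154868) q6858, e3 q7812 L154883 q7528, e3 q7813 (flp_i L154885) q6861, e3 q7814 (flp_i L154894) q6862, e3 q7815 (flp_i L154901) q6863, e3 q7816 (flp_i L163005) q8676, e3 q7817 L154917 q6866, e3 q7818 (flp_i L163017) q8678, e3 q7819 L154933 q7819, e3 q7820 L154939 q7820, e3 q7821 L154943 q7821, e3 q7822 L154949 q7822, e3 q7823 L154959 q7823, e3 q7824 L154965 q7824, e3 q7825 L154971 q7825, e3 q7826 L154978 q7826, e3 q7827 (flp_i L162045) q8551, e3 q7828 (flp_i L162029) q8550, e3 q7829 L155004 q6877, e3 q7830 L155015 q6903, e3 q7831 L155027 q7831, e3 q7832 L155041 q7832, e3 q7833 L155055 q7833, e3 q7834 L155060 q7834, e3 q7835 L155064 q7835, e3 q7836 (flp_i L155067) q6900, e3 q7837 L155095 q7837, e3 q7838 (flp_i L163101) q8689, e3 q7839 (flp_i L155107) q6904, e3 q7840 (flp_i L155120) q6912, e3 q7841 L155144 q7841, e3 q7842 L155158 q7842, e3 q7843 L163126 q8692, e3 q7844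 L163146 q8694, e3 q7845 (flp_i L155177) q6920, e3 q7846 L163179 q8697, e3 q7847 (flp_i L155200) q6922, e3 q7848 L163221 q8700, e3 q7849 L163229 q8701, e3 q7850 (flp_i L155235) q6923, e3 q7851 L163282 q8705, e3 q7852 L163309 q8708, e3 q7853 (flp_i L155261) q6925, e3 q7854 L163327 q8710, e3 q7855 (flp_i L155282) q6926, e3 q7856 L155301 q6938, e3 q7857 L163378 q8714, e3 q7858 L163388 q8715, e3 q7859 (flp_i L155324) q6928, e3 q7860 L163429 q8718, e3 q7861 L163439 q8719, e3 q7862 (flp_i L155356) q6930, e3 q7863 (flp_i L155364) q6931, e3 q7864 (flp_i L163252) q8702, e3 q7865 L163487 q8723, e3 q7866 L163519 q8726, e3 q7867 (flp_i L155404) q6933, e3 q7868 L163555 q8730, e3 q7869 L163577 q8732, e3 q7870 (flp_i L155426) q6934, e3 q7871 (flp_i L163325) q8709, trivial⟩ (by decide +kernel)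

theorem ce_i_123 : ∀ r, r < 64 → sm gi (Qf (7872 + r)) = Qf (tab Gen.i (7872 + r)) :=
  edges_tab (sm gi) Qf (tab Gen.i) 7872 [(7872, 8735), (7873, 6936), (7874, 8711), (7875, 7875), (7876, 8742), (7877, 8743), (7878, 6941), (7879, 8745), (7880, 6942), (7881, 7881), (7882, 6945), (7883, 7883), (7884, 7884), (7885, 8657), (7886, 8658), (7887, 6949), (7888, 7888), (7889, 6953), (7890, 8750), (7891, 6955), (7892, 6956), (7893, 6970), (7894, 8753), (7895, 8754), (7896, 6958), (7897, 6959), (7898, 6976), (7899, 6961), (7900, 6979), (7901, 8760), (7902, 6964), (7903, 6965), (7904, 8749), (7905, 8763), (7906, 6967), (7907, 8751), (7908, 8752), (7909, 8767), (7910, 6971), (7911, 8769), (7912, 6972), (7913, 8755), (7914, 6974), (7915, 8756), (7916, 8757), (7917, 6977), (7918, 8758), (7919, 8759), (7920, 7920), (7921, 7921), (7922, 7922), (7923, 7923), (7924, 6986), (7925, 6990), (7926, 7926), (7927, 7927), (7928, 7928), (7929, 7929), (7930, 7930), (7931, 7008), (7932, 7011), (7933, 7012), (7934,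 7000), (7935, 7016)]
    ⟨e3 q7872 L163603 q8735, e3 q7873 (flp_i L155456) q6936, e3 q7874 (flp_i L163348) q8711, e3 q7875 L155488 q7875, e3 q7876 L163675 q8742, e3 q7877 L163683 q8743, e3 q7878 (flp_i L155506) q6941, e3 q7879 L163698 q8745, e3 q7880 (flp_i L155525) q6942, e3 q7881 L155543 q7881, e3 q7882 (flp_i L155544) q6945, e3 q7883 L155570 q7883, e3 q7884 L155577 q7884, e3 q7885 (flp_i L162833) q8657, e3 q7886 (flp_i L162846) q8658, e3 q7887 (flp_i L155595) q6949, e3 q7888 L155615 q7888, e3 q7889 (flp_i L155616) q6953, e3 q7890 L163753 q8750, e3 q7891 (flp_i L155643) q6955, e3 q7892 (flp_i L155656) q6956, e3 q7893 L155677 q6970, e3 q7894 L163794 q8753, e3 q7895 L163807 q8754, e3 q7896 (flp_i L155706) q6958, e3 q7897 (flp_i L155713) q6959, e3 q7898 L155735 q6976, e3 q7899 (flp_i L155737) q6961, e3 q7900 L155756 q6979, e3 q7901 L163879 q8760, e3 q7902 (flp_i L155772) q6964, e3 q7903 (flp_i L155786) q6965, e3 q7904 (flp_i L163751) q8749, e3 q7905 L163923 q8763, e3 q7906 (flp_i L155823)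 q6967, e3 q7907 (flp_i L163778) q8751, e3 q7908 (flp_i L163792) q8752, e3 q7909 L163973 q8767, e3 q7910 (flp_i L155869) q6971, e3 q7911 L163995 q8769, e3 q7912 (flp_i L155893) q6972, e3 q7913 (flp_i L163827) q8755, e3 q7914 (flp_i L155909) q6974, e3 q7915 (flp_i L163843) q8756, e3 q7916 (flp_i L163851) q8757, e3 q7917 (flp_i L155945) q6977, e3 q7918 (flp_i L163868) q8758, e3 q7919 (flp_i L163874) q8759, e3 q7920 L155983 q7920, e3 q7921 L155996 q7921, e3 q7922 L156009 q7922, e3 q7923 L156022 q7923, e3 q7924 (flp_i L156025) q6986, e3 q7925 (flp_i L156039) q6990, e3 q7926 L156063 q7926, e3 q7927 L156072 q7927, e3 q7928 L156085 q7928, e3 q7929 L156092 q7929, e3 q7930 L156101 q7930, e3 q7931 L156120 q7008, e3 q7932 L156134 q7011, e3 q7933 L156148 q7012, e3 q7934 (flp_i L156150) q7000, e3 q7935 L156175 q7016, trivial⟩ (by decide +kernel)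

theorem ce_i_124 : ∀ r, r < 64 → sm gi (Qf (7936 + r)) = Qf (tab Gen.i (7936 + r)) :=
  edges_tab (sm gi) Qf (tab Gen.i) 7936 [(7936, 7018), (7937, 7019), (7938, 7021), (7939, 7022), (7940, 7343), (7941, 7234), (7942, 7009), (7943, 7395), (7944, 8783), (7945, 8784), (7946, 7013), (7947, 8785), (7948, 7505), (7949, 8786), (7950, 7354), (7951, 8787), (7952, 7351), (7953, 8788), (7954, 8789), (7955, 7955), (7956, 7956), (7957, 7957), (7958, 8798), (7959, 7034), (7960, 8800), (7961, 7035), (7962, 8804), (7963, 8807), (7964, 7037), (7965, 8810), (7966, 7038), (7967, 8271), (7968, 7040), (7969, 8812), (7970, 7041), (7971, 8814), (7972, 8816), (7973, 7043), (7974, 7044), (7975, 7060), (7976, 8819), (7977, 8822), (7978, 7046), (7979, 8826), (7980, 8828), (7981, 7047), (7982, 7067), (7983, 8831), (7984, 7049), (7985, 7070), (7986, 8835), (7987, 7052), (7988, 7053), (7989, 8813), (7990, 8838), (7991, 8840), (7992, 7055), (7993, 8843), (7994, 8845), (7995, 7056), (7996, 8817), (7997, 8848), (7998,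 7058), (7999, 8818)]
    ⟨e3 q7936 L156191 q7018, e3 q7937 L156197 q7019, e3 q7938 L156214 q7021, e3 q7939 L156220 q7022, e3 q7940 L156239 q7343, e3 q7941 L156253 q7234, e3 q7942 (flp_i L156255) q7009, e3 q7943 L156281 q7395, e3 q7944 (flp_i L164173) q8783, e3 q7945 (flp_i L164188) q8784, e3 q7946 (flp_i L156309) q7013, e3 q7947 (flp_i L164207) q8785, e3 q7948 L156345 q7505, e3 q7949 (flp_i L164217) q8786, e3 q7950 L156373 q7354, e3 q7951 (flp_i L164233) q8787, e3 q7952 L156403 q7351, e3 q7953 (flp_i L164247) q8788, e3 q7954 (flp_i L164263) q8789, e3 q7955 L156437 q7955, e3 q7956 L156452 q7956, e3 q7957 L156461 q7957, e3 q7958 L164383 q8798, e3 q7959 (flp_i L156474) q7034, e3 q7960 L164407 q8800, e3 q7961 (flp_i L156492) q7035, e3 q7962 L164443 q8804, e3 q7963 L164468 q8807, e3 q7964 (flp_i L156512) q7037, e3 q7965 L164489 q8810, e3 q7966 (flp_i L156529) q7038, e3 q7967 (flp_i L159529) q8271, e3 q7968 (flp_i L156544) q7040, e3 q7969 L164504 q8812, e3 q7970 (flp_i L156571) q7041, e3 q7971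 L164530 q8814, e3 q7972 L164553 q8816, e3 q7973 (flp_i L156609) q7043, e3 q7974 (flp_i L156615) q7044, e3 q7975 L156634 q7060, e3 q7976 L164585 q8819, e3 q7977 L164621 q8822, e3 q7978 (flp_i L156660) q7046, e3 q7979 L164653 q8826, e3 q7980 L164672 q8828, e3 q7981 (flp_i L156679) q7047, e3 q7982 L156691 q7067, e3 q7983 L164696 q8831, e3 q7984 (flp_i L156706) q7049, e3 q7985 L156721 q7070, e3 q7986 L164739 q8835, e3 q7987 (flp_i L156735) q7052, e3 q7988 (flp_i L156745) q7053, e3 q7989 (flp_i L164528) q8813, e3 q7990 L164773 q8838, e3 q7991 L164800 q8840, e3 q7992 (flp_i L156794) q7055, e3 q7993 L164834 q8843, e3 q7994 L164856 q8845, e3 q7995 (flp_i L156824) q7056, e3 q7996 (flp_i L164571) q8817, e3 q7997 L164882 q8848, e3 q7998 (flp_i L156852) q7058, e3 q7999 (flp_i L164583) q8818, trivial⟩ (by decide +kernel)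

theorem ce_i_125 : ∀ r, r < 64 → sm gi (Qf (8000 + r)) = Qf (tab Gen.i (8000 + r)) :=
  edges_tab (sm gi) Qf (tab Gen.i) 8000 [(8000, 8853), (8001, 7061), (8002, 8857), (8003, 8859), (8004, 7062), (8005, 8823), (8006, 8865), (8007, 8866), (8008, 7064), (8009, 8868), (8010, 7065), (8011, 8829), (8012, 8830), (8013, 7068), (8014, 8832), (8015, 8833), (8016, 8876), (8017, 7071), (8018, 8878), (8019, 7072), (8020, 8020), (8021, 7075), (8022, 8022), (8023, 8023), (8024, 8883), (8025, 8884), (8026, 8885), (8027, 7078), (8028, 7079), (8029, 8887), (8030, 7081), (8031, 8031), (8032, 8032), (8033, 8033), (8034, 8034), (8035, 8035), (8036, 8036), (8037, 7088), (8038, 7089), (8039, 8039), (8040, 7112), (8041, 7098), (8042, 7117), (8043, 7120), (8044, 7102), (8045, 8898), (8046, 7103), (8047, 7125), (8048, 7105), (8049, 7128), (8050, 7108), (8051, 7130), (8052, 7131), (8053, 7225), (8054, 7113), (8055, 7114), (8056, 8895), (8057, 7737), (8058, 7118), (8059, 7735), (8060, 8896), (8061, 8912), (8062,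 7121), (8063, 8897)]
    ⟨e3 q8000 L164939 q8853, e3 q8001 (flp_i L156882) q7061, e3 q8002 L164969 q8857, e3 q8003 L164990 q8859, e3 q8004 (flp_i L156903) q7062, e3 q8005 (flp_i L164641) q8823, e3 q8006 L165032 q8865, e3 q8007 L165040 q8866, e3 q8008 (flp_i L156929) q7064, e3 q8009 L165048 q8868, e3 q8010 (flp_i L156941) q7065, e3 q8011 (flp_i L164686) q8829, e3 q8012 (flp_i L164692) q8830, e3 q8013 (flp_i L156961) q7068, e3 q8014 (flp_i L164717) q8832, e3 q8015 (flp_i L164723) q8833, e3 q8016 L165101 q8876, e3 q8017 (flp_i L156994) q7071, e3 q8018 L165115 q8878, e3 q8019 (flp_i L157012) q7072, e3 q8020 L157031 q8020, e3 q8021 (flp_i L157032) q7075, e3 q8022 L157056 q8022, e3 q8023 L157063 q8023, e3 q8024 L165166 q8883, e3 q8025 L165173 q8884, e3 q8026 L165180 q8885, e3 q8027 (flp_i L157082) q7078, e3 q8028 (flp_i L157089) q7079, e3 q8029 (flp_i L165194) q8887, e3 q8030 (flp_i L157096) q7081, e3 q8031 L157114 q8031, e3 q8032 L157118 q8032, e3 q8033 L157124 q8033, e3 q8034 L157137 q8034,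 e3 q8035 L157144 q8035, e3 q8036 L157149 q8036, e3 q8037 (flp_i L157150) q7088, e3 q8038 (flp_i L157157) q7089, e3 q8039 L157175 q8039, e3 q8040 L157190 q7112, e3 q8041 (flp_i L157192) q7098, e3 q8042 L157220 q7117, e3 q8043 L157234 q7120, e3 q8044 (flp_i L157236) q7102, e3 q8045 L165287 q8898, e3 q8046 (flp_i L157264) q7103, e3 q8047 L157282 q7125, e3 q8048 (flp_i L157284) q7105, e3 q8049 L157308 q7128, e3 q8050 (flp_i L157310) q7108, e3 q8051 L157331 q7130, e3 q8052 L157337 q7131, e3 q8053 L157354 q7225, e3 q8054 (flp_i L157356) q7113, e3 q8055 (flp_i L157370) q7114, e3 q8056 (flp_i L165258) q8895, e3 q8057 L157405 q7737, e3 q8058 (flp_i L157407) q7118, e3 q8059 L157431 q7735, e3 q8060 (flp_i L165268) q8896, e3 q8061 L165471 q8912, e3 q8062 (flp_i L157456) q7121, e3 q8063 (flp_i L165285) q8897, trivial⟩ (by decide +kernel)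

theorem ce_i_126 : ∀ r, r < 64 → sm gi (Qf (8064 + r)) = Qf (tab Gen.i (8064 + r)) :=
  edges_tab (sm gi) Qf (tab Gen.i) 8064 [(8064, 8914), (8065, 7123), (8066, 8899), (8067, 7126), (8068, 8900), (8069, 8901), (8070, 8902), (8071, 8903), (8072, 8904), (8073, 8073), (8074, 8074), (8075, 8075), (8076, 8076), (8077, 7155), (8078, 7158), (8079, 7162), (8080, 7163), (8081, 7164), (8082, 7165), (8083, 7166), (8084, 7235), (8085, 7394), (8086, 7748), (8087, 7349), (8088, 7746), (8089, 8927), (8090, 7156), (8091, 7796), (8092, 7510), (8093, 7805), (8094, 7508), (8095, 8795), (8096, 7353), (8097, 8928), (8098, 8929), (8099, 8099), (8100, 8100), (8101, 8101), (8102, 7171), (8103, 8940), (8104, 8486), (8105, 7173), (8106, 8943), (8107, 7174), (8108, 8422), (8109, 8946), (8110, 8947), (8111, 7176), (8112, 7177), (8113, 8423), (8114, 8950), (8115, 7179), (8116, 8424), (8117, 7183), (8118, 7187), (8119, 8394), (8120, 7188), (8121, 7198), (8122, 8122), (8123, 8953), (8124, 7203), (8125, 7205), (8126,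 7213), (8127, 8956)]
    ⟨e3 q8064 L165496 q8914, e3 q8065 (flp_i L157488) q7123, e3 q8066 (flp_i L165311) q8899, e3 q8067 (flp_i L157503) q7126, e3 q8068 (flp_i L165325) q8900, e3 q8069 (flp_i L165333) q8901, e3 q8070 (flp_i L165353) q8902, e3 q8071 (flp_i L165361) q8903, e3 q8072 (flp_i L165371) q8904, e3 q8073 L157563 q8073, e3 q8074 L157572 q8074, e3 q8075 L157584 q8075, e3 q8076 L157591 q8076, e3 q8077 L157598 q7155, e3 q8078 L157613 q7158, e3 q8079 L157627 q7162, e3 q8080 L157635 q7163, e3 q8081 L157655 q7164, e3 q8082 L157661 q7165, e3 q8083 L157669 q7166, e3 q8084 L157679 q7235, e3 q8085 L157698 q7394, e3 q8086 L157708 q7748, e3 q8087 L157727 q7349, e3 q8088 L157737 q7746, e3 q8089 (flp_i L165635) q8927, e3 q8090 (flp_i L157749) q7156, e3 q8091 L157770 q7796, e3 q8092 L157784 q7510, e3 q8093 L157792 q7805, e3 q8094 L157807 q7508, e3 q8095 (flp_i L164354) q8795, e3 q8096 L157819 q7353, e3 q8097 (flp_i L165650) q8928, e3 q8098 (flp_i L165667) q8929, e3 q8099 L157849 q8099, e3 q8100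 L157863 q8100, e3 q8101 L157874 q8101, e3 q8102 (flp_i L157875) q7171, e3 q8103 L165804 q8940, e3 q8104 (flp_i L161382) q8486, e3 q8105 (flp_i L157909) q7173, e3 q8106 L165846 q8943, e3 q8107 (flp_i L157924) q7174, e3 q8108 (flp_i L160801) q8422, e3 q8109 L165874 q8946, e3 q8110 L165885 q8947, e3 q8111 (flp_i L157958) q7176, e3 q8112 (flp_i L157966) q7177, e3 q8113 (flp_i L160810) q8423, e3 q8114 L165914 q8950, e3 q8115 (flp_i L157994) q7179, e3 q8116 (flp_i L160817) q8424, e3 q8117 (flp_i L158009) q7183, e3 q8118 (flp_i L158025) q7187, e3 q8119 (flp_i L160546) q8394, e3 q8120 (flp_i L158053) q7188, e3 q8121 (flp_i L158066) q7198, e3 q8122 L158098 q8122, e3 q8123 L165941 q8953, e3 q8124 (flp_i L158113) q7203, e3 q8125 (flp_i L158126) q7205, e3 q8126 L158152 q7213, e3 q8127 L165984 q8956, trivial⟩ (by decide +kernel)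

theorem ce_i_127 : ∀ r, r < 64 → sm gi (Qf (8128 + r)) = Qf (tab Gen.i (8128 + r)) :=
  edges_tab (sm gi) Qf (tab Gen.i) 8128 [(8128, 7207), (8129, 7373), (8130, 8958), (8131, 7209), (8132, 8960), (8133, 7210), (8134, 8955), (8135, 7365), (8136, 7214), (8137, 8393), (8138, 7220), (8139, 7393), (8140, 7223), (8141, 8837), (8142, 8905), (8143, 8143), (8144, 8144), (8145, 8145), (8146, 8146), (8147, 8147), (8148, 7396), (8149, 8762), (8150, 8790), (8151, 8151), (8152, 8974), (8153, 7240), (8154, 8977), (8155, 8978), (8156, 7241), (8157, 8982), (8158, 8985), (8159, 7243), (8160, 8987), (8161, 7244), (8162, 8564), (8163, 8989), (8164, 7246), (8165, 8991), (8166, 7248), (8167, 7264), (8168, 8993), (8169, 8995), (8170, 7250), (8171, 8999), (8172, 9000), (8173, 7251), (8174, 7271), (8175, 7253), (8176, 7274), (8177, 9005), (8178, 7256), (8179, 7257), (8180, 8990), (8181, 9009), (8182, 7259), (8183, 9013), (8184, 9014), (8185, 7260), (8186, 8992), (8187, 7262), (8188, 7444), (8189, 9019), (8190,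 7265), (8191, 9023)]
    ⟨e3 q8128 (flp_i L158166) q7207, e3 q8129 L158190 q7373, e3 q8130 L166008 q8958, e3 q8131 (flp_i L158202) q7209, e3 q8132 L166028 q8960, e3 q8133 (flp_i L158224) q7210, e3 q8134 (flp_i L165982) q8955, e3 q8135 L158254 q7365, e3 q8136 (flp_i L158256) q7214, e3 q8137 (flp_i L160535) q8393, e3 q8138 (flp_i L158282) q7220, e3 q8139 L158302 q7393, e3 q8140 (flp_i L158304) q7223, e3 q8141 (flp_i L164771) q8837, e3 q8142 (flp_i L165383) q8905, e3 q8143 L158342 q8143, e3 q8144 L158349 q8144, e3 q8145 L158368 q8145, e3 q8146 L158375 q8146, e3 q8147 L158384 q8147, e3 q8148 L158393 q7396, e3 q8149 (flp_i L163921) q8762, e3 q8150 (flp_i L164277) q8790, e3 q8151 L158429 q8151, e3 q8152 L166182 q8974, e3 q8153 (flp_i L158441) q7240, e3 q8154 L166210 q8977, e3 q8155 L166220 q8978, e3 q8156 (flp_i L158471) q7241, e3 q8157 L166256 q8982, e3 q8158 L166279 q8985, e3 q8159 (flp_i L158491) q7243, e3 q8160 L166293 q8987, e3 q8161 (flp_i L158506) q7244, e3 q8162 (flp_i L162159) q8564,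 e3 q8163 L166309 q8989, e3 q8164 (flp_i L158528) q7246, e3 q8165 L166329 q8991, e3 q8166 (flp_i L158550) q7248, e3 q8167 L158572 q7264, e3 q8168 L166353 q8993, e3 q8169 L166371 q8995, e3 q8170 (flp_i L158594) q7250, e3 q8171 L166407 q8999, e3 q8172 L166417 q9000, e3 q8173 (flp_i L158616) q7251, e3 q8174 L158632 q7271, e3 q8175 (flp_i L158634) q7253, e3 q8176 L158656 q7274, e3 q8177 L166462 q9005, e3 q8178 (flp_i L158664) q7256, e3 q8179 (flp_i L158674) q7257, e3 q8180 (flp_i L166327) q8990, e3 q8181 L166495 q9009, e3 q8182 (flp_i L158703) q7259, e3 q8183 L166535 q9013, e3 q8184 L166545 q9014, e3 q8185 (flp_i L158729) q7260, e3 q8186 (flp_i L166351) q8992, e3 q8187 (flp_i L158747) q7262, e3 q8188 L158769 q7444, e3 q8189 L166594 q9019, e3 q8190 (flp_i L158781) q7265, e3 q8191 L166628 q9023, trivial⟩ (by decide +kernel)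

theorem ce_i_128 : ∀ r, r < 64 → sm gi (Qf (8192 + r)) = Qf (tab Gen.i (8192 + r)) :=
  edges_tab (sm gi) Qf (tab Gen.i) 8192 [(8192, 9024), (8193, 7266), (8194, 8996), (8195, 9030), (8196, 9031), (8197, 7268), (8198, 9033), (8199, 7269), (8200, 9001), (8201, 9002), (8202, 7272), (8203, 9003), (8204, 7428), (8205, 9043), (8206, 9044), (8207, 7275), (8208, 9046), (8209, 7276), (8210, 7278), (8211, 9047), (8212, 9048), (8213, 9049), (8214, 7280), (8215, 7281), (8216, 9051), (8217, 7283), (8218, 7622), (8219, 7623), (8220, 7624), (8221, 7625), (8222, 7410), (8223, 7408), (8224, 7290), (8225, 7291), (8226, 7628), (8227, 7310), (8228, 7299), (8229, 7314), (8230, 7302), (8231, 7303), (8232, 7321), (8233, 7323), (8234, 7324), (8235, 7326), (8236, 8761), (8237, 7311), (8238, 9058), (8239, 7496), (8240, 9059), (8241, 7495), (8242, 7317), (8243, 9060), (8244, 7319), (8245, 9061), (8246, 9062), (8247, 8774), (8248, 7798), (8249, 8919), (8250, 8772), (8251, 7484), (8252, 8252), (8253, 8253), (8254,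 8254), (8255, 8255)]
    ⟨e3 q8192 L166635 q9024, e3 q8193 (flp_i L158804) q7266, e3 q8194 (flp_i L166387) q8996, e3 q8195 L166683 q9030, e3 q8196 L166693 q9031, e3 q8197 (flp_i L158832) q7268, e3 q8198 L166705 q9033, e3 q8199 (flp_i L158846) q7269, e3 q8200 (flp_i L166435) q9001, e3 q8201 (flp_i L166441) q9002, e3 q8202 (flp_i L158866) q7272, e3 q8203 (flp_i L166453) q9003, e3 q8204 L158892 q7428, e3 q8205 L166799 q9043, e3 q8206 L166808 q9044, e3 q8207 (flp_i L158914) q7275, e3 q8208 L166826 q9046, e3 q8209 (flp_i L158935) q7276, e3 q8210 (flp_i L158947) q7278, e3 q8211 L166840 q9047, e3 q8212 L166849 q9048, e3 q8213 L166858 q9049, e3 q8214 (flp_i L158989) q7280, e3 q8215 (flp_i L158998) q7281, e3 q8216 (flp_i L166883) q9051, e3 q8217 (flp_i L159010) q7283, e3 q8218 L159032 q7622, e3 q8219 L159041 q7623, e3 q8220 L159052 q7624, e3 q8221 L159066 q7625, e3 q8222 L159076 q7410, e3 q8223 L159086 q7408, e3 q8224 (flp_i L159090) q7290, e3 q8225 (flp_i L159097) q7291, e3 q8226 L159117 q7628,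 e3 q8227 L159127 q7310, e3 q8228 (flp_i L159129) q7299, e3 q8229 L159150 q7314, e3 q8230 (flp_i L159152) q7302, e3 q8231 (flp_i L159161) q7303, e3 q8232 L159175 q7321, e3 q8233 L159189 q7323, e3 q8234 L159195 q7324, e3 q8235 L159206 q7326, e3 q8236 (flp_i L163907) q8761, e3 q8237 (flp_i L159214) q7311, e3 q8238 (flp_i L166965) q9058, e3 q8239 L159243 q7496, e3 q8240 (flp_i L166973) q9059, e3 q8241 L159261 q7495, e3 q8242 (flp_i L159263) q7317, e3 q8243 (flp_i L166986) q9060, e3 q8244 (flp_i L159282) q7319, e3 q8245 (flp_i L166998) q9061, e3 q8246 (flp_i L167004) q9062, e3 q8247 (flp_i L164071) q8774, e3 q8248 L159313 q7798, e3 q8249 (flp_i L165550) q8919, e3 q8250 (flp_i L164041) q8772, e3 q8251 L159336 q7484, e3 q8252 L159350 q8252, e3 q8253 L159359 q8253, e3 q8254 L159371 q8254, e3 q8255 L159374 q8255, trivial⟩ (by decide +kernel)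

theorem ce_i_129 : ∀ r, r < 64 → sm gi (Qf (8256 + r)) = Qf (tab Gen.i (8256 + r)) :=
  edges_tab (sm gi) Qf (tab Gen.i) 8256 [(8256, 8256), (8257, 7345), (8258, 7348), (8259, 7350), (8260, 7807), (8261, 7512), (8262, 8930), (8263, 8909), (8264, 9079), (8265, 7808), (8266, 7806), (8267, 9081), (8268, 9082), (8269, 7358), (8270, 7359), (8271, 7967), (8272, 7361), (8273, 7371), (8274, 8961), (8275, 9090), (8276, 9091), (8277, 7366), (8278, 9085), (8279, 9096), (8280, 9097), (8281, 7368), (8282, 7369), (8283, 8957), (8284, 9086), (8285, 8906), (8286, 9103), (8287, 9104), (8288, 7374), (8289, 7375), (8290, 9106), (8291, 7601), (8292, 9107), (8293, 7616), (8294, 7379), (8295, 7615), (8296, 7380), (8297, 7633), (8298, 7391), (8299, 7389), (8300, 8964), (8301, 8791), (8302, 8965), (8303, 8792), (8304, 7397), (8305, 9113), (8306, 7399), (8307, 7400), (8308, 8430), (8309, 9117), (8310, 9120), (8311, 7402), (8312, 9124), (8313, 9126), (8314, 7403), (8315, 8618), (8316, 9129), (8317, 7405), (8318,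 8621), (8319, 9055)]
    ⟨e3 q8256 L159379 q8256, e3 q8257 L159387 q7345, e3 q8258 L159400 q7348, e3 q8259 L159408 q7350, e3 q8260 L159415 q7807, e3 q8261 L159426 q7512, e3 q8262 (flp_i L165680) q8930, e3 q8263 (flp_i L165447) q8909, e3 q8264 (flp_i L167154) q9079, e3 q8265 L159467 q7808, e3 q8266 L159474 q7806, e3 q8267 L167166 q9081, e3 q8268 L167176 q9082, e3 q8269 (flp_i L159501) q7358, e3 q8270 (flp_i L159509) q7359, e3 q8271 L159529 q7967, e3 q8272 (flp_i L159531) q7361, e3 q8273 L159545 q7371, e3 q8274 (flp_i L166050) q8961, e3 q8275 L167258 q9090, e3 q8276 L167267 q9091, e3 q8277 (flp_i L159568) q7366, e3 q8278 (flp_i L167216) q9085, e3 q8279 L167315 q9096, e3 q8280 L167323 q9097, e3 q8281 (flp_i L159602) q7368, e3 q8282 (flp_i L159610) q7369, e3 q8283 (flp_i L166006) q8957, e3 q8284 (flp_i L167222) q9086, e3 q8285 (flp_i L165404) q8906, e3 q8286 L167370 q9103, e3 q8287 L167379 q9104, e3 q8288 (flp_i L159658) q7374, e3 q8289 (flp_i L159665) q7375, e3 q8290 (flp_i L167404) q9106,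 e3 q8291 L159692 q7601, e3 q8292 L167406 q9107, e3 q8293 (flp_i L159724) q7616, e3 q8294 (flp_i L159726) q7379, e3 q8295 (flp_i L159751) q7615, e3 q8296 (flp_i L159753) q7380, e3 q8297 L159775 q7633, e3 q8298 L159783 q7391, e3 q8299 (flp_i L159785) q7389, e3 q8300 (flp_i L166084) q8964, e3 q8301 (flp_i L164296) q8791, e3 q8302 (flp_i L166092) q8965, e3 q8303 (flp_i L164306) q8792, e3 q8304 (flp_i L159820) q7397, e3 q8305 L167463 q9113, e3 q8306 (flp_i L159836) q7399, e3 q8307 (flp_i L159846) q7400, e3 q8308 (flp_i L160871) q8430, e3 q8309 L167499 q9117, e3 q8310 L167528 q9120, e3 q8311 (flp_i L159882) q7402, e3 q8312 L167562 q9124, e3 q8313 L167580 q9126, e3 q8314 (flp_i L159902) q7403, e3 q8315 (flp_i L162572) q8618, e3 q8316 L167596 q9129, e3 q8317 (flp_i L159918) q7405, e3 q8318 (flp_i L162598) q8621, e3 q8319 (flp_i L166926) q9055, trivial⟩ (by decide +kernel)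

theorem ce_i_130 : ∀ r, r < 64 → sm gi (Qf (8320 + r)) = Qf (tab Gen.i (8320 + r)) :=
  edges_tab (sm gi) Qf (tab Gen.i) 8320 [(8320, 9057), (8321, 7425), (8322, 9136), (8323, 7412), (8324, 9140), (8325, 9141), (8326, 7413), (8327, 7434), (8328, 9147), (8329, 9148), (8330, 7415), (8331, 9150), (8332, 7416), (8333, 7440), (8334, 7441), (8335, 7419), (8336, 7443), (8337, 9158), (8338, 9159), (8339, 7422), (8340, 9161), (8341, 7423), (8342, 9039), (8343, 9134), (8344, 7426), (8345, 9038), (8346, 9168), (8347, 9169), (8348, 7429), (8349, 9137), (8350, 9175), (8351, 9176), (8352, 7431), (8353, 9178), (8354, 7432), (8355, 9142), (8356, 9143), (8357, 9182), (8358, 9183), (8359, 9184), (8360, 7435), (8361, 7436), (8362, 9186), (8363, 7438), (8364, 9151), (8365, 9152), (8366, 9153), (8367, 9154), (8368, 9017), (8369, 9015), (8370, 9195), (8371, 9196), (8372, 9197), (8373, 7445), (8374, 7446), (8375, 9199), (8376, 7448), (8377, 7607), (8378, 7606), (8379, 7602), (8380, 7608), (8381, 7454), (8382,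 7455), (8383, 7456)]
    ⟨e3 q8320 (flp_i L166951) q9057, e3 q8321 L159960 q7425, e3 q8322 L167655 q9136, e3 q8323 (flp_i L159972) q7412, e3 q8324 L167691 q9140, e3 q8325 L167700 q9141, e3 q8326 (flp_i L159995) q7413, e3 q8327 L160013 q7434, e3 q8328 L167758 q9147, e3 q8329 L167766 q9148, e3 q8330 (flp_i L160027) q7415, e3 q8331 L167776 q9150, e3 q8332 (flp_i L160039) q7416, e3 q8333 L160051 q7440, e3 q8334 L160055 q7441, e3 q8335 (flp_i L160057) q7419, e3 q8336 L160071 q7443, e3 q8337 L167842 q9158, e3 q8338 L167852 q9159, e3 q8339 (flp_i L160089) q7422, e3 q8340 L167868 q9161, e3 q8341 (flp_i L160107) q7423, e3 q8342 (flp_i L166759) q9039, e3 q8343 (flp_i L167646) q9134, e3 q8344 (flp_i L160131) q7426, e3 q8345 (flp_i L166745) q9038, e3 q8346 L167924 q9168, e3 q8347 L167936 q9169, e3 q8348 (flp_i L160163) q7429, e3 q8349 (flp_i L167673) q9137, e3 q8350 L167994 q9175, e3 q8351 L168004 q9176, e3 q8352 (flp_i L160199) q7431, e3 q8353 L168024 q9178, e3 q8354 (flp_i L160219) q7432, e3 q8355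 (flp_i L167718) q9142, e3 q8356 (flp_i L167726) q9143, e3 q8357 L168056 q9182, e3 q8358 L168062 q9183, e3 q8359 L168070 q9184, e3 q8360 (flp_i L160267) q7435, e3 q8361 (flp_i L160275) q7436, e3 q8362 (flp_i L168090) q9186, e3 q8363 (flp_i L160283) q7438, e3 q8364 (flp_i L167788) q9151, e3 q8365 (flp_i L167792) q9152, e3 q8366 (flp_i L167796) q9153, e3 q8367 (flp_i L167804) q9154, e3 q8368 (flp_i L166581) q9017, e3 q8369 (flp_i L166563) q9015, e3 q8370 L168128 q9195, e3 q8371 L168137 q9196, e3 q8372 L168149 q9197, e3 q8373 (flp_i L160350) q7445, e3 q8374 (flp_i L160358) q7446, e3 q8375 (flp_i L168173) q9199, e3 q8376 (flp_i L160372) q7448, e3 q8377 L160394 q7607, e3 q8378 L160404 q7606, e3 q8379 L160416 q7602, e3 q8380 L160429 q7608, e3 q8381 (flp_i L160431) q7454, e3 q8382 (flp_i L160439) q7455, e3 q8383 (flp_i L160447) q7456, trivial⟩ (by decide +kernel)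

theorem ce_i_131 : ∀ r, r < 64 → sm gi (Qf (8384 + r)) = Qf (tab Gen.i (8384 + r)) :=
  edges_tab (sm gi) Qf (tab Gen.i) 8384 [(8384, 9206), (8385, 7459), (8386, 9208), (8387, 7663), (8388, 7664), (8389, 7665), (8390, 7666), (8391, 7667), (8392, 7668), (8393, 8137), (8394, 8119), (8395, 7669), (8396, 7474), (8397, 7487), (8398, 7476), (8399, 7490), (8400, 7492), (8401, 7493), (8402, 7494), (8403, 8793), (8404, 7485), (8405, 9216), (8406, 7488), (8407, 9217), (8408, 9218), (8409, 8933), (8410, 9219), (8411, 9066), (8412, 9064), (8413, 7507), (8414, 7509), (8415, 7511), (8416, 8917), (8417, 9227), (8418, 8935), (8419, 9228), (8420, 9230), (8421, 7513), (8422, 8108), (8423, 8113), (8424, 8116), (8425, 8433), (8426, 9235), (8427, 7520), (8428, 9238), (8429, 7521), (8430, 8308), (8431, 9240), (8432, 7523), (8433, 8425), (8434, 7526), (8435, 8672), (8436, 8673), (8437, 9249), (8438, 9250), (8439, 7530), (8440, 9252), (8441, 7531), (8442, 8442), (8443, 9255), (8444, 9256), (8445, 9257), (8446,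 7534), (8447, 7535)]
    ⟨e3 q8384 (flp_i L168248) q9206, e3 q8385 L160469 q7459, e3 q8386 (flp_i L168264) q9208, e3 q8387 L160487 q7663, e3 q8388 L160495 q7664, e3 q8389 L160501 q7665, e3 q8390 L160509 q7666, e3 q8391 L160519 q7667, e3 q8392 L160523 q7668, e3 q8393 L160535 q8137, e3 q8394 L160546 q8119, e3 q8395 L160559 q7669, e3 q8396 (flp_i L160567) q7474, e3 q8397 L160586 q7487, e3 q8398 (flp_i L160588) q7476, e3 q8399 L160603 q7490, e3 q8400 L160613 q7492, e3 q8401 L160621 q7493, e3 q8402 L160630 q7494, e3 q8403 (flp_i L164328) q8793, e3 q8404 (flp_i L160642) q7485, e3 q8405 (flp_i L168342) q9216, e3 q8406 (flp_i L160662) q7488, e3 q8407 (flp_i L168350) q9217, e3 q8408 (flp_i L168358) q9218, e3 q8409 (flp_i L165730) q8933, e3 q8410 (flp_i L168367) q9219, e3 q8411 (flp_i L167044) q9066, e3 q8412 (flp_i L167026) q9064, e3 q8413 L160726 q7507, e3 q8414 L160734 q7509, e3 q8415 L160741 q7511, e3 q8416 (flp_i L165534) q8917, e3 q8417 (flp_i L168434) q9227, e3 q8418 (flp_i L165749) q8935,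 e3 q8419 (flp_i L168446) q9228, e3 q8420 L168460 q9230, e3 q8421 (flp_i L160783) q7513, e3 q8422 L160801 q8108, e3 q8423 L160810 q8113, e3 q8424 L160817 q8116, e3 q8425 (flp_i L160904) q8433, e3 q8426 L168512 q9235, e3 q8427 (flp_i L160838) q7520, e3 q8428 L168546 q9238, e3 q8429 (flp_i L160856) q7521, e3 q8430 L160871 q8308, e3 q8431 L168565 q9240, e3 q8432 (flp_i L160885) q7523, e3 q8433 L160904 q8425, e3 q8434 (flp_i L160906) q7526, e3 q8435 (flp_i L162980) q8672, e3 q8436 (flp_i L162985) q8673, e3 q8437 L168644 q9249, e3 q8438 L168653 q9250, e3 q8439 (flp_i L160940) q7530, e3 q8440 L168672 q9252, e3 q8441 (flp_i L160962) q7531, e3 q8442 L160983 q8442, e3 q8443 L168703 q9255, e3 q8444 L168712 q9256, e3 q8445 L168722 q9257, e3 q8446 (flp_i L161012) q7534, e3 q8447 (flp_i L161020) q7535, trivial⟩ (by decide +kernel)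

theorem ce_i_132 : ∀ r, r < 64 → sm gi (Qf (8448 + r)) = Qf (tab Gen.i (8448 + r)) :=
  edges_tab (sm gi) Qf (tab Gen.i) 8448 [(8448, 9259), (8449, 7537), (8450, 8450), (8451, 8451), (8452, 8452), (8453, 7541), (8454, 7542), (8455, 7543), (8456, 9268), (8457, 7546), (8458, 9270), (8459, 8459), (8460, 8460), (8461, 8461), (8462, 8462), (8463, 8463), (8464, 8464), (8465, 7554), (8466, 7555), (8467, 7556), (8468, 9279), (8469, 7559), (8470, 9281), (8471, 7685), (8472, 7686), (8473, 7687), (8474, 7688), (8475, 7689), (8476, 7690), (8477, 8478), (8478, 8477), (8479, 7570), (8480, 8949), (8481, 7572), (8482, 8951), (8483, 9241), (8484, 7694), (8485, 7695), (8486, 8104), (8487, 7583), (8488, 8488), (8489, 8489), (8490, 8490), (8491, 8491), (8492, 8492), (8493, 8493), (8494, 8494), (8495, 8495), (8496, 8496), (8497, 9203), (8498, 7603), (8499, 8499), (8500, 9202), (8501, 9302), (8502, 9201), (8503, 7653), (8504, 7654), (8505, 9303), (8506, 7610), (8507, 7649), (8508, 7650), (8509, 9304), (8510,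 7613), (8511, 7617)]
    ⟨e3 q8448 (flp_i L168747) q9259, e3 q8449 (flp_i L161037) q7537, e3 q8450 L161057 q8450, e3 q8451 L161064 q8451, e3 q8452 L161073 q8452, e3 q8453 (flp_i L161074) q7541, e3 q8454 (flp_i L161082) q7542, e3 q8455 (flp_i L161093) q7543, e3 q8456 (flp_i L168831) q9268, e3 q8457 L161119 q7546, e3 q8458 (flp_i L168849) q9270, e3 q8459 L161138 q8459, e3 q8460 L161144 q8460, e3 q8461 L161150 q8461, e3 q8462 L161158 q8462, e3 q8463 L161167 q8463, e3 q8464 L161178 q8464, e3 q8465 (flp_i L161181) q7554, e3 q8466 (flp_i L161193) q7555, e3 q8467 (flp_i L161206) q7556, e3 q8468 (flp_i L168939) q9279, e3 q8469 L161235 q7559, e3 q8470 (flp_i L168953) q9281, e3 q8471 L161254 q7685, e3 q8472 L161261 q7686, e3 q8473 L161268 q7687, e3 q8474 L161277 q7688, e3 q8475 L161290 q7689, e3 q8476 L161299 q7690, e3 q8477 (flp_i L161313) q8478, e3 q8478 L161313 q8477, e3 q8479 L161324 q7570, e3 q8480 (flp_i L165912) q8949, e3 q8481 L161340 q7572, e3 q8482 (flp_i L165933) q8951, e3 q8483 (flp_i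 L168586) q9241, e3 q8484 L161363 q7694, e3 q8485 L161375 q7695, e3 q8486 L161382 q8104, e3 q8487 (flp_i L161388) q7583, e3 q8488 L161408 q8488, e3 q8489 L161417 q8489, e3 q8490 L161427 q8490, e3 q8491 L161434 q8491, e3 q8492 L161439 q8492, e3 q8493 L161448 q8493, e3 q8494 L161456 q8494, e3 q8495 L161467 q8495, e3 q8496 L161474 q8496, e3 q8497 (flp_i L168218) q9203, e3 q8498 (flp_i L161487) q7603, e3 q8499 L161506 q8499, e3 q8500 (flp_i L168208) q9202, e3 q8501 L169159 q9302, e3 q8502 (flp_i L168198) q9201, e3 q8503 L161546 q7653, e3 q8504 L161566 q7654, e3 q8505 L169169 q9303, e3 q8506 (flp_i L161586) q7610, e3 q8507 L161606 q7649, e3 q8508 L161625 q7650, e3 q8509 L169185 q9304, e3 q8510 (flp_i L161644) q7613, e3 q8511 (flp_i L161656) q7617, trivial⟩ (by decide +kernel)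

theorem ce_i_133 : ∀ r, r < 64 → sm gi (Qf (8512 + r)) = Qf (tab Gen.i (8512 + r)) :=
  edges_tab (sm gi) Qf (tab Gen.i) 8512 [(8512, 7620), (8513, 9305), (8514, 9053), (8515, 9054), (8516, 9056), (8517, 8517), (8518, 7631), (8519, 8519), (8520, 9310), (8521, 9311), (8522, 7636), (8523, 7637), (8524, 8524), (8525, 7640), (8526, 8526), (8527, 8527), (8528, 9317), (8529, 9318), (8530, 9319), (8531, 7643), (8532, 7644), (8533, 9321), (8534, 7646), (8535, 7651), (8536, 7655), (8537, 7660), (8538, 7662), (8539, 9322), (8540, 9211), (8541, 9212), (8542, 9213), (8543, 9214), (8544, 7670), (8545, 8545), (8546, 8546), (8547, 8547), (8548, 8548), (8549, 8549), (8550, 7828), (8551, 7827), (8552, 7682), (8553, 9328), (8554, 7684), (8555, 9284), (8556, 9285), (8557, 9286), (8558, 9287), (8559, 9330), (8560, 9333), (8561, 7696), (8562, 9335), (8563, 7697), (8564, 8162), (8565, 7699), (8566, 9339), (8567, 7700), (8568, 7709), (8569, 7711), (8570, 9344), (8571, 7704), (8572, 9337), (8573, 9349), (8574,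 9350), (8575, 7706)]
    ⟨e3 q8512 L161677 q7620, e3 q8513 (flp_i L169207) q9305, e3 q8514 (flp_i L166907) q9053, e3 q8515 (flp_i L166916) q9054, e3 q8516 (flp_i L166939) q9056, e3 q8517 L161735 q8517, e3 q8518 (flp_i L161736) q7631, e3 q8519 L161763 q8519, e3 q8520 L169259 q9310, e3 q8521 L169270 q9311, e3 q8522 (flp_i L161779) q7636, e3 q8523 (flp_i L161786) q7637, e3 q8524 L161805 q8524, e3 q8525 (flp_i L161806) q7640, e3 q8526 L161826 q8526, e3 q8527 L161831 q8527, e3 q8528 L169312 q9317, e3 q8529 L169320 q9318, e3 q8530 L169329 q9319, e3 q8531 (flp_i L161860) q7643, e3 q8532 (flp_i L161867) q7644, e3 q8533 (flp_i L169348) q9321, e3 q8534 (flp_i L161875) q7646, e3 q8535 (flp_i L161883) q7651, e3 q8536 (flp_i L161894) q7655, e3 q8537 L161914 q7660, e3 q8538 L161920 q7662, e3 q8539 (flp_i L169352) q9322, e3 q8540 (flp_i L168286) q9211, e3 q8541 (flp_i L168296) q9212, e3 q8542 (flp_i L168308) q9213, e3 q8543 (flp_i L168316) q9214, e3 q8544 (flp_i L161958) q7670, e3 q8545 L161986 q8545,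 e3 q8546 L161992 q8546, e3 q8547 L162004 q8547, e3 q8548 L162010 q8548, e3 q8549 L162016 q8549, e3 q8550 L162029 q7828, e3 q8551 L162045 q7827, e3 q8552 L162057 q7682, e3 q8553 (flp_i L169412) q9328, e3 q8554 L162071 q7684, e3 q8555 (flp_i L168984) q9284, e3 q8556 (flp_i L168997) q9285, e3 q8557 (flp_i L169006) q9286, e3 q8558 (flp_i L169017) q9287, e3 q8559 L169425 q9330, e3 q8560 L169455 q9333, e3 q8561 (flp_i L162128) q7696, e3 q8562 L169471 q9335, e3 q8563 (flp_i L162146) q7697, e3 q8564 L162159 q8162, e3 q8565 (flp_i L162161) q7699, e3 q8566 L169505 q9339, e3 q8567 (flp_i L162172) q7700, e3 q8568 L162186 q7709, e3 q8569 L162196 q7711, e3 q8570 L169544 q9344, e3 q8571 (flp_i L162205) q7704, e3 q8572 (flp_i L169496) q9337, e3 q8573 L169583 q9349, e3 q8574 L169593 q9350, e3 q8575 (flp_i L162235) q7706, trivial⟩ (by decide +kernel)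

theorem ce_i_134 : ∀ r, r < 64 → sm gi (Qf (8576 + r)) = Qf (tab Gen.i (8576 + r)) :=
  edges_tab (sm gi) Qf (tab Gen.i) 8576 [(8576, 7707), (8577, 9340), (8578, 9341), (8579, 8907), (8580, 9342), (8581, 9357), (8582, 9358), (8583, 9359), (8584, 7712), (8585, 7713), (8586, 9361), (8587, 7715), (8588, 8588), (8589, 8589), (8590, 8590), (8591, 8591), (8592, 8592), (8593, 8593), (8594, 7722), (8595, 7723), (8596, 8596), (8597, 7734), (8598, 7736), (8599, 7738), (8600, 8849), (8601, 9369), (8602, 8910), (8603, 9370), (8604, 8908), (8605, 9371), (8606, 8606), (8607, 8607), (8608, 8608), (8609, 8609), (8610, 7747), (8611, 7749), (8612, 8931), (8613, 8932), (8614, 8936), (8615, 9383), (8616, 9385), (8617, 7751), (8618, 8315), (8619, 9388), (8620, 7753), (8621, 8318), (8622, 9393), (8623, 9394), (8624, 7756), (8625, 7757), (8626, 7767), (8627, 7768), (8628, 7770), (8629, 7771), (8630, 9401), (8631, 9402), (8632, 9403), (8633, 7762), (8634, 7763), (8635, 9405), (8636, 7765), (8637, 9396), (8638,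 9397), (8639, 9398)]
    ⟨e3 q8576 (flp_i L162245) q7707, e3 q8577 (flp_i L169520) q9340, e3 q8578 (flp_i L169526) q9341, e3 q8579 (flp_i L165418) q8907, e3 q8580 (flp_i L169534) q9342, e3 q8581 L169643 q9357, e3 q8582 L169654 q9358, e3 q8583 L169663 q9359, e3 q8584 (flp_i L162307) q7712, e3 q8585 (flp_i L162316) q7713, e3 q8586 (flp_i L169685) q9361, e3 q8587 (flp_i L162331) q7715, e3 q8588 L162353 q8588, e3 q8589 L162359 q8589, e3 q8590 L162371 q8590, e3 q8591 L162384 q8591, e3 q8592 L162393 q8592, e3 q8593 L162398 q8593, e3 q8594 (flp_i L162399) q7722, e3 q8595 (flp_i L162412) q7723, e3 q8596 L162438 q8596, e3 q8597 L162443 q7734, e3 q8598 L162449 q7736, e3 q8599 L162456 q7738, e3 q8600 (flp_i L164906) q8849, e3 q8601 (flp_i L169751) q9369, e3 q8602 (flp_i L165457) q8910, e3 q8603 (flp_i L169759) q9370, e3 q8604 (flp_i L165428) q8908, e3 q8605 (flp_i L169766) q9371, e3 q8606 L162499 q8606, e3 q8607 L162502 q8607, e3 q8608 L162509 q8608, e3 q8609 L162518 q8609, e3 q8610 L162522 q7747,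 e3 q8611 L162527 q7749, e3 q8612 (flp_i L165694) q8931, e3 q8613 (flp_i L165712) q8932, e3 q8614 (flp_i L165765) q8936, e3 q8615 L169842 q9383, e3 q8616 L169861 q9385, e3 q8617 (flp_i L162562) q7751, e3 q8618 L162572 q8315, e3 q8619 L169885 q9388, e3 q8620 (flp_i L162583) q7753, e3 q8621 L162598 q8318, e3 q8622 L169931 q9393, e3 q8623 L169938 q9394, e3 q8624 (flp_i L162610) q7756, e3 q8625 (flp_i L162615) q7757, e3 q8626 L162627 q7767, e3 q8627 L162631 q7768, e3 q8628 L162639 q7770, e3 q8629 L162645 q7771, e3 q8630 L169976 q9401, e3 q8631 L169984 q9402, e3 q8632 L169992 q9403, e3 q8633 (flp_i L162666) q7762, e3 q8634 (flp_i L162674) q7763, e3 q8635 (flp_i L170010) q9405, e3 q8636 (flp_i L162686) q7765, e3 q8637 (flp_i L169952) q9396, e3 q8638 (flp_i L169956) q9397, e3 q8639 (flp_i L169960) q9398, trivial⟩ (by decide +kernel)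

theorem ce_i_135 : ∀ r, r < 64 → sm gi (Qf (8640 + r)) = Qf (tab Gen.i (8640 + r)) :=
  edges_tab (sm gi) Qf (tab Gen.i) 8640 [(8640, 8913), (8641, 9399), (8642, 9400), (8643, 7772), (8644, 7773), (8645, 7774), (8646, 9418), (8647, 7777), (8648, 9420), (8649, 8649), (8650, 8650), (8651, 8651), (8652, 8652), (8653, 8653), (8654, 8654), (8655, 8655), (8656, 8656), (8657, 7885), (8658, 7886), (8659, 8659), (8660, 8660), (8661, 8661), (8662, 8662), (8663, 7797), (8664, 8934), (8665, 9074), (8666, 9063), (8667, 9071), (8668, 8668), (8669, 8669), (8670, 9080), (8671, 7810), (8672, 8435), (8673, 8436), (8674, 9278), (8675, 9277), (8676, 7816), (8677, 9441), (8678, 7818), (8679, 9444), (8680, 9445), (8681, 8681), (8682, 8682), (8683, 8683), (8684, 8684), (8685, 8685), (8686, 8686), (8687, 8687), (8688, 8941), (8689, 7838), (8690, 9453), (8691, 9456), (8692, 7843), (8693, 9458), (8694, 7844), (8695, 8954), (8696, 9460), (8697, 7846), (8698, 9462), (8699, 9464), (8700, 7848), (8701, 7849), (8702,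 7864), (8703, 9467)]
    ⟨e3 q8640 (flp_i L165494) q8913, e3 q8641 (flp_i L169968) q9399, e3 q8642 (flp_i L169974) q9400, e3 q8643 (flp_i L162722) q7772, e3 q8644 (flp_i L162732) q7773, e3 q8645 (flp_i L162740) q7774, e3 q8646 (flp_i L170084) q9418, e3 q8647 L162759 q7777, e3 q8648 (flp_i L170098) q9420, e3 q8649 L162777 q8649, e3 q8650 L162784 q8650, e3 q8651 L162787 q8651, e3 q8652 L162794 q8652, e3 q8653 L162803 q8653, e3 q8654 L162808 q8654, e3 q8655 L162813 q8655, e3 q8656 L162818 q8656, e3 q8657 L162833 q7885, e3 q8658 L162846 q7886, e3 q8659 L162859 q8659, e3 q8660 L162874 q8660, e3 q8661 L162888 q8661, e3 q8662 L162905 q8662, e3 q8663 L162914 q7797, e3 q8664 (flp_i L165738) q8934, e3 q8665 (flp_i L167110) q9074, e3 q8666 (flp_i L167011) q9063, e3 q8667 (flp_i L167091) q9071, e3 q8668 L162949 q8668, e3 q8669 L162954 q8669, e3 q8670 (flp_i L167163) q9080, e3 q8671 (flp_i L162961) q7810, e3 q8672 L162980 q8435, e3 q8673 L162985 q8436, e3 q8674 (flp_i L168926) q9278, e3 q8675 (flp_i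 L168913) q9277, e3 q8676 L163005 q7816, e3 q8677 (flp_i L170253) q9441, e3 q8678 L163017 q7818, e3 q8679 (flp_i L170278) q9444, e3 q8680 (flp_i L170284) q9445, e3 q8681 L163037 q8681, e3 q8682 L163043 q8682, e3 q8683 L163055 q8683, e3 q8684 L163062 q8684, e3 q8685 L163068 q8685, e3 q8686 L163078 q8686, e3 q8687 L163086 q8687, e3 q8688 (flp_i L165827) q8941, e3 q8689 L163101 q7838, e3 q8690 L170354 q9453, e3 q8691 L170392 q9456, e3 q8692 (flp_i L163126) q7843, e3 q8693 L170410 q9458, e3 q8694 (flp_i L163146) q7844, e3 q8695 (flp_i L165968) q8954, e3 q8696 L170431 q9460, e3 q8697 (flp_i L163179) q7846, e3 q8698 L170461 q9462, e3 q8699 L170490 q9464, e3 q8700 (flp_i L163221) q7848, e3 q8701 (flp_i L163229) q7849, e3 q8702 L163252 q7864, e3 q8703 L170528 q9467, trivial⟩ (by decide +kernel)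

theorem ce_i_136 : ∀ r, r < 64 → sm gi (Qf (8704 + r)) = Qf (tab Gen.i (8704 + r)) :=
  edges_tab (sm gi) Qf (tab Gen.i) 8704 [(8704, 9469), (8705, 7851), (8706, 9473), (8707, 9474), (8708, 7852), (8709, 7871), (8710, 7854), (8711, 7874), (8712, 9479), (8713, 9480), (8714, 7857), (8715, 7858), (8716, 9461), (8717, 9483), (8718, 7860), (8719, 7861), (8720, 9465), (8721, 9466), (8722, 9489), (8723, 7865), (8724, 9493), (8725, 9494), (8726, 7866), (8727, 9470), (8728, 9500), (8729, 9501), (8730, 7868), (8731, 9503), (8732, 7869), (8733, 9475), (8734, 9476), (8735, 7872), (8736, 9477), (8737, 9478), (8738, 8738), (8739, 9432), (8740, 9511), (8741, 9512), (8742, 7876), (8743, 7877), (8744, 9514), (8745, 7879), (8746, 8746), (8747, 8747), (8748, 8748), (8749, 7904), (8750, 7890), (8751, 7907), (8752, 7908), (8753, 7894), (8754, 7895), (8755, 7913), (8756, 7915), (8757, 7916), (8758, 7918), (8759, 7919), (8760, 7901), (8761, 8236), (8762, 8149), (8763, 7905), (8764, 9519), (8765, 9520), (8766,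 9521), (8767, 7909)]
    ⟨e3 q8704 L170558 q9469, e3 q8705 (flp_i L163282) q7851, e3 q8706 L170606 q9473, e3 q8707 L170613 q9474, e3 q8708 (flp_i L163309) q7852, e3 q8709 L163325 q7871, e3 q8710 (flp_i L163327) q7854, e3 q8711 L163348 q7874, e3 q8712 L170672 q9479, e3 q8713 L170686 q9480, e3 q8714 (flp_i L163378) q7857, e3 q8715 (flp_i L163388) q7858, e3 q8716 (flp_i L170459) q9461, e3 q8717 L170724 q9483, e3 q8718 (flp_i L163429) q7860, e3 q8719 (flp_i L163439) q7861, e3 q8720 (flp_i L170512) q9465, e3 q8721 (flp_i L170526) q9466, e3 q8722 L170802 q9489, e3 q8723 (flp_i L163487) q7865, e3 q8724 L170852 q9493, e3 q8725 L170862 q9494, e3 q8726 (flp_i L163519) q7866, e3 q8727 (flp_i L170580) q9470, e3 q8728 L170928 q9500, e3 q8729 L170938 q9501, e3 q8730 (flp_i L163555) q7868, e3 q8731 L170954 q9503, e3 q8732 (flp_i L163577) q7869, e3 q8733 (flp_i L170635) q9475, e3 q8734 (flp_i L170643) q9476, e3 q8735 (flp_i L163603) q7872, e3 q8736 (flp_i L170659) q9477, e3 q8737 (flp_i L170667) q9478,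 e3 q8738 L163647 q8738, e3 q8739 (flp_i L170180) q9432, e3 q8740 L171037 q9511, e3 q8741 L171049 q9512, e3 q8742 (flp_i L163675) q7876, e3 q8743 (flp_i L163683) q7877, e3 q8744 (flp_i L171074) q9514, e3 q8745 (flp_i L163698) q7879, e3 q8746 L163718 q8746, e3 q8747 L163729 q8747, e3 q8748 L163736 q8748, e3 q8749 L163751 q7904, e3 q8750 (flp_i L163753) q7890, e3 q8751 L163778 q7907, e3 q8752 L163792 q7908, e3 q8753 (flp_i L163794) q7894, e3 q8754 (flp_i L163807) q7895, e3 q8755 L163827 q7913, e3 q8756 L163843 q7915, e3 q8757 L163851 q7916, e3 q8758 L163868 q7918, e3 q8759 L163874 q7919, e3 q8760 (flp_i L163879) q7901, e3 q8761 L163907 q8236, e3 q8762 L163921 q8149, e3 q8763 (flp_i L163923) q7905, e3 q8764 (flp_i L171123) q9519, e3 q8765 (flp_i L171133) q9520, e3 q8766 (flp_i L171148) q9521, e3 q8767 (flp_i L163973) q7909, trivial⟩ (by decide +kernel)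

theorem ce_i_137 : ∀ r, r < 64 → sm gi (Qf (8768 + r)) = Qf (tab Gen.i (8768 + r)) :=
  edges_tab (sm gi) Qf (tab Gen.i) 8768 [(8768, 9522), (8769, 7911), (8770, 9523), (8771, 9524), (8772, 8250), (8773, 9525), (8774, 8247), (8775, 9526), (8776, 9527), (8777, 8777), (8778, 8778), (8779, 8779), (8780, 8780), (8781, 8781), (8782, 8782), (8783, 7944), (8784, 7945), (8785, 7947), (8786, 7949), (8787, 7951), (8788, 7953), (8789, 7954), (8790, 8150), (8791, 8301), (8792, 8303), (8793, 8403), (8794, 9543), (8795, 8095), (8796, 8796), (8797, 9545), (8798, 7958), (8799, 9547), (8800, 7960), (8801, 8963), (8802, 9550), (8803, 9552), (8804, 7962), (8805, 9555), (8806, 9557), (8807, 7963), (8808, 9083), (8809, 9560), (8810, 7965), (8811, 9084), (8812, 7969), (8813, 7989), (8814, 7971), (8815, 9565), (8816, 7972), (8817, 7996), (8818, 7999), (8819, 7976), (8820, 9572), (8821, 9573), (8822, 7977), (8823, 8005), (8824, 9579), (8825, 9580), (8826, 7979), (8827, 9582), (8828, 7980), (8829, 8011), (8830,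 8012), (8831, 7983)]
    ⟨e3 q8768 (flp_i L171167) q9522, e3 q8769 (flp_i L163995) q7911, e3 q8770 (flp_i L171183) q9523, e3 q8771 (flp_i L171191) q9524, e3 q8772 L164041 q8250, e3 q8773 (flp_i L171203) q9525, e3 q8774 L164071 q8247, e3 q8775 (flp_i L171217) q9526, e3 q8776 (flp_i L171235) q9527, e3 q8777 L164107 q8777, e3 q8778 L164122 q8778, e3 q8779 L164131 q8779, e3 q8780 L164142 q8780, e3 q8781 L164149 q8781, e3 q8782 L164160 q8782, e3 q8783 L164173 q7944, e3 q8784 L164188 q7945, e3 q8785 L164207 q7947, e3 q8786 L164217 q7949, e3 q8787 L164233 q7951, e3 q8788 L164247 q7953, e3 q8789 L164263 q7954, e3 q8790 L164277 q8150, e3 q8791 L164296 q8301, e3 q8792 L164306 q8303, e3 q8793 L164328 q8403, e3 q8794 (flp_i L171446) q9543, e3 q8795 L164354 q8095, e3 q8796 L164370 q8796, e3 q8797 L171469 q9545, e3 q8798 (flp_i L164383) q7958, e3 q8799 L171493 q9547, e3 q8800 (flp_i L164407) q7960, e3 q8801 (flp_i L166074) q8963, e3 q8802 L171529 q9550, e3 q8803 L171557 q9552, e3 q8804 (flp_i L164443)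 q7962, e3 q8805 L171588 q9555, e3 q8806 L171607 q9557, e3 q8807 (flp_i L164468) q7963, e3 q8808 (flp_i L167194) q9083, e3 q8809 L171631 q9560, e3 q8810 (flp_i L164489) q7965, e3 q8811 (flp_i L167206) q9084, e3 q8812 (flp_i L164504) q7969, e3 q8813 L164528 q7989, e3 q8814 (flp_i L164530) q7971, e3 q8815 L171687 q9565, e3 q8816 (flp_i L164553) q7972, e3 q8817 L164571 q7996, e3 q8818 L164583 q7999, e3 q8819 (flp_i L164585) q7976, e3 q8820 L171773 q9572, e3 q8821 L171785 q9573, e3 q8822 (flp_i L164621) q7977, e3 q8823 L164641 q8005, e3 q8824 L171850 q9579, e3 q8825 L171857 q9580, e3 q8826 (flp_i L164653) q7979, e3 q8827 L171865 q9582, e3 q8828 (flp_i L164672) q7980, e3 q8829 L164686 q8011, e3 q8830 L164692 q8012, e3 q8831 (flp_i L164696) q7983, trivial⟩ (by decide +kernel)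

theorem ce_i_138 : ∀ r, r < 64 → sm gi (Qf (8832 + r)) = Qf (tab Gen.i (8832 + r)) :=
  edges_tab (sm gi) Qf (tab Gen.i) 8832 [(8832, 8014), (8833, 8015), (8834, 9589), (8835, 7986), (8836, 9563), (8837, 8141), (8838, 7990), (8839, 9594), (8840, 7991), (8841, 9564), (8842, 9598), (8843, 7993), (8844, 9600), (8845, 7994), (8846, 9566), (8847, 9567), (8848, 7997), (8849, 8600), (8850, 9568), (8851, 9609), (8852, 9610), (8853, 8000), (8854, 9569), (8855, 9616), (8856, 9617), (8857, 8002), (8858, 9619), (8859, 8003), (8860, 9574), (8861, 9575), (8862, 9623), (8863, 9624), (8864, 9625), (8865, 8006), (8866, 8007), (8867, 9627), (8868, 8009), (8869, 9583), (8870, 9584), (8871, 9585), (8872, 9586), (8873, 9587), (8874, 9588), (8875, 9636), (8876, 8016), (8877, 9459), (8878, 8018), (8879, 8879), (8880, 8880), (8881, 8881), (8882, 8882), (8883, 8024), (8884, 8025), (8885, 8026), (8886, 9646), (8887, 8029), (8888, 9648), (8889, 8889), (8890, 8890), (8891, 8891), (8892, 8892), (8893, 8893), (8894,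 8894), (8895, 8056)]
    ⟨e3 q8832 L164717 q8014, e3 q8833 L164723 q8015, e3 q8834 L171929 q9589, e3 q8835 (flp_i L164739) q7986, e3 q8836 (flp_i L171669) q9563, e3 q8837 L164771 q8141, e3 q8838 (flp_i L164773) q7990, e3 q8839 L171991 q9594, e3 q8840 (flp_i L164800) q7991, e3 q8841 (flp_i L171685) q9564, e3 q8842 L172046 q9598, e3 q8843 (flp_i L164834) q7993, e3 q8844 L172064 q9600, e3 q8845 (flp_i L164856) q7994, e3 q8846 (flp_i L171710) q9566, e3 q8847 (flp_i L171716) q9567, e3 q8848 (flp_i L164882) q7997, e3 q8849 L164906 q8600, e3 q8850 (flp_i L171728) q9568, e3 q8851 L172164 q9609, e3 q8852 L172173 q9610, e3 q8853 (flp_i L164939) q8000, e3 q8854 (flp_i L171745) q9569, e3 q8855 L172238 q9616, e3 q8856 L172247 q9617, e3 q8857 (flp_i L164969) q8002, e3 q8858 L172257 q9619, e3 q8859 (flp_i L164990) q8003, e3 q8860 (flp_i L171811) q9574, e3 q8861 (flp_i L171819) q9575, e3 q8862 L172289 q9623, e3 q8863 L172297 q9624, e3 q8864 L172305 q9625, e3 q8865 (flp_i L165032) q8006, e3 q8866 (flp_i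 L165040) q8007, e3 q8867 (flp_i L172321) q9627, e3 q8868 (flp_i L165048) q8009, e3 q8869 (flp_i L171887) q9583, e3 q8870 (flp_i L171891) q9584, e3 q8871 (flp_i L171897) q9585, e3 q8872 (flp_i L171911) q9586, e3 q8873 (flp_i L171919) q9587, e3 q8874 (flp_i L171927) q9588, e3 q8875 L172367 q9636, e3 q8876 (flp_i L165101) q8016, e3 q8877 (flp_i L170429) q9459, e3 q8878 (flp_i L165115) q8018, e3 q8879 L165141 q8879, e3 q8880 L165147 q8880, e3 q8881 L165158 q8881, e3 q8882 L165165 q8882, e3 q8883 (flp_i L165166) q8024, e3 q8884 (flp_i L165173) q8025, e3 q8885 (flp_i L165180) q8026, e3 q8886 (flp_i L172454) q9646, e3 q8887 L165194 q8029, e3 q8888 (flp_i L172466) q9648, e3 q8889 L165214 q8889, e3 q8890 L165220 q8890, e3 q8891 L165223 q8891, e3 q8892 L165229 q8892, e3 q8893 L165236 q8893, e3 q8894 L165241 q8894, e3 q8895 L165258 q8056, trivial⟩ (by decide +kernel)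

theorem ce_i_139 : ∀ r, r < 64 → sm gi (Qf (8896 + r)) = Qf (tab Gen.i (8896 + r)) :=
  edges_tab (sm gi) Qf (tab Gen.i) 8896 [(8896, 8060), (8897, 8063), (8898, 8045), (8899, 8066), (8900, 8068), (8901, 8069), (8902, 8070), (8903, 8071), (8904, 8072), (8905, 8142), (8906, 8285), (8907, 8579), (8908, 8604), (8909, 8263), (8910, 8602), (8911, 9657), (8912, 8061), (8913, 8640), (8914, 8064), (8915, 9658), (8916, 9659), (8917, 8416), (8918, 9544), (8919, 8249), (8920, 9660), (8921, 9661), (8922, 8922), (8923, 8923), (8924, 8924), (8925, 8925), (8926, 8926), (8927, 8089), (8928, 8097), (8929, 8098), (8930, 8262), (8931, 8612), (8932, 8613), (8933, 8409), (8934, 8664), (8935, 8418), (8936, 8614), (8937, 9673), (8938, 8942), (8939, 9215), (8940, 8103), (8941, 8688), (8942, 8938), (8943, 8106), (8944, 9231), (8945, 9682), (8946, 8109), (8947, 8110), (8948, 9111), (8949, 8480), (8950, 8114), (8951, 8482), (8952, 9232), (8953, 8123), (8954, 8695), (8955, 8134), (8956, 8127), (8957, 8283), (8958,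 8130), (8959, 9590)]
    ⟨e3 q8896 L165268 q8060, e3 q8897 L165285 q8063, e3 q8898 (flp_i L165287) q8045, e3 q8899 L165311 q8066, e3 q8900 L165325 q8068, e3 q8901 L165333 q8069, e3 q8902 L165353 q8070, e3 q8903 L165361 q8071, e3 q8904 L165371 q8072, e3 q8905 L165383 q8142, e3 q8906 L165404 q8285, e3 q8907 L165418 q8579, e3 q8908 L165428 q8604, e3 q8909 L165447 q8263, e3 q8910 L165457 q8602, e3 q8911 (flp_i L172541) q9657, e3 q8912 (flp_i L165471) q8061, e3 q8913 L165494 q8640, e3 q8914 (flp_i L165496) q8064, e3 q8915 (flp_i L172557) q9658, e3 q8916 (flp_i L172567) q9659, e3 q8917 L165534 q8416, e3 q8918 (flp_i L171467) q9544, e3 q8919 L165550 q8249, e3 q8920 (flp_i L172584) q9660, e3 q8921 (flp_i L172595) q9661, e3 q8922 L165580 q8922, e3 q8923 L165592 q8923, e3 q8924 L165603 q8924, e3 q8925 L165613 q8925, e3 q8926 L165623 q8926, e3 q8927 L165635 q8089, e3 q8928 L165650 q8097, e3 q8929 L165667 q8098, e3 q8930 L165680 q8262, e3 q8931 L165694 q8612, e3 q8932 L165712 q8613, e3 q8933 L165730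 q8409, e3 q8934 L165738 q8664, e3 q8935 L165749 q8418, e3 q8936 L165765 q8614, e3 q8937 (flp_i L172740) q9673, e3 q8938 (flp_i L165844) q8942, e3 q8939 (flp_i L168328) q9215, e3 q8940 (flp_i L165804) q8103, e3 q8941 L165827 q8688, e3 q8942 L165844 q8938, e3 q8943 (flp_i L165846) q8106, e3 q8944 (flp_i L168480) q9231, e3 q8945 L172833 q9682, e3 q8946 (flp_i L165874) q8109, e3 q8947 (flp_i L165885) q8110, e3 q8948 (flp_i L167447) q9111, e3 q8949 L165912 q8480, e3 q8950 (flp_i L165914) q8114, e3 q8951 L165933 q8482, e3 q8952 (flp_i L168485) q9232, e3 q8953 (flp_i L165941) q8123, e3 q8954 L165968 q8695, e3 q8955 L165982 q8134, e3 q8956 (flp_i L165984) q8127, e3 q8957 L166006 q8283, e3 q8958 (flp_i L166008) q8130, e3 q8959 (flp_i L171952) q9590, trivial⟩ (by decide +kernel)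

theorem ce_i_140 : ∀ r, r < 64 → sm gi (Qf (8960 + r)) = Qf (tab Gen.i (8960 + r)) :=
  edges_tab (sm gi) Qf (tab Gen.i) 8960 [(8960, 8132), (8961, 8274), (8962, 9689), (8963, 8801), (8964, 8300), (8965, 8302), (8966, 9482), (8967, 9592), (8968, 8968), (8969, 8969), (8970, 8970), (8971, 8971), (8972, 9529), (8973, 9703), (8974, 8152), (8975, 9705), (8976, 9706), (8977, 8154), (8978, 8155), (8979, 9236), (8980, 9710), (8981, 9712), (8982, 8157), (8983, 9715), (8984, 9716), (8985, 8158), (8986, 9334), (8987, 8160), (8988, 9336), (8989, 8163), (8990, 8180), (8991, 8165), (8992, 8186), (8993, 8168), (8994, 9725), (8995, 8169), (8996, 8194), (8997, 9730), (8998, 9731), (8999, 8171), (9000, 8172), (9001, 8200), (9002, 8201), (9003, 8203), (9004, 9736), (9005, 8177), (9006, 9721), (9007, 9528), (9008, 9740), (9009, 8181), (9010, 9722), (9011, 9743), (9012, 9744), (9013, 8183), (9014, 8184), (9015, 8369), (9016, 9723), (9017, 8368), (9018, 9750), (9019, 8189), (9020, 9724), (9021, 9755), (9022,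 9756), (9023, 8191)]
    ⟨e3 q8960 (flp_i L166028) q8132, e3 q8961 L166050 q8274, e3 q8962 (flp_i L172926) q9689, e3 q8963 L166074 q8801, e3 q8964 L166084 q8300, e3 q8965 L166092 q8302, e3 q8966 (flp_i L170722) q9482, e3 q8967 (flp_i L171972) q9592, e3 q8968 L166124 q8968, e3 q8969 L166137 q8969, e3 q8970 L166144 q8970, e3 q8971 L166157 q8971, e3 q8972 (flp_i L171263) q9529, e3 q8973 L173075 q9703, e3 q8974 (flp_i L166182) q8152, e3 q8975 L173096 q9705, e3 q8976 L173107 q9706, e3 q8977 (flp_i L166210) q8154, e3 q8978 (flp_i L166220) q8155, e3 q8979 (flp_i L168531) q9236, e3 q8980 L173151 q9710, e3 q8981 L173173 q9712, e3 q8982 (flp_i L166256) q8157, e3 q8983 L173201 q9715, e3 q8984 L173213 q9716, e3 q8985 (flp_i L166279) q8158, e3 q8986 (flp_i L169469) q9334, e3 q8987 (flp_i L166293) q8160, e3 q8988 (flp_i L169488) q9336, e3 q8989 (flp_i L166309) q8163, e3 q8990 L166327 q8180, e3 q8991 (flp_i L166329) q8165, e3 q8992 L166351 q8186, e3 q8993 (flp_i L166353) q8168, e3 q8994 L173299 q9725,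 e3 q8995 (flp_i L166371) q8169, e3 q8996 L166387 q8194, e3 q8997 L173355 q9730, e3 q8998 L173365 q9731, e3 q8999 (flp_i L166407) q8171, e3 q9000 (flp_i L166417) q8172, e3 q9001 L166435 q8200, e3 q9002 L166441 q8201, e3 q9003 L166453 q8203, e3 q9004 L173409 q9736, e3 q9005 (flp_i L166462) q8177, e3 q9006 (flp_i L173261) q9721, e3 q9007 (flp_i L171253) q9528, e3 q9008 L173445 q9740, e3 q9009 (flp_i L166495) q8181, e3 q9010 (flp_i L173275) q9722, e3 q9011 L173478 q9743, e3 q9012 L173488 q9744, e3 q9013 (flp_i L166535) q8183, e3 q9014 (flp_i L166545) q8184, e3 q9015 L166563 q8369, e3 q9016 (flp_i L173283) q9723, e3 q9017 L166581 q8368, e3 q9018 L173545 q9750, e3 q9019 (flp_i L166594) q8189, e3 q9020 (flp_i L173297) q9724, e3 q9021 L173608 q9755, e3 q9022 L173617 q9756, e3 q9023 (flp_i L166628) q8191, trivial⟩ (by decide +kernel)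

theorem ce_i_141 : ∀ r, r < 64 → sm gi (Qf (9024 + r)) = Qf (tab Gen.i (9024 + r)) :=
  edges_tab (sm gi) Qf (tab Gen.i) 9024 [(9024, 8192), (9025, 9726), (9026, 9727), (9027, 9762), (9028, 9763), (9029, 9764), (9030, 8195), (9031, 8196), (9032, 9766), (9033, 8198), (9034, 9733), (9035, 9734), (9036, 9735), (9037, 9534), (9038, 8345), (9039, 8342), (9040, 9774), (9041, 9775), (9042, 9776), (9043, 8205), (9044, 8206), (9045, 9778), (9046, 8208), (9047, 8211), (9048, 8212), (9049, 8213), (9050, 9781), (9051, 8216), (9052, 9783), (9053, 8514), (9054, 8515), (9055, 8319), (9056, 8516), (9057, 8320), (9058, 8238), (9059, 8240), (9060, 8243), (9061, 8245), (9062, 8246), (9063, 8666), (9064, 8412), (9065, 9789), (9066, 8411), (9067, 9663), (9068, 9604), (9069, 9790), (9070, 9507), (9071, 8667), (9072, 9791), (9073, 9675), (9074, 8665), (9075, 9075), (9076, 9076), (9077, 9077), (9078, 9078), (9079, 8264), (9080, 8670), (9081, 8267), (9082, 8268), (9083, 8808), (9084, 8811), (9085, 8278), (9086,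 8284), (9087, 9695)]
    ⟨e3 q9024 (flp_i L166635) q8192, e3 q9025 (flp_i L173319) q9726, e3 q9026 (flp_i L173325) q9727, e3 q9027 L173647 q9762, e3 q9028 L173655 q9763, e3 q9029 L173665 q9764, e3 q9030 (flp_i L166683) q8195, e3 q9031 (flp_i L166693) q8196, e3 q9032 (flp_i L173691) q9766, e3 q9033 (flp_i L166705) q8198, e3 q9034 (flp_i L173391) q9733, e3 q9035 (flp_i L173399) q9734, e3 q9036 (flp_i L173407) q9735, e3 q9037 (flp_i L171338) q9534, e3 q9038 L166745 q8345, e3 q9039 L166759 q8342, e3 q9040 L173747 q9774, e3 q9041 L173757 q9775, e3 q9042 L173770 q9776, e3 q9043 (flp_i L166799) q8205, e3 q9044 (flp_i L166808) q8206, e3 q9045 (flp_i L173801) q9778, e3 q9046 (flp_i L166826) q8208, e3 q9047 (flp_i L166840) q8211, e3 q9048 (flp_i L166849) q8212, e3 q9049 (flp_i L166858) q8213, e3 q9050 (flp_i L173830) q9781, e3 q9051 L166883 q8216, e3 q9052 (flp_i L173850) q9783, e3 q9053 L166907 q8514, e3 q9054 L166916 q8515, e3 q9055 L166926 q8319, e3 q9056 L166939 q8516, e3 q9057 L166951 q8320,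 e3 q9058 L166965 q8238, e3 q9059 L166973 q8240, e3 q9060 L166986 q8243, e3 q9061 L166998 q8245, e3 q9062 L167004 q8246, e3 q9063 L167011 q8666, e3 q9064 L167026 q8412, e3 q9065 (flp_i L173926) q9789, e3 q9066 L167044 q8411, e3 q9067 (flp_i L172623) q9663, e3 q9068 (flp_i L172116) q9604, e3 q9069 (flp_i L173937) q9790, e3 q9070 (flp_i L171002) q9507, e3 q9071 L167091 q8667, e3 q9072 (flp_i L173943) q9791, e3 q9073 (flp_i L172768) q9675, e3 q9074 L167110 q8665, e3 q9075 L167121 q9075, e3 q9076 L167130 q9076, e3 q9077 L167140 q9077, e3 q9078 L167147 q9078, e3 q9079 L167154 q8264, e3 q9080 L167163 q8670, e3 q9081 (flp_i L167166) q8267, e3 q9082 (flp_i L167176) q8268, e3 q9083 L167194 q8808, e3 q9084 L167206 q8811, e3 q9085 L167216 q8278, e3 q9086 L167222 q8284, e3 q9087 (flp_i L172990) q9695, trivial⟩ (by decide +kernel)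

theorem ce_i_142 : ∀ r, r < 64 → sm gi (Qf (9088 + r)) = Qf (tab Gen.i (9088 + r)) :=
  edges_tab (sm gi) Qf (tab Gen.i) 9088 [(9088, 9809), (9089, 9810), (9090, 8275), (9091, 8276), (9092, 9690), (9093, 9806), (9094, 9815), (9095, 9816), (9096, 8279), (9097, 8280), (9098, 9818), (9099, 9593), (9100, 9691), (9101, 9807), (9102, 9786), (9103, 8286), (9104, 8287), (9105, 9824), (9106, 8290), (9107, 8292), (9108, 9530), (9109, 9697), (9110, 9537), (9111, 8948), (9112, 9788), (9113, 8305), (9114, 9121), (9115, 9239), (9116, 9832), (9117, 8309), (9118, 9836), (9119, 9837), (9120, 8310), (9121, 9114), (9122, 9842), (9123, 9843), (9124, 8312), (9125, 9845), (9126, 8313), (9127, 9386), (9128, 9387), (9129, 8316), (9130, 9389), (9131, 9390), (9132, 9787), (9133, 9852), (9134, 8343), (9135, 9855), (9136, 8322), (9137, 8349), (9138, 9860), (9139, 9861), (9140, 8324), (9141, 8325), (9142, 8355), (9143, 8356), (9144, 9866), (9145, 9867), (9146, 9868), (9147, 8328), (9148, 8329), (9149, 9870), (9150,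 8331), (9151, 8364)]
    ⟨e3 q9088 L174102 q9809, e3 q9089 L174111 q9810, e3 q9090 (flp_i L167258) q8275, e3 q9091 (flp_i L167267) q8276, e3 q9092 (flp_i L172940) q9690, e3 q9093 (flp_i L174086) q9806, e3 q9094 L174153 q9815, e3 q9095 L174163 q9816, e3 q9096 (flp_i L167315) q8279, e3 q9097 (flp_i L167323) q8280, e3 q9098 (flp_i L174193) q9818, e3 q9099 (flp_i L171989) q9593, e3 q9100 (flp_i L172948) q9691, e3 q9101 (flp_i L174092) q9807, e3 q9102 (flp_i L173884) q9786, e3 q9103 (flp_i L167370) q8286, e3 q9104 (flp_i L167379) q8287, e3 q9105 (flp_i L174235) q9824, e3 q9106 L167404 q8290, e3 q9107 (flp_i L167406) q8292, e3 q9108 (flp_i L171282) q9530, e3 q9109 (flp_i L173010) q9697, e3 q9110 (flp_i L171372) q9537, e3 q9111 L167447 q8948, e3 q9112 (flp_i L173912) q9788, e3 q9113 (flp_i L167463) q8305, e3 q9114 (flp_i L167546) q9121, e3 q9115 (flp_i L168563) q9239, e3 q9116 L174302 q9832, e3 q9117 (flp_i L167499) q8309, e3 q9118 L174348 q9836, e3 q9119 L174359 q9837, e3 q9120 (flp_i L167528)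 q8310, e3 q9121 L167546 q9114, e3 q9122 L174421 q9842, e3 q9123 L174431 q9843, e3 q9124 (flp_i L167562) q8312, e3 q9125 L174443 q9845, e3 q9126 (flp_i L167580) q8313, e3 q9127 (flp_i L169877) q9386, e3 q9128 (flp_i L169881) q9387, e3 q9129 (flp_i L167596) q8316, e3 q9130 (flp_i L169902) q9389, e3 q9131 (flp_i L169908) q9390, e3 q9132 (flp_i L173896) q9787, e3 q9133 L174485 q9852, e3 q9134 L167646 q8343, e3 q9135 L174518 q9855, e3 q9136 (flp_i L167655) q8322, e3 q9137 L167673 q8349, e3 q9138 L174573 q9860, e3 q9139 L174582 q9861, e3 q9140 (flp_i L167691) q8324, e3 q9141 (flp_i L167700) q8325, e3 q9142 L167718 q8355, e3 q9143 L167726 q8356, e3 q9144 L174624 q9866, e3 q9145 L174632 q9867, e3 q9146 L174642 q9868, e3 q9147 (flp_i L167758) q8328, e3 q9148 (flp_i L167766) q8329, e3 q9149 (flp_i L174664) q9870, e3 q9150 (flp_i L167776) q8331, e3 q9151 L167788 q8364, trivial⟩ (by decide +kernel)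

theorem ce_i_143 : ∀ r, r < 64 → sm gi (Qf (9152 + r)) = Qf (tab Gen.i (9152 + r)) :=
  edges_tab (sm gi) Qf (tab Gen.i) 9152 [(9152, 8365), (9153, 8366), (9154, 8367), (9155, 9876), (9156, 9877), (9157, 9878), (9158, 8337), (9159, 8338), (9160, 9880), (9161, 8340), (9162, 9773), (9163, 9770), (9164, 9853), (9165, 9532), (9166, 9888), (9167, 9889), (9168, 8346), (9169, 8347), (9170, 9856), (9171, 9857), (9172, 9894), (9173, 9895), (9174, 9896), (9175, 8350), (9176, 8351), (9177, 9898), (9178, 8353), (9179, 9863), (9180, 9864), (9181, 9865), (9182, 8357), (9183, 8358), (9184, 8359), (9185, 9907), (9186, 8362), (9187, 9909), (9188, 9872), (9189, 9873), (9190, 9747), (9191, 9874), (9192, 9875), (9193, 9746), (9194, 9741), (9195, 8370), (9196, 8371), (9197, 8372), (9198, 9921), (9199, 8375), (9200, 9923), (9201, 8502), (9202, 8500), (9203, 8497), (9204, 9205), (9205, 9204), (9206, 8384), (9207, 9684), (9208, 8386), (9209, 9930), (9210, 9931), (9211, 8540), (9212, 8541), (9213, 8542), (9214,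 8543), (9215, 8939)]
    ⟨e3 q9152 L167792 q8365, e3 q9153 L167796 q8366, e3 q9154 L167804 q8367, e3 q9155 L174694 q9876, e3 q9156 L174704 q9877, e3 q9157 L174718 q9878, e3 q9158 (flp_i L167842) q8337, e3 q9159 (flp_i L167852) q8338, e3 q9160 (flp_i L174746) q9880, e3 q9161 (flp_i L167868) q8340, e3 q9162 (flp_i L173743) q9773, e3 q9163 (flp_i L173719) q9770, e3 q9164 (flp_i L174503) q9853, e3 q9165 (flp_i L171310) q9532, e3 q9166 L174814 q9888, e3 q9167 L174824 q9889, e3 q9168 (flp_i L167924) q8346, e3 q9169 (flp_i L167936) q8347, e3 q9170 (flp_i L174537) q9856, e3 q9171 (flp_i L174545) q9857, e3 q9172 L174866 q9894, e3 q9173 L174876 q9895, e3 q9174 L174888 q9896, e3 q9175 (flp_i L167994) q8350, e3 q9176 (flp_i L168004) q8351, e3 q9177 (flp_i L174918) q9898, e3 q9178 (flp_i L168024) q8353, e3 q9179 (flp_i L174606) q9863, e3 q9180 (flp_i L174614) q9864, e3 q9181 (flp_i L174622) q9865, e3 q9182 (flp_i L168056) q8357, e3 q9183 (flp_i L168062) q8358, e3 q9184 (flp_i L168070) q8359, e3 q9185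 (flp_i L174988) q9907, e3 q9186 L168090 q8362, e3 q9187 (flp_i L174998) q9909, e3 q9188 (flp_i L174676) q9872, e3 q9189 (flp_i L174682) q9873, e3 q9190 (flp_i L173522) q9747, e3 q9191 (flp_i L174686) q9874, e3 q9192 (flp_i L174692) q9875, e3 q9193 (flp_i L173514) q9746, e3 q9194 (flp_i L173468) q9741, e3 q9195 (flp_i L168128) q8370, e3 q9196 (flp_i L168137) q8371, e3 q9197 (flp_i L168149) q8372, e3 q9198 (flp_i L175068) q9921, e3 q9199 L168173 q8375, e3 q9200 (flp_i L175088) q9923, e3 q9201 L168198 q8502, e3 q9202 L168208 q8500, e3 q9203 L168218 q8497, e3 q9204 (flp_i L168236) q9205, e3 q9205 L168236 q9204, e3 q9206 L168248 q8384, e3 q9207 (flp_i L172865) q9684, e3 q9208 L168264 q8386, e3 q9209 (flp_i L175169) q9930, e3 q9210 (flp_i L175177) q9931, e3 q9211 L168286 q8540, e3 q9212 L168296 q8541, e3 q9213 L168308 q8542, e3 q9214 L168316 q8543, e3 q9215 L168328 q8939, trivial⟩ (by decide +kernel)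

theorem ce_i_144 : ∀ r, r < 64 → sm gi (Qf (9216 + r)) = Qf (tab Gen.i (9216 + r)) :=
  edges_tab (sm gi) Qf (tab Gen.i) 9216 [(9216, 8405), (9217, 8407), (9218, 8408), (9219, 8410), (9220, 9669), (9221, 9935), (9222, 9667), (9223, 9936), (9224, 9937), (9225, 9938), (9226, 9792), (9227, 8417), (9228, 8419), (9229, 9672), (9230, 8420), (9231, 8944), (9232, 8952), (9233, 9242), (9234, 9947), (9235, 8426), (9236, 8979), (9237, 9949), (9238, 8428), (9239, 9115), (9240, 8431), (9241, 8483), (9242, 9233), (9243, 9436), (9244, 9437), (9245, 9438), (9246, 9957), (9247, 9958), (9248, 9959), (9249, 8437), (9250, 8438), (9251, 9961), (9252, 8440), (9253, 9253), (9254, 9254), (9255, 8443), (9256, 8444), (9257, 8445), (9258, 9968), (9259, 8448), (9260, 9970), (9261, 9261), (9262, 9262), (9263, 9263), (9264, 9264), (9265, 9265), (9266, 9267), (9267, 9266), (9268, 8456), (9269, 9687), (9270, 8458), (9271, 9686), (9272, 9980), (9273, 9273), (9274, 9274), (9275, 9275), (9276, 9276), (9277, 8675), (9278,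 8674), (9279, 8468)]
    ⟨e3 q9216 L168342 q8405, e3 q9217 L168350 q8407, e3 q9218 L168358 q8408, e3 q9219 L168367 q8410, e3 q9220 (flp_i L172704) q9669, e3 q9221 (flp_i L175217) q9935, e3 q9222 (flp_i L172679) q9667, e3 q9223 (flp_i L175226) q9936, e3 q9224 (flp_i L175234) q9937, e3 q9225 (flp_i L175245) q9938, e3 q9226 (flp_i L173953) q9792, e3 q9227 L168434 q8417, e3 q9228 L168446 q8419, e3 q9229 (flp_i L172724) q9672, e3 q9230 (flp_i L168460) q8420, e3 q9231 L168480 q8944, e3 q9232 L168485 q8952, e3 q9233 (flp_i L168593) q9242, e3 q9234 L175330 q9947, e3 q9235 (flp_i L168512) q8426, e3 q9236 L168531 q8979, e3 q9237 L175353 q9949, e3 q9238 (flp_i L168546) q8428, e3 q9239 L168563 q9115, e3 q9240 (flp_i L168565) q8431, e3 q9241 L168586 q8483, e3 q9242 L168593 q9233, e3 q9243 (flp_i L170218) q9436, e3 q9244 (flp_i L170225) q9437, e3 q9245 (flp_i L170232) q9438, e3 q9246 L175429 q9957, e3 q9247 L175439 q9958, e3 q9248 L175450 q9959, e3 q9249 (flp_i L168644) q8437, e3 q9250 (flp_i L168653)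 q8438, e3 q9251 (flp_i L175478) q9961, e3 q9252 (flp_i L168672) q8440, e3 q9253 L168694 q9253, e3 q9254 L168702 q9254, e3 q9255 (flp_i L168703) q8443, e3 q9256 (flp_i L168712) q8444, e3 q9257 (flp_i L168722) q8445, e3 q9258 (flp_i L175547) q9968, e3 q9259 L168747 q8448, e3 q9260 (flp_i L175565) q9970, e3 q9261 L168768 q9261, e3 q9262 L168775 q9262, e3 q9263 L168780 q9263, e3 q9264 L168789 q9264, e3 q9265 L168798 q9265, e3 q9266 (flp_i L168818) q9267, e3 q9267 L168818 q9266, e3 q9268 L168831 q8456, e3 q9269 (flp_i L172900) q9687, e3 q9270 L168849 q8458, e3 q9271 (flp_i L172887) q9686, e3 q9272 (flp_i L175656) q9980, e3 q9273 L168877 q9273, e3 q9274 L168884 q9274, e3 q9275 L168892 q9275, e3 q9276 L168899 q9276, e3 q9277 L168913 q8675, e3 q9278 L168926 q8674, e3 q9279 L168939 q8468, trivial⟩ (by decide +kernel)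

theorem ce_i_145 : ∀ r, r < 64 → sm gi (Qf (9280 + r)) = Qf (tab Gen.i (9280 + r)) :=
  edges_tab (sm gi) Qf (tab Gen.i) 9280 [(9280, 9986), (9281, 8470), (9282, 9685), (9283, 9951), (9284, 8555), (9285, 8556), (9286, 8557), (9287, 8558), (9288, 9289), (9289, 9288), (9290, 9561), (9291, 9291), (9292, 9292), (9293, 9293), (9294, 9294), (9295, 9295), (9296, 9296), (9297, 9297), (9298, 9298), (9299, 9926), (9300, 9925), (9301, 9994), (9302, 8501), (9303, 8505), (9304, 8509), (9305, 8513), (9306, 9306), (9307, 9307), (9308, 9997), (9309, 9998), (9310, 8520), (9311, 8521), (9312, 10000), (9313, 9313), (9314, 9314), (9315, 9315), (9316, 9316), (9317, 8528), (9318, 8529), (9319, 8530), (9320, 10009), (9321, 8533), (9322, 8539), (9323, 9323), (9324, 9324), (9325, 9325), (9326, 9326), (9327, 9327), (9328, 8553), (9329, 10013), (9330, 8559), (9331, 10015), (9332, 10016), (9333, 8560), (9334, 8986), (9335, 8562), (9336, 8988), (9337, 8572), (9338, 10022), (9339, 8566), (9340, 8577), (9341, 8578),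 (9342, 8580), (9343, 10027)]
    ⟨e3 q9280 (flp_i L175721) q9986, e3 q9281 L168953 q8470, e3 q9282 (flp_i L172876) q9685, e3 q9283 (flp_i L175386) q9951, e3 q9284 L168984 q8555, e3 q9285 L168997 q8556, e3 q9286 L169006 q8557, e3 q9287 L169017 q8558, e3 q9288 (flp_i L169035) q9289, e3 q9289 L169035 q9288, e3 q9290 (flp_i L171648) q9561, e3 q9291 L169060 q9291, e3 q9292 L169069 q9292, e3 q9293 L169076 q9293, e3 q9294 L169081 q9294, e3 q9295 L169088 q9295, e3 q9296 L169094 q9296, e3 q9297 L169107 q9297, e3 q9298 L169115 q9298, e3 q9299 (flp_i L175126) q9926, e3 q9300 (flp_i L175114) q9925, e3 q9301 L175794 q9994, e3 q9302 (flp_i L169159) q8501, e3 q9303 (flp_i L169169) q8505, e3 q9304 (flp_i L169185) q8509, e3 q9305 L169207 q8513, e3 q9306 L169219 q9306, e3 q9307 L169232 q9307, e3 q9308 L175834 q9997, e3 q9309 L175846 q9998, e3 q9310 (flp_i L169259) q8520, e3 q9311 (flp_i L169270) q8521, e3 q9312 (flp_i L175872) q10000, e3 q9313 L169293 q9313, e3 q9314 L169299 q9314, e3 q9315 L169308 q9315,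 e3 q9316 L169311 q9316, e3 q9317 (flp_i L169312) q8528, e3 q9318 (flp_i L169320) q8529, e3 q9319 (flp_i L169329) q8530, e3 q9320 (flp_i L175949) q10009, e3 q9321 L169348 q8533, e3 q9322 L169352 q8539, e3 q9323 L169363 q9323, e3 q9324 L169377 q9324, e3 q9325 L169384 q9325, e3 q9326 L169395 q9326, e3 q9327 L169404 q9327, e3 q9328 L169412 q8553, e3 q9329 L175978 q10013, e3 q9330 (flp_i L169425) q8559, e3 q9331 L175992 q10015, e3 q9332 L176003 q10016, e3 q9333 (flp_i L169455) q8560, e3 q9334 L169469 q8986, e3 q9335 (flp_i L169471) q8562, e3 q9336 L169488 q8988, e3 q9337 L169496 q8572, e3 q9338 L176060 q10022, e3 q9339 (flp_i L169505) q8566, e3 q9340 L169520 q8577, e3 q9341 L169526 q8578, e3 q9342 L169534 q8580, e3 q9343 L176091 q10027, trivial⟩ (by decide +kernel)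

theorem ce_i_146 : ∀ r, r < 64 → sm gi (Qf (9344 + r)) = Qf (tab Gen.i (9344 + r)) :=
  edges_tab (sm gi) Qf (tab Gen.i) 9344 [(9344, 8570), (9345, 9601), (9346, 10021), (9347, 10032), (9348, 10033), (9349, 8573), (9350, 8574), (9351, 10035), (9352, 9595), (9353, 10024), (9354, 10025), (9355, 9662), (9356, 10026), (9357, 8581), (9358, 8582), (9359, 8583), (9360, 10045), (9361, 8586), (9362, 10047), (9363, 9363), (9364, 9364), (9365, 9365), (9366, 9366), (9367, 9367), (9368, 9368), (9369, 8601), (9370, 8603), (9371, 8605), (9372, 9605), (9373, 10055), (9374, 10056), (9375, 9664), (9376, 9665), (9377, 9674), (9378, 10057), (9379, 9379), (9380, 9380), (9381, 10064), (9382, 10065), (9383, 8615), (9384, 10067), (9385, 8616), (9386, 9127), (9387, 9128), (9388, 8619), (9389, 9130), (9390, 9131), (9391, 10074), (9392, 10075), (9393, 8622), (9394, 8623), (9395, 10077), (9396, 8637), (9397, 8638), (9398, 8639), (9399, 8641), (9400, 8642), (9401, 8630), (9402, 8631), (9403, 8632), (9404, 10086), (9405,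 8635), (9406, 10088), (9407, 9611)]
    ⟨e3 q9344 (flp_i L169544) q8570, e3 q9345 (flp_i L172090) q9601, e3 q9346 (flp_i L176058) q10021, e3 q9347 L176121 q10032, e3 q9348 L176133 q10033, e3 q9349 (flp_i L169583) q8573, e3 q9350 (flp_i L169593) q8574, e3 q9351 (flp_i L176157) q10035, e3 q9352 (flp_i L172020) q9595, e3 q9353 (flp_i L176076) q10024, e3 q9354 (flp_i L176082) q10025, e3 q9355 (flp_i L172607) q9662, e3 q9356 (flp_i L176089) q10026, e3 q9357 (flp_i L169643) q8581, e3 q9358 (flp_i L169654) q8582, e3 q9359 (flp_i L169663) q8583, e3 q9360 (flp_i L176228) q10045, e3 q9361 L169685 q8586, e3 q9362 (flp_i L176246) q10047, e3 q9363 L169705 q9363, e3 q9364 L169713 q9364, e3 q9365 L169720 q9365, e3 q9366 L169730 q9366, e3 q9367 L169741 q9367, e3 q9368 L169744 q9368, e3 q9369 L169751 q8601, e3 q9370 L169759 q8603, e3 q9371 L169766 q8605, e3 q9372 (flp_i L172128) q9605, e3 q9373 (flp_i L176320) q10055, e3 q9374 (flp_i L176327) q10056, e3 q9375 (flp_i L172637) q9664, e3 q9376 (flp_i L172653)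 q9665, e3 q9377 (flp_i L172755) q9674, e3 q9378 (flp_i L176332) q10057, e3 q9379 L169814 q9379, e3 q9380 L169821 q9380, e3 q9381 L176369 q10064, e3 q9382 L176384 q10065, e3 q9383 (flp_i L169842) q8615, e3 q9384 L176396 q10067, e3 q9385 (flp_i L169861) q8616, e3 q9386 L169877 q9127, e3 q9387 L169881 q9128, e3 q9388 (flp_i L169885) q8619, e3 q9389 L169902 q9130, e3 q9390 L169908 q9131, e3 q9391 L176454 q10074, e3 q9392 L176469 q10075, e3 q9393 (flp_i L169931) q8622, e3 q9394 (flp_i L169938) q8623, e3 q9395 (flp_i L176484) q10077, e3 q9396 L169952 q8637, e3 q9397 L169956 q8638, e3 q9398 L169960 q8639, e3 q9399 L169968 q8641, e3 q9400 L169974 q8642, e3 q9401 (flp_i L169976) q8630, e3 q9402 (flp_i L169984) q8631, e3 q9403 (flp_i L169992) q8632, e3 q9404 (flp_i L176539) q10086, e3 q9405 L170010 q8635, e3 q9406 (flp_i L176549) q10088, e3 q9407 (flp_i L172197) q9611, trivial⟩ (by decide +kernel)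

theorem ce_i_147 : ∀ r, r < 64 → sm gi (Qf (9408 + r)) = Qf (tab Gen.i (9408 + r)) :=
  edges_tab (sm gi) Qf (tab Gen.i) 9408 [(9408, 10079), (9409, 10080), (9410, 10081), (9411, 10082), (9412, 9668), (9413, 10083), (9414, 9739), (9415, 9798), (9416, 9920), (9417, 9919), (9418, 8646), (9419, 10104), (9420, 8648), (9421, 10107), (9422, 10108), (9423, 9423), (9424, 9424), (9425, 9425), (9426, 9426), (9427, 9427), (9428, 9428), (9429, 9429), (9430, 9430), (9431, 9431), (9432, 8739), (9433, 9433), (9434, 9797), (9435, 9795), (9436, 9243), (9437, 9244), (9438, 9245), (9439, 9985), (9440, 9984), (9441, 8677), (9442, 10123), (9443, 10124), (9444, 8679), (9445, 8680), (9446, 10126), (9447, 10127), (9448, 9448), (9449, 9449), (9450, 9450), (9451, 10131), (9452, 10132), (9453, 8690), (9454, 10134), (9455, 10135), (9456, 8691), (9457, 9688), (9458, 8693), (9459, 8877), (9460, 8696), (9461, 8716), (9462, 8698), (9463, 10142), (9464, 8699), (9465, 8720), (9466, 8721), (9467, 8703), (9468, 10147), (9469,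 8704), (9470, 8727), (9471, 10150)]
    ⟨e3 q9408 (flp_i L176494) q10079, e3 q9409 (flp_i L176498) q10080, e3 q9410 (flp_i L176504) q10081, e3 q9411 (flp_i L176510) q10082, e3 q9412 (flp_i L172689) q9668, e3 q9413 (flp_i L176517) q10083, e3 q9414 (flp_i L173440) q9739, e3 q9415 (flp_i L174007) q9798, e3 q9416 (flp_i L175056) q9920, e3 q9417 (flp_i L175044) q9919, e3 q9418 L170084 q8646, e3 q9419 (flp_i L176643) q10104, e3 q9420 L170098 q8648, e3 q9421 (flp_i L176667) q10107, e3 q9422 (flp_i L176674) q10108, e3 q9423 L170119 q9423, e3 q9424 L170124 q9424, e3 q9425 L170133 q9425, e3 q9426 L170142 q9426, e3 q9427 L170149 q9427, e3 q9428 L170154 q9428, e3 q9429 L170159 q9429, e3 q9430 L170166 q9430, e3 q9431 L170171 q9431, e3 q9432 L170180 q8739, e3 q9433 L170194 q9433, e3 q9434 (flp_i L174001) q9797, e3 q9435 (flp_i L173984) q9795, e3 q9436 L170218 q9243, e3 q9437 L170225 q9244, e3 q9438 L170232 q9245, e3 q9439 (flp_i L175706) q9985, e3 q9440 (flp_i L175696) q9984, e3 q9441 L170253 q8677, e3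 q9442 (flp_i L176827) q10123, e3 q9443 (flp_i L176841) q10124, e3 q9444 L170278 q8679, e3 q9445 L170284 q8680, e3 q9446 (flp_i L176860) q10126, e3 q9447 (flp_i L176868) q10127, e3 q9448 L170311 q9448, e3 q9449 L170316 q9449, e3 q9450 L170322 q9450, e3 q9451 L176892 q10131, e3 q9452 L176907 q10132, e3 q9453 (flp_i L170354) q8690, e3 q9454 L176929 q10134, e3 q9455 L176944 q10135, e3 q9456 (flp_i L170392) q8691, e3 q9457 (flp_i L172916) q9688, e3 q9458 (flp_i L170410) q8693, e3 q9459 L170429 q8877, e3 q9460 (flp_i L170431) q8696, e3 q9461 L170459 q8716, e3 q9462 (flp_i L170461) q8698, e3 q9463 L177035 q10142, e3 q9464 (flp_i L170490) q8699, e3 q9465 L170512 q8720, e3 q9466 L170526 q8721, e3 q9467 (flp_i L170528) q8703, e3 q9468 L177107 q10147, e3 q9469 (flp_i L170558) q8704, e3 q9470 L170580 q8727, e3 q9471 L177147 q10150, trivial⟩ (by decide +kernel)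

theorem ce_i_148 : ∀ r, r < 64 → sm gi (Qf (9472 + r)) = Qf (tab Gen.i (9472 + r)) :=
  edges_tab (sm gi) Qf (tab Gen.i) 9472 [(9472, 10151), (9473, 8706), (9474, 8707), (9475, 8733), (9476, 8734), (9477, 8736), (9478, 8737), (9479, 8712), (9480, 8713), (9481, 10140), (9482, 8966), (9483, 8717), (9484, 10141), (9485, 10143), (9486, 10144), (9487, 10145), (9488, 10167), (9489, 8722), (9490, 10146), (9491, 10170), (9492, 9934), (9493, 8724), (9494, 8725), (9495, 10148), (9496, 10149), (9497, 10117), (9498, 10176), (9499, 10177), (9500, 8728), (9501, 8729), (9502, 10179), (9503, 8731), (9504, 10153), (9505, 10154), (9506, 10155), (9507, 9070), (9508, 10156), (9509, 10157), (9510, 9510), (9511, 8740), (9512, 8741), (9513, 10189), (9514, 8744), (9515, 10190), (9516, 9516), (9517, 9517), (9518, 9518), (9519, 8764), (9520, 8765), (9521, 8766), (9522, 8768), (9523, 8770), (9524, 8771), (9525, 8773), (9526, 8775), (9527, 8776), (9528, 9007), (9529, 8972), (9530, 9108), (9531, 10194), (9532, 9165),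 (9533, 10195), (9534, 9037), (9535, 10196)]
    ⟨e3 q9472 L177160 q10151, e3 q9473 (flp_i L170606) q8706, e3 q9474 (flp_i L170613) q8707, e3 q9475 L170635 q8733, e3 q9476 L170643 q8734, e3 q9477 L170659 q8736, e3 q9478 L170667 q8737, e3 q9479 (flp_i L170672) q8712, e3 q9480 (flp_i L170686) q8713, e3 q9481 (flp_i L177017) q10140, e3 q9482 L170722 q8966, e3 q9483 (flp_i L170724) q8717, e3 q9484 (flp_i L177033) q10141, e3 q9485 (flp_i L177064) q10143, e3 q9486 (flp_i L177072) q10144, e3 q9487 (flp_i L177086) q10145, e3 q9488 L177343 q10167, e3 q9489 (flp_i L170802) q8722, e3 q9490 (flp_i L177105) q10146, e3 q9491 L177383 q10170, e3 q9492 (flp_i L175205) q9934, e3 q9493 (flp_i L170852) q8724, e3 q9494 (flp_i L170862) q8725, e3 q9495 (flp_i L177137) q10148, e3 q9496 (flp_i L177145) q10149, e3 q9497 (flp_i L176762) q10117, e3 q9498 L177441 q10176, e3 q9499 L177455 q10177, e3 q9500 (flp_i L170928) q8728, e3 q9501 (flp_i L170938) q8729, e3 q9502 (flp_i L177485) q10179, e3 q9503 (flp_i L170954) q8731,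 e3 q9504 (flp_i L177192) q10153, e3 q9505 (flp_i L177198) q10154, e3 q9506 (flp_i L177206) q10155, e3 q9507 L171002 q9070, e3 q9508 (flp_i L177218) q10156, e3 q9509 (flp_i L177230) q10157, e3 q9510 L171034 q9510, e3 q9511 (flp_i L171037) q8740, e3 q9512 (flp_i L171049) q8741, e3 q9513 (flp_i L177579) q10189, e3 q9514 L171074 q8744, e3 q9515 (flp_i L177589) q10190, e3 q9516 L171086 q9516, e3 q9517 L171097 q9517, e3 q9518 L171108 q9518, e3 q9519 L171123 q8764, e3 q9520 L171133 q8765, e3 q9521 L171148 q8766, e3 q9522 L171167 q8768, e3 q9523 L171183 q8770, e3 q9524 L171191 q8771, e3 q9525 L171203 q8773, e3 q9526 L171217 q8775, e3 q9527 L171235 q8776, e3 q9528 L171253 q9007, e3 q9529 L171263 q8972, e3 q9530 L171282 q9108, e3 q9531 (flp_i L177634) q10194, e3 q9532 L171310 q9165, e3 q9533 (flp_i L177649) q10195, e3 q9534 L171338 q9037, e3 q9535 (flp_i L177659) q10196, trivial⟩ (by decide +kernel)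

theorem ce_i_149 : ∀ r, r < 64 → sm gi (Qf (9536 + r)) = Qf (tab Gen.i (9536 + r)) :=
  edges_tab (sm gi) Qf (tab Gen.i) 9536 [(9536, 10197), (9537, 9110), (9538, 10198), (9539, 9539), (9540, 9540), (9541, 9541), (9542, 9542), (9543, 8794), (9544, 8918), (9545, 8797), (9546, 9679), (9547, 8799), (9548, 9694), (9549, 10207), (9550, 8802), (9551, 10209), (9552, 8803), (9553, 9802), (9554, 10212), (9555, 8805), (9556, 10214), (9557, 8806), (9558, 9803), (9559, 9804), (9560, 8809), (9561, 9290), (9562, 9805), (9563, 8836), (9564, 8841), (9565, 8815), (9566, 8846), (9567, 8847), (9568, 8850), (9569, 8854), (9570, 10228), (9571, 10229), (9572, 8820), (9573, 8821), (9574, 8860), (9575, 8861), (9576, 10234), (9577, 10235), (9578, 10236), (9579, 8824), (9580, 8825), (9581, 10238), (9582, 8827), (9583, 8869), (9584, 8870), (9585, 8871), (9586, 8872), (9587, 8873), (9588, 8874), (9589, 8834), (9590, 8959), (9591, 10221), (9592, 8967), (9593, 9099), (9594, 8839), (9595, 9352), (9596, 10222), (9597,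 10255), (9598, 8842), (9599, 10136)]
    ⟨e3 q9536 (flp_i L177672) q10197, e3 q9537 L171372 q9110, e3 q9538 (flp_i L177689) q10198, e3 q9539 L171400 q9539, e3 q9540 L171411 q9540, e3 q9541 L171422 q9541, e3 q9542 L171435 q9542, e3 q9543 L171446 q8794, e3 q9544 L171467 q8918, e3 q9545 (flp_i L171469) q8797, e3 q9546 (flp_i L172816) q9679, e3 q9547 (flp_i L171493) q8799, e3 q9548 (flp_i L172982) q9694, e3 q9549 L177794 q10207, e3 q9550 (flp_i L171529) q8802, e3 q9551 L177820 q10209, e3 q9552 (flp_i L171557) q8803, e3 q9553 (flp_i L174042) q9802, e3 q9554 L177856 q10212, e3 q9555 (flp_i L171588) q8805, e3 q9556 L177874 q10214, e3 q9557 (flp_i L171607) q8806, e3 q9558 (flp_i L174054) q9803, e3 q9559 (flp_i L174060) q9804, e3 q9560 (flp_i L171631) q8809, e3 q9561 L171648 q9290, e3 q9562 (flp_i L174074) q9805, e3 q9563 L171669 q8836, e3 q9564 L171685 q8841, e3 q9565 (flp_i L171687) q8815, e3 q9566 L171710 q8846, e3 q9567 L171716 q8847, e3 q9568 L171728 q8850, e3 q9569 L171745 q8854, e3 q9570 L178008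 q10228, e3 q9571 L178022 q10229, e3 q9572 (flp_i L171773) q8820, e3 q9573 (flp_i L171785) q8821, e3 q9574 L171811 q8860, e3 q9575 L171819 q8861, e3 q9576 L178078 q10234, e3 q9577 L178085 q10235, e3 q9578 L178098 q10236, e3 q9579 (flp_i L171850) q8824, e3 q9580 (flp_i L171857) q8825, e3 q9581 (flp_i L178117) q10238, e3 q9582 (flp_i L171865) q8827, e3 q9583 L171887 q8869, e3 q9584 L171891 q8870, e3 q9585 L171897 q8871, e3 q9586 L171911 q8872, e3 q9587 L171919 q8873, e3 q9588 L171927 q8874, e3 q9589 (flp_i L171929) q8834, e3 q9590 L171952 q8959, e3 q9591 (flp_i L177942) q10221, e3 q9592 L171972 q8967, e3 q9593 L171989 q9099, e3 q9594 (flp_i L171991) q8839, e3 q9595 L172020 q9352, e3 q9596 (flp_i L177956) q10222, e3 q9597 L178272 q10255, e3 q9598 (flp_i L172046) q8842, e3 q9599 (flp_i L176968) q10136, trivial⟩ (by decide +kernel)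

theorem ce_i_150 : ∀ r, r < 64 → sm gi (Qf (9600 + r)) = Qf (tab Gen.i (9600 + r)) :=
  edges_tab (sm gi) Qf (tab Gen.i) 9600 [(9600, 8844), (9601, 9345), (9602, 10224), (9603, 10225), (9604, 9068), (9605, 9372), (9606, 10226), (9607, 10266), (9608, 10267), (9609, 8851), (9610, 8852), (9611, 9407), (9612, 10227), (9613, 10272), (9614, 10273), (9615, 10274), (9616, 8855), (9617, 8856), (9618, 10276), (9619, 8858), (9620, 10231), (9621, 10232), (9622, 10233), (9623, 8862), (9624, 8863), (9625, 8864), (9626, 10285), (9627, 8867), (9628, 10287), (9629, 10240), (9630, 10241), (9631, 10242), (9632, 10243), (9633, 10244), (9634, 10245), (9635, 10246), (9636, 8875), (9637, 10138), (9638, 10139), (9639, 9639), (9640, 9640), (9641, 9641), (9642, 9642), (9643, 9643), (9644, 10008), (9645, 10007), (9646, 8886), (9647, 10308), (9648, 8888), (9649, 10310), (9650, 10311), (9651, 9651), (9652, 9652), (9653, 9653), (9654, 9654), (9655, 9655), (9656, 9656), (9657, 8911), (9658, 8915), (9659, 8916), (9660,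 8920), (9661, 8921), (9662, 9355), (9663, 9067)]
    ⟨e3 q9600 (flp_i L172064) q8844, e3 q9601 L172090 q9345, e3 q9602 (flp_i L177977) q10224, e3 q9603 (flp_i L177985) q10225, e3 q9604 L172116 q9068, e3 q9605 L172128 q9372, e3 q9606 (flp_i L177996) q10226, e3 q9607 L178382 q10266, e3 q9608 L178395 q10267, e3 q9609 (flp_i L172164) q8851, e3 q9610 (flp_i L172173) q8852, e3 q9611 L172197 q9407, e3 q9612 (flp_i L178006) q10227, e3 q9613 L178443 q10272, e3 q9614 L178454 q10273, e3 q9615 L178467 q10274, e3 q9616 (flp_i L172238) q8855, e3 q9617 (flp_i L172247) q8856, e3 q9618 (flp_i L178490) q10276, e3 q9619 (flp_i L172257) q8858, e3 q9620 (flp_i L178060) q10231, e3 q9621 (flp_i L178070) q10232, e3 q9622 (flp_i L178076) q10233, e3 q9623 (flp_i L172289) q8862, e3 q9624 (flp_i L172297) q8863, e3 q9625 (flp_i L172305) q8864, e3 q9626 (flp_i L178554) q10285, e3 q9627 L172321 q8867, e3 q9628 (flp_i L178564) q10287, e3 q9629 (flp_i L178137) q10240, e3 q9630 (flp_i L178143) q10241, e3 q9631 (flp_i L178147)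 q10242, e3 q9632 (flp_i L178153) q10243, e3 q9633 (flp_i L178161) q10244, e3 q9634 (flp_i L178170) q10245, e3 q9635 (flp_i L178177) q10246, e3 q9636 (flp_i L172367) q8875, e3 q9637 (flp_i L176989) q10138, e3 q9638 (flp_i L176998) q10139, e3 q9639 L172401 q9639, e3 q9640 L172406 q9640, e3 q9641 L172417 q9641, e3 q9642 L172426 q9642, e3 q9643 L172436 q9643, e3 q9644 (flp_i L175938) q10008, e3 q9645 (flp_i L175929) q10007, e3 q9646 L172454 q8886, e3 q9647 (flp_i L178732) q10308, e3 q9648 L172466 q8888, e3 q9649 (flp_i L178744) q10310, e3 q9650 (flp_i L178754) q10311, e3 q9651 L172487 q9651, e3 q9652 L172492 q9652, e3 q9653 L172499 q9653, e3 q9654 L172505 q9654, e3 q9655 L172516 q9655, e3 q9656 L172529 q9656, e3 q9657 L172541 q8911, e3 q9658 L172557 q8915, e3 q9659 L172567 q8916, e3 q9660 L172584 q8920, e3 q9661 L172595 q8921, e3 q9662 L172607 q9355, e3 q9663 L172623 q9067, trivial⟩ (by decide +kernel)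

theorem ce_i_151 : ∀ r, r < 64 → sm gi (Qf (9664 + r)) = Qf (tab Gen.i (9664 + r)) :=
  edges_tab (sm gi) Qf (tab Gen.i) 9664 [(9664, 9375), (9665, 9376), (9666, 10317), (9667, 9222), (9668, 9412), (9669, 9220), (9670, 10202), (9671, 10318), (9672, 9229), (9673, 8937), (9674, 9377), (9675, 9073), (9676, 10319), (9677, 10320), (9678, 9678), (9679, 9546), (9680, 9944), (9681, 9945), (9682, 8945), (9683, 9704), (9684, 9207), (9685, 9282), (9686, 9271), (9687, 9269), (9688, 9457), (9689, 8962), (9690, 9092), (9691, 9100), (9692, 10159), (9693, 10248), (9694, 9548), (9695, 9087), (9696, 10333), (9697, 9109), (9698, 10161), (9699, 10250), (9700, 9700), (9701, 9701), (9702, 9702), (9703, 8973), (9704, 9683), (9705, 8975), (9706, 8976), (9707, 9833), (9708, 9948), (9709, 10349), (9710, 8980), (9711, 10351), (9712, 8981), (9713, 10014), (9714, 10354), (9715, 8983), (9716, 8984), (9717, 10017), (9718, 10018), (9719, 10019), (9720, 10020), (9721, 9006), (9722, 9010), (9723, 9016), (9724, 9020), (9725,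 8994), (9726, 9025), (9727, 9026)]
    ⟨e3 q9664 L172637 q9375, e3 q9665 L172653 q9376, e3 q9666 (flp_i L178808) q10317, e3 q9667 L172679 q9222, e3 q9668 L172689 q9412, e3 q9669 L172704 q9220, e3 q9670 (flp_i L177743) q10202, e3 q9671 (flp_i L178822) q10318, e3 q9672 L172724 q9229, e3 q9673 L172740 q8937, e3 q9674 L172755 q9377, e3 q9675 L172768 q9073, e3 q9676 (flp_i L178837) q10319, e3 q9677 (flp_i L178852) q10320, e3 q9678 L172801 q9678, e3 q9679 L172816 q9546, e3 q9680 (flp_i L175302) q9944, e3 q9681 (flp_i L175313) q9945, e3 q9682 (flp_i L172833) q8945, e3 q9683 (flp_i L173094) q9704, e3 q9684 L172865 q9207, e3 q9685 L172876 q9282, e3 q9686 L172887 q9271, e3 q9687 L172900 q9269, e3 q9688 L172916 q9457, e3 q9689 L172926 q8962, e3 q9690 L172940 q9092, e3 q9691 L172948 q9100, e3 q9692 (flp_i L177262) q10159, e3 q9693 (flp_i L178200) q10248, e3 q9694 L172982 q9548, e3 q9695 L172990 q9087, e3 q9696 (flp_i L179015) q10333, e3 q9697 L173010 q9109, e3 q9698 (flp_i L177284) q10161, e3 q9699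 (flp_i L178219) q10250, e3 q9700 L173046 q9700, e3 q9701 L173061 q9701, e3 q9702 L173074 q9702, e3 q9703 (flp_i L173075) q8973, e3 q9704 L173094 q9683, e3 q9705 (flp_i L173096) q8975, e3 q9706 (flp_i L173107) q8976, e3 q9707 (flp_i L174320) q9833, e3 q9708 (flp_i L175351) q9948, e3 q9709 L179181 q10349, e3 q9710 (flp_i L173151) q8980, e3 q9711 L179205 q10351, e3 q9712 (flp_i L173173) q8981, e3 q9713 (flp_i L175990) q10014, e3 q9714 L179229 q10354, e3 q9715 (flp_i L173201) q8983, e3 q9716 (flp_i L173213) q8984, e3 q9717 (flp_i L176025) q10017, e3 q9718 (flp_i L176031) q10018, e3 q9719 (flp_i L176044) q10019, e3 q9720 (flp_i L176051) q10020, e3 q9721 L173261 q9006, e3 q9722 L173275 q9010, e3 q9723 L173283 q9016, e3 q9724 L173297 q9020, e3 q9725 (flp_i L173299) q8994, e3 q9726 L173319 q9025, e3 q9727 L173325 q9026, trivial⟩ (by decide +kernel)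

theorem ce_i_152 : ∀ r, r < 64 → sm gi (Qf (9728 + r)) = Qf (tab Gen.i (9728 + r)) :=
  edges_tab (sm gi) Qf (tab Gen.i) 9728 [(9728, 10369), (9729, 10370), (9730, 8997), (9731, 8998), (9732, 10372), (9733, 9034), (9734, 9035), (9735, 9036), (9736, 9004), (9737, 10158), (9738, 10361), (9739, 9414), (9740, 9008), (9741, 9194), (9742, 10362), (9743, 9011), (9744, 9012), (9745, 10386), (9746, 9193), (9747, 9190), (9748, 10363), (9749, 10391), (9750, 9018), (9751, 10258), (9752, 10364), (9753, 10396), (9754, 10397), (9755, 9021), (9756, 9022), (9757, 10399), (9758, 10181), (9759, 10366), (9760, 10367), (9761, 10368), (9762, 9027), (9763, 9028), (9764, 9029), (9765, 10408), (9766, 9032), (9767, 10410), (9768, 10172), (9769, 10374), (9770, 9163), (9771, 10375), (9772, 10376), (9773, 9162), (9774, 9040), (9775, 9041), (9776, 9042), (9777, 10421), (9778, 9045), (9779, 9780), (9780, 9779), (9781, 9050), (9782, 10329), (9783, 9052), (9784, 10424), (9785, 10425), (9786, 9102), (9787, 9132), (9788,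 9112), (9789, 9065), (9790, 9069), (9791, 9072)]
    ⟨e3 q9728 L179364 q10369, e3 q9729 L179376 q10370, e3 q9730 (flp_i L173355) q8997, e3 q9731 (flp_i L173365) q8998, e3 q9732 (flp_i L179408) q10372, e3 q9733 L173391 q9034, e3 q9734 L173399 q9035, e3 q9735 L173407 q9036, e3 q9736 (flp_i L173409) q9004, e3 q9737 (flp_i L177246) q10158, e3 q9738 (flp_i L179298) q10361, e3 q9739 L173440 q9414, e3 q9740 (flp_i L173445) q9008, e3 q9741 L173468 q9194, e3 q9742 (flp_i L179310) q10362, e3 q9743 (flp_i L173478) q9011, e3 q9744 (flp_i L173488) q9012, e3 q9745 (flp_i L179525) q10386, e3 q9746 L173514 q9193, e3 q9747 L173522 q9190, e3 q9748 (flp_i L179320) q10363, e3 q9749 L179563 q10391, e3 q9750 (flp_i L173545) q9018, e3 q9751 (flp_i L178316) q10258, e3 q9752 (flp_i L179332) q10364, e3 q9753 L179615 q10396, e3 q9754 L179628 q10397, e3 q9755 (flp_i L173608) q9021, e3 q9756 (flp_i L173617) q9022, e3 q9757 (flp_i L179655) q10399, e3 q9758 (flp_i L177507) q10181, e3 q9759 (flp_i L179348) q10366, e3 q9760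 (flp_i L179354) q10367, e3 q9761 (flp_i L179362) q10368, e3 q9762 (flp_i L173647) q9027, e3 q9763 (flp_i L173655) q9028, e3 q9764 (flp_i L173665) q9029, e3 q9765 (flp_i L179721) q10408, e3 q9766 L173691 q9032, e3 q9767 (flp_i L179735) q10410, e3 q9768 (flp_i L177419) q10172, e3 q9769 (flp_i L179426) q10374, e3 q9770 L173719 q9163, e3 q9771 (flp_i L179438) q10375, e3 q9772 (flp_i L179446) q10376, e3 q9773 L173743 q9162, e3 q9774 (flp_i L173747) q9040, e3 q9775 (flp_i L173757) q9041, e3 q9776 (flp_i L173770) q9042, e3 q9777 (flp_i L179840) q10421, e3 q9778 L173801 q9045, e3 q9779 (flp_i L173817) q9780, e3 q9780 L173817 q9779, e3 q9781 L173830 q9050, e3 q9782 (flp_i L178966) q10329, e3 q9783 L173850 q9052, e3 q9784 (flp_i L179877) q10424, e3 q9785 (flp_i L179890) q10425, e3 q9786 L173884 q9102, e3 q9787 L173896 q9132, e3 q9788 L173912 q9112, e3 q9789 L173926 q9065, e3 q9790 L173937 q9069, e3 q9791 L173943 q9072, trivial⟩ (by decide +kernel)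

theorem ce_i_153 : ∀ r, r < 64 → sm gi (Qf (9792 + r)) = Qf (tab Gen.i (9792 + r)) :=
  edges_tab (sm gi) Qf (tab Gen.i) 9792 [(9792, 9226), (9793, 10427), (9794, 10322), (9795, 9435), (9796, 10428), (9797, 9434), (9798, 9415), (9799, 10328), (9800, 9800), (9801, 9801), (9802, 9553), (9803, 9558), (9804, 9559), (9805, 9562), (9806, 9093), (9807, 9101), (9808, 10340), (9809, 9088), (9810, 9089), (9811, 10444), (9812, 10162), (9813, 10334), (9814, 10440), (9815, 9094), (9816, 9095), (9817, 10451), (9818, 9098), (9819, 10453), (9820, 10251), (9821, 10335), (9822, 10441), (9823, 10422), (9824, 9105), (9825, 10118), (9826, 10342), (9827, 10459), (9828, 9838), (9829, 9839), (9830, 9950), (9831, 10463), (9832, 9116), (9833, 9707), (9834, 10466), (9835, 10467), (9836, 9118), (9837, 9119), (9838, 9828), (9839, 9829), (9840, 10472), (9841, 10473), (9842, 9122), (9843, 9123), (9844, 10475), (9845, 9125), (9846, 10068), (9847, 10069), (9848, 10070), (9849, 10071), (9850, 10072), (9851, 10073), (9852,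 9133), (9853, 9164), (9854, 10487), (9855, 9135)]
    ⟨e3 q9792 L173953 q9226, e3 q9793 (flp_i L179915) q10427, e3 q9794 (flp_i L178880) q10322, e3 q9795 L173984 q9435, e3 q9796 (flp_i L179926) q10428, e3 q9797 L174001 q9434, e3 q9798 L174007 q9415, e3 q9799 (flp_i L178949) q10328, e3 q9800 L174027 q9800, e3 q9801 L174032 q9801, e3 q9802 L174042 q9553, e3 q9803 L174054 q9558, e3 q9804 L174060 q9559, e3 q9805 L174074 q9562, e3 q9806 L174086 q9093, e3 q9807 L174092 q9101, e3 q9808 (flp_i L179089) q10340, e3 q9809 (flp_i L174102) q9088, e3 q9810 (flp_i L174111) q9089, e3 q9811 (flp_i L180072) q10444, e3 q9812 (flp_i L177303) q10162, e3 q9813 (flp_i L179025) q10334, e3 q9814 (flp_i L180034) q10440, e3 q9815 (flp_i L174153) q9094, e3 q9816 (flp_i L174163) q9095, e3 q9817 (flp_i L180124) q10451, e3 q9818 L174193 q9098, e3 q9819 (flp_i L180138) q10453, e3 q9820 (flp_i L178231) q10251, e3 q9821 (flp_i L179039) q10335, e3 q9822 (flp_i L180040) q10441, e3 q9823 (flp_i L179851) q10422, e3 q9824 L174235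 q9105, e3 q9825 L176780 q10118, e3 q9826 (flp_i L179113) q10342, e3 q9827 L180169 q10459, e3 q9828 (flp_i L174379) q9838, e3 q9829 (flp_i L174387) q9839, e3 q9830 (flp_i L175372) q9950, e3 q9831 L180209 q10463, e3 q9832 (flp_i L174302) q9116, e3 q9833 L174320 q9707, e3 q9834 L180244 q10466, e3 q9835 L180255 q10467, e3 q9836 (flp_i L174348) q9118, e3 q9837 (flp_i L174359) q9119, e3 q9838 L174379 q9828, e3 q9839 L174387 q9829, e3 q9840 L180309 q10472, e3 q9841 L180323 q10473, e3 q9842 (flp_i L174421) q9122, e3 q9843 (flp_i L174431) q9123, e3 q9844 (flp_i L180353) q10475, e3 q9845 (flp_i L174443) q9125, e3 q9846 (flp_i L176418) q10068, e3 q9847 (flp_i L176422) q10069, e3 q9848 (flp_i L176428) q10070, e3 q9849 (flp_i L176438) q10071, e3 q9850 (flp_i L176446) q10072, e3 q9851 (flp_i L176452) q10073, e3 q9852 (flp_i L174485) q9133, e3 q9853 L174503 q9164, e3 q9854 L180419 q10487, e3 q9855 (flp_i L174518) q9135, trivial⟩ (by decide +kernel)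

theorem ce_i_154 : ∀ r, r < 64 → sm gi (Qf (9856 + r)) = Qf (tab Gen.i (9856 + r)) :=
  edges_tab (sm gi) Qf (tab Gen.i) 9856 [(9856, 9170), (9857, 9171), (9858, 10491), (9859, 10492), (9860, 9138), (9861, 9139), (9862, 10494), (9863, 9179), (9864, 9180), (9865, 9181), (9866, 9144), (9867, 9145), (9868, 9146), (9869, 10502), (9870, 9149), (9871, 10504), (9872, 9188), (9873, 9189), (9874, 9191), (9875, 9192), (9876, 9155), (9877, 9156), (9878, 9157), (9879, 10512), (9880, 9160), (9881, 10514), (9882, 10168), (9883, 10414), (9884, 10416), (9885, 10486), (9886, 10520), (9887, 10521), (9888, 9166), (9889, 9167), (9890, 10523), (9891, 10278), (9892, 10489), (9893, 10490), (9894, 9172), (9895, 9173), (9896, 9174), (9897, 10531), (9898, 9177), (9899, 10533), (9900, 10269), (9901, 10496), (9902, 10497), (9903, 10498), (9904, 10499), (9905, 9906), (9906, 9905), (9907, 9185), (9908, 10545), (9909, 9187), (9910, 10548), (9911, 10549), (9912, 10506), (9913, 10388), (9914, 10507), (9915, 10382), (9916,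 10389), (9917, 10508), (9918, 10509), (9919, 9417)]
    ⟨e3 q9856 L174537 q9170, e3 q9857 L174545 q9171, e3 q9858 L180455 q10491, e3 q9859 L180466 q10492, e3 q9860 (flp_i L174573) q9138, e3 q9861 (flp_i L174582) q9139, e3 q9862 (flp_i L180495) q10494, e3 q9863 L174606 q9179, e3 q9864 L174614 q9180, e3 q9865 L174622 q9181, e3 q9866 (flp_i L174624) q9144, e3 q9867 (flp_i L174632) q9145, e3 q9868 (flp_i L174642) q9146, e3 q9869 (flp_i L180567) q10502, e3 q9870 L174664 q9149, e3 q9871 (flp_i L180577) q10504, e3 q9872 L174676 q9188, e3 q9873 L174682 q9189, e3 q9874 L174686 q9191, e3 q9875 L174692 q9192, e3 q9876 (flp_i L174694) q9155, e3 q9877 (flp_i L174704) q9156, e3 q9878 (flp_i L174718) q9157, e3 q9879 (flp_i L180643) q10512, e3 q9880 L174746 q9160, e3 q9881 (flp_i L180659) q10514, e3 q9882 (flp_i L177373) q10168, e3 q9883 (flp_i L179767) q10414, e3 q9884 (flp_i L179787) q10416, e3 q9885 (flp_i L180417) q10486, e3 q9886 L180693 q10520, e3 q9887 L180707 q10521, e3 q9888 (flp_i L174814) q9166,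 e3 q9889 (flp_i L174824) q9167, e3 q9890 (flp_i L180741) q10523, e3 q9891 (flp_i L178512) q10278, e3 q9892 (flp_i L180445) q10489, e3 q9893 (flp_i L180453) q10490, e3 q9894 (flp_i L174866) q9172, e3 q9895 (flp_i L174876) q9173, e3 q9896 (flp_i L174888) q9174, e3 q9897 (flp_i L180813) q10531, e3 q9898 L174918 q9177, e3 q9899 (flp_i L180829) q10533, e3 q9900 (flp_i L178429) q10269, e3 q9901 (flp_i L180511) q10496, e3 q9902 (flp_i L180517) q10497, e3 q9903 (flp_i L180527) q10498, e3 q9904 (flp_i L180535) q10499, e3 q9905 (flp_i L174976) q9906, e3 q9906 L174976 q9905, e3 q9907 L174988 q9185, e3 q9908 (flp_i L180911) q10545, e3 q9909 L174998 q9187, e3 q9910 (flp_i L180929) q10548, e3 q9911 (flp_i L180935) q10549, e3 q9912 (flp_i L180589) q10506, e3 q9913 (flp_i L179543) q10388, e3 q9914 (flp_i L180593) q10507, e3 q9915 (flp_i L179491) q10382, e3 q9916 (flp_i L179555) q10389, e3 q9917 (flp_i L180599) q10508, e3 q9918 (flp_i L180603) q10509, e3 q9919 L175044 q9417, trivial⟩ (by decide +kernel)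

theorem ce_i_155 : ∀ r, r < 64 → sm gi (Qf (9920 + r)) = Qf (tab Gen.i (9920 + r)) :=
  edges_tab (sm gi) Qf (tab Gen.i) 9920 [(9920, 9416), (9921, 9198), (9922, 10561), (9923, 9200), (9924, 10563), (9925, 9300), (9926, 9299), (9927, 9928), (9928, 9927), (9929, 10210), (9930, 9209), (9931, 9210), (9932, 10215), (9933, 10469), (9934, 9492), (9935, 9221), (9936, 9223), (9937, 9224), (9938, 9225), (9939, 10325), (9940, 10566), (9941, 10567), (9942, 10568), (9943, 10429), (9944, 9680), (9945, 9681), (9946, 9952), (9947, 9234), (9948, 9708), (9949, 9237), (9950, 9830), (9951, 9283), (9952, 9946), (9953, 10119), (9954, 10120), (9955, 10121), (9956, 10122), (9957, 9246), (9958, 9247), (9959, 9248), (9960, 10578), (9961, 9251), (9962, 10580), (9963, 9963), (9964, 9964), (9965, 9965), (9966, 9967), (9967, 9966), (9968, 9258), (9969, 10331), (9970, 9260), (9971, 10588), (9972, 10589), (9973, 9973), (9974, 9974), (9975, 9975), (9976, 9976), (9977, 9977), (9978, 9979), (9979, 9978), (9980, 9272), (9981,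 10219), (9982, 10330), (9983, 9983)]
    ⟨e3 q9920 L175056 q9416, e3 q9921 L175068 q9198, e3 q9922 (flp_i L181014) q10561, e3 q9923 L175088 q9200, e3 q9924 (flp_i L181044) q10563, e3 q9925 L175114 q9300, e3 q9926 L175126 q9299, e3 q9927 (flp_i L175149) q9928, e3 q9928 L175149 q9927, e3 q9929 (flp_i L177846) q10210, e3 q9930 L175169 q9209, e3 q9931 L175177 q9210, e3 q9932 (flp_i L177896) q10215, e3 q9933 (flp_i L180289) q10469, e3 q9934 L175205 q9492, e3 q9935 L175217 q9221, e3 q9936 L175226 q9223, e3 q9937 L175234 q9224, e3 q9938 L175245 q9225, e3 q9939 (flp_i L178919) q10325, e3 q9940 (flp_i L181073) q10566, e3 q9941 (flp_i L181080) q10567, e3 q9942 (flp_i L181091) q10568, e3 q9943 (flp_i L179935) q10429, e3 q9944 L175302 q9680, e3 q9945 L175313 q9681, e3 q9946 (flp_i L175394) q9952, e3 q9947 (flp_i L175330) q9234, e3 q9948 L175351 q9708, e3 q9949 (flp_i L175353) q9237, e3 q9950 L175372 q9830, e3 q9951 L175386 q9283, e3 q9952 L175394 q9946, e3 q9953 (flp_i L176789) q10119, e3 q9954 (flp_i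 L176798) q10120, e3 q9955 (flp_i L176812) q10121, e3 q9956 (flp_i L176819) q10122, e3 q9957 (flp_i L175429) q9246, e3 q9958 (flp_i L175439) q9247, e3 q9959 (flp_i L175450) q9248, e3 q9960 (flp_i L181187) q10578, e3 q9961 L175478 q9251, e3 q9962 (flp_i L181207) q10580, e3 q9963 L175501 q9963, e3 q9964 L175509 q9964, e3 q9965 L175516 q9965, e3 q9966 (flp_i L175535) q9967, e3 q9967 L175535 q9966, e3 q9968 L175547 q9258, e3 q9969 (flp_i L178991) q10331, e3 q9970 L175565 q9260, e3 q9971 (flp_i L181285) q10588, e3 q9972 (flp_i L181294) q10589, e3 q9973 L175592 q9973, e3 q9974 L175597 q9974, e3 q9975 L175606 q9975, e3 q9976 L175615 q9976, e3 q9977 L175622 q9977, e3 q9978 (flp_i L175642) q9979, e3 q9979 L175642 q9978, e3 q9980 L175656 q9272, e3 q9981 (flp_i L177926) q10219, e3 q9982 (flp_i L178976) q10330, e3 q9983 L175687 q9983, trivial⟩ (by decide +kernel)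

theorem ce_i_156 : ∀ r, r < 64 → sm gi (Qf (9984 + r)) = Qf (tab Gen.i (9984 + r)) :=
  edges_tab (sm gi) Qf (tab Gen.i) 9984 [(9984, 9440), (9985, 9439), (9986, 9280), (9987, 9988), (9988, 9987), (9989, 10218), (9990, 9990), (9991, 9991), (9992, 9992), (9993, 9993), (9994, 9301), (9995, 9995), (9996, 9996), (9997, 9308), (9998, 9309), (9999, 10600), (10000, 9312), (10001, 10602), (10002, 10002), (10003, 10003), (10004, 10004), (10005, 10005), (10006, 10006), (10007, 9645), (10008, 9644), (10009, 9320), (10010, 10010), (10011, 10011), (10012, 10012), (10013, 9329), (10014, 9713), (10015, 9331), (10016, 9332), (10017, 9717), (10018, 9718), (10019, 9719), (10020, 9720), (10021, 9346), (10022, 9338), (10023, 10622), (10024, 9353), (10025, 9354), (10026, 9356), (10027, 9343), (10028, 10628), (10029, 10259), (10030, 10620), (10031, 10621), (10032, 9347), (10033, 9348), (10034, 10635), (10035, 9351), (10036, 10637), (10037, 10253), (10038, 10624), (10039, 10625), (10040, 10626), (10041, 10321),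 (10042, 10627), (10043, 10420), (10044, 10419), (10045, 9360), (10046, 10648), (10047, 9362)]
    ⟨e3 q9984 L175696 q9440, e3 q9985 L175706 q9439, e3 q9986 L175721 q9280, e3 q9987 (flp_i L175747) q9988, e3 q9988 L175747 q9987, e3 q9989 (flp_i L177914) q10218, e3 q9990 L175765 q9990, e3 q9991 L175772 q9991, e3 q9992 L175782 q9992, e3 q9993 L175791 q9993, e3 q9994 (flp_i L175794) q9301, e3 q9995 L175818 q9995, e3 q9996 L175833 q9996, e3 q9997 (flp_i L175834) q9308, e3 q9998 (flp_i L175846) q9309, e3 q9999 (flp_i L181405) q10600, e3 q10000 L175872 q9312, e3 q10001 (flp_i L181423) q10602, e3 q10002 L175892 q10002, e3 q10003 L175899 q10003, e3 q10004 L175906 q10004, e3 q10005 L175911 q10005, e3 q10006 L175919 q10006, e3 q10007 L175929 q9645, e3 q10008 L175938 q9644, e3 q10009 L175949 q9320, e3 q10010 L175960 q10010, e3 q10011 L175970 q10011, e3 q10012 L175976 q10012, e3 q10013 (flp_i L175978) q9329, e3 q10014 L175990 q9713, e3 q10015 (flp_i L175992) q9331, e3 q10016 (flp_i L176003) q9332, e3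 q10017 L176025 q9717, e3 q10018 L176031 q9718, e3 q10019 L176044 q9719, e3 q10020 L176051 q9720, e3 q10021 L176058 q9346, e3 q10022 (flp_i L176060) q9338, e3 q10023 (flp_i L181600) q10622, e3 q10024 L176076 q9353, e3 q10025 L176082 q9354, e3 q10026 L176089 q9356, e3 q10027 (flp_i L176091) q9343, e3 q10028 (flp_i L181644) q10628, e3 q10029 (flp_i L178326) q10259, e3 q10030 (flp_i L181585) q10620, e3 q10031 (flp_i L181593) q10621, e3 q10032 (flp_i L176121) q9347, e3 q10033 (flp_i L176133) q9348, e3 q10034 (flp_i L181692) q10635, e3 q10035 L176157 q9351, e3 q10036 (flp_i L181706) q10637, e3 q10037 (flp_i L178260) q10253, e3 q10038 (flp_i L181612) q10624, e3 q10039 (flp_i L181620) q10625, e3 q10040 (flp_i L181628) q10626, e3 q10041 (flp_i L178867) q10321, e3 q10042 (flp_i L181633) q10627, e3 q10043 (flp_i L179825) q10420, e3 q10044 (flp_i L179810) q10419, e3 q10045 L176228 q9360, e3 q10046 (flp_i L181786) q10648, e3 q10047 L176246 q9362, trivial⟩ (by decide +kernel)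

theorem ce_i_157 : ∀ r, r < 64 → sm gi (Qf (10048 + r)) = Qf (tab Gen.i (10048 + r)) :=
  edges_tab (sm gi) Qf (tab Gen.i) 10048 [(10048, 10650), (10049, 10651), (10050, 10050), (10051, 10051), (10052, 10052), (10053, 10053), (10054, 10054), (10055, 9373), (10056, 9374), (10057, 9378), (10058, 10263), (10059, 10264), (10060, 10656), (10061, 10327), (10062, 10323), (10063, 10063), (10064, 9381), (10065, 9382), (10066, 10662), (10067, 9384), (10068, 9846), (10069, 9847), (10070, 9848), (10071, 9849), (10072, 9850), (10073, 9851), (10074, 9391), (10075, 9392), (10076, 10674), (10077, 9395), (10078, 10676), (10079, 9408), (10080, 9409), (10081, 9410), (10082, 9411), (10083, 9413), (10084, 10511), (10085, 10510), (10086, 9404), (10087, 10686), (10088, 9406), (10089, 10689), (10090, 10690), (10091, 10270), (10092, 10679), (10093, 10680), (10094, 10402), (10095, 10681), (10096, 10682), (10097, 10683), (10098, 10324), (10099, 10432), (10100, 10380), (10101, 10431), (10102, 10560), (10103, 10559),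 (10104, 9419), (10105, 10706), (10106, 10707), (10107, 9421), (10108, 9422), (10109, 10710), (10110, 10711), (10111, 10111)]
    ⟨e3 q10048 (flp_i L181806) q10650, e3 q10049 (flp_i L181816) q10651, e3 q10050 L176275 q10050, e3 q10051 L176286 q10051, e3 q10052 L176293 q10052, e3 q10053 L176303 q10053, e3 q10054 L176314 q10054, e3 q10055 L176320 q9373, e3 q10056 L176327 q9374, e3 q10057 L176332 q9378, e3 q10058 (flp_i L178354) q10263, e3 q10059 (flp_i L178366) q10264, e3 q10060 (flp_i L181866) q10656, e3 q10061 (flp_i L178938) q10327, e3 q10062 (flp_i L178896) q10323, e3 q10063 L176365 q10063, e3 q10064 (flp_i L176369) q9381, e3 q10065 (flp_i L176384) q9382, e3 q10066 (flp_i L181903) q10662, e3 q10067 (flp_i L176396) q9384, e3 q10068 L176418 q9846, e3 q10069 L176422 q9847, e3 q10070 L176428 q9848, e3 q10071 L176438 q9849, e3 q10072 L176446 q9850, e3 q10073 L176452 q9851, e3 q10074 (flp_i L176454) q9391, e3 q10075 (flp_i L176469) q9392, e3 q10076 (flp_i L181999) q10674, e3 q10077 L176484 q9395,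 e3 q10078 (flp_i L182009) q10676, e3 q10079 L176494 q9408, e3 q10080 L176498 q9409, e3 q10081 L176504 q9410, e3 q10082 L176510 q9411, e3 q10083 L176517 q9413, e3 q10084 (flp_i L180629) q10511, e3 q10085 (flp_i L180615) q10510, e3 q10086 L176539 q9404, e3 q10087 (flp_i L182064) q10686, e3 q10088 L176549 q9406, e3 q10089 (flp_i L182080) q10689, e3 q10090 (flp_i L182086) q10690, e3 q10091 (flp_i L178437) q10270, e3 q10092 (flp_i L182026) q10679, e3 q10093 (flp_i L182032) q10680, e3 q10094 (flp_i L179671) q10402, e3 q10095 (flp_i L182038) q10681, e3 q10096 (flp_i L182044) q10682, e3 q10097 (flp_i L182048) q10683, e3 q10098 (flp_i L178907) q10324, e3 q10099 (flp_i L179967) q10432, e3 q10100 (flp_i L179472) q10380, e3 q10101 (flp_i L179960) q10431, e3 q10102 (flp_i L180998) q10560, e3 q10103 (flp_i L180985) q10559, e3 q10104 L176643 q9419, e3 q10105 (flp_i L182171) q10706, e3 q10106 (flp_i L182180) q10707, e3 q10107 L176667 q9421, e3 q10108 L176674 q9422, e3 q10109 (flp_i L182213) q10710, e3 q10110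 (flp_i L182222) q10711, e3 q10111 L176696 q10111, trivial⟩ (by decide +kernel)

theorem ce_i_158 : ∀ r, r < 64 → sm gi (Qf (10112 + r)) = Qf (tab Gen.i (10112 + r)) :=
  edges_tab (sm gi) Qf (tab Gen.i) 10112 [(10112, 10112), (10113, 10113), (10114, 10114), (10115, 10115), (10116, 10116), (10117, 9497), (10118, 9825), (10119, 9953), (10120, 9954), (10121, 9955), (10122, 9956), (10123, 9442), (10124, 9443), (10125, 10719), (10126, 9446), (10127, 9447), (10128, 10720), (10129, 10721), (10130, 10130), (10131, 9451), (10132, 9452), (10133, 10247), (10134, 9454), (10135, 9455), (10136, 9599), (10137, 10332), (10138, 9637), (10139, 9638), (10140, 9481), (10141, 9484), (10142, 9463), (10143, 9485), (10144, 9486), (10145, 9487), (10146, 9490), (10147, 9468), (10148, 9495), (10149, 9496), (10150, 9471), (10151, 9472), (10152, 10744), (10153, 9504), (10154, 9505), (10155, 9506), (10156, 9508), (10157, 9509), (10158, 9737), (10159, 9692), (10160, 10732), (10161, 9698), (10162, 9812), (10163, 10733),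 (10164, 10735), (10165, 10736), (10166, 10737), (10167, 9488), (10168, 9882), (10169, 10738), (10170, 9491), (10171, 10564), (10172, 9768), (10173, 10740), (10174, 10741), (10175, 10742)]
    ⟨e3 q10112 L176705 q10112, e3 q10113 L176720 q10113, e3 q10114 L176731 q10114, e3 q10115 L176738 q10115, e3 q10116 L176749 q10116, e3 q10117 L176762 q9497, e3 q10118 (flp_i L176780) q9825, e3 q10119 L176789 q9953, e3 q10120 L176798 q9954, e3 q10121 L176812 q9955, e3 q10122 L176819 q9956, e3 q10123 L176827 q9442, e3 q10124 L176841 q9443, e3 q10125 (flp_i L182297) q10719, e3 q10126 L176860 q9446, e3 q10127 L176868 q9447, e3 q10128 (flp_i L182308) q10720, e3 q10129 (flp_i L182316) q10721, e3 q10130 L176890 q10130, e3 q10131 (flp_i L176892) q9451, e3 q10132 (flp_i L176907) q9452, e3 q10133 (flp_i L178190) q10247, e3 q10134 (flp_i L176929) q9454, e3 q10135 (flp_i L176944) q9455, e3 q10136 L176968 q9599, e3 q10137 (flp_i L179001) q10332, e3 q10138 L176989 q9637, e3 q10139 L176998 q9638, e3 q10140 L177017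 q9481, e3 q10141 L177033 q9484, e3 q10142 (flp_i L177035) q9463, e3 q10143 L177064 q9485, e3 q10144 L177072 q9486, e3 q10145 L177086 q9487, e3 q10146 L177105 q9490, e3 q10147 (flp_i L177107) q9468, e3 q10148 L177137 q9495, e3 q10149 L177145 q9496, e3 q10150 (flp_i L177147) q9471, e3 q10151 (flp_i L177160) q9472, e3 q10152 (flp_i L182593) q10744, e3 q10153 L177192 q9504, e3 q10154 L177198 q9505, e3 q10155 L177206 q9506, e3 q10156 L177218 q9508, e3 q10157 L177230 q9509, e3 q10158 L177246 q9737, e3 q10159 L177262 q9692, e3 q10160 (flp_i L182445) q10732, e3 q10161 L177284 q9698, e3 q10162 L177303 q9812, e3 q10163 (flp_i L182459) q10733, e3 q10164 (flp_i L182486) q10735, e3 q10165 (flp_i L182496) q10736, e3 q10166 (flp_i L182509) q10737, e3 q10167 (flp_i L177343) q9488, e3 q10168 L177373 q9882, e3 q10169 (flp_i L182523) q10738, e3 q10170 (flp_i L177383) q9491, e3 q10171 (flp_i L181058) q10564, e3 q10172 L177419 q9768, e3 q10173 (flp_i L182551) q10740, e3 q10174 (flp_i L182559) q10741, e3 q10175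 (flp_i L182569) q10742, trivial⟩ (by decide +kernel)

theorem ce_i_159 : ∀ r, r < 64 → sm gi (Qf (10176 + r)) = Qf (tab Gen.i (10176 + r)) :=
  edges_tab (sm gi) Qf (tab Gen.i) 10176 [(10176, 9498), (10177, 9499), (10178, 10773), (10179, 9502), (10180, 10775), (10181, 9758), (10182, 10746), (10183, 10747), (10184, 10748), (10185, 10749), (10186, 10750), (10187, 10751), (10188, 10562), (10189, 9513), (10190, 9515), (10191, 10786), (10192, 10192), (10193, 10193), (10194, 9531), (10195, 9533), (10196, 9535), (10197, 9536), (10198, 9538), (10199, 10789), (10200, 10790), (10201, 10791), (10202, 9670), (10203, 10203), (10204, 10205), (10205, 10204), (10206, 10339), (10207, 9549), (10208, 10345), (10209, 9551), (10210, 9929), (10211, 10436), (10212, 9554), (10213, 10734), (10214, 9556), (10215, 9932), (10216, 10437), (10217, 10438), (10218, 9989), (10219, 9981), (10220, 10439), (10221, 9591), (10222, 9596), (10223, 10726), (10224, 9602), (10225, 9603), (10226, 9606), (10227, 9612), (10228, 9570),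 (10229, 9571), (10230, 10821), (10231, 9620), (10232, 9621), (10233, 9622), (10234, 9576), (10235, 9577), (10236, 9578), (10237, 10829), (10238, 9581), (10239, 10831)]
    ⟨e3 q10176 (flp_i L177441) q9498, e3 q10177 (flp_i L177455) q9499, e3 q10178 (flp_i L182908) q10773, e3 q10179 L177485 q9502, e3 q10180 (flp_i L182924) q10775, e3 q10181 L177507 q9758, e3 q10182 (flp_i L182611) q10746, e3 q10183 (flp_i L182617) q10747, e3 q10184 (flp_i L182625) q10748, e3 q10185 (flp_i L182635) q10749, e3 q10186 (flp_i L182650) q10750, e3 q10187 (flp_i L182663) q10751, e3 q10188 (flp_i L181030) q10562, e3 q10189 L177579 q9513, e3 q10190 L177589 q9515, e3 q10191 (flp_i L183029) q10786, e3 q10192 L177608 q10192, e3 q10193 L177621 q10193, e3 q10194 L177634 q9531, e3 q10195 L177649 q9533, e3 q10196 L177659 q9535, e3 q10197 L177672 q9536, e3 q10198 L177689 q9538, e3 q10199 (flp_i L183065) q10789, e3 q10200 (flp_i L183080) q10790, e3 q10201 (flp_i L183095) q10791, e3 q10202 L177743 q9670, e3 q10203 L177757 q10203,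 e3 q10204 (flp_i L177784) q10205, e3 q10205 L177784 q10204, e3 q10206 (flp_i L179075) q10339, e3 q10207 (flp_i L177794) q9549, e3 q10208 (flp_i L179150) q10345, e3 q10209 (flp_i L177820) q9551, e3 q10210 L177846 q9929, e3 q10211 (flp_i L179996) q10436, e3 q10212 (flp_i L177856) q9554, e3 q10213 (flp_i L182474) q10734, e3 q10214 (flp_i L177874) q9556, e3 q10215 L177896 q9932, e3 q10216 (flp_i L180006) q10437, e3 q10217 (flp_i L180016) q10438, e3 q10218 L177914 q9989, e3 q10219 L177926 q9981, e3 q10220 (flp_i L180028) q10439, e3 q10221 L177942 q9591, e3 q10222 L177956 q9596, e3 q10223 (flp_i L182380) q10726, e3 q10224 L177977 q9602, e3 q10225 L177985 q9603, e3 q10226 L177996 q9606, e3 q10227 L178006 q9612, e3 q10228 (flp_i L178008) q9570, e3 q10229 (flp_i L178022) q9571, e3 q10230 (flp_i L183416) q10821, e3 q10231 L178060 q9620, e3 q10232 L178070 q9621, e3 q10233 L178076 q9622, e3 q10234 (flp_i L178078) q9576, e3 q10235 (flp_i L178085) q9577, e3 q10236 (flp_i L178098) q9578, e3 q10237 (flp_i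 L183499) q10829, e3 q10238 L178117 q9581, e3 q10239 (flp_i L183509) q10831, trivial⟩ (by decide +kernel)

theorem ce_i_160 : ∀ r, r < 64 → sm gi (Qf (10240 + r)) = Qf (tab Gen.i (10240 + r)) :=
  edges_tab (sm gi) Qf (tab Gen.i) 10240 [(10240, 9629), (10241, 9630), (10242, 9631), (10243, 9632), (10244, 9633), (10245, 9634), (10246, 9635), (10247, 10133), (10248, 9693), (10249, 10812), (10250, 9699), (10251, 9820), (10252, 10724), (10253, 10037), (10254, 10813), (10255, 9597), (10256, 10727), (10257, 10728), (10258, 9751), (10259, 10029), (10260, 10815), (10261, 10816), (10262, 10817), (10263, 10058), (10264, 10059), (10265, 10818), (10266, 9607), (10267, 9608), (10268, 10866), (10269, 9900), (10270, 10091), (10271, 10819), (10272, 9613), (10273, 9614), (10274, 9615), (10275, 10874), (10276, 9618), (10277, 10876), (10278, 9891), (10279, 10823), (10280, 10824), (10281, 10825), (10282, 10826), (10283, 10501), (10284, 10500), (10285, 9626), (10286, 10888), (10287, 9628), (10288, 10891), (10289,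 10892), (10290, 10834), (10291, 10835), (10292, 10836), (10293, 10837), (10294, 10838), (10295, 10839), (10296, 10840), (10297, 10841), (10298, 10842), (10299, 10599), (10300, 10730), (10301, 10731), (10302, 10302), (10303, 10303)]
    ⟨e3 q10240 L178137 q9629, e3 q10241 L178143 q9630, e3 q10242 L178147 q9631, e3 q10243 L178153 q9632, e3 q10244 L178161 q9633, e3 q10245 L178170 q9634, e3 q10246 L178177 q9635, e3 q10247 L178190 q10133, e3 q10248 L178200 q9693, e3 q10249 (flp_i L183313) q10812, e3 q10250 L178219 q9699, e3 q10251 L178231 q9820, e3 q10252 (flp_i L182357) q10724, e3 q10253 L178260 q10037, e3 q10254 (flp_i L183327) q10813, e3 q10255 (flp_i L178272) q9597, e3 q10256 (flp_i L182394) q10727, e3 q10257 (flp_i L182402) q10728, e3 q10258 L178316 q9751, e3 q10259 L178326 q10029, e3 q10260 (flp_i L183347) q10815, e3 q10261 (flp_i L183357) q10816, e3 q10262 (flp_i L183365) q10817, e3 q10263 L178354 q10058, e3 q10264 L178366 q10059, e3 q10265 (flp_i L183376) q10818, e3 q10266 (flp_i L178382)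 q9607, e3 q10267 (flp_i L178395) q9608, e3 q10268 (flp_i L183860) q10866, e3 q10269 L178429 q9900, e3 q10270 L178437 q10091, e3 q10271 (flp_i L183388) q10819, e3 q10272 (flp_i L178443) q9613, e3 q10273 (flp_i L178454) q9614, e3 q10274 (flp_i L178467) q9615, e3 q10275 (flp_i L183941) q10874, e3 q10276 L178490 q9618, e3 q10277 (flp_i L183955) q10876, e3 q10278 L178512 q9891, e3 q10279 (flp_i L183438) q10823, e3 q10280 (flp_i L183446) q10824, e3 q10281 (flp_i L183460) q10825, e3 q10282 (flp_i L183468) q10826, e3 q10283 (flp_i L180555) q10501, e3 q10284 (flp_i L180545) q10500, e3 q10285 L178554 q9626, e3 q10286 (flp_i L184030) q10888, e3 q10287 L178564 q9628, e3 q10288 (flp_i L184046) q10891, e3 q10289 (flp_i L184052) q10892, e3 q10290 (flp_i L183532) q10834, e3 q10291 (flp_i L183538) q10835, e3 q10292 (flp_i L183544) q10836, e3 q10293 (flp_i L183552) q10837, e3 q10294 (flp_i L183560) q10838, e3 q10295 (flp_i L183568) q10839, e3 q10296 (flp_i L183576) q10840, e3 q10297 (flp_i L183587) q10841,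 e3 q10298 (flp_i L183604) q10842, e3 q10299 (flp_i L181392) q10599, e3 q10300 (flp_i L182421) q10730, e3 q10301 (flp_i L182433) q10731, e3 q10302 L178670 q10302, e3 q10303 L178680 q10303, trivial⟩ (by decide +kernel)

theorem ce_i_161 : ∀ r, r < 64 → sm gi (Qf (10304 + r)) = Qf (tab Gen.i (10304 + r)) :=
  edges_tab (sm gi) Qf (tab Gen.i) 10304 [(10304, 10304), (10305, 10305), (10306, 10306), (10307, 10610), (10308, 9647), (10309, 10910), (10310, 9649), (10311, 9650), (10312, 10912), (10313, 10913), (10314, 10314), (10315, 10315), (10316, 10316), (10317, 9666), (10318, 9671), (10319, 9676), (10320, 9677), (10321, 10041), (10322, 9794), (10323, 10062), (10324, 10098), (10325, 9939), (10326, 10785), (10327, 10061), (10328, 9799), (10329, 9782), (10330, 9982), (10331, 9969), (10332, 10137), (10333, 9696), (10334, 9813), (10335, 9821), (10336, 10753), (10337, 10844), (10338, 10845), (10339, 10206), (10340, 9808), (10341, 10923), (10342, 9826), (10343, 10755), (10344, 10344), (10345, 10208),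 (10346, 10350), (10347, 10464), (10348, 10465), (10349, 9709), (10350, 10346), (10351, 9711), (10352, 10612), (10353, 10613), (10354, 9714), (10355, 10945), (10356, 10615), (10357, 10616), (10358, 10617), (10359, 10618), (10360, 10619), (10361, 9738), (10362, 9742), (10363, 9748), (10364, 9752), (10365, 10804), (10366, 9759), (10367, 9760)]
    ⟨e3 q10304 L178688 q10304, e3 q10305 L178696 q10305, e3 q10306 L178713 q10306, e3 q10307 (flp_i L181498) q10610, e3 q10308 L178732 q9647, e3 q10309 (flp_i L184182) q10910, e3 q10310 L178744 q9649, e3 q10311 L178754 q9650, e3 q10312 (flp_i L184198) q10912, e3 q10313 (flp_i L184210) q10913, e3 q10314 L178777 q10314, e3 q10315 L178788 q10315, e3 q10316 L178794 q10316, e3 q10317 L178808 q9666, e3 q10318 L178822 q9671, e3 q10319 L178837 q9676, e3 q10320 L178852 q9677, e3 q10321 L178867 q10041, e3 q10322 L178880 q9794, e3 q10323 L178896 q10062, e3 q10324 L178907 q10098, e3 q10325 L178919 q9939, e3 q10326 (flp_i L183016) q10785, e3 q10327 L178938 q10061,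 e3 q10328 L178949 q9799, e3 q10329 L178966 q9782, e3 q10330 L178976 q9982, e3 q10331 L178991 q9969, e3 q10332 L179001 q10137, e3 q10333 L179015 q9696, e3 q10334 L179025 q9813, e3 q10335 L179039 q9821, e3 q10336 (flp_i L182693) q10753, e3 q10337 (flp_i L183626) q10844, e3 q10338 (flp_i L183638) q10845, e3 q10339 L179075 q10206, e3 q10340 L179089 q9808, e3 q10341 (flp_i L184317) q10923, e3 q10342 L179113 q9826, e3 q10343 (flp_i L182714) q10755, e3 q10344 L179137 q10344, e3 q10345 L179150 q10208, e3 q10346 (flp_i L179203) q10350, e3 q10347 (flp_i L180230) q10464, e3 q10348 (flp_i L180238) q10465, e3 q10349 (flp_i L179181) q9709, e3 q10350 L179203 q10346, e3 q10351 (flp_i L179205) q9711, e3 q10352 (flp_i L181519) q10612, e3 q10353 (flp_i L181525) q10613, e3 q10354 (flp_i L179229) q9714, e3 q10355 (flp_i L184552) q10945, e3 q10356 (flp_i L181550) q10615, e3 q10357 (flp_i L181556) q10616, e3 q10358 (flp_i L181564) q10617, e3 q10359 (flp_i L181573) q10618, e3 q10360 (flp_i L181581) q10619, e3 q10361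 L179298 q9738, e3 q10362 L179310 q9742, e3 q10363 L179320 q9748, e3 q10364 L179332 q9752, e3 q10365 (flp_i L183244) q10804, e3 q10366 L179348 q9759, e3 q10367 L179354 q9760, trivial⟩ (by decide +kernel)

theorem ce_i_162 : ∀ r, r < 64 → sm gi (Qf (10368 + r)) = Qf (tab Gen.i (10368 + r)) :=
  edges_tab (sm gi) Qf (tab Gen.i) 10368 [(10368, 9761), (10369, 9728), (10370, 9729), (10371, 10965), (10372, 9732), (10373, 10967), (10374, 9769), (10375, 9771), (10376, 9772), (10377, 10443), (10378, 10752), (10379, 10954), (10380, 10100), (10381, 10802), (10382, 9915), (10383, 10955), (10384, 10956), (10385, 10799), (10386, 9745), (10387, 10982), (10388, 9913), (10389, 9916), (10390, 10957), (10391, 9749), (10392, 10987), (10393, 10856), (10394, 10958), (10395, 10959), (10396, 9753), (10397, 9754), (10398, 10994), (10399, 9757), (10400, 10996), (10401, 10778), (10402, 10094), (10403, 10961), (10404, 10962), (10405, 10963), (10406, 10407), (10407, 10406), (10408, 9765), (10409, 11008), (10410, 9767),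 (10411, 11011), (10412, 11012), (10413, 10768), (10414, 9883), (10415, 10969), (10416, 9884), (10417, 10970), (10418, 10971), (10419, 10044), (10420, 10043), (10421, 9777), (10422, 9823), (10423, 10797), (10424, 9784), (10425, 9785), (10426, 11021), (10427, 9793), (10428, 9796), (10429, 9943), (10430, 10918), (10431, 10101)]
    ⟨e3 q10368 L179362 q9761, e3 q10369 (flp_i L179364) q9728, e3 q10370 (flp_i L179376) q9729, e3 q10371 (flp_i L184738) q10965, e3 q10372 L179408 q9732, e3 q10373 (flp_i L184756) q10967, e3 q10374 L179426 q9769, e3 q10375 L179438 q9771, e3 q10376 L179446 q9772, e3 q10377 (flp_i L180057) q10443, e3 q10378 (flp_i L182679) q10752, e3 q10379 (flp_i L184620) q10954, e3 q10380 L179472 q10100, e3 q10381 (flp_i L183228) q10802, e3 q10382 L179491 q9915, e3 q10383 (flp_i L184628) q10955, e3 q10384 (flp_i L184642) q10956, e3 q10385 (flp_i L183199) q10799, e3 q10386 L179525 q9745, e3 q10387 (flp_i L184888) q10982, e3 q10388 L179543 q9913, e3 q10389 L179555 q9916, e3 q10390 (flp_i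 L184654) q10957, e3 q10391 (flp_i L179563) q9749, e3 q10392 (flp_i L184941) q10987, e3 q10393 (flp_i L183756) q10856, e3 q10394 (flp_i L184662) q10958, e3 q10395 (flp_i L184674) q10959, e3 q10396 (flp_i L179615) q9753, e3 q10397 (flp_i L179628) q9754, e3 q10398 (flp_i L185017) q10994, e3 q10399 L179655 q9757, e3 q10400 (flp_i L185031) q10996, e3 q10401 (flp_i L182950) q10778, e3 q10402 L179671 q10094, e3 q10403 (flp_i L184694) q10961, e3 q10404 (flp_i L184702) q10962, e3 q10405 (flp_i L184708) q10963, e3 q10406 (flp_i L179707) q10407, e3 q10407 L179707 q10406, e3 q10408 L179721 q9765, e3 q10409 (flp_i L185108) q11008, e3 q10410 L179735 q9767, e3 q10411 (flp_i L185136) q11011, e3 q10412 (flp_i L185146) q11012, e3 q10413 (flp_i L182858) q10768, e3 q10414 L179767 q9883, e3 q10415 (flp_i L184778) q10969, e3 q10416 L179787 q9884, e3 q10417 (flp_i L184788) q10970, e3 q10418 (flp_i L184794) q10971, e3 q10419 L179810 q10044, e3 q10420 L179825 q10043, e3 q10421 L179840 q9777, e3 q10422 L179851 q9823,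 e3 q10423 (flp_i L183173) q10797, e3 q10424 L179877 q9784, e3 q10425 L179890 q9785, e3 q10426 (flp_i L185230) q11021, e3 q10427 L179915 q9793, e3 q10428 L179926 q9796, e3 q10429 L179935 q9943, e3 q10430 (flp_i L184247) q10918, e3 q10431 L179960 q10101, trivial⟩ (by decide +kernel)

theorem ce_i_163 : ∀ r, r < 64 → sm gi (Qf (10432 + r)) = Qf (tab Gen.i (10432 + r)) :=
  edges_tab (sm gi) Qf (tab Gen.i) 10432 [(10432, 10099), (10433, 10882), (10434, 10434), (10435, 11026), (10436, 10211), (10437, 10216), (10438, 10217), (10439, 10220), (10440, 9814), (10441, 9822), (10442, 10932), (10443, 10377), (10444, 9811), (10445, 11035), (10446, 10756), (10447, 10924), (10448, 10925), (10449, 11031), (10450, 10762), (10451, 9817), (10452, 11044), (10453, 9819), (10454, 11046), (10455, 10847), (10456, 10926), (10457, 11032), (10458, 10716), (10459, 9827), (10460, 10470), (10461, 10471), (10462, 10572), (10463, 9831), (10464, 10347), (10465, 10348), (10466, 9834), (10467, 9835), (10468, 11058), (10469,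 9933), (10470, 10460), (10471, 10461), (10472, 9840), (10473, 9841), (10474, 11065), (10475, 9844), (10476, 11067), (10477, 10664), (10478, 10665), (10479, 10666), (10480, 10667), (10481, 10668), (10482, 10669), (10483, 10670), (10484, 10671), (10485, 10672), (10486, 9885), (10487, 9854), (10488, 11082), (10489, 9892), (10490, 9893), (10491, 9858), (10492, 9859), (10493, 11088), (10494, 9862), (10495, 11090)]
    ⟨e3 q10432 L179967 q10099, e3 q10433 (flp_i L183996) q10882, e3 q10434 L179983 q10434, e3 q10435 L185273 q11026, e3 q10436 L179996 q10211, e3 q10437 L180006 q10216, e3 q10438 L180016 q10217, e3 q10439 L180028 q10220, e3 q10440 L180034 q9814, e3 q10441 L180040 q9822, e3 q10442 (flp_i L184417) q10932, e3 q10443 L180057 q10377, e3 q10444 L180072 q9811, e3 q10445 (flp_i L185363) q11035, e3 q10446 (flp_i L182728) q10756, e3 q10447 (flp_i L184329) q10924, e3 q10448 (flp_i L184343) q10925, e3 q10449 (flp_i L185323) q11031, e3 q10450 (flp_i L182792) q10762, e3 q10451 L180124 q9817, e3 q10452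 (flp_i L185428) q11044, e3 q10453 L180138 q9819, e3 q10454 (flp_i L185446) q11046, e3 q10455 (flp_i L183660) q10847, e3 q10456 (flp_i L184357) q10926, e3 q10457 (flp_i L185333) q11032, e3 q10458 L182265 q10716, e3 q10459 (flp_i L180169) q9827, e3 q10460 (flp_i L180297) q10470, e3 q10461 (flp_i L180307) q10471, e3 q10462 (flp_i L181130) q10572, e3 q10463 (flp_i L180209) q9831, e3 q10464 L180230 q10347, e3 q10465 L180238 q10348, e3 q10466 (flp_i L180244) q9834, e3 q10467 (flp_i L180255) q9835, e3 q10468 (flp_i L185555) q11058, e3 q10469 L180289 q9933, e3 q10470 L180297 q10460, e3 q10471 L180307 q10461, e3 q10472 (flp_i L180309) q9840, e3 q10473 (flp_i L180323) q9841, e3 q10474 (flp_i L185627) q11065, e3 q10475 L180353 q9844, e3 q10476 (flp_i L185639) q11067, e3 q10477 (flp_i L181919) q10664, e3 q10478 (flp_i L181927) q10665, e3 q10479 (flp_i L181931) q10666, e3 q10480 (flp_i L181937) q10667, e3 q10481 (flp_i L181945) q10668, e3 q10482 (flp_i L181955) q10669, e3 q10483 (flp_i L181963) q10670,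 e3 q10484 (flp_i L181970) q10671, e3 q10485 (flp_i L181977) q10672, e3 q10486 L180417 q9885, e3 q10487 (flp_i L180419) q9854, e3 q10488 (flp_i L185740) q11082, e3 q10489 L180445 q9892, e3 q10490 L180453 q9893, e3 q10491 (flp_i L180455) q9858, e3 q10492 (flp_i L180466) q9859, e3 q10493 (flp_i L185802) q11088, e3 q10494 L180495 q9862, e3 q10495 (flp_i L185818) q11090, trivial⟩ (by decide +kernel)

theorem ce_i_164 : ∀ r, r < 64 → sm gi (Qf (10496 + r)) = Qf (tab Gen.i (10496 + r)) :=
  edges_tab (sm gi) Qf (tab Gen.i) 10496 [(10496, 9901), (10497, 9902), (10498, 9903), (10499, 9904), (10500, 10284), (10501, 10283), (10502, 9869), (10503, 11100), (10504, 9871), (10505, 11102), (10506, 9912), (10507, 9914), (10508, 9917), (10509, 9918), (10510, 10085), (10511, 10084), (10512, 9879), (10513, 11109), (10514, 9881), (10515, 11111), (10516, 10763), (10517, 11016), (10518, 11018), (10519, 11081), (10520, 9886), (10521, 9887), (10522, 11117), (10523, 9890), (10524, 11119), (10525, 10879), (10526,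 11084), (10527, 11085), (10528, 11086), (10529, 10530), (10530, 10529), (10531, 9897), (10532, 11130), (10533, 9899), (10534, 11133), (10535, 11134), (10536, 10868), (10537, 11093), (10538, 11094), (10539, 10977), (10540, 11095), (10541, 11096), (10542, 11097), (10543, 10544), (10544, 10543), (10545, 9908), (10546, 10800), (10547, 11147), (10548, 9910), (10549, 9911), (10550, 10805), (10551, 11150), (10552, 11151), (10553, 11104), (10554, 10984), (10555, 11105), (10556, 10978), (10557, 10985), (10558, 11106), (10559, 10103)]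
    ⟨e3 q10496 L180511 q9901, e3 q10497 L180517 q9902, e3 q10498 L180527 q9903, e3 q10499 L180535 q9904, e3 q10500 L180545 q10284, e3 q10501 L180555 q10283, e3 q10502 L180567 q9869, e3 q10503 (flp_i L185895) q11100, e3 q10504 L180577 q9871, e3 q10505 (flp_i L185907) q11102, e3 q10506 L180589 q9912, e3 q10507 L180593 q9914, e3 q10508 L180599 q9917, e3 q10509 L180603 q9918, e3 q10510 L180615 q10085, e3 q10511 L180629 q10084, e3 q10512 L180643 q9879, e3 q10513 (flp_i L185959) q11109, e3 q10514 L180659 q9881, e3 q10515 (flp_i L185973) q11111, e3 q10516 (flp_i L182804) q10763, e3 q10517 (flp_i L185180) q11016, e3 q10518 (flp_i L185198) q11018, e3 q10519 (flp_i L185725) q11081, e3 q10520 (flp_i L180693) q9886, e3 q10521 (flp_i L180707) q9887, e3 q10522 (flp_i L186029) q11117, e3 q10523 L180741 q9890, e3 q10524 (flp_i L186045) q11119, e3 q10525 (flp_i L183978) q10879, e3 q10526 (flp_i L185756) q11084, e3 q10527 (flp_i L185766) q11085, e3 q10528 (flp_i L185774) q11086, e3 q10529 (flp_i L180799)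 q10530, e3 q10530 L180799 q10529, e3 q10531 L180813 q9897, e3 q10532 (flp_i L186133) q11130, e3 q10533 L180829 q9899, e3 q10534 (flp_i L186155) q11133, e3 q10535 (flp_i L186165) q11134, e3 q10536 (flp_i L183880) q10868, e3 q10537 (flp_i L185841) q11093, e3 q10538 (flp_i L185849) q11094, e3 q10539 (flp_i L184840) q10977, e3 q10540 (flp_i L185857) q11095, e3 q10541 (flp_i L185865) q11096, e3 q10542 (flp_i L185871) q11097, e3 q10543 (flp_i L180901) q10544, e3 q10544 L180901 q10543, e3 q10545 L180911 q9908, e3 q10546 (flp_i L183207) q10800, e3 q10547 (flp_i L186261) q11147, e3 q10548 L180929 q9910, e3 q10549 L180935 q9911, e3 q10550 (flp_i L183252) q10805, e3 q10551 (flp_i L186285) q11150, e3 q10552 (flp_i L186289) q11151, e3 q10553 (flp_i L185917) q11104, e3 q10554 (flp_i L184910) q10984, e3 q10555 (flp_i L185921) q11105, e3 q10556 (flp_i L184854) q10978, e3 q10557 (flp_i L184920) q10985, e3 q10558 (flp_i L185929) q11106, e3 q10559 L180985 q10103, trivial⟩ (by decide +kernel)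

theorem ce_i_165 : ∀ r, r < 64 → sm gi (Qf (10560 + r)) = Qf (tab Gen.i (10560 + r)) :=
  edges_tab (sm gi) Qf (tab Gen.i) 10560 [(10560, 10102), (10561, 9922), (10562, 10188), (10563, 9924), (10564, 10171), (10565, 11060), (10566, 9940), (10567, 9941), (10568, 9942), (10569, 10919), (10570, 11162), (10571, 10573), (10572, 10462), (10573, 10571), (10574, 10717), (10575, 10718), (10576, 10577), (10577, 10576), (10578, 9960), (10579, 10921), (10580, 9962), (10581, 11170), (10582, 10582), (10583, 10583), (10584, 10584), (10585, 10586), (10586, 10585), (10587, 10811), (10588, 9971), (10589, 9972), (10590, 10809), (10591, 11173), (10592, 10592), (10593, 10593), (10594, 10810), (10595, 10595), (10596, 10596), (10597, 10597), (10598, 10598), (10599, 10299), (10600, 9999), (10601, 11180), (10602, 10001), (10603, 11182), (10604, 10604), (10605, 10605), (10606, 10606), (10607, 10607), (10608, 10608), (10609, 10609), (10610, 10307), (10611, 10611), (10612, 10352), (10613, 10353), (10614, 10941), (10615,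 10356), (10616, 10357), (10617, 10358), (10618, 10359), (10619, 10360), (10620, 10030), (10621, 10031), (10622, 10023), (10623, 11201)]
    ⟨e3 q10560 L180998 q10102, e3 q10561 L181014 q9922, e3 q10562 L181030 q10188, e3 q10563 L181044 q9924, e3 q10564 L181058 q10171, e3 q10565 (flp_i L185571) q11060, e3 q10566 L181073 q9940, e3 q10567 L181080 q9941, e3 q10568 L181091 q9942, e3 q10569 (flp_i L184264) q10919, e3 q10570 (flp_i L186347) q11162, e3 q10571 (flp_i L181139) q10573, e3 q10572 L181130 q10462, e3 q10573 L181139 q10571, e3 q10574 (flp_i L182278) q10717, e3 q10575 (flp_i L182283) q10718, e3 q10576 (flp_i L181174) q10577, e3 q10577 L181174 q10576, e3 q10578 L181187 q9960, e3 q10579 (flp_i L184292) q10921, e3 q10580 L181207 q9962, e3 q10581 (flp_i L186438) q11170, e3 q10582 L181227 q10582, e3 q10583 L181234 q10583, e3 q10584 L181243 q10584, e3 q10585 (flp_i L181264) q10586, e3 q10586 L181264 q10585, e3 q10587 (flp_i L183301) q10811, e3 q10588 L181285 q9971, e3 q10589 L181294 q9972, e3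 q10590 (flp_i L183277) q10809, e3 q10591 (flp_i L186467) q11173, e3 q10592 L181324 q10592, e3 q10593 L181329 q10593, e3 q10594 (flp_i L183288) q10810, e3 q10595 L181348 q10595, e3 q10596 L181356 q10596, e3 q10597 L181368 q10597, e3 q10598 L181378 q10598, e3 q10599 L181392 q10299, e3 q10600 L181405 q9999, e3 q10601 (flp_i L186542) q11180, e3 q10602 L181423 q10001, e3 q10603 (flp_i L186562) q11182, e3 q10604 L181444 q10604, e3 q10605 L181454 q10605, e3 q10606 L181464 q10606, e3 q10607 L181470 q10607, e3 q10608 L181483 q10608, e3 q10609 L181492 q10609, e3 q10610 L181498 q10307, e3 q10611 L181510 q10611, e3 q10612 L181519 q10352, e3 q10613 L181525 q10353, e3 q10614 (flp_i L184521) q10941, e3 q10615 L181550 q10356, e3 q10616 L181556 q10357, e3 q10617 L181564 q10358, e3 q10618 L181573 q10359, e3 q10619 L181581 q10360, e3 q10620 L181585 q10030, e3 q10621 L181593 q10031, e3 q10622 L181600 q10023, e3 q10623 (flp_i L186715) q11201, trivial⟩ (by decide +kernel)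

theorem ce_i_166 : ∀ r, r < 64 → sm gi (Qf (10624 + r)) = Qf (tab Gen.i (10624 + r)) :=
  edges_tab (sm gi) Qf (tab Gen.i) 10624 [(10624, 10038), (10625, 10039), (10626, 10040), (10627, 10042), (10628, 10028), (10629, 11208), (10630, 10857), (10631, 10858), (10632, 11199), (10633, 11200), (10634, 10739), (10635, 10034), (10636, 11218), (10637, 10036), (10638, 11221), (10639, 11222), (10640, 10849), (10641, 10850), (10642, 11204), (10643, 11205), (10644, 11206), (10645, 11207), (10646, 10920), (10647, 11020), (10648, 10046), (10649, 11232), (10650, 10048), (10651, 10049), (10652, 11233), (10653, 11234), (10654, 10654), (10655, 10655), (10656, 10060), (10657, 10863), (10658, 10864), (10659, 11239), (10660, 11242), (10661, 10939), (10662, 10066), (10663, 11244), (10664, 10477), (10665, 10478), (10666, 10479), (10667, 10480), (10668, 10481), (10669, 10482), (10670, 10483), (10671, 10484), (10672, 10485), (10673, 10723), (10674, 10076), (10675, 11259), (10676, 10078), (10677, 11262), (10678,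 11263), (10679, 10092), (10680, 10093), (10681, 10095), (10682, 10096), (10683, 10097), (10684, 11108), (10685, 11107), (10686, 10087), (10687, 11274)]
    ⟨e3 q10624 L181612 q10038, e3 q10625 L181620 q10039, e3 q10626 L181628 q10040, e3 q10627 L181633 q10042, e3 q10628 L181644 q10028, e3 q10629 (flp_i L186764) q11208, e3 q10630 (flp_i L183768) q10857, e3 q10631 (flp_i L183778) q10858, e3 q10632 (flp_i L186703) q11199, e3 q10633 (flp_i L186709) q11200, e3 q10634 (flp_i L182539) q10739, e3 q10635 L181692 q10034, e3 q10636 (flp_i L186827) q11218, e3 q10637 L181706 q10036, e3 q10638 (flp_i L186849) q11221, e3 q10639 (flp_i L186857) q11222, e3 q10640 (flp_i L183684) q10849, e3 q10641 (flp_i L183696) q10850, e3 q10642 (flp_i L186736) q11204, e3 q10643 (flp_i L186744) q11205, e3 q10644 (flp_i L186752) q11206, e3 q10645 (flp_i L186758) q11207, e3 q10646 (flp_i L184279) q10920, e3 q10647 (flp_i L185213) q11020, e3 q10648 L181786 q10046, e3 q10649 (flp_i L186928) q11232, e3 q10650 L181806 q10048,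 e3 q10651 L181816 q10049, e3 q10652 (flp_i L186933) q11233, e3 q10653 (flp_i L186945) q11234, e3 q10654 L181846 q10654, e3 q10655 L181856 q10655, e3 q10656 L181866 q10060, e3 q10657 (flp_i L183814) q10863, e3 q10658 (flp_i L183834) q10864, e3 q10659 (flp_i L186997) q11239, e3 q10660 L187007 q11242, e3 q10661 (flp_i L184496) q10939, e3 q10662 L181903 q10066, e3 q10663 (flp_i L187029) q11244, e3 q10664 L181919 q10477, e3 q10665 L181927 q10478, e3 q10666 L181931 q10479, e3 q10667 L181937 q10480, e3 q10668 L181945 q10481, e3 q10669 L181955 q10482, e3 q10670 L181963 q10483, e3 q10671 L181970 q10484, e3 q10672 L181977 q10485, e3 q10673 (flp_i L182342) q10723, e3 q10674 L181999 q10076, e3 q10675 (flp_i L187148) q11259, e3 q10676 L182009 q10078, e3 q10677 (flp_i L187167) q11262, e3 q10678 (flp_i L187174) q11263, e3 q10679 L182026 q10092, e3 q10680 L182032 q10093, e3 q10681 L182038 q10095, e3 q10682 L182044 q10096, e3 q10683 L182048 q10097, e3 q10684 (flp_i L185947) q11108, e3 q10685 (flp_i L185937)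 q11107, e3 q10686 L182064 q10087, e3 q10687 (flp_i L187242) q11274, trivial⟩ (by decide +kernel)

theorem ce_i_167 : ∀ r, r < 64 → sm gi (Qf (10688 + r)) = Qf (tab Gen.i (10688 + r)) :=
  edges_tab (sm gi) Qf (tab Gen.i) 10688 [(10688, 11275), (10689, 10089), (10690, 10090), (10691, 11279), (10692, 11280), (10693, 11281), (10694, 10869), (10695, 10870), (10696, 10999), (10697, 11266), (10698, 11267), (10699, 10989), (10700, 11001), (10701, 11268), (10702, 11269), (10703, 10973), (10704, 10766), (10705, 11161), (10706, 10105), (10707, 10106), (10708, 11297), (10709, 11298), (10710, 10109), (10711, 10110), (10712, 11300), (10713, 11301), (10714, 11302), (10715, 10715), (10716, 10458), (10717, 10574), (10718, 10575), (10719, 10125), (10720, 10128), (10721, 10129), (10722, 11306), (10723, 10673), (10724, 10252), (10725, 10843), (10726, 10223), (10727, 10256), (10728, 10257), (10729, 10922), (10730, 10300), (10731, 10301), (10732, 10160), (10733, 10163), (10734, 10213), (10735, 10164), (10736,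 10165), (10737, 10166), (10738, 10169), (10739, 10634), (10740, 10173), (10741, 10174), (10742, 10175), (10743, 10993), (10744, 10152), (10745, 11333), (10746, 10182), (10747, 10183), (10748, 10184), (10749, 10185), (10750, 10186), (10751, 10187)]
    ⟨e3 q10688 (flp_i L187248) q11275, e3 q10689 L182080 q10089, e3 q10690 L182086 q10090, e3 q10691 (flp_i L187274) q11279, e3 q10692 (flp_i L187280) q11280, e3 q10693 (flp_i L187286) q11281, e3 q10694 (flp_i L183888) q10869, e3 q10695 (flp_i L183898) q10870, e3 q10696 (flp_i L185050) q10999, e3 q10697 (flp_i L187190) q11266, e3 q10698 (flp_i L187194) q11267, e3 q10699 (flp_i L184959) q10989, e3 q10700 (flp_i L185066) q11001, e3 q10701 (flp_i L187202) q11268, e3 q10702 (flp_i L187208) q11269, e3 q10703 (flp_i L184806) q10973, e3 q10704 (flp_i L182836) q10766, e3 q10705 (flp_i L186336) q11161, e3 q10706 L182171 q10105, e3 q10707 L182180 q10106, e3 q10708 (flp_i L187377) q11297, e3 q10709 (flp_i L187396) q11298, e3 q10710 L182213 q10109, e3 q10711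 L182222 q10110, e3 q10712 (flp_i L187421) q11300, e3 q10713 (flp_i L187430) q11301, e3 q10714 (flp_i L187438) q11302, e3 q10715 L182250 q10715, e3 q10716 (flp_i L182265) q10458, e3 q10717 L182278 q10574, e3 q10718 L182283 q10575, e3 q10719 L182297 q10125, e3 q10720 L182308 q10128, e3 q10721 L182316 q10129, e3 q10722 (flp_i L187474) q11306, e3 q10723 L182342 q10673, e3 q10724 L182357 q10252, e3 q10725 (flp_i L183616) q10843, e3 q10726 L182380 q10223, e3 q10727 L182394 q10256, e3 q10728 L182402 q10257, e3 q10729 (flp_i L184305) q10922, e3 q10730 L182421 q10300, e3 q10731 L182433 q10301, e3 q10732 L182445 q10160, e3 q10733 L182459 q10163, e3 q10734 L182474 q10213, e3 q10735 L182486 q10164, e3 q10736 L182496 q10165, e3 q10737 L182509 q10166, e3 q10738 L182523 q10169, e3 q10739 L182539 q10634, e3 q10740 L182551 q10173, e3 q10741 L182559 q10174, e3 q10742 L182569 q10175, e3 q10743 (flp_i L185002) q10993, e3 q10744 L182593 q10152, e3 q10745 (flp_i L187794) q11333, e3 q10746 L182611 q10182, e3 q10747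 L182617 q10183, e3 q10748 L182625 q10184, e3 q10749 L182635 q10185, e3 q10750 L182650 q10186, e3 q10751 L182663 q10187, trivial⟩ (by decide +kernel)

theorem ce_i_168 : ∀ r, r < 64 → sm gi (Qf (10752 + r)) = Qf (tab Gen.i (10752 + r)) :=
  edges_tab (sm gi) Qf (tab Gen.i) 10752 [(10752, 10378), (10753, 10336), (10754, 11319), (10755, 10343), (10756, 10446), (10757, 11320), (10758, 11321), (10759, 11323), (10760, 11324), (10761, 11325), (10762, 10450), (10763, 10516), (10764, 11326), (10765, 11327), (10766, 10704), (10767, 11144), (10768, 10413), (10769, 11329), (10770, 11330), (10771, 11331), (10772, 10964), (10773, 10178), (10774, 11364), (10775, 10180), (10776, 11366), (10777, 11367), (10778, 10401), (10779, 11336), (10780, 11337), (10781, 11338), (10782, 11339), (10783, 11340), (10784, 11341), (10785, 10326), (10786, 10191), (10787, 11172), (10788, 10788), (10789, 10199), (10790, 10200), (10791, 10201), (10792, 11379), (10793, 11187), (10794, 10795), (10795, 10794), (10796, 10931), (10797,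 10423), (10798, 10935), (10799, 10385), (10800, 10546), (10801, 11027), (10802, 10381), (10803, 11322), (10804, 10365), (10805, 10550), (10806, 11028), (10807, 11029), (10808, 11030), (10809, 10590), (10810, 10594), (10811, 10587), (10812, 10249), (10813, 10254), (10814, 11311), (10815, 10260)]
    ⟨e3 q10752 L182679 q10378, e3 q10753 L182693 q10336, e3 q10754 (flp_i L187624) q11319, e3 q10755 L182714 q10343, e3 q10756 L182728 q10446, e3 q10757 (flp_i L187636) q11320, e3 q10758 (flp_i L187650) q11321, e3 q10759 (flp_i L187676) q11323, e3 q10760 (flp_i L187690) q11324, e3 q10761 (flp_i L187700) q11325, e3 q10762 L182792 q10450, e3 q10763 L182804 q10516, e3 q10764 (flp_i L187710) q11326, e3 q10765 (flp_i L187724) q11327, e3 q10766 L182836 q10704, e3 q10767 (flp_i L186239) q11144, e3 q10768 L182858 q10413, e3 q10769 (flp_i L187754) q11329, e3 q10770 (flp_i L187764) q11330, e3 q10771 (flp_i L187770) q11331, e3 q10772 (flp_i L184722) q10964, e3 q10773 L182908 q10178, e3 q10774 (flp_i L188131)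 q11364, e3 q10775 L182924 q10180, e3 q10776 (flp_i L188145) q11366, e3 q10777 (flp_i L188155) q11367, e3 q10778 L182950 q10401, e3 q10779 (flp_i L187819) q11336, e3 q10780 (flp_i L187833) q11337, e3 q10781 (flp_i L187845) q11338, e3 q10782 (flp_i L187857) q11339, e3 q10783 (flp_i L187867) q11340, e3 q10784 (flp_i L187877) q11341, e3 q10785 L183016 q10326, e3 q10786 L183029 q10191, e3 q10787 (flp_i L186456) q11172, e3 q10788 L183051 q10788, e3 q10789 L183065 q10199, e3 q10790 L183080 q10200, e3 q10791 L183095 q10201, e3 q10792 (flp_i L188277) q11379, e3 q10793 (flp_i L186607) q11187, e3 q10794 (flp_i L183145) q10795, e3 q10795 L183145 q10794, e3 q10796 (flp_i L184405) q10931, e3 q10797 L183173 q10423, e3 q10798 (flp_i L184447) q10935, e3 q10799 L183199 q10385, e3 q10800 L183207 q10546, e3 q10801 (flp_i L185283) q11027, e3 q10802 L183228 q10381, e3 q10803 (flp_i L187664) q11322, e3 q10804 L183244 q10365, e3 q10805 L183252 q10550, e3 q10806 (flp_i L185293) q11028, e3 q10807 (flp_i L185305)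 q11029, e3 q10808 (flp_i L185315) q11030, e3 q10809 L183277 q10590, e3 q10810 L183288 q10594, e3 q10811 L183301 q10587, e3 q10812 L183313 q10249, e3 q10813 L183327 q10254, e3 q10814 (flp_i L187533) q11311, e3 q10815 L183347 q10260, trivial⟩ (by decide +kernel)

theorem ce_i_169 : ∀ r, r < 64 → sm gi (Qf (10816 + r)) = Qf (tab Gen.i (10816 + r)) :=
  edges_tab (sm gi) Qf (tab Gen.i) 10816 [(10816, 10261), (10817, 10262), (10818, 10265), (10819, 10271), (10820, 11116), (10821, 10230), (10822, 11411), (10823, 10279), (10824, 10280), (10825, 10281), (10826, 10282), (10827, 10828), (10828, 10827), (10829, 10237), (10830, 11420), (10831, 10239), (10832, 11423), (10833, 11424), (10834, 10290), (10835, 10291), (10836, 10292), (10837, 10293), (10838, 10294), (10839, 10295), (10840, 10296), (10841, 10297), (10842, 10298), (10843, 10725), (10844, 10337), (10845, 10338), (10846, 11401), (10847, 10455), (10848, 11308), (10849, 10640), (10850, 10641), (10851, 11402), (10852, 11064), (10853, 11312), (10854,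 11313), (10855, 11314), (10856, 10393), (10857, 10630), (10858, 10631), (10859, 11405), (10860, 11406), (10861, 11407), (10862, 11408), (10863, 10657), (10864, 10658), (10865, 10872), (10866, 10268), (10867, 11463), (10868, 10536), (10869, 10694), (10870, 10695), (10871, 11409), (10872, 10865), (10873, 11087), (10874, 10275), (10875, 11472), (10876, 10277), (10877, 11475), (10878, 11476), (10879, 10525)]
    ⟨e3 q10816 L183357 q10261, e3 q10817 L183365 q10262, e3 q10818 L183376 q10265, e3 q10819 L183388 q10271, e3 q10820 (flp_i L186013) q11116, e3 q10821 L183416 q10230, e3 q10822 (flp_i L188609) q11411, e3 q10823 L183438 q10279, e3 q10824 L183446 q10280, e3 q10825 L183460 q10281, e3 q10826 L183468 q10282, e3 q10827 (flp_i L183488) q10828, e3 q10828 L183488 q10827, e3 q10829 L183499 q10237, e3 q10830 (flp_i L188703) q11420, e3 q10831 L183509 q10239, e3 q10832 (flp_i L188722) q11423, e3 q10833 (flp_i L188729) q11424, e3 q10834 L183532 q10290, e3 q10835 L183538 q10291, e3 q10836 L183544 q10292,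 e3 q10837 L183552 q10293, e3 q10838 L183560 q10294, e3 q10839 L183568 q10295, e3 q10840 L183576 q10296, e3 q10841 L183587 q10297, e3 q10842 L183604 q10298, e3 q10843 L183616 q10725, e3 q10844 L183626 q10337, e3 q10845 L183638 q10338, e3 q10846 (flp_i L188502) q11401, e3 q10847 L183660 q10455, e3 q10848 (flp_i L187504) q11308, e3 q10849 L183684 q10640, e3 q10850 L183696 q10641, e3 q10851 (flp_i L188516) q11402, e3 q10852 (flp_i L185611) q11064, e3 q10853 (flp_i L187545) q11312, e3 q10854 (flp_i L187555) q11313, e3 q10855 (flp_i L187565) q11314, e3 q10856 L183756 q10393, e3 q10857 L183768 q10630, e3 q10858 L183778 q10631, e3 q10859 (flp_i L188545) q11405, e3 q10860 (flp_i L188557) q11406, e3 q10861 (flp_i L188567) q11407, e3 q10862 (flp_i L188575) q11408, e3 q10863 L183814 q10657, e3 q10864 L183834 q10658, e3 q10865 (flp_i L183917) q10872, e3 q10866 L183860 q10268, e3 q10867 (flp_i L189126) q11463, e3 q10868 L183880 q10536, e3 q10869 L183888 q10694, e3 q10870 L183898 q10695, e3 q10871 (flp_i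 L188585) q11409, e3 q10872 L183917 q10865, e3 q10873 (flp_i L185787) q11087, e3 q10874 L183941 q10275, e3 q10875 (flp_i L189213) q11472, e3 q10876 L183955 q10277, e3 q10877 (flp_i L189230) q11475, e3 q10878 (flp_i L189237) q11476, e3 q10879 L183978 q10525, trivial⟩ (by decide +kernel)

theorem ce_i_170 : ∀ r, r < 64 → sm gi (Qf (10880 + r)) = Qf (tab Gen.i (10880 + r)) :=
  edges_tab (sm gi) Qf (tab Gen.i) 10880 [(10880, 11374), (10881, 11414), (10882, 10433), (10883, 11415), (10884, 11416), (10885, 11417), (10886, 11099), (10887, 11098), (10888, 10286), (10889, 11489), (10890, 11490), (10891, 10288), (10892, 10289), (10893, 11494), (10894, 11495), (10895, 11496), (10896, 11428), (10897, 11429), (10898, 11430), (10899, 11431), (10900, 11432), (10901, 11433), (10902, 11434), (10903, 11435), (10904, 11316), (10905, 11317), (10906, 11318), (10907, 10907), (10908, 10908), (10909, 10909), (10910, 10309), (10911, 11512), (10912, 10312), (10913, 10313), (10914, 11513), (10915, 11514), (10916, 11515),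 (10917, 10917), (10918, 10430), (10919, 10569), (10920, 10646), (10921, 10579), (10922, 10729), (10923, 10341), (10924, 10447), (10925, 10448), (10926, 10456), (10927, 11343), (10928, 11344), (10929, 11438), (10930, 11439), (10931, 10796), (10932, 10442), (10933, 11520), (10934, 11530), (10935, 10798), (10936, 10940), (10937, 11055), (10938, 11056), (10939, 10661), (10940, 10936), (10941, 10614), (10942, 11188), (10943, 11189)]
    ⟨e3 q10880 (flp_i L188227) q11374, e3 q10881 (flp_i L188643) q11414, e3 q10882 L183996 q10433, e3 q10883 (flp_i L188657) q11415, e3 q10884 (flp_i L188669) q11416, e3 q10885 (flp_i L188677) q11417, e3 q10886 (flp_i L185885) q11099, e3 q10887 (flp_i L185879) q11098, e3 q10888 L184030 q10286, e3 q10889 (flp_i L189332) q11489, e3 q10890 (flp_i L189338) q11490, e3 q10891 L184046 q10288, e3 q10892 L184052 q10289, e3 q10893 (flp_i L189368) q11494, e3 q10894 (flp_i L189374) q11495, e3 q10895 (flp_i L189378) q11496, e3 q10896 (flp_i L188756) q11428, e3 q10897 (flp_i L188768)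 q11429, e3 q10898 (flp_i L188778) q11430, e3 q10899 (flp_i L188784) q11431, e3 q10900 (flp_i L188798) q11432, e3 q10901 (flp_i L188808) q11433, e3 q10902 (flp_i L188818) q11434, e3 q10903 (flp_i L188824) q11435, e3 q10904 (flp_i L187588) q11316, e3 q10905 (flp_i L187598) q11317, e3 q10906 (flp_i L187611) q11318, e3 q10907 L184152 q10907, e3 q10908 L184164 q10908, e3 q10909 L184174 q10909, e3 q10910 L184182 q10309, e3 q10911 (flp_i L189493) q11512, e3 q10912 L184198 q10312, e3 q10913 L184210 q10313, e3 q10914 (flp_i L189504) q11513, e3 q10915 (flp_i L189514) q11514, e3 q10916 (flp_i L189522) q11515, e3 q10917 L184235 q10917, e3 q10918 L184247 q10430, e3 q10919 L184264 q10569, e3 q10920 L184279 q10646, e3 q10921 L184292 q10579, e3 q10922 L184305 q10729, e3 q10923 L184317 q10341, e3 q10924 L184329 q10447, e3 q10925 L184343 q10448, e3 q10926 L184357 q10456, e3 q10927 (flp_i L187901) q11343, e3 q10928 (flp_i L187915) q11344, e3 q10929 (flp_i L188857) q11438, e3 q10930 (flp_i L188867) q11439,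 e3 q10931 L184405 q10796, e3 q10932 L184417 q10442, e3 q10933 (flp_i L189577) q11520, e3 q10934 L189685 q11530, e3 q10935 L184447 q10798, e3 q10936 (flp_i L184506) q10940, e3 q10937 (flp_i L185517) q11055, e3 q10938 (flp_i L185529) q11056, e3 q10939 L184496 q10661, e3 q10940 L184506 q10936, e3 q10941 L184521 q10614, e3 q10942 (flp_i L186613) q11188, e3 q10943 (flp_i L186619) q11189, trivial⟩ (by decide +kernel)

theorem ce_i_171 : ∀ r, r < 64 → sm gi (Qf (10944 + r)) = Qf (tab Gen.i (10944 + r)) :=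
  edges_tab (sm gi) Qf (tab Gen.i) 10944 [(10944, 11190), (10945, 10355), (10946, 11544), (10947, 11192), (10948, 11193), (10949, 11194), (10950, 11195), (10951, 11196), (10952, 11197), (10953, 11198), (10954, 10379), (10955, 10383), (10956, 10384), (10957, 10390), (10958, 10394), (10959, 10395), (10960, 11392), (10961, 10403), (10962, 10404), (10963, 10405), (10964, 10772), (10965, 10371), (10966, 11566), (10967, 10373), (10968, 11568), (10969, 10415), (10970, 10417), (10971, 10418), (10972, 11034), (10973, 10703), (10974, 11342), (10975, 11555), (10976, 11389), (10977, 10539), (10978, 10556), (10979, 11556), (10980, 11557), (10981, 11386), (10982, 10387), (10983, 11585), (10984, 10554), (10985, 10557), (10986, 11558), (10987, 10392), (10988, 11589), (10989, 10699), (10990, 11454), (10991, 11559), (10992, 11560), (10993, 10743), (10994, 10398), (10995, 11597), (10996, 10400), (10997, 11600), (10998, 11601), (10999, 10696), (11000, 11371), (11001, 10700), (11002, 11562), (11003, 11484),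 (11004, 11563), (11005, 11564), (11006, 11007), (11007, 11006)]
    ⟨e3 q10944 (flp_i L186628) q11190, e3 q10945 L184552 q10355, e3 q10946 (flp_i L189825) q11544, e3 q10947 (flp_i L186646) q11192, e3 q10948 (flp_i L186654) q11193, e3 q10949 (flp_i L186662) q11194, e3 q10950 (flp_i L186672) q11195, e3 q10951 (flp_i L186681) q11196, e3 q10952 (flp_i L186689) q11197, e3 q10953 (flp_i L186696) q11198, e3 q10954 L184620 q10379, e3 q10955 L184628 q10383, e3 q10956 L184642 q10384, e3 q10957 L184654 q10390, e3 q10958 L184662 q10394, e3 q10959 L184674 q10395, e3 q10960 (flp_i L188416) q11392, e3 q10961 L184694 q10403, e3 q10962 L184702 q10404, e3 q10963 L184708 q10405, e3 q10964 L184722 q10772, e3 q10965 L184738 q10371, e3 q10966 (flp_i L190021) q11566, e3 q10967 L184756 q10373, e3 q10968 (flp_i L190045) q11568, e3 q10969 L184778 q10415, e3 q10970 L184788 q10417, e3 q10971 L184794 q10418, e3 q10972 (flp_i L185349) q11034, e3 q10973 L184806 q10703, e3 q10974 (flp_i L187889) q11342, e3 q10975 (flp_i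 L189913) q11555, e3 q10976 (flp_i L188395) q11389, e3 q10977 L184840 q10539, e3 q10978 L184854 q10556, e3 q10979 (flp_i L189927) q11556, e3 q10980 (flp_i L189937) q11557, e3 q10981 (flp_i L188361) q11386, e3 q10982 L184888 q10387, e3 q10983 (flp_i L190201) q11585, e3 q10984 L184910 q10554, e3 q10985 L184920 q10557, e3 q10986 (flp_i L189947) q11558, e3 q10987 L184941 q10392, e3 q10988 (flp_i L190243) q11589, e3 q10989 L184959 q10699, e3 q10990 (flp_i L189032) q11454, e3 q10991 (flp_i L189959) q11559, e3 q10992 (flp_i L189967) q11560, e3 q10993 L185002 q10743, e3 q10994 L185017 q10398, e3 q10995 (flp_i L190324) q11597, e3 q10996 L185031 q10400, e3 q10997 (flp_i L190347) q11600, e3 q10998 (flp_i L190356) q11601, e3 q10999 L185050 q10696, e3 q11000 (flp_i L188195) q11371, e3 q11001 L185066 q10700, e3 q11002 (flp_i L189987) q11562, e3 q11003 (flp_i L189302) q11484, e3 q11004 (flp_i L189993) q11563, e3 q11005 (flp_i L189999) q11564, e3 q11006 (flp_i L185096) q11007, e3 q11007 L185096 q11006, trivial⟩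 (by decide +kernel)

theorem ce_i_172 : ∀ r, r < 64 → sm gi (Qf (11008 + r)) = Qf (tab Gen.i (11008 + r)) :=
  edges_tab (sm gi) Qf (tab Gen.i) 11008 [(11008, 10409), (11009, 11384), (11010, 11613), (11011, 10411), (11012, 10412), (11013, 11616), (11014, 11617), (11015, 11358), (11016, 10517), (11017, 11570), (11018, 10518), (11019, 11571), (11020, 10647), (11021, 10426), (11022, 11625), (11023, 11444), (11024, 11627), (11025, 11628), (11026, 10435), (11027, 10801), (11028, 10806), (11029, 10807), (11030, 10808), (11031, 10449), (11032, 10457), (11033, 11529), (11034, 10972), (11035, 10445), (11036, 11636), (11037, 11637), (11038, 11296), (11039, 11346), (11040, 11521), (11041, 11522), (11042, 11633), (11043, 11352), (11044, 10452), (11045, 11645), (11046, 10454), (11047, 11647), (11048, 11441), (11049, 11523), (11050, 11061), (11051, 11062), (11052, 11063), (11053, 11164), (11054, 11057), (11055, 10937), (11056, 10938), (11057, 11054), (11058, 10468), (11059, 11659), (11060, 10565), (11061,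 11050), (11062, 11051), (11063, 11052), (11064, 10852), (11065, 10474), (11066, 11668), (11067, 10476), (11068, 11671), (11069, 11672), (11070, 11247), (11071, 11248)]
    ⟨e3 q11008 L185108 q10409, e3 q11009 (flp_i L188337) q11384, e3 q11010 (flp_i L190434) q11613, e3 q11011 L185136 q10411, e3 q11012 L185146 q10412, e3 q11013 (flp_i L190470) q11616, e3 q11014 (flp_i L190476) q11617, e3 q11015 (flp_i L188071) q11358, e3 q11016 L185180 q10517, e3 q11017 (flp_i L190061) q11570, e3 q11018 L185198 q10518, e3 q11019 (flp_i L190073) q11571, e3 q11020 L185213 q10647, e3 q11021 L185230 q10426, e3 q11022 (flp_i L190552) q11625, e3 q11023 (flp_i L188926) q11444, e3 q11024 L190566 q11627, e3 q11025 L190570 q11628, e3 q11026 (flp_i L185273) q10435, e3 q11027 L185283 q10801, e3 q11028 L185293 q10806, e3 q11029 L185305 q10807, e3 q11030 L185315 q10808, e3 q11031 L185323 q10449, e3 q11032 L185333 q10457, e3 q11033 (flp_i L189681) q11529, e3 q11034 L185349 q10972, e3 q11035 L185363 q10445, e3 q11036 (flp_i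 L190663) q11636, e3 q11037 (flp_i L190678) q11637, e3 q11038 L187370 q11296, e3 q11039 (flp_i L187937) q11346, e3 q11040 (flp_i L189593) q11521, e3 q11041 (flp_i L189605) q11522, e3 q11042 (flp_i L190634) q11633, e3 q11043 (flp_i L187997) q11352, e3 q11044 L185428 q10452, e3 q11045 (flp_i L190738) q11645, e3 q11046 L185446 q10454, e3 q11047 (flp_i L190754) q11647, e3 q11048 (flp_i L188891) q11441, e3 q11049 (flp_i L189617) q11523, e3 q11050 (flp_i L185577) q11061, e3 q11051 (flp_i L185587) q11062, e3 q11052 (flp_i L185597) q11063, e3 q11053 (flp_i L186369) q11164, e3 q11054 (flp_i L185540) q11057, e3 q11055 L185517 q10937, e3 q11056 L185529 q10938, e3 q11057 L185540 q11054, e3 q11058 L185555 q10468, e3 q11059 (flp_i L190866) q11659, e3 q11060 L185571 q10565, e3 q11061 L185577 q11050, e3 q11062 L185587 q11051, e3 q11063 L185597 q11052, e3 q11064 L185611 q10852, e3 q11065 L185627 q10474, e3 q11066 (flp_i L190953) q11668, e3 q11067 L185639 q10476, e3 q11068 (flp_i L190975) q11671, e3 q11069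 (flp_i L190981) q11672, e3 q11070 (flp_i L187050) q11247, e3 q11071 (flp_i L187058) q11248, trivial⟩ (by decide +kernel)

theorem ce_i_173 : ∀ r, r < 64 → sm gi (Qf (11072 + r)) = Qf (tab Gen.i (11072 + r)) :=
  edges_tab (sm gi) Qf (tab Gen.i) 11072 [(11072, 11249), (11073, 11250), (11074, 11251), (11075, 11252), (11076, 11253), (11077, 11254), (11078, 11255), (11079, 11256), (11080, 11257), (11081, 10519), (11082, 10488), (11083, 11687), (11084, 10526), (11085, 10527), (11086, 10528), (11087, 10873), (11088, 10493), (11089, 11695), (11090, 10495), (11091, 11698), (11092, 11699), (11093, 10537), (11094, 10538), (11095, 10540), (11096, 10541), (11097, 10542), (11098, 10887), (11099, 10886), (11100, 10503), (11101, 11709), (11102, 10505), (11103, 11711), (11104, 10553), (11105, 10555), (11106, 10558), (11107, 10685), (11108, 10684), (11109, 10513), (11110, 11718), (11111, 10515), (11112, 11720), (11113, 11353), (11114, 11622), (11115, 11624), (11116, 10820), (11117, 10522), (11118, 11725),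 (11119, 10524), (11120, 11728), (11121, 11729), (11122, 11480), (11123, 11481), (11124, 11690), (11125, 11691), (11126, 11692), (11127, 11693), (11128, 11129), (11129, 11128), (11130, 10532), (11131, 11395), (11132, 11741), (11133, 10534), (11134, 10535), (11135, 11393)]
    ⟨e3 q11072 (flp_i L187066) q11249, e3 q11073 (flp_i L187074) q11250, e3 q11074 (flp_i L187080) q11251, e3 q11075 (flp_i L187086) q11252, e3 q11076 (flp_i L187092) q11253, e3 q11077 (flp_i L187101) q11254, e3 q11078 (flp_i L187108) q11255, e3 q11079 (flp_i L187123) q11256, e3 q11080 (flp_i L187130) q11257, e3 q11081 L185725 q10519, e3 q11082 L185740 q10488, e3 q11083 (flp_i L191079) q11687, e3 q11084 L185756 q10526, e3 q11085 L185766 q10527, e3 q11086 L185774 q10528, e3 q11087 L185787 q10873, e3 q11088 L185802 q10493, e3 q11089 (flp_i L191160) q11695, e3 q11090 L185818 q10495, e3 q11091 (flp_i L191183) q11698, e3 q11092 (flp_i L191194) q11699, e3 q11093 L185841 q10537, e3 q11094 L185849 q10538, e3 q11095 L185857 q10540,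 e3 q11096 L185865 q10541, e3 q11097 L185871 q10542, e3 q11098 L185879 q10887, e3 q11099 L185885 q10886, e3 q11100 L185895 q10503, e3 q11101 (flp_i L191272) q11709, e3 q11102 L185907 q10505, e3 q11103 (flp_i L191286) q11711, e3 q11104 L185917 q10553, e3 q11105 L185921 q10555, e3 q11106 L185929 q10558, e3 q11107 L185937 q10685, e3 q11108 L185947 q10684, e3 q11109 L185959 q10513, e3 q11110 (flp_i L191338) q11718, e3 q11111 L185973 q10515, e3 q11112 (flp_i L191354) q11720, e3 q11113 (flp_i L188013) q11353, e3 q11114 (flp_i L190518) q11622, e3 q11115 (flp_i L190538) q11624, e3 q11116 L186013 q10820, e3 q11117 L186029 q10522, e3 q11118 (flp_i L191398) q11725, e3 q11119 L186045 q10524, e3 q11120 (flp_i L191424) q11728, e3 q11121 (flp_i L191434) q11729, e3 q11122 (flp_i L189266) q11480, e3 q11123 (flp_i L189280) q11481, e3 q11124 (flp_i L191108) q11690, e3 q11125 (flp_i L191122) q11691, e3 q11126 (flp_i L191130) q11692, e3 q11127 (flp_i L191136) q11693, e3 q11128 (flp_i L186121) q11129, e3 q11129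 L186121 q11128, e3 q11130 L186133 q10532, e3 q11131 (flp_i L188448) q11395, e3 q11132 (flp_i L191534) q11741, e3 q11133 L186155 q10534, e3 q11134 L186165 q10535, e3 q11135 (flp_i L188428) q11393, trivial⟩ (by decide +kernel)

theorem ce_i_174 : ∀ r, r < 64 → sm gi (Qf (11136 + r)) = Qf (tab Gen.i (11136 + r)) :=
  edges_tab (sm gi) Qf (tab Gen.i) 11136 [(11136, 11744), (11137, 11745), (11138, 11466), (11139, 11702), (11140, 11703), (11141, 11579), (11142, 11704), (11143, 11705), (11144, 10767), (11145, 11146), (11146, 11145), (11147, 10547), (11148, 11387), (11149, 11758), (11150, 10551), (11151, 10552), (11152, 11394), (11153, 11662), (11154, 11761), (11155, 11762), (11156, 11713), (11157, 11587), (11158, 11714), (11159, 11580), (11160, 11588), (11161, 10705), (11162, 10570), (11163, 11165), (11164, 11053), (11165, 11163), (11166, 11305), (11167, 11168), (11168, 11167), (11169, 11400), (11170, 10581), (11171, 11771), (11172, 10787), (11173, 10591), (11174, 11399), (11175, 11772), (11176,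 11176), (11177, 11177), (11178, 11178), (11179, 11179), (11180, 10601), (11181, 11776), (11182, 10603), (11183, 11778), (11184, 11184), (11185, 11185), (11186, 11186), (11187, 10793), (11188, 10942), (11189, 10943), (11190, 10944), (11191, 11539), (11192, 10947), (11193, 10948), (11194, 10949), (11195, 10950), (11196, 10951), (11197, 10952), (11198, 10953), (11199, 10632)]
    ⟨e3 q11136 (flp_i L191562) q11744, e3 q11137 (flp_i L191570) q11745, e3 q11138 (flp_i L189155) q11466, e3 q11139 (flp_i L191214) q11702, e3 q11140 (flp_i L191220) q11703, e3 q11141 (flp_i L190147) q11579, e3 q11142 (flp_i L191228) q11704, e3 q11143 (flp_i L191236) q11705, e3 q11144 L186239 q10767, e3 q11145 (flp_i L186255) q11146, e3 q11146 L186255 q11145, e3 q11147 L186261 q10547, e3 q11148 (flp_i L188373) q11387, e3 q11149 (flp_i L191668) q11758, e3 q11150 L186285 q10551, e3 q11151 L186289 q10552, e3 q11152 (flp_i L188438) q11394, e3 q11153 (flp_i L190891) q11662, e3 q11154 (flp_i L191694) q11761, e3 q11155 (flp_i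 L191698) q11762, e3 q11156 (flp_i L191294) q11713, e3 q11157 (flp_i L190217) q11587, e3 q11158 (flp_i L191300) q11714, e3 q11159 (flp_i L190157) q11580, e3 q11160 (flp_i L190229) q11588, e3 q11161 L186336 q10705, e3 q11162 L186347 q10570, e3 q11163 (flp_i L186380) q11165, e3 q11164 L186369 q11053, e3 q11165 L186380 q11163, e3 q11166 (flp_i L187465) q11305, e3 q11167 (flp_i L186415) q11168, e3 q11168 L186415 q11167, e3 q11169 (flp_i L188492) q11400, e3 q11170 L186438 q10581, e3 q11171 (flp_i L191763) q11771, e3 q11172 L186456 q10787, e3 q11173 L186467 q10591, e3 q11174 (flp_i L188479) q11399, e3 q11175 (flp_i L191772) q11772, e3 q11176 L186497 q11176, e3 q11177 L186505 q11177, e3 q11178 L186517 q11178, e3 q11179 L186530 q11179, e3 q11180 L186542 q10601, e3 q11181 (flp_i L191821) q11776, e3 q11182 L186562 q10603, e3 q11183 (flp_i L191837) q11778, e3 q11184 L186579 q11184, e3 q11185 L186589 q11185, e3 q11186 L186599 q11186, e3 q11187 L186607 q10793, e3 q11188 L186613 q10942, e3 q11189 L186619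 q10943, e3 q11190 L186628 q10944, e3 q11191 (flp_i L189792) q11539, e3 q11192 L186646 q10947, e3 q11193 L186654 q10948, e3 q11194 L186662 q10949, e3 q11195 L186672 q10950, e3 q11196 L186681 q10951, e3 q11197 L186689 q10952, e3 q11198 L186696 q10953, e3 q11199 L186703 q10632, trivial⟩ (by decide +kernel)

theorem ce_i_175 : ∀ r, r < 64 → sm gi (Qf (11200 + r)) = Qf (tab Gen.i (11200 + r)) :=
  edges_tab (sm gi) Qf (tab Gen.i) 11200 [(11200, 10633), (11201, 10623), (11202, 11798), (11203, 11799), (11204, 10642), (11205, 10643), (11206, 10644), (11207, 10645), (11208, 10629), (11209, 11806), (11210, 11807), (11211, 11455), (11212, 11456), (11213, 11457), (11214, 11795), (11215, 11796), (11216, 11797), (11217, 11328), (11218, 10636), (11219, 11819), (11220, 11820), (11221, 10638), (11222, 10639), (11223, 11823), (11224, 11824), (11225, 11825), (11226, 11445), (11227, 11446), (11228, 11518), (11229, 11803), (11230, 11804), (11231, 11805), (11232, 10649), (11233, 10652), (11234, 10653), (11235,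 11836), (11236, 11837), (11237, 11838), (11238, 11238), (11239, 10659), (11240, 11458), (11241, 11843), (11242, 10660), (11243, 11536), (11244, 10663), (11245, 11846), (11246, 11847), (11247, 11070), (11248, 11071), (11249, 11072), (11250, 11073), (11251, 11074), (11252, 11075), (11253, 11076), (11254, 11077), (11255, 11078), (11256, 11079), (11257, 11080), (11258, 11307), (11259, 10675), (11260, 11864), (11261, 11865), (11262, 10677), (11263, 10678)]
    ⟨e3 q11200 L186709 q10633, e3 q11201 L186715 q10623, e3 q11202 (flp_i L191998) q11798, e3 q11203 (flp_i L192007) q11799, e3 q11204 L186736 q10642, e3 q11205 L186744 q10643, e3 q11206 L186752 q10644, e3 q11207 L186758 q10645, e3 q11208 L186764 q10629, e3 q11209 (flp_i L192052) q11806, e3 q11210 (flp_i L192059) q11807, e3 q11211 (flp_i L189044) q11455, e3 q11212 (flp_i L189058) q11456, e3 q11213 (flp_i L189068) q11457, e3 q11214 (flp_i L191976) q11795, e3 q11215 (flp_i L191984) q11796, e3 q11216 (flp_i L191990) q11797, e3 q11217 (flp_i L187738)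 q11328, e3 q11218 L186827 q10636, e3 q11219 (flp_i L192138) q11819, e3 q11220 (flp_i L192146) q11820, e3 q11221 L186849 q10638, e3 q11222 L186857 q10639, e3 q11223 (flp_i L192170) q11823, e3 q11224 (flp_i L192178) q11824, e3 q11225 (flp_i L192186) q11825, e3 q11226 (flp_i L188940) q11445, e3 q11227 (flp_i L188952) q11446, e3 q11228 (flp_i L189549) q11518, e3 q11229 (flp_i L192032) q11803, e3 q11230 (flp_i L192040) q11804, e3 q11231 (flp_i L192048) q11805, e3 q11232 L186928 q10649, e3 q11233 L186933 q10652, e3 q11234 L186945 q10653, e3 q11235 (flp_i L192268) q11836, e3 q11236 (flp_i L192280) q11837, e3 q11237 (flp_i L192292) q11838, e3 q11238 L186990 q11238, e3 q11239 L186997 q10659, e3 q11240 (flp_i L189082) q11458, e3 q11241 L192327 q11843, e3 q11242 (flp_i L187007) q10660, e3 q11243 (flp_i L189759) q11536, e3 q11244 L187029 q10663, e3 q11245 (flp_i L192360) q11846, e3 q11246 (flp_i L192367) q11847, e3 q11247 L187050 q11070, e3 q11248 L187058 q11071, e3 q11249 L187066 q11072, e3 q11250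 L187074 q11073, e3 q11251 L187080 q11074, e3 q11252 L187086 q11075, e3 q11253 L187092 q11076, e3 q11254 L187101 q11077, e3 q11255 L187108 q11078, e3 q11256 L187123 q11079, e3 q11257 L187130 q11080, e3 q11258 (flp_i L187490) q11307, e3 q11259 L187148 q10675, e3 q11260 (flp_i L192518) q11864, e3 q11261 (flp_i L192525) q11865, e3 q11262 L187167 q10677, e3 q11263 L187174 q10678, trivial⟩ (by decide +kernel)

theorem ce_i_176 : ∀ r, r < 64 → sm gi (Qf (11264 + r)) = Qf (tab Gen.i (11264 + r)) :=
  edges_tab (sm gi) Qf (tab Gen.i) 11264 [(11264, 11868), (11265, 11869), (11266, 10697), (11267, 10698), (11268, 10701), (11269, 10702), (11270, 11356), (11271, 11717), (11272, 11715), (11273, 11716), (11274, 10687), (11275, 10688), (11276, 11880), (11277, 11881), (11278, 11882), (11279, 10691), (11280, 10692), (11281, 10693), (11282, 11887), (11283, 11888), (11284, 11889), (11285, 11890), (11286, 11891), (11287, 11467), (11288, 11468), (11289, 11604), (11290, 11574), (11291, 11873), (11292, 11874),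 (11293, 11592), (11294, 11606), (11295, 11875), (11296, 11038), (11297, 10708), (11298, 10709), (11299, 11905), (11300, 10712), (11301, 10713), (11302, 10714), (11303, 11906), (11304, 11907), (11305, 11166), (11306, 10722), (11307, 11258), (11308, 10848), (11309, 11436), (11310, 11437), (11311, 10814), (11312, 10853), (11313, 10854), (11314, 10855), (11315, 11519), (11316, 10904), (11317, 10905), (11318, 10906), (11319, 10754), (11320, 10757), (11321, 10758), (11322, 10803), (11323, 10759), (11324, 10760), (11325, 10761), (11326, 10764), (11327, 10765)]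
    ⟨e3 q11264 (flp_i L192545) q11868, e3 q11265 (flp_i L192551) q11869, e3 q11266 L187190 q10697, e3 q11267 L187194 q10698, e3 q11268 L187202 q10701, e3 q11269 L187208 q10702, e3 q11270 (flp_i L188045) q11356, e3 q11271 (flp_i L191328) q11717, e3 q11272 (flp_i L191306) q11715, e3 q11273 (flp_i L191316) q11716, e3 q11274 L187242 q10687, e3 q11275 L187248 q10688, e3 q11276 (flp_i L192620) q11880, e3 q11277 (flp_i L192630) q11881, e3 q11278 (flp_i L192634) q11882, e3 q11279 L187274 q10691, e3 q11280 L187280 q10692, e3 q11281 L187286 q10693, e3 q11282 (flp_i L192682) q11887, e3 q11283 (flp_i L192688) q11888, e3 q11284 (flp_i L192692) q11889, e3 q11285 (flp_i L192702) q11890, e3 q11286 (flp_i L192708) q11891, e3 q11287 (flp_i L189167) q11467, e3 q11288 (flp_i L189175) q11468, e3 q11289 (flp_i L190378) q11604, e3 q11290 (flp_i L190098) q11574, e3 q11291 (flp_i L192570) q11873, e3 q11292 (flp_i L192578) q11874, e3 q11293 (flp_i L190274) q11592, e3 q11294 (flp_i L190392) q11606, e3 q11295 (flp_i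 L192584) q11875, e3 q11296 (flp_i L187370) q11038, e3 q11297 L187377 q10708, e3 q11298 L187396 q10709, e3 q11299 (flp_i L192798) q11905, e3 q11300 L187421 q10712, e3 q11301 L187430 q10713, e3 q11302 L187438 q10714, e3 q11303 (flp_i L192809) q11906, e3 q11304 (flp_i L192819) q11907, e3 q11305 L187465 q11166, e3 q11306 L187474 q10722, e3 q11307 L187490 q11258, e3 q11308 L187504 q10848, e3 q11309 (flp_i L188834) q11436, e3 q11310 (flp_i L188847) q11437, e3 q11311 L187533 q10814, e3 q11312 L187545 q10853, e3 q11313 L187555 q10854, e3 q11314 L187565 q10855, e3 q11315 (flp_i L189563) q11519, e3 q11316 L187588 q10904, e3 q11317 L187598 q10905, e3 q11318 L187611 q10906, e3 q11319 L187624 q10754, e3 q11320 L187636 q10757, e3 q11321 L187650 q10758, e3 q11322 L187664 q10803, e3 q11323 L187676 q10759, e3 q11324 L187690 q10760, e3 q11325 L187700 q10761, e3 q11326 L187710 q10764, e3 q11327 L187724 q10765, trivial⟩ (by decide +kernel)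

theorem ce_i_177 : ∀ r, r < 64 → sm gi (Qf (11328 + r)) = Qf (tab Gen.i (11328 + r)) :=
  edges_tab (sm gi) Qf (tab Gen.i) 11328 [(11328, 11217), (11329, 10769), (11330, 10770), (11331, 10771), (11332, 11596), (11333, 10745), (11334, 11944), (11335, 11945), (11336, 10779), (11337, 10780), (11338, 10781), (11339, 10782), (11340, 10783), (11341, 10784), (11342, 10974), (11343, 10927), (11344, 10928), (11345, 11927), (11346, 11039), (11347, 11928), (11348, 11929), (11349, 11932), (11350, 11933), (11351, 11934), (11352, 11043), (11353, 11113), (11354, 11935), (11355, 11936), (11356, 11270), (11357, 11755), (11358, 11015), (11359, 11938), (11360, 11939), (11361, 11940), (11362, 11941), (11363, 11565), (11364, 10774), (11365, 11975), (11366, 10776), (11367, 10777), (11368, 11738), (11369, 11977), (11370, 11978), (11371, 11000), (11372, 11949), (11373, 11950), (11374, 10880), (11375, 11951), (11376, 11952), (11377, 11953), (11378, 11770), (11379, 10792), (11380, 11706), (11381, 11382), (11382,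 11381), (11383, 11528), (11384, 11009), (11385, 11531), (11386, 10981), (11387, 11148), (11388, 11629), (11389, 10976), (11390, 11930), (11391, 11931)]
    ⟨e3 q11328 L187738 q11217, e3 q11329 L187754 q10769, e3 q11330 L187764 q10770, e3 q11331 L187770 q10771, e3 q11332 (flp_i L190310) q11596, e3 q11333 L187794 q10745, e3 q11334 (flp_i L193260) q11944, e3 q11335 (flp_i L193273) q11945, e3 q11336 L187819 q10779, e3 q11337 L187833 q10780, e3 q11338 L187845 q10781, e3 q11339 L187857 q10782, e3 q11340 L187867 q10783, e3 q11341 L187877 q10784, e3 q11342 L187889 q10974, e3 q11343 L187901 q10927, e3 q11344 L187915 q10928, e3 q11345 (flp_i L193046) q11927, e3 q11346 L187937 q11039, e3 q11347 (flp_i L193060) q11928, e3 q11348 (flp_i L193072) q11929, e3 q11349 (flp_i L193115) q11932, e3 q11350 (flp_i L193127) q11933, e3 q11351 (flp_i L193137) q11934, e3 q11352 L187997 q11043, e3 q11353 L188013 q11113, e3 q11354 (flp_i L193151) q11935, e3 q11355 (flp_i L193163) q11936, e3 q11356 L188045 q11270, e3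 q11357 (flp_i L191650) q11755, e3 q11358 L188071 q11015, e3 q11359 (flp_i L193193) q11938, e3 q11360 (flp_i L193205) q11939, e3 q11361 (flp_i L193217) q11940, e3 q11362 (flp_i L193227) q11941, e3 q11363 (flp_i L190009) q11565, e3 q11364 L188131 q10774, e3 q11365 (flp_i L193614) q11975, e3 q11366 L188145 q10776, e3 q11367 L188155 q10777, e3 q11368 (flp_i L191506) q11738, e3 q11369 (flp_i L193634) q11977, e3 q11370 (flp_i L193644) q11978, e3 q11371 L188195 q11000, e3 q11372 (flp_i L193314) q11949, e3 q11373 (flp_i L193326) q11950, e3 q11374 L188227 q10880, e3 q11375 (flp_i L193340) q11951, e3 q11376 (flp_i L193352) q11952, e3 q11377 (flp_i L193360) q11953, e3 q11378 (flp_i L191754) q11770, e3 q11379 L188277 q10792, e3 q11380 (flp_i L191244) q11706, e3 q11381 (flp_i L188319) q11382, e3 q11382 L188319 q11381, e3 q11383 (flp_i L189671) q11528, e3 q11384 L188337 q11009, e3 q11385 (flp_i L189706) q11531, e3 q11386 L188361 q10981, e3 q11387 L188373 q11148, e3 q11388 (flp_i L190590) q11629, e3 q11389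 L188395 q10976, e3 q11390 (flp_i L193086) q11930, e3 q11391 (flp_i L193101) q11931, trivial⟩ (by decide +kernel)

theorem ce_i_178 : ∀ r, r < 64 → sm gi (Qf (11392 + r)) = Qf (tab Gen.i (11392 + r)) :=
  edges_tab (sm gi) Qf (tab Gen.i) 11392 [(11392, 10960), (11393, 11135), (11394, 11152), (11395, 11131), (11396, 11630), (11397, 11631), (11398, 11632), (11399, 11174), (11400, 11169), (11401, 10846), (11402, 10851), (11403, 11916), (11404, 11917), (11405, 10859), (11406, 10860), (11407, 10861), (11408, 10862), (11409, 10871), (11410, 11724), (11411, 10822), (11412, 12021), (11413, 12022), (11414, 10881), (11415, 10883), (11416, 10884), (11417, 10885), (11418, 11419), (11419, 11418), (11420, 10830), (11421, 12031), (11422, 12032), (11423, 10832), (11424, 10833), (11425, 12036), (11426, 12037), (11427, 12038), (11428, 10896), (11429, 10897), (11430, 10898), (11431, 10899), (11432, 10900), (11433, 10901), (11434, 10902), (11435, 10903), (11436, 11309), (11437, 11310), (11438, 10929), (11439,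 10930), (11440, 12011), (11441, 11048), (11442, 11912), (11443, 11913), (11444, 11023), (11445, 11226), (11446, 11227), (11447, 12012), (11448, 11667), (11449, 11918), (11450, 11919), (11451, 11920), (11452, 11921), (11453, 11922), (11454, 10990), (11455, 11211)]
    ⟨e3 q11392 L188416 q10960, e3 q11393 L188428 q11135, e3 q11394 L188438 q11152, e3 q11395 L188448 q11131, e3 q11396 (flp_i L190604) q11630, e3 q11397 (flp_i L190616) q11631, e3 q11398 (flp_i L190626) q11632, e3 q11399 L188479 q11174, e3 q11400 L188492 q11169, e3 q11401 L188502 q10846, e3 q11402 L188516 q10851, e3 q11403 (flp_i L192916) q11916, e3 q11404 (flp_i L192929) q11917, e3 q11405 L188545 q10859, e3 q11406 L188557 q10860, e3 q11407 L188567 q10861, e3 q11408 L188575 q10862, e3 q11409 L188585 q10871, e3 q11410 (flp_i L191384) q11724, e3 q11411 L188609 q10822, e3 q11412 (flp_i L194106) q12021, e3 q11413 (flp_i L194122) q12022, e3 q11414 L188643 q10881, e3 q11415 L188657 q10883, e3 q11416 L188669 q10884, e3 q11417 L188677 q10885,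 e3 q11418 (flp_i L188693) q11419, e3 q11419 L188693 q11418, e3 q11420 L188703 q10830, e3 q11421 (flp_i L194217) q12031, e3 q11422 (flp_i L194226) q12032, e3 q11423 L188722 q10832, e3 q11424 L188729 q10833, e3 q11425 (flp_i L194260) q12036, e3 q11426 (flp_i L194270) q12037, e3 q11427 (flp_i L194276) q12038, e3 q11428 L188756 q10896, e3 q11429 L188768 q10897, e3 q11430 L188778 q10898, e3 q11431 L188784 q10899, e3 q11432 L188798 q10900, e3 q11433 L188808 q10901, e3 q11434 L188818 q10902, e3 q11435 L188824 q10903, e3 q11436 L188834 q11309, e3 q11437 L188847 q11310, e3 q11438 L188857 q10929, e3 q11439 L188867 q10930, e3 q11440 (flp_i L193991) q12011, e3 q11441 L188891 q11048, e3 q11442 (flp_i L192873) q11912, e3 q11443 (flp_i L192886) q11913, e3 q11444 L188926 q11023, e3 q11445 L188940 q11226, e3 q11446 L188952 q11227, e3 q11447 (flp_i L194007) q12012, e3 q11448 (flp_i L190939) q11667, e3 q11449 (flp_i L192943) q11918, e3 q11450 (flp_i L192955) q11919, e3 q11451 (flp_i L192965) q11920, e3 q11452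 (flp_i L192975) q11921, e3 q11453 (flp_i L192985) q11922, e3 q11454 L189032 q10990, e3 q11455 L189044 q11211, trivial⟩ (by decide +kernel)

theorem ce_i_179 : ∀ r, r < 64 → sm gi (Qf (11456 + r)) = Qf (tab Gen.i (11456 + r)) :=
  edges_tab (sm gi) Qf (tab Gen.i) 11456 [(11456, 11212), (11457, 11213), (11458, 11240), (11459, 12016), (11460, 12017), (11461, 12018), (11462, 11470), (11463, 10867), (11464, 12078), (11465, 12079), (11466, 11138), (11467, 11287), (11468, 11288), (11469, 12019), (11470, 11462), (11471, 11694), (11472, 10875), (11473, 12089), (11474, 12090), (11475, 10877), (11476, 10878), (11477, 12093), (11478, 12094), (11479, 12095), (11480, 11122), (11481, 11123), (11482, 11986), (11483, 12025), (11484, 11003), (11485, 12026), (11486, 12027), (11487, 11708), (11488, 11707), (11489, 10889), (11490, 10890), (11491, 12109), (11492, 12110), (11493, 12111), (11494, 10893), (11495, 10894), (11496, 10895), (11497, 12115), (11498, 12116), (11499, 12117), (11500, 12118), (11501, 12119),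 (11502, 12044), (11503, 12045), (11504, 12046), (11505, 12047), (11506, 12048), (11507, 12049), (11508, 12050), (11509, 11924), (11510, 11925), (11511, 11926), (11512, 10911), (11513, 10914), (11514, 10915), (11515, 10916), (11516, 12131), (11517, 12132), (11518, 11228), (11519, 11315)]
    ⟨e3 q11456 L189058 q11212, e3 q11457 L189068 q11213, e3 q11458 L189082 q11240, e3 q11459 (flp_i L194050) q12016, e3 q11460 (flp_i L194060) q12017, e3 q11461 (flp_i L194072) q12018, e3 q11462 (flp_i L189189) q11470, e3 q11463 L189126 q10867, e3 q11464 (flp_i L194701) q12078, e3 q11465 (flp_i L194714) q12079, e3 q11466 L189155 q11138, e3 q11467 L189167 q11287, e3 q11468 L189175 q11288, e3 q11469 (flp_i L194084) q12019, e3 q11470 L189189 q11462, e3 q11471 (flp_i L191148) q11694, e3 q11472 L189213 q10875, e3 q11473 (flp_i L194816) q12089, e3 q11474 (flp_i L194825) q12090, e3 q11475 L189230 q10877, e3 q11476 L189237 q10878, e3 q11477 (flp_i L194848) q12093, e3 q11478 (flp_i L194856) q12094, e3 q11479 (flp_i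 L194862) q12095, e3 q11480 L189266 q11122, e3 q11481 L189280 q11123, e3 q11482 (flp_i L193726) q11986, e3 q11483 (flp_i L194156) q12025, e3 q11484 L189302 q11003, e3 q11485 (flp_i L194170) q12026, e3 q11486 (flp_i L194180) q12027, e3 q11487 (flp_i L191262) q11708, e3 q11488 (flp_i L191252) q11707, e3 q11489 L189332 q10889, e3 q11490 L189338 q10890, e3 q11491 (flp_i L194973) q12109, e3 q11492 (flp_i L194981) q12110, e3 q11493 (flp_i L194985) q12111, e3 q11494 L189368 q10893, e3 q11495 L189374 q10894, e3 q11496 L189378 q10895, e3 q11497 (flp_i L195019) q12115, e3 q11498 (flp_i L195025) q12116, e3 q11499 (flp_i L195033) q12117, e3 q11500 (flp_i L195043) q12118, e3 q11501 (flp_i L195047) q12119, e3 q11502 (flp_i L194322) q12044, e3 q11503 (flp_i L194336) q12045, e3 q11504 (flp_i L194344) q12046, e3 q11505 (flp_i L194354) q12047, e3 q11506 (flp_i L194366) q12048, e3 q11507 (flp_i L194378) q12049, e3 q11508 (flp_i L194386) q12050, e3 q11509 (flp_i L193004) q11924, e3 q11510 (flp_i L193018) q11925,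 e3 q11511 (flp_i L193032) q11926, e3 q11512 L189493 q10911, e3 q11513 L189504 q10914, e3 q11514 L189514 q10915, e3 q11515 L189522 q10916, e3 q11516 (flp_i L195133) q12131, e3 q11517 (flp_i L195141) q12132, e3 q11518 L189549 q11228, e3 q11519 L189563 q11315, trivial⟩ (by decide +kernel)

theorem ce_i_180 : ∀ r, r < 64 → sm gi (Qf (11520 + r)) = Qf (tab Gen.i (11520 + r)) :=
  edges_tab (sm gi) Qf (tab Gen.i) 11520 [(11520, 10933), (11521, 11040), (11522, 11041), (11523, 11049), (11524, 11955), (11525, 11956), (11526, 12053), (11527, 12054), (11528, 11383), (11529, 11033), (11530, 10934), (11531, 11385), (11532, 11537), (11533, 11538), (11534, 11656), (11535, 11657), (11536, 11243), (11537, 11532), (11538, 11533), (11539, 11191), (11540, 11780), (11541, 11781), (11542, 11782), (11543, 11783), (11544, 10946), (11545, 12161), (11546, 11786), (11547, 11787), (11548, 11788), (11549, 11789), (11550, 11790), (11551, 11791), (11552, 11792), (11553, 11793), (11554, 11794), (11555, 10975), (11556,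 10979), (11557, 10980), (11558, 10986), (11559, 10991), (11560, 10992), (11561, 12003), (11562, 11002), (11563, 11004), (11564, 11005), (11565, 11363), (11566, 10966), (11567, 12182), (11568, 10968), (11569, 12184), (11570, 11017), (11571, 11019), (11572, 11634), (11573, 11635), (11574, 11290), (11575, 11954), (11576, 12173), (11577, 11998), (11578, 11999), (11579, 11141), (11580, 11159), (11581, 12059), (11582, 12174), (11583, 12175)]
    ⟨e3 q11520 L189577 q10933, e3 q11521 L189593 q11040, e3 q11522 L189605 q11041, e3 q11523 L189617 q11049, e3 q11524 (flp_i L193386) q11955, e3 q11525 (flp_i L193398) q11956, e3 q11526 (flp_i L194418) q12053, e3 q11527 (flp_i L194430) q12054, e3 q11528 L189671 q11383, e3 q11529 L189681 q11033, e3 q11530 (flp_i L189685) q10934, e3 q11531 L189706 q11385, e3 q11532 (flp_i L189769) q11537, e3 q11533 (flp_i L189782) q11538, e3 q11534 (flp_i L190830) q11656, e3 q11535 (flp_i L190842) q11657, e3 q11536 L189759 q11243, e3 q11537 L189769 q11532, e3 q11538 L189782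 q11533, e3 q11539 L189792 q11191, e3 q11540 (flp_i L191851) q11780, e3 q11541 (flp_i L191858) q11781, e3 q11542 (flp_i L191868) q11782, e3 q11543 (flp_i L191876) q11783, e3 q11544 L189825 q10946, e3 q11545 (flp_i L195434) q12161, e3 q11546 (flp_i L191903) q11786, e3 q11547 (flp_i L191915) q11787, e3 q11548 (flp_i L191923) q11788, e3 q11549 (flp_i L191931) q11789, e3 q11550 (flp_i L191939) q11790, e3 q11551 (flp_i L191947) q11791, e3 q11552 (flp_i L191954) q11792, e3 q11553 (flp_i L191964) q11793, e3 q11554 (flp_i L191970) q11794, e3 q11555 L189913 q10975, e3 q11556 L189927 q10979, e3 q11557 L189937 q10980, e3 q11558 L189947 q10986, e3 q11559 L189959 q10991, e3 q11560 L189967 q10992, e3 q11561 (flp_i L193915) q12003, e3 q11562 L189987 q11002, e3 q11563 L189993 q11004, e3 q11564 L189999 q11005, e3 q11565 L190009 q11363, e3 q11566 L190021 q10966, e3 q11567 (flp_i L195626) q12182, e3 q11568 L190045 q10968, e3 q11569 (flp_i L195648) q12184, e3 q11570 L190061 q11017, e3 q11571 L190073 q11019,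 e3 q11572 (flp_i L190642) q11634, e3 q11573 (flp_i L190651) q11635, e3 q11574 L190098 q11290, e3 q11575 (flp_i L193372) q11954, e3 q11576 (flp_i L195536) q12173, e3 q11577 (flp_i L193865) q11998, e3 q11578 (flp_i L193880) q11999, e3 q11579 L190147 q11141, e3 q11580 L190157 q11159, e3 q11581 (flp_i L194495) q12059, e3 q11582 (flp_i L195546) q12174, e3 q11583 (flp_i L195556) q12175, trivial⟩ (by decide +kernel)

theorem ce_i_181 : ∀ r, r < 64 → sm gi (Qf (11584 + r)) = Qf (tab Gen.i (11584 + r)) :=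
  edges_tab (sm gi) Qf (tab Gen.i) 11584 [(11584, 11995), (11585, 10983), (11586, 12199), (11587, 11157), (11588, 11160), (11589, 10988), (11590, 12202), (11591, 12203), (11592, 11293), (11593, 12070), (11594, 12176), (11595, 12177), (11596, 11332), (11597, 10995), (11598, 12211), (11599, 12212), (11600, 10997), (11601, 10998), (11602, 12215), (11603, 12216), (11604, 11289), (11605, 11983), (11606, 11294), (11607, 12179), (11608, 12105), (11609, 12225), (11610, 12180), (11611, 11612), (11612, 11611), (11613, 11010), (11614, 11993), (11615, 12228), (11616, 11013), (11617, 11014), (11618, 12231), (11619, 12232), (11620, 12233), (11621, 11969), (11622, 11114), (11623, 12186), (11624, 11115), (11625, 11022), (11626, 12238), (11627, 11024), (11628, 11025), (11629, 11388), (11630, 11396), (11631, 11397), (11632, 11398), (11633, 11042), (11634, 11572), (11635, 11573), (11636, 11036), (11637, 11037), (11638, 12244), (11639, 12245), (11640, 11901), (11641, 11958), (11642, 12138), (11643, 12139),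 (11644, 11963), (11645, 11045), (11646, 12253), (11647, 11047)]
    ⟨e3 q11584 (flp_i L193831) q11995, e3 q11585 L190201 q10983, e3 q11586 (flp_i L195792) q12199, e3 q11587 L190217 q11157, e3 q11588 L190229 q11160, e3 q11589 L190243 q10988, e3 q11590 (flp_i L195824) q12202, e3 q11591 (flp_i L195835) q12203, e3 q11592 L190274 q11293, e3 q11593 (flp_i L194615) q12070, e3 q11594 (flp_i L195566) q12176, e3 q11595 (flp_i L195574) q12177, e3 q11596 L190310 q11332, e3 q11597 L190324 q10995, e3 q11598 (flp_i L195922) q12211, e3 q11599 (flp_i L195937) q12212, e3 q11600 L190347 q10997, e3 q11601 L190356 q10998, e3 q11602 (flp_i L195965) q12215, e3 q11603 (flp_i L195971) q12216, e3 q11604 L190378 q11289, e3 q11605 (flp_i L193694) q11983, e3 q11606 L190392 q11294, e3 q11607 (flp_i L195594) q12179, e3 q11608 (flp_i L194949) q12105, e3 q11609 L196024 q12225, e3 q11610 (flp_i L195602) q12180, e3 q11611 (flp_i L190426) q11612, e3 q11612 L190426 q11611, e3 q11613 L190434 q11010, e3 q11614 (flp_i L193807)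 q11993, e3 q11615 (flp_i L196048) q12228, e3 q11616 L190470 q11013, e3 q11617 L190476 q11014, e3 q11618 (flp_i L196082) q12231, e3 q11619 (flp_i L196096) q12232, e3 q11620 (flp_i L196102) q12233, e3 q11621 (flp_i L193550) q11969, e3 q11622 L190518 q11114, e3 q11623 (flp_i L195668) q12186, e3 q11624 L190538 q11115, e3 q11625 L190552 q11022, e3 q11626 L196146 q12238, e3 q11627 (flp_i L190566) q11024, e3 q11628 (flp_i L190570) q11025, e3 q11629 L190590 q11388, e3 q11630 L190604 q11396, e3 q11631 L190616 q11397, e3 q11632 L190626 q11398, e3 q11633 L190634 q11042, e3 q11634 L190642 q11572, e3 q11635 L190651 q11573, e3 q11636 L190663 q11036, e3 q11637 L190678 q11037, e3 q11638 (flp_i L196222) q12244, e3 q11639 (flp_i L196234) q12245, e3 q11640 L192772 q11901, e3 q11641 (flp_i L193422) q11958, e3 q11642 (flp_i L195210) q12138, e3 q11643 (flp_i L195220) q12139, e3 q11644 (flp_i L193480) q11963, e3 q11645 L190738 q11045, e3 q11646 (flp_i L196295) q12253, e3 q11647 L190754 q11047, trivial⟩ (by decide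 +kernel)

theorem ce_i_182 : ∀ r, r < 64 → sm gi (Qf (11648 + r)) = Qf (tab Gen.i (11648 + r)) :=
  edges_tab (sm gi) Qf (tab Gen.i) 11648 [(11648, 12255), (11649, 12055), (11650, 11663), (11651, 11664), (11652, 11665), (11653, 11666), (11654, 11769), (11655, 11658), (11656, 11534), (11657, 11535), (11658, 11655), (11659, 11059), (11660, 12264), (11661, 12265), (11662, 11153), (11663, 11650), (11664, 11651), (11665, 11652), (11666, 11653), (11667, 11448), (11668, 11066), (11669, 12275), (11670, 12276), (11671, 11068), (11672, 11069), (11673, 12280), (11674, 12281), (11675, 12282), (11676, 11851), (11677, 11852), (11678, 11853), (11679, 11854), (11680, 11855), (11681, 11856), (11682, 11857), (11683, 11858), (11684, 11859), (11685, 11860), (11686, 11861), (11687, 11083), (11688, 12297), (11689, 12298), (11690, 11124), (11691, 11125), (11692, 11126), (11693, 11127), (11694, 11471), (11695, 11089), (11696, 12000), (11697, 12307), (11698, 11091), (11699, 11092), (11700, 12310), (11701, 12311),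 (11702, 11139), (11703, 11140), (11704, 11142), (11705, 11143), (11706, 11380), (11707, 11488), (11708, 11487), (11709, 11101), (11710, 12321), (11711, 11103)]
    ⟨e3 q11648 (flp_i L196313) q12255, e3 q11649 (flp_i L194446) q12055, e3 q11650 (flp_i L190901) q11663, e3 q11651 (flp_i L190911) q11664, e3 q11652 (flp_i L190919) q11665, e3 q11653 (flp_i L190927) q11666, e3 q11654 (flp_i L191741) q11769, e3 q11655 (flp_i L190852) q11658, e3 q11656 L190830 q11534, e3 q11657 L190842 q11535, e3 q11658 L190852 q11655, e3 q11659 L190866 q11059, e3 q11660 (flp_i L196407) q12264, e3 q11661 (flp_i L196420) q12265, e3 q11662 L190891 q11153, e3 q11663 L190901 q11650, e3 q11664 L190911 q11651, e3 q11665 L190919 q11652, e3 q11666 L190927 q11653, e3 q11667 L190939 q11448, e3 q11668 L190953 q11066, e3 q11669 (flp_i L196517) q12275, e3 q11670 (flp_i L196531) q12276, e3 q11671 L190975 q11068, e3 q11672 L190981 q11069, e3 q11673 (flp_i L196563) q12280, e3 q11674 (flp_i L196569) q12281, e3 q11675 (flp_i L196575)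 q12282, e3 q11676 (flp_i L192398) q11851, e3 q11677 (flp_i L192410) q11852, e3 q11678 (flp_i L192420) q11853, e3 q11679 (flp_i L192428) q11854, e3 q11680 (flp_i L192436) q11855, e3 q11681 (flp_i L192444) q11856, e3 q11682 (flp_i L192450) q11857, e3 q11683 (flp_i L192456) q11858, e3 q11684 (flp_i L192462) q11859, e3 q11685 (flp_i L192475) q11860, e3 q11686 (flp_i L192483) q11861, e3 q11687 L191079 q11083, e3 q11688 (flp_i L196673) q12297, e3 q11689 (flp_i L196686) q12298, e3 q11690 L191108 q11124, e3 q11691 L191122 q11125, e3 q11692 L191130 q11126, e3 q11693 L191136 q11127, e3 q11694 L191148 q11471, e3 q11695 L191160 q11089, e3 q11696 (flp_i L193889) q12000, e3 q11697 (flp_i L196784) q12307, e3 q11698 L191183 q11091, e3 q11699 L191194 q11092, e3 q11700 (flp_i L196810) q12310, e3 q11701 (flp_i L196818) q12311, e3 q11702 L191214 q11139, e3 q11703 L191220 q11140, e3 q11704 L191228 q11142, e3 q11705 L191236 q11143, e3 q11706 L191244 q11380, e3 q11707 L191252 q11488, e3 q11708 L191262 q11487,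 e3 q11709 L191272 q11101, e3 q11710 (flp_i L196891) q12321, e3 q11711 L191286 q11103, trivial⟩ (by decide +kernel)

theorem ce_i_183 : ∀ r, r < 64 → sm gi (Qf (11712 + r)) = Qf (tab Gen.i (11712 + r)) :=
  edges_tab (sm gi) Qf (tab Gen.i) 11712 [(11712, 12323), (11713, 11156), (11714, 11158), (11715, 11272), (11716, 11273), (11717, 11271), (11718, 11110), (11719, 12328), (11720, 11112), (11721, 12330), (11722, 11964), (11723, 12237), (11724, 11410), (11725, 11118), (11726, 12006), (11727, 12334), (11728, 11120), (11729, 11121), (11730, 12337), (11731, 12338), (11732, 12339), (11733, 12100), (11734, 12101), (11735, 12302), (11736, 12303), (11737, 12304), (11738, 11368), (11739, 11740), (11740, 11739), (11741, 11132), (11742, 12007), (11743, 12350), (11744, 11136), (11745, 11137), (11746, 12004), (11747, 12353), (11748, 12354), (11749, 12355), (11750, 12082), (11751, 12315), (11752, 12316), (11753, 12193), (11754, 12317), (11755, 11357), (11756, 11757), (11757, 11756), (11758, 11149), (11759,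 11996), (11760, 12366), (11761, 11154), (11762, 11155), (11763, 12005), (11764, 12269), (11765, 12368), (11766, 12324), (11767, 12201), (11768, 12194), (11769, 11654), (11770, 11378), (11771, 11171), (11772, 11175), (11773, 12010), (11774, 11774), (11775, 11775)]
    ⟨e3 q11712 (flp_i L196905) q12323, e3 q11713 L191294 q11156, e3 q11714 L191300 q11158, e3 q11715 L191306 q11272, e3 q11716 L191316 q11273, e3 q11717 L191328 q11271, e3 q11718 L191338 q11110, e3 q11719 (flp_i L196947) q12328, e3 q11720 L191354 q11112, e3 q11721 (flp_i L196963) q12330, e3 q11722 (flp_i L193494) q11964, e3 q11723 (flp_i L196144) q12237, e3 q11724 L191384 q11410, e3 q11725 L191398 q11118, e3 q11726 (flp_i L193947) q12006, e3 q11727 (flp_i L197013) q12334, e3 q11728 L191424 q11120, e3 q11729 L191434 q11121, e3 q11730 (flp_i L197041) q12337, e3 q11731 (flp_i L197051) q12338, e3 q11732 (flp_i L197061) q12339, e3 q11733 (flp_i L194897) q12100, e3 q11734 (flp_i L194909) q12101, e3 q11735 (flp_i L196729) q12302, e3 q11736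 (flp_i L196739) q12303, e3 q11737 (flp_i L196747) q12304, e3 q11738 L191506 q11368, e3 q11739 (flp_i L191526) q11740, e3 q11740 L191526 q11739, e3 q11741 L191534 q11132, e3 q11742 (flp_i L193955) q12007, e3 q11743 (flp_i L197157) q12350, e3 q11744 L191562 q11136, e3 q11745 L191570 q11137, e3 q11746 (flp_i L193927) q12004, e3 q11747 (flp_i L197187) q12353, e3 q11748 (flp_i L197197) q12354, e3 q11749 (flp_i L197205) q12355, e3 q11750 (flp_i L194742) q12082, e3 q11751 (flp_i L196843) q12315, e3 q11752 (flp_i L196853) q12316, e3 q11753 (flp_i L195730) q12193, e3 q11754 (flp_i L196859) q12317, e3 q11755 L191650 q11357, e3 q11756 (flp_i L191662) q11757, e3 q11757 L191662 q11756, e3 q11758 L191668 q11149, e3 q11759 (flp_i L193843) q11996, e3 q11760 (flp_i L197299) q12366, e3 q11761 L191694 q11154, e3 q11762 L191698 q11155, e3 q11763 (flp_i L193935) q12005, e3 q11764 (flp_i L196455) q12269, e3 q11765 (flp_i L197319) q12368, e3 q11766 (flp_i L196909) q12324, e3 q11767 (flp_i L195812) q12201, e3 q11768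 (flp_i L195740) q12194, e3 q11769 L191741 q11654, e3 q11770 L191754 q11378, e3 q11771 L191763 q11171, e3 q11772 L191772 q11175, e3 q11773 (flp_i L193977) q12010, e3 q11774 L191793 q11774, e3 q11775 L191807 q11775, trivial⟩ (by decide +kernel)

theorem ce_i_184 : ∀ r, r < 64 → sm gi (Qf (11776 + r)) = Qf (tab Gen.i (11776 + r)) :=
  edges_tab (sm gi) Qf (tab Gen.i) 11776 [(11776, 11181), (11777, 12371), (11778, 11183), (11779, 12372), (11780, 11540), (11781, 11541), (11782, 11542), (11783, 11543), (11784, 12153), (11785, 12154), (11786, 11546), (11787, 11547), (11788, 11548), (11789, 11549), (11790, 11550), (11791, 11551), (11792, 11552), (11793, 11553), (11794, 11554), (11795, 11214), (11796, 11215), (11797, 11216), (11798, 11202), (11799, 11203), (11800, 12395), (11801, 12396), (11802, 12397), (11803, 11229), (11804, 11230), (11805, 11231), (11806, 11209), (11807, 11210), (11808, 12404), (11809, 12405), (11810, 12406), (11811, 12071), (11812, 12072), (11813, 12073), (11814, 12074), (11815,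 12392), (11816, 12418), (11817, 12394), (11818, 11937), (11819, 11219), (11820, 11220), (11821, 12420), (11822, 12421), (11823, 11223), (11824, 11224), (11825, 11225), (11826, 12424), (11827, 12425), (11828, 12426), (11829, 12427), (11830, 12428), (11831, 12060), (11832, 12061), (11833, 12102), (11834, 12402), (11835, 12403), (11836, 11235), (11837, 11236), (11838, 11237), (11839, 12436)]
    ⟨e3 q11776 L191821 q11181, e3 q11777 (flp_i L197342) q12371, e3 q11778 L191837 q11183, e3 q11779 (flp_i L197351) q12372, e3 q11780 L191851 q11540, e3 q11781 L191858 q11541, e3 q11782 L191868 q11542, e3 q11783 L191876 q11543, e3 q11784 (flp_i L195377) q12153, e3 q11785 (flp_i L195386) q12154, e3 q11786 L191903 q11546, e3 q11787 L191915 q11547, e3 q11788 L191923 q11548, e3 q11789 L191931 q11549, e3 q11790 L191939 q11550, e3 q11791 L191947 q11551, e3 q11792 L191954 q11552, e3 q11793 L191964 q11553, e3 q11794 L191970 q11554, e3 q11795 L191976 q11214, e3 q11796 L191984 q11215, e3 q11797 L191990 q11216, e3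 q11798 L191998 q11202, e3 q11799 L192007 q11203, e3 q11800 (flp_i L197543) q12395, e3 q11801 (flp_i L197553) q12396, e3 q11802 (flp_i L197561) q12397, e3 q11803 L192032 q11229, e3 q11804 L192040 q11230, e3 q11805 L192048 q11231, e3 q11806 L192052 q11209, e3 q11807 L192059 q11210, e3 q11808 (flp_i L197605) q12404, e3 q11809 (flp_i L197613) q12405, e3 q11810 (flp_i L197621) q12406, e3 q11811 (flp_i L194629) q12071, e3 q11812 (flp_i L194641) q12072, e3 q11813 (flp_i L194653) q12073, e3 q11814 (flp_i L194667) q12074, e3 q11815 (flp_i L197526) q12392, e3 q11816 L197690 q12418, e3 q11817 (flp_i L197536) q12394, e3 q11818 (flp_i L193179) q11937, e3 q11819 L192138 q11219, e3 q11820 L192146 q11220, e3 q11821 (flp_i L197716) q12420, e3 q11822 (flp_i L197724) q12421, e3 q11823 L192170 q11223, e3 q11824 L192178 q11224, e3 q11825 L192186 q11225, e3 q11826 (flp_i L197754) q12424, e3 q11827 (flp_i L197762) q12425, e3 q11828 (flp_i L197770) q12426, e3 q11829 (flp_i L197782) q12427, e3 q11830 (flp_i L197790)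 q12428, e3 q11831 (flp_i L194507) q12060, e3 q11832 (flp_i L194521) q12061, e3 q11833 (flp_i L194921) q12102, e3 q11834 (flp_i L197592) q12402, e3 q11835 (flp_i L197600) q12403, e3 q11836 L192268 q11235, e3 q11837 L192280 q11236, e3 q11838 L192292 q11237, e3 q11839 (flp_i L197858) q12436, trivial⟩ (by decide +kernel)

theorem ce_i_185 : ∀ r, r < 64 → sm gi (Qf (11840 + r)) = Qf (tab Gen.i (11840 + r)) :=
  edges_tab (sm gi) Qf (tab Gen.i) 11840 [(11840, 12437), (11841, 12439), (11842, 12440), (11843, 11241), (11844, 12149), (11845, 12150), (11846, 11245), (11847, 11246), (11848, 12443), (11849, 12444), (11850, 12445), (11851, 11676), (11852, 11677), (11853, 11678), (11854, 11679), (11855, 11680), (11856, 11681), (11857, 11682), (11858, 11683), (11859, 11684), (11860, 11685), (11861, 11686), (11862, 11910), (11863, 11911), (11864, 11260), (11865, 11261), (11866, 12463), (11867, 12464), (11868, 11264), (11869, 11265), (11870, 12468), (11871, 12469), (11872, 12470), (11873, 11291), (11874,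 11292), (11875, 11295), (11876, 11967), (11877, 12327), (11878, 12325), (11879, 12326), (11880, 11276), (11881, 11277), (11882, 11278), (11883, 12478), (11884, 12479), (11885, 12480), (11886, 12481), (11887, 11282), (11888, 11283), (11889, 11284), (11890, 11285), (11891, 11286), (11892, 12485), (11893, 12486), (11894, 12487), (11895, 12488), (11896, 12490), (11897, 12083), (11898, 12084), (11899, 12220), (11900, 12189), (11901, 11640), (11902, 12473), (11903, 12206)]
    ⟨e3 q11840 (flp_i L197870) q12437, e3 q11841 L197884 q12439, e3 q11842 L197891 q12440, e3 q11843 (flp_i L192327) q11241, e3 q11844 (flp_i L195330) q12149, e3 q11845 (flp_i L195341) q12150, e3 q11846 L192360 q11245, e3 q11847 L192367 q11246, e3 q11848 (flp_i L197925) q12443, e3 q11849 (flp_i L197935) q12444, e3 q11850 (flp_i L197943) q12445, e3 q11851 L192398 q11676, e3 q11852 L192410 q11677, e3 q11853 L192420 q11678, e3 q11854 L192428 q11679, e3 q11855 L192436 q11680, e3 q11856 L192444 q11681, e3 q11857 L192450 q11682, e3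 q11858 L192456 q11683, e3 q11859 L192462 q11684, e3 q11860 L192475 q11685, e3 q11861 L192483 q11686, e3 q11862 (flp_i L192844) q11910, e3 q11863 (flp_i L192859) q11911, e3 q11864 L192518 q11260, e3 q11865 L192525 q11261, e3 q11866 (flp_i L198097) q12463, e3 q11867 (flp_i L198103) q12464, e3 q11868 L192545 q11264, e3 q11869 L192551 q11265, e3 q11870 (flp_i L198126) q12468, e3 q11871 (flp_i L198135) q12469, e3 q11872 (flp_i L198141) q12470, e3 q11873 L192570 q11291, e3 q11874 L192578 q11292, e3 q11875 L192584 q11295, e3 q11876 (flp_i L193530) q11967, e3 q11877 (flp_i L196937) q12327, e3 q11878 (flp_i L196919) q12325, e3 q11879 (flp_i L196927) q12326, e3 q11880 L192620 q11276, e3 q11881 L192630 q11277, e3 q11882 L192634 q11278, e3 q11883 (flp_i L198199) q12478, e3 q11884 (flp_i L198211) q12479, e3 q11885 (flp_i L198221) q12480, e3 q11886 (flp_i L198229) q12481, e3 q11887 L192682 q11282, e3 q11888 L192688 q11283, e3 q11889 L192692 q11284, e3 q11890 L192702 q11285, e3 q11891 L192708 q11286, e3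 q11892 (flp_i L198269) q12485, e3 q11893 (flp_i L198275) q12486, e3 q11894 (flp_i L198285) q12487, e3 q11895 (flp_i L198293) q12488, e3 q11896 (flp_i L198307) q12490, e3 q11897 (flp_i L194752) q12083, e3 q11898 (flp_i L194760) q12084, e3 q11899 (flp_i L195998) q12220, e3 q11900 (flp_i L195694) q12189, e3 q11901 (flp_i L192772) q11640, e3 q11902 (flp_i L198159) q12473, e3 q11903 (flp_i L195865) q12206, trivial⟩ (by decide +kernel)

theorem ce_i_186 : ∀ r, r < 64 → sm gi (Qf (11904 + r)) = Qf (tab Gen.i (11904 + r)) :=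
  edges_tab (sm gi) Qf (tab Gen.i) 11904 [(11904, 12222), (11905, 11299), (11906, 11303), (11907, 11304), (11908, 12133), (11909, 12501), (11910, 11862), (11911, 11863), (11912, 11442), (11913, 11443), (11914, 12051), (11915, 12052), (11916, 11403), (11917, 11404), (11918, 11449), (11919, 11450), (11920, 11451), (11921, 11452), (11922, 11453), (11923, 12137), (11924, 11509), (11925, 11510), (11926, 11511), (11927, 11345), (11928, 11347), (11929, 11348), (11930, 11390), (11931, 11391), (11932, 11349), (11933, 11350), (11934, 11351), (11935, 11354), (11936, 11355), (11937, 11818), (11938, 11359), (11939, 11360), (11940, 11361), (11941, 11362), (11942, 12209), (11943, 12210), (11944, 11334), (11945, 11335), (11946, 12085), (11947, 12538), (11948, 12539), (11949, 11372), (11950, 11373), (11951, 11375), (11952, 11376), (11953, 11377), (11954, 11575), (11955, 11524), (11956, 11525), (11957, 12522), (11958, 11641), (11959, 12523), (11960, 12524), (11961, 12527), (11962, 12528), (11963, 11644),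 (11964, 11722), (11965, 12529), (11966, 12530), (11967, 11876)]
    ⟨e3 q11904 (flp_i L196014) q12222, e3 q11905 L192798 q11299, e3 q11906 L192809 q11303, e3 q11907 L192819 q11304, e3 q11908 (flp_i L195152) q12133, e3 q11909 (flp_i L198381) q12501, e3 q11910 L192844 q11862, e3 q11911 L192859 q11863, e3 q11912 L192873 q11442, e3 q11913 L192886 q11443, e3 q11914 (flp_i L194398) q12051, e3 q11915 (flp_i L194406) q12052, e3 q11916 L192916 q11403, e3 q11917 L192929 q11404, e3 q11918 L192943 q11449, e3 q11919 L192955 q11450, e3 q11920 L192965 q11451, e3 q11921 L192975 q11452, e3 q11922 L192985 q11453, e3 q11923 (flp_i L195194) q12137, e3 q11924 L193004 q11509, e3 q11925 L193018 q11510, e3 q11926 L193032 q11511, e3 q11927 L193046 q11345, e3 q11928 L193060 q11347, e3 q11929 L193072 q11348, e3 q11930 L193086 q11390, e3 q11931 L193101 q11391, e3 q11932 L193115 q11349, e3 q11933 L193127 q11350, e3 q11934 L193137 q11351, e3 q11935 L193151 q11354, e3 q11936 L193163 q11355, e3 q11937 L193179 q11818, e3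 q11938 L193193 q11359, e3 q11939 L193205 q11360, e3 q11940 L193217 q11361, e3 q11941 L193227 q11362, e3 q11942 (flp_i L195895) q12209, e3 q11943 (flp_i L195908) q12210, e3 q11944 L193260 q11334, e3 q11945 L193273 q11335, e3 q11946 (flp_i L194772) q12085, e3 q11947 (flp_i L198855) q12538, e3 q11948 (flp_i L198867) q12539, e3 q11949 L193314 q11372, e3 q11950 L193326 q11373, e3 q11951 L193340 q11375, e3 q11952 L193352 q11376, e3 q11953 L193360 q11377, e3 q11954 L193372 q11575, e3 q11955 L193386 q11524, e3 q11956 L193398 q11525, e3 q11957 (flp_i L198639) q12522, e3 q11958 L193422 q11641, e3 q11959 (flp_i L198653) q12523, e3 q11960 (flp_i L198667) q12524, e3 q11961 (flp_i L198709) q12527, e3 q11962 (flp_i L198723) q12528, e3 q11963 L193480 q11644, e3 q11964 L193494 q11722, e3 q11965 (flp_i L198737) q12529, e3 q11966 (flp_i L198751) q12530, e3 q11967 L193530 q11876, trivial⟩ (by decide +kernel)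

theorem ce_i_187 : ∀ r, r < 64 → sm gi (Qf (11968 + r)) = Qf (tab Gen.i (11968 + r)) :=
  edges_tab (sm gi) Qf (tab Gen.i) 11968 [(11968, 12363), (11969, 11621), (11970, 12532), (11971, 12533), (11972, 12318), (11973, 12535), (11974, 12181), (11975, 11365), (11976, 12563), (11977, 11369), (11978, 11370), (11979, 12332), (11980, 12347), (11981, 12565), (11982, 12566), (11983, 11605), (11984, 12544), (11985, 12545), (11986, 11482), (11987, 12546), (11988, 12547), (11989, 12028), (11990, 11991), (11991, 11990), (11992, 12143), (11993, 11614), (11994, 12144), (11995, 11584), (11996, 11759), (11997, 12239), (11998, 11577), (11999, 11578), (12000, 11696), (12001, 12525), (12002, 12526), (12003, 11561), (12004, 11746), (12005, 11763), (12006, 11726), (12007, 11742), (12008, 12240), (12009, 12241), (12010, 11773), (12011, 11440), (12012, 11447), (12013, 12511), (12014, 12512), (12015, 12513), (12016, 11459), (12017, 11460), (12018, 11461), (12019, 11469), (12020, 12333), (12021, 11412), (12022,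 11413), (12023, 12601), (12024, 12602), (12025, 11483), (12026, 11485), (12027, 11486), (12028, 11989), (12029, 12030), (12030, 12029), (12031, 11421)]
    ⟨e3 q11968 (flp_i L197279) q12363, e3 q11969 L193550 q11621, e3 q11970 (flp_i L198783) q12532, e3 q11971 (flp_i L198797) q12533, e3 q11972 (flp_i L196869) q12318, e3 q11973 (flp_i L198821) q12535, e3 q11974 (flp_i L195610) q12181, e3 q11975 L193614 q11365, e3 q11976 (flp_i L199170) q12563, e3 q11977 L193634 q11369, e3 q11978 L193644 q11370, e3 q11979 (flp_i L196985) q12332, e3 q11980 (flp_i L197129) q12347, e3 q11981 (flp_i L199190) q12565, e3 q11982 (flp_i L199198) q12566, e3 q11983 L193694 q11605, e3 q11984 (flp_i L198912) q12544, e3 q11985 (flp_i L198926) q12545, e3 q11986 L193726 q11482, e3 q11987 (flp_i L198940) q12546, e3 q11988 (flp_i L198952) q12547, e3 q11989 (flp_i L194188) q12028, e3 q11990 (flp_i L193783) q11991, e3 q11991 L193783 q11990, e3 q11992 (flp_i L195266) q12143, e3 q11993 L193807 q11614, e3 q11994 (flp_i L195278)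 q12144, e3 q11995 L193831 q11584, e3 q11996 L193843 q11759, e3 q11997 (flp_i L196166) q12239, e3 q11998 L193865 q11577, e3 q11999 L193880 q11578, e3 q12000 L193889 q11696, e3 q12001 (flp_i L198683) q12525, e3 q12002 (flp_i L198695) q12526, e3 q12003 L193915 q11561, e3 q12004 L193927 q11746, e3 q12005 L193935 q11763, e3 q12006 L193947 q11726, e3 q12007 L193955 q11742, e3 q12008 (flp_i L196178) q12240, e3 q12009 (flp_i L196188) q12241, e3 q12010 L193977 q11773, e3 q12011 L193991 q11440, e3 q12012 L194007 q11447, e3 q12013 (flp_i L198495) q12511, e3 q12014 (flp_i L198511) q12512, e3 q12015 (flp_i L198523) q12513, e3 q12016 L194050 q11459, e3 q12017 L194060 q11460, e3 q12018 L194072 q11461, e3 q12019 L194084 q11469, e3 q12020 (flp_i L196999) q12333, e3 q12021 L194106 q11412, e3 q12022 L194122 q11413, e3 q12023 (flp_i L199595) q12601, e3 q12024 (flp_i L199609) q12602, e3 q12025 L194156 q11483, e3 q12026 L194170 q11485, e3 q12027 L194180 q11486, e3 q12028 L194188 q11989, e3 q12029 (flp_i L194207)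 q12030, e3 q12030 L194207 q12029, e3 q12031 L194217 q11421, trivial⟩ (by decide +kernel)

theorem ce_i_188 : ∀ r, r < 64 → sm gi (Qf (12032 + r)) = Qf (tab Gen.i (12032 + r)) :=
  edges_tab (sm gi) Qf (tab Gen.i) 12032 [(12032, 11422), (12033, 12610), (12034, 12611), (12035, 12612), (12036, 11425), (12037, 11426), (12038, 11427), (12039, 12617), (12040, 12618), (12041, 12619), (12042, 12620), (12043, 12621), (12044, 11502), (12045, 11503), (12046, 11504), (12047, 11505), (12048, 11506), (12049, 11507), (12050, 11508), (12051, 11914), (12052, 11915), (12053, 11526), (12054, 11527), (12055, 11649), (12056, 12505), (12057, 12506), (12058, 12507), (12059, 11581), (12060, 11831), (12061, 11832), (12062, 12274), (12063, 12514), (12064, 12515), (12065, 12516), (12066, 12517), (12067, 12518), (12068, 12519), (12069, 12520), (12070, 11593), (12071, 11811), (12072, 11812), (12073, 11813), (12074, 11814), (12075, 12598), (12076, 12599), (12077, 12086), (12078, 11464), (12079, 11465), (12080, 12656),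 (12081, 12657), (12082, 11750), (12083, 11897), (12084, 11898), (12085, 11946), (12086, 12077), (12087, 12305), (12088, 12306), (12089, 11473), (12090, 11474), (12091, 12667), (12092, 12668), (12093, 11477), (12094, 11478), (12095, 11479)]
    ⟨e3 q12032 L194226 q11422, e3 q12033 (flp_i L199696) q12610, e3 q12034 (flp_i L199710) q12611, e3 q12035 (flp_i L199718) q12612, e3 q12036 L194260 q11425, e3 q12037 L194270 q11426, e3 q12038 L194276 q11427, e3 q12039 (flp_i L199762) q12617, e3 q12040 (flp_i L199774) q12618, e3 q12041 (flp_i L199778) q12619, e3 q12042 (flp_i L199787) q12620, e3 q12043 (flp_i L199793) q12621, e3 q12044 L194322 q11502, e3 q12045 L194336 q11503, e3 q12046 L194344 q11504, e3 q12047 L194354 q11505, e3 q12048 L194366 q11506, e3 q12049 L194378 q11507, e3 q12050 L194386 q11508, e3 q12051 L194398 q11914, e3 q12052 L194406 q11915, e3 q12053 L194418 q11526, e3 q12054 L194430 q11527, e3 q12055 L194446 q11649, e3 q12056 (flp_i L198431) q12505, e3 q12057 (flp_i L198447) q12506, e3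 q12058 (flp_i L198459) q12507, e3 q12059 L194495 q11581, e3 q12060 L194507 q11831, e3 q12061 L194521 q11832, e3 q12062 (flp_i L196503) q12274, e3 q12063 (flp_i L198537) q12514, e3 q12064 (flp_i L198553) q12515, e3 q12065 (flp_i L198565) q12516, e3 q12066 (flp_i L198581) q12517, e3 q12067 (flp_i L198591) q12518, e3 q12068 (flp_i L198603) q12519, e3 q12069 (flp_i L198611) q12520, e3 q12070 L194615 q11593, e3 q12071 L194629 q11811, e3 q12072 L194641 q11812, e3 q12073 L194653 q11813, e3 q12074 L194667 q11814, e3 q12075 (flp_i L199557) q12598, e3 q12076 (flp_i L199569) q12599, e3 q12077 (flp_i L194783) q12086, e3 q12078 L194701 q11464, e3 q12079 L194714 q11465, e3 q12080 (flp_i L200180) q12656, e3 q12081 (flp_i L200192) q12657, e3 q12082 L194742 q11750, e3 q12083 L194752 q11897, e3 q12084 L194760 q11898, e3 q12085 L194772 q11946, e3 q12086 L194783 q12077, e3 q12087 (flp_i L196761) q12305, e3 q12088 (flp_i L196770) q12306, e3 q12089 L194816 q11473, e3 q12090 L194825 q11474, e3 q12091 (flp_i L200293)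 q12667, e3 q12092 (flp_i L200303) q12668, e3 q12093 L194848 q11477, e3 q12094 L194856 q11478, e3 q12095 L194862 q11479, trivial⟩ (by decide +kernel)

theorem ce_i_189 : ∀ r, r < 64 → sm gi (Qf (12096 + r)) = Qf (tab Gen.i (12096 + r)) :=
  edges_tab (sm gi) Qf (tab Gen.i) 12096 [(12096, 12672), (12097, 12673), (12098, 12674), (12099, 12675), (12100, 11733), (12101, 11734), (12102, 11833), (12103, 12572), (12104, 12605), (12105, 11608), (12106, 12606), (12107, 12320), (12108, 12319), (12109, 11491), (12110, 11492), (12111, 11493), (12112, 12688), (12113, 12689), (12114, 12690), (12115, 11497), (12116, 11498), (12117, 11499), (12118, 11500), (12119, 11501), (12120, 12693), (12121, 12694), (12122, 12695), (12123, 12696), (12124, 12698), (12125, 12627), (12126, 12628), (12127, 12629), (12128, 12630), (12129, 12631), (12130, 12521), (12131, 11516), (12132, 11517), (12133, 11908), (12134, 12707), (12135, 12708), (12136, 12711), (12137, 11923), (12138, 11642), (12139, 11643), (12140, 12549), (12141,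 12550), (12142, 12635), (12143, 11992), (12144, 11994), (12145, 12151), (12146, 12152), (12147, 12261), (12148, 12262), (12149, 11844), (12150, 11845), (12151, 12145), (12152, 12146), (12153, 11784), (12154, 11785), (12155, 12373), (12156, 12374), (12157, 12375), (12158, 12376), (12159, 12377)]
    ⟨e3 q12096 (flp_i L200334) q12672, e3 q12097 (flp_i L200338) q12673, e3 q12098 (flp_i L200345) q12674, e3 q12099 (flp_i L200351) q12675, e3 q12100 L194897 q11733, e3 q12101 L194909 q11734, e3 q12102 L194921 q11833, e3 q12103 (flp_i L199270) q12572, e3 q12104 (flp_i L199643) q12605, e3 q12105 L194949 q11608, e3 q12106 (flp_i L199657) q12606, e3 q12107 (flp_i L196883) q12320, e3 q12108 (flp_i L196875) q12319, e3 q12109 L194973 q11491, e3 q12110 L194981 q11492, e3 q12111 L194985 q11493, e3 q12112 (flp_i L200468) q12688, e3 q12113 (flp_i L200474) q12689, e3 q12114 (flp_i L200482) q12690, e3 q12115 L195019 q11497, e3 q12116 L195025 q11498, e3 q12117 L195033 q11499, e3 q12118 L195043 q11500, e3 q12119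 L195047 q11501, e3 q12120 (flp_i L200506) q12693, e3 q12121 (flp_i L200514) q12694, e3 q12122 (flp_i L200522) q12695, e3 q12123 (flp_i L200532) q12696, e3 q12124 (flp_i L200550) q12698, e3 q12125 (flp_i L199844) q12627, e3 q12126 (flp_i L199858) q12628, e3 q12127 (flp_i L199868) q12629, e3 q12128 (flp_i L199880) q12630, e3 q12129 (flp_i L199892) q12631, e3 q12130 (flp_i L198623) q12521, e3 q12131 L195133 q11516, e3 q12132 L195141 q11517, e3 q12133 L195152 q11908, e3 q12134 (flp_i L200624) q12707, e3 q12135 (flp_i L200632) q12708, e3 q12136 L200655 q12711, e3 q12137 L195194 q11923, e3 q12138 L195210 q11642, e3 q12139 L195220 q11643, e3 q12140 (flp_i L198980) q12549, e3 q12141 (flp_i L198994) q12550, e3 q12142 (flp_i L199939) q12635, e3 q12143 L195266 q11992, e3 q12144 L195278 q11994, e3 q12145 (flp_i L195355) q12151, e3 q12146 (flp_i L195365) q12152, e3 q12147 (flp_i L196373) q12261, e3 q12148 (flp_i L196383) q12262, e3 q12149 L195330 q11844, e3 q12150 L195341 q11845, e3 q12151 L195355 q12145,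 e3 q12152 L195365 q12146, e3 q12153 L195377 q11784, e3 q12154 L195386 q11785, e3 q12155 (flp_i L197358) q12373, e3 q12156 (flp_i L197366) q12374, e3 q12157 (flp_i L197374) q12375, e3 q12158 (flp_i L197378) q12376, e3 q12159 (flp_i L197387) q12377, trivial⟩ (by decide +kernel)

theorem ce_i_190 : ∀ r, r < 64 → sm gi (Qf (12160 + r)) = Qf (tab Gen.i (12160 + r)) :=
  edges_tab (sm gi) Qf (tab Gen.i) 12160 [(12160, 12378), (12161, 11545), (12162, 12733), (12163, 12382), (12164, 12383), (12165, 12384), (12166, 12385), (12167, 12386), (12168, 12387), (12169, 12388), (12170, 12389), (12171, 12390), (12172, 12391), (12173, 11576), (12174, 11582), (12175, 11583), (12176, 11594), (12177, 11595), (12178, 12586), (12179, 11607), (12180, 11610), (12181, 11974), (12182, 11567), (12183, 12748), (12184, 11569), (12185, 12750), (12186, 11623), (12187, 12242), (12188, 12243), (12189, 11900), (12190, 12548), (12191, 12580), (12192, 12581), (12193, 11753), (12194, 11768), (12195, 12640), (12196, 12761), (12197,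 12744), (12198, 12578), (12199, 11586), (12200, 12763), (12201, 11767), (12202, 11590), (12203, 11591), (12204, 12764), (12205, 12765), (12206, 11903), (12207, 12650), (12208, 12745), (12209, 11942), (12210, 11943), (12211, 11598), (12212, 11599), (12213, 12772), (12214, 12773), (12215, 11602), (12216, 11603), (12217, 12777), (12218, 12778), (12219, 12779), (12220, 11899), (12221, 12570), (12222, 11904), (12223, 12685)]
    ⟨e3 q12160 (flp_i L197395) q12378, e3 q12161 L195434 q11545, e3 q12162 (flp_i L200884) q12733, e3 q12163 (flp_i L197430) q12382, e3 q12164 (flp_i L197442) q12383, e3 q12165 (flp_i L197454) q12384, e3 q12166 (flp_i L197462) q12385, e3 q12167 (flp_i L197470) q12386, e3 q12168 (flp_i L197478) q12387, e3 q12169 (flp_i L197486) q12388, e3 q12170 (flp_i L197494) q12389, e3 q12171 (flp_i L197510) q12390, e3 q12172 (flp_i L197518) q12391, e3 q12173 L195536 q11576, e3 q12174 L195546 q11582, e3 q12175 L195556 q11583, e3 q12176 L195566 q11594, e3 q12177 L195574 q11595, e3 q12178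 (flp_i L199435) q12586, e3 q12179 L195594 q11607, e3 q12180 L195602 q11610, e3 q12181 L195610 q11974, e3 q12182 L195626 q11567, e3 q12183 (flp_i L201028) q12748, e3 q12184 L195648 q11569, e3 q12185 (flp_i L201050) q12750, e3 q12186 L195668 q11623, e3 q12187 (flp_i L196198) q12242, e3 q12188 (flp_i L196206) q12243, e3 q12189 L195694 q11900, e3 q12190 (flp_i L198966) q12548, e3 q12191 (flp_i L199382) q12580, e3 q12192 (flp_i L199392) q12581, e3 q12193 L195730 q11753, e3 q12194 L195740 q11768, e3 q12195 (flp_i L200000) q12640, e3 q12196 L201154 q12761, e3 q12197 (flp_i L200982) q12744, e3 q12198 (flp_i L199354) q12578, e3 q12199 L195792 q11586, e3 q12200 (flp_i L201184) q12763, e3 q12201 L195812 q11767, e3 q12202 L195824 q11590, e3 q12203 L195835 q11591, e3 q12204 (flp_i L201198) q12764, e3 q12205 (flp_i L201208) q12765, e3 q12206 L195865 q11903, e3 q12207 (flp_i L200108) q12650, e3 q12208 (flp_i L200992) q12745, e3 q12209 L195895 q11942, e3 q12210 L195908 q11943, e3 q12211 L195922 q11598,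 e3 q12212 L195937 q11599, e3 q12213 (flp_i L201289) q12772, e3 q12214 (flp_i L201301) q12773, e3 q12215 L195965 q11602, e3 q12216 L195971 q11603, e3 q12217 (flp_i L201332) q12777, e3 q12218 (flp_i L201343) q12778, e3 q12219 (flp_i L201349) q12779, e3 q12220 L195998 q11899, e3 q12221 (flp_i L199244) q12570, e3 q12222 L196014 q11904, e3 q12223 (flp_i L200446) q12685, trivial⟩ (by decide +kernel)

theorem ce_i_191 : ∀ r, r < 64 → sm gi (Qf (12224 + r)) = Qf (tab Gen.i (12224 + r)) :=
  edges_tab (sm gi) Qf (tab Gen.i) 12224 [(12224, 12784), (12225, 11609), (12226, 12227), (12227, 12226), (12228, 11615), (12229, 12576), (12230, 12787), (12231, 11618), (12232, 11619), (12233, 11620), (12234, 12789), (12235, 12790), (12236, 12559), (12237, 11723), (12238, 11626), (12239, 11997), (12240, 12008), (12241, 12009), (12242, 12187), (12243, 12188), (12244, 11638), (12245, 11639), (12246, 12796), (12247, 12797), (12248, 12798), (12249, 12499), (12250, 12551), (12251, 12712), (12252, 12554), (12253, 11646),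 (12254, 12803), (12255, 11648), (12256, 12270), (12257, 12271), (12258, 12272), (12259, 12273), (12260, 12263), (12261, 12147), (12262, 12148), (12263, 12260), (12264, 11660), (12265, 11661), (12266, 12810), (12267, 12811), (12268, 12812), (12269, 11764), (12270, 12256), (12271, 12257), (12272, 12258), (12273, 12259), (12274, 12062), (12275, 11669), (12276, 11670), (12277, 12823), (12278, 12824), (12279, 12825), (12280, 11673), (12281, 11674), (12282, 11675), (12283, 12830), (12284, 12831), (12285, 12832), (12286, 12833), (12287, 12451)]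
    ⟨e3 q12224 L201379 q12784, e3 q12225 (flp_i L196024) q11609, e3 q12226 (flp_i L196040) q12227, e3 q12227 L196040 q12226, e3 q12228 L196048 q11615, e3 q12229 (flp_i L199328) q12576, e3 q12230 (flp_i L201407) q12787, e3 q12231 L196082 q11618, e3 q12232 L196096 q11619, e3 q12233 L196102 q11620, e3 q12234 (flp_i L201433) q12789, e3 q12235 (flp_i L201447) q12790, e3 q12236 (flp_i L199120) q12559, e3 q12237 L196144 q11723, e3 q12238 (flp_i L196146) q11626, e3 q12239 L196166 q11997, e3 q12240 L196178 q12008, e3 q12241 L196188 q12009, e3 q12242 L196198 q12187, e3 q12243 L196206 q12188, e3 q12244 L196222 q11638, e3 q12245 L196234 q11639, e3 q12246 (flp_i L201512) q12796, e3 q12247 (flp_i L201529) q12797, e3 q12248 (flp_i L201545) q12798, e3 q12249 L198369 q12499, e3 q12250 (flp_i L199010) q12551, e3 q12251 (flp_i L200682) q12712, e3 q12252 (flp_i L199052) q12554, e3 q12253 L196295 q11646, e3 q12254 (flp_i L201589) q12803, e3 q12255 L196313 q11648, e3 q12256 (flp_i L196467) q12270, e3 q12257 (flp_i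 L196477) q12271, e3 q12258 (flp_i L196483) q12272, e3 q12259 (flp_i L196491) q12273, e3 q12260 (flp_i L196395) q12263, e3 q12261 L196373 q12147, e3 q12262 L196383 q12148, e3 q12263 L196395 q12260, e3 q12264 L196407 q11660, e3 q12265 L196420 q11661, e3 q12266 (flp_i L201664) q12810, e3 q12267 (flp_i L201678) q12811, e3 q12268 (flp_i L201690) q12812, e3 q12269 L196455 q11764, e3 q12270 L196467 q12256, e3 q12271 L196477 q12257, e3 q12272 L196483 q12258, e3 q12273 L196491 q12259, e3 q12274 L196503 q12062, e3 q12275 L196517 q11669, e3 q12276 L196531 q11670, e3 q12277 (flp_i L201794) q12823, e3 q12278 (flp_i L201808) q12824, e3 q12279 (flp_i L201820) q12825, e3 q12280 L196563 q11673, e3 q12281 L196569 q11674, e3 q12282 L196575 q11675, e3 q12283 (flp_i L201860) q12830, e3 q12284 (flp_i L201868) q12831, e3 q12285 (flp_i L201874) q12832, e3 q12286 (flp_i L201880) q12833, e3 q12287 (flp_i L197985) q12451, trivial⟩ (by decide +kernel)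

theorem ce_i_192 : ∀ r, r < 64 → sm gi (Qf (12288 + r)) = Qf (tab Gen.i (12288 + r)) :=
  edges_tab (sm gi) Qf (tab Gen.i) 12288 [(12288, 12452), (12289, 12453), (12290, 12454), (12291, 12455), (12292, 12456), (12293, 12457), (12294, 12458), (12295, 12459), (12296, 12460), (12297, 11688), (12298, 11689), (12299, 12844), (12300, 12845), (12301, 12846), (12302, 11735), (12303, 11736), (12304, 11737), (12305, 12087), (12306, 12088), (12307, 11697), (12308, 12582), (12309, 12855), (12310, 11700), (12311, 11701), (12312, 12859), (12313, 12860), (12314, 12861), (12315, 11751), (12316, 11752), (12317, 11754), (12318, 11972), (12319, 12108), (12320, 12107), (12321, 11710), (12322, 12868), (12323, 11712), (12324, 11766), (12325, 11878), (12326, 11879), (12327, 11877), (12328, 11719), (12329, 12872), (12330, 11721), (12331, 12555), (12332, 11979), (12333, 12020), (12334, 11727), (12335, 12590), (12336, 12875), (12337, 11730), (12338, 11731), (12339, 11732), (12340, 12878), (12341, 12879), (12342,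 12880), (12343, 12680), (12344, 12681), (12345, 12851), (12346, 12852), (12347, 11980), (12348, 12349), (12349, 12348), (12350, 11743), (12351, 12591)]
    ⟨e3 q12288 (flp_i L197995) q12452, e3 q12289 (flp_i L198007) q12453, e3 q12290 (flp_i L198015) q12454, e3 q12291 (flp_i L198025) q12455, e3 q12292 (flp_i L198035) q12456, e3 q12293 (flp_i L198047) q12457, e3 q12294 (flp_i L198053) q12458, e3 q12295 (flp_i L198059) q12459, e3 q12296 (flp_i L198065) q12460, e3 q12297 L196673 q11688, e3 q12298 L196686 q11689, e3 q12299 (flp_i L201961) q12844, e3 q12300 (flp_i L201977) q12845, e3 q12301 (flp_i L201989) q12846, e3 q12302 L196729 q11735, e3 q12303 L196739 q11736, e3 q12304 L196747 q11737, e3 q12305 L196761 q12087, e3 q12306 L196770 q12088, e3 q12307 L196784 q11697, e3 q12308 (flp_i L199404) q12582, e3 q12309 (flp_i L202082) q12855, e3 q12310 L196810 q11700, e3 q12311 L196818 q11701, e3 q12312 (flp_i L202109) q12859, e3 q12313 (flp_i L202118) q12860, e3 q12314 (flp_i L202126) q12861, e3 q12315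 L196843 q11751, e3 q12316 L196853 q11752, e3 q12317 L196859 q11754, e3 q12318 L196869 q11972, e3 q12319 L196875 q12108, e3 q12320 L196883 q12107, e3 q12321 L196891 q11710, e3 q12322 (flp_i L202182) q12868, e3 q12323 L196905 q11712, e3 q12324 L196909 q11766, e3 q12325 L196919 q11878, e3 q12326 L196927 q11879, e3 q12327 L196937 q11877, e3 q12328 L196947 q11719, e3 q12329 (flp_i L202224) q12872, e3 q12330 L196963 q11721, e3 q12331 (flp_i L199068) q12555, e3 q12332 L196985 q11979, e3 q12333 L196999 q12020, e3 q12334 L197013 q11727, e3 q12335 (flp_i L199475) q12590, e3 q12336 (flp_i L202268) q12875, e3 q12337 L197041 q11730, e3 q12338 L197051 q11731, e3 q12339 L197061 q11732, e3 q12340 (flp_i L202298) q12878, e3 q12341 (flp_i L202310) q12879, e3 q12342 (flp_i L202318) q12880, e3 q12343 (flp_i L200388) q12680, e3 q12344 (flp_i L200402) q12681, e3 q12345 (flp_i L202036) q12851, e3 q12346 (flp_i L202046) q12852, e3 q12347 L197129 q11980, e3 q12348 (flp_i L197147) q12349, e3 q12349 L197147 q12348,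 e3 q12350 L197157 q11743, e3 q12351 (flp_i L199487) q12591, trivial⟩ (by decide +kernel)

theorem ce_i_193 : ∀ r, r < 64 → sm gi (Qf (12352 + r)) = Qf (tab Gen.i (12352 + r)) :=
  edges_tab (sm gi) Qf (tab Gen.i) 12352 [(12352, 12888), (12353, 11747), (12354, 11748), (12355, 11749), (12356, 12587), (12357, 12588), (12358, 12890), (12359, 12891), (12360, 12661), (12361, 12864), (12362, 12758), (12363, 11968), (12364, 12365), (12365, 12364), (12366, 11760), (12367, 12579), (12368, 11765), (12369, 12589), (12370, 12818), (12371, 11777), (12372, 11779), (12373, 12155), (12374, 12156), (12375, 12157), (12376, 12158), (12377, 12159), (12378, 12160), (12379, 12593), (12380, 12724), (12381, 12725), (12382, 12163), (12383, 12164), (12384, 12165), (12385, 12166), (12386, 12167), (12387, 12168), (12388, 12169), (12389, 12170), (12390, 12171), (12391, 12172), (12392, 11815), (12393, 12920), (12394, 11817), (12395, 11800), (12396, 11801), (12397, 11802), (12398, 12921), (12399, 12922), (12400, 12923),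 (12401, 12924), (12402, 11834), (12403, 11835), (12404, 11808), (12405, 11809), (12406, 11810), (12407, 12930), (12408, 12931), (12409, 12932), (12410, 12933), (12411, 12651), (12412, 12652), (12413, 12942), (12414, 12653), (12415, 12682)]
    ⟨e3 q12352 (flp_i L202398) q12888, e3 q12353 L197187 q11747, e3 q12354 L197197 q11748, e3 q12355 L197205 q11749, e3 q12356 (flp_i L199443) q12587, e3 q12357 (flp_i L199455) q12588, e3 q12358 (flp_i L202422) q12890, e3 q12359 (flp_i L202428) q12891, e3 q12360 (flp_i L200227) q12661, e3 q12361 (flp_i L202148) q12864, e3 q12362 (flp_i L201126) q12758, e3 q12363 L197279 q11968, e3 q12364 (flp_i L197289) q12365, e3 q12365 L197289 q12364, e3 q12366 L197299 q11760, e3 q12367 (flp_i L199368) q12579, e3 q12368 L197319 q11765, e3 q12369 (flp_i L199467) q12589, e3 q12370 (flp_i L201744) q12818, e3 q12371 L197342 q11777, e3 q12372 L197351 q11779, e3 q12373 L197358 q12155, e3 q12374 L197366 q12156, e3 q12375 L197374 q12157, e3 q12376 L197378 q12158, e3 q12377 L197387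 q12159, e3 q12378 L197395 q12160, e3 q12379 (flp_i L199508) q12593, e3 q12380 (flp_i L200816) q12724, e3 q12381 (flp_i L200826) q12725, e3 q12382 L197430 q12163, e3 q12383 L197442 q12164, e3 q12384 L197454 q12165, e3 q12385 L197462 q12166, e3 q12386 L197470 q12167, e3 q12387 L197478 q12168, e3 q12388 L197486 q12169, e3 q12389 L197494 q12170, e3 q12390 L197510 q12171, e3 q12391 L197518 q12172, e3 q12392 L197526 q11815, e3 q12393 L202683 q12920, e3 q12394 L197536 q11817, e3 q12395 L197543 q11800, e3 q12396 L197553 q11801, e3 q12397 L197561 q11802, e3 q12398 (flp_i L202697) q12921, e3 q12399 (flp_i L202703) q12922, e3 q12400 (flp_i L202714) q12923, e3 q12401 (flp_i L202722) q12924, e3 q12402 L197592 q11834, e3 q12403 L197600 q11835, e3 q12404 L197605 q11808, e3 q12405 L197613 q11809, e3 q12406 L197621 q11810, e3 q12407 (flp_i L202761) q12930, e3 q12408 (flp_i L202765) q12931, e3 q12409 (flp_i L202774) q12932, e3 q12410 (flp_i L202782) q12933, e3 q12411 (flp_i L200122) q12651, e3 q12412 (flp_i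 L200136) q12652, e3 q12413 L202834 q12942, e3 q12414 (flp_i L200148) q12653, e3 q12415 (flp_i L200416) q12682, trivial⟩ (by decide +kernel)

theorem ce_i_194 : ∀ r, r < 64 → sm gi (Qf (12416 + r)) = Qf (tab Gen.i (12416 + r)) :=
  edges_tab (sm gi) Qf (tab Gen.i) 12416 [(12416, 12918), (12417, 12946), (12418, 11816), (12419, 12531), (12420, 11821), (12421, 11822), (12422, 12948), (12423, 12949), (12424, 11826), (12425, 11827), (12426, 11828), (12427, 11829), (12428, 11830), (12429, 12951), (12430, 12952), (12431, 12953), (12432, 12954), (12433, 12955), (12434, 12641), (12435, 12929), (12436, 11839), (12437, 11840), (12438, 12960), (12439, 11841), (12440, 11842), (12441, 12719), (12442, 12720), (12443, 11848), (12444, 11849), (12445, 11850), (12446, 12964), (12447, 12965), (12448, 12966), (12449, 12967), (12450, 12968), (12451, 12287), (12452, 12288), (12453, 12289), (12454, 12290), (12455, 12291), (12456, 12292), (12457, 12293), (12458, 12294), (12459, 12295), (12460, 12296), (12461, 12503),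 (12462, 12504), (12463, 11866), (12464, 11867), (12465, 12985), (12466, 12986), (12467, 12987), (12468, 11870), (12469, 11871), (12470, 11872), (12471, 12990), (12472, 12992), (12473, 11902), (12474, 12557), (12475, 12871), (12476, 12869), (12477, 12870), (12478, 11883), (12479, 11884)]
    ⟨e3 q12416 (flp_i L202677) q12918, e3 q12417 L202866 q12946, e3 q12418 (flp_i L197690) q11816, e3 q12419 (flp_i L198767) q12531, e3 q12420 L197716 q11821, e3 q12421 L197724 q11822, e3 q12422 (flp_i L202894) q12948, e3 q12423 (flp_i L202904) q12949, e3 q12424 L197754 q11826, e3 q12425 L197762 q11827, e3 q12426 L197770 q11828, e3 q12427 L197782 q11829, e3 q12428 L197790 q11830, e3 q12429 (flp_i L202924) q12951, e3 q12430 (flp_i L202932) q12952, e3 q12431 (flp_i L202940) q12953, e3 q12432 (flp_i L202950) q12954, e3 q12433 (flp_i L202960) q12955, e3 q12434 (flp_i L200014) q12641, e3 q12435 (flp_i L202753) q12929, e3 q12436 L197858 q11839, e3 q12437 L197870 q11840, e3 q12438 (flp_i L203014) q12960, e3 q12439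 (flp_i L197884) q11841, e3 q12440 (flp_i L197891) q11842, e3 q12441 (flp_i L200761) q12719, e3 q12442 (flp_i L200771) q12720, e3 q12443 L197925 q11848, e3 q12444 L197935 q11849, e3 q12445 L197943 q11850, e3 q12446 (flp_i L203056) q12964, e3 q12447 (flp_i L203066) q12965, e3 q12448 (flp_i L203070) q12966, e3 q12449 (flp_i L203081) q12967, e3 q12450 (flp_i L203089) q12968, e3 q12451 L197985 q12287, e3 q12452 L197995 q12288, e3 q12453 L198007 q12289, e3 q12454 L198015 q12290, e3 q12455 L198025 q12291, e3 q12456 L198035 q12292, e3 q12457 L198047 q12293, e3 q12458 L198053 q12294, e3 q12459 L198059 q12295, e3 q12460 L198065 q12296, e3 q12461 (flp_i L198406) q12503, e3 q12462 (flp_i L198418) q12504, e3 q12463 L198097 q11866, e3 q12464 L198103 q11867, e3 q12465 (flp_i L203243) q12985, e3 q12466 (flp_i L203252) q12986, e3 q12467 (flp_i L203262) q12987, e3 q12468 L198126 q11870, e3 q12469 L198135 q11871, e3 q12470 L198141 q11872, e3 q12471 (flp_i L203280) q12990, e3 q12472 (flp_i L203293) q12992,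 e3 q12473 L198159 q11902, e3 q12474 (flp_i L199094) q12557, e3 q12475 (flp_i L202212) q12871, e3 q12476 (flp_i L202190) q12869, e3 q12477 (flp_i L202198) q12870, e3 q12478 L198199 q11883, e3 q12479 L198211 q11884, trivial⟩ (by decide +kernel)

theorem ce_i_195 : ∀ r, r < 64 → sm gi (Qf (12480 + r)) = Qf (tab Gen.i (12480 + r)) :=
  edges_tab (sm gi) Qf (tab Gen.i) 12480 [(12480, 11885), (12481, 11886), (12482, 12997), (12483, 12998), (12484, 12999), (12485, 11892), (12486, 11893), (12487, 11894), (12488, 11895), (12489, 12697), (12490, 11896), (12491, 13002), (12492, 13003), (12493, 13004), (12494, 13006), (12495, 13007), (12496, 12662), (12497, 12782), (12498, 12754), (12499, 12249), (12500, 12769), (12501, 11909), (12502, 12709), (12503, 12461), (12504, 12462), (12505, 12056), (12506, 12057), (12507, 12058), (12508, 12632), (12509, 12633), (12510, 12634), (12511, 12013), (12512, 12014), (12513, 12015), (12514, 12063), (12515, 12064), (12516, 12065), (12517, 12066), (12518, 12067), (12519,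 12068), (12520, 12069), (12521, 12130), (12522, 11957), (12523, 11959), (12524, 11960), (12525, 12001), (12526, 12002), (12527, 11961), (12528, 11962), (12529, 11965), (12530, 11966), (12531, 12419), (12532, 11970), (12533, 11971), (12534, 12607), (12535, 11973), (12536, 12770), (12537, 12771), (12538, 11947), (12539, 11948), (12540, 12663), (12541, 13048), (12542, 13049), (12543, 13050)]
    ⟨e3 q12480 L198221 q11885, e3 q12481 L198229 q11886, e3 q12482 (flp_i L203332) q12997, e3 q12483 (flp_i L203346) q12998, e3 q12484 (flp_i L203356) q12999, e3 q12485 L198269 q11892, e3 q12486 L198275 q11893, e3 q12487 L198285 q11894, e3 q12488 L198293 q11895, e3 q12489 (flp_i L200544) q12697, e3 q12490 L198307 q11896, e3 q12491 (flp_i L203388) q13002, e3 q12492 (flp_i L203400) q13003, e3 q12493 (flp_i L203412) q13004, e3 q12494 (flp_i L203428) q13006, e3 q12495 (flp_i L203438) q13007, e3 q12496 (flp_i L200237) q12662, e3 q12497 (flp_i L201373) q12782, e3 q12498 (flp_i L201087) q12754, e3 q12499 (flp_i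 L198369) q12249, e3 q12500 (flp_i L201247) q12769, e3 q12501 L198381 q11909, e3 q12502 (flp_i L200644) q12709, e3 q12503 L198406 q12461, e3 q12504 L198418 q12462, e3 q12505 L198431 q12056, e3 q12506 L198447 q12057, e3 q12507 L198459 q12058, e3 q12508 (flp_i L199900) q12632, e3 q12509 (flp_i L199913) q12633, e3 q12510 (flp_i L199925) q12634, e3 q12511 L198495 q12013, e3 q12512 L198511 q12014, e3 q12513 L198523 q12015, e3 q12514 L198537 q12063, e3 q12515 L198553 q12064, e3 q12516 L198565 q12065, e3 q12517 L198581 q12066, e3 q12518 L198591 q12067, e3 q12519 L198603 q12068, e3 q12520 L198611 q12069, e3 q12521 L198623 q12130, e3 q12522 L198639 q11957, e3 q12523 L198653 q11959, e3 q12524 L198667 q11960, e3 q12525 L198683 q12001, e3 q12526 L198695 q12002, e3 q12527 L198709 q11961, e3 q12528 L198723 q11962, e3 q12529 L198737 q11965, e3 q12530 L198751 q11966, e3 q12531 L198767 q12419, e3 q12532 L198783 q11970, e3 q12533 L198797 q11971, e3 q12534 (flp_i L199667) q12607, e3 q12535 L198821 q11973, e3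 q12536 (flp_i L201261) q12770, e3 q12537 (flp_i L201273) q12771, e3 q12538 L198855 q11947, e3 q12539 L198867 q11948, e3 q12540 (flp_i L200251) q12663, e3 q12541 (flp_i L203956) q13048, e3 q12542 (flp_i L203971) q13049, e3 q12543 (flp_i L203983) q13050, trivial⟩ (by decide +kernel)

theorem ce_i_196 : ∀ r, r < 64 → sm gi (Qf (12544 + r)) = Qf (tab Gen.i (12544 + r)) :=
  edges_tab (sm gi) Qf (tab Gen.i) 12544 [(12544, 11984), (12545, 11985), (12546, 11987), (12547, 11988), (12548, 12190), (12549, 12140), (12550, 12141), (12551, 12250), (12552, 13036), (12553, 13040), (12554, 12252), (12555, 12331), (12556, 13041), (12557, 12474), (12558, 12895), (12559, 12236), (12560, 13043), (12561, 12865), (12562, 12747), (12563, 11976), (12564, 13062), (12565, 11981), (12566, 11982), (12567, 12873), (12568, 12885), (12569, 13063), (12570, 12221), (12571, 13055), (12572, 12103), (12573, 13056), (12574, 12575), (12575, 12574), (12576, 12229), (12577, 12714), (12578, 12198), (12579, 12367), (12580, 12191),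 (12581, 12192), (12582, 12308), (12583, 13037), (12584, 13038), (12585, 13039), (12586, 12178), (12587, 12356), (12588, 12357), (12589, 12369), (12590, 12335), (12591, 12351), (12592, 12792), (12593, 12379), (12594, 13024), (12595, 13025), (12596, 13026), (12597, 13027), (12598, 12075), (12599, 12076), (12600, 12874), (12601, 12023), (12602, 12024), (12603, 13088), (12604, 13089), (12605, 12104), (12606, 12106), (12607, 12534)]
    ⟨e3 q12544 L198912 q11984, e3 q12545 L198926 q11985, e3 q12546 L198940 q11987, e3 q12547 L198952 q11988, e3 q12548 L198966 q12190, e3 q12549 L198980 q12140, e3 q12550 L198994 q12141, e3 q12551 L199010 q12250, e3 q12552 (flp_i L203788) q13036, e3 q12553 (flp_i L203849) q13040, e3 q12554 L199052 q12252, e3 q12555 L199068 q12331, e3 q12556 (flp_i L203865) q13041, e3 q12557 L199094 q12474, e3 q12558 (flp_i L202476) q12895, e3 q12559 L199120 q12236, e3 q12560 (flp_i L203899) q13043, e3 q12561 (flp_i L202154) q12865, e3 q12562 (flp_i L201012) q12747, e3 q12563 L199170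 q11976, e3 q12564 (flp_i L204146) q13062, e3 q12565 L199190 q11981, e3 q12566 L199198 q11982, e3 q12567 (flp_i L202240) q12873, e3 q12568 (flp_i L202366) q12885, e3 q12569 (flp_i L204156) q13063, e3 q12570 L199244 q12221, e3 q12571 (flp_i L204038) q13055, e3 q12572 L199270 q12103, e3 q12573 (flp_i L204054) q13056, e3 q12574 (flp_i L199312) q12575, e3 q12575 L199312 q12574, e3 q12576 L199328 q12229, e3 q12577 (flp_i L200710) q12714, e3 q12578 L199354 q12198, e3 q12579 L199368 q12367, e3 q12580 L199382 q12191, e3 q12581 L199392 q12192, e3 q12582 L199404 q12308, e3 q12583 (flp_i L203800) q13037, e3 q12584 (flp_i L203817) q13038, e3 q12585 (flp_i L203833) q13039, e3 q12586 L199435 q12178, e3 q12587 L199443 q12356, e3 q12588 L199455 q12357, e3 q12589 L199467 q12369, e3 q12590 L199475 q12335, e3 q12591 L199487 q12351, e3 q12592 (flp_i L201475) q12792, e3 q12593 L199508 q12379, e3 q12594 (flp_i L203630) q13024, e3 q12595 (flp_i L203638) q13025, e3 q12596 (flp_i L203653) q13026, e3 q12597 (flp_i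 L203669) q13027, e3 q12598 L199557 q12075, e3 q12599 L199569 q12076, e3 q12600 (flp_i L202254) q12874, e3 q12601 L199595 q12023, e3 q12602 L199609 q12024, e3 q12603 (flp_i L204463) q13088, e3 q12604 (flp_i L204475) q13089, e3 q12605 L199643 q12104, e3 q12606 L199657 q12106, e3 q12607 L199667 q12534, trivial⟩ (by decide +kernel)

theorem ce_i_197 : ∀ r, r < 64 → sm gi (Qf (12608 + r)) = Qf (tab Gen.i (12608 + r)) :=
  edges_tab (sm gi) Qf (tab Gen.i) 12608 [(12608, 12609), (12609, 12608), (12610, 12033), (12611, 12034), (12612, 12035), (12613, 13095), (12614, 13096), (12615, 13097), (12616, 13098), (12617, 12039), (12618, 12040), (12619, 12041), (12620, 12042), (12621, 12043), (12622, 13103), (12623, 13104), (12624, 13105), (12625, 13106), (12626, 13108), (12627, 12125), (12628, 12126), (12629, 12127), (12630, 12128), (12631, 12129), (12632, 12508), (12633, 12509), (12634, 12510), (12635, 12142), (12636, 13017), (12637, 13018), (12638, 13019), (12639, 13020), (12640, 12195), (12641, 12434),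 (12642, 12822), (12643, 13028), (12644, 13029), (12645, 13030), (12646, 13031), (12647, 13032), (12648, 13033), (12649, 13034), (12650, 12207), (12651, 12411), (12652, 12412), (12653, 12414), (12654, 13086), (12655, 12664), (12656, 12080), (12657, 12081), (12658, 13133), (12659, 13134), (12660, 13135), (12661, 12360), (12662, 12496), (12663, 12540), (12664, 12655), (12665, 12853), (12666, 12854), (12667, 12091), (12668, 12092), (12669, 13144), (12670, 13145), (12671, 13146)]
    ⟨e3 q12608 (flp_i L199683) q12609, e3 q12609 L199683 q12608, e3 q12610 L199696 q12033, e3 q12611 L199710 q12034, e3 q12612 L199718 q12035, e3 q12613 (flp_i L204542) q13095, e3 q12614 (flp_i L204548) q13096, e3 q12615 (flp_i L204561) q13097, e3 q12616 (flp_i L204573) q13098, e3 q12617 L199762 q12039, e3 q12618 L199774 q12040, e3 q12619 L199778 q12041, e3 q12620 L199787 q12042, e3 q12621 L199793 q12043, e3 q12622 (flp_i L204624) q13103, e3 q12623 (flp_i L204630) q13104, e3 q12624 (flp_i L204641) q13105, e3 q12625 (flp_i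 L204647) q13106, e3 q12626 (flp_i L204668) q13108, e3 q12627 L199844 q12125, e3 q12628 L199858 q12126, e3 q12629 L199868 q12127, e3 q12630 L199880 q12128, e3 q12631 L199892 q12129, e3 q12632 L199900 q12508, e3 q12633 L199913 q12509, e3 q12634 L199925 q12510, e3 q12635 L199939 q12142, e3 q12636 (flp_i L203550) q13017, e3 q12637 (flp_i L203558) q13018, e3 q12638 (flp_i L203571) q13019, e3 q12639 (flp_i L203587) q13020, e3 q12640 L200000 q12195, e3 q12641 L200014 q12434, e3 q12642 (flp_i L201780) q12822, e3 q12643 (flp_i L203685) q13028, e3 q12644 (flp_i L203693) q13029, e3 q12645 (flp_i L203707) q13030, e3 q12646 (flp_i L203723) q13031, e3 q12647 (flp_i L203737) q13032, e3 q12648 (flp_i L203747) q13033, e3 q12649 (flp_i L203757) q13034, e3 q12650 L200108 q12207, e3 q12651 L200122 q12411, e3 q12652 L200136 q12412, e3 q12653 L200148 q12414, e3 q12654 (flp_i L204435) q13086, e3 q12655 (flp_i L200261) q12664, e3 q12656 L200180 q12080, e3 q12657 L200192 q12081, e3 q12658 (flp_i L204953) q13133,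 e3 q12659 (flp_i L204966) q13134, e3 q12660 (flp_i L204978) q13135, e3 q12661 L200227 q12360, e3 q12662 L200237 q12496, e3 q12663 L200251 q12540, e3 q12664 L200261 q12655, e3 q12665 (flp_i L202060) q12853, e3 q12666 (flp_i L202068) q12854, e3 q12667 L200293 q12091, e3 q12668 L200303 q12092, e3 q12669 (flp_i L205074) q13144, e3 q12670 (flp_i L205085) q13145, e3 q12671 (flp_i L205099) q13146, trivial⟩ (by decide +kernel)

theorem ce_i_198 : ∀ r, r < 64 → sm gi (Qf (12672 + r)) = Qf (tab Gen.i (12672 + r)) :=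
  edges_tab (sm gi) Qf (tab Gen.i) 12672 [(12672, 12096), (12673, 12097), (12674, 12098), (12675, 12099), (12676, 13150), (12677, 13151), (12678, 13152), (12679, 13153), (12680, 12343), (12681, 12344), (12682, 12415), (12683, 13162), (12684, 13066), (12685, 12223), (12686, 12867), (12687, 12866), (12688, 12112), (12689, 12113), (12690, 12114), (12691, 13163), (12692, 13164), (12693, 12120), (12694, 12121), (12695, 12122), (12696, 12123), (12697, 12489), (12698, 12124), (12699, 13166), (12700, 13167), (12701, 13168), (12702, 13169), (12703, 13171), (12704, 13172), (12705, 13115), (12706, 13116), (12707, 12134), (12708, 12135), (12709, 12502), (12710, 13179), (12711, 12136), (12712, 12251), (12713, 13057), (12714, 12577), (12715, 12721), (12716, 12722), (12717, 12723), (12718, 12808), (12719, 12441), (12720, 12442), (12721, 12715), (12722, 12716), (12723, 12717), (12724, 12380), (12725, 12381), (12726, 12896), (12727, 12897), (12728, 12898), (12729, 12899), (12730, 12900), (12731, 12901),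 (12732, 12903), (12733, 12162), (12734, 13198), (12735, 12909)]
    ⟨e3 q12672 L200334 q12096, e3 q12673 L200338 q12097, e3 q12674 L200345 q12098, e3 q12675 L200351 q12099, e3 q12676 (flp_i L205128) q13150, e3 q12677 (flp_i L205139) q13151, e3 q12678 (flp_i L205145) q13152, e3 q12679 (flp_i L205151) q13153, e3 q12680 L200388 q12343, e3 q12681 L200402 q12344, e3 q12682 L200416 q12415, e3 q12683 L205229 q13162, e3 q12684 (flp_i L204196) q13066, e3 q12685 L200446 q12223, e3 q12686 (flp_i L202170) q12867, e3 q12687 (flp_i L202160) q12866, e3 q12688 L200468 q12112, e3 q12689 L200474 q12113, e3 q12690 L200482 q12114, e3 q12691 (flp_i L205249) q13163, e3 q12692 (flp_i L205259) q13164, e3 q12693 L200506 q12120, e3 q12694 L200514 q12121, e3 q12695 L200522 q12122, e3 q12696 L200532 q12123, e3 q12697 L200544 q12489, e3 q12698 L200550 q12124, e3 q12699 (flp_i L205281) q13166, e3 q12700 (flp_i L205289) q13167, e3 q12701 (flp_i L205299) q13168, e3 q12702 (flp_i L205309) q13169, e3 q12703 (flp_i L205325)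 q13171, e3 q12704 (flp_i L205335) q13172, e3 q12705 (flp_i L204734) q13115, e3 q12706 (flp_i L204750) q13116, e3 q12707 L200624 q12134, e3 q12708 L200632 q12135, e3 q12709 L200644 q12502, e3 q12710 (flp_i L205399) q13179, e3 q12711 (flp_i L200655) q12136, e3 q12712 L200682 q12251, e3 q12713 (flp_i L204070) q13057, e3 q12714 L200710 q12577, e3 q12715 (flp_i L200781) q12721, e3 q12716 (flp_i L200792) q12722, e3 q12717 (flp_i L200802) q12723, e3 q12718 (flp_i L201641) q12808, e3 q12719 L200761 q12441, e3 q12720 L200771 q12442, e3 q12721 L200781 q12715, e3 q12722 L200792 q12716, e3 q12723 L200802 q12717, e3 q12724 L200816 q12380, e3 q12725 L200826 q12381, e3 q12726 (flp_i L202485) q12896, e3 q12727 (flp_i L202495) q12897, e3 q12728 (flp_i L202499) q12898, e3 q12729 (flp_i L202508) q12899, e3 q12730 (flp_i L202516) q12900, e3 q12731 (flp_i L202522) q12901, e3 q12732 (flp_i L202535) q12903, e3 q12733 L200884 q12162, e3 q12734 (flp_i L205589) q13198, e3 q12735 (flp_i L202589) q12909, trivial⟩ (by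 decide +kernel)

theorem ce_i_199 : ∀ r, r < 64 → sm gi (Qf (12736 + r)) = Qf (tab Gen.i (12736 + r)) :=
  edges_tab (sm gi) Qf (tab Gen.i) 12736 [(12736, 12910), (12737, 12911), (12738, 12912), (12739, 12913), (12740, 12914), (12741, 12915), (12742, 12916), (12743, 12917), (12744, 12197), (12745, 12208), (12746, 13076), (12747, 12562), (12748, 12183), (12749, 13207), (12750, 12185), (12751, 12793), (12752, 12794), (12753, 12795), (12754, 12498), (12755, 13069), (12756, 13070), (12757, 13071), (12758, 12362), (12759, 13123), (12760, 13213), (12761, 12196), (12762, 13068), (12763, 12200), (12764, 12204), (12765, 12205), (12766, 13214), (12767, 13215), (12768, 13216), (12769, 12500), (12770, 12536), (12771, 12537), (12772, 12213), (12773, 12214), (12774, 13222), (12775, 13223), (12776, 13224), (12777, 12217), (12778, 12218), (12779, 12219), (12780, 13227), (12781, 13229), (12782, 12497), (12783, 13232), (12784, 12224), (12785, 12786), (12786, 12785), (12787, 12230), (12788, 13067), (12789,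 12234), (12790, 12235), (12791, 13233), (12792, 12592), (12793, 12751), (12794, 12752), (12795, 12753), (12796, 12246), (12797, 12247), (12798, 12248), (12799, 13236)]
    ⟨e3 q12736 (flp_i L202601) q12910, e3 q12737 (flp_i L202607) q12911, e3 q12738 (flp_i L202621) q12912, e3 q12739 (flp_i L202637) q12913, e3 q12740 (flp_i L202645) q12914, e3 q12741 (flp_i L202651) q12915, e3 q12742 (flp_i L202659) q12916, e3 q12743 (flp_i L202671) q12917, e3 q12744 L200982 q12197, e3 q12745 L200992 q12208, e3 q12746 (flp_i L204320) q13076, e3 q12747 L201012 q12562, e3 q12748 L201028 q12183, e3 q12749 (flp_i L205683) q13207, e3 q12750 L201050 q12185, e3 q12751 (flp_i L201481) q12793, e3 q12752 (flp_i L201490) q12794, e3 q12753 (flp_i L201502) q12795, e3 q12754 L201087 q12498, e3 q12755 (flp_i L204244) q13069, e3 q12756 (flp_i L204257) q13070, e3 q12757 (flp_i L204271) q13071, e3 q12758 L201126 q12362, e3 q12759 (flp_i L204835) q13123, e3 q12760 L205739 q13213, e3 q12761 (flp_i L201154) q12196, e3 q12762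 (flp_i L204232) q13068, e3 q12763 L201184 q12200, e3 q12764 L201198 q12204, e3 q12765 L201208 q12205, e3 q12766 (flp_i L205757) q13214, e3 q12767 (flp_i L205770) q13215, e3 q12768 (flp_i L205784) q13216, e3 q12769 L201247 q12500, e3 q12770 L201261 q12536, e3 q12771 L201273 q12537, e3 q12772 L201289 q12213, e3 q12773 L201301 q12214, e3 q12774 (flp_i L205855) q13222, e3 q12775 (flp_i L205872) q13223, e3 q12776 (flp_i L205888) q13224, e3 q12777 L201332 q12217, e3 q12778 L201343 q12218, e3 q12779 L201349 q12219, e3 q12780 (flp_i L205914) q13227, e3 q12781 (flp_i L205931) q13229, e3 q12782 L201373 q12497, e3 q12783 L205944 q13232, e3 q12784 (flp_i L201379) q12224, e3 q12785 (flp_i L201395) q12786, e3 q12786 L201395 q12785, e3 q12787 L201407 q12230, e3 q12788 (flp_i L204214) q13067, e3 q12789 L201433 q12234, e3 q12790 L201447 q12235, e3 q12791 (flp_i L205958) q13233, e3 q12792 L201475 q12592, e3 q12793 L201481 q12751, e3 q12794 L201490 q12752, e3 q12795 L201502 q12753, e3 q12796 L201512 q12246,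 e3 q12797 L201529 q12247, e3 q12798 L201545 q12248, e3 q12799 (flp_i L205990) q13236, trivial⟩ (by decide +kernel)

theorem ce_i_200 : ∀ r, r < 64 → sm gi (Qf (12800 + r)) = Qf (tab Gen.i (12800 + r)) :=
  edges_tab (sm gi) Qf (tab Gen.i) 12800 [(12800, 13237), (12801, 13012), (12802, 13058), (12803, 12254), (12804, 12819), (12805, 12820), (12806, 12821), (12807, 12809), (12808, 12718), (12809, 12807), (12810, 12266), (12811, 12267), (12812, 12268), (12813, 13244), (12814, 13245), (12815, 13246), (12816, 13247), (12817, 13248), (12818, 12370), (12819, 12804), (12820, 12805), (12821, 12806), (12822, 12642), (12823, 12277), (12824, 12278), (12825, 12279), (12826, 13257), (12827, 12976), (12828, 13258), (12829, 13259), (12830, 12283), (12831, 12284), (12832, 12285), (12833, 12286), (12834, 13263), (12835, 13264), (12836, 13265), (12837, 12974), (12838, 12975), (12839, 12977), (12840, 12978), (12841, 12979), (12842, 12980), (12843, 12981), (12844, 12299), (12845, 12300), (12846, 12301), (12847,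 13272), (12848, 13273), (12849, 13274), (12850, 13275), (12851, 12345), (12852, 12346), (12853, 12665), (12854, 12666), (12855, 12309), (12856, 13072), (12857, 13073), (12858, 13284), (12859, 12312), (12860, 12313), (12861, 12314), (12862, 13287), (12863, 13288)]
    ⟨e3 q12800 (flp_i L206004) q13237, e3 q12801 L203482 q13012, e3 q12802 (flp_i L204088) q13058, e3 q12803 L201589 q12254, e3 q12804 (flp_i L201754) q12819, e3 q12805 (flp_i L201762) q12820, e3 q12806 (flp_i L201768) q12821, e3 q12807 (flp_i L201651) q12809, e3 q12808 L201641 q12718, e3 q12809 L201651 q12807, e3 q12810 L201664 q12266, e3 q12811 L201678 q12267, e3 q12812 L201690 q12268, e3 q12813 (flp_i L206076) q13244, e3 q12814 (flp_i L206090) q13245, e3 q12815 (flp_i L206098) q13246, e3 q12816 (flp_i L206113) q13247, e3 q12817 (flp_i L206129) q13248, e3 q12818 L201744 q12370, e3 q12819 L201754 q12804, e3 q12820 L201762 q12805, e3 q12821 L201768 q12806, e3 q12822 L201780 q12642, e3 q12823 L201794 q12277, e3 q12824 L201808 q12278,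 e3 q12825 L201820 q12279, e3 q12826 (flp_i L206218) q13257, e3 q12827 (flp_i L203156) q12976, e3 q12828 (flp_i L206228) q13258, e3 q12829 (flp_i L206244) q13259, e3 q12830 L201860 q12283, e3 q12831 L201868 q12284, e3 q12832 L201874 q12285, e3 q12833 L201880 q12286, e3 q12834 (flp_i L206280) q13263, e3 q12835 (flp_i L206288) q13264, e3 q12836 (flp_i L206294) q13265, e3 q12837 (flp_i L203132) q12974, e3 q12838 (flp_i L203144) q12975, e3 q12839 (flp_i L203168) q12977, e3 q12840 (flp_i L203180) q12978, e3 q12841 (flp_i L203188) q12979, e3 q12842 (flp_i L203194) q12980, e3 q12843 (flp_i L203200) q12981, e3 q12844 L201961 q12299, e3 q12845 L201977 q12300, e3 q12846 L201989 q12301, e3 q12847 (flp_i L206356) q13272, e3 q12848 (flp_i L206364) q13273, e3 q12849 (flp_i L206379) q13274, e3 q12850 (flp_i L206391) q13275, e3 q12851 L202036 q12345, e3 q12852 L202046 q12346, e3 q12853 L202060 q12665, e3 q12854 L202068 q12666, e3 q12855 L202082 q12309, e3 q12856 (flp_i L204279) q13072, e3 q12857 (flp_i L204292)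 q13073, e3 q12858 (flp_i L206497) q13284, e3 q12859 L202109 q12312, e3 q12860 L202118 q12313, e3 q12861 L202126 q12314, e3 q12862 (flp_i L206517) q13287, e3 q12863 (flp_i L206525) q13288, trivial⟩ (by decide +kernel)

theorem ce_i_201 : ∀ r, r < 64 → sm gi (Qf (12864 + r)) = Qf (tab Gen.i (12864 + r)) :=
  edges_tab (sm gi) Qf (tab Gen.i) 12864 [(12864, 12361), (12865, 12561), (12866, 12687), (12867, 12686), (12868, 12322), (12869, 12476), (12870, 12477), (12871, 12475), (12872, 12329), (12873, 12567), (12874, 12600), (12875, 12336), (12876, 13080), (12877, 13295), (12878, 12340), (12879, 12341), (12880, 12342), (12881, 13297), (12882, 13298), (12883, 13159), (12884, 13280), (12885, 12568), (12886, 12887), (12887, 12886), (12888, 12352), (12889, 13081), (12890, 12358), (12891, 12359), (12892, 13077), (12893, 13079), (12894, 13301), (12895, 12558), (12896, 12726), (12897, 12727), (12898, 12728), (12899, 12729), (12900, 12730), (12901, 12731), (12902, 13312), (12903, 12732), (12904, 13035),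 (12905, 13078), (12906, 13188), (12907, 13189), (12908, 13190), (12909, 12735), (12910, 12736), (12911, 12737), (12912, 12738), (12913, 12739), (12914, 12740), (12915, 12741), (12916, 12742), (12917, 12743), (12918, 12416), (12919, 13326), (12920, 12393), (12921, 12398), (12922, 12399), (12923, 12400), (12924, 12401), (12925, 13327), (12926, 13328), (12927, 13329)]
    ⟨e3 q12864 L202148 q12361, e3 q12865 L202154 q12561, e3 q12866 L202160 q12687, e3 q12867 L202170 q12686, e3 q12868 L202182 q12322, e3 q12869 L202190 q12476, e3 q12870 L202198 q12477, e3 q12871 L202212 q12475, e3 q12872 L202224 q12329, e3 q12873 L202240 q12567, e3 q12874 L202254 q12600, e3 q12875 L202268 q12336, e3 q12876 (flp_i L204368) q13080, e3 q12877 (flp_i L206596) q13295, e3 q12878 L202298 q12340, e3 q12879 L202310 q12341, e3 q12880 L202318 q12342, e3 q12881 (flp_i L206618) q13297, e3 q12882 (flp_i L206628) q13298, e3 q12883 (flp_i L205197) q13159, e3 q12884 (flp_i L206446) q13280, e3 q12885 L202366 q12568, e3 q12886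 (flp_i L202386) q12887, e3 q12887 L202386 q12886, e3 q12888 L202398 q12352, e3 q12889 (flp_i L204382) q13081, e3 q12890 L202422 q12358, e3 q12891 L202428 q12359, e3 q12892 (flp_i L204332) q13077, e3 q12893 (flp_i L204356) q13079, e3 q12894 (flp_i L206664) q13301, e3 q12895 L202476 q12558, e3 q12896 L202485 q12726, e3 q12897 L202495 q12727, e3 q12898 L202499 q12728, e3 q12899 L202508 q12729, e3 q12900 L202516 q12730, e3 q12901 L202522 q12731, e3 q12902 L206745 q13312, e3 q12903 L202535 q12732, e3 q12904 (flp_i L203774) q13035, e3 q12905 (flp_i L204346) q13078, e3 q12906 (flp_i L205500) q13188, e3 q12907 (flp_i L205515) q13189, e3 q12908 (flp_i L205529) q13190, e3 q12909 L202589 q12735, e3 q12910 L202601 q12736, e3 q12911 L202607 q12737, e3 q12912 L202621 q12738, e3 q12913 L202637 q12739, e3 q12914 L202645 q12740, e3 q12915 L202651 q12741, e3 q12916 L202659 q12742, e3 q12917 L202671 q12743, e3 q12918 L202677 q12416, e3 q12919 L206871 q13326, e3 q12920 (flp_i L202683) q12393, e3 q12921 L202697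 q12398, e3 q12922 L202703 q12399, e3 q12923 L202714 q12400, e3 q12924 L202722 q12401, e3 q12925 (flp_i L206883) q13327, e3 q12926 (flp_i L206892) q13328, e3 q12927 (flp_i L206900) q13329, trivial⟩ (by decide +kernel)

theorem ce_i_202 : ∀ r, r < 64 → sm gi (Qf (12928 + r)) = Qf (tab Gen.i (12928 + r)) :=
  edges_tab (sm gi) Qf (tab Gen.i) 12928 [(12928, 13330), (12929, 12435), (12930, 12407), (12931, 12408), (12932, 12409), (12933, 12410), (12934, 13336), (12935, 13337), (12936, 13338), (12937, 13346), (12938, 13340), (12939, 13130), (12940, 13131), (12941, 13348), (12942, 12413), (12943, 13160), (12944, 13351), (12945, 13352), (12946, 12417), (12947, 13042), (12948, 12422), (12949, 12423), (12950, 13353), (12951, 12429), (12952, 12430), (12953, 12431), (12954, 12432), (12955, 12433), (12956, 13354), (12957, 13355), (12958, 13356), (12959, 13357), (12960, 12438), (12961, 13183), (12962, 13184), (12963, 13185), (12964, 12446), (12965, 12447), (12966, 12448), (12967, 12449), (12968, 12450),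 (12969, 13361), (12970, 13362), (12971, 13363), (12972, 13364), (12973, 13365), (12974, 12837), (12975, 12838), (12976, 12827), (12977, 12839), (12978, 12840), (12979, 12841), (12980, 12842), (12981, 12843), (12982, 13014), (12983, 13015), (12984, 13016), (12985, 12465), (12986, 12466), (12987, 12467), (12988, 13379), (12989, 13380), (12990, 12471), (12991, 13107)]
    ⟨e3 q12928 (flp_i L206910) q13330, e3 q12929 L202753 q12435, e3 q12930 L202761 q12407, e3 q12931 L202765 q12408, e3 q12932 L202774 q12409, e3 q12933 L202782 q12410, e3 q12934 (flp_i L206948) q13336, e3 q12935 (flp_i L206957) q13337, e3 q12936 (flp_i L206965) q13338, e3 q12937 L207011 q13346, e3 q12938 (flp_i L206976) q13340, e3 q12939 (flp_i L204915) q13130, e3 q12940 (flp_i L204931) q13131, e3 q12941 L207026 q13348, e3 q12942 (flp_i L202834) q12413, e3 q12943 (flp_i L205213) q13160, e3 q12944 L207056 q13351, e3 q12945 L207066 q13352, e3 q12946 (flp_i L202866) q12417, e3 q12947 (flp_i L203883) q13042, e3 q12948 L202894 q12422,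 e3 q12949 L202904 q12423, e3 q12950 (flp_i L207084) q13353, e3 q12951 L202924 q12429, e3 q12952 L202932 q12430, e3 q12953 L202940 q12431, e3 q12954 L202950 q12432, e3 q12955 L202960 q12433, e3 q12956 (flp_i L207094) q13354, e3 q12957 (flp_i L207104) q13355, e3 q12958 (flp_i L207112) q13356, e3 q12959 (flp_i L207124) q13357, e3 q12960 L203014 q12438, e3 q12961 (flp_i L205445) q13183, e3 q12962 (flp_i L205456) q13184, e3 q12963 (flp_i L205470) q13185, e3 q12964 L203056 q12446, e3 q12965 L203066 q12447, e3 q12966 L203070 q12448, e3 q12967 L203081 q12449, e3 q12968 L203089 q12450, e3 q12969 (flp_i L207168) q13361, e3 q12970 (flp_i L207174) q13362, e3 q12971 (flp_i L207187) q13363, e3 q12972 (flp_i L207195) q13364, e3 q12973 (flp_i L207203) q13365, e3 q12974 L203132 q12837, e3 q12975 L203144 q12838, e3 q12976 L203156 q12827, e3 q12977 L203168 q12839, e3 q12978 L203180 q12840, e3 q12979 L203188 q12841, e3 q12980 L203194 q12842, e3 q12981 L203200 q12843, e3 q12982 (flp_i L203501) q13014, e3 q12983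 (flp_i L203518) q13015, e3 q12984 (flp_i L203534) q13016, e3 q12985 L203243 q12465, e3 q12986 L203252 q12466, e3 q12987 L203262 q12467, e3 q12988 (flp_i L207335) q13379, e3 q12989 (flp_i L207345) q13380, e3 q12990 L203280 q12471, e3 q12991 (flp_i L204660) q13107, trivial⟩ (by decide +kernel)

theorem ce_i_203 : ∀ r, r < 64 → sm gi (Qf (12992 + r)) = Qf (tab Gen.i (12992 + r)) :=
  edges_tab (sm gi) Qf (tab Gen.i) 12992 [(12992, 12472), (12993, 13383), (12994, 13384), (12995, 13059), (12996, 13292), (12997, 12482), (12998, 12483), (12999, 12484), (13000, 13387), (13001, 13388), (13002, 12491), (13003, 12492), (13004, 12493), (13005, 13170), (13006, 12494), (13007, 12495), (13008, 13173), (13009, 13389), (13010, 13391), (13011, 13392), (13012, 12801), (13013, 13180), (13014, 12982), (13015, 12983), (13016, 12984), (13017, 12636), (13018, 12637), (13019, 12638), (13020, 12639), (13021, 13117), (13022, 13091), (13023, 13118), (13024, 12594), (13025, 12595), (13026, 12596), (13027, 12597), (13028,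 12643), (13029, 12644), (13030, 12645), (13031, 12646), (13032, 12647), (13033, 12648), (13034, 12649), (13035, 12904), (13036, 12552), (13037, 12583), (13038, 12584), (13039, 12585), (13040, 12553), (13041, 12556), (13042, 12947), (13043, 12560), (13044, 13092), (13045, 13219), (13046, 13220), (13047, 13221), (13048, 12541), (13049, 12542), (13050, 12543), (13051, 13138), (13052, 13139), (13053, 13420), (13054, 13421), (13055, 12571)]
    ⟨e3 q12992 L203293 q12472, e3 q12993 (flp_i L207358) q13383, e3 q12994 (flp_i L207365) q13384, e3 q12995 (flp_i L204104) q13059, e3 q12996 (flp_i L206550) q13292, e3 q12997 L203332 q12482, e3 q12998 L203346 q12483, e3 q12999 L203356 q12484, e3 q13000 (flp_i L207389) q13387, e3 q13001 (flp_i L207403) q13388, e3 q13002 L203388 q12491, e3 q13003 L203400 q12492, e3 q13004 L203412 q12493, e3 q13005 (flp_i L205319) q13170, e3 q13006 L203428 q12494, e3 q13007 L203438 q12495, e3 q13008 (flp_i L205347) q13173, e3 q13009 (flp_i L207415) q13389, e3 q13010 (flp_i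 L207435) q13391, e3 q13011 (flp_i L207447) q13392, e3 q13012 (flp_i L203482) q12801, e3 q13013 (flp_i L205417) q13180, e3 q13014 L203501 q12982, e3 q13015 L203518 q12983, e3 q13016 L203534 q12984, e3 q13017 L203550 q12636, e3 q13018 L203558 q12637, e3 q13019 L203571 q12638, e3 q13020 L203587 q12639, e3 q13021 (flp_i L204762) q13117, e3 q13022 (flp_i L204495) q13091, e3 q13023 (flp_i L204774) q13118, e3 q13024 L203630 q12594, e3 q13025 L203638 q12595, e3 q13026 L203653 q12596, e3 q13027 L203669 q12597, e3 q13028 L203685 q12643, e3 q13029 L203693 q12644, e3 q13030 L203707 q12645, e3 q13031 L203723 q12646, e3 q13032 L203737 q12647, e3 q13033 L203747 q12648, e3 q13034 L203757 q12649, e3 q13035 L203774 q12904, e3 q13036 L203788 q12552, e3 q13037 L203800 q12583, e3 q13038 L203817 q12584, e3 q13039 L203833 q12585, e3 q13040 L203849 q12553, e3 q13041 L203865 q12556, e3 q13042 L203883 q12947, e3 q13043 L203899 q12560, e3 q13044 (flp_i L204508) q13092, e3 q13045 (flp_i L205812) q13219, e3 q13046 (flp_i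 L205829) q13220, e3 q13047 (flp_i L205845) q13221, e3 q13048 L203956 q12541, e3 q13049 L203971 q12542, e3 q13050 L203983 q12543, e3 q13051 (flp_i L205004) q13138, e3 q13052 (flp_i L205017) q13139, e3 q13053 (flp_i L207790) q13420, e3 q13054 (flp_i L207800) q13421, e3 q13055 L204038 q12571, trivial⟩ (by decide +kernel)

theorem ce_i_204 : ∀ r, r < 64 → sm gi (Qf (13056 + r)) = Qf (tab Gen.i (13056 + r)) :=
  edges_tab (sm gi) Qf (tab Gen.i) 13056 [(13056, 12573), (13057, 12713), (13058, 12802), (13059, 12995), (13060, 13291), (13061, 13206), (13062, 12564), (13063, 12569), (13064, 13293), (13065, 13300), (13066, 12684), (13067, 12788), (13068, 12762), (13069, 12755), (13070, 12756), (13071, 12757), (13072, 12856), (13073, 12857), (13074, 13415), (13075, 13416), (13076, 12746), (13077, 12892), (13078, 12905), (13079, 12893), (13080, 12876), (13081, 12889), (13082, 13405), (13083, 13406), (13084, 13407), (13085, 13408), (13086, 12654), (13087, 13294), (13088, 12603), (13089, 12604), (13090,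 13441), (13091, 13022), (13092, 13044), (13093, 13094), (13094, 13093), (13095, 12613), (13096, 12614), (13097, 12615), (13098, 12616), (13099, 13444), (13100, 13445), (13101, 13446), (13102, 13447), (13103, 12622), (13104, 12623), (13105, 12624), (13106, 12625), (13107, 12991), (13108, 12626), (13109, 13453), (13110, 13454), (13111, 13455), (13112, 13457), (13113, 13458), (13114, 13459), (13115, 12705), (13116, 12706), (13117, 13021), (13118, 13023), (13119, 13398)]
    ⟨e3 q13056 L204054 q12573, e3 q13057 L204070 q12713, e3 q13058 L204088 q12802, e3 q13059 L204104 q12995, e3 q13060 (flp_i L206542) q13291, e3 q13061 (flp_i L205665) q13206, e3 q13062 L204146 q12564, e3 q13063 L204156 q12569, e3 q13064 (flp_i L206566) q13293, e3 q13065 (flp_i L206652) q13300, e3 q13066 L204196 q12684, e3 q13067 L204214 q12788, e3 q13068 L204232 q12762, e3 q13069 L204244 q12755, e3 q13070 L204257 q12756, e3 q13071 L204271 q12757, e3 q13072 L204279 q12856, e3 q13073 L204292 q12857, e3 q13074 (flp_i L207724)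 q13415, e3 q13075 (flp_i L207738) q13416, e3 q13076 L204320 q12746, e3 q13077 L204332 q12892, e3 q13078 L204346 q12905, e3 q13079 L204356 q12893, e3 q13080 L204368 q12876, e3 q13081 L204382 q12889, e3 q13082 (flp_i L207585) q13405, e3 q13083 (flp_i L207600) q13406, e3 q13084 (flp_i L207614) q13407, e3 q13085 (flp_i L207626) q13408, e3 q13086 L204435 q12654, e3 q13087 (flp_i L206582) q13294, e3 q13088 L204463 q12603, e3 q13089 L204475 q12604, e3 q13090 (flp_i L208022) q13441, e3 q13091 L204495 q13022, e3 q13092 L204508 q13044, e3 q13093 (flp_i L204526) q13094, e3 q13094 L204526 q13093, e3 q13095 L204542 q12613, e3 q13096 L204548 q12614, e3 q13097 L204561 q12615, e3 q13098 L204573 q12616, e3 q13099 (flp_i L208052) q13444, e3 q13100 (flp_i L208067) q13445, e3 q13101 (flp_i L208079) q13446, e3 q13102 (flp_i L208089) q13447, e3 q13103 L204624 q12622, e3 q13104 L204630 q12623, e3 q13105 L204641 q12624, e3 q13106 L204647 q12625, e3 q13107 L204660 q12991, e3 q13108 L204668 q12626, e3 q13109 (flp_i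 L208145) q13453, e3 q13110 (flp_i L208160) q13454, e3 q13111 (flp_i L208170) q13455, e3 q13112 (flp_i L208191) q13457, e3 q13113 (flp_i L208195) q13458, e3 q13114 (flp_i L208202) q13459, e3 q13115 L204734 q12705, e3 q13116 L204750 q12706, e3 q13117 L204762 q13021, e3 q13118 L204774 q13023, e3 q13119 (flp_i L207511) q13398, trivial⟩ (by decide +kernel)

theorem ce_i_205 : ∀ r, r < 64 → sm gi (Qf (13120 + r)) = Qf (tab Gen.i (13120 + r)) :=
  edges_tab (sm gi) Qf (tab Gen.i) 13120 [(13120, 13399), (13121, 13400), (13122, 13401), (13123, 12759), (13124, 13256), (13125, 13409), (13126, 13410), (13127, 13412), (13128, 13413), (13129, 13414), (13130, 12939), (13131, 12940), (13132, 13140), (13133, 12658), (13134, 12659), (13135, 12660), (13136, 13475), (13137, 13476), (13138, 13051), (13139, 13052), (13140, 13132), (13141, 13281), (13142, 13282), (13143, 13283), (13144, 12669), (13145, 12670), (13146, 12671), (13147, 13483), (13148, 13488), (13149, 13484), (13150, 12676), (13151, 12677), (13152,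 12678), (13153, 12679), (13154, 13489), (13155, 13490), (13156, 13491), (13157, 13492), (13158, 13493), (13159, 12883), (13160, 12943), (13161, 13499), (13162, 12683), (13163, 12691), (13164, 12692), (13165, 13500), (13166, 12699), (13167, 12700), (13168, 12701), (13169, 12702), (13170, 13005), (13171, 12703), (13172, 12704), (13173, 13008), (13174, 13501), (13175, 13502), (13176, 13504), (13177, 13505), (13178, 13506), (13179, 12710), (13180, 13013), (13181, 13186), (13182, 13187), (13183, 12961)]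
    ⟨e3 q13120 (flp_i L207526) q13399, e3 q13121 (flp_i L207538) q13400, e3 q13122 (flp_i L207550) q13401, e3 q13123 L204835 q12759, e3 q13124 (flp_i L206204) q13256, e3 q13125 (flp_i L207640) q13409, e3 q13126 (flp_i L207652) q13410, e3 q13127 (flp_i L207682) q13412, e3 q13128 (flp_i L207698) q13413, e3 q13129 (flp_i L207708) q13414, e3 q13130 L204915 q12939, e3 q13131 L204931 q12940, e3 q13132 (flp_i L205031) q13140, e3 q13133 L204953 q12658, e3 q13134 L204966 q12659, e3 q13135 L204978 q12660, e3 q13136 (flp_i L208377) q13475, e3 q13137 (flp_i L208387) q13476, e3 q13138 L205004 q13051, e3 q13139 L205017 q13052, e3 q13140 L205031 q13132, e3 q13141 (flp_i L206456) q13281, e3 q13142 (flp_i L206469) q13282, e3 q13143 (flp_i L206481) q13283, e3 q13144 L205074 q12669, e3 q13145 L205085 q12670, e3 q13146 L205099 q12671, e3 q13147 (flp_i L208462) q13483, e3 q13148 L208493 q13488, e3 q13149 (flp_i L208472) q13484, e3 q13150 L205128 q12676, e3 q13151 L205139 q12677, e3 q13152 L205145 q12678, e3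 q13153 L205151 q12679, e3 q13154 (flp_i L208509) q13489, e3 q13155 (flp_i L208521) q13490, e3 q13156 (flp_i L208531) q13491, e3 q13157 (flp_i L208535) q13492, e3 q13158 (flp_i L208542) q13493, e3 q13159 L205197 q12883, e3 q13160 L205213 q12943, e3 q13161 L208587 q13499, e3 q13162 (flp_i L205229) q12683, e3 q13163 L205249 q12691, e3 q13164 L205259 q12692, e3 q13165 (flp_i L208609) q13500, e3 q13166 L205281 q12699, e3 q13167 L205289 q12700, e3 q13168 L205299 q12701, e3 q13169 L205309 q12702, e3 q13170 L205319 q13005, e3 q13171 L205325 q12703, e3 q13172 L205335 q12704, e3 q13173 L205347 q13008, e3 q13174 (flp_i L208621) q13501, e3 q13175 (flp_i L208635) q13502, e3 q13176 (flp_i L208657) q13504, e3 q13177 (flp_i L208665) q13505, e3 q13178 (flp_i L208675) q13506, e3 q13179 L205399 q12710, e3 q13180 L205417 q13013, e3 q13181 (flp_i L205480) q13186, e3 q13182 (flp_i L205490) q13187, e3 q13183 L205445 q12961, trivial⟩ (by decide +kernel)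

theorem ce_i_206 : ∀ r, r < 64 → sm gi (Qf (13184 + r)) = Qf (tab Gen.i (13184 + r)) :=
  edges_tab (sm gi) Qf (tab Gen.i) 13184 [(13184, 12962), (13185, 12963), (13186, 13181), (13187, 13182), (13188, 12906), (13189, 12907), (13190, 12908), (13191, 13303), (13192, 13304), (13193, 13305), (13194, 13306), (13195, 13308), (13196, 13309), (13197, 13310), (13198, 12734), (13199, 13318), (13200, 13319), (13201, 13320), (13202, 13321), (13203, 13322), (13204, 13323), (13205, 13324), (13206, 13061), (13207, 12749), (13208, 13234), (13209, 13235), (13210, 13427), (13211, 13429), (13212, 13535), (13213, 12760), (13214, 12766), (13215, 12767), (13216, 12768), (13217, 13536), (13218, 13538), (13219, 13045), (13220, 13046), (13221, 13047), (13222, 12774), (13223, 12775), (13224, 12776), (13225, 13543), (13226, 13544), (13227, 12780), (13228, 13456), (13229, 12781), (13230, 13547), (13231, 13548), (13232, 12783), (13233, 12791), (13234, 13208), (13235, 13209), (13236, 12799), (13237, 12800), (13238,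 13553), (13239, 13554), (13240, 13254), (13241, 13255), (13242, 13243), (13243, 13242), (13244, 12813), (13245, 12814), (13246, 12815), (13247, 12816)]
    ⟨e3 q13184 L205456 q12962, e3 q13185 L205470 q12963, e3 q13186 L205480 q13181, e3 q13187 L205490 q13182, e3 q13188 L205500 q12906, e3 q13189 L205515 q12907, e3 q13190 L205529 q12908, e3 q13191 (flp_i L206688) q13303, e3 q13192 (flp_i L206694) q13304, e3 q13193 (flp_i L206703) q13305, e3 q13194 (flp_i L206711) q13306, e3 q13195 (flp_i L206726) q13308, e3 q13196 (flp_i L206730) q13309, e3 q13197 (flp_i L206737) q13310, e3 q13198 L205589 q12734, e3 q13199 (flp_i L206803) q13318, e3 q13200 (flp_i L206815) q13319, e3 q13201 (flp_i L206827) q13320, e3 q13202 (flp_i L206839) q13321, e3 q13203 (flp_i L206851) q13322, e3 q13204 (flp_i L206859) q13323, e3 q13205 (flp_i L206865) q13324, e3 q13206 L205665 q13061, e3 q13207 L205683 q12749, e3 q13208 (flp_i L205966) q13234, e3 q13209 (flp_i L205976) q13235, e3 q13210 (flp_i L207865) q13427, e3 q13211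 (flp_i L207892) q13429, e3 q13212 L208940 q13535, e3 q13213 (flp_i L205739) q12760, e3 q13214 L205757 q12766, e3 q13215 L205770 q12767, e3 q13216 L205784 q12768, e3 q13217 (flp_i L208962) q13536, e3 q13218 (flp_i L208985) q13538, e3 q13219 L205812 q13045, e3 q13220 L205829 q13046, e3 q13221 L205845 q13047, e3 q13222 L205855 q12774, e3 q13223 L205872 q12775, e3 q13224 L205888 q12776, e3 q13225 (flp_i L209046) q13543, e3 q13226 (flp_i L209060) q13544, e3 q13227 L205914 q12780, e3 q13228 (flp_i L208181) q13456, e3 q13229 L205931 q12781, e3 q13230 (flp_i L209081) q13547, e3 q13231 (flp_i L209090) q13548, e3 q13232 (flp_i L205944) q12783, e3 q13233 L205958 q12791, e3 q13234 L205966 q13208, e3 q13235 L205976 q13209, e3 q13236 L205990 q12799, e3 q13237 L206004 q12800, e3 q13238 (flp_i L209129) q13553, e3 q13239 (flp_i L209146) q13554, e3 q13240 (flp_i L206182) q13254, e3 q13241 (flp_i L206190) q13255, e3 q13242 (flp_i L206061) q13243, e3 q13243 L206061 q13242, e3 q13244 L206076 q12813, e3 q13245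 L206090 q12814, e3 q13246 L206098 q12815, e3 q13247 L206113 q12816, trivial⟩ (by decide +kernel)

theorem ce_i_207 : ∀ r, r < 64 → sm gi (Qf (13248 + r)) = Qf (tab Gen.i (13248 + r)) :=
  edges_tab (sm gi) Qf (tab Gen.i) 13248 [(13248, 12817), (13249, 13557), (13250, 13558), (13251, 13559), (13252, 13560), (13253, 13561), (13254, 13240), (13255, 13241), (13256, 13124), (13257, 12826), (13258, 12828), (13259, 12829), (13260, 13568), (13261, 13373), (13262, 13569), (13263, 12834), (13264, 12835), (13265, 12836), (13266, 13572), (13267, 13573), (13268, 13372), (13269, 13374), (13270, 13375), (13271, 13376), (13272, 12847), (13273, 12848), (13274, 12849), (13275, 12850), (13276, 13575), (13277, 13576), (13278, 13577), (13279, 13578), (13280, 12884), (13281, 13141), (13282, 13142), (13283, 13143), (13284, 12858), (13285, 13430), (13286, 13431), (13287, 12862), (13288, 12863), (13289, 13587), (13290, 13588), (13291, 13060), (13292, 12996), (13293, 13064), (13294, 13087), (13295, 12877), (13296,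 13436), (13297, 12881), (13298, 12882), (13299, 13591), (13300, 13065), (13301, 12894), (13302, 13434), (13303, 13191), (13304, 13192), (13305, 13193), (13306, 13194), (13307, 13592), (13308, 13195), (13309, 13196), (13310, 13197), (13311, 13603)]
    ⟨e3 q13248 L206129 q12817, e3 q13249 (flp_i L209182) q13557, e3 q13250 (flp_i L209190) q13558, e3 q13251 (flp_i L209205) q13559, e3 q13252 (flp_i L209219) q13560, e3 q13253 (flp_i L209231) q13561, e3 q13254 L206182 q13240, e3 q13255 L206190 q13241, e3 q13256 L206204 q13124, e3 q13257 L206218 q12826, e3 q13258 L206228 q12828, e3 q13259 L206244 q12829, e3 q13260 (flp_i L209294) q13568, e3 q13261 (flp_i L207271) q13373, e3 q13262 (flp_i L209308) q13569, e3 q13263 L206280 q12834, e3 q13264 L206288 q12835, e3 q13265 L206294 q12836, e3 q13266 (flp_i L209340) q13572, e3 q13267 (flp_i L209346) q13573, e3 q13268 (flp_i L207259) q13372, e3 q13269 (flp_i L207285) q13374, e3 q13270 (flp_i L207295) q13375, e3 q13271 (flp_i L207303) q13376, e3 q13272 L206356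 q12847, e3 q13273 L206364 q12848, e3 q13274 L206379 q12849, e3 q13275 L206391 q12850, e3 q13276 (flp_i L209366) q13575, e3 q13277 (flp_i L209381) q13576, e3 q13278 (flp_i L209395) q13577, e3 q13279 (flp_i L209405) q13578, e3 q13280 L206446 q12884, e3 q13281 L206456 q13141, e3 q13282 L206469 q13142, e3 q13283 L206481 q13143, e3 q13284 L206497 q12858, e3 q13285 (flp_i L207904) q13430, e3 q13286 (flp_i L207916) q13431, e3 q13287 L206517 q12862, e3 q13288 L206525 q12863, e3 q13289 (flp_i L209481) q13587, e3 q13290 (flp_i L209488) q13588, e3 q13291 L206542 q13060, e3 q13292 L206550 q12996, e3 q13293 L206566 q13064, e3 q13294 L206582 q13087, e3 q13295 L206596 q12877, e3 q13296 (flp_i L207969) q13436, e3 q13297 L206618 q12881, e3 q13298 L206628 q12882, e3 q13299 (flp_i L209520) q13591, e3 q13300 L206652 q13065, e3 q13301 L206664 q12894, e3 q13302 (flp_i L207943) q13434, e3 q13303 L206688 q13191, e3 q13304 L206694 q13192, e3 q13305 L206703 q13193, e3 q13306 L206711 q13194, e3 q13307 (flp_i L209530)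 q13592, e3 q13308 L206726 q13195, e3 q13309 L206730 q13196, e3 q13310 L206737 q13197, e3 q13311 L209620 q13603, trivial⟩ (by decide +kernel)

theorem ce_i_208 : ∀ r, r < 64 → sm gi (Qf (13312 + r)) = Qf (tab Gen.i (13312 + r)) :=
  edges_tab (sm gi) Qf (tab Gen.i) 13312 [(13312, 12902), (13313, 13411), (13314, 13428), (13315, 13435), (13316, 13518), (13317, 13519), (13318, 13199), (13319, 13200), (13320, 13201), (13321, 13202), (13322, 13203), (13323, 13204), (13324, 13205), (13325, 13616), (13326, 12919), (13327, 12925), (13328, 12926), (13329, 12927), (13330, 12928), (13331, 13617), (13332, 13618), (13333, 13619), (13334, 13620), (13335, 13621), (13336, 12934), (13337, 12935), (13338, 12936), (13339, 13604), (13340, 12938), (13341, 13626), (13342, 13628), (13343, 13629), (13344, 13630), (13345, 13637), (13346, 12937), (13347, 13638), (13348, 12941), (13349, 13640), (13350, 13641), (13351, 12944), (13352, 12945), (13353, 12950), (13354, 12956), (13355, 12957), (13356, 12958), (13357, 12959),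 (13358, 13642), (13359, 13514), (13360, 13515), (13361, 12969), (13362, 12970), (13363, 12971), (13364, 12972), (13365, 12973), (13366, 13627), (13367, 13645), (13368, 13646), (13369, 13647), (13370, 13648), (13371, 13649), (13372, 13268), (13373, 13261), (13374, 13269), (13375, 13270)]
    ⟨e3 q13312 (flp_i L206745) q12902, e3 q13313 (flp_i L207670) q13411, e3 q13314 (flp_i L207878) q13428, e3 q13315 (flp_i L207957) q13435, e3 q13316 (flp_i L208793) q13518, e3 q13317 (flp_i L208805) q13519, e3 q13318 L206803 q13199, e3 q13319 L206815 q13200, e3 q13320 L206827 q13201, e3 q13321 L206839 q13202, e3 q13322 L206851 q13203, e3 q13323 L206859 q13204, e3 q13324 L206865 q13205, e3 q13325 L209757 q13616, e3 q13326 (flp_i L206871) q12919, e3 q13327 L206883 q12925, e3 q13328 L206892 q12926, e3 q13329 L206900 q12927, e3 q13330 L206910 q12928, e3 q13331 (flp_i L209772) q13617, e3 q13332 (flp_i L209784) q13618, e3 q13333 (flp_i L209792) q13619, e3 q13334 (flp_i L209798) q13620, e3 q13335 (flp_i L209807)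 q13621, e3 q13336 L206948 q12934, e3 q13337 L206957 q12935, e3 q13338 L206965 q12936, e3 q13339 (flp_i L209636) q13604, e3 q13340 L206976 q12938, e3 q13341 (flp_i L209842) q13626, e3 q13342 (flp_i L209865) q13628, e3 q13343 (flp_i L209871) q13629, e3 q13344 (flp_i L209880) q13630, e3 q13345 L209920 q13637, e3 q13346 (flp_i L207011) q12937, e3 q13347 L209930 q13638, e3 q13348 (flp_i L207026) q12941, e3 q13349 L209952 q13640, e3 q13350 L209962 q13641, e3 q13351 (flp_i L207056) q12944, e3 q13352 (flp_i L207066) q12945, e3 q13353 L207084 q12950, e3 q13354 L207094 q12956, e3 q13355 L207104 q12957, e3 q13356 L207112 q12958, e3 q13357 L207124 q12959, e3 q13358 (flp_i L209982) q13642, e3 q13359 (flp_i L208752) q13514, e3 q13360 (flp_i L208762) q13515, e3 q13361 L207168 q12969, e3 q13362 L207174 q12970, e3 q13363 L207187 q12971, e3 q13364 L207195 q12972, e3 q13365 L207203 q12973, e3 q13366 (flp_i L209857) q13627, e3 q13367 (flp_i L210013) q13645, e3 q13368 (flp_i L210023) q13646, e3 q13369 (flp_i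 L210033) q13647, e3 q13370 (flp_i L210039) q13648, e3 q13371 (flp_i L210048) q13649, e3 q13372 L207259 q13268, e3 q13373 L207271 q13261, e3 q13374 L207285 q13269, e3 q13375 L207295 q13270, trivial⟩ (by decide +kernel)

theorem ce_i_209 : ∀ r, r < 64 → sm gi (Qf (13376 + r)) = Qf (tab Gen.i (13376 + r)) :=
  edges_tab (sm gi) Qf (tab Gen.i) 13376 [(13376, 13271), (13377, 13396), (13378, 13397), (13379, 12988), (13380, 12989), (13381, 13658), (13382, 13659), (13383, 12993), (13384, 12994), (13385, 13460), (13386, 13661), (13387, 13000), (13388, 13001), (13389, 13009), (13390, 13503), (13391, 13010), (13392, 13011), (13393, 13507), (13394, 13508), (13395, 13665), (13396, 13377), (13397, 13378), (13398, 13119), (13399, 13120), (13400, 13121), (13401, 13122), (13402, 13466), (13403, 13467), (13404, 13442), (13405, 13082), (13406, 13083), (13407, 13084), (13408, 13085), (13409, 13125), (13410, 13126), (13411, 13313), (13412, 13127), (13413, 13128), (13414, 13129), (13415, 13074), (13416, 13075),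 (13417, 13443), (13418, 13541), (13419, 13542), (13420, 13053), (13421, 13054), (13422, 13479), (13423, 13480), (13424, 13689), (13425, 13690), (13426, 13590), (13427, 13210), (13428, 13314), (13429, 13211), (13430, 13285), (13431, 13286), (13432, 13685), (13433, 13686), (13434, 13302), (13435, 13315), (13436, 13296), (13437, 13677), (13438, 13678), (13439, 13679)]
    ⟨e3 q13376 L207303 q13271, e3 q13377 (flp_i L207485) q13396, e3 q13378 (flp_i L207499) q13397, e3 q13379 L207335 q12988, e3 q13380 L207345 q12989, e3 q13381 (flp_i L210132) q13658, e3 q13382 (flp_i L210141) q13659, e3 q13383 L207358 q12993, e3 q13384 L207365 q12994, e3 q13385 (flp_i L208214) q13460, e3 q13386 (flp_i L210153) q13661, e3 q13387 L207389 q13000, e3 q13388 L207403 q13001, e3 q13389 L207415 q13009, e3 q13390 (flp_i L208649) q13503, e3 q13391 L207435 q13010, e3 q13392 L207447 q13011, e3 q13393 (flp_i L208685) q13507, e3 q13394 (flp_i L208697) q13508, e3 q13395 (flp_i L210181) q13665, e3 q13396 L207485 q13377, e3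 q13397 L207499 q13378, e3 q13398 L207511 q13119, e3 q13399 L207526 q13120, e3 q13400 L207538 q13121, e3 q13401 L207550 q13122, e3 q13402 (flp_i L208269) q13466, e3 q13403 (flp_i L208282) q13467, e3 q13404 (flp_i L208034) q13442, e3 q13405 L207585 q13082, e3 q13406 L207600 q13083, e3 q13407 L207614 q13084, e3 q13408 L207626 q13085, e3 q13409 L207640 q13125, e3 q13410 L207652 q13126, e3 q13411 L207670 q13313, e3 q13412 L207682 q13127, e3 q13413 L207698 q13128, e3 q13414 L207708 q13129, e3 q13415 L207724 q13074, e3 q13416 L207738 q13075, e3 q13417 (flp_i L208042) q13443, e3 q13418 (flp_i L209018) q13541, e3 q13419 (flp_i L209032) q13542, e3 q13420 L207790 q13053, e3 q13421 L207800 q13054, e3 q13422 (flp_i L208412) q13479, e3 q13423 (flp_i L208424) q13480, e3 q13424 (flp_i L210497) q13689, e3 q13425 (flp_i L210510) q13690, e3 q13426 (flp_i L209510) q13590, e3 q13427 L207865 q13210, e3 q13428 L207878 q13314, e3 q13429 L207892 q13211, e3 q13430 L207904 q13285, e3 q13431 L207916 q13286, e3 q13432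 (flp_i L210445) q13685, e3 q13433 (flp_i L210462) q13686, e3 q13434 L207943 q13302, e3 q13435 L207957 q13315, e3 q13436 L207969 q13296, e3 q13437 (flp_i L210326) q13677, e3 q13438 (flp_i L210340) q13678, e3 q13439 (flp_i L210352) q13679, trivial⟩ (by decide +kernel)

theorem ce_i_210 : ∀ r, r < 64 → sm gi (Qf (13440 + r)) = Qf (tab Gen.i (13440 + r)) :=
  edges_tab (sm gi) Qf (tab Gen.i) 13440 [(13440, 13680), (13441, 13090), (13442, 13404), (13443, 13417), (13444, 13099), (13445, 13100), (13446, 13101), (13447, 13102), (13448, 13595), (13449, 13706), (13450, 13707), (13451, 13708), (13452, 13709), (13453, 13109), (13454, 13110), (13455, 13111), (13456, 13228), (13457, 13112), (13458, 13113), (13459, 13114), (13460, 13385), (13461, 13714), (13462, 13715), (13463, 13716), (13464, 13717), (13465, 13719), (13466, 13402), (13467, 13403), (13468, 13670), (13469, 13671), (13470, 13672), (13471, 13673), (13472, 13681), (13473, 13682), (13474, 13684), (13475, 13136), (13476, 13137), (13477, 13730),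 (13478, 13731), (13479, 13422), (13480, 13423), (13481, 13583), (13482, 13584), (13483, 13147), (13484, 13149), (13485, 13737), (13486, 13738), (13487, 13742), (13488, 13148), (13489, 13154), (13490, 13155), (13491, 13156), (13492, 13157), (13493, 13158), (13494, 13743), (13495, 13744), (13496, 13745), (13497, 13746), (13498, 13751), (13499, 13161), (13500, 13165), (13501, 13174), (13502, 13175), (13503, 13390)]
    ⟨e3 q13440 (flp_i L210367) q13680, e3 q13441 L208022 q13090, e3 q13442 L208034 q13404, e3 q13443 L208042 q13417, e3 q13444 L208052 q13099, e3 q13445 L208067 q13100, e3 q13446 L208079 q13101, e3 q13447 L208089 q13102, e3 q13448 (flp_i L209568) q13595, e3 q13449 (flp_i L210683) q13706, e3 q13450 (flp_i L210697) q13707, e3 q13451 (flp_i L210707) q13708, e3 q13452 (flp_i L210720) q13709, e3 q13453 L208145 q13109, e3 q13454 L208160 q13110, e3 q13455 L208170 q13111, e3 q13456 L208181 q13228, e3 q13457 L208191 q13112, e3 q13458 L208195 q13113, e3 q13459 L208202 q13114, e3 q13460 L208214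 q13385, e3 q13461 (flp_i L210773) q13714, e3 q13462 (flp_i L210787) q13715, e3 q13463 (flp_i L210795) q13716, e3 q13464 (flp_i L210804) q13717, e3 q13465 (flp_i L210820) q13719, e3 q13466 L208269 q13402, e3 q13467 L208282 q13403, e3 q13468 (flp_i L210244) q13670, e3 q13469 (flp_i L210258) q13671, e3 q13470 (flp_i L210268) q13672, e3 q13471 (flp_i L210281) q13673, e3 q13472 (flp_i L210383) q13681, e3 q13473 (flp_i L210397) q13682, e3 q13474 (flp_i L210431) q13684, e3 q13475 L208377 q13136, e3 q13476 L208387 q13137, e3 q13477 (flp_i L210940) q13730, e3 q13478 (flp_i L210951) q13731, e3 q13479 L208412 q13422, e3 q13480 L208424 q13423, e3 q13481 (flp_i L209454) q13583, e3 q13482 (flp_i L209466) q13584, e3 q13483 L208462 q13147, e3 q13484 L208472 q13149, e3 q13485 (flp_i L211017) q13737, e3 q13486 (flp_i L211030) q13738, e3 q13487 L211061 q13742, e3 q13488 (flp_i L208493) q13148, e3 q13489 L208509 q13154, e3 q13490 L208521 q13155, e3 q13491 L208531 q13156, e3 q13492 L208535 q13157, e3 q13493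 L208542 q13158, e3 q13494 (flp_i L211079) q13743, e3 q13495 (flp_i L211085) q13744, e3 q13496 (flp_i L211094) q13745, e3 q13497 (flp_i L211100) q13746, e3 q13498 L211134 q13751, e3 q13499 (flp_i L208587) q13161, e3 q13500 L208609 q13165, e3 q13501 L208621 q13174, e3 q13502 L208635 q13175, e3 q13503 L208649 q13390, trivial⟩ (by decide +kernel)

theorem ce_i_211 : ∀ r, r < 64 → sm gi (Qf (13504 + r)) = Qf (tab Gen.i (13504 + r)) :=
  edges_tab (sm gi) Qf (tab Gen.i) 13504 [(13504, 13176), (13505, 13177), (13506, 13178), (13507, 13393), (13508, 13394), (13509, 13752), (13510, 13753), (13511, 13755), (13512, 13516), (13513, 13517), (13514, 13359), (13515, 13360), (13516, 13512), (13517, 13513), (13518, 13316), (13519, 13317), (13520, 13593), (13521, 13594), (13522, 13596), (13523, 13597), (13524, 13598), (13525, 13600), (13526, 13611), (13527, 13612), (13528, 13613), (13529, 13614), (13530, 13615), (13531, 13551), (13532, 13552), (13533, 13694), (13534, 13695), (13535, 13212), (13536, 13217),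 (13537, 13606), (13538, 13218), (13539, 13773), (13540, 13774), (13541, 13418), (13542, 13419), (13543, 13225), (13544, 13226), (13545, 13779), (13546, 13780), (13547, 13230), (13548, 13231), (13549, 13718), (13550, 13782), (13551, 13531), (13552, 13532), (13553, 13238), (13554, 13239), (13555, 13787), (13556, 13567), (13557, 13249), (13558, 13250), (13559, 13251), (13560, 13252), (13561, 13253), (13562, 13789), (13563, 13790), (13564, 13791), (13565, 13792), (13566, 13793), (13567, 13556)]
    ⟨e3 q13504 L208657 q13176, e3 q13505 L208665 q13177, e3 q13506 L208675 q13178, e3 q13507 L208685 q13393, e3 q13508 L208697 q13394, e3 q13509 (flp_i L211160) q13752, e3 q13510 (flp_i L211172) q13753, e3 q13511 (flp_i L211196) q13755, e3 q13512 (flp_i L208770) q13516, e3 q13513 (flp_i L208779) q13517, e3 q13514 L208752 q13359, e3 q13515 L208762 q13360, e3 q13516 L208770 q13512, e3 q13517 L208779 q13513, e3 q13518 L208793 q13316, e3 q13519 L208805 q13317, e3 q13520 (flp_i L209545) q13593, e3 q13521 (flp_i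 L209553) q13594, e3 q13522 (flp_i L209576) q13596, e3 q13523 (flp_i L209582) q13597, e3 q13524 (flp_i L209591) q13598, e3 q13525 (flp_i L209607) q13600, e3 q13526 (flp_i L209711) q13611, e3 q13527 (flp_i L209723) q13612, e3 q13528 (flp_i L209737) q13613, e3 q13529 (flp_i L209747) q13614, e3 q13530 (flp_i L209755) q13615, e3 q13531 (flp_i L209108) q13551, e3 q13532 (flp_i L209117) q13552, e3 q13533 (flp_i L210551) q13694, e3 q13534 (flp_i L210564) q13695, e3 q13535 (flp_i L208940) q13212, e3 q13536 L208962 q13217, e3 q13537 (flp_i L209662) q13606, e3 q13538 L208985 q13218, e3 q13539 (flp_i L211376) q13773, e3 q13540 (flp_i L211389) q13774, e3 q13541 L209018 q13418, e3 q13542 L209032 q13419, e3 q13543 L209046 q13225, e3 q13544 L209060 q13226, e3 q13545 (flp_i L211450) q13779, e3 q13546 (flp_i L211467) q13780, e3 q13547 L209081 q13230, e3 q13548 L209090 q13231, e3 q13549 (flp_i L210814) q13718, e3 q13550 (flp_i L211485) q13782, e3 q13551 L209108 q13531, e3 q13552 L209117 q13532, e3 q13553 L209129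 q13238, e3 q13554 L209146 q13239, e3 q13555 (flp_i L211529) q13787, e3 q13556 (flp_i L209282) q13567, e3 q13557 L209182 q13249, e3 q13558 L209190 q13250, e3 q13559 L209205 q13251, e3 q13560 L209219 q13252, e3 q13561 L209231 q13253, e3 q13562 (flp_i L211546) q13789, e3 q13563 (flp_i L211560) q13790, e3 q13564 (flp_i L211572) q13791, e3 q13565 (flp_i L211584) q13792, e3 q13566 (flp_i L211599) q13793, e3 q13567 L209282 q13556, trivial⟩ (by decide +kernel)

theorem ce_i_212 : ∀ r, r < 64 → sm gi (Qf (13568 + r)) = Qf (tab Gen.i (13568 + r)) :=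
  edges_tab (sm gi) Qf (tab Gen.i) 13568 [(13568, 13260), (13569, 13262), (13570, 13798), (13571, 13655), (13572, 13266), (13573, 13267), (13574, 13799), (13575, 13276), (13576, 13277), (13577, 13278), (13578, 13279), (13579, 13800), (13580, 13801), (13581, 13802), (13582, 13803), (13583, 13481), (13584, 13482), (13585, 13697), (13586, 13698), (13587, 13289), (13588, 13290), (13589, 13810), (13590, 13426), (13591, 13299), (13592, 13307), (13593, 13520), (13594, 13521), (13595, 13448), (13596, 13522), (13597, 13523), (13598, 13524), (13599, 13812), (13600, 13525), (13601, 13822), (13602, 13823), (13603, 13311), (13604, 13339), (13605, 13683), (13606, 13537), (13607, 13696), (13608, 13700), (13609, 13762), (13610, 13763), (13611, 13526), (13612, 13527), (13613, 13528), (13614, 13529), (13615, 13530), (13616, 13325), (13617, 13331), (13618, 13332), (13619, 13333), (13620, 13334), (13621, 13335), (13622, 13832), (13623, 13833), (13624, 13834), (13625, 13835), (13626, 13341), (13627, 13366),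 (13628, 13342), (13629, 13343), (13630, 13344), (13631, 13824)]
    ⟨e3 q13568 L209294 q13260, e3 q13569 L209308 q13262, e3 q13570 (flp_i L211652) q13798, e3 q13571 (flp_i L210099) q13655, e3 q13572 L209340 q13266, e3 q13573 L209346 q13267, e3 q13574 (flp_i L211664) q13799, e3 q13575 L209366 q13276, e3 q13576 L209381 q13277, e3 q13577 L209395 q13278, e3 q13578 L209405 q13279, e3 q13579 (flp_i L211676) q13800, e3 q13580 (flp_i L211690) q13801, e3 q13581 (flp_i L211702) q13802, e3 q13582 (flp_i L211715) q13803, e3 q13583 L209454 q13481, e3 q13584 L209466 q13482, e3 q13585 (flp_i L210586) q13697, e3 q13586 (flp_i L210599) q13698, e3 q13587 L209481 q13289, e3 q13588 L209488 q13290, e3 q13589 (flp_i L211781) q13810, e3 q13590 L209510 q13426, e3 q13591 L209520 q13299, e3 q13592 L209530 q13307, e3 q13593 L209545 q13520, e3 q13594 L209553 q13521, e3 q13595 L209568 q13448, e3 q13596 L209576 q13522, e3 q13597 L209582 q13523, e3 q13598 L209591 q13524, e3 q13599 (flp_i L211800) q13812, e3 q13600 L209607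 q13525, e3 q13601 L211879 q13822, e3 q13602 L211888 q13823, e3 q13603 (flp_i L209620) q13311, e3 q13604 L209636 q13339, e3 q13605 (flp_i L210415) q13683, e3 q13606 L209662 q13537, e3 q13607 (flp_i L210578) q13696, e3 q13608 (flp_i L210621) q13700, e3 q13609 (flp_i L211267) q13762, e3 q13610 (flp_i L211282) q13763, e3 q13611 L209711 q13526, e3 q13612 L209723 q13527, e3 q13613 L209737 q13528, e3 q13614 L209747 q13529, e3 q13615 L209755 q13530, e3 q13616 (flp_i L209757) q13325, e3 q13617 L209772 q13331, e3 q13618 L209784 q13332, e3 q13619 L209792 q13333, e3 q13620 L209798 q13334, e3 q13621 L209807 q13335, e3 q13622 (flp_i L212001) q13832, e3 q13623 (flp_i L212007) q13833, e3 q13624 (flp_i L212016) q13834, e3 q13625 (flp_i L212024) q13835, e3 q13626 L209842 q13341, e3 q13627 L209857 q13366, e3 q13628 L209865 q13342, e3 q13629 L209871 q13343, e3 q13630 L209880 q13344, e3 q13631 (flp_i L211910) q13824, trivial⟩ (by decide +kernel)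

theorem ce_i_213 : ∀ r, r < 64 → sm gi (Qf (13632 + r)) = Qf (tab Gen.i (13632 + r)) :=
  edges_tab (sm gi) Qf (tab Gen.i) 13632 [(13632, 13840), (13633, 13841), (13634, 13843), (13635, 13849), (13636, 13850), (13637, 13345), (13638, 13347), (13639, 13851), (13640, 13349), (13641, 13350), (13642, 13358), (13643, 13759), (13644, 13760), (13645, 13367), (13646, 13368), (13647, 13369), (13648, 13370), (13649, 13371), (13650, 13842), (13651, 13853), (13652, 13854), (13653, 13855), (13654, 13856), (13655, 13571), (13656, 13668), (13657, 13669), (13658, 13381), (13659, 13382), (13660, 13862), (13661, 13386), (13662, 13720), (13663, 13721), (13664, 13864), (13665, 13395), (13666, 13754), (13667, 13756), (13668, 13656), (13669, 13657), (13670, 13468), (13671, 13469), (13672, 13470), (13673, 13471), (13674, 13726), (13675, 13704), (13676, 13705), (13677, 13437), (13678, 13438), (13679, 13439), (13680, 13440), (13681, 13472), (13682, 13473), (13683, 13605), (13684, 13474), (13685, 13432), (13686,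 13433), (13687, 13777), (13688, 13778), (13689, 13424), (13690, 13425), (13691, 13733), (13692, 13734), (13693, 13879), (13694, 13533), (13695, 13534)]
    ⟨e3 q13632 (flp_i L212060) q13840, e3 q13633 (flp_i L212069) q13841, e3 q13634 (flp_i L212091) q13843, e3 q13635 L212127 q13849, e3 q13636 L212136 q13850, e3 q13637 (flp_i L209920) q13345, e3 q13638 (flp_i L209930) q13347, e3 q13639 L212146 q13851, e3 q13640 (flp_i L209952) q13349, e3 q13641 (flp_i L209962) q13350, e3 q13642 L209982 q13358, e3 q13643 (flp_i L211234) q13759, e3 q13644 (flp_i L211247) q13760, e3 q13645 L210013 q13367, e3 q13646 L210023 q13368, e3 q13647 L210033 q13369, e3 q13648 L210039 q13370, e3 q13649 L210048 q13371, e3 q13650 (flp_i L212083) q13842, e3 q13651 (flp_i L212178) q13853, e3 q13652 (flp_i L212186) q13854, e3 q13653 (flp_i L212197) q13855, e3 q13654 (flp_i L212205) q13856, e3 q13655 L210099 q13571, e3 q13656 (flp_i L210213) q13668, e3 q13657 (flp_i L210230) q13669, e3 q13658 L210132 q13381, e3 q13659 L210141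 q13382, e3 q13660 (flp_i L212261) q13862, e3 q13661 L210153 q13386, e3 q13662 (flp_i L210831) q13720, e3 q13663 (flp_i L210845) q13721, e3 q13664 (flp_i L212270) q13864, e3 q13665 L210181 q13395, e3 q13666 (flp_i L211186) q13754, e3 q13667 (flp_i L211208) q13756, e3 q13668 L210213 q13656, e3 q13669 L210230 q13657, e3 q13670 L210244 q13468, e3 q13671 L210258 q13469, e3 q13672 L210268 q13470, e3 q13673 L210281 q13471, e3 q13674 (flp_i L210897) q13726, e3 q13675 (flp_i L210660) q13704, e3 q13676 (flp_i L210671) q13705, e3 q13677 L210326 q13437, e3 q13678 L210340 q13438, e3 q13679 L210352 q13439, e3 q13680 L210367 q13440, e3 q13681 L210383 q13472, e3 q13682 L210397 q13473, e3 q13683 L210415 q13605, e3 q13684 L210431 q13474, e3 q13685 L210445 q13432, e3 q13686 L210462 q13433, e3 q13687 (flp_i L211421) q13777, e3 q13688 (flp_i L211438) q13778, e3 q13689 L210497 q13424, e3 q13690 L210510 q13425, e3 q13691 (flp_i L210967) q13733, e3 q13692 (flp_i L210980) q13734, e3 q13693 (flp_i L212462) q13879,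 e3 q13694 L210551 q13533, e3 q13695 L210564 q13534, trivial⟩ (by decide +kernel)

theorem ce_i_214 : ∀ r, r < 64 → sm gi (Qf (13696 + r)) = Qf (tab Gen.i (13696 + r)) :=
  edges_tab (sm gi) Qf (tab Gen.i) 13696 [(13696, 13607), (13697, 13585), (13698, 13586), (13699, 13877), (13700, 13608), (13701, 13873), (13702, 13874), (13703, 13875), (13704, 13675), (13705, 13676), (13706, 13449), (13707, 13450), (13708, 13451), (13709, 13452), (13710, 13816), (13711, 13890), (13712, 13891), (13713, 13892), (13714, 13461), (13715, 13462), (13716, 13463), (13717, 13464), (13718, 13549), (13719, 13465), (13720, 13662), (13721, 13663), (13722, 13897), (13723, 13898), (13724, 13899), (13725, 13902), (13726, 13674), (13727, 13868), (13728, 13869), (13729, 13870), (13730, 13477), (13731, 13478), (13732, 13909), (13733, 13691), (13734, 13692), (13735, 13807), (13736, 13808), (13737, 13485), (13738, 13486), (13739, 13913), (13740, 13916), (13741, 13917), (13742, 13487), (13743, 13494), (13744, 13495), (13745,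 13496), (13746, 13497), (13747, 13918), (13748, 13919), (13749, 13920), (13750, 13921), (13751, 13498), (13752, 13509), (13753, 13510), (13754, 13666), (13755, 13511), (13756, 13667), (13757, 13924), (13758, 13761), (13759, 13643)]
    ⟨e3 q13696 L210578 q13607, e3 q13697 L210586 q13585, e3 q13698 L210599 q13586, e3 q13699 (flp_i L212438) q13877, e3 q13700 L210621 q13608, e3 q13701 (flp_i L212373) q13873, e3 q13702 (flp_i L212388) q13874, e3 q13703 (flp_i L212404) q13875, e3 q13704 L210660 q13675, e3 q13705 L210671 q13676, e3 q13706 L210683 q13449, e3 q13707 L210697 q13450, e3 q13708 L210707 q13451, e3 q13709 L210720 q13452, e3 q13710 (flp_i L211839) q13816, e3 q13711 (flp_i L212580) q13890, e3 q13712 (flp_i L212595) q13891, e3 q13713 (flp_i L212609) q13892, e3 q13714 L210773 q13461, e3 q13715 L210787 q13462, e3 q13716 L210795 q13463, e3 q13717 L210804 q13464, e3 q13718 L210814 q13549, e3 q13719 L210820 q13465, e3 q13720 L210831 q13662, e3 q13721 L210845 q13663, e3 q13722 (flp_i L212659)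 q13897, e3 q13723 (flp_i L212674) q13898, e3 q13724 (flp_i L212684) q13899, e3 q13725 (flp_i L212709) q13902, e3 q13726 L210897 q13674, e3 q13727 (flp_i L212315) q13868, e3 q13728 (flp_i L212330) q13869, e3 q13729 (flp_i L212344) q13870, e3 q13730 L210940 q13477, e3 q13731 L210951 q13478, e3 q13732 (flp_i L212791) q13909, e3 q13733 L210967 q13691, e3 q13734 L210980 q13692, e3 q13735 (flp_i L211754) q13807, e3 q13736 (flp_i L211767) q13808, e3 q13737 L211017 q13485, e3 q13738 L211030 q13486, e3 q13739 (flp_i L212836) q13913, e3 q13740 L212855 q13916, e3 q13741 L212866 q13917, e3 q13742 (flp_i L211061) q13487, e3 q13743 L211079 q13494, e3 q13744 L211085 q13495, e3 q13745 L211094 q13496, e3 q13746 L211100 q13497, e3 q13747 (flp_i L212884) q13918, e3 q13748 (flp_i L212897) q13919, e3 q13749 (flp_i L212907) q13920, e3 q13750 (flp_i L212911) q13921, e3 q13751 (flp_i L211134) q13498, e3 q13752 L211160 q13509, e3 q13753 L211172 q13510, e3 q13754 L211186 q13666, e3 q13755 L211196 q13511, e3 q13756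 L211208 q13667, e3 q13757 (flp_i L212945) q13924, e3 q13758 (flp_i L211257) q13761, e3 q13759 L211234 q13643, trivial⟩ (by decide +kernel)

theorem ce_i_215 : ∀ r, r < 64 → sm gi (Qf (13760 + r)) = Qf (tab Gen.i (13760 + r)) :=
  edges_tab (sm gi) Qf (tab Gen.i) 13760 [(13760, 13644), (13761, 13758), (13762, 13609), (13763, 13610), (13764, 13813), (13765, 13814), (13766, 13815), (13767, 13817), (13768, 13820), (13769, 13830), (13770, 13831), (13771, 13786), (13772, 13882), (13773, 13539), (13774, 13540), (13775, 13826), (13776, 13934), (13777, 13687), (13778, 13688), (13779, 13545), (13780, 13546), (13781, 13939), (13782, 13550), (13783, 13900), (13784, 13901), (13785, 13941), (13786, 13771), (13787, 13555), (13788, 13944), (13789, 13562), (13790, 13563), (13791, 13564), (13792, 13565), (13793, 13566), (13794, 13945), (13795, 13946), (13796, 13947), (13797, 13948), (13798, 13570), (13799, 13574), (13800, 13579), (13801, 13580), (13802, 13581), (13803, 13582), (13804, 13951), (13805, 13952),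 (13806, 13953), (13807, 13735), (13808, 13736), (13809, 13885), (13810, 13589), (13811, 13958), (13812, 13599), (13813, 13764), (13814, 13765), (13815, 13766), (13816, 13710), (13817, 13767), (13818, 13959), (13819, 13960), (13820, 13768), (13821, 13967), (13822, 13601), (13823, 13602)]
    ⟨e3 q13760 L211247 q13644, e3 q13761 L211257 q13758, e3 q13762 L211267 q13609, e3 q13763 L211282 q13610, e3 q13764 (flp_i L211810) q13813, e3 q13765 (flp_i L211816) q13814, e3 q13766 (flp_i L211825) q13815, e3 q13767 (flp_i L211847) q13817, e3 q13768 (flp_i L211870) q13820, e3 q13769 (flp_i L211973) q13830, e3 q13770 (flp_i L211985) q13831, e3 q13771 (flp_i L211513) q13786, e3 q13772 (flp_i L212493) q13882, e3 q13773 L211376 q13539, e3 q13774 L211389 q13540, e3 q13775 (flp_i L211934) q13826, e3 q13776 (flp_i L213050) q13934, e3 q13777 L211421 q13687, e3 q13778 L211438 q13688, e3 q13779 L211450 q13545, e3 q13780 L211467 q13546, e3 q13781 (flp_i L213114) q13939, e3 q13782 L211485 q13550, e3 q13783 (flp_i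 L212693) q13900, e3 q13784 (flp_i L212705) q13901, e3 q13785 (flp_i L213127) q13941, e3 q13786 L211513 q13771, e3 q13787 L211529 q13555, e3 q13788 (flp_i L213157) q13944, e3 q13789 L211546 q13562, e3 q13790 L211560 q13563, e3 q13791 L211572 q13564, e3 q13792 L211584 q13565, e3 q13793 L211599 q13566, e3 q13794 (flp_i L213174) q13945, e3 q13795 (flp_i L213186) q13946, e3 q13796 (flp_i L213201) q13947, e3 q13797 (flp_i L213217) q13948, e3 q13798 L211652 q13570, e3 q13799 L211664 q13574, e3 q13800 L211676 q13579, e3 q13801 L211690 q13580, e3 q13802 L211702 q13581, e3 q13803 L211715 q13582, e3 q13804 (flp_i L213246) q13951, e3 q13805 (flp_i L213261) q13952, e3 q13806 (flp_i L213275) q13953, e3 q13807 L211754 q13735, e3 q13808 L211767 q13736, e3 q13809 (flp_i L212532) q13885, e3 q13810 L211781 q13589, e3 q13811 (flp_i L213315) q13958, e3 q13812 L211800 q13599, e3 q13813 L211810 q13764, e3 q13814 L211816 q13765, e3 q13815 L211825 q13766, e3 q13816 L211839 q13710, e3 q13817 L211847 q13767, e3 q13818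 (flp_i L213330) q13959, e3 q13819 (flp_i L213345) q13960, e3 q13820 L211870 q13768, e3 q13821 L213406 q13967, e3 q13822 (flp_i L211879) q13601, e3 q13823 (flp_i L211888) q13602, trivial⟩ (by decide +kernel)

theorem ce_i_216 : ∀ r, r < 64 → sm gi (Qf (13824 + r)) = Qf (tab Gen.i (13824 + r)) :=
  edges_tab (sm gi) Qf (tab Gen.i) 13824 [(13824, 13631), (13825, 13876), (13826, 13775), (13827, 13883), (13828, 13884), (13829, 13929), (13830, 13769), (13831, 13770), (13832, 13622), (13833, 13623), (13834, 13624), (13835, 13625), (13836, 13974), (13837, 13975), (13838, 13976), (13839, 13977), (13840, 13632), (13841, 13633), (13842, 13650), (13843, 13634), (13844, 13968), (13845, 13969), (13846, 13980), (13847, 13983), (13848, 13987), (13849, 13635), (13850, 13636), (13851, 13639), (13852, 13927), (13853, 13651), (13854, 13652), (13855, 13653), (13856, 13654), (13857, 13981), (13858, 13982), (13859, 13989), (13860, 13990), (13861, 13867), (13862, 13660), (13863, 13994), (13864, 13664), (13865,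 13903), (13866, 13925), (13867, 13861), (13868, 13727), (13869, 13728), (13870, 13729), (13871, 13906), (13872, 13889), (13873, 13701), (13874, 13702), (13875, 13703), (13876, 13825), (13877, 13699), (13878, 13938), (13879, 13693), (13880, 13911), (13881, 14004), (13882, 13772), (13883, 13827), (13884, 13828), (13885, 13809), (13886, 14002), (13887, 14000)]
    ⟨e3 q13824 L211910 q13631, e3 q13825 (flp_i L212422) q13876, e3 q13826 L211934 q13775, e3 q13827 (flp_i L212506) q13883, e3 q13828 (flp_i L212520) q13884, e3 q13829 (flp_i L213005) q13929, e3 q13830 L211973 q13769, e3 q13831 L211985 q13770, e3 q13832 L212001 q13622, e3 q13833 L212007 q13623, e3 q13834 L212016 q13624, e3 q13835 L212024 q13625, e3 q13836 (flp_i L213501) q13974, e3 q13837 (flp_i L213518) q13975, e3 q13838 (flp_i L213526) q13976, e3 q13839 (flp_i L213532) q13977, e3 q13840 L212060 q13632, e3 q13841 L212069 q13633, e3 q13842 L212083 q13650, e3 q13843 L212091 q13634, e3 q13844 (flp_i L213426) q13968, e3 q13845 (flp_i L213443)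 q13969, e3 q13846 (flp_i L213556) q13980, e3 q13847 (flp_i L213593) q13983, e3 q13848 L213618 q13987, e3 q13849 (flp_i L212127) q13635, e3 q13850 (flp_i L212136) q13636, e3 q13851 (flp_i L212146) q13639, e3 q13852 (flp_i L212982) q13927, e3 q13853 L212178 q13651, e3 q13854 L212186 q13652, e3 q13855 L212197 q13653, e3 q13856 L212205 q13654, e3 q13857 (flp_i L213571) q13981, e3 q13858 (flp_i L213587) q13982, e3 q13859 (flp_i L213647) q13989, e3 q13860 (flp_i L213653) q13990, e3 q13861 (flp_i L212305) q13867, e3 q13862 L212261 q13660, e3 q13863 (flp_i L213692) q13994, e3 q13864 L212270 q13664, e3 q13865 (flp_i L212722) q13903, e3 q13866 (flp_i L212961) q13925, e3 q13867 L212305 q13861, e3 q13868 L212315 q13727, e3 q13869 L212330 q13728, e3 q13870 L212344 q13729, e3 q13871 (flp_i L212753) q13906, e3 q13872 (flp_i L212570) q13889, e3 q13873 L212373 q13701, e3 q13874 L212388 q13702, e3 q13875 L212404 q13703, e3 q13876 L212422 q13825, e3 q13877 L212438 q13699, e3 q13878 (flp_i L213098) q13938,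 e3 q13879 L212462 q13693, e3 q13880 (flp_i L212810) q13911, e3 q13881 (flp_i L213826) q14004, e3 q13882 L212493 q13772, e3 q13883 L212506 q13827, e3 q13884 L212520 q13828, e3 q13885 L212532 q13809, e3 q13886 (flp_i L213800) q14002, e3 q13887 (flp_i L213771) q14000, trivial⟩ (by decide +kernel)

theorem ce_i_217 : ∀ r, r < 64 → sm gi (Qf (13888 + r)) = Qf (tab Gen.i (13888 + r)) :=
  edges_tab (sm gi) Qf (tab Gen.i) 13888 [(13888, 14001), (13889, 13872), (13890, 13711), (13891, 13712), (13892, 13713), (13893, 13962), (13894, 13963), (13895, 14011), (13896, 14012), (13897, 13722), (13898, 13723), (13899, 13724), (13900, 13783), (13901, 13784), (13902, 13725), (13903, 13865), (13904, 14015), (13905, 14016), (13906, 13871), (13907, 13997), (13908, 13998), (13909, 13732), (13910, 14021), (13911, 13880), (13912, 13956), (13913, 13739), (13914, 14024), (13915, 14026), (13916, 13740), (13917, 13741), (13918, 13747), (13919, 13748), (13920, 13749), (13921, 13750), (13922, 14027), (13923, 14028),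 (13924, 13757), (13925, 13866), (13926, 13928), (13927, 13852), (13928, 13926), (13929, 13829), (13930, 13961), (13931, 13964), (13932, 13943), (13933, 14006), (13934, 13776), (13935, 13970), (13936, 13971), (13937, 14033), (13938, 13878), (13939, 13781), (13940, 14036), (13941, 13785), (13942, 14017), (13943, 13932), (13944, 13788), (13945, 13794), (13946, 13795), (13947, 13796), (13948, 13797), (13949, 14038), (13950, 14039), (13951, 13804)]
    ⟨e3 q13888 (flp_i L213783) q14001, e3 q13889 L212570 q13872, e3 q13890 L212580 q13711, e3 q13891 L212595 q13712, e3 q13892 L212609 q13713, e3 q13893 (flp_i L213366) q13962, e3 q13894 (flp_i L213382) q13963, e3 q13895 (flp_i L213916) q14011, e3 q13896 (flp_i L213926) q14012, e3 q13897 L212659 q13722, e3 q13898 L212674 q13723, e3 q13899 L212684 q13724, e3 q13900 L212693 q13783, e3 q13901 L212705 q13784, e3 q13902 L212709 q13725, e3 q13903 L212722 q13865, e3 q13904 (flp_i L213968) q14015, e3 q13905 (flp_i L213974) q14016, e3 q13906 L212753 q13871,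 e3 q13907 (flp_i L213731) q13997, e3 q13908 (flp_i L213741) q13998, e3 q13909 L212791 q13732, e3 q13910 (flp_i L214034) q14021, e3 q13911 L212810 q13880, e3 q13912 (flp_i L213306) q13956, e3 q13913 L212836 q13739, e3 q13914 (flp_i L214075) q14024, e3 q13915 L214091 q14026, e3 q13916 (flp_i L212855) q13740, e3 q13917 (flp_i L212866) q13741, e3 q13918 L212884 q13747, e3 q13919 L212897 q13748, e3 q13920 L212907 q13749, e3 q13921 L212911 q13750, e3 q13922 (flp_i L214113) q14027, e3 q13923 (flp_i L214119) q14028, e3 q13924 L212945 q13757, e3 q13925 L212961 q13866, e3 q13926 (flp_i L212988) q13928, e3 q13927 L212982 q13852, e3 q13928 L212988 q13926, e3 q13929 L213005 q13829, e3 q13930 (flp_i L213353) q13961, e3 q13931 (flp_i L213388) q13964, e3 q13932 (flp_i L213142) q13943, e3 q13933 (flp_i L213852) q14006, e3 q13934 L213050 q13776, e3 q13935 (flp_i L213455) q13970, e3 q13936 (flp_i L213470) q13971, e3 q13937 (flp_i L214180) q14033, e3 q13938 L213098 q13878, e3 q13939 L213114 q13781, e3 q13940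 (flp_i L214224) q14036, e3 q13941 L213127 q13785, e3 q13942 (flp_i L213985) q14017, e3 q13943 L213142 q13932, e3 q13944 L213157 q13788, e3 q13945 L213174 q13794, e3 q13946 L213186 q13795, e3 q13947 L213201 q13796, e3 q13948 L213217 q13797, e3 q13949 (flp_i L214248) q14038, e3 q13950 (flp_i L214260) q14039, e3 q13951 L213246 q13804, trivial⟩ (by decide +kernel)

theorem ce_i_218 : ∀ r, r < 64 → sm gi (Qf (13952 + r)) = Qf (tab Gen.i (13952 + r)) :=
  edges_tab (sm gi) Qf (tab Gen.i) 13952 [(13952, 13805), (13953, 13806), (13954, 14041), (13955, 14042), (13956, 13912), (13957, 14008), (13958, 13811), (13959, 13818), (13960, 13819), (13961, 13930), (13962, 13893), (13963, 13894), (13964, 13931), (13965, 14045), (13966, 14049), (13967, 13821), (13968, 13844), (13969, 13845), (13970, 13935), (13971, 13936), (13972, 14007), (13973, 14031), (13974, 13836), (13975, 13837), (13976, 13838), (13977, 13839), (13978, 14053), (13979, 14054), (13980, 13846), (13981, 13857), (13982, 13858), (13983, 13847),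 (13984, 14050), (13985, 14056), (13986, 14059), (13987, 13848), (13988, 14030), (13989, 13859), (13990, 13860), (13991, 14057), (13992, 14060), (13993, 13996), (13994, 13863), (13995, 14018), (13996, 13993), (13997, 13907), (13998, 13908), (13999, 14010), (14000, 13887), (14001, 13888), (14002, 13886), (14003, 14035), (14004, 13881), (14005, 14022), (14006, 13933), (14007, 13972), (14008, 13957), (14009, 14063), (14010, 13999), (14011, 13895), (14012, 13896), (14013, 14047), (14014, 14065), (14015, 13904)]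
    ⟨e3 q13952 L213261 q13805, e3 q13953 L213275 q13806, e3 q13954 (flp_i L214290) q14041, e3 q13955 (flp_i L214300) q14042, e3 q13956 L213306 q13912, e3 q13957 (flp_i L213879) q14008, e3 q13958 L213315 q13811, e3 q13959 L213330 q13818, e3 q13960 L213345 q13819, e3 q13961 L213353 q13930, e3 q13962 L213366 q13893, e3 q13963 L213382 q13894, e3 q13964 L213388 q13931, e3 q13965 (flp_i L214343) q14045, e3 q13966 L214375 q14049, e3 q13967 (flp_i L213406) q13821, e3 q13968 L213426 q13844, e3 q13969 L213443 q13845, e3 q13970 L213455 q13935, e3 q13971 L213470 q13936, e3 q13972 (flp_i L213869) q14007, e3 q13973 (flp_i L214156) q14031, e3 q13974 L213501 q13836, e3 q13975 L213518 q13837, e3 q13976 L213526 q13838, e3 q13977 L213532 q13839, e3 q13978 (flp_i L214435) q14053, e3 q13979 (flp_i L214441) q14054, e3 q13980 L213556 q13846, e3 q13981 L213571 q13857, e3 q13982 L213587 q13858, e3 q13983 L213593 q13847, e3 q13984 (flp_i L214398) q14050, e3 q13985 (flp_i L214457) q14056, e3 q13986 L214485 q14059,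 e3 q13987 (flp_i L213618) q13848, e3 q13988 (flp_i L214141) q14030, e3 q13989 L213647 q13859, e3 q13990 L213653 q13860, e3 q13991 (flp_i L214474) q14057, e3 q13992 (flp_i L214500) q14060, e3 q13993 (flp_i L213714) q13996, e3 q13994 L213692 q13863, e3 q13995 (flp_i L213998) q14018, e3 q13996 L213714 q13993, e3 q13997 L213731 q13907, e3 q13998 L213741 q13908, e3 q13999 (flp_i L213901) q14010, e3 q14000 L213771 q13887, e3 q14001 L213783 q13888, e3 q14002 L213800 q13886, e3 q14003 (flp_i L214209) q14035, e3 q14004 L213826 q13881, e3 q14005 (flp_i L214047) q14022, e3 q14006 L213852 q13933, e3 q14007 L213869 q13972, e3 q14008 L213879 q13957, e3 q14009 (flp_i L214539) q14063, e3 q14010 L213901 q13999, e3 q14011 L213916 q13895, e3 q14012 L213926 q13896, e3 q14013 (flp_i L214364) q14047, e3 q14014 (flp_i L214569) q14065, e3 q14015 L213968 q13904, trivial⟩ (by decide +kernel)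

theorem ce_i_219 : ∀ r, r < 64 → sm gi (Qf (14016 + r)) = Qf (tab Gen.i (14016 + r)) :=
  edges_tab (sm gi) Qf (tab Gen.i) 14016 [(14016, 13905), (14017, 13942), (14018, 13995), (14019, 14067), (14020, 14062), (14021, 13910), (14022, 14005), (14023, 14044), (14024, 13914), (14025, 14069), (14026, 13915), (14027, 13922), (14028, 13923), (14029, 14070), (14030, 13988), (14031, 13973), (14032, 14046), (14033, 13937), (14034, 14051), (14035, 14003), (14036, 13940), (14037, 14068), (14038, 13949), (14039, 13950), (14040, 14072), (14041, 13954), (14042, 13955), (14043, 14073), (14044, 14023), (14045, 13965), (14046, 14032), (14047, 14013), (14048, 14074), (14049, 13966), (14050, 13984), (14051, 14034), (14052, 14064), (14053, 13978), (14054, 13979), (14055, 14078), (14056, 13985), (14057, 13991), (14058, 14076), (14059, 13986), (14060, 13992), (14061, 14079), (14062, 14020), (14063, 14009), (14064, 14052), (14065, 14014), (14066, 14075), (14067, 14019), (14068, 14037), (14069, 14025), (14070,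 14029), (14071, 14077), (14072, 14040), (14073, 14043), (14074, 14048), (14075, 14066), (14076, 14058), (14077, 14071), (14078, 14055), (14079, 14061)]
    ⟨e3 q14016 L213974 q13905, e3 q14017 L213985 q13942, e3 q14018 L213998 q13995, e3 q14019 (flp_i L214597) q14067, e3 q14020 (flp_i L214524) q14062, e3 q14021 L214034 q13910, e3 q14022 L214047 q14005, e3 q14023 (flp_i L214326) q14044, e3 q14024 L214075 q13914, e3 q14025 L214613 q14069, e3 q14026 (flp_i L214091) q13915, e3 q14027 L214113 q13922, e3 q14028 L214119 q13923, e3 q14029 (flp_i L214634) q14070, e3 q14030 L214141 q13988, e3 q14031 L214156 q13973, e3 q14032 (flp_i L214349) q14046, e3 q14033 L214180 q13937, e3 q14034 (flp_i L214412) q14051, e3 q14035 L214209 q14003, e3 q14036 L214224 q13940, e3 q14037 (flp_i L214611) q14068, e3 q14038 L214248 q13949, e3 q14039 L214260 q13950, e3 q14040 (flp_i L214662) q14072, e3 q14041 L214290 q13954, e3 q14042 L214300 q13955, e3 q14043 (flp_i L214677) q14073, e3 q14044 L214326 q14023, e3 q14045 L214343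 q13965, e3 q14046 L214349 q14032, e3 q14047 L214364 q14013, e3 q14048 (flp_i L214692) q14074, e3 q14049 (flp_i L214375) q13966, e3 q14050 L214398 q13984, e3 q14051 L214412 q14034, e3 q14052 (flp_i L214557) q14064, e3 q14053 L214435 q13978, e3 q14054 L214441 q13979, e3 q14055 (flp_i L214752) q14078, e3 q14056 L214457 q13985, e3 q14057 L214474 q13991, e3 q14058 (flp_i L214722) q14076, e3 q14059 (flp_i L214485) q13986, e3 q14060 L214500 q13992, e3 q14061 (flp_i L214770) q14079, e3 q14062 L214524 q14020, e3 q14063 L214539 q14009, e3 q14064 L214557 q14052, e3 q14065 L214569 q14014, e3 q14066 (flp_i L214708) q14075, e3 q14067 L214597 q14019, e3 q14068 L214611 q14037, e3 q14069 (flp_i L214613) q14025, e3 q14070 L214634 q14029, e3 q14071 (flp_i L214735) q14077, e3 q14072 L214662 q14040, e3 q14073 L214677 q14043, e3 q14074 L214692 q14048, e3 q14075 L214708 q14066, e3 q14076 L214722 q14058, e3 q14077 L214735 q14071, e3 q14078 L214752 q14055, e3 q14079 L214770 q14061, trivial⟩ (by decide +kernel)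

theorem cl_i : ∀ i, i < 14080 → sm gi (Qf i) = Qf (tab Gen.i i) :=
  all_of_chunks (fun i => sm gi (Qf i) = Qf (tab Gen.i i)) 220 0
    ⟨ce_i_0, ce_i_1, ce_i_2, ce_i_3, ce_i_4, ce_i_5, ce_i_6, ce_i_7, ce_i_8, ce_i_9, ce_i_10, ce_i_11, ce_i_12, ce_i_13, ce_i_14, ce_i_15, ce_i_16, ce_i_17, ce_i_18, ce_i_19, ce_i_20, ce_i_21, ce_i_22, ce_i_23, ce_i_24, ce_i_25, ce_i_26, ce_i_27, ce_i_28, ce_i_29, ce_i_30, ce_i_31, ce_i_32, ce_i_33, ce_i_34, ce_i_35, ce_i_36, ce_i_37, ce_i_38, ce_i_39, ce_i_40, ce_i_41, ce_i_42, ce_i_43, ce_i_44, ce_i_45, ce_i_46, ce_i_47, ce_i_48, ce_i_49, ce_i_50, ce_i_51, ce_i_52, ce_i_53, ce_i_54, ce_i_55, ce_i_56, ce_i_57, ce_i_58, ce_i_59, ce_i_60, ce_i_61, ce_i_62, ce_i_63, ce_i_64, ce_i_65, ce_i_66, ce_i_67, ce_i_68, ce_i_69, ce_i_70, ce_i_71, ce_i_72, ce_i_73, ce_i_74, ce_i_75, ce_i_76, ce_i_77, ce_i_78, ce_i_79, ce_i_80, ce_i_81, ce_i_82, ce_i_83, ce_i_84, ce_i_85, ce_i_86, ce_i_87, ce_i_88, ce_i_89, ce_i_90, ce_i_91, ce_i_92, ce_i_93, ce_i_94, ce_i_95, ce_i_96, ce_i_97,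 ce_i_98, ce_i_99, ce_i_100, ce_i_101, ce_i_102, ce_i_103, ce_i_104, ce_i_105, ce_i_106, ce_i_107, ce_i_108, ce_i_109, ce_i_110, ce_i_111, ce_i_112, ce_i_113, ce_i_114, ce_i_115, ce_i_116, ce_i_117, ce_i_118, ce_i_119, ce_i_120, ce_i_121, ce_i_122, ce_i_123, ce_i_124, ce_i_125, ce_i_126, ce_i_127, ce_i_128, ce_i_129, ce_i_130, ce_i_131, ce_i_132, ce_i_133, ce_i_134, ce_i_135, ce_i_136, ce_i_137, ce_i_138, ce_i_139, ce_i_140, ce_i_141, ce_i_142, ce_i_143, ce_i_144, ce_i_145, ce_i_146, ce_i_147, ce_i_148, ce_i_149, ce_i_150, ce_i_151, ce_i_152, ce_i_153, ce_i_154, ce_i_155, ce_i_156, ce_i_157, ce_i_158, ce_i_159, ce_i_160, ce_i_161, ce_i_162, ce_i_163, ce_i_164, ce_i_165, ce_i_166, ce_i_167, ce_i_168, ce_i_169, ce_i_170, ce_i_171, ce_i_172, ce_i_173, ce_i_174, ce_i_175, ce_i_176, ce_i_177, ce_i_178, ce_i_179, ce_i_180, ce_i_181, ce_i_182, ce_i_183, ce_i_184, ce_i_185, ce_i_186, ce_i_187, ce_i_188, ce_i_189, ce_i_190, ce_i_191, ce_i_192, ce_i_193, ce_i_194, ce_i_195, ce_i_196, ce_i_197, ce_i_198,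 ce_i_199, ce_i_200, ce_i_201, ce_i_202, ce_i_203, ce_i_204, ce_i_205, ce_i_206, ce_i_207, ce_i_208, ce_i_209, ce_i_210, ce_i_211, ce_i_212, ce_i_213, ce_i_214, ce_i_215, ce_i_216, ce_i_217, ce_i_218, ce_i_219, trivial⟩
    (fun r hr => absurd hr (Nat.not_lt_zero r))


end Cfsg.Agent.Helper28.FibA
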