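import Cfsg.Agent.Helper28.FicA

/-! # The Fi₂₃ presentation, cosets of the subgroup generated by a, …, i: the coset enumeration, part 0 (helper28; generated) -/

set_option autoImplicit false

noncomputable section

namespace Cfsg.Agent.Helper28.FicA

open Cfsg.Agent.Helper28.CosetTable

def N1 : Q := sm gj N0
def N2 : Q := sm gg N1
def N3 : Q := sm gf N2
def N4 : Q := sm ge N3
def N5 : Q := sm gd N4
def N6 : Q := sm gc N5
def N7 : Q := sm gh N5
def N8 : Q := sm gb N6
def N9 : Q := sm gh N6
def N10 : Q := sm gi N7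
def N11 : Q := sm ga N8
def N12 : Q := sm gh N8
def N13 : Q := sm gd N9
def N14 : Q := sm gi N9
def N15 : Q := sm gh N11
def N16 : Q := sm gd N12
def N17 : Q := sm gi N12
def N18 : Q := sm ge N13
def N19 : Q := sm gi N13
def N20 : Q := sm gd N15
def N21 : Q := sm gi N15
def N22 : Q := sm gc N16
def N23 : Q := sm ge N16
def N24 : Q := sm gi N16
def N25 : Q := sm gf N18
def N26 : Q := sm gi N18
def N27 : Q := sm gh N19
def N28 : Q := sm gc N20
def N29 : Q := sm ge N20
def N30 : Q := sm gi N20
def N31 : Q := sm ge N22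
def N32 : Q := sm gi N22
def N33 : Q := sm gf N23
def N34 : Q := sm gi N23
def N35 : Q := sm gh N24
def N36 : Q := sm gg N25
def N37 : Q := sm gi N25
def N38 : Q := sm gh N26
def N39 : Q := sm gb N28
def N40 : Q := sm ge N28
def N41 : Q := sm gi N28
def N42 : Q := sm gf N29
def N43 : Q := sm gi N29
def N44 : Q := sm gh N30
def N45 : Q := sm gd N31
def N46 : Q := sm gf N31
def N47 : Q := sm gi N31
def N48 : Q := sm gh N32
def N49 : Q := sm gg N33
def N50 : Q := sm gi N33
def N51 : Q := sm gh N34
def N52 : Q := sm gj N36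
def N53 : Q := sm gi N36
def N54 : Q := sm gh N37
def N55 : Q := sm gd N38
def N56 : Q := sm ge N39
def N57 : Q := sm gi N39
def N58 : Q := sm gd N40
def N59 : Q := sm gf N40
def N60 : Q := sm gi N40
def N61 : Q := sm gh N41
def N62 : Q := sm gg N42
def N63 : Q := sm gi N42
def N64 : Q := sm gh N43
def N65 : Q := sm gf N45
def N66 : Q := sm gh N45
def N67 : Q := sm gi N45
def N68 : Q := sm gg N46
def N69 : Q := sm gi N46
def N70 : Q := sm gh N47
def N71 : Q := sm gd N48
def N72 : Q := sm gj N49
def N73 : Q := sm gi N49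
def N74 : Q := sm gh N50
def N75 : Q := sm gd N51
def N76 : Q := sm gi N52
def N77 : Q := sm gh N53
def N78 : Q := sm gd N54
def N79 : Q := sm gc N55
def N80 : Q := sm gd N56
def N81 : Q := sm gf N56
def N82 : Q := sm gi N56
def N83 : Q := sm gh N57
def N84 : Q := sm gf N58
def N85 : Q := sm gh N58
def N86 : Q := sm gi N58
def N87 : Q := sm gg N59
def N88 : Q := sm gi N59
def N89 : Q := sm gh N60
def N90 : Q := sm gd N61
def N91 : Q := sm gj N62
def N92 : Q := sm gi N62
def N93 : Q := sm gh N63
def N94 : Q := sm gd N64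
def N95 : Q := sm ge N65
def N96 : Q := sm gg N65
def N97 : Q := sm gh N65
def N98 : Q := sm gi N65
def N99 : Q := sm gi N66
def N100 : Q := sm gh N67
def N101 : Q := sm gj N68
def N102 : Q := sm gi N68
def N103 : Q := sm gh N69
def N104 : Q := sm gd N70
def N105 : Q := sm ge N71
def N106 : Q := sm gi N72
def N107 : Q := sm gh N73
def N108 : Q := sm gd N74
def N109 : Q := sm gc N75
def N110 : Q := sm gh N76
def N111 : Q := sm gd N77
def N112 : Q := sm gc N78
def N113 : Q := sm ge N78
def N114 : Q := sm gb N79
def N115 : Q := sm gc N80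
def N116 : Q := sm gf N80
def N117 : Q := sm gh N80
def N118 : Q := sm gi N80
def N119 : Q := sm gg N81
def N120 : Q := sm gi N81
def N121 : Q := sm gh N82
def N122 : Q := sm gd N83
def N123 : Q := sm ge N84
def N124 : Q := sm gg N84
def N125 : Q := sm gh N84
def N126 : Q := sm gi N84
def N127 : Q := sm gi N85
def N128 : Q := sm gh N86
def N129 : Q := sm gj N87
def N130 : Q := sm gi N87
def N131 : Q := sm gh N88
def N132 : Q := sm gd N89
def N133 : Q := sm ge N90
def N134 : Q := sm gi N91
def N135 : Q := sm gh N92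
def N136 : Q := sm gd N93
def N137 : Q := sm gc N94
def N138 : Q := sm gg N95
def N139 : Q := sm gh N95
def N140 : Q := sm gi N95
def N141 : Q := sm gj N96
def N142 : Q := sm gh N96
def N143 : Q := sm gi N96
def N144 : Q := sm gi N97
def N145 : Q := sm gh N98
def N146 : Q := sm gh N99
def N147 : Q := sm gd N100
def N148 : Q := sm gi N101
def N149 : Q := sm gh N102
def N150 : Q := sm gd N103
def N151 : Q := sm gc N104
def N152 : Q := sm ge N104
def N153 : Q := sm gf N105
def N154 : Q := sm gh N106
def N155 : Q := sm gd N107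
def N156 : Q := sm gc N108
def N157 : Q := sm ge N108
def N158 : Q := sm gb N109
def N159 : Q := sm gd N110
def N160 : Q := sm gc N111
def N161 : Q := sm ge N111
def N162 : Q := sm gb N112
def N163 : Q := sm ge N112
def N164 : Q := sm ga N114
def N165 : Q := sm gf N115
def N166 : Q := sm gh N115
def N167 : Q := sm gi N115
def N168 : Q := sm ge N116
def N169 : Q := sm gg N116
def N170 : Q := sm gh N116
def N171 : Q := sm gi N116
def N172 : Q := sm gi N117
def N173 : Q := sm gh N118
def N174 : Q := sm gj N119
def N175 : Q := sm gi N119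
def N176 : Q := sm gh N120
def N177 : Q := sm gd N121
def N178 : Q := sm gc N122
def N179 : Q := sm ge N122
def N180 : Q := sm gg N123
def N181 : Q := sm gh N123
def N182 : Q := sm gi N123
def N183 : Q := sm gj N124
def N184 : Q := sm gh N124
def N185 : Q := sm gi N124
def N186 : Q := sm gi N125
def N187 : Q := sm gh N126
def N188 : Q := sm gh N127
def N189 : Q := sm gd N128
def N190 : Q := sm gi N129
def N191 : Q := sm gh N130
def N192 : Q := sm gd N131
def N193 : Q := sm gc N132
def N194 : Q := sm ge N132
def N195 : Q := sm gf N133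
def N196 : Q := sm gh N134
def N197 : Q := sm gd N135
def N198 : Q := sm gc N136
def N199 : Q := sm ge N136
def N200 : Q := sm gb N137
def N201 : Q := sm gf N138
def N202 : Q := sm gj N138
def N203 : Q := sm gh N138
def N204 : Q := sm gi N138
def N205 : Q := sm gd N139
def N206 : Q := sm gi N139
def N207 : Q := sm gh N140
def N208 : Q := sm gh N141
def N209 : Q := sm gi N141
def N210 : Q := sm gi N142
def N211 : Q := sm gh N143
def N212 : Q := sm gh N144
def N213 : Q := sm gd N145
def N214 : Q := sm gd N146
def N215 : Q := sm gc N147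
def N216 : Q := sm ge N147
def N217 : Q := sm gh N148
def N218 : Q := sm gd N149
def N219 : Q := sm gc N150
def N220 : Q := sm ge N150
def N221 : Q := sm gb N151
def N222 : Q := sm ge N151
def N223 : Q := sm gf N152
def N224 : Q := sm gg N153
def N225 : Q := sm gd N154
def N226 : Q := sm gc N155
def N227 : Q := sm ge N155
def N228 : Q := sm gb N156
def N229 : Q := sm ge N156
def N230 : Q := sm ga N158
def N231 : Q := sm gc N159
def N232 : Q := sm ge N159
def N233 : Q := sm gb N160
def N234 : Q := sm ge N160
def N235 : Q := sm gf N161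
def N236 : Q := sm ga N162
def N237 : Q := sm ge N162
def N238 : Q := sm gd N163
def N239 : Q := sm ge N165
def N240 : Q := sm gg N165
def N241 : Q := sm gh N165
def N242 : Q := sm gi N165
def N243 : Q := sm gd N166
def N244 : Q := sm gi N166
def N245 : Q := sm gh N167
def N246 : Q := sm gg N168
def N247 : Q := sm gh N168
def N248 : Q := sm gi N168
def N249 : Q := sm gj N169
def N250 : Q := sm gh N169
def N251 : Q := sm gi N169
def N252 : Q := sm gi N170
def N253 : Q := sm gh N171
def N254 : Q := sm gh N172
def N255 : Q := sm gd N173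
def N256 : Q := sm gi N174
def N257 : Q := sm gh N175
def N258 : Q := sm gd N176
def N259 : Q := sm gc N177
def N260 : Q := sm ge N177
def N261 : Q := sm ge N178
def N262 : Q := sm gf N179
def N263 : Q := sm gf N180
def N264 : Q := sm gj N180
def N265 : Q := sm gh N180
def N266 : Q := sm gi N180
def N267 : Q := sm gd N181
def N268 : Q := sm gi N181
def N269 : Q := sm gh N182
def N270 : Q := sm gh N183
def N271 : Q := sm gi N183
def N272 : Q := sm gi N184
def N273 : Q := sm gh N185
def N274 : Q := sm gh N186
def N275 : Q := sm gd N187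
def N276 : Q := sm gd N188
def N277 : Q := sm gc N189
def N278 : Q := sm ge N189
def N279 : Q := sm gh N190
def N280 : Q := sm gd N191
def N281 : Q := sm gc N192
def N282 : Q := sm ge N192
def N283 : Q := sm gb N193
def N284 : Q := sm ge N193
def N285 : Q := sm gf N194
def N286 : Q := sm gg N195
def N287 : Q := sm gd N196
def N288 : Q := sm gc N197
def N289 : Q := sm ge N197
def N290 : Q := sm gb N198
def N291 : Q := sm ge N198
def N292 : Q := sm ga N200
def N293 : Q := sm gj N201
def N294 : Q := sm gh N201
def N295 : Q := sm gi N201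
def N296 : Q := sm gh N202
def N297 : Q := sm gi N202
def N298 : Q := sm gd N203
def N299 : Q := sm gi N203
def N300 : Q := sm gh N204
def N301 : Q := sm gc N205
def N302 : Q := sm gi N205
def N303 : Q := sm gh N206
def N304 : Q := sm gd N207
def N305 : Q := sm gi N208
def N306 : Q := sm gh N209
def N307 : Q := sm gh N210
def N308 : Q := sm gd N211
def N309 : Q := sm gd N212
def N310 : Q := sm gc N213
def N311 : Q := sm ge N213
def N312 : Q := sm gc N214
def N313 : Q := sm ge N214
def N314 : Q := sm gb N215
def N315 : Q := sm ge N215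
def N316 : Q := sm gf N216
def N317 : Q := sm gd N217
def N318 : Q := sm gc N218
def N319 : Q := sm ge N218
def N320 : Q := sm gb N219
def N321 : Q := sm ge N219
def N322 : Q := sm gf N220
def N323 : Q := sm ga N221
def N324 : Q := sm ge N221
def N325 : Q := sm gf N222
def N326 : Q := sm gg N223
def N327 : Q := sm gj N224
def N328 : Q := sm gc N225
def N329 : Q := sm ge N225
def N330 : Q := sm gb N226
def N331 : Q := sm ge N226
def N332 : Q := sm gf N227
def N333 : Q := sm ga N228
def N334 : Q := sm ge N228
def N335 : Q := sm gd N229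
def N336 : Q := sm gb N231
def N337 : Q := sm ge N231
def N338 : Q := sm gf N232
def N339 : Q := sm ga N233
def N340 : Q := sm ge N233
def N341 : Q := sm gd N234
def N342 : Q := sm gf N234
def N343 : Q := sm ge N236
def N344 : Q := sm gd N237
def N345 : Q := sm gh N238
def N346 : Q := sm gd N239
def N347 : Q := sm gg N239
def N348 : Q := sm gh N239
def N349 : Q := sm gi N239
def N350 : Q := sm gj N240
def N351 : Q := sm gh N240
def N352 : Q := sm gi N240
def N353 : Q := sm gd N241
def N354 : Q := sm gi N241
def N355 : Q := sm gh N242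
def N356 : Q := sm ge N243
def N357 : Q := sm gi N243
def N358 : Q := sm gh N244
def N359 : Q := sm gd N245
def N360 : Q := sm gf N246
def N361 : Q := sm gj N246
def N362 : Q := sm gh N246
def N363 : Q := sm gi N246
def N364 : Q := sm gd N247
def N365 : Q := sm gi N247
def N366 : Q := sm gh N248
def N367 : Q := sm gh N249
def N368 : Q := sm gi N249
def N369 : Q := sm gi N250
def N370 : Q := sm gh N251
def N371 : Q := sm gh N252
def N372 : Q := sm gd N253
def N373 : Q := sm gd N254
def N374 : Q := sm gc N255
def N375 : Q := sm ge N255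
def N376 : Q := sm gh N256
def N377 : Q := sm gd N257
def N378 : Q := sm gc N258
def N379 : Q := sm ge N258
def N380 : Q := sm gb N259
def N381 : Q := sm ge N259
def N382 : Q := sm gf N260
def N383 : Q := sm gd N261
def N384 : Q := sm gf N261
def N385 : Q := sm gg N262
def N386 : Q := sm gj N263
def N387 : Q := sm gh N263
def N388 : Q := sm gi N263
def N389 : Q := sm gh N264
def N390 : Q := sm gi N264
def N391 : Q := sm gd N265
def N392 : Q := sm gi N265
def N393 : Q := sm gh N266
def N394 : Q := sm gc N267
def N395 : Q := sm gi N267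
def N396 : Q := sm gh N268
def N397 : Q := sm gd N269
def N398 : Q := sm gi N270
def N399 : Q := sm gh N271
def N400 : Q := sm gh N272
def N401 : Q := sm gd N273
def N402 : Q := sm gd N274
def N403 : Q := sm gc N275
def N404 : Q := sm ge N275
def N405 : Q := sm gc N276
def N406 : Q := sm ge N276
def N407 : Q := sm gb N277
def N408 : Q := sm ge N277
def N409 : Q := sm gf N278
def N410 : Q := sm gd N279
def N411 : Q := sm gc N280
def N412 : Q := sm ge N280
def N413 : Q := sm gb N281
def N414 : Q := sm ge N281
def N415 : Q := sm gf N282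
def N416 : Q := sm ga N283
def N417 : Q := sm ge N283
def N418 : Q := sm gf N284
def N419 : Q := sm gg N285
def N420 : Q := sm gj N286
def N421 : Q := sm gc N287
def N422 : Q := sm ge N287
def N423 : Q := sm gb N288
def N424 : Q := sm ge N288
def N425 : Q := sm gf N289
def N426 : Q := sm ga N290
def N427 : Q := sm ge N290
def N428 : Q := sm gd N291
def N429 : Q := sm gg N293
def N430 : Q := sm gh N293
def N431 : Q := sm gi N293
def N432 : Q := sm gd N294
def N433 : Q := sm gi N294
def N434 : Q := sm gh N295
def N435 : Q := sm gd N296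
def N436 : Q := sm gi N296
def N437 : Q := sm gh N297
def N438 : Q := sm gc N298
def N439 : Q := sm gi N298
def N440 : Q := sm gh N299
def N441 : Q := sm gd N300
def N442 : Q := sm gb N301
def N443 : Q := sm gi N301
def N444 : Q := sm gh N302
def N445 : Q := sm gd N303
def N446 : Q := sm gc N304
def N447 : Q := sm ge N304
def N448 : Q := sm gh N305
def N449 : Q := sm gd N306
def N450 : Q := sm gd N307
def N451 : Q := sm gc N308
def N452 : Q := sm ge N308
def N453 : Q := sm gc N309
def N454 : Q := sm ge N309
def N455 : Q := sm gb N310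
def N456 : Q := sm ge N310
def N457 : Q := sm gf N311
def N458 : Q := sm gb N312
def N459 : Q := sm ge N312
def N460 : Q := sm gf N313
def N461 : Q := sm ga N314
def N462 : Q := sm ge N314
def N463 : Q := sm gd N315
def N464 : Q := sm gf N315
def N465 : Q := sm gg N316
def N466 : Q := sm gc N317
def N467 : Q := sm ge N317
def N468 : Q := sm gb N318
def N469 : Q := sm ge N318
def N470 : Q := sm gf N319
def N471 : Q := sm ga N320
def N472 : Q := sm ge N320
def N473 : Q := sm gd N321
def N474 : Q := sm gf N321
def N475 : Q := sm gg N322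
def N476 : Q := sm ge N323
def N477 : Q := sm gf N324
def N478 : Q := sm gg N325
def N479 : Q := sm gj N326
def N480 : Q := sm gb N328
def N481 : Q := sm ge N328
def N482 : Q := sm gf N329
def N483 : Q := sm ga N330
def N484 : Q := sm ge N330
def N485 : Q := sm gd N331
def N486 : Q := sm gf N331
def N487 : Q := sm ge N333
def N488 : Q := sm gd N334
def N489 : Q := sm gh N335
def N490 : Q := sm ga N336
def N491 : Q := sm ge N336
def N492 : Q := sm gd N337
def N493 : Q := sm gf N337
def N494 : Q := sm gg N338
def N495 : Q := sm ge N339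
def N496 : Q := sm gd N340
def N497 : Q := sm gf N340
def N498 : Q := sm gf N341
def N499 : Q := sm gh N341
def N500 : Q := sm gd N343
def N501 : Q := sm gc N344
def N502 : Q := sm gh N344
def N504 : Q := sm gg N346
def N505 : Q := sm gi N346
def N506 : Q := sm gf N347
def N507 : Q := sm gj N347
def N508 : Q := sm gh N347
def N509 : Q := sm gi N347
def N510 : Q := sm gi N348
def N511 : Q := sm gh N349
def N512 : Q := sm gh N350
def N513 : Q := sm gi N350
def N514 : Q := sm gd N351
def N515 : Q := sm gi N351
def N516 : Q := sm gh N352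
def N517 : Q := sm gi N353
def N518 : Q := sm gh N354
def N519 : Q := sm gd N355
def N520 : Q := sm gi N356
def N521 : Q := sm gh N357
def N522 : Q := sm gd N358
def N523 : Q := sm gc N359
def N524 : Q := sm ge N359
def N525 : Q := sm gj N360
def N526 : Q := sm gh N360
def N527 : Q := sm gi N360
def N528 : Q := sm gh N361
def N529 : Q := sm gi N361
def N530 : Q := sm gd N362
def N531 : Q := sm gi N362
def N532 : Q := sm gh N363
def N533 : Q := sm gi N364
def N534 : Q := sm gh N365
def N535 : Q := sm gd N366
def N536 : Q := sm gi N367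
def N537 : Q := sm gh N368
def N538 : Q := sm gh N369
def N539 : Q := sm gd N370
def N540 : Q := sm gd N371
def N541 : Q := sm gc N372
def N542 : Q := sm ge N372
def N543 : Q := sm gc N373
def N544 : Q := sm ge N373
def N545 : Q := sm gb N374
def N546 : Q := sm ge N374
def N547 : Q := sm gf N375
def N548 : Q := sm gd N376
def N549 : Q := sm gc N377
def N550 : Q := sm ge N377
def N551 : Q := sm gb N378
def N552 : Q := sm ge N378
def N553 : Q := sm gf N379
def N554 : Q := sm ga N380
def N555 : Q := sm ge N380
def N556 : Q := sm gd N381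
def N557 : Q := sm gf N381
def N558 : Q := sm gg N382
def N559 : Q := sm gf N383
def N560 : Q := sm gh N383
def N561 : Q := sm gg N384
def N562 : Q := sm gj N385
def N563 : Q := sm gg N386
def N564 : Q := sm gh N386
def N565 : Q := sm gi N386
def N566 : Q := sm gd N387
def N567 : Q := sm gi N387
def N568 : Q := sm gh N388
def N569 : Q := sm gd N389
def N570 : Q := sm gi N389
def N571 : Q := sm gh N390
def N572 : Q := sm gc N391
def N573 : Q := sm gi N391
def N574 : Q := sm gh N392
def N575 : Q := sm gd N393
def N576 : Q := sm gi N394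
def N577 : Q := sm gh N395
def N578 : Q := sm gd N396
def N579 : Q := sm gc N397
def N580 : Q := sm ge N397
def N581 : Q := sm gh N398
def N582 : Q := sm gd N399
def N583 : Q := sm gd N400
def N584 : Q := sm gc N401
def N585 : Q := sm ge N401
def N586 : Q := sm gc N402
def N587 : Q := sm ge N402
def N588 : Q := sm gb N403
def N589 : Q := sm ge N403
def N590 : Q := sm gf N404
def N591 : Q := sm gb N405
def N592 : Q := sm ge N405
def N593 : Q := sm gf N406
def N594 : Q := sm ga N407
def N595 : Q := sm ge N407
def N596 : Q := sm gd N408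
def N597 : Q := sm gf N408
def N598 : Q := sm gg N409
def N599 : Q := sm gc N410
def N600 : Q := sm ge N410
def N601 : Q := sm gb N411
def N602 : Q := sm ge N411
def N603 : Q := sm gf N412
def N604 : Q := sm ga N413
def N605 : Q := sm ge N413
def N606 : Q := sm gd N414
def N607 : Q := sm gf N414
def N608 : Q := sm gg N415
def N609 : Q := sm ge N416
def N610 : Q := sm gf N417
def N611 : Q := sm gg N418
def N612 : Q := sm gj N419
def N613 : Q := sm gb N421
def N614 : Q := sm ge N421
def N615 : Q := sm gf N422
def N616 : Q := sm ga N423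
def N617 : Q := sm ge N423
def N618 : Q := sm gd N424
def N619 : Q := sm gf N424
def N620 : Q := sm ge N426
def N621 : Q := sm gd N427
def N622 : Q := sm gh N428
def N623 : Q := sm gh N429
def N624 : Q := sm gi N429
def N625 : Q := sm gd N430
def N626 : Q := sm gi N430
def N627 : Q := sm gh N431
def N628 : Q := sm gc N432
def N629 : Q := sm ge N432
def N630 : Q := sm gi N432
def N631 : Q := sm gh N433
def N632 : Q := sm gd N434
def N633 : Q := sm gc N435
def N634 : Q := sm gi N435
def N635 : Q := sm gh N436
def N636 : Q := sm gd N437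
def N637 : Q := sm gb N438
def N638 : Q := sm gi N438
def N639 : Q := sm gh N439
def N640 : Q := sm gd N440
def N641 : Q := sm gc N441
def N642 : Q := sm ge N441
def N643 : Q := sm gi N442
def N644 : Q := sm gh N443
def N645 : Q := sm gd N444
def N646 : Q := sm gc N445
def N647 : Q := sm ge N445
def N648 : Q := sm gb N446
def N649 : Q := sm ge N446
def N650 : Q := sm gf N447
def N651 : Q := sm gd N448
def N652 : Q := sm gc N449
def N653 : Q := sm ge N449
def N654 : Q := sm gc N450
def N655 : Q := sm ge N450
def N656 : Q := sm gb N451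
def N657 : Q := sm ge N451
def N658 : Q := sm gf N452
def N659 : Q := sm gb N453
def N660 : Q := sm ge N453
def N661 : Q := sm gf N454
def N662 : Q := sm ga N455
def N663 : Q := sm ge N455
def N664 : Q := sm gd N456
def N665 : Q := sm gf N456
def N666 : Q := sm gg N457
def N667 : Q := sm ga N458
def N668 : Q := sm ge N458
def N669 : Q := sm gd N459
def N670 : Q := sm gf N459
def N671 : Q := sm gg N460
def N672 : Q := sm ge N461
def N673 : Q := sm gd N462
def N674 : Q := sm gf N462
def N675 : Q := sm gf N463
def N676 : Q := sm gg N464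
def N677 : Q := sm gj N465
def N678 : Q := sm gb N466
def N679 : Q := sm ge N466
def N680 : Q := sm gf N467
def N681 : Q := sm ga N468
def N682 : Q := sm ge N468
def N683 : Q := sm gd N469
def N684 : Q := sm gf N469
def N685 : Q := sm gg N470
def N686 : Q := sm ge N471
def N687 : Q := sm gd N472
def N688 : Q := sm gf N472
def N689 : Q := sm gf N473
def N690 : Q := sm gh N473
def N691 : Q := sm gg N474
def N692 : Q := sm gj N475
def N693 : Q := sm gf N476
def N694 : Q := sm gg N477
def N695 : Q := sm gj N478
def N696 : Q := sm ga N480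
def N697 : Q := sm ge N480
def N698 : Q := sm gd N481
def N699 : Q := sm gf N481
def N700 : Q := sm gg N482
def N701 : Q := sm ge N483
def N702 : Q := sm gd N484
def N703 : Q := sm gf N484
def N704 : Q := sm gf N485
def N705 : Q := sm gh N485
def N706 : Q := sm gd N487
def N707 : Q := sm gc N488
def N708 : Q := sm gh N488
def N709 : Q := sm gi N489
def N710 : Q := sm ge N490
def N711 : Q := sm gd N491
def N712 : Q := sm gf N491
def N713 : Q := sm gf N492
def N714 : Q := sm gh N492
def N715 : Q := sm gg N493
def N716 : Q := sm gd N495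
def N717 : Q := sm gf N495
def N718 : Q := sm gc N496
def N719 : Q := sm gf N496
def N721 : Q := sm ge N498
def N722 : Q := sm gh N498
def N723 : Q := sm gi N499
def N724 : Q := sm gc N500
def N726 : Q := sm gh N501
def N728 : Q := sm gf N504
def N729 : Q := sm gj N504
def N730 : Q := sm gi N504
def N731 : Q := sm gh N505
def N732 : Q := sm gj N506
def N733 : Q := sm gh N506
def N734 : Q := sm gi N506
def N735 : Q := sm gh N507
def N736 : Q := sm gi N507
def N737 : Q := sm gi N508
def N738 : Q := sm gh N509
def N739 : Q := sm gh N510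
def N740 : Q := sm gd N511
def N741 : Q := sm gd N512
def N742 : Q := sm gi N512
def N743 : Q := sm gh N513
def N744 : Q := sm gi N514
def N745 : Q := sm gh N515
def N746 : Q := sm gd N516
def N747 : Q := sm gh N517
def N748 : Q := sm gd N518
def N749 : Q := sm gc N519
def N750 : Q := sm ge N519
def N751 : Q := sm gh N520
def N752 : Q := sm gd N521
def N753 : Q := sm gc N522
def N754 : Q := sm ge N522
def N755 : Q := sm gb N523
def N756 : Q := sm ge N523
def N757 : Q := sm gf N524
def N758 : Q := sm gg N525
def N759 : Q := sm gh N525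
def N760 : Q := sm gi N525
def N761 : Q := sm gd N526
def N762 : Q := sm gi N526
def N763 : Q := sm gh N527
def N764 : Q := sm gd N528
def N765 : Q := sm gi N528
def N766 : Q := sm gh N529
def N767 : Q := sm gi N530
def N768 : Q := sm gh N531
def N769 : Q := sm gd N532
def N770 : Q := sm gh N533
def N771 : Q := sm gd N534
def N772 : Q := sm gc N535
def N773 : Q := sm ge N535
def N774 : Q := sm gh N536
def N775 : Q := sm gd N537
def N776 : Q := sm gd N538
def N777 : Q := sm gc N539
def N778 : Q := sm ge N539
def N779 : Q := sm gc N540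
def N780 : Q := sm ge N540
def N781 : Q := sm gb N541
def N782 : Q := sm ge N541
def N783 : Q := sm gf N542
def N784 : Q := sm gb N543
def N785 : Q := sm ge N543
def N786 : Q := sm gf N544
def N787 : Q := sm ga N545
def N788 : Q := sm ge N545
def N789 : Q := sm gd N546
def N790 : Q := sm gf N546
def N791 : Q := sm gg N547
def N792 : Q := sm gc N548
def N793 : Q := sm ge N548
def N794 : Q := sm gb N549
def N795 : Q := sm ge N549
def N796 : Q := sm gf N550
def N797 : Q := sm ga N551
def N798 : Q := sm ge N551
def N799 : Q := sm gd N552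
def N800 : Q := sm gf N552
def N801 : Q := sm gg N553
def N802 : Q := sm ge N554
def N803 : Q := sm gd N555
def N804 : Q := sm gf N555
def N805 : Q := sm gf N556
def N806 : Q := sm gh N556
def N807 : Q := sm gg N557
def N808 : Q := sm gj N558
def N809 : Q := sm ge N559
def N810 : Q := sm gg N559
def N811 : Q := sm gh N559
def N812 : Q := sm gi N560
def N813 : Q := sm gj N561
def N814 : Q := sm gh N563
def N815 : Q := sm gi N563
def N816 : Q := sm gd N564
def N817 : Q := sm gi N564
def N818 : Q := sm gh N565
def N819 : Q := sm gc N566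
def N820 : Q := sm ge N566
def N821 : Q := sm gi N566
def N822 : Q := sm gh N567
def N823 : Q := sm gd N568
def N824 : Q := sm gc N569
def N825 : Q := sm gi N569
def N826 : Q := sm gh N570
def N827 : Q := sm gd N571
def N828 : Q := sm gi N572
def N829 : Q := sm gh N573
def N830 : Q := sm gd N574
def N831 : Q := sm gc N575
def N832 : Q := sm ge N575
def N833 : Q := sm gh N576
def N834 : Q := sm gd N577
def N835 : Q := sm gc N578
def N836 : Q := sm ge N578
def N837 : Q := sm gb N579
def N838 : Q := sm ge N579
def N839 : Q := sm gf N580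
def N840 : Q := sm gd N581
def N841 : Q := sm gc N582
def N842 : Q := sm ge N582
def N843 : Q := sm gc N583
def N844 : Q := sm ge N583
def N845 : Q := sm gb N584
def N846 : Q := sm ge N584
def N847 : Q := sm gf N585
def N848 : Q := sm gb N586
def N849 : Q := sm ge N586
def N850 : Q := sm gf N587
def N851 : Q := sm ga N588
def N852 : Q := sm ge N588
def N853 : Q := sm gd N589
def N854 : Q := sm gf N589
def N855 : Q := sm gg N590
def N856 : Q := sm ga N591
def N857 : Q := sm ge N591
def N858 : Q := sm gd N592
def N859 : Q := sm gf N592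
def N860 : Q := sm gg N593
def N861 : Q := sm ge N594
def N862 : Q := sm gd N595
def N863 : Q := sm gf N595
def N864 : Q := sm gf N596
def N865 : Q := sm gg N597
def N866 : Q := sm gj N598
def N867 : Q := sm gb N599
def N868 : Q := sm ge N599
def N869 : Q := sm gf N600
def N870 : Q := sm ga N601
def N871 : Q := sm ge N601
def N872 : Q := sm gd N602
def N873 : Q := sm gf N602
def N874 : Q := sm gg N603
def N875 : Q := sm ge N604
def N876 : Q := sm gd N605
def N877 : Q := sm gf N605
def N878 : Q := sm gf N606
def N879 : Q := sm gh N606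
def N880 : Q := sm gg N607
def N881 : Q := sm gj N608
def N882 : Q := sm gf N609
def N883 : Q := sm gg N610
def N884 : Q := sm gj N611
def N885 : Q := sm ga N613
def N886 : Q := sm ge N613
def N887 : Q := sm gd N614
def N888 : Q := sm gf N614
def N889 : Q := sm gg N615
def N890 : Q := sm ge N616
def N891 : Q := sm gd N617
def N892 : Q := sm gf N617
def N893 : Q := sm gf N618
def N894 : Q := sm gh N618
def N895 : Q := sm gd N620
def N896 : Q := sm gc N621
def N897 : Q := sm gh N621
def N898 : Q := sm gi N622
def N899 : Q := sm gd N623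
def N900 : Q := sm gi N623
def N901 : Q := sm gh N624
def N902 : Q := sm gc N625
def N903 : Q := sm ge N625
def N904 : Q := sm gi N625
def N905 : Q := sm gh N626
def N906 : Q := sm gd N627
def N907 : Q := sm gb N628
def N908 : Q := sm ge N628
def N909 : Q := sm gi N628
def N910 : Q := sm gi N629
def N911 : Q := sm gh N630
def N912 : Q := sm gd N631
def N913 : Q := sm gc N632
def N914 : Q := sm ge N632
def N915 : Q := sm gb N633
def N916 : Q := sm gi N633
def N917 : Q := sm gh N634
def N918 : Q := sm gd N635
def N919 : Q := sm gc N636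
def N920 : Q := sm ge N636
def N921 : Q := sm gi N637
def N922 : Q := sm gh N638
def N923 : Q := sm gd N639
def N924 : Q := sm gc N640
def N925 : Q := sm ge N640
def N926 : Q := sm gb N641
def N927 : Q := sm ge N641
def N928 : Q := sm gf N642
def N929 : Q := sm gh N643
def N930 : Q := sm gd N644
def N931 : Q := sm gc N645
def N932 : Q := sm ge N645
def N933 : Q := sm gb N646
def N934 : Q := sm ge N646
def N935 : Q := sm gf N647
def N936 : Q := sm ga N648
def N937 : Q := sm ge N648
def N938 : Q := sm gd N649
def N939 : Q := sm gf N649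
def N940 : Q := sm gg N650
def N941 : Q := sm gc N651
def N942 : Q := sm ge N651
def N943 : Q := sm gb N652
def N944 : Q := sm ge N652
def N945 : Q := sm gf N653
def N946 : Q := sm gb N654
def N947 : Q := sm ge N654
def N948 : Q := sm gf N655
def N949 : Q := sm ga N656
def N950 : Q := sm ge N656
def N951 : Q := sm gd N657
def N952 : Q := sm gf N657
def N953 : Q := sm gg N658
def N954 : Q := sm ga N659
def N955 : Q := sm ge N659
def N956 : Q := sm gd N660
def N957 : Q := sm gf N660
def N958 : Q := sm gg N661
def N959 : Q := sm ge N662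
def N960 : Q := sm gd N663
def N961 : Q := sm gf N663
def N962 : Q := sm gf N664
def N963 : Q := sm gh N664
def N964 : Q := sm gg N665
def N965 : Q := sm gj N666
def N966 : Q := sm ge N667
def N967 : Q := sm gd N668
def N968 : Q := sm gf N668
def N969 : Q := sm gf N669
def N970 : Q := sm gh N669
def N971 : Q := sm gg N670
def N972 : Q := sm gj N671
def N973 : Q := sm gd N672
def N974 : Q := sm gf N672
def N975 : Q := sm gc N673
def N976 : Q := sm gf N673
def N977 : Q := sm gg N674
def N978 : Q := sm ge N675
def N979 : Q := sm gg N675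
def N980 : Q := sm gj N676
def N981 : Q := sm ga N678
def N982 : Q := sm ge N678
def N983 : Q := sm gd N679
def N984 : Q := sm gf N679
def N985 : Q := sm gg N680
def N986 : Q := sm ge N681
def N987 : Q := sm gd N682
def N988 : Q := sm gf N682
def N989 : Q := sm gf N683
def N990 : Q := sm gh N683
def N991 : Q := sm gg N684
def N992 : Q := sm gj N685
def N993 : Q := sm gd N686
def N994 : Q := sm gf N686
def N995 : Q := sm gc N687
def N996 : Q := sm gf N687
def N997 : Q := sm gh N687
def N998 : Q := sm gg N688
def N999 : Q := sm gg N689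
def N1000 : Q := sm gh N689
def N1001 : Q := sm gi N690
def N1002 : Q := sm gj N691
def N1003 : Q := sm gg N693
def N1004 : Q := sm gj N694
def N1005 : Q := sm ge N696
def N1006 : Q := sm gd N697
def N1007 : Q := sm gf N697
def N1008 : Q := sm gf N698
def N1009 : Q := sm gh N698
def N1010 : Q := sm gg N699
def N1011 : Q := sm gd N701
def N1012 : Q := sm gf N701
def N1013 : Q := sm gc N702
def N1014 : Q := sm gf N702
def N1015 : Q := sm gh N702
def N1016 : Q := sm ge N704
def N1017 : Q := sm gh N704
def N1018 : Q := sm gi N705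
def N1019 : Q := sm gc N706
def N1020 : Q := sm gh N706
def N1021 : Q := sm gh N707
def N1022 : Q := sm gi N708
def N1023 : Q := sm gd N710
def N1024 : Q := sm gf N710
def N1025 : Q := sm gc N711
def N1026 : Q := sm gf N711
def N1027 : Q := sm gh N711
def N1028 : Q := sm gg N712
def N1029 : Q := sm ge N713
def N1030 : Q := sm gg N713
def N1031 : Q := sm gh N713
def N1032 : Q := sm gi N714
def N1033 : Q := sm gc N716
def N1034 : Q := sm gf N716
def N1035 : Q := sm gh N716
def N1036 : Q := sm gf N718
def N1037 : Q := sm gh N718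
def N1038 : Q := sm ge N719
def N1039 : Q := sm gh N719
def N1041 : Q := sm gh N721
def N1042 : Q := sm gi N722
def N1043 : Q := sm gb N724
def N1044 : Q := sm gh N724
def N1046 : Q := sm gd N726
def N1048 : Q := sm ge N728
def N1049 : Q := sm gj N728
def N1050 : Q := sm gi N728
def N1051 : Q := sm gi N729
def N1052 : Q := sm gh N730
def N1053 : Q := sm gd N731
def N1054 : Q := sm gg N732
def N1055 : Q := sm gh N732
def N1056 : Q := sm gi N732
def N1057 : Q := sm gi N733
def N1058 : Q := sm gh N734
def N1059 : Q := sm gi N735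
def N1060 : Q := sm gh N736
def N1061 : Q := sm gh N737
def N1062 : Q := sm gd N738
def N1063 : Q := sm gd N739
def N1064 : Q := sm gc N740
def N1065 : Q := sm ge N740
def N1066 : Q := sm gi N741
def N1067 : Q := sm gh N742
def N1068 : Q := sm gd N743
def N1069 : Q := sm gh N744
def N1070 : Q := sm gd N745
def N1071 : Q := sm gc N746
def N1072 : Q := sm ge N746
def N1073 : Q := sm gd N747
def N1074 : Q := sm gc N748
def N1075 : Q := sm ge N748
def N1076 : Q := sm gb N749
def N1077 : Q := sm ge N749
def N1078 : Q := sm gf N750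
def N1079 : Q := sm gd N751
def N1080 : Q := sm gc N752
def N1081 : Q := sm ge N752
def N1082 : Q := sm gb N753
def N1083 : Q := sm ge N753
def N1084 : Q := sm gf N754
def N1085 : Q := sm ga N755
def N1086 : Q := sm ge N755
def N1087 : Q := sm gd N756
def N1088 : Q := sm gf N756
def N1089 : Q := sm gg N757
def N1090 : Q := sm gh N758
def N1091 : Q := sm gi N758
def N1092 : Q := sm gd N759
def N1093 : Q := sm gi N759
def N1094 : Q := sm gh N760
def N1095 : Q := sm ge N761
def N1096 : Q := sm gi N761
def N1097 : Q := sm gh N762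
def N1098 : Q := sm gd N763
def N1099 : Q := sm gi N764
def N1100 : Q := sm gh N765
def N1101 : Q := sm gd N766
def N1102 : Q := sm gh N767
def N1103 : Q := sm gd N768
def N1104 : Q := sm gc N769
def N1105 : Q := sm ge N769
def N1106 : Q := sm gd N770
def N1107 : Q := sm gc N771
def N1108 : Q := sm ge N771
def N1109 : Q := sm gb N772
def N1110 : Q := sm ge N772
def N1111 : Q := sm gf N773
def N1112 : Q := sm gd N774
def N1113 : Q := sm gc N775
def N1114 : Q := sm ge N775
def N1115 : Q := sm gc N776
def N1116 : Q := sm ge N776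
def N1117 : Q := sm gb N777
def N1118 : Q := sm ge N777
def N1119 : Q := sm gf N778
def N1120 : Q := sm gb N779
def N1121 : Q := sm ge N779
def N1122 : Q := sm gf N780
def N1123 : Q := sm ga N781
def N1124 : Q := sm ge N781
def N1125 : Q := sm gd N782
def N1126 : Q := sm gf N782
def N1127 : Q := sm gg N783
def N1128 : Q := sm ga N784
def N1129 : Q := sm ge N784
def N1130 : Q := sm gd N785
def N1131 : Q := sm gf N785
def N1132 : Q := sm gg N786
def N1133 : Q := sm ge N787
def N1134 : Q := sm gd N788
def N1135 : Q := sm gf N788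
def N1136 : Q := sm gf N789
def N1137 : Q := sm gh N789
def N1138 : Q := sm gg N790
def N1139 : Q := sm gj N791
def N1140 : Q := sm gb N792
def N1141 : Q := sm ge N792
def N1142 : Q := sm gf N793
def N1143 : Q := sm ga N794
def N1144 : Q := sm ge N794
def N1145 : Q := sm gd N795
def N1146 : Q := sm gf N795
def N1147 : Q := sm gg N796
def N1148 : Q := sm ge N797
def N1149 : Q := sm gd N798
def N1150 : Q := sm gf N798
def N1151 : Q := sm gf N799
def N1152 : Q := sm gh N799
def N1153 : Q := sm gg N800
def N1154 : Q := sm gj N801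
def N1155 : Q := sm gd N802
def N1156 : Q := sm gf N802
def N1157 : Q := sm gf N803
def N1158 : Q := sm gh N803
def N1159 : Q := sm gg N804
def N1160 : Q := sm ge N805
def N1161 : Q := sm gg N805
def N1162 : Q := sm gh N805
def N1163 : Q := sm gi N806
def N1164 : Q := sm gj N807
def N1165 : Q := sm gg N809
def N1166 : Q := sm gh N809
def N1167 : Q := sm gj N810
def N1168 : Q := sm gh N810
def N1169 : Q := sm gi N811
def N1170 : Q := sm gd N814
def N1171 : Q := sm gi N814
def N1172 : Q := sm gh N815
def N1173 : Q := sm gc N816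
def N1174 : Q := sm ge N816
def N1175 : Q := sm gi N816
def N1176 : Q := sm gh N817
def N1177 : Q := sm gd N818
def N1178 : Q := sm ge N819
def N1179 : Q := sm gi N819
def N1180 : Q := sm gi N820
def N1181 : Q := sm gh N821
def N1182 : Q := sm gd N822
def N1183 : Q := sm gc N823
def N1184 : Q := sm ge N823
def N1185 : Q := sm gi N824
def N1186 : Q := sm gh N825
def N1187 : Q := sm gd N826
def N1188 : Q := sm gc N827
def N1189 : Q := sm ge N827
def N1190 : Q := sm gh N828
def N1191 : Q := sm gd N829
def N1192 : Q := sm gc N830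
def N1193 : Q := sm ge N830
def N1194 : Q := sm gb N831
def N1195 : Q := sm ge N831
def N1196 : Q := sm gf N832
def N1197 : Q := sm gd N833
def N1198 : Q := sm gc N834
def N1199 : Q := sm ge N834
def N1200 : Q := sm gb N835
def N1201 : Q := sm ge N835
def N1202 : Q := sm gf N836
def N1203 : Q := sm ga N837
def N1204 : Q := sm ge N837
def N1205 : Q := sm gd N838
def N1206 : Q := sm gf N838
def N1207 : Q := sm gg N839
def N1208 : Q := sm gc N840
def N1209 : Q := sm ge N840
def N1210 : Q := sm gb N841
def N1211 : Q := sm ge N841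
def N1212 : Q := sm gf N842
def N1213 : Q := sm gb N843
def N1214 : Q := sm ge N843
def N1215 : Q := sm gf N844
def N1216 : Q := sm ga N845
def N1217 : Q := sm ge N845
def N1218 : Q := sm gd N846
def N1219 : Q := sm gf N846
def N1220 : Q := sm gg N847
def N1221 : Q := sm ga N848
def N1222 : Q := sm ge N848
def N1223 : Q := sm gd N849
def N1224 : Q := sm gf N849
def N1225 : Q := sm gg N850
def N1226 : Q := sm ge N851
def N1227 : Q := sm gd N852
def N1228 : Q := sm gf N852
def N1229 : Q := sm gf N853
def N1230 : Q := sm gh N853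
def N1231 : Q := sm gg N854
def N1232 : Q := sm gj N855
def N1233 : Q := sm ge N856
def N1234 : Q := sm gd N857
def N1235 : Q := sm gf N857
def N1236 : Q := sm gf N858
def N1237 : Q := sm gh N858
def N1238 : Q := sm gg N859
def N1239 : Q := sm gj N860
def N1240 : Q := sm gd N861
def N1241 : Q := sm gf N861
def N1242 : Q := sm gc N862
def N1243 : Q := sm gf N862
def N1244 : Q := sm gg N863
def N1245 : Q := sm ge N864
def N1246 : Q := sm gg N864
def N1247 : Q := sm gj N865
def N1248 : Q := sm ga N867
def N1249 : Q := sm ge N867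
def N1250 : Q := sm gd N868
def N1251 : Q := sm gf N868
def N1252 : Q := sm gg N869
def N1253 : Q := sm ge N870
def N1254 : Q := sm gd N871
def N1255 : Q := sm gf N871
def N1256 : Q := sm gf N872
def N1257 : Q := sm gh N872
def N1258 : Q := sm gg N873
def N1259 : Q := sm gj N874
def N1260 : Q := sm gd N875
def N1261 : Q := sm gf N875
def N1262 : Q := sm gc N876
def N1263 : Q := sm gf N876
def N1264 : Q := sm gh N876
def N1265 : Q := sm gg N877
def N1266 : Q := sm gg N878
def N1267 : Q := sm gh N878
def N1268 : Q := sm gi N879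
def N1269 : Q := sm gj N880
def N1270 : Q := sm gg N882
def N1271 : Q := sm gj N883
def N1272 : Q := sm ge N885
def N1273 : Q := sm gd N886
def N1274 : Q := sm gf N886
def N1275 : Q := sm gf N887
def N1276 : Q := sm gh N887
def N1277 : Q := sm gg N888
def N1278 : Q := sm gd N890
def N1279 : Q := sm gf N890
def N1280 : Q := sm gc N891
def N1281 : Q := sm gf N891
def N1282 : Q := sm gh N891
def N1283 : Q := sm ge N893
def N1284 : Q := sm gh N893
def N1285 : Q := sm gi N894
def N1286 : Q := sm gc N895
def N1287 : Q := sm gh N895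
def N1288 : Q := sm gh N896
def N1289 : Q := sm gi N897
def N1290 : Q := sm gc N899
def N1291 : Q := sm ge N899
def N1292 : Q := sm gi N899
def N1293 : Q := sm gh N900
def N1294 : Q := sm gd N901
def N1295 : Q := sm gb N902
def N1296 : Q := sm ge N902
def N1297 : Q := sm gi N902
def N1298 : Q := sm gi N903
def N1299 : Q := sm gh N904
def N1300 : Q := sm gd N905
def N1301 : Q := sm gc N906
def N1302 : Q := sm ge N906
def N1303 : Q := sm ge N907
def N1304 : Q := sm gi N907
def N1305 : Q := sm gd N908
def N1306 : Q := sm gi N908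
def N1307 : Q := sm gh N909
def N1308 : Q := sm gh N910
def N1309 : Q := sm gd N911
def N1310 : Q := sm gc N912
def N1311 : Q := sm ge N912
def N1312 : Q := sm gb N913
def N1313 : Q := sm ge N913
def N1314 : Q := sm gf N914
def N1315 : Q := sm gi N915
def N1316 : Q := sm gh N916
def N1317 : Q := sm gd N917
def N1318 : Q := sm gc N918
def N1319 : Q := sm ge N918
def N1320 : Q := sm gb N919
def N1321 : Q := sm ge N919
def N1322 : Q := sm gf N920
def N1323 : Q := sm gh N921
def N1324 : Q := sm gd N922
def N1325 : Q := sm gc N923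
def N1326 : Q := sm ge N923
def N1327 : Q := sm gb N924
def N1328 : Q := sm ge N924
def N1329 : Q := sm gf N925
def N1330 : Q := sm ga N926
def N1331 : Q := sm ge N926
def N1332 : Q := sm gd N927
def N1333 : Q := sm gf N927
def N1334 : Q := sm gg N928
def N1335 : Q := sm gd N929
def N1336 : Q := sm gc N930
def N1337 : Q := sm ge N930
def N1338 : Q := sm gb N931
def N1339 : Q := sm ge N931
def N1340 : Q := sm gf N932
def N1341 : Q := sm ga N933
def N1342 : Q := sm ge N933
def N1343 : Q := sm gd N934
def N1344 : Q := sm gf N934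
def N1345 : Q := sm gg N935
def N1346 : Q := sm ge N936
def N1347 : Q := sm gd N937
def N1348 : Q := sm gf N937
def N1349 : Q := sm gf N938
def N1350 : Q := sm gh N938
def N1351 : Q := sm gg N939
def N1352 : Q := sm gj N940
def N1353 : Q := sm gb N941
def N1354 : Q := sm ge N941
def N1355 : Q := sm gf N942
def N1356 : Q := sm ga N943
def N1357 : Q := sm ge N943
def N1358 : Q := sm gd N944
def N1359 : Q := sm gf N944
def N1360 : Q := sm gg N945
def N1361 : Q := sm ga N946
def N1362 : Q := sm ge N946
def N1363 : Q := sm gd N947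
def N1364 : Q := sm gf N947
def N1365 : Q := sm gg N948
def N1366 : Q := sm ge N949
def N1367 : Q := sm gd N950
def N1368 : Q := sm gf N950
def N1369 : Q := sm gf N951
def N1370 : Q := sm gh N951
def N1371 : Q := sm gg N952
def N1372 : Q := sm gj N953
def N1373 : Q := sm ge N954
def N1374 : Q := sm gd N955
def N1375 : Q := sm gf N955
def N1376 : Q := sm gf N956
def N1377 : Q := sm gh N956
def N1378 : Q := sm gg N957
def N1379 : Q := sm gj N958
def N1380 : Q := sm gd N959
def N1381 : Q := sm gf N959
def N1382 : Q := sm gc N960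
def N1383 : Q := sm gf N960
def N1384 : Q := sm gh N960
def N1385 : Q := sm gg N961
def N1386 : Q := sm ge N962
def N1387 : Q := sm gg N962
def N1388 : Q := sm gh N962
def N1389 : Q := sm gi N963
def N1390 : Q := sm gj N964
def N1391 : Q := sm gd N966
def N1392 : Q := sm gf N966
def N1393 : Q := sm gc N967
def N1394 : Q := sm gf N967
def N1395 : Q := sm gh N967
def N1396 : Q := sm gg N968
def N1397 : Q := sm ge N969
def N1398 : Q := sm gg N969
def N1399 : Q := sm gh N969
def N1400 : Q := sm gj N971
def N1401 : Q := sm gc N973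
def N1402 : Q := sm gf N973
def N1403 : Q := sm gg N974
def N1404 : Q := sm gf N975
def N1405 : Q := sm ge N976
def N1406 : Q := sm gg N976
def N1407 : Q := sm gj N977
def N1408 : Q := sm gg N978
def N1409 : Q := sm gj N979
def N1410 : Q := sm ge N981
def N1411 : Q := sm gd N982
def N1412 : Q := sm gf N982
def N1413 : Q := sm gf N983
def N1414 : Q := sm gh N983
def N1415 : Q := sm gg N984
def N1416 : Q := sm gj N985
def N1417 : Q := sm gd N986
def N1418 : Q := sm gf N986
def N1419 : Q := sm gc N987
def N1420 : Q := sm gf N987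
def N1421 : Q := sm gh N987
def N1422 : Q := sm gg N988
def N1423 : Q := sm ge N989
def N1424 : Q := sm gg N989
def N1425 : Q := sm gh N989
def N1426 : Q := sm gi N990
def N1427 : Q := sm gj N991
def N1428 : Q := sm gc N993
def N1429 : Q := sm gf N993
def N1430 : Q := sm gh N993
def N1431 : Q := sm gg N994
def N1432 : Q := sm gf N995
def N1433 : Q := sm gh N995
def N1434 : Q := sm gg N996
def N1435 : Q := sm gh N996
def N1437 : Q := sm gj N998
def N1438 : Q := sm gj N999
def N1439 : Q := sm gh N999
def N1440 : Q := sm gi N1000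
def N1441 : Q := sm gj N1003
def N1442 : Q := sm gd N1005
def N1443 : Q := sm gf N1005
def N1444 : Q := sm gc N1006
def N1445 : Q := sm gf N1006
def N1446 : Q := sm gh N1006
def N1447 : Q := sm gg N1007
def N1448 : Q := sm ge N1008
def N1449 : Q := sm gg N1008
def N1450 : Q := sm gh N1008
def N1451 : Q := sm gi N1009
def N1452 : Q := sm gc N1011
def N1453 : Q := sm gf N1011
def N1455 : Q := sm gf N1013
def N1456 : Q := sm gh N1013
def N1457 : Q := sm ge N1014
def N1458 : Q := sm gh N1014
def N1459 : Q := sm gi N1015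
def N1460 : Q := sm gh N1016
def N1461 : Q := sm gi N1017
def N1462 : Q := sm gb N1019
def N1463 : Q := sm gh N1019
def N1465 : Q := sm gd N1021
def N1467 : Q := sm gc N1023
def N1468 : Q := sm gf N1023
def N1469 : Q := sm gh N1023
def N1470 : Q := sm gg N1024
def N1471 : Q := sm gf N1025
def N1472 : Q := sm gh N1025
def N1473 : Q := sm ge N1026
def N1474 : Q := sm gg N1026
def N1475 : Q := sm gh N1026
def N1477 : Q := sm gg N1029
def N1478 : Q := sm gh N1029
def N1479 : Q := sm gh N1030
def N1480 : Q := sm gi N1031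
def N1481 : Q := sm gb N1033
def N1482 : Q := sm gf N1033
def N1483 : Q := sm gh N1033
def N1484 : Q := sm ge N1034
def N1485 : Q := sm gh N1034
def N1486 : Q := sm gi N1035
def N1487 : Q := sm ge N1036
def N1488 : Q := sm gh N1036
def N1489 : Q := sm gd N1037
def N1491 : Q := sm gh N1038
def N1493 : Q := sm gd N1041
def N1494 : Q := sm gi N1041
def N1495 : Q := sm gh N1043
def N1496 : Q := sm gd N1044
def N1497 : Q := sm gi N1044
def N1498 : Q := sm ge N1046
def N1500 : Q := sm gj N1048
def N1501 : Q := sm gi N1048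
def N1502 : Q := sm gg N1049
def N1503 : Q := sm gi N1049
def N1504 : Q := sm gh N1050
def N1505 : Q := sm gh N1051
def N1506 : Q := sm gd N1052
def N1507 : Q := sm gc N1053
def N1508 : Q := sm ge N1053
def N1509 : Q := sm gh N1054
def N1510 : Q := sm gi N1054
def N1511 : Q := sm gi N1055
def N1512 : Q := sm gh N1056
def N1513 : Q := sm gh N1057
def N1514 : Q := sm gd N1058
def N1515 : Q := sm gh N1059
def N1516 : Q := sm gd N1060
def N1517 : Q := sm gd N1061
def N1518 : Q := sm gc N1062
def N1519 : Q := sm ge N1062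
def N1520 : Q := sm gc N1063
def N1521 : Q := sm ge N1063
def N1522 : Q := sm gb N1064
def N1523 : Q := sm ge N1064
def N1524 : Q := sm gf N1065
def N1525 : Q := sm gh N1066
def N1526 : Q := sm gd N1067
def N1527 : Q := sm gc N1068
def N1528 : Q := sm ge N1068
def N1529 : Q := sm gd N1069
def N1530 : Q := sm gc N1070
def N1531 : Q := sm ge N1070
def N1532 : Q := sm gb N1071
def N1533 : Q := sm ge N1071
def N1534 : Q := sm gf N1072
def N1535 : Q := sm gc N1073
def N1536 : Q := sm ge N1073
def N1537 : Q := sm gb N1074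
def N1538 : Q := sm ge N1074
def N1539 : Q := sm gf N1075
def N1540 : Q := sm ga N1076
def N1541 : Q := sm ge N1076
def N1542 : Q := sm gd N1077
def N1543 : Q := sm gf N1077
def N1544 : Q := sm gg N1078
def N1545 : Q := sm gc N1079
def N1546 : Q := sm ge N1079
def N1547 : Q := sm gb N1080
def N1548 : Q := sm ge N1080
def N1549 : Q := sm gf N1081
def N1550 : Q := sm ga N1082
def N1551 : Q := sm ge N1082
def N1552 : Q := sm gd N1083
def N1553 : Q := sm gf N1083
def N1554 : Q := sm gg N1084
def N1555 : Q := sm ge N1085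
def N1556 : Q := sm gd N1086
def N1557 : Q := sm gf N1086
def N1558 : Q := sm gf N1087
def N1559 : Q := sm gh N1087
def N1560 : Q := sm gg N1088
def N1561 : Q := sm gj N1089
def N1562 : Q := sm gd N1090
def N1563 : Q := sm gi N1090
def N1564 : Q := sm gh N1091
def N1565 : Q := sm ge N1092
def N1566 : Q := sm gi N1092
def N1567 : Q := sm gh N1093
def N1568 : Q := sm gd N1094
def N1569 : Q := sm gi N1095
def N1570 : Q := sm gh N1096
def N1571 : Q := sm gd N1097
def N1572 : Q := sm gc N1098
def N1573 : Q := sm ge N1098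
def N1574 : Q := sm gh N1099
def N1575 : Q := sm gd N1100
def N1576 : Q := sm gc N1101
def N1577 : Q := sm ge N1101
def N1578 : Q := sm gd N1102
def N1579 : Q := sm gc N1103
def N1580 : Q := sm ge N1103
def N1581 : Q := sm gb N1104
def N1582 : Q := sm ge N1104
def N1583 : Q := sm gf N1105
def N1584 : Q := sm gc N1106
def N1585 : Q := sm ge N1106
def N1586 : Q := sm gb N1107
def N1587 : Q := sm ge N1107
def N1588 : Q := sm gf N1108
def N1589 : Q := sm ga N1109
def N1590 : Q := sm ge N1109
def N1591 : Q := sm gd N1110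
def N1592 : Q := sm gf N1110
def N1593 : Q := sm gg N1111
def N1594 : Q := sm gc N1112
def N1595 : Q := sm ge N1112
def N1596 : Q := sm gb N1113
def N1597 : Q := sm ge N1113
def N1598 : Q := sm gf N1114
def N1599 : Q := sm gb N1115
def N1600 : Q := sm ge N1115
def N1601 : Q := sm gf N1116
def N1602 : Q := sm ga N1117
def N1603 : Q := sm ge N1117
def N1604 : Q := sm gd N1118
def N1605 : Q := sm gf N1118
def N1606 : Q := sm gg N1119
def N1607 : Q := sm ga N1120
def N1608 : Q := sm ge N1120
def N1609 : Q := sm gd N1121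
def N1610 : Q := sm gf N1121
def N1611 : Q := sm gg N1122
def N1612 : Q := sm ge N1123
def N1613 : Q := sm gd N1124
def N1614 : Q := sm gf N1124
def N1615 : Q := sm gf N1125
def N1616 : Q := sm gh N1125
def N1617 : Q := sm gg N1126
def N1618 : Q := sm gj N1127
def N1619 : Q := sm ge N1128
def N1620 : Q := sm gd N1129
def N1621 : Q := sm gf N1129
def N1622 : Q := sm gf N1130
def N1623 : Q := sm gh N1130
def N1624 : Q := sm gg N1131
def N1625 : Q := sm gj N1132
def N1626 : Q := sm gd N1133
def N1627 : Q := sm gf N1133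
def N1628 : Q := sm gc N1134
def N1629 : Q := sm gf N1134
def N1630 : Q := sm gh N1134
def N1631 : Q := sm gg N1135
def N1632 : Q := sm ge N1136
def N1633 : Q := sm gg N1136
def N1634 : Q := sm gh N1136
def N1635 : Q := sm gi N1137
def N1636 : Q := sm gj N1138
def N1637 : Q := sm ga N1140
def N1638 : Q := sm ge N1140
def N1639 : Q := sm gd N1141
def N1640 : Q := sm gf N1141
def N1641 : Q := sm gg N1142
def N1642 : Q := sm ge N1143
def N1643 : Q := sm gd N1144
def N1644 : Q := sm gf N1144
def N1645 : Q := sm gf N1145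
def N1646 : Q := sm gh N1145
def N1647 : Q := sm gg N1146
def N1648 : Q := sm gj N1147
def N1649 : Q := sm gd N1148
def N1650 : Q := sm gf N1148
def N1651 : Q := sm gc N1149
def N1652 : Q := sm gf N1149
def N1653 : Q := sm gh N1149
def N1654 : Q := sm gg N1150
def N1655 : Q := sm ge N1151
def N1656 : Q := sm gg N1151
def N1657 : Q := sm gh N1151
def N1658 : Q := sm gi N1152
def N1659 : Q := sm gj N1153
def N1660 : Q := sm gf N1155
def N1661 : Q := sm gh N1155
def N1662 : Q := sm gg N1156
def N1663 : Q := sm ge N1157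
def N1664 : Q := sm gg N1157
def N1665 : Q := sm gh N1157
def N1666 : Q := sm gi N1158
def N1667 : Q := sm gj N1159
def N1668 : Q := sm gg N1160
def N1669 : Q := sm gh N1160
def N1670 : Q := sm gj N1161
def N1671 : Q := sm gh N1161
def N1672 : Q := sm gi N1162
def N1673 : Q := sm gf N1165
def N1674 : Q := sm gj N1165
def N1675 : Q := sm gh N1165
def N1676 : Q := sm gd N1166
def N1677 : Q := sm gi N1166
def N1678 : Q := sm gh N1167
def N1679 : Q := sm gi N1168
def N1680 : Q := sm gc N1170
def N1681 : Q := sm ge N1170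
def N1682 : Q := sm gi N1170
def N1683 : Q := sm gh N1171
def N1684 : Q := sm gd N1172
def N1685 : Q := sm ge N1173
def N1686 : Q := sm gi N1173
def N1687 : Q := sm gi N1174
def N1688 : Q := sm gh N1175
def N1689 : Q := sm gd N1176
def N1690 : Q := sm gc N1177
def N1691 : Q := sm ge N1177
def N1692 : Q := sm gd N1178
def N1693 : Q := sm gi N1178
def N1694 : Q := sm gh N1179
def N1695 : Q := sm gh N1180
def N1696 : Q := sm gd N1181
def N1697 : Q := sm gc N1182
def N1698 : Q := sm ge N1182
def N1699 : Q := sm gb N1183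
def N1700 : Q := sm ge N1183
def N1701 : Q := sm gf N1184
def N1702 : Q := sm gh N1185
def N1703 : Q := sm gd N1186
def N1704 : Q := sm gc N1187
def N1705 : Q := sm ge N1187
def N1706 : Q := sm gb N1188
def N1707 : Q := sm ge N1188
def N1708 : Q := sm gf N1189
def N1709 : Q := sm gd N1190
def N1710 : Q := sm gc N1191
def N1711 : Q := sm ge N1191
def N1712 : Q := sm gb N1192
def N1713 : Q := sm ge N1192
def N1714 : Q := sm gf N1193
def N1715 : Q := sm ga N1194
def N1716 : Q := sm ge N1194
def N1717 : Q := sm gd N1195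
def N1718 : Q := sm gf N1195
def N1719 : Q := sm gg N1196
def N1720 : Q := sm gc N1197
def N1721 : Q := sm ge N1197
def N1722 : Q := sm gb N1198
def N1723 : Q := sm ge N1198
def N1724 : Q := sm gf N1199
def N1725 : Q := sm ga N1200
def N1726 : Q := sm ge N1200
def N1727 : Q := sm gd N1201
def N1728 : Q := sm gf N1201
def N1729 : Q := sm gg N1202
def N1730 : Q := sm ge N1203
def N1731 : Q := sm gd N1204
def N1732 : Q := sm gf N1204
def N1733 : Q := sm gf N1205
def N1734 : Q := sm gh N1205
def N1735 : Q := sm gg N1206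
def N1736 : Q := sm gj N1207
def N1737 : Q := sm gb N1208
def N1738 : Q := sm ge N1208
def N1739 : Q := sm gf N1209
def N1740 : Q := sm ga N1210
def N1741 : Q := sm ge N1210
def N1742 : Q := sm gd N1211
def N1743 : Q := sm gf N1211
def N1744 : Q := sm gg N1212
def N1745 : Q := sm ga N1213
def N1746 : Q := sm ge N1213
def N1747 : Q := sm gd N1214
def N1748 : Q := sm gf N1214
def N1749 : Q := sm gg N1215
def N1750 : Q := sm ge N1216
def N1751 : Q := sm gd N1217
def N1752 : Q := sm gf N1217
def N1753 : Q := sm gf N1218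
def N1754 : Q := sm gh N1218
def N1755 : Q := sm gg N1219
def N1756 : Q := sm gj N1220
def N1757 : Q := sm ge N1221
def N1758 : Q := sm gd N1222
def N1759 : Q := sm gf N1222
def N1760 : Q := sm gf N1223
def N1761 : Q := sm gh N1223
def N1762 : Q := sm gg N1224
def N1763 : Q := sm gj N1225
def N1764 : Q := sm gd N1226
def N1765 : Q := sm gf N1226
def N1766 : Q := sm gc N1227
def N1767 : Q := sm gf N1227
def N1768 : Q := sm gh N1227
def N1769 : Q := sm gg N1228
def N1770 : Q := sm ge N1229
def N1771 : Q := sm gg N1229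
def N1772 : Q := sm gh N1229
def N1773 : Q := sm gi N1230
def N1774 : Q := sm gj N1231
def N1775 : Q := sm gd N1233
def N1776 : Q := sm gf N1233
def N1777 : Q := sm gc N1234
def N1778 : Q := sm gf N1234
def N1779 : Q := sm gh N1234
def N1780 : Q := sm gg N1235
def N1781 : Q := sm ge N1236
def N1782 : Q := sm gg N1236
def N1783 : Q := sm gh N1236
def N1784 : Q := sm gj N1238
def N1785 : Q := sm gc N1240
def N1786 : Q := sm gf N1240
def N1787 : Q := sm gg N1241
def N1788 : Q := sm gf N1242
def N1789 : Q := sm ge N1243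
def N1790 : Q := sm gg N1243
def N1791 : Q := sm gj N1244
def N1792 : Q := sm gg N1245
def N1793 : Q := sm gj N1246
def N1794 : Q := sm ge N1248
def N1795 : Q := sm gd N1249
def N1796 : Q := sm gf N1249
def N1797 : Q := sm gf N1250
def N1798 : Q := sm gh N1250
def N1799 : Q := sm gg N1251
def N1800 : Q := sm gj N1252
def N1801 : Q := sm gd N1253
def N1802 : Q := sm gf N1253
def N1803 : Q := sm gc N1254
def N1804 : Q := sm gf N1254
def N1805 : Q := sm gh N1254
def N1806 : Q := sm gg N1255
def N1807 : Q := sm ge N1256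
def N1808 : Q := sm gg N1256
def N1809 : Q := sm gh N1256
def N1810 : Q := sm gi N1257
def N1811 : Q := sm gj N1258
def N1812 : Q := sm gc N1260
def N1813 : Q := sm gf N1260
def N1814 : Q := sm gh N1260
def N1815 : Q := sm gg N1261
def N1816 : Q := sm gf N1262
def N1817 : Q := sm gh N1262
def N1818 : Q := sm gg N1263
def N1819 : Q := sm gh N1263
def N1821 : Q := sm gj N1265
def N1822 : Q := sm gj N1266
def N1823 : Q := sm gh N1266
def N1824 : Q := sm gi N1267
def N1825 : Q := sm gj N1270
def N1826 : Q := sm gd N1272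
def N1827 : Q := sm gf N1272
def N1828 : Q := sm gc N1273
def N1829 : Q := sm gf N1273
def N1830 : Q := sm gh N1273
def N1831 : Q := sm gg N1274
def N1832 : Q := sm ge N1275
def N1833 : Q := sm gg N1275
def N1834 : Q := sm gh N1275
def N1835 : Q := sm gi N1276
def N1836 : Q := sm gc N1278
def N1837 : Q := sm gf N1278
def N1839 : Q := sm gf N1280
def N1840 : Q := sm gh N1280
def N1841 : Q := sm ge N1281
def N1842 : Q := sm gh N1281
def N1843 : Q := sm gi N1282
def N1844 : Q := sm gh N1283
def N1845 : Q := sm gi N1284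
def N1846 : Q := sm gb N1286
def N1847 : Q := sm gh N1286
def N1848 : Q := sm gi N1287
def N1849 : Q := sm gd N1288
def N1850 : Q := sm gi N1288
def N1851 : Q := sm gb N1290
def N1852 : Q := sm ge N1290
def N1853 : Q := sm gi N1290
def N1854 : Q := sm gf N1291
def N1855 : Q := sm gi N1291
def N1856 : Q := sm gh N1292
def N1857 : Q := sm gd N1293
def N1858 : Q := sm gc N1294
def N1859 : Q := sm ge N1294
def N1860 : Q := sm ge N1295
def N1861 : Q := sm gi N1295
def N1862 : Q := sm gd N1296
def N1863 : Q := sm gi N1296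
def N1864 : Q := sm gh N1297
def N1865 : Q := sm gh N1298
def N1866 : Q := sm gd N1299
def N1867 : Q := sm gc N1300
def N1868 : Q := sm ge N1300
def N1869 : Q := sm gb N1301
def N1870 : Q := sm ge N1301
def N1871 : Q := sm gf N1302
def N1872 : Q := sm gd N1303
def N1873 : Q := sm gi N1303
def N1874 : Q := sm gh N1304
def N1875 : Q := sm gh N1305
def N1876 : Q := sm gi N1305
def N1877 : Q := sm gh N1306
def N1878 : Q := sm gd N1307
def N1879 : Q := sm gd N1308
def N1880 : Q := sm gc N1309
def N1881 : Q := sm ge N1309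
def N1882 : Q := sm gb N1310
def N1883 : Q := sm ge N1310
def N1884 : Q := sm gf N1311
def N1885 : Q := sm ga N1312
def N1886 : Q := sm ge N1312
def N1887 : Q := sm gd N1313
def N1888 : Q := sm gf N1313
def N1889 : Q := sm gg N1314
def N1890 : Q := sm gh N1315
def N1891 : Q := sm gd N1316
def N1892 : Q := sm gc N1317
def N1893 : Q := sm ge N1317
def N1894 : Q := sm gb N1318
def N1895 : Q := sm ge N1318
def N1896 : Q := sm gf N1319
def N1897 : Q := sm ga N1320
def N1898 : Q := sm ge N1320
def N1899 : Q := sm gd N1321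
def N1900 : Q := sm gf N1321
def N1901 : Q := sm gg N1322
def N1902 : Q := sm gd N1323
def N1903 : Q := sm gc N1324
def N1905 : Q := sm gb N1325
def N1906 : Q := sm ge N1325
def N1907 : Q := sm gf N1326
def N1908 : Q := sm ga N1327
def N1909 : Q := sm ge N1327
def N1910 : Q := sm gd N1328
def N1911 : Q := sm gf N1328
def N1912 : Q := sm gg N1329
def N1913 : Q := sm ge N1330
def N1914 : Q := sm gd N1331
def N1915 : Q := sm gf N1331
def N1916 : Q := sm gf N1332
def N1917 : Q := sm gh N1332
def N1918 : Q := sm gg N1333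
def N1919 : Q := sm gj N1334
def N1920 : Q := sm gc N1335
def N1921 : Q := sm ge N1335
def N1922 : Q := sm gb N1336
def N1923 : Q := sm ge N1336
def N1924 : Q := sm gf N1337
def N1925 : Q := sm ga N1338
def N1926 : Q := sm ge N1338
def N1927 : Q := sm gd N1339
def N1928 : Q := sm gf N1339
def N1929 : Q := sm gg N1340
def N1930 : Q := sm ge N1341
def N1931 : Q := sm gd N1342
def N1932 : Q := sm gf N1342
def N1933 : Q := sm gf N1343
def N1934 : Q := sm gh N1343
def N1935 : Q := sm gg N1344
def N1936 : Q := sm gj N1345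
def N1937 : Q := sm gd N1346
def N1938 : Q := sm gf N1346
def N1939 : Q := sm gc N1347
def N1940 : Q := sm gf N1347
def N1941 : Q := sm gh N1347
def N1942 : Q := sm gg N1348
def N1943 : Q := sm ge N1349
def N1944 : Q := sm gg N1349
def N1945 : Q := sm gh N1349
def N1946 : Q := sm gi N1350
def N1947 : Q := sm gj N1351
def N1948 : Q := sm ga N1353
def N1949 : Q := sm ge N1353
def N1950 : Q := sm gd N1354
def N1951 : Q := sm gf N1354
def N1952 : Q := sm gg N1355
def N1953 : Q := sm ge N1356
def N1954 : Q := sm gd N1357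
def N1955 : Q := sm gf N1357
def N1956 : Q := sm gf N1358
def N1957 : Q := sm gh N1358
def N1958 : Q := sm gg N1359
def N1959 : Q := sm gj N1360
def N1960 : Q := sm ge N1361
def N1961 : Q := sm gd N1362
def N1962 : Q := sm gf N1362
def N1963 : Q := sm gf N1363
def N1964 : Q := sm gh N1363
def N1965 : Q := sm gg N1364
def N1966 : Q := sm gj N1365
def N1967 : Q := sm gd N1366
def N1968 : Q := sm gf N1366
def N1969 : Q := sm gc N1367
def N1970 : Q := sm gf N1367
def N1971 : Q := sm gh N1367
def N1972 : Q := sm gg N1368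
def N1973 : Q := sm ge N1369
def N1974 : Q := sm gg N1369
def N1975 : Q := sm gh N1369
def N1976 : Q := sm gi N1370
def N1977 : Q := sm gj N1371
def N1978 : Q := sm gd N1373
def N1979 : Q := sm gf N1373
def N1980 : Q := sm gc N1374
def N1981 : Q := sm gf N1374
def N1982 : Q := sm gh N1374
def N1983 : Q := sm gg N1375
def N1984 : Q := sm ge N1376
def N1985 : Q := sm gg N1376
def N1986 : Q := sm gh N1376
def N1987 : Q := sm gi N1377
def N1988 : Q := sm gj N1378
def N1989 : Q := sm gc N1380
def N1990 : Q := sm gf N1380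
def N1991 : Q := sm gh N1380
def N1992 : Q := sm gg N1381
def N1993 : Q := sm gf N1382
def N1994 : Q := sm gh N1382
def N1995 : Q := sm ge N1383
def N1996 : Q := sm gg N1383
def N1999 : Q := sm gj N1385
def N2000 : Q := sm gg N1386
def N2001 : Q := sm gh N1386
def N2002 : Q := sm gj N1387
def N2003 : Q := sm gh N1387
def N2004 : Q := sm gi N1388
def N2005 : Q := sm gc N1391
def N2006 : Q := sm gf N1391
def N2007 : Q := sm gh N1391
def N2008 : Q := sm gg N1392
def N2009 : Q := sm gf N1393
def N2010 : Q := sm gh N1393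
def N2011 : Q := sm ge N1394
def N2012 : Q := sm gg N1394
def N2013 : Q := sm gh N1394
def N2014 : Q := sm gj N1396
def N2015 : Q := sm gg N1397
def N2016 : Q := sm gh N1397
def N2017 : Q := sm gj N1398
def N2018 : Q := sm gh N1398
def N2019 : Q := sm gb N1401
def N2020 : Q := sm gf N1401
def N2021 : Q := sm ge N1402
def N2022 : Q := sm gg N1402
def N2023 : Q := sm gj N1403
def N2024 : Q := sm ge N1404
def N2025 : Q := sm gg N1404
def N2026 : Q := sm gg N1405
def N2027 : Q := sm gj N1406
def N2028 : Q := sm gf N1408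
def N2029 : Q := sm gj N1408
def N2030 : Q := sm gd N1410
def N2031 : Q := sm gf N1410
def N2032 : Q := sm gc N1411
def N2033 : Q := sm gf N1411
def N2034 : Q := sm gh N1411
def N2035 : Q := sm gg N1412
def N2036 : Q := sm ge N1413
def N2037 : Q := sm gg N1413
def N2038 : Q := sm gh N1413
def N2039 : Q := sm gi N1414
def N2040 : Q := sm gj N1415
def N2041 : Q := sm gc N1417
def N2042 : Q := sm gf N1417
def N2043 : Q := sm gh N1417
def N2044 : Q := sm gg N1418
def N2045 : Q := sm gf N1419
def N2046 : Q := sm gh N1419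
def N2047 : Q := sm ge N1420
def N2048 : Q := sm gg N1420
def N2049 : Q := sm gh N1420
def N2051 : Q := sm gj N1422
def N2052 : Q := sm gg N1423
def N2053 : Q := sm gh N1423
def N2054 : Q := sm gj N1424
def N2055 : Q := sm gh N1424
def N2056 : Q := sm gi N1425
def N2057 : Q := sm gb N1428
def N2058 : Q := sm gf N1428
def N2059 : Q := sm gh N1428
def N2060 : Q := sm gg N1429
def N2061 : Q := sm gh N1429
def N2063 : Q := sm gj N1431
def N2064 : Q := sm gg N1432
def N2066 : Q := sm gd N1433
def N2067 : Q := sm gi N1433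
def N2068 : Q := sm gj N1434
def N2069 : Q := sm gh N1434
def N2070 : Q := sm gi N1435
def N2071 : Q := sm gh N1438
def N2072 : Q := sm gi N1439
def N2073 : Q := sm gc N1442
def N2074 : Q := sm gf N1442
def N2075 : Q := sm gh N1442
def N2076 : Q := sm gg N1443
def N2077 : Q := sm gf N1444
def N2078 : Q := sm gh N1444
def N2079 : Q := sm ge N1445
def N2080 : Q := sm gg N1445
def N2081 : Q := sm gh N1445
def N2082 : Q := sm gi N1446
def N2083 : Q := sm gg N1448
def N2084 : Q := sm gh N1448
def N2085 : Q := sm gh N1449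
def N2086 : Q := sm gi N1450
def N2087 : Q := sm gb N1452
def N2088 : Q := sm gf N1452
def N2089 : Q := sm gh N1452
def N2090 : Q := sm ge N1453
def N2091 : Q := sm gh N1453
def N2093 : Q := sm ge N1455
def N2094 : Q := sm gh N1455
def N2095 : Q := sm gd N1456
def N2097 : Q := sm gh N1457
def N2099 : Q := sm gd N1460
def N2100 : Q := sm gi N1460
def N2101 : Q := sm gh N1462
def N2102 : Q := sm gd N1463
def N2103 : Q := sm gi N1463
def N2104 : Q := sm ge N1465
def N2106 : Q := sm gb N1467
def N2107 : Q := sm gf N1467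
def N2108 : Q := sm gh N1467
def N2109 : Q := sm ge N1468
def N2110 : Q := sm gg N1468
def N2111 : Q := sm gh N1468
def N2112 : Q := sm gi N1469
def N2113 : Q := sm ge N1471
def N2114 : Q := sm gg N1471
def N2115 : Q := sm gh N1471
def N2116 : Q := sm gd N1472
def N2118 : Q := sm gg N1473
def N2119 : Q := sm gh N1473
def N2120 : Q := sm gh N1474
def N2121 : Q := sm gi N1475
def N2122 : Q := sm gf N1477
def N2123 : Q := sm gh N1477
def N2124 : Q := sm gd N1478
def N2125 : Q := sm gi N1478
def N2126 : Q := sm gi N1479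
def N2127 : Q := sm gf N1481
def N2128 : Q := sm gh N1481
def N2129 : Q := sm ge N1482
def N2130 : Q := sm gh N1482
def N2131 : Q := sm gd N1483
def N2133 : Q := sm gh N1484
def N2134 : Q := sm gi N1485
def N2135 : Q := sm gd N1487
def N2136 : Q := sm gh N1487
def N2137 : Q := sm gd N1488
def N2138 : Q := sm gi N1488
def N2139 : Q := sm ge N1489
def N2141 : Q := sm gd N1491
def N2142 : Q := sm gi N1491
def N2143 : Q := sm gc N1493
def N2144 : Q := sm gi N1493
def N2145 : Q := sm gd N1495
def N2147 : Q := sm ge N1496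
def N2148 : Q := sm gi N1496
def N2149 : Q := sm gf N1498
def N2150 : Q := sm gi N1498
def N2152 : Q := sm gg N1500
def N2153 : Q := sm gi N1500
def N2154 : Q := sm gh N1501
def N2155 : Q := sm gi N1502
def N2156 : Q := sm gh N1503
def N2157 : Q := sm gd N1504
def N2158 : Q := sm gd N1505
def N2159 : Q := sm gc N1506
def N2160 : Q := sm ge N1506
def N2161 : Q := sm gb N1507
def N2162 : Q := sm ge N1507
def N2163 : Q := sm gf N1508
def N2164 : Q := sm gi N1509
def N2165 : Q := sm gh N1510
def N2166 : Q := sm gh N1511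
def N2167 : Q := sm gd N1512
def N2168 : Q := sm gd N1513
def N2169 : Q := sm gc N1514
def N2170 : Q := sm ge N1514
def N2171 : Q := sm gd N1515
def N2172 : Q := sm gc N1516
def N2173 : Q := sm ge N1516
def N2174 : Q := sm gc N1517
def N2175 : Q := sm ge N1517
def N2176 : Q := sm gb N1518
def N2177 : Q := sm ge N1518
def N2178 : Q := sm gf N1519
def N2179 : Q := sm gb N1520
def N2180 : Q := sm ge N1520
def N2181 : Q := sm gf N1521
def N2182 : Q := sm ga N1522
def N2183 : Q := sm ge N1522
def N2184 : Q := sm gd N1523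
def N2185 : Q := sm gf N1523
def N2186 : Q := sm gg N1524
def N2187 : Q := sm gd N1525
def N2188 : Q := sm gc N1526
def N2189 : Q := sm ge N1526
def N2190 : Q := sm gb N1527
def N2191 : Q := sm ge N1527
def N2192 : Q := sm gf N1528
def N2193 : Q := sm gc N1529
def N2194 : Q := sm ge N1529
def N2195 : Q := sm gb N1530
def N2196 : Q := sm ge N1530
def N2197 : Q := sm gf N1531
def N2198 : Q := sm ga N1532
def N2199 : Q := sm ge N1532
def N2200 : Q := sm gd N1533
def N2201 : Q := sm gf N1533
def N2202 : Q := sm gg N1534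
def N2203 : Q := sm gb N1535
def N2204 : Q := sm ge N1535
def N2205 : Q := sm gf N1536
def N2206 : Q := sm ga N1537
def N2207 : Q := sm ge N1537
def N2208 : Q := sm gd N1538
def N2209 : Q := sm gf N1538
def N2210 : Q := sm gg N1539
def N2211 : Q := sm ge N1540
def N2212 : Q := sm gd N1541
def N2213 : Q := sm gf N1541
def N2214 : Q := sm gf N1542
def N2215 : Q := sm gh N1542
def N2216 : Q := sm gg N1543
def N2217 : Q := sm gj N1544
def N2218 : Q := sm gb N1545
def N2219 : Q := sm ge N1545
def N2220 : Q := sm gf N1546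
def N2221 : Q := sm ga N1547
def N2222 : Q := sm ge N1547
def N2223 : Q := sm gd N1548
def N2224 : Q := sm gf N1548
def N2225 : Q := sm gg N1549
def N2226 : Q := sm ge N1550
def N2227 : Q := sm gd N1551
def N2228 : Q := sm gf N1551
def N2229 : Q := sm gf N1552
def N2230 : Q := sm gh N1552
def N2231 : Q := sm gg N1553
def N2232 : Q := sm gj N1554
def N2233 : Q := sm gd N1555
def N2234 : Q := sm gf N1555
def N2235 : Q := sm gc N1556
def N2236 : Q := sm gf N1556
def N2237 : Q := sm gh N1556
def N2238 : Q := sm gg N1557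
def N2239 : Q := sm ge N1558
def N2240 : Q := sm gg N1558
def N2241 : Q := sm gh N1558
def N2242 : Q := sm gi N1559
def N2243 : Q := sm gj N1560
def N2244 : Q := sm ge N1562
def N2245 : Q := sm gi N1562
def N2246 : Q := sm gh N1563
def N2247 : Q := sm gd N1564
def N2248 : Q := sm gi N1565
def N2249 : Q := sm gh N1566
def N2250 : Q := sm gd N1567
def N2251 : Q := sm gc N1568
def N2252 : Q := sm ge N1568
def N2253 : Q := sm gh N1569
def N2254 : Q := sm gd N1570
def N2255 : Q := sm gc N1571
def N2256 : Q := sm ge N1571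
def N2257 : Q := sm gb N1572
def N2258 : Q := sm ge N1572
def N2259 : Q := sm gf N1573
def N2260 : Q := sm gd N1574
def N2261 : Q := sm gc N1575
def N2262 : Q := sm ge N1575
def N2263 : Q := sm gb N1576
def N2264 : Q := sm ge N1576
def N2265 : Q := sm gf N1577
def N2266 : Q := sm gc N1578
def N2267 : Q := sm ge N1578
def N2268 : Q := sm gb N1579
def N2269 : Q := sm ge N1579
def N2270 : Q := sm gf N1580
def N2271 : Q := sm ga N1581
def N2272 : Q := sm ge N1581
def N2273 : Q := sm gd N1582
def N2274 : Q := sm gf N1582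
def N2275 : Q := sm gg N1583
def N2276 : Q := sm gb N1584
def N2277 : Q := sm ge N1584
def N2278 : Q := sm gf N1585
def N2279 : Q := sm ga N1586
def N2280 : Q := sm ge N1586
def N2281 : Q := sm gd N1587
def N2282 : Q := sm gf N1587
def N2283 : Q := sm gg N1588
def N2284 : Q := sm ge N1589
def N2285 : Q := sm gd N1590
def N2286 : Q := sm gf N1590
def N2287 : Q := sm gf N1591
def N2288 : Q := sm gh N1591
def N2289 : Q := sm gg N1592
def N2290 : Q := sm gj N1593
def N2291 : Q := sm gb N1594
def N2292 : Q := sm ge N1594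
def N2293 : Q := sm gf N1595
def N2294 : Q := sm ga N1596
def N2295 : Q := sm ge N1596
def N2296 : Q := sm gd N1597
def N2297 : Q := sm gf N1597
def N2298 : Q := sm gg N1598
def N2299 : Q := sm ga N1599
def N2300 : Q := sm ge N1599
def N2301 : Q := sm gd N1600
def N2302 : Q := sm gf N1600
def N2303 : Q := sm gg N1601
def N2304 : Q := sm ge N1602
def N2305 : Q := sm gd N1603
def N2306 : Q := sm gf N1603
def N2307 : Q := sm gf N1604
def N2308 : Q := sm gh N1604
def N2309 : Q := sm gg N1605
def N2310 : Q := sm gj N1606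
def N2311 : Q := sm ge N1607
def N2312 : Q := sm gd N1608
def N2313 : Q := sm gf N1608
def N2314 : Q := sm gf N1609
def N2315 : Q := sm gh N1609
def N2316 : Q := sm gg N1610
def N2317 : Q := sm gj N1611
def N2318 : Q := sm gd N1612
def N2319 : Q := sm gf N1612
def N2320 : Q := sm gc N1613
def N2321 : Q := sm gf N1613
def N2322 : Q := sm gh N1613
def N2323 : Q := sm gg N1614
def N2324 : Q := sm ge N1615
def N2325 : Q := sm gg N1615
def N2326 : Q := sm gh N1615
def N2327 : Q := sm gi N1616
def N2328 : Q := sm gj N1617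
def N2329 : Q := sm gd N1619
def N2330 : Q := sm gf N1619
def N2331 : Q := sm gc N1620
def N2332 : Q := sm gf N1620
def N2333 : Q := sm gh N1620
def N2334 : Q := sm gg N1621
def N2335 : Q := sm ge N1622
def N2336 : Q := sm gg N1622
def N2337 : Q := sm gh N1622
def N2338 : Q := sm gi N1623
def N2339 : Q := sm gj N1624
def N2340 : Q := sm gc N1626
def N2341 : Q := sm gf N1626
def N2342 : Q := sm gh N1626
def N2343 : Q := sm gg N1627
def N2344 : Q := sm gf N1628
def N2345 : Q := sm gh N1628
def N2346 : Q := sm ge N1629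
def N2347 : Q := sm gg N1629
def N2348 : Q := sm gh N1629
def N2349 : Q := sm gi N1630
def N2350 : Q := sm gj N1631
def N2351 : Q := sm gg N1632
def N2352 : Q := sm gh N1632
def N2353 : Q := sm gj N1633
def N2354 : Q := sm gh N1633
def N2355 : Q := sm gi N1634
def N2356 : Q := sm ge N1637
def N2357 : Q := sm gd N1638
def N2358 : Q := sm gf N1638
def N2359 : Q := sm gf N1639
def N2360 : Q := sm gh N1639
def N2361 : Q := sm gg N1640
def N2362 : Q := sm gj N1641
def N2363 : Q := sm gd N1642
def N2364 : Q := sm gf N1642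
def N2365 : Q := sm gc N1643
def N2366 : Q := sm gf N1643
def N2367 : Q := sm gh N1643
def N2368 : Q := sm gg N1644
def N2369 : Q := sm ge N1645
def N2370 : Q := sm gg N1645
def N2371 : Q := sm gh N1645
def N2372 : Q := sm gi N1646
def N2373 : Q := sm gj N1647
def N2374 : Q := sm gc N1649
def N2375 : Q := sm gf N1649
def N2376 : Q := sm gh N1649
def N2377 : Q := sm gg N1650
def N2378 : Q := sm gf N1651
def N2379 : Q := sm gh N1651
def N2380 : Q := sm ge N1652
def N2381 : Q := sm gg N1652
def N2382 : Q := sm gh N1652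
def N2383 : Q := sm gi N1653
def N2384 : Q := sm gj N1654
def N2385 : Q := sm gg N1655
def N2386 : Q := sm gh N1655
def N2387 : Q := sm gj N1656
def N2388 : Q := sm gh N1656
def N2389 : Q := sm gi N1657
def N2390 : Q := sm ge N1660
def N2391 : Q := sm gg N1660
def N2392 : Q := sm gh N1660
def N2393 : Q := sm gi N1661
def N2394 : Q := sm gj N1662
def N2395 : Q := sm gg N1663
def N2396 : Q := sm gh N1663
def N2397 : Q := sm gj N1664
def N2398 : Q := sm gh N1664
def N2399 : Q := sm gi N1665
def N2400 : Q := sm gf N1668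
def N2401 : Q := sm gj N1668
def N2402 : Q := sm gh N1668
def N2403 : Q := sm gd N1669
def N2404 : Q := sm gi N1669
def N2405 : Q := sm gh N1670
def N2406 : Q := sm gi N1671
def N2407 : Q := sm gj N1673
def N2408 : Q := sm gh N1673
def N2409 : Q := sm gh N1674
def N2410 : Q := sm gd N1675
def N2411 : Q := sm gi N1675
def N2412 : Q := sm gc N1676
def N2413 : Q := sm gi N1676
def N2414 : Q := sm gi N1678
def N2415 : Q := sm ge N1680
def N2416 : Q := sm gi N1680
def N2417 : Q := sm gf N1681
def N2418 : Q := sm gi N1681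
def N2419 : Q := sm gh N1682
def N2420 : Q := sm gd N1683
def N2421 : Q := sm gc N1684
def N2422 : Q := sm ge N1684
def N2423 : Q := sm gd N1685
def N2424 : Q := sm gi N1685
def N2425 : Q := sm gh N1686
def N2426 : Q := sm gh N1687
def N2427 : Q := sm gd N1688
def N2428 : Q := sm gc N1689
def N2429 : Q := sm ge N1689
def N2430 : Q := sm gb N1690
def N2431 : Q := sm ge N1690
def N2432 : Q := sm gf N1691
def N2433 : Q := sm gh N1692
def N2434 : Q := sm gi N1692
def N2435 : Q := sm gh N1693
def N2436 : Q := sm gd N1694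
def N2437 : Q := sm gd N1695
def N2438 : Q := sm gc N1696
def N2439 : Q := sm ge N1696
def N2440 : Q := sm gb N1697
def N2441 : Q := sm ge N1697
def N2442 : Q := sm gf N1698
def N2443 : Q := sm ga N1699
def N2444 : Q := sm ge N1699
def N2445 : Q := sm gd N1700
def N2446 : Q := sm gf N1700
def N2447 : Q := sm gg N1701
def N2448 : Q := sm gd N1702
def N2449 : Q := sm gc N1703
def N2450 : Q := sm ge N1703
def N2451 : Q := sm gb N1704
def N2452 : Q := sm ge N1704
def N2453 : Q := sm gf N1705
def N2454 : Q := sm ga N1706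
def N2455 : Q := sm ge N1706
def N2456 : Q := sm gd N1707
def N2457 : Q := sm gf N1707
def N2458 : Q := sm gg N1708
def N2459 : Q := sm gc N1709
def N2460 : Q := sm ge N1709
def N2461 : Q := sm gb N1710
def N2462 : Q := sm ge N1710
def N2463 : Q := sm gf N1711
def N2464 : Q := sm ga N1712
def N2465 : Q := sm ge N1712
def N2466 : Q := sm gd N1713
def N2467 : Q := sm gf N1713
def N2468 : Q := sm gg N1714
def N2469 : Q := sm ge N1715
def N2470 : Q := sm gd N1716
def N2471 : Q := sm gf N1716
def N2472 : Q := sm gf N1717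
def N2473 : Q := sm gh N1717
def N2474 : Q := sm gg N1718
def N2475 : Q := sm gj N1719
def N2476 : Q := sm gb N1720
def N2477 : Q := sm ge N1720
def N2478 : Q := sm gf N1721
def N2479 : Q := sm ga N1722
def N2480 : Q := sm ge N1722
def N2481 : Q := sm gd N1723
def N2482 : Q := sm gf N1723
def N2483 : Q := sm gg N1724
def N2484 : Q := sm ge N1725
def N2485 : Q := sm gd N1726
def N2486 : Q := sm gf N1726
def N2487 : Q := sm gf N1727
def N2488 : Q := sm gh N1727
def N2489 : Q := sm gg N1728
def N2490 : Q := sm gj N1729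
def N2491 : Q := sm gd N1730
def N2492 : Q := sm gf N1730
def N2493 : Q := sm gc N1731
def N2494 : Q := sm gf N1731
def N2495 : Q := sm gh N1731
def N2496 : Q := sm gg N1732
def N2497 : Q := sm ge N1733
def N2498 : Q := sm gg N1733
def N2499 : Q := sm gh N1733
def N2500 : Q := sm gi N1734
def N2501 : Q := sm gj N1735
def N2502 : Q := sm ga N1737
def N2503 : Q := sm ge N1737
def N2504 : Q := sm gd N1738
def N2505 : Q := sm gf N1738
def N2506 : Q := sm gg N1739
def N2507 : Q := sm ge N1740
def N2508 : Q := sm gd N1741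
def N2509 : Q := sm gf N1741
def N2510 : Q := sm gf N1742
def N2511 : Q := sm gh N1742
def N2512 : Q := sm gg N1743
def N2513 : Q := sm gj N1744
def N2514 : Q := sm ge N1745
def N2515 : Q := sm gd N1746
def N2516 : Q := sm gf N1746
def N2517 : Q := sm gf N1747
def N2518 : Q := sm gh N1747
def N2519 : Q := sm gg N1748
def N2520 : Q := sm gj N1749
def N2521 : Q := sm gd N1750
def N2522 : Q := sm gf N1750
def N2523 : Q := sm gc N1751
def N2524 : Q := sm gf N1751
def N2525 : Q := sm gh N1751
def N2526 : Q := sm gg N1752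
def N2527 : Q := sm ge N1753
def N2528 : Q := sm gg N1753
def N2529 : Q := sm gh N1753
def N2530 : Q := sm gi N1754
def N2531 : Q := sm gj N1755
def N2532 : Q := sm gd N1757
def N2533 : Q := sm gf N1757
def N2534 : Q := sm gc N1758
def N2535 : Q := sm gf N1758
def N2536 : Q := sm gh N1758
def N2537 : Q := sm gg N1759
def N2538 : Q := sm ge N1760
def N2539 : Q := sm gg N1760
def N2540 : Q := sm gh N1760
def N2541 : Q := sm gi N1761
def N2542 : Q := sm gj N1762
def N2543 : Q := sm gc N1764
def N2544 : Q := sm gf N1764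
def N2545 : Q := sm gh N1764
def N2546 : Q := sm gg N1765
def N2547 : Q := sm gf N1766
def N2548 : Q := sm gh N1766
def N2549 : Q := sm ge N1767
def N2550 : Q := sm gg N1767
def N2551 : Q := sm gh N1767
def N2552 : Q := sm gi N1768
def N2553 : Q := sm gj N1769
def N2554 : Q := sm gg N1770
def N2555 : Q := sm gh N1770
def N2556 : Q := sm gj N1771
def N2557 : Q := sm gh N1771
def N2558 : Q := sm gi N1772
def N2559 : Q := sm gc N1775
def N2560 : Q := sm gf N1775
def N2561 : Q := sm gh N1775
def N2562 : Q := sm gg N1776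
def N2563 : Q := sm gf N1777
def N2564 : Q := sm gh N1777
def N2565 : Q := sm ge N1778
def N2566 : Q := sm gg N1778
def N2567 : Q := sm gh N1778
def N2568 : Q := sm gj N1780
def N2569 : Q := sm gg N1781
def N2570 : Q := sm gh N1781
def N2571 : Q := sm gj N1782
def N2572 : Q := sm gh N1782
def N2573 : Q := sm gb N1785
def N2574 : Q := sm gf N1785
def N2575 : Q := sm ge N1786
def N2576 : Q := sm gg N1786
def N2577 : Q := sm gj N1787
def N2578 : Q := sm ge N1788
def N2579 : Q := sm gg N1788
def N2580 : Q := sm gg N1789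
def N2581 : Q := sm gj N1790
def N2582 : Q := sm gf N1792
def N2583 : Q := sm gj N1792
def N2584 : Q := sm gd N1794
def N2585 : Q := sm gf N1794
def N2586 : Q := sm gc N1795
def N2587 : Q := sm gf N1795
def N2588 : Q := sm gh N1795
def N2589 : Q := sm gg N1796
def N2590 : Q := sm ge N1797
def N2591 : Q := sm gg N1797
def N2592 : Q := sm gh N1797
def N2593 : Q := sm gi N1798
def N2594 : Q := sm gj N1799
def N2595 : Q := sm gc N1801
def N2596 : Q := sm gf N1801
def N2597 : Q := sm gh N1801
def N2598 : Q := sm gg N1802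
def N2599 : Q := sm gf N1803
def N2600 : Q := sm gh N1803
def N2601 : Q := sm ge N1804
def N2602 : Q := sm gg N1804
def N2603 : Q := sm gh N1804
def N2604 : Q := sm gi N1805
def N2605 : Q := sm gj N1806
def N2606 : Q := sm gg N1807
def N2607 : Q := sm gh N1807
def N2608 : Q := sm gj N1808
def N2609 : Q := sm gh N1808
def N2610 : Q := sm gi N1809
def N2611 : Q := sm gb N1812
def N2612 : Q := sm gf N1812
def N2613 : Q := sm gh N1812
def N2614 : Q := sm gg N1813
def N2615 : Q := sm gh N1813
def N2616 : Q := sm gi N1814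
def N2617 : Q := sm gj N1815
def N2618 : Q := sm gg N1816
def N2619 : Q := sm gh N1816
def N2620 : Q := sm gd N1817
def N2621 : Q := sm gi N1817
def N2622 : Q := sm gj N1818
def N2623 : Q := sm gh N1818
def N2624 : Q := sm gi N1819
def N2625 : Q := sm gh N1822
def N2626 : Q := sm gi N1823
def N2627 : Q := sm gc N1826
def N2628 : Q := sm gf N1826
def N2630 : Q := sm gg N1827
def N2631 : Q := sm gf N1828
def N2632 : Q := sm gh N1828
def N2633 : Q := sm ge N1829
def N2634 : Q := sm gg N1829
def N2635 : Q := sm gh N1829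
def N2636 : Q := sm gi N1830
def N2637 : Q := sm gg N1832
def N2638 : Q := sm gh N1832
def N2639 : Q := sm gh N1833
def N2640 : Q := sm gi N1834
def N2641 : Q := sm gb N1836
def N2642 : Q := sm gf N1836
def N2643 : Q := sm gh N1836
def N2644 : Q := sm ge N1837
def N2645 : Q := sm gh N1837
def N2647 : Q := sm ge N1839
def N2648 : Q := sm gh N1839
def N2649 : Q := sm gd N1840
def N2650 : Q := sm gi N1840
def N2651 : Q := sm gh N1841
def N2652 : Q := sm gi N1842
def N2653 : Q := sm gd N1844
def N2654 : Q := sm gi N1844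
def N2655 : Q := sm gh N1846
def N2656 : Q := sm gd N1847
def N2658 : Q := sm ge N1849
def N2659 : Q := sm gi N1849
def N2660 : Q := sm ge N1851
def N2661 : Q := sm gi N1851
def N2662 : Q := sm gd N1852
def N2663 : Q := sm gf N1852
def N2664 : Q := sm gi N1852
def N2665 : Q := sm gh N1853
def N2666 : Q := sm gi N1854
def N2667 : Q := sm gh N1855
def N2668 : Q := sm gd N1856
def N2669 : Q := sm gc N1857
def N2670 : Q := sm ge N1857
def N2671 : Q := sm gb N1858
def N2672 : Q := sm ge N1858
def N2673 : Q := sm gf N1859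
def N2674 : Q := sm gd N1860
def N2675 : Q := sm gi N1860
def N2676 : Q := sm gh N1861
def N2677 : Q := sm gh N1862
def N2678 : Q := sm gi N1862
def N2679 : Q := sm gh N1863
def N2680 : Q := sm gd N1864
def N2681 : Q := sm gd N1865
def N2682 : Q := sm gc N1866
def N2683 : Q := sm ge N1866
def N2684 : Q := sm gb N1867
def N2685 : Q := sm ge N1867
def N2686 : Q := sm gf N1868
def N2687 : Q := sm ga N1869
def N2688 : Q := sm ge N1869
def N2689 : Q := sm gd N1870
def N2690 : Q := sm gf N1870
def N2691 : Q := sm gg N1871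
def N2692 : Q := sm gc N1872
def N2693 : Q := sm gh N1872
def N2694 : Q := sm gi N1872
def N2695 : Q := sm gh N1873
def N2696 : Q := sm gd N1874
def N2697 : Q := sm gi N1875
def N2698 : Q := sm gh N1876
def N2699 : Q := sm gd N1877
def N2700 : Q := sm gc N1878
def N2701 : Q := sm ge N1878
def N2702 : Q := sm gc N1879
def N2703 : Q := sm ge N1879
def N2704 : Q := sm gb N1880
def N2705 : Q := sm ge N1880
def N2706 : Q := sm gf N1881
def N2707 : Q := sm ga N1882
def N2708 : Q := sm ge N1882
def N2709 : Q := sm gd N1883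
def N2710 : Q := sm gf N1883
def N2711 : Q := sm gg N1884
def N2712 : Q := sm ge N1885
def N2713 : Q := sm gd N1886
def N2714 : Q := sm gf N1886
def N2715 : Q := sm gf N1887
def N2716 : Q := sm gh N1887
def N2717 : Q := sm gg N1888
def N2718 : Q := sm gj N1889
def N2719 : Q := sm gd N1890
def N2720 : Q := sm gc N1891
def N2722 : Q := sm gb N1892
def N2723 : Q := sm ge N1892
def N2724 : Q := sm gf N1893
def N2725 : Q := sm ga N1894
def N2726 : Q := sm ge N1894
def N2727 : Q := sm gd N1895
def N2728 : Q := sm gf N1895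
def N2729 : Q := sm gg N1896
def N2730 : Q := sm ge N1897
def N2731 : Q := sm gd N1898
def N2732 : Q := sm gf N1898
def N2733 : Q := sm gf N1899
def N2734 : Q := sm gh N1899
def N2735 : Q := sm gg N1900
def N2736 : Q := sm gj N1901
def N2737 : Q := sm gc N1902
def N2738 : Q := sm ge N1902
def N2739 : Q := sm gb N1903
def N2740 : Q := sm ge N1903
def N2742 : Q := sm ga N1905
def N2743 : Q := sm ge N1905
def N2744 : Q := sm gd N1906
def N2745 : Q := sm gf N1906
def N2746 : Q := sm gg N1907
def N2747 : Q := sm ge N1908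
def N2748 : Q := sm gd N1909
def N2749 : Q := sm gf N1909
def N2750 : Q := sm gf N1910
def N2751 : Q := sm gh N1910
def N2752 : Q := sm gg N1911
def N2753 : Q := sm gj N1912
def N2754 : Q := sm gd N1913
def N2755 : Q := sm gf N1913
def N2756 : Q := sm gc N1914
def N2757 : Q := sm gf N1914
def N2758 : Q := sm gh N1914
def N2759 : Q := sm gg N1915
def N2760 : Q := sm ge N1916
def N2761 : Q := sm gg N1916
def N2762 : Q := sm gh N1916
def N2763 : Q := sm gi N1917
def N2764 : Q := sm gj N1918
def N2765 : Q := sm gb N1920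
def N2766 : Q := sm ge N1920
def N2767 : Q := sm gf N1921
def N2768 : Q := sm ga N1922
def N2769 : Q := sm ge N1922
def N2770 : Q := sm gd N1923
def N2772 : Q := sm gg N1924
def N2773 : Q := sm ge N1925
def N2774 : Q := sm gd N1926
def N2775 : Q := sm gf N1926
def N2776 : Q := sm gf N1927
def N2778 : Q := sm gg N1928
def N2779 : Q := sm gj N1929
def N2780 : Q := sm gd N1930
def N2781 : Q := sm gf N1930
def N2782 : Q := sm gc N1931
def N2783 : Q := sm gf N1931
def N2785 : Q := sm gg N1932
def N2786 : Q := sm ge N1933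
def N2787 : Q := sm gg N1933
def N2788 : Q := sm gh N1933
def N2790 : Q := sm gj N1935
def N2791 : Q := sm gc N1937
def N2792 : Q := sm gf N1937
def N2794 : Q := sm gg N1938
def N2795 : Q := sm gf N1939
def N2796 : Q := sm gh N1939
def N2797 : Q := sm ge N1940
def N2798 : Q := sm gg N1940
def N2799 : Q := sm gh N1940
def N2800 : Q := sm gi N1941
def N2801 : Q := sm gj N1942
def N2802 : Q := sm gg N1943
def N2803 : Q := sm gh N1943
def N2804 : Q := sm gj N1944
def N2805 : Q := sm gh N1944
def N2806 : Q := sm gi N1945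
def N2807 : Q := sm ge N1948
def N2808 : Q := sm gd N1949
def N2809 : Q := sm gf N1949
def N2810 : Q := sm gf N1950
def N2811 : Q := sm gh N1950
def N2812 : Q := sm gg N1951
def N2813 : Q := sm gj N1952
def N2814 : Q := sm gd N1953
def N2815 : Q := sm gf N1953
def N2816 : Q := sm gc N1954
def N2817 : Q := sm gf N1954
def N2819 : Q := sm gg N1955
def N2820 : Q := sm ge N1956
def N2821 : Q := sm gg N1956
def N2822 : Q := sm gh N1956
def N2823 : Q := sm gi N1957
def N2824 : Q := sm gj N1958
def N2825 : Q := sm gd N1960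
def N2826 : Q := sm gf N1960
def N2827 : Q := sm gc N1961
def N2828 : Q := sm gf N1961
def N2829 : Q := sm gh N1961
def N2830 : Q := sm gg N1962
def N2831 : Q := sm ge N1963
def N2832 : Q := sm gg N1963
def N2833 : Q := sm gh N1963
def N2834 : Q := sm gi N1964
def N2835 : Q := sm gj N1965
def N2836 : Q := sm gc N1967
def N2837 : Q := sm gf N1967
def N2838 : Q := sm gh N1967
def N2839 : Q := sm gg N1968
def N2840 : Q := sm gf N1969
def N2841 : Q := sm gh N1969
def N2842 : Q := sm ge N1970
def N2843 : Q := sm gg N1970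
def N2844 : Q := sm gh N1970
def N2845 : Q := sm gi N1971
def N2846 : Q := sm gj N1972
def N2847 : Q := sm gg N1973
def N2848 : Q := sm gh N1973
def N2849 : Q := sm gj N1974
def N2850 : Q := sm gh N1974
def N2851 : Q := sm gi N1975
def N2852 : Q := sm gc N1978
def N2853 : Q := sm gf N1978
def N2854 : Q := sm gh N1978
def N2855 : Q := sm gg N1979
def N2856 : Q := sm gf N1980
def N2857 : Q := sm gh N1980
def N2858 : Q := sm ge N1981
def N2859 : Q := sm gg N1981
def N2860 : Q := sm gh N1981
def N2862 : Q := sm gj N1983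
def N2863 : Q := sm gg N1984
def N2864 : Q := sm gh N1984
def N2865 : Q := sm gj N1985
def N2866 : Q := sm gh N1985
def N2867 : Q := sm gi N1986
def N2868 : Q := sm gb N1989
def N2869 : Q := sm gf N1989
def N2870 : Q := sm gh N1989
def N2871 : Q := sm ge N1990
def N2872 : Q := sm gg N1990
def N2873 : Q := sm gh N1990
def N2874 : Q := sm gi N1991
def N2875 : Q := sm gj N1992
def N2876 : Q := sm ge N1993
def N2877 : Q := sm gg N1993
def N2878 : Q := sm gh N1993
def N2879 : Q := sm gd N1994
def N2880 : Q := sm gi N1994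
def N2881 : Q := sm gg N1995
def N2882 : Q := sm gh N1995
def N2883 : Q := sm gj N1996
def N2884 : Q := sm gh N1996
def N2886 : Q := sm gf N2000
def N2887 : Q := sm gj N2000
def N2888 : Q := sm gh N2000
def N2889 : Q := sm gi N2001
def N2890 : Q := sm gh N2002
def N2891 : Q := sm gi N2003
def N2892 : Q := sm gb N2005
def N2893 : Q := sm gf N2005
def N2894 : Q := sm gh N2005
def N2895 : Q := sm ge N2006
def N2896 : Q := sm gg N2006
def N2897 : Q := sm gh N2006
def N2898 : Q := sm gj N2008
def N2899 : Q := sm ge N2009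
def N2900 : Q := sm gg N2009
def N2901 : Q := sm gh N2009
def N2902 : Q := sm gd N2010
def N2903 : Q := sm gg N2011
def N2904 : Q := sm gh N2011
def N2905 : Q := sm gj N2012
def N2906 : Q := sm gh N2012
def N2907 : Q := sm gf N2015
def N2908 : Q := sm gj N2015
def N2909 : Q := sm gh N2015
def N2910 : Q := sm gd N2016
def N2911 : Q := sm gh N2017
def N2912 : Q := sm gf N2019
def N2913 : Q := sm ge N2020
def N2914 : Q := sm gg N2020
def N2915 : Q := sm gg N2021
def N2916 : Q := sm gj N2022
def N2917 : Q := sm gd N2024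
def N2918 : Q := sm gg N2024
def N2919 : Q := sm gj N2025
def N2920 : Q := sm gf N2026
def N2921 : Q := sm gj N2026
def N2922 : Q := sm gj N2028
def N2923 : Q := sm gc N2030
def N2924 : Q := sm gf N2030
def N2925 : Q := sm gh N2030
def N2926 : Q := sm gg N2031
def N2927 : Q := sm gf N2032
def N2928 : Q := sm gh N2032
def N2929 : Q := sm ge N2033
def N2930 : Q := sm gg N2033
def N2931 : Q := sm gh N2033
def N2933 : Q := sm gj N2035
def N2934 : Q := sm gg N2036
def N2935 : Q := sm gh N2036
def N2936 : Q := sm gj N2037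
def N2937 : Q := sm gh N2037
def N2938 : Q := sm gi N2038
def N2939 : Q := sm gb N2041
def N2940 : Q := sm gf N2041
def N2941 : Q := sm gh N2041
def N2942 : Q := sm ge N2042
def N2943 : Q := sm gg N2042
def N2944 : Q := sm gh N2042
def N2946 : Q := sm gj N2044
def N2947 : Q := sm ge N2045
def N2948 : Q := sm gg N2045
def N2949 : Q := sm gh N2045
def N2950 : Q := sm gd N2046
def N2951 : Q := sm gi N2046
def N2952 : Q := sm gg N2047
def N2953 : Q := sm gh N2047
def N2954 : Q := sm gj N2048
def N2955 : Q := sm gh N2048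
def N2956 : Q := sm gi N2049
def N2957 : Q := sm gj N2052
def N2958 : Q := sm gh N2052
def N2959 : Q := sm gd N2053
def N2960 : Q := sm gi N2053
def N2961 : Q := sm gh N2054
def N2962 : Q := sm gi N2055
def N2963 : Q := sm gf N2057
def N2964 : Q := sm gh N2057
def N2965 : Q := sm gg N2058
def N2966 : Q := sm gh N2058
def N2967 : Q := sm gd N2059
def N2969 : Q := sm gj N2060
def N2970 : Q := sm gh N2060
def N2971 : Q := sm gi N2061
def N2972 : Q := sm gj N2064
def N2976 : Q := sm ge N2066
def N2978 : Q := sm gh N2068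
def N2979 : Q := sm gi N2069
def N2980 : Q := sm gi N2071
def N2981 : Q := sm gb N2073
def N2982 : Q := sm gf N2073
def N2983 : Q := sm gh N2073
def N2984 : Q := sm ge N2074
def N2985 : Q := sm gg N2074
def N2986 : Q := sm gh N2074
def N2988 : Q := sm ge N2077
def N2989 : Q := sm gg N2077
def N2990 : Q := sm gh N2077
def N2991 : Q := sm gd N2078
def N2993 : Q := sm gg N2079
def N2994 : Q := sm gh N2079
def N2997 : Q := sm gf N2083
def N2998 : Q := sm gh N2083
def N2999 : Q := sm gd N2084
def N3000 : Q := sm gi N2084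
def N3001 : Q := sm gi N2085
def N3002 : Q := sm gf N2087
def N3003 : Q := sm gh N2087
def N3004 : Q := sm ge N2088
def N3005 : Q := sm gh N2088
def N3006 : Q := sm gd N2089
def N3007 : Q := sm gi N2089
def N3008 : Q := sm gh N2090
def N3009 : Q := sm gi N2091
def N3010 : Q := sm gd N2093
def N3011 : Q := sm gh N2093
def N3012 : Q := sm gd N2094
def N3013 : Q := sm gi N2094
def N3014 : Q := sm ge N2095
def N3016 : Q := sm gd N2097
def N3018 : Q := sm gc N2099
def N3019 : Q := sm gi N2099
def N3020 : Q := sm gd N2101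
def N3022 : Q := sm ge N2102
def N3023 : Q := sm gi N2102
def N3024 : Q := sm gf N2104
def N3025 : Q := sm gi N2104
def N3027 : Q := sm gf N2106
def N3028 : Q := sm gh N2106
def N3029 : Q := sm ge N2107
def N3030 : Q := sm gg N2107
def N3031 : Q := sm gh N2107
def N3032 : Q := sm gd N2108
def N3034 : Q := sm gg N2109
def N3035 : Q := sm gh N2109
def N3036 : Q := sm gh N2110
def N3038 : Q := sm gd N2113
def N3039 : Q := sm gg N2113
def N3040 : Q := sm gh N2113
def N3041 : Q := sm gh N2114
def N3042 : Q := sm gd N2115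
def N3044 : Q := sm ge N2116
def N3046 : Q := sm gf N2118
def N3047 : Q := sm gh N2118
def N3048 : Q := sm gd N2119
def N3051 : Q := sm gh N2122
def N3052 : Q := sm gd N2123
def N3053 : Q := sm gi N2123
def N3054 : Q := sm gc N2124
def N3055 : Q := sm gi N2124
def N3056 : Q := sm ge N2127
def N3057 : Q := sm gh N2127
def N3058 : Q := sm gd N2128
def N3060 : Q := sm gd N2129
def N3061 : Q := sm gh N2129
def N3062 : Q := sm gd N2130
def N3064 : Q := sm ge N2131
def N3066 : Q := sm gd N2133
def N3068 : Q := sm gh N2135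
def N3069 : Q := sm gd N2136
def N3070 : Q := sm gi N2136
def N3071 : Q := sm ge N2137
def N3073 : Q := sm gf N2139
def N3074 : Q := sm gi N2139
def N3076 : Q := sm gc N2141
def N3077 : Q := sm gi N2141
def N3078 : Q := sm gb N2143
def N3079 : Q := sm gi N2143
def N3081 : Q := sm gc N2145
def N3082 : Q := sm ge N2145
def N3084 : Q := sm gf N2147
def N3086 : Q := sm gh N2148
def N3087 : Q := sm gg N2149
def N3088 : Q := sm gi N2149
def N3089 : Q := sm gh N2150
def N3090 : Q := sm gf N2152
def N3091 : Q := sm gi N2152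
def N3092 : Q := sm gh N2153
def N3093 : Q := sm gd N2154
def N3094 : Q := sm gh N2155
def N3095 : Q := sm gd N2156
def N3096 : Q := sm gc N2157
def N3097 : Q := sm ge N2157
def N3098 : Q := sm gc N2158
def N3099 : Q := sm ge N2158
def N3100 : Q := sm gb N2159
def N3101 : Q := sm ge N2159
def N3102 : Q := sm gf N2160
def N3103 : Q := sm ga N2161
def N3104 : Q := sm ge N2161
def N3105 : Q := sm gd N2162
def N3106 : Q := sm gf N2162
def N3107 : Q := sm gg N2163
def N3108 : Q := sm gh N2164
def N3109 : Q := sm gd N2165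
def N3110 : Q := sm gd N2166
def N3111 : Q := sm gc N2167
def N3112 : Q := sm ge N2167
def N3113 : Q := sm gc N2168
def N3114 : Q := sm ge N2168
def N3115 : Q := sm gb N2169
def N3116 : Q := sm ge N2169
def N3117 : Q := sm gf N2170
def N3118 : Q := sm gc N2171
def N3119 : Q := sm ge N2171
def N3120 : Q := sm gb N2172
def N3121 : Q := sm ge N2172
def N3122 : Q := sm gf N2173
def N3123 : Q := sm gb N2174
def N3124 : Q := sm ge N2174
def N3125 : Q := sm gf N2175
def N3126 : Q := sm ga N2176
def N3127 : Q := sm ge N2176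
def N3128 : Q := sm gd N2177
def N3129 : Q := sm gf N2177
def N3130 : Q := sm gg N2178
def N3131 : Q := sm ga N2179
def N3132 : Q := sm ge N2179
def N3133 : Q := sm gd N2180
def N3134 : Q := sm gf N2180
def N3135 : Q := sm gg N2181
def N3136 : Q := sm ge N2182
def N3137 : Q := sm gd N2183
def N3138 : Q := sm gf N2183
def N3139 : Q := sm gf N2184
def N3140 : Q := sm gh N2184
def N3141 : Q := sm gg N2185
def N3142 : Q := sm gj N2186
def N3143 : Q := sm gc N2187
def N3144 : Q := sm ge N2187
def N3145 : Q := sm gb N2188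
def N3146 : Q := sm ge N2188
def N3147 : Q := sm gf N2189
def N3148 : Q := sm ga N2190
def N3149 : Q := sm ge N2190
def N3150 : Q := sm gd N2191
def N3151 : Q := sm gf N2191
def N3152 : Q := sm gg N2192
def N3153 : Q := sm gb N2193
def N3154 : Q := sm ge N2193
def N3155 : Q := sm gf N2194
def N3156 : Q := sm ga N2195
def N3157 : Q := sm ge N2195
def N3158 : Q := sm gd N2196
def N3159 : Q := sm gf N2196
def N3160 : Q := sm gg N2197
def N3161 : Q := sm ge N2198
def N3162 : Q := sm gd N2199
def N3163 : Q := sm gf N2199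
def N3164 : Q := sm gf N2200
def N3165 : Q := sm gh N2200
def N3166 : Q := sm gg N2201
def N3167 : Q := sm gj N2202
def N3168 : Q := sm ga N2203
def N3169 : Q := sm ge N2203
def N3170 : Q := sm gd N2204
def N3171 : Q := sm gf N2204
def N3172 : Q := sm gg N2205
def N3173 : Q := sm ge N2206
def N3174 : Q := sm gd N2207
def N3175 : Q := sm gf N2207
def N3176 : Q := sm gf N2208
def N3177 : Q := sm gh N2208
def N3178 : Q := sm gg N2209
def N3179 : Q := sm gj N2210
def N3180 : Q := sm gd N2211
def N3181 : Q := sm gf N2211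
def N3182 : Q := sm gc N2212
def N3183 : Q := sm gf N2212
def N3184 : Q := sm gh N2212
def N3185 : Q := sm gg N2213
def N3186 : Q := sm ge N2214
def N3187 : Q := sm gg N2214
def N3188 : Q := sm gh N2214
def N3189 : Q := sm gi N2215
def N3190 : Q := sm gj N2216
def N3191 : Q := sm ga N2218
def N3192 : Q := sm ge N2218
def N3193 : Q := sm gd N2219
def N3194 : Q := sm gf N2219
def N3195 : Q := sm gg N2220
def N3196 : Q := sm ge N2221
def N3197 : Q := sm gd N2222
def N3198 : Q := sm gf N2222
def N3199 : Q := sm gf N2223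
def N3200 : Q := sm gh N2223
def N3201 : Q := sm gg N2224
def N3202 : Q := sm gj N2225
def N3203 : Q := sm gd N2226
def N3204 : Q := sm gf N2226
def N3205 : Q := sm gc N2227
def N3206 : Q := sm gf N2227
def N3207 : Q := sm gh N2227
def N3208 : Q := sm gg N2228
def N3209 : Q := sm ge N2229
def N3210 : Q := sm gg N2229
def N3211 : Q := sm gh N2229
def N3212 : Q := sm gi N2230
def N3213 : Q := sm gj N2231
def N3214 : Q := sm gc N2233
def N3215 : Q := sm gf N2233
def N3216 : Q := sm gh N2233
def N3217 : Q := sm gg N2234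
def N3218 : Q := sm gf N2235
def N3219 : Q := sm gh N2235
def N3220 : Q := sm ge N2236
def N3221 : Q := sm gg N2236
def N3222 : Q := sm gh N2236
def N3223 : Q := sm gi N2237
def N3224 : Q := sm gj N2238
def N3225 : Q := sm gg N2239
def N3226 : Q := sm gh N2239
def N3227 : Q := sm gj N2240
def N3228 : Q := sm gh N2240
def N3229 : Q := sm gi N2241
def N3230 : Q := sm gf N2244
def N3231 : Q := sm gi N2244
def N3232 : Q := sm gh N2245
def N3233 : Q := sm gd N2246
def N3234 : Q := sm gc N2247
def N3235 : Q := sm ge N2247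
def N3236 : Q := sm gh N2248
def N3237 : Q := sm gd N2249
def N3238 : Q := sm gc N2250
def N3239 : Q := sm ge N2250
def N3240 : Q := sm gb N2251
def N3241 : Q := sm ge N2251
def N3242 : Q := sm gf N2252
def N3243 : Q := sm gd N2253
def N3244 : Q := sm gc N2254
def N3245 : Q := sm ge N2254
def N3246 : Q := sm gb N2255
def N3247 : Q := sm ge N2255
def N3248 : Q := sm gf N2256
def N3249 : Q := sm ga N2257
def N3250 : Q := sm ge N2257
def N3251 : Q := sm gd N2258
def N3252 : Q := sm gf N2258
def N3253 : Q := sm gg N2259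
def N3254 : Q := sm gc N2260
def N3255 : Q := sm ge N2260
def N3256 : Q := sm gb N2261
def N3257 : Q := sm ge N2261
def N3258 : Q := sm gf N2262
def N3259 : Q := sm ga N2263
def N3260 : Q := sm ge N2263
def N3261 : Q := sm gd N2264
def N3262 : Q := sm gf N2264
def N3263 : Q := sm gg N2265
def N3264 : Q := sm gb N2266
def N3265 : Q := sm ge N2266
def N3266 : Q := sm gf N2267
def N3267 : Q := sm ga N2268
def N3268 : Q := sm ge N2268
def N3269 : Q := sm gd N2269
def N3270 : Q := sm gf N2269
def N3271 : Q := sm gg N2270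
def N3272 : Q := sm ge N2271
def N3273 : Q := sm gd N2272
def N3274 : Q := sm gf N2272
def N3275 : Q := sm gf N2273
def N3276 : Q := sm gh N2273
def N3277 : Q := sm gg N2274
def N3278 : Q := sm gj N2275
def N3279 : Q := sm ga N2276
def N3280 : Q := sm ge N2276
def N3281 : Q := sm gd N2277
def N3282 : Q := sm gf N2277
def N3283 : Q := sm gg N2278
def N3284 : Q := sm ge N2279
def N3285 : Q := sm gd N2280
def N3286 : Q := sm gf N2280
def N3287 : Q := sm gf N2281
def N3288 : Q := sm gh N2281
def N3289 : Q := sm gg N2282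
def N3290 : Q := sm gj N2283
def N3291 : Q := sm gd N2284
def N3292 : Q := sm gf N2284
def N3293 : Q := sm gc N2285
def N3294 : Q := sm gf N2285
def N3295 : Q := sm gh N2285
def N3296 : Q := sm gg N2286
def N3297 : Q := sm ge N2287
def N3298 : Q := sm gg N2287
def N3299 : Q := sm gh N2287
def N3300 : Q := sm gi N2288
def N3301 : Q := sm gj N2289
def N3302 : Q := sm ga N2291
def N3303 : Q := sm ge N2291
def N3304 : Q := sm gd N2292
def N3305 : Q := sm gf N2292
def N3306 : Q := sm gg N2293
def N3307 : Q := sm ge N2294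
def N3308 : Q := sm gd N2295
def N3309 : Q := sm gf N2295
def N3310 : Q := sm gf N2296
def N3311 : Q := sm gh N2296
def N3312 : Q := sm gg N2297
def N3313 : Q := sm gj N2298
def N3314 : Q := sm ge N2299
def N3315 : Q := sm gd N2300
def N3316 : Q := sm gf N2300
def N3317 : Q := sm gf N2301
def N3318 : Q := sm gh N2301
def N3319 : Q := sm gg N2302
def N3320 : Q := sm gj N2303
def N3321 : Q := sm gd N2304
def N3322 : Q := sm gf N2304
def N3323 : Q := sm gc N2305
def N3324 : Q := sm gf N2305
def N3325 : Q := sm gh N2305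
def N3326 : Q := sm gg N2306
def N3327 : Q := sm ge N2307
def N3328 : Q := sm gg N2307
def N3329 : Q := sm gh N2307
def N3330 : Q := sm gi N2308
def N3331 : Q := sm gj N2309
def N3332 : Q := sm gd N2311
def N3333 : Q := sm gf N2311
def N3334 : Q := sm gc N2312
def N3335 : Q := sm gf N2312
def N3336 : Q := sm gh N2312
def N3337 : Q := sm gg N2313
def N3338 : Q := sm ge N2314
def N3339 : Q := sm gg N2314
def N3340 : Q := sm gh N2314
def N3341 : Q := sm gi N2315
def N3342 : Q := sm gj N2316
def N3343 : Q := sm gc N2318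
def N3344 : Q := sm gf N2318
def N3345 : Q := sm gh N2318
def N3346 : Q := sm gg N2319
def N3347 : Q := sm gf N2320
def N3348 : Q := sm gh N2320
def N3349 : Q := sm ge N2321
def N3350 : Q := sm gg N2321
def N3351 : Q := sm gh N2321
def N3352 : Q := sm gi N2322
def N3353 : Q := sm gj N2323
def N3354 : Q := sm gg N2324
def N3355 : Q := sm gh N2324
def N3356 : Q := sm gj N2325
def N3357 : Q := sm gh N2325
def N3358 : Q := sm gi N2326
def N3359 : Q := sm gc N2329
def N3360 : Q := sm gf N2329
def N3361 : Q := sm gh N2329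
def N3362 : Q := sm gg N2330
def N3363 : Q := sm gf N2331
def N3364 : Q := sm gh N2331
def N3365 : Q := sm ge N2332
def N3366 : Q := sm gg N2332
def N3367 : Q := sm gh N2332
def N3368 : Q := sm gi N2333
def N3369 : Q := sm gj N2334
def N3370 : Q := sm gg N2335
def N3371 : Q := sm gh N2335
def N3372 : Q := sm gj N2336
def N3373 : Q := sm gh N2336
def N3374 : Q := sm gi N2337
def N3375 : Q := sm gb N2340
def N3376 : Q := sm gf N2340
def N3377 : Q := sm gh N2340
def N3378 : Q := sm ge N2341
def N3379 : Q := sm gg N2341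
def N3380 : Q := sm gh N2341
def N3381 : Q := sm gi N2342
def N3382 : Q := sm gj N2343
def N3383 : Q := sm ge N2344
def N3384 : Q := sm gg N2344
def N3385 : Q := sm gh N2344
def N3386 : Q := sm gi N2345
def N3387 : Q := sm gg N2346
def N3388 : Q := sm gh N2346
def N3389 : Q := sm gj N2347
def N3390 : Q := sm gh N2347
def N3391 : Q := sm gi N2348
def N3392 : Q := sm gf N2351
def N3393 : Q := sm gj N2351
def N3394 : Q := sm gh N2351
def N3395 : Q := sm gd N2352
def N3396 : Q := sm gi N2352
def N3397 : Q := sm gh N2353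
def N3398 : Q := sm gi N2354
def N3399 : Q := sm gd N2356
def N3400 : Q := sm gf N2356
def N3401 : Q := sm gc N2357
def N3402 : Q := sm gf N2357
def N3403 : Q := sm gh N2357
def N3404 : Q := sm gg N2358
def N3405 : Q := sm ge N2359
def N3406 : Q := sm gg N2359
def N3407 : Q := sm gh N2359
def N3408 : Q := sm gi N2360
def N3409 : Q := sm gj N2361
def N3410 : Q := sm gc N2363
def N3411 : Q := sm gf N2363
def N3412 : Q := sm gh N2363
def N3413 : Q := sm gg N2364
def N3414 : Q := sm gf N2365
def N3415 : Q := sm gh N2365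
def N3416 : Q := sm ge N2366
def N3417 : Q := sm gg N2366
def N3418 : Q := sm gh N2366
def N3419 : Q := sm gi N2367
def N3420 : Q := sm gj N2368
def N3421 : Q := sm gg N2369
def N3422 : Q := sm gh N2369
def N3423 : Q := sm gj N2370
def N3424 : Q := sm gh N2370
def N3425 : Q := sm gi N2371
def N3426 : Q := sm gb N2374
def N3427 : Q := sm gf N2374
def N3428 : Q := sm gh N2374
def N3429 : Q := sm ge N2375
def N3430 : Q := sm gg N2375
def N3431 : Q := sm gh N2375
def N3432 : Q := sm gi N2376
def N3433 : Q := sm gj N2377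
def N3434 : Q := sm ge N2378
def N3435 : Q := sm gg N2378
def N3436 : Q := sm gh N2378
def N3437 : Q := sm gd N2379
def N3438 : Q := sm gi N2379
def N3439 : Q := sm gg N2380
def N3440 : Q := sm gh N2380
def N3441 : Q := sm gj N2381
def N3442 : Q := sm gh N2381
def N3443 : Q := sm gi N2382
def N3444 : Q := sm gf N2385
def N3445 : Q := sm gj N2385
def N3446 : Q := sm gh N2385
def N3447 : Q := sm gd N2386
def N3448 : Q := sm gi N2386
def N3449 : Q := sm gh N2387
def N3450 : Q := sm gi N2388
def N3451 : Q := sm gg N2390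
def N3452 : Q := sm gh N2390
def N3453 : Q := sm gj N2391
def N3454 : Q := sm gh N2391
def N3455 : Q := sm gi N2392
def N3456 : Q := sm gf N2395
def N3457 : Q := sm gj N2395
def N3458 : Q := sm gh N2395
def N3459 : Q := sm gd N2396
def N3460 : Q := sm gi N2396
def N3461 : Q := sm gh N2397
def N3462 : Q := sm gi N2398
def N3463 : Q := sm gj N2400
def N3464 : Q := sm gh N2400
def N3465 : Q := sm gh N2401
def N3466 : Q := sm gd N2402
def N3467 : Q := sm gi N2402
def N3468 : Q := sm gc N2403
def N3469 : Q := sm gi N2403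
def N3470 : Q := sm gi N2405
def N3471 : Q := sm gg N2407
def N3472 : Q := sm gh N2407
def N3473 : Q := sm gd N2408
def N3474 : Q := sm gi N2408
def N3475 : Q := sm gd N2409
def N3476 : Q := sm gi N2409
def N3477 : Q := sm gc N2410
def N3478 : Q := sm gi N2410
def N3479 : Q := sm gb N2412
def N3480 : Q := sm gi N2412
def N3481 : Q := sm gh N2413
def N3482 : Q := sm gd N2415
def N3483 : Q := sm gf N2415
def N3484 : Q := sm gi N2415
def N3485 : Q := sm gh N2416
def N3486 : Q := sm gi N2417
def N3487 : Q := sm gh N2418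
def N3488 : Q := sm gd N2419
def N3489 : Q := sm gc N2420
def N3490 : Q := sm ge N2420
def N3491 : Q := sm gb N2421
def N3492 : Q := sm ge N2421
def N3493 : Q := sm gf N2422
def N3494 : Q := sm gh N2423
def N3495 : Q := sm gi N2423
def N3496 : Q := sm gh N2424
def N3497 : Q := sm gd N2425
def N3498 : Q := sm gd N2426
def N3499 : Q := sm gc N2427
def N3500 : Q := sm ge N2427
def N3501 : Q := sm gb N2428
def N3502 : Q := sm ge N2428
def N3503 : Q := sm gf N2429
def N3504 : Q := sm ga N2430
def N3505 : Q := sm ge N2430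
def N3506 : Q := sm gd N2431
def N3507 : Q := sm gf N2431
def N3508 : Q := sm gg N2432
def N3509 : Q := sm gi N2433
def N3510 : Q := sm gh N2434
def N3511 : Q := sm gd N2435
def N3512 : Q := sm gc N2436
def N3514 : Q := sm gc N2437
def N3515 : Q := sm ge N2437
def N3516 : Q := sm gb N2438
def N3517 : Q := sm ge N2438
def N3518 : Q := sm gf N2439
def N3519 : Q := sm ga N2440
def N3520 : Q := sm ge N2440
def N3521 : Q := sm gd N2441
def N3522 : Q := sm gf N2441
def N3523 : Q := sm gg N2442
def N3524 : Q := sm ge N2443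
def N3525 : Q := sm gd N2444
def N3526 : Q := sm gf N2444
def N3527 : Q := sm gf N2445
def N3528 : Q := sm gh N2445
def N3529 : Q := sm gg N2446
def N3530 : Q := sm gj N2447
def N3531 : Q := sm gc N2448
def N3532 : Q := sm ge N2448
def N3533 : Q := sm gb N2449
def N3534 : Q := sm ge N2449
def N3535 : Q := sm gf N2450
def N3536 : Q := sm ga N2451
def N3537 : Q := sm ge N2451
def N3538 : Q := sm gd N2452
def N3539 : Q := sm gf N2452
def N3540 : Q := sm gg N2453
def N3541 : Q := sm ge N2454
def N3542 : Q := sm gd N2455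
def N3543 : Q := sm gf N2455
def N3544 : Q := sm gf N2456
def N3545 : Q := sm gh N2456
def N3546 : Q := sm gg N2457
def N3547 : Q := sm gj N2458
def N3548 : Q := sm gb N2459
def N3549 : Q := sm ge N2459
def N3550 : Q := sm gf N2460
def N3551 : Q := sm ga N2461
def N3552 : Q := sm ge N2461
def N3553 : Q := sm gd N2462
def N3554 : Q := sm gf N2462
def N3555 : Q := sm gg N2463
def N3556 : Q := sm ge N2464
def N3557 : Q := sm gd N2465
def N3558 : Q := sm gf N2465
def N3559 : Q := sm gf N2466
def N3560 : Q := sm gh N2466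
def N3561 : Q := sm gg N2467
def N3562 : Q := sm gj N2468
def N3563 : Q := sm gd N2469
def N3564 : Q := sm gf N2469
def N3565 : Q := sm gc N2470
def N3566 : Q := sm gf N2470
def N3567 : Q := sm gh N2470
def N3568 : Q := sm gg N2471
def N3569 : Q := sm ge N2472
def N3570 : Q := sm gg N2472
def N3571 : Q := sm gh N2472
def N3572 : Q := sm gi N2473
def N3573 : Q := sm gj N2474
def N3574 : Q := sm ga N2476
def N3575 : Q := sm ge N2476
def N3576 : Q := sm gd N2477
def N3577 : Q := sm gf N2477
def N3578 : Q := sm gg N2478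
def N3579 : Q := sm ge N2479
def N3580 : Q := sm gd N2480
def N3581 : Q := sm gf N2480
def N3582 : Q := sm gf N2481
def N3583 : Q := sm gh N2481
def N3584 : Q := sm gg N2482
def N3585 : Q := sm gj N2483
def N3586 : Q := sm gd N2484
def N3587 : Q := sm gf N2484
def N3588 : Q := sm gc N2485
def N3589 : Q := sm gf N2485
def N3590 : Q := sm gh N2485
def N3591 : Q := sm gg N2486
def N3592 : Q := sm ge N2487
def N3593 : Q := sm gg N2487
def N3594 : Q := sm gh N2487
def N3595 : Q := sm gi N2488
def N3596 : Q := sm gj N2489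
def N3597 : Q := sm gc N2491
def N3598 : Q := sm gf N2491
def N3599 : Q := sm gh N2491
def N3600 : Q := sm gg N2492
def N3601 : Q := sm gf N2493
def N3602 : Q := sm gh N2493
def N3603 : Q := sm ge N2494
def N3604 : Q := sm gg N2494
def N3605 : Q := sm gh N2494
def N3606 : Q := sm gi N2495
def N3607 : Q := sm gj N2496
def N3608 : Q := sm gg N2497
def N3609 : Q := sm gh N2497
def N3610 : Q := sm gj N2498
def N3611 : Q := sm gh N2498
def N3612 : Q := sm gi N2499
def N3613 : Q := sm ge N2502
def N3614 : Q := sm gd N2503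
def N3615 : Q := sm gf N2503
def N3616 : Q := sm gf N2504
def N3617 : Q := sm gh N2504
def N3618 : Q := sm gg N2505
def N3619 : Q := sm gj N2506
def N3620 : Q := sm gd N2507
def N3621 : Q := sm gf N2507
def N3622 : Q := sm gc N2508
def N3623 : Q := sm gf N2508
def N3624 : Q := sm gh N2508
def N3625 : Q := sm gg N2509
def N3626 : Q := sm ge N2510
def N3627 : Q := sm gg N2510
def N3628 : Q := sm gh N2510
def N3629 : Q := sm gi N2511
def N3630 : Q := sm gj N2512
def N3631 : Q := sm gd N2514
def N3632 : Q := sm gf N2514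
def N3633 : Q := sm gc N2515
def N3634 : Q := sm gf N2515
def N3635 : Q := sm gh N2515
def N3636 : Q := sm gg N2516
def N3637 : Q := sm ge N2517
def N3638 : Q := sm gg N2517
def N3639 : Q := sm gh N2517
def N3640 : Q := sm gi N2518
def N3641 : Q := sm gj N2519
def N3642 : Q := sm gc N2521
def N3643 : Q := sm gf N2521
def N3644 : Q := sm gh N2521
def N3645 : Q := sm gg N2522
def N3646 : Q := sm gf N2523
def N3647 : Q := sm gh N2523
def N3648 : Q := sm ge N2524
def N3649 : Q := sm gg N2524
def N3650 : Q := sm gh N2524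
def N3651 : Q := sm gi N2525
def N3652 : Q := sm gj N2526
def N3653 : Q := sm gg N2527
def N3654 : Q := sm gh N2527
def N3655 : Q := sm gj N2528
def N3656 : Q := sm gh N2528
def N3657 : Q := sm gi N2529
def N3658 : Q := sm gc N2532
def N3659 : Q := sm gf N2532
def N3660 : Q := sm gh N2532
def N3661 : Q := sm gg N2533
def N3662 : Q := sm gf N2534
def N3663 : Q := sm gh N2534
def N3664 : Q := sm ge N2535
def N3665 : Q := sm gg N2535
def N3666 : Q := sm gh N2535
def N3667 : Q := sm gi N2536
def N3668 : Q := sm gj N2537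
def N3669 : Q := sm gg N2538
def N3670 : Q := sm gh N2538
def N3671 : Q := sm gj N2539
def N3672 : Q := sm gh N2539
def N3673 : Q := sm gi N2540
def N3674 : Q := sm gb N2543
def N3675 : Q := sm gf N2543
def N3676 : Q := sm gh N2543
def N3677 : Q := sm ge N2544
def N3678 : Q := sm gg N2544
def N3679 : Q := sm gh N2544
def N3681 : Q := sm gj N2546
def N3682 : Q := sm ge N2547
def N3683 : Q := sm gg N2547
def N3684 : Q := sm gh N2547
def N3685 : Q := sm gd N2548
def N3686 : Q := sm gi N2548
def N3687 : Q := sm gg N2549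
def N3688 : Q := sm gh N2549
def N3689 : Q := sm gj N2550
def N3690 : Q := sm gh N2550
def N3692 : Q := sm gf N2554
def N3693 : Q := sm gj N2554
def N3694 : Q := sm gh N2554
def N3695 : Q := sm gi N2555
def N3696 : Q := sm gh N2556
def N3697 : Q := sm gi N2557
def N3698 : Q := sm gb N2559
def N3699 : Q := sm gf N2559
def N3700 : Q := sm gh N2559
def N3701 : Q := sm ge N2560
def N3702 : Q := sm gg N2560
def N3703 : Q := sm gh N2560
def N3704 : Q := sm gj N2562
def N3705 : Q := sm ge N2563
def N3706 : Q := sm gg N2563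
def N3707 : Q := sm gh N2563
def N3708 : Q := sm gd N2564
def N3709 : Q := sm gg N2565
def N3710 : Q := sm gh N2565
def N3711 : Q := sm gj N2566
def N3712 : Q := sm gh N2566
def N3713 : Q := sm gf N2569
def N3714 : Q := sm gj N2569
def N3715 : Q := sm gh N2569
def N3716 : Q := sm gd N2570
def N3717 : Q := sm gh N2571
def N3718 : Q := sm gf N2573
def N3719 : Q := sm ge N2574
def N3720 : Q := sm gg N2574
def N3721 : Q := sm gg N2575
def N3722 : Q := sm gj N2576
def N3723 : Q := sm gd N2578
def N3724 : Q := sm gg N2578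
def N3725 : Q := sm gj N2579
def N3726 : Q := sm gf N2580
def N3727 : Q := sm gj N2580
def N3728 : Q := sm gj N2582
def N3729 : Q := sm gc N2584
def N3730 : Q := sm gf N2584
def N3731 : Q := sm gh N2584
def N3732 : Q := sm gg N2585
def N3733 : Q := sm gf N2586
def N3734 : Q := sm gh N2586
def N3735 : Q := sm ge N2587
def N3736 : Q := sm gg N2587
def N3737 : Q := sm gh N2587
def N3738 : Q := sm gi N2588
def N3739 : Q := sm gj N2589
def N3740 : Q := sm gg N2590
def N3741 : Q := sm gh N2590
def N3742 : Q := sm gj N2591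
def N3743 : Q := sm gh N2591
def N3744 : Q := sm gi N2592
def N3745 : Q := sm gb N2595
def N3746 : Q := sm gf N2595
def N3747 : Q := sm gh N2595
def N3748 : Q := sm ge N2596
def N3749 : Q := sm gg N2596
def N3750 : Q := sm gh N2596
def N3752 : Q := sm gj N2598
def N3753 : Q := sm ge N2599
def N3754 : Q := sm gg N2599
def N3755 : Q := sm gh N2599
def N3756 : Q := sm gd N2600
def N3758 : Q := sm gg N2601
def N3759 : Q := sm gh N2601
def N3760 : Q := sm gj N2602
def N3761 : Q := sm gh N2602
def N3763 : Q := sm gj N2606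
def N3764 : Q := sm gh N2606
def N3765 : Q := sm gd N2607
def N3766 : Q := sm gi N2607
def N3767 : Q := sm gh N2608
def N3768 : Q := sm gi N2609
def N3769 : Q := sm gf N2611
def N3770 : Q := sm gh N2611
def N3771 : Q := sm gg N2612
def N3772 : Q := sm gh N2612
def N3773 : Q := sm gd N2613
def N3775 : Q := sm gj N2614
def N3776 : Q := sm gh N2614
def N3777 : Q := sm gi N2615
def N3778 : Q := sm gj N2618
def N3779 : Q := sm gh N2618
def N3780 : Q := sm gd N2619
def N3781 : Q := sm gi N2619
def N3782 : Q := sm ge N2620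
def N3783 : Q := sm gi N2620
def N3784 : Q := sm gh N2622
def N3786 : Q := sm gi N2625
def N3787 : Q := sm gb N2627
def N3788 : Q := sm gf N2627
def N3789 : Q := sm gh N2627
def N3790 : Q := sm ge N2628
def N3791 : Q := sm gg N2628
def N3794 : Q := sm ge N2631
def N3795 : Q := sm gg N2631
def N3796 : Q := sm gh N2631
def N3797 : Q := sm gd N2632
def N3798 : Q := sm gi N2632
def N3799 : Q := sm gg N2633
def N3800 : Q := sm gh N2633
def N3801 : Q := sm gh N2634
def N3802 : Q := sm gi N2635
def N3803 : Q := sm gf N2637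
def N3804 : Q := sm gh N2637
def N3805 : Q := sm gd N2638
def N3806 : Q := sm gi N2638
def N3807 : Q := sm gi N2639
def N3808 : Q := sm gf N2641
def N3809 : Q := sm gh N2641
def N3810 : Q := sm ge N2642
def N3811 : Q := sm gh N2642
def N3812 : Q := sm gd N2643
def N3813 : Q := sm gi N2643
def N3814 : Q := sm gh N2644
def N3816 : Q := sm gd N2647
def N3817 : Q := sm gh N2647
def N3818 : Q := sm gd N2648
def N3820 : Q := sm ge N2649
def N3821 : Q := sm gi N2649
def N3822 : Q := sm gd N2651
def N3823 : Q := sm gi N2651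
def N3824 : Q := sm gc N2653
def N3825 : Q := sm gi N2653
def N3826 : Q := sm gd N2655
def N3828 : Q := sm ge N2656
def N3830 : Q := sm gf N2658
def N3831 : Q := sm gi N2658
def N3833 : Q := sm gd N2660
def N3834 : Q := sm gf N2660
def N3835 : Q := sm gi N2660
def N3836 : Q := sm gh N2661
def N3837 : Q := sm gf N2662
def N3838 : Q := sm gh N2662
def N3839 : Q := sm gi N2662
def N3840 : Q := sm gi N2663
def N3841 : Q := sm gh N2664
def N3842 : Q := sm gd N2665
def N3843 : Q := sm gh N2666
def N3844 : Q := sm gd N2667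
def N3845 : Q := sm gc N2668
def N3846 : Q := sm ge N2668
def N3847 : Q := sm gb N2669
def N3848 : Q := sm ge N2669
def N3849 : Q := sm gf N2670
def N3850 : Q := sm ga N2671
def N3851 : Q := sm ge N2671
def N3852 : Q := sm gd N2672
def N3853 : Q := sm gf N2672
def N3854 : Q := sm gg N2673
def N3855 : Q := sm gc N2674
def N3856 : Q := sm gh N2674
def N3857 : Q := sm gi N2674
def N3858 : Q := sm gh N2675
def N3859 : Q := sm gd N2676
def N3860 : Q := sm gi N2677
def N3861 : Q := sm gh N2678
def N3862 : Q := sm gd N2679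
def N3863 : Q := sm gc N2680
def N3864 : Q := sm ge N2680
def N3865 : Q := sm gc N2681
def N3866 : Q := sm ge N2681
def N3867 : Q := sm gb N2682
def N3868 : Q := sm ge N2682
def N3869 : Q := sm gf N2683
def N3870 : Q := sm ga N2684
def N3871 : Q := sm ge N2684
def N3872 : Q := sm gd N2685
def N3873 : Q := sm gf N2685
def N3874 : Q := sm gg N2686
def N3875 : Q := sm ge N2687
def N3876 : Q := sm gd N2688
def N3877 : Q := sm gf N2688
def N3878 : Q := sm gf N2689
def N3879 : Q := sm gh N2689
def N3880 : Q := sm gg N2690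
def N3881 : Q := sm gj N2691
def N3882 : Q := sm gh N2692
def N3883 : Q := sm gi N2692
def N3884 : Q := sm gi N2693
def N3885 : Q := sm gh N2694
def N3886 : Q := sm gd N2695
def N3887 : Q := sm gc N2696
def N3888 : Q := sm ge N2696
def N3889 : Q := sm gh N2697
def N3890 : Q := sm gd N2698
def N3891 : Q := sm gc N2699
def N3892 : Q := sm ge N2699
def N3893 : Q := sm gb N2700
def N3894 : Q := sm ge N2700
def N3895 : Q := sm gf N2701
def N3896 : Q := sm gb N2702
def N3897 : Q := sm ge N2702
def N3898 : Q := sm gf N2703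
def N3899 : Q := sm ga N2704
def N3900 : Q := sm ge N2704
def N3901 : Q := sm gd N2705
def N3902 : Q := sm gf N2705
def N3903 : Q := sm gg N2706
def N3904 : Q := sm ge N2707
def N3905 : Q := sm gd N2708
def N3906 : Q := sm gf N2708
def N3907 : Q := sm gf N2709
def N3908 : Q := sm gh N2709
def N3909 : Q := sm gg N2710
def N3910 : Q := sm gj N2711
def N3911 : Q := sm gd N2712
def N3912 : Q := sm gf N2712
def N3913 : Q := sm gc N2713
def N3914 : Q := sm gf N2713
def N3915 : Q := sm gh N2713
def N3916 : Q := sm gg N2714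
def N3917 : Q := sm ge N2715
def N3918 : Q := sm gg N2715
def N3919 : Q := sm gh N2715
def N3920 : Q := sm gi N2716
def N3921 : Q := sm gj N2717
def N3922 : Q := sm gc N2719
def N3923 : Q := sm ge N2719
def N3924 : Q := sm gb N2720
def N3925 : Q := sm ge N2720
def N3927 : Q := sm ga N2722
def N3928 : Q := sm ge N2722
def N3929 : Q := sm gd N2723
def N3930 : Q := sm gf N2723
def N3931 : Q := sm gg N2724
def N3932 : Q := sm ge N2725
def N3933 : Q := sm gd N2726
def N3934 : Q := sm gf N2726
def N3935 : Q := sm gf N2727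
def N3936 : Q := sm gh N2727
def N3937 : Q := sm gg N2728
def N3938 : Q := sm gj N2729
def N3939 : Q := sm gd N2730
def N3940 : Q := sm gf N2730
def N3941 : Q := sm gc N2731
def N3942 : Q := sm gf N2731
def N3943 : Q := sm gh N2731
def N3944 : Q := sm gg N2732
def N3945 : Q := sm ge N2733
def N3946 : Q := sm gg N2733
def N3947 : Q := sm gh N2733
def N3948 : Q := sm gi N2734
def N3949 : Q := sm gj N2735
def N3950 : Q := sm gb N2737
def N3951 : Q := sm ge N2737
def N3953 : Q := sm ga N2739
def N3954 : Q := sm ge N2739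
def N3955 : Q := sm gd N2740
def N3958 : Q := sm ge N2742
def N3959 : Q := sm gd N2743
def N3960 : Q := sm gf N2743
def N3961 : Q := sm gf N2744
def N3963 : Q := sm gg N2745
def N3964 : Q := sm gj N2746
def N3965 : Q := sm gd N2747
def N3966 : Q := sm gf N2747
def N3967 : Q := sm gc N2748
def N3968 : Q := sm gf N2748
def N3969 : Q := sm gh N2748
def N3970 : Q := sm gg N2749
def N3971 : Q := sm ge N2750
def N3972 : Q := sm gg N2750
def N3973 : Q := sm gh N2750
def N3974 : Q := sm gi N2751
def N3975 : Q := sm gj N2752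
def N3976 : Q := sm gc N2754
def N3977 : Q := sm gf N2754
def N3978 : Q := sm gh N2754
def N3979 : Q := sm gg N2755
def N3980 : Q := sm gf N2756
def N3981 : Q := sm gh N2756
def N3982 : Q := sm ge N2757
def N3983 : Q := sm gg N2757
def N3984 : Q := sm gh N2757
def N3985 : Q := sm gi N2758
def N3986 : Q := sm gj N2759
def N3987 : Q := sm gg N2760
def N3988 : Q := sm gh N2760
def N3989 : Q := sm gj N2761
def N3990 : Q := sm gh N2761
def N3991 : Q := sm gi N2762
def N3992 : Q := sm ga N2765
def N3993 : Q := sm ge N2765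
def N3994 : Q := sm gd N2766
def N3995 : Q := sm gf N2766
def N3996 : Q := sm gg N2767
def N3997 : Q := sm ge N2768
def N3998 : Q := sm gd N2769
def N4000 : Q := sm gf N2770
def N4001 : Q := sm gh N2770
def N4003 : Q := sm gj N2772
def N4004 : Q := sm gd N2773
def N4005 : Q := sm gf N2773
def N4006 : Q := sm gc N2774
def N4007 : Q := sm gf N2774
def N4008 : Q := sm gh N2774
def N4009 : Q := sm gg N2775
def N4010 : Q := sm ge N2776
def N4011 : Q := sm gg N2776
def N4012 : Q := sm gh N2776
def N4014 : Q := sm gj N2778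
def N4015 : Q := sm gc N2780
def N4016 : Q := sm gf N2780
def N4019 : Q := sm gf N2782
def N4020 : Q := sm gh N2782
def N4021 : Q := sm ge N2783
def N4022 : Q := sm gg N2783
def N4023 : Q := sm gh N2783
def N4025 : Q := sm gj N2785
def N4026 : Q := sm gg N2786
def N4027 : Q := sm gh N2786
def N4028 : Q := sm gj N2787
def N4029 : Q := sm gh N2787
def N4030 : Q := sm gi N2788
def N4031 : Q := sm gb N2791
def N4032 : Q := sm gf N2791
def N4033 : Q := sm gh N2791
def N4034 : Q := sm ge N2792
def N4035 : Q := sm gg N2792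
def N4036 : Q := sm gh N2792
def N4038 : Q := sm gj N2794
def N4039 : Q := sm ge N2795
def N4040 : Q := sm gg N2795
def N4041 : Q := sm gh N2795
def N4042 : Q := sm gd N2796
def N4044 : Q := sm gg N2797
def N4045 : Q := sm gh N2797
def N4046 : Q := sm gj N2798
def N4047 : Q := sm gh N2798
def N4048 : Q := sm gi N2799
def N4049 : Q := sm gf N2802
def N4050 : Q := sm gj N2802
def N4051 : Q := sm gh N2802
def N4052 : Q := sm gd N2803
def N4053 : Q := sm gi N2803
def N4054 : Q := sm gh N2804
def N4055 : Q := sm gi N2805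
def N4056 : Q := sm gd N2807
def N4057 : Q := sm gf N2807
def N4058 : Q := sm gc N2808
def N4059 : Q := sm gf N2808
def N4060 : Q := sm gh N2808
def N4061 : Q := sm gg N2809
def N4062 : Q := sm ge N2810
def N4063 : Q := sm gg N2810
def N4064 : Q := sm gh N2810
def N4066 : Q := sm gj N2812
def N4067 : Q := sm gc N2814
def N4068 : Q := sm gf N2814
def N4069 : Q := sm gh N2814
def N4070 : Q := sm gg N2815
def N4071 : Q := sm gf N2816
def N4072 : Q := sm gh N2816
def N4073 : Q := sm ge N2817
def N4074 : Q := sm gg N2817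
def N4075 : Q := sm gh N2817
def N4077 : Q := sm gj N2819
def N4078 : Q := sm gg N2820
def N4079 : Q := sm gh N2820
def N4080 : Q := sm gj N2821
def N4081 : Q := sm gh N2821
def N4082 : Q := sm gi N2822
def N4083 : Q := sm gc N2825
def N4084 : Q := sm gf N2825
def N4086 : Q := sm gg N2826
def N4087 : Q := sm gf N2827
def N4088 : Q := sm gh N2827
def N4089 : Q := sm ge N2828
def N4090 : Q := sm gg N2828
def N4091 : Q := sm gh N2828
def N4092 : Q := sm gi N2829
def N4093 : Q := sm gj N2830
def N4094 : Q := sm gg N2831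
def N4095 : Q := sm gh N2831
def N4096 : Q := sm gj N2832
def N4097 : Q := sm gh N2832
def N4098 : Q := sm gi N2833
def N4099 : Q := sm gb N2836
def N4100 : Q := sm gf N2836
def N4101 : Q := sm gh N2836
def N4102 : Q := sm ge N2837
def N4103 : Q := sm gg N2837
def N4104 : Q := sm gh N2837
def N4106 : Q := sm gj N2839
def N4107 : Q := sm ge N2840
def N4108 : Q := sm gg N2840
def N4109 : Q := sm gh N2840
def N4110 : Q := sm gd N2841
def N4111 : Q := sm gi N2841
def N4112 : Q := sm gg N2842
def N4113 : Q := sm gh N2842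
def N4114 : Q := sm gj N2843
def N4115 : Q := sm gh N2843
def N4117 : Q := sm gf N2847
def N4118 : Q := sm gj N2847
def N4119 : Q := sm gh N2847
def N4120 : Q := sm gd N2848
def N4121 : Q := sm gi N2848
def N4122 : Q := sm gh N2849
def N4123 : Q := sm gi N2850
def N4124 : Q := sm gb N2852
def N4125 : Q := sm gf N2852
def N4126 : Q := sm gh N2852
def N4127 : Q := sm ge N2853
def N4128 : Q := sm gg N2853
def N4129 : Q := sm gh N2853
def N4130 : Q := sm gi N2854
def N4131 : Q := sm gj N2855
def N4132 : Q := sm ge N2856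
def N4133 : Q := sm gg N2856
def N4134 : Q := sm gh N2856
def N4135 : Q := sm gd N2857
def N4136 : Q := sm gi N2857
def N4137 : Q := sm gg N2858
def N4138 : Q := sm gh N2858
def N4139 : Q := sm gj N2859
def N4140 : Q := sm gh N2859
def N4142 : Q := sm gf N2863
def N4143 : Q := sm gj N2863
def N4144 : Q := sm gh N2863
def N4145 : Q := sm gd N2864
def N4146 : Q := sm gi N2864
def N4147 : Q := sm gh N2865
def N4148 : Q := sm gi N2866
def N4149 : Q := sm gf N2868
def N4150 : Q := sm gh N2868
def N4151 : Q := sm ge N2869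
def N4152 : Q := sm gg N2869
def N4153 : Q := sm gh N2869
def N4154 : Q := sm gd N2870
def N4155 : Q := sm gi N2870
def N4156 : Q := sm gg N2871
def N4157 : Q := sm gh N2871
def N4158 : Q := sm gj N2872
def N4159 : Q := sm gh N2872
def N4161 : Q := sm gd N2876
def N4162 : Q := sm gg N2876
def N4163 : Q := sm gh N2876
def N4164 : Q := sm gj N2877
def N4165 : Q := sm gh N2877
def N4166 : Q := sm gd N2878
def N4168 : Q := sm ge N2879
def N4169 : Q := sm gi N2879
def N4170 : Q := sm gf N2881
def N4171 : Q := sm gj N2881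
def N4172 : Q := sm gh N2881
def N4173 : Q := sm gi N2882
def N4174 : Q := sm gh N2883
def N4176 : Q := sm gj N2886
def N4177 : Q := sm gh N2886
def N4179 : Q := sm gi N2888
def N4180 : Q := sm gi N2890
def N4181 : Q := sm gf N2892
def N4182 : Q := sm gh N2892
def N4183 : Q := sm ge N2893
def N4184 : Q := sm gg N2893
def N4185 : Q := sm gh N2893
def N4186 : Q := sm gd N2894
def N4187 : Q := sm gg N2895
def N4188 : Q := sm gh N2895
def N4189 : Q := sm gj N2896
def N4190 : Q := sm gh N2896
def N4191 : Q := sm gd N2899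
def N4192 : Q := sm gg N2899
def N4193 : Q := sm gh N2899
def N4194 : Q := sm gj N2900
def N4195 : Q := sm gh N2900
def N4196 : Q := sm gd N2901
def N4197 : Q := sm ge N2902
def N4198 : Q := sm gf N2903
def N4199 : Q := sm gj N2903
def N4200 : Q := sm gh N2903
def N4201 : Q := sm gd N2904
def N4202 : Q := sm gh N2905
def N4203 : Q := sm gj N2907
def N4204 : Q := sm gh N2907
def N4205 : Q := sm gh N2908
def N4206 : Q := sm gd N2909
def N4207 : Q := sm gc N2910
def N4208 : Q := sm ge N2912
def N4209 : Q := sm gg N2912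
def N4210 : Q := sm gd N2913
def N4211 : Q := sm gg N2913
def N4212 : Q := sm gj N2914
def N4213 : Q := sm gf N2915
def N4214 : Q := sm gj N2915
def N4215 : Q := sm gg N2917
def N4216 : Q := sm gh N2917
def N4217 : Q := sm gf N2918
def N4218 : Q := sm gj N2918
def N4219 : Q := sm gj N2920
def N4220 : Q := sm gg N2922
def N4221 : Q := sm gb N2923
def N4222 : Q := sm gf N2923
def N4223 : Q := sm gh N2923
def N4224 : Q := sm ge N2924
def N4225 : Q := sm gg N2924
def N4226 : Q := sm gh N2924
def N4228 : Q := sm gj N2926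
def N4229 : Q := sm ge N2927
def N4230 : Q := sm gg N2927
def N4231 : Q := sm gh N2927
def N4232 : Q := sm gd N2928
def N4233 : Q := sm gi N2928
def N4234 : Q := sm gg N2929
def N4235 : Q := sm gh N2929
def N4236 : Q := sm gj N2930
def N4237 : Q := sm gh N2930
def N4239 : Q := sm gf N2934
def N4240 : Q := sm gj N2934
def N4241 : Q := sm gh N2934
def N4242 : Q := sm gd N2935
def N4243 : Q := sm gi N2935
def N4244 : Q := sm gh N2936
def N4245 : Q := sm gi N2937
def N4246 : Q := sm gf N2939
def N4247 : Q := sm gh N2939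
def N4248 : Q := sm ge N2940
def N4249 : Q := sm gg N2940
def N4250 : Q := sm gh N2940
def N4251 : Q := sm gd N2941
def N4253 : Q := sm gg N2942
def N4254 : Q := sm gh N2942
def N4255 : Q := sm gj N2943
def N4256 : Q := sm gh N2943
def N4258 : Q := sm gd N2947
def N4259 : Q := sm gg N2947
def N4260 : Q := sm gh N2947
def N4261 : Q := sm gj N2948
def N4262 : Q := sm gh N2948
def N4263 : Q := sm gd N2949
def N4265 : Q := sm ge N2950
def N4267 : Q := sm gj N2952
def N4268 : Q := sm gh N2952
def N4269 : Q := sm gd N2953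
def N4270 : Q := sm gi N2953
def N4271 : Q := sm gh N2954
def N4272 : Q := sm gi N2955
def N4273 : Q := sm gh N2957
def N4274 : Q := sm gd N2958
def N4275 : Q := sm gi N2958
def N4276 : Q := sm gc N2959
def N4277 : Q := sm gi N2959
def N4278 : Q := sm gi N2961
def N4279 : Q := sm gg N2963
def N4280 : Q := sm gh N2963
def N4281 : Q := sm gd N2964
def N4282 : Q := sm gi N2964
def N4283 : Q := sm gj N2965
def N4284 : Q := sm gh N2965
def N4285 : Q := sm gd N2966
def N4287 : Q := sm ge N2967
def N4288 : Q := sm gi N2967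
def N4289 : Q := sm gh N2969
def N4290 : Q := sm gi N2970
def N4291 : Q := sm gh N2972
def N4296 : Q := sm gf N2976
def N4297 : Q := sm gi N2976
def N4299 : Q := sm gi N2978
def N4300 : Q := sm gf N2981
def N4301 : Q := sm gh N2981
def N4302 : Q := sm ge N2982
def N4303 : Q := sm gg N2982
def N4304 : Q := sm gh N2982
def N4305 : Q := sm gd N2983
def N4306 : Q := sm gi N2983
def N4307 : Q := sm gg N2984
def N4308 : Q := sm gh N2984
def N4309 : Q := sm gh N2985
def N4310 : Q := sm gi N2986
def N4311 : Q := sm gd N2988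
def N4312 : Q := sm gg N2988
def N4313 : Q := sm gh N2988
def N4314 : Q := sm gh N2989
def N4315 : Q := sm gd N2990
def N4316 : Q := sm gi N2990
def N4317 : Q := sm ge N2991
def N4319 : Q := sm gf N2993
def N4320 : Q := sm gh N2993
def N4321 : Q := sm gd N2994
def N4324 : Q := sm gh N2997
def N4325 : Q := sm gd N2998
def N4326 : Q := sm gi N2998
def N4327 : Q := sm gc N2999
def N4328 : Q := sm gi N2999
def N4329 : Q := sm ge N3002
def N4330 : Q := sm gh N3002
def N4331 : Q := sm gd N3003
def N4333 : Q := sm gd N3004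
def N4334 : Q := sm gh N3004
def N4335 : Q := sm gd N3005
def N4337 : Q := sm ge N3006
def N4338 : Q := sm gi N3006
def N4339 : Q := sm gd N3008
def N4341 : Q := sm gh N3010
def N4342 : Q := sm gd N3011
def N4344 : Q := sm ge N3012
def N4346 : Q := sm gf N3014
def N4347 : Q := sm gi N3014
def N4349 : Q := sm gc N3016
def N4351 : Q := sm gb N3018
def N4352 : Q := sm gi N3018
def N4353 : Q := sm gh N3019
def N4354 : Q := sm gc N3020
def N4355 : Q := sm ge N3020
def N4357 : Q := sm gf N3022
def N4359 : Q := sm gh N3023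
def N4360 : Q := sm gg N3024
def N4362 : Q := sm gh N3025
def N4363 : Q := sm ge N3027
def N4364 : Q := sm gg N3027
def N4365 : Q := sm gh N3027
def N4366 : Q := sm gd N3028
def N4368 : Q := sm gd N3029
def N4369 : Q := sm gg N3029
def N4370 : Q := sm gh N3029
def N4371 : Q := sm gh N3030
def N4372 : Q := sm gd N3031
def N4373 : Q := sm gi N3031
def N4374 : Q := sm ge N3032
def N4375 : Q := sm gi N3032
def N4376 : Q := sm gf N3034
def N4377 : Q := sm gh N3034
def N4378 : Q := sm gd N3035
def N4379 : Q := sm gi N3035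
def N4380 : Q := sm gi N3036
def N4381 : Q := sm gg N3038
def N4382 : Q := sm gh N3038
def N4383 : Q := sm gf N3039
def N4384 : Q := sm gh N3039
def N4385 : Q := sm gd N3040
def N4387 : Q := sm gd N3041
def N4389 : Q := sm ge N3042
def N4391 : Q := sm gf N3044
def N4392 : Q := sm gi N3044
def N4394 : Q := sm gh N3046
def N4395 : Q := sm gd N3047
def N4397 : Q := sm gc N3048
def N4399 : Q := sm gd N3051
def N4400 : Q := sm gi N3051
def N4401 : Q := sm gc N3052
def N4402 : Q := sm gi N3052
def N4403 : Q := sm gb N3054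
def N4404 : Q := sm gi N3054
def N4406 : Q := sm gd N3056
def N4407 : Q := sm gh N3056
def N4408 : Q := sm gd N3057
def N4410 : Q := sm gc N3058
def N4411 : Q := sm ge N3058
def N4413 : Q := sm gh N3060
def N4414 : Q := sm gd N3061
def N4416 : Q := sm ge N3062
def N4418 : Q := sm gf N3064
def N4419 : Q := sm gi N3064
def N4421 : Q := sm gc N3066
def N4423 : Q := sm gd N3068
def N4425 : Q := sm gc N3069
def N4426 : Q := sm ge N3069
def N4428 : Q := sm gf N3071
def N4429 : Q := sm gi N3071
def N4431 : Q := sm gg N3073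
def N4432 : Q := sm gi N3073
def N4433 : Q := sm gh N3074
def N4434 : Q := sm gb N3076
def N4435 : Q := sm gi N3076
def N4437 : Q := sm ga N3078
def N4438 : Q := sm gi N3078
def N4440 : Q := sm ge N3081
def N4442 : Q := sm gf N3082
def N4445 : Q := sm gg N3084
def N4449 : Q := sm gi N3087
def N4450 : Q := sm gh N3088
def N4451 : Q := sm gd N3089
def N4452 : Q := sm gi N3090
def N4453 : Q := sm gh N3091
def N4454 : Q := sm gd N3092
def N4455 : Q := sm gc N3093
def N4456 : Q := sm ge N3093
def N4457 : Q := sm gd N3094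
def N4458 : Q := sm gc N3095
def N4459 : Q := sm ge N3095
def N4460 : Q := sm gb N3096
def N4461 : Q := sm ge N3096
def N4462 : Q := sm gf N3097
def N4463 : Q := sm gb N3098
def N4464 : Q := sm ge N3098
def N4465 : Q := sm gf N3099
def N4466 : Q := sm ga N3100
def N4467 : Q := sm ge N3100
def N4468 : Q := sm gd N3101
def N4469 : Q := sm gf N3101
def N4470 : Q := sm gg N3102
def N4471 : Q := sm ge N3103
def N4472 : Q := sm gd N3104
def N4473 : Q := sm gf N3104
def N4474 : Q := sm gf N3105
def N4475 : Q := sm gh N3105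
def N4476 : Q := sm gg N3106
def N4477 : Q := sm gj N3107
def N4478 : Q := sm gd N3108
def N4479 : Q := sm gc N3109
def N4480 : Q := sm ge N3109
def N4481 : Q := sm gc N3110
def N4482 : Q := sm ge N3110
def N4483 : Q := sm gb N3111
def N4484 : Q := sm ge N3111
def N4485 : Q := sm gf N3112
def N4486 : Q := sm gb N3113
def N4487 : Q := sm ge N3113
def N4488 : Q := sm gf N3114
def N4489 : Q := sm ga N3115
def N4490 : Q := sm ge N3115
def N4491 : Q := sm gd N3116
def N4492 : Q := sm gf N3116
def N4493 : Q := sm gg N3117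
def N4494 : Q := sm gb N3118
def N4495 : Q := sm ge N3118
def N4496 : Q := sm gf N3119
def N4497 : Q := sm ga N3120
def N4498 : Q := sm ge N3120
def N4499 : Q := sm gd N3121
def N4500 : Q := sm gf N3121
def N4501 : Q := sm gg N3122
def N4502 : Q := sm ga N3123
def N4503 : Q := sm ge N3123
def N4504 : Q := sm gd N3124
def N4505 : Q := sm gf N3124
def N4506 : Q := sm gg N3125
def N4507 : Q := sm ge N3126
def N4508 : Q := sm gd N3127
def N4509 : Q := sm gf N3127
def N4510 : Q := sm gf N3128
def N4511 : Q := sm gh N3128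
def N4512 : Q := sm gg N3129
def N4513 : Q := sm gj N3130
def N4514 : Q := sm ge N3131
def N4515 : Q := sm gd N3132
def N4516 : Q := sm gf N3132
def N4517 : Q := sm gf N3133
def N4518 : Q := sm gh N3133
def N4519 : Q := sm gg N3134
def N4520 : Q := sm gj N3135
def N4521 : Q := sm gd N3136
def N4522 : Q := sm gf N3136
def N4523 : Q := sm gc N3137
def N4524 : Q := sm gf N3137
def N4525 : Q := sm gh N3137
def N4526 : Q := sm gg N3138
def N4527 : Q := sm ge N3139
def N4528 : Q := sm gg N3139
def N4529 : Q := sm gh N3139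
def N4530 : Q := sm gi N3140
def N4531 : Q := sm gj N3141
def N4532 : Q := sm gb N3143
def N4533 : Q := sm ge N3143
def N4534 : Q := sm gf N3144
def N4535 : Q := sm ga N3145
def N4536 : Q := sm ge N3145
def N4537 : Q := sm gd N3146
def N4538 : Q := sm gf N3146
def N4539 : Q := sm gg N3147
def N4540 : Q := sm ge N3148
def N4541 : Q := sm gd N3149
def N4542 : Q := sm gf N3149
def N4543 : Q := sm gf N3150
def N4544 : Q := sm gh N3150
def N4545 : Q := sm gg N3151
def N4546 : Q := sm gj N3152
def N4547 : Q := sm ga N3153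
def N4548 : Q := sm ge N3153
def N4549 : Q := sm gd N3154
def N4550 : Q := sm gf N3154
def N4551 : Q := sm gg N3155
def N4552 : Q := sm ge N3156
def N4553 : Q := sm gd N3157
def N4554 : Q := sm gf N3157
def N4555 : Q := sm gf N3158
def N4556 : Q := sm gh N3158
def N4557 : Q := sm gg N3159
def N4558 : Q := sm gj N3160
def N4559 : Q := sm gd N3161
def N4560 : Q := sm gf N3161
def N4561 : Q := sm gc N3162
def N4562 : Q := sm gf N3162
def N4563 : Q := sm gh N3162
def N4564 : Q := sm gg N3163
def N4565 : Q := sm ge N3164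
def N4566 : Q := sm gg N3164
def N4567 : Q := sm gh N3164
def N4568 : Q := sm gi N3165
def N4569 : Q := sm gj N3166
def N4570 : Q := sm ge N3168
def N4571 : Q := sm gd N3169
def N4572 : Q := sm gf N3169
def N4573 : Q := sm gf N3170
def N4574 : Q := sm gh N3170
def N4575 : Q := sm gg N3171
def N4576 : Q := sm gj N3172
def N4577 : Q := sm gd N3173
def N4578 : Q := sm gf N3173
def N4579 : Q := sm gc N3174
def N4580 : Q := sm gf N3174
def N4581 : Q := sm gh N3174
def N4582 : Q := sm gg N3175
def N4583 : Q := sm ge N3176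
def N4584 : Q := sm gg N3176
def N4585 : Q := sm gh N3176
def N4586 : Q := sm gi N3177
def N4587 : Q := sm gj N3178
def N4588 : Q := sm gc N3180
def N4589 : Q := sm gf N3180
def N4590 : Q := sm gh N3180
def N4591 : Q := sm gg N3181
def N4592 : Q := sm gf N3182
def N4593 : Q := sm gh N3182
def N4594 : Q := sm ge N3183
def N4595 : Q := sm gg N3183
def N4596 : Q := sm gh N3183
def N4597 : Q := sm gi N3184
def N4598 : Q := sm gj N3185
def N4599 : Q := sm gg N3186
def N4600 : Q := sm gh N3186
def N4601 : Q := sm gj N3187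
def N4602 : Q := sm gh N3187
def N4603 : Q := sm gi N3188
def N4604 : Q := sm ge N3191
def N4605 : Q := sm gd N3192
def N4606 : Q := sm gf N3192
def N4607 : Q := sm gf N3193
def N4608 : Q := sm gh N3193
def N4609 : Q := sm gg N3194
def N4610 : Q := sm gj N3195
def N4611 : Q := sm gd N3196
def N4612 : Q := sm gf N3196
def N4613 : Q := sm gc N3197
def N4614 : Q := sm gf N3197
def N4615 : Q := sm gh N3197
def N4616 : Q := sm gg N3198
def N4617 : Q := sm ge N3199
def N4618 : Q := sm gg N3199
def N4619 : Q := sm gh N3199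
def N4620 : Q := sm gi N3200
def N4621 : Q := sm gj N3201
def N4622 : Q := sm gc N3203
def N4623 : Q := sm gf N3203
def N4624 : Q := sm gh N3203
def N4625 : Q := sm gg N3204
def N4626 : Q := sm gf N3205
def N4627 : Q := sm gh N3205
def N4628 : Q := sm ge N3206
def N4629 : Q := sm gg N3206
def N4630 : Q := sm gh N3206
def N4631 : Q := sm gi N3207
def N4632 : Q := sm gj N3208
def N4633 : Q := sm gg N3209
def N4634 : Q := sm gh N3209
def N4635 : Q := sm gj N3210
def N4636 : Q := sm gh N3210
def N4637 : Q := sm gi N3211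
def N4638 : Q := sm gb N3214
def N4639 : Q := sm gf N3214
def N4640 : Q := sm gh N3214
def N4641 : Q := sm ge N3215
def N4642 : Q := sm gg N3215
def N4643 : Q := sm gh N3215
def N4644 : Q := sm gi N3216
def N4645 : Q := sm gj N3217
def N4646 : Q := sm ge N3218
def N4647 : Q := sm gg N3218
def N4648 : Q := sm gh N3218
def N4649 : Q := sm gd N3219
def N4650 : Q := sm gi N3219
def N4651 : Q := sm gg N3220
def N4652 : Q := sm gh N3220
def N4653 : Q := sm gj N3221
def N4654 : Q := sm gh N3221
def N4655 : Q := sm gi N3222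
def N4656 : Q := sm gf N3225
def N4657 : Q := sm gj N3225
def N4658 : Q := sm gh N3225
def N4659 : Q := sm gd N3226
def N4660 : Q := sm gi N3226
def N4661 : Q := sm gh N3227
def N4662 : Q := sm gi N3228
def N4663 : Q := sm gi N3230
def N4664 : Q := sm gh N3231
def N4665 : Q := sm gd N3232
def N4666 : Q := sm gc N3233
def N4667 : Q := sm ge N3233
def N4668 : Q := sm gb N3234
def N4669 : Q := sm ge N3234
def N4670 : Q := sm gf N3235
def N4671 : Q := sm gd N3236
def N4672 : Q := sm gc N3237
def N4673 : Q := sm ge N3237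
def N4674 : Q := sm gb N3238
def N4675 : Q := sm ge N3238
def N4676 : Q := sm gf N3239
def N4677 : Q := sm ga N3240
def N4678 : Q := sm ge N3240
def N4679 : Q := sm gd N3241
def N4680 : Q := sm gf N3241
def N4681 : Q := sm gg N3242
def N4682 : Q := sm gc N3243
def N4683 : Q := sm ge N3243
def N4684 : Q := sm gb N3244
def N4685 : Q := sm ge N3244
def N4686 : Q := sm gf N3245
def N4687 : Q := sm ga N3246
def N4688 : Q := sm ge N3246
def N4689 : Q := sm gd N3247
def N4690 : Q := sm gf N3247
def N4691 : Q := sm gg N3248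
def N4692 : Q := sm ge N3249
def N4693 : Q := sm gd N3250
def N4694 : Q := sm gf N3250
def N4695 : Q := sm gf N3251
def N4696 : Q := sm gh N3251
def N4697 : Q := sm gg N3252
def N4698 : Q := sm gj N3253
def N4699 : Q := sm gb N3254
def N4700 : Q := sm ge N3254
def N4701 : Q := sm gf N3255
def N4702 : Q := sm ga N3256
def N4703 : Q := sm ge N3256
def N4704 : Q := sm gd N3257
def N4705 : Q := sm gf N3257
def N4706 : Q := sm gg N3258
def N4707 : Q := sm ge N3259
def N4708 : Q := sm gd N3260
def N4709 : Q := sm gf N3260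
def N4710 : Q := sm gf N3261
def N4711 : Q := sm gh N3261
def N4712 : Q := sm gg N3262
def N4713 : Q := sm gj N3263
def N4714 : Q := sm ga N3264
def N4715 : Q := sm ge N3264
def N4716 : Q := sm gd N3265
def N4717 : Q := sm gf N3265
def N4718 : Q := sm gg N3266
def N4719 : Q := sm ge N3267
def N4720 : Q := sm gd N3268
def N4721 : Q := sm gf N3268
def N4722 : Q := sm gf N3269
def N4723 : Q := sm gh N3269
def N4724 : Q := sm gg N3270
def N4725 : Q := sm gj N3271
def N4726 : Q := sm gd N3272
def N4727 : Q := sm gf N3272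
def N4728 : Q := sm gc N3273
def N4729 : Q := sm gf N3273
def N4730 : Q := sm gh N3273
def N4731 : Q := sm gg N3274
def N4732 : Q := sm ge N3275
def N4733 : Q := sm gg N3275
def N4734 : Q := sm gh N3275
def N4735 : Q := sm gi N3276
def N4736 : Q := sm gj N3277
def N4737 : Q := sm ge N3279
def N4738 : Q := sm gd N3280
def N4739 : Q := sm gf N3280
def N4740 : Q := sm gf N3281
def N4741 : Q := sm gh N3281
def N4742 : Q := sm gg N3282
def N4743 : Q := sm gj N3283
def N4744 : Q := sm gd N3284
def N4745 : Q := sm gf N3284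
def N4746 : Q := sm gc N3285
def N4747 : Q := sm gf N3285
def N4748 : Q := sm gh N3285
def N4749 : Q := sm gg N3286
def N4750 : Q := sm ge N3287
def N4751 : Q := sm gg N3287
def N4752 : Q := sm gh N3287
def N4753 : Q := sm gi N3288
def N4754 : Q := sm gj N3289
def N4755 : Q := sm gc N3291
def N4756 : Q := sm gf N3291
def N4757 : Q := sm gh N3291
def N4758 : Q := sm gg N3292
def N4759 : Q := sm gf N3293
def N4760 : Q := sm gh N3293
def N4761 : Q := sm ge N3294
def N4762 : Q := sm gg N3294
def N4763 : Q := sm gh N3294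
def N4764 : Q := sm gi N3295
def N4765 : Q := sm gj N3296
def N4766 : Q := sm gg N3297
def N4767 : Q := sm gh N3297
def N4768 : Q := sm gj N3298
def N4769 : Q := sm gh N3298
def N4770 : Q := sm gi N3299
def N4771 : Q := sm ge N3302
def N4772 : Q := sm gd N3303
def N4773 : Q := sm gf N3303
def N4774 : Q := sm gf N3304
def N4775 : Q := sm gh N3304
def N4776 : Q := sm gg N3305
def N4777 : Q := sm gj N3306
def N4778 : Q := sm gd N3307
def N4779 : Q := sm gf N3307
def N4780 : Q := sm gc N3308
def N4781 : Q := sm gf N3308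
def N4782 : Q := sm gh N3308
def N4783 : Q := sm gg N3309
def N4784 : Q := sm ge N3310
def N4785 : Q := sm gg N3310
def N4786 : Q := sm gh N3310
def N4787 : Q := sm gi N3311
def N4788 : Q := sm gj N3312
def N4789 : Q := sm gd N3314
def N4790 : Q := sm gf N3314
def N4791 : Q := sm gc N3315
def N4792 : Q := sm gf N3315
def N4793 : Q := sm gh N3315
def N4794 : Q := sm gg N3316
def N4795 : Q := sm ge N3317
def N4796 : Q := sm gg N3317
def N4797 : Q := sm gh N3317
def N4798 : Q := sm gi N3318
def N4799 : Q := sm gj N3319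
def N4800 : Q := sm gc N3321
def N4801 : Q := sm gf N3321
def N4802 : Q := sm gh N3321
def N4803 : Q := sm gg N3322
def N4804 : Q := sm gf N3323
def N4805 : Q := sm gh N3323
def N4806 : Q := sm ge N3324
def N4807 : Q := sm gg N3324
def N4808 : Q := sm gh N3324
def N4809 : Q := sm gi N3325
def N4810 : Q := sm gj N3326
def N4811 : Q := sm gg N3327
def N4812 : Q := sm gh N3327
def N4813 : Q := sm gj N3328
def N4814 : Q := sm gh N3328
def N4815 : Q := sm gi N3329
def N4816 : Q := sm gc N3332
def N4817 : Q := sm gf N3332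
def N4818 : Q := sm gh N3332
def N4819 : Q := sm gg N3333
def N4820 : Q := sm gf N3334
def N4821 : Q := sm gh N3334
def N4822 : Q := sm ge N3335
def N4823 : Q := sm gg N3335
def N4824 : Q := sm gh N3335
def N4825 : Q := sm gi N3336
def N4826 : Q := sm gj N3337
def N4827 : Q := sm gg N3338
def N4828 : Q := sm gh N3338
def N4829 : Q := sm gj N3339
def N4830 : Q := sm gh N3339
def N4831 : Q := sm gi N3340
def N4832 : Q := sm gb N3343
def N4833 : Q := sm gf N3343
def N4834 : Q := sm gh N3343
def N4835 : Q := sm ge N3344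
def N4836 : Q := sm gg N3344
def N4837 : Q := sm gh N3344
def N4838 : Q := sm gi N3345
def N4839 : Q := sm gj N3346
def N4840 : Q := sm ge N3347
def N4841 : Q := sm gg N3347
def N4842 : Q := sm gh N3347
def N4843 : Q := sm gd N3348
def N4844 : Q := sm gi N3348
def N4845 : Q := sm gg N3349
def N4846 : Q := sm gh N3349
def N4847 : Q := sm gj N3350
def N4848 : Q := sm gh N3350
def N4849 : Q := sm gi N3351
def N4850 : Q := sm gf N3354
def N4851 : Q := sm gj N3354
def N4852 : Q := sm gh N3354
def N4853 : Q := sm gd N3355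
def N4854 : Q := sm gi N3355
def N4855 : Q := sm gh N3356
def N4856 : Q := sm gi N3357
def N4857 : Q := sm gb N3359
def N4858 : Q := sm gf N3359
def N4859 : Q := sm gh N3359
def N4860 : Q := sm ge N3360
def N4861 : Q := sm gg N3360
def N4862 : Q := sm gh N3360
def N4864 : Q := sm gj N3362
def N4865 : Q := sm ge N3363
def N4866 : Q := sm gg N3363
def N4867 : Q := sm gh N3363
def N4868 : Q := sm gd N3364
def N4870 : Q := sm gg N3365
def N4871 : Q := sm gh N3365
def N4872 : Q := sm gj N3366
def N4873 : Q := sm gh N3366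
def N4874 : Q := sm gi N3367
def N4875 : Q := sm gf N3370
def N4876 : Q := sm gj N3370
def N4877 : Q := sm gh N3370
def N4878 : Q := sm gd N3371
def N4879 : Q := sm gi N3371
def N4880 : Q := sm gh N3372
def N4881 : Q := sm gi N3373
def N4882 : Q := sm gf N3375
def N4883 : Q := sm gh N3375
def N4884 : Q := sm ge N3376
def N4885 : Q := sm gg N3376
def N4886 : Q := sm gh N3376
def N4888 : Q := sm gg N3378
def N4889 : Q := sm gh N3378
def N4890 : Q := sm gj N3379
def N4891 : Q := sm gh N3379
def N4892 : Q := sm gi N3380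
def N4893 : Q := sm gd N3383
def N4894 : Q := sm gg N3383
def N4895 : Q := sm gh N3383
def N4896 : Q := sm gj N3384
def N4897 : Q := sm gh N3384
def N4898 : Q := sm gi N3385
def N4899 : Q := sm gf N3387
def N4900 : Q := sm gj N3387
def N4901 : Q := sm gh N3387
def N4902 : Q := sm gd N3388
def N4903 : Q := sm gi N3388
def N4904 : Q := sm gh N3389
def N4905 : Q := sm gi N3390
def N4906 : Q := sm gj N3392
def N4907 : Q := sm gh N3392
def N4908 : Q := sm gh N3393
def N4909 : Q := sm gd N3394
def N4910 : Q := sm gi N3394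
def N4911 : Q := sm gc N3395
def N4912 : Q := sm gi N3395
def N4913 : Q := sm gi N3397
def N4914 : Q := sm gc N3399
def N4915 : Q := sm gf N3399
def N4916 : Q := sm gh N3399
def N4917 : Q := sm gg N3400
def N4918 : Q := sm gf N3401
def N4919 : Q := sm gh N3401
def N4920 : Q := sm ge N3402
def N4921 : Q := sm gg N3402
def N4922 : Q := sm gh N3402
def N4923 : Q := sm gi N3403
def N4924 : Q := sm gj N3404
def N4925 : Q := sm gg N3405
def N4926 : Q := sm gh N3405
def N4927 : Q := sm gj N3406
def N4928 : Q := sm gh N3406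
def N4929 : Q := sm gi N3407
def N4930 : Q := sm gb N3410
def N4931 : Q := sm gf N3410
def N4932 : Q := sm gh N3410
def N4933 : Q := sm ge N3411
def N4934 : Q := sm gg N3411
def N4935 : Q := sm gh N3411
def N4936 : Q := sm gi N3412
def N4937 : Q := sm gj N3413
def N4938 : Q := sm ge N3414
def N4939 : Q := sm gg N3414
def N4940 : Q := sm gh N3414
def N4941 : Q := sm gd N3415
def N4942 : Q := sm gi N3415
def N4943 : Q := sm gg N3416
def N4944 : Q := sm gh N3416
def N4945 : Q := sm gj N3417
def N4946 : Q := sm gh N3417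
def N4947 : Q := sm gi N3418
def N4948 : Q := sm gf N3421
def N4949 : Q := sm gj N3421
def N4950 : Q := sm gh N3421
def N4951 : Q := sm gd N3422
def N4952 : Q := sm gi N3422
def N4953 : Q := sm gh N3423
def N4954 : Q := sm gi N3424
def N4955 : Q := sm gf N3426
def N4956 : Q := sm gh N3426
def N4957 : Q := sm ge N3427
def N4958 : Q := sm gg N3427
def N4959 : Q := sm gh N3427
def N4960 : Q := sm gd N3428
def N4961 : Q := sm gi N3428
def N4962 : Q := sm gg N3429
def N4963 : Q := sm gh N3429
def N4964 : Q := sm gj N3430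
def N4965 : Q := sm gh N3430
def N4966 : Q := sm gi N3431
def N4967 : Q := sm gg N3434
def N4968 : Q := sm gh N3434
def N4969 : Q := sm gj N3435
def N4970 : Q := sm gh N3435
def N4971 : Q := sm gd N3436
def N4972 : Q := sm gi N3436
def N4973 : Q := sm ge N3437
def N4974 : Q := sm gi N3437
def N4975 : Q := sm gf N3439
def N4976 : Q := sm gj N3439
def N4977 : Q := sm gh N3439
def N4978 : Q := sm gd N3440
def N4979 : Q := sm gi N3440
def N4980 : Q := sm gh N3441
def N4981 : Q := sm gi N3442
def N4982 : Q := sm gj N3444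
def N4983 : Q := sm gh N3444
def N4984 : Q := sm gh N3445
def N4985 : Q := sm gd N3446
def N4986 : Q := sm gi N3446
def N4987 : Q := sm gc N3447
def N4988 : Q := sm gi N3447
def N4989 : Q := sm gi N3449
def N4990 : Q := sm gf N3451
def N4991 : Q := sm gj N3451
def N4992 : Q := sm gh N3451
def N4993 : Q := sm gd N3452
def N4994 : Q := sm gi N3452
def N4995 : Q := sm gh N3453
def N4996 : Q := sm gi N3454
def N4997 : Q := sm gj N3456
def N4998 : Q := sm gh N3456
def N4999 : Q := sm gh N3457
def N5000 : Q := sm gd N3458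
def N5001 : Q := sm gi N3458
def N5002 : Q := sm gc N3459
def N5003 : Q := sm gi N3459
def N5004 : Q := sm gi N3461
def N5005 : Q := sm gg N3463
def N5006 : Q := sm gh N3463
def N5007 : Q := sm gd N3464
def N5008 : Q := sm gi N3464
def N5009 : Q := sm gd N3465
def N5010 : Q := sm gi N3465
def N5011 : Q := sm gc N3466
def N5012 : Q := sm gi N3466
def N5013 : Q := sm gb N3468
def N5014 : Q := sm gi N3468
def N5015 : Q := sm gh N3469
def N5016 : Q := sm gh N3471
def N5017 : Q := sm gd N3472
def N5019 : Q := sm gc N3473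
def N5020 : Q := sm ge N3473
def N5021 : Q := sm gi N3473
def N5022 : Q := sm gc N3475
def N5024 : Q := sm gb N3477
def N5025 : Q := sm gi N3477
def N5027 : Q := sm ga N3479
def N5028 : Q := sm gi N3479
def N5029 : Q := sm gh N3480
def N5030 : Q := sm gf N3482
def N5031 : Q := sm gh N3482
def N5032 : Q := sm gi N3482
def N5033 : Q := sm gi N3483
def N5034 : Q := sm gh N3484
def N5035 : Q := sm gd N3485
def N5036 : Q := sm gh N3486
def N5037 : Q := sm gd N3487
def N5038 : Q := sm gc N3488
def N5039 : Q := sm ge N3488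
def N5040 : Q := sm gb N3489
def N5041 : Q := sm ge N3489
def N5042 : Q := sm gf N3490
def N5043 : Q := sm ga N3491
def N5044 : Q := sm ge N3491
def N5045 : Q := sm gd N3492
def N5046 : Q := sm gf N3492
def N5047 : Q := sm gg N3493
def N5048 : Q := sm gi N3494
def N5049 : Q := sm gh N3495
def N5050 : Q := sm gd N3496
def N5051 : Q := sm gc N3497
def N5052 : Q := sm ge N3497
def N5053 : Q := sm gc N3498
def N5054 : Q := sm ge N3498
def N5055 : Q := sm gb N3499
def N5056 : Q := sm ge N3499
def N5057 : Q := sm gf N3500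
def N5058 : Q := sm ga N3501
def N5059 : Q := sm ge N3501
def N5060 : Q := sm gd N3502
def N5061 : Q := sm gf N3502
def N5062 : Q := sm gg N3503
def N5063 : Q := sm ge N3504
def N5064 : Q := sm gd N3505
def N5065 : Q := sm gf N3505
def N5066 : Q := sm gf N3506
def N5067 : Q := sm gh N3506
def N5068 : Q := sm gg N3507
def N5069 : Q := sm gj N3508
def N5070 : Q := sm gh N3509
def N5071 : Q := sm gd N3510
def N5072 : Q := sm gc N3511
def N5074 : Q := sm gb N3512
def N5075 : Q := sm ge N3512
def N5077 : Q := sm gb N3514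
def N5078 : Q := sm ge N3514
def N5079 : Q := sm gf N3515
def N5080 : Q := sm ga N3516
def N5081 : Q := sm ge N3516
def N5082 : Q := sm gd N3517
def N5083 : Q := sm gf N3517
def N5084 : Q := sm gg N3518
def N5085 : Q := sm ge N3519
def N5086 : Q := sm gd N3520
def N5087 : Q := sm gf N3520
def N5088 : Q := sm gf N3521
def N5089 : Q := sm gh N3521
def N5090 : Q := sm gg N3522
def N5091 : Q := sm gj N3523
def N5092 : Q := sm gd N3524
def N5093 : Q := sm gf N3524
def N5094 : Q := sm gc N3525
def N5095 : Q := sm gf N3525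
def N5096 : Q := sm gh N3525
def N5097 : Q := sm gg N3526
def N5098 : Q := sm ge N3527
def N5099 : Q := sm gg N3527
def N5100 : Q := sm gh N3527
def N5101 : Q := sm gi N3528
def N5102 : Q := sm gj N3529
def N5103 : Q := sm gb N3531
def N5104 : Q := sm ge N3531
def N5105 : Q := sm gf N3532
def N5106 : Q := sm ga N3533
def N5107 : Q := sm ge N3533
def N5108 : Q := sm gd N3534
def N5109 : Q := sm gf N3534
def N5110 : Q := sm gg N3535
def N5111 : Q := sm ge N3536
def N5112 : Q := sm gd N3537
def N5113 : Q := sm gf N3537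
def N5114 : Q := sm gf N3538
def N5115 : Q := sm gh N3538
def N5116 : Q := sm gg N3539
def N5117 : Q := sm gj N3540
def N5118 : Q := sm gd N3541
def N5119 : Q := sm gf N3541
def N5120 : Q := sm gc N3542
def N5121 : Q := sm gf N3542
def N5122 : Q := sm gh N3542
def N5123 : Q := sm gg N3543
def N5124 : Q := sm ge N3544
def N5125 : Q := sm gg N3544
def N5126 : Q := sm gh N3544
def N5127 : Q := sm gi N3545
def N5128 : Q := sm gj N3546
def N5129 : Q := sm ga N3548
def N5130 : Q := sm ge N3548
def N5131 : Q := sm gd N3549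
def N5133 : Q := sm gg N3550
def N5134 : Q := sm ge N3551
def N5135 : Q := sm gd N3552
def N5136 : Q := sm gf N3552
def N5137 : Q := sm gf N3553
def N5138 : Q := sm gh N3553
def N5139 : Q := sm gg N3554
def N5140 : Q := sm gj N3555
def N5141 : Q := sm gd N3556
def N5142 : Q := sm gf N3556
def N5143 : Q := sm gc N3557
def N5144 : Q := sm gf N3557
def N5145 : Q := sm gh N3557
def N5146 : Q := sm gg N3558
def N5147 : Q := sm ge N3559
def N5148 : Q := sm gg N3559
def N5149 : Q := sm gh N3559
def N5150 : Q := sm gi N3560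
def N5151 : Q := sm gj N3561
def N5152 : Q := sm gc N3563
def N5153 : Q := sm gf N3563
def N5154 : Q := sm gh N3563
def N5155 : Q := sm gg N3564
def N5156 : Q := sm gf N3565
def N5157 : Q := sm gh N3565
def N5158 : Q := sm ge N3566
def N5159 : Q := sm gg N3566
def N5160 : Q := sm gh N3566
def N5161 : Q := sm gi N3567
def N5162 : Q := sm gj N3568
def N5163 : Q := sm gg N3569
def N5164 : Q := sm gh N3569
def N5165 : Q := sm gj N3570
def N5166 : Q := sm gh N3570
def N5167 : Q := sm gi N3571
def N5168 : Q := sm ge N3574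
def N5169 : Q := sm gd N3575
def N5170 : Q := sm gf N3575
def N5171 : Q := sm gf N3576
def N5172 : Q := sm gh N3576
def N5174 : Q := sm gj N3578
def N5175 : Q := sm gd N3579
def N5177 : Q := sm gc N3580
def N5178 : Q := sm gf N3580
def N5179 : Q := sm gh N3580
def N5180 : Q := sm gg N3581
def N5181 : Q := sm ge N3582
def N5182 : Q := sm gg N3582
def N5183 : Q := sm gh N3582
def N5185 : Q := sm gj N3584
def N5186 : Q := sm gc N3586
def N5187 : Q := sm gf N3586
def N5188 : Q := sm gh N3586
def N5189 : Q := sm gg N3587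
def N5190 : Q := sm gf N3588
def N5191 : Q := sm gh N3588
def N5192 : Q := sm ge N3589
def N5193 : Q := sm gg N3589
def N5194 : Q := sm gh N3589
def N5195 : Q := sm gi N3590
def N5196 : Q := sm gj N3591
def N5197 : Q := sm gg N3592
def N5198 : Q := sm gh N3592
def N5199 : Q := sm gj N3593
def N5200 : Q := sm gh N3593
def N5201 : Q := sm gi N3594
def N5202 : Q := sm gb N3597
def N5203 : Q := sm gf N3597
def N5204 : Q := sm gh N3597
def N5205 : Q := sm ge N3598
def N5206 : Q := sm gg N3598
def N5207 : Q := sm gh N3598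
def N5209 : Q := sm gj N3600
def N5210 : Q := sm ge N3601
def N5211 : Q := sm gg N3601
def N5212 : Q := sm gh N3601
def N5213 : Q := sm gd N3602
def N5214 : Q := sm gi N3602
def N5215 : Q := sm gg N3603
def N5216 : Q := sm gh N3603
def N5217 : Q := sm gj N3604
def N5218 : Q := sm gh N3604
def N5219 : Q := sm gi N3605
def N5220 : Q := sm gf N3608
def N5221 : Q := sm gj N3608
def N5222 : Q := sm gh N3608
def N5223 : Q := sm gd N3609
def N5224 : Q := sm gi N3609
def N5225 : Q := sm gh N3610
def N5226 : Q := sm gi N3611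
def N5227 : Q := sm gd N3613
def N5228 : Q := sm gf N3613
def N5229 : Q := sm gc N3614
def N5230 : Q := sm gf N3614
def N5231 : Q := sm gh N3614
def N5232 : Q := sm gg N3615
def N5233 : Q := sm ge N3616
def N5234 : Q := sm gg N3616
def N5235 : Q := sm gh N3616
def N5236 : Q := sm gi N3617
def N5237 : Q := sm gj N3618
def N5238 : Q := sm gc N3620
def N5239 : Q := sm gf N3620
def N5240 : Q := sm gh N3620
def N5241 : Q := sm gg N3621
def N5242 : Q := sm gf N3622
def N5243 : Q := sm gh N3622
def N5244 : Q := sm ge N3623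
def N5245 : Q := sm gg N3623
def N5246 : Q := sm gh N3623
def N5247 : Q := sm gi N3624
def N5248 : Q := sm gj N3625
def N5249 : Q := sm gg N3626
def N5250 : Q := sm gh N3626
def N5252 : Q := sm gh N3627
def N5253 : Q := sm gi N3628
def N5254 : Q := sm gc N3631
def N5255 : Q := sm gf N3631
def N5257 : Q := sm gg N3632
def N5258 : Q := sm gf N3633
def N5259 : Q := sm gh N3633
def N5260 : Q := sm ge N3634
def N5261 : Q := sm gg N3634
def N5262 : Q := sm gh N3634
def N5263 : Q := sm gi N3635
def N5264 : Q := sm gj N3636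
def N5265 : Q := sm gg N3637
def N5266 : Q := sm gh N3637
def N5267 : Q := sm gj N3638
def N5268 : Q := sm gh N3638
def N5269 : Q := sm gi N3639
def N5270 : Q := sm gb N3642
def N5271 : Q := sm gf N3642
def N5272 : Q := sm gh N3642
def N5273 : Q := sm ge N3643
def N5274 : Q := sm gg N3643
def N5275 : Q := sm gh N3643
def N5277 : Q := sm gj N3645
def N5278 : Q := sm ge N3646
def N5279 : Q := sm gg N3646
def N5280 : Q := sm gh N3646
def N5281 : Q := sm gd N3647
def N5282 : Q := sm gi N3647
def N5283 : Q := sm gg N3648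
def N5284 : Q := sm gh N3648
def N5285 : Q := sm gj N3649
def N5286 : Q := sm gh N3649
def N5287 : Q := sm gi N3650
def N5288 : Q := sm gf N3653
def N5289 : Q := sm gj N3653
def N5290 : Q := sm gh N3653
def N5291 : Q := sm gd N3654
def N5292 : Q := sm gi N3654
def N5293 : Q := sm gh N3655
def N5294 : Q := sm gi N3656
def N5295 : Q := sm gb N3658
def N5296 : Q := sm gf N3658
def N5297 : Q := sm gh N3658
def N5298 : Q := sm ge N3659
def N5299 : Q := sm gg N3659
def N5302 : Q := sm gj N3661
def N5303 : Q := sm ge N3662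
def N5304 : Q := sm gg N3662
def N5305 : Q := sm gh N3662
def N5306 : Q := sm gd N3663
def N5307 : Q := sm gi N3663
def N5308 : Q := sm gg N3664
def N5309 : Q := sm gh N3664
def N5310 : Q := sm gj N3665
def N5311 : Q := sm gh N3665
def N5312 : Q := sm gi N3666
def N5313 : Q := sm gf N3669
def N5314 : Q := sm gj N3669
def N5315 : Q := sm gh N3669
def N5316 : Q := sm gd N3670
def N5317 : Q := sm gi N3670
def N5318 : Q := sm gh N3671
def N5319 : Q := sm gi N3672
def N5320 : Q := sm gf N3674
def N5321 : Q := sm gh N3674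
def N5322 : Q := sm ge N3675
def N5323 : Q := sm gg N3675
def N5324 : Q := sm gh N3675
def N5325 : Q := sm gd N3676
def N5327 : Q := sm gg N3677
def N5328 : Q := sm gh N3677
def N5329 : Q := sm gj N3678
def N5330 : Q := sm gh N3678
def N5332 : Q := sm gd N3682
def N5333 : Q := sm gg N3682
def N5334 : Q := sm gh N3682
def N5335 : Q := sm gj N3683
def N5336 : Q := sm gh N3683
def N5337 : Q := sm gd N3684
def N5338 : Q := sm gi N3684
def N5339 : Q := sm ge N3685
def N5340 : Q := sm gi N3685
def N5341 : Q := sm gf N3687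
def N5342 : Q := sm gj N3687
def N5343 : Q := sm gh N3687
def N5344 : Q := sm gi N3688
def N5345 : Q := sm gh N3689
def N5346 : Q := sm gi N3690
def N5347 : Q := sm gj N3692
def N5348 : Q := sm gh N3692
def N5349 : Q := sm gh N3693
def N5350 : Q := sm gi N3694
def N5351 : Q := sm gi N3696
def N5352 : Q := sm gf N3698
def N5354 : Q := sm ge N3699
def N5355 : Q := sm gg N3699
def N5356 : Q := sm gh N3699
def N5357 : Q := sm gd N3700
def N5358 : Q := sm gg N3701
def N5359 : Q := sm gh N3701
def N5360 : Q := sm gj N3702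
def N5361 : Q := sm gh N3702
def N5362 : Q := sm gd N3705
def N5363 : Q := sm gg N3705
def N5364 : Q := sm gh N3705
def N5365 : Q := sm gj N3706
def N5366 : Q := sm gh N3706
def N5367 : Q := sm gd N3707
def N5368 : Q := sm ge N3708
def N5369 : Q := sm gf N3709
def N5370 : Q := sm gj N3709
def N5371 : Q := sm gh N3709
def N5372 : Q := sm gd N3710
def N5373 : Q := sm gh N3711
def N5374 : Q := sm gj N3713
def N5375 : Q := sm gh N3713
def N5376 : Q := sm gh N3714
def N5377 : Q := sm gd N3715
def N5378 : Q := sm gc N3716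
def N5379 : Q := sm ge N3718
def N5380 : Q := sm gg N3718
def N5381 : Q := sm gd N3719
def N5382 : Q := sm gg N3719
def N5383 : Q := sm gj N3720
def N5384 : Q := sm gf N3721
def N5385 : Q := sm gj N3721
def N5386 : Q := sm gg N3723
def N5387 : Q := sm gh N3723
def N5388 : Q := sm gf N3724
def N5389 : Q := sm gj N3724
def N5390 : Q := sm gj N3726
def N5391 : Q := sm gg N3728
def N5392 : Q := sm gb N3729
def N5393 : Q := sm gf N3729
def N5394 : Q := sm gh N3729
def N5395 : Q := sm ge N3730
def N5396 : Q := sm gg N3730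
def N5397 : Q := sm gh N3730
def N5399 : Q := sm gj N3732
def N5400 : Q := sm ge N3733
def N5401 : Q := sm gg N3733
def N5402 : Q := sm gh N3733
def N5403 : Q := sm gd N3734
def N5404 : Q := sm gi N3734
def N5405 : Q := sm gg N3735
def N5406 : Q := sm gh N3735
def N5407 : Q := sm gj N3736
def N5408 : Q := sm gh N3736
def N5409 : Q := sm gi N3737
def N5410 : Q := sm gf N3740
def N5411 : Q := sm gj N3740
def N5412 : Q := sm gh N3740
def N5413 : Q := sm gd N3741
def N5414 : Q := sm gi N3741
def N5415 : Q := sm gh N3742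
def N5416 : Q := sm gi N3743
def N5417 : Q := sm gf N3745
def N5418 : Q := sm gh N3745
def N5419 : Q := sm ge N3746
def N5420 : Q := sm gg N3746
def N5421 : Q := sm gh N3746
def N5422 : Q := sm gd N3747
def N5424 : Q := sm gg N3748
def N5425 : Q := sm gh N3748
def N5426 : Q := sm gj N3749
def N5427 : Q := sm gh N3749
def N5429 : Q := sm gd N3753
def N5430 : Q := sm gg N3753
def N5431 : Q := sm gh N3753
def N5432 : Q := sm gj N3754
def N5433 : Q := sm gh N3754
def N5434 : Q := sm gd N3755
def N5435 : Q := sm gi N3755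
def N5436 : Q := sm ge N3756
def N5438 : Q := sm gj N3758
def N5439 : Q := sm gh N3758
def N5440 : Q := sm gd N3759
def N5441 : Q := sm gi N3759
def N5442 : Q := sm gh N3760
def N5443 : Q := sm gi N3761
def N5444 : Q := sm gh N3763
def N5445 : Q := sm gd N3764
def N5446 : Q := sm gi N3764
def N5447 : Q := sm gc N3765
def N5448 : Q := sm gi N3765
def N5449 : Q := sm gi N3767
def N5450 : Q := sm gg N3769
def N5451 : Q := sm gh N3769
def N5452 : Q := sm gd N3770
def N5454 : Q := sm gj N3771
def N5455 : Q := sm gh N3771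
def N5456 : Q := sm gd N3772
def N5458 : Q := sm ge N3773
def N5459 : Q := sm gi N3773
def N5460 : Q := sm gh N3775
def N5462 : Q := sm gh N3778
def N5463 : Q := sm gd N3779
def N5464 : Q := sm gi N3779
def N5465 : Q := sm ge N3780
def N5467 : Q := sm gf N3782
def N5468 : Q := sm gi N3782
def N5470 : Q := sm gi N3784
def N5471 : Q := sm gf N3787
def N5472 : Q := sm gh N3787
def N5473 : Q := sm ge N3788
def N5474 : Q := sm gg N3788
def N5475 : Q := sm gh N3788
def N5476 : Q := sm gd N3789
def N5477 : Q := sm gi N3789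
def N5478 : Q := sm gg N3790
def N5479 : Q := sm gh N3790
def N5480 : Q := sm gh N3791
def N5482 : Q := sm gd N3794
def N5483 : Q := sm gg N3794
def N5484 : Q := sm gh N3794
def N5485 : Q := sm gh N3795
def N5486 : Q := sm gd N3796
def N5487 : Q := sm gi N3796
def N5488 : Q := sm ge N3797
def N5489 : Q := sm gi N3797
def N5490 : Q := sm gf N3799
def N5491 : Q := sm gh N3799
def N5492 : Q := sm gd N3800
def N5493 : Q := sm gi N3800
def N5494 : Q := sm gi N3801
def N5495 : Q := sm gh N3803
def N5496 : Q := sm gd N3804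
def N5497 : Q := sm gi N3804
def N5498 : Q := sm gc N3805
def N5499 : Q := sm gi N3805
def N5500 : Q := sm ge N3808
def N5501 : Q := sm gh N3808
def N5502 : Q := sm gd N3809
def N5504 : Q := sm gd N3810
def N5505 : Q := sm gh N3810
def N5506 : Q := sm gd N3811
def N5508 : Q := sm ge N3812
def N5509 : Q := sm gi N3812
def N5510 : Q := sm gd N3814
def N5511 : Q := sm gi N3814
def N5512 : Q := sm gh N3816
def N5513 : Q := sm gd N3817
def N5514 : Q := sm gi N3817
def N5515 : Q := sm ge N3818
def N5516 : Q := sm gi N3818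
def N5517 : Q := sm gf N3820
def N5518 : Q := sm gi N3820
def N5520 : Q := sm gc N3822
def N5521 : Q := sm gi N3822
def N5522 : Q := sm gb N3824
def N5523 : Q := sm gi N3824
def N5524 : Q := sm gh N3825
def N5525 : Q := sm gc N3826
def N5526 : Q := sm ge N3826
def N5528 : Q := sm gf N3828
def N5531 : Q := sm gg N3830
def N5532 : Q := sm gi N3830
def N5533 : Q := sm gh N3831
def N5534 : Q := sm gc N3833
def N5535 : Q := sm gf N3833
def N5536 : Q := sm gh N3833
def N5537 : Q := sm gi N3833
def N5538 : Q := sm gi N3834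
def N5539 : Q := sm gh N3835
def N5540 : Q := sm gd N3836
def N5541 : Q := sm ge N3837
def N5542 : Q := sm gh N3837
def N5543 : Q := sm gi N3837
def N5544 : Q := sm gi N3838
def N5545 : Q := sm gh N3839
def N5546 : Q := sm gh N3840
def N5547 : Q := sm gd N3841
def N5548 : Q := sm gc N3842
def N5549 : Q := sm ge N3842
def N5550 : Q := sm gd N3843
def N5551 : Q := sm gc N3844
def N5552 : Q := sm ge N3844
def N5553 : Q := sm gb N3845
def N5554 : Q := sm ge N3845
def N5555 : Q := sm gf N3846
def N5556 : Q := sm ga N3847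
def N5557 : Q := sm ge N3847
def N5558 : Q := sm gd N3848
def N5559 : Q := sm gf N3848
def N5560 : Q := sm gg N3849
def N5561 : Q := sm ge N3850
def N5562 : Q := sm gd N3851
def N5563 : Q := sm gf N3851
def N5564 : Q := sm gf N3852
def N5565 : Q := sm gh N3852
def N5566 : Q := sm gg N3853
def N5567 : Q := sm gj N3854
def N5568 : Q := sm gh N3855
def N5569 : Q := sm gi N3855
def N5570 : Q := sm gi N3856
def N5571 : Q := sm gh N3857
def N5572 : Q := sm gd N3858
def N5573 : Q := sm gc N3859
def N5574 : Q := sm ge N3859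
def N5575 : Q := sm gh N3860
def N5576 : Q := sm gd N3861
def N5577 : Q := sm gc N3862
def N5578 : Q := sm ge N3862
def N5579 : Q := sm gb N3863
def N5580 : Q := sm ge N3863
def N5581 : Q := sm gf N3864
def N5582 : Q := sm gb N3865
def N5583 : Q := sm ge N3865
def N5584 : Q := sm gf N3866
def N5585 : Q := sm ga N3867
def N5586 : Q := sm ge N3867
def N5587 : Q := sm gd N3868
def N5588 : Q := sm gf N3868
def N5589 : Q := sm gg N3869
def N5590 : Q := sm ge N3870
def N5591 : Q := sm gd N3871
def N5592 : Q := sm gf N3871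
def N5593 : Q := sm gf N3872
def N5594 : Q := sm gh N3872
def N5595 : Q := sm gg N3873
def N5596 : Q := sm gj N3874
def N5597 : Q := sm gd N3875
def N5598 : Q := sm gf N3875
def N5599 : Q := sm gc N3876
def N5600 : Q := sm gf N3876
def N5601 : Q := sm gh N3876
def N5602 : Q := sm gg N3877
def N5603 : Q := sm ge N3878
def N5604 : Q := sm gg N3878
def N5605 : Q := sm gh N3878
def N5606 : Q := sm gi N3879
def N5607 : Q := sm gj N3880
def N5608 : Q := sm gd N3882
def N5609 : Q := sm gi N3882
def N5610 : Q := sm gh N3883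
def N5611 : Q := sm gh N3884
def N5612 : Q := sm gd N3885
def N5613 : Q := sm gc N3886
def N5614 : Q := sm ge N3886
def N5615 : Q := sm gb N3887
def N5616 : Q := sm ge N3887
def N5618 : Q := sm gd N3889
def N5619 : Q := sm gc N3890
def N5620 : Q := sm ge N3890
def N5621 : Q := sm gb N3891
def N5622 : Q := sm ge N3891
def N5623 : Q := sm gf N3892
def N5624 : Q := sm ga N3893
def N5625 : Q := sm ge N3893
def N5626 : Q := sm gd N3894
def N5628 : Q := sm gg N3895
def N5629 : Q := sm ga N3896
def N5630 : Q := sm ge N3896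
def N5631 : Q := sm gd N3897
def N5632 : Q := sm gf N3897
def N5633 : Q := sm gg N3898
def N5634 : Q := sm ge N3899
def N5635 : Q := sm gd N3900
def N5636 : Q := sm gf N3900
def N5637 : Q := sm gf N3901
def N5639 : Q := sm gg N3902
def N5640 : Q := sm gj N3903
def N5641 : Q := sm gd N3904
def N5642 : Q := sm gf N3904
def N5643 : Q := sm gc N3905
def N5644 : Q := sm gf N3905
def N5646 : Q := sm gg N3906
def N5647 : Q := sm ge N3907
def N5648 : Q := sm gg N3907
def N5649 : Q := sm gh N3907
def N5650 : Q := sm gi N3908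
def N5651 : Q := sm gj N3909
def N5652 : Q := sm gc N3911
def N5653 : Q := sm gf N3911
def N5654 : Q := sm gh N3911
def N5655 : Q := sm gg N3912
def N5656 : Q := sm gf N3913
def N5657 : Q := sm gh N3913
def N5658 : Q := sm ge N3914
def N5659 : Q := sm gg N3914
def N5660 : Q := sm gh N3914
def N5661 : Q := sm gi N3915
def N5662 : Q := sm gj N3916
def N5663 : Q := sm gg N3917
def N5664 : Q := sm gh N3917
def N5665 : Q := sm gj N3918
def N5666 : Q := sm gh N3918
def N5667 : Q := sm gi N3919
def N5668 : Q := sm gb N3922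
def N5669 : Q := sm ge N3922
def N5671 : Q := sm ga N3924
def N5672 : Q := sm ge N3924
def N5673 : Q := sm gd N3925
def N5676 : Q := sm ge N3927
def N5677 : Q := sm gd N3928
def N5678 : Q := sm gf N3928
def N5679 : Q := sm gf N3929
def N5680 : Q := sm gh N3929
def N5681 : Q := sm gg N3930
def N5682 : Q := sm gj N3931
def N5683 : Q := sm gd N3932
def N5684 : Q := sm gf N3932
def N5685 : Q := sm gc N3933
def N5686 : Q := sm gf N3933
def N5688 : Q := sm gg N3934
def N5689 : Q := sm ge N3935
def N5690 : Q := sm gg N3935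
def N5691 : Q := sm gh N3935
def N5693 : Q := sm gj N3937
def N5694 : Q := sm gc N3939
def N5695 : Q := sm gf N3939
def N5696 : Q := sm gh N3939
def N5697 : Q := sm gg N3940
def N5698 : Q := sm gf N3941
def N5699 : Q := sm gh N3941
def N5700 : Q := sm ge N3942
def N5701 : Q := sm gg N3942
def N5702 : Q := sm gh N3942
def N5703 : Q := sm gi N3943
def N5704 : Q := sm gj N3944
def N5705 : Q := sm gg N3945
def N5706 : Q := sm gh N3945
def N5707 : Q := sm gj N3946
def N5708 : Q := sm gh N3946
def N5709 : Q := sm gi N3947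
def N5710 : Q := sm ga N3950
def N5711 : Q := sm ge N3950
def N5712 : Q := sm gd N3951
def N5713 : Q := sm gf N3951
def N5715 : Q := sm ge N3953
def N5716 : Q := sm gd N3954
def N5717 : Q := sm gf N3954
def N5718 : Q := sm gf N3955
def N5719 : Q := sm gh N3955
def N5722 : Q := sm gd N3958
def N5723 : Q := sm gf N3958
def N5724 : Q := sm gc N3959
def N5725 : Q := sm gf N3959
def N5726 : Q := sm gh N3959
def N5727 : Q := sm gg N3960
def N5728 : Q := sm ge N3961
def N5729 : Q := sm gg N3961
def N5730 : Q := sm gh N3961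
def N5732 : Q := sm gj N3963
def N5733 : Q := sm gc N3965
def N5734 : Q := sm gf N3965
def N5735 : Q := sm gh N3965
def N5736 : Q := sm gg N3966
def N5737 : Q := sm gf N3967
def N5738 : Q := sm gh N3967
def N5739 : Q := sm ge N3968
def N5740 : Q := sm gg N3968
def N5741 : Q := sm gh N3968
def N5743 : Q := sm gj N3970
def N5744 : Q := sm gg N3971
def N5745 : Q := sm gh N3971
def N5746 : Q := sm gj N3972
def N5747 : Q := sm gh N3972
def N5748 : Q := sm gi N3973
def N5749 : Q := sm gb N3976
def N5750 : Q := sm gf N3976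
def N5751 : Q := sm gh N3976
def N5752 : Q := sm ge N3977
def N5753 : Q := sm gg N3977
def N5754 : Q := sm gh N3977
def N5756 : Q := sm gj N3979
def N5757 : Q := sm ge N3980
def N5758 : Q := sm gg N3980
def N5759 : Q := sm gh N3980
def N5762 : Q := sm gg N3982
def N5763 : Q := sm gh N3982
def N5764 : Q := sm gj N3983
def N5765 : Q := sm gh N3983
def N5766 : Q := sm gi N3984
def N5767 : Q := sm gf N3987
def N5768 : Q := sm gj N3987
def N5769 : Q := sm gh N3987
def N5770 : Q := sm gd N3988
def N5771 : Q := sm gi N3988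
def N5773 : Q := sm gi N3990
def N5774 : Q := sm ge N3992
def N5775 : Q := sm gd N3993
def N5776 : Q := sm gf N3993
def N5777 : Q := sm gf N3994
def N5778 : Q := sm gh N3994
def N5779 : Q := sm gg N3995
def N5781 : Q := sm gd N3997
def N5783 : Q := sm gc N3998
def N5784 : Q := sm gf N3998
def N5787 : Q := sm ge N4000
def N5788 : Q := sm gg N4000
def N5789 : Q := sm gh N4000
def N5790 : Q := sm gi N4001
def N5792 : Q := sm gc N4004
def N5793 : Q := sm gf N4004
def N5796 : Q := sm gf N4006
def N5797 : Q := sm gh N4006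
def N5799 : Q := sm gg N4007
def N5800 : Q := sm gh N4007
def N5801 : Q := sm gi N4008
def N5802 : Q := sm gj N4009
def N5803 : Q := sm gg N4010
def N5804 : Q := sm gh N4010
def N5805 : Q := sm gj N4011
def N5806 : Q := sm gh N4011
def N5808 : Q := sm gb N4015
def N5809 : Q := sm gf N4015
def N5810 : Q := sm gh N4015
def N5811 : Q := sm ge N4016
def N5812 : Q := sm gg N4016
def N5813 : Q := sm gh N4016
def N5816 : Q := sm ge N4019
def N5817 : Q := sm gg N4019
def N5818 : Q := sm gh N4019
def N5819 : Q := sm gd N4020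
def N5820 : Q := sm gi N4020
def N5821 : Q := sm gg N4021
def N5822 : Q := sm gh N4021
def N5823 : Q := sm gj N4022
def N5824 : Q := sm gh N4022
def N5825 : Q := sm gi N4023
def N5826 : Q := sm gf N4026
def N5827 : Q := sm gj N4026
def N5828 : Q := sm gh N4026
def N5829 : Q := sm gd N4027
def N5830 : Q := sm gi N4027
def N5831 : Q := sm gh N4028
def N5833 : Q := sm gf N4031
def N5835 : Q := sm ge N4032
def N5836 : Q := sm gg N4032
def N5838 : Q := sm gd N4033
def N5839 : Q := sm gi N4033
def N5840 : Q := sm gg N4034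
def N5841 : Q := sm gh N4034
def N5842 : Q := sm gj N4035
def N5843 : Q := sm gh N4035
def N5845 : Q := sm gd N4039
def N5846 : Q := sm gg N4039
def N5847 : Q := sm gh N4039
def N5848 : Q := sm gj N4040
def N5849 : Q := sm gh N4040
def N5850 : Q := sm gd N4041
def N5852 : Q := sm ge N4042
def N5854 : Q := sm gf N4044
def N5855 : Q := sm gj N4044
def N5856 : Q := sm gh N4044
def N5857 : Q := sm gd N4045
def N5858 : Q := sm gi N4045
def N5859 : Q := sm gh N4046
def N5860 : Q := sm gi N4047
def N5861 : Q := sm gj N4049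
def N5862 : Q := sm gh N4049
def N5863 : Q := sm gh N4050
def N5864 : Q := sm gd N4051
def N5865 : Q := sm gi N4051
def N5866 : Q := sm gi N4052
def N5867 : Q := sm gi N4054
def N5868 : Q := sm gc N4056
def N5869 : Q := sm gf N4056
def N5870 : Q := sm gh N4056
def N5871 : Q := sm gg N4057
def N5872 : Q := sm gf N4058
def N5873 : Q := sm gh N4058
def N5874 : Q := sm ge N4059
def N5875 : Q := sm gg N4059
def N5876 : Q := sm gh N4059
def N5878 : Q := sm gj N4061
def N5879 : Q := sm gg N4062
def N5880 : Q := sm gh N4062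
def N5881 : Q := sm gj N4063
def N5882 : Q := sm gh N4063
def N5883 : Q := sm gi N4064
def N5884 : Q := sm gb N4067
def N5885 : Q := sm gf N4067
def N5886 : Q := sm gh N4067
def N5887 : Q := sm ge N4068
def N5888 : Q := sm gg N4068
def N5889 : Q := sm gh N4068
def N5890 : Q := sm gi N4069
def N5891 : Q := sm gj N4070
def N5892 : Q := sm ge N4071
def N5893 : Q := sm gg N4071
def N5894 : Q := sm gh N4071
def N5895 : Q := sm gd N4072
def N5897 : Q := sm gg N4073
def N5898 : Q := sm gh N4073
def N5899 : Q := sm gj N4074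
def N5900 : Q := sm gh N4074
def N5902 : Q := sm gf N4078
def N5903 : Q := sm gj N4078
def N5904 : Q := sm gh N4078
def N5905 : Q := sm gd N4079
def N5906 : Q := sm gi N4079
def N5907 : Q := sm gh N4080
def N5908 : Q := sm gi N4081
def N5909 : Q := sm gb N4083
def N5910 : Q := sm gf N4083
def N5911 : Q := sm gh N4083
def N5912 : Q := sm ge N4084
def N5913 : Q := sm gg N4084
def N5914 : Q := sm gh N4084
def N5916 : Q := sm gj N4086
def N5917 : Q := sm ge N4087
def N5918 : Q := sm gg N4087
def N5919 : Q := sm gh N4087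
def N5920 : Q := sm gd N4088
def N5922 : Q := sm gg N4089
def N5923 : Q := sm gh N4089
def N5924 : Q := sm gj N4090
def N5925 : Q := sm gh N4090
def N5927 : Q := sm gf N4094
def N5928 : Q := sm gj N4094
def N5929 : Q := sm gh N4094
def N5930 : Q := sm gd N4095
def N5931 : Q := sm gi N4095
def N5932 : Q := sm gh N4096
def N5933 : Q := sm gi N4097
def N5934 : Q := sm gf N4099
def N5935 : Q := sm gh N4099
def N5936 : Q := sm ge N4100
def N5937 : Q := sm gg N4100
def N5938 : Q := sm gh N4100
def N5939 : Q := sm gd N4101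
def N5941 : Q := sm gg N4102
def N5942 : Q := sm gh N4102
def N5943 : Q := sm gj N4103
def N5944 : Q := sm gh N4103
def N5946 : Q := sm gd N4107
def N5947 : Q := sm gg N4107
def N5948 : Q := sm gh N4107
def N5950 : Q := sm gh N4108
def N5951 : Q := sm gd N4109
def N5953 : Q := sm ge N4110
def N5955 : Q := sm gf N4112
def N5956 : Q := sm gj N4112
def N5957 : Q := sm gh N4112
def N5958 : Q := sm gd N4113
def N5959 : Q := sm gi N4113
def N5960 : Q := sm gh N4114
def N5962 : Q := sm gj N4117
def N5963 : Q := sm gh N4117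
def N5964 : Q := sm gh N4118
def N5965 : Q := sm gd N4119
def N5967 : Q := sm gc N4120
def N5968 : Q := sm gi N4120
def N5970 : Q := sm gf N4124
def N5971 : Q := sm gh N4124
def N5972 : Q := sm ge N4125
def N5973 : Q := sm gg N4125
def N5974 : Q := sm gh N4125
def N5975 : Q := sm gd N4126
def N5976 : Q := sm gi N4126
def N5977 : Q := sm gg N4127
def N5978 : Q := sm gh N4127
def N5979 : Q := sm gj N4128
def N5982 : Q := sm gd N4132
def N5983 : Q := sm gg N4132
def N5984 : Q := sm gh N4132
def N5985 : Q := sm gj N4133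
def N5986 : Q := sm gh N4133
def N5987 : Q := sm gd N4134
def N5989 : Q := sm ge N4135
def N5990 : Q := sm gi N4135
def N5991 : Q := sm gf N4137
def N5992 : Q := sm gj N4137
def N5993 : Q := sm gh N4137
def N5994 : Q := sm gd N4138
def N5995 : Q := sm gi N4138
def N5996 : Q := sm gh N4139
def N5998 : Q := sm gj N4142
def N5999 : Q := sm gh N4142
def N6000 : Q := sm gh N4143
def N6001 : Q := sm gd N4144
def N6003 : Q := sm gc N4145
def N6004 : Q := sm gi N4145
def N6005 : Q := sm gi N4147
def N6006 : Q := sm ge N4149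
def N6007 : Q := sm gg N4149
def N6008 : Q := sm gh N4149
def N6009 : Q := sm gd N4150
def N6010 : Q := sm gi N4150
def N6011 : Q := sm gd N4151
def N6012 : Q := sm gg N4151
def N6013 : Q := sm gh N4151
def N6014 : Q := sm gj N4152
def N6015 : Q := sm gh N4152
def N6017 : Q := sm gi N4153
def N6018 : Q := sm ge N4154
def N6019 : Q := sm gi N4154
def N6020 : Q := sm gf N4156
def N6021 : Q := sm gj N4156
def N6022 : Q := sm gh N4156
def N6023 : Q := sm gi N4157
def N6024 : Q := sm gh N4158
def N6025 : Q := sm gi N4159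
def N6026 : Q := sm gg N4161
def N6027 : Q := sm gh N4161
def N6028 : Q := sm gf N4162
def N6029 : Q := sm gj N4162
def N6030 : Q := sm gh N4162
def N6031 : Q := sm gd N4163
def N6033 : Q := sm gh N4164
def N6034 : Q := sm gd N4165
def N6035 : Q := sm gi N4165
def N6036 : Q := sm ge N4166
def N6037 : Q := sm gi N4166
def N6038 : Q := sm gf N4168
def N6039 : Q := sm gi N4168
def N6040 : Q := sm gh N4169
def N6041 : Q := sm gj N4170
def N6042 : Q := sm gh N4170
def N6044 : Q := sm gi N4172
def N6050 : Q := sm ge N4181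
def N6051 : Q := sm gg N4181
def N6052 : Q := sm gh N4181
def N6053 : Q := sm gd N4182
def N6054 : Q := sm gd N4183
def N6055 : Q := sm gg N4183
def N6056 : Q := sm gh N4183
def N6057 : Q := sm gj N4184
def N6058 : Q := sm gh N4184
def N6059 : Q := sm gd N4185
def N6060 : Q := sm ge N4186
def N6061 : Q := sm gf N4187
def N6062 : Q := sm gj N4187
def N6063 : Q := sm gh N4187
def N6064 : Q := sm gd N4188
def N6065 : Q := sm gh N4189
def N6066 : Q := sm gg N4191
def N6067 : Q := sm gh N4191
def N6068 : Q := sm gf N4192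
def N6069 : Q := sm gj N4192
def N6070 : Q := sm gh N4192
def N6071 : Q := sm gd N4193
def N6072 : Q := sm gh N4194
def N6073 : Q := sm gd N4195
def N6074 : Q := sm ge N4196
def N6075 : Q := sm gf N4197
def N6076 : Q := sm gj N4198
def N6077 : Q := sm gh N4198
def N6078 : Q := sm gh N4199
def N6079 : Q := sm gd N4200
def N6080 : Q := sm gc N4201
def N6081 : Q := sm gg N4203
def N6082 : Q := sm gh N4203
def N6083 : Q := sm gd N4204
def N6084 : Q := sm gd N4205
def N6085 : Q := sm gc N4206
def N6086 : Q := sm gb N4207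
def N6087 : Q := sm gd N4208
def N6088 : Q := sm gg N4208
def N6089 : Q := sm gj N4209
def N6090 : Q := sm gg N4210
def N6091 : Q := sm gh N4210
def N6092 : Q := sm gf N4211
def N6093 : Q := sm gj N4211
def N6094 : Q := sm gj N4213
def N6095 : Q := sm gf N4215
def N6096 : Q := sm gj N4215
def N6097 : Q := sm gh N4215
def N6098 : Q := sm gi N4216
def N6099 : Q := sm gj N4217
def N6100 : Q := sm gg N4219
def N6101 : Q := sm gf N4221
def N6102 : Q := sm gh N4221
def N6103 : Q := sm ge N4222
def N6104 : Q := sm gg N4222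
def N6105 : Q := sm gh N4222
def N6106 : Q := sm gd N4223
def N6108 : Q := sm gg N4224
def N6109 : Q := sm gh N4224
def N6110 : Q := sm gj N4225
def N6111 : Q := sm gh N4225
def N6113 : Q := sm gd N4229
def N6114 : Q := sm gg N4229
def N6115 : Q := sm gh N4229
def N6116 : Q := sm gj N4230
def N6117 : Q := sm gh N4230
def N6118 : Q := sm gd N4231
def N6120 : Q := sm ge N4232
def N6122 : Q := sm gf N4234
def N6123 : Q := sm gj N4234
def N6124 : Q := sm gh N4234
def N6125 : Q := sm gd N4235
def N6127 : Q := sm gh N4236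
def N6128 : Q := sm gi N4237
def N6129 : Q := sm gj N4239
def N6130 : Q := sm gh N4239
def N6131 : Q := sm gh N4240
def N6132 : Q := sm gd N4241
def N6134 : Q := sm gc N4242
def N6136 : Q := sm gi N4244
def N6137 : Q := sm ge N4246
def N6138 : Q := sm gg N4246
def N6139 : Q := sm gh N4246
def N6140 : Q := sm gd N4247
def N6142 : Q := sm gd N4248
def N6143 : Q := sm gg N4248
def N6144 : Q := sm gh N4248
def N6145 : Q := sm gj N4249
def N6146 : Q := sm gh N4249
def N6147 : Q := sm gd N4250
def N6148 : Q := sm gi N4250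
def N6149 : Q := sm ge N4251
def N6150 : Q := sm gi N4251
def N6151 : Q := sm gj N4253
def N6152 : Q := sm gh N4253
def N6153 : Q := sm gd N4254
def N6155 : Q := sm gh N4255
def N6157 : Q := sm gg N4258
def N6158 : Q := sm gh N4258
def N6159 : Q := sm gj N4259
def N6160 : Q := sm gh N4259
def N6161 : Q := sm gd N4260
def N6163 : Q := sm gh N4261
def N6164 : Q := sm gd N4262
def N6166 : Q := sm ge N4263
def N6168 : Q := sm gf N4265
def N6169 : Q := sm gi N4265
def N6171 : Q := sm gh N4267
def N6172 : Q := sm gd N4268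
def N6174 : Q := sm gc N4269
def N6177 : Q := sm gd N4273
def N6178 : Q := sm gi N4273
def N6179 : Q := sm gc N4274
def N6180 : Q := sm gi N4274
def N6181 : Q := sm gb N4276
def N6182 : Q := sm gi N4276
def N6183 : Q := sm gh N4277
def N6184 : Q := sm gj N4279
def N6185 : Q := sm gh N4279
def N6186 : Q := sm gd N4280
def N6187 : Q := sm gi N4280
def N6189 : Q := sm ge N4281
def N6191 : Q := sm gh N4283
def N6192 : Q := sm gd N4284
def N6194 : Q := sm ge N4285
def N6195 : Q := sm gi N4285
def N6196 : Q := sm gf N4287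
def N6198 : Q := sm gh N4288
def N6200 : Q := sm gd N4291
def N6207 : Q := sm gg N4296
def N6209 : Q := sm gh N4297
def N6210 : Q := sm ge N4300
def N6211 : Q := sm gg N4300
def N6212 : Q := sm gh N4300
def N6213 : Q := sm gd N4301
def N6215 : Q := sm gd N4302
def N6216 : Q := sm gg N4302
def N6217 : Q := sm gh N4302
def N6218 : Q := sm gh N4303
def N6219 : Q := sm gd N4304
def N6221 : Q := sm ge N4305
def N6222 : Q := sm gi N4305
def N6223 : Q := sm gf N4307
def N6224 : Q := sm gh N4307
def N6225 : Q := sm gd N4308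
def N6227 : Q := sm gi N4309
def N6228 : Q := sm gg N4311
def N6229 : Q := sm gh N4311
def N6230 : Q := sm gf N4312
def N6231 : Q := sm gh N4312
def N6232 : Q := sm gd N4313
def N6234 : Q := sm gd N4314
def N6235 : Q := sm gi N4314
def N6236 : Q := sm ge N4315
def N6238 : Q := sm gf N4317
def N6239 : Q := sm gi N4317
def N6241 : Q := sm gh N4319
def N6242 : Q := sm gd N4320
def N6244 : Q := sm gc N4321
def N6246 : Q := sm gd N4324
def N6247 : Q := sm gi N4324
def N6248 : Q := sm gc N4325
def N6250 : Q := sm gb N4327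
def N6251 : Q := sm gi N4327
def N6252 : Q := sm gh N4328
def N6253 : Q := sm gd N4329
def N6254 : Q := sm gh N4329
def N6255 : Q := sm gd N4330
def N6257 : Q := sm gc N4331
def N6258 : Q := sm ge N4331
def N6260 : Q := sm gh N4333
def N6261 : Q := sm gd N4334
def N6263 : Q := sm ge N4335
def N6264 : Q := sm gi N4335
def N6265 : Q := sm gf N4337
def N6266 : Q := sm gi N4337
def N6267 : Q := sm gh N4338
def N6268 : Q := sm gc N4339
def N6270 : Q := sm gd N4341
def N6272 : Q := sm gc N4342
def N6273 : Q := sm ge N4342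
def N6275 : Q := sm gf N4344
def N6276 : Q := sm gi N4344
def N6278 : Q := sm gg N4346
def N6279 : Q := sm gi N4346
def N6280 : Q := sm gh N4347
def N6281 : Q := sm gb N4349
def N6285 : Q := sm gi N4351
def N6286 : Q := sm gh N4352
def N6287 : Q := sm ge N4354
def N6289 : Q := sm gf N4355
def N6292 : Q := sm gg N4357
def N6296 : Q := sm gi N4360
def N6298 : Q := sm gd N4362
def N6299 : Q := sm gd N4363
def N6300 : Q := sm gg N4363
def N6301 : Q := sm gh N4363
def N6302 : Q := sm gh N4364
def N6303 : Q := sm gd N4365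
def N6305 : Q := sm gc N4366
def N6306 : Q := sm ge N4366
def N6308 : Q := sm gg N4368
def N6309 : Q := sm gh N4368
def N6310 : Q := sm gf N4369
def N6311 : Q := sm gh N4369
def N6312 : Q := sm gd N4370
def N6314 : Q := sm gd N4371
def N6315 : Q := sm gi N4371
def N6316 : Q := sm ge N4372
def N6318 : Q := sm gf N4374
def N6319 : Q := sm gi N4374
def N6320 : Q := sm gh N4375
def N6321 : Q := sm gh N4376

end Cfsg.Agent.Helper28.FicA
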