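import Cfsg.Agent.Helper28.FicB0

/-! # The Fi₂₃ presentation, cosets of the subgroup generated by a, …, i: the coset enumeration, part 1 (helper28; generated) -/

set_option autoImplicit false

noncomputable section

namespace Cfsg.Agent.Helper28.FicA

open Cfsg.Agent.Helper28.CosetTable

def N6322 : Q := sm gd N4377
def N6324 : Q := sm gc N4378
def N6325 : Q := sm gi N4378
def N6326 : Q := sm gf N4381
def N6327 : Q := sm gh N4381
def N6328 : Q := sm gd N4382
def N6330 : Q := sm gh N4383
def N6331 : Q := sm gd N4384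
def N6333 : Q := sm gc N4385
def N6334 : Q := sm ge N4385
def N6335 : Q := sm gi N4385
def N6336 : Q := sm ge N4387
def N6338 : Q := sm gf N4389
def N6339 : Q := sm gi N4389
def N6341 : Q := sm gg N4391
def N6342 : Q := sm gi N4391
def N6343 : Q := sm gh N4392
def N6344 : Q := sm gd N4394
def N6345 : Q := sm gi N4394
def N6346 : Q := sm gc N4395
def N6348 : Q := sm gb N4397
def N6349 : Q := sm gi N4397
def N6351 : Q := sm gc N4399
def N6352 : Q := sm ge N4399
def N6353 : Q := sm gi N4399
def N6354 : Q := sm gb N4401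
def N6355 : Q := sm gi N4401
def N6357 : Q := sm ga N4403
def N6359 : Q := sm gh N4404
def N6360 : Q := sm gc N4406
def N6361 : Q := sm gh N4406
def N6362 : Q := sm gd N4407
def N6364 : Q := sm gc N4408
def N6365 : Q := sm ge N4408
def N6366 : Q := sm gi N4408
def N6367 : Q := sm ge N4410
def N6369 : Q := sm gf N4411
def N6370 : Q := sm gi N4411
def N6372 : Q := sm gd N4413
def N6374 : Q := sm gc N4414
def N6375 : Q := sm ge N4414
def N6377 : Q := sm gf N4416
def N6380 : Q := sm gg N4418
def N6382 : Q := sm gh N4419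
def N6383 : Q := sm gb N4421
def N6384 : Q := sm gi N4421
def N6386 : Q := sm gc N4423
def N6387 : Q := sm ge N4423
def N6389 : Q := sm gb N4425
def N6390 : Q := sm ge N4425
def N6391 : Q := sm gi N4425
def N6392 : Q := sm gf N4426
def N6393 : Q := sm gi N4426
def N6395 : Q := sm gg N4428
def N6396 : Q := sm gi N4428
def N6397 : Q := sm gh N4429
def N6398 : Q := sm gj N4431
def N6399 : Q := sm gi N4431
def N6400 : Q := sm gh N4432
def N6403 : Q := sm gi N4434
def N6404 : Q := sm gh N4435
def N6405 : Q := sm gi N4437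
def N6408 : Q := sm gd N4440
def N6409 : Q := sm gf N4440
def N6410 : Q := sm gi N4440
def N6412 : Q := sm gg N4442
def N6413 : Q := sm gi N4442
def N6415 : Q := sm gj N4445
def N6416 : Q := sm gi N4445
def N6420 : Q := sm gh N4449
def N6421 : Q := sm gd N4450
def N6423 : Q := sm gh N4452
def N6424 : Q := sm gd N4453
def N6425 : Q := sm gc N4454
def N6426 : Q := sm ge N4454
def N6427 : Q := sm gb N4455
def N6428 : Q := sm ge N4455
def N6429 : Q := sm gf N4456
def N6430 : Q := sm gc N4457
def N6431 : Q := sm ge N4457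
def N6432 : Q := sm gb N4458
def N6433 : Q := sm ge N4458
def N6434 : Q := sm gf N4459
def N6435 : Q := sm ga N4460
def N6436 : Q := sm ge N4460
def N6437 : Q := sm gd N4461
def N6438 : Q := sm gf N4461
def N6439 : Q := sm gg N4462
def N6440 : Q := sm ga N4463
def N6441 : Q := sm ge N4463
def N6442 : Q := sm gd N4464
def N6443 : Q := sm gf N4464
def N6444 : Q := sm gg N4465
def N6445 : Q := sm ge N4466
def N6446 : Q := sm gd N4467
def N6447 : Q := sm gf N4467
def N6448 : Q := sm gf N4468
def N6449 : Q := sm gh N4468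
def N6450 : Q := sm gg N4469
def N6451 : Q := sm gj N4470
def N6452 : Q := sm gd N4471
def N6453 : Q := sm gf N4471
def N6454 : Q := sm gc N4472
def N6455 : Q := sm gf N4472
def N6456 : Q := sm gh N4472
def N6457 : Q := sm gg N4473
def N6458 : Q := sm ge N4474
def N6459 : Q := sm gg N4474
def N6460 : Q := sm gh N4474
def N6461 : Q := sm gi N4475
def N6462 : Q := sm gj N4476
def N6463 : Q := sm gc N4478
def N6464 : Q := sm ge N4478
def N6465 : Q := sm gb N4479
def N6466 : Q := sm ge N4479
def N6467 : Q := sm gf N4480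
def N6468 : Q := sm gb N4481
def N6469 : Q := sm ge N4481
def N6470 : Q := sm gf N4482
def N6471 : Q := sm ga N4483
def N6472 : Q := sm ge N4483
def N6473 : Q := sm gd N4484
def N6474 : Q := sm gf N4484
def N6475 : Q := sm gg N4485
def N6476 : Q := sm ga N4486
def N6477 : Q := sm ge N4486
def N6478 : Q := sm gd N4487
def N6479 : Q := sm gf N4487
def N6480 : Q := sm gg N4488
def N6481 : Q := sm ge N4489
def N6482 : Q := sm gd N4490
def N6483 : Q := sm gf N4490
def N6484 : Q := sm gf N4491
def N6485 : Q := sm gh N4491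
def N6486 : Q := sm gg N4492
def N6487 : Q := sm gj N4493
def N6488 : Q := sm ga N4494
def N6489 : Q := sm ge N4494
def N6490 : Q := sm gd N4495
def N6491 : Q := sm gf N4495
def N6492 : Q := sm gg N4496
def N6493 : Q := sm ge N4497
def N6494 : Q := sm gd N4498
def N6495 : Q := sm gf N4498
def N6496 : Q := sm gf N4499
def N6497 : Q := sm gh N4499
def N6498 : Q := sm gg N4500
def N6499 : Q := sm gj N4501
def N6500 : Q := sm ge N4502
def N6501 : Q := sm gd N4503
def N6502 : Q := sm gf N4503
def N6503 : Q := sm gf N4504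
def N6504 : Q := sm gh N4504
def N6505 : Q := sm gg N4505
def N6506 : Q := sm gj N4506
def N6507 : Q := sm gd N4507
def N6508 : Q := sm gf N4507
def N6509 : Q := sm gc N4508
def N6510 : Q := sm gf N4508
def N6511 : Q := sm gh N4508
def N6512 : Q := sm gg N4509
def N6513 : Q := sm ge N4510
def N6514 : Q := sm gg N4510
def N6515 : Q := sm gh N4510
def N6516 : Q := sm gi N4511
def N6517 : Q := sm gj N4512
def N6518 : Q := sm gd N4514
def N6519 : Q := sm gf N4514
def N6520 : Q := sm gc N4515
def N6521 : Q := sm gf N4515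
def N6522 : Q := sm gh N4515
def N6523 : Q := sm gg N4516
def N6524 : Q := sm ge N4517
def N6525 : Q := sm gg N4517
def N6526 : Q := sm gh N4517
def N6527 : Q := sm gi N4518
def N6528 : Q := sm gj N4519
def N6529 : Q := sm gc N4521
def N6530 : Q := sm gf N4521
def N6531 : Q := sm gh N4521
def N6532 : Q := sm gg N4522
def N6533 : Q := sm gf N4523
def N6534 : Q := sm gh N4523
def N6535 : Q := sm ge N4524
def N6536 : Q := sm gg N4524
def N6537 : Q := sm gh N4524
def N6538 : Q := sm gi N4525
def N6539 : Q := sm gj N4526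
def N6540 : Q := sm gg N4527
def N6541 : Q := sm gh N4527
def N6542 : Q := sm gj N4528
def N6543 : Q := sm gh N4528
def N6544 : Q := sm gi N4529
def N6545 : Q := sm ga N4532
def N6546 : Q := sm ge N4532
def N6547 : Q := sm gd N4533
def N6548 : Q := sm gf N4533
def N6549 : Q := sm gg N4534
def N6550 : Q := sm ge N4535
def N6551 : Q := sm gd N4536
def N6552 : Q := sm gf N4536
def N6553 : Q := sm gf N4537
def N6554 : Q := sm gh N4537
def N6555 : Q := sm gg N4538
def N6556 : Q := sm gj N4539
def N6557 : Q := sm gd N4540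
def N6558 : Q := sm gf N4540
def N6559 : Q := sm gc N4541
def N6560 : Q := sm gf N4541
def N6561 : Q := sm gh N4541
def N6562 : Q := sm gg N4542
def N6563 : Q := sm ge N4543
def N6564 : Q := sm gg N4543
def N6565 : Q := sm gh N4543
def N6566 : Q := sm gi N4544
def N6567 : Q := sm gj N4545
def N6568 : Q := sm ge N4547
def N6569 : Q := sm gd N4548
def N6570 : Q := sm gf N4548
def N6571 : Q := sm gf N4549
def N6572 : Q := sm gh N4549
def N6573 : Q := sm gg N4550
def N6574 : Q := sm gj N4551
def N6575 : Q := sm gd N4552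
def N6576 : Q := sm gf N4552
def N6577 : Q := sm gc N4553
def N6578 : Q := sm gf N4553
def N6579 : Q := sm gh N4553
def N6580 : Q := sm gg N4554
def N6581 : Q := sm ge N4555
def N6582 : Q := sm gg N4555
def N6583 : Q := sm gh N4555
def N6584 : Q := sm gi N4556
def N6585 : Q := sm gj N4557
def N6586 : Q := sm gc N4559
def N6587 : Q := sm gf N4559
def N6588 : Q := sm gh N4559
def N6589 : Q := sm gg N4560
def N6590 : Q := sm gf N4561
def N6591 : Q := sm gh N4561
def N6592 : Q := sm ge N4562
def N6593 : Q := sm gg N4562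
def N6594 : Q := sm gh N4562
def N6595 : Q := sm gi N4563
def N6596 : Q := sm gj N4564
def N6597 : Q := sm gg N4565
def N6598 : Q := sm gh N4565
def N6599 : Q := sm gj N4566
def N6600 : Q := sm gh N4566
def N6601 : Q := sm gi N4567
def N6602 : Q := sm gd N4570
def N6603 : Q := sm gf N4570
def N6604 : Q := sm gc N4571
def N6605 : Q := sm gf N4571
def N6606 : Q := sm gh N4571
def N6607 : Q := sm gg N4572
def N6608 : Q := sm ge N4573
def N6609 : Q := sm gg N4573
def N6610 : Q := sm gh N4573
def N6611 : Q := sm gi N4574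
def N6612 : Q := sm gj N4575
def N6613 : Q := sm gc N4577
def N6614 : Q := sm gf N4577
def N6615 : Q := sm gh N4577
def N6616 : Q := sm gg N4578
def N6617 : Q := sm gf N4579
def N6618 : Q := sm gh N4579
def N6619 : Q := sm ge N4580
def N6620 : Q := sm gg N4580
def N6621 : Q := sm gh N4580
def N6622 : Q := sm gi N4581
def N6623 : Q := sm gj N4582
def N6624 : Q := sm gg N4583
def N6625 : Q := sm gh N4583
def N6626 : Q := sm gj N4584
def N6627 : Q := sm gh N4584
def N6628 : Q := sm gi N4585
def N6629 : Q := sm gb N4588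
def N6630 : Q := sm gf N4588
def N6631 : Q := sm gh N4588
def N6632 : Q := sm ge N4589
def N6633 : Q := sm gg N4589
def N6634 : Q := sm gh N4589
def N6635 : Q := sm gi N4590
def N6636 : Q := sm gj N4591
def N6637 : Q := sm ge N4592
def N6638 : Q := sm gg N4592
def N6639 : Q := sm gh N4592
def N6640 : Q := sm gd N4593
def N6641 : Q := sm gi N4593
def N6642 : Q := sm gg N4594
def N6643 : Q := sm gh N4594
def N6644 : Q := sm gj N4595
def N6645 : Q := sm gh N4595
def N6646 : Q := sm gi N4596
def N6647 : Q := sm gf N4599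
def N6648 : Q := sm gj N4599
def N6649 : Q := sm gh N4599
def N6650 : Q := sm gd N4600
def N6651 : Q := sm gi N4600
def N6652 : Q := sm gh N4601
def N6653 : Q := sm gi N4602
def N6654 : Q := sm gd N4604
def N6655 : Q := sm gf N4604
def N6656 : Q := sm gc N4605
def N6657 : Q := sm gf N4605
def N6658 : Q := sm gh N4605
def N6659 : Q := sm gg N4606
def N6660 : Q := sm ge N4607
def N6661 : Q := sm gg N4607
def N6662 : Q := sm gh N4607
def N6664 : Q := sm gj N4609
def N6665 : Q := sm gc N4611
def N6666 : Q := sm gf N4611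
def N6667 : Q := sm gh N4611
def N6668 : Q := sm gg N4612
def N6669 : Q := sm gf N4613
def N6670 : Q := sm gh N4613
def N6671 : Q := sm ge N4614
def N6672 : Q := sm gg N4614
def N6673 : Q := sm gh N4614
def N6675 : Q := sm gj N4616
def N6676 : Q := sm gg N4617
def N6677 : Q := sm gh N4617
def N6678 : Q := sm gj N4618
def N6679 : Q := sm gh N4618
def N6681 : Q := sm gb N4622
def N6682 : Q := sm gf N4622
def N6683 : Q := sm gh N4622
def N6684 : Q := sm ge N4623
def N6685 : Q := sm gg N4623
def N6686 : Q := sm gh N4623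
def N6687 : Q := sm gi N4624
def N6688 : Q := sm gj N4625
def N6689 : Q := sm ge N4626
def N6690 : Q := sm gg N4626
def N6691 : Q := sm gh N4626
def N6692 : Q := sm gd N4627
def N6693 : Q := sm gi N4627
def N6694 : Q := sm gg N4628
def N6695 : Q := sm gh N4628
def N6696 : Q := sm gj N4629
def N6697 : Q := sm gh N4629
def N6698 : Q := sm gi N4630
def N6699 : Q := sm gf N4633
def N6700 : Q := sm gj N4633
def N6701 : Q := sm gh N4633
def N6702 : Q := sm gd N4634
def N6703 : Q := sm gi N4634
def N6704 : Q := sm gh N4635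
def N6705 : Q := sm gi N4636
def N6706 : Q := sm gf N4638
def N6707 : Q := sm gh N4638
def N6708 : Q := sm ge N4639
def N6709 : Q := sm gg N4639
def N6710 : Q := sm gh N4639
def N6713 : Q := sm gg N4641
def N6714 : Q := sm gh N4641
def N6715 : Q := sm gj N4642
def N6716 : Q := sm gh N4642
def N6717 : Q := sm gi N4643
def N6718 : Q := sm gd N4646
def N6719 : Q := sm gg N4646
def N6720 : Q := sm gh N4646
def N6721 : Q := sm gj N4647
def N6722 : Q := sm gh N4647
def N6723 : Q := sm gd N4648
def N6724 : Q := sm gi N4648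
def N6725 : Q := sm gi N4649
def N6726 : Q := sm gf N4651
def N6727 : Q := sm gj N4651
def N6728 : Q := sm gh N4651
def N6729 : Q := sm gd N4652
def N6730 : Q := sm gi N4652
def N6731 : Q := sm gh N4653
def N6732 : Q := sm gi N4654
def N6733 : Q := sm gj N4656
def N6734 : Q := sm gh N4656
def N6735 : Q := sm gh N4657
def N6736 : Q := sm gd N4658
def N6737 : Q := sm gi N4658
def N6738 : Q := sm gc N4659
def N6739 : Q := sm gi N4659
def N6740 : Q := sm gi N4661
def N6741 : Q := sm gh N4663
def N6742 : Q := sm gd N4664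
def N6743 : Q := sm gc N4665
def N6744 : Q := sm ge N4665
def N6745 : Q := sm gb N4666
def N6746 : Q := sm ge N4666
def N6747 : Q := sm gf N4667
def N6748 : Q := sm ga N4668
def N6749 : Q := sm ge N4668
def N6750 : Q := sm gd N4669
def N6751 : Q := sm gf N4669
def N6752 : Q := sm gg N4670
def N6753 : Q := sm gc N4671
def N6754 : Q := sm ge N4671
def N6755 : Q := sm gb N4672
def N6756 : Q := sm ge N4672
def N6757 : Q := sm gf N4673
def N6758 : Q := sm ga N4674
def N6759 : Q := sm ge N4674
def N6760 : Q := sm gd N4675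
def N6761 : Q := sm gf N4675
def N6762 : Q := sm gg N4676
def N6763 : Q := sm ge N4677
def N6764 : Q := sm gd N4678
def N6765 : Q := sm gf N4678
def N6766 : Q := sm gf N4679
def N6767 : Q := sm gh N4679
def N6768 : Q := sm gg N4680
def N6769 : Q := sm gj N4681
def N6770 : Q := sm gb N4682
def N6771 : Q := sm ge N4682
def N6772 : Q := sm gf N4683
def N6773 : Q := sm ga N4684
def N6774 : Q := sm ge N4684
def N6775 : Q := sm gd N4685
def N6776 : Q := sm gf N4685
def N6777 : Q := sm gg N4686
def N6778 : Q := sm ge N4687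
def N6779 : Q := sm gd N4688
def N6780 : Q := sm gf N4688
def N6781 : Q := sm gf N4689
def N6782 : Q := sm gh N4689
def N6783 : Q := sm gg N4690
def N6784 : Q := sm gj N4691
def N6785 : Q := sm gd N4692
def N6786 : Q := sm gf N4692
def N6787 : Q := sm gc N4693
def N6788 : Q := sm gf N4693
def N6789 : Q := sm gh N4693
def N6790 : Q := sm gg N4694
def N6791 : Q := sm ge N4695
def N6792 : Q := sm gg N4695
def N6793 : Q := sm gh N4695
def N6794 : Q := sm gi N4696
def N6795 : Q := sm gj N4697
def N6796 : Q := sm ga N4699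
def N6797 : Q := sm ge N4699
def N6798 : Q := sm gd N4700
def N6799 : Q := sm gf N4700
def N6800 : Q := sm gg N4701
def N6801 : Q := sm ge N4702
def N6802 : Q := sm gd N4703
def N6803 : Q := sm gf N4703
def N6804 : Q := sm gf N4704
def N6805 : Q := sm gh N4704
def N6806 : Q := sm gg N4705
def N6807 : Q := sm gj N4706
def N6808 : Q := sm gd N4707
def N6809 : Q := sm gf N4707
def N6810 : Q := sm gc N4708
def N6811 : Q := sm gf N4708
def N6812 : Q := sm gh N4708
def N6813 : Q := sm gg N4709
def N6814 : Q := sm ge N4710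
def N6815 : Q := sm gg N4710
def N6816 : Q := sm gh N4710
def N6817 : Q := sm gi N4711
def N6818 : Q := sm gj N4712
def N6819 : Q := sm ge N4714
def N6820 : Q := sm gd N4715
def N6821 : Q := sm gf N4715
def N6822 : Q := sm gf N4716
def N6823 : Q := sm gh N4716
def N6824 : Q := sm gg N4717
def N6825 : Q := sm gj N4718
def N6826 : Q := sm gd N4719
def N6827 : Q := sm gf N4719
def N6828 : Q := sm gc N4720
def N6829 : Q := sm gf N4720
def N6830 : Q := sm gh N4720
def N6831 : Q := sm gg N4721
def N6832 : Q := sm ge N4722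
def N6833 : Q := sm gg N4722
def N6834 : Q := sm gh N4722
def N6835 : Q := sm gi N4723
def N6836 : Q := sm gj N4724
def N6837 : Q := sm gc N4726
def N6838 : Q := sm gf N4726
def N6839 : Q := sm gh N4726
def N6840 : Q := sm gg N4727
def N6841 : Q := sm gf N4728
def N6842 : Q := sm gh N4728
def N6843 : Q := sm ge N4729
def N6844 : Q := sm gg N4729
def N6845 : Q := sm gh N4729
def N6846 : Q := sm gi N4730
def N6847 : Q := sm gj N4731
def N6848 : Q := sm gg N4732
def N6849 : Q := sm gh N4732
def N6850 : Q := sm gj N4733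
def N6851 : Q := sm gh N4733
def N6852 : Q := sm gi N4734
def N6853 : Q := sm gd N4737
def N6854 : Q := sm gf N4737
def N6855 : Q := sm gc N4738
def N6856 : Q := sm gf N4738
def N6857 : Q := sm gh N4738
def N6858 : Q := sm gg N4739
def N6859 : Q := sm ge N4740
def N6860 : Q := sm gg N4740
def N6861 : Q := sm gh N4740
def N6862 : Q := sm gi N4741
def N6863 : Q := sm gj N4742
def N6864 : Q := sm gc N4744
def N6865 : Q := sm gf N4744
def N6866 : Q := sm gh N4744
def N6867 : Q := sm gg N4745
def N6868 : Q := sm gf N4746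
def N6869 : Q := sm gh N4746
def N6870 : Q := sm ge N4747
def N6871 : Q := sm gg N4747
def N6872 : Q := sm gh N4747
def N6873 : Q := sm gi N4748
def N6874 : Q := sm gj N4749
def N6875 : Q := sm gg N4750
def N6876 : Q := sm gh N4750
def N6877 : Q := sm gj N4751
def N6878 : Q := sm gh N4751
def N6879 : Q := sm gi N4752
def N6880 : Q := sm gb N4755
def N6881 : Q := sm gf N4755
def N6882 : Q := sm gh N4755
def N6883 : Q := sm ge N4756
def N6884 : Q := sm gg N4756
def N6885 : Q := sm gh N4756
def N6886 : Q := sm gi N4757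
def N6887 : Q := sm gj N4758
def N6888 : Q := sm ge N4759
def N6889 : Q := sm gg N4759
def N6890 : Q := sm gh N4759
def N6891 : Q := sm gd N4760
def N6892 : Q := sm gi N4760
def N6893 : Q := sm gg N4761
def N6894 : Q := sm gh N4761
def N6895 : Q := sm gj N4762
def N6896 : Q := sm gh N4762
def N6897 : Q := sm gi N4763
def N6898 : Q := sm gf N4766
def N6899 : Q := sm gj N4766
def N6900 : Q := sm gh N4766
def N6901 : Q := sm gd N4767
def N6902 : Q := sm gi N4767
def N6903 : Q := sm gh N4768
def N6904 : Q := sm gi N4769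
def N6905 : Q := sm gd N4771
def N6906 : Q := sm gf N4771
def N6907 : Q := sm gc N4772
def N6908 : Q := sm gf N4772
def N6909 : Q := sm gh N4772
def N6910 : Q := sm gg N4773
def N6911 : Q := sm ge N4774
def N6912 : Q := sm gg N4774
def N6913 : Q := sm gh N4774
def N6914 : Q := sm gi N4775
def N6915 : Q := sm gj N4776
def N6916 : Q := sm gc N4778
def N6917 : Q := sm gf N4778
def N6918 : Q := sm gh N4778
def N6919 : Q := sm gg N4779
def N6920 : Q := sm gf N4780
def N6921 : Q := sm gh N4780
def N6922 : Q := sm ge N4781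
def N6923 : Q := sm gg N4781
def N6924 : Q := sm gh N4781
def N6925 : Q := sm gi N4782
def N6926 : Q := sm gj N4783
def N6927 : Q := sm gg N4784
def N6928 : Q := sm gh N4784
def N6929 : Q := sm gj N4785
def N6930 : Q := sm gh N4785
def N6931 : Q := sm gi N4786
def N6932 : Q := sm gc N4789
def N6933 : Q := sm gf N4789
def N6934 : Q := sm gh N4789
def N6935 : Q := sm gg N4790
def N6936 : Q := sm gf N4791
def N6937 : Q := sm gh N4791
def N6938 : Q := sm ge N4792
def N6939 : Q := sm gg N4792
def N6940 : Q := sm gh N4792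
def N6941 : Q := sm gi N4793
def N6942 : Q := sm gj N4794
def N6943 : Q := sm gg N4795
def N6944 : Q := sm gh N4795
def N6945 : Q := sm gj N4796
def N6946 : Q := sm gh N4796
def N6947 : Q := sm gi N4797
def N6948 : Q := sm gb N4800
def N6949 : Q := sm gf N4800
def N6950 : Q := sm gh N4800
def N6951 : Q := sm ge N4801
def N6952 : Q := sm gg N4801
def N6953 : Q := sm gh N4801
def N6954 : Q := sm gi N4802
def N6955 : Q := sm gj N4803
def N6956 : Q := sm ge N4804
def N6957 : Q := sm gg N4804
def N6958 : Q := sm gh N4804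
def N6959 : Q := sm gd N4805
def N6960 : Q := sm gi N4805
def N6961 : Q := sm gg N4806
def N6962 : Q := sm gh N4806
def N6963 : Q := sm gj N4807
def N6964 : Q := sm gh N4807
def N6965 : Q := sm gi N4808
def N6966 : Q := sm gf N4811
def N6967 : Q := sm gj N4811
def N6968 : Q := sm gh N4811
def N6969 : Q := sm gd N4812
def N6970 : Q := sm gi N4812
def N6971 : Q := sm gh N4813
def N6972 : Q := sm gi N4814
def N6973 : Q := sm gb N4816
def N6974 : Q := sm gf N4816
def N6975 : Q := sm gh N4816
def N6976 : Q := sm ge N4817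
def N6977 : Q := sm gg N4817
def N6978 : Q := sm gh N4817
def N6979 : Q := sm gi N4818
def N6980 : Q := sm gj N4819
def N6981 : Q := sm ge N4820
def N6982 : Q := sm gg N4820
def N6983 : Q := sm gh N4820
def N6984 : Q := sm gd N4821
def N6985 : Q := sm gi N4821
def N6986 : Q := sm gg N4822
def N6987 : Q := sm gh N4822
def N6988 : Q := sm gj N4823
def N6989 : Q := sm gh N4823
def N6990 : Q := sm gi N4824
def N6991 : Q := sm gf N4827
def N6992 : Q := sm gj N4827
def N6993 : Q := sm gh N4827
def N6994 : Q := sm gd N4828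
def N6995 : Q := sm gi N4828
def N6996 : Q := sm gh N4829
def N6997 : Q := sm gi N4830
def N6998 : Q := sm gf N4832
def N6999 : Q := sm gh N4832
def N7000 : Q := sm ge N4833
def N7001 : Q := sm gg N4833
def N7002 : Q := sm gh N4833
def N7003 : Q := sm gd N4834
def N7004 : Q := sm gi N4834
def N7005 : Q := sm gg N4835
def N7006 : Q := sm gh N4835
def N7007 : Q := sm gj N4836
def N7008 : Q := sm gh N4836
def N7009 : Q := sm gi N4837
def N7010 : Q := sm gd N4840
def N7011 : Q := sm gg N4840
def N7012 : Q := sm gh N4840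
def N7013 : Q := sm gj N4841
def N7014 : Q := sm gh N4841
def N7015 : Q := sm gd N4842
def N7016 : Q := sm gi N4842
def N7017 : Q := sm ge N4843
def N7018 : Q := sm gi N4843
def N7019 : Q := sm gf N4845
def N7020 : Q := sm gj N4845
def N7021 : Q := sm gh N4845
def N7022 : Q := sm gd N4846
def N7023 : Q := sm gi N4846
def N7024 : Q := sm gh N4847
def N7025 : Q := sm gi N4848
def N7026 : Q := sm gj N4850
def N7027 : Q := sm gh N4850
def N7028 : Q := sm gh N4851
def N7029 : Q := sm gd N4852
def N7030 : Q := sm gi N4852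
def N7031 : Q := sm gc N4853
def N7032 : Q := sm gi N4853
def N7033 : Q := sm gi N4855
def N7034 : Q := sm gf N4857
def N7036 : Q := sm ge N4858
def N7037 : Q := sm gg N4858
def N7038 : Q := sm gh N4858
def N7039 : Q := sm gd N4859
def N7040 : Q := sm gi N4859
def N7041 : Q := sm gg N4860
def N7042 : Q := sm gh N4860
def N7043 : Q := sm gj N4861
def N7044 : Q := sm gh N4861
def N7045 : Q := sm gi N4862
def N7046 : Q := sm gd N4865
def N7047 : Q := sm gg N4865
def N7048 : Q := sm gh N4865
def N7049 : Q := sm gj N4866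
def N7050 : Q := sm gh N4866
def N7051 : Q := sm gd N4867
def N7053 : Q := sm ge N4868
def N7055 : Q := sm gf N4870
def N7056 : Q := sm gj N4870
def N7057 : Q := sm gh N4870
def N7058 : Q := sm gd N4871
def N7059 : Q := sm gi N4871
def N7060 : Q := sm gh N4872
def N7061 : Q := sm gi N4873
def N7062 : Q := sm gj N4875
def N7063 : Q := sm gh N4875
def N7064 : Q := sm gh N4876
def N7065 : Q := sm gd N4877
def N7066 : Q := sm gi N4877
def N7067 : Q := sm gc N4878
def N7068 : Q := sm gi N4878
def N7069 : Q := sm gi N4880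
def N7070 : Q := sm ge N4882
def N7071 : Q := sm gg N4882
def N7072 : Q := sm gh N4882
def N7074 : Q := sm gd N4884
def N7075 : Q := sm gg N4884
def N7076 : Q := sm gh N4884
def N7077 : Q := sm gj N4885
def N7078 : Q := sm gh N4885
def N7080 : Q := sm gf N4888
def N7081 : Q := sm gj N4888
def N7082 : Q := sm gh N4888
def N7083 : Q := sm gd N4889
def N7084 : Q := sm gi N4889
def N7085 : Q := sm gh N4890
def N7086 : Q := sm gi N4891
def N7087 : Q := sm gg N4893
def N7088 : Q := sm gh N4893
def N7089 : Q := sm gf N4894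
def N7090 : Q := sm gj N4894
def N7091 : Q := sm gh N4894
def N7092 : Q := sm gd N4895
def N7093 : Q := sm gi N4895
def N7094 : Q := sm gh N4896
def N7095 : Q := sm gi N4897
def N7096 : Q := sm gj N4899
def N7097 : Q := sm gh N4899
def N7098 : Q := sm gh N4900
def N7099 : Q := sm gd N4901
def N7100 : Q := sm gi N4901
def N7101 : Q := sm gc N4902
def N7102 : Q := sm gi N4902
def N7103 : Q := sm gi N4904
def N7104 : Q := sm gg N4906
def N7105 : Q := sm gh N4906
def N7106 : Q := sm gd N4907
def N7107 : Q := sm gi N4907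
def N7108 : Q := sm gd N4908
def N7109 : Q := sm gi N4908
def N7110 : Q := sm gc N4909
def N7111 : Q := sm gi N4909
def N7112 : Q := sm gb N4911
def N7113 : Q := sm gi N4911
def N7114 : Q := sm gh N4912
def N7115 : Q := sm gb N4914
def N7116 : Q := sm gf N4914
def N7117 : Q := sm gh N4914
def N7118 : Q := sm ge N4915
def N7119 : Q := sm gg N4915
def N7120 : Q := sm gh N4915
def N7121 : Q := sm gi N4916
def N7122 : Q := sm gj N4917
def N7123 : Q := sm ge N4918
def N7124 : Q := sm gg N4918
def N7125 : Q := sm gh N4918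
def N7126 : Q := sm gd N4919
def N7127 : Q := sm gi N4919
def N7128 : Q := sm gg N4920
def N7129 : Q := sm gh N4920
def N7130 : Q := sm gj N4921
def N7131 : Q := sm gh N4921
def N7132 : Q := sm gi N4922
def N7133 : Q := sm gf N4925
def N7134 : Q := sm gj N4925
def N7135 : Q := sm gh N4925
def N7136 : Q := sm gd N4926
def N7137 : Q := sm gi N4926
def N7138 : Q := sm gh N4927
def N7139 : Q := sm gi N4928
def N7140 : Q := sm gf N4930
def N7141 : Q := sm gh N4930
def N7142 : Q := sm ge N4931
def N7143 : Q := sm gg N4931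
def N7144 : Q := sm gh N4931
def N7145 : Q := sm gd N4932
def N7146 : Q := sm gi N4932
def N7147 : Q := sm gg N4933
def N7148 : Q := sm gh N4933
def N7149 : Q := sm gj N4934
def N7150 : Q := sm gh N4934
def N7151 : Q := sm gi N4935
def N7152 : Q := sm gd N4938
def N7153 : Q := sm gg N4938
def N7154 : Q := sm gh N4938
def N7155 : Q := sm gj N4939
def N7156 : Q := sm gh N4939
def N7157 : Q := sm gd N4940
def N7158 : Q := sm gi N4940
def N7159 : Q := sm ge N4941
def N7160 : Q := sm gi N4941
def N7161 : Q := sm gf N4943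
def N7162 : Q := sm gj N4943
def N7163 : Q := sm gh N4943
def N7164 : Q := sm gd N4944
def N7165 : Q := sm gi N4944
def N7166 : Q := sm gh N4945
def N7167 : Q := sm gi N4946
def N7168 : Q := sm gj N4948
def N7169 : Q := sm gh N4948
def N7170 : Q := sm gh N4949
def N7171 : Q := sm gd N4950
def N7172 : Q := sm gi N4950
def N7173 : Q := sm gc N4951
def N7174 : Q := sm gi N4951
def N7175 : Q := sm gi N4953
def N7176 : Q := sm ge N4955
def N7177 : Q := sm gg N4955
def N7178 : Q := sm gh N4955
def N7179 : Q := sm gd N4956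
def N7180 : Q := sm gi N4956
def N7181 : Q := sm gg N4957
def N7182 : Q := sm gh N4957
def N7183 : Q := sm gj N4958
def N7184 : Q := sm gh N4958
def N7185 : Q := sm gd N4959
def N7186 : Q := sm gi N4959
def N7187 : Q := sm ge N4960
def N7188 : Q := sm gi N4960
def N7189 : Q := sm gf N4962
def N7190 : Q := sm gj N4962
def N7191 : Q := sm gh N4962
def N7192 : Q := sm gd N4963
def N7193 : Q := sm gi N4963
def N7194 : Q := sm gh N4964
def N7195 : Q := sm gi N4965
def N7196 : Q := sm gf N4967
def N7197 : Q := sm gj N4967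
def N7198 : Q := sm gh N4967
def N7199 : Q := sm gd N4968
def N7200 : Q := sm gi N4968
def N7201 : Q := sm gh N4969
def N7202 : Q := sm gd N4970
def N7203 : Q := sm gi N4970
def N7204 : Q := sm ge N4971
def N7205 : Q := sm gi N4971
def N7206 : Q := sm gf N4973
def N7207 : Q := sm gi N4973
def N7208 : Q := sm gh N4974
def N7209 : Q := sm gj N4975
def N7210 : Q := sm gh N4975
def N7211 : Q := sm gh N4976
def N7212 : Q := sm gd N4977
def N7213 : Q := sm gi N4977
def N7214 : Q := sm gc N4978
def N7215 : Q := sm gi N4978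
def N7216 : Q := sm gi N4980
def N7217 : Q := sm gg N4982
def N7218 : Q := sm gh N4982
def N7219 : Q := sm gd N4983
def N7220 : Q := sm gi N4983
def N7221 : Q := sm gd N4984
def N7222 : Q := sm gi N4984
def N7223 : Q := sm gc N4985
def N7224 : Q := sm gi N4985
def N7225 : Q := sm gb N4987
def N7226 : Q := sm gi N4987
def N7227 : Q := sm gh N4988
def N7228 : Q := sm gj N4990
def N7229 : Q := sm gh N4990
def N7230 : Q := sm gh N4991
def N7231 : Q := sm gd N4992
def N7232 : Q := sm gi N4992
def N7233 : Q := sm gc N4993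
def N7234 : Q := sm gi N4993
def N7235 : Q := sm gi N4995
def N7236 : Q := sm gg N4997
def N7237 : Q := sm gh N4997
def N7238 : Q := sm gd N4998
def N7239 : Q := sm gi N4998
def N7240 : Q := sm gd N4999
def N7241 : Q := sm gi N4999
def N7242 : Q := sm gc N5000
def N7243 : Q := sm gi N5000
def N7244 : Q := sm gb N5002
def N7245 : Q := sm gi N5002
def N7246 : Q := sm gh N5003
def N7247 : Q := sm gh N5005
def N7248 : Q := sm gd N5006
def N7249 : Q := sm gi N5006
def N7250 : Q := sm gc N5007
def N7251 : Q := sm ge N5007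
def N7252 : Q := sm gi N5007
def N7253 : Q := sm gc N5009
def N7254 : Q := sm gi N5009
def N7255 : Q := sm gb N5011
def N7256 : Q := sm gi N5011
def N7257 : Q := sm gh N5012
def N7258 : Q := sm ga N5013
def N7259 : Q := sm gi N5013
def N7260 : Q := sm gh N5014
def N7261 : Q := sm gd N5016
def N7263 : Q := sm gc N5017
def N7266 : Q := sm gb N5019
def N7267 : Q := sm ge N5019
def N7268 : Q := sm gi N5019
def N7271 : Q := sm gb N5022
def N7272 : Q := sm gi N5022
def N7274 : Q := sm ga N5024
def N7275 : Q := sm gi N5024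
def N7276 : Q := sm gh N5025
def N7277 : Q := sm gi N5027
def N7278 : Q := sm gh N5028
def N7279 : Q := sm gd N5029
def N7280 : Q := sm ge N5030
def N7281 : Q := sm gh N5030
def N7282 : Q := sm gi N5030
def N7283 : Q := sm gi N5031
def N7284 : Q := sm gh N5032
def N7285 : Q := sm gh N5033
def N7286 : Q := sm gd N5034
def N7287 : Q := sm gc N5035
def N7289 : Q := sm gd N5036
def N7290 : Q := sm gc N5037
def N7291 : Q := sm ge N5037
def N7292 : Q := sm gb N5038
def N7293 : Q := sm ge N5038
def N7294 : Q := sm gf N5039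
def N7295 : Q := sm ga N5040
def N7296 : Q := sm ge N5040
def N7297 : Q := sm gd N5041
def N7298 : Q := sm gf N5041
def N7299 : Q := sm gg N5042
def N7300 : Q := sm ge N5043
def N7301 : Q := sm gd N5044
def N7302 : Q := sm gf N5044
def N7303 : Q := sm gf N5045
def N7304 : Q := sm gh N5045
def N7305 : Q := sm gg N5046
def N7306 : Q := sm gj N5047
def N7307 : Q := sm gh N5048
def N7308 : Q := sm gd N5049
def N7309 : Q := sm gc N5050
def N7311 : Q := sm gb N5051
def N7312 : Q := sm ge N5051
def N7313 : Q := sm gf N5052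
def N7314 : Q := sm gb N5053
def N7315 : Q := sm ge N5053
def N7316 : Q := sm gf N5054
def N7317 : Q := sm ga N5055
def N7318 : Q := sm ge N5055
def N7319 : Q := sm gd N5056
def N7320 : Q := sm gf N5056
def N7321 : Q := sm gg N5057
def N7322 : Q := sm ge N5058
def N7323 : Q := sm gd N5059
def N7324 : Q := sm gf N5059
def N7325 : Q := sm gf N5060
def N7326 : Q := sm gh N5060
def N7327 : Q := sm gg N5061
def N7328 : Q := sm gj N5062
def N7329 : Q := sm gd N5063
def N7330 : Q := sm gf N5063
def N7331 : Q := sm gc N5064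
def N7332 : Q := sm gf N5064
def N7333 : Q := sm gh N5064
def N7334 : Q := sm gg N5065
def N7335 : Q := sm ge N5066
def N7336 : Q := sm gg N5066
def N7337 : Q := sm gh N5066
def N7338 : Q := sm gi N5067
def N7339 : Q := sm gj N5068
def N7340 : Q := sm gd N5070
def N7341 : Q := sm gc N5071
def N7343 : Q := sm gb N5072
def N7344 : Q := sm ge N5072
def N7346 : Q := sm ga N5074
def N7347 : Q := sm ge N5074
def N7348 : Q := sm gd N5075
def N7349 : Q := sm gf N5075
def N7351 : Q := sm ga N5077
def N7352 : Q := sm ge N5077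
def N7353 : Q := sm gd N5078
def N7354 : Q := sm gf N5078
def N7355 : Q := sm gg N5079
def N7356 : Q := sm ge N5080
def N7357 : Q := sm gd N5081
def N7358 : Q := sm gf N5081
def N7359 : Q := sm gf N5082
def N7361 : Q := sm gg N5083
def N7362 : Q := sm gj N5084
def N7363 : Q := sm gd N5085
def N7364 : Q := sm gf N5085
def N7365 : Q := sm gc N5086
def N7366 : Q := sm gf N5086
def N7367 : Q := sm gh N5086
def N7368 : Q := sm gg N5087
def N7369 : Q := sm ge N5088
def N7370 : Q := sm gg N5088
def N7371 : Q := sm gh N5088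
def N7373 : Q := sm gj N5090
def N7374 : Q := sm gc N5092
def N7375 : Q := sm gf N5092
def N7376 : Q := sm gh N5092
def N7377 : Q := sm gg N5093
def N7378 : Q := sm gf N5094
def N7379 : Q := sm gh N5094
def N7380 : Q := sm ge N5095
def N7381 : Q := sm gg N5095
def N7382 : Q := sm gh N5095
def N7383 : Q := sm gi N5096
def N7384 : Q := sm gj N5097
def N7385 : Q := sm gg N5098
def N7386 : Q := sm gh N5098
def N7388 : Q := sm gh N5099
def N7389 : Q := sm gi N5100
def N7390 : Q := sm ga N5103
def N7391 : Q := sm ge N5103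
def N7392 : Q := sm gd N5104
def N7393 : Q := sm gf N5104
def N7395 : Q := sm ge N5106
def N7396 : Q := sm gd N5107
def N7397 : Q := sm gf N5107
def N7398 : Q := sm gf N5108
def N7399 : Q := sm gh N5108
def N7400 : Q := sm gg N5109
def N7401 : Q := sm gj N5110
def N7402 : Q := sm gd N5111
def N7403 : Q := sm gf N5111
def N7404 : Q := sm gc N5112
def N7405 : Q := sm gf N5112
def N7406 : Q := sm gh N5112
def N7407 : Q := sm gg N5113
def N7408 : Q := sm ge N5114
def N7409 : Q := sm gg N5114
def N7410 : Q := sm gh N5114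
def N7411 : Q := sm gi N5115
def N7412 : Q := sm gj N5116
def N7413 : Q := sm gc N5118
def N7414 : Q := sm gf N5118
def N7415 : Q := sm gh N5118
def N7416 : Q := sm gg N5119
def N7417 : Q := sm gf N5120
def N7418 : Q := sm gh N5120
def N7419 : Q := sm ge N5121
def N7420 : Q := sm gg N5121
def N7421 : Q := sm gh N5121
def N7422 : Q := sm gi N5122
def N7423 : Q := sm gj N5123
def N7424 : Q := sm gg N5124
def N7425 : Q := sm gh N5124
def N7426 : Q := sm gj N5125
def N7427 : Q := sm gh N5125
def N7428 : Q := sm gi N5126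
def N7429 : Q := sm ge N5129
def N7430 : Q := sm gd N5130
def N7431 : Q := sm gf N5130
def N7432 : Q := sm gf N5131
def N7433 : Q := sm gh N5131
def N7435 : Q := sm gj N5133
def N7436 : Q := sm gd N5134
def N7437 : Q := sm gf N5134
def N7438 : Q := sm gc N5135
def N7439 : Q := sm gf N5135
def N7440 : Q := sm gh N5135
def N7441 : Q := sm gg N5136
def N7442 : Q := sm ge N5137
def N7443 : Q := sm gg N5137
def N7446 : Q := sm gj N5139
def N7447 : Q := sm gc N5141
def N7448 : Q := sm gf N5141
def N7449 : Q := sm gh N5141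
def N7450 : Q := sm gg N5142
def N7451 : Q := sm gf N5143
def N7452 : Q := sm gh N5143
def N7453 : Q := sm ge N5144
def N7454 : Q := sm gg N5144
def N7455 : Q := sm gh N5144
def N7456 : Q := sm gi N5145
def N7457 : Q := sm gj N5146
def N7458 : Q := sm gg N5147
def N7459 : Q := sm gh N5147
def N7460 : Q := sm gj N5148
def N7461 : Q := sm gh N5148
def N7462 : Q := sm gi N5149
def N7463 : Q := sm gb N5152
def N7464 : Q := sm gf N5152
def N7465 : Q := sm gh N5152
def N7466 : Q := sm ge N5153
def N7467 : Q := sm gg N5153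
def N7468 : Q := sm gh N5153
def N7469 : Q := sm gi N5154
def N7470 : Q := sm gj N5155
def N7471 : Q := sm ge N5156
def N7472 : Q := sm gg N5156
def N7473 : Q := sm gh N5156
def N7474 : Q := sm gd N5157
def N7475 : Q := sm gi N5157
def N7476 : Q := sm gg N5158
def N7477 : Q := sm gh N5158
def N7478 : Q := sm gj N5159
def N7479 : Q := sm gh N5159
def N7480 : Q := sm gi N5160
def N7481 : Q := sm gf N5163
def N7482 : Q := sm gj N5163
def N7483 : Q := sm gh N5163
def N7484 : Q := sm gd N5164
def N7485 : Q := sm gi N5164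
def N7486 : Q := sm gh N5165
def N7487 : Q := sm gi N5166
def N7488 : Q := sm gd N5168
def N7490 : Q := sm gc N5169
def N7491 : Q := sm gf N5169
def N7492 : Q := sm gh N5169
def N7493 : Q := sm gg N5170
def N7494 : Q := sm ge N5171
def N7495 : Q := sm gg N5171
def N7496 : Q := sm gh N5171
def N7497 : Q := sm gi N5172
def N7499 : Q := sm gc N5175
def N7500 : Q := sm gf N5175
def N7501 : Q := sm gh N5175
def N7503 : Q := sm gf N5177
def N7504 : Q := sm gh N5177
def N7505 : Q := sm ge N5178
def N7506 : Q := sm gg N5178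
def N7507 : Q := sm gh N5178
def N7508 : Q := sm gi N5179
def N7509 : Q := sm gj N5180
def N7510 : Q := sm gg N5181
def N7511 : Q := sm gh N5181
def N7512 : Q := sm gj N5182
def N7513 : Q := sm gh N5182
def N7515 : Q := sm gb N5186
def N7516 : Q := sm gf N5186
def N7517 : Q := sm gh N5186
def N7518 : Q := sm ge N5187
def N7519 : Q := sm gg N5187
def N7522 : Q := sm gj N5189
def N7523 : Q := sm ge N5190
def N7524 : Q := sm gg N5190
def N7525 : Q := sm gh N5190
def N7526 : Q := sm gd N5191
def N7527 : Q := sm gi N5191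
def N7528 : Q := sm gg N5192
def N7529 : Q := sm gh N5192
def N7530 : Q := sm gj N5193
def N7531 : Q := sm gh N5193
def N7532 : Q := sm gi N5194
def N7533 : Q := sm gf N5197
def N7534 : Q := sm gj N5197
def N7535 : Q := sm gh N5197
def N7536 : Q := sm gd N5198
def N7537 : Q := sm gi N5198
def N7538 : Q := sm gh N5199
def N7539 : Q := sm gi N5200
def N7540 : Q := sm gf N5202
def N7541 : Q := sm gh N5202
def N7542 : Q := sm ge N5203
def N7543 : Q := sm gg N5203
def N7544 : Q := sm gh N5203
def N7545 : Q := sm gd N5204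
def N7546 : Q := sm gi N5204
def N7547 : Q := sm gg N5205
def N7548 : Q := sm gh N5205
def N7549 : Q := sm gj N5206
def N7550 : Q := sm gh N5206
def N7551 : Q := sm gi N5207
def N7552 : Q := sm gd N5210
def N7553 : Q := sm gg N5210
def N7554 : Q := sm gh N5210
def N7555 : Q := sm gj N5211
def N7556 : Q := sm gh N5211
def N7557 : Q := sm gd N5212
def N7558 : Q := sm gi N5212
def N7559 : Q := sm ge N5213
def N7560 : Q := sm gi N5213
def N7561 : Q := sm gf N5215
def N7562 : Q := sm gj N5215
def N7563 : Q := sm gh N5215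
def N7564 : Q := sm gd N5216
def N7565 : Q := sm gi N5216
def N7566 : Q := sm gh N5217
def N7567 : Q := sm gi N5218
def N7568 : Q := sm gj N5220
def N7569 : Q := sm gh N5220
def N7570 : Q := sm gh N5221
def N7571 : Q := sm gd N5222
def N7572 : Q := sm gi N5222
def N7573 : Q := sm gi N5223
def N7574 : Q := sm gi N5225
def N7575 : Q := sm gc N5227
def N7576 : Q := sm gf N5227
def N7578 : Q := sm gg N5228
def N7579 : Q := sm gf N5229
def N7580 : Q := sm gh N5229
def N7581 : Q := sm ge N5230
def N7582 : Q := sm gg N5230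
def N7583 : Q := sm gh N5230
def N7585 : Q := sm gj N5232
def N7586 : Q := sm gg N5233
def N7587 : Q := sm gh N5233
def N7588 : Q := sm gj N5234
def N7589 : Q := sm gh N5234
def N7590 : Q := sm gi N5235
def N7591 : Q := sm gb N5238
def N7592 : Q := sm gf N5238
def N7593 : Q := sm gh N5238
def N7594 : Q := sm ge N5239
def N7595 : Q := sm gg N5239
def N7596 : Q := sm gh N5239
def N7598 : Q := sm gj N5241
def N7599 : Q := sm ge N5242
def N7600 : Q := sm gg N5242
def N7601 : Q := sm gh N5242
def N7602 : Q := sm gd N5243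
def N7603 : Q := sm gi N5243
def N7604 : Q := sm gg N5244
def N7605 : Q := sm gh N5244
def N7606 : Q := sm gj N5245
def N7607 : Q := sm gh N5245
def N7608 : Q := sm gi N5246
def N7609 : Q := sm gf N5249
def N7610 : Q := sm gj N5249
def N7611 : Q := sm gh N5249
def N7612 : Q := sm gd N5250
def N7613 : Q := sm gi N5250
def N7615 : Q := sm gi N5252
def N7616 : Q := sm gb N5254
def N7617 : Q := sm gf N5254
def N7618 : Q := sm gh N5254
def N7619 : Q := sm ge N5255
def N7620 : Q := sm gg N5255
def N7621 : Q := sm gh N5255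
def N7623 : Q := sm gj N5257
def N7624 : Q := sm ge N5258
def N7625 : Q := sm gg N5258
def N7626 : Q := sm gh N5258
def N7627 : Q := sm gd N5259
def N7628 : Q := sm gi N5259
def N7629 : Q := sm gg N5260
def N7630 : Q := sm gh N5260
def N7631 : Q := sm gj N5261
def N7632 : Q := sm gh N5261
def N7633 : Q := sm gi N5262
def N7634 : Q := sm gf N5265
def N7635 : Q := sm gj N5265
def N7636 : Q := sm gh N5265
def N7637 : Q := sm gd N5266
def N7638 : Q := sm gi N5266
def N7639 : Q := sm gh N5267
def N7640 : Q := sm gi N5268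
def N7641 : Q := sm gf N5270
def N7642 : Q := sm gh N5270
def N7643 : Q := sm ge N5271
def N7644 : Q := sm gg N5271
def N7645 : Q := sm gh N5271
def N7646 : Q := sm gd N5272
def N7648 : Q := sm gg N5273
def N7649 : Q := sm gh N5273
def N7650 : Q := sm gj N5274
def N7651 : Q := sm gh N5274
def N7653 : Q := sm gd N5278
def N7654 : Q := sm gg N5278
def N7655 : Q := sm gh N5278
def N7656 : Q := sm gj N5279
def N7657 : Q := sm gh N5279
def N7658 : Q := sm gd N5280
def N7659 : Q := sm gi N5280
def N7660 : Q := sm ge N5281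
def N7661 : Q := sm gi N5281
def N7662 : Q := sm gf N5283
def N7663 : Q := sm gj N5283
def N7664 : Q := sm gh N5283
def N7665 : Q := sm gd N5284
def N7667 : Q := sm gh N5285
def N7668 : Q := sm gi N5286
def N7669 : Q := sm gj N5288
def N7670 : Q := sm gh N5288
def N7671 : Q := sm gh N5289
def N7672 : Q := sm gd N5290
def N7673 : Q := sm gi N5290
def N7674 : Q := sm gc N5291
def N7675 : Q := sm gi N5291
def N7676 : Q := sm gi N5293
def N7677 : Q := sm gf N5295
def N7678 : Q := sm gh N5295
def N7679 : Q := sm ge N5296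
def N7680 : Q := sm gg N5296
def N7681 : Q := sm gh N5296
def N7682 : Q := sm gd N5297
def N7684 : Q := sm gg N5298
def N7685 : Q := sm gh N5298
def N7686 : Q := sm gj N5299
def N7687 : Q := sm gh N5299
def N7689 : Q := sm gd N5303
def N7690 : Q := sm gg N5303
def N7691 : Q := sm gh N5303
def N7692 : Q := sm gj N5304
def N7693 : Q := sm gh N5304
def N7694 : Q := sm gd N5305
def N7695 : Q := sm gi N5305
def N7696 : Q := sm ge N5306
def N7697 : Q := sm gi N5306
def N7698 : Q := sm gf N5308
def N7699 : Q := sm gj N5308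
def N7700 : Q := sm gh N5308
def N7701 : Q := sm gd N5309
def N7702 : Q := sm gi N5309
def N7703 : Q := sm gh N5310
def N7704 : Q := sm gi N5311
def N7705 : Q := sm gj N5313
def N7706 : Q := sm gh N5313
def N7707 : Q := sm gh N5314
def N7708 : Q := sm gd N5315
def N7709 : Q := sm gi N5315
def N7710 : Q := sm gc N5316
def N7711 : Q := sm gi N5316
def N7712 : Q := sm gi N5318
def N7713 : Q := sm ge N5320
def N7714 : Q := sm gg N5320
def N7715 : Q := sm gh N5320
def N7716 : Q := sm gd N5321
def N7718 : Q := sm gd N5322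
def N7719 : Q := sm gg N5322
def N7720 : Q := sm gh N5322
def N7721 : Q := sm gj N5323
def N7722 : Q := sm gh N5323
def N7723 : Q := sm gd N5324
def N7725 : Q := sm ge N5325
def N7727 : Q := sm gf N5327
def N7728 : Q := sm gj N5327
def N7729 : Q := sm gh N5327
def N7731 : Q := sm gh N5329
def N7733 : Q := sm gg N5332
def N7734 : Q := sm gh N5332
def N7735 : Q := sm gf N5333
def N7736 : Q := sm gj N5333
def N7737 : Q := sm gh N5333
def N7738 : Q := sm gd N5334
def N7739 : Q := sm gi N5334
def N7740 : Q := sm gh N5335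
def N7741 : Q := sm gd N5336
def N7742 : Q := sm gi N5336
def N7743 : Q := sm ge N5337
def N7744 : Q := sm gi N5337
def N7745 : Q := sm gf N5339
def N7746 : Q := sm gi N5339
def N7747 : Q := sm gh N5340
def N7748 : Q := sm gj N5341
def N7749 : Q := sm gh N5341
def N7750 : Q := sm gh N5342
def N7751 : Q := sm gi N5343
def N7752 : Q := sm gi N5345
def N7753 : Q := sm gg N5347
def N7756 : Q := sm gi N5349
def N7757 : Q := sm ge N5352
def N7758 : Q := sm gg N5352
def N7759 : Q := sm gh N5352
def N7761 : Q := sm gd N5354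
def N7762 : Q := sm gg N5354
def N7763 : Q := sm gh N5354
def N7764 : Q := sm gj N5355
def N7765 : Q := sm gh N5355
def N7767 : Q := sm ge N5357
def N7768 : Q := sm gf N5358
def N7769 : Q := sm gj N5358
def N7770 : Q := sm gh N5358
def N7771 : Q := sm gd N5359
def N7772 : Q := sm gh N5360
def N7773 : Q := sm gg N5362
def N7774 : Q := sm gh N5362
def N7775 : Q := sm gf N5363
def N7776 : Q := sm gj N5363
def N7777 : Q := sm gh N5363
def N7778 : Q := sm gd N5364
def N7779 : Q := sm gh N5365
def N7780 : Q := sm gd N5366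
def N7781 : Q := sm ge N5367
def N7782 : Q := sm gf N5368
def N7783 : Q := sm gj N5369
def N7784 : Q := sm gh N5369
def N7785 : Q := sm gh N5370
def N7786 : Q := sm gd N5371
def N7787 : Q := sm gc N5372
def N7788 : Q := sm gg N5374
def N7789 : Q := sm gh N5374
def N7790 : Q := sm gd N5375
def N7791 : Q := sm gd N5376
def N7792 : Q := sm gc N5377
def N7793 : Q := sm gb N5378
def N7794 : Q := sm gd N5379
def N7795 : Q := sm gg N5379
def N7796 : Q := sm gj N5380
def N7797 : Q := sm gg N5381
def N7798 : Q := sm gh N5381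
def N7799 : Q := sm gf N5382
def N7800 : Q := sm gj N5382
def N7801 : Q := sm gj N5384
def N7802 : Q := sm gf N5386
def N7803 : Q := sm gj N5386
def N7804 : Q := sm gh N5386
def N7805 : Q := sm gi N5387
def N7806 : Q := sm gj N5388
def N7808 : Q := sm gf N5392
def N7809 : Q := sm gh N5392
def N7810 : Q := sm ge N5393
def N7811 : Q := sm gg N5393
def N7812 : Q := sm gh N5393
def N7813 : Q := sm gd N5394
def N7815 : Q := sm gg N5395
def N7816 : Q := sm gh N5395
def N7817 : Q := sm gj N5396
def N7818 : Q := sm gh N5396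
def N7820 : Q := sm gd N5400
def N7821 : Q := sm gg N5400
def N7822 : Q := sm gh N5400
def N7823 : Q := sm gj N5401
def N7824 : Q := sm gh N5401
def N7825 : Q := sm gd N5402
def N7826 : Q := sm gi N5402
def N7827 : Q := sm ge N5403
def N7828 : Q := sm gi N5403
def N7829 : Q := sm gf N5405
def N7830 : Q := sm gj N5405
def N7831 : Q := sm gh N5405
def N7832 : Q := sm gd N5406
def N7833 : Q := sm gi N5406
def N7834 : Q := sm gh N5407
def N7835 : Q := sm gi N5408
def N7836 : Q := sm gj N5410
def N7837 : Q := sm gh N5410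
def N7838 : Q := sm gh N5411
def N7839 : Q := sm gd N5412
def N7840 : Q := sm gi N5412
def N7841 : Q := sm gc N5413
def N7842 : Q := sm gi N5413
def N7843 : Q := sm gi N5415
def N7844 : Q := sm ge N5417
def N7845 : Q := sm gg N5417
def N7846 : Q := sm gh N5417
def N7847 : Q := sm gd N5418
def N7849 : Q := sm gd N5419
def N7850 : Q := sm gg N5419
def N7851 : Q := sm gh N5419
def N7852 : Q := sm gj N5420
def N7853 : Q := sm gh N5420
def N7854 : Q := sm gd N5421
def N7856 : Q := sm ge N5422
def N7857 : Q := sm gi N5422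
def N7858 : Q := sm gj N5424
def N7859 : Q := sm gh N5424
def N7860 : Q := sm gd N5425
def N7862 : Q := sm gh N5426
def N7864 : Q := sm gg N5429
def N7865 : Q := sm gh N5429
def N7866 : Q := sm gj N5430
def N7867 : Q := sm gh N5430
def N7868 : Q := sm gd N5431
def N7869 : Q := sm gi N5431
def N7870 : Q := sm gh N5432
def N7871 : Q := sm gd N5433
def N7872 : Q := sm gi N5433
def N7873 : Q := sm ge N5434
def N7874 : Q := sm gi N5434
def N7875 : Q := sm gf N5436
def N7876 : Q := sm gi N5436
def N7878 : Q := sm gh N5438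
def N7879 : Q := sm gd N5439
def N7880 : Q := sm gi N5439
def N7881 : Q := sm gc N5440
def N7882 : Q := sm gi N5440
def N7883 : Q := sm gi N5442
def N7884 : Q := sm gd N5444
def N7885 : Q := sm gi N5444
def N7886 : Q := sm gc N5445
def N7887 : Q := sm gi N5445
def N7888 : Q := sm gb N5447
def N7889 : Q := sm gi N5447
def N7890 : Q := sm gh N5448
def N7891 : Q := sm gj N5450
def N7892 : Q := sm gh N5450
def N7893 : Q := sm gd N5451
def N7895 : Q := sm gc N5452
def N7896 : Q := sm ge N5452
def N7898 : Q := sm gh N5454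
def N7899 : Q := sm gd N5455
def N7901 : Q := sm ge N5456
def N7902 : Q := sm gi N5456
def N7903 : Q := sm gf N5458
def N7906 : Q := sm gi N5460
def N7907 : Q := sm gd N5462
def N7908 : Q := sm gi N5462
def N7909 : Q := sm ge N5463
def N7910 : Q := sm gi N5463
def N7911 : Q := sm gf N5465
def N7912 : Q := sm gi N5465
def N7914 : Q := sm gg N5467
def N7915 : Q := sm gi N5467
def N7916 : Q := sm gh N5468
def N7917 : Q := sm ge N5471
def N7918 : Q := sm gg N5471
def N7919 : Q := sm gh N5471
def N7920 : Q := sm gd N5472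
def N7922 : Q := sm gd N5473
def N7923 : Q := sm gg N5473
def N7924 : Q := sm gh N5473
def N7925 : Q := sm gh N5474
def N7926 : Q := sm gd N5475
def N7927 : Q := sm gi N5475
def N7928 : Q := sm ge N5476
def N7929 : Q := sm gi N5476
def N7930 : Q := sm gf N5478
def N7931 : Q := sm gh N5478
def N7932 : Q := sm gd N5479
def N7933 : Q := sm gi N5479
def N7935 : Q := sm gg N5482
def N7936 : Q := sm gh N5482
def N7937 : Q := sm gf N5483
def N7938 : Q := sm gh N5483
def N7939 : Q := sm gd N5484
def N7940 : Q := sm gi N5484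
def N7941 : Q := sm gd N5485
def N7942 : Q := sm gi N5485
def N7943 : Q := sm ge N5486
def N7944 : Q := sm gi N5486
def N7945 : Q := sm gf N5488
def N7946 : Q := sm gi N5488
def N7948 : Q := sm gh N5490
def N7949 : Q := sm gd N5491
def N7950 : Q := sm gi N5491
def N7951 : Q := sm gc N5492
def N7952 : Q := sm gi N5492
def N7953 : Q := sm gd N5495
def N7954 : Q := sm gi N5495
def N7955 : Q := sm gc N5496
def N7956 : Q := sm gi N5496
def N7957 : Q := sm gb N5498
def N7958 : Q := sm gi N5498
def N7959 : Q := sm gh N5499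
def N7960 : Q := sm gd N5500
def N7961 : Q := sm gh N5500
def N7962 : Q := sm gd N5501
def N7964 : Q := sm gc N5502
def N7965 : Q := sm ge N5502
def N7967 : Q := sm gh N5504
def N7968 : Q := sm gd N5505
def N7970 : Q := sm ge N5506
def N7972 : Q := sm gf N5508
def N7973 : Q := sm gi N5508
def N7974 : Q := sm gh N5509
def N7975 : Q := sm gc N5510
def N7976 : Q := sm gi N5510
def N7977 : Q := sm gd N5512
def N7978 : Q := sm gi N5512
def N7979 : Q := sm gc N5513
def N7980 : Q := sm ge N5513
def N7982 : Q := sm gf N5515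
def N7983 : Q := sm gi N5515
def N7985 : Q := sm gg N5517
def N7986 : Q := sm gi N5517
def N7987 : Q := sm gh N5518
def N7988 : Q := sm gb N5520
def N7989 : Q := sm gi N5520
def N7991 : Q := sm ga N5522
def N7992 : Q := sm gi N5522
def N7993 : Q := sm gh N5523
def N7994 : Q := sm ge N5525
def N7996 : Q := sm gf N5526
def N7997 : Q := sm gi N5526
def N7999 : Q := sm gg N5528
def N8000 : Q := sm gi N5528
def N8002 : Q := sm gj N5531
def N8003 : Q := sm gi N5531
def N8004 : Q := sm gh N5532
def N8005 : Q := sm gd N5533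
def N8006 : Q := sm gf N5534
def N8007 : Q := sm gh N5534
def N8008 : Q := sm gi N5534
def N8009 : Q := sm ge N5535
def N8010 : Q := sm gh N5535
def N8011 : Q := sm gi N5535
def N8012 : Q := sm gi N5536
def N8013 : Q := sm gh N5537
def N8014 : Q := sm gh N5538
def N8015 : Q := sm gd N5539
def N8016 : Q := sm gc N5540
def N8017 : Q := sm ge N5540
def N8018 : Q := sm gh N5541
def N8019 : Q := sm gi N5541
def N8020 : Q := sm gi N5542
def N8021 : Q := sm gh N5543
def N8022 : Q := sm gh N5544
def N8023 : Q := sm gd N5545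
def N8024 : Q := sm gd N5546
def N8025 : Q := sm gc N5547
def N8026 : Q := sm ge N5547
def N8027 : Q := sm gb N5548
def N8029 : Q := sm gf N5549
def N8030 : Q := sm gc N5550
def N8031 : Q := sm ge N5550
def N8032 : Q := sm gb N5551
def N8033 : Q := sm ge N5551
def N8034 : Q := sm gf N5552
def N8035 : Q := sm ga N5553
def N8036 : Q := sm ge N5553
def N8037 : Q := sm gd N5554
def N8038 : Q := sm gf N5554
def N8039 : Q := sm gg N5555
def N8040 : Q := sm ge N5556
def N8041 : Q := sm gd N5557
def N8042 : Q := sm gf N5557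
def N8043 : Q := sm gf N5558
def N8044 : Q := sm gh N5558
def N8045 : Q := sm gg N5559
def N8046 : Q := sm gj N5560
def N8047 : Q := sm gd N5561
def N8048 : Q := sm gf N5561
def N8049 : Q := sm gc N5562
def N8050 : Q := sm gf N5562
def N8052 : Q := sm gg N5563
def N8053 : Q := sm ge N5564
def N8054 : Q := sm gg N5564
def N8055 : Q := sm gh N5564
def N8056 : Q := sm gi N5565
def N8058 : Q := sm gd N5568
def N8059 : Q := sm gi N5568
def N8061 : Q := sm gh N5570
def N8062 : Q := sm gd N5571
def N8063 : Q := sm gc N5572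
def N8064 : Q := sm ge N5572
def N8065 : Q := sm gb N5573
def N8066 : Q := sm ge N5573
def N8068 : Q := sm gd N5575
def N8069 : Q := sm gc N5576
def N8070 : Q := sm ge N5576
def N8071 : Q := sm gb N5577
def N8072 : Q := sm ge N5577
def N8073 : Q := sm gf N5578
def N8074 : Q := sm ga N5579
def N8075 : Q := sm ge N5579
def N8077 : Q := sm gf N5580
def N8078 : Q := sm gg N5581
def N8079 : Q := sm ga N5582
def N8080 : Q := sm ge N5582
def N8081 : Q := sm gd N5583
def N8082 : Q := sm gf N5583
def N8083 : Q := sm gg N5584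
def N8084 : Q := sm ge N5585
def N8085 : Q := sm gd N5586
def N8086 : Q := sm gf N5586
def N8087 : Q := sm gf N5587
def N8089 : Q := sm gg N5588
def N8090 : Q := sm gj N5589
def N8091 : Q := sm gd N5590
def N8092 : Q := sm gf N5590
def N8093 : Q := sm gc N5591
def N8094 : Q := sm gf N5591
def N8096 : Q := sm gg N5592
def N8097 : Q := sm ge N5593
def N8098 : Q := sm gg N5593
def N8099 : Q := sm gh N5593
def N8101 : Q := sm gj N5595
def N8102 : Q := sm gc N5597
def N8103 : Q := sm gf N5597
def N8104 : Q := sm gh N5597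
def N8106 : Q := sm gf N5599
def N8107 : Q := sm gh N5599
def N8108 : Q := sm ge N5600
def N8109 : Q := sm gg N5600
def N8110 : Q := sm gh N5600
def N8111 : Q := sm gi N5601
def N8112 : Q := sm gj N5602
def N8113 : Q := sm gg N5603
def N8114 : Q := sm gh N5603
def N8115 : Q := sm gj N5604
def N8116 : Q := sm gh N5604
def N8118 : Q := sm ge N5608
def N8119 : Q := sm gi N5608
def N8120 : Q := sm gh N5609
def N8121 : Q := sm gd N5610
def N8122 : Q := sm gd N5611
def N8123 : Q := sm gc N5612
def N8125 : Q := sm gb N5613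
def N8126 : Q := sm ge N5613
def N8129 : Q := sm ge N5615
def N8130 : Q := sm gd N5616
def N8131 : Q := sm gf N5616
def N8133 : Q := sm gc N5618
def N8134 : Q := sm ge N5618
def N8135 : Q := sm gb N5619
def N8137 : Q := sm gf N5620
def N8138 : Q := sm ga N5621
def N8139 : Q := sm ge N5621
def N8140 : Q := sm gd N5622
def N8142 : Q := sm gg N5623
def N8143 : Q := sm ge N5624
def N8144 : Q := sm gd N5625
def N8145 : Q := sm gf N5625
def N8146 : Q := sm gf N5626
def N8150 : Q := sm ge N5629
def N8151 : Q := sm gd N5630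
def N8153 : Q := sm gf N5631
def N8155 : Q := sm gg N5632
def N8156 : Q := sm gj N5633
def N8157 : Q := sm gd N5634
def N8158 : Q := sm gf N5634
def N8159 : Q := sm gc N5635
def N8160 : Q := sm gf N5635
def N8162 : Q := sm gg N5636
def N8163 : Q := sm ge N5637
def N8164 : Q := sm gg N5637
def N8165 : Q := sm gh N5637
def N8167 : Q := sm gj N5639
def N8168 : Q := sm gc N5641
def N8169 : Q := sm gf N5641
def N8172 : Q := sm gf N5643
def N8173 : Q := sm gh N5643
def N8174 : Q := sm ge N5644
def N8175 : Q := sm gg N5644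
def N8176 : Q := sm gh N5644
def N8178 : Q := sm gj N5646
def N8179 : Q := sm gg N5647
def N8180 : Q := sm gh N5647
def N8181 : Q := sm gj N5648
def N8182 : Q := sm gh N5648
def N8184 : Q := sm gb N5652
def N8185 : Q := sm gf N5652
def N8186 : Q := sm gh N5652
def N8187 : Q := sm ge N5653
def N8188 : Q := sm gg N5653
def N8189 : Q := sm gh N5653
def N8190 : Q := sm gi N5654
def N8192 : Q := sm ge N5656
def N8193 : Q := sm gg N5656
def N8194 : Q := sm gh N5656
def N8195 : Q := sm gd N5657
def N8196 : Q := sm gi N5657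
def N8197 : Q := sm gg N5658
def N8198 : Q := sm gh N5658
def N8199 : Q := sm gj N5659
def N8200 : Q := sm gh N5659
def N8201 : Q := sm gi N5660
def N8202 : Q := sm gf N5663
def N8203 : Q := sm gj N5663
def N8204 : Q := sm gh N5663
def N8205 : Q := sm gd N5664
def N8206 : Q := sm gi N5664
def N8207 : Q := sm gh N5665
def N8209 : Q := sm ga N5668
def N8210 : Q := sm ge N5668
def N8211 : Q := sm gd N5669
def N8212 : Q := sm gf N5669
def N8214 : Q := sm ge N5671
def N8215 : Q := sm gd N5672
def N8217 : Q := sm gf N5673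
def N8218 : Q := sm gh N5673
def N8221 : Q := sm gd N5676
def N8222 : Q := sm gf N5676
def N8223 : Q := sm gc N5677
def N8224 : Q := sm gf N5677
def N8225 : Q := sm gh N5677
def N8227 : Q := sm ge N5679
def N8228 : Q := sm gg N5679
def N8229 : Q := sm gh N5679
def N8230 : Q := sm gi N5680
def N8231 : Q := sm gj N5681
def N8232 : Q := sm gc N5683
def N8233 : Q := sm gf N5683
def N8235 : Q := sm gg N5684
def N8236 : Q := sm gf N5685
def N8237 : Q := sm gh N5685
def N8238 : Q := sm ge N5686
def N8239 : Q := sm gg N5686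
def N8240 : Q := sm gh N5686
def N8243 : Q := sm gg N5689
def N8244 : Q := sm gh N5689
def N8245 : Q := sm gj N5690
def N8246 : Q := sm gh N5690
def N8247 : Q := sm gi N5691
def N8248 : Q := sm gb N5694
def N8249 : Q := sm gf N5694
def N8250 : Q := sm gh N5694
def N8251 : Q := sm ge N5695
def N8252 : Q := sm gg N5695
def N8253 : Q := sm gh N5695
def N8255 : Q := sm gj N5697
def N8256 : Q := sm ge N5698
def N8257 : Q := sm gg N5698
def N8258 : Q := sm gh N5698
def N8261 : Q := sm gg N5700
def N8262 : Q := sm gh N5700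
def N8263 : Q := sm gj N5701
def N8264 : Q := sm gh N5701
def N8265 : Q := sm gi N5702
def N8266 : Q := sm gf N5705
def N8267 : Q := sm gj N5705
def N8268 : Q := sm gh N5705
def N8269 : Q := sm gd N5706
def N8270 : Q := sm gi N5706
def N8271 : Q := sm gh N5707
def N8273 : Q := sm ge N5710
def N8274 : Q := sm gd N5711
def N8275 : Q := sm gf N5711
def N8276 : Q := sm gf N5712
def N8277 : Q := sm gh N5712
def N8280 : Q := sm gd N5715
def N8281 : Q := sm gf N5715
def N8282 : Q := sm gc N5716
def N8283 : Q := sm gf N5716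
def N8286 : Q := sm ge N5718
def N8287 : Q := sm gg N5718
def N8291 : Q := sm gc N5722
def N8292 : Q := sm gf N5722
def N8294 : Q := sm gg N5723
def N8295 : Q := sm gf N5724
def N8296 : Q := sm gh N5724
def N8297 : Q := sm ge N5725
def N8298 : Q := sm gg N5725
def N8300 : Q := sm gi N5726
def N8302 : Q := sm gg N5728
def N8303 : Q := sm gh N5728
def N8304 : Q := sm gj N5729
def N8306 : Q := sm gi N5730
def N8307 : Q := sm gb N5733
def N8308 : Q := sm gf N5733
def N8309 : Q := sm gh N5733
def N8310 : Q := sm ge N5734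
def N8311 : Q := sm gg N5734
def N8312 : Q := sm gh N5734
def N8313 : Q := sm gi N5735
def N8314 : Q := sm gj N5736
def N8315 : Q := sm ge N5737
def N8316 : Q := sm gg N5737
def N8318 : Q := sm gd N5738
def N8320 : Q := sm gg N5739
def N8322 : Q := sm gj N5740
def N8323 : Q := sm gh N5740
def N8324 : Q := sm gi N5741
def N8325 : Q := sm gf N5744
def N8326 : Q := sm gj N5744
def N8327 : Q := sm gh N5744
def N8328 : Q := sm gd N5745
def N8329 : Q := sm gi N5745
def N8330 : Q := sm gh N5746
def N8331 : Q := sm gi N5747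
def N8332 : Q := sm gf N5749
def N8334 : Q := sm ge N5750
def N8335 : Q := sm gg N5750
def N8336 : Q := sm gh N5750
def N8337 : Q := sm gd N5751
def N8338 : Q := sm gi N5751
def N8339 : Q := sm gg N5752
def N8340 : Q := sm gh N5752
def N8342 : Q := sm gh N5753
def N8344 : Q := sm gd N5757
def N8345 : Q := sm gg N5757
def N8346 : Q := sm gh N5757
def N8347 : Q := sm gj N5758
def N8348 : Q := sm gh N5758
def N8353 : Q := sm gf N5762
def N8354 : Q := sm gj N5762
def N8355 : Q := sm gh N5762
def N8356 : Q := sm gd N5763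
def N8357 : Q := sm gi N5763
def N8358 : Q := sm gh N5764
def N8359 : Q := sm gi N5765
def N8360 : Q := sm gj N5767
def N8361 : Q := sm gh N5767
def N8362 : Q := sm gh N5768
def N8363 : Q := sm gd N5769
def N8364 : Q := sm gi N5769
def N8365 : Q := sm gc N5770
def N8366 : Q := sm gi N5770
def N8368 : Q := sm gd N5774
def N8370 : Q := sm gc N5775
def N8371 : Q := sm gf N5775
def N8373 : Q := sm gg N5776
def N8374 : Q := sm ge N5777
def N8375 : Q := sm gg N5777
def N8376 : Q := sm gh N5777
def N8377 : Q := sm gi N5778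
def N8378 : Q := sm gj N5779
def N8379 : Q := sm gc N5781
def N8380 : Q := sm gf N5781
def N8381 : Q := sm gh N5781
def N8383 : Q := sm gf N5783
def N8384 : Q := sm gh N5783
def N8385 : Q := sm ge N5784
def N8386 : Q := sm gg N5784
def N8387 : Q := sm gh N5784
def N8390 : Q := sm gg N5787
def N8391 : Q := sm gh N5787
def N8392 : Q := sm gj N5788
def N8393 : Q := sm gh N5788
def N8394 : Q := sm gi N5789
def N8395 : Q := sm gb N5792
def N8396 : Q := sm gf N5792
def N8398 : Q := sm ge N5793
def N8399 : Q := sm gg N5793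
def N8400 : Q := sm gh N5793
def N8403 : Q := sm ge N5796
def N8404 : Q := sm gg N5796
def N8405 : Q := sm gh N5796
def N8406 : Q := sm gd N5797
def N8410 : Q := sm gj N5799
def N8411 : Q := sm gh N5799
def N8413 : Q := sm gf N5803
def N8414 : Q := sm gj N5803
def N8415 : Q := sm gh N5803
def N8416 : Q := sm gd N5804
def N8417 : Q := sm gi N5804
def N8418 : Q := sm gh N5805
def N8420 : Q := sm gf N5808
def N8421 : Q := sm gh N5808
def N8422 : Q := sm ge N5809
def N8423 : Q := sm gg N5809
def N8425 : Q := sm gd N5810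
def N8426 : Q := sm gi N5810
def N8427 : Q := sm gg N5811
def N8428 : Q := sm gh N5811
def N8430 : Q := sm gh N5812
def N8432 : Q := sm gd N5816
def N8433 : Q := sm gg N5816
def N8434 : Q := sm gh N5816
def N8435 : Q := sm gj N5817
def N8436 : Q := sm gh N5817
def N8437 : Q := sm gd N5818
def N8438 : Q := sm gi N5818
def N8439 : Q := sm ge N5819
def N8440 : Q := sm gi N5819
def N8441 : Q := sm gf N5821
def N8442 : Q := sm gj N5821
def N8443 : Q := sm gh N5821
def N8444 : Q := sm gd N5822
def N8445 : Q := sm gi N5822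
def N8446 : Q := sm gh N5823
def N8448 : Q := sm gj N5826
def N8449 : Q := sm gh N5826
def N8450 : Q := sm gh N5827
def N8451 : Q := sm gd N5828
def N8453 : Q := sm gc N5829
def N8456 : Q := sm ge N5833
def N8457 : Q := sm gg N5833
def N8461 : Q := sm gd N5835
def N8462 : Q := sm gg N5835
def N8463 : Q := sm gh N5835
def N8464 : Q := sm gj N5836
def N8468 : Q := sm ge N5838
def N8470 : Q := sm gf N5840
def N8471 : Q := sm gj N5840
def N8472 : Q := sm gh N5840
def N8473 : Q := sm gd N5841
def N8475 : Q := sm gh N5842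
def N8477 : Q := sm gg N5845
def N8478 : Q := sm gh N5845
def N8479 : Q := sm gf N5846
def N8480 : Q := sm gj N5846
def N8481 : Q := sm gh N5846
def N8482 : Q := sm gd N5847
def N8483 : Q := sm gi N5847
def N8484 : Q := sm gh N5848
def N8485 : Q := sm gd N5849
def N8486 : Q := sm gi N5849
def N8487 : Q := sm ge N5850
def N8489 : Q := sm gf N5852
def N8492 : Q := sm gj N5854
def N8493 : Q := sm gh N5854
def N8494 : Q := sm gh N5855
def N8495 : Q := sm gd N5856
def N8496 : Q := sm gi N5856
def N8499 : Q := sm gi N5859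
def N8500 : Q := sm gg N5861
def N8501 : Q := sm gh N5861
def N8502 : Q := sm gd N5862
def N8503 : Q := sm gi N5862
def N8504 : Q := sm gd N5863
def N8506 : Q := sm gi N5864
def N8508 : Q := sm gb N5868
def N8509 : Q := sm gf N5868
def N8510 : Q := sm gh N5868
def N8511 : Q := sm ge N5869
def N8512 : Q := sm gg N5869
def N8514 : Q := sm gi N5870
def N8515 : Q := sm gj N5871
def N8516 : Q := sm ge N5872
def N8517 : Q := sm gg N5872
def N8518 : Q := sm gh N5872
def N8519 : Q := sm gd N5873
def N8521 : Q := sm gg N5874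
def N8522 : Q := sm gh N5874
def N8523 : Q := sm gj N5875
def N8526 : Q := sm gf N5879
def N8527 : Q := sm gj N5879
def N8528 : Q := sm gh N5879
def N8529 : Q := sm gd N5880
def N8530 : Q := sm gi N5880
def N8532 : Q := sm gi N5882
def N8533 : Q := sm gf N5884
def N8534 : Q := sm gh N5884
def N8535 : Q := sm ge N5885
def N8536 : Q := sm gg N5885
def N8538 : Q := sm gd N5886
def N8540 : Q := sm gg N5887
def N8542 : Q := sm gj N5888
def N8543 : Q := sm gh N5888
def N8544 : Q := sm gi N5889
def N8545 : Q := sm gd N5892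
def N8546 : Q := sm gg N5892
def N8547 : Q := sm gh N5892
def N8548 : Q := sm gj N5893
def N8549 : Q := sm gh N5893
def N8550 : Q := sm gd N5894
def N8551 : Q := sm gi N5894
def N8552 : Q := sm ge N5895
def N8554 : Q := sm gf N5897
def N8556 : Q := sm gh N5897
def N8557 : Q := sm gd N5898
def N8558 : Q := sm gi N5898
def N8561 : Q := sm gj N5902
def N8562 : Q := sm gh N5902
def N8563 : Q := sm gh N5903
def N8564 : Q := sm gd N5904
def N8566 : Q := sm gc N5905
def N8567 : Q := sm gi N5905
def N8569 : Q := sm gf N5909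
def N8570 : Q := sm gh N5909
def N8571 : Q := sm ge N5910
def N8572 : Q := sm gg N5910
def N8573 : Q := sm gh N5910
def N8574 : Q := sm gd N5911
def N8576 : Q := sm gg N5912
def N8577 : Q := sm gh N5912
def N8578 : Q := sm gj N5913
def N8579 : Q := sm gh N5913
def N8580 : Q := sm gi N5914
def N8581 : Q := sm gd N5917
def N8582 : Q := sm gg N5917
def N8583 : Q := sm gh N5917
def N8585 : Q := sm gh N5918
def N8586 : Q := sm gd N5919
def N8588 : Q := sm ge N5920
def N8589 : Q := sm gi N5920
def N8590 : Q := sm gf N5922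
def N8591 : Q := sm gj N5922
def N8592 : Q := sm gh N5922
def N8593 : Q := sm gd N5923
def N8597 : Q := sm gj N5927
def N8598 : Q := sm gh N5927
def N8599 : Q := sm gh N5928
def N8600 : Q := sm gd N5929
def N8601 : Q := sm gi N5929
def N8602 : Q := sm gc N5930
def N8603 : Q := sm gi N5930
def N8605 : Q := sm ge N5934
def N8606 : Q := sm gg N5934
def N8607 : Q := sm gh N5934
def N8608 : Q := sm gd N5935
def N8609 : Q := sm gi N5935
def N8610 : Q := sm gd N5936
def N8611 : Q := sm gg N5936
def N8612 : Q := sm gh N5936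
def N8613 : Q := sm gj N5937
def N8614 : Q := sm gh N5937
def N8615 : Q := sm gd N5938
def N8617 : Q := sm ge N5939
def N8620 : Q := sm gj N5941
def N8621 : Q := sm gh N5941
def N8622 : Q := sm gd N5942
def N8624 : Q := sm gh N5943
def N8626 : Q := sm gg N5946
def N8627 : Q := sm gh N5946
def N8628 : Q := sm gf N5947
def N8629 : Q := sm gj N5947
def N8630 : Q := sm gh N5947
def N8631 : Q := sm gd N5948
def N8634 : Q := sm gd N5950
def N8635 : Q := sm gi N5950
def N8636 : Q := sm ge N5951
def N8639 : Q := sm gi N5953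
def N8641 : Q := sm gj N5955
def N8642 : Q := sm gh N5955
def N8643 : Q := sm gh N5956
def N8644 : Q := sm gd N5957
def N8645 : Q := sm gi N5957
def N8646 : Q := sm gc N5958
def N8647 : Q := sm gi N5958
def N8649 : Q := sm gg N5962
def N8650 : Q := sm gh N5962
def N8651 : Q := sm gd N5963
def N8652 : Q := sm gi N5963
def N8653 : Q := sm gd N5964
def N8655 : Q := sm gc N5965
def N8656 : Q := sm gi N5965
def N8657 : Q := sm gb N5967
def N8660 : Q := sm ge N5970
def N8661 : Q := sm gg N5970
def N8662 : Q := sm gh N5970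
def N8663 : Q := sm gd N5971
def N8664 : Q := sm gi N5971
def N8665 : Q := sm gd N5972
def N8666 : Q := sm gg N5972
def N8667 : Q := sm gh N5972
def N8668 : Q := sm gj N5973
def N8669 : Q := sm gh N5973
def N8670 : Q := sm gd N5974
def N8671 : Q := sm gi N5974
def N8672 : Q := sm ge N5975
def N8673 : Q := sm gi N5975
def N8674 : Q := sm gf N5977
def N8675 : Q := sm gj N5977
def N8676 : Q := sm gh N5977
def N8677 : Q := sm gd N5978
def N8678 : Q := sm gi N5978
def N8681 : Q := sm gg N5982
def N8682 : Q := sm gh N5982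
def N8683 : Q := sm gf N5983
def N8684 : Q := sm gj N5983
def N8685 : Q := sm gh N5983
def N8686 : Q := sm gd N5984
def N8688 : Q := sm gh N5985
def N8689 : Q := sm gd N5986
def N8690 : Q := sm gi N5986
def N8692 : Q := sm gi N5987
def N8693 : Q := sm gf N5989
def N8694 : Q := sm gi N5989
def N8695 : Q := sm gh N5990
def N8696 : Q := sm gj N5991
def N8697 : Q := sm gh N5991
def N8698 : Q := sm gh N5992
def N8699 : Q := sm gd N5993
def N8701 : Q := sm gc N5994
def N8702 : Q := sm gi N5994
def N8704 : Q := sm gg N5998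
def N8705 : Q := sm gh N5998
def N8706 : Q := sm gd N5999
def N8708 : Q := sm gd N6000
def N8710 : Q := sm gc N6001
def N8711 : Q := sm gi N6001
def N8712 : Q := sm gb N6003
def N8713 : Q := sm gi N6003
def N8714 : Q := sm gd N6006
def N8715 : Q := sm gg N6006
def N8716 : Q := sm gh N6006
def N8717 : Q := sm gj N6007
def N8718 : Q := sm gh N6007
def N8719 : Q := sm gd N6008
def N8721 : Q := sm gc N6009
def N8722 : Q := sm ge N6009
def N8724 : Q := sm gg N6011
def N8725 : Q := sm gh N6011
def N8726 : Q := sm gf N6012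
def N8727 : Q := sm gj N6012
def N8728 : Q := sm gh N6012
def N8729 : Q := sm gd N6013
def N8730 : Q := sm gi N6013
def N8732 : Q := sm gd N6015
def N8733 : Q := sm gi N6015
def N8736 : Q := sm gf N6018
def N8737 : Q := sm gi N6018
def N8738 : Q := sm gh N6019
def N8739 : Q := sm gj N6020
def N8740 : Q := sm gh N6020
def N8741 : Q := sm gh N6021
def N8744 : Q := sm gf N6026
def N8745 : Q := sm gj N6026
def N8746 : Q := sm gh N6026
def N8747 : Q := sm gd N6027
def N8748 : Q := sm gi N6027
def N8749 : Q := sm gj N6028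
def N8750 : Q := sm gh N6028
def N8751 : Q := sm gh N6029
def N8752 : Q := sm gd N6030
def N8753 : Q := sm gi N6030
def N8754 : Q := sm ge N6031
def N8756 : Q := sm gd N6033
def N8757 : Q := sm gi N6033
def N8758 : Q := sm ge N6034
def N8759 : Q := sm gi N6034
def N8760 : Q := sm gf N6036
def N8761 : Q := sm gi N6036
def N8762 : Q := sm gh N6037
def N8763 : Q := sm gg N6038
def N8764 : Q := sm gi N6038
def N8765 : Q := sm gh N6039
def N8772 : Q := sm gd N6050
def N8773 : Q := sm gg N6050
def N8774 : Q := sm gh N6050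
def N8775 : Q := sm gj N6051
def N8776 : Q := sm gh N6051
def N8777 : Q := sm gd N6052
def N8779 : Q := sm ge N6053
def N8780 : Q := sm gg N6054
def N8781 : Q := sm gh N6054
def N8782 : Q := sm gf N6055
def N8783 : Q := sm gj N6055
def N8784 : Q := sm gh N6055
def N8785 : Q := sm gd N6056
def N8786 : Q := sm gh N6057
def N8789 : Q := sm gf N6060
def N8790 : Q := sm gj N6061
def N8791 : Q := sm gh N6061
def N8792 : Q := sm gh N6062
def N8793 : Q := sm gd N6063
def N8794 : Q := sm gc N6064
def N8795 : Q := sm gf N6066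
def N8796 : Q := sm gj N6066
def N8797 : Q := sm gh N6066
def N8798 : Q := sm gd N6067
def N8800 : Q := sm gj N6068
def N8801 : Q := sm gh N6068
def N8802 : Q := sm gh N6069
def N8803 : Q := sm gd N6070
def N8806 : Q := sm gd N6072
def N8807 : Q := sm ge N6073
def N8808 : Q := sm gf N6074
def N8809 : Q := sm gg N6075
def N8810 : Q := sm gg N6076
def N8811 : Q := sm gh N6076
def N8812 : Q := sm gd N6077
def N8813 : Q := sm gd N6078
def N8814 : Q := sm gc N6079
def N8816 : Q := sm gh N6081
def N8817 : Q := sm gd N6082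
def N8818 : Q := sm gc N6083
def N8819 : Q := sm ge N6083
def N8820 : Q := sm gc N6084
def N8821 : Q := sm gb N6085
def N8822 : Q := sm ga N6086
def N8823 : Q := sm gc N6087
def N8824 : Q := sm gg N6087
def N8825 : Q := sm gh N6087
def N8826 : Q := sm gf N6088
def N8827 : Q := sm gj N6088
def N8828 : Q := sm gf N6090
def N8829 : Q := sm gj N6090
def N8830 : Q := sm gh N6090
def N8832 : Q := sm gj N6092
def N8833 : Q := sm gg N6094
def N8834 : Q := sm ge N6095
def N8835 : Q := sm gj N6095
def N8837 : Q := sm gh N6096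
def N8838 : Q := sm gi N6097
def N8840 : Q := sm ge N6101
def N8842 : Q := sm gh N6101
def N8843 : Q := sm gd N6102
def N8844 : Q := sm gi N6102
def N8845 : Q := sm gd N6103
def N8846 : Q := sm gg N6103
def N8847 : Q := sm gh N6103
def N8848 : Q := sm gj N6104
def N8849 : Q := sm gh N6104
def N8850 : Q := sm gd N6105
def N8852 : Q := sm ge N6106
def N8854 : Q := sm gf N6108
def N8855 : Q := sm gj N6108
def N8856 : Q := sm gh N6108
def N8857 : Q := sm gd N6109
def N8858 : Q := sm gi N6109
def N8859 : Q := sm gh N6110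
def N8861 : Q := sm gg N6113
def N8862 : Q := sm gh N6113
def N8863 : Q := sm gf N6114
def N8864 : Q := sm gj N6114
def N8865 : Q := sm gh N6114
def N8866 : Q := sm gd N6115
def N8868 : Q := sm gh N6116
def N8869 : Q := sm gd N6117
def N8870 : Q := sm gi N6117
def N8871 : Q := sm ge N6118
def N8873 : Q := sm gf N6120
def N8874 : Q := sm gi N6120
def N8876 : Q := sm gj N6122
def N8877 : Q := sm gh N6122
def N8878 : Q := sm gh N6123
def N8879 : Q := sm gd N6124
def N8881 : Q := sm gc N6125
def N8882 : Q := sm gi N6125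
def N8883 : Q := sm gi N6127
def N8884 : Q := sm gh N6129
def N8885 : Q := sm gd N6130
def N8886 : Q := sm gi N6130
def N8887 : Q := sm gd N6131
def N8888 : Q := sm gi N6131
def N8889 : Q := sm gc N6132
def N8891 : Q := sm gb N6134
def N8894 : Q := sm gd N6137
def N8895 : Q := sm gg N6137
def N8896 : Q := sm gh N6137
def N8897 : Q := sm gj N6138
def N8898 : Q := sm gh N6138
def N8899 : Q := sm gd N6139
def N8902 : Q := sm ge N6140
def N8904 : Q := sm gg N6142
def N8905 : Q := sm gh N6142
def N8906 : Q := sm gj N6143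
def N8907 : Q := sm gh N6143
def N8908 : Q := sm gd N6144
def N8910 : Q := sm gh N6145
def N8911 : Q := sm gd N6146
def N8912 : Q := sm gi N6146
def N8913 : Q := sm ge N6147
def N8915 : Q := sm gf N6149
def N8916 : Q := sm gi N6149
def N8917 : Q := sm gh N6150
def N8918 : Q := sm gh N6151
def N8919 : Q := sm gd N6152
def N8921 : Q := sm gc N6153
def N8924 : Q := sm gj N6157
def N8925 : Q := sm gh N6157
def N8926 : Q := sm gd N6158
def N8927 : Q := sm gi N6158
def N8928 : Q := sm gh N6159
def N8929 : Q := sm gd N6160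
def N8931 : Q := sm gc N6161
def N8932 : Q := sm ge N6161
def N8933 : Q := sm gi N6161
def N8934 : Q := sm gd N6163
def N8936 : Q := sm ge N6164
def N8937 : Q := sm gi N6164
def N8938 : Q := sm gf N6166
def N8939 : Q := sm gi N6166
def N8941 : Q := sm gg N6168
def N8942 : Q := sm gi N6168
def N8943 : Q := sm gh N6169
def N8944 : Q := sm gd N6171
def N8946 : Q := sm gc N6172
def N8947 : Q := sm gi N6172
def N8948 : Q := sm gb N6174
def N8951 : Q := sm gc N6177
def N8953 : Q := sm gb N6179
def N8956 : Q := sm ga N6181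
def N8957 : Q := sm gi N6181
def N8958 : Q := sm gh N6182
def N8959 : Q := sm gh N6184
def N8960 : Q := sm gd N6185
def N8961 : Q := sm gi N6185
def N8962 : Q := sm gc N6186
def N8967 : Q := sm gf N6189
def N8968 : Q := sm gi N6189
def N8970 : Q := sm gd N6191
def N8972 : Q := sm ge N6192
def N8974 : Q := sm gf N6194
def N8975 : Q := sm gi N6194
def N8976 : Q := sm gh N6195
def N8978 : Q := sm gi N6196
def N8980 : Q := sm ge N6200
def N8981 : Q := sm gi N6200
def N8988 : Q := sm gj N6207
def N8989 : Q := sm gi N6207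
def N8991 : Q := sm gd N6209
def N8992 : Q := sm gd N6210
def N8993 : Q := sm gg N6210
def N8994 : Q := sm gh N6210
def N8995 : Q := sm gh N6211
def N8996 : Q := sm gd N6212
def N8998 : Q := sm gc N6213
def N8999 : Q := sm ge N6213
def N9001 : Q := sm gg N6215
def N9002 : Q := sm gh N6215
def N9003 : Q := sm gf N6216
def N9004 : Q := sm gh N6216
def N9005 : Q := sm gd N6217
def N9007 : Q := sm gd N6218
def N9009 : Q := sm ge N6219
def N9010 : Q := sm gi N6219
def N9011 : Q := sm gf N6221
def N9012 : Q := sm gi N6221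
def N9013 : Q := sm gh N6222
def N9014 : Q := sm gh N6223
def N9015 : Q := sm gd N6224
def N9017 : Q := sm gc N6225
def N9019 : Q := sm gf N6228
def N9020 : Q := sm gh N6228
def N9021 : Q := sm gd N6229
def N9023 : Q := sm gh N6230
def N9024 : Q := sm gd N6231
def N9026 : Q := sm gc N6232
def N9027 : Q := sm ge N6232
def N9029 : Q := sm ge N6234
def N9031 : Q := sm gf N6236
def N9032 : Q := sm gi N6236
def N9034 : Q := sm gg N6238
def N9035 : Q := sm gi N6238
def N9036 : Q := sm gh N6239
def N9037 : Q := sm gd N6241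
def N9039 : Q := sm gc N6242
def N9041 : Q := sm gb N6244
def N9044 : Q := sm gc N6246
def N9045 : Q := sm ge N6246
def N9047 : Q := sm gb N6248
def N9048 : Q := sm gi N6248
def N9051 : Q := sm gi N6250
def N9052 : Q := sm gh N6251
def N9053 : Q := sm gc N6253
def N9054 : Q := sm gh N6253
def N9055 : Q := sm gd N6254
def N9057 : Q := sm gc N6255
def N9058 : Q := sm ge N6255
def N9059 : Q := sm gi N6255
def N9060 : Q := sm ge N6257
def N9062 : Q := sm gf N6258
def N9063 : Q := sm gi N6258
def N9065 : Q := sm gd N6260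
def N9066 : Q := sm gi N6260
def N9067 : Q := sm gc N6261
def N9068 : Q := sm ge N6261
def N9069 : Q := sm gi N6261
def N9070 : Q := sm gf N6263
def N9071 : Q := sm gi N6263
def N9073 : Q := sm gg N6265
def N9074 : Q := sm gi N6265
def N9075 : Q := sm gh N6266
def N9076 : Q := sm gb N6268
def N9079 : Q := sm gc N6270
def N9080 : Q := sm ge N6270
def N9082 : Q := sm gb N6272
def N9083 : Q := sm ge N6272
def N9085 : Q := sm gf N6273
def N9088 : Q := sm gg N6275
def N9089 : Q := sm gi N6275
def N9090 : Q := sm gh N6276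
def N9091 : Q := sm gj N6278
def N9092 : Q := sm gi N6278
def N9093 : Q := sm gh N6279
def N9096 : Q := sm gi N6281
def N9099 : Q := sm gh N6285
def N9100 : Q := sm gd N6286
def N9102 : Q := sm gf N6287
def N9103 : Q := sm gi N6287
def N9105 : Q := sm gg N6289
def N9106 : Q := sm gi N6289
def N9108 : Q := sm gj N6292
def N9109 : Q := sm gi N6292
def N9113 : Q := sm gh N6296
def N9116 : Q := sm gc N6299
def N9117 : Q := sm gg N6299
def N9118 : Q := sm gh N6299
def N9119 : Q := sm gf N6300
def N9120 : Q := sm gh N6300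
def N9121 : Q := sm gd N6301
def N9123 : Q := sm gd N6302
def N9125 : Q := sm gc N6303
def N9126 : Q := sm ge N6303
def N9128 : Q := sm ge N6305
def N9129 : Q := sm gi N6305
def N9130 : Q := sm gf N6306
def N9131 : Q := sm gi N6306
def N9133 : Q := sm gf N6308
def N9134 : Q := sm gh N6308
def N9135 : Q := sm gd N6309
def N9137 : Q := sm gh N6310
def N9138 : Q := sm gd N6311
def N9140 : Q := sm gc N6312
def N9141 : Q := sm ge N6312
def N9143 : Q := sm ge N6314
def N9145 : Q := sm gf N6316
def N9146 : Q := sm gi N6316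
def N9148 : Q := sm gg N6318
def N9149 : Q := sm gi N6318
def N9150 : Q := sm gh N6319
def N9151 : Q := sm gd N6321
def N9153 : Q := sm gc N6322
def N9154 : Q := sm gi N6322
def N9155 : Q := sm gb N6324
def N9156 : Q := sm gi N6324
def N9158 : Q := sm ge N6326
def N9159 : Q := sm gh N6326
def N9160 : Q := sm gd N6327
def N9162 : Q := sm gc N6328
def N9163 : Q := sm ge N6328
def N9165 : Q := sm gd N6330
def N9167 : Q := sm gc N6331
def N9169 : Q := sm gi N6331
def N9170 : Q := sm gb N6333
def N9171 : Q := sm ge N6333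
def N9172 : Q := sm gi N6333
def N9173 : Q := sm gf N6334
def N9174 : Q := sm gi N6334
def N9176 : Q := sm gf N6336
def N9179 : Q := sm gg N6338
def N9180 : Q := sm gi N6338
def N9181 : Q := sm gh N6339
def N9182 : Q := sm gj N6341
def N9183 : Q := sm gi N6341
def N9184 : Q := sm gh N6342
def N9185 : Q := sm gd N6343
def N9186 : Q := sm gc N6344
def N9187 : Q := sm ge N6344
def N9188 : Q := sm gi N6344
def N9189 : Q := sm gb N6346
def N9190 : Q := sm gi N6346
def N9192 : Q := sm ga N6348
def N9194 : Q := sm gh N6349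
def N9195 : Q := sm gb N6351
def N9196 : Q := sm ge N6351
def N9197 : Q := sm gi N6351
def N9198 : Q := sm gi N6352
def N9200 : Q := sm ga N6354
def N9202 : Q := sm gh N6355
def N9203 : Q := sm gi N6357
def N9206 : Q := sm gh N6360
def N9207 : Q := sm gd N6361
def N9209 : Q := sm gc N6362
def N9210 : Q := sm ge N6362
def N9212 : Q := sm ge N6364
def N9214 : Q := sm gf N6365
def N9216 : Q := sm gh N6366
def N9217 : Q := sm gd N6367
def N9218 : Q := sm gf N6367
def N9219 : Q := sm gi N6367
def N9221 : Q := sm gg N6369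
def N9222 : Q := sm gi N6369
def N9223 : Q := sm gh N6370
def N9224 : Q := sm gc N6372
def N9225 : Q := sm ge N6372
def N9227 : Q := sm gb N6374
def N9228 : Q := sm ge N6374
def N9229 : Q := sm gi N6374
def N9230 : Q := sm gf N6375
def N9231 : Q := sm gi N6375
def N9233 : Q := sm gg N6377
def N9237 : Q := sm gi N6380
def N9239 : Q := sm gd N6382
def N9240 : Q := sm ga N6383
def N9241 : Q := sm gi N6383
def N9242 : Q := sm gh N6384
def N9243 : Q := sm gb N6386
def N9244 : Q := sm ge N6386
def N9245 : Q := sm gi N6386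
def N9246 : Q := sm gf N6387
def N9247 : Q := sm gi N6387
def N9249 : Q := sm ga N6389
def N9250 : Q := sm ge N6389
def N9251 : Q := sm gi N6389
def N9253 : Q := sm gi N6390
def N9254 : Q := sm gh N6391
def N9255 : Q := sm gg N6392
def N9256 : Q := sm gi N6392
def N9257 : Q := sm gh N6393
def N9258 : Q := sm gj N6395
def N9259 : Q := sm gi N6395
def N9260 : Q := sm gh N6396
def N9261 : Q := sm gd N6397
def N9262 : Q := sm gi N6398
def N9263 : Q := sm gh N6399
def N9264 : Q := sm gd N6400
def N9267 : Q := sm gh N6403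
def N9268 : Q := sm gd N6404
def N9269 : Q := sm gh N6405
def N9272 : Q := sm gf N6408
def N9275 : Q := sm gg N6409
def N9276 : Q := sm gi N6409
def N9277 : Q := sm gh N6410
def N9279 : Q := sm gj N6412
def N9280 : Q := sm gi N6412
def N9281 : Q := sm gh N6413
def N9283 : Q := sm gi N6415
def N9284 : Q := sm gh N6416
def N9288 : Q := sm gd N6420
def N9292 : Q := sm gd N6423
def N9293 : Q := sm gc N6424
def N9294 : Q := sm ge N6424
def N9295 : Q := sm gb N6425
def N9296 : Q := sm ge N6425
def N9297 : Q := sm gf N6426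
def N9298 : Q := sm ga N6427
def N9299 : Q := sm ge N6427
def N9300 : Q := sm gd N6428
def N9301 : Q := sm gf N6428
def N9302 : Q := sm gg N6429
def N9303 : Q := sm gb N6430
def N9304 : Q := sm ge N6430
def N9305 : Q := sm gf N6431
def N9306 : Q := sm ga N6432
def N9307 : Q := sm ge N6432
def N9308 : Q := sm gd N6433
def N9309 : Q := sm gf N6433
def N9310 : Q := sm gg N6434
def N9311 : Q := sm ge N6435
def N9312 : Q := sm gd N6436
def N9313 : Q := sm gf N6436
def N9314 : Q := sm gf N6437
def N9315 : Q := sm gh N6437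
def N9316 : Q := sm gg N6438
def N9317 : Q := sm gj N6439
def N9318 : Q := sm ge N6440
def N9319 : Q := sm gd N6441
def N9320 : Q := sm gf N6441
def N9321 : Q := sm gf N6442
def N9322 : Q := sm gh N6442
def N9323 : Q := sm gg N6443
def N9324 : Q := sm gj N6444
def N9325 : Q := sm gd N6445
def N9326 : Q := sm gf N6445
def N9327 : Q := sm gc N6446
def N9328 : Q := sm gf N6446
def N9329 : Q := sm gh N6446
def N9330 : Q := sm gg N6447
def N9331 : Q := sm ge N6448
def N9332 : Q := sm gg N6448
def N9333 : Q := sm gh N6448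
def N9334 : Q := sm gi N6449
def N9335 : Q := sm gj N6450
def N9336 : Q := sm gc N6452
def N9337 : Q := sm gf N6452
def N9338 : Q := sm gh N6452
def N9339 : Q := sm gg N6453
def N9340 : Q := sm gf N6454
def N9341 : Q := sm gh N6454
def N9342 : Q := sm ge N6455
def N9343 : Q := sm gg N6455
def N9344 : Q := sm gh N6455
def N9345 : Q := sm gi N6456
def N9346 : Q := sm gj N6457
def N9347 : Q := sm gg N6458
def N9348 : Q := sm gh N6458
def N9349 : Q := sm gj N6459
def N9350 : Q := sm gh N6459
def N9351 : Q := sm gi N6460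
def N9352 : Q := sm gb N6463
def N9353 : Q := sm ge N6463
def N9354 : Q := sm gf N6464
def N9355 : Q := sm ga N6465
def N9356 : Q := sm ge N6465
def N9357 : Q := sm gd N6466
def N9358 : Q := sm gf N6466
def N9359 : Q := sm gg N6467
def N9360 : Q := sm ga N6468
def N9361 : Q := sm ge N6468
def N9362 : Q := sm gd N6469
def N9363 : Q := sm gf N6469
def N9364 : Q := sm gg N6470
def N9365 : Q := sm ge N6471
def N9366 : Q := sm gd N6472
def N9367 : Q := sm gf N6472
def N9368 : Q := sm gf N6473
def N9369 : Q := sm gh N6473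
def N9370 : Q := sm gg N6474
def N9371 : Q := sm gj N6475
def N9372 : Q := sm ge N6476
def N9373 : Q := sm gd N6477
def N9374 : Q := sm gf N6477
def N9375 : Q := sm gf N6478
def N9376 : Q := sm gh N6478
def N9377 : Q := sm gg N6479
def N9378 : Q := sm gj N6480
def N9379 : Q := sm gd N6481
def N9380 : Q := sm gf N6481
def N9381 : Q := sm gc N6482
def N9382 : Q := sm gf N6482
def N9383 : Q := sm gh N6482
def N9384 : Q := sm gg N6483
def N9385 : Q := sm ge N6484
def N9386 : Q := sm gg N6484
def N9387 : Q := sm gh N6484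
def N9388 : Q := sm gi N6485
def N9389 : Q := sm gj N6486
def N9390 : Q := sm ge N6488
def N9391 : Q := sm gd N6489
def N9392 : Q := sm gf N6489
def N9393 : Q := sm gf N6490
def N9394 : Q := sm gh N6490
def N9395 : Q := sm gg N6491
def N9396 : Q := sm gj N6492
def N9397 : Q := sm gd N6493
def N9398 : Q := sm gf N6493
def N9399 : Q := sm gc N6494
def N9400 : Q := sm gf N6494
def N9401 : Q := sm gh N6494
def N9402 : Q := sm gg N6495
def N9403 : Q := sm ge N6496
def N9404 : Q := sm gg N6496
def N9405 : Q := sm gh N6496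
def N9406 : Q := sm gi N6497
def N9407 : Q := sm gj N6498
def N9408 : Q := sm gd N6500
def N9409 : Q := sm gf N6500
def N9410 : Q := sm gc N6501
def N9411 : Q := sm gf N6501
def N9412 : Q := sm gh N6501
def N9413 : Q := sm gg N6502
def N9414 : Q := sm ge N6503
def N9415 : Q := sm gg N6503
def N9416 : Q := sm gh N6503
def N9417 : Q := sm gi N6504
def N9418 : Q := sm gj N6505
def N9419 : Q := sm gc N6507
def N9420 : Q := sm gf N6507
def N9421 : Q := sm gh N6507
def N9422 : Q := sm gg N6508
def N9423 : Q := sm gf N6509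
def N9424 : Q := sm gh N6509
def N9425 : Q := sm ge N6510
def N9426 : Q := sm gg N6510
def N9427 : Q := sm gh N6510
def N9428 : Q := sm gi N6511
def N9429 : Q := sm gj N6512
def N9430 : Q := sm gg N6513
def N9431 : Q := sm gh N6513
def N9432 : Q := sm gj N6514
def N9433 : Q := sm gh N6514
def N9434 : Q := sm gi N6515
def N9435 : Q := sm gc N6518
def N9436 : Q := sm gf N6518
def N9437 : Q := sm gh N6518
def N9438 : Q := sm gg N6519
def N9439 : Q := sm gf N6520
def N9440 : Q := sm gh N6520
def N9441 : Q := sm ge N6521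
def N9442 : Q := sm gg N6521
def N9443 : Q := sm gh N6521
def N9444 : Q := sm gi N6522
def N9445 : Q := sm gj N6523
def N9446 : Q := sm gg N6524
def N9447 : Q := sm gh N6524
def N9448 : Q := sm gj N6525
def N9449 : Q := sm gh N6525
def N9450 : Q := sm gi N6526
def N9451 : Q := sm gb N6529
def N9452 : Q := sm gf N6529
def N9453 : Q := sm gh N6529
def N9454 : Q := sm ge N6530
def N9455 : Q := sm gg N6530
def N9456 : Q := sm gh N6530
def N9457 : Q := sm gi N6531
def N9458 : Q := sm gj N6532
def N9459 : Q := sm ge N6533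
def N9460 : Q := sm gg N6533
def N9461 : Q := sm gh N6533
def N9462 : Q := sm gd N6534
def N9463 : Q := sm gi N6534
def N9464 : Q := sm gg N6535
def N9465 : Q := sm gh N6535
def N9466 : Q := sm gj N6536
def N9467 : Q := sm gh N6536
def N9468 : Q := sm gi N6537
def N9469 : Q := sm gf N6540
def N9470 : Q := sm gj N6540
def N9471 : Q := sm gh N6540
def N9472 : Q := sm gd N6541
def N9473 : Q := sm gi N6541
def N9474 : Q := sm gh N6542
def N9475 : Q := sm gi N6543
def N9476 : Q := sm ge N6545
def N9477 : Q := sm gd N6546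
def N9478 : Q := sm gf N6546
def N9479 : Q := sm gf N6547
def N9480 : Q := sm gh N6547
def N9481 : Q := sm gg N6548
def N9482 : Q := sm gj N6549
def N9483 : Q := sm gd N6550
def N9484 : Q := sm gf N6550
def N9485 : Q := sm gc N6551
def N9486 : Q := sm gf N6551
def N9487 : Q := sm gh N6551
def N9488 : Q := sm gg N6552
def N9489 : Q := sm ge N6553
def N9490 : Q := sm gg N6553
def N9491 : Q := sm gh N6553
def N9492 : Q := sm gi N6554
def N9493 : Q := sm gj N6555
def N9494 : Q := sm gc N6557
def N9495 : Q := sm gf N6557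
def N9496 : Q := sm gh N6557
def N9497 : Q := sm gg N6558
def N9498 : Q := sm gf N6559
def N9499 : Q := sm gh N6559
def N9500 : Q := sm ge N6560
def N9501 : Q := sm gg N6560
def N9502 : Q := sm gh N6560
def N9503 : Q := sm gi N6561
def N9504 : Q := sm gj N6562
def N9505 : Q := sm gg N6563
def N9506 : Q := sm gh N6563
def N9507 : Q := sm gj N6564
def N9508 : Q := sm gh N6564
def N9509 : Q := sm gi N6565
def N9510 : Q := sm gd N6568
def N9511 : Q := sm gf N6568
def N9512 : Q := sm gc N6569
def N9513 : Q := sm gf N6569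
def N9514 : Q := sm gh N6569
def N9515 : Q := sm gg N6570
def N9516 : Q := sm ge N6571
def N9517 : Q := sm gg N6571
def N9518 : Q := sm gh N6571
def N9519 : Q := sm gi N6572
def N9520 : Q := sm gj N6573
def N9521 : Q := sm gc N6575
def N9522 : Q := sm gf N6575
def N9523 : Q := sm gh N6575
def N9524 : Q := sm gg N6576
def N9525 : Q := sm gf N6577
def N9526 : Q := sm gh N6577
def N9527 : Q := sm ge N6578
def N9528 : Q := sm gg N6578
def N9529 : Q := sm gh N6578
def N9530 : Q := sm gi N6579
def N9531 : Q := sm gj N6580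
def N9532 : Q := sm gg N6581
def N9533 : Q := sm gh N6581
def N9534 : Q := sm gj N6582
def N9535 : Q := sm gh N6582
def N9536 : Q := sm gi N6583
def N9537 : Q := sm gb N6586
def N9538 : Q := sm gf N6586
def N9539 : Q := sm gh N6586
def N9540 : Q := sm ge N6587
def N9541 : Q := sm gg N6587
def N9542 : Q := sm gh N6587
def N9543 : Q := sm gi N6588
def N9544 : Q := sm gj N6589
def N9545 : Q := sm ge N6590
def N9546 : Q := sm gg N6590
def N9547 : Q := sm gh N6590
def N9548 : Q := sm gd N6591
def N9549 : Q := sm gi N6591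
def N9550 : Q := sm gg N6592
def N9551 : Q := sm gh N6592
def N9552 : Q := sm gj N6593
def N9553 : Q := sm gh N6593
def N9554 : Q := sm gi N6594
def N9555 : Q := sm gf N6597
def N9556 : Q := sm gj N6597
def N9557 : Q := sm gh N6597
def N9558 : Q := sm gd N6598
def N9559 : Q := sm gi N6598
def N9560 : Q := sm gh N6599
def N9561 : Q := sm gi N6600
def N9562 : Q := sm gc N6602
def N9563 : Q := sm gf N6602
def N9564 : Q := sm gh N6602
def N9565 : Q := sm gg N6603
def N9566 : Q := sm gf N6604
def N9567 : Q := sm gh N6604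
def N9568 : Q := sm ge N6605
def N9569 : Q := sm gg N6605
def N9570 : Q := sm gh N6605
def N9571 : Q := sm gi N6606
def N9572 : Q := sm gj N6607
def N9573 : Q := sm gg N6608
def N9574 : Q := sm gh N6608
def N9575 : Q := sm gj N6609
def N9576 : Q := sm gh N6609
def N9577 : Q := sm gi N6610
def N9578 : Q := sm gb N6613
def N9579 : Q := sm gf N6613
def N9580 : Q := sm gh N6613
def N9581 : Q := sm ge N6614
def N9582 : Q := sm gg N6614
def N9583 : Q := sm gh N6614
def N9584 : Q := sm gi N6615
def N9585 : Q := sm gj N6616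
def N9586 : Q := sm ge N6617
def N9587 : Q := sm gg N6617
def N9588 : Q := sm gh N6617
def N9589 : Q := sm gd N6618
def N9590 : Q := sm gi N6618
def N9591 : Q := sm gg N6619
def N9592 : Q := sm gh N6619
def N9593 : Q := sm gj N6620
def N9594 : Q := sm gh N6620
def N9595 : Q := sm gi N6621
def N9596 : Q := sm gf N6624
def N9597 : Q := sm gj N6624
def N9598 : Q := sm gh N6624
def N9599 : Q := sm gd N6625
def N9600 : Q := sm gi N6625
def N9601 : Q := sm gh N6626
def N9602 : Q := sm gi N6627
def N9603 : Q := sm gf N6629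
def N9604 : Q := sm gh N6629
def N9605 : Q := sm ge N6630
def N9606 : Q := sm gg N6630
def N9607 : Q := sm gh N6630
def N9608 : Q := sm gd N6631
def N9609 : Q := sm gi N6631
def N9610 : Q := sm gg N6632
def N9611 : Q := sm gh N6632
def N9612 : Q := sm gj N6633
def N9613 : Q := sm gh N6633
def N9614 : Q := sm gi N6634
def N9615 : Q := sm gd N6637
def N9616 : Q := sm gg N6637
def N9617 : Q := sm gh N6637
def N9618 : Q := sm gj N6638
def N9619 : Q := sm gh N6638
def N9620 : Q := sm gd N6639
def N9621 : Q := sm gi N6639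
def N9622 : Q := sm ge N6640
def N9623 : Q := sm gi N6640
def N9624 : Q := sm gf N6642
def N9625 : Q := sm gj N6642
def N9626 : Q := sm gh N6642
def N9627 : Q := sm gd N6643
def N9628 : Q := sm gi N6643
def N9629 : Q := sm gh N6644
def N9630 : Q := sm gi N6645
def N9631 : Q := sm gj N6647
def N9632 : Q := sm gh N6647
def N9633 : Q := sm gh N6648
def N9634 : Q := sm gd N6649
def N9635 : Q := sm gi N6649
def N9636 : Q := sm gc N6650
def N9637 : Q := sm gi N6650
def N9638 : Q := sm gi N6652
def N9639 : Q := sm gc N6654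
def N9640 : Q := sm gf N6654
def N9642 : Q := sm gg N6655
def N9643 : Q := sm gf N6656
def N9644 : Q := sm gh N6656
def N9645 : Q := sm ge N6657
def N9646 : Q := sm gg N6657
def N9647 : Q := sm gh N6657
def N9648 : Q := sm gi N6658
def N9649 : Q := sm gj N6659
def N9650 : Q := sm gg N6660
def N9651 : Q := sm gh N6660
def N9652 : Q := sm gj N6661
def N9653 : Q := sm gh N6661
def N9654 : Q := sm gi N6662
def N9655 : Q := sm gb N6665
def N9656 : Q := sm gf N6665
def N9657 : Q := sm gh N6665
def N9658 : Q := sm ge N6666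
def N9659 : Q := sm gg N6666
def N9660 : Q := sm gh N6666
def N9661 : Q := sm gi N6667
def N9662 : Q := sm gj N6668
def N9663 : Q := sm ge N6669
def N9664 : Q := sm gg N6669
def N9665 : Q := sm gh N6669
def N9666 : Q := sm gd N6670
def N9668 : Q := sm gg N6671
def N9669 : Q := sm gh N6671
def N9670 : Q := sm gj N6672
def N9671 : Q := sm gh N6672
def N9672 : Q := sm gi N6673
def N9673 : Q := sm gf N6676
def N9674 : Q := sm gj N6676
def N9675 : Q := sm gh N6676
def N9676 : Q := sm gd N6677
def N9678 : Q := sm gh N6678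
def N9679 : Q := sm gi N6679
def N9680 : Q := sm gf N6681
def N9681 : Q := sm gh N6681
def N9682 : Q := sm ge N6682
def N9683 : Q := sm gg N6682
def N9685 : Q := sm gd N6683
def N9687 : Q := sm gg N6684
def N9688 : Q := sm gh N6684
def N9689 : Q := sm gj N6685
def N9690 : Q := sm gh N6685
def N9692 : Q := sm gd N6689
def N9693 : Q := sm gg N6689
def N9694 : Q := sm gh N6689
def N9695 : Q := sm gj N6690
def N9696 : Q := sm gh N6690
def N9697 : Q := sm gd N6691
def N9699 : Q := sm ge N6692
def N9700 : Q := sm gi N6692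
def N9701 : Q := sm gf N6694
def N9702 : Q := sm gj N6694
def N9703 : Q := sm gh N6694
def N9704 : Q := sm gd N6695
def N9705 : Q := sm gi N6695
def N9706 : Q := sm gh N6696
def N9707 : Q := sm gi N6697
def N9708 : Q := sm gj N6699
def N9709 : Q := sm gh N6699
def N9710 : Q := sm gh N6700
def N9711 : Q := sm gd N6701
def N9712 : Q := sm gi N6701
def N9713 : Q := sm gc N6702
def N9714 : Q := sm gi N6702
def N9715 : Q := sm gi N6704
def N9716 : Q := sm ge N6706
def N9717 : Q := sm gg N6706
def N9718 : Q := sm gh N6706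
def N9720 : Q := sm gi N6707
def N9721 : Q := sm gd N6708
def N9722 : Q := sm gg N6708
def N9723 : Q := sm gh N6708
def N9724 : Q := sm gj N6709
def N9725 : Q := sm gh N6709
def N9729 : Q := sm gf N6713
def N9730 : Q := sm gj N6713
def N9731 : Q := sm gh N6713
def N9732 : Q := sm gd N6714
def N9734 : Q := sm gh N6715
def N9735 : Q := sm gi N6716
def N9736 : Q := sm gg N6718
def N9737 : Q := sm gh N6718
def N9738 : Q := sm gf N6719
def N9739 : Q := sm gj N6719
def N9740 : Q := sm gh N6719
def N9741 : Q := sm gd N6720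
def N9743 : Q := sm gh N6721
def N9744 : Q := sm gd N6722
def N9747 : Q := sm gi N6723
def N9748 : Q := sm gh N6725
def N9749 : Q := sm gj N6726
def N9750 : Q := sm gh N6726
def N9751 : Q := sm gh N6727
def N9752 : Q := sm gd N6728
def N9753 : Q := sm gi N6728
def N9754 : Q := sm gc N6729
def N9755 : Q := sm gi N6729
def N9756 : Q := sm gi N6731
def N9757 : Q := sm gg N6733
def N9758 : Q := sm gh N6733
def N9759 : Q := sm gd N6734
def N9760 : Q := sm gi N6734
def N9761 : Q := sm gd N6735
def N9762 : Q := sm gi N6735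
def N9763 : Q := sm gc N6736
def N9764 : Q := sm gi N6736
def N9765 : Q := sm gb N6738
def N9766 : Q := sm gi N6738
def N9767 : Q := sm gh N6739
def N9768 : Q := sm gd N6741
def N9769 : Q := sm gc N6742
def N9770 : Q := sm ge N6742
def N9771 : Q := sm gb N6743
def N9772 : Q := sm ge N6743
def N9773 : Q := sm gf N6744
def N9774 : Q := sm ga N6745
def N9775 : Q := sm ge N6745
def N9776 : Q := sm gd N6746
def N9777 : Q := sm gf N6746
def N9778 : Q := sm gg N6747
def N9779 : Q := sm ge N6748
def N9780 : Q := sm gd N6749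
def N9781 : Q := sm gf N6749
def N9782 : Q := sm gf N6750
def N9783 : Q := sm gh N6750
def N9784 : Q := sm gg N6751
def N9785 : Q := sm gj N6752
def N9786 : Q := sm gb N6753
def N9787 : Q := sm ge N6753
def N9788 : Q := sm gf N6754
def N9789 : Q := sm ga N6755
def N9790 : Q := sm ge N6755
def N9791 : Q := sm gd N6756
def N9792 : Q := sm gf N6756
def N9793 : Q := sm gg N6757
def N9794 : Q := sm ge N6758
def N9795 : Q := sm gd N6759
def N9796 : Q := sm gf N6759
def N9797 : Q := sm gf N6760
def N9798 : Q := sm gh N6760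
def N9799 : Q := sm gg N6761
def N9800 : Q := sm gj N6762
def N9801 : Q := sm gd N6763
def N9802 : Q := sm gf N6763
def N9803 : Q := sm gc N6764
def N9804 : Q := sm gf N6764
def N9805 : Q := sm gh N6764
def N9806 : Q := sm gg N6765
def N9807 : Q := sm ge N6766
def N9808 : Q := sm gg N6766
def N9809 : Q := sm gh N6766
def N9810 : Q := sm gi N6767
def N9811 : Q := sm gj N6768
def N9812 : Q := sm ga N6770
def N9813 : Q := sm ge N6770
def N9814 : Q := sm gd N6771
def N9815 : Q := sm gf N6771
def N9816 : Q := sm gg N6772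
def N9817 : Q := sm ge N6773
def N9818 : Q := sm gd N6774
def N9819 : Q := sm gf N6774
def N9820 : Q := sm gf N6775
def N9821 : Q := sm gh N6775
def N9822 : Q := sm gg N6776
def N9823 : Q := sm gj N6777
def N9824 : Q := sm gd N6778
def N9825 : Q := sm gf N6778
def N9826 : Q := sm gc N6779
def N9827 : Q := sm gf N6779
def N9828 : Q := sm gh N6779
def N9829 : Q := sm gg N6780
def N9830 : Q := sm ge N6781
def N9831 : Q := sm gg N6781
def N9832 : Q := sm gh N6781
def N9833 : Q := sm gi N6782
def N9834 : Q := sm gj N6783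
def N9835 : Q := sm gc N6785
def N9836 : Q := sm gf N6785
def N9837 : Q := sm gh N6785
def N9838 : Q := sm gg N6786
def N9839 : Q := sm gf N6787
def N9840 : Q := sm gh N6787
def N9841 : Q := sm ge N6788
def N9842 : Q := sm gg N6788
def N9843 : Q := sm gh N6788
def N9844 : Q := sm gi N6789
def N9845 : Q := sm gj N6790
def N9846 : Q := sm gg N6791
def N9847 : Q := sm gh N6791
def N9848 : Q := sm gj N6792
def N9849 : Q := sm gh N6792
def N9850 : Q := sm gi N6793
def N9851 : Q := sm ge N6796
def N9852 : Q := sm gd N6797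
def N9853 : Q := sm gf N6797
def N9854 : Q := sm gf N6798
def N9855 : Q := sm gh N6798
def N9856 : Q := sm gg N6799
def N9857 : Q := sm gj N6800
def N9858 : Q := sm gd N6801
def N9859 : Q := sm gf N6801
def N9860 : Q := sm gc N6802
def N9861 : Q := sm gf N6802
def N9862 : Q := sm gh N6802
def N9863 : Q := sm gg N6803
def N9864 : Q := sm ge N6804
def N9865 : Q := sm gg N6804
def N9866 : Q := sm gh N6804
def N9867 : Q := sm gi N6805
def N9868 : Q := sm gj N6806
def N9869 : Q := sm gc N6808
def N9870 : Q := sm gf N6808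
def N9871 : Q := sm gh N6808
def N9872 : Q := sm gg N6809
def N9873 : Q := sm gf N6810
def N9874 : Q := sm gh N6810
def N9875 : Q := sm ge N6811
def N9876 : Q := sm gg N6811
def N9877 : Q := sm gh N6811
def N9878 : Q := sm gi N6812
def N9879 : Q := sm gj N6813
def N9880 : Q := sm gg N6814
def N9881 : Q := sm gh N6814
def N9882 : Q := sm gj N6815
def N9883 : Q := sm gh N6815
def N9884 : Q := sm gi N6816
def N9885 : Q := sm gd N6819
def N9886 : Q := sm gf N6819
def N9887 : Q := sm gc N6820
def N9888 : Q := sm gf N6820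
def N9889 : Q := sm gh N6820
def N9890 : Q := sm gg N6821
def N9891 : Q := sm ge N6822
def N9892 : Q := sm gg N6822
def N9893 : Q := sm gh N6822
def N9894 : Q := sm gi N6823
def N9895 : Q := sm gj N6824
def N9896 : Q := sm gc N6826
def N9897 : Q := sm gf N6826
def N9898 : Q := sm gh N6826
def N9899 : Q := sm gg N6827
def N9900 : Q := sm gf N6828
def N9901 : Q := sm gh N6828
def N9902 : Q := sm ge N6829
def N9903 : Q := sm gg N6829
def N9904 : Q := sm gh N6829
def N9905 : Q := sm gi N6830
def N9906 : Q := sm gj N6831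
def N9907 : Q := sm gg N6832
def N9908 : Q := sm gh N6832
def N9909 : Q := sm gj N6833
def N9910 : Q := sm gh N6833
def N9911 : Q := sm gi N6834
def N9912 : Q := sm gb N6837
def N9913 : Q := sm gf N6837
def N9914 : Q := sm gh N6837
def N9915 : Q := sm ge N6838
def N9916 : Q := sm gg N6838
def N9917 : Q := sm gh N6838
def N9918 : Q := sm gi N6839
def N9919 : Q := sm gj N6840
def N9920 : Q := sm ge N6841
def N9921 : Q := sm gg N6841
def N9922 : Q := sm gh N6841
def N9923 : Q := sm gd N6842
def N9924 : Q := sm gi N6842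
def N9925 : Q := sm gg N6843
def N9926 : Q := sm gh N6843
def N9927 : Q := sm gj N6844
def N9928 : Q := sm gh N6844
def N9929 : Q := sm gi N6845
def N9930 : Q := sm gf N6848
def N9931 : Q := sm gj N6848
def N9932 : Q := sm gh N6848
def N9933 : Q := sm gd N6849
def N9934 : Q := sm gi N6849
def N9935 : Q := sm gh N6850
def N9936 : Q := sm gi N6851
def N9937 : Q := sm gc N6853
def N9938 : Q := sm gf N6853
def N9939 : Q := sm gh N6853
def N9940 : Q := sm gg N6854
def N9941 : Q := sm gf N6855
def N9942 : Q := sm gh N6855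
def N9943 : Q := sm ge N6856
def N9944 : Q := sm gg N6856
def N9945 : Q := sm gh N6856
def N9946 : Q := sm gi N6857
def N9947 : Q := sm gj N6858
def N9948 : Q := sm gg N6859
def N9949 : Q := sm gh N6859
def N9950 : Q := sm gj N6860
def N9951 : Q := sm gh N6860
def N9952 : Q := sm gi N6861
def N9953 : Q := sm gb N6864
def N9954 : Q := sm gf N6864
def N9955 : Q := sm gh N6864
def N9956 : Q := sm ge N6865
def N9957 : Q := sm gg N6865
def N9958 : Q := sm gh N6865
def N9960 : Q := sm gj N6867
def N9961 : Q := sm ge N6868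
def N9962 : Q := sm gg N6868
def N9963 : Q := sm gh N6868
def N9964 : Q := sm gd N6869
def N9965 : Q := sm gi N6869
def N9966 : Q := sm gg N6870
def N9967 : Q := sm gh N6870
def N9968 : Q := sm gj N6871
def N9969 : Q := sm gh N6871
def N9970 : Q := sm gi N6872
def N9971 : Q := sm gf N6875
def N9972 : Q := sm gj N6875
def N9973 : Q := sm gh N6875
def N9974 : Q := sm gd N6876
def N9975 : Q := sm gi N6876
def N9976 : Q := sm gh N6877
def N9977 : Q := sm gi N6878
def N9978 : Q := sm gf N6880
def N9979 : Q := sm gh N6880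
def N9980 : Q := sm ge N6881
def N9981 : Q := sm gg N6881
def N9982 : Q := sm gh N6881
def N9983 : Q := sm gd N6882
def N9984 : Q := sm gi N6882
def N9985 : Q := sm gg N6883
def N9986 : Q := sm gh N6883
def N9987 : Q := sm gj N6884
def N9988 : Q := sm gh N6884
def N9989 : Q := sm gi N6885
def N9990 : Q := sm gd N6888
def N9991 : Q := sm gg N6888
def N9992 : Q := sm gh N6888
def N9993 : Q := sm gj N6889
def N9994 : Q := sm gh N6889
def N9995 : Q := sm gd N6890
def N9996 : Q := sm gi N6890
def N9997 : Q := sm ge N6891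
def N9998 : Q := sm gi N6891
def N9999 : Q := sm gf N6893
def N10000 : Q := sm gj N6893
def N10001 : Q := sm gh N6893
def N10002 : Q := sm gd N6894
def N10003 : Q := sm gi N6894
def N10004 : Q := sm gh N6895
def N10005 : Q := sm gi N6896
def N10006 : Q := sm gj N6898
def N10007 : Q := sm gh N6898
def N10008 : Q := sm gh N6899
def N10009 : Q := sm gd N6900
def N10010 : Q := sm gi N6900
def N10011 : Q := sm gc N6901
def N10012 : Q := sm gi N6901
def N10013 : Q := sm gi N6903
def N10014 : Q := sm gc N6905
def N10015 : Q := sm gf N6905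
def N10016 : Q := sm gh N6905
def N10017 : Q := sm gg N6906
def N10018 : Q := sm gf N6907
def N10019 : Q := sm gh N6907
def N10020 : Q := sm ge N6908
def N10021 : Q := sm gg N6908
def N10022 : Q := sm gh N6908
def N10023 : Q := sm gi N6909
def N10024 : Q := sm gj N6910
def N10025 : Q := sm gg N6911
def N10026 : Q := sm gh N6911
def N10027 : Q := sm gj N6912
def N10028 : Q := sm gh N6912
def N10029 : Q := sm gi N6913
def N10030 : Q := sm gb N6916
def N10031 : Q := sm gf N6916
def N10032 : Q := sm gh N6916
def N10033 : Q := sm ge N6917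
def N10034 : Q := sm gg N6917
def N10035 : Q := sm gh N6917
def N10036 : Q := sm gi N6918
def N10037 : Q := sm gj N6919
def N10038 : Q := sm ge N6920
def N10039 : Q := sm gg N6920
def N10040 : Q := sm gh N6920
def N10041 : Q := sm gd N6921
def N10042 : Q := sm gi N6921
def N10043 : Q := sm gg N6922
def N10044 : Q := sm gh N6922
def N10045 : Q := sm gj N6923
def N10046 : Q := sm gh N6923
def N10047 : Q := sm gi N6924
def N10048 : Q := sm gf N6927
def N10049 : Q := sm gj N6927
def N10050 : Q := sm gh N6927
def N10051 : Q := sm gd N6928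
def N10052 : Q := sm gi N6928
def N10053 : Q := sm gh N6929
def N10054 : Q := sm gi N6930
def N10055 : Q := sm gb N6932
def N10056 : Q := sm gf N6932
def N10057 : Q := sm gh N6932
def N10058 : Q := sm ge N6933
def N10059 : Q := sm gg N6933
def N10060 : Q := sm gh N6933
def N10061 : Q := sm gi N6934
def N10062 : Q := sm gj N6935
def N10063 : Q := sm ge N6936
def N10064 : Q := sm gg N6936
def N10065 : Q := sm gh N6936
def N10066 : Q := sm gd N6937
def N10067 : Q := sm gi N6937
def N10068 : Q := sm gg N6938
def N10069 : Q := sm gh N6938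
def N10070 : Q := sm gj N6939
def N10071 : Q := sm gh N6939
def N10072 : Q := sm gi N6940
def N10073 : Q := sm gf N6943
def N10074 : Q := sm gj N6943
def N10075 : Q := sm gh N6943
def N10076 : Q := sm gd N6944
def N10077 : Q := sm gi N6944
def N10078 : Q := sm gh N6945
def N10079 : Q := sm gi N6946
def N10080 : Q := sm gf N6948
def N10081 : Q := sm gh N6948
def N10082 : Q := sm ge N6949
def N10083 : Q := sm gg N6949
def N10084 : Q := sm gh N6949
def N10085 : Q := sm gd N6950
def N10086 : Q := sm gi N6950
def N10087 : Q := sm gg N6951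
def N10088 : Q := sm gh N6951
def N10089 : Q := sm gj N6952
def N10090 : Q := sm gh N6952
def N10091 : Q := sm gi N6953
def N10092 : Q := sm gd N6956
def N10093 : Q := sm gg N6956
def N10094 : Q := sm gh N6956
def N10095 : Q := sm gj N6957
def N10096 : Q := sm gh N6957
def N10097 : Q := sm gd N6958
def N10098 : Q := sm gi N6958
def N10099 : Q := sm ge N6959
def N10100 : Q := sm gi N6959
def N10101 : Q := sm gf N6961
def N10102 : Q := sm gj N6961
def N10103 : Q := sm gh N6961
def N10104 : Q := sm gd N6962
def N10105 : Q := sm gi N6962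
def N10106 : Q := sm gh N6963
def N10107 : Q := sm gi N6964
def N10108 : Q := sm gj N6966
def N10109 : Q := sm gh N6966
def N10110 : Q := sm gh N6967
def N10111 : Q := sm gd N6968
def N10112 : Q := sm gi N6968
def N10113 : Q := sm gc N6969
def N10114 : Q := sm gi N6969
def N10115 : Q := sm gi N6971
def N10116 : Q := sm gf N6973
def N10117 : Q := sm gh N6973
def N10118 : Q := sm ge N6974
def N10119 : Q := sm gg N6974
def N10120 : Q := sm gh N6974
def N10121 : Q := sm gd N6975
def N10122 : Q := sm gi N6975
def N10123 : Q := sm gg N6976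
def N10124 : Q := sm gh N6976
def N10125 : Q := sm gj N6977
def N10126 : Q := sm gh N6977
def N10127 : Q := sm gi N6978
def N10128 : Q := sm gd N6981
def N10129 : Q := sm gg N6981
def N10130 : Q := sm gh N6981
def N10131 : Q := sm gj N6982
def N10132 : Q := sm gh N6982
def N10133 : Q := sm gd N6983
def N10134 : Q := sm gi N6983
def N10135 : Q := sm ge N6984
def N10136 : Q := sm gi N6984
def N10137 : Q := sm gf N6986
def N10138 : Q := sm gj N6986
def N10139 : Q := sm gh N6986
def N10140 : Q := sm gd N6987
def N10141 : Q := sm gi N6987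
def N10142 : Q := sm gh N6988
def N10143 : Q := sm gi N6989
def N10144 : Q := sm gj N6991
def N10145 : Q := sm gh N6991
def N10146 : Q := sm gh N6992
def N10147 : Q := sm gd N6993
def N10148 : Q := sm gi N6993
def N10149 : Q := sm gc N6994
def N10150 : Q := sm gi N6994
def N10151 : Q := sm gi N6996
def N10152 : Q := sm ge N6998
def N10153 : Q := sm gg N6998
def N10154 : Q := sm gh N6998
def N10155 : Q := sm gd N6999
def N10156 : Q := sm gi N6999
def N10157 : Q := sm gd N7000
def N10158 : Q := sm gg N7000
def N10159 : Q := sm gh N7000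
def N10160 : Q := sm gj N7001
def N10161 : Q := sm gh N7001
def N10162 : Q := sm gd N7002
def N10163 : Q := sm gi N7002
def N10164 : Q := sm ge N7003
def N10165 : Q := sm gi N7003
def N10166 : Q := sm gf N7005
def N10167 : Q := sm gj N7005
def N10168 : Q := sm gh N7005
def N10169 : Q := sm gd N7006
def N10170 : Q := sm gi N7006
def N10171 : Q := sm gh N7007
def N10172 : Q := sm gi N7008
def N10173 : Q := sm gg N7010
def N10174 : Q := sm gh N7010
def N10175 : Q := sm gf N7011
def N10176 : Q := sm gj N7011
def N10177 : Q := sm gh N7011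
def N10178 : Q := sm gd N7012
def N10179 : Q := sm gi N7012
def N10180 : Q := sm gh N7013
def N10181 : Q := sm gd N7014
def N10182 : Q := sm gi N7014
def N10183 : Q := sm ge N7015
def N10184 : Q := sm gi N7015
def N10185 : Q := sm gf N7017
def N10186 : Q := sm gi N7017
def N10187 : Q := sm gh N7018
def N10188 : Q := sm gj N7019
def N10189 : Q := sm gh N7019
def N10190 : Q := sm gh N7020
def N10191 : Q := sm gd N7021
def N10192 : Q := sm gi N7021
def N10193 : Q := sm gc N7022
def N10194 : Q := sm gi N7022
def N10195 : Q := sm gi N7024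
def N10196 : Q := sm gg N7026
def N10197 : Q := sm gh N7026
def N10198 : Q := sm gd N7027
def N10199 : Q := sm gi N7027
def N10200 : Q := sm gd N7028
def N10201 : Q := sm gi N7028
def N10202 : Q := sm gc N7029
def N10203 : Q := sm gi N7029
def N10204 : Q := sm gb N7031
def N10205 : Q := sm gi N7031
def N10206 : Q := sm gh N7032
def N10207 : Q := sm ge N7034
def N10208 : Q := sm gg N7034
def N10209 : Q := sm gh N7034
def N10212 : Q := sm gd N7036
def N10213 : Q := sm gg N7036
def N10214 : Q := sm gh N7036
def N10215 : Q := sm gj N7037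
def N10216 : Q := sm gh N7037
def N10217 : Q := sm gd N7038
def N10219 : Q := sm ge N7039
def N10220 : Q := sm gi N7039
def N10221 : Q := sm gf N7041
def N10222 : Q := sm gj N7041
def N10223 : Q := sm gh N7041
def N10224 : Q := sm gd N7042
def N10225 : Q := sm gi N7042
def N10226 : Q := sm gh N7043
def N10227 : Q := sm gi N7044
def N10228 : Q := sm gg N7046
def N10229 : Q := sm gh N7046
def N10230 : Q := sm gf N7047
def N10231 : Q := sm gj N7047
def N10232 : Q := sm gh N7047
def N10233 : Q := sm gd N7048
def N10235 : Q := sm gh N7049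
def N10236 : Q := sm gd N7050
def N10237 : Q := sm gi N7050
def N10238 : Q := sm ge N7051
def N10240 : Q := sm gf N7053
def N10242 : Q := sm gj N7055
def N10243 : Q := sm gh N7055
def N10244 : Q := sm gh N7056
def N10245 : Q := sm gd N7057
def N10246 : Q := sm gi N7057
def N10247 : Q := sm gc N7058
def N10248 : Q := sm gi N7058
def N10249 : Q := sm gi N7060
def N10250 : Q := sm gg N7062
def N10251 : Q := sm gh N7062
def N10252 : Q := sm gd N7063
def N10253 : Q := sm gi N7063
def N10254 : Q := sm gd N7064
def N10255 : Q := sm gi N7064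
def N10256 : Q := sm gc N7065
def N10257 : Q := sm gi N7065
def N10258 : Q := sm gb N7067
def N10259 : Q := sm gi N7067
def N10260 : Q := sm gh N7068
def N10261 : Q := sm gd N7070
def N10262 : Q := sm gg N7070
def N10263 : Q := sm gh N7070
def N10264 : Q := sm gj N7071
def N10265 : Q := sm gh N7071
def N10266 : Q := sm gi N7072
def N10267 : Q := sm gg N7074
def N10268 : Q := sm gh N7074
def N10269 : Q := sm gf N7075
def N10270 : Q := sm gj N7075
def N10271 : Q := sm gh N7075
def N10272 : Q := sm gd N7076
def N10274 : Q := sm gh N7077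
def N10276 : Q := sm gj N7080
def N10277 : Q := sm gh N7080
def N10278 : Q := sm gh N7081
def N10279 : Q := sm gd N7082
def N10280 : Q := sm gi N7082
def N10281 : Q := sm gc N7083
def N10282 : Q := sm gi N7083
def N10283 : Q := sm gi N7085
def N10284 : Q := sm gf N7087
def N10285 : Q := sm gj N7087
def N10286 : Q := sm gh N7087
def N10287 : Q := sm gd N7088
def N10288 : Q := sm gi N7088
def N10289 : Q := sm gj N7089
def N10290 : Q := sm gh N7089
def N10291 : Q := sm gh N7090
def N10292 : Q := sm gd N7091
def N10293 : Q := sm gi N7091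
def N10294 : Q := sm gc N7092
def N10295 : Q := sm gi N7092
def N10296 : Q := sm gi N7094
def N10297 : Q := sm gg N7096
def N10298 : Q := sm gh N7096
def N10299 : Q := sm gd N7097
def N10300 : Q := sm gi N7097
def N10301 : Q := sm gd N7098
def N10302 : Q := sm gi N7098
def N10303 : Q := sm gc N7099
def N10304 : Q := sm gi N7099
def N10305 : Q := sm gb N7101
def N10306 : Q := sm gi N7101
def N10307 : Q := sm gh N7102
def N10308 : Q := sm gh N7104
def N10309 : Q := sm gd N7105
def N10310 : Q := sm gi N7105
def N10311 : Q := sm gc N7106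
def N10312 : Q := sm ge N7106
def N10313 : Q := sm gi N7106
def N10314 : Q := sm gc N7108
def N10315 : Q := sm gi N7108
def N10316 : Q := sm gb N7110
def N10317 : Q := sm gi N7110
def N10318 : Q := sm gh N7111
def N10319 : Q := sm ga N7112
def N10320 : Q := sm gi N7112
def N10321 : Q := sm gh N7113
def N10322 : Q := sm gf N7115
def N10323 : Q := sm gh N7115
def N10324 : Q := sm ge N7116
def N10325 : Q := sm gg N7116
def N10326 : Q := sm gh N7116
def N10327 : Q := sm gd N7117
def N10328 : Q := sm gi N7117
def N10329 : Q := sm gg N7118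
def N10330 : Q := sm gh N7118
def N10331 : Q := sm gj N7119
def N10332 : Q := sm gh N7119
def N10333 : Q := sm gi N7120
def N10334 : Q := sm gd N7123
def N10335 : Q := sm gg N7123
def N10336 : Q := sm gh N7123
def N10337 : Q := sm gj N7124
def N10338 : Q := sm gh N7124
def N10339 : Q := sm gd N7125
def N10340 : Q := sm gi N7125
def N10341 : Q := sm ge N7126
def N10342 : Q := sm gi N7126
def N10343 : Q := sm gf N7128
def N10344 : Q := sm gj N7128
def N10345 : Q := sm gh N7128
def N10346 : Q := sm gd N7129
def N10347 : Q := sm gi N7129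
def N10348 : Q := sm gh N7130
def N10349 : Q := sm gi N7131
def N10350 : Q := sm gj N7133
def N10351 : Q := sm gh N7133
def N10352 : Q := sm gh N7134
def N10353 : Q := sm gd N7135
def N10354 : Q := sm gi N7135
def N10355 : Q := sm gc N7136
def N10356 : Q := sm gi N7136
def N10357 : Q := sm gi N7138
def N10358 : Q := sm ge N7140
def N10359 : Q := sm gg N7140
def N10360 : Q := sm gh N7140
def N10361 : Q := sm gd N7141
def N10362 : Q := sm gi N7141
def N10363 : Q := sm gd N7142
def N10364 : Q := sm gg N7142
def N10365 : Q := sm gh N7142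
def N10366 : Q := sm gj N7143
def N10367 : Q := sm gh N7143
def N10368 : Q := sm gd N7144
def N10369 : Q := sm gi N7144
def N10370 : Q := sm ge N7145
def N10371 : Q := sm gi N7145
def N10372 : Q := sm gf N7147
def N10373 : Q := sm gj N7147
def N10374 : Q := sm gh N7147
def N10375 : Q := sm gd N7148
def N10376 : Q := sm gi N7148
def N10377 : Q := sm gh N7149
def N10378 : Q := sm gi N7150
def N10379 : Q := sm gg N7152
def N10380 : Q := sm gh N7152
def N10381 : Q := sm gf N7153
def N10382 : Q := sm gj N7153
def N10383 : Q := sm gh N7153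
def N10384 : Q := sm gd N7154
def N10385 : Q := sm gi N7154
def N10386 : Q := sm gh N7155
def N10387 : Q := sm gd N7156
def N10388 : Q := sm gi N7156
def N10389 : Q := sm ge N7157
def N10390 : Q := sm gi N7157
def N10391 : Q := sm gf N7159
def N10392 : Q := sm gi N7159
def N10394 : Q := sm gj N7161
def N10395 : Q := sm gh N7161
def N10396 : Q := sm gh N7162
def N10397 : Q := sm gd N7163
def N10398 : Q := sm gi N7163
def N10399 : Q := sm gc N7164
def N10400 : Q := sm gi N7164
def N10401 : Q := sm gi N7166
def N10402 : Q := sm gg N7168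
def N10403 : Q := sm gh N7168
def N10404 : Q := sm gd N7169
def N10405 : Q := sm gi N7169
def N10406 : Q := sm gd N7170
def N10407 : Q := sm gi N7170
def N10408 : Q := sm gc N7171
def N10409 : Q := sm gi N7171
def N10410 : Q := sm gb N7173
def N10411 : Q := sm gi N7173
def N10412 : Q := sm gh N7174
def N10413 : Q := sm gg N7176
def N10414 : Q := sm gh N7176
def N10415 : Q := sm gj N7177
def N10416 : Q := sm gh N7177
def N10417 : Q := sm gd N7178
def N10420 : Q := sm ge N7179
def N10422 : Q := sm gf N7181
def N10423 : Q := sm gj N7181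
def N10424 : Q := sm gh N7181
def N10425 : Q := sm gd N7182
def N10426 : Q := sm gi N7182
def N10427 : Q := sm gh N7183
def N10428 : Q := sm gd N7184
def N10429 : Q := sm gi N7184
def N10430 : Q := sm ge N7185
def N10431 : Q := sm gi N7185
def N10432 : Q := sm gf N7187
def N10433 : Q := sm gi N7187
def N10435 : Q := sm gj N7189
def N10436 : Q := sm gh N7189
def N10437 : Q := sm gh N7190
def N10438 : Q := sm gd N7191
def N10439 : Q := sm gi N7191
def N10440 : Q := sm gc N7192
def N10441 : Q := sm gi N7192
def N10442 : Q := sm gi N7194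
def N10443 : Q := sm gj N7196
def N10444 : Q := sm gh N7196
def N10445 : Q := sm gh N7197
def N10446 : Q := sm gd N7198
def N10447 : Q := sm gi N7198
def N10448 : Q := sm gc N7199
def N10449 : Q := sm ge N7199
def N10450 : Q := sm gi N7199
def N10451 : Q := sm gd N7201
def N10452 : Q := sm gi N7201
def N10453 : Q := sm ge N7202
def N10454 : Q := sm gi N7202
def N10455 : Q := sm gf N7204
def N10456 : Q := sm gi N7204
def N10458 : Q := sm gg N7206
def N10459 : Q := sm gi N7206
def N10460 : Q := sm gh N7207
def N10461 : Q := sm gg N7209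
def N10462 : Q := sm gh N7209
def N10463 : Q := sm gd N7210
def N10464 : Q := sm gi N7210
def N10465 : Q := sm gd N7211
def N10466 : Q := sm gi N7211
def N10467 : Q := sm gc N7212
def N10468 : Q := sm gi N7212
def N10469 : Q := sm gb N7214
def N10470 : Q := sm gi N7214
def N10471 : Q := sm gh N7215
def N10472 : Q := sm gh N7217
def N10473 : Q := sm gd N7218
def N10474 : Q := sm gi N7218
def N10475 : Q := sm gc N7219
def N10476 : Q := sm ge N7219
def N10477 : Q := sm gi N7219
def N10478 : Q := sm gc N7221
def N10479 : Q := sm gi N7221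
def N10480 : Q := sm gb N7223
def N10481 : Q := sm gi N7223
def N10482 : Q := sm gh N7224
def N10483 : Q := sm ga N7225
def N10484 : Q := sm gi N7225
def N10485 : Q := sm gh N7226
def N10486 : Q := sm gg N7228
def N10487 : Q := sm gh N7228
def N10488 : Q := sm gd N7229
def N10489 : Q := sm gi N7229
def N10490 : Q := sm gd N7230
def N10491 : Q := sm gi N7230
def N10492 : Q := sm gc N7231
def N10493 : Q := sm gi N7231
def N10494 : Q := sm gb N7233
def N10495 : Q := sm gi N7233
def N10496 : Q := sm gh N7234
def N10497 : Q := sm gh N7236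
def N10498 : Q := sm gd N7237
def N10499 : Q := sm gi N7237
def N10500 : Q := sm gc N7238
def N10501 : Q := sm ge N7238
def N10502 : Q := sm gi N7238
def N10503 : Q := sm gc N7240
def N10504 : Q := sm gi N7240
def N10505 : Q := sm gb N7242
def N10506 : Q := sm gi N7242
def N10507 : Q := sm gh N7243
def N10508 : Q := sm ga N7244
def N10509 : Q := sm gi N7244
def N10510 : Q := sm gh N7245
def N10511 : Q := sm gd N7247
def N10513 : Q := sm gc N7248
def N10514 : Q := sm ge N7248
def N10515 : Q := sm gi N7248
def N10516 : Q := sm gb N7250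
def N10517 : Q := sm ge N7250
def N10518 : Q := sm gi N7250
def N10519 : Q := sm gi N7251
def N10520 : Q := sm gh N7252
def N10521 : Q := sm gb N7253
def N10522 : Q := sm gi N7253
def N10523 : Q := sm gh N7254
def N10524 : Q := sm ga N7255
def N10525 : Q := sm gi N7255
def N10526 : Q := sm gh N7256
def N10527 : Q := sm gi N7258
def N10528 : Q := sm gh N7259
def N10529 : Q := sm gd N7260
def N10530 : Q := sm gc N7261
def N10531 : Q := sm ge N7261
def N10532 : Q := sm gi N7261
def N10533 : Q := sm gb N7263
def N10534 : Q := sm ge N7263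
def N10538 : Q := sm ga N7266
def N10539 : Q := sm ge N7266
def N10540 : Q := sm gi N7266
def N10541 : Q := sm gd N7267
def N10542 : Q := sm gi N7267
def N10543 : Q := sm gh N7268
def N10546 : Q := sm gi N7271
def N10547 : Q := sm gh N7272
def N10548 : Q := sm gi N7274
def N10549 : Q := sm gh N7275
def N10550 : Q := sm gd N7276
def N10551 : Q := sm gh N7277
def N10552 : Q := sm gd N7278
def N10553 : Q := sm ge N7279
def N10554 : Q := sm gh N7280
def N10555 : Q := sm gi N7280
def N10556 : Q := sm gi N7281
def N10557 : Q := sm gh N7282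
def N10558 : Q := sm gh N7283
def N10559 : Q := sm gd N7284
def N10560 : Q := sm gd N7285
def N10561 : Q := sm gc N7286
def N10564 : Q := sm ge N7287
def N10566 : Q := sm gc N7289
def N10567 : Q := sm ge N7289
def N10568 : Q := sm gb N7290
def N10569 : Q := sm ge N7290
def N10570 : Q := sm gf N7291
def N10571 : Q := sm ga N7292
def N10572 : Q := sm ge N7292
def N10573 : Q := sm gd N7293
def N10574 : Q := sm gf N7293
def N10575 : Q := sm gg N7294
def N10576 : Q := sm ge N7295
def N10577 : Q := sm gd N7296
def N10578 : Q := sm gf N7296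
def N10579 : Q := sm gf N7297
def N10580 : Q := sm gh N7297
def N10581 : Q := sm gg N7298
def N10582 : Q := sm gj N7299
def N10583 : Q := sm gd N7300
def N10584 : Q := sm gf N7300
def N10585 : Q := sm gc N7301
def N10586 : Q := sm gf N7301
def N10587 : Q := sm gh N7301
def N10588 : Q := sm gg N7302
def N10589 : Q := sm ge N7303
def N10591 : Q := sm gh N7303
def N10592 : Q := sm gi N7304
def N10594 : Q := sm gd N7307
def N10595 : Q := sm gc N7308
def N10597 : Q := sm gb N7309
def N10598 : Q := sm ge N7309
def N10600 : Q := sm ga N7311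
def N10601 : Q := sm ge N7311
def N10602 : Q := sm gd N7312
def N10603 : Q := sm gf N7312
def N10605 : Q := sm ga N7314
def N10606 : Q := sm ge N7314
def N10607 : Q := sm gd N7315
def N10608 : Q := sm gf N7315
def N10609 : Q := sm gg N7316
def N10610 : Q := sm ge N7317
def N10611 : Q := sm gd N7318
def N10612 : Q := sm gf N7318
def N10613 : Q := sm gf N7319
def N10614 : Q := sm gh N7319
def N10615 : Q := sm gg N7320
def N10616 : Q := sm gj N7321
def N10617 : Q := sm gd N7322
def N10618 : Q := sm gf N7322
def N10619 : Q := sm gc N7323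
def N10620 : Q := sm gf N7323
def N10621 : Q := sm gh N7323
def N10622 : Q := sm gg N7324
def N10623 : Q := sm ge N7325
def N10624 : Q := sm gg N7325
def N10625 : Q := sm gh N7325
def N10627 : Q := sm gj N7327
def N10628 : Q := sm gc N7329
def N10629 : Q := sm gf N7329
def N10630 : Q := sm gh N7329
def N10631 : Q := sm gg N7330
def N10632 : Q := sm gf N7331
def N10633 : Q := sm gh N7331
def N10634 : Q := sm ge N7332
def N10635 : Q := sm gg N7332
def N10636 : Q := sm gh N7332
def N10637 : Q := sm gi N7333
def N10638 : Q := sm gj N7334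
def N10639 : Q := sm gg N7335
def N10640 : Q := sm gh N7335
def N10644 : Q := sm gc N7340
def N10646 : Q := sm gb N7341
def N10647 : Q := sm ge N7341
def N10650 : Q := sm ge N7343
def N10654 : Q := sm ge N7346
def N10655 : Q := sm gd N7347
def N10657 : Q := sm gf N7348
def N10659 : Q := sm gg N7349
def N10661 : Q := sm ge N7351
def N10662 : Q := sm gd N7352
def N10663 : Q := sm gf N7352
def N10664 : Q := sm gf N7353
def N10666 : Q := sm gg N7354
def N10667 : Q := sm gj N7355
def N10668 : Q := sm gd N7356
def N10669 : Q := sm gf N7356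
def N10670 : Q := sm gc N7357
def N10671 : Q := sm gf N7357
def N10673 : Q := sm gg N7358
def N10674 : Q := sm ge N7359
def N10675 : Q := sm gg N7359
def N10678 : Q := sm gj N7361
def N10679 : Q := sm gc N7363
def N10680 : Q := sm gf N7363
def N10682 : Q := sm gg N7364
def N10683 : Q := sm gf N7365
def N10684 : Q := sm gh N7365
def N10685 : Q := sm ge N7366
def N10686 : Q := sm gg N7366
def N10687 : Q := sm gh N7366
def N10689 : Q := sm gj N7368
def N10690 : Q := sm gg N7369
def N10691 : Q := sm gh N7369
def N10693 : Q := sm gh N7370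
def N10695 : Q := sm gb N7374
def N10696 : Q := sm gf N7374
def N10697 : Q := sm gh N7374
def N10698 : Q := sm ge N7375
def N10699 : Q := sm gg N7375
def N10700 : Q := sm gh N7375
def N10701 : Q := sm gi N7376
def N10702 : Q := sm gj N7377
def N10703 : Q := sm ge N7378
def N10704 : Q := sm gg N7378
def N10705 : Q := sm gh N7378
def N10706 : Q := sm gd N7379
def N10707 : Q := sm gi N7379
def N10708 : Q := sm gg N7380
def N10709 : Q := sm gh N7380
def N10710 : Q := sm gj N7381
def N10711 : Q := sm gh N7381
def N10712 : Q := sm gi N7382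
def N10713 : Q := sm gf N7385
def N10714 : Q := sm gj N7385
def N10715 : Q := sm gh N7385
def N10716 : Q := sm gd N7386
def N10720 : Q := sm ge N7390
def N10721 : Q := sm gd N7391
def N10722 : Q := sm gf N7391
def N10723 : Q := sm gf N7392
def N10724 : Q := sm gh N7392
def N10727 : Q := sm gd N7395
def N10728 : Q := sm gf N7395
def N10729 : Q := sm gc N7396
def N10730 : Q := sm gf N7396
def N10731 : Q := sm gh N7396
def N10732 : Q := sm gg N7397
def N10733 : Q := sm ge N7398
def N10734 : Q := sm gg N7398
def N10737 : Q := sm gj N7400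
def N10738 : Q := sm gc N7402
def N10739 : Q := sm gf N7402
def N10741 : Q := sm gg N7403
def N10742 : Q := sm gf N7404
def N10743 : Q := sm gh N7404
def N10744 : Q := sm ge N7405
def N10745 : Q := sm gg N7405
def N10746 : Q := sm gh N7405
def N10747 : Q := sm gi N7406
def N10748 : Q := sm gj N7407
def N10749 : Q := sm gg N7408
def N10750 : Q := sm gh N7408
def N10752 : Q := sm gh N7409
def N10753 : Q := sm gi N7410
def N10754 : Q := sm gb N7413
def N10755 : Q := sm gf N7413
def N10756 : Q := sm gh N7413
def N10757 : Q := sm ge N7414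
def N10758 : Q := sm gg N7414
def N10759 : Q := sm gh N7414
def N10760 : Q := sm gi N7415
def N10761 : Q := sm gj N7416
def N10762 : Q := sm ge N7417
def N10763 : Q := sm gg N7417
def N10764 : Q := sm gh N7417
def N10765 : Q := sm gd N7418
def N10766 : Q := sm gi N7418
def N10767 : Q := sm gg N7419
def N10768 : Q := sm gh N7419
def N10769 : Q := sm gj N7420
def N10770 : Q := sm gh N7420
def N10771 : Q := sm gi N7421
def N10772 : Q := sm gf N7424
def N10773 : Q := sm gj N7424
def N10774 : Q := sm gh N7424
def N10775 : Q := sm gd N7425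
def N10776 : Q := sm gi N7425
def N10777 : Q := sm gh N7426
def N10778 : Q := sm gi N7427
def N10779 : Q := sm gd N7429
def N10780 : Q := sm gf N7429
def N10781 : Q := sm gc N7430
def N10782 : Q := sm gf N7430
def N10783 : Q := sm gh N7430
def N10784 : Q := sm gg N7431
def N10785 : Q := sm ge N7432
def N10788 : Q := sm gi N7433
def N10790 : Q := sm gc N7436
def N10791 : Q := sm gf N7436
def N10792 : Q := sm gh N7436
def N10794 : Q := sm gf N7438
def N10795 : Q := sm gh N7438
def N10796 : Q := sm ge N7439
def N10797 : Q := sm gg N7439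
def N10798 : Q := sm gh N7439
def N10799 : Q := sm gi N7440
def N10801 : Q := sm gg N7442
def N10802 : Q := sm gh N7442
def N10803 : Q := sm gj N7443
def N10804 : Q := sm gh N7443
def N10806 : Q := sm gb N7447
def N10807 : Q := sm gf N7447
def N10808 : Q := sm gh N7447
def N10809 : Q := sm ge N7448
def N10810 : Q := sm gg N7448
def N10812 : Q := sm gi N7449
def N10813 : Q := sm gj N7450
def N10814 : Q := sm ge N7451
def N10815 : Q := sm gg N7451
def N10816 : Q := sm gh N7451
def N10817 : Q := sm gd N7452
def N10818 : Q := sm gi N7452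
def N10819 : Q := sm gg N7453
def N10820 : Q := sm gh N7453
def N10821 : Q := sm gj N7454
def N10822 : Q := sm gh N7454
def N10823 : Q := sm gi N7455
def N10824 : Q := sm gf N7458
def N10825 : Q := sm gj N7458
def N10828 : Q := sm gi N7459
def N10829 : Q := sm gh N7460
def N10830 : Q := sm gi N7461
def N10831 : Q := sm gf N7463
def N10832 : Q := sm gh N7463
def N10833 : Q := sm ge N7464
def N10834 : Q := sm gg N7464
def N10835 : Q := sm gh N7464
def N10836 : Q := sm gd N7465
def N10837 : Q := sm gi N7465
def N10838 : Q := sm gg N7466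
def N10839 : Q := sm gh N7466
def N10840 : Q := sm gj N7467
def N10841 : Q := sm gh N7467
def N10842 : Q := sm gi N7468
def N10843 : Q := sm gd N7471
def N10844 : Q := sm gg N7471
def N10845 : Q := sm gh N7471
def N10846 : Q := sm gj N7472
def N10847 : Q := sm gh N7472
def N10848 : Q := sm gd N7473
def N10849 : Q := sm gi N7473
def N10850 : Q := sm ge N7474
def N10851 : Q := sm gi N7474
def N10852 : Q := sm gf N7476
def N10853 : Q := sm gj N7476
def N10854 : Q := sm gh N7476
def N10855 : Q := sm gd N7477
def N10856 : Q := sm gi N7477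
def N10857 : Q := sm gh N7478
def N10858 : Q := sm gi N7479
def N10860 : Q := sm gh N7481
def N10861 : Q := sm gh N7482
def N10862 : Q := sm gd N7483
def N10863 : Q := sm gi N7483
def N10864 : Q := sm gc N7484
def N10865 : Q := sm gi N7484
def N10866 : Q := sm gi N7486
def N10867 : Q := sm gc N7488
def N10868 : Q := sm gf N7488
def N10871 : Q := sm gf N7490
def N10872 : Q := sm gh N7490
def N10874 : Q := sm gg N7491
def N10875 : Q := sm gh N7491
def N10876 : Q := sm gi N7492
def N10878 : Q := sm gg N7494
def N10879 : Q := sm gh N7494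
def N10881 : Q := sm gh N7495
def N10882 : Q := sm gi N7496
def N10883 : Q := sm gb N7499
def N10884 : Q := sm gf N7499
def N10885 : Q := sm gh N7499
def N10886 : Q := sm ge N7500
def N10891 : Q := sm ge N7503
def N10892 : Q := sm gg N7503
def N10893 : Q := sm gh N7503
def N10894 : Q := sm gd N7504
def N10895 : Q := sm gi N7504
def N10896 : Q := sm gg N7505
def N10897 : Q := sm gh N7505
def N10898 : Q := sm gj N7506
def N10899 : Q := sm gh N7506
def N10900 : Q := sm gi N7507
def N10901 : Q := sm gf N7510
def N10902 : Q := sm gj N7510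
def N10903 : Q := sm gh N7510
def N10904 : Q := sm gd N7511
def N10906 : Q := sm gh N7512
def N10907 : Q := sm gi N7513
def N10908 : Q := sm gf N7515
def N10910 : Q := sm ge N7516
def N10911 : Q := sm gg N7516
def N10912 : Q := sm gh N7516
def N10913 : Q := sm gd N7517
def N10914 : Q := sm gi N7517
def N10915 : Q := sm gg N7518
def N10916 : Q := sm gh N7518
def N10917 : Q := sm gj N7519
def N10920 : Q := sm gd N7523
def N10921 : Q := sm gg N7523
def N10922 : Q := sm gh N7523
def N10923 : Q := sm gj N7524
def N10924 : Q := sm gh N7524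
def N10925 : Q := sm gd N7525
def N10927 : Q := sm ge N7526
def N10929 : Q := sm gf N7528
def N10930 : Q := sm gj N7528
def N10931 : Q := sm gh N7528
def N10932 : Q := sm gd N7529
def N10933 : Q := sm gi N7529
def N10934 : Q := sm gh N7530
def N10936 : Q := sm gj N7533
def N10937 : Q := sm gh N7533
def N10938 : Q := sm gh N7534
def N10939 : Q := sm gd N7535
def N10940 : Q := sm gi N7535
def N10941 : Q := sm gc N7536
def N10943 : Q := sm gi N7538
def N10944 : Q := sm ge N7540
def N10945 : Q := sm gg N7540
def N10946 : Q := sm gh N7540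
def N10947 : Q := sm gd N7541
def N10949 : Q := sm gd N7542
def N10950 : Q := sm gg N7542
def N10951 : Q := sm gh N7542
def N10952 : Q := sm gj N7543
def N10953 : Q := sm gh N7543
def N10954 : Q := sm gd N7544
def N10955 : Q := sm gi N7544
def N10956 : Q := sm ge N7545
def N10958 : Q := sm gf N7547
def N10959 : Q := sm gj N7547
def N10960 : Q := sm gh N7547
def N10961 : Q := sm gd N7548
def N10962 : Q := sm gi N7548
def N10963 : Q := sm gh N7549
def N10964 : Q := sm gi N7550
def N10965 : Q := sm gg N7552
def N10966 : Q := sm gh N7552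
def N10967 : Q := sm gf N7553
def N10968 : Q := sm gj N7553
def N10969 : Q := sm gh N7553
def N10970 : Q := sm gd N7554
def N10971 : Q := sm gi N7554
def N10972 : Q := sm gh N7555
def N10973 : Q := sm gd N7556
def N10974 : Q := sm gi N7556
def N10975 : Q := sm ge N7557
def N10977 : Q := sm gf N7559
def N10978 : Q := sm gi N7559
def N10979 : Q := sm gh N7560
def N10980 : Q := sm gj N7561
def N10981 : Q := sm gh N7561
def N10982 : Q := sm gh N7562
def N10983 : Q := sm gd N7563
def N10984 : Q := sm gi N7563
def N10985 : Q := sm gc N7564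
def N10986 : Q := sm gi N7564
def N10987 : Q := sm gi N7566
def N10988 : Q := sm gg N7568
def N10989 : Q := sm gh N7568
def N10990 : Q := sm gd N7569
def N10991 : Q := sm gi N7569
def N10992 : Q := sm gd N7570
def N10993 : Q := sm gi N7570
def N10994 : Q := sm gi N7571
def N10996 : Q := sm gb N7575
def N10997 : Q := sm gf N7575
def N10998 : Q := sm gh N7575
def N10999 : Q := sm ge N7576
def N11000 : Q := sm gg N7576
def N11001 : Q := sm gh N7576
def N11003 : Q := sm gj N7578
def N11004 : Q := sm ge N7579
def N11005 : Q := sm gg N7579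
def N11006 : Q := sm gh N7579
def N11007 : Q := sm gd N7580
def N11008 : Q := sm gi N7580
def N11009 : Q := sm gg N7581
def N11010 : Q := sm gh N7581
def N11011 : Q := sm gj N7582
def N11012 : Q := sm gh N7582
def N11013 : Q := sm gi N7583
def N11014 : Q := sm gf N7586
def N11016 : Q := sm gh N7586
def N11017 : Q := sm gd N7587
def N11018 : Q := sm gi N7587
def N11019 : Q := sm gh N7588
def N11020 : Q := sm gi N7589
def N11021 : Q := sm gf N7591
def N11022 : Q := sm gh N7591
def N11023 : Q := sm ge N7592
def N11024 : Q := sm gg N7592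
def N11025 : Q := sm gh N7592
def N11026 : Q := sm gd N7593
def N11027 : Q := sm gi N7593
def N11028 : Q := sm gg N7594
def N11030 : Q := sm gj N7595
def N11031 : Q := sm gh N7595
def N11033 : Q := sm gd N7599
def N11034 : Q := sm gg N7599
def N11035 : Q := sm gh N7599
def N11036 : Q := sm gj N7600
def N11037 : Q := sm gh N7600
def N11038 : Q := sm gd N7601
def N11039 : Q := sm gi N7601
def N11040 : Q := sm ge N7602
def N11041 : Q := sm gi N7602
def N11042 : Q := sm gf N7604
def N11043 : Q := sm gj N7604
def N11044 : Q := sm gh N7604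
def N11045 : Q := sm gd N7605
def N11047 : Q := sm gh N7606
def N11048 : Q := sm gi N7607
def N11049 : Q := sm gj N7609
def N11050 : Q := sm gh N7609
def N11051 : Q := sm gh N7610
def N11052 : Q := sm gd N7611
def N11053 : Q := sm gi N7611
def N11054 : Q := sm gc N7612
def N11055 : Q := sm gi N7612
def N11057 : Q := sm gf N7616
def N11058 : Q := sm gh N7616
def N11059 : Q := sm ge N7617
def N11060 : Q := sm gg N7617
def N11061 : Q := sm gh N7617
def N11062 : Q := sm gd N7618
def N11064 : Q := sm gg N7619
def N11065 : Q := sm gh N7619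
def N11066 : Q := sm gj N7620
def N11067 : Q := sm gh N7620
def N11069 : Q := sm gd N7624
def N11070 : Q := sm gg N7624
def N11071 : Q := sm gh N7624
def N11072 : Q := sm gj N7625
def N11073 : Q := sm gh N7625
def N11074 : Q := sm gd N7626
def N11076 : Q := sm ge N7627
def N11077 : Q := sm gi N7627
def N11078 : Q := sm gf N7629
def N11079 : Q := sm gj N7629
def N11080 : Q := sm gh N7629
def N11081 : Q := sm gd N7630
def N11083 : Q := sm gh N7631
def N11084 : Q := sm gi N7632
def N11085 : Q := sm gj N7634
def N11086 : Q := sm gh N7634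
def N11087 : Q := sm gh N7635
def N11088 : Q := sm gd N7636
def N11089 : Q := sm gi N7636
def N11090 : Q := sm gc N7637
def N11091 : Q := sm gi N7637
def N11092 : Q := sm gi N7639
def N11093 : Q := sm ge N7641
def N11094 : Q := sm gg N7641
def N11095 : Q := sm gh N7641
def N11096 : Q := sm gd N7642
def N11098 : Q := sm gd N7643
def N11099 : Q := sm gg N7643
def N11100 : Q := sm gh N7643
def N11101 : Q := sm gj N7644
def N11102 : Q := sm gh N7644
def N11103 : Q := sm gd N7645
def N11105 : Q := sm ge N7646
def N11107 : Q := sm gf N7648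
def N11108 : Q := sm gj N7648
def N11109 : Q := sm gh N7648
def N11110 : Q := sm gd N7649
def N11112 : Q := sm gh N7650
def N11114 : Q := sm gg N7653
def N11115 : Q := sm gh N7653
def N11116 : Q := sm gf N7654
def N11117 : Q := sm gj N7654
def N11118 : Q := sm gh N7654
def N11119 : Q := sm gd N7655
def N11120 : Q := sm gi N7655
def N11121 : Q := sm gh N7656
def N11122 : Q := sm gd N7657
def N11123 : Q := sm gi N7657
def N11124 : Q := sm ge N7658
def N11126 : Q := sm gf N7660
def N11127 : Q := sm gi N7660
def N11128 : Q := sm gh N7661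
def N11129 : Q := sm gj N7662
def N11130 : Q := sm gh N7662
def N11131 : Q := sm gh N7663
def N11132 : Q := sm gd N7664
def N11134 : Q := sm gc N7665
def N11135 : Q := sm gi N7665
def N11138 : Q := sm gh N7669
def N11139 : Q := sm gd N7670
def N11141 : Q := sm gd N7671
def N11142 : Q := sm gi N7671
def N11143 : Q := sm gc N7672
def N11144 : Q := sm gi N7672
def N11145 : Q := sm gb N7674
def N11146 : Q := sm gi N7674
def N11147 : Q := sm gh N7675
def N11148 : Q := sm ge N7677
def N11149 : Q := sm gg N7677
def N11150 : Q := sm gh N7677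
def N11151 : Q := sm gd N7678
def N11153 : Q := sm gd N7679
def N11154 : Q := sm gg N7679
def N11155 : Q := sm gh N7679
def N11156 : Q := sm gj N7680
def N11157 : Q := sm gh N7680
def N11158 : Q := sm gd N7681
def N11160 : Q := sm ge N7682
def N11162 : Q := sm gf N7684
def N11163 : Q := sm gj N7684
def N11164 : Q := sm gh N7684
def N11165 : Q := sm gd N7685
def N11166 : Q := sm gi N7685
def N11167 : Q := sm gh N7686
def N11169 : Q := sm gg N7689
def N11170 : Q := sm gh N7689
def N11171 : Q := sm gf N7690
def N11172 : Q := sm gj N7690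
def N11173 : Q := sm gh N7690
def N11174 : Q := sm gd N7691
def N11175 : Q := sm gi N7691
def N11176 : Q := sm gh N7692
def N11177 : Q := sm gd N7693
def N11178 : Q := sm gi N7693
def N11179 : Q := sm ge N7694
def N11181 : Q := sm gf N7696
def N11182 : Q := sm gi N7696
def N11183 : Q := sm gh N7697
def N11184 : Q := sm gj N7698
def N11185 : Q := sm gh N7698
def N11186 : Q := sm gh N7699
def N11187 : Q := sm gd N7700
def N11189 : Q := sm gc N7701
def N11190 : Q := sm gi N7701
def N11192 : Q := sm gg N7705
def N11193 : Q := sm gh N7705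
def N11194 : Q := sm gd N7706
def N11195 : Q := sm gi N7706
def N11196 : Q := sm gd N7707
def N11197 : Q := sm gi N7707
def N11198 : Q := sm gc N7708
def N11199 : Q := sm gi N7708
def N11200 : Q := sm gb N7710
def N11201 : Q := sm gi N7710
def N11202 : Q := sm gd N7713
def N11203 : Q := sm gg N7713
def N11204 : Q := sm gh N7713
def N11205 : Q := sm gj N7714
def N11206 : Q := sm gh N7714
def N11207 : Q := sm gd N7715
def N11208 : Q := sm gi N7715
def N11209 : Q := sm gc N7716
def N11210 : Q := sm ge N7716
def N11212 : Q := sm gg N7718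
def N11213 : Q := sm gh N7718
def N11214 : Q := sm gf N7719
def N11215 : Q := sm gj N7719
def N11216 : Q := sm gh N7719
def N11217 : Q := sm gd N7720
def N11218 : Q := sm gi N7720
def N11219 : Q := sm gh N7721
def N11220 : Q := sm gd N7722
def N11222 : Q := sm ge N7723
def N11224 : Q := sm gf N7725
def N11225 : Q := sm gi N7725
def N11227 : Q := sm gj N7727
def N11230 : Q := sm gi N7729
def N11231 : Q := sm gi N7731
def N11232 : Q := sm gf N7733
def N11233 : Q := sm gj N7733
def N11234 : Q := sm gh N7733
def N11235 : Q := sm gd N7734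
def N11236 : Q := sm gi N7734
def N11237 : Q := sm gj N7735
def N11238 : Q := sm gh N7735
def N11239 : Q := sm gh N7736
def N11240 : Q := sm gd N7737
def N11241 : Q := sm gi N7737
def N11242 : Q := sm ge N7738
def N11243 : Q := sm gi N7738
def N11244 : Q := sm gd N7740
def N11245 : Q := sm gi N7740
def N11246 : Q := sm ge N7741
def N11247 : Q := sm gi N7741
def N11248 : Q := sm gf N7743
def N11249 : Q := sm gi N7743
def N11250 : Q := sm gh N7744
def N11251 : Q := sm gg N7745
def N11252 : Q := sm gi N7745
def N11253 : Q := sm gh N7746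
def N11254 : Q := sm gg N7748
def N11255 : Q := sm gh N7748
def N11257 : Q := sm gi N7750
def N11260 : Q := sm gd N7757
def N11261 : Q := sm gg N7757
def N11262 : Q := sm gh N7757
def N11263 : Q := sm gj N7758
def N11264 : Q := sm gh N7758
def N11268 : Q := sm gg N7761
def N11269 : Q := sm gh N7761
def N11270 : Q := sm gf N7762
def N11271 : Q := sm gj N7762
def N11272 : Q := sm gh N7762
def N11273 : Q := sm gd N7763
def N11274 : Q := sm gh N7764
def N11275 : Q := sm gd N7765
def N11277 : Q := sm gf N7767
def N11278 : Q := sm gj N7768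
def N11279 : Q := sm gh N7768
def N11280 : Q := sm gh N7769
def N11281 : Q := sm gd N7770
def N11282 : Q := sm gc N7771
def N11283 : Q := sm gf N7773
def N11284 : Q := sm gj N7773
def N11285 : Q := sm gh N7773
def N11286 : Q := sm gd N7774
def N11287 : Q := sm gi N7774
def N11288 : Q := sm gj N7775
def N11289 : Q := sm gh N7775
def N11290 : Q := sm gh N7776
def N11291 : Q := sm gd N7777
def N11292 : Q := sm gc N7778
def N11293 : Q := sm ge N7778
def N11294 : Q := sm gd N7779
def N11295 : Q := sm ge N7780
def N11296 : Q := sm gf N7781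
def N11297 : Q := sm gg N7782
def N11298 : Q := sm gg N7783
def N11299 : Q := sm gh N7783
def N11300 : Q := sm gd N7784
def N11301 : Q := sm gd N7785
def N11302 : Q := sm gc N7786
def N11303 : Q := sm gb N7787
def N11304 : Q := sm gh N7788
def N11305 : Q := sm gd N7789
def N11306 : Q := sm gc N7790
def N11307 : Q := sm ge N7790
def N11308 : Q := sm gc N7791
def N11309 : Q := sm gb N7792
def N11310 : Q := sm ga N7793
def N11311 : Q := sm gc N7794
def N11312 : Q := sm gg N7794
def N11313 : Q := sm gh N7794
def N11314 : Q := sm gf N7795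
def N11315 : Q := sm gj N7795
def N11316 : Q := sm gf N7797
def N11317 : Q := sm gj N7797
def N11318 : Q := sm gh N7797
def N11319 : Q := sm gi N7798
def N11320 : Q := sm gj N7799
def N11322 : Q := sm ge N7802
def N11323 : Q := sm gj N7802
def N11324 : Q := sm gh N7802
def N11325 : Q := sm gh N7803
def N11326 : Q := sm gi N7804
def N11328 : Q := sm ge N7808
def N11329 : Q := sm gg N7808
def N11330 : Q := sm gh N7808
def N11331 : Q := sm gd N7809
def N11333 : Q := sm gd N7810
def N11334 : Q := sm gg N7810
def N11335 : Q := sm gh N7810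
def N11336 : Q := sm gj N7811
def N11337 : Q := sm gh N7811
def N11338 : Q := sm gd N7812
def N11340 : Q := sm ge N7813
def N11341 : Q := sm gi N7813
def N11342 : Q := sm gf N7815
def N11343 : Q := sm gj N7815
def N11344 : Q := sm gh N7815
def N11345 : Q := sm gd N7816
def N11347 : Q := sm gh N7817
def N11349 : Q := sm gg N7820
def N11350 : Q := sm gh N7820
def N11351 : Q := sm gf N7821
def N11352 : Q := sm gj N7821
def N11353 : Q := sm gh N7821
def N11354 : Q := sm gd N7822
def N11355 : Q := sm gi N7822
def N11356 : Q := sm gh N7823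
def N11357 : Q := sm gd N7824
def N11358 : Q := sm gi N7824
def N11359 : Q := sm ge N7825
def N11361 : Q := sm gf N7827
def N11362 : Q := sm gi N7827
def N11365 : Q := sm gh N7829
def N11366 : Q := sm gh N7830
def N11367 : Q := sm gd N7831
def N11369 : Q := sm gc N7832
def N11372 : Q := sm gh N7836
def N11373 : Q := sm gd N7837
def N11375 : Q := sm gd N7838
def N11377 : Q := sm gc N7839
def N11378 : Q := sm gi N7839
def N11379 : Q := sm gb N7841
def N11380 : Q := sm gi N7841
def N11381 : Q := sm gh N7842
def N11382 : Q := sm gd N7844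
def N11383 : Q := sm gg N7844
def N11384 : Q := sm gh N7844
def N11385 : Q := sm gj N7845
def N11386 : Q := sm gh N7845
def N11387 : Q := sm gd N7846
def N11389 : Q := sm gc N7847
def N11390 : Q := sm ge N7847
def N11392 : Q := sm gg N7849
def N11393 : Q := sm gh N7849
def N11394 : Q := sm gj N7850
def N11395 : Q := sm gh N7850
def N11396 : Q := sm gd N7851
def N11398 : Q := sm gh N7852
def N11399 : Q := sm gd N7853
def N11401 : Q := sm ge N7854
def N11403 : Q := sm gf N7856
def N11404 : Q := sm gi N7856
def N11405 : Q := sm gh N7857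
def N11406 : Q := sm gh N7858
def N11407 : Q := sm gd N7859
def N11409 : Q := sm gc N7860
def N11410 : Q := sm gi N7860
def N11412 : Q := sm gj N7864
def N11413 : Q := sm gh N7864
def N11414 : Q := sm gd N7865
def N11415 : Q := sm gi N7865
def N11416 : Q := sm gh N7866
def N11417 : Q := sm gd N7867
def N11418 : Q := sm gi N7867
def N11419 : Q := sm gc N7868
def N11420 : Q := sm ge N7868
def N11421 : Q := sm gi N7868
def N11422 : Q := sm gd N7870
def N11423 : Q := sm gi N7870
def N11424 : Q := sm ge N7871
def N11425 : Q := sm gi N7871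
def N11426 : Q := sm gf N7873
def N11427 : Q := sm gi N7873
def N11428 : Q := sm gh N7874
def N11429 : Q := sm gg N7875
def N11430 : Q := sm gi N7875
def N11431 : Q := sm gh N7876
def N11432 : Q := sm gd N7878
def N11433 : Q := sm gi N7878
def N11434 : Q := sm gc N7879
def N11436 : Q := sm gb N7881
def N11437 : Q := sm gi N7881
def N11439 : Q := sm gc N7884
def N11440 : Q := sm gi N7884
def N11441 : Q := sm gb N7886
def N11442 : Q := sm gi N7886
def N11443 : Q := sm gh N7887
def N11445 : Q := sm gi N7888
def N11446 : Q := sm gh N7889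
def N11447 : Q := sm gh N7891
def N11448 : Q := sm gd N7892
def N11450 : Q := sm gc N7893
def N11451 : Q := sm ge N7893
def N11454 : Q := sm gi N7895
def N11455 : Q := sm gf N7896
def N11456 : Q := sm gi N7896
def N11458 : Q := sm gd N7898
def N11460 : Q := sm ge N7899
def N11462 : Q := sm gf N7901
def N11464 : Q := sm gh N7902
def N11465 : Q := sm gg N7903
def N11466 : Q := sm gi N7903
def N11468 : Q := sm ge N7907
def N11469 : Q := sm gi N7907
def N11470 : Q := sm gf N7909
def N11471 : Q := sm gi N7909
def N11472 : Q := sm gh N7910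
def N11473 : Q := sm gg N7911
def N11474 : Q := sm gi N7911
def N11475 : Q := sm gh N7912
def N11476 : Q := sm gj N7914
def N11477 : Q := sm gi N7914
def N11478 : Q := sm gh N7915
def N11479 : Q := sm gd N7916
def N11480 : Q := sm gd N7917
def N11481 : Q := sm gg N7917
def N11482 : Q := sm gh N7917
def N11483 : Q := sm gh N7918
def N11484 : Q := sm gd N7919
def N11486 : Q := sm gc N7920
def N11487 : Q := sm ge N7920
def N11489 : Q := sm gg N7922
def N11490 : Q := sm gh N7922
def N11491 : Q := sm gf N7923
def N11492 : Q := sm gh N7923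
def N11493 : Q := sm gd N7924
def N11495 : Q := sm gd N7925
def N11497 : Q := sm ge N7926
def N11498 : Q := sm gi N7926
def N11499 : Q := sm gf N7928
def N11500 : Q := sm gi N7928
def N11501 : Q := sm gh N7929
def N11502 : Q := sm gh N7930
def N11505 : Q := sm gc N7932
def N11507 : Q := sm gf N7935
def N11508 : Q := sm gh N7935
def N11509 : Q := sm gd N7936
def N11510 : Q := sm gi N7936
def N11511 : Q := sm gh N7937
def N11512 : Q := sm gd N7938
def N11513 : Q := sm gi N7938
def N11514 : Q := sm gc N7939
def N11515 : Q := sm ge N7939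
def N11516 : Q := sm gi N7939
def N11517 : Q := sm ge N7941
def N11518 : Q := sm gi N7941
def N11519 : Q := sm gf N7943
def N11520 : Q := sm gi N7943
def N11521 : Q := sm gh N7944
def N11522 : Q := sm gg N7945
def N11523 : Q := sm gi N7945
def N11524 : Q := sm gh N7946
def N11525 : Q := sm gd N7948
def N11527 : Q := sm gc N7949
def N11529 : Q := sm gb N7951
def N11530 : Q := sm gi N7951
def N11532 : Q := sm gc N7953
def N11533 : Q := sm ge N7953
def N11534 : Q := sm gi N7953
def N11535 : Q := sm gb N7955
def N11536 : Q := sm gi N7955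
def N11537 : Q := sm gh N7956
def N11538 : Q := sm ga N7957
def N11539 : Q := sm gi N7957
def N11540 : Q := sm gh N7958
def N11541 : Q := sm gc N7960
def N11542 : Q := sm gh N7960
def N11543 : Q := sm gd N7961
def N11545 : Q := sm gc N7962
def N11546 : Q := sm ge N7962
def N11547 : Q := sm gi N7962
def N11548 : Q := sm ge N7964
def N11549 : Q := sm gi N7964
def N11550 : Q := sm gf N7965
def N11553 : Q := sm gd N7967
def N11554 : Q := sm gi N7967
def N11555 : Q := sm gc N7968
def N11556 : Q := sm ge N7968
def N11558 : Q := sm gf N7970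
def N11561 : Q := sm gg N7972
def N11563 : Q := sm gh N7973
def N11567 : Q := sm gc N7977
def N11568 : Q := sm ge N7977
def N11569 : Q := sm gi N7977
def N11570 : Q := sm gb N7979
def N11571 : Q := sm ge N7979
def N11572 : Q := sm gi N7979
def N11573 : Q := sm gf N7980
def N11576 : Q := sm gg N7982
def N11577 : Q := sm gi N7982
def N11579 : Q := sm gj N7985
def N11581 : Q := sm gh N7986
def N11582 : Q := sm gd N7987
def N11583 : Q := sm ga N7988
def N11584 : Q := sm gi N7988
def N11585 : Q := sm gh N7989
def N11586 : Q := sm gi N7991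
def N11587 : Q := sm gh N7992
def N11588 : Q := sm gd N7993
def N11589 : Q := sm gd N7994
def N11593 : Q := sm gg N7996
def N11594 : Q := sm gi N7996
def N11595 : Q := sm gh N7997
def N11596 : Q := sm gj N7999
def N11597 : Q := sm gi N7999
def N11598 : Q := sm gh N8000
def N11600 : Q := sm gi N8002
def N11601 : Q := sm gh N8003
def N11602 : Q := sm gd N8004
def N11603 : Q := sm gc N8005
def N11604 : Q := sm ge N8006
def N11605 : Q := sm gh N8006
def N11606 : Q := sm gi N8006
def N11607 : Q := sm gd N8007
def N11608 : Q := sm gi N8007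
def N11609 : Q := sm gh N8008
def N11610 : Q := sm gh N8009
def N11611 : Q := sm gi N8009
def N11612 : Q := sm gi N8010
def N11613 : Q := sm gh N8011
def N11614 : Q := sm gh N8012
def N11615 : Q := sm gd N8013
def N11617 : Q := sm gc N8015
def N11619 : Q := sm gb N8016
def N11620 : Q := sm ge N8016
def N11621 : Q := sm gf N8017
def N11622 : Q := sm gd N8018
def N11623 : Q := sm gi N8018
def N11624 : Q := sm gh N8019
def N11625 : Q := sm gh N8020
def N11626 : Q := sm gd N8021
def N11627 : Q := sm gd N8022
def N11628 : Q := sm gc N8023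
def N11629 : Q := sm ge N8023
def N11630 : Q := sm gc N8024
def N11631 : Q := sm ge N8024
def N11632 : Q := sm gb N8025
def N11633 : Q := sm ge N8025
def N11634 : Q := sm gf N8026
def N11635 : Q := sm ga N8027
def N11636 : Q := sm ge N8027
def N11639 : Q := sm gg N8029
def N11640 : Q := sm gb N8030
def N11641 : Q := sm ge N8030
def N11642 : Q := sm gf N8031
def N11643 : Q := sm ga N8032
def N11645 : Q := sm gd N8033
def N11646 : Q := sm gf N8033
def N11647 : Q := sm gg N8034
def N11649 : Q := sm gd N8036
def N11650 : Q := sm gf N8036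
def N11651 : Q := sm gf N8037
def N11653 : Q := sm gg N8038
def N11654 : Q := sm gj N8039
def N11655 : Q := sm gd N8040
def N11657 : Q := sm gc N8041
def N11658 : Q := sm gf N8041
def N11660 : Q := sm gg N8042
def N11661 : Q := sm ge N8043
def N11662 : Q := sm gg N8043
def N11664 : Q := sm gi N8044
def N11666 : Q := sm gc N8047
def N11667 : Q := sm gf N8047
def N11668 : Q := sm gh N8047
def N11670 : Q := sm gf N8049
def N11671 : Q := sm gh N8049
def N11672 : Q := sm ge N8050
def N11673 : Q := sm gg N8050
def N11674 : Q := sm gh N8050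
def N11676 : Q := sm gj N8052
def N11677 : Q := sm gg N8053
def N11678 : Q := sm gh N8053
def N11679 : Q := sm gj N8054
def N11680 : Q := sm gh N8054
def N11682 : Q := sm ge N8058
def N11683 : Q := sm gi N8058
def N11684 : Q := sm gh N8059
def N11686 : Q := sm gd N8061
def N11687 : Q := sm gc N8062
def N11689 : Q := sm gb N8063
def N11690 : Q := sm ge N8063
def N11693 : Q := sm ge N8065
def N11694 : Q := sm gd N8066
def N11695 : Q := sm gf N8066
def N11697 : Q := sm gc N8068
def N11698 : Q := sm ge N8068
def N11699 : Q := sm gb N8069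
def N11700 : Q := sm ge N8069
def N11701 : Q := sm gf N8070
def N11702 : Q := sm ga N8071
def N11703 : Q := sm ge N8071
def N11704 : Q := sm gd N8072
def N11707 : Q := sm ge N8074
def N11708 : Q := sm gd N8075
def N11712 : Q := sm gg N8077
def N11713 : Q := sm gj N8078
def N11714 : Q := sm ge N8079
def N11715 : Q := sm gd N8080
def N11717 : Q := sm gf N8081
def N11718 : Q := sm gh N8081
def N11719 : Q := sm gg N8082
def N11720 : Q := sm gj N8083
def N11721 : Q := sm gd N8084
def N11722 : Q := sm gf N8084
def N11723 : Q := sm gc N8085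
def N11724 : Q := sm gf N8085
def N11726 : Q := sm gg N8086
def N11728 : Q := sm gg N8087
def N11729 : Q := sm gh N8087
def N11731 : Q := sm gj N8089
def N11732 : Q := sm gc N8091
def N11733 : Q := sm gf N8091
def N11734 : Q := sm gh N8091
def N11736 : Q := sm gf N8093
def N11737 : Q := sm gh N8093
def N11738 : Q := sm ge N8094
def N11740 : Q := sm gh N8094
def N11742 : Q := sm gj N8096
def N11743 : Q := sm gg N8097
def N11744 : Q := sm gh N8097
def N11745 : Q := sm gj N8098
def N11748 : Q := sm gb N8102
def N11749 : Q := sm gf N8102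
def N11750 : Q := sm gh N8102
def N11751 : Q := sm ge N8103
def N11752 : Q := sm gg N8103
def N11753 : Q := sm gh N8103
def N11754 : Q := sm gi N8104
def N11756 : Q := sm ge N8106
def N11757 : Q := sm gg N8106
def N11758 : Q := sm gh N8106
def N11759 : Q := sm gd N8107
def N11761 : Q := sm gg N8108
def N11762 : Q := sm gh N8108
def N11763 : Q := sm gj N8109
def N11764 : Q := sm gh N8109
def N11765 : Q := sm gi N8110
def N11766 : Q := sm gf N8113
def N11768 : Q := sm gh N8113
def N11769 : Q := sm gd N8114
def N11771 : Q := sm gh N8115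
def N11773 : Q := sm gf N8118
def N11774 : Q := sm gi N8118
def N11775 : Q := sm gh N8119
def N11776 : Q := sm gd N8120
def N11777 : Q := sm gc N8121
def N11779 : Q := sm gc N8122
def N11781 : Q := sm gb N8123
def N11782 : Q := sm ge N8123
def N11784 : Q := sm ga N8125
def N11785 : Q := sm ge N8125
def N11786 : Q := sm gd N8126
def N11787 : Q := sm gf N8126
def N11790 : Q := sm gd N8129
def N11791 : Q := sm gf N8129
def N11792 : Q := sm gf N8130
def N11794 : Q := sm gg N8131
def N11796 : Q := sm gb N8133
def N11797 : Q := sm ge N8133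
def N11798 : Q := sm gf N8134
def N11799 : Q := sm ga N8135
def N11800 : Q := sm ge N8135
def N11803 : Q := sm gg N8137
def N11804 : Q := sm ge N8138
def N11807 : Q := sm gf N8140
def N11808 : Q := sm gh N8140
def N11810 : Q := sm gj N8142
def N11811 : Q := sm gd N8143
def N11812 : Q := sm gf N8143
def N11813 : Q := sm gc N8144
def N11814 : Q := sm gf N8144
def N11817 : Q := sm ge N8146
def N11822 : Q := sm gd N8150
def N11823 : Q := sm gf N8150
def N11824 : Q := sm gc N8151
def N11825 : Q := sm gf N8151
def N11828 : Q := sm ge N8153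
def N11829 : Q := sm gg N8153
def N11832 : Q := sm gj N8155
def N11833 : Q := sm gc N8157
def N11834 : Q := sm gf N8157
def N11836 : Q := sm gg N8158
def N11837 : Q := sm gf N8159
def N11838 : Q := sm gh N8159
def N11839 : Q := sm ge N8160
def N11844 : Q := sm gg N8163
def N11845 : Q := sm gh N8163
def N11847 : Q := sm gh N8164
def N11848 : Q := sm gi N8165
def N11849 : Q := sm gb N8168
def N11850 : Q := sm gf N8168
def N11851 : Q := sm gh N8168
def N11852 : Q := sm ge N8169
def N11853 : Q := sm gg N8169
def N11854 : Q := sm gh N8169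
def N11857 : Q := sm ge N8172
def N11858 : Q := sm gg N8172
def N11859 : Q := sm gh N8172
def N11861 : Q := sm gi N8173
def N11862 : Q := sm gg N8174
def N11863 : Q := sm gh N8174
def N11865 : Q := sm gh N8175
def N11867 : Q := sm gf N8179
def N11868 : Q := sm gj N8179
def N11869 : Q := sm gh N8179
def N11870 : Q := sm gd N8180
def N11871 : Q := sm gi N8180
def N11873 : Q := sm gi N8182
def N11874 : Q := sm gf N8184
def N11875 : Q := sm gh N8184
def N11876 : Q := sm ge N8185
def N11877 : Q := sm gg N8185
def N11878 : Q := sm gh N8185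
def N11879 : Q := sm gd N8186
def N11880 : Q := sm gi N8186
def N11881 : Q := sm gg N8187
def N11882 : Q := sm gh N8187
def N11883 : Q := sm gj N8188
def N11885 : Q := sm gi N8189
def N11886 : Q := sm gd N8192
def N11887 : Q := sm gg N8192
def N11888 : Q := sm gh N8192
def N11889 : Q := sm gj N8193
def N11890 : Q := sm gh N8193
def N11891 : Q := sm gd N8194
def N11892 : Q := sm gi N8194
def N11893 : Q := sm ge N8195
def N11894 : Q := sm gi N8195
def N11895 : Q := sm gf N8197
def N11896 : Q := sm gj N8197
def N11897 : Q := sm gh N8197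
def N11898 : Q := sm gd N8198
def N11902 : Q := sm gj N8202
def N11903 : Q := sm gh N8202
def N11904 : Q := sm gh N8203
def N11905 : Q := sm gd N8204
def N11906 : Q := sm gi N8204
def N11907 : Q := sm gc N8205
def N11910 : Q := sm ge N8209
def N11911 : Q := sm gd N8210
def N11913 : Q := sm gf N8211
def N11914 : Q := sm gh N8211
def N11915 : Q := sm gg N8212
def N11917 : Q := sm gd N8214
def N11918 : Q := sm gf N8214
def N11919 : Q := sm gc N8215
def N11920 : Q := sm gf N8215
def N11923 : Q := sm ge N8217
def N11924 : Q := sm gg N8217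
def N11925 : Q := sm gh N8217
def N11926 : Q := sm gi N8218
def N11928 : Q := sm gc N8221
def N11931 : Q := sm gg N8222
def N11932 : Q := sm gf N8223
def N11933 : Q := sm gh N8223
def N11934 : Q := sm ge N8224
def N11936 : Q := sm gh N8224
def N11937 : Q := sm gi N8225
def N11939 : Q := sm gg N8227
def N11940 : Q := sm gh N8227
def N11941 : Q := sm gj N8228
def N11942 : Q := sm gh N8228
def N11943 : Q := sm gi N8229
def N11944 : Q := sm gb N8232
def N11945 : Q := sm gf N8232
def N11946 : Q := sm gh N8232
def N11947 : Q := sm ge N8233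
def N11948 : Q := sm gg N8233
def N11951 : Q := sm gj N8235
def N11952 : Q := sm ge N8236
def N11953 : Q := sm gg N8236
def N11954 : Q := sm gh N8236
def N11955 : Q := sm gd N8237
def N11957 : Q := sm gg N8238
def N11958 : Q := sm gh N8238
def N11959 : Q := sm gj N8239
def N11961 : Q := sm gi N8240
def N11962 : Q := sm gf N8243
def N11963 : Q := sm gj N8243
def N11964 : Q := sm gh N8243
def N11965 : Q := sm gd N8244
def N11966 : Q := sm gi N8244
def N11967 : Q := sm gh N8245
def N11969 : Q := sm gf N8248
def N11971 : Q := sm ge N8249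
def N11972 : Q := sm gg N8249
def N11973 : Q := sm gh N8249
def N11974 : Q := sm gd N8250
def N11975 : Q := sm gi N8250
def N11976 : Q := sm gg N8251
def N11977 : Q := sm gh N8251
def N11979 : Q := sm gh N8252
def N11980 : Q := sm gi N8253
def N11981 : Q := sm gd N8256
def N11982 : Q := sm gg N8256
def N11983 : Q := sm gh N8256
def N11984 : Q := sm gj N8257
def N11987 : Q := sm gi N8258
def N11990 : Q := sm gf N8261
def N11991 : Q := sm gj N8261
def N11992 : Q := sm gh N8261
def N11993 : Q := sm gd N8262
def N11995 : Q := sm gh N8263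
def N11996 : Q := sm gi N8264
def N11997 : Q := sm gj N8266
def N11998 : Q := sm gh N8266
def N11999 : Q := sm gh N8267
def N12000 : Q := sm gd N8268
def N12001 : Q := sm gi N8268
def N12002 : Q := sm gc N8269
def N12005 : Q := sm gd N8273
def N12006 : Q := sm gf N8273
def N12007 : Q := sm gc N8274
def N12008 : Q := sm gf N8274
def N12009 : Q := sm gh N8274
def N12010 : Q := sm gg N8275
def N12011 : Q := sm ge N8276
def N12012 : Q := sm gg N8276
def N12013 : Q := sm gh N8276
def N12014 : Q := sm gi N8277
def N12016 : Q := sm gc N8280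
def N12017 : Q := sm gf N8280
def N12018 : Q := sm gh N8280
def N12019 : Q := sm gg N8281
def N12020 : Q := sm gf N8282
def N12021 : Q := sm gh N8282
def N12022 : Q := sm ge N8283
def N12028 : Q := sm gh N8286
def N12029 : Q := sm gj N8287
def N12030 : Q := sm gh N8287
def N12032 : Q := sm gb N8291
def N12033 : Q := sm gf N8291
def N12034 : Q := sm gh N8291
def N12035 : Q := sm ge N8292
def N12036 : Q := sm gg N8292
def N12037 : Q := sm gh N8292
def N12039 : Q := sm gj N8294
def N12040 : Q := sm ge N8295
def N12041 : Q := sm gg N8295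
def N12042 : Q := sm gh N8295
def N12043 : Q := sm gd N8296
def N12045 : Q := sm gg N8297
def N12046 : Q := sm gh N8297
def N12048 : Q := sm gh N8298
def N12051 : Q := sm gj N8302
def N12052 : Q := sm gh N8302
def N12053 : Q := sm gd N8303
def N12054 : Q := sm gi N8303
def N12055 : Q := sm gh N8304
def N12057 : Q := sm gf N8307
def N12058 : Q := sm gh N8307
def N12059 : Q := sm ge N8308
def N12060 : Q := sm gg N8308
def N12061 : Q := sm gh N8308
def N12062 : Q := sm gd N8309
def N12064 : Q := sm gg N8310
def N12065 : Q := sm gh N8310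
def N12066 : Q := sm gj N8311
def N12067 : Q := sm gh N8311
def N12068 : Q := sm gi N8312
def N12069 : Q := sm gd N8315
def N12070 : Q := sm gg N8315
def N12071 : Q := sm gh N8315
def N12073 : Q := sm gh N8316
def N12076 : Q := sm ge N8318
def N12078 : Q := sm gf N8320
def N12079 : Q := sm gj N8320
def N12080 : Q := sm gh N8320
def N12084 : Q := sm gi N8323
def N12085 : Q := sm gj N8325
def N12086 : Q := sm gh N8325
def N12087 : Q := sm gh N8326
def N12088 : Q := sm gd N8327
def N12090 : Q := sm gc N8328
def N12091 : Q := sm gi N8328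
def N12092 : Q := sm gi N8330
def N12093 : Q := sm ge N8332
def N12094 : Q := sm gg N8332
def N12098 : Q := sm gd N8334
def N12099 : Q := sm gg N8334
def N12100 : Q := sm gh N8334
def N12102 : Q := sm gh N8335
def N12103 : Q := sm gd N8336
def N12105 : Q := sm ge N8337
def N12107 : Q := sm gf N8339
def N12108 : Q := sm gj N8339
def N12109 : Q := sm gh N8339
def N12110 : Q := sm gd N8340
def N12114 : Q := sm gg N8344
def N12115 : Q := sm gh N8344
def N12116 : Q := sm gf N8345
def N12117 : Q := sm gj N8345
def N12118 : Q := sm gh N8345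
def N12119 : Q := sm gd N8346
def N12120 : Q := sm gi N8346
def N12121 : Q := sm gh N8347
def N12123 : Q := sm gi N8348
def N12129 : Q := sm gj N8353
def N12130 : Q := sm gh N8353
def N12131 : Q := sm gh N8354
def N12132 : Q := sm gd N8355
def N12134 : Q := sm gc N8356
def N12135 : Q := sm gi N8356
def N12137 : Q := sm gg N8360
def N12138 : Q := sm gh N8360
def N12139 : Q := sm gd N8361
def N12140 : Q := sm gi N8361
def N12141 : Q := sm gd N8362
def N12142 : Q := sm gi N8362
def N12143 : Q := sm gc N8363
def N12145 : Q := sm gb N8365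
def N12146 : Q := sm gi N8365
def N12148 : Q := sm gc N8368
def N12149 : Q := sm gf N8368
def N12150 : Q := sm gh N8368
def N12152 : Q := sm gf N8370
def N12153 : Q := sm gh N8370
def N12154 : Q := sm ge N8371
def N12155 : Q := sm gg N8371
def N12156 : Q := sm gh N8371
def N12158 : Q := sm gj N8373
def N12159 : Q := sm gg N8374
def N12160 : Q := sm gh N8374
def N12161 : Q := sm gj N8375
def N12162 : Q := sm gh N8375
def N12163 : Q := sm gi N8376
def N12164 : Q := sm gb N8379
def N12165 : Q := sm gf N8379
def N12167 : Q := sm ge N8380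
def N12168 : Q := sm gg N8380
def N12169 : Q := sm gh N8380
def N12170 : Q := sm gi N8381
def N12172 : Q := sm ge N8383
def N12173 : Q := sm gg N8383
def N12174 : Q := sm gh N8383
def N12175 : Q := sm gd N8384
def N12176 : Q := sm gi N8384
def N12177 : Q := sm gg N8385
def N12178 : Q := sm gh N8385
def N12179 : Q := sm gj N8386
def N12181 : Q := sm gi N8387
def N12182 : Q := sm gf N8390
def N12183 : Q := sm gj N8390
def N12184 : Q := sm gh N8390
def N12185 : Q := sm gd N8391
def N12186 : Q := sm gi N8391
def N12188 : Q := sm gi N8393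
def N12189 : Q := sm gf N8395
def N12190 : Q := sm gh N8395
def N12191 : Q := sm ge N8396
def N12192 : Q := sm gg N8396
def N12193 : Q := sm gh N8396
def N12196 : Q := sm gg N8398
def N12197 : Q := sm gh N8398
def N12198 : Q := sm gj N8399
def N12200 : Q := sm gi N8400
def N12201 : Q := sm gd N8403
def N12202 : Q := sm gg N8403
def N12203 : Q := sm gh N8403
def N12204 : Q := sm gj N8404
def N12205 : Q := sm gh N8404
def N12206 : Q := sm gd N8405
def N12209 : Q := sm gi N8406
def N12215 : Q := sm gh N8410
def N12216 : Q := sm gi N8411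
def N12217 : Q := sm gj N8413
def N12218 : Q := sm gh N8413
def N12219 : Q := sm gh N8414
def N12220 : Q := sm gd N8415
def N12222 : Q := sm gc N8416
def N12223 : Q := sm gi N8416
def N12225 : Q := sm ge N8420
def N12226 : Q := sm gg N8420
def N12227 : Q := sm gh N8420
def N12228 : Q := sm gd N8421
def N12230 : Q := sm gd N8422
def N12231 : Q := sm gg N8422
def N12232 : Q := sm gh N8422
def N12233 : Q := sm gj N8423
def N12234 : Q := sm gh N8423
def N12237 : Q := sm ge N8425
def N12240 : Q := sm gj N8427
def N12241 : Q := sm gh N8427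
def N12242 : Q := sm gd N8428
def N12245 : Q := sm gi N8430
def N12246 : Q := sm gg N8432
def N12247 : Q := sm gh N8432
def N12248 : Q := sm gf N8433
def N12250 : Q := sm gh N8433
def N12251 : Q := sm gd N8434
def N12253 : Q := sm gh N8435
def N12254 : Q := sm gd N8436
def N12256 : Q := sm ge N8437
def N12257 : Q := sm gi N8437
def N12258 : Q := sm gf N8439
def N12259 : Q := sm gi N8439
def N12261 : Q := sm gj N8441
def N12262 : Q := sm gh N8441
def N12263 : Q := sm gh N8442
def N12264 : Q := sm gd N8443
def N12265 : Q := sm gi N8443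
def N12267 : Q := sm gi N8444
def N12268 : Q := sm gi N8446
def N12270 : Q := sm gh N8448
def N12271 : Q := sm gd N8449
def N12272 : Q := sm gi N8449
def N12273 : Q := sm gd N8450
def N12275 : Q := sm gc N8451
def N12276 : Q := sm gi N8451
def N12277 : Q := sm gb N8453
def N12278 : Q := sm gi N8453
def N12280 : Q := sm gd N8456
def N12281 : Q := sm gg N8456
def N12282 : Q := sm gh N8456
def N12283 : Q := sm gj N8457
def N12290 : Q := sm gg N8461
def N12291 : Q := sm gh N8461
def N12292 : Q := sm gf N8462
def N12293 : Q := sm gj N8462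
def N12294 : Q := sm gh N8462
def N12295 : Q := sm gd N8463
def N12296 : Q := sm gi N8463
def N12302 : Q := sm gf N8468
def N12303 : Q := sm gi N8468
def N12305 : Q := sm gj N8470
def N12306 : Q := sm gh N8470
def N12307 : Q := sm gh N8471
def N12308 : Q := sm gd N8472
def N12310 : Q := sm gc N8473
def N12313 : Q := sm gf N8477
def N12314 : Q := sm gj N8477
def N12315 : Q := sm gh N8477
def N12316 : Q := sm gd N8478
def N12318 : Q := sm gj N8479
def N12319 : Q := sm gh N8479
def N12320 : Q := sm gh N8480
def N12321 : Q := sm gd N8481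
def N12322 : Q := sm gi N8481
def N12323 : Q := sm gc N8482
def N12324 : Q := sm ge N8482
def N12325 : Q := sm gi N8482
def N12326 : Q := sm gd N8484
def N12327 : Q := sm gi N8484
def N12329 : Q := sm gi N8485
def N12330 : Q := sm gf N8487
def N12333 : Q := sm gg N8489
def N12334 : Q := sm gi N8489
def N12337 : Q := sm gh N8492
def N12338 : Q := sm gd N8493
def N12340 : Q := sm gd N8494
def N12346 : Q := sm gh N8500
def N12347 : Q := sm gd N8501
def N12349 : Q := sm ge N8502
def N12350 : Q := sm gi N8502
def N12353 : Q := sm gf N8508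
def N12354 : Q := sm gh N8508
def N12355 : Q := sm ge N8509
def N12356 : Q := sm gg N8509
def N12357 : Q := sm gh N8509
def N12358 : Q := sm gd N8510
def N12360 : Q := sm gg N8511
def N12361 : Q := sm gh N8511
def N12362 : Q := sm gj N8512
def N12363 : Q := sm gh N8512
def N12365 : Q := sm gd N8516
def N12366 : Q := sm gg N8516
def N12367 : Q := sm gh N8516
def N12368 : Q := sm gj N8517
def N12369 : Q := sm gh N8517
def N12370 : Q := sm gd N8518
def N12371 : Q := sm gi N8518
def N12372 : Q := sm ge N8519
def N12373 : Q := sm gi N8519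
def N12374 : Q := sm gf N8521
def N12375 : Q := sm gj N8521
def N12376 : Q := sm gh N8521
def N12378 : Q := sm gi N8522
def N12381 : Q := sm gj N8526
def N12382 : Q := sm gh N8526
def N12383 : Q := sm gh N8527
def N12384 : Q := sm gd N8528
def N12385 : Q := sm gi N8528
def N12386 : Q := sm gc N8529
def N12387 : Q := sm gi N8529
def N12389 : Q := sm ge N8533
def N12390 : Q := sm gg N8533
def N12391 : Q := sm gh N8533
def N12392 : Q := sm gd N8534
def N12394 : Q := sm gd N8535
def N12395 : Q := sm gg N8535
def N12396 : Q := sm gh N8535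
def N12397 : Q := sm gj N8536
def N12401 : Q := sm ge N8538
def N12404 : Q := sm gj N8540
def N12405 : Q := sm gh N8540
def N12408 : Q := sm gh N8542
def N12410 : Q := sm gg N8545
def N12411 : Q := sm gh N8545
def N12412 : Q := sm gf N8546
def N12413 : Q := sm gj N8546
def N12414 : Q := sm gh N8546
def N12415 : Q := sm gd N8547
def N12417 : Q := sm gh N8548
def N12418 : Q := sm gd N8549
def N12419 : Q := sm gi N8549
def N12420 : Q := sm ge N8550
def N12423 : Q := sm gi N8552
def N12425 : Q := sm gj N8554
def N12426 : Q := sm gh N8554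
def N12428 : Q := sm gd N8556
def N12430 : Q := sm gc N8557
def N12431 : Q := sm gi N8557
def N12433 : Q := sm gg N8561
def N12434 : Q := sm gh N8561
def N12435 : Q := sm gd N8562
def N12437 : Q := sm gd N8563
def N12438 : Q := sm gi N8563
def N12439 : Q := sm gc N8564
def N12440 : Q := sm gi N8564
def N12441 : Q := sm gb N8566
def N12444 : Q := sm ge N8569
def N12445 : Q := sm gg N8569
def N12446 : Q := sm gh N8569
def N12447 : Q := sm gd N8570
def N12449 : Q := sm gd N8571
def N12450 : Q := sm gg N8571
def N12451 : Q := sm gh N8571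
def N12452 : Q := sm gj N8572
def N12453 : Q := sm gh N8572
def N12454 : Q := sm gd N8573
def N12455 : Q := sm gi N8573
def N12456 : Q := sm ge N8574
def N12459 : Q := sm gj N8576
def N12460 : Q := sm gh N8576
def N12461 : Q := sm gd N8577
def N12463 : Q := sm gh N8578
def N12464 : Q := sm gi N8579
def N12465 : Q := sm gg N8581
def N12466 : Q := sm gh N8581
def N12467 : Q := sm gf N8582
def N12468 : Q := sm gj N8582
def N12469 : Q := sm gh N8582
def N12470 : Q := sm gd N8583
def N12471 : Q := sm gi N8583
def N12474 : Q := sm gi N8585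
def N12475 : Q := sm ge N8586
def N12477 : Q := sm gf N8588
def N12479 : Q := sm gh N8589
def N12480 : Q := sm gj N8590
def N12481 : Q := sm gh N8590
def N12482 : Q := sm gh N8591
def N12483 : Q := sm gd N8592
def N12484 : Q := sm gi N8592
def N12486 : Q := sm gi N8593
def N12488 : Q := sm gg N8597
def N12489 : Q := sm gh N8597
def N12490 : Q := sm gd N8598
def N12491 : Q := sm gi N8598
def N12492 : Q := sm gd N8599
def N12493 : Q := sm gi N8599
def N12494 : Q := sm gc N8600
def N12495 : Q := sm gi N8600
def N12496 : Q := sm gb N8602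
def N12497 : Q := sm gi N8602
def N12498 : Q := sm gh N8603
def N12499 : Q := sm gd N8605
def N12500 : Q := sm gg N8605
def N12502 : Q := sm gj N8606
def N12503 : Q := sm gh N8606
def N12504 : Q := sm gd N8607
def N12506 : Q := sm gc N8608
def N12508 : Q := sm gi N8608
def N12509 : Q := sm gg N8610
def N12510 : Q := sm gh N8610
def N12511 : Q := sm gf N8611
def N12512 : Q := sm gj N8611
def N12513 : Q := sm gh N8611
def N12514 : Q := sm gd N8612
def N12515 : Q := sm gi N8612
def N12516 : Q := sm gh N8613
def N12517 : Q := sm gd N8614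
def N12519 : Q := sm ge N8615
def N12521 : Q := sm gf N8617
def N12522 : Q := sm gi N8617
def N12529 : Q := sm gc N8622
def N12531 : Q := sm gi N8624
def N12532 : Q := sm gf N8626
def N12533 : Q := sm gj N8626
def N12534 : Q := sm gh N8626
def N12535 : Q := sm gd N8627
def N12537 : Q := sm gj N8628
def N12538 : Q := sm gh N8628
def N12539 : Q := sm gh N8629
def N12540 : Q := sm gd N8630
def N12542 : Q := sm gc N8631
def N12543 : Q := sm ge N8631
def N12548 : Q := sm gi N8634
def N12549 : Q := sm gf N8636
def N12550 : Q := sm gi N8636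
def N12554 : Q := sm gh N8639
def N12555 : Q := sm gg N8641
def N12556 : Q := sm gh N8641
def N12557 : Q := sm gd N8642
def N12559 : Q := sm gd N8643
def N12560 : Q := sm gi N8643
def N12561 : Q := sm gc N8644
def N12562 : Q := sm gi N8644
def N12563 : Q := sm gb N8646
def N12564 : Q := sm gi N8646
def N12565 : Q := sm gh N8647
def N12566 : Q := sm gh N8649
def N12567 : Q := sm gd N8650
def N12569 : Q := sm gc N8651
def N12570 : Q := sm gi N8651
def N12571 : Q := sm gc N8653
def N12572 : Q := sm gi N8653
def N12573 : Q := sm gb N8655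
def N12576 : Q := sm ga N8657
def N12577 : Q := sm gi N8657
def N12579 : Q := sm gd N8660
def N12580 : Q := sm gg N8660
def N12581 : Q := sm gh N8660
def N12584 : Q := sm gd N8662
def N12586 : Q := sm gc N8663
def N12589 : Q := sm gg N8665
def N12590 : Q := sm gh N8665
def N12593 : Q := sm gh N8666
def N12594 : Q := sm gd N8667
def N12597 : Q := sm gd N8669
def N12602 : Q := sm gi N8672
def N12603 : Q := sm gh N8673
def N12604 : Q := sm gj N8674
def N12605 : Q := sm gh N8674
def N12606 : Q := sm gh N8675
def N12607 : Q := sm gd N8676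
def N12608 : Q := sm gi N8676
def N12609 : Q := sm gc N8677
def N12612 : Q := sm gf N8681
def N12613 : Q := sm gj N8681
def N12614 : Q := sm gh N8681
def N12615 : Q := sm gd N8682
def N12616 : Q := sm gi N8682
def N12617 : Q := sm gj N8683
def N12618 : Q := sm gh N8683
def N12619 : Q := sm gh N8684
def N12620 : Q := sm gd N8685
def N12622 : Q := sm gc N8686
def N12633 : Q := sm gi N8693
def N12634 : Q := sm gh N8694
def N12636 : Q := sm gh N8696
def N12637 : Q := sm gd N8697
def N12638 : Q := sm gi N8697
def N12639 : Q := sm gd N8698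
def N12641 : Q := sm gc N8699
def N12642 : Q := sm gi N8699
def N12643 : Q := sm gb N8701
def N12644 : Q := sm gi N8701
def N12645 : Q := sm gh N8704
def N12646 : Q := sm gd N8705
def N12648 : Q := sm gc N8706
def N12649 : Q := sm ge N8706
def N12650 : Q := sm gi N8706
def N12651 : Q := sm gc N8708
def N12652 : Q := sm gi N8708
def N12653 : Q := sm gb N8710
def N12654 : Q := sm gi N8710
def N12655 : Q := sm ga N8712
def N12657 : Q := sm gc N8714
def N12658 : Q := sm gg N8714
def N12659 : Q := sm gh N8714
def N12660 : Q := sm gf N8715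
def N12661 : Q := sm gj N8715
def N12662 : Q := sm gh N8715
def N12663 : Q := sm gd N8716
def N12665 : Q := sm gh N8717
def N12666 : Q := sm gd N8718
def N12668 : Q := sm gc N8719
def N12669 : Q := sm ge N8719
def N12671 : Q := sm ge N8721
def N12672 : Q := sm gi N8721
def N12673 : Q := sm gf N8722
def N12676 : Q := sm gf N8724
def N12677 : Q := sm gj N8724
def N12678 : Q := sm gh N8724
def N12679 : Q := sm gd N8725
def N12681 : Q := sm gj N8726
def N12682 : Q := sm gh N8726
def N12683 : Q := sm gh N8727
def N12684 : Q := sm gd N8728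
def N12686 : Q := sm ge N8729
def N12690 : Q := sm ge N8732
def N12695 : Q := sm gg N8736
def N12697 : Q := sm gh N8737
def N12698 : Q := sm gg N8739
def N12700 : Q := sm gi N8740
def N12701 : Q := sm gi N8741
def N12702 : Q := sm ge N8744
def N12703 : Q := sm gj N8744
def N12704 : Q := sm gh N8744
def N12705 : Q := sm gh N8745
def N12706 : Q := sm gd N8746
def N12707 : Q := sm gi N8746
def N12708 : Q := sm ge N8747
def N12710 : Q := sm gg N8749
def N12711 : Q := sm gh N8749
def N12712 : Q := sm gd N8750
def N12713 : Q := sm gi N8750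
def N12714 : Q := sm gd N8751
def N12715 : Q := sm gi N8751
def N12718 : Q := sm gf N8754
def N12719 : Q := sm gi N8754
def N12721 : Q := sm ge N8756
def N12722 : Q := sm gi N8756
def N12723 : Q := sm gf N8758
def N12725 : Q := sm gh N8759
def N12726 : Q := sm gg N8760
def N12727 : Q := sm gi N8760
def N12730 : Q := sm gi N8763
def N12731 : Q := sm gh N8764
def N12732 : Q := sm gd N8765
def N12736 : Q := sm gc N8772
def N12737 : Q := sm gg N8772
def N12738 : Q := sm gh N8772
def N12739 : Q := sm gf N8773
def N12740 : Q := sm gj N8773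
def N12741 : Q := sm gh N8773
def N12743 : Q := sm gh N8775
def N12744 : Q := sm gd N8776
def N12746 : Q := sm ge N8777
def N12748 : Q := sm gf N8779
def N12749 : Q := sm gf N8780
def N12750 : Q := sm gj N8780
def N12751 : Q := sm gh N8780
def N12752 : Q := sm gd N8781
def N12754 : Q := sm gj N8782
def N12755 : Q := sm gh N8782
def N12756 : Q := sm gh N8783
def N12757 : Q := sm gd N8784
def N12758 : Q := sm gc N8785
def N12763 : Q := sm gg N8789
def N12764 : Q := sm gg N8790
def N12765 : Q := sm gh N8790
def N12766 : Q := sm gd N8791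
def N12767 : Q := sm gd N8792
def N12768 : Q := sm gc N8793
def N12770 : Q := sm ge N8795
def N12771 : Q := sm gj N8795
def N12772 : Q := sm gh N8795
def N12773 : Q := sm gh N8796
def N12774 : Q := sm gd N8797
def N12778 : Q := sm gi N8798
def N12779 : Q := sm gg N8800
def N12780 : Q := sm gh N8800
def N12781 : Q := sm gd N8801
def N12782 : Q := sm gd N8802
def N12788 : Q := sm ge N8806
def N12792 : Q := sm gh N8810
def N12793 : Q := sm gd N8811
def N12794 : Q := sm gc N8812
def N12795 : Q := sm ge N8812
def N12796 : Q := sm gc N8813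
def N12799 : Q := sm gd N8816
def N12800 : Q := sm gc N8817
def N12801 : Q := sm ge N8817
def N12802 : Q := sm gb N8818
def N12803 : Q := sm ge N8818
def N12804 : Q := sm gb N8820
def N12805 : Q := sm ga N8821
def N12806 : Q := sm gg N8823
def N12808 : Q := sm gf N8824
def N12809 : Q := sm gj N8824
def N12812 : Q := sm gj N8826
def N12813 : Q := sm ge N8828
def N12814 : Q := sm gj N8828
def N12815 : Q := sm gh N8828
def N12816 : Q := sm gh N8829
def N12819 : Q := sm gj N8834
def N12821 : Q := sm gg N8835
def N12824 : Q := sm gi N8837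
def N12825 : Q := sm gd N8840
def N12826 : Q := sm gg N8840
def N12827 : Q := sm gh N8840
def N12830 : Q := sm gd N8842
def N12833 : Q := sm ge N8843
def N12834 : Q := sm gi N8843
def N12835 : Q := sm gg N8845
def N12836 : Q := sm gh N8845
def N12837 : Q := sm gf N8846
def N12838 : Q := sm gj N8846
def N12839 : Q := sm gh N8846
def N12840 : Q := sm gd N8847
def N12842 : Q := sm gh N8848
def N12843 : Q := sm gd N8849
def N12845 : Q := sm ge N8850
def N12846 : Q := sm gi N8850
def N12847 : Q := sm gf N8852
def N12848 : Q := sm gi N8852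
def N12850 : Q := sm gj N8854
def N12852 : Q := sm gh N8855
def N12853 : Q := sm gd N8856
def N12854 : Q := sm gi N8856
def N12855 : Q := sm gc N8857
def N12860 : Q := sm gh N8861
def N12861 : Q := sm gd N8862
def N12863 : Q := sm gj N8863
def N12864 : Q := sm gh N8863
def N12865 : Q := sm gh N8864
def N12866 : Q := sm gd N8865
def N12868 : Q := sm gc N8866
def N12871 : Q := sm gd N8868
def N12873 : Q := sm ge N8869
def N12876 : Q := sm gi N8871
def N12878 : Q := sm gg N8873
def N12879 : Q := sm gi N8873
def N12880 : Q := sm gh N8874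
def N12881 : Q := sm gh N8876
def N12882 : Q := sm gd N8877
def N12884 : Q := sm gd N8878
def N12886 : Q := sm gc N8879
def N12887 : Q := sm gi N8879
def N12888 : Q := sm gb N8881
def N12890 : Q := sm gh N8882
def N12891 : Q := sm gd N8884
def N12892 : Q := sm gi N8884
def N12893 : Q := sm gc N8885
def N12896 : Q := sm gc N8887
def N12897 : Q := sm gi N8887
def N12899 : Q := sm gi N8889
def N12901 : Q := sm ga N8891
def N12902 : Q := sm gi N8891
def N12904 : Q := sm gc N8894
def N12906 : Q := sm gh N8894
def N12908 : Q := sm gh N8895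
def N12909 : Q := sm gd N8896
def N12911 : Q := sm gh N8897
def N12912 : Q := sm gd N8898
def N12914 : Q := sm gc N8899
def N12915 : Q := sm ge N8899
def N12916 : Q := sm gi N8899
def N12919 : Q := sm gf N8902
def N12920 : Q := sm gi N8902
def N12922 : Q := sm gj N8904
def N12923 : Q := sm gh N8904
def N12924 : Q := sm gd N8905
def N12926 : Q := sm gh N8906
def N12927 : Q := sm gd N8907
def N12929 : Q := sm gc N8908
def N12930 : Q := sm ge N8908
def N12933 : Q := sm gi N8910
def N12934 : Q := sm ge N8911
def N12936 : Q := sm gf N8913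
def N12940 : Q := sm gi N8915
def N12941 : Q := sm gh N8916
def N12944 : Q := sm gc N8919
def N12946 : Q := sm gb N8921
def N12947 : Q := sm gi N8921
def N12949 : Q := sm gh N8924
def N12950 : Q := sm gd N8925
def N12952 : Q := sm gc N8926
def N12953 : Q := sm ge N8926
def N12954 : Q := sm gi N8926
def N12955 : Q := sm gd N8928
def N12957 : Q := sm gc N8929
def N12958 : Q := sm ge N8929
def N12960 : Q := sm gb N8931
def N12961 : Q := sm ge N8931
def N12963 : Q := sm gf N8932
def N12965 : Q := sm gh N8933
def N12966 : Q := sm ge N8934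
def N12967 : Q := sm gi N8934
def N12968 : Q := sm gf N8936
def N12969 : Q := sm gi N8936
def N12972 : Q := sm gi N8938
def N12973 : Q := sm gh N8939
def N12974 : Q := sm gj N8941
def N12975 : Q := sm gi N8941
def N12976 : Q := sm gh N8942
def N12977 : Q := sm gd N8943
def N12978 : Q := sm gc N8944
def N12980 : Q := sm gb N8946
def N12982 : Q := sm gh N8947
def N12984 : Q := sm gi N8948
def N12986 : Q := sm gb N8951
def N12987 : Q := sm gi N8951
def N12990 : Q := sm gi N8953
def N12992 : Q := sm gi N8956
def N12993 : Q := sm gh N8957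
def N12995 : Q := sm gd N8959
def N12997 : Q := sm gc N8960
def N12998 : Q := sm ge N8960
def N13000 : Q := sm ge N8962
def N13009 : Q := sm gg N8967
def N13010 : Q := sm gi N8967
def N13011 : Q := sm gh N8968
def N13013 : Q := sm gi N8970
def N13014 : Q := sm gf N8972
def N13015 : Q := sm gi N8972
def N13017 : Q := sm gg N8974
def N13018 : Q := sm gi N8974
def N13019 : Q := sm gh N8975
def N13022 : Q := sm gh N8978
def N13024 : Q := sm gf N8980
def N13026 : Q := sm gh N8981
def N13034 : Q := sm gi N8988
def N13035 : Q := sm gh N8989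
def N13038 : Q := sm gc N8992
def N13039 : Q := sm gg N8992
def N13040 : Q := sm gh N8992
def N13041 : Q := sm gf N8993
def N13042 : Q := sm gh N8993
def N13043 : Q := sm gd N8994
def N13045 : Q := sm gd N8995
def N13047 : Q := sm gc N8996
def N13048 : Q := sm ge N8996
def N13049 : Q := sm gi N8996
def N13050 : Q := sm ge N8998
def N13051 : Q := sm gi N8998
def N13053 : Q := sm gi N8999
def N13055 : Q := sm gf N9001
def N13056 : Q := sm gh N9001
def N13057 : Q := sm gd N9002
def N13058 : Q := sm gi N9002
def N13059 : Q := sm gh N9003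
def N13060 : Q := sm gd N9004
def N13062 : Q := sm gc N9005
def N13063 : Q := sm ge N9005
def N13065 : Q := sm ge N9007
def N13066 : Q := sm gi N9007
def N13067 : Q := sm gf N9009
def N13068 : Q := sm gi N9009
def N13070 : Q := sm gg N9011
def N13071 : Q := sm gi N9011
def N13073 : Q := sm gd N9014
def N13075 : Q := sm gc N9015
def N13077 : Q := sm gb N9017
def N13078 : Q := sm gi N9017
def N13080 : Q := sm ge N9019
def N13081 : Q := sm gh N9019
def N13082 : Q := sm gd N9020
def N13084 : Q := sm gc N9021
def N13085 : Q := sm ge N9021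
def N13087 : Q := sm gd N9023
def N13089 : Q := sm gc N9024
def N13090 : Q := sm ge N9024
def N13092 : Q := sm gb N9026
def N13093 : Q := sm ge N9026
def N13095 : Q := sm gf N9027
def N13096 : Q := sm gi N9027
def N13098 : Q := sm gf N9029
def N13101 : Q := sm gg N9031
def N13103 : Q := sm gh N9032
def N13105 : Q := sm gi N9034
def N13106 : Q := sm gh N9035
def N13107 : Q := sm gd N9036
def N13108 : Q := sm gc N9037
def N13110 : Q := sm gi N9037
def N13111 : Q := sm gb N9039
def N13114 : Q := sm ga N9041
def N13115 : Q := sm gi N9041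
def N13117 : Q := sm gb N9044
def N13118 : Q := sm ge N9044
def N13119 : Q := sm gi N9044
def N13120 : Q := sm gi N9045
def N13122 : Q := sm ga N9047
def N13123 : Q := sm gi N9047
def N13126 : Q := sm gh N9051
def N13129 : Q := sm gd N9054
def N13131 : Q := sm gc N9055
def N13132 : Q := sm ge N9055
def N13134 : Q := sm ge N9057
def N13136 : Q := sm gf N9058
def N13137 : Q := sm gi N9058
def N13138 : Q := sm gh N9059
def N13139 : Q := sm gd N9060
def N13140 : Q := sm gf N9060
def N13143 : Q := sm gg N9062
def N13145 : Q := sm gh N9063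
def N13146 : Q := sm gc N9065
def N13147 : Q := sm ge N9065
def N13148 : Q := sm gi N9065
def N13149 : Q := sm gb N9067
def N13150 : Q := sm ge N9067
def N13151 : Q := sm gi N9067
def N13152 : Q := sm gf N9068
def N13153 : Q := sm gi N9068
def N13154 : Q := sm gh N9069
def N13155 : Q := sm gg N9070
def N13157 : Q := sm gh N9071
def N13159 : Q := sm gi N9073
def N13160 : Q := sm gh N9074
def N13161 : Q := sm gd N9075
def N13163 : Q := sm gi N9076
def N13165 : Q := sm gb N9079
def N13166 : Q := sm ge N9079
def N13168 : Q := sm gf N9080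
def N13169 : Q := sm gi N9080
def N13171 : Q := sm ga N9082
def N13172 : Q := sm ge N9082
def N13173 : Q := sm gi N9082
def N13175 : Q := sm gi N9083
def N13177 : Q := sm gg N9085
def N13178 : Q := sm gi N9085
def N13181 : Q := sm gi N9088
def N13182 : Q := sm gh N9089
def N13183 : Q := sm gd N9090
def N13184 : Q := sm gi N9091
def N13185 : Q := sm gh N9092
def N13186 : Q := sm gd N9093
def N13189 : Q := sm gh N9096
def N13192 : Q := sm gd N9099
def N13197 : Q := sm gg N9102
def N13199 : Q := sm gh N9103
def N13201 : Q := sm gj N9105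
def N13202 : Q := sm gi N9105
def N13203 : Q := sm gh N9106
def N13205 : Q := sm gi N9108
def N13206 : Q := sm gh N9109
def N13210 : Q := sm gd N9113
def N13214 : Q := sm gg N9116
def N13215 : Q := sm gh N9116
def N13216 : Q := sm gf N9117
def N13217 : Q := sm gh N9117
def N13218 : Q := sm gd N9118
def N13220 : Q := sm gh N9119
def N13221 : Q := sm gd N9120
def N13223 : Q := sm gc N9121
def N13224 : Q := sm ge N9121
def N13225 : Q := sm gi N9121
def N13226 : Q := sm gc N9123
def N13227 : Q := sm ge N9123
def N13228 : Q := sm gi N9123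
def N13229 : Q := sm ge N9125
def N13230 : Q := sm gi N9125
def N13231 : Q := sm gf N9126
def N13232 : Q := sm gi N9126
def N13234 : Q := sm gd N9128
def N13235 : Q := sm gf N9128
def N13237 : Q := sm gh N9129
def N13238 : Q := sm gg N9130
def N13239 : Q := sm gi N9130
def N13240 : Q := sm gh N9131
def N13241 : Q := sm ge N9133
def N13242 : Q := sm gh N9133
def N13243 : Q := sm gd N9134
def N13244 : Q := sm gi N9134
def N13245 : Q := sm gc N9135
def N13246 : Q := sm ge N9135
def N13248 : Q := sm gd N9137
def N13250 : Q := sm gc N9138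
def N13251 : Q := sm ge N9138
def N13253 : Q := sm gb N9140
def N13255 : Q := sm gi N9140
def N13256 : Q := sm gf N9141
def N13259 : Q := sm gf N9143
def N13260 : Q := sm gi N9143
def N13262 : Q := sm gg N9145
def N13264 : Q := sm gh N9146
def N13265 : Q := sm gj N9148
def N13267 : Q := sm gh N9149
def N13268 : Q := sm gd N9150
def N13269 : Q := sm gc N9151
def N13273 : Q := sm gi N9153
def N13275 : Q := sm ga N9155
def N13277 : Q := sm gh N9156
def N13278 : Q := sm gh N9158
def N13279 : Q := sm gd N9159
def N13281 : Q := sm gc N9160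
def N13282 : Q := sm ge N9160
def N13283 : Q := sm gi N9160
def N13284 : Q := sm gb N9162
def N13285 : Q := sm ge N9162
def N13286 : Q := sm gi N9162
def N13287 : Q := sm gf N9163
def N13288 : Q := sm gi N9163
def N13290 : Q := sm gc N9165
def N13291 : Q := sm ge N9165
def N13293 : Q := sm gb N9167
def N13294 : Q := sm ge N9167
def N13298 : Q := sm gh N9169
def N13299 : Q := sm ga N9170
def N13300 : Q := sm ge N9170
def N13301 : Q := sm gi N9170
def N13302 : Q := sm gf N9171
def N13303 : Q := sm gi N9171
def N13304 : Q := sm gh N9172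
def N13305 : Q := sm gg N9173
def N13306 : Q := sm gi N9173
def N13307 : Q := sm gh N9174
def N13308 : Q := sm gg N9176
def N13311 : Q := sm gj N9179
def N13312 : Q := sm gi N9179
def N13313 : Q := sm gh N9180
def N13314 : Q := sm gd N9181
def N13315 : Q := sm gi N9182
def N13316 : Q := sm gh N9183
def N13317 : Q := sm gd N9184
def N13319 : Q := sm gb N9186
def N13320 : Q := sm ge N9186
def N13322 : Q := sm gi N9187
def N13325 : Q := sm gi N9189
def N13326 : Q := sm gh N9190
def N13327 : Q := sm gi N9192
def N13329 : Q := sm gd N9194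
def N13330 : Q := sm ga N9195
def N13331 : Q := sm ge N9195
def N13333 : Q := sm gd N9196
def N13334 : Q := sm gi N9196
def N13335 : Q := sm gh N9197
def N13336 : Q := sm gh N9198
def N13337 : Q := sm gi N9200
def N13340 : Q := sm gh N9203
def N13343 : Q := sm gd N9206
def N13345 : Q := sm gc N9207
def N13346 : Q := sm ge N9207
def N13349 : Q := sm ge N9209
def N13350 : Q := sm gi N9209
def N13351 : Q := sm gf N9210
def N13354 : Q := sm gd N9212
def N13355 : Q := sm gf N9212
def N13359 : Q := sm gi N9214
def N13361 : Q := sm gf N9217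
def N13363 : Q := sm gi N9217
def N13364 : Q := sm gg N9218
def N13365 : Q := sm gi N9218
def N13369 : Q := sm gi N9221
def N13370 : Q := sm gh N9222
def N13372 : Q := sm gb N9224
def N13373 : Q := sm ge N9224
def N13375 : Q := sm gf N9225
def N13376 : Q := sm gi N9225
def N13379 : Q := sm ge N9227
def N13380 : Q := sm gi N9227
def N13381 : Q := sm gf N9228
def N13383 : Q := sm gh N9229
def N13384 : Q := sm gg N9230
def N13386 : Q := sm gh N9231
def N13387 : Q := sm gj N9233
def N13392 : Q := sm gh N9237
def N13394 : Q := sm gc N9239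
def N13395 : Q := sm gi N9240
def N13396 : Q := sm gh N9241
def N13398 : Q := sm ga N9243
def N13399 : Q := sm ge N9243
def N13400 : Q := sm gi N9243
def N13401 : Q := sm gd N9244
def N13402 : Q := sm gf N9244
def N13403 : Q := sm gi N9244
def N13404 : Q := sm gh N9245
def N13405 : Q := sm gg N9246
def N13406 : Q := sm gi N9246
def N13407 : Q := sm gh N9247
def N13409 : Q := sm gi N9249
def N13410 : Q := sm gf N9250
def N13412 : Q := sm gh N9251
def N13415 : Q := sm gh N9253
def N13416 : Q := sm gd N9254
def N13418 : Q := sm gi N9255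
def N13419 : Q := sm gh N9256
def N13420 : Q := sm gd N9257
def N13421 : Q := sm gi N9258
def N13422 : Q := sm gh N9259
def N13423 : Q := sm gd N9260
def N13424 : Q := sm gc N9261
def N13425 : Q := sm gh N9262
def N13426 : Q := sm gd N9263
def N13427 : Q := sm gc N9264
def N13431 : Q := sm gd N9267
def N13432 : Q := sm ge N9268
def N13438 : Q := sm gg N9272
def N13439 : Q := sm gh N9272
def N13440 : Q := sm gi N9272
def N13443 : Q := sm gj N9275
def N13445 : Q := sm gh N9276
def N13448 : Q := sm gi N9279
def N13449 : Q := sm gh N9280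
def N13450 : Q := sm gd N9281
def N13463 : Q := sm gc N9292
def N13464 : Q := sm ge N9292
def N13465 : Q := sm gb N9293
def N13466 : Q := sm ge N9293
def N13467 : Q := sm gf N9294
def N13468 : Q := sm ga N9295
def N13469 : Q := sm ge N9295
def N13470 : Q := sm gd N9296
def N13471 : Q := sm gf N9296
def N13472 : Q := sm gg N9297
def N13473 : Q := sm ge N9298
def N13474 : Q := sm gd N9299
def N13475 : Q := sm gf N9299
def N13476 : Q := sm gf N9300
def N13477 : Q := sm gh N9300
def N13478 : Q := sm gg N9301
def N13479 : Q := sm gj N9302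
def N13480 : Q := sm ga N9303
def N13481 : Q := sm ge N9303
def N13482 : Q := sm gd N9304
def N13483 : Q := sm gf N9304
def N13484 : Q := sm gg N9305
def N13485 : Q := sm ge N9306
def N13486 : Q := sm gd N9307
def N13487 : Q := sm gf N9307
def N13488 : Q := sm gf N9308
def N13489 : Q := sm gh N9308
def N13490 : Q := sm gg N9309
def N13491 : Q := sm gj N9310
def N13492 : Q := sm gd N9311
def N13493 : Q := sm gf N9311
def N13494 : Q := sm gc N9312
def N13495 : Q := sm gf N9312
def N13496 : Q := sm gh N9312
def N13497 : Q := sm gg N9313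
def N13498 : Q := sm ge N9314
def N13499 : Q := sm gg N9314
def N13500 : Q := sm gh N9314
def N13501 : Q := sm gi N9315
def N13502 : Q := sm gj N9316
def N13503 : Q := sm gd N9318
def N13504 : Q := sm gf N9318
def N13505 : Q := sm gc N9319
def N13506 : Q := sm gf N9319
def N13507 : Q := sm gh N9319
def N13508 : Q := sm gg N9320
def N13509 : Q := sm ge N9321
def N13510 : Q := sm gg N9321
def N13511 : Q := sm gh N9321
def N13512 : Q := sm gi N9322
def N13513 : Q := sm gj N9323
def N13514 : Q := sm gc N9325
def N13515 : Q := sm gf N9325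
def N13516 : Q := sm gh N9325
def N13517 : Q := sm gg N9326
def N13518 : Q := sm gf N9327
def N13519 : Q := sm gh N9327
def N13520 : Q := sm ge N9328
def N13521 : Q := sm gg N9328
def N13522 : Q := sm gh N9328
def N13523 : Q := sm gi N9329
def N13524 : Q := sm gj N9330
def N13525 : Q := sm gg N9331
def N13526 : Q := sm gh N9331
def N13527 : Q := sm gj N9332
def N13528 : Q := sm gh N9332
def N13529 : Q := sm gi N9333
def N13530 : Q := sm gb N9336
def N13531 : Q := sm gf N9336

end Cfsg.Agent.Helper28.FicA
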