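import Cfsg.Agent.Helper28.FicB9

/-! # The Fi₂₃ presentation, cosets of the subgroup generated by a, …, i: the coset enumeration, part 10 (helper28; generated) -/

set_option autoImplicit false

noncomputable section

namespace Cfsg.Agent.Helper28.FicA

open Cfsg.Agent.Helper28.CosetTable

theorem L18285 : sm gc N2107 = N1468 := ded_29_1 (flp_f L12793) L12784 L18281
theorem L18287 : sm gj N2107 = N1482 := ded_46_2 (flp_f L12922) (flp_j L12790) L18281
theorem L18290 : sm gh N1467 = N2108 := rfl
theorem L18298 : sm gj N2108 = N1483 := ded_52_1 (flp_h L12930) (flp_j L12790) L18290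
theorem L18300 : sm ge N1468 = N2109 := rfl
theorem L18302 : sm ga N2109 = N1473 := ded_13_1 (flp_e L12840) (flp_a L12795) L18300
theorem L18304 : sm gb N2109 = N2109 := ded_21_1 (flp_e L18300) L12797 L18300
theorem L18305 : sm gj N2109 = N1484 := ded_42_2 (flp_e L12939) (flp_j L12800) L18300
theorem L18307 : sm gi N2109 = N2109 := ded_44_2 (flp_e L18300) L12802 L18300
theorem L18308 : sm gd N2109 = N2109 := ded_34_1 (flp_e L18300) L12798 L8966 (flp_d L12798) L18300
theorem L18309 : sm gf N2109 = N2109 := ded_40_2 (flp_e L18300) (flp_f L12793) L8956 L12793 L18300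
theorem L18310 : sm gg N1468 = N2110 := rfl
theorem L18312 : sm ga N2110 = N1474 := ded_15_1 (flp_g L12849) (flp_a L12795) L18310
theorem L18314 : sm gb N2110 = N2110 := ded_23_1 (flp_g L18310) L12797 L18310
theorem L18315 : sm gd N2110 = N1470 := ded_36_1 (flp_g L12813) (flp_d L12798) L18310
theorem L18317 : sm gi N2110 = N2110 := ded_51_2 (flp_g L18310) L12802 L18310
theorem L18318 : sm gf N2110 = N2110 := ded_45_1 (flp_g L18310) (flp_f L12793) L8952 L12793 L18310
theorem L18319 : sm gj N2110 = N2110 := ded_49_2 (flp_g L18310) L12800 L9055 (flp_j L12800) L18310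
theorem L18320 : sm gh N1468 = N2111 := rfl
theorem L18330 : sm gi N1469 = N2112 := rfl
theorem L18338 : sm gj N2112 = N1486 := ded_53_1 (flp_i L12957) (flp_j L12810) L18330
theorem L18341 : sm ge N1471 = N2113 := rfl
theorem L18344 : sm gc N2113 = N1473 := ded_28_1 (flp_e L12840) (flp_c L12826) L18341
theorem L18346 : sm gj N2113 = N1487 := ded_42_2 (flp_e L12967) (flp_j L12828) L18341
theorem L18350 : sm gg N1471 = N2114 := rfl
theorem L18358 : sm gh N1471 = N2115 := rfl
theorem L18363 : sm gf N2115 = N1472 := ded_47_1 (flp_h L12831) L12823 L18358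
theorem L18365 : sm gj N2115 = N1488 := ded_52_1 (flp_h L12975) (flp_j L12828) L18358
theorem L18367 : sm gd N1472 = N2116 := rfl
theorem L18371 : sm gj N2116 = N1489 := ded_37_2 (flp_d L12983) (flp_j L12838) L18367
theorem L18384 : sm gg N1473 = N2118 := rfl
theorem L18386 : sm gb N2118 = N1477 := ded_23_1 (flp_g L12877) (flp_b L12842) L18384
theorem L18388 : sm gd N2118 = N2118 := ded_36_1 (flp_g L18384) L12847 L18384
theorem L18389 : sm ge N2118 = N1474 := ded_41_1 (flp_g L12849) L12840 L18384
theorem L18391 : sm gi N2118 = N2118 := ded_51_2 (flp_g L18384) L12846 L18384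
theorem L18392 : sm gj N2118 = N2118 := ded_49_2 (flp_g L18384) L12844 L9084 (flp_j L12844) L18384
theorem L18393 : sm gh N1473 = N2119 := rfl
theorem L18395 : sm gb N2119 = N1478 := ded_25_1 (flp_h L12886) (flp_b L12842) L18393
theorem L18400 : sm gj N2119 = N1491 := ded_52_1 (flp_h L12998) (flp_j L12844) L18393
theorem L18402 : sm gh N1474 = N2120 := rfl
theorem L18404 : sm gb N2120 = N1479 := ded_25_1 (flp_h L12895) (flp_b L12851) L18402
theorem L18411 : sm gi N1475 = N2121 := rfl
theorem L18413 : sm gb N2121 = N1480 := ded_26_1 (flp_i L12904) (flp_b L12860) L18411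
theorem L18421 : sm gf N1477 = N2122 := rfl
theorem L18423 : sm ga N2122 = N2122 := ded_14_1 (flp_f L18421) L12879 L18421
theorem L18424 : sm gc N2122 = N2122 := ded_29_1 (flp_f L18421) L12880 L18421
theorem L18425 : sm gd N2122 = N2122 := ded_35_1 (flp_f L18421) L12881 L18421
theorem L18426 : sm gj N2122 = N2122 := ded_46_2 (flp_f L18421) L12885 L18421
theorem L18427 : sm gi N2122 = N2122 := ded_48_2 (flp_f L18421) L12884 L18421
theorem L18428 : sm ge N2122 = N2122 := ded_40_1 (flp_f L18421) L12882 L9018 (flp_e L12882) L18421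
theorem L18429 : sm gg N2122 = N2122 := ded_45_2 (flp_f L18421) (flp_g L12877) L9010 L12877 L18421
theorem L18430 : sm gh N1477 = N2123 := rfl
theorem L18432 : sm ga N2123 = N2123 := ded_17_1 (flp_h L18430) L12879 L18430
theorem L18433 : sm gc N2123 = N2123 := ded_32_1 (flp_h L18430) L12880 L18430
theorem L18434 : sm ge N2123 = N1479 := ded_43_1 (flp_h L12895) (flp_e L12882) L18430
theorem L18436 : sm gg N2123 = N1478 := ded_50_1 (flp_h L12886) L12877 L18430
theorem L18438 : sm gj N2123 = N2123 := ded_52_1 (flp_h L18430) L12885 L18430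
theorem L18439 : sm gd N1478 = N2124 := rfl
theorem L18441 : sm ga N2124 = N2124 := ded_12_1 (flp_d L18439) L12888 L18439
theorem L18442 : sm gf N2124 = N2124 := ded_35_2 (flp_d L18439) L12892 L18439
theorem L18443 : sm gj N2124 = N1493 := ded_37_2 (flp_d L13015) (flp_j L12893) L18439
theorem L18445 : sm ge N2124 = N2124 := ded_34_2 (flp_d L18439) L12890 L9028 (flp_e L12890) L18439
theorem L18446 : sm gh N2124 = N2124 := ded_38_2 (flp_d L18439) (flp_h L12886) L9009 L12886 L18439
theorem L18447 : sm gi N1478 = N2125 := rfl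
theorem L18451 : sm ge N2125 = N1480 := ded_44_1 (flp_i L12904) (flp_e L12890) L18447
theorem L18457 : sm gi N1479 = N2126 := rfl
theorem L18463 : sm gg N2126 = N1480 := ded_51_1 (flp_i L12904) (flp_g L12900) L18457
theorem L18467 : sm gf N1481 = N2127 := rfl
theorem L18475 : sm gh N1481 = N2128 := rfl
theorem L18482 : sm gg N2128 = N1495 := ded_50_1 (flp_h L13031) (flp_g L12917) L18475
theorem L18484 : sm ge N1482 = N2129 := rfl
theorem L18488 : sm gc N2129 = N1484 := ded_28_1 (flp_e L12939) (flp_c L12926) L18484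
theorem L18493 : sm gh N1482 = N2130 := rfl
theorem L18502 : sm gd N1483 = N2131 := rfl
theorem L18506 : sm gg N2131 = N1496 := ded_36_2 (flp_d L13040) (flp_g L12937) L18502
theorem L18519 : sm gh N1484 = N2133 := rfl
theorem L18528 : sm gi N1485 = N2134 := rfl
theorem L18534 : sm gf N2134 = N1486 := ded_48_1 (flp_i L12957) (flp_f L12953) L18528
theorem L18538 : sm gd N1487 = N2135 := rfl
theorem L18545 : sm gh N1487 = N2136 := rfl
theorem L18548 : sm gc N2136 = N1491 := ded_32_1 (flp_h L12998) (flp_c L12970) L18545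
theorem L18550 : sm ge N2136 = N1488 := ded_43_1 (flp_h L12975) L12967 L18545
theorem L18554 : sm gd N1488 = N2137 := rfl
theorem L18557 : sm gf N2137 = N1489 := ded_35_2 (flp_d L12983) (flp_f L12980) L18554
theorem L18561 : sm gi N1488 = N2138 := rfl
theorem L18570 : sm ge N1489 = N2139 := rfl
theorem L18585 : sm gd N1491 = N2141 := rfl
theorem L18587 : sm gb N2141 = N1493 := ded_20_1 (flp_d L13015) (flp_b L13000) L18585
theorem L18593 : sm gi N1491 = N2142 := rfl
theorem L18602 : sm gc N1493 = N2143 := rfl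
theorem L18604 : sm ga N2143 = N2143 := ded_11_1 (flp_c L18602) L13017 L18602
theorem L18605 : sm ge N2143 = N2143 := ded_28_2 (flp_c L18602) L13020 L18602
theorem L18606 : sm gf N2143 = N2143 := ded_29_2 (flp_c L18602) L13018 L18602
theorem L18607 : sm gg N2143 = N2143 := ded_30_2 (flp_c L18602) L13019 L18602
theorem L18608 : sm gh N2143 = N2143 := ded_32_2 (flp_c L18602) L13021 L18602
theorem L18609 : sm gd N2143 = N2143 := ded_27_2 (flp_c L18602) (flp_d L13015) L9108 L13015 L18602
theorem L18610 : sm gi N1493 = N2144 := rfl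
theorem L18618 : sm gd N1495 = N2145 := rfl
theorem L18621 : sm gb N2145 = N1496 := ded_20_1 (flp_d L13040) (flp_b L13034) L18618
theorem L18635 : sm ge N1496 = N2147 := rfl
theorem L18642 : sm gi N1496 = N2148 := rfl
theorem L18647 : sm gd N2148 = N1497 := ded_39_1 (flp_i L13047) L13040 L18642
theorem L18651 : sm gf N1498 = N2149 := rfl
theorem L18658 : sm gi N1498 = N2150 := rfl
theorem L18673 : sm gg N1500 = N2152 := rfl
theorem L18675 : sm ga N2152 = N2152 := ded_15_1 (flp_g L18673) L13073 L18673
theorem L18676 : sm gb N2152 = N2152 := ded_23_1 (flp_g L18673) L13074 L18673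
theorem L18677 : sm gc N2152 = N2152 := ded_30_1 (flp_g L18673) L13075 L18673
theorem L18678 : sm gd N2152 = N2152 := ded_36_1 (flp_g L18673) L13076 L18673
theorem L18679 : sm ge N2152 = N1502 := ded_41_1 (flp_g L13091) (flp_e L13077) L18673
theorem L18681 : sm gh N2152 = N2152 := ded_50_2 (flp_g L18673) L13080 L18673
theorem L18682 : sm gj N2152 = N2152 := ded_49_2 (flp_g L18673) (flp_j L13071) L9169 L13071 L18673
theorem L18683 : sm gi N1500 = N2153 := rfl
theorem L18685 : sm ga N2153 = N2153 := ded_18_1 (flp_i L18683) L13073 L18683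
theorem L18686 : sm gb N2153 = N2153 := ded_26_1 (flp_i L18683) L13074 L18683
theorem L18687 : sm gc N2153 = N2153 := ded_33_1 (flp_i L18683) L13075 L18683
theorem L18688 : sm gd N2153 = N2153 := ded_39_1 (flp_i L18683) L13076 L18683
theorem L18689 : sm ge N2153 = N1503 := ded_44_1 (flp_i L13101) (flp_e L13077) L18683
theorem L18691 : sm gf N2153 = N2153 := ded_48_1 (flp_i L18683) L13079 L18683
theorem L18692 : sm gj N2153 = N1501 := ded_53_1 (flp_i L13081) L13071 L18683
theorem L18694 : sm gh N1501 = N2154 := rfl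
theorem L18696 : sm ga N2154 = N2154 := ded_17_1 (flp_h L18694) L13083 L18694
theorem L18697 : sm gb N2154 = N2154 := ded_25_1 (flp_h L18694) L13084 L18694
theorem L18698 : sm gc N2154 = N2154 := ded_32_1 (flp_h L18694) L13085 L18694
theorem L18699 : sm ge N2154 = N1504 := ded_43_1 (flp_h L13112) (flp_e L13087) L18694
theorem L18701 : sm gf N2154 = N2154 := ded_47_1 (flp_h L18694) L13089 L18694
theorem L18702 : sm gg N2154 = N2154 := ded_50_1 (flp_h L18694) L13090 L18694
theorem L18703 : sm gi N2154 = N2154 := ded_54_2 (flp_h L18694) (flp_i L13081) L9170 L13081 L18694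
theorem L18704 : sm gi N1502 = N2155 := rfl
theorem L18706 : sm ga N2155 = N2155 := ded_18_1 (flp_i L18704) L13093 L18704
theorem L18707 : sm gb N2155 = N2155 := ded_26_1 (flp_i L18704) L13094 L18704
theorem L18708 : sm gc N2155 = N2155 := ded_33_1 (flp_i L18704) L13095 L18704
theorem L18709 : sm gd N2155 = N1510 := ded_39_1 (flp_i L13170) (flp_d L13096) L18704
theorem L18711 : sm gf N2155 = N2155 := ded_48_1 (flp_i L18704) L13099 L18704
theorem L18712 : sm gg N2155 = N1503 := ded_51_1 (flp_i L13101) L13091 L18704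
theorem L18714 : sm gj N2155 = N2155 := ded_53_1 (flp_i L18704) L13100 L18704
theorem L18715 : sm gh N1503 = N2156 := rfl
theorem L18717 : sm ga N2156 = N2156 := ded_17_1 (flp_h L18715) L13103 L18715
theorem L18718 : sm gb N2156 = N2156 := ded_25_1 (flp_h L18715) L13104 L18715
theorem L18719 : sm gc N2156 = N2156 := ded_32_1 (flp_h L18715) L13105 L18715
theorem L18720 : sm gf N2156 = N1505 := ded_47_1 (flp_h L13121) (flp_f L13108) L18715
theorem L18722 : sm gj N2156 = N1504 := ded_52_1 (flp_h L13112) (flp_j L13110) L18715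
theorem L18724 : sm gi N2156 = N2156 := ded_54_2 (flp_h L18715) (flp_i L13101) L9182 L13101 L18715
theorem L18725 : sm gd N1504 = N2157 := rfl
theorem L18727 : sm ga N2157 = N2157 := ded_12_1 (flp_d L18725) L13114 L18725
theorem L18728 : sm gb N2157 = N2157 := ded_20_1 (flp_d L18725) L13115 L18725
theorem L18729 : sm gf N2157 = N1506 := ded_35_2 (flp_d L13131) (flp_f L13117) L18725
theorem L18731 : sm gg N2157 = N2157 := ded_36_2 (flp_d L18725) L13119 L18725
theorem L18732 : sm gi N2157 = N2157 := ded_39_2 (flp_d L18725) L13120 L18725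
theorem L18733 : sm gh N2157 = N1514 := ded_38_2 (flp_d L13216) (flp_h L9265) (flp_d L9188) L13112 L18725
theorem L18735 : sm gd N1505 = N2158 := rfl
theorem L18737 : sm ga N2158 = N2158 := ded_12_1 (flp_d L18735) L13123 L18735
theorem L18738 : sm gb N2158 = N2158 := ded_20_1 (flp_d L18735) L13124 L18735
theorem L18739 : sm gg N2158 = N2158 := ded_36_2 (flp_d L18735) L13127 L18735
theorem L18740 : sm gj N2158 = N1506 := ded_37_2 (flp_d L13131) (flp_j L13128) L18735
theorem L18742 : sm gi N2158 = N2158 := ded_39_2 (flp_d L18735) L13130 L18735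
theorem L18743 : sm gh N2158 = N1516 := ded_38_2 (flp_d L13236) (flp_h L9287) (flp_d L9198) L13121 L18735
theorem L18745 : sm gc N1506 = N2159 := rfl
theorem L18747 : sm ga N2159 = N2159 := ded_11_1 (flp_c L18745) L13133 L18745
theorem L18748 : sm gg N2159 = N1507 := ded_30_2 (flp_c L13140) (flp_g L13135) L18745
theorem L18750 : sm gh N2159 = N1518 := ded_32_2 (flp_c L13252) (flp_h L13138) L18745
theorem L18752 : sm gi N2159 = N2159 := ded_33_2 (flp_c L18745) L13137 L18745
theorem L18753 : sm gd N2159 = N2159 := ded_27_2 (flp_c L18745) (flp_d L13131) L9208 L13131 L18745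
theorem L18754 : sm ge N1506 = N2160 := rfl
theorem L18756 : sm ga N2160 = N2160 := ded_13_1 (flp_e L18754) L13133 L18754
theorem L18757 : sm gb N2160 = N2160 := ded_21_1 (flp_e L18754) L13134 L18754
theorem L18758 : sm gg N2160 = N1508 := ded_41_2 (flp_e L13149) (flp_g L13135) L18754
theorem L18760 : sm gh N2160 = N1519 := ded_43_2 (flp_e L13259) (flp_h L13138) L18754
theorem L18762 : sm gi N2160 = N2160 := ded_44_2 (flp_e L18754) L13137 L18754
theorem L18763 : sm gd N2160 = N2160 := ded_34_1 (flp_e L18754) (flp_d L13131) L9209 L13131 L18754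
theorem L18764 : sm gb N1507 = N2161 := rfl
theorem L18766 : sm gd N2161 = N2161 := ded_20_2 (flp_b L18764) L13148 L18764
theorem L18767 : sm gf N2161 = N2161 := ded_22_2 (flp_b L18764) L13143 L18764
theorem L18768 : sm gj N2161 = N2161 := ded_24_2 (flp_b L18764) L13144 L18764
theorem L18769 : sm gh N2161 = N1522 := ded_25_2 (flp_b L13287) (flp_h L13145) L18764
theorem L18771 : sm gi N2161 = N2161 := ded_26_2 (flp_b L18764) L13147 L18764
theorem L18772 : sm gc N2161 = N2161 := ded_19_2 (flp_b L18764) (flp_c L13140) L9216 L13140 L18764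
theorem L18773 : sm ge N1507 = N2162 := rfl
theorem L18775 : sm ga N2162 = N2162 := ded_13_1 (flp_e L18773) L13142 L18773
theorem L18776 : sm gc N2162 = N1508 := ded_28_1 (flp_e L13149) L13140 L18773
theorem L18778 : sm gj N2162 = N2162 := ded_42_2 (flp_e L18773) L13144 L18773
theorem L18779 : sm gh N2162 = N1523 := ded_43_2 (flp_e L13294) (flp_h L13145) L18773
theorem L18781 : sm gi N2162 = N2162 := ded_44_2 (flp_e L18773) L13147 L18773
theorem L18782 : sm gf N1508 = N2163 := rfl
theorem L18784 : sm ga N2163 = N2163 := ded_14_1 (flp_f L18782) L13151 L18782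
theorem L18785 : sm gb N2163 = N2163 := ded_22_1 (flp_f L18782) L13152 L18782
theorem L18786 : sm gd N2163 = N2163 := ded_35_1 (flp_f L18782) L13157 L18782
theorem L18787 : sm gj N2163 = N2163 := ded_46_2 (flp_f L18782) L13153 L18782
theorem L18788 : sm gh N2163 = N1524 := ded_47_2 (flp_f L13300) (flp_h L13154) L18782
theorem L18790 : sm gi N2163 = N2163 := ded_48_2 (flp_f L18782) L13156 L18782
theorem L18791 : sm ge N2163 = N2163 := ded_40_1 (flp_f L18782) (flp_e L13149) L9217 L13149 L18782
theorem L18792 : sm gi N1509 = N2164 := rfl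
theorem L18794 : sm ga N2164 = N2164 := ded_18_1 (flp_i L18792) L13160 L18792
theorem L18795 : sm gb N2164 = N2164 := ded_26_1 (flp_i L18792) L13161 L18792
theorem L18796 : sm gc N2164 = N1563 := ded_33_1 (flp_i L13640) (flp_c L13162) L18792
theorem L18798 : sm gd N2164 = N2164 := ded_39_1 (flp_i L18792) L13169 L18792
theorem L18799 : sm ge N2164 = N2164 := ded_44_1 (flp_i L18792) L13164 L18792
theorem L18800 : sm gf N2164 = N2164 := ded_48_1 (flp_i L18792) L13165 L18792
theorem L18801 : sm gg N2164 = N1511 := ded_51_1 (flp_i L13181) (flp_g L13166) L18792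
theorem L18803 : sm gj N2164 = N2164 := ded_53_1 (flp_i L18792) L13168 L18792
theorem L18804 : sm gh N1510 = N2165 := rfl
theorem L18806 : sm ga N2165 = N2165 := ded_17_1 (flp_h L18804) L13172 L18804
theorem L18807 : sm gb N2165 = N2165 := ded_25_1 (flp_h L18804) L13173 L18804
theorem L18808 : sm gc N2165 = N1564 := ded_32_1 (flp_h L13650) (flp_c L13174) L18804
theorem L18810 : sm ge N2165 = N2165 := ded_43_1 (flp_h L18804) L13176 L18804
theorem L18811 : sm gf N2165 = N2165 := ded_47_1 (flp_h L18804) L13177 L18804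
theorem L18812 : sm gg N2165 = N1512 := ded_50_1 (flp_h L13193) (flp_g L13178) L18804
theorem L18814 : sm gj N2165 = N2165 := ded_52_1 (flp_h L18804) L13180 L18804
theorem L18815 : sm gh N1511 = N2166 := rfl
theorem L18817 : sm ga N2166 = N2166 := ded_17_1 (flp_h L18815) L13183 L18815
theorem L18818 : sm gb N2166 = N2166 := ded_25_1 (flp_h L18815) L13184 L18815
theorem L18819 : sm gc N2166 = N1567 := ded_32_1 (flp_h L13683) (flp_c L13185) L18815
theorem L18821 : sm ge N2166 = N2166 := ded_43_1 (flp_h L18815) L13188 L18815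
theorem L18822 : sm gf N2166 = N1515 := ded_47_1 (flp_h L13223) (flp_f L13189) L18815
theorem L18824 : sm gj N2166 = N1513 := ded_52_1 (flp_h L13204) (flp_j L13191) L18815
theorem L18826 : sm gi N2166 = N1512 := ded_54_2 (flp_h L13193) (flp_i L9243) L9231 L13181 L18815
theorem L18828 : sm gd N1512 = N2167 := rfl
theorem L18830 : sm ga N2167 = N2167 := ded_12_1 (flp_d L18828) L13195 L18828
theorem L18831 : sm gb N2167 = N2167 := ded_20_1 (flp_d L18828) L13196 L18828
theorem L18832 : sm gf N2167 = N1516 := ded_35_2 (flp_d L13236) (flp_f L13200) L18828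
theorem L18834 : sm gj N2167 = N1514 := ded_37_2 (flp_d L13216) (flp_j L13202) L18828
theorem L18836 : sm gd N1513 = N2168 := rfl
theorem L18838 : sm ga N2168 = N2168 := ded_12_1 (flp_d L18836) L13206 L18836
theorem L18839 : sm gb N2168 = N2168 := ded_20_1 (flp_d L18836) L13207 L18836
theorem L18840 : sm gf N2168 = N1517 := ded_35_2 (flp_d L13243) (flp_f L13211) L18836
theorem L18842 : sm gg N2168 = N2168 := ded_36_2 (flp_d L18836) L13213 L18836
theorem L18843 : sm gi N2168 = N1514 := ded_39_2 (flp_d L13216) (flp_i L13214) L18836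
theorem L18845 : sm gh N2168 = N2168 := ded_38_2 (flp_d L18836) (flp_h L13204) L9260 L13204 L18836
theorem L18846 : sm gc N1514 = N2169 := rfl
theorem L18848 : sm ga N2169 = N2169 := ded_11_1 (flp_c L18846) L13218 L18846
theorem L18849 : sm gf N2169 = N1518 := ded_29_2 (flp_c L13252) (flp_f L13220) L18846
theorem L18851 : sm gg N2169 = N2169 := ded_30_2 (flp_c L18846) L13222 L18846
theorem L18852 : sm gd N2169 = N1572 := ded_27_2 (flp_c L13736) (flp_d L9634) (flp_c L9269) L13216 L18846
theorem L18854 : sm ge N1514 = N2170 := rfl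
theorem L18856 : sm ga N2170 = N2170 := ded_13_1 (flp_e L18854) L13218 L18854
theorem L18857 : sm gb N2170 = N2170 := ded_21_1 (flp_e L18854) L13219 L18854
theorem L18858 : sm gg N2170 = N2170 := ded_41_2 (flp_e L18854) L13222 L18854
theorem L18859 : sm gd N2170 = N2170 := ded_34_1 (flp_e L18854) (flp_d L13216) L9271 L13216 L18854
theorem L18860 : sm gd N1515 = N2171 := rfl
theorem L18862 : sm ga N2171 = N2171 := ded_12_1 (flp_d L18860) L13225 L18860
theorem L18863 : sm gb N2171 = N2171 := ded_20_1 (flp_d L18860) L13226 L18860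
theorem L18864 : sm gg N2171 = N2171 := ded_36_2 (flp_d L18860) L13231 L18860
theorem L18865 : sm gj N2171 = N1517 := ded_37_2 (flp_d L13243) (flp_j L13232) L18860
theorem L18867 : sm gi N2171 = N1516 := ded_39_2 (flp_d L13236) (flp_i L13234) L18860
theorem L18869 : sm gh N2171 = N2171 := ded_38_2 (flp_d L18860) (flp_h L13223) L9281 L13223 L18860
theorem L18870 : sm gc N1516 = N2172 := rfl
theorem L18872 : sm ga N2172 = N2172 := ded_11_1 (flp_c L18870) L13238 L18870
theorem L18873 : sm gg N2172 = N2172 := ded_30_2 (flp_c L18870) L13240 L18870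
theorem L18874 : sm gj N2172 = N1518 := ded_31_2 (flp_c L13252) (flp_j L13241) L18870
theorem L18876 : sm gd N2172 = N1576 := ded_27_2 (flp_c L13772) (flp_d L9667) (flp_c L9291) L13236 L18870
theorem L18878 : sm ge N1516 = N2173 := rfl
theorem L18880 : sm ga N2173 = N2173 := ded_13_1 (flp_e L18878) L13238 L18878
theorem L18881 : sm gb N2173 = N2173 := ded_21_1 (flp_e L18878) L13239 L18878
theorem L18882 : sm gg N2173 = N2173 := ded_41_2 (flp_e L18878) L13240 L18878
theorem L18883 : sm gj N2173 = N1519 := ded_42_2 (flp_e L13259) (flp_j L13241) L18878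
theorem L18885 : sm gd N2173 = N1528 := ded_34_1 (flp_e L13339) (flp_d L9363) (flp_e L9293) L13236 L18878
theorem L18887 : sm gc N1517 = N2174 := rfl
theorem L18889 : sm ga N2174 = N2174 := ded_11_1 (flp_c L18887) L13245 L18887
theorem L18890 : sm gg N2174 = N1520 := ded_30_2 (flp_c L13267) (flp_g L13247) L18887
theorem L18892 : sm gh N2174 = N2174 := ded_32_2 (flp_c L18887) L13251 L18887
theorem L18893 : sm gi N2174 = N1518 := ded_33_2 (flp_c L13252) (flp_i L13249) L18887
theorem L18895 : sm gd N2174 = N1579 := ded_27_2 (flp_c L13800) (flp_d L9686) (flp_c L9302) L13243 L18887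
theorem L18897 : sm ge N1517 = N2175 := rfl
theorem L18899 : sm ga N2175 = N2175 := ded_13_1 (flp_e L18897) L13245 L18897
theorem L18900 : sm gb N2175 = N2175 := ded_21_1 (flp_e L18897) L13246 L18897
theorem L18901 : sm gg N2175 = N1521 := ded_41_2 (flp_e L13277) (flp_g L13247) L18897
theorem L18903 : sm gh N2175 = N2175 := ded_43_2 (flp_e L18897) L13251 L18897
theorem L18904 : sm gi N2175 = N1519 := ded_44_2 (flp_e L13259) (flp_i L13249) L18897
theorem L18906 : sm gd N2175 = N1531 := ded_34_1 (flp_e L13367) (flp_d L9382) (flp_e L9304) L13243 L18897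
theorem L18908 : sm gb N1518 = N2176 := rfl
theorem L18910 : sm gd N2176 = N1581 := ded_20_2 (flp_b L13818) (flp_d L13257) L18908
theorem L18912 : sm gg N2176 = N1522 := ded_23_2 (flp_b L13287) (flp_g L13255) L18908
theorem L18914 : sm gc N2176 = N2176 := ded_19_2 (flp_b L18908) (flp_c L13252) L9313 L13252 L18908
theorem L18915 : sm ge N1518 = N2177 := rfl
theorem L18917 : sm ga N2177 = N2177 := ded_13_1 (flp_e L18915) L13254 L18915
theorem L18918 : sm gc N2177 = N1519 := ded_28_1 (flp_e L13259) L13252 L18915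
theorem L18920 : sm gg N2177 = N1523 := ded_41_2 (flp_e L13294) (flp_g L13255) L18915
theorem L18922 : sm gf N1519 = N2178 := rfl
theorem L18924 : sm ga N2178 = N2178 := ded_14_1 (flp_f L18922) L13261 L18922
theorem L18925 : sm gb N2178 = N2178 := ded_22_1 (flp_f L18922) L13262 L18922
theorem L18926 : sm gd N2178 = N1534 := ded_35_1 (flp_f L13392) (flp_d L13265) L18922
theorem L18928 : sm gb N1520 = N2179 := rfl
theorem L18930 : sm gd N2179 = N1586 := ded_20_2 (flp_b L13860) (flp_d L13275) L18928
theorem L18932 : sm gf N2179 = N2179 := ded_22_2 (flp_b L18928) L13270 L18928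
theorem L18933 : sm gj N2179 = N2179 := ded_24_2 (flp_b L18928) L13271 L18928
theorem L18934 : sm gh N2179 = N2179 := ded_25_2 (flp_b L18928) L13272 L18928
theorem L18935 : sm gi N2179 = N1522 := ded_26_2 (flp_b L13287) (flp_i L13273) L18928
theorem L18937 : sm gc N2179 = N2179 := ded_19_2 (flp_b L18928) (flp_c L13267) L9319 L13267 L18928
theorem L18938 : sm ge N1520 = N2180 := rfl
theorem L18940 : sm ga N2180 = N2180 := ded_13_1 (flp_e L18938) L13269 L18938
theorem L18941 : sm gc N2180 = N1521 := ded_28_1 (flp_e L13277) L13267 L18938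
theorem L18943 : sm gj N2180 = N2180 := ded_42_2 (flp_e L18938) L13271 L18938
theorem L18944 : sm gh N2180 = N2180 := ded_43_2 (flp_e L18938) L13272 L18938
theorem L18945 : sm gi N2180 = N1523 := ded_44_2 (flp_e L13294) (flp_i L13273) L18938
theorem L18947 : sm gf N1521 = N2181 := rfl
theorem L18949 : sm ga N2181 = N2181 := ded_14_1 (flp_f L18947) L13279 L18947
theorem L18950 : sm gb N2181 = N2181 := ded_22_1 (flp_f L18947) L13280 L18947
theorem L18951 : sm gd N2181 = N1539 := ded_35_1 (flp_f L13435) (flp_d L13285) L18947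
theorem L18953 : sm gj N2181 = N2181 := ded_46_2 (flp_f L18947) L13281 L18947
theorem L18954 : sm gh N2181 = N2181 := ded_47_2 (flp_f L18947) L13282 L18947
theorem L18955 : sm gi N2181 = N1524 := ded_48_2 (flp_f L13300) (flp_i L13283) L18947
theorem L18957 : sm ge N2181 = N2181 := ded_40_1 (flp_f L18947) (flp_e L13277) L9320 L13277 L18947
theorem L18958 : sm ga N1522 = N2182 := rfl
theorem L18960 : sm gc N2182 = N2182 := ded_11_2 (flp_a L18958) L13293 L18958
theorem L18961 : sm gd N2182 = N1589 := ded_12_2 (flp_a L13887) (flp_d L13289) L18958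
theorem L18963 : sm gf N2182 = N2182 := ded_14_2 (flp_a L18958) L13291 L18958
theorem L18964 : sm gj N2182 = N2182 := ded_16_2 (flp_a L18958) L13292 L18958
theorem L18965 : sm gb N2182 = N2182 := ded_10_2 (flp_a L18958) (flp_b L13287) L9327 L13287 L18958
theorem L18966 : sm ge N1522 = N2183 := rfl
theorem L18968 : sm gb N2183 = N1523 := ded_21_1 (flp_e L13294) L13287 L18966
theorem L18970 : sm gc N2183 = N2183 := ded_28_1 (flp_e L18966) L13293 L18966
theorem L18971 : sm gj N2183 = N2183 := ded_42_2 (flp_e L18966) L13292 L18966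
theorem L18972 : sm gd N1523 = N2184 := rfl
theorem L18974 : sm ga N2184 = N2184 := ded_12_1 (flp_d L18972) L13296 L18972
theorem L18975 : sm gj N2184 = N2184 := ded_37_2 (flp_d L18972) L13299 L18972
theorem L18976 : sm gc N2184 = N1542 := ded_27_1 (flp_d L13461) L9446 (flp_d L9337) (flp_c L13297) L18972
theorem L18978 : sm ge N2184 = N1591 := ded_34_2 (flp_d L13903) (flp_e L9745) (flp_d L9330) L13294 L18972
theorem L18980 : sm gf N1523 = N2185 := rfl
theorem L18982 : sm ga N2185 = N2185 := ded_14_1 (flp_f L18980) L13296 L18980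
theorem L18983 : sm gc N2185 = N1524 := ded_29_1 (flp_f L13300) (flp_c L13297) L18980
theorem L18985 : sm gj N2185 = N2185 := ded_46_2 (flp_f L18980) L13299 L18980
theorem L18986 : sm ge N2185 = N2185 := ded_40_1 (flp_f L18980) (flp_e L13294) L9328 L13294 L18980
theorem L18987 : sm gg N1524 = N2186 := rfl
theorem L18989 : sm ga N2186 = N2186 := ded_15_1 (flp_g L18987) L13302 L18987
theorem L18990 : sm gb N2186 = N2186 := ded_23_1 (flp_g L18987) L13303 L18987
theorem L18991 : sm gd N2186 = N1544 := ded_36_1 (flp_g L13476) (flp_d L13304) L18987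
theorem L18993 : sm ge N2186 = N2186 := ded_41_1 (flp_g L18987) L13307 L18987
theorem L18994 : sm gd N1525 = N2187 := rfl
theorem L18996 : sm ga N2187 = N2187 := ded_12_1 (flp_d L18994) L13310 L18994
theorem L18997 : sm gb N2187 = N2187 := ded_20_1 (flp_d L18994) L13311 L18994
theorem L18998 : sm gf N2187 = N2187 := ded_35_2 (flp_d L18994) L13314 L18994
theorem L18999 : sm gg N2187 = N2187 := ded_36_2 (flp_d L18994) L13315 L18994
theorem L19000 : sm gj N2187 = N1529 := ded_37_2 (flp_d L13347) (flp_j L13316) L18994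
theorem L19002 : sm gi N2187 = N2187 := ded_39_2 (flp_d L18994) L13318 L18994
theorem L19003 : sm gh N2187 = N1526 := ded_38_2 (flp_d L13319) (flp_h L9351) (flp_d L9344) L13308 L18994
theorem L19005 : sm gc N1526 = N2188 := rfl
theorem L19007 : sm ga N2188 = N2188 := ded_11_1 (flp_c L19005) L13321 L19005
theorem L19008 : sm gf N2188 = N2188 := ded_29_2 (flp_c L19005) L13323 L19005
theorem L19009 : sm gg N2188 = N2188 := ded_30_2 (flp_c L19005) L13324 L19005
theorem L19010 : sm gj N2188 = N1530 := ded_31_2 (flp_c L13357) (flp_j L13325) L19005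
theorem L19012 : sm gi N2188 = N1527 := ded_33_2 (flp_c L13329) (flp_i L13327) L19005
theorem L19014 : sm gd N2188 = N1594 := ded_27_2 (flp_c L13926) (flp_d L9762) (flp_c L9355) L13319 L19005
theorem L19016 : sm ge N1526 = N2189 := rfl
theorem L19018 : sm ga N2189 = N2189 := ded_13_1 (flp_e L19016) L13321 L19016
theorem L19019 : sm gb N2189 = N2189 := ded_21_1 (flp_e L19016) L13322 L19016
theorem L19020 : sm gg N2189 = N2189 := ded_41_2 (flp_e L19016) L13324 L19016
theorem L19021 : sm gj N2189 = N1531 := ded_42_2 (flp_e L13367) (flp_j L13325) L19016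
theorem L19023 : sm gi N2189 = N1528 := ded_44_2 (flp_e L13339) (flp_i L13327) L19016
theorem L19025 : sm gb N1527 = N2190 := rfl
theorem L19027 : sm gd N2190 = N1596 := ded_20_2 (flp_b L13947) (flp_d L13337) L19025
theorem L19029 : sm gf N2190 = N2190 := ded_22_2 (flp_b L19025) L13332 L19025
theorem L19030 : sm gg N2190 = N2190 := ded_23_2 (flp_b L19025) L13333 L19025
theorem L19031 : sm gj N2190 = N1532 := ded_24_2 (flp_b L13375) (flp_j L13334) L19025
theorem L19033 : sm gh N2190 = N2190 := ded_25_2 (flp_b L19025) L13336 L19025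
theorem L19034 : sm gc N2190 = N2190 := ded_19_2 (flp_b L19025) (flp_c L13329) L9366 L13329 L19025
theorem L19035 : sm ge N1527 = N2191 := rfl
theorem L19037 : sm ga N2191 = N2191 := ded_13_1 (flp_e L19035) L13331 L19035
theorem L19038 : sm gc N2191 = N1528 := ded_28_1 (flp_e L13339) L13329 L19035
theorem L19040 : sm gg N2191 = N2191 := ded_41_2 (flp_e L19035) L13333 L19035
theorem L19041 : sm gj N2191 = N1533 := ded_42_2 (flp_e L13384) (flp_j L13334) L19035
theorem L19043 : sm gh N2191 = N2191 := ded_43_2 (flp_e L19035) L13336 L19035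
theorem L19044 : sm gf N1528 = N2192 := rfl
theorem L19046 : sm ga N2192 = N2192 := ded_14_1 (flp_f L19044) L13341 L19044
theorem L19047 : sm gb N2192 = N2192 := ded_22_1 (flp_f L19044) L13342 L19044
theorem L19048 : sm gj N2192 = N1534 := ded_46_2 (flp_f L13392) (flp_j L13344) L19044
theorem L19050 : sm gh N2192 = N2192 := ded_47_2 (flp_f L19044) L13346 L19044
theorem L19051 : sm ge N2192 = N2192 := ded_40_1 (flp_f L19044) (flp_e L13339) L9367 L13339 L19044
theorem L19052 : sm gc N1529 = N2193 := rfl
theorem L19054 : sm ga N2193 = N2193 := ded_11_1 (flp_c L19052) L13349 L19052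
theorem L19055 : sm gf N2193 = N2193 := ded_29_2 (flp_c L19052) L13351 L19052
theorem L19056 : sm gg N2193 = N1535 := ded_30_2 (flp_c L13398) (flp_g L13352) L19052
theorem L19058 : sm gh N2193 = N1530 := ded_32_2 (flp_c L13357) (flp_h L13355) L19052
theorem L19060 : sm gi N2193 = N2193 := ded_33_2 (flp_c L19052) L13354 L19052
theorem L19061 : sm gd N2193 = N2193 := ded_27_2 (flp_c L19052) (flp_d L13347) L9376 L13347 L19052
theorem L19062 : sm ge N1529 = N2194 := rfl
theorem L19064 : sm ga N2194 = N2194 := ded_13_1 (flp_e L19062) L13349 L19062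
theorem L19065 : sm gb N2194 = N2194 := ded_21_1 (flp_e L19062) L13350 L19062
theorem L19066 : sm gg N2194 = N1536 := ded_41_2 (flp_e L13408) (flp_g L13352) L19062
theorem L19068 : sm gh N2194 = N1531 := ded_43_2 (flp_e L13367) (flp_h L13355) L19062
theorem L19070 : sm gi N2194 = N2194 := ded_44_2 (flp_e L19062) L13354 L19062
theorem L19071 : sm gd N2194 = N2194 := ded_34_1 (flp_e L19062) (flp_d L13347) L9377 L13347 L19062
theorem L19072 : sm gb N1530 = N2195 := rfl
theorem L19074 : sm gd N2195 = N1599 := ded_20_2 (flp_b L13977) (flp_d L13365) L19072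
theorem L19076 : sm gf N2195 = N2195 := ded_22_2 (flp_b L19072) L13360 L19072
theorem L19077 : sm gg N2195 = N1537 := ded_23_2 (flp_b L13417) (flp_g L13361) L19072
theorem L19079 : sm gi N2195 = N1532 := ded_26_2 (flp_b L13375) (flp_i L13363) L19072
theorem L19081 : sm gc N2195 = N2195 := ded_19_2 (flp_b L19072) (flp_c L13357) L9385 L13357 L19072
theorem L19082 : sm ge N1530 = N2196 := rfl
theorem L19084 : sm ga N2196 = N2196 := ded_13_1 (flp_e L19082) L13359 L19082
theorem L19085 : sm gc N2196 = N1531 := ded_28_1 (flp_e L13367) L13357 L19082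
theorem L19087 : sm gg N2196 = N1538 := ded_41_2 (flp_e L13427) (flp_g L13361) L19082
theorem L19089 : sm gi N2196 = N1533 := ded_44_2 (flp_e L13384) (flp_i L13363) L19082
theorem L19091 : sm gf N1531 = N2197 := rfl
theorem L19093 : sm ga N2197 = N2197 := ded_14_1 (flp_f L19091) L13369 L19091
theorem L19094 : sm gb N2197 = N2197 := ded_22_1 (flp_f L19091) L13370 L19091
theorem L19095 : sm gi N2197 = N1534 := ded_48_2 (flp_f L13392) (flp_i L13373) L19091
theorem L19097 : sm ge N2197 = N2197 := ded_40_1 (flp_f L19091) (flp_e L13367) L9386 L13367 L19091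
theorem L19098 : sm ga N1532 = N2198 := rfl
theorem L19100 : sm gc N2198 = N2198 := ded_11_2 (flp_a L19098) L13383 L19098
theorem L19101 : sm gd N2198 = N1602 := ded_12_2 (flp_a L14006) (flp_d L13377) L19098
theorem L19103 : sm gf N2198 = N2198 := ded_14_2 (flp_a L19098) L13379 L19098
theorem L19104 : sm gg N2198 = N1540 := ded_15_2 (flp_a L13444) (flp_g L13380) L19098
theorem L19106 : sm gh N2198 = N2198 := ded_17_2 (flp_a L19098) L13382 L19098
theorem L19107 : sm gb N2198 = N2198 := ded_10_2 (flp_a L19098) (flp_b L13375) L9393 L13375 L19098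
theorem L19108 : sm ge N1532 = N2199 := rfl
theorem L19110 : sm gb N2199 = N1533 := ded_21_1 (flp_e L13384) L13375 L19108
theorem L19112 : sm gc N2199 = N2199 := ded_28_1 (flp_e L19108) L13383 L19108
theorem L19113 : sm gg N2199 = N1541 := ded_41_2 (flp_e L13454) (flp_g L13380) L19108
theorem L19115 : sm gh N2199 = N2199 := ded_43_2 (flp_e L19108) L13382 L19108
theorem L19116 : sm gd N1533 = N2200 := rfl
theorem L19118 : sm ga N2200 = N2200 := ded_12_1 (flp_d L19116) L13386 L19116
theorem L19119 : sm gg N2200 = N1542 := ded_36_2 (flp_d L13461) (flp_g L13389) L19116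
theorem L19121 : sm ge N2200 = N1604 := ded_34_2 (flp_d L14026) (flp_e L9821) (flp_d L9398) L13384 L19116
theorem L19123 : sm gf N1533 = N2201 := rfl
theorem L19125 : sm ga N2201 = N2201 := ded_14_1 (flp_f L19123) L13386 L19123
theorem L19126 : sm gc N2201 = N1534 := ded_29_1 (flp_f L13392) (flp_c L13387) L19123
theorem L19128 : sm gh N2201 = N2201 := ded_47_2 (flp_f L19123) L13391 L19123
theorem L19129 : sm ge N2201 = N2201 := ded_40_1 (flp_f L19123) (flp_e L13384) L9394 L13384 L19123
theorem L19130 : sm gg N1534 = N2202 := rfl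
theorem L19132 : sm ga N2202 = N2202 := ded_15_1 (flp_g L19130) L13394 L19130
theorem L19133 : sm gb N2202 = N2202 := ded_23_1 (flp_g L19130) L13395 L19130
theorem L19134 : sm ge N2202 = N2202 := ded_41_1 (flp_g L19130) L13397 L19130
theorem L19135 : sm gh N2202 = N2202 := ded_50_2 (flp_g L19130) L13396 L19130
theorem L19136 : sm gf N2202 = N1544 := ded_45_1 (flp_g L13476) (flp_f L9450) (flp_g L9404) L13392 L19130
theorem L19138 : sm gb N1535 = N2203 := rfl
theorem L19140 : sm gd N2203 = N2203 := ded_20_2 (flp_b L19138) L13407 L19138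
theorem L19141 : sm gf N2203 = N1547 := ded_22_2 (flp_b L13502) (flp_f L13401) L19138
theorem L19143 : sm gj N2203 = N2203 := ded_24_2 (flp_b L19138) L13403 L19138
theorem L19144 : sm gh N2203 = N1537 := ded_25_2 (flp_b L13417) (flp_h L13404) L19138
theorem L19146 : sm gi N2203 = N2203 := ded_26_2 (flp_b L19138) L13406 L19138
theorem L19147 : sm gc N2203 = N2203 := ded_19_2 (flp_b L19138) (flp_c L13398) L9410 L13398 L19138
theorem L19148 : sm ge N1535 = N2204 := rfl
theorem L19150 : sm ga N2204 = N2204 := ded_13_1 (flp_e L19148) L13400 L19148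
theorem L19151 : sm gc N2204 = N1536 := ded_28_1 (flp_e L13408) L13398 L19148
theorem L19153 : sm gj N2204 = N2204 := ded_42_2 (flp_e L19148) L13403 L19148
theorem L19154 : sm gh N2204 = N1538 := ded_43_2 (flp_e L13427) (flp_h L13404) L19148
theorem L19156 : sm gi N2204 = N2204 := ded_44_2 (flp_e L19148) L13406 L19148
theorem L19157 : sm gf N1536 = N2205 := rfl
theorem L19159 : sm ga N2205 = N2205 := ded_14_1 (flp_f L19157) L13410 L19157
theorem L19160 : sm gb N2205 = N2205 := ded_22_1 (flp_f L19157) L13411 L19157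
theorem L19161 : sm gd N2205 = N2205 := ded_35_1 (flp_f L19157) L13416 L19157
theorem L19162 : sm gj N2205 = N2205 := ded_46_2 (flp_f L19157) L13412 L19157
theorem L19163 : sm gh N2205 = N1539 := ded_47_2 (flp_f L13435) (flp_h L13413) L19157
theorem L19165 : sm gi N2205 = N2205 := ded_48_2 (flp_f L19157) L13415 L19157
theorem L19166 : sm ge N2205 = N1549 := ded_40_1 (flp_f L13521) (flp_e L9476) (flp_f L9411) L13408 L19157
theorem L19168 : sm ga N1537 = N2206 := rfl
theorem L19170 : sm gc N2206 = N2206 := ded_11_2 (flp_a L19168) L13426 L19168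
theorem L19171 : sm gd N2206 = N1607 := ded_12_2 (flp_a L14049) (flp_d L13419) L19168
theorem L19173 : sm gf N2206 = N1550 := ded_14_2 (flp_a L13529) (flp_f L13421) L19168
theorem L19175 : sm gj N2206 = N2206 := ded_16_2 (flp_a L19168) L13423 L19168
theorem L19176 : sm gi N2206 = N1540 := ded_18_2 (flp_a L13444) (flp_i L13424) L19168
theorem L19178 : sm gb N2206 = N2206 := ded_10_2 (flp_a L19168) (flp_b L13417) L9419 L13417 L19168
theorem L19179 : sm ge N1537 = N2207 := rfl
theorem L19181 : sm gb N2207 = N1538 := ded_21_1 (flp_e L13427) L13417 L19179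
theorem L19183 : sm gc N2207 = N2207 := ded_28_1 (flp_e L19179) L13426 L19179
theorem L19184 : sm gj N2207 = N2207 := ded_42_2 (flp_e L19179) L13423 L19179
theorem L19185 : sm gi N2207 = N1541 := ded_44_2 (flp_e L13454) (flp_i L13424) L19179
theorem L19187 : sm gd N1538 = N2208 := rfl
theorem L19189 : sm ga N2208 = N2208 := ded_12_1 (flp_d L19187) L13429 L19187
theorem L19190 : sm gj N2208 = N2208 := ded_37_2 (flp_d L19187) L13432 L19187
theorem L19191 : sm gi N2208 = N1542 := ded_39_2 (flp_d L13461) (flp_i L13433) L19187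
theorem L19193 : sm ge N2208 = N1609 := ded_34_2 (flp_d L14070) (flp_e L9848) (flp_d L9425) L13427 L19187
theorem L19195 : sm gf N1538 = N2209 := rfl
theorem L19197 : sm ga N2209 = N2209 := ded_14_1 (flp_f L19195) L13429 L19195
theorem L19198 : sm gc N2209 = N1539 := ded_29_1 (flp_f L13435) (flp_c L13430) L19195
theorem L19200 : sm gj N2209 = N2209 := ded_46_2 (flp_f L19195) L13432 L19195
theorem L19201 : sm gi N2209 = N1543 := ded_48_2 (flp_f L13467) (flp_i L13433) L19195
theorem L19203 : sm ge N2209 = N1553 := ded_40_1 (flp_f L13558) (flp_e L9494) (flp_f L9420) L13427 L19195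
theorem L19205 : sm gg N1539 = N2210 := rfl
theorem L19207 : sm ga N2210 = N2210 := ded_15_1 (flp_g L19205) L13437 L19205
theorem L19208 : sm gb N2210 = N2210 := ded_23_1 (flp_g L19205) L13438 L19205
theorem L19209 : sm ge N2210 = N1554 := ded_41_1 (flp_g L13566) (flp_e L13442) L19205
theorem L19211 : sm gi N2210 = N1544 := ded_51_2 (flp_g L13476) (flp_i L13440) L19205
theorem L19213 : sm ge N1540 = N2211 := rfl
theorem L19215 : sm ga N2211 = N1541 := ded_13_1 (flp_e L13454) L13444 L19213
theorem L19217 : sm gb N2211 = N2211 := ded_21_1 (flp_e L19213) L13453 L19213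
theorem L19218 : sm gc N2211 = N2211 := ded_28_1 (flp_e L19213) L13446 L19213
theorem L19219 : sm gj N2211 = N2211 := ded_42_2 (flp_e L19213) L13451 L19213
theorem L19220 : sm gh N2211 = N2211 := ded_43_2 (flp_e L19213) L13452 L19213
theorem L19221 : sm gd N1541 = N2212 := rfl
theorem L19223 : sm gb N2212 = N1542 := ded_20_1 (flp_d L13461) (flp_b L13456) L19221
theorem L19225 : sm gj N2212 = N2212 := ded_37_2 (flp_d L19221) L13459 L19221
theorem L19226 : sm ge N2212 = N1613 := ded_34_2 (flp_d L14107) (flp_e L9878) (flp_d L9436) L13454 L19221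
theorem L19228 : sm gf N1541 = N2213 := rfl
theorem L19230 : sm gb N2213 = N1543 := ded_22_1 (flp_f L13467) (flp_b L13456) L19228
theorem L19232 : sm gc N2213 = N2213 := ded_29_1 (flp_f L19228) L13458 L19228
theorem L19233 : sm gj N2213 = N2213 := ded_46_2 (flp_f L19228) L13459 L19228
theorem L19234 : sm gh N2213 = N2213 := ded_47_2 (flp_f L19228) L13460 L19228
theorem L19235 : sm ge N2213 = N1557 := ded_40_1 (flp_f L13591) (flp_e L9520) (flp_f L9438) L13454 L19228
theorem L19237 : sm gf N1542 = N2214 := rfl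
theorem L19239 : sm ga N2214 = N2214 := ded_14_1 (flp_f L19237) L13463 L19237
theorem L19240 : sm gd N2214 = N1543 := ded_35_1 (flp_f L13467) L13461 L19237
theorem L19242 : sm gj N2214 = N2214 := ded_46_2 (flp_f L19237) L13464 L19237
theorem L19243 : sm gh N1542 = N2215 := rfl
theorem L19245 : sm ga N2215 = N2215 := ded_17_1 (flp_h L19243) L13463 L19243
theorem L19246 : sm ge N2215 = N1616 := ded_43_1 (flp_h L14129) (flp_e L13465) L19243
theorem L19248 : sm gj N2215 = N2215 := ded_52_1 (flp_h L19243) L13464 L19243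
theorem L19249 : sm gd N2215 = N2215 := ded_38_1 (flp_h L19243) (flp_d L13461) L9449 L13461 L19243
theorem L19250 : sm gg N1543 = N2216 := rfl
theorem L19252 : sm ga N2216 = N2216 := ded_15_1 (flp_g L19250) L13469 L19250
theorem L19253 : sm gc N2216 = N1544 := ded_30_1 (flp_g L13476) (flp_c L13470) L19250
theorem L19255 : sm ge N2216 = N1560 := ded_41_1 (flp_g L13614) (flp_e L13474) L19250
theorem L19257 : sm gh N2216 = N2216 := ded_50_2 (flp_g L19250) L13473 L19250
theorem L19258 : sm gj N1544 = N2217 := rfl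
theorem L19260 : sm ga N2217 = N2217 := ded_16_1 (flp_j L19258) L13478 L19258
theorem L19261 : sm gb N2217 = N2217 := ded_24_1 (flp_j L19258) L13479 L19258
theorem L19262 : sm ge N2217 = N1561 := ded_42_1 (flp_j L13621) (flp_e L13480) L19258
theorem L19264 : sm gh N2217 = N2217 := ded_52_2 (flp_j L19258) L13482 L19258
theorem L19265 : sm gg N2217 = N2217 := ded_49_1 (flp_j L19258) (flp_g L13476) L9454 L13476 L19258
theorem L19266 : sm gb N1545 = N2218 := rfl
theorem L19268 : sm gd N2218 = N2218 := ded_20_2 (flp_b L19266) L13491 L19266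
theorem L19269 : sm gf N2218 = N2218 := ded_22_2 (flp_b L19266) L13486 L19266
theorem L19270 : sm gg N2218 = N2218 := ded_23_2 (flp_b L19266) L13487 L19266
theorem L19271 : sm gj N2218 = N2218 := ded_24_2 (flp_b L19266) L13488 L19266
theorem L19272 : sm gh N2218 = N2218 := ded_25_2 (flp_b L19266) L13489 L19266
theorem L19273 : sm gi N2218 = N2218 := ded_26_2 (flp_b L19266) L13490 L19266
theorem L19274 : sm gc N2218 = N2218 := ded_19_2 (flp_b L19266) (flp_c L13483) L9461 L13483 L19266
theorem L19275 : sm ge N1545 = N2219 := rfl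
theorem L19277 : sm ga N2219 = N2219 := ded_13_1 (flp_e L19275) L13485 L19275
theorem L19278 : sm gc N2219 = N1546 := ded_28_1 (flp_e L13492) L13483 L19275
theorem L19280 : sm gg N2219 = N2219 := ded_41_2 (flp_e L19275) L13487 L19275
theorem L19281 : sm gj N2219 = N2219 := ded_42_2 (flp_e L19275) L13488 L19275
theorem L19282 : sm gh N2219 = N2219 := ded_43_2 (flp_e L19275) L13489 L19275
theorem L19283 : sm gi N2219 = N2219 := ded_44_2 (flp_e L19275) L13490 L19275
theorem L19284 : sm gf N1546 = N2220 := rfl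
theorem L19286 : sm ga N2220 = N2220 := ded_14_1 (flp_f L19284) L13494 L19284
theorem L19287 : sm gb N2220 = N2220 := ded_22_1 (flp_f L19284) L13495 L19284
theorem L19288 : sm gd N2220 = N1549 := ded_35_1 (flp_f L13521) (flp_d L13500) L19284
theorem L19290 : sm gj N2220 = N2220 := ded_46_2 (flp_f L19284) L13497 L19284
theorem L19291 : sm gh N2220 = N2220 := ded_47_2 (flp_f L19284) L13498 L19284
theorem L19292 : sm gi N2220 = N2220 := ded_48_2 (flp_f L19284) L13499 L19284
theorem L19293 : sm ge N2220 = N2220 := ded_40_1 (flp_f L19284) (flp_e L13492) L9462 L13492 L19284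
theorem L19294 : sm ga N1547 = N2221 := rfl
theorem L19296 : sm gc N2221 = N2221 := ded_11_2 (flp_a L19294) L13510 L19294
theorem L19297 : sm gd N2221 = N2221 := ded_12_2 (flp_a L19294) L13504 L19294
theorem L19298 : sm gg N2221 = N2221 := ded_15_2 (flp_a L19294) L13505 L19294
theorem L19299 : sm gj N2221 = N2221 := ded_16_2 (flp_a L19294) L13506 L19294
theorem L19300 : sm gh N2221 = N1550 := ded_17_2 (flp_a L13529) (flp_h L13507) L19294
theorem L19302 : sm gi N2221 = N2221 := ded_18_2 (flp_a L19294) L13509 L19294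
theorem L19303 : sm gb N2221 = N2221 := ded_10_2 (flp_a L19294) (flp_b L13502) L9469 L13502 L19294
theorem L19304 : sm ge N1547 = N2222 := rfl
theorem L19306 : sm gb N2222 = N1548 := ded_21_1 (flp_e L13511) L13502 L19304
theorem L19308 : sm gc N2222 = N2222 := ded_28_1 (flp_e L19304) L13510 L19304
theorem L19309 : sm gg N2222 = N2222 := ded_41_2 (flp_e L19304) L13505 L19304
theorem L19310 : sm gj N2222 = N2222 := ded_42_2 (flp_e L19304) L13506 L19304
theorem L19311 : sm gh N2222 = N1551 := ded_43_2 (flp_e L13539) (flp_h L13507) L19304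
theorem L19313 : sm gi N2222 = N2222 := ded_44_2 (flp_e L19304) L13509 L19304
theorem L19314 : sm gd N1548 = N2223 := rfl
theorem L19316 : sm ga N2223 = N2223 := ded_12_1 (flp_d L19314) L13513 L19314
theorem L19317 : sm gg N2223 = N2223 := ded_36_2 (flp_d L19314) L13516 L19314
theorem L19318 : sm gj N2223 = N2223 := ded_37_2 (flp_d L19314) L13517 L19314
theorem L19319 : sm gi N2223 = N2223 := ded_39_2 (flp_d L19314) L13520 L19314
theorem L19320 : sm ge N2223 = N2223 := ded_34_2 (flp_d L19314) (flp_e L13511) L9475 L13511 L19314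
theorem L19321 : sm gf N1548 = N2224 := rfl
theorem L19323 : sm ga N2224 = N2224 := ded_14_1 (flp_f L19321) L13513 L19321
theorem L19324 : sm gc N2224 = N1549 := ded_29_1 (flp_f L13521) (flp_c L13514) L19321
theorem L19326 : sm gj N2224 = N2224 := ded_46_2 (flp_f L19321) L13517 L19321
theorem L19327 : sm gh N2224 = N1553 := ded_47_2 (flp_f L13558) (flp_h L13518) L19321
theorem L19329 : sm gi N2224 = N2224 := ded_48_2 (flp_f L19321) L13520 L19321
theorem L19330 : sm gg N1549 = N2225 := rfl
theorem L19332 : sm ga N2225 = N2225 := ded_15_1 (flp_g L19330) L13523 L19330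
theorem L19333 : sm gb N2225 = N2225 := ded_23_1 (flp_g L19330) L13524 L19330
theorem L19334 : sm gh N2225 = N1554 := ded_50_2 (flp_g L13566) (flp_h L13526) L19330
theorem L19336 : sm gi N2225 = N2225 := ded_51_2 (flp_g L19330) L13528 L19330
theorem L19337 : sm gf N2225 = N2225 := ded_45_1 (flp_g L19330) (flp_f L13521) L9480 L13521 L19330
theorem L19338 : sm ge N1550 = N2226 := rfl
theorem L19340 : sm ga N2226 = N1551 := ded_13_1 (flp_e L13539) L13529 L19338
theorem L19342 : sm gb N2226 = N2226 := ded_21_1 (flp_e L19338) L13538 L19338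
theorem L19343 : sm gc N2226 = N2226 := ded_28_1 (flp_e L19338) L13531 L19338
theorem L19344 : sm gg N2226 = N2226 := ded_41_2 (flp_e L19338) L13534 L19338
theorem L19345 : sm gj N2226 = N2226 := ded_42_2 (flp_e L19338) L13535 L19338
theorem L19346 : sm gi N2226 = N1555 := ded_44_2 (flp_e L13574) (flp_i L13536) L19338
theorem L19348 : sm gd N1551 = N2227 := rfl
theorem L19350 : sm gb N2227 = N1552 := ded_20_1 (flp_d L13548) (flp_b L13541) L19348
theorem L19352 : sm gg N2227 = N2227 := ded_36_2 (flp_d L19348) L13544 L19348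
theorem L19353 : sm gj N2227 = N2227 := ded_37_2 (flp_d L19348) L13545 L19348
theorem L19354 : sm gi N2227 = N1556 := ded_39_2 (flp_d L13583) (flp_i L13546) L19348
theorem L19356 : sm ge N2227 = N1620 := ded_34_2 (flp_d L14166) (flp_e L9920) (flp_d L9487) L13539 L19348
theorem L19358 : sm gf N1551 = N2228 := rfl
theorem L19360 : sm gb N2228 = N1553 := ded_22_1 (flp_f L13558) (flp_b L13541) L19358
theorem L19362 : sm gc N2228 = N2228 := ded_29_1 (flp_f L19358) L13543 L19358
theorem L19363 : sm gj N2228 = N2228 := ded_46_2 (flp_f L19358) L13545 L19358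
theorem L19364 : sm gi N2228 = N1557 := ded_48_2 (flp_f L13591) (flp_i L13546) L19358
theorem L19366 : sm gf N1552 = N2229 := rfl
theorem L19368 : sm ga N2229 = N2229 := ded_14_1 (flp_f L19366) L13550 L19366
theorem L19369 : sm gc N2229 = N2229 := ded_29_1 (flp_f L19366) L13555 L19366
theorem L19370 : sm gd N2229 = N1553 := ded_35_1 (flp_f L13558) L13548 L19366
theorem L19372 : sm gj N2229 = N2229 := ded_46_2 (flp_f L19366) L13552 L19366
theorem L19373 : sm gi N2229 = N1558 := ded_48_2 (flp_f L13598) (flp_i L13553) L19366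
theorem L19375 : sm gh N1552 = N2230 := rfl
theorem L19377 : sm ga N2230 = N2230 := ded_17_1 (flp_h L19375) L13550 L19375
theorem L19378 : sm gc N2230 = N2230 := ded_32_1 (flp_h L19375) L13555 L19375
theorem L19379 : sm ge N2230 = N1623 := ded_43_1 (flp_h L14193) (flp_e L13556) L19375
theorem L19381 : sm gg N2230 = N2230 := ded_50_1 (flp_h L19375) L13551 L19375
theorem L19382 : sm gj N2230 = N2230 := ded_52_1 (flp_h L19375) L13552 L19375
theorem L19383 : sm gg N1553 = N2231 := rfl
theorem L19385 : sm ga N2231 = N2231 := ded_15_1 (flp_g L19383) L13560 L19383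
theorem L19386 : sm gc N2231 = N1554 := ded_30_1 (flp_g L13566) (flp_c L13561) L19383
theorem L19388 : sm gi N2231 = N1560 := ded_51_2 (flp_g L13614) (flp_i L13564) L19383
theorem L19390 : sm gf N2231 = N2231 := ded_45_1 (flp_g L19383) (flp_f L13558) L9499 L13558 L19383
theorem L19391 : sm gj N1554 = N2232 := rfl
theorem L19393 : sm ga N2232 = N2232 := ded_16_1 (flp_j L19391) L13568 L19391
theorem L19394 : sm gb N2232 = N2232 := ded_24_1 (flp_j L19391) L13569 L19391
theorem L19395 : sm gd N2232 = N2232 := ded_37_1 (flp_j L19391) L13570 L19391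
theorem L19396 : sm gf N2232 = N2232 := ded_46_1 (flp_j L19391) L13573 L19391
theorem L19397 : sm gi N2232 = N1561 := ded_53_2 (flp_j L13621) (flp_i L13571) L19391
theorem L19399 : sm gg N2232 = N2232 := ded_49_1 (flp_j L19391) (flp_g L13566) L9508 L13566 L19391
theorem L19400 : sm gd N1555 = N2233 := rfl
theorem L19402 : sm ga N2233 = N1556 := ded_12_1 (flp_d L13583) (flp_a L13576) L19400
theorem L19404 : sm gb N2233 = N2233 := ded_20_1 (flp_d L19400) L13578 L19400
theorem L19405 : sm gg N2233 = N2233 := ded_36_2 (flp_d L19400) L13580 L19400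
theorem L19406 : sm gj N2233 = N2233 := ded_37_2 (flp_d L19400) L13581 L19400
theorem L19407 : sm ge N2233 = N1626 := ded_34_2 (flp_d L14220) (flp_e L9958) (flp_d L9514) L13574 L19400
theorem L19409 : sm gf N1555 = N2234 := rfl
theorem L19411 : sm ga N2234 = N1557 := ded_14_1 (flp_f L13591) (flp_a L13576) L19409
theorem L19413 : sm gb N2234 = N2234 := ded_22_1 (flp_f L19409) L13578 L19409
theorem L19414 : sm gc N2234 = N2234 := ded_29_1 (flp_f L19409) L13579 L19409
theorem L19415 : sm gj N2234 = N2234 := ded_46_2 (flp_f L19409) L13581 L19409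
theorem L19416 : sm gh N2234 = N2234 := ded_47_2 (flp_f L19409) L13582 L19409
theorem L19417 : sm gc N1556 = N2235 := rfl
theorem L19419 : sm ge N2235 = N1628 := ded_28_2 (flp_c L14237) (flp_e L13589) L19417
theorem L19421 : sm gg N2235 = N2235 := ded_30_2 (flp_c L19417) L13587 L19417
theorem L19422 : sm gj N2235 = N2235 := ded_31_2 (flp_c L19417) L13588 L19417
theorem L19423 : sm gb N2235 = N2235 := ded_19_1 (flp_c L19417) L13585 L9533 (flp_b L13585) L19417
theorem L19424 : sm gd N2235 = N2235 := ded_27_2 (flp_c L19417) (flp_d L13583) L9524 L13583 L19417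
theorem L19425 : sm gf N1556 = N2236 := rfl
theorem L19427 : sm gb N2236 = N1558 := ded_22_1 (flp_f L13598) (flp_b L13585) L19425
theorem L19429 : sm gd N2236 = N1557 := ded_35_1 (flp_f L13591) L13583 L19425
theorem L19431 : sm gj N2236 = N2236 := ded_46_2 (flp_f L19425) L13588 L19425
theorem L19432 : sm gh N1556 = N2237 := rfl
theorem L19434 : sm gb N2237 = N1559 := ded_25_1 (flp_h L13605) (flp_b L13585) L19432
theorem L19436 : sm ge N2237 = N1630 := ded_43_1 (flp_h L14251) (flp_e L13589) L19432
theorem L19438 : sm gg N2237 = N2237 := ded_50_1 (flp_h L19432) L13587 L19432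
theorem L19439 : sm gj N2237 = N2237 := ded_52_1 (flp_h L19432) L13588 L19432
theorem L19440 : sm gd N2237 = N2237 := ded_38_1 (flp_h L19432) (flp_d L13583) L9527 L13583 L19432
theorem L19441 : sm gg N1557 = N2238 := rfl
theorem L19443 : sm gb N2238 = N1560 := ded_23_1 (flp_g L13614) (flp_b L13593) L19441
theorem L19445 : sm gc N2238 = N2238 := ded_30_1 (flp_g L19441) L13595 L19441
theorem L19446 : sm gh N2238 = N2238 := ded_50_2 (flp_g L19441) L13597 L19441
theorem L19447 : sm gf N2238 = N2238 := ded_45_1 (flp_g L19441) (flp_f L13591) L9525 L13591 L19441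
theorem L19448 : sm ge N1558 = N2239 := rfl
theorem L19450 : sm ga N2239 = N2239 := ded_13_1 (flp_e L19448) L13600 L19448
theorem L19451 : sm gc N2239 = N2239 := ded_28_1 (flp_e L19448) L13601 L19448
theorem L19452 : sm gj N2239 = N2239 := ded_42_2 (flp_e L19448) L13604 L19448
theorem L19453 : sm gf N2239 = N1632 := ded_40_2 (flp_e L14268) (flp_f L9984) (flp_e L9534) L13598 L19448
theorem L19455 : sm gg N1558 = N2240 := rfl
theorem L19457 : sm ga N2240 = N2240 := ded_15_1 (flp_g L19455) L13600 L19455
theorem L19458 : sm gc N2240 = N2240 := ded_30_1 (flp_g L19455) L13601 L19455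
theorem L19459 : sm gd N2240 = N1560 := ded_36_1 (flp_g L13614) (flp_d L13602) L19455
theorem L19461 : sm gf N2240 = N2240 := ded_45_1 (flp_g L19455) (flp_f L13598) L9531 L13598 L19455
theorem L19462 : sm gh N1558 = N2241 := rfl
theorem L19464 : sm ga N2241 = N2241 := ded_17_1 (flp_h L19462) L13600 L19462
theorem L19465 : sm gc N2241 = N2241 := ded_32_1 (flp_h L19462) L13601 L19462
theorem L19466 : sm gf N2241 = N1559 := ded_47_1 (flp_h L13605) L13598 L19462
theorem L19468 : sm gj N2241 = N2241 := ded_52_1 (flp_h L19462) L13604 L19462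
theorem L19469 : sm gd N2241 = N2241 := ded_38_1 (flp_h L19462) L13602 L9542 (flp_d L13602) L19462
theorem L19470 : sm gi N1559 = N2242 := rfl
theorem L19472 : sm ga N2242 = N2242 := ded_18_1 (flp_i L19470) L13607 L19470
theorem L19473 : sm gc N2242 = N2242 := ded_33_1 (flp_i L19470) L13608 L19470
theorem L19474 : sm gd N2242 = N2242 := ded_39_1 (flp_i L19470) L13613 L19470
theorem L19475 : sm ge N2242 = N1635 := ded_44_1 (flp_i L14289) (flp_e L13609) L19470
theorem L19477 : sm gg N2242 = N2242 := ded_51_1 (flp_i L19470) L13611 L19470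
theorem L19478 : sm gj N2242 = N2242 := ded_53_1 (flp_i L19470) L13612 L19470
theorem L19479 : sm gj N1560 = N2243 := rfl
theorem L19481 : sm ga N2243 = N2243 := ded_16_1 (flp_j L19479) L13616 L19479
theorem L19482 : sm gc N2243 = N1561 := ded_31_1 (flp_j L13621) (flp_c L13617) L19479
theorem L19484 : sm gf N2243 = N2243 := ded_46_1 (flp_j L19479) L13620 L19479
theorem L19485 : sm gh N2243 = N2243 := ded_52_2 (flp_j L19479) L13619 L19479
theorem L19486 : sm gg N2243 = N2243 := ded_49_1 (flp_j L19479) (flp_g L13614) L9541 L13614 L19479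
theorem L19487 : sm ge N1562 = N2244 := rfl
theorem L19489 : sm ga N2244 = N2244 := ded_13_1 (flp_e L19487) L13631 L19487
theorem L19490 : sm gb N2244 = N1681 := ded_21_1 (flp_e L14688) (flp_b L13632) L19487
theorem L19492 : sm gc N2244 = N2244 := ded_28_1 (flp_e L19487) L13638 L19487
theorem L19493 : sm gg N2244 = N1565 := ded_41_2 (flp_e L13660) (flp_g L13635) L19487
theorem L19495 : sm gj N2244 = N2244 := ded_42_2 (flp_e L19487) L13637 L19487
theorem L19496 : sm gh N2244 = N2244 := ded_43_2 (flp_e L19487) L13639 L19487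
theorem L19497 : sm gd N2244 = N2244 := ded_34_1 (flp_e L19487) (flp_d L13629) L9555 L13629 L19487
theorem L19498 : sm gi N1562 = N2245 := rfl
theorem L19500 : sm ga N2245 = N2245 := ded_18_1 (flp_i L19498) L13631 L19498
theorem L19501 : sm gb N2245 = N1682 := ded_26_1 (flp_i L14697) (flp_b L13632) L19498
theorem L19503 : sm gc N2245 = N2245 := ded_33_1 (flp_i L19498) L13638 L19498
theorem L19504 : sm gd N2245 = N1563 := ded_39_1 (flp_i L13640) L13629 L19498
theorem L19506 : sm gf N2245 = N2245 := ded_48_1 (flp_i L19498) L13634 L19498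
theorem L19507 : sm gg N2245 = N1566 := ded_51_1 (flp_i L13671) (flp_g L13635) L19498
theorem L19509 : sm gj N2245 = N2245 := ded_53_1 (flp_i L19498) L13637 L19498
theorem L19510 : sm gh N1563 = N2246 := rfl
theorem L19512 : sm ga N2246 = N2246 := ded_17_1 (flp_h L19510) L13642 L19510
theorem L19513 : sm gb N2246 = N1683 := ded_25_1 (flp_h L14707) (flp_b L13643) L19510
theorem L19515 : sm ge N2246 = N2246 := ded_43_1 (flp_h L19510) L13645 L19510
theorem L19516 : sm gf N2246 = N2246 := ded_47_1 (flp_h L19510) L13646 L19510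
theorem L19517 : sm gg N2246 = N1567 := ded_50_1 (flp_h L13683) (flp_g L13647) L19510
theorem L19519 : sm gj N2246 = N2246 := ded_52_1 (flp_h L19510) L13649 L19510
theorem L19520 : sm gi N2246 = N1564 := ded_54_2 (flp_h L13650) (flp_i L9560) L9550 L13640 L19510
theorem L19522 : sm gd N1564 = N2247 := rfl
theorem L19524 : sm ga N2247 = N2247 := ded_12_1 (flp_d L19522) L13652 L19522
theorem L19525 : sm gb N2247 = N1684 := ded_20_1 (flp_d L14719) (flp_b L13653) L19522
theorem L19527 : sm gf N2247 = N2247 := ded_35_2 (flp_d L19522) L13656 L19522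
theorem L19528 : sm gg N2247 = N1568 := ded_36_2 (flp_d L13695) (flp_g L13657) L19522
theorem L19530 : sm gj N2247 = N2247 := ded_37_2 (flp_d L19522) L13659 L19522
theorem L19531 : sm gh N2247 = N2247 := ded_38_2 (flp_d L19522) (flp_h L13650) L9565 L13650 L19522
theorem L19532 : sm gi N1565 = N2248 := rfl
theorem L19534 : sm ga N2248 = N2248 := ded_18_1 (flp_i L19532) L13662 L19532
theorem L19535 : sm gb N2248 = N1687 := ded_26_1 (flp_i L14751) (flp_b L13663) L19532
theorem L19537 : sm gc N2248 = N2248 := ded_33_1 (flp_i L19532) L13665 L19532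
theorem L19538 : sm gd N2248 = N2248 := ded_39_1 (flp_i L19532) L13669 L19532
theorem L19539 : sm ge N2248 = N1566 := ded_44_1 (flp_i L13671) L13660 L19532
theorem L19541 : sm gf N2248 = N2248 := ded_48_1 (flp_i L19532) L13670 L19532
theorem L19542 : sm gj N2248 = N1569 := ded_53_1 (flp_i L13705) (flp_j L13666) L19532
theorem L19544 : sm gh N1566 = N2249 := rfl
theorem L19546 : sm ga N2249 = N2249 := ded_17_1 (flp_h L19544) L13673 L19544
theorem L19547 : sm gb N2249 = N1688 := ded_25_1 (flp_h L14761) (flp_b L13674) L19544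
theorem L19549 : sm gc N2249 = N2249 := ded_32_1 (flp_h L19544) L13676 L19544
theorem L19550 : sm gf N2249 = N1574 := ded_47_1 (flp_h L13751) (flp_f L13679) L19544
theorem L19552 : sm gj N2249 = N1570 := ded_52_1 (flp_h L13716) (flp_j L13681) L19544
theorem L19554 : sm gi N2249 = N2249 := ded_54_2 (flp_h L19544) (flp_i L13671) L9581 L13671 L19544
theorem L19555 : sm gd N1567 = N2250 := rfl
theorem L19557 : sm ga N2250 = N2250 := ded_12_1 (flp_d L19555) L13685 L19555
theorem L19558 : sm gb N2250 = N1689 := ded_20_1 (flp_d L14770) (flp_b L13686) L19555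
theorem L19560 : sm gf N2250 = N1575 := ded_35_2 (flp_d L13762) (flp_f L13689) L19555
theorem L19562 : sm gj N2250 = N1571 := ded_37_2 (flp_d L13726) (flp_j L13691) L19555
theorem L19564 : sm gi N2250 = N1568 := ded_39_2 (flp_d L13695) (flp_i L13693) L19555
theorem L19566 : sm gc N1568 = N2251 := rfl
theorem L19568 : sm ga N2251 = N2251 := ded_11_1 (flp_c L19566) L13697 L19566
theorem L19569 : sm gf N2251 = N1576 := ded_29_2 (flp_c L13772) (flp_f L13700) L19566
theorem L19571 : sm gj N2251 = N1572 := ded_31_2 (flp_c L13736) (flp_j L13702) L19566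
theorem L19573 : sm gh N2251 = N2251 := ded_32_2 (flp_c L19566) L13704 L19566
theorem L19574 : sm ge N1568 = N2252 := rfl
theorem L19576 : sm ga N2252 = N2252 := ded_13_1 (flp_e L19574) L13697 L19574
theorem L19577 : sm gb N2252 = N1691 := ded_21_1 (flp_e L14790) (flp_b L13698) L19574
theorem L19579 : sm gj N2252 = N1573 := ded_42_2 (flp_e L13743) (flp_j L13702) L19574
theorem L19581 : sm gh N2252 = N2252 := ded_43_2 (flp_e L19574) L13704 L19574
theorem L19582 : sm gd N2252 = N2252 := ded_34_1 (flp_e L19574) (flp_d L13695) L9597 L13695 L19574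
theorem L19583 : sm gh N1569 = N2253 := rfl
theorem L19585 : sm ga N2253 = N2253 := ded_17_1 (flp_h L19583) L13707 L19583
theorem L19586 : sm gb N2253 = N1695 := ded_25_1 (flp_h L14829) (flp_b L13708) L19583
theorem L19588 : sm gc N2253 = N2253 := ded_32_1 (flp_h L19583) L13710 L19583
theorem L19589 : sm ge N2253 = N1570 := ded_43_1 (flp_h L13716) (flp_e L13712) L19583
theorem L19591 : sm gf N2253 = N2253 := ded_47_1 (flp_h L19583) L13714 L19583
theorem L19592 : sm gg N2253 = N2253 := ded_50_1 (flp_h L19583) L13715 L19583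
theorem L19593 : sm gi N2253 = N2253 := ded_54_2 (flp_h L19583) (flp_i L13705) L9609 L13705 L19583
theorem L19594 : sm gd N1570 = N2254 := rfl
theorem L19596 : sm ga N2254 = N2254 := ded_12_1 (flp_d L19594) L13718 L19594
theorem L19597 : sm gb N2254 = N1696 := ded_20_1 (flp_d L14838) (flp_b L13719) L19594
theorem L19599 : sm gf N2254 = N1578 := ded_35_2 (flp_d L13790) (flp_f L13722) L19594
theorem L19601 : sm gg N2254 = N2254 := ded_36_2 (flp_d L19594) L13724 L19594
theorem L19602 : sm gi N2254 = N2254 := ded_39_2 (flp_d L19594) L13725 L19594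
theorem L19603 : sm gh N2254 = N1571 := ded_38_2 (flp_d L13726) (flp_h L9623) (flp_d L9618) L13716 L19594
theorem L19605 : sm gc N1571 = N2255 := rfl
theorem L19607 : sm ga N2255 = N2255 := ded_11_1 (flp_c L19605) L13728 L19605
theorem L19608 : sm gf N2255 = N1579 := ded_29_2 (flp_c L13800) (flp_f L13731) L19605
theorem L19610 : sm gg N2255 = N2255 := ded_30_2 (flp_c L19605) L13733 L19605
theorem L19611 : sm gi N2255 = N1572 := ded_33_2 (flp_c L13736) (flp_i L13734) L19605
theorem L19613 : sm ge N1571 = N2256 := rfl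
theorem L19615 : sm ga N2256 = N2256 := ded_13_1 (flp_e L19613) L13728 L19613
theorem L19616 : sm gb N2256 = N1698 := ded_21_1 (flp_e L14858) (flp_b L13729) L19613
theorem L19618 : sm gg N2256 = N2256 := ded_41_2 (flp_e L19613) L13733 L19613
theorem L19619 : sm gi N2256 = N1573 := ded_44_2 (flp_e L13743) (flp_i L13734) L19613
theorem L19621 : sm gd N2256 = N2256 := ded_34_1 (flp_e L19613) (flp_d L13726) L9628 L13726 L19613
theorem L19622 : sm gb N1572 = N2257 := rfl
theorem L19624 : sm gf N2257 = N1581 := ded_22_2 (flp_b L13818) (flp_f L13739) L19622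
theorem L19626 : sm gg N2257 = N2257 := ded_23_2 (flp_b L19622) L13741 L19622
theorem L19627 : sm gh N2257 = N2257 := ded_25_2 (flp_b L19622) L13742 L19622
theorem L19628 : sm gc N2257 = N1699 := ded_19_2 (flp_b L14866) (flp_c L10403) (flp_b L9637) L13736 L19622
theorem L19630 : sm ge N1572 = N2258 := rfl
theorem L19632 : sm ga N2258 = N2258 := ded_13_1 (flp_e L19630) L13738 L19630
theorem L19633 : sm gc N2258 = N1573 := ded_28_1 (flp_e L13743) L13736 L19630
theorem L19635 : sm gg N2258 = N2258 := ded_41_2 (flp_e L19630) L13741 L19630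
theorem L19636 : sm gh N2258 = N2258 := ded_43_2 (flp_e L19630) L13742 L19630
theorem L19637 : sm gf N1573 = N2259 := rfl
theorem L19639 : sm ga N2259 = N2259 := ded_14_1 (flp_f L19637) L13745 L19637
theorem L19640 : sm gb N2259 = N1701 := ded_22_1 (flp_f L14881) (flp_b L13746) L19637
theorem L19642 : sm gd N2259 = N2259 := ded_35_1 (flp_f L19637) L13750 L19637
theorem L19643 : sm gh N2259 = N2259 := ded_47_2 (flp_f L19637) L13749 L19637
theorem L19644 : sm ge N2259 = N1583 := ded_40_1 (flp_f L13833) (flp_e L9701) (flp_f L9639) L13743 L19637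
theorem L19646 : sm gd N1574 = N2260 := rfl
theorem L19648 : sm ga N2260 = N2260 := ded_12_1 (flp_d L19646) L13753 L19646
theorem L19649 : sm gb N2260 = N1703 := ded_20_1 (flp_d L14901) (flp_b L13754) L19646
theorem L19651 : sm gg N2260 = N2260 := ded_36_2 (flp_d L19646) L13758 L19646
theorem L19652 : sm gj N2260 = N1578 := ded_37_2 (flp_d L13790) (flp_j L13759) L19646
theorem L19654 : sm gi N2260 = N2260 := ded_39_2 (flp_d L19646) L13761 L19646
theorem L19655 : sm gh N2260 = N1575 := ded_38_2 (flp_d L13762) (flp_h L9655) (flp_d L9649) L13751 L19646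
theorem L19657 : sm gc N1575 = N2261 := rfl
theorem L19659 : sm ga N2261 = N2261 := ded_11_1 (flp_c L19657) L13764 L19657
theorem L19660 : sm gg N2261 = N2261 := ded_30_2 (flp_c L19657) L13767 L19657
theorem L19661 : sm gj N2261 = N1579 := ded_31_2 (flp_c L13800) (flp_j L13768) L19657
theorem L19663 : sm gi N2261 = N1576 := ded_33_2 (flp_c L13772) (flp_i L13770) L19657
theorem L19665 : sm ge N1575 = N2262 := rfl
theorem L19667 : sm ga N2262 = N2262 := ded_13_1 (flp_e L19665) L13764 L19665
theorem L19668 : sm gb N2262 = N1705 := ded_21_1 (flp_e L14921) (flp_b L13765) L19665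
theorem L19670 : sm gg N2262 = N2262 := ded_41_2 (flp_e L19665) L13767 L19665
theorem L19671 : sm gj N2262 = N1580 := ded_42_2 (flp_e L13807) (flp_j L13768) L19665
theorem L19673 : sm gi N2262 = N1577 := ded_44_2 (flp_e L13779) (flp_i L13770) L19665
theorem L19675 : sm gd N2262 = N1595 := ded_34_1 (flp_e L13936) (flp_d L9762) (flp_e L9660) L13762 L19665
theorem L19677 : sm gb N1576 = N2263 := rfl
theorem L19679 : sm gg N2263 = N2263 := ded_23_2 (flp_b L19677) L13775 L19677
theorem L19680 : sm gj N2263 = N1581 := ded_24_2 (flp_b L13818) (flp_j L13776) L19677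
theorem L19682 : sm gh N2263 = N2263 := ded_25_2 (flp_b L19677) L13778 L19677
theorem L19683 : sm gc N2263 = N1706 := ded_19_2 (flp_b L14932) (flp_c L10449) (flp_b L9670) L13772 L19677
theorem L19685 : sm ge N1576 = N2264 := rfl
theorem L19687 : sm ga N2264 = N2264 := ded_13_1 (flp_e L19685) L13774 L19685
theorem L19688 : sm gc N2264 = N1577 := ded_28_1 (flp_e L13779) L13772 L19685
theorem L19690 : sm gg N2264 = N2264 := ded_41_2 (flp_e L19685) L13775 L19685
theorem L19691 : sm gj N2264 = N1582 := ded_42_2 (flp_e L13825) (flp_j L13776) L19685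
theorem L19693 : sm gh N2264 = N2264 := ded_43_2 (flp_e L19685) L13778 L19685
theorem L19694 : sm gf N1577 = N2265 := rfl
theorem L19696 : sm ga N2265 = N2265 := ded_14_1 (flp_f L19694) L13781 L19694
theorem L19697 : sm gb N2265 = N1708 := ded_22_1 (flp_f L14949) (flp_b L13782) L19694
theorem L19699 : sm gd N2265 = N1598 := ded_35_1 (flp_f L13967) (flp_d L13788) L19694
theorem L19701 : sm gj N2265 = N1583 := ded_46_2 (flp_f L13833) (flp_j L13785) L19694
theorem L19703 : sm gh N2265 = N2265 := ded_47_2 (flp_f L19694) L13787 L19694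
theorem L19704 : sm gc N1578 = N2266 := rfl
theorem L19706 : sm ga N2266 = N2266 := ded_11_1 (flp_c L19704) L13792 L19704
theorem L19707 : sm gg N2266 = N1584 := ded_30_2 (flp_c L13841) (flp_g L13795) L19704
theorem L19709 : sm gh N2266 = N1579 := ded_32_2 (flp_c L13800) (flp_h L13798) L19704
theorem L19711 : sm gi N2266 = N2266 := ded_33_2 (flp_c L19704) L13797 L19704
theorem L19712 : sm gd N2266 = N2266 := ded_27_2 (flp_c L19704) (flp_d L13790) L9681 L13790 L19704
theorem L19713 : sm ge N1578 = N2267 := rfl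
theorem L19715 : sm ga N2267 = N2267 := ded_13_1 (flp_e L19713) L13792 L19713
theorem L19716 : sm gb N2267 = N1711 := ded_21_1 (flp_e L14976) (flp_b L13793) L19713
theorem L19718 : sm gg N2267 = N1585 := ded_41_2 (flp_e L13850) (flp_g L13795) L19713
theorem L19720 : sm gh N2267 = N1580 := ded_43_2 (flp_e L13807) (flp_h L13798) L19713
theorem L19722 : sm gi N2267 = N2267 := ded_44_2 (flp_e L19713) L13797 L19713
theorem L19723 : sm gd N2267 = N2267 := ded_34_1 (flp_e L19713) (flp_d L13790) L9682 L13790 L19713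
theorem L19724 : sm gb N1579 = N2268 := rfl
theorem L19726 : sm gg N2268 = N1586 := ded_23_2 (flp_b L13860) (flp_g L13803) L19724
theorem L19728 : sm gi N2268 = N1581 := ded_26_2 (flp_b L13818) (flp_i L13805) L19724
theorem L19730 : sm gc N2268 = N1712 := ded_19_2 (flp_b L14986) (flp_c L10488) (flp_b L9689) L13800 L19724
theorem L19732 : sm ge N1579 = N2269 := rfl
theorem L19734 : sm ga N2269 = N2269 := ded_13_1 (flp_e L19732) L13802 L19732
theorem L19735 : sm gc N2269 = N1580 := ded_28_1 (flp_e L13807) L13800 L19732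
theorem L19737 : sm gg N2269 = N1587 := ded_41_2 (flp_e L13868) (flp_g L13803) L19732
theorem L19739 : sm gi N2269 = N1582 := ded_44_2 (flp_e L13825) (flp_i L13805) L19732
theorem L19741 : sm gf N1580 = N2270 := rfl
theorem L19743 : sm ga N2270 = N2270 := ded_14_1 (flp_f L19741) L13809 L19741
theorem L19744 : sm gb N2270 = N1714 := ded_22_1 (flp_f L15003) (flp_b L13810) L19741
theorem L19746 : sm gd N2270 = N1601 := ded_35_1 (flp_f L13997) (flp_d L13816) L19741
theorem L19748 : sm gi N2270 = N1583 := ded_48_2 (flp_f L13833) (flp_i L13814) L19741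
theorem L19750 : sm ga N1581 = N2271 := rfl
theorem L19752 : sm gc N2271 = N1715 := ded_11_2 (flp_a L15011) (flp_c L13823) L19750
theorem L19754 : sm gg N2271 = N1589 := ded_15_2 (flp_a L13887) (flp_g L13820) L19750
theorem L19756 : sm gh N2271 = N2271 := ded_17_2 (flp_a L19750) L13822 L19750
theorem L19757 : sm gb N2271 = N2271 := ded_10_2 (flp_a L19750) (flp_b L13818) L9697 L13818 L19750
theorem L19758 : sm ge N1581 = N2272 := rfl
theorem L19760 : sm gb N2272 = N1582 := ded_21_1 (flp_e L13825) L13818 L19758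
theorem L19762 : sm gc N2272 = N1716 := ded_28_1 (flp_e L15019) (flp_c L13823) L19758
theorem L19764 : sm gg N2272 = N1590 := ded_41_2 (flp_e L13895) (flp_g L13820) L19758
theorem L19766 : sm gh N2272 = N2272 := ded_43_2 (flp_e L19758) L13822 L19758
theorem L19767 : sm gd N1582 = N2273 := rfl
theorem L19769 : sm ga N2273 = N2273 := ded_12_1 (flp_d L19767) L13827 L19767
theorem L19770 : sm gg N2273 = N1591 := ded_36_2 (flp_d L13903) (flp_g L13830) L19767
theorem L19772 : sm gc N2273 = N1604 := ded_27_1 (flp_d L14026) L9824 (flp_d L9709) (flp_c L13828) L19767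
theorem L19774 : sm gf N1582 = N2274 := rfl
theorem L19776 : sm ga N2274 = N2274 := ded_14_1 (flp_f L19774) L13827 L19774
theorem L19777 : sm gc N2274 = N1583 := ded_29_1 (flp_f L13833) (flp_c L13828) L19774
theorem L19779 : sm gh N2274 = N2274 := ded_47_2 (flp_f L19774) L13832 L19774
theorem L19780 : sm gg N1583 = N2275 := rfl
theorem L19782 : sm ga N2275 = N2275 := ded_15_1 (flp_g L19780) L13835 L19780
theorem L19783 : sm gb N2275 = N1719 := ded_23_1 (flp_g L15042) (flp_b L13836) L19780
theorem L19785 : sm gd N2275 = N1606 := ded_36_1 (flp_g L14039) (flp_d L13838) L19780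
theorem L19787 : sm gh N2275 = N2275 := ded_50_2 (flp_g L19780) L13840 L19780
theorem L19788 : sm gf N2275 = N1593 := ded_45_1 (flp_g L13917) (flp_f L9752) (flp_g L9706) L13833 L19780
theorem L19790 : sm gb N1584 = N2276 := rfl
theorem L19795 : sm gh N2276 = N1586 := ded_25_2 (flp_b L13860) (flp_h L13846) L19790
theorem L19798 : sm gc N2276 = N1722 := ded_19_2 (flp_b L15070) (flp_c L10538) (flp_b L9714) L13841 L19790
theorem L19800 : sm ge N1584 = N2277 := rfl
theorem L19802 : sm ga N2277 = N2277 := ded_13_1 (flp_e L19800) L13843 L19800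
theorem L19803 : sm gc N2277 = N1585 := ded_28_1 (flp_e L13850) L13841 L19800
theorem L19805 : sm gj N2277 = N2277 := ded_42_2 (flp_e L19800) L13845 L19800
theorem L19806 : sm gh N2277 = N1587 := ded_43_2 (flp_e L13868) (flp_h L13846) L19800
theorem L19808 : sm gi N2277 = N2277 := ded_44_2 (flp_e L19800) L13848 L19800
theorem L19809 : sm gf N1585 = N2278 := rfl
theorem L19811 : sm ga N2278 = N2278 := ded_14_1 (flp_f L19809) L13852 L19809
theorem L19812 : sm gb N2278 = N1724 := ded_22_1 (flp_f L15087) (flp_b L13853) L19809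
theorem L19814 : sm gd N2278 = N2278 := ded_35_1 (flp_f L19809) L13859 L19809
theorem L19815 : sm gj N2278 = N2278 := ded_46_2 (flp_f L19809) L13855 L19809
theorem L19816 : sm gh N2278 = N1588 := ded_47_2 (flp_f L13876) (flp_h L13856) L19809
theorem L19818 : sm gi N2278 = N2278 := ded_48_2 (flp_f L19809) L13858 L19809
theorem L19819 : sm ge N2278 = N2278 := ded_40_1 (flp_f L19809) (flp_e L13850) L9716 L13850 L19809
theorem L19820 : sm ga N1586 = N2279 := rfl
theorem L19822 : sm gc N2279 = N1725 := ded_11_2 (flp_a L15097) (flp_c L13866) L19820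
theorem L19826 : sm gi N2279 = N1589 := ded_18_2 (flp_a L13887) (flp_i L13864) L19820
theorem L19829 : sm ge N1586 = N2280 := rfl
theorem L19831 : sm gb N2280 = N1587 := ded_21_1 (flp_e L13868) L13860 L19829
theorem L19833 : sm gc N2280 = N1726 := ded_28_1 (flp_e L15106) (flp_c L13866) L19829
theorem L19835 : sm gj N2280 = N2280 := ded_42_2 (flp_e L19829) L13863 L19829
theorem L19836 : sm gi N2280 = N1590 := ded_44_2 (flp_e L13895) (flp_i L13864) L19829
theorem L19838 : sm gd N1587 = N2281 := rfl
theorem L19840 : sm ga N2281 = N2281 := ded_12_1 (flp_d L19838) L13870 L19838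
theorem L19841 : sm gj N2281 = N2281 := ded_37_2 (flp_d L19838) L13873 L19838
theorem L19842 : sm gi N2281 = N1591 := ded_39_2 (flp_d L13903) (flp_i L13874) L19838
theorem L19844 : sm gc N2281 = N1609 := ded_27_1 (flp_d L14070) L9851 (flp_d L9736) (flp_c L13871) L19838
theorem L19846 : sm gf N1587 = N2282 := rfl
theorem L19848 : sm ga N2282 = N2282 := ded_14_1 (flp_f L19846) L13870 L19846
theorem L19849 : sm gc N2282 = N1588 := ded_29_1 (flp_f L13876) (flp_c L13871) L19846
theorem L19851 : sm gj N2282 = N2282 := ded_46_2 (flp_f L19846) L13873 L19846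
theorem L19852 : sm gi N2282 = N1592 := ded_48_2 (flp_f L13909) (flp_i L13874) L19846
theorem L19854 : sm ge N2282 = N2282 := ded_40_1 (flp_f L19846) (flp_e L13868) L9724 L13868 L19846
theorem L19855 : sm gg N1588 = N2283 := rfl
theorem L19857 : sm ga N2283 = N2283 := ded_15_1 (flp_g L19855) L13878 L19855
theorem L19858 : sm gb N2283 = N1729 := ded_23_1 (flp_g L15133) (flp_b L13879) L19855
theorem L19860 : sm gd N2283 = N1611 := ded_36_1 (flp_g L14087) (flp_d L13881) L19855
theorem L19862 : sm ge N2283 = N2283 := ded_41_1 (flp_g L19855) L13886 L19855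
theorem L19863 : sm gi N2283 = N1593 := ded_51_2 (flp_g L13917) (flp_i L13884) L19855
theorem L19865 : sm ge N1589 = N2284 := rfl
theorem L19867 : sm ga N2284 = N1590 := ded_13_1 (flp_e L13895) L13887 L19865
theorem L19869 : sm gb N2284 = N2284 := ded_21_1 (flp_e L19865) L13894 L19865
theorem L19870 : sm gc N2284 = N1730 := ded_28_1 (flp_e L15142) (flp_c L13889) L19865
theorem L19872 : sm gj N2284 = N2284 := ded_42_2 (flp_e L19865) L13892 L19865
theorem L19873 : sm gh N2284 = N2284 := ded_43_2 (flp_e L19865) L13893 L19865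
theorem L19874 : sm gd N1590 = N2285 := rfl
theorem L19876 : sm gb N2285 = N1591 := ded_20_1 (flp_d L13903) (flp_b L13897) L19874
theorem L19878 : sm gj N2285 = N2285 := ded_37_2 (flp_d L19874) L13901 L19874
theorem L19879 : sm gf N1590 = N2286 := rfl
theorem L19881 : sm gb N2286 = N1592 := ded_22_1 (flp_f L13909) (flp_b L13897) L19879
theorem L19883 : sm gc N2286 = N1732 := ded_29_1 (flp_f L15156) (flp_c L13899) L19879
theorem L19885 : sm gj N2286 = N2286 := ded_46_2 (flp_f L19879) L13901 L19879
theorem L19886 : sm gh N2286 = N2286 := ded_47_2 (flp_f L19879) L13902 L19879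
theorem L19887 : sm ge N2286 = N2286 := ded_40_1 (flp_f L19879) (flp_e L13895) L9740 L13895 L19879
theorem L19888 : sm gf N1591 = N2287 := rfl
theorem L19890 : sm ga N2287 = N2287 := ded_14_1 (flp_f L19888) L13905 L19888
theorem L19891 : sm gc N2287 = N1615 := ded_29_1 (flp_f L14123) (flp_c L13907) L19888
theorem L19893 : sm gd N2287 = N1592 := ded_35_1 (flp_f L13909) L13903 L19888
theorem L19895 : sm gj N2287 = N2287 := ded_46_2 (flp_f L19888) L13906 L19888
theorem L19896 : sm gh N1591 = N2288 := rfl
theorem L19898 : sm ga N2288 = N2288 := ded_17_1 (flp_h L19896) L13905 L19896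
theorem L19899 : sm gc N2288 = N1616 := ded_32_1 (flp_h L14129) (flp_c L13907) L19896
theorem L19901 : sm gj N2288 = N2288 := ded_52_1 (flp_h L19896) L13906 L19896
theorem L19902 : sm gd N2288 = N2288 := ded_38_1 (flp_h L19896) (flp_d L13903) L9751 L13903 L19896
theorem L19903 : sm gg N1592 = N2289 := rfl
theorem L19905 : sm ga N2289 = N2289 := ded_15_1 (flp_g L19903) L13911 L19903
theorem L19906 : sm gc N2289 = N1593 := ded_30_1 (flp_g L13917) (flp_c L13912) L19903
theorem L19908 : sm ge N2289 = N2289 := ded_41_1 (flp_g L19903) L13916 L19903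
theorem L19909 : sm gh N2289 = N2289 := ded_50_2 (flp_g L19903) L13915 L19903
theorem L19910 : sm gj N1593 = N2290 := rfl
theorem L19912 : sm ga N2290 = N2290 := ded_16_1 (flp_j L19910) L13919 L19910
theorem L19913 : sm gb N2290 = N1736 := ded_24_1 (flp_j L15189) (flp_b L13920) L19910
theorem L19915 : sm gd N2290 = N1618 := ded_37_1 (flp_j L14144) (flp_d L13922) L19910
theorem L19917 : sm ge N2290 = N2290 := ded_42_1 (flp_j L19910) L13924 L19910
theorem L19918 : sm gh N2290 = N2290 := ded_52_2 (flp_j L19910) L13925 L19910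
theorem L19919 : sm gg N2290 = N2290 := ded_49_1 (flp_j L19910) (flp_g L13917) L9759 L13917 L19910
theorem L19920 : sm gb N1594 = N2291 := rfl
theorem L19922 : sm gf N2291 = N2291 := ded_22_2 (flp_b L19920) L13929 L19920
theorem L19923 : sm gg N2291 = N2291 := ded_23_2 (flp_b L19920) L13930 L19920
theorem L19924 : sm gj N2291 = N1599 := ded_24_2 (flp_b L13977) (flp_j L13931) L19920
theorem L19926 : sm gh N2291 = N2291 := ded_25_2 (flp_b L19920) L13933 L19920
theorem L19927 : sm gi N2291 = N1596 := ded_26_2 (flp_b L13947) (flp_i L13934) L19920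
theorem L19929 : sm gc N2291 = N1737 := ded_19_2 (flp_b L15198) (flp_c L10621) (flp_b L9765) L13926 L19920
theorem L19931 : sm ge N1594 = N2292 := rfl
theorem L19933 : sm ga N2292 = N2292 := ded_13_1 (flp_e L19931) L13928 L19931
theorem L19934 : sm gc N2292 = N1595 := ded_28_1 (flp_e L13936) L13926 L19931
theorem L19936 : sm gg N2292 = N2292 := ded_41_2 (flp_e L19931) L13930 L19931
theorem L19937 : sm gj N2292 = N1600 := ded_42_2 (flp_e L13987) (flp_j L13931) L19931
theorem L19939 : sm gh N2292 = N2292 := ded_43_2 (flp_e L19931) L13933 L19931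
theorem L19940 : sm gi N2292 = N1597 := ded_44_2 (flp_e L13957) (flp_i L13934) L19931
theorem L19942 : sm gf N1595 = N2293 := rfl
theorem L19944 : sm ga N2293 = N2293 := ded_14_1 (flp_f L19942) L13938 L19942
theorem L19945 : sm gb N2293 = N1739 := ded_22_1 (flp_f L15220) (flp_b L13939) L19942
theorem L19947 : sm gj N2293 = N1601 := ded_46_2 (flp_f L13997) (flp_j L13942) L19942
theorem L19949 : sm gh N2293 = N2293 := ded_47_2 (flp_f L19942) L13944 L19942
theorem L19950 : sm gi N2293 = N1598 := ded_48_2 (flp_f L13967) (flp_i L13945) L19942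
theorem L19952 : sm ge N2293 = N2293 := ded_40_1 (flp_f L19942) (flp_e L13936) L9767 L13936 L19942
theorem L19953 : sm ga N1596 = N2294 := rfl
theorem L19955 : sm gc N2294 = N1740 := ded_11_2 (flp_a L15230) (flp_c L13955) L19953
theorem L19957 : sm gf N2294 = N2294 := ded_14_2 (flp_a L19953) L13949 L19953
theorem L19958 : sm gg N2294 = N2294 := ded_15_2 (flp_a L19953) L13950 L19953
theorem L19959 : sm gj N2294 = N1602 := ded_16_2 (flp_a L14006) (flp_j L13951) L19953
theorem L19961 : sm gh N2294 = N1637 := ded_17_2 (flp_a L14306) (flp_h L13953) L19953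
theorem L19963 : sm gb N2294 = N2294 := ded_10_2 (flp_a L19953) (flp_b L13947) L9776 L13947 L19953
theorem L19964 : sm ge N1596 = N2295 := rfl
theorem L19966 : sm gb N2295 = N1597 := ded_21_1 (flp_e L13957) L13947 L19964
theorem L19968 : sm gc N2295 = N1741 := ded_28_1 (flp_e L15241) (flp_c L13955) L19964
theorem L19970 : sm gg N2295 = N2295 := ded_41_2 (flp_e L19964) L13950 L19964
theorem L19971 : sm gj N2295 = N1603 := ded_42_2 (flp_e L14016) (flp_j L13951) L19964
theorem L19973 : sm gh N2295 = N1638 := ded_43_2 (flp_e L14317) (flp_h L13953) L19964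
theorem L19975 : sm gd N1597 = N2296 := rfl
theorem L19977 : sm ga N2296 = N2296 := ded_12_1 (flp_d L19975) L13959 L19975
theorem L19978 : sm gg N2296 = N2296 := ded_36_2 (flp_d L19975) L13962 L19975
theorem L19979 : sm gj N2296 = N1604 := ded_37_2 (flp_d L14026) (flp_j L13963) L19975
theorem L19981 : sm gf N1597 = N2297 := rfl
theorem L19983 : sm ga N2297 = N2297 := ded_14_1 (flp_f L19981) L13959 L19981
theorem L19984 : sm gc N2297 = N1598 := ded_29_1 (flp_f L13967) (flp_c L13960) L19981
theorem L19986 : sm gj N2297 = N1605 := ded_46_2 (flp_f L14031) (flp_j L13963) L19981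
theorem L19988 : sm gh N2297 = N1640 := ded_47_2 (flp_f L14336) (flp_h L13965) L19981
theorem L19990 : sm ge N2297 = N2297 := ded_40_1 (flp_f L19981) (flp_e L13957) L9777 L13957 L19981
theorem L19991 : sm gg N1598 = N2298 := rfl
theorem L19993 : sm ga N2298 = N2298 := ded_15_1 (flp_g L19991) L13969 L19991
theorem L19994 : sm gb N2298 = N1744 := ded_23_1 (flp_g L15269) (flp_b L13970) L19991
theorem L19996 : sm ge N2298 = N2298 := ded_41_1 (flp_g L19991) L13976 L19991
theorem L19997 : sm gh N2298 = N1641 := ded_50_2 (flp_g L14345) (flp_h L13974) L19991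
theorem L19999 : sm gf N2298 = N2298 := ded_45_1 (flp_g L19991) (flp_f L13967) L9788 L13967 L19991
theorem L20000 : sm ga N1599 = N2299 := rfl
theorem L20002 : sm gc N2299 = N1745 := ded_11_2 (flp_a L15277) (flp_c L13985) L20000
theorem L20004 : sm gf N2299 = N2299 := ded_14_2 (flp_a L20000) L13979 L20000
theorem L20005 : sm gg N2299 = N1607 := ded_15_2 (flp_a L14049) (flp_g L13980) L20000
theorem L20007 : sm gh N2299 = N2299 := ded_17_2 (flp_a L20000) L13982 L20000
theorem L20008 : sm gi N2299 = N1602 := ded_18_2 (flp_a L14006) (flp_i L13983) L20000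
theorem L20010 : sm gb N2299 = N2299 := ded_10_2 (flp_a L20000) (flp_b L13977) L9795 L13977 L20000
theorem L20011 : sm ge N1599 = N2300 := rfl
theorem L20013 : sm gb N2300 = N1600 := ded_21_1 (flp_e L13987) L13977 L20011
theorem L20015 : sm gc N2300 = N1746 := ded_28_1 (flp_e L15288) (flp_c L13985) L20011
theorem L20017 : sm gg N2300 = N1608 := ded_41_2 (flp_e L14060) (flp_g L13980) L20011
theorem L20019 : sm gh N2300 = N2300 := ded_43_2 (flp_e L20011) L13982 L20011
theorem L20020 : sm gi N2300 = N1603 := ded_44_2 (flp_e L14016) (flp_i L13983) L20011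
theorem L20022 : sm gd N1600 = N2301 := rfl
theorem L20024 : sm ga N2301 = N2301 := ded_12_1 (flp_d L20022) L13989 L20022
theorem L20025 : sm gg N2301 = N1609 := ded_36_2 (flp_d L14070) (flp_g L13992) L20022
theorem L20027 : sm gi N2301 = N1604 := ded_39_2 (flp_d L14026) (flp_i L13995) L20022
theorem L20029 : sm gf N1600 = N2302 := rfl
theorem L20031 : sm ga N2302 = N2302 := ded_14_1 (flp_f L20029) L13989 L20029
theorem L20032 : sm gc N2302 = N1601 := ded_29_1 (flp_f L13997) (flp_c L13990) L20029
theorem L20034 : sm gh N2302 = N2302 := ded_47_2 (flp_f L20029) L13994 L20029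
theorem L20035 : sm gi N2302 = N1605 := ded_48_2 (flp_f L14031) (flp_i L13995) L20029
theorem L20037 : sm ge N2302 = N2302 := ded_40_1 (flp_f L20029) (flp_e L13987) L9796 L13987 L20029
theorem L20038 : sm gg N1601 = N2303 := rfl
theorem L20040 : sm ga N2303 = N2303 := ded_15_1 (flp_g L20038) L13999 L20038
theorem L20041 : sm gb N2303 = N1749 := ded_23_1 (flp_g L15316) (flp_b L14000) L20038
theorem L20043 : sm ge N2303 = N2303 := ded_41_1 (flp_g L20038) L14005 L20038
theorem L20044 : sm gh N2303 = N2303 := ded_50_2 (flp_g L20038) L14002 L20038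
theorem L20045 : sm gi N2303 = N1606 := ded_51_2 (flp_g L14039) (flp_i L14003) L20038
theorem L20047 : sm gf N2303 = N1611 := ded_45_1 (flp_g L14087) (flp_f L9857) (flp_g L9807) L13997 L20038
theorem L20049 : sm ge N1602 = N2304 := rfl
theorem L20051 : sm ga N2304 = N1603 := ded_13_1 (flp_e L14016) L14006 L20049
theorem L20053 : sm gb N2304 = N2304 := ded_21_1 (flp_e L20049) L14015 L20049
theorem L20054 : sm gc N2304 = N1750 := ded_28_1 (flp_e L15326) (flp_c L14008) L20049
theorem L20056 : sm gg N2304 = N1612 := ded_41_2 (flp_e L14097) (flp_g L14011) L20049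
theorem L20058 : sm gh N2304 = N1642 := ded_43_2 (flp_e L14354) (flp_h L14013) L20049
theorem L20060 : sm gd N1603 = N2305 := rfl
theorem L20062 : sm gb N2305 = N1604 := ded_20_1 (flp_d L14026) (flp_b L14018) L20060
theorem L20064 : sm gg N2305 = N1613 := ded_36_2 (flp_d L14107) (flp_g L14022) L20060
theorem L20066 : sm gf N1603 = N2306 := rfl
theorem L20068 : sm gb N2306 = N1605 := ded_22_1 (flp_f L14031) (flp_b L14018) L20066
theorem L20070 : sm gc N2306 = N1752 := ded_29_1 (flp_f L15343) (flp_c L14020) L20066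
theorem L20072 : sm gh N2306 = N1644 := ded_47_2 (flp_f L14372) (flp_h L14024) L20066
theorem L20074 : sm ge N2306 = N2306 := ded_40_1 (flp_f L20066) (flp_e L14016) L9814 L14016 L20066
theorem L20075 : sm gf N1604 = N2307 := rfl
theorem L20077 : sm ga N2307 = N2307 := ded_14_1 (flp_f L20075) L14028 L20075
theorem L20078 : sm gd N2307 = N1605 := ded_35_1 (flp_f L14031) L14026 L20075
theorem L20080 : sm gh N1604 = N2308 := rfl
theorem L20082 : sm ga N2308 = N2308 := ded_17_1 (flp_h L20080) L14028 L20080
theorem L20083 : sm gg N2308 = N1616 := ded_50_1 (flp_h L14129) (flp_g L14029) L20080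
theorem L20085 : sm gd N2308 = N1646 := ded_38_1 (flp_h L14387) (flp_d L10065) (flp_h L9828) L14026 L20080
theorem L20087 : sm gg N1605 = N2309 := rfl
theorem L20089 : sm ga N2309 = N2309 := ded_15_1 (flp_g L20087) L14033 L20087
theorem L20090 : sm gc N2309 = N1606 := ded_30_1 (flp_g L14039) (flp_c L14034) L20087
theorem L20092 : sm ge N2309 = N2309 := ded_41_1 (flp_g L20087) L14038 L20087
theorem L20093 : sm gh N2309 = N1647 := ded_50_2 (flp_g L14394) (flp_h L14036) L20087
theorem L20095 : sm gf N2309 = N1617 := ded_45_1 (flp_g L14135) (flp_f L9891) (flp_g L9826) L14031 L20087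
theorem L20097 : sm gj N1606 = N2310 := rfl
theorem L20099 : sm ga N2310 = N2310 := ded_16_1 (flp_j L20097) L14041 L20097
theorem L20100 : sm gb N2310 = N1756 := ded_24_1 (flp_j L15376) (flp_b L14042) L20097
theorem L20102 : sm ge N2310 = N2310 := ded_42_1 (flp_j L20097) L14044 L20097
theorem L20103 : sm gf N2310 = N1618 := ded_46_1 (flp_j L14144) (flp_f L14047) L20097
theorem L20105 : sm gh N2310 = N1648 := ded_52_2 (flp_j L14403) (flp_h L14045) L20097
theorem L20107 : sm ge N1607 = N2311 := rfl
theorem L20109 : sm ga N2311 = N1608 := ded_13_1 (flp_e L14060) L14049 L20107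
theorem L20111 : sm gb N2311 = N2311 := ded_21_1 (flp_e L20107) L14059 L20107
theorem L20112 : sm gc N2311 = N1757 := ded_28_1 (flp_e L15385) (flp_c L14051) L20107
theorem L20114 : sm gj N2311 = N2311 := ded_42_2 (flp_e L20107) L14055 L20107
theorem L20115 : sm gh N2311 = N2311 := ded_43_2 (flp_e L20107) L14056 L20107
theorem L20116 : sm gi N2311 = N1612 := ded_44_2 (flp_e L14097) (flp_i L14057) L20107
theorem L20118 : sm gd N1608 = N2312 := rfl
theorem L20120 : sm gb N2312 = N1609 := ded_20_1 (flp_d L14070) (flp_b L14062) L20118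
theorem L20122 : sm gj N2312 = N2312 := ded_37_2 (flp_d L20118) L14066 L20118
theorem L20123 : sm gi N2312 = N1613 := ded_39_2 (flp_d L14107) (flp_i L14068) L20118
theorem L20125 : sm gf N1608 = N2313 := rfl
theorem L20127 : sm gb N2313 = N1610 := ded_22_1 (flp_f L14076) (flp_b L14062) L20125
theorem L20129 : sm gc N2313 = N1759 := ded_29_1 (flp_f L15403) (flp_c L14064) L20125
theorem L20131 : sm gj N2313 = N2313 := ded_46_2 (flp_f L20125) L14066 L20125
theorem L20132 : sm gh N2313 = N2313 := ded_47_2 (flp_f L20125) L14067 L20125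
theorem L20133 : sm gi N2313 = N1614 := ded_48_2 (flp_f L14112) (flp_i L14068) L20125
theorem L20135 : sm ge N2313 = N1621 := ded_40_1 (flp_f L14174) (flp_e L9920) (flp_f L9840) L14060 L20125
theorem L20137 : sm gf N1609 = N2314 := rfl
theorem L20139 : sm ga N2314 = N2314 := ded_14_1 (flp_f L20137) L14072 L20137
theorem L20140 : sm gd N2314 = N1610 := ded_35_1 (flp_f L14076) L14070 L20137
theorem L20142 : sm gj N2314 = N2314 := ded_46_2 (flp_f L20137) L14073 L20137
theorem L20143 : sm gi N2314 = N1615 := ded_48_2 (flp_f L14123) (flp_i L14074) L20137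
theorem L20145 : sm gh N1609 = N2315 := rfl
theorem L20147 : sm ga N2315 = N2315 := ded_17_1 (flp_h L20145) L14072 L20145
theorem L20148 : sm gj N2315 = N2315 := ded_52_1 (flp_h L20145) L14073 L20145
theorem L20149 : sm gd N2315 = N2315 := ded_38_1 (flp_h L20145) (flp_d L14070) L9854 L14070 L20145
theorem L20150 : sm gg N1610 = N2316 := rfl
theorem L20152 : sm ga N2316 = N2316 := ded_15_1 (flp_g L20150) L14078 L20150
theorem L20153 : sm gc N2316 = N1611 := ded_30_1 (flp_g L14087) (flp_c L14079) L20150
theorem L20155 : sm ge N2316 = N1624 := ded_41_1 (flp_g L14200) (flp_e L14085) L20150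
theorem L20157 : sm gh N2316 = N2316 := ded_50_2 (flp_g L20150) L14082 L20150
theorem L20158 : sm gi N2316 = N1617 := ded_51_2 (flp_g L14135) (flp_i L14083) L20150
theorem L20160 : sm gj N1611 = N2317 := rfl
theorem L20162 : sm ga N2317 = N2317 := ded_16_1 (flp_j L20160) L14089 L20160
theorem L20163 : sm gb N2317 = N1763 := ded_24_1 (flp_j L15440) (flp_b L14090) L20160
theorem L20165 : sm ge N2317 = N1625 := ded_42_1 (flp_j L14209) (flp_e L14092) L20160
theorem L20167 : sm gh N2317 = N2317 := ded_52_2 (flp_j L20160) L14094 L20160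
theorem L20168 : sm gi N2317 = N1618 := ded_53_2 (flp_j L14144) (flp_i L14095) L20160
theorem L20170 : sm gg N2317 = N2317 := ded_49_1 (flp_j L20160) (flp_g L14087) L9862 L14087 L20160
theorem L20171 : sm gd N1612 = N2318 := rfl
theorem L20173 : sm ga N2318 = N1613 := ded_12_1 (flp_d L14107) (flp_a L14099) L20171
theorem L20175 : sm gb N2318 = N2318 := ded_20_1 (flp_d L20171) L14101 L20171
theorem L20176 : sm gj N2318 = N2318 := ded_37_2 (flp_d L20171) L14104 L20171
theorem L20177 : sm gf N1612 = N2319 := rfl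
theorem L20179 : sm ga N2319 = N1614 := ded_14_1 (flp_f L14112) (flp_a L14099) L20177
theorem L20181 : sm gb N2319 = N2319 := ded_22_1 (flp_f L20177) L14101 L20177
theorem L20182 : sm gc N2319 = N1765 := ded_29_1 (flp_f L15458) (flp_c L14102) L20177
theorem L20184 : sm gj N2319 = N2319 := ded_46_2 (flp_f L20177) L14104 L20177
theorem L20185 : sm gh N2319 = N1650 := ded_47_2 (flp_f L14421) (flp_h L14105) L20177
theorem L20187 : sm ge N2319 = N1627 := ded_40_1 (flp_f L14227) (flp_e L9958) (flp_f L9872) L14097 L20177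
theorem L20189 : sm gc N1613 = N2320 := rfl
theorem L20191 : sm gj N2320 = N2320 := ded_31_2 (flp_c L20189) L14111 L20189
theorem L20192 : sm gd N2320 = N1766 := ded_27_2 (flp_c L15469) (flp_d L10800) (flp_c L9882) L14107 L20189
theorem L20194 : sm gf N1613 = N2321 := rfl
theorem L20196 : sm gb N2321 = N1615 := ded_22_1 (flp_f L14123) (flp_b L14109) L20194
theorem L20198 : sm gd N2321 = N1614 := ded_35_1 (flp_f L14112) L14107 L20194
theorem L20200 : sm gj N2321 = N2321 := ded_46_2 (flp_f L20194) L14111 L20194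
theorem L20201 : sm gh N1613 = N2322 := rfl
theorem L20203 : sm gb N2322 = N1616 := ded_25_1 (flp_h L14129) (flp_b L14109) L20201
theorem L20205 : sm gj N2322 = N2322 := ded_52_1 (flp_h L20201) L14111 L20201
theorem L20206 : sm gd N2322 = N1653 := ded_38_1 (flp_h L14448) (flp_d L10099) (flp_h L9885) L14107 L20201
theorem L20208 : sm gg N1614 = N2323 := rfl
theorem L20210 : sm gb N2323 = N1617 := ded_23_1 (flp_g L14135) (flp_b L14114) L20208
theorem L20212 : sm gc N2323 = N1769 := ded_30_1 (flp_g L15488) (flp_c L14116) L20208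
theorem L20214 : sm ge N2323 = N1631 := ded_41_1 (flp_g L14259) (flp_e L14121) L20208
theorem L20216 : sm gh N2323 = N1654 := ded_50_2 (flp_g L14454) (flp_h L14119) L20208
theorem L20218 : sm ge N1615 = N2324 := rfl
theorem L20220 : sm ga N2324 = N2324 := ded_13_1 (flp_e L20218) L14125 L20218
theorem L20221 : sm gj N2324 = N2324 := ded_42_2 (flp_e L20218) L14128 L20218
theorem L20222 : sm gd N2324 = N1632 := ded_34_1 (flp_e L14268) L9988 (flp_e L9899) (flp_d L14126) L20218
theorem L20224 : sm gg N1615 = N2325 := rfl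
theorem L20226 : sm ga N2325 = N2325 := ded_15_1 (flp_g L20224) L14125 L20224
theorem L20227 : sm gd N2325 = N1617 := ded_36_1 (flp_g L14135) (flp_d L14126) L20224
theorem L20229 : sm gh N1615 = N2326 := rfl
theorem L20231 : sm ga N2326 = N2326 := ded_17_1 (flp_h L20229) L14125 L20229
theorem L20232 : sm gf N2326 = N1616 := ded_47_1 (flp_h L14129) L14123 L20229
theorem L20234 : sm gj N2326 = N2326 := ded_52_1 (flp_h L20229) L14128 L20229
theorem L20235 : sm gd N2326 = N1657 := ded_38_1 (flp_h L14479) L10120 (flp_h L9897) (flp_d L14126) L20229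
theorem L20237 : sm gi N1616 = N2327 := rfl
theorem L20239 : sm ga N2327 = N2327 := ded_18_1 (flp_i L20237) L14131 L20237
theorem L20240 : sm gd N2327 = N1658 := ded_39_1 (flp_i L14486) (flp_d L14133) L20237
theorem L20242 : sm gj N2327 = N2327 := ded_53_1 (flp_i L20237) L14132 L20237
theorem L20243 : sm gj N1617 = N2328 := rfl
theorem L20245 : sm ga N2328 = N2328 := ded_16_1 (flp_j L20243) L14137 L20243
theorem L20246 : sm gc N2328 = N1618 := ded_31_1 (flp_j L14144) (flp_c L14138) L20243
theorem L20248 : sm ge N2328 = N1636 := ded_42_1 (flp_j L14297) (flp_e L14140) L20243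
theorem L20250 : sm gh N2328 = N1659 := ded_52_2 (flp_j L14493) (flp_h L14142) L20243
theorem L20252 : sm gg N2328 = N2328 := ded_49_1 (flp_j L20243) (flp_g L14135) L9896 L14135 L20243
theorem L20253 : sm gd N1619 = N2329 := rfl
theorem L20255 : sm ga N2329 = N1620 := ded_12_1 (flp_d L14166) (flp_a L14156) L20253
theorem L20257 : sm gb N2329 = N2329 := ded_20_1 (flp_d L20253) L14158 L20253
theorem L20258 : sm gg N2329 = N2329 := ded_36_2 (flp_d L20253) L14161 L20253
theorem L20259 : sm gj N2329 = N2329 := ded_37_2 (flp_d L20253) L14162 L20253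
theorem L20260 : sm gi N2329 = N1626 := ded_39_2 (flp_d L14220) (flp_i L14164) L20253
theorem L20262 : sm gf N1619 = N2330 := rfl
theorem L20264 : sm ga N2330 = N1621 := ded_14_1 (flp_f L14174) (flp_a L14156) L20262
theorem L20266 : sm gb N2330 = N2330 := ded_22_1 (flp_f L20262) L14158 L20262
theorem L20267 : sm gc N2330 = N1776 := ded_29_1 (flp_f L15549) (flp_c L14159) L20262
theorem L20269 : sm gj N2330 = N2330 := ded_46_2 (flp_f L20262) L14162 L20262
theorem L20270 : sm gh N2330 = N2330 := ded_47_2 (flp_f L20262) L14163 L20262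
theorem L20271 : sm gi N2330 = N1627 := ded_48_2 (flp_f L14227) (flp_i L14164) L20262
theorem L20273 : sm gc N1620 = N2331 := rfl
theorem L20275 : sm gg N2331 = N2331 := ded_30_2 (flp_c L20273) L14170 L20273
theorem L20276 : sm gj N2331 = N2331 := ded_31_2 (flp_c L20273) L14171 L20273
theorem L20277 : sm gi N2331 = N1628 := ded_33_2 (flp_c L14237) (flp_i L14172) L20273
theorem L20279 : sm gb N2331 = N2331 := ded_19_1 (flp_c L20273) L14168 L9938 (flp_b L14168) L20273
theorem L20280 : sm gd N2331 = N1777 := ded_27_2 (flp_c L15559) (flp_d L10860) (flp_c L9924) L14166 L20273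
theorem L20282 : sm gf N1620 = N2332 := rfl
theorem L20284 : sm gb N2332 = N1622 := ded_22_1 (flp_f L14184) (flp_b L14168) L20282
theorem L20286 : sm gd N2332 = N1621 := ded_35_1 (flp_f L14174) L14166 L20282
theorem L20288 : sm gj N2332 = N2332 := ded_46_2 (flp_f L20282) L14171 L20282
theorem L20289 : sm gi N2332 = N1629 := ded_48_2 (flp_f L14244) (flp_i L14172) L20282
theorem L20291 : sm gh N1620 = N2333 := rfl
theorem L20293 : sm gb N2333 = N1623 := ded_25_1 (flp_h L14193) (flp_b L14168) L20291
theorem L20295 : sm gg N2333 = N2333 := ded_50_1 (flp_h L20291) L14170 L20291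
theorem L20296 : sm gj N2333 = N2333 := ded_52_1 (flp_h L20291) L14171 L20291
theorem L20297 : sm gd N2333 = N2333 := ded_38_1 (flp_h L20291) (flp_d L14166) L9928 L14166 L20291
theorem L20298 : sm gg N1621 = N2334 := rfl
theorem L20300 : sm gb N2334 = N1624 := ded_23_1 (flp_g L14200) (flp_b L14176) L20298
theorem L20302 : sm gc N2334 = N1780 := ded_30_1 (flp_g L15585) (flp_c L14178) L20298
theorem L20304 : sm gh N2334 = N2334 := ded_50_2 (flp_g L20298) L14181 L20298
theorem L20305 : sm gi N2334 = N1631 := ded_51_2 (flp_g L14259) (flp_i L14182) L20298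
theorem L20307 : sm gf N2334 = N2334 := ded_45_1 (flp_g L20298) (flp_f L14174) L9926 L14174 L20298
theorem L20308 : sm ge N1622 = N2335 := rfl
theorem L20310 : sm ga N2335 = N2335 := ded_13_1 (flp_e L20308) L14186 L20308
theorem L20311 : sm gc N2335 = N2335 := ded_28_1 (flp_e L20308) L14187 L20308
theorem L20312 : sm gj N2335 = N2335 := ded_42_2 (flp_e L20308) L14190 L20308
theorem L20313 : sm gi N2335 = N1632 := ded_44_2 (flp_e L14268) (flp_i L14191) L20308
theorem L20315 : sm gg N1622 = N2336 := rfl
theorem L20317 : sm ga N2336 = N2336 := ded_15_1 (flp_g L20315) L14186 L20315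
theorem L20318 : sm gc N2336 = N2336 := ded_30_1 (flp_g L20315) L14187 L20315
theorem L20319 : sm gd N2336 = N1624 := ded_36_1 (flp_g L14200) (flp_d L14188) L20315
theorem L20321 : sm gi N2336 = N1633 := ded_51_2 (flp_g L14273) (flp_i L14191) L20315
theorem L20323 : sm gf N2336 = N2336 := ded_45_1 (flp_g L20315) (flp_f L14184) L9934 L14184 L20315
theorem L20324 : sm gh N1622 = N2337 := rfl
theorem L20326 : sm ga N2337 = N2337 := ded_17_1 (flp_h L20324) L14186 L20324
theorem L20327 : sm gc N2337 = N2337 := ded_32_1 (flp_h L20324) L14187 L20324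
theorem L20328 : sm gf N2337 = N1623 := ded_47_1 (flp_h L14193) L14184 L20324
theorem L20330 : sm gj N2337 = N2337 := ded_52_1 (flp_h L20324) L14190 L20324
theorem L20331 : sm gd N2337 = N2337 := ded_38_1 (flp_h L20324) L14188 L9945 (flp_d L14188) L20324
theorem L20332 : sm gi N1623 = N2338 := rfl
theorem L20334 : sm ga N2338 = N2338 := ded_18_1 (flp_i L20332) L14195 L20332
theorem L20335 : sm gc N2338 = N2338 := ded_33_1 (flp_i L20332) L14196 L20332
theorem L20336 : sm gd N2338 = N2338 := ded_39_1 (flp_i L20332) L14199 L20332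
theorem L20337 : sm gg N2338 = N2338 := ded_51_1 (flp_i L20332) L14197 L20332
theorem L20338 : sm gj N2338 = N2338 := ded_53_1 (flp_i L20332) L14198 L20332
theorem L20339 : sm gh N2338 = N1635 := ded_54_1 (flp_i L14289) (flp_h L9991) (flp_i L9936) L14193 L20332
theorem L20341 : sm gj N1624 = N2339 := rfl
theorem L20343 : sm ga N2339 = N2339 := ded_16_1 (flp_j L20341) L14202 L20341
theorem L20344 : sm gc N2339 = N1625 := ded_31_1 (flp_j L14209) (flp_c L14203) L20341
theorem L20346 : sm gf N2339 = N2339 := ded_46_1 (flp_j L20341) L14208 L20341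
theorem L20347 : sm gh N2339 = N2339 := ded_52_2 (flp_j L20341) L14205 L20341
theorem L20348 : sm gi N2339 = N1636 := ded_53_2 (flp_j L14297) (flp_i L14206) L20341
theorem L20350 : sm gg N2339 = N2339 := ded_49_1 (flp_j L20341) (flp_g L14200) L9944 L14200 L20341
theorem L20351 : sm gc N1626 = N2340 := rfl
theorem L20353 : sm ga N2340 = N1628 := ded_11_1 (flp_c L14237) (flp_a L14222) L20351
theorem L20355 : sm gg N2340 = N2340 := ded_30_2 (flp_c L20351) L14225 L20351
theorem L20356 : sm gj N2340 = N2340 := ded_31_2 (flp_c L20351) L14226 L20351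
theorem L20357 : sm gd N2340 = N1785 := ded_27_2 (flp_c L15633) (flp_d L10917) (flp_c L9963) L14220 L20351
theorem L20359 : sm gf N1626 = N2341 := rfl
theorem L20361 : sm ga N2341 = N1629 := ded_14_1 (flp_f L14244) (flp_a L14222) L20359
theorem L20363 : sm gb N2341 = N2341 := ded_22_1 (flp_f L20359) L14224 L20359
theorem L20364 : sm gd N2341 = N1627 := ded_35_1 (flp_f L14227) L14220 L20359
theorem L20366 : sm gj N2341 = N2341 := ded_46_2 (flp_f L20359) L14226 L20359
theorem L20367 : sm gh N1626 = N2342 := rfl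
theorem L20369 : sm ga N2342 = N1630 := ded_17_1 (flp_h L14251) (flp_a L14222) L20367
theorem L20371 : sm gb N2342 = N2342 := ded_25_1 (flp_h L20367) L14224 L20367
theorem L20372 : sm gg N2342 = N2342 := ded_50_1 (flp_h L20367) L14225 L20367
theorem L20373 : sm gj N2342 = N2342 := ded_52_1 (flp_h L20367) L14226 L20367
theorem L20374 : sm gd N2342 = N1661 := ded_38_1 (flp_h L14512) (flp_d L10148) (flp_h L9967) L14220 L20367
theorem L20376 : sm gg N1627 = N2343 := rfl
theorem L20378 : sm ga N2343 = N1631 := ded_15_1 (flp_g L14259) (flp_a L14229) L20376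
theorem L20380 : sm gb N2343 = N2343 := ded_23_1 (flp_g L20376) L14231 L20376
theorem L20381 : sm gc N2343 = N1787 := ded_30_1 (flp_g L15651) (flp_c L14232) L20376
theorem L20383 : sm gh N2343 = N1662 := ded_50_2 (flp_g L14521) (flp_h L14235) L20376
theorem L20385 : sm gf N2343 = N2343 := ded_45_1 (flp_g L20376) (flp_f L14227) L9965 L14227 L20376
theorem L20386 : sm gf N1628 = N2344 := rfl
theorem L20388 : sm gb N2344 = N2344 := ded_22_1 (flp_f L20386) L14241 L20386
theorem L20389 : sm gc N2344 = N1629 := ded_29_1 (flp_f L14244) L14237 L20386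
theorem L20391 : sm gd N2344 = N1788 := ded_35_1 (flp_f L15660) (flp_d L14242) L20386
theorem L20393 : sm gj N2344 = N2344 := ded_46_2 (flp_f L20386) L14240 L20386
theorem L20394 : sm gh N1628 = N2345 := rfl
theorem L20396 : sm gb N2345 = N2345 := ded_25_1 (flp_h L20394) L14241 L20394
theorem L20397 : sm gc N2345 = N1630 := ded_32_1 (flp_h L14251) L14237 L20394
theorem L20399 : sm gg N2345 = N2345 := ded_50_1 (flp_h L20394) L14239 L20394
theorem L20400 : sm gj N2345 = N2345 := ded_52_1 (flp_h L20394) L14240 L20394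
theorem L20401 : sm gd N2345 = N2345 := ded_38_1 (flp_h L20394) L14242 L10941 (flp_d L14242) L20394
theorem L20402 : sm ge N1629 = N2346 := rfl
theorem L20404 : sm gb N2346 = N1632 := ded_21_1 (flp_e L14268) (flp_b L14246) L20402
theorem L20406 : sm gj N2346 = N2346 := ded_42_2 (flp_e L20402) L14250 L20402
theorem L20407 : sm gg N1629 = N2347 := rfl
theorem L20409 : sm gb N2347 = N1633 := ded_23_1 (flp_g L14273) (flp_b L14246) L20407
theorem L20411 : sm gd N2347 = N1631 := ded_36_1 (flp_g L14259) (flp_d L14248) L20407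
theorem L20413 : sm gf N2347 = N2347 := ded_45_1 (flp_g L20407) (flp_f L14244) L9973 L14244 L20407
theorem L20414 : sm gh N1629 = N2348 := rfl
theorem L20416 : sm gb N2348 = N1634 := ded_25_1 (flp_h L14280) (flp_b L14246) L20414
theorem L20418 : sm gf N2348 = N1630 := ded_47_1 (flp_h L14251) L14244 L20414
theorem L20420 : sm gj N2348 = N2348 := ded_52_1 (flp_h L20414) L14250 L20414
theorem L20421 : sm gd N2348 = N1665 := ded_38_1 (flp_h L14547) L10172 (flp_h L9982) (flp_d L14248) L20414
theorem L20423 : sm gi N1630 = N2349 := rfl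
theorem L20425 : sm gb N2349 = N1635 := ded_26_1 (flp_i L14289) (flp_b L14253) L20423
theorem L20427 : sm gd N2349 = N1666 := ded_39_1 (flp_i L14555) (flp_d L14257) L20423
theorem L20429 : sm gg N2349 = N2349 := ded_51_1 (flp_i L20423) L14255 L20423
theorem L20430 : sm gj N2349 = N2349 := ded_53_1 (flp_i L20423) L14256 L20423
theorem L20431 : sm gj N1631 = N2350 := rfl
theorem L20433 : sm gb N2350 = N1636 := ded_24_1 (flp_j L14297) (flp_b L14261) L20431
theorem L20435 : sm gc N2350 = N1791 := ded_31_1 (flp_j L15682) (flp_c L14263) L20431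
theorem L20437 : sm gf N2350 = N2350 := ded_46_1 (flp_j L20431) L14267 L20431
theorem L20438 : sm gh N2350 = N1667 := ded_52_2 (flp_j L14564) (flp_h L14265) L20431
theorem L20440 : sm gg N2350 = N2350 := ded_49_1 (flp_j L20431) (flp_g L14259) L9981 L14259 L20431
theorem L20441 : sm gg N1632 = N2351 := rfl
theorem L20443 : sm ga N2351 = N2351 := ded_15_1 (flp_g L20441) L14270 L20441
theorem L20444 : sm gc N2351 = N2351 := ded_30_1 (flp_g L20441) L14271 L20441
theorem L20445 : sm ge N2351 = N1633 := ded_41_1 (flp_g L14273) L14268 L20441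
theorem L20447 : sm gh N1632 = N2352 := rfl
theorem L20449 : sm ga N2352 = N2352 := ded_17_1 (flp_h L20447) L14270 L20447
theorem L20450 : sm gc N2352 = N2352 := ded_32_1 (flp_h L20447) L14271 L20447
theorem L20451 : sm ge N2352 = N1634 := ded_43_1 (flp_h L14280) L14268 L20447
theorem L20453 : sm gj N2352 = N2352 := ded_52_1 (flp_h L20447) L14272 L20447
theorem L20454 : sm gj N1633 = N2353 := rfl
theorem L20456 : sm ga N2353 = N2353 := ded_16_1 (flp_j L20454) L14275 L20454
theorem L20457 : sm gc N2353 = N2353 := ded_31_1 (flp_j L20454) L14276 L20454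
theorem L20458 : sm gd N2353 = N1636 := ded_37_1 (flp_j L14297) (flp_d L14277) L20454
theorem L20460 : sm gf N2353 = N2353 := ded_46_1 (flp_j L20454) L14279 L20454
theorem L20461 : sm gg N2353 = N2353 := ded_49_1 (flp_j L20454) (flp_g L14273) L9990 L14273 L20454
theorem L20462 : sm gh N1633 = N2354 := rfl
theorem L20464 : sm ga N2354 = N2354 := ded_17_1 (flp_h L20462) L14275 L20462
theorem L20465 : sm gc N2354 = N2354 := ded_32_1 (flp_h L20462) L14276 L20462
theorem L20466 : sm gf N2354 = N2354 := ded_47_1 (flp_h L20462) L14279 L20462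
theorem L20467 : sm gg N2354 = N1634 := ded_50_1 (flp_h L14280) L14273 L20462
theorem L20469 : sm gd N2354 = N1671 := ded_38_1 (flp_h L14600) L10205 (flp_h L10004) (flp_d L14277) L20462
theorem L20471 : sm gi N1634 = N2355 := rfl
theorem L20473 : sm ga N2355 = N2355 := ded_18_1 (flp_i L20471) L14282 L20471
theorem L20474 : sm gc N2355 = N2355 := ded_33_1 (flp_i L20471) L14283 L20471
theorem L20475 : sm gd N2355 = N1672 := ded_39_1 (flp_i L14608) (flp_d L14287) L20471
theorem L20477 : sm gf N2355 = N1635 := ded_48_1 (flp_i L14289) (flp_f L14284) L20471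
theorem L20479 : sm gj N2355 = N2355 := ded_53_1 (flp_i L20471) L14286 L20471
theorem L20480 : sm ge N1637 = N2356 := rfl
theorem L20482 : sm ga N2356 = N1638 := ded_13_1 (flp_e L14317) L14306 L20480
theorem L20484 : sm gb N2356 = N2356 := ded_21_1 (flp_e L20480) L14316 L20480
theorem L20485 : sm gc N2356 = N1794 := ded_28_1 (flp_e L15708) (flp_c L14308) L20480
theorem L20487 : sm gg N2356 = N2356 := ded_41_2 (flp_e L20480) L14312 L20480
theorem L20488 : sm gj N2356 = N1642 := ded_42_2 (flp_e L14354) (flp_j L14313) L20480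
theorem L20490 : sm gi N2356 = N2356 := ded_44_2 (flp_e L20480) L14315 L20480
theorem L20491 : sm gd N1638 = N2357 := rfl
theorem L20493 : sm gb N2357 = N1639 := ded_20_1 (flp_d L14327) (flp_b L14319) L20491
theorem L20495 : sm gg N2357 = N2357 := ded_36_2 (flp_d L20491) L14323 L20491
theorem L20496 : sm gj N2357 = N1643 := ded_37_2 (flp_d L14364) (flp_j L14324) L20491
theorem L20498 : sm gi N2357 = N2357 := ded_39_2 (flp_d L20491) L14326 L20491
theorem L20499 : sm ge N2357 = N2357 := ded_34_2 (flp_d L20491) (flp_e L14317) L10019 L14317 L20491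
theorem L20500 : sm gf N1638 = N2358 := rfl
theorem L20502 : sm gb N2358 = N1640 := ded_22_1 (flp_f L14336) (flp_b L14319) L20500
theorem L20504 : sm gc N2358 = N1796 := ded_29_1 (flp_f L15728) (flp_c L14321) L20500
theorem L20506 : sm gj N2358 = N1644 := ded_46_2 (flp_f L14372) (flp_j L14324) L20500
theorem L20508 : sm gi N2358 = N2358 := ded_48_2 (flp_f L20500) L14326 L20500
theorem L20509 : sm ge N2358 = N2358 := ded_40_1 (flp_f L20500) (flp_e L14317) L10020 L14317 L20500
theorem L20510 : sm gf N1639 = N2359 := rfl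
theorem L20512 : sm ga N2359 = N2359 := ded_14_1 (flp_f L20510) L14329 L20510
theorem L20513 : sm gc N2359 = N2359 := ded_29_1 (flp_f L20510) L14334 L20510
theorem L20514 : sm gd N2359 = N1640 := ded_35_1 (flp_f L14336) L14327 L20510
theorem L20516 : sm gj N2359 = N1645 := ded_46_2 (flp_f L14380) (flp_j L14331) L20510
theorem L20518 : sm gi N2359 = N2359 := ded_48_2 (flp_f L20510) L14333 L20510
theorem L20519 : sm gh N1639 = N2360 := rfl
theorem L20521 : sm ga N2360 = N2360 := ded_17_1 (flp_h L20519) L14329 L20519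
theorem L20522 : sm gc N2360 = N2360 := ded_32_1 (flp_h L20519) L14334 L20519
theorem L20523 : sm ge N2360 = N2360 := ded_43_1 (flp_h L20519) L14335 L20519
theorem L20524 : sm gg N2360 = N2360 := ded_50_1 (flp_h L20519) L14330 L20519
theorem L20525 : sm gj N2360 = N1646 := ded_52_1 (flp_h L14387) (flp_j L14331) L20519
theorem L20527 : sm gg N1640 = N2361 := rfl
theorem L20529 : sm ga N2361 = N2361 := ded_15_1 (flp_g L20527) L14338 L20527
theorem L20530 : sm gc N2361 = N1641 := ded_30_1 (flp_g L14345) (flp_c L14339) L20527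
theorem L20532 : sm ge N2361 = N2361 := ded_41_1 (flp_g L20527) L14344 L20527
theorem L20533 : sm gi N2361 = N2361 := ded_51_2 (flp_g L20527) L14343 L20527
theorem L20534 : sm gf N2361 = N2361 := ded_45_1 (flp_g L20527) (flp_f L14336) L10032 L14336 L20527
theorem L20535 : sm gj N1641 = N2362 := rfl
theorem L20537 : sm ga N2362 = N2362 := ded_16_1 (flp_j L20535) L14347 L20535
theorem L20538 : sm gb N2362 = N1800 := ded_24_1 (flp_j L15765) (flp_b L14348) L20535
theorem L20540 : sm gd N2362 = N2362 := ded_37_1 (flp_j L20535) L14350 L20535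
theorem L20541 : sm ge N2362 = N2362 := ded_42_1 (flp_j L20535) L14351 L20535
theorem L20542 : sm gf N2362 = N2362 := ded_46_1 (flp_j L20535) L14353 L20535
theorem L20543 : sm gi N2362 = N2362 := ded_53_2 (flp_j L20535) L14352 L20535
theorem L20544 : sm gg N2362 = N1648 := ded_49_1 (flp_j L14403) (flp_g L10080) (flp_j L10042) L14345 L20535
theorem L20546 : sm gd N1642 = N2363 := rfl
theorem L20548 : sm ga N2363 = N1643 := ded_12_1 (flp_d L14364) (flp_a L14356) L20546
theorem L20550 : sm gb N2363 = N2363 := ded_20_1 (flp_d L20546) L14358 L20546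
theorem L20551 : sm gg N2363 = N1649 := ded_36_2 (flp_d L14413) (flp_g L14361) L20546
theorem L20553 : sm gi N2363 = N2363 := ded_39_2 (flp_d L20546) L14363 L20546
theorem L20554 : sm ge N2363 = N2363 := ded_34_2 (flp_d L20546) (flp_e L14354) L10050 L14354 L20546
theorem L20555 : sm gf N1642 = N2364 := rfl
theorem L20557 : sm ga N2364 = N1644 := ded_14_1 (flp_f L14372) (flp_a L14356) L20555
theorem L20559 : sm gb N2364 = N2364 := ded_22_1 (flp_f L20555) L14358 L20555
theorem L20560 : sm gc N2364 = N1802 := ded_29_1 (flp_f L15786) (flp_c L14359) L20555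
theorem L20562 : sm gi N2364 = N2364 := ded_48_2 (flp_f L20555) L14363 L20555
theorem L20563 : sm ge N2364 = N2364 := ded_40_1 (flp_f L20555) (flp_e L14354) L10051 L14354 L20555
theorem L20564 : sm gc N1643 = N2365 := rfl
theorem L20566 : sm ge N2365 = N2365 := ded_28_2 (flp_c L20564) L14371 L20564
theorem L20567 : sm gg N2365 = N1651 := ded_30_2 (flp_c L14432) (flp_g L14368) L20564
theorem L20569 : sm gi N2365 = N2365 := ded_33_2 (flp_c L20564) L14370 L20564
theorem L20570 : sm gb N2365 = N2365 := ded_19_1 (flp_c L20564) L14366 L10071 (flp_b L14366) L20564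
theorem L20571 : sm gd N2365 = N1803 := ded_27_2 (flp_c L15794) (flp_d L11042) (flp_c L10060) L14364 L20564
theorem L20573 : sm gf N1643 = N2366 := rfl
theorem L20575 : sm gb N2366 = N1645 := ded_22_1 (flp_f L14380) (flp_b L14366) L20573
theorem L20577 : sm gd N2366 = N1644 := ded_35_1 (flp_f L14372) L14364 L20573
theorem L20579 : sm gi N2366 = N2366 := ded_48_2 (flp_f L20573) L14370 L20573
theorem L20580 : sm gh N1643 = N2367 := rfl
theorem L20582 : sm gb N2367 = N1646 := ded_25_1 (flp_h L14387) (flp_b L14366) L20580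
theorem L20584 : sm ge N2367 = N2367 := ded_43_1 (flp_h L20580) L14371 L20580
theorem L20585 : sm gg N2367 = N1653 := ded_50_1 (flp_h L14448) (flp_g L14368) L20580
theorem L20587 : sm gg N1644 = N2368 := rfl
theorem L20589 : sm gb N2368 = N1647 := ded_23_1 (flp_g L14394) (flp_b L14374) L20587
theorem L20591 : sm gc N2368 = N1806 := ded_30_1 (flp_g L15817) (flp_c L14376) L20587
theorem L20593 : sm ge N2368 = N2368 := ded_41_1 (flp_g L20587) L14379 L20587
theorem L20594 : sm gi N2368 = N2368 := ded_51_2 (flp_g L20587) L14378 L20587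
theorem L20595 : sm gf N2368 = N1654 := ded_45_1 (flp_g L14454) (flp_f L10106) (flp_g L10062) L14372 L20587
theorem L20597 : sm ge N1645 = N2369 := rfl
theorem L20599 : sm ga N2369 = N2369 := ded_13_1 (flp_e L20597) L14382 L20597
theorem L20600 : sm gc N2369 = N2369 := ded_28_1 (flp_e L20597) L14383 L20597
theorem L20601 : sm gi N2369 = N2369 := ded_44_2 (flp_e L20597) L14386 L20597
theorem L20602 : sm gd N2369 = N2369 := ded_34_1 (flp_e L20597) L14384 L10079 (flp_d L14384) L20597
theorem L20603 : sm gf N2369 = N2369 := ded_40_2 (flp_e L20597) (flp_f L14380) L10072 L14380 L20597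
theorem L20604 : sm gg N1645 = N2370 := rfl
theorem L20606 : sm ga N2370 = N2370 := ded_15_1 (flp_g L20604) L14382 L20604
theorem L20607 : sm gc N2370 = N2370 := ded_30_1 (flp_g L20604) L14383 L20604
theorem L20608 : sm gd N2370 = N1647 := ded_36_1 (flp_g L14394) (flp_d L14384) L20604
theorem L20610 : sm gi N2370 = N2370 := ded_51_2 (flp_g L20604) L14386 L20604
theorem L20611 : sm gf N2370 = N1656 := ded_45_1 (flp_g L14472) (flp_f L10116) (flp_g L10068) L14380 L20604
theorem L20613 : sm gh N1645 = N2371 := rfl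
theorem L20615 : sm ga N2371 = N2371 := ded_17_1 (flp_h L20613) L14382 L20613
theorem L20616 : sm gc N2371 = N2371 := ded_32_1 (flp_h L20613) L14383 L20613
theorem L20617 : sm gf N2371 = N1646 := ded_47_1 (flp_h L14387) L14380 L20613
theorem L20619 : sm gi N1646 = N2372 := rfl
theorem L20621 : sm ga N2372 = N2372 := ded_18_1 (flp_i L20619) L14389 L20619
theorem L20622 : sm gc N2372 = N2372 := ded_33_1 (flp_i L20619) L14390 L20619
theorem L20623 : sm ge N2372 = N2372 := ded_44_1 (flp_i L20619) L14391 L20619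
theorem L20624 : sm gg N2372 = N1658 := ded_51_1 (flp_i L14486) (flp_g L14392) L20619
theorem L20626 : sm gh N2372 = N2372 := ded_54_1 (flp_i L20619) (flp_h L14387) L10070 L14387 L20619
theorem L20627 : sm gj N1647 = N2373 := rfl
theorem L20629 : sm ga N2373 = N2373 := ded_16_1 (flp_j L20627) L14396 L20627
theorem L20630 : sm gc N2373 = N1648 := ded_31_1 (flp_j L14403) (flp_c L14397) L20627
theorem L20632 : sm ge N2373 = N2373 := ded_42_1 (flp_j L20627) L14399 L20627
theorem L20633 : sm gf N2373 = N1659 := ded_46_1 (flp_j L14493) (flp_f L14401) L20627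
theorem L20635 : sm gi N2373 = N2373 := ded_53_2 (flp_j L20627) L14400 L20627
theorem L20636 : sm gc N1649 = N2374 := rfl
theorem L20638 : sm ga N2374 = N1651 := ded_11_1 (flp_c L14432) (flp_a L14415) L20636
theorem L20640 : sm ge N2374 = N2374 := ded_28_2 (flp_c L20636) L14420 L20636
theorem L20641 : sm gj N2374 = N2374 := ded_31_2 (flp_c L20636) L14418 L20636
theorem L20642 : sm gi N2374 = N2374 := ded_33_2 (flp_c L20636) L14419 L20636
theorem L20643 : sm gd N2374 = N1812 := ded_27_2 (flp_c L15871) (flp_d L11093) (flp_c L10095) L14413 L20636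
theorem L20645 : sm gf N1649 = N2375 := rfl
theorem L20647 : sm ga N2375 = N1652 := ded_14_1 (flp_f L14440) (flp_a L14415) L20645
theorem L20649 : sm gb N2375 = N2375 := ded_22_1 (flp_f L20645) L14417 L20645
theorem L20650 : sm gd N2375 = N1650 := ded_35_1 (flp_f L14421) L14413 L20645
theorem L20652 : sm gj N2375 = N2375 := ded_46_2 (flp_f L20645) L14418 L20645
theorem L20653 : sm gi N2375 = N2375 := ded_48_2 (flp_f L20645) L14419 L20645
theorem L20654 : sm gh N1649 = N2376 := rfl
theorem L20656 : sm ga N2376 = N1653 := ded_17_1 (flp_h L14448) (flp_a L14415) L20654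
theorem L20658 : sm gb N2376 = N2376 := ded_25_1 (flp_h L20654) L14417 L20654
theorem L20659 : sm ge N2376 = N2376 := ded_43_1 (flp_h L20654) L14420 L20654
theorem L20660 : sm gj N2376 = N2376 := ded_52_1 (flp_h L20654) L14418 L20654
theorem L20661 : sm gg N1650 = N2377 := rfl
theorem L20663 : sm ga N2377 = N1654 := ded_15_1 (flp_g L14454) (flp_a L14423) L20661
theorem L20665 : sm gb N2377 = N2377 := ded_23_1 (flp_g L20661) L14425 L20661
theorem L20666 : sm gc N2377 = N1815 := ded_30_1 (flp_g L15899) (flp_c L14426) L20661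
theorem L20668 : sm ge N2377 = N1662 := ded_41_1 (flp_g L14521) (flp_e L14430) L20661
theorem L20670 : sm gi N2377 = N2377 := ded_51_2 (flp_g L20661) L14429 L20661
theorem L20671 : sm gf N1651 = N2378 := rfl
theorem L20673 : sm gb N2378 = N2378 := ded_22_1 (flp_f L20671) L14437 L20671
theorem L20674 : sm gc N2378 = N1652 := ded_29_1 (flp_f L14440) L14432 L20671
theorem L20676 : sm gd N2378 = N1816 := ded_35_1 (flp_f L15908) (flp_d L14438) L20671
theorem L20678 : sm gj N2378 = N2378 := ded_46_2 (flp_f L20671) L14435 L20671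
theorem L20679 : sm gi N2378 = N2378 := ded_48_2 (flp_f L20671) L14436 L20671
theorem L20680 : sm gh N1651 = N2379 := rfl
theorem L20682 : sm gb N2379 = N2379 := ded_25_1 (flp_h L20680) L14437 L20680
theorem L20683 : sm gc N2379 = N1653 := ded_32_1 (flp_h L14448) L14432 L20680
theorem L20685 : sm ge N2379 = N2379 := ded_43_1 (flp_h L20680) L14434 L20680
theorem L20686 : sm gj N2379 = N2379 := ded_52_1 (flp_h L20680) L14435 L20680
theorem L20687 : sm ge N1652 = N2380 := rfl
theorem L20689 : sm gb N2380 = N1655 := ded_21_1 (flp_e L14463) (flp_b L14442) L20687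
theorem L20691 : sm gj N2380 = N2380 := ded_42_2 (flp_e L20687) L14446 L20687
theorem L20692 : sm gi N2380 = N2380 := ded_44_2 (flp_e L20687) L14447 L20687
theorem L20693 : sm gd N2380 = N1663 := ded_34_1 (flp_e L14530) L10172 (flp_e L10114) (flp_d L14444) L20687
theorem L20695 : sm gf N2380 = N2380 := ded_40_2 (flp_e L20687) (flp_f L14440) L10105 L14440 L20687
theorem L20696 : sm gg N1652 = N2381 := rfl
theorem L20698 : sm gb N2381 = N1656 := ded_23_1 (flp_g L14472) (flp_b L14442) L20696
theorem L20700 : sm gd N2381 = N1654 := ded_36_1 (flp_g L14454) (flp_d L14444) L20696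
theorem L20702 : sm gi N2381 = N2381 := ded_51_2 (flp_g L20696) L14447 L20696
theorem L20703 : sm gh N1652 = N2382 := rfl
theorem L20705 : sm gb N2382 = N1657 := ded_25_1 (flp_h L14479) (flp_b L14442) L20703
theorem L20707 : sm gf N2382 = N1653 := ded_47_1 (flp_h L14448) L14440 L20703
theorem L20709 : sm gj N2382 = N2382 := ded_52_1 (flp_h L20703) L14446 L20703
theorem L20710 : sm gi N1653 = N2383 := rfl
theorem L20712 : sm gb N2383 = N1658 := ded_26_1 (flp_i L14486) (flp_b L14450) L20710
theorem L20714 : sm ge N2383 = N2383 := ded_44_1 (flp_i L20710) L14452 L20710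
theorem L20715 : sm gj N2383 = N2383 := ded_53_1 (flp_i L20710) L14453 L20710
theorem L20716 : sm gh N2383 = N2383 := ded_54_1 (flp_i L20710) (flp_h L14448) L10104 L14448 L20710
theorem L20717 : sm gj N1654 = N2384 := rfl
theorem L20719 : sm gb N2384 = N1659 := ded_24_1 (flp_j L14493) (flp_b L14456) L20717
theorem L20721 : sm gc N2384 = N1821 := ded_31_1 (flp_j L15948) (flp_c L14458) L20717
theorem L20723 : sm ge N2384 = N1667 := ded_42_1 (flp_j L14564) (flp_e L14460) L20717
theorem L20725 : sm gi N2384 = N2384 := ded_53_2 (flp_j L20717) L14462 L20717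
theorem L20726 : sm gg N2384 = N2384 := ded_49_1 (flp_j L20717) (flp_g L14454) L10112 L14454 L20717
theorem L20727 : sm gg N1655 = N2385 := rfl
theorem L20729 : sm ga N2385 = N2385 := ded_15_1 (flp_g L20727) L14465 L20727
theorem L20730 : sm gc N2385 = N2385 := ded_30_1 (flp_g L20727) L14466 L20727
theorem L20731 : sm gd N2385 = N1668 := ded_36_1 (flp_g L14573) (flp_d L14469) L20727
theorem L20733 : sm ge N2385 = N1656 := ded_41_1 (flp_g L14472) L14463 L20727
theorem L20735 : sm gi N2385 = N2385 := ded_51_2 (flp_g L20727) L14468 L20727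
theorem L20736 : sm gh N1655 = N2386 := rfl
theorem L20738 : sm ga N2386 = N2386 := ded_17_1 (flp_h L20736) L14465 L20736
theorem L20739 : sm gc N2386 = N2386 := ded_32_1 (flp_h L20736) L14466 L20736
theorem L20740 : sm ge N2386 = N1657 := ded_43_1 (flp_h L14479) L14463 L20736
theorem L20742 : sm gf N2386 = N2386 := ded_47_1 (flp_h L20736) L14471 L20736
theorem L20743 : sm gj N2386 = N2386 := ded_52_1 (flp_h L20736) L14467 L20736
theorem L20744 : sm gj N1656 = N2387 := rfl
theorem L20746 : sm ga N2387 = N2387 := ded_16_1 (flp_j L20744) L14474 L20744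
theorem L20747 : sm gc N2387 = N2387 := ded_31_1 (flp_j L20744) L14475 L20744
theorem L20748 : sm gd N2387 = N1659 := ded_37_1 (flp_j L14493) (flp_d L14476) L20744
theorem L20750 : sm gi N2387 = N2387 := ded_53_2 (flp_j L20744) L14478 L20744
theorem L20751 : sm gg N2387 = N2387 := ded_49_1 (flp_j L20744) (flp_g L14472) L10122 L14472 L20744
theorem L20752 : sm gh N1656 = N2388 := rfl
theorem L20754 : sm ga N2388 = N2388 := ded_17_1 (flp_h L20752) L14474 L20752
theorem L20755 : sm gc N2388 = N2388 := ded_32_1 (flp_h L20752) L14475 L20752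
theorem L20756 : sm gg N2388 = N1657 := ded_50_1 (flp_h L14479) L14472 L20752
theorem L20758 : sm gi N1657 = N2389 := rfl
theorem L20760 : sm ga N2389 = N2389 := ded_18_1 (flp_i L20758) L14481 L20758
theorem L20761 : sm gc N2389 = N2389 := ded_33_1 (flp_i L20758) L14482 L20758
theorem L20762 : sm gf N2389 = N1658 := ded_48_1 (flp_i L14486) (flp_f L14483) L20758
theorem L20764 : sm gj N2389 = N2389 := ded_53_1 (flp_i L20758) L14485 L20758
theorem L20765 : sm gh N2389 = N2389 := ded_54_1 (flp_i L20758) (flp_h L14479) L10123 L14479 L20758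
theorem L20766 : sm ge N1660 = N2390 := rfl
theorem L20768 : sm ga N2390 = N1663 := ded_13_1 (flp_e L14530) (flp_a L14504) L20766
theorem L20770 : sm gb N2390 = N2390 := ded_21_1 (flp_e L20766) L14506 L20766
theorem L20771 : sm gc N2390 = N2390 := ded_28_1 (flp_e L20766) L14507 L20766
theorem L20772 : sm gj N2390 = N2390 := ded_42_2 (flp_e L20766) L14510 L20766
theorem L20773 : sm gi N2390 = N2390 := ded_44_2 (flp_e L20766) L14511 L20766
theorem L20774 : sm gf N2390 = N2390 := ded_40_2 (flp_e L20766) (flp_f L14502) L10157 L14502 L20766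
theorem L20775 : sm gg N1660 = N2391 := rfl
theorem L20777 : sm ga N2391 = N1664 := ded_15_1 (flp_g L14538) (flp_a L14504) L20775
theorem L20779 : sm gb N2391 = N2391 := ded_23_1 (flp_g L20775) L14506 L20775
theorem L20780 : sm gc N2391 = N2391 := ded_30_1 (flp_g L20775) L14507 L20775
theorem L20781 : sm gd N2391 = N1662 := ded_36_1 (flp_g L14521) (flp_d L14508) L20775
theorem L20783 : sm gi N2391 = N2391 := ded_51_2 (flp_g L20775) L14511 L20775
theorem L20784 : sm gf N2391 = N2391 := ded_45_1 (flp_g L20775) (flp_f L14502) L10153 L14502 L20775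
theorem L20785 : sm gh N1660 = N2392 := rfl
theorem L20787 : sm ga N2392 = N1665 := ded_17_1 (flp_h L14547) (flp_a L14504) L20785
theorem L20789 : sm gb N2392 = N2392 := ded_25_1 (flp_h L20785) L14506 L20785
theorem L20790 : sm gc N2392 = N2392 := ded_32_1 (flp_h L20785) L14507 L20785
theorem L20791 : sm gf N2392 = N1661 := ded_47_1 (flp_h L14512) L14502 L20785
theorem L20793 : sm gj N2392 = N2392 := ded_52_1 (flp_h L20785) L14510 L20785
theorem L20794 : sm gi N1661 = N2393 := rfl
theorem L20796 : sm ga N2393 = N1666 := ded_18_1 (flp_i L14555) (flp_a L14514) L20794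
theorem L20798 : sm gb N2393 = N2393 := ded_26_1 (flp_i L20794) L14516 L20794
theorem L20799 : sm gc N2393 = N2393 := ded_33_1 (flp_i L20794) L14517 L20794
theorem L20800 : sm ge N2393 = N2393 := ded_44_1 (flp_i L20794) L14518 L20794
theorem L20801 : sm gg N2393 = N2393 := ded_51_1 (flp_i L20794) L14519 L20794
theorem L20802 : sm gj N2393 = N2393 := ded_53_1 (flp_i L20794) L14520 L20794
theorem L20803 : sm gh N2393 = N2393 := ded_54_1 (flp_i L20794) (flp_h L14512) L10155 L14512 L20794
theorem L20804 : sm gj N1662 = N2394 := rfl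
theorem L20806 : sm ga N2394 = N1667 := ded_16_1 (flp_j L14564) (flp_a L14523) L20804
theorem L20808 : sm gb N2394 = N2394 := ded_24_1 (flp_j L20804) L14525 L20804
theorem L20809 : sm gc N2394 = N1825 := ded_31_1 (flp_j L15984) (flp_c L14526) L20804
theorem L20811 : sm gf N2394 = N2394 := ded_46_1 (flp_j L20804) L14529 L20804
theorem L20812 : sm gi N2394 = N2394 := ded_53_2 (flp_j L20804) L14528 L20804
theorem L20813 : sm gg N2394 = N2394 := ded_49_1 (flp_j L20804) (flp_g L14521) L10165 L14521 L20804
theorem L20814 : sm gg N1663 = N2395 := rfl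
theorem L20816 : sm gb N2395 = N1668 := ded_23_1 (flp_g L14573) (flp_b L14532) L20814
theorem L20818 : sm gc N2395 = N2395 := ded_30_1 (flp_g L20814) L14534 L20814
theorem L20819 : sm ge N2395 = N1664 := ded_41_1 (flp_g L14538) L14530 L20814
theorem L20821 : sm gi N2395 = N2395 := ded_51_2 (flp_g L20814) L14536 L20814
theorem L20822 : sm gh N1663 = N2396 := rfl
theorem L20824 : sm gb N2396 = N1669 := ded_25_1 (flp_h L14581) (flp_b L14532) L20822
theorem L20826 : sm gc N2396 = N2396 := ded_32_1 (flp_h L20822) L14534 L20822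
theorem L20827 : sm ge N2396 = N1665 := ded_43_1 (flp_h L14547) L14530 L20822
theorem L20829 : sm gf N2396 = N2396 := ded_47_1 (flp_h L20822) L14537 L20822
theorem L20830 : sm gj N2396 = N2396 := ded_52_1 (flp_h L20822) L14535 L20822
theorem L20831 : sm gj N1664 = N2397 := rfl
theorem L20833 : sm gb N2397 = N1670 := ded_24_1 (flp_j L14590) (flp_b L14540) L20831
theorem L20835 : sm gc N2397 = N2397 := ded_31_1 (flp_j L20831) L14542 L20831
theorem L20836 : sm gd N2397 = N1667 := ded_37_1 (flp_j L14564) (flp_d L14543) L20831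
theorem L20838 : sm gf N2397 = N2397 := ded_46_1 (flp_j L20831) L14546 L20831
theorem L20839 : sm gi N2397 = N2397 := ded_53_2 (flp_j L20831) L14545 L20831
theorem L20840 : sm gg N2397 = N2397 := ded_49_1 (flp_j L20831) (flp_g L14538) L10174 L14538 L20831
theorem L20841 : sm gh N1664 = N2398 := rfl
theorem L20843 : sm gb N2398 = N1671 := ded_25_1 (flp_h L14600) (flp_b L14540) L20841
theorem L20845 : sm gc N2398 = N2398 := ded_32_1 (flp_h L20841) L14542 L20841
theorem L20846 : sm gf N2398 = N2398 := ded_47_1 (flp_h L20841) L14546 L20841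
theorem L20847 : sm gg N2398 = N1665 := ded_50_1 (flp_h L14547) L14538 L20841
theorem L20849 : sm gi N1665 = N2399 := rfl
theorem L20851 : sm gb N2399 = N1672 := ded_26_1 (flp_i L14608) (flp_b L14549) L20849
theorem L20853 : sm gc N2399 = N2399 := ded_33_1 (flp_i L20849) L14551 L20849
theorem L20854 : sm gf N2399 = N1666 := ded_48_1 (flp_i L14555) (flp_f L14552) L20849
theorem L20856 : sm gj N2399 = N2399 := ded_53_1 (flp_i L20849) L14554 L20849
theorem L20857 : sm gh N2399 = N2399 := ded_54_1 (flp_i L20849) (flp_h L14547) L10175 L14547 L20849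
theorem L20858 : sm gf N1668 = N2400 := rfl
theorem L20860 : sm ga N2400 = N2400 := ded_14_1 (flp_f L20858) L14575 L20858
theorem L20861 : sm gc N2400 = N1673 := ded_29_1 (flp_f L14617) (flp_c L14576) L20858
theorem L20863 : sm gi N2400 = N2400 := ded_48_2 (flp_f L20858) L14580 L20858
theorem L20864 : sm ge N2400 = N2400 := ded_40_1 (flp_f L20858) L14578 L10208 (flp_e L14578) L20858
theorem L20865 : sm gg N2400 = N2400 := ded_45_2 (flp_f L20858) (flp_g L14573) L10199 L14573 L20858
theorem L20866 : sm gj N1668 = N2401 := rfl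
theorem L20868 : sm ga N2401 = N2401 := ded_16_1 (flp_j L20866) L14575 L20866
theorem L20869 : sm gc N2401 = N1674 := ded_31_1 (flp_j L14625) (flp_c L14576) L20866
theorem L20871 : sm ge N2401 = N1670 := ded_42_1 (flp_j L14590) (flp_e L14578) L20866
theorem L20873 : sm gi N2401 = N2401 := ded_53_2 (flp_j L20866) L14580 L20866
theorem L20874 : sm gg N2401 = N2401 := ded_49_1 (flp_j L20866) (flp_g L14573) L10197 L14573 L20866
theorem L20875 : sm gh N1668 = N2402 := rfl
theorem L20877 : sm ga N2402 = N2402 := ded_17_1 (flp_h L20875) L14575 L20875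
theorem L20878 : sm gc N2402 = N1675 := ded_32_1 (flp_h L14634) (flp_c L14576) L20875
theorem L20880 : sm ge N2402 = N1671 := ded_43_1 (flp_h L14600) (flp_e L14578) L20875
theorem L20882 : sm gg N2402 = N1669 := ded_50_1 (flp_h L14581) L14573 L20875
theorem L20884 : sm gd N1669 = N2403 := rfl
theorem L20886 : sm ga N2403 = N2403 := ded_12_1 (flp_d L20884) L14583 L20884
theorem L20887 : sm gf N2403 = N2403 := ded_35_2 (flp_d L20884) L14588 L20884
theorem L20888 : sm gj N2403 = N2403 := ded_37_2 (flp_d L20884) L14589 L20884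
theorem L20889 : sm gi N1669 = N2404 := rfl
theorem L20891 : sm ga N2404 = N2404 := ded_18_1 (flp_i L20889) L14583 L20889
theorem L20892 : sm gc N2404 = N1677 := ded_33_1 (flp_i L14650) (flp_c L14584) L20889
theorem L20894 : sm ge N2404 = N1672 := ded_44_1 (flp_i L14608) (flp_e L14586) L20889
theorem L20896 : sm gf N2404 = N2404 := ded_48_1 (flp_i L20889) L14588 L20889
theorem L20897 : sm gj N2404 = N2404 := ded_53_1 (flp_i L20889) L14589 L20889
theorem L20898 : sm gh N2404 = N2404 := ded_54_1 (flp_i L20889) (flp_h L14581) L10198 L14581 L20889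
theorem L20899 : sm gh N1670 = N2405 := rfl
theorem L20901 : sm ga N2405 = N2405 := ded_17_1 (flp_h L20899) L14592 L20899
theorem L20902 : sm gc N2405 = N1678 := ded_32_1 (flp_h L14659) (flp_c L14593) L20899
theorem L20904 : sm gf N2405 = N2405 := ded_47_1 (flp_h L20899) L14597 L20899
theorem L20905 : sm gg N2405 = N2405 := ded_50_1 (flp_h L20899) L14599 L20899
theorem L20906 : sm gj N2405 = N1671 := ded_52_1 (flp_h L14600) L14590 L20899
theorem L20908 : sm gi N1671 = N2406 := rfl
theorem L20910 : sm ga N2406 = N2406 := ded_18_1 (flp_i L20908) L14602 L20908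
theorem L20911 : sm gc N2406 = N1679 := ded_33_1 (flp_i L14668) (flp_c L14603) L20908
theorem L20913 : sm gf N2406 = N2406 := ded_48_1 (flp_i L20908) L14605 L20908
theorem L20914 : sm gg N2406 = N1672 := ded_51_1 (flp_i L14608) (flp_g L14606) L20908
theorem L20916 : sm gh N2406 = N2406 := ded_54_1 (flp_i L20908) (flp_h L14600) L10207 L14600 L20908
theorem L20917 : sm gj N1673 = N2407 := rfl
theorem L20919 : sm ga N2407 = N2407 := ded_16_1 (flp_j L20917) L14619 L20917
theorem L20920 : sm gb N2407 = N2407 := ded_24_1 (flp_j L20917) L14620 L20917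
theorem L20921 : sm gd N2407 = N2407 := ded_37_1 (flp_j L20917) L14621 L20917
theorem L20922 : sm ge N2407 = N2407 := ded_42_1 (flp_j L20917) L14623 L20917
theorem L20923 : sm gf N2407 = N1674 := ded_46_1 (flp_j L14625) L14617 L20917
theorem L20925 : sm gi N2407 = N2407 := ded_53_2 (flp_j L20917) L14622 L20917
theorem L20926 : sm gh N1673 = N2408 := rfl
theorem L20928 : sm ga N2408 = N2408 := ded_17_1 (flp_h L20926) L14619 L20926
theorem L20929 : sm gb N2408 = N2408 := ded_25_1 (flp_h L20926) L14620 L20926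
theorem L20930 : sm ge N2408 = N2408 := ded_43_1 (flp_h L20926) L14623 L20926
theorem L20931 : sm gf N2408 = N1675 := ded_47_1 (flp_h L14634) L14617 L20926
theorem L20933 : sm gg N2408 = N2408 := ded_50_1 (flp_h L20926) L14624 L20926
theorem L20934 : sm gh N1674 = N2409 := rfl
theorem L20936 : sm ga N2409 = N2409 := ded_17_1 (flp_h L20934) L14627 L20934
theorem L20937 : sm gb N2409 = N2409 := ded_25_1 (flp_h L20934) L14628 L20934
theorem L20938 : sm ge N2409 = N1678 := ded_43_1 (flp_h L14659) (flp_e L14630) L20934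
theorem L20940 : sm gg N2409 = N2409 := ded_50_1 (flp_h L20934) L14633 L20934
theorem L20941 : sm gj N2409 = N1675 := ded_52_1 (flp_h L14634) L14625 L20934
theorem L20943 : sm gd N1675 = N2410 := rfl
theorem L20945 : sm ga N2410 = N2410 := ded_12_1 (flp_d L20943) L14636 L20943
theorem L20946 : sm gb N2410 = N2410 := ded_20_1 (flp_d L20943) L14637 L20943
theorem L20947 : sm gg N2410 = N1676 := ded_36_2 (flp_d L14642) (flp_g L14640) L20943
theorem L20949 : sm ge N2410 = N2410 := ded_34_2 (flp_d L20943) L14638 L10266 (flp_e L14638) L20943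
theorem L20950 : sm gh N2410 = N2410 := ded_38_2 (flp_d L20943) (flp_h L14634) L10238 L14634 L20943
theorem L20951 : sm gi N1675 = N2411 := rfl
theorem L20953 : sm ga N2411 = N2411 := ded_18_1 (flp_i L20951) L14636 L20951
theorem L20954 : sm gb N2411 = N2411 := ded_26_1 (flp_i L20951) L14637 L20951
theorem L20955 : sm ge N2411 = N1679 := ded_44_1 (flp_i L14668) (flp_e L14638) L20951
theorem L20957 : sm gg N2411 = N1677 := ded_51_1 (flp_i L14650) (flp_g L14640) L20951
theorem L20959 : sm gh N2411 = N2411 := ded_54_1 (flp_i L20951) (flp_h L14634) L10241 L14634 L20951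
theorem L20960 : sm gc N1676 = N2412 := rfl
theorem L20962 : sm ga N2412 = N2412 := ded_11_1 (flp_c L20960) L14644 L20960
theorem L20963 : sm ge N2412 = N2412 := ded_28_2 (flp_c L20960) L14648 L20960
theorem L20964 : sm gf N2412 = N2412 := ded_29_2 (flp_c L20960) L14646 L20960
theorem L20965 : sm gj N2412 = N2412 := ded_31_2 (flp_c L20960) L14647 L20960
theorem L20966 : sm gh N2412 = N2412 := ded_32_2 (flp_c L20960) L14649 L20960
theorem L20967 : sm gi N1676 = N2413 := rfl
theorem L20969 : sm ga N2413 = N2413 := ded_18_1 (flp_i L20967) L14644 L20967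
theorem L20970 : sm gb N2413 = N2413 := ded_26_1 (flp_i L20967) L14645 L20967
theorem L20971 : sm gd N2413 = N1677 := ded_39_1 (flp_i L14650) L14642 L20967
theorem L20973 : sm ge N2413 = N2413 := ded_44_1 (flp_i L20967) L14648 L20967
theorem L20974 : sm gf N2413 = N2413 := ded_48_1 (flp_i L20967) L14646 L20967
theorem L20975 : sm gj N2413 = N2413 := ded_53_1 (flp_i L20967) L14647 L20967
theorem L20976 : sm gi N1678 = N2414 := rfl
theorem L20978 : sm ga N2414 = N2414 := ded_18_1 (flp_i L20976) L14661 L20976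
theorem L20979 : sm gb N2414 = N2414 := ded_26_1 (flp_i L20976) L14662 L20976
theorem L20980 : sm gd N2414 = N2414 := ded_39_1 (flp_i L20976) L14667 L20976
theorem L20981 : sm gf N2414 = N2414 := ded_48_1 (flp_i L20976) L14663 L20976
theorem L20982 : sm gg N2414 = N2414 := ded_51_1 (flp_i L20976) L14664 L20976
theorem L20983 : sm gj N2414 = N1679 := ded_53_1 (flp_i L14668) (flp_j L14665) L20976
theorem L20985 : sm gh N2414 = N2414 := ded_54_1 (flp_i L20976) (flp_h L14659) L10257 L14659 L20976
theorem L20986 : sm ge N1680 = N2415 := rfl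
theorem L20988 : sm ga N2415 = N1852 := ded_13_1 (flp_e L16225) (flp_a L14679) L20986
theorem L20990 : sm gb N2415 = N2415 := ded_21_1 (flp_e L20986) L14686 L20986
theorem L20991 : sm gc N2415 = N1681 := ded_28_1 (flp_e L14688) L14677 L20986
theorem L20993 : sm gg N2415 = N1685 := ded_41_2 (flp_e L14728) (flp_g L14682) L20986
theorem L20995 : sm gj N2415 = N2415 := ded_42_2 (flp_e L20986) L14684 L20986
theorem L20996 : sm gh N2415 = N2415 := ded_43_2 (flp_e L20986) L14685 L20986
theorem L20997 : sm gi N1680 = N2416 := rfl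
theorem L20999 : sm ga N2416 = N1853 := ded_18_1 (flp_i L16233) (flp_a L14679) L20997
theorem L21001 : sm gb N2416 = N2416 := ded_26_1 (flp_i L20997) L14686 L20997
theorem L21002 : sm gc N2416 = N1682 := ded_33_1 (flp_i L14697) L14677 L20997
theorem L21004 : sm gd N2416 = N2416 := ded_39_1 (flp_i L20997) L14687 L20997
theorem L21005 : sm gf N2416 = N2416 := ded_48_1 (flp_i L20997) L14681 L20997
theorem L21006 : sm gg N2416 = N1686 := ded_51_1 (flp_i L14739) (flp_g L14682) L20997
theorem L21008 : sm gj N2416 = N2416 := ded_53_1 (flp_i L20997) L14684 L20997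
theorem L21009 : sm gf N1681 = N2417 := rfl
theorem L21011 : sm ga N2417 = N1854 := ded_14_1 (flp_f L16242) (flp_a L14690) L21009
theorem L21013 : sm gd N2417 = N2417 := ded_35_1 (flp_f L21009) L14696 L21009
theorem L21014 : sm gj N2417 = N2417 := ded_46_2 (flp_f L21009) L14694 L21009
theorem L21015 : sm gh N2417 = N2417 := ded_47_2 (flp_f L21009) L14695 L21009
theorem L21016 : sm ge N2417 = N2417 := ded_40_1 (flp_f L21009) (flp_e L14688) L10280 L14688 L21009
theorem L21017 : sm gg N2417 = N2417 := ded_45_2 (flp_f L21009) L14692 L10324 (flp_g L14692) L21009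
theorem L21018 : sm gi N1681 = N2418 := rfl
theorem L21020 : sm ga N2418 = N1855 := ded_18_1 (flp_i L16250) (flp_a L14690) L21018
theorem L21022 : sm gd N2418 = N2418 := ded_39_1 (flp_i L21018) L14696 L21018
theorem L21023 : sm ge N2418 = N1682 := ded_44_1 (flp_i L14697) L14688 L21018
theorem L21025 : sm gg N2418 = N1687 := ded_51_1 (flp_i L14751) (flp_g L14692) L21018
theorem L21027 : sm gj N2418 = N2418 := ded_53_1 (flp_i L21018) L14694 L21018
theorem L21028 : sm gh N1682 = N2419 := rfl
theorem L21030 : sm ga N2419 = N1856 := ded_17_1 (flp_h L16259) (flp_a L14699) L21028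
theorem L21032 : sm gf N2419 = N2419 := ded_47_1 (flp_h L21028) L14703 L21028
theorem L21033 : sm gg N2419 = N1688 := ded_50_1 (flp_h L14761) (flp_g L14704) L21028
theorem L21035 : sm gj N2419 = N2419 := ded_52_1 (flp_h L21028) L14706 L21028
theorem L21036 : sm gi N2419 = N2419 := ded_54_2 (flp_h L21028) (flp_i L14697) L10284 L14697 L21028
theorem L21037 : sm gd N1683 = N2420 := rfl
theorem L21039 : sm ga N2420 = N1857 := ded_12_1 (flp_d L16267) (flp_a L14709) L21037
theorem L21041 : sm gf N2420 = N2420 := ded_35_2 (flp_d L21037) L14713 L21037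
theorem L21042 : sm gg N2420 = N1689 := ded_36_2 (flp_d L14770) (flp_g L14714) L21037
theorem L21044 : sm gj N2420 = N2420 := ded_37_2 (flp_d L21037) L14716 L21037
theorem L21045 : sm gi N2420 = N1684 := ded_39_2 (flp_d L14719) (flp_i L14717) L21037
theorem L21047 : sm gc N1684 = N2421 := rfl
theorem L21049 : sm ga N2421 = N1858 := ded_11_1 (flp_c L16276) (flp_a L14721) L21047
theorem L21051 : sm gf N2421 = N2421 := ded_29_2 (flp_c L21047) L14723 L21047
theorem L21052 : sm gg N2421 = N1690 := ded_30_2 (flp_c L14780) (flp_g L14724) L21047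
theorem L21054 : sm gj N2421 = N2421 := ded_31_2 (flp_c L21047) L14726 L21047
theorem L21055 : sm gh N2421 = N2421 := ded_32_2 (flp_c L21047) L14727 L21047
theorem L21056 : sm gd N2421 = N2421 := ded_27_2 (flp_c L21047) (flp_d L14719) L10299 L14719 L21047
theorem L21057 : sm ge N1684 = N2422 := rfl
theorem L21059 : sm ga N2422 = N1859 := ded_13_1 (flp_e L16284) (flp_a L14721) L21057
theorem L21061 : sm gg N2422 = N1691 := ded_41_2 (flp_e L14790) (flp_g L14724) L21057
theorem L21063 : sm gj N2422 = N2422 := ded_42_2 (flp_e L21057) L14726 L21057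
theorem L21064 : sm gh N2422 = N2422 := ded_43_2 (flp_e L21057) L14727 L21057
theorem L21065 : sm gd N2422 = N2422 := ded_34_1 (flp_e L21057) (flp_d L14719) L10300 L14719 L21057
theorem L21066 : sm gd N1685 = N2423 := rfl
theorem L21068 : sm ga N2423 = N1862 := ded_12_1 (flp_d L16313) (flp_a L14730) L21066
theorem L21070 : sm gb N2423 = N2423 := ded_20_1 (flp_d L21066) L14732 L21066
theorem L21071 : sm gf N2423 = N2423 := ded_35_2 (flp_d L21066) L14738 L21066
theorem L21072 : sm gj N2423 = N1692 := ded_37_2 (flp_d L14798) (flp_j L14735) L21066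
theorem L21074 : sm gc N2423 = N2423 := ded_27_1 (flp_d L21066) L14733 L10323 (flp_c L14733) L21066
theorem L21075 : sm ge N2423 = N2423 := ded_34_2 (flp_d L21066) (flp_e L14728) L10315 L14728 L21066
theorem L21076 : sm gi N1685 = N2424 := rfl
theorem L21078 : sm ga N2424 = N1863 := ded_18_1 (flp_i L16320) (flp_a L14730) L21076
theorem L21080 : sm gb N2424 = N2424 := ded_26_1 (flp_i L21076) L14732 L21076
theorem L21081 : sm gc N2424 = N1687 := ded_33_1 (flp_i L14751) (flp_c L14733) L21076
theorem L21083 : sm ge N2424 = N1686 := ded_44_1 (flp_i L14739) L14728 L21076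
theorem L21085 : sm gf N2424 = N2424 := ded_48_1 (flp_i L21076) L14738 L21076
theorem L21086 : sm gj N2424 = N1693 := ded_53_1 (flp_i L14807) (flp_j L14735) L21076
theorem L21088 : sm gh N1686 = N2425 := rfl
theorem L21090 : sm ga N2425 = N1864 := ded_17_1 (flp_h L16329) (flp_a L14741) L21088
theorem L21093 : sm gc N2425 = N1688 := ded_32_1 (flp_h L14761) (flp_c L14744) L21088
theorem L21095 : sm gf N2425 = N1702 := ded_47_1 (flp_h L14889) (flp_f L14747) L21088
theorem L21097 : sm gj N2425 = N1694 := ded_52_1 (flp_h L14818) (flp_j L14749) L21088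
theorem L21100 : sm gh N1687 = N2426 := rfl
theorem L21102 : sm ga N2426 = N1865 := ded_17_1 (flp_h L16338) (flp_a L14753) L21100
theorem L21104 : sm ge N2426 = N1688 := ded_43_1 (flp_h L14761) (flp_e L14756) L21100
theorem L21106 : sm gf N2426 = N2426 := ded_47_1 (flp_h L21100) L14758 L21100
theorem L21107 : sm gj N2426 = N1695 := ded_52_1 (flp_h L14829) (flp_j L14759) L21100
theorem L21109 : sm gi N2426 = N2426 := ded_54_2 (flp_h L21100) (flp_i L14751) L10322 L14751 L21100
theorem L21110 : sm gd N1688 = N2427 := rfl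
theorem L21112 : sm ga N2427 = N1866 := ded_12_1 (flp_d L16347) (flp_a L14763) L21110
theorem L21114 : sm gf N2427 = N1703 := ded_35_2 (flp_d L14901) (flp_f L14765) L21110
theorem L21116 : sm gj N2427 = N1696 := ded_37_2 (flp_d L14838) (flp_j L14767) L21110
theorem L21118 : sm gi N2427 = N2427 := ded_39_2 (flp_d L21110) L14769 L21110
theorem L21119 : sm gh N2427 = N1689 := ded_38_2 (flp_d L14770) (flp_h L10335) (flp_d L10329) L14761 L21110
theorem L21121 : sm gc N1689 = N2428 := rfl
theorem L21123 : sm ga N2428 = N1867 := ded_11_1 (flp_c L16357) (flp_a L14772) L21121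
theorem L21125 : sm gf N2428 = N1704 := ded_29_2 (flp_c L14911) (flp_f L14774) L21121
theorem L21127 : sm gj N2428 = N1697 := ded_31_2 (flp_c L14848) (flp_j L14776) L21121
theorem L21129 : sm gi N2428 = N1690 := ded_33_2 (flp_c L14780) (flp_i L14778) L21121
theorem L21131 : sm gd N2428 = N2428 := ded_27_2 (flp_c L21121) (flp_d L14770) L10339 L14770 L21121
theorem L21132 : sm ge N1689 = N2429 := rfl
theorem L21134 : sm ga N2429 = N1868 := ded_13_1 (flp_e L16366) (flp_a L14772) L21132
theorem L21136 : sm gj N2429 = N1698 := ded_42_2 (flp_e L14858) (flp_j L14776) L21132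
theorem L21138 : sm gi N2429 = N1691 := ded_44_2 (flp_e L14790) (flp_i L14778) L21132
theorem L21140 : sm gd N2429 = N2429 := ded_34_1 (flp_e L21132) (flp_d L14770) L10340 L14770 L21132
theorem L21141 : sm gb N1690 = N2430 := rfl
theorem L21143 : sm gd N2430 = N2430 := ded_20_2 (flp_b L21141) L14789 L21141
theorem L21144 : sm gf N2430 = N1706 := ded_22_2 (flp_b L14932) (flp_f L14784) L21141
theorem L21146 : sm gj N2430 = N1699 := ded_24_2 (flp_b L14866) (flp_j L14786) L21141
theorem L21148 : sm gh N2430 = N2430 := ded_25_2 (flp_b L21141) L14788 L21141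
theorem L21149 : sm ge N1690 = N2431 := rfl
theorem L21151 : sm ga N2431 = N1870 := ded_13_1 (flp_e L16383) (flp_a L14782) L21149
theorem L21153 : sm gc N2431 = N1691 := ded_28_1 (flp_e L14790) L14780 L21149
theorem L21155 : sm gj N2431 = N1700 := ded_42_2 (flp_e L14873) (flp_j L14786) L21149
theorem L21157 : sm gh N2431 = N2431 := ded_43_2 (flp_e L21149) L14788 L21149
theorem L21158 : sm gf N1691 = N2432 := rfl
theorem L21160 : sm ga N2432 = N1871 := ded_14_1 (flp_f L16390) (flp_a L14792) L21158
theorem L21162 : sm gd N2432 = N2432 := ded_35_1 (flp_f L21158) L14797 L21158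
theorem L21163 : sm gj N2432 = N1701 := ded_46_2 (flp_f L14881) (flp_j L14794) L21158
theorem L21165 : sm gh N2432 = N2432 := ded_47_2 (flp_f L21158) L14796 L21158
theorem L21166 : sm ge N2432 = N1708 := ded_40_1 (flp_f L14949) (flp_e L10458) (flp_f L10351) L14790 L21158
theorem L21168 : sm gh N1692 = N2433 := rfl
theorem L21170 : sm ga N2433 = N1875 := ded_17_1 (flp_h L16427) (flp_a L14800) L21168
theorem L21172 : sm gb N2433 = N2433 := ded_25_1 (flp_h L21168) L14802 L21168
theorem L21173 : sm gc N2433 = N2433 := ded_32_1 (flp_h L21168) L14805 L21168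
theorem L21174 : sm ge N2433 = N2433 := ded_43_1 (flp_h L21168) L14806 L21168
theorem L21175 : sm gf N2433 = N2433 := ded_47_1 (flp_h L21168) L14803 L21168
theorem L21176 : sm gg N2433 = N2433 := ded_50_1 (flp_h L21168) L14804 L21168
theorem L21177 : sm gd N2433 = N2433 := ded_38_1 (flp_h L21168) (flp_d L14798) L10364 L14798 L21168
theorem L21178 : sm gi N1692 = N2434 := rfl
theorem L21180 : sm ga N2434 = N1876 := ded_18_1 (flp_i L16434) (flp_a L14800) L21178
theorem L21182 : sm gb N2434 = N2434 := ded_26_1 (flp_i L21178) L14802 L21178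
theorem L21183 : sm gc N2434 = N2434 := ded_33_1 (flp_i L21178) L14805 L21178
theorem L21184 : sm gd N2434 = N1693 := ded_39_1 (flp_i L14807) L14798 L21178
theorem L21186 : sm ge N2434 = N2434 := ded_44_1 (flp_i L21178) L14806 L21178
theorem L21187 : sm gf N2434 = N2434 := ded_48_1 (flp_i L21178) L14803 L21178
theorem L21188 : sm gg N2434 = N2434 := ded_51_1 (flp_i L21178) L14804 L21178
theorem L21189 : sm gh N1693 = N2435 := rfl
theorem L21191 : sm ga N2435 = N1877 := ded_17_1 (flp_h L16442) (flp_a L14809) L21189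
theorem L21194 : sm gc N2435 = N1695 := ded_32_1 (flp_h L14829) (flp_c L14812) L21189
theorem L21196 : sm ge N2435 = N1694 := ded_43_1 (flp_h L14818) (flp_e L14814) L21189
theorem L21201 : sm gd N1694 = N2436 := rfl
theorem L21206 : sm gf N2436 = N1709 := ded_35_2 (flp_d L14958) (flp_f L14825) L21201
theorem L21211 : sm gd N1695 = N2437 := rfl
theorem L21213 : sm ga N2437 = N1879 := ded_12_1 (flp_d L16458) (flp_a L14831) L21211
theorem L21215 : sm gf N2437 = N2437 := ded_35_2 (flp_d L21211) L14835 L21211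
theorem L21216 : sm gg N2437 = N2437 := ded_36_2 (flp_d L21211) L14836 L21211
theorem L21217 : sm gi N2437 = N2437 := ded_39_2 (flp_d L21211) L14837 L21211
theorem L21218 : sm gh N2437 = N2437 := ded_38_2 (flp_d L21211) (flp_h L14829) L10381 L14829 L21211
theorem L21219 : sm gc N1696 = N2438 := rfl
theorem L21221 : sm ga N2438 = N1880 := ded_11_1 (flp_c L16465) (flp_a L14840) L21219
theorem L21223 : sm gf N2438 = N1710 := ded_29_2 (flp_c L14967) (flp_f L14842) L21219
theorem L21226 : sm gh N2438 = N1697 := ded_32_2 (flp_c L14848) (flp_h L14846) L21219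
theorem L21228 : sm gi N2438 = N2438 := ded_33_2 (flp_c L21219) L14845 L21219
theorem L21229 : sm ge N1696 = N2439 := rfl
theorem L21231 : sm ga N2439 = N1881 := ded_13_1 (flp_e L16473) (flp_a L14840) L21229
theorem L21233 : sm gg N2439 = N2439 := ded_41_2 (flp_e L21229) L14844 L21229
theorem L21234 : sm gh N2439 = N1698 := ded_43_2 (flp_e L14858) (flp_h L14846) L21229
theorem L21236 : sm gi N2439 = N2439 := ded_44_2 (flp_e L21229) L14845 L21229
theorem L21237 : sm gb N1697 = N2440 := rfl
theorem L21239 : sm gd N2440 = N2440 := ded_20_2 (flp_b L21237) L14857 L21237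
theorem L21240 : sm gf N2440 = N1712 := ded_22_2 (flp_b L14986) (flp_f L14852) L21237
theorem L21242 : sm gg N2440 = N2440 := ded_23_2 (flp_b L21237) L14854 L21237
theorem L21243 : sm gi N2440 = N1699 := ded_26_2 (flp_b L14866) (flp_i L14855) L21237
theorem L21245 : sm ge N1697 = N2441 := rfl
theorem L21247 : sm ga N2441 = N1883 := ded_13_1 (flp_e L16489) (flp_a L14850) L21245
theorem L21249 : sm gc N2441 = N1698 := ded_28_1 (flp_e L14858) L14848 L21245
theorem L21251 : sm gg N2441 = N2441 := ded_41_2 (flp_e L21245) L14854 L21245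
theorem L21252 : sm gi N2441 = N1700 := ded_44_2 (flp_e L14873) (flp_i L14855) L21245
theorem L21254 : sm gf N1698 = N2442 := rfl
theorem L21256 : sm ga N2442 = N1884 := ded_14_1 (flp_f L16496) (flp_a L14860) L21254
theorem L21258 : sm gd N2442 = N2442 := ded_35_1 (flp_f L21254) L14865 L21254
theorem L21259 : sm gi N2442 = N1701 := ded_48_2 (flp_f L14881) (flp_i L14863) L21254
theorem L21261 : sm ge N2442 = N1714 := ded_40_1 (flp_f L15003) (flp_e L10497) (flp_f L10398) L14858 L21254
theorem L21263 : sm ga N1699 = N2443 := rfl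
theorem L21265 : sm gd N2443 = N2443 := ded_12_2 (flp_a L21263) L14868 L21263
theorem L21266 : sm gf N2443 = N1715 := ded_14_2 (flp_a L15011) (flp_f L14869) L21263
theorem L21268 : sm gg N2443 = N2443 := ded_15_2 (flp_a L21263) L14871 L21263
theorem L21269 : sm gh N2443 = N2443 := ded_17_2 (flp_a L21263) L14872 L21263
theorem L21270 : sm gb N2443 = N1885 := ded_10_2 (flp_a L16504) (flp_b L11542) (flp_a L10405) L14866 L21263
theorem L21272 : sm ge N1699 = N2444 := rfl
theorem L21274 : sm gb N2444 = N1700 := ded_21_1 (flp_e L14873) L14866 L21272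
theorem L21276 : sm gg N2444 = N2444 := ded_41_2 (flp_e L21272) L14871 L21272
theorem L21277 : sm gh N2444 = N2444 := ded_43_2 (flp_e L21272) L14872 L21272
theorem L21278 : sm gd N1700 = N2445 := rfl
theorem L21280 : sm ga N2445 = N1887 := ded_12_1 (flp_d L16519) (flp_a L14875) L21278
theorem L21282 : sm gg N2445 = N2445 := ded_36_2 (flp_d L21278) L14879 L21278
theorem L21283 : sm gc N2445 = N2445 := ded_27_1 (flp_d L21278) L14877 L10418 (flp_c L14877) L21278
theorem L21284 : sm ge N2445 = N2445 := ded_34_2 (flp_d L21278) (flp_e L14873) L10411 L14873 L21278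
theorem L21285 : sm gf N1700 = N2446 := rfl
theorem L21287 : sm ga N2446 = N1888 := ded_14_1 (flp_f L16524) (flp_a L14875) L21285
theorem L21289 : sm gc N2446 = N1701 := ded_29_1 (flp_f L14881) (flp_c L14877) L21285
theorem L21291 : sm gh N2446 = N2446 := ded_47_2 (flp_f L21285) L14880 L21285
theorem L21292 : sm ge N2446 = N1718 := ded_40_1 (flp_f L15035) (flp_e L10513) (flp_f L10407) L14873 L21285
theorem L21294 : sm gg N1701 = N2447 := rfl
theorem L21296 : sm ga N2447 = N1889 := ded_15_1 (flp_g L16531) (flp_a L14883) L21294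
theorem L21298 : sm gd N2447 = N2447 := ded_36_1 (flp_g L21294) L14885 L21294
theorem L21299 : sm ge N2447 = N1719 := ded_41_1 (flp_g L15042) (flp_e L14887) L21294
theorem L21301 : sm gh N2447 = N2447 := ded_50_2 (flp_g L21294) L14886 L21294
theorem L21302 : sm gf N2447 = N2447 := ded_45_1 (flp_g L21294) (flp_f L14881) L10416 L14881 L21294
theorem L21303 : sm gd N1702 = N2448 := rfl
theorem L21308 : sm gg N2448 = N2448 := ded_36_2 (flp_d L21303) L14897 L21303
theorem L21309 : sm gj N2448 = N1709 := ded_37_2 (flp_d L14958) (flp_j L14898) L21303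
theorem L21313 : sm gc N1703 = N2449 := rfl
theorem L21315 : sm ga N2449 = N1892 := ded_11_1 (flp_c L16557) (flp_a L14903) L21313
theorem L21317 : sm gg N2449 = N2449 := ded_30_2 (flp_c L21313) L14905 L21313
theorem L21318 : sm gj N2449 = N1710 := ded_31_2 (flp_c L14967) (flp_j L14906) L21313
theorem L21320 : sm gh N2449 = N1704 := ded_32_2 (flp_c L14911) (flp_h L14909) L21313
theorem L21323 : sm ge N1703 = N2450 := rfl
theorem L21325 : sm ga N2450 = N1893 := ded_13_1 (flp_e L16565) (flp_a L14903) L21323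
theorem L21327 : sm gg N2450 = N2450 := ded_41_2 (flp_e L21323) L14905 L21323
theorem L21328 : sm gj N2450 = N1711 := ded_42_2 (flp_e L14976) (flp_j L14906) L21323
theorem L21330 : sm gh N2450 = N1705 := ded_43_2 (flp_e L14921) (flp_h L14909) L21323
theorem L21332 : sm gi N2450 = N2450 := ded_44_2 (flp_e L21323) L14908 L21323
theorem L21333 : sm gd N2450 = N2450 := ded_34_1 (flp_e L21323) (flp_d L14901) L10435 L14901 L21323
theorem L21334 : sm gb N1704 = N2451 := rfl
theorem L21336 : sm gd N2451 = N2451 := ded_20_2 (flp_b L21334) L14920 L21334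
theorem L21337 : sm gg N2451 = N2451 := ded_23_2 (flp_b L21334) L14915 L21334
theorem L21338 : sm gj N2451 = N1712 := ded_24_2 (flp_b L14986) (flp_j L14916) L21334
theorem L21340 : sm gi N2451 = N1706 := ded_26_2 (flp_b L14932) (flp_i L14918) L21334
theorem L21342 : sm ge N1704 = N2452 := rfl
theorem L21344 : sm ga N2452 = N1895 := ded_13_1 (flp_e L16584) (flp_a L14913) L21342
theorem L21346 : sm gc N2452 = N1705 := ded_28_1 (flp_e L14921) L14911 L21342
theorem L21348 : sm gg N2452 = N2452 := ded_41_2 (flp_e L21342) L14915 L21342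
theorem L21349 : sm gj N2452 = N1713 := ded_42_2 (flp_e L14993) (flp_j L14916) L21342
theorem L21351 : sm gi N2452 = N1707 := ded_44_2 (flp_e L14939) (flp_i L14918) L21342
theorem L21353 : sm gf N1705 = N2453 := rfl
theorem L21355 : sm ga N2453 = N1896 := ded_14_1 (flp_f L16593) (flp_a L14923) L21353
theorem L21357 : sm gd N2453 = N1739 := ded_35_1 (flp_f L15220) (flp_d L14930) L21353
theorem L21359 : sm gj N2453 = N1714 := ded_46_2 (flp_f L15003) (flp_j L14926) L21353
theorem L21361 : sm gi N2453 = N1708 := ded_48_2 (flp_f L14949) (flp_i L14928) L21353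
theorem L21363 : sm ga N1706 = N2454 := rfl
theorem L21365 : sm gd N2454 = N2454 := ded_12_2 (flp_a L21363) L14934 L21363
theorem L21366 : sm gg N2454 = N2454 := ded_15_2 (flp_a L21363) L14935 L21363
theorem L21367 : sm gj N2454 = N1715 := ded_16_2 (flp_a L15011) (flp_j L14936) L21363
theorem L21369 : sm gh N2454 = N2454 := ded_17_2 (flp_a L21363) L14938 L21363
theorem L21370 : sm gb N2454 = N1897 := ded_10_2 (flp_a L16602) (flp_b L11610) (flp_a L10451) L14932 L21363
theorem L21372 : sm ge N1706 = N2455 := rfl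
theorem L21374 : sm gb N2455 = N1707 := ded_21_1 (flp_e L14939) L14932 L21372
theorem L21376 : sm gg N2455 = N2455 := ded_41_2 (flp_e L21372) L14935 L21372
theorem L21377 : sm gj N2455 = N1716 := ded_42_2 (flp_e L15019) (flp_j L14936) L21372
theorem L21379 : sm gh N2455 = N2455 := ded_43_2 (flp_e L21372) L14938 L21372
theorem L21380 : sm gd N1707 = N2456 := rfl
theorem L21382 : sm ga N2456 = N1899 := ded_12_1 (flp_d L16619) (flp_a L14941) L21380
theorem L21384 : sm gg N2456 = N2456 := ded_36_2 (flp_d L21380) L14945 L21380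
theorem L21385 : sm gj N2456 = N1717 := ded_37_2 (flp_d L15026) (flp_j L14946) L21380
theorem L21387 : sm gc N2456 = N1742 := ded_27_1 (flp_d L15250) L10656 (flp_d L10466) (flp_c L14943) L21380
theorem L21389 : sm ge N2456 = N2456 := ded_34_2 (flp_d L21380) (flp_e L14939) L10457 L14939 L21380
theorem L21390 : sm gf N1707 = N2457 := rfl
theorem L21392 : sm ga N2457 = N1900 := ded_14_1 (flp_f L16627) (flp_a L14941) L21390
theorem L21394 : sm gc N2457 = N1708 := ded_29_1 (flp_f L14949) (flp_c L14943) L21390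
theorem L21396 : sm gj N2457 = N1718 := ded_46_2 (flp_f L15035) (flp_j L14946) L21390
theorem L21398 : sm gh N2457 = N2457 := ded_47_2 (flp_f L21390) L14948 L21390
theorem L21399 : sm gg N1708 = N2458 := rfl
theorem L21401 : sm ga N2458 = N1901 := ded_15_1 (flp_g L16634) (flp_a L14951) L21399
theorem L21403 : sm gd N2458 = N1744 := ded_36_1 (flp_g L15269) (flp_d L14953) L21399
theorem L21405 : sm gh N2458 = N2458 := ded_50_2 (flp_g L21399) L14957 L21399
theorem L21406 : sm gf N2458 = N2458 := ded_45_1 (flp_g L21399) (flp_f L14949) L10462 L14949 L21399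
theorem L21407 : sm gc N1709 = N2459 := rfl
theorem L21409 : sm ga N2459 = N1903 := ded_11_1 (flp_c L16650) (flp_a L14960) L21407
theorem L21411 : sm gg N2459 = N1720 := ded_30_2 (flp_c L15051) (flp_g L14963) L21407
theorem L21415 : sm gd N2459 = N1710 := ded_27_2 (flp_c L14967) (flp_d L10479) (flp_c L10473) L14958 L21407
theorem L21417 : sm ge N1709 = N2460 := rfl
theorem L21422 : sm gg N2460 = N1721 := ded_41_2 (flp_e L15061) (flp_g L14963) L21417
theorem L21427 : sm gb N1710 = N2461 := rfl
theorem L21429 : sm gg N2461 = N1722 := ded_23_2 (flp_b L15070) (flp_g L14971) L21427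
theorem L21431 : sm gh N2461 = N1712 := ded_25_2 (flp_b L14986) (flp_h L14973) L21427
theorem L21434 : sm ge N1710 = N2462 := rfl
theorem L21438 : sm gc N2462 = N1711 := ded_28_1 (flp_e L14976) L14967 L21434
theorem L21440 : sm gg N2462 = N1723 := ded_41_2 (flp_e L15077) (flp_g L14971) L21434
theorem L21442 : sm gh N2462 = N1713 := ded_43_2 (flp_e L14993) (flp_h L14973) L21434
theorem L21445 : sm gf N1711 = N2463 := rfl
theorem L21447 : sm ga N2463 = N1907 := ded_14_1 (flp_f L16682) (flp_a L14978) L21445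
theorem L21449 : sm gd N2463 = N2463 := ded_35_1 (flp_f L21445) L14985 L21445
theorem L21450 : sm gh N2463 = N1714 := ded_47_2 (flp_f L15003) (flp_h L14982) L21445
theorem L21452 : sm gi N2463 = N2463 := ded_48_2 (flp_f L21445) L14984 L21445
theorem L21453 : sm ga N1712 = N2464 := rfl
theorem L21456 : sm gg N2464 = N1725 := ded_15_2 (flp_a L15097) (flp_g L14989) L21453
theorem L21458 : sm gi N2464 = N1715 := ded_18_2 (flp_a L15011) (flp_i L14991) L21453
theorem L21460 : sm gb N2464 = N1908 := ded_10_2 (flp_a L16689) (flp_b L11666) (flp_a L10490) L14986 L21453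
theorem L21462 : sm ge N1712 = N2465 := rfl
theorem L21464 : sm gb N2465 = N1713 := ded_21_1 (flp_e L14993) L14986 L21462
theorem L21466 : sm gg N2465 = N1726 := ded_41_2 (flp_e L15106) (flp_g L14989) L21462
theorem L21468 : sm gi N2465 = N1716 := ded_44_2 (flp_e L15019) (flp_i L14991) L21462
theorem L21470 : sm gd N1713 = N2466 := rfl
theorem L21472 : sm ga N2466 = N1910 := ded_12_1 (flp_d L16706) (flp_a L14995) L21470
theorem L21474 : sm gg N2466 = N1727 := ded_36_2 (flp_d L15113) (flp_g L14999) L21470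
theorem L21476 : sm gi N2466 = N1717 := ded_39_2 (flp_d L15026) (flp_i L15001) L21470
theorem L21478 : sm gc N2466 = N1747 := ded_27_1 (flp_d L15297) L10685 (flp_d L10505) (flp_c L14997) L21470
theorem L21480 : sm ge N2466 = N2466 := ded_34_2 (flp_d L21470) (flp_e L14993) L10496 L14993 L21470
theorem L21481 : sm gf N1713 = N2467 := rfl
theorem L21483 : sm ga N2467 = N1911 := ded_14_1 (flp_f L16715) (flp_a L14995) L21481
theorem L21485 : sm gc N2467 = N1714 := ded_29_1 (flp_f L15003) (flp_c L14997) L21481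
theorem L21487 : sm gi N2467 = N1718 := ded_48_2 (flp_f L15035) (flp_i L15001) L21481
theorem L21489 : sm gg N1714 = N2468 := rfl
theorem L21491 : sm ga N2468 = N1912 := ded_15_1 (flp_g L16721) (flp_a L15005) L21489
theorem L21493 : sm gd N2468 = N1749 := ded_36_1 (flp_g L15316) (flp_d L15007) L21489
theorem L21495 : sm gi N2468 = N1719 := ded_51_2 (flp_g L15042) (flp_i L15009) L21489
theorem L21497 : sm gf N2468 = N1729 := ded_45_1 (flp_g L15133) (flp_f L10572) (flp_g L10501) L15003 L21489
theorem L21499 : sm ge N1715 = N2469 := rfl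
theorem L21501 : sm ga N2469 = N1716 := ded_13_1 (flp_e L15019) L15011 L21499
theorem L21503 : sm gb N2469 = N1913 := ded_21_1 (flp_e L16730) (flp_b L15017) L21499
theorem L21505 : sm gg N2469 = N1730 := ded_41_2 (flp_e L15142) (flp_g L15014) L21499
theorem L21507 : sm gh N2469 = N2469 := ded_43_2 (flp_e L21499) L15016 L21499
theorem L21508 : sm gd N1716 = N2470 := rfl
theorem L21510 : sm gb N2470 = N1717 := ded_20_1 (flp_d L15026) (flp_b L15021) L21508
theorem L21512 : sm gg N2470 = N1731 := ded_36_2 (flp_d L15150) (flp_g L15023) L21508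
theorem L21514 : sm ge N2470 = N2470 := ded_34_2 (flp_d L21508) (flp_e L15019) L10509 L15019 L21508
theorem L21515 : sm gf N1716 = N2471 := rfl
theorem L21517 : sm gb N2471 = N1718 := ded_22_1 (flp_f L15035) (flp_b L15021) L21515
theorem L21519 : sm gh N2471 = N2471 := ded_47_2 (flp_f L21515) L15025 L21515
theorem L21520 : sm gf N1717 = N2472 := rfl
theorem L21522 : sm ga N2472 = N1916 := ded_14_1 (flp_f L16751) (flp_a L15028) L21520
theorem L21524 : sm gc N2472 = N1753 := ded_29_1 (flp_f L15350) (flp_c L15032) L21520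
theorem L21526 : sm gd N2472 = N1718 := ded_35_1 (flp_f L15035) L15026 L21520
theorem L21528 : sm gh N1717 = N2473 := rfl
theorem L21530 : sm ga N2473 = N1917 := ded_17_1 (flp_h L16757) (flp_a L15028) L21528
theorem L21532 : sm gc N2473 = N1754 := ded_32_1 (flp_h L15356) (flp_c L15032) L21528
theorem L21534 : sm ge N2473 = N2473 := ded_43_1 (flp_h L21528) L15034 L21528
theorem L21535 : sm gg N2473 = N1734 := ded_50_1 (flp_h L15172) (flp_g L15030) L21528
theorem L21537 : sm gd N2473 = N2473 := ded_38_1 (flp_h L21528) (flp_d L15026) L10521 L15026 L21528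
theorem L21538 : sm gg N1718 = N2474 := rfl
theorem L21540 : sm ga N2474 = N1918 := ded_15_1 (flp_g L16765) (flp_a L15037) L21538
theorem L21542 : sm gc N2474 = N1719 := ded_30_1 (flp_g L15042) (flp_c L15039) L21538
theorem L21544 : sm gh N2474 = N2474 := ded_50_2 (flp_g L21538) L15041 L21538
theorem L21545 : sm gf N2474 = N1735 := ded_45_1 (flp_g L15181) (flp_f L10604) (flp_g L10519) L15035 L21538
theorem L21547 : sm gj N1719 = N2475 := rfl
theorem L21549 : sm ga N2475 = N1919 := ded_16_1 (flp_j L16772) (flp_a L15044) L21547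
theorem L21551 : sm gd N2475 = N1756 := ded_37_1 (flp_j L15376) (flp_d L15046) L21547
theorem L21553 : sm gf N2475 = N1736 := ded_46_1 (flp_j L15189) (flp_f L15049) L21547
theorem L21555 : sm gh N2475 = N2475 := ded_52_2 (flp_j L21547) L15048 L21547
theorem L21556 : sm gb N1720 = N2476 := rfl
theorem L21558 : sm gd N2476 = N1722 := ded_20_2 (flp_b L15070) (flp_d L15059) L21556
theorem L21561 : sm gj N2476 = N2476 := ded_24_2 (flp_b L21556) L15056 L21556
theorem L21565 : sm ge N1720 = N2477 := rfl
theorem L21567 : sm ga N2477 = N1923 := ded_13_1 (flp_e L16805) (flp_a L15053) L21565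
theorem L21569 : sm gc N2477 = N1721 := ded_28_1 (flp_e L15061) L15051 L21565
theorem L21574 : sm gf N1721 = N2478 := rfl
theorem L21576 : sm ga N2478 = N1924 := ded_14_1 (flp_f L16812) (flp_a L15063) L21574
theorem L21584 : sm ga N1722 = N2479 := rfl
theorem L21588 : sm gh N2479 = N1725 := ded_17_2 (flp_a L15097) (flp_h L15074) L21584
theorem L21591 : sm gb N2479 = N1925 := ded_10_2 (flp_a L16819) (flp_b L11747) (flp_a L10540) L15070 L21584
theorem L21593 : sm ge N1722 = N2480 := rfl
theorem L21595 : sm gb N2480 = N1723 := ded_21_1 (flp_e L15077) L15070 L21593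
theorem L21598 : sm gh N2480 = N1726 := ded_43_2 (flp_e L15106) (flp_h L15074) L21593
theorem L21601 : sm gd N1723 = N2481 := rfl
theorem L21603 : sm ga N2481 = N1927 := ded_12_1 (flp_d L16836) (flp_a L15079) L21601
theorem L21605 : sm gj N2481 = N2481 := ded_37_2 (flp_d L21601) L15083 L21601
theorem L21607 : sm gc N2481 = N2481 := ded_27_1 (flp_d L21601) L15081 L10555 (flp_c L15081) L21601
theorem L21608 : sm gf N1723 = N2482 := rfl
theorem L21612 : sm gc N2482 = N1724 := ded_29_1 (flp_f L15087) (flp_c L15081) L21608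
theorem L21615 : sm gh N2482 = N1728 := ded_47_2 (flp_f L15123) (flp_h L15084) L21608
theorem L21619 : sm gg N1724 = N2483 := rfl
theorem L21621 : sm ga N2483 = N1929 := ded_15_1 (flp_g L16850) (flp_a L15089) L21619
theorem L21623 : sm gd N2483 = N2483 := ded_36_1 (flp_g L21619) L15091 L21619
theorem L21624 : sm ge N2483 = N2483 := ded_41_1 (flp_g L21619) L15096 L21619
theorem L21625 : sm gh N2483 = N1729 := ded_50_2 (flp_g L15133) (flp_h L15093) L21619
theorem L21627 : sm gi N2483 = N2483 := ded_51_2 (flp_g L21619) L15095 L21619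
theorem L21628 : sm ge N1725 = N2484 := rfl
theorem L21630 : sm ga N2484 = N1726 := ded_13_1 (flp_e L15106) L15097 L21628
theorem L21632 : sm gb N2484 = N1930 := ded_21_1 (flp_e L16858) (flp_b L15104) L21628
theorem L21635 : sm gi N2484 = N1730 := ded_44_2 (flp_e L15142) (flp_i L15102) L21628
theorem L21637 : sm gd N1726 = N2485 := rfl
theorem L21639 : sm gb N2485 = N1727 := ded_20_1 (flp_d L15113) (flp_b L15108) L21637
theorem L21641 : sm gj N2485 = N2485 := ded_37_2 (flp_d L21637) L15110 L21637
theorem L21642 : sm gi N2485 = N1731 := ded_39_2 (flp_d L15150) (flp_i L15111) L21637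
theorem L21644 : sm ge N2485 = N2485 := ded_34_2 (flp_d L21637) (flp_e L15106) L10558 L15106 L21637
theorem L21645 : sm gf N1726 = N2486 := rfl
theorem L21647 : sm gb N2486 = N1728 := ded_22_1 (flp_f L15123) (flp_b L15108) L21645
theorem L21649 : sm gj N2486 = N2486 := ded_46_2 (flp_f L21645) L15110 L21645
theorem L21650 : sm gi N2486 = N1732 := ded_48_2 (flp_f L15156) (flp_i L15111) L21645
theorem L21652 : sm ge N2486 = N2486 := ded_40_1 (flp_f L21645) (flp_e L15106) L10559 L15106 L21645
theorem L21653 : sm gf N1727 = N2487 := rfl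
theorem L21655 : sm ga N2487 = N1933 := ded_14_1 (flp_f L16883) (flp_a L15115) L21653
theorem L21657 : sm gc N2487 = N1760 := ded_29_1 (flp_f L15413) (flp_c L15120) L21653
theorem L21659 : sm gd N2487 = N1728 := ded_35_1 (flp_f L15123) L15113 L21653
theorem L21661 : sm gj N2487 = N2487 := ded_46_2 (flp_f L21653) L15117 L21653
theorem L21662 : sm gi N2487 = N1733 := ded_48_2 (flp_f L15163) (flp_i L15118) L21653
theorem L21664 : sm gh N1727 = N2488 := rfl
theorem L21666 : sm ga N2488 = N1934 := ded_17_1 (flp_h L16892) (flp_a L15115) L21664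
theorem L21668 : sm gc N2488 = N1761 := ded_32_1 (flp_h L15422) (flp_c L15120) L21664
theorem L21672 : sm gg N1728 = N2489 := rfl
theorem L21674 : sm ga N2489 = N1935 := ded_15_1 (flp_g L16898) (flp_a L15125) L21672
theorem L21676 : sm gc N2489 = N1729 := ded_30_1 (flp_g L15133) (flp_c L15127) L21672
theorem L21678 : sm ge N2489 = N2489 := ded_41_1 (flp_g L21672) L15132 L21672
theorem L21679 : sm gi N2489 = N1735 := ded_51_2 (flp_g L15181) (flp_i L15130) L21672
theorem L21681 : sm gj N1729 = N2490 := rfl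
theorem L21683 : sm ga N2490 = N1936 := ded_16_1 (flp_j L16905) (flp_a L15135) L21681
theorem L21685 : sm gd N2490 = N1763 := ded_37_1 (flp_j L15440) (flp_d L15137) L21681
theorem L21687 : sm ge N2490 = N2490 := ded_42_1 (flp_j L21681) L15139 L21681
theorem L21688 : sm gi N2490 = N1736 := ded_53_2 (flp_j L15189) (flp_i L15140) L21681
theorem L21690 : sm gg N2490 = N2490 := ded_49_1 (flp_j L21681) (flp_g L15133) L10578 L15133 L21681
theorem L21691 : sm gd N1730 = N2491 := rfl
theorem L21693 : sm ga N2491 = N1731 := ded_12_1 (flp_d L15150) (flp_a L15144) L21691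
theorem L21695 : sm gb N2491 = N1937 := ded_20_1 (flp_d L16914) (flp_b L15146) L21691
theorem L21697 : sm gj N2491 = N2491 := ded_37_2 (flp_d L21691) L15148 L21691
theorem L21698 : sm ge N2491 = N2491 := ded_34_2 (flp_d L21691) (flp_e L15142) L10584 L15142 L21691
theorem L21699 : sm gf N1730 = N2492 := rfl
theorem L21701 : sm ga N2492 = N1732 := ded_14_1 (flp_f L15156) (flp_a L15144) L21699
theorem L21703 : sm gb N2492 = N1938 := ded_22_1 (flp_f L16920) (flp_b L15146) L21699
theorem L21705 : sm gj N2492 = N2492 := ded_46_2 (flp_f L21699) L15148 L21699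
theorem L21706 : sm gh N2492 = N2492 := ded_47_2 (flp_f L21699) L15149 L21699
theorem L21707 : sm ge N2492 = N2492 := ded_40_1 (flp_f L21699) (flp_e L15142) L10585 L15142 L21699
theorem L21708 : sm gc N1731 = N2493 := rfl
theorem L21710 : sm ge N2493 = N2493 := ded_28_2 (flp_c L21708) L15155 L21708
theorem L21711 : sm gj N2493 = N2493 := ded_31_2 (flp_c L21708) L15154 L21708
theorem L21712 : sm gb N2493 = N1766 := ded_19_1 (flp_c L15469) L10802 (flp_c L10601) (flp_b L15152) L21708
theorem L21714 : sm gf N1731 = N2494 := rfl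
theorem L21716 : sm gb N2494 = N1733 := ded_22_1 (flp_f L15163) (flp_b L15152) L21714
theorem L21718 : sm gd N2494 = N1732 := ded_35_1 (flp_f L15156) L15150 L21714
theorem L21720 : sm gj N2494 = N2494 := ded_46_2 (flp_f L21714) L15154 L21714
theorem L21721 : sm gh N1731 = N2495 := rfl
theorem L21723 : sm gb N2495 = N1734 := ded_25_1 (flp_h L15172) (flp_b L15152) L21721
theorem L21725 : sm ge N2495 = N2495 := ded_43_1 (flp_h L21721) L15155 L21721
theorem L21726 : sm gj N2495 = N2495 := ded_52_1 (flp_h L21721) L15154 L21721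
theorem L21727 : sm gd N2495 = N2495 := ded_38_1 (flp_h L21721) (flp_d L15150) L10595 L15150 L21721
theorem L21728 : sm gg N1732 = N2496 := rfl
theorem L21730 : sm gb N2496 = N1735 := ded_23_1 (flp_g L15181) (flp_b L15158) L21728
theorem L21732 : sm ge N2496 = N2496 := ded_41_1 (flp_g L21728) L15162 L21728
theorem L21733 : sm gh N2496 = N2496 := ded_50_2 (flp_g L21728) L15161 L21728
theorem L21734 : sm ge N1733 = N2497 := rfl
theorem L21736 : sm ga N2497 = N1943 := ded_13_1 (flp_e L16956) (flp_a L15165) L21734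
theorem L21738 : sm gc N2497 = N1770 := ded_28_1 (flp_e L15496) (flp_c L15167) L21734
theorem L21740 : sm gj N2497 = N2497 := ded_42_2 (flp_e L21734) L15171 L21734
theorem L21741 : sm gd N2497 = N2497 := ded_34_1 (flp_e L21734) L15169 L10612 (flp_d L15169) L21734
theorem L21742 : sm gf N2497 = N2497 := ded_40_2 (flp_e L21734) (flp_f L15163) L10603 L15163 L21734
theorem L21743 : sm gg N1733 = N2498 := rfl
theorem L21745 : sm ga N2498 = N1944 := ded_15_1 (flp_g L16963) (flp_a L15165) L21743
theorem L21747 : sm gc N2498 = N1771 := ded_30_1 (flp_g L15504) (flp_c L15167) L21743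
theorem L21749 : sm gd N2498 = N1735 := ded_36_1 (flp_g L15181) (flp_d L15169) L21743
theorem L21751 : sm gh N1733 = N2499 := rfl
theorem L21753 : sm ga N2499 = N1945 := ded_17_1 (flp_h L16969) (flp_a L15165) L21751
theorem L21755 : sm gc N2499 = N1772 := ded_32_1 (flp_h L15510) (flp_c L15167) L21751
theorem L21757 : sm gf N2499 = N1734 := ded_47_1 (flp_h L15172) L15163 L21751
theorem L21759 : sm gj N2499 = N2499 := ded_52_1 (flp_h L21751) L15171 L21751
theorem L21760 : sm gd N2499 = N2499 := ded_38_1 (flp_h L21751) L15169 L10611 (flp_d L15169) L21751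
theorem L21761 : sm gi N1734 = N2500 := rfl
theorem L21763 : sm ga N2500 = N1946 := ded_18_1 (flp_i L16977) (flp_a L15174) L21761
theorem L21765 : sm gc N2500 = N1773 := ded_33_1 (flp_i L15519) (flp_c L15176) L21761
theorem L21767 : sm gd N2500 = N2500 := ded_39_1 (flp_i L21761) L15180 L21761
theorem L21768 : sm ge N2500 = N2500 := ded_44_1 (flp_i L21761) L15178 L21761
theorem L21769 : sm gj N2500 = N2500 := ded_53_1 (flp_i L21761) L15179 L21761
theorem L21770 : sm gj N1735 = N2501 := rfl
theorem L21772 : sm ga N2501 = N1947 := ded_16_1 (flp_j L16984) (flp_a L15183) L21770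
theorem L21774 : sm gc N2501 = N1736 := ded_31_1 (flp_j L15189) (flp_c L15185) L21770
theorem L21776 : sm ge N2501 = N2501 := ded_42_1 (flp_j L21770) L15187 L21770
theorem L21777 : sm gh N2501 = N2501 := ded_52_2 (flp_j L21770) L15188 L21770
theorem L21778 : sm gg N2501 = N2501 := ded_49_1 (flp_j L21770) (flp_g L15181) L10610 L15181 L21770
theorem L21779 : sm ga N1737 = N2502 := rfl
theorem L21781 : sm gd N2502 = N2502 := ded_12_2 (flp_a L21779) L15200 L21779
theorem L21782 : sm gf N2502 = N2502 := ded_14_2 (flp_a L21779) L15201 L21779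
theorem L21783 : sm gg N2502 = N2502 := ded_15_2 (flp_a L21779) L15202 L21779
theorem L21784 : sm gj N2502 = N1745 := ded_16_2 (flp_a L15277) (flp_j L15203) L21779
theorem L21786 : sm gh N2502 = N2502 := ded_17_2 (flp_a L21779) L15205 L21779
theorem L21787 : sm gi N2502 = N1740 := ded_18_2 (flp_a L15230) (flp_i L15206) L21779
theorem L21789 : sm gb N2502 = N1948 := ded_10_2 (flp_a L16991) (flp_b L11861) (flp_a L10623) L15198 L21779
theorem L21791 : sm ge N1737 = N2503 := rfl
theorem L21793 : sm gb N2503 = N1738 := ded_21_1 (flp_e L15208) L15198 L21791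
theorem L21795 : sm gg N2503 = N2503 := ded_41_2 (flp_e L21791) L15202 L21791
theorem L21796 : sm gj N2503 = N1746 := ded_42_2 (flp_e L15288) (flp_j L15203) L21791
theorem L21798 : sm gh N2503 = N2503 := ded_43_2 (flp_e L21791) L15205 L21791
theorem L21799 : sm gi N2503 = N1741 := ded_44_2 (flp_e L15241) (flp_i L15206) L21791
theorem L21801 : sm gd N1738 = N2504 := rfl
theorem L21803 : sm ga N2504 = N1950 := ded_12_1 (flp_d L17013) (flp_a L15210) L21801
theorem L21805 : sm gg N2504 = N2504 := ded_36_2 (flp_d L21801) L15214 L21801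
theorem L21806 : sm gj N2504 = N1747 := ded_37_2 (flp_d L15297) (flp_j L15215) L21801
theorem L21808 : sm gi N2504 = N1742 := ded_39_2 (flp_d L15250) (flp_i L15218) L21801
theorem L21810 : sm ge N2504 = N2504 := ded_34_2 (flp_d L21801) (flp_e L15208) L10632 L15208 L21801
theorem L21811 : sm gf N1738 = N2505 := rfl
theorem L21813 : sm ga N2505 = N1951 := ded_14_1 (flp_f L17021) (flp_a L15210) L21811
theorem L21815 : sm gc N2505 = N1739 := ded_29_1 (flp_f L15220) (flp_c L15212) L21811
theorem L21817 : sm gj N2505 = N1748 := ded_46_2 (flp_f L15306) (flp_j L15215) L21811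
theorem L21819 : sm gh N2505 = N2505 := ded_47_2 (flp_f L21811) L15217 L21811
theorem L21820 : sm gi N2505 = N1743 := ded_48_2 (flp_f L15258) (flp_i L15218) L21811
theorem L21822 : sm ge N2505 = N2505 := ded_40_1 (flp_f L21811) (flp_e L15208) L10625 L15208 L21811
theorem L21823 : sm gg N1739 = N2506 := rfl
theorem L21825 : sm ga N2506 = N1952 := ded_15_1 (flp_g L17031) (flp_a L15222) L21823
theorem L21827 : sm ge N2506 = N2506 := ded_41_1 (flp_g L21823) L15229 L21823
theorem L21828 : sm gh N2506 = N2506 := ded_50_2 (flp_g L21823) L15226 L21823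
theorem L21829 : sm gi N2506 = N1744 := ded_51_2 (flp_g L15269) (flp_i L15227) L21823
theorem L21831 : sm gf N2506 = N2506 := ded_45_1 (flp_g L21823) (flp_f L15220) L10637 L15220 L21823
theorem L21832 : sm ge N1740 = N2507 := rfl
theorem L21834 : sm ga N2507 = N1741 := ded_13_1 (flp_e L15241) L15230 L21832
theorem L21836 : sm gb N2507 = N1953 := ded_21_1 (flp_e L17039) (flp_b L15239) L21832
theorem L21838 : sm gg N2507 = N2507 := ded_41_2 (flp_e L21832) L15234 L21832
theorem L21839 : sm gj N2507 = N1750 := ded_42_2 (flp_e L15326) (flp_j L15235) L21832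
theorem L21841 : sm gh N2507 = N1794 := ded_43_2 (flp_e L15708) (flp_h L15237) L21832
theorem L21843 : sm gd N1741 = N2508 := rfl
theorem L21845 : sm gb N2508 = N1742 := ded_20_1 (flp_d L15250) (flp_b L15243) L21843
theorem L21847 : sm gg N2508 = N2508 := ded_36_2 (flp_d L21843) L15245 L21843
theorem L21848 : sm gj N2508 = N1751 := ded_37_2 (flp_d L15336) (flp_j L15246) L21843
theorem L21850 : sm ge N2508 = N2508 := ded_34_2 (flp_d L21843) (flp_e L15241) L10645 L15241 L21843
theorem L21851 : sm gf N1741 = N2509 := rfl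
theorem L21853 : sm gb N2509 = N1743 := ded_22_1 (flp_f L15258) (flp_b L15243) L21851
theorem L21855 : sm gj N2509 = N1752 := ded_46_2 (flp_f L15343) (flp_j L15246) L21851
theorem L21857 : sm gh N2509 = N1796 := ded_47_2 (flp_f L15728) (flp_h L15248) L21851
theorem L21859 : sm ge N2509 = N2509 := ded_40_1 (flp_f L21851) (flp_e L15241) L10646 L15241 L21851
theorem L21860 : sm gf N1742 = N2510 := rfl
theorem L21862 : sm ga N2510 = N1956 := ded_14_1 (flp_f L17067) (flp_a L15252) L21860
theorem L21864 : sm gd N2510 = N1743 := ded_35_1 (flp_f L15258) L15250 L21860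
theorem L21866 : sm gj N2510 = N1753 := ded_46_2 (flp_f L15350) (flp_j L15255) L21860
theorem L21868 : sm gh N1742 = N2511 := rfl
theorem L21870 : sm ga N2511 = N1957 := ded_17_1 (flp_h L17073) (flp_a L15252) L21868
theorem L21872 : sm ge N2511 = N2511 := ded_43_1 (flp_h L21868) L15257 L21868
theorem L21873 : sm gg N2511 = N2511 := ded_50_1 (flp_h L21868) L15254 L21868
theorem L21874 : sm gj N2511 = N1754 := ded_52_1 (flp_h L15356) (flp_j L15255) L21868
theorem L21876 : sm gd N2511 = N1798 := ded_38_1 (flp_h L15746) (flp_d L11004) (flp_h L10661) L15250 L21868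
theorem L21878 : sm gg N1743 = N2512 := rfl
theorem L21880 : sm ga N2512 = N1958 := ded_15_1 (flp_g L17081) (flp_a L15260) L21878
theorem L21882 : sm gc N2512 = N1744 := ded_30_1 (flp_g L15269) (flp_c L15262) L21878
theorem L21884 : sm ge N2512 = N2512 := ded_41_1 (flp_g L21878) L15268 L21878
theorem L21885 : sm gh N2512 = N1799 := ded_50_2 (flp_g L15756) (flp_h L15266) L21878
theorem L21887 : sm gf N2512 = N2512 := ded_45_1 (flp_g L21878) (flp_f L15258) L10658 L15258 L21878
theorem L21888 : sm gj N1744 = N2513 := rfl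
theorem L21890 : sm ga N2513 = N1959 := ded_16_1 (flp_j L17089) (flp_a L15271) L21888
theorem L21892 : sm ge N2513 = N2513 := ded_42_1 (flp_j L21888) L15273 L21888
theorem L21893 : sm gf N2513 = N2513 := ded_46_1 (flp_j L21888) L15276 L21888
theorem L21894 : sm gh N2513 = N1800 := ded_52_2 (flp_j L15765) (flp_h L15274) L21888
theorem L21896 : sm gg N2513 = N1756 := ded_49_1 (flp_j L15376) (flp_g L10734) (flp_j L10667) L15269 L21888
theorem L21898 : sm ge N1745 = N2514 := rfl
theorem L21900 : sm ga N2514 = N1746 := ded_13_1 (flp_e L15288) L15277 L21898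
theorem L21902 : sm gb N2514 = N1960 := ded_21_1 (flp_e L17098) (flp_b L15286) L21898
theorem L21904 : sm gg N2514 = N1757 := ded_41_2 (flp_e L15385) (flp_g L15281) L21898
theorem L21906 : sm gh N2514 = N2514 := ded_43_2 (flp_e L21898) L15283 L21898
theorem L21907 : sm gi N2514 = N1750 := ded_44_2 (flp_e L15326) (flp_i L15284) L21898
theorem L21909 : sm gd N1746 = N2515 := rfl
theorem L21911 : sm gb N2515 = N1747 := ded_20_1 (flp_d L15297) (flp_b L15290) L21909
theorem L21913 : sm gg N2515 = N1758 := ded_36_2 (flp_d L15395) (flp_g L15292) L21909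
theorem L21915 : sm gi N2515 = N1751 := ded_39_2 (flp_d L15336) (flp_i L15295) L21909
theorem L21917 : sm ge N2515 = N2515 := ded_34_2 (flp_d L21909) (flp_e L15288) L10674 L15288 L21909
theorem L21918 : sm gf N1746 = N2516 := rfl
theorem L21920 : sm gb N2516 = N1748 := ded_22_1 (flp_f L15306) (flp_b L15290) L21918
theorem L21922 : sm gh N2516 = N2516 := ded_47_2 (flp_f L21918) L15294 L21918
theorem L21923 : sm gi N2516 = N1752 := ded_48_2 (flp_f L15343) (flp_i L15295) L21918
theorem L21925 : sm ge N2516 = N2516 := ded_40_1 (flp_f L21918) (flp_e L15288) L10675 L15288 L21918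
theorem L21926 : sm gf N1747 = N2517 := rfl
theorem L21928 : sm ga N2517 = N1963 := ded_14_1 (flp_f L17126) (flp_a L15299) L21926
theorem L21930 : sm gd N2517 = N1748 := ded_35_1 (flp_f L15306) L15297 L21926
theorem L21932 : sm gi N2517 = N1753 := ded_48_2 (flp_f L15350) (flp_i L15303) L21926
theorem L21934 : sm gh N1747 = N2518 := rfl
theorem L21936 : sm ga N2518 = N1964 := ded_17_1 (flp_h L17132) (flp_a L15299) L21934
theorem L21938 : sm ge N2518 = N2518 := ded_43_1 (flp_h L21934) L15305 L21934
theorem L21939 : sm gg N2518 = N1761 := ded_50_1 (flp_h L15422) (flp_g L15301) L21934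
theorem L21941 : sm gd N2518 = N2518 := ded_38_1 (flp_h L21934) (flp_d L15297) L10689 L15297 L21934
theorem L21942 : sm gg N1748 = N2519 := rfl
theorem L21944 : sm ga N2519 = N1965 := ded_15_1 (flp_g L17138) (flp_a L15308) L21942
theorem L21946 : sm gc N2519 = N1749 := ded_30_1 (flp_g L15316) (flp_c L15310) L21942
theorem L21948 : sm ge N2519 = N2519 := ded_41_1 (flp_g L21942) L15315 L21942
theorem L21949 : sm gh N2519 = N2519 := ded_50_2 (flp_g L21942) L15312 L21942
theorem L21950 : sm gi N2519 = N1755 := ded_51_2 (flp_g L15365) (flp_i L15313) L21942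
theorem L21952 : sm gf N2519 = N1762 := ded_45_1 (flp_g L15429) (flp_f L10770) (flp_g L10687) L15306 L21942
theorem L21954 : sm gj N1749 = N2520 := rfl
theorem L21956 : sm ga N2520 = N1966 := ded_16_1 (flp_j L17148) (flp_a L15318) L21954
theorem L21958 : sm ge N2520 = N2520 := ded_42_1 (flp_j L21954) L15320 L21954
theorem L21959 : sm gf N2520 = N1763 := ded_46_1 (flp_j L15440) (flp_f L15324) L21954
theorem L21961 : sm gh N2520 = N2520 := ded_52_2 (flp_j L21954) L15321 L21954
theorem L21962 : sm gi N2520 = N1756 := ded_53_2 (flp_j L15376) (flp_i L15322) L21954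
theorem L21964 : sm gd N1750 = N2521 := rfl
theorem L21966 : sm ga N2521 = N1751 := ded_12_1 (flp_d L15336) (flp_a L15328) L21964
theorem L21968 : sm gb N2521 = N1967 := ded_20_1 (flp_d L17157) (flp_b L15330) L21964
theorem L21970 : sm gg N2521 = N1764 := ded_36_2 (flp_d L15450) (flp_g L15332) L21964
theorem L21972 : sm ge N2521 = N2521 := ded_34_2 (flp_d L21964) (flp_e L15326) L10702 L15326 L21964
theorem L21973 : sm gf N1750 = N2522 := rfl
theorem L21975 : sm ga N2522 = N1752 := ded_14_1 (flp_f L15343) (flp_a L15328) L21973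
theorem L21977 : sm gb N2522 = N1968 := ded_22_1 (flp_f L17164) (flp_b L15330) L21973
theorem L21979 : sm gh N2522 = N1802 := ded_47_2 (flp_f L15786) (flp_h L15334) L21973
theorem L21981 : sm ge N2522 = N2522 := ded_40_1 (flp_f L21973) (flp_e L15326) L10703 L15326 L21973
theorem L21982 : sm gc N1751 = N2523 := rfl
theorem L21984 : sm ge N2523 = N2523 := ded_28_2 (flp_c L21982) L15342 L21982
theorem L21985 : sm gg N2523 = N1766 := ded_30_2 (flp_c L15469) (flp_g L15340) L21982
theorem L21987 : sm gf N1751 = N2524 := rfl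
theorem L21989 : sm gb N2524 = N1753 := ded_22_1 (flp_f L15350) (flp_b L15338) L21987
theorem L21991 : sm gd N2524 = N1752 := ded_35_1 (flp_f L15343) L15336 L21987
theorem L21993 : sm gh N1751 = N2525 := rfl
theorem L21995 : sm gb N2525 = N1754 := ded_25_1 (flp_h L15356) (flp_b L15338) L21993
theorem L21997 : sm ge N2525 = N2525 := ded_43_1 (flp_h L21993) L15342 L21993
theorem L21998 : sm gg N2525 = N1768 := ded_50_1 (flp_h L15480) (flp_g L15340) L21993
theorem L22000 : sm gd N2525 = N1805 := ded_38_1 (flp_h L15809) (flp_d L11042) (flp_h L10716) L15336 L21993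
theorem L22002 : sm gg N1752 = N2526 := rfl
theorem L22004 : sm gb N2526 = N1755 := ded_23_1 (flp_g L15365) (flp_b L15345) L22002
theorem L22006 : sm ge N2526 = N2526 := ded_41_1 (flp_g L22002) L15349 L22002
theorem L22007 : sm gh N2526 = N1806 := ded_50_2 (flp_g L15817) (flp_h L15347) L22002
theorem L22009 : sm gf N2526 = N1769 := ded_45_1 (flp_g L15488) (flp_f L10806) (flp_g L10714) L15343 L22002
theorem L22011 : sm ge N1753 = N2527 := rfl
theorem L22013 : sm ga N2527 = N1973 := ded_13_1 (flp_e L17203) (flp_a L15352) L22011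
theorem L22015 : sm gd N2527 = N2527 := ded_34_1 (flp_e L22011) L15354 L10733 (flp_d L15354) L22011
theorem L22016 : sm gf N2527 = N2527 := ded_40_2 (flp_e L22011) (flp_f L15350) L10724 L15350 L22011
theorem L22017 : sm gg N1753 = N2528 := rfl
theorem L22019 : sm ga N2528 = N1974 := ded_15_1 (flp_g L17207) (flp_a L15352) L22017
theorem L22021 : sm gd N2528 = N1755 := ded_36_1 (flp_g L15365) (flp_d L15354) L22017
theorem L22023 : sm gf N2528 = N1771 := ded_45_1 (flp_g L15504) (flp_f L10815) (flp_g L10722) L15350 L22017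
theorem L22025 : sm gh N1753 = N2529 := rfl
theorem L22027 : sm ga N2529 = N1975 := ded_17_1 (flp_h L17213) (flp_a L15352) L22025
theorem L22029 : sm gf N2529 = N1754 := ded_47_1 (flp_h L15356) L15350 L22025
theorem L22031 : sm gd N2529 = N1809 := ded_38_1 (flp_h L15844) L11062 (flp_h L10731) (flp_d L15354) L22025
theorem L22033 : sm gi N1754 = N2530 := rfl
theorem L22035 : sm ga N2530 = N1976 := ded_18_1 (flp_i L17219) (flp_a L15358) L22033
theorem L22037 : sm gd N2530 = N1810 := ded_39_1 (flp_i L15851) (flp_d L15363) L22033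
theorem L22039 : sm ge N2530 = N2530 := ded_44_1 (flp_i L22033) L15360 L22033
theorem L22040 : sm gg N2530 = N1773 := ded_51_1 (flp_i L15519) (flp_g L15361) L22033
theorem L22042 : sm gj N1755 = N2531 := rfl
theorem L22044 : sm ga N2531 = N1977 := ded_16_1 (flp_j L17226) (flp_a L15367) L22042
theorem L22046 : sm gc N2531 = N1756 := ded_31_1 (flp_j L15376) (flp_c L15369) L22042
theorem L22048 : sm ge N2531 = N2531 := ded_42_1 (flp_j L22042) L15371 L22042
theorem L22049 : sm gf N2531 = N1774 := ded_46_1 (flp_j L15527) (flp_f L15374) L22042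
theorem L22051 : sm gh N2531 = N1811 := ded_52_2 (flp_j L15861) (flp_h L15372) L22042
theorem L22053 : sm gd N1757 = N2532 := rfl
theorem L22055 : sm ga N2532 = N1758 := ded_12_1 (flp_d L15395) (flp_a L15387) L22053
theorem L22057 : sm gb N2532 = N1978 := ded_20_1 (flp_d L17235) (flp_b L15389) L22053
theorem L22059 : sm gj N2532 = N2532 := ded_37_2 (flp_d L22053) L15391 L22053
theorem L22060 : sm gi N2532 = N1764 := ded_39_2 (flp_d L15450) (flp_i L15393) L22053
theorem L22062 : sm ge N2532 = N2532 := ded_34_2 (flp_d L22053) (flp_e L15385) L10745 L15385 L22053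
theorem L22063 : sm gf N1757 = N2533 := rfl
theorem L22065 : sm ga N2533 = N1759 := ded_14_1 (flp_f L15403) (flp_a L15387) L22063
theorem L22067 : sm gb N2533 = N1979 := ded_22_1 (flp_f L17243) (flp_b L15389) L22063
theorem L22069 : sm gj N2533 = N2533 := ded_46_2 (flp_f L22063) L15391 L22063
theorem L22070 : sm gh N2533 = N2533 := ded_47_2 (flp_f L22063) L15392 L22063
theorem L22071 : sm gi N2533 = N1765 := ded_48_2 (flp_f L15458) (flp_i L15393) L22063
theorem L22073 : sm ge N2533 = N1776 := ded_40_1 (flp_f L15549) (flp_e L10849) (flp_f L10746) L15385 L22063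
theorem L22075 : sm gc N1758 = N2534 := rfl
theorem L22077 : sm ge N2534 = N2534 := ded_28_2 (flp_c L22075) L15402 L22075
theorem L22078 : sm gj N2534 = N2534 := ded_31_2 (flp_c L22075) L15399 L22075
theorem L22079 : sm gi N2534 = N1766 := ded_33_2 (flp_c L15469) (flp_i L15400) L22075
theorem L22081 : sm gf N1758 = N2535 := rfl
theorem L22083 : sm gb N2535 = N1760 := ded_22_1 (flp_f L15413) (flp_b L15397) L22081
theorem L22085 : sm gd N2535 = N1759 := ded_35_1 (flp_f L15403) L15395 L22081
theorem L22087 : sm gj N2535 = N2535 := ded_46_2 (flp_f L22081) L15399 L22081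
theorem L22088 : sm gi N2535 = N1767 := ded_48_2 (flp_f L15473) (flp_i L15400) L22081
theorem L22090 : sm gh N1758 = N2536 := rfl
theorem L22092 : sm gb N2536 = N1761 := ded_25_1 (flp_h L15422) (flp_b L15397) L22090
theorem L22094 : sm ge N2536 = N2536 := ded_43_1 (flp_h L22090) L15402 L22090
theorem L22095 : sm gj N2536 = N2536 := ded_52_1 (flp_h L22090) L15399 L22090
theorem L22096 : sm gd N2536 = N2536 := ded_38_1 (flp_h L22090) (flp_d L15395) L10759 L15395 L22090
theorem L22097 : sm gg N1759 = N2537 := rfl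
theorem L22099 : sm gb N2537 = N1762 := ded_23_1 (flp_g L15429) (flp_b L15405) L22097
theorem L22101 : sm ge N2537 = N1780 := ded_41_1 (flp_g L15585) (flp_e L15411) L22097
theorem L22103 : sm gh N2537 = N2537 := ded_50_2 (flp_g L22097) L15408 L22097
theorem L22104 : sm gi N2537 = N1769 := ded_51_2 (flp_g L15488) (flp_i L15409) L22097
theorem L22106 : sm ge N1760 = N2538 := rfl
theorem L22108 : sm ga N2538 = N1984 := ded_13_1 (flp_e L17287) (flp_a L15415) L22106
theorem L22110 : sm gj N2538 = N2538 := ded_42_2 (flp_e L22106) L15419 L22106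
theorem L22111 : sm gi N2538 = N1770 := ded_44_2 (flp_e L15496) (flp_i L15420) L22106
theorem L22113 : sm gd N2538 = N1781 := ded_34_1 (flp_e L15593) L10882 (flp_e L10780) (flp_d L15417) L22106
theorem L22115 : sm gf N2538 = N2538 := ded_40_2 (flp_e L22106) (flp_f L15413) L10769 L15413 L22106
theorem L22116 : sm gg N1760 = N2539 := rfl
theorem L22118 : sm ga N2539 = N1985 := ded_15_1 (flp_g L17295) (flp_a L15415) L22116
theorem L22120 : sm gd N2539 = N1762 := ded_36_1 (flp_g L15429) (flp_d L15417) L22116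
theorem L22122 : sm gi N2539 = N1771 := ded_51_2 (flp_g L15504) (flp_i L15420) L22116
theorem L22124 : sm gh N1760 = N2540 := rfl
theorem L22126 : sm ga N2540 = N1986 := ded_17_1 (flp_h L17301) (flp_a L15415) L22124
theorem L22128 : sm gf N2540 = N1761 := ded_47_1 (flp_h L15422) L15413 L22124
theorem L22130 : sm gj N2540 = N2540 := ded_52_1 (flp_h L22124) L15419 L22124
theorem L22131 : sm gd N2540 = N2540 := ded_38_1 (flp_h L22124) L15417 L10777 (flp_d L15417) L22124
theorem L22132 : sm gi N1761 = N2541 := rfl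
theorem L22134 : sm ga N2541 = N1987 := ded_18_1 (flp_i L17307) (flp_a L15424) L22132
theorem L22136 : sm gd N2541 = N2541 := ded_39_1 (flp_i L22132) L15428 L22132
theorem L22137 : sm ge N2541 = N2541 := ded_44_1 (flp_i L22132) L15426 L22132
theorem L22138 : sm gj N2541 = N2541 := ded_53_1 (flp_i L22132) L15427 L22132
theorem L22139 : sm gh N2541 = N1773 := ded_54_1 (flp_i L15519) (flp_h L10822) (flp_i L10767) L15422 L22132
theorem L22141 : sm gj N1762 = N2542 := rfl
theorem L22143 : sm ga N2542 = N1988 := ded_16_1 (flp_j L17314) (flp_a L15431) L22141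
theorem L22145 : sm gc N2542 = N1763 := ded_31_1 (flp_j L15440) (flp_c L15433) L22141
theorem L22147 : sm ge N2542 = N1784 := ded_42_1 (flp_j L15622) (flp_e L15435) L22141
theorem L22149 : sm gh N2542 = N2542 := ded_52_2 (flp_j L22141) L15437 L22141
theorem L22150 : sm gi N2542 = N1774 := ded_53_2 (flp_j L15527) (flp_i L15438) L22141
theorem L22152 : sm gg N2542 = N2542 := ded_49_1 (flp_j L22141) (flp_g L15429) L10776 L15429 L22141
theorem L22153 : sm gc N1764 = N2543 := rfl
theorem L22155 : sm ga N2543 = N1766 := ded_11_1 (flp_c L15469) (flp_a L15452) L22153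
theorem L22157 : sm ge N2543 = N2543 := ded_28_2 (flp_c L22153) L15457 L22153
theorem L22158 : sm gj N2543 = N2543 := ded_31_2 (flp_c L22153) L15456 L22153
theorem L22159 : sm gf N1764 = N2544 := rfl
theorem L22161 : sm ga N2544 = N1767 := ded_14_1 (flp_f L15473) (flp_a L15452) L22159
theorem L22163 : sm gb N2544 = N1990 := ded_22_1 (flp_f L17331) (flp_b L15454) L22159
theorem L22165 : sm gd N2544 = N1765 := ded_35_1 (flp_f L15458) L15450 L22159
theorem L22167 : sm gj N2544 = N2544 := ded_46_2 (flp_f L22159) L15456 L22159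
theorem L22168 : sm gh N1764 = N2545 := rfl
theorem L22172 : sm gb N2545 = N1991 := ded_25_1 (flp_h L17338) (flp_b L15454) L22168
theorem L22176 : sm gd N2545 = N1814 := ded_38_1 (flp_h L15890) (flp_d L11093) (flp_h L10798) L15450 L22168
theorem L22178 : sm gg N1765 = N2546 := rfl
theorem L22180 : sm ga N2546 = N1769 := ded_15_1 (flp_g L15488) (flp_a L15460) L22178
theorem L22182 : sm gb N2546 = N1992 := ded_23_1 (flp_g L17346) (flp_b L15462) L22178
theorem L22184 : sm ge N2546 = N1787 := ded_41_1 (flp_g L15651) (flp_e L15467) L22178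
theorem L22186 : sm gh N2546 = N1815 := ded_50_2 (flp_g L15899) (flp_h L15465) L22178
theorem L22188 : sm gf N1766 = N2547 := rfl
theorem L22190 : sm gc N2547 = N1767 := ded_29_1 (flp_f L15473) L15469 L22188
theorem L22192 : sm gj N2547 = N2547 := ded_46_2 (flp_f L22188) L15472 L22188
theorem L22193 : sm gh N1766 = N2548 := rfl
theorem L22195 : sm gc N2548 = N1768 := ded_32_1 (flp_h L15480) L15469 L22193
theorem L22197 : sm ge N2548 = N2548 := ded_43_1 (flp_h L22193) L15471 L22193
theorem L22198 : sm gj N2548 = N2548 := ded_52_1 (flp_h L22193) L15472 L22193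
theorem L22199 : sm ge N1767 = N2549 := rfl
theorem L22201 : sm gb N2549 = N1770 := ded_21_1 (flp_e L15496) (flp_b L15475) L22199
theorem L22203 : sm gj N2549 = N2549 := ded_42_2 (flp_e L22199) L15479 L22199
theorem L22204 : sm gd N2549 = N1789 := ded_34_1 (flp_e L15667) L10947 (flp_e L10813) (flp_d L15477) L22199
theorem L22206 : sm gf N2549 = N2549 := ded_40_2 (flp_e L22199) (flp_f L15473) L10805 L15473 L22199
theorem L22207 : sm gg N1767 = N2550 := rfl
theorem L22209 : sm gb N2550 = N1771 := ded_23_1 (flp_g L15504) (flp_b L15475) L22207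
theorem L22211 : sm gd N2550 = N1769 := ded_36_1 (flp_g L15488) (flp_d L15477) L22207
theorem L22213 : sm gh N1767 = N2551 := rfl
theorem L22215 : sm gb N2551 = N1772 := ded_25_1 (flp_h L15510) (flp_b L15475) L22213
theorem L22217 : sm gf N2551 = N1768 := ded_47_1 (flp_h L15480) L15473 L22213
theorem L22219 : sm gj N2551 = N2551 := ded_52_1 (flp_h L22213) L15479 L22213
theorem L22220 : sm gd N2551 = N1819 := ded_38_1 (flp_h L15932) L11124 (flp_h L10811) (flp_d L15477) L22213
theorem L22222 : sm gi N1768 = N2552 := rfl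
theorem L22230 : sm gj N1769 = N2553 := rfl
theorem L22232 : sm gb N2553 = N1774 := ded_24_1 (flp_j L15527) (flp_b L15490) L22230
theorem L22234 : sm ge N2553 = N1791 := ded_42_1 (flp_j L15682) (flp_e L15492) L22230
theorem L22236 : sm gh N2553 = N1821 := ded_52_2 (flp_j L15948) (flp_h L15494) L22230
theorem L22238 : sm gg N2553 = N2553 := ded_49_1 (flp_j L22230) (flp_g L15488) L10810 L15488 L22230
theorem L22239 : sm gg N1770 = N2554 := rfl
theorem L22241 : sm ga N2554 = N2000 := ded_15_1 (flp_g L17408) (flp_a L15498) L22239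
theorem L22243 : sm gd N2554 = N1792 := ded_36_1 (flp_g L15690) (flp_d L15501) L22239
theorem L22245 : sm ge N2554 = N1771 := ded_41_1 (flp_g L15504) L15496 L22239
theorem L22247 : sm gh N1770 = N2555 := rfl
theorem L22249 : sm ga N2555 = N2001 := ded_17_1 (flp_h L17414) (flp_a L15498) L22247
theorem L22251 : sm ge N2555 = N1772 := ded_43_1 (flp_h L15510) L15496 L22247
theorem L22253 : sm gf N2555 = N2555 := ded_47_1 (flp_h L22247) L15503 L22247
theorem L22254 : sm gj N2555 = N2555 := ded_52_1 (flp_h L22247) L15500 L22247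
theorem L22255 : sm gd N2555 = N2555 := ded_38_1 (flp_h L22247) L15501 L10964 (flp_d L15501) L22247
theorem L22256 : sm gj N1771 = N2556 := rfl
theorem L22258 : sm ga N2556 = N2002 := ded_16_1 (flp_j L17421) (flp_a L15506) L22256
theorem L22260 : sm gd N2556 = N1774 := ded_37_1 (flp_j L15527) (flp_d L15508) L22256
theorem L22262 : sm gg N2556 = N2556 := ded_49_1 (flp_j L22256) (flp_g L15504) L10821 L15504 L22256
theorem L22263 : sm gh N1771 = N2557 := rfl
theorem L22265 : sm ga N2557 = N2003 := ded_17_1 (flp_h L17426) (flp_a L15506) L22263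
theorem L22267 : sm gg N2557 = N1772 := ded_50_1 (flp_h L15510) L15504 L22263
theorem L22269 : sm gd N2557 = N1823 := ded_38_1 (flp_h L15966) L11148 (flp_h L10838) (flp_d L15508) L22263
theorem L22271 : sm gi N1772 = N2558 := rfl
theorem L22273 : sm ga N2558 = N2004 := ded_18_1 (flp_i L17432) (flp_a L15512) L22271
theorem L22275 : sm gd N2558 = N1824 := ded_39_1 (flp_i L15974) (flp_d L15517) L22271
theorem L22277 : sm gf N2558 = N1773 := ded_48_1 (flp_i L15519) (flp_f L15514) L22271
theorem L22279 : sm gj N2558 = N2558 := ded_53_1 (flp_i L22271) L15516 L22271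
theorem L22280 : sm gc N1775 = N2559 := rfl
theorem L22282 : sm ga N2559 = N1777 := ded_11_1 (flp_c L15559) (flp_a L15540) L22280
theorem L22284 : sm ge N2559 = N2559 := ded_28_2 (flp_c L22280) L15548 L22280
theorem L22285 : sm gg N2559 = N2559 := ded_30_2 (flp_c L22280) L15544 L22280
theorem L22286 : sm gj N2559 = N2559 := ded_31_2 (flp_c L22280) L15545 L22280
theorem L22287 : sm gi N2559 = N1785 := ded_33_2 (flp_c L15633) (flp_i L15546) L22280
theorem L22289 : sm gf N1775 = N2560 := rfl
theorem L22291 : sm ga N2560 = N1778 := ded_14_1 (flp_f L15567) (flp_a L15540) L22289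
theorem L22293 : sm gb N2560 = N2006 := ded_22_1 (flp_f L17449) (flp_b L15542) L22289
theorem L22295 : sm gd N2560 = N1776 := ded_35_1 (flp_f L15549) L15538 L22289
theorem L22297 : sm gj N2560 = N2560 := ded_46_2 (flp_f L22289) L15545 L22289
theorem L22298 : sm gi N2560 = N1786 := ded_48_2 (flp_f L15641) (flp_i L15546) L22289
theorem L22300 : sm gh N1775 = N2561 := rfl
theorem L22302 : sm ga N2561 = N1779 := ded_17_1 (flp_h L15576) (flp_a L15540) L22300
theorem L22304 : sm gb N2561 = N2007 := ded_25_1 (flp_h L17458) (flp_b L15542) L22300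
theorem L22306 : sm ge N2561 = N2561 := ded_43_1 (flp_h L22300) L15548 L22300
theorem L22307 : sm gg N2561 = N2561 := ded_50_1 (flp_h L22300) L15544 L22300
theorem L22308 : sm gj N2561 = N2561 := ded_52_1 (flp_h L22300) L15545 L22300
theorem L22309 : sm gd N2561 = N2561 := ded_38_1 (flp_h L22300) (flp_d L15538) L10857 L15538 L22300
theorem L22310 : sm gi N2561 = N2561 := ded_54_2 (flp_h L22300) L15546 L10926 (flp_i L15546) L22300
theorem L22311 : sm gg N1776 = N2562 := rfl
theorem L22313 : sm ga N2562 = N1780 := ded_15_1 (flp_g L15585) (flp_a L15551) L22311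
theorem L22315 : sm gb N2562 = N2008 := ded_23_1 (flp_g L17467) (flp_b L15553) L22311
theorem L22317 : sm gh N2562 = N2562 := ded_50_2 (flp_g L22311) L15556 L22311
theorem L22318 : sm gi N2562 = N1787 := ded_51_2 (flp_g L15651) (flp_i L15557) L22311
theorem L22320 : sm gf N2562 = N2562 := ded_45_1 (flp_g L22311) (flp_f L15549) L10855 L15549 L22311
theorem L22321 : sm gf N1777 = N2563 := rfl
theorem L22323 : sm gb N2563 = N2563 := ded_22_1 (flp_f L22321) L15566 L22321
theorem L22324 : sm gc N2563 = N1778 := ded_29_1 (flp_f L15567) L15559 L22321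
theorem L22326 : sm gj N2563 = N2563 := ded_46_2 (flp_f L22321) L15563 L22321
theorem L22327 : sm gi N2563 = N1788 := ded_48_2 (flp_f L15660) (flp_i L15564) L22321
theorem L22329 : sm gh N1777 = N2564 := rfl
theorem L22331 : sm gb N2564 = N2564 := ded_25_1 (flp_h L22329) L15566 L22329
theorem L22332 : sm gc N2564 = N1779 := ded_32_1 (flp_h L15576) L15559 L22329
theorem L22334 : sm ge N2564 = N2564 := ded_43_1 (flp_h L22329) L15561 L22329
theorem L22335 : sm gg N2564 = N2564 := ded_50_1 (flp_h L22329) L15562 L22329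
theorem L22336 : sm gj N2564 = N2564 := ded_52_1 (flp_h L22329) L15563 L22329
theorem L22337 : sm gi N2564 = N2564 := ded_54_2 (flp_h L22329) L15564 L10941 (flp_i L15564) L22329
theorem L22338 : sm ge N1778 = N2565 := rfl
theorem L22340 : sm gb N2565 = N1781 := ded_21_1 (flp_e L15593) (flp_b L15569) L22338
theorem L22342 : sm gj N2565 = N2565 := ded_42_2 (flp_e L22338) L15573 L22338
theorem L22343 : sm gi N2565 = N1789 := ded_44_2 (flp_e L15667) (flp_i L15574) L22338
theorem L22345 : sm gf N2565 = N2565 := ded_40_2 (flp_e L22338) (flp_f L15567) L10868 L15567 L22338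
theorem L22346 : sm gg N1778 = N2566 := rfl
theorem L22348 : sm gb N2566 = N1782 := ded_23_1 (flp_g L15602) (flp_b L15569) L22346
theorem L22350 : sm gd N2566 = N1780 := ded_36_1 (flp_g L15585) (flp_d L15571) L22346
theorem L22352 : sm gi N2566 = N1790 := ded_51_2 (flp_g L15674) (flp_i L15574) L22346
theorem L22354 : sm gf N2566 = N2566 := ded_45_1 (flp_g L22346) (flp_f L15567) L10864 L15567 L22346
theorem L22355 : sm gh N1778 = N2567 := rfl
theorem L22357 : sm gb N2567 = N1783 := ded_25_1 (flp_h L15612) (flp_b L15569) L22355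
theorem L22359 : sm gf N2567 = N1779 := ded_47_1 (flp_h L15576) L15567 L22355
theorem L22361 : sm gj N2567 = N2567 := ded_52_1 (flp_h L22355) L15573 L22355
theorem L22362 : sm gd N2567 = N2567 := ded_38_1 (flp_h L22355) L15571 L10874 (flp_d L15571) L22355
theorem L22363 : sm gi N2567 = N2567 := ded_54_2 (flp_h L22355) L15574 L10950 (flp_i L15574) L22355
theorem L22364 : sm gj N1780 = N2568 := rfl
theorem L22366 : sm gb N2568 = N1784 := ded_24_1 (flp_j L15622) (flp_b L15587) L22364
theorem L22368 : sm gf N2568 = N2568 := ded_46_1 (flp_j L22364) L15592 L22364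
theorem L22369 : sm gh N2568 = N2568 := ded_52_2 (flp_j L22364) L15589 L22364
theorem L22370 : sm gi N2568 = N1791 := ded_53_2 (flp_j L15682) (flp_i L15590) L22364
theorem L22372 : sm gg N2568 = N2568 := ded_49_1 (flp_j L22364) (flp_g L15585) L10873 L15585 L22364
theorem L22373 : sm gg N1781 = N2569 := rfl
theorem L22375 : sm ga N2569 = N2015 := ded_15_1 (flp_g L17530) (flp_a L15595) L22373
theorem L22377 : sm gc N2569 = N2569 := ded_30_1 (flp_g L22373) L15597 L22373
theorem L22378 : sm ge N2569 = N1782 := ded_41_1 (flp_g L15602) L15593 L22373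
theorem L22380 : sm gi N2569 = N1792 := ded_51_2 (flp_g L15690) (flp_i L15599) L22373
theorem L22382 : sm gh N1781 = N2570 := rfl
theorem L22384 : sm ga N2570 = N2016 := ded_17_1 (flp_h L17537) (flp_a L15595) L22382
theorem L22386 : sm gc N2570 = N2570 := ded_32_1 (flp_h L22382) L15597 L22382
theorem L22387 : sm ge N2570 = N1783 := ded_43_1 (flp_h L15612) L15593 L22382
theorem L22389 : sm gf N2570 = N2570 := ded_47_1 (flp_h L22382) L15601 L22382
theorem L22390 : sm gj N2570 = N2570 := ded_52_1 (flp_h L22382) L15598 L22382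
theorem L22391 : sm gi N2570 = N2570 := ded_54_2 (flp_h L22382) L15599 L10964 (flp_i L15599) L22382
theorem L22392 : sm gj N1782 = N2571 := rfl
theorem L22394 : sm ga N2571 = N2017 := ded_16_1 (flp_j L17545) (flp_a L15604) L22392
theorem L22396 : sm gc N2571 = N2571 := ded_31_1 (flp_j L22392) L15606 L22392
theorem L22397 : sm gd N2571 = N1784 := ded_37_1 (flp_j L15622) (flp_d L15607) L22392
theorem L22399 : sm gf N2571 = N2571 := ded_46_1 (flp_j L22392) L15611 L22392
theorem L22400 : sm gi N2571 = N1793 := ded_53_2 (flp_j L15698) (flp_i L15609) L22392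
theorem L22402 : sm gg N2571 = N2571 := ded_49_1 (flp_j L22392) (flp_g L15602) L10884 L15602 L22392
theorem L22403 : sm gh N1782 = N2572 := rfl
theorem L22405 : sm ga N2572 = N2018 := ded_17_1 (flp_h L17554) (flp_a L15604) L22403
theorem L22407 : sm gc N2572 = N2572 := ded_32_1 (flp_h L22403) L15606 L22403
theorem L22408 : sm gf N2572 = N2572 := ded_47_1 (flp_h L22403) L15611 L22403
theorem L22409 : sm gg N2572 = N1783 := ded_50_1 (flp_h L15612) L15602 L22403
theorem L22411 : sm gd N2572 = N2572 := ded_38_1 (flp_h L22403) L15607 L10903 (flp_d L15607) L22403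
theorem L22412 : sm gi N2572 = N2572 := ded_54_2 (flp_h L22403) L15609 L10973 (flp_i L15609) L22403
theorem L22413 : sm gb N1785 = N2573 := rfl
theorem L22415 : sm ge N2573 = N2573 := ded_21_2 (flp_b L22413) L15637 L22413
theorem L22416 : sm gg N2573 = N2573 := ded_23_2 (flp_b L22413) L15638 L22413
theorem L22417 : sm gj N2573 = N2573 := ded_24_2 (flp_b L22413) L15639 L22413
theorem L22418 : sm gh N2573 = N2573 := ded_25_2 (flp_b L22413) L15640 L22413
theorem L22419 : sm ga N2573 = N2573 := ded_10_1 (flp_b L22413) L15635 L10942 (flp_a L15635) L22413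
theorem L22420 : sm gc N2573 = N2019 := ded_19_2 (flp_b L17562) (flp_c L12250) (flp_b L10921) L15633 L22413
theorem L22422 : sm gf N1785 = N2574 := rfl
theorem L22424 : sm ga N2574 = N1788 := ded_14_1 (flp_f L15660) (flp_a L15635) L22422
theorem L22426 : sm gc N2574 = N1786 := ded_29_1 (flp_f L15641) L15633 L22422
theorem L22428 : sm gj N2574 = N2574 := ded_46_2 (flp_f L22422) L15639 L22422
theorem L22429 : sm gh N2574 = N2574 := ded_47_2 (flp_f L22422) L15640 L22422
theorem L22430 : sm ge N1786 = N2575 := rfl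
theorem L22432 : sm ga N2575 = N1789 := ded_13_1 (flp_e L15667) (flp_a L15643) L22430
theorem L22434 : sm gb N2575 = N2021 := ded_21_1 (flp_e L17579) (flp_b L15645) L22430
theorem L22436 : sm gj N2575 = N2575 := ded_42_2 (flp_e L22430) L15649 L22430
theorem L22437 : sm gh N2575 = N2575 := ded_43_2 (flp_e L22430) L15650 L22430
theorem L22438 : sm gf N2575 = N2575 := ded_40_2 (flp_e L22430) (flp_f L15641) L10925 L15641 L22430
theorem L22439 : sm gg N1786 = N2576 := rfl
theorem L22441 : sm ga N2576 = N1790 := ded_15_1 (flp_g L15674) (flp_a L15643) L22439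
theorem L22443 : sm gb N2576 = N2022 := ded_23_1 (flp_g L17586) (flp_b L15645) L22439
theorem L22445 : sm gd N2576 = N1787 := ded_36_1 (flp_g L15651) (flp_d L15647) L22439
theorem L22447 : sm gh N2576 = N2576 := ded_50_2 (flp_g L22439) L15650 L22439
theorem L22448 : sm gf N2576 = N2576 := ded_45_1 (flp_g L22439) (flp_f L15641) L10923 L15641 L22439
theorem L22449 : sm gj N1787 = N2577 := rfl
theorem L22451 : sm ga N2577 = N1791 := ded_16_1 (flp_j L15682) (flp_a L15653) L22449
theorem L22453 : sm gb N2577 = N2023 := ded_24_1 (flp_j L17594) (flp_b L15655) L22449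
theorem L22455 : sm gf N2577 = N2577 := ded_46_1 (flp_j L22449) L15659 L22449
theorem L22456 : sm gh N2577 = N1825 := ded_52_2 (flp_j L15984) (flp_h L15657) L22449
theorem L22458 : sm gg N2577 = N2577 := ded_49_1 (flp_j L22449) (flp_g L15651) L10933 L15651 L22449
theorem L22459 : sm ge N1788 = N2578 := rfl
theorem L22461 : sm gb N2578 = N2578 := ded_21_1 (flp_e L22459) L15662 L22459
theorem L22462 : sm gc N2578 = N1789 := ded_28_1 (flp_e L15667) (flp_c L15663) L22459
theorem L22464 : sm gj N2578 = N2578 := ded_42_2 (flp_e L22459) L15665 L22459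
theorem L22465 : sm gh N2578 = N2578 := ded_43_2 (flp_e L22459) L15666 L22459
theorem L22466 : sm gf N2578 = N2578 := ded_40_2 (flp_e L22459) (flp_f L15660) L10938 L15660 L22459
theorem L22467 : sm gg N1788 = N2579 := rfl
theorem L22469 : sm gb N2579 = N2579 := ded_23_1 (flp_g L22467) L15662 L22467
theorem L22470 : sm gc N2579 = N1790 := ded_30_1 (flp_g L15674) (flp_c L15663) L22467
theorem L22472 : sm gh N2579 = N2579 := ded_50_2 (flp_g L22467) L15666 L22467
theorem L22473 : sm gf N2579 = N2579 := ded_45_1 (flp_g L22467) (flp_f L15660) L10939 L15660 L22467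
theorem L22474 : sm gg N1789 = N2580 := rfl
theorem L22476 : sm gb N2580 = N1792 := ded_23_1 (flp_g L15690) (flp_b L15669) L22474
theorem L22478 : sm ge N2580 = N1790 := ded_41_1 (flp_g L15674) L15667 L22474
theorem L22480 : sm gh N2580 = N2580 := ded_50_2 (flp_g L22474) L15672 L22474
theorem L22481 : sm gj N1790 = N2581 := rfl
theorem L22483 : sm gb N2581 = N1793 := ded_24_1 (flp_j L15698) (flp_b L15676) L22481
theorem L22485 : sm gd N2581 = N1791 := ded_37_1 (flp_j L15682) (flp_d L15678) L22481
theorem L22487 : sm gf N2581 = N2581 := ded_46_1 (flp_j L22481) L15681 L22481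
theorem L22488 : sm gh N2581 = N2581 := ded_52_2 (flp_j L22481) L15680 L22481
theorem L22489 : sm gg N2581 = N2581 := ded_49_1 (flp_j L22481) (flp_g L15674) L10949 L15674 L22481
theorem L22490 : sm gf N1792 = N2582 := rfl
theorem L22492 : sm ga N2582 = N2028 := ded_14_1 (flp_f L17635) (flp_a L15692) L22490
theorem L22494 : sm gc N2582 = N2582 := ded_29_1 (flp_f L22490) L15694 L22490
theorem L22495 : sm gh N2582 = N2582 := ded_47_2 (flp_f L22490) L15697 L22490
theorem L22496 : sm ge N2582 = N2582 := ded_40_1 (flp_f L22490) L15695 L10974 (flp_e L15695) L22490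
theorem L22497 : sm gg N2582 = N2582 := ded_45_2 (flp_f L22490) (flp_g L15690) L10965 L15690 L22490
theorem L22498 : sm gj N1792 = N2583 := rfl
theorem L22500 : sm ga N2583 = N2029 := ded_16_1 (flp_j L17641) (flp_a L15692) L22498
theorem L22502 : sm gc N2583 = N2583 := ded_31_1 (flp_j L22498) L15694 L22498
theorem L22503 : sm ge N2583 = N1793 := ded_42_1 (flp_j L15698) (flp_e L15695) L22498
theorem L22505 : sm gh N2583 = N2583 := ded_52_2 (flp_j L22498) L15697 L22498
theorem L22506 : sm gg N2583 = N2583 := ded_49_1 (flp_j L22498) (flp_g L15690) L10963 L15690 L22498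
theorem L22507 : sm gd N1794 = N2584 := rfl
theorem L22509 : sm ga N2584 = N1795 := ded_12_1 (flp_d L15718) (flp_a L15710) L22507
theorem L22511 : sm gb N2584 = N2030 := ded_20_1 (flp_d L17648) (flp_b L15712) L22507
theorem L22513 : sm gg N2584 = N2584 := ded_36_2 (flp_d L22507) L15714 L22507
theorem L22514 : sm gj N2584 = N1801 := ded_37_2 (flp_d L15775) (flp_j L15715) L22507
theorem L22516 : sm gi N2584 = N2584 := ded_39_2 (flp_d L22507) L15717 L22507
theorem L22517 : sm ge N2584 = N1826 := ded_34_2 (flp_d L15994) (flp_e L11197) (flp_d L10987) L15708 L22507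
theorem L22519 : sm gf N1794 = N2585 := rfl
theorem L22521 : sm ga N2585 = N1796 := ded_14_1 (flp_f L15728) (flp_a L15710) L22519
theorem L22523 : sm gb N2585 = N2031 := ded_22_1 (flp_f L17658) (flp_b L15712) L22519
theorem L22525 : sm gj N2585 = N1802 := ded_46_2 (flp_f L15786) (flp_j L15715) L22519
theorem L22527 : sm gi N2585 = N2585 := ded_48_2 (flp_f L22519) L15717 L22519
theorem L22528 : sm ge N2585 = N2585 := ded_40_1 (flp_f L22519) (flp_e L15708) L10989 L15708 L22519
theorem L22529 : sm gc N1795 = N2586 := rfl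
theorem L22531 : sm ge N2586 = N1828 := ded_28_2 (flp_c L16016) (flp_e L15726) L22529
theorem L22533 : sm gg N2586 = N2586 := ded_30_2 (flp_c L22529) L15722 L22529
theorem L22534 : sm gj N2586 = N1803 := ded_31_2 (flp_c L15794) (flp_j L15723) L22529
theorem L22536 : sm gi N2586 = N2586 := ded_33_2 (flp_c L22529) L15725 L22529
theorem L22537 : sm gb N2586 = N2586 := ded_19_1 (flp_c L22529) L15720 L11012 (flp_b L15720) L22529
theorem L22538 : sm gf N1795 = N2587 := rfl
theorem L22540 : sm gb N2587 = N1797 := ded_22_1 (flp_f L15736) (flp_b L15720) L22538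
theorem L22542 : sm gd N2587 = N1796 := ded_35_1 (flp_f L15728) L15718 L22538
theorem L22544 : sm gj N2587 = N1804 := ded_46_2 (flp_f L15802) (flp_j L15723) L22538
theorem L22546 : sm gi N2587 = N2587 := ded_48_2 (flp_f L22538) L15725 L22538
theorem L22547 : sm gh N1795 = N2588 := rfl
theorem L22549 : sm gb N2588 = N1798 := ded_25_1 (flp_h L15746) (flp_b L15720) L22547
theorem L22551 : sm ge N2588 = N1830 := ded_43_1 (flp_h L16033) (flp_e L15726) L22547
theorem L22553 : sm gg N2588 = N2588 := ded_50_1 (flp_h L22547) L15722 L22547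
theorem L22554 : sm gj N2588 = N1805 := ded_52_1 (flp_h L15809) (flp_j L15723) L22547
theorem L22556 : sm gg N1796 = N2589 := rfl
theorem L22558 : sm gb N2589 = N1799 := ded_23_1 (flp_g L15756) (flp_b L15730) L22556
theorem L22560 : sm ge N2589 = N2589 := ded_41_1 (flp_g L22556) L15735 L22556
theorem L22561 : sm gi N2589 = N2589 := ded_51_2 (flp_g L22556) L15734 L22556
theorem L22562 : sm gf N2589 = N2589 := ded_45_1 (flp_g L22556) (flp_f L15728) L11000 L15728 L22556
theorem L22563 : sm ge N1797 = N2590 := rfl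
theorem L22565 : sm ga N2590 = N2036 := ded_13_1 (flp_e L17703) (flp_a L15738) L22563
theorem L22567 : sm gc N2590 = N2590 := ded_28_1 (flp_e L22563) L15740 L22563
theorem L22568 : sm gj N2590 = N1807 := ded_42_2 (flp_e L15825) (flp_j L15743) L22563
theorem L22570 : sm gi N2590 = N2590 := ded_44_2 (flp_e L22563) L15745 L22563
theorem L22571 : sm gd N2590 = N2590 := ded_34_1 (flp_e L22563) L15741 L11024 (flp_d L15741) L22563
theorem L22572 : sm gf N2590 = N1832 := ded_40_2 (flp_e L16051) (flp_f L11227) (flp_e L11013) L15736 L22563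
theorem L22574 : sm gg N1797 = N2591 := rfl
theorem L22576 : sm ga N2591 = N2037 := ded_15_1 (flp_g L17712) (flp_a L15738) L22574
theorem L22578 : sm gc N2591 = N2591 := ded_30_1 (flp_g L22574) L15740 L22574
theorem L22579 : sm gd N2591 = N1799 := ded_36_1 (flp_g L15756) (flp_d L15741) L22574
theorem L22581 : sm gi N2591 = N2591 := ded_51_2 (flp_g L22574) L15745 L22574
theorem L22582 : sm gf N2591 = N2591 := ded_45_1 (flp_g L22574) (flp_f L15736) L11008 L15736 L22574
theorem L22583 : sm gh N1797 = N2592 := rfl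
theorem L22585 : sm ga N2592 = N2038 := ded_17_1 (flp_h L17719) (flp_a L15738) L22583
theorem L22587 : sm gc N2592 = N2592 := ded_32_1 (flp_h L22583) L15740 L22583
theorem L22588 : sm gf N2592 = N1798 := ded_47_1 (flp_h L15746) L15736 L22583
theorem L22590 : sm gj N2592 = N1809 := ded_52_1 (flp_h L15844) (flp_j L15743) L22583
theorem L22592 : sm gi N1798 = N2593 := rfl
theorem L22594 : sm ga N2593 = N2039 := ded_18_1 (flp_i L17726) (flp_a L15748) L22592
theorem L22596 : sm gc N2593 = N2593 := ded_33_1 (flp_i L22592) L15750 L22592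
theorem L22597 : sm ge N2593 = N1835 := ded_44_1 (flp_i L16080) (flp_e L15751) L22592
theorem L22599 : sm gg N2593 = N2593 := ded_51_1 (flp_i L22592) L15753 L22592
theorem L22600 : sm gj N2593 = N1810 := ded_53_1 (flp_i L15851) (flp_j L15754) L22592
theorem L22602 : sm gh N2593 = N2593 := ded_54_1 (flp_i L22592) (flp_h L15746) L11011 L15746 L22592
theorem L22603 : sm gj N1799 = N2594 := rfl
theorem L22605 : sm ga N2594 = N2040 := ded_16_1 (flp_j L17735) (flp_a L15758) L22603
theorem L22607 : sm gc N2594 = N1800 := ded_31_1 (flp_j L15765) (flp_c L15760) L22603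
theorem L22609 : sm ge N2594 = N2594 := ded_42_1 (flp_j L22603) L15762 L22603
theorem L22610 : sm gf N2594 = N2594 := ded_46_1 (flp_j L22603) L15764 L22603
theorem L22611 : sm gi N2594 = N2594 := ded_53_2 (flp_j L22603) L15763 L22603
theorem L22612 : sm gg N2594 = N1811 := ded_49_1 (flp_j L15861) (flp_g L11074) (flp_j L11021) L15756 L22603
theorem L22614 : sm gc N1801 = N2595 := rfl
theorem L22616 : sm ga N2595 = N1803 := ded_11_1 (flp_c L15794) (flp_a L15777) L22614
theorem L22618 : sm ge N2595 = N1836 := ded_28_2 (flp_c L16090) (flp_e L15784) L22614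
theorem L22620 : sm gg N2595 = N1812 := ded_30_2 (flp_c L15871) (flp_g L15781) L22614
theorem L22622 : sm gi N2595 = N2595 := ded_33_2 (flp_c L22614) L15783 L22614
theorem L22623 : sm gf N1801 = N2596 := rfl
theorem L22625 : sm ga N2596 = N1804 := ded_14_1 (flp_f L15802) (flp_a L15777) L22623
theorem L22627 : sm gb N2596 = N2042 := ded_22_1 (flp_f L17754) (flp_b L15779) L22623
theorem L22629 : sm gd N2596 = N1802 := ded_35_1 (flp_f L15786) L15775 L22623
theorem L22631 : sm gi N2596 = N2596 := ded_48_2 (flp_f L22623) L15783 L22623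
theorem L22632 : sm gh N1801 = N2597 := rfl
theorem L22634 : sm ga N2597 = N1805 := ded_17_1 (flp_h L15809) (flp_a L15777) L22632
theorem L22642 : sm gg N1802 = N2598 := rfl
theorem L22644 : sm ga N2598 = N1806 := ded_15_1 (flp_g L15817) (flp_a L15788) L22642
theorem L22646 : sm gb N2598 = N2044 := ded_23_1 (flp_g L17769) (flp_b L15790) L22642
theorem L22648 : sm ge N2598 = N2598 := ded_41_1 (flp_g L22642) L15793 L22642
theorem L22649 : sm gi N2598 = N2598 := ded_51_2 (flp_g L22642) L15792 L22642
theorem L22650 : sm gf N2598 = N1815 := ded_45_1 (flp_g L15899) (flp_f L11103) (flp_g L11039) L15786 L22642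
theorem L22652 : sm gf N1803 = N2599 := rfl
theorem L22654 : sm gb N2599 = N2599 := ded_22_1 (flp_f L22652) L15801 L22652
theorem L22655 : sm gc N2599 = N1804 := ded_29_1 (flp_f L15802) L15794 L22652
theorem L22657 : sm gi N2599 = N2599 := ded_48_2 (flp_f L22652) L15800 L22652
theorem L22658 : sm gh N1803 = N2600 := rfl
theorem L22660 : sm gb N2600 = N2600 := ded_25_1 (flp_h L22658) L15801 L22658
theorem L22661 : sm gc N2600 = N1805 := ded_32_1 (flp_h L15809) L15794 L22658
theorem L22663 : sm ge N2600 = N1840 := ded_43_1 (flp_h L16125) (flp_e L15796) L22658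
theorem L22665 : sm gg N2600 = N1817 := ded_50_1 (flp_h L15916) (flp_g L15798) L22658
theorem L22667 : sm ge N1804 = N2601 := rfl
theorem L22669 : sm gb N2601 = N1807 := ded_21_1 (flp_e L15825) (flp_b L15804) L22667
theorem L22671 : sm gi N2601 = N2601 := ded_44_2 (flp_e L22667) L15808 L22667
theorem L22672 : sm gd N2601 = N2601 := ded_34_1 (flp_e L22667) L15806 L11056 (flp_d L15806) L22667
theorem L22673 : sm gf N2601 = N1841 := ded_40_2 (flp_e L16132) (flp_f L11284) (flp_e L11049) L15802 L22667
theorem L22675 : sm gg N1804 = N2602 := rfl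
theorem L22677 : sm gb N2602 = N1808 := ded_23_1 (flp_g L15834) (flp_b L15804) L22675
theorem L22679 : sm gd N2602 = N1806 := ded_36_1 (flp_g L15817) (flp_d L15806) L22675
theorem L22681 : sm gi N2602 = N2602 := ded_51_2 (flp_g L22675) L15808 L22675
theorem L22682 : sm gf N2602 = N1818 := ded_45_1 (flp_g L15924) (flp_f L11120) (flp_g L11046) L15802 L22675
theorem L22684 : sm gh N1804 = N2603 := rfl
theorem L22686 : sm gb N2603 = N1809 := ded_25_1 (flp_h L15844) (flp_b L15804) L22684
theorem L22688 : sm gf N2603 = N1805 := ded_47_1 (flp_h L15809) L15802 L22684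
theorem L22690 : sm gi N1805 = N2604 := rfl
theorem L22699 : sm gj N1806 = N2605 := rfl
theorem L22701 : sm gb N2605 = N1811 := ded_24_1 (flp_j L15861) (flp_b L15819) L22699
theorem L22703 : sm ge N2605 = N2605 := ded_42_1 (flp_j L22699) L15821 L22699
theorem L22704 : sm gf N2605 = N1821 := ded_46_1 (flp_j L15948) (flp_f L15823) L22699
theorem L22706 : sm gi N2605 = N2605 := ded_53_2 (flp_j L22699) L15822 L22699
theorem L22707 : sm gg N1807 = N2606 := rfl
theorem L22709 : sm ga N2606 = N2052 := ded_15_1 (flp_g L17835) (flp_a L15827) L22707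
theorem L22711 : sm gc N2606 = N2606 := ded_30_1 (flp_g L22707) L15829 L22707
theorem L22712 : sm gd N2606 = N2606 := ded_36_1 (flp_g L22707) L15831 L22707
theorem L22713 : sm ge N2606 = N1808 := ded_41_1 (flp_g L15834) L15825 L22707
theorem L22715 : sm gi N2606 = N2606 := ded_51_2 (flp_g L22707) L15830 L22707
theorem L22716 : sm gf N2606 = N2606 := ded_45_1 (flp_g L22707) L15832 L11304 (flp_f L15832) L22707
theorem L22717 : sm gh N1807 = N2607 := rfl
theorem L22719 : sm ga N2607 = N2053 := ded_17_1 (flp_h L17843) (flp_a L15827) L22717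
theorem L22721 : sm gc N2607 = N2607 := ded_32_1 (flp_h L22717) L15829 L22717
theorem L22722 : sm ge N2607 = N1809 := ded_43_1 (flp_h L15844) L15825 L22717
theorem L22724 : sm gf N2607 = N1844 := ded_47_1 (flp_h L16155) (flp_f L15832) L22717
theorem L22726 : sm gj N1808 = N2608 := rfl
theorem L22728 : sm ga N2608 = N2054 := ded_16_1 (flp_j L17850) (flp_a L15836) L22726
theorem L22730 : sm gc N2608 = N2608 := ded_31_1 (flp_j L22726) L15838 L22726
theorem L22731 : sm gd N2608 = N1811 := ded_37_1 (flp_j L15861) (flp_d L15839) L22726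
theorem L22733 : sm gf N2608 = N1822 := ded_46_1 (flp_j L15956) (flp_f L15842) L22726
theorem L22735 : sm gi N2608 = N2608 := ded_53_2 (flp_j L22726) L15841 L22726
theorem L22736 : sm gh N1808 = N2609 := rfl
theorem L22738 : sm ga N2609 = N2055 := ded_17_1 (flp_h L17858) (flp_a L15836) L22736
theorem L22740 : sm gc N2609 = N2609 := ded_32_1 (flp_h L22736) L15838 L22736
theorem L22741 : sm gf N2609 = N1823 := ded_47_1 (flp_h L15966) (flp_f L15842) L22736
theorem L22743 : sm gg N2609 = N1809 := ded_50_1 (flp_h L15844) L15834 L22736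
theorem L22745 : sm gi N1809 = N2610 := rfl
theorem L22747 : sm ga N2610 = N2056 := ded_18_1 (flp_i L17865) (flp_a L15846) L22745
theorem L22749 : sm gc N2610 = N2610 := ded_33_1 (flp_i L22745) L15848 L22745
theorem L22750 : sm gf N2610 = N1810 := ded_48_1 (flp_i L15851) (flp_f L15849) L22745
theorem L22752 : sm gh N2610 = N2610 := ded_54_1 (flp_i L22745) (flp_h L15844) L11064 L15844 L22745
theorem L22753 : sm gb N1812 = N2611 := rfl
theorem L22760 : sm gc N2611 = N2057 := ded_19_2 (flp_b L17871) (flp_c L12466) (flp_b L11097) L15871 L22753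
theorem L22762 : sm gf N1812 = N2612 := rfl
theorem L22764 : sm ga N2612 = N1816 := ded_14_1 (flp_f L15908) (flp_a L15873) L22762
theorem L22766 : sm gc N2612 = N1813 := ded_29_1 (flp_f L15879) L15871 L22762
theorem L22768 : sm gj N2612 = N2612 := ded_46_2 (flp_f L22762) L15877 L22762
theorem L22769 : sm gi N2612 = N2612 := ded_48_2 (flp_f L22762) L15878 L22762
theorem L22770 : sm ge N2612 = N2612 := ded_40_1 (flp_f L22762) L15875 L11329 (flp_e L15875) L22762
theorem L22771 : sm gh N1812 = N2613 := rfl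
theorem L22773 : sm ga N2613 = N1817 := ded_17_1 (flp_h L15916) (flp_a L15873) L22771
theorem L22775 : sm gc N2613 = N1814 := ded_32_1 (flp_h L15890) L15871 L22771
theorem L22777 : sm ge N2613 = N1847 := ded_43_1 (flp_h L16182) (flp_e L15875) L22771
theorem L22780 : sm gg N1813 = N2614 := rfl
theorem L22782 : sm ga N2614 = N1818 := ded_15_1 (flp_g L15924) (flp_a L15881) L22780
theorem L22784 : sm gb N2614 = N2060 := ded_23_1 (flp_g L17898) (flp_b L15883) L22780
theorem L22786 : sm gd N2614 = N1815 := ded_36_1 (flp_g L15899) (flp_d L15885) L22780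
theorem L22788 : sm ge N2614 = N2614 := ded_41_1 (flp_g L22780) L15889 L22780
theorem L22789 : sm gi N2614 = N2614 := ded_51_2 (flp_g L22780) L15888 L22780
theorem L22790 : sm gh N1813 = N2615 := rfl
theorem L22794 : sm gb N2615 = N2061 := ded_25_1 (flp_h L17906) (flp_b L15883) L22790
theorem L22797 : sm gf N2615 = N1814 := ded_47_1 (flp_h L15890) L15879 L22790
theorem L22800 : sm gi N1814 = N2616 := rfl
theorem L22806 : sm ge N2616 = N1848 := ded_44_1 (flp_i L16190) (flp_e L15896) L22800
theorem L22810 : sm gj N1815 = N2617 := rfl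
theorem L22812 : sm ga N2617 = N1821 := ded_16_1 (flp_j L15948) (flp_a L15901) L22810
theorem L22814 : sm gb N2617 = N2063 := ded_24_1 (flp_j L17922) (flp_b L15903) L22810
theorem L22816 : sm ge N2617 = N1825 := ded_42_1 (flp_j L15984) (flp_e L15905) L22810
theorem L22818 : sm gi N2617 = N2617 := ded_53_2 (flp_j L22810) L15907 L22810
theorem L22819 : sm gg N2617 = N2617 := ded_49_1 (flp_j L22810) (flp_g L15899) L11109 L15899 L22810
theorem L22820 : sm gg N1816 = N2618 := rfl
theorem L22822 : sm gb N2618 = N2618 := ded_23_1 (flp_g L22820) L15910 L22820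
theorem L22823 : sm gc N2618 = N1818 := ded_30_1 (flp_g L15924) (flp_c L15911) L22820
theorem L22825 : sm ge N2618 = N2618 := ded_41_1 (flp_g L22820) L15915 L22820
theorem L22826 : sm gi N2618 = N2618 := ded_51_2 (flp_g L22820) L15914 L22820
theorem L22827 : sm gh N1816 = N2619 := rfl
theorem L22829 : sm gb N2619 = N2619 := ded_25_1 (flp_h L22827) L15910 L22827
theorem L22830 : sm gc N2619 = N1819 := ded_32_1 (flp_h L15932) (flp_c L15911) L22827
theorem L22832 : sm ge N2619 = N2619 := ded_43_1 (flp_h L22827) L15915 L22827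
theorem L22833 : sm gf N2619 = N1817 := ded_47_1 (flp_h L15916) L15908 L22827
theorem L22835 : sm gj N2619 = N2619 := ded_52_1 (flp_h L22827) L15913 L22827
theorem L22836 : sm gd N1817 = N2620 := rfl
theorem L22838 : sm gb N2620 = N2620 := ded_20_1 (flp_d L22836) L15918 L22836
theorem L22839 : sm gj N2620 = N2620 := ded_37_2 (flp_d L22836) L15923 L22836
theorem L22840 : sm gi N1817 = N2621 := rfl
theorem L22845 : sm ge N2621 = N1850 := ded_44_1 (flp_i L16207) (flp_e L15921) L22840
theorem L22849 : sm gj N1818 = N2622 := rfl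
theorem L22851 : sm gb N2622 = N1822 := ded_24_1 (flp_j L15956) (flp_b L15926) L22849
theorem L22853 : sm gd N2622 = N1821 := ded_37_1 (flp_j L15948) (flp_d L15928) L22849
theorem L22855 : sm ge N2622 = N2622 := ded_42_1 (flp_j L22849) L15930 L22849
theorem L22856 : sm gi N2622 = N2622 := ded_53_2 (flp_j L22849) L15931 L22849
theorem L22857 : sm gg N2622 = N2622 := ded_49_1 (flp_j L22849) (flp_g L15924) L11126 L15924 L22849
theorem L22858 : sm gh N1818 = N2623 := rfl
theorem L22860 : sm gb N2623 = N1823 := ded_25_1 (flp_h L15966) (flp_b L15926) L22858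
theorem L22862 : sm ge N2623 = N2623 := ded_43_1 (flp_h L22858) L15930 L22858
theorem L22863 : sm gg N2623 = N1819 := ded_50_1 (flp_h L15932) L15924 L22858
theorem L22865 : sm gi N1819 = N2624 := rfl
theorem L22867 : sm gb N2624 = N1824 := ded_26_1 (flp_i L15974) (flp_b L15934) L22865
theorem L22874 : sm gh N1822 = N2625 := rfl
theorem L22876 : sm ga N2625 = N2071 := ded_17_1 (flp_h L17987) (flp_a L15958) L22874
theorem L22878 : sm gc N2625 = N2625 := ded_32_1 (flp_h L22874) L15960 L22874
theorem L22879 : sm ge N2625 = N2625 := ded_43_1 (flp_h L22874) L15963 L22874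
theorem L22880 : sm gg N2625 = N2625 := ded_50_1 (flp_h L22874) L15965 L22874
theorem L22881 : sm gj N2625 = N1823 := ded_52_1 (flp_h L15966) L15956 L22874
theorem L22883 : sm gi N1823 = N2626 := rfl
theorem L22885 : sm ga N2626 = N2072 := ded_18_1 (flp_i L17994) (flp_a L15968) L22883
theorem L22887 : sm gc N2626 = N2626 := ded_33_1 (flp_i L22883) L15970 L22883
theorem L22888 : sm ge N2626 = N2626 := ded_44_1 (flp_i L22883) L15971 L22883
theorem L22889 : sm gg N2626 = N1824 := ded_51_1 (flp_i L15974) (flp_g L15972) L22883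
theorem L22891 : sm gh N2626 = N2626 := ded_54_1 (flp_i L22883) (flp_h L15966) L11151 L15966 L22883
theorem L22892 : sm gc N1826 = N2627 := rfl
theorem L22894 : sm ga N2627 = N1828 := ded_11_1 (flp_c L16016) (flp_a L15996) L22892
theorem L22896 : sm gg N2627 = N2627 := ded_30_2 (flp_c L22892) L16000 L22892
theorem L22897 : sm gj N2627 = N1836 := ded_31_2 (flp_c L16090) (flp_j L16001) L22892
theorem L22899 : sm gi N2627 = N2627 := ded_33_2 (flp_c L22892) L16003 L22892
theorem L22900 : sm gd N2627 = N2627 := ded_27_2 (flp_c L22892) (flp_d L15994) L11203 L15994 L22892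
theorem L22901 : sm gf N1826 = N2628 := rfl
theorem L22903 : sm ga N2628 = N1829 := ded_14_1 (flp_f L16024) (flp_a L15996) L22901
theorem L22905 : sm gb N2628 = N2074 := ded_22_1 (flp_f L18011) (flp_b L15998) L22901
theorem L22907 : sm gd N2628 = N1827 := ded_35_1 (flp_f L16004) L15994 L22901
theorem L22909 : sm gj N2628 = N1837 := ded_46_2 (flp_f L16098) (flp_j L16001) L22901
theorem L22911 : sm gi N2628 = N2628 := ded_48_2 (flp_f L22901) L16003 L22901
theorem L22922 : sm gg N1827 = N2630 := rfl
theorem L22924 : sm ga N2630 = N1831 := ded_15_1 (flp_g L16041) (flp_a L16006) L22922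
theorem L22926 : sm gb N2630 = N2076 := ded_23_1 (flp_g L18028) (flp_b L16008) L22922
theorem L22928 : sm gc N2630 = N2630 := ded_30_1 (flp_g L22922) L16010 L22922
theorem L22929 : sm ge N2630 = N2630 := ded_41_1 (flp_g L22922) L16015 L22922
theorem L22930 : sm gh N2630 = N2630 := ded_50_2 (flp_g L22922) L16013 L22922
theorem L22931 : sm gi N2630 = N2630 := ded_51_2 (flp_g L22922) L16014 L22922
theorem L22932 : sm gf N2630 = N2630 := ded_45_1 (flp_g L22922) (flp_f L16004) L11204 L16004 L22922
theorem L22933 : sm gj N2630 = N2630 := ded_49_2 (flp_g L22922) L16011 L11276 (flp_j L16011) L22922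
theorem L22934 : sm gf N1828 = N2631 := rfl
theorem L22936 : sm gb N2631 = N2631 := ded_22_1 (flp_f L22934) L16022 L22934
theorem L22937 : sm gc N2631 = N1829 := ded_29_1 (flp_f L16024) L16016 L22934
theorem L22939 : sm gd N2631 = N2631 := ded_35_1 (flp_f L22934) L16023 L22934
theorem L22940 : sm gj N2631 = N1839 := ded_46_2 (flp_f L16117) (flp_j L16019) L22934
theorem L22942 : sm gi N2631 = N2631 := ded_48_2 (flp_f L22934) L16021 L22934
theorem L22943 : sm gh N1828 = N2632 := rfl
theorem L22945 : sm gb N2632 = N2632 := ded_25_1 (flp_h L22943) L16022 L22943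
theorem L22946 : sm gc N2632 = N1830 := ded_32_1 (flp_h L16033) L16016 L22943
theorem L22948 : sm gg N2632 = N2632 := ded_50_1 (flp_h L22943) L16018 L22943
theorem L22949 : sm gj N2632 = N1840 := ded_52_1 (flp_h L16125) (flp_j L16019) L22943
theorem L22951 : sm ge N1829 = N2633 := rfl
theorem L22953 : sm gb N2633 = N1832 := ded_21_1 (flp_e L16051) (flp_b L16026) L22951
theorem L22955 : sm gj N2633 = N1841 := ded_42_2 (flp_e L16132) (flp_j L16030) L22951
theorem L22957 : sm gi N2633 = N2633 := ded_44_2 (flp_e L22951) L16032 L22951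
theorem L22958 : sm gd N2633 = N2633 := ded_34_1 (flp_e L22951) L16028 L11226 (flp_d L16028) L22951
theorem L22959 : sm gg N1829 = N2634 := rfl
theorem L22961 : sm gb N2634 = N1833 := ded_23_1 (flp_g L16060) (flp_b L16026) L22959
theorem L22963 : sm gd N2634 = N1831 := ded_36_1 (flp_g L16041) (flp_d L16028) L22959
theorem L22965 : sm gi N2634 = N2634 := ded_51_2 (flp_g L22959) L16032 L22959
theorem L22966 : sm gf N2634 = N2634 := ded_45_1 (flp_g L22959) (flp_f L16024) L11213 L16024 L22959
theorem L22967 : sm gj N2634 = N2634 := ded_49_2 (flp_g L22959) L16030 L11291 (flp_j L16030) L22959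
theorem L22968 : sm gh N1829 = N2635 := rfl
theorem L22970 : sm gb N2635 = N1834 := ded_25_1 (flp_h L16070) (flp_b L16026) L22968
theorem L22972 : sm gf N2635 = N1830 := ded_47_1 (flp_h L16033) L16024 L22968
theorem L22974 : sm gj N2635 = N1842 := ded_52_1 (flp_h L16139) (flp_j L16030) L22968
theorem L22976 : sm gd N2635 = N2635 := ded_38_1 (flp_h L22968) L16028 L11224 (flp_d L16028) L22968
theorem L22977 : sm gi N1830 = N2636 := rfl
theorem L22979 : sm gb N2636 = N1835 := ded_26_1 (flp_i L16080) (flp_b L16035) L22977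
theorem L22986 : sm gg N1832 = N2637 := rfl
theorem L22988 : sm ga N2637 = N2083 := ded_15_1 (flp_g L18092) (flp_a L16053) L22986
theorem L22990 : sm gc N2637 = N2637 := ded_30_1 (flp_g L22986) L16055 L22986
theorem L22991 : sm gd N2637 = N2637 := ded_36_1 (flp_g L22986) L16059 L22986
theorem L22992 : sm ge N2637 = N1833 := ded_41_1 (flp_g L16060) L16051 L22986
theorem L22994 : sm gi N2637 = N2637 := ded_51_2 (flp_g L22986) L16058 L22986
theorem L22995 : sm gj N2637 = N2637 := ded_49_2 (flp_g L22986) L16056 L11304 (flp_j L16056) L22986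
theorem L22996 : sm gh N1832 = N2638 := rfl
theorem L22998 : sm ga N2638 = N2084 := ded_17_1 (flp_h L18100) (flp_a L16053) L22996
theorem L23000 : sm gc N2638 = N2638 := ded_32_1 (flp_h L22996) L16055 L22996
theorem L23001 : sm ge N2638 = N1834 := ded_43_1 (flp_h L16070) L16051 L22996
theorem L23003 : sm gj N2638 = N1844 := ded_52_1 (flp_h L16155) (flp_j L16056) L22996
theorem L23005 : sm gh N1833 = N2639 := rfl
theorem L23007 : sm ga N2639 = N2085 := ded_17_1 (flp_h L18107) (flp_a L16062) L23005
theorem L23009 : sm gc N2639 = N2639 := ded_32_1 (flp_h L23005) L16064 L23005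
theorem L23010 : sm gf N2639 = N2639 := ded_47_1 (flp_h L23005) L16068 L23005
theorem L23011 : sm gg N2639 = N1834 := ded_50_1 (flp_h L16070) L16060 L23005
theorem L23013 : sm gj N2639 = N2639 := ded_52_1 (flp_h L23005) L16069 L23005
theorem L23014 : sm gd N2639 = N2639 := ded_38_1 (flp_h L23005) L16065 L11253 (flp_d L16065) L23005
theorem L23015 : sm gi N1834 = N2640 := rfl
theorem L23017 : sm ga N2640 = N2086 := ded_18_1 (flp_i L18115) (flp_a L16072) L23015
theorem L23019 : sm gc N2640 = N2640 := ded_33_1 (flp_i L23015) L16074 L23015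
theorem L23020 : sm gd N2640 = N2640 := ded_39_1 (flp_i L23015) L16079 L23015
theorem L23021 : sm gf N2640 = N1835 := ded_48_1 (flp_i L16080) (flp_f L16075) L23015
theorem L23023 : sm gj N2640 = N1845 := ded_53_1 (flp_i L16163) (flp_j L16077) L23015
theorem L23025 : sm gh N2640 = N2640 := ded_54_1 (flp_i L23015) (flp_h L16070) L11236 L16070 L23015
theorem L23026 : sm gb N1836 = N2641 := rfl
theorem L23029 : sm gg N2641 = N1846 := ded_23_2 (flp_b L16173) (flp_g L16094) L23026
theorem L23033 : sm gc N2641 = N2087 := ded_19_2 (flp_b L18124) (flp_c L12667) (flp_b L11261) L16090 L23026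
theorem L23035 : sm gf N1836 = N2642 := rfl
theorem L23037 : sm ga N2642 = N1839 := ded_14_1 (flp_f L16117) (flp_a L16092) L23035
theorem L23039 : sm gc N2642 = N1837 := ded_29_1 (flp_f L16098) L16090 L23035
theorem L23041 : sm gd N2642 = N2642 := ded_35_1 (flp_f L23035) L16097 L23035
theorem L23042 : sm gi N2642 = N2642 := ded_48_2 (flp_f L23035) L16096 L23035
theorem L23043 : sm gg N2642 = N2642 := ded_45_2 (flp_f L23035) L16094 L11329 (flp_g L16094) L23035
theorem L23044 : sm gh N1836 = N2643 := rfl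
theorem L23046 : sm ga N2643 = N1840 := ded_17_1 (flp_h L16125) (flp_a L16092) L23044
theorem L23052 : sm ge N1837 = N2644 := rfl
theorem L23054 : sm ga N2644 = N1841 := ded_13_1 (flp_e L16132) (flp_a L16100) L23052
theorem L23056 : sm gb N2644 = N2090 := ded_21_1 (flp_e L18150) (flp_b L16102) L23052
theorem L23058 : sm gg N2644 = N2644 := ded_41_2 (flp_e L23052) L16107 L23052
theorem L23059 : sm gi N2644 = N2644 := ded_44_2 (flp_e L23052) L16106 L23052
theorem L23060 : sm gd N2644 = N2644 := ded_34_1 (flp_e L23052) L16104 L11275 (flp_d L16104) L23052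
theorem L23061 : sm gh N1837 = N2645 := rfl
theorem L23063 : sm ga N2645 = N1842 := ded_17_1 (flp_h L16139) (flp_a L16100) L23061
theorem L23081 : sm ge N1839 = N2647 := rfl
theorem L23083 : sm gb N2647 = N2647 := ded_21_1 (flp_e L23081) L16119 L23081
theorem L23084 : sm gc N2647 = N1841 := ded_28_1 (flp_e L16132) (flp_c L16120) L23081
theorem L23086 : sm gg N2647 = N2647 := ded_41_2 (flp_e L23081) L16124 L23081
theorem L23087 : sm gi N2647 = N2647 := ded_44_2 (flp_e L23081) L16123 L23081
theorem L23088 : sm gh N1839 = N2648 := rfl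
theorem L23090 : sm gb N2648 = N2648 := ded_25_1 (flp_h L23088) L16119 L23088
theorem L23091 : sm gc N2648 = N1842 := ded_32_1 (flp_h L16139) (flp_c L16120) L23088
theorem L23093 : sm gf N2648 = N1840 := ded_47_1 (flp_h L16125) L16117 L23088
theorem L23095 : sm gg N2648 = N2648 := ded_50_1 (flp_h L23088) L16124 L23088
theorem L23096 : sm gd N1840 = N2649 := rfl
theorem L23098 : sm gb N2649 = N2649 := ded_20_1 (flp_d L23096) L16127 L23096
theorem L23099 : sm gg N2649 = N1849 := ded_36_2 (flp_d L16200) (flp_g L16130) L23096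
theorem L23101 : sm gc N2649 = N2649 := ded_27_1 (flp_d L23096) L16128 L11298 (flp_c L16128) L23096
theorem L23102 : sm gh N2649 = N2649 := ded_38_2 (flp_d L23096) (flp_h L16125) L11283 L16125 L23096
theorem L23103 : sm gi N1840 = N2650 := rfl
theorem L23108 : sm gg N2650 = N1850 := ded_51_1 (flp_i L16207) (flp_g L16130) L23103
theorem L23111 : sm gh N1841 = N2651 := rfl
theorem L23113 : sm gb N2651 = N1844 := ded_25_1 (flp_h L16155) (flp_b L16134) L23111
theorem L23115 : sm ge N2651 = N1842 := ded_43_1 (flp_h L16139) L16132 L23111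
theorem L23117 : sm gg N2651 = N2651 := ded_50_1 (flp_h L23111) L16136 L23111
theorem L23118 : sm gi N1842 = N2652 := rfl
theorem L23127 : sm gd N1844 = N2653 := rfl
theorem L23129 : sm ga N2653 = N2099 := ded_12_1 (flp_d L18220) (flp_a L16157) L23127
theorem L23131 : sm gg N2653 = N2653 := ded_36_2 (flp_d L23127) L16162 L23127
theorem L23132 : sm ge N2653 = N2653 := ded_34_2 (flp_d L23127) L16160 L11315 (flp_e L16160) L23127
theorem L23133 : sm gh N2653 = N2653 := ded_38_2 (flp_d L23127) (flp_h L16155) L11306 L16155 L23127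
theorem L23134 : sm gi N1844 = N2654 := rfl
theorem L23136 : sm ga N2654 = N2100 := ded_18_1 (flp_i L18225) (flp_a L16157) L23134
theorem L23138 : sm gc N2654 = N2654 := ded_33_1 (flp_i L23134) L16159 L23134
theorem L23139 : sm ge N2654 = N1845 := ded_44_1 (flp_i L16163) (flp_e L16160) L23134
theorem L23141 : sm gg N2654 = N2654 := ded_51_1 (flp_i L23134) L16162 L23134
theorem L23142 : sm gh N2654 = N2654 := ded_54_1 (flp_i L23134) (flp_h L16155) L11305 L16155 L23134
theorem L23143 : sm gh N1846 = N2655 := rfl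
theorem L23146 : sm gb N2655 = N1847 := ded_25_1 (flp_h L16182) L16173 L23143
theorem L23152 : sm gd N1847 = N2656 := rfl
theorem L23154 : sm ga N2656 = N1849 := ded_12_1 (flp_d L16200) (flp_a L16184) L23152
theorem L23169 : sm ge N1849 = N2658 := rfl
theorem L23171 : sm gb N2658 = N2658 := ded_21_1 (flp_e L23169) L16202 L23169
theorem L23172 : sm gc N2658 = N2658 := ded_28_1 (flp_e L23169) L16205 L23169
theorem L23173 : sm gj N2658 = N2658 := ded_42_2 (flp_e L23169) L16204 L23169
theorem L23174 : sm gh N2658 = N2658 := ded_43_2 (flp_e L23169) L16206 L23169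
theorem L23175 : sm gi N1849 = N2659 := rfl
theorem L23179 : sm gd N2659 = N1850 := ded_39_1 (flp_i L16207) L16200 L23175
theorem L23183 : sm ge N1851 = N2660 := rfl
theorem L23185 : sm ga N2660 = N2660 := ded_13_1 (flp_e L23183) L16223 L23183
theorem L23186 : sm gb N2660 = N1852 := ded_21_1 (flp_e L16225) L16215 L23183
theorem L23188 : sm gc N2660 = N2660 := ded_28_1 (flp_e L23183) L16224 L23183
theorem L23189 : sm gg N2660 = N1860 := ded_41_2 (flp_e L16292) (flp_g L16219) L23183
theorem L23191 : sm gj N2660 = N2660 := ded_42_2 (flp_e L23183) L16221 L23183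
theorem L23192 : sm gh N2660 = N2660 := ded_43_2 (flp_e L23183) L16222 L23183
theorem L23193 : sm gi N1851 = N2661 := rfl
theorem L23196 : sm gb N2661 = N1853 := ded_26_1 (flp_i L16233) L16215 L23193
theorem L23198 : sm gc N2661 = N2661 := ded_33_1 (flp_i L23193) L16224 L23193
theorem L23200 : sm gf N2661 = N2661 := ded_48_1 (flp_i L23193) L16218 L23193
theorem L23201 : sm gg N2661 = N1861 := ded_51_1 (flp_i L16302) (flp_g L16219) L23193
theorem L23204 : sm gd N1852 = N2662 := rfl
theorem L23206 : sm gg N2662 = N1862 := ded_36_2 (flp_d L16313) (flp_g L16229) L23204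
theorem L23208 : sm gj N2662 = N2662 := ded_37_2 (flp_d L23204) L16231 L23204
theorem L23209 : sm gc N2662 = N2662 := ded_27_1 (flp_d L23204) L16227 L11372 (flp_c L16227) L23204
theorem L23210 : sm ge N2662 = N2662 := ded_34_2 (flp_d L23204) (flp_e L16225) L11364 L16225 L23204
theorem L23211 : sm gf N1852 = N2663 := rfl
theorem L23213 : sm gc N2663 = N1854 := ded_29_1 (flp_f L16242) (flp_c L16227) L23211
theorem L23215 : sm gj N2663 = N2663 := ded_46_2 (flp_f L23211) L16231 L23211
theorem L23216 : sm gh N2663 = N2663 := ded_47_2 (flp_f L23211) L16232 L23211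
theorem L23217 : sm ge N2663 = N2663 := ded_40_1 (flp_f L23211) (flp_e L16225) L11359 L16225 L23211
theorem L23218 : sm gg N2663 = N2663 := ded_45_2 (flp_f L23211) L16229 L11418 (flp_g L16229) L23211
theorem L23219 : sm gi N1852 = N2664 := rfl
theorem L23221 : sm gc N2664 = N1855 := ded_33_1 (flp_i L16250) (flp_c L16227) L23219
theorem L23223 : sm ge N2664 = N1853 := ded_44_1 (flp_i L16233) L16225 L23219
theorem L23225 : sm gg N2664 = N1863 := ded_51_1 (flp_i L16320) (flp_g L16229) L23219
theorem L23227 : sm gj N2664 = N2664 := ded_53_1 (flp_i L23219) L16231 L23219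
theorem L23228 : sm gh N1853 = N2665 := rfl
theorem L23230 : sm gc N2665 = N1856 := ded_32_1 (flp_h L16259) (flp_c L16235) L23228
theorem L23232 : sm gf N2665 = N2665 := ded_47_1 (flp_h L23228) L16238 L23228
theorem L23233 : sm gg N2665 = N1864 := ded_50_1 (flp_h L16329) (flp_g L16239) L23228
theorem L23236 : sm gi N2665 = N2665 := ded_54_2 (flp_h L23228) (flp_i L16233) L11363 L16233 L23228
theorem L23237 : sm gi N1854 = N2666 := rfl
theorem L23239 : sm gb N2666 = N2666 := ded_26_1 (flp_i L23237) L16244 L23237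
theorem L23240 : sm gd N2666 = N2666 := ded_39_1 (flp_i L23237) L16245 L23237
theorem L23241 : sm ge N2666 = N2666 := ded_44_1 (flp_i L23237) L16248 L23237
theorem L23242 : sm gf N2666 = N1855 := ded_48_1 (flp_i L16250) L16242 L23237
theorem L23244 : sm gg N2666 = N2666 := ded_51_1 (flp_i L23237) L16249 L23237
theorem L23245 : sm gj N2666 = N2666 := ded_53_1 (flp_i L23237) L16246 L23237
theorem L23246 : sm gh N1855 = N2667 := rfl
theorem L23248 : sm gb N2667 = N2667 := ded_25_1 (flp_h L23246) L16252 L23246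
theorem L23249 : sm ge N2667 = N1856 := ded_43_1 (flp_h L16259) (flp_e L16254) L23246
theorem L23251 : sm gg N2667 = N1865 := ded_50_1 (flp_h L16338) (flp_g L16256) L23246
theorem L23253 : sm gj N2667 = N2667 := ded_52_1 (flp_h L23246) L16258 L23246
theorem L23254 : sm gi N2667 = N2667 := ded_54_2 (flp_h L23246) (flp_i L16250) L11371 L16250 L23246
theorem L23255 : sm gd N1856 = N2668 := rfl
theorem L23257 : sm gb N2668 = N2668 := ded_20_1 (flp_d L23255) L16261 L23255
theorem L23258 : sm gf N2668 = N2668 := ded_35_2 (flp_d L23255) L16262 L23255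
theorem L23259 : sm gg N2668 = N1866 := ded_36_2 (flp_d L16347) (flp_g L16263) L23255
theorem L23261 : sm gj N2668 = N2668 := ded_37_2 (flp_d L23255) L16265 L23255
theorem L23262 : sm gi N2668 = N2668 := ded_39_2 (flp_d L23255) L16266 L23255
theorem L23263 : sm gh N2668 = N1857 := ded_38_2 (flp_d L16267) (flp_h L11382) (flp_d L11376) L16259 L23255
theorem L23265 : sm gc N1857 = N2669 := rfl
theorem L23267 : sm gf N2669 = N2669 := ded_29_2 (flp_c L23265) L16270 L23265
theorem L23268 : sm gg N2669 = N1867 := ded_30_2 (flp_c L16357) (flp_g L16271) L23265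
theorem L23270 : sm gj N2669 = N2669 := ded_31_2 (flp_c L23265) L16273 L23265
theorem L23271 : sm gi N2669 = N1858 := ded_33_2 (flp_c L16276) (flp_i L16274) L23265
theorem L23273 : sm gd N2669 = N2669 := ded_27_2 (flp_c L23265) (flp_d L16267) L11385 L16267 L23265
theorem L23274 : sm ge N1857 = N2670 := rfl
theorem L23276 : sm gb N2670 = N2670 := ded_21_1 (flp_e L23274) L16269 L23274
theorem L23277 : sm gg N2670 = N1868 := ded_41_2 (flp_e L16366) (flp_g L16271) L23274
theorem L23279 : sm gj N2670 = N2670 := ded_42_2 (flp_e L23274) L16273 L23274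
theorem L23280 : sm gi N2670 = N1859 := ded_44_2 (flp_e L16284) (flp_i L16274) L23274
theorem L23282 : sm gd N2670 = N2670 := ded_34_1 (flp_e L23274) (flp_d L16267) L11386 L16267 L23274
theorem L23283 : sm gb N1858 = N2671 := rfl
theorem L23285 : sm gd N2671 = N2671 := ded_20_2 (flp_b L23283) L16283 L23283
theorem L23286 : sm gf N2671 = N2671 := ded_22_2 (flp_b L23283) L16278 L23283
theorem L23287 : sm gg N2671 = N1869 := ded_23_2 (flp_b L16374) (flp_g L16279) L23283
theorem L23289 : sm gj N2671 = N2671 := ded_24_2 (flp_b L23283) L16281 L23283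
theorem L23290 : sm gh N2671 = N2671 := ded_25_2 (flp_b L23283) L16282 L23283
theorem L23291 : sm gc N2671 = N2671 := ded_19_2 (flp_b L23283) (flp_c L16276) L11395 L16276 L23283
theorem L23292 : sm ge N1858 = N2672 := rfl
theorem L23294 : sm gc N2672 = N1859 := ded_28_1 (flp_e L16284) L16276 L23292
theorem L23296 : sm gg N2672 = N1870 := ded_41_2 (flp_e L16383) (flp_g L16279) L23292
theorem L23298 : sm gj N2672 = N2672 := ded_42_2 (flp_e L23292) L16281 L23292
theorem L23299 : sm gh N2672 = N2672 := ded_43_2 (flp_e L23292) L16282 L23292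
theorem L23300 : sm gf N1859 = N2673 := rfl
theorem L23302 : sm gb N2673 = N2673 := ded_22_1 (flp_f L23300) L16286 L23300
theorem L23303 : sm gd N2673 = N2673 := ded_35_1 (flp_f L23300) L16291 L23300
theorem L23304 : sm gj N2673 = N2673 := ded_46_2 (flp_f L23300) L16289 L23300
theorem L23305 : sm gh N2673 = N2673 := ded_47_2 (flp_f L23300) L16290 L23300
theorem L23306 : sm ge N2673 = N2673 := ded_40_1 (flp_f L23300) (flp_e L16284) L11396 L16284 L23300
theorem L23307 : sm gd N1860 = N2674 := rfl
theorem L23309 : sm ga N2674 = N2674 := ded_12_1 (flp_d L23307) L16294 L23307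
theorem L23310 : sm gb N2674 = N1862 := ded_20_1 (flp_d L16313) (flp_b L16295) L23307
theorem L23312 : sm gf N2674 = N2674 := ded_35_2 (flp_d L23307) L16301 L23307
theorem L23313 : sm gj N2674 = N1872 := ded_37_2 (flp_d L16399) (flp_j L16298) L23307
theorem L23315 : sm ge N2674 = N2674 := ded_34_2 (flp_d L23307) (flp_e L16292) L11403 L16292 L23307
theorem L23316 : sm gi N1860 = N2675 := rfl
theorem L23318 : sm ga N2675 = N2675 := ded_18_1 (flp_i L23316) L16294 L23316
theorem L23321 : sm gc N2675 = N2675 := ded_33_1 (flp_i L23316) L16297 L23316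
theorem L23322 : sm ge N2675 = N1861 := ded_44_1 (flp_i L16302) L16292 L23316
theorem L23325 : sm gj N2675 = N1873 := ded_53_1 (flp_i L16407) (flp_j L16298) L23316
theorem L23327 : sm gh N1861 = N2676 := rfl
theorem L23332 : sm gc N2676 = N2676 := ded_32_1 (flp_h L23327) L16307 L23327
theorem L23333 : sm gf N2676 = N1890 := ded_47_1 (flp_h L16539) (flp_f L16309) L23327
theorem L23335 : sm gj N2676 = N1874 := ded_52_1 (flp_h L16417) (flp_j L16311) L23327
theorem L23337 : sm gi N2676 = N2676 := ded_54_2 (flp_h L23327) (flp_i L16302) L11408 L16302 L23327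
theorem L23338 : sm gh N1862 = N2677 := rfl
theorem L23340 : sm gc N2677 = N2677 := ded_32_1 (flp_h L23338) L16318 L23338
theorem L23341 : sm ge N2677 = N2677 := ded_43_1 (flp_h L23338) L16319 L23338
theorem L23342 : sm gf N2677 = N2677 := ded_47_1 (flp_h L23338) L16315 L23338
theorem L23343 : sm gj N2677 = N1875 := ded_52_1 (flp_h L16427) (flp_j L16316) L23338
theorem L23345 : sm gd N2677 = N2677 := ded_38_1 (flp_h L23338) (flp_d L16313) L11417 L16313 L23338
theorem L23346 : sm gi N1862 = N2678 := rfl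
theorem L23348 : sm gc N2678 = N2678 := ded_33_1 (flp_i L23346) L16318 L23346
theorem L23349 : sm gd N2678 = N1863 := ded_39_1 (flp_i L16320) L16313 L23346
theorem L23351 : sm ge N2678 = N2678 := ded_44_1 (flp_i L23346) L16319 L23346
theorem L23352 : sm gf N2678 = N2678 := ded_48_1 (flp_i L23346) L16315 L23346
theorem L23353 : sm gj N2678 = N1876 := ded_53_1 (flp_i L16434) (flp_j L16316) L23346
theorem L23355 : sm gh N1863 = N2679 := rfl
theorem L23357 : sm gc N2679 = N1865 := ded_32_1 (flp_h L16338) (flp_c L16322) L23355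
theorem L23359 : sm ge N2679 = N1864 := ded_43_1 (flp_h L16329) (flp_e L16324) L23355
theorem L23362 : sm gj N2679 = N1877 := ded_52_1 (flp_h L16442) (flp_j L16327) L23355
theorem L23365 : sm gd N1864 = N2680 := rfl
theorem L23367 : sm gf N2680 = N1891 := ded_35_2 (flp_d L16550) (flp_f L16333) L23365
theorem L23369 : sm gj N2680 = N1878 := ded_37_2 (flp_d L16451) (flp_j L16335) L23365
theorem L23371 : sm gi N2680 = N2680 := ded_39_2 (flp_d L23365) L16337 L23365
theorem L23372 : sm gh N2680 = N2680 := ded_38_2 (flp_d L23365) (flp_h L16329) L11423 L16329 L23365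
theorem L23373 : sm gd N1865 = N2681 := rfl
theorem L23375 : sm gb N2681 = N2681 := ded_20_1 (flp_d L23373) L16340 L23373
theorem L23376 : sm gf N2681 = N2681 := ded_35_2 (flp_d L23373) L16343 L23373
theorem L23377 : sm gj N2681 = N1879 := ded_37_2 (flp_d L16458) (flp_j L16344) L23373
theorem L23379 : sm gi N2681 = N2681 := ded_39_2 (flp_d L23373) L16346 L23373
theorem L23380 : sm gh N2681 = N2681 := ded_38_2 (flp_d L23373) (flp_h L16338) L11431 L16338 L23373
theorem L23381 : sm gc N1866 = N2682 := rfl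
theorem L23385 : sm gj N2682 = N1880 := ded_31_2 (flp_c L16465) (flp_j L16352) L23381
theorem L23387 : sm gh N2682 = N1867 := ded_32_2 (flp_c L16357) (flp_h L16355) L23381
theorem L23390 : sm ge N1866 = N2683 := rfl
theorem L23392 : sm gb N2683 = N2683 := ded_21_1 (flp_e L23390) L16349 L23390
theorem L23393 : sm gj N2683 = N1881 := ded_42_2 (flp_e L16473) (flp_j L16352) L23390
theorem L23395 : sm gh N2683 = N1868 := ded_43_2 (flp_e L16366) (flp_h L16355) L23390
theorem L23397 : sm gi N2683 = N2683 := ded_44_2 (flp_e L23390) L16354 L23390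
theorem L23398 : sm gb N1867 = N2684 := rfl
theorem L23400 : sm gd N2684 = N2684 := ded_20_2 (flp_b L23398) L16365 L23398
theorem L23401 : sm gf N2684 = N1894 := ded_22_2 (flp_b L16575) (flp_f L16359) L23398
theorem L23403 : sm gj N2684 = N1882 := ded_24_2 (flp_b L16480) (flp_j L16361) L23398
theorem L23405 : sm gi N2684 = N1869 := ded_26_2 (flp_b L16374) (flp_i L16363) L23398
theorem L23407 : sm gc N2684 = N2684 := ded_19_2 (flp_b L23398) (flp_c L16357) L11447 L16357 L23398
theorem L23408 : sm ge N1867 = N2685 := rfl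
theorem L23410 : sm gc N2685 = N1868 := ded_28_1 (flp_e L16366) L16357 L23408
theorem L23412 : sm gj N2685 = N1883 := ded_42_2 (flp_e L16489) (flp_j L16361) L23408
theorem L23414 : sm gi N2685 = N1870 := ded_44_2 (flp_e L16383) (flp_i L16363) L23408
theorem L23416 : sm gf N1868 = N2686 := rfl
theorem L23418 : sm gb N2686 = N2686 := ded_22_1 (flp_f L23416) L16368 L23416
theorem L23419 : sm gd N2686 = N2686 := ded_35_1 (flp_f L23416) L16373 L23416
theorem L23420 : sm gj N2686 = N1884 := ded_46_2 (flp_f L16496) (flp_j L16369) L23416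
theorem L23422 : sm gi N2686 = N1871 := ded_48_2 (flp_f L16390) (flp_i L16371) L23416
theorem L23424 : sm ge N2686 = N1896 := ded_40_1 (flp_f L16593) (flp_e L11600) (flp_f L11448) L16366 L23416
theorem L23426 : sm ga N1869 = N2687 := rfl
theorem L23432 : sm gj N2687 = N1885 := ded_16_2 (flp_a L16504) (flp_j L16379) L23426
theorem L23435 : sm ge N1869 = N2688 := rfl
theorem L23437 : sm gb N2688 = N1870 := ded_21_1 (flp_e L16383) L16374 L23435
theorem L23439 : sm gc N2688 = N2688 := ded_28_1 (flp_e L23435) L16382 L23435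
theorem L23440 : sm gj N2688 = N1886 := ded_42_2 (flp_e L16512) (flp_j L16379) L23435
theorem L23442 : sm gh N2688 = N2688 := ded_43_2 (flp_e L23435) L16381 L23435
theorem L23443 : sm gd N1870 = N2689 := rfl
theorem L23445 : sm gj N2689 = N1887 := ded_37_2 (flp_d L16519) (flp_j L16387) L23443
theorem L23447 : sm gc N2689 = N2689 := ded_27_1 (flp_d L23443) L16385 L11468 (flp_c L16385) L23443
theorem L23448 : sm ge N2689 = N2689 := ded_34_2 (flp_d L23443) (flp_e L16383) L11461 L16383 L23443
theorem L23449 : sm gf N1870 = N2690 := rfl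
theorem L23451 : sm gc N2690 = N1871 := ded_29_1 (flp_f L16390) (flp_c L16385) L23449
theorem L23453 : sm gj N2690 = N1888 := ded_46_2 (flp_f L16524) (flp_j L16387) L23449
theorem L23455 : sm gh N2690 = N2690 := ded_47_2 (flp_f L23449) L16389 L23449
theorem L23456 : sm ge N2690 = N1900 := ded_40_1 (flp_f L16627) (flp_e L11618) (flp_f L11456) L16383 L23449
theorem L23458 : sm gg N1871 = N2691 := rfl
theorem L23460 : sm gb N2691 = N2691 := ded_23_1 (flp_g L23458) L16392 L23458
theorem L23461 : sm gd N2691 = N2691 := ded_36_1 (flp_g L23458) L16393 L23458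
theorem L23462 : sm ge N2691 = N1901 := ded_41_1 (flp_g L16634) (flp_e L16397) L23458
theorem L23464 : sm gh N2691 = N2691 := ded_50_2 (flp_g L23458) L16396 L23458
theorem L23465 : sm gc N1872 = N2692 := rfl
theorem L23467 : sm ga N2692 = N2692 := ded_11_1 (flp_c L23465) L16401 L23465
theorem L23468 : sm ge N2692 = N2692 := ded_28_2 (flp_c L23465) L16406 L23465
theorem L23469 : sm gf N2692 = N2692 := ded_29_2 (flp_c L23465) L16404 L23465
theorem L23470 : sm gg N2692 = N2692 := ded_30_2 (flp_c L23465) L16405 L23465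
theorem L23471 : sm gb N2692 = N2692 := ded_19_1 (flp_c L23465) L16402 L11492 (flp_b L16402) L23465
theorem L23472 : sm gd N2692 = N2692 := ded_27_2 (flp_c L23465) (flp_d L16399) L11474 L16399 L23465
theorem L23473 : sm gh N1872 = N2693 := rfl
theorem L23475 : sm ga N2693 = N2693 := ded_17_1 (flp_h L23473) L16401 L23473
theorem L23476 : sm gb N2693 = N1875 := ded_25_1 (flp_h L16427) (flp_b L16402) L23473
theorem L23478 : sm ge N2693 = N2693 := ded_43_1 (flp_h L23473) L16406 L23473
theorem L23479 : sm gf N2693 = N2693 := ded_47_1 (flp_h L23473) L16404 L23473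
theorem L23480 : sm gg N2693 = N2693 := ded_50_1 (flp_h L23473) L16405 L23473
theorem L23481 : sm gd N2693 = N2693 := ded_38_1 (flp_h L23473) (flp_d L16399) L11476 L16399 L23473
theorem L23482 : sm gi N1872 = N2694 := rfl
theorem L23484 : sm ga N2694 = N2694 := ded_18_1 (flp_i L23482) L16401 L23482
theorem L23485 : sm gb N2694 = N1876 := ded_26_1 (flp_i L16434) (flp_b L16402) L23482
theorem L23487 : sm gd N2694 = N1873 := ded_39_1 (flp_i L16407) L16399 L23482
theorem L23492 : sm gh N1873 = N2695 := rfl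
theorem L23495 : sm gb N2695 = N1877 := ded_25_1 (flp_h L16442) (flp_b L16410) L23492
theorem L23498 : sm ge N2695 = N1874 := ded_43_1 (flp_h L16417) (flp_e L16413) L23492
theorem L23503 : sm gd N1874 = N2696 := rfl
theorem L23506 : sm gb N2696 = N1878 := ded_20_1 (flp_d L16451) (flp_b L16420) L23503
theorem L23508 : sm gf N2696 = N1902 := ded_35_2 (flp_d L16641) (flp_f L16423) L23503
theorem L23511 : sm gi N2696 = N2696 := ded_39_2 (flp_d L23503) L16426 L23503
theorem L23513 : sm gi N1875 = N2697 := rfl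
theorem L23520 : sm gh N1876 = N2698 := rfl
theorem L23526 : sm gd N1877 = N2699 := rfl
theorem L23531 : sm gc N1878 = N2700 := rfl
theorem L23533 : sm gf N2700 = N1903 := ded_29_2 (flp_c L16650) (flp_f L16453) L23531
theorem L23538 : sm gd N2700 = N1880 := ded_27_2 (flp_c L16465) (flp_d L11518) (flp_c L11504) L16451 L23531
theorem L23540 : sm ge N1878 = N2701 := rfl
theorem L23545 : sm gc N1879 = N2702 := rfl
theorem L23551 : sm ge N1879 = N2703 := rfl
theorem L23553 : sm gb N2703 = N2703 := ded_21_1 (flp_e L23551) L16460 L23551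
theorem L23554 : sm gg N2703 = N2703 := ded_41_2 (flp_e L23551) L16462 L23551
theorem L23555 : sm gh N2703 = N2703 := ded_43_2 (flp_e L23551) L16464 L23551
theorem L23556 : sm gi N2703 = N2703 := ded_44_2 (flp_e L23551) L16463 L23551
theorem L23557 : sm gd N2703 = N1881 := ded_34_1 (flp_e L16473) (flp_d L11518) (flp_e L11513) L16458 L23551
theorem L23559 : sm gb N1880 = N2704 := rfl
theorem L23561 : sm gf N2704 = N1905 := ded_22_2 (flp_b L16665) (flp_f L16467) L23559
theorem L23564 : sm gh N2704 = N1882 := ded_25_2 (flp_b L16480) (flp_h L16470) L23559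
theorem L23568 : sm ge N1880 = N2705 := rfl
theorem L23570 : sm gc N2705 = N1881 := ded_28_1 (flp_e L16473) L16465 L23568
theorem L23573 : sm gh N2705 = N1883 := ded_43_2 (flp_e L16489) (flp_h L16470) L23568
theorem L23576 : sm gf N1881 = N2706 := rfl
theorem L23578 : sm gb N2706 = N2706 := ded_22_1 (flp_f L23576) L16475 L23576
theorem L23579 : sm gh N2706 = N1884 := ded_47_2 (flp_f L16496) (flp_h L16477) L23576
theorem L23581 : sm gi N2706 = N2706 := ded_48_2 (flp_f L23576) L16479 L23576
theorem L23582 : sm ge N2706 = N1907 := ded_40_1 (flp_f L16682) (flp_e L11657) (flp_f L11521) L16473 L23576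
theorem L23584 : sm ga N1882 = N2707 := rfl
theorem L23591 : sm gi N2707 = N1885 := ded_18_2 (flp_a L16504) (flp_i L16486) L23584
theorem L23593 : sm ge N1882 = N2708 := rfl
theorem L23595 : sm gb N2708 = N1883 := ded_21_1 (flp_e L16489) L16480 L23593
theorem L23599 : sm gi N2708 = N1886 := ded_44_2 (flp_e L16512) (flp_i L16486) L23593
theorem L23601 : sm gd N1883 = N2709 := rfl
theorem L23603 : sm gg N2709 = N2709 := ded_36_2 (flp_d L23601) L16493 L23601
theorem L23604 : sm gi N2709 = N1887 := ded_39_2 (flp_d L16519) (flp_i L16494) L23601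
theorem L23606 : sm gc N2709 = N2709 := ded_27_1 (flp_d L23601) L16491 L11541 (flp_c L16491) L23601
theorem L23607 : sm ge N2709 = N2709 := ded_34_2 (flp_d L23601) (flp_e L16489) L11534 L16489 L23601
theorem L23608 : sm gf N1883 = N2710 := rfl
theorem L23610 : sm gc N2710 = N1884 := ded_29_1 (flp_f L16496) (flp_c L16491) L23608
theorem L23612 : sm gi N2710 = N1888 := ded_48_2 (flp_f L16524) (flp_i L16494) L23608
theorem L23614 : sm ge N2710 = N1911 := ded_40_1 (flp_f L16715) (flp_e L11674) (flp_f L11529) L16489 L23608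
theorem L23616 : sm gg N1884 = N2711 := rfl
theorem L23618 : sm gb N2711 = N2711 := ded_23_1 (flp_g L23616) L16498 L23616
theorem L23619 : sm gd N2711 = N2711 := ded_36_1 (flp_g L23616) L16499 L23616
theorem L23620 : sm ge N2711 = N1912 := ded_41_1 (flp_g L16721) (flp_e L16502) L23616
theorem L23622 : sm gi N2711 = N1889 := ded_51_2 (flp_g L16531) (flp_i L16500) L23616
theorem L23624 : sm gf N2711 = N2711 := ded_45_1 (flp_g L23616) (flp_f L16496) L11538 L16496 L23616
theorem L23625 : sm ge N1885 = N2712 := rfl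
theorem L23627 : sm ga N2712 = N1886 := ded_13_1 (flp_e L16512) L16504 L23625
theorem L23632 : sm gd N1886 = N2713 := rfl
theorem L23634 : sm gb N2713 = N1887 := ded_20_1 (flp_d L16519) (flp_b L16514) L23632
theorem L23636 : sm gg N2713 = N2713 := ded_36_2 (flp_d L23632) L16517 L23632
theorem L23637 : sm ge N2713 = N2713 := ded_34_2 (flp_d L23632) (flp_e L16512) L11544 L16512 L23632
theorem L23638 : sm gf N1886 = N2714 := rfl
theorem L23640 : sm gb N2714 = N1888 := ded_22_1 (flp_f L16524) (flp_b L16514) L23638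
theorem L23642 : sm gc N2714 = N2714 := ded_29_1 (flp_f L23638) L16516 L23638
theorem L23643 : sm gh N2714 = N2714 := ded_47_2 (flp_f L23638) L16518 L23638
theorem L23644 : sm ge N2714 = N1915 := ded_40_1 (flp_f L16745) (flp_e L11696) (flp_f L11545) L16512 L23638
theorem L23646 : sm gf N1887 = N2715 := rfl
theorem L23648 : sm gc N2715 = N2715 := ded_29_1 (flp_f L23646) L16522 L23646
theorem L23649 : sm gd N2715 = N1888 := ded_35_1 (flp_f L16524) L16519 L23646
theorem L23651 : sm gh N1887 = N2716 := rfl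
theorem L23653 : sm gc N2716 = N2716 := ded_32_1 (flp_h L23651) L16522 L23651
theorem L23654 : sm ge N2716 = N2716 := ded_43_1 (flp_h L23651) L16523 L23651
theorem L23655 : sm gg N2716 = N2716 := ded_50_1 (flp_h L23651) L16521 L23651
theorem L23656 : sm gd N2716 = N2716 := ded_38_1 (flp_h L23651) (flp_d L16519) L11555 L16519 L23651
theorem L23657 : sm gg N1888 = N2717 := rfl
theorem L23659 : sm gc N2717 = N1889 := ded_30_1 (flp_g L16531) (flp_c L16526) L23657
theorem L23661 : sm ge N2717 = N1918 := ded_41_1 (flp_g L16765) (flp_e L16529) L23657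
theorem L23663 : sm gh N2717 = N2717 := ded_50_2 (flp_g L23657) L16528 L23657
theorem L23664 : sm gf N2717 = N2717 := ded_45_1 (flp_g L23657) (flp_f L16524) L11554 L16524 L23657
theorem L23665 : sm gj N1889 = N2718 := rfl
theorem L23667 : sm gb N2718 = N2718 := ded_24_1 (flp_j L23665) L16533 L23665
theorem L23668 : sm gd N2718 = N2718 := ded_37_1 (flp_j L23665) L16534 L23665
theorem L23669 : sm ge N2718 = N1919 := ded_42_1 (flp_j L16772) (flp_e L16535) L23665
theorem L23671 : sm gf N2718 = N2718 := ded_46_1 (flp_j L23665) L16538 L23665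
theorem L23672 : sm gh N2718 = N2718 := ded_52_2 (flp_j L23665) L16537 L23665
theorem L23673 : sm gd N1890 = N2719 := rfl
theorem L23676 : sm gb N2719 = N1891 := ded_20_1 (flp_d L16550) (flp_b L16542) L23673
theorem L23678 : sm gg N2719 = N2719 := ded_36_2 (flp_d L23673) L16546 L23673
theorem L23679 : sm gj N2719 = N1902 := ded_37_2 (flp_d L16641) (flp_j L16547) L23673
theorem L23681 : sm gi N2719 = N2719 := ded_39_2 (flp_d L23673) L16549 L23673
theorem L23682 : sm gh N2719 = N2719 := ded_38_2 (flp_d L23673) (flp_h L16539) L11569 L16539 L23673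
theorem L23683 : sm gc N1891 = N2720 := rfl
theorem L23685 : sm gg N2720 = N2720 := ded_30_2 (flp_c L23683) L16552 L23683
theorem L23686 : sm gj N2720 = N1903 := ded_31_2 (flp_c L16650) (flp_j L16553) L23683
theorem L23690 : sm gd N2720 = N1892 := ded_27_2 (flp_c L16557) (flp_d L11583) (flp_c L11576) L16550 L23683
theorem L23700 : sm gb N1892 = N2722 := rfl
theorem L23702 : sm gg N2722 = N2722 := ded_23_2 (flp_b L23700) L16559 L23700
theorem L23703 : sm gj N2722 = N1905 := ded_24_2 (flp_b L16665) (flp_j L16560) L23700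
theorem L23705 : sm gh N2722 = N1894 := ded_25_2 (flp_b L16575) (flp_h L16562) L23700
theorem L23708 : sm gc N2722 = N2722 := ded_19_2 (flp_b L23700) (flp_c L16557) L11585 L16557 L23700
theorem L23709 : sm ge N1892 = N2723 := rfl
theorem L23714 : sm gj N2723 = N1906 := ded_42_2 (flp_e L16673) (flp_j L16560) L23709
theorem L23716 : sm gh N2723 = N1895 := ded_43_2 (flp_e L16584) (flp_h L16562) L23709
theorem L23719 : sm gf N1893 = N2724 := rfl
theorem L23721 : sm gb N2724 = N2724 := ded_22_1 (flp_f L23719) L16567 L23719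
theorem L23722 : sm gd N2724 = N2724 := ded_35_1 (flp_f L23719) L16574 L23719
theorem L23723 : sm gj N2724 = N1907 := ded_46_2 (flp_f L16682) (flp_j L16569) L23719
theorem L23725 : sm gh N2724 = N1896 := ded_47_2 (flp_f L16593) (flp_h L16571) L23719
theorem L23727 : sm gi N2724 = N2724 := ded_48_2 (flp_f L23719) L16573 L23719
theorem L23728 : sm ga N1894 = N2725 := rfl
theorem L23733 : sm gj N2725 = N1908 := ded_16_2 (flp_a L16689) (flp_j L16579) L23728
theorem L23735 : sm gi N2725 = N1897 := ded_18_2 (flp_a L16602) (flp_i L16581) L23728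
theorem L23737 : sm ge N1894 = N2726 := rfl
theorem L23739 : sm gb N2726 = N1895 := ded_21_1 (flp_e L16584) L16575 L23737
theorem L23743 : sm gj N2726 = N1909 := ded_42_2 (flp_e L16697) (flp_j L16579) L23737
theorem L23745 : sm gi N2726 = N1898 := ded_44_2 (flp_e L16610) (flp_i L16581) L23737
theorem L23747 : sm gd N1895 = N2727 := rfl
theorem L23749 : sm gg N2727 = N2727 := ded_36_2 (flp_d L23747) L16588 L23747
theorem L23750 : sm gj N2727 = N1910 := ded_37_2 (flp_d L16706) (flp_j L16589) L23747
theorem L23752 : sm gi N2727 = N1899 := ded_39_2 (flp_d L16619) (flp_i L16591) L23747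
theorem L23754 : sm gc N2727 = N1950 := ded_27_1 (flp_d L17013) L11874 (flp_d L11608) (flp_c L16586) L23747
theorem L23756 : sm ge N2727 = N2727 := ded_34_2 (flp_d L23747) (flp_e L16584) L11599 L16584 L23747
theorem L23757 : sm gf N1895 = N2728 := rfl
theorem L23759 : sm gc N2728 = N1896 := ded_29_1 (flp_f L16593) (flp_c L16586) L23757
theorem L23761 : sm gj N2728 = N1911 := ded_46_2 (flp_f L16715) (flp_j L16589) L23757
theorem L23763 : sm gi N2728 = N1900 := ded_48_2 (flp_f L16627) (flp_i L16591) L23757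
theorem L23765 : sm gg N1896 = N2729 := rfl
theorem L23767 : sm gb N2729 = N2729 := ded_23_1 (flp_g L23765) L16595 L23765
theorem L23768 : sm gd N2729 = N1952 := ded_36_1 (flp_g L17031) (flp_d L16596) L23765
theorem L23770 : sm gi N2729 = N1901 := ded_51_2 (flp_g L16634) (flp_i L16600) L23765
theorem L23772 : sm gf N2729 = N2729 := ded_45_1 (flp_g L23765) (flp_f L16593) L11603 L16593 L23765
theorem L23773 : sm ge N1897 = N2730 := rfl
theorem L23775 : sm ga N2730 = N1898 := ded_13_1 (flp_e L16610) L16602 L23773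
theorem L23779 : sm gj N2730 = N1913 := ded_42_2 (flp_e L16730) (flp_j L16607) L23773
theorem L23782 : sm gd N1898 = N2731 := rfl
theorem L23784 : sm gb N2731 = N1899 := ded_20_1 (flp_d L16619) (flp_b L16612) L23782
theorem L23786 : sm gg N2731 = N2731 := ded_36_2 (flp_d L23782) L16615 L23782
theorem L23787 : sm gj N2731 = N1914 := ded_37_2 (flp_d L16738) (flp_j L16616) L23782
theorem L23789 : sm ge N2731 = N2731 := ded_34_2 (flp_d L23782) (flp_e L16610) L11612 L16610 L23782
theorem L23790 : sm gf N1898 = N2732 := rfl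
theorem L23792 : sm gb N2732 = N1900 := ded_22_1 (flp_f L16627) (flp_b L16612) L23790
theorem L23794 : sm gc N2732 = N2732 := ded_29_1 (flp_f L23790) L16614 L23790
theorem L23795 : sm gj N2732 = N1915 := ded_46_2 (flp_f L16745) (flp_j L16616) L23790
theorem L23797 : sm gh N2732 = N2732 := ded_47_2 (flp_f L23790) L16618 L23790
theorem L23798 : sm gf N1899 = N2733 := rfl
theorem L23800 : sm gc N2733 = N1956 := ded_29_1 (flp_f L17067) (flp_c L16624) L23798
theorem L23802 : sm gd N2733 = N1900 := ded_35_1 (flp_f L16627) L16619 L23798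
theorem L23804 : sm gj N2733 = N1916 := ded_46_2 (flp_f L16751) (flp_j L16622) L23798
theorem L23806 : sm gh N1899 = N2734 := rfl
theorem L23808 : sm gc N2734 = N1957 := ded_32_1 (flp_h L17073) (flp_c L16624) L23806
theorem L23810 : sm ge N2734 = N2734 := ded_43_1 (flp_h L23806) L16626 L23806
theorem L23811 : sm gg N2734 = N2734 := ded_50_1 (flp_h L23806) L16621 L23806
theorem L23812 : sm gj N2734 = N1917 := ded_52_1 (flp_h L16757) (flp_j L16622) L23806
theorem L23814 : sm gd N2734 = N2734 := ded_38_1 (flp_h L23806) (flp_d L16619) L11625 L16619 L23806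
theorem L23815 : sm gg N1900 = N2735 := rfl
theorem L23817 : sm gc N2735 = N1901 := ded_30_1 (flp_g L16634) (flp_c L16629) L23815
theorem L23819 : sm gh N2735 = N2735 := ded_50_2 (flp_g L23815) L16633 L23815
theorem L23820 : sm gf N2735 = N2735 := ded_45_1 (flp_g L23815) (flp_f L16627) L11622 L16627 L23815
theorem L23821 : sm gj N1901 = N2736 := rfl
theorem L23823 : sm gb N2736 = N2736 := ded_24_1 (flp_j L23821) L16636 L23821
theorem L23824 : sm gd N2736 = N1959 := ded_37_1 (flp_j L17089) (flp_d L16637) L23821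
theorem L23826 : sm gf N2736 = N2736 := ded_46_1 (flp_j L23821) L16640 L23821
theorem L23827 : sm gh N2736 = N2736 := ded_52_2 (flp_j L23821) L16639 L23821
theorem L23828 : sm gg N2736 = N1919 := ded_49_1 (flp_j L16772) (flp_g L11716) (flp_j L11631) L16634 L23821
theorem L23830 : sm gc N1902 = N2737 := rfl
theorem L23833 : sm gg N2737 = N1920 := ded_30_2 (flp_c L16780) (flp_g L16646) L23830
theorem L23836 : sm gi N2737 = N2737 := ded_33_2 (flp_c L23830) L16648 L23830
theorem L23838 : sm ge N1902 = N2738 := rfl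
theorem L23843 : sm gg N2738 = N1921 := ded_41_2 (flp_e L16788) (flp_g L16646) L23838
theorem L23848 : sm gb N1903 = N2739 := rfl
theorem L23850 : sm gd N2739 = N1905 := ded_20_2 (flp_b L16665) (flp_d L16656) L23848
theorem L23852 : sm gg N2739 = N1922 := ded_23_2 (flp_b L16797) (flp_g L16652) L23848
theorem L23856 : sm ge N1903 = N2740 := rfl
theorem L23860 : sm gg N2740 = N1923 := ded_41_2 (flp_e L16805) (flp_g L16652) L23856
theorem L23869 : sm ga N1905 = N2742 := rfl
theorem L23872 : sm gg N2742 = N1925 := ded_15_2 (flp_a L16819) (flp_g L16667) L23869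
theorem L23874 : sm gh N2742 = N1908 := ded_17_2 (flp_a L16689) (flp_h L16669) L23869
theorem L23877 : sm ge N1905 = N2743 := rfl
theorem L23881 : sm gc N2743 = N2743 := ded_28_1 (flp_e L23877) L16672 L23877
theorem L23882 : sm gg N2743 = N1926 := ded_41_2 (flp_e L16827) (flp_g L16667) L23877
theorem L23884 : sm gh N2743 = N1909 := ded_43_2 (flp_e L16697) (flp_h L16669) L23877
theorem L23887 : sm gd N1906 = N2744 := rfl
theorem L23893 : sm gf N1906 = N2745 := rfl
theorem L23895 : sm gc N2745 = N1907 := ded_29_1 (flp_f L16682) (flp_c L16675) L23893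
theorem L23897 : sm gh N2745 = N1911 := ded_47_2 (flp_f L16715) (flp_h L16679) L23893
theorem L23900 : sm gg N1907 = N2746 := rfl
theorem L23902 : sm gb N2746 = N2746 := ded_23_1 (flp_g L23900) L16684 L23900
theorem L23903 : sm gd N2746 = N2746 := ded_36_1 (flp_g L23900) L16685 L23900
theorem L23904 : sm gh N2746 = N1912 := ded_50_2 (flp_g L16721) (flp_h L16686) L23900
theorem L23906 : sm gi N2746 = N2746 := ded_51_2 (flp_g L23900) L16688 L23900
theorem L23907 : sm gf N2746 = N1929 := ded_45_1 (flp_g L16850) (flp_f L11763) (flp_g L11660) L16682 L23900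
theorem L23909 : sm ge N1908 = N2747 := rfl
theorem L23911 : sm ga N2747 = N1909 := ded_13_1 (flp_e L16697) L16689 L23909
theorem L23914 : sm gg N2747 = N1930 := ded_41_2 (flp_e L16858) (flp_g L16693) L23909
theorem L23916 : sm gi N2747 = N1913 := ded_44_2 (flp_e L16730) (flp_i L16695) L23909
theorem L23918 : sm gd N1909 = N2748 := rfl
theorem L23920 : sm gb N2748 = N1910 := ded_20_1 (flp_d L16706) (flp_b L16699) L23918
theorem L23922 : sm gg N2748 = N1931 := ded_36_2 (flp_d L16866) (flp_g L16702) L23918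
theorem L23924 : sm gi N2748 = N1914 := ded_39_2 (flp_d L16738) (flp_i L16704) L23918
theorem L23927 : sm gf N1909 = N2749 := rfl
theorem L23929 : sm gb N2749 = N1911 := ded_22_1 (flp_f L16715) (flp_b L16699) L23927
theorem L23932 : sm gi N2749 = N1915 := ded_48_2 (flp_f L16745) (flp_i L16704) L23927
theorem L23934 : sm gf N1910 = N2750 := rfl
theorem L23936 : sm gc N2750 = N1963 := ded_29_1 (flp_f L17126) (flp_c L16712) L23934
theorem L23938 : sm gd N2750 = N1911 := ded_35_1 (flp_f L16715) L16706 L23934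
theorem L23940 : sm gi N2750 = N1916 := ded_48_2 (flp_f L16751) (flp_i L16710) L23934
theorem L23942 : sm gh N1910 = N2751 := rfl
theorem L23944 : sm gc N2751 = N1964 := ded_32_1 (flp_h L17132) (flp_c L16712) L23942
theorem L23949 : sm gg N1911 = N2752 := rfl
theorem L23951 : sm gc N2752 = N1912 := ded_30_1 (flp_g L16721) (flp_c L16717) L23949
theorem L23953 : sm gi N2752 = N1918 := ded_51_2 (flp_g L16765) (flp_i L16719) L23949
theorem L23955 : sm gf N2752 = N1935 := ded_45_1 (flp_g L16898) (flp_f L11796) (flp_g L11678) L16715 L23949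
theorem L23957 : sm gj N1912 = N2753 := rfl
theorem L23959 : sm gb N2753 = N2753 := ded_24_1 (flp_j L23957) L16723 L23957
theorem L23960 : sm gd N2753 = N1966 := ded_37_1 (flp_j L17148) (flp_d L16724) L23957
theorem L23962 : sm gf N2753 = N1936 := ded_46_1 (flp_j L16905) (flp_f L16728) L23957
theorem L23964 : sm gi N2753 = N1919 := ded_53_2 (flp_j L16772) (flp_i L16726) L23957
theorem L23966 : sm gd N1913 = N2754 := rfl
theorem L23968 : sm ga N2754 = N1914 := ded_12_1 (flp_d L16738) (flp_a L16732) L23966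
theorem L23970 : sm gg N2754 = N1937 := ded_36_2 (flp_d L16914) (flp_g L16735) L23966
theorem L23973 : sm gf N1913 = N2755 := rfl
theorem L23979 : sm gc N1914 = N2756 := rfl
theorem L23981 : sm ge N2756 = N2756 := ded_28_2 (flp_c L23979) L16744 L23979
theorem L23982 : sm gg N2756 = N1939 := ded_30_2 (flp_c L16928) (flp_g L16742) L23979
theorem L23984 : sm gb N2756 = N1969 := ded_19_1 (flp_c L17172) L11988 (flp_c L11708) (flp_b L16740) L23979
theorem L23986 : sm gd N2756 = N2756 := ded_27_2 (flp_c L23979) (flp_d L16738) L11700 L16738 L23979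
theorem L23987 : sm gf N1914 = N2757 := rfl
theorem L23989 : sm gb N2757 = N1916 := ded_22_1 (flp_f L16751) (flp_b L16740) L23987
theorem L23991 : sm gd N2757 = N1915 := ded_35_1 (flp_f L16745) L16738 L23987
theorem L23993 : sm gh N1914 = N2758 := rfl
theorem L23995 : sm gb N2758 = N1917 := ded_25_1 (flp_h L16757) (flp_b L16740) L23993
theorem L23997 : sm ge N2758 = N2758 := ded_43_1 (flp_h L23993) L16744 L23993
theorem L23998 : sm gg N2758 = N1941 := ded_50_1 (flp_h L16942) (flp_g L16742) L23993
theorem L24000 : sm gd N2758 = N2758 := ded_38_1 (flp_h L23993) (flp_d L16738) L11703 L16738 L23993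
theorem L24001 : sm gg N1915 = N2759 := rfl
theorem L24003 : sm gb N2759 = N1918 := ded_23_1 (flp_g L16765) (flp_b L16747) L24001
theorem L24005 : sm gc N2759 = N2759 := ded_30_1 (flp_g L24001) L16749 L24001
theorem L24006 : sm gh N2759 = N2759 := ded_50_2 (flp_g L24001) L16750 L24001
theorem L24007 : sm gf N2759 = N1942 := ded_45_1 (flp_g L16949) (flp_f L11825) (flp_g L11701) L16745 L24001
theorem L24009 : sm ge N1916 = N2760 := rfl
theorem L24011 : sm gc N2760 = N1973 := ded_28_1 (flp_e L17203) (flp_c L16753) L24009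
theorem L24013 : sm gf N2760 = N2760 := ded_40_2 (flp_e L24009) (flp_f L16751) L11710 L16751 L24009
theorem L24014 : sm gg N1916 = N2761 := rfl
theorem L24016 : sm gc N2761 = N1974 := ded_30_1 (flp_g L17207) (flp_c L16753) L24014
theorem L24018 : sm gd N2761 = N1918 := ded_36_1 (flp_g L16765) (flp_d L16755) L24014
theorem L24020 : sm gf N2761 = N1944 := ded_45_1 (flp_g L16963) (flp_f L11833) (flp_g L11706) L16751 L24014
theorem L24022 : sm gh N1916 = N2762 := rfl
theorem L24024 : sm gc N2762 = N1975 := ded_32_1 (flp_h L17213) (flp_c L16753) L24022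
theorem L24026 : sm gf N2762 = N1917 := ded_47_1 (flp_h L16757) L16751 L24022
theorem L24028 : sm gd N2762 = N2762 := ded_38_1 (flp_h L24022) L16755 L11715 (flp_d L16755) L24022
theorem L24029 : sm gi N1917 = N2763 := rfl
theorem L24037 : sm gj N1918 = N2764 := rfl
theorem L24039 : sm gc N2764 = N1919 := ded_31_1 (flp_j L16772) (flp_c L16767) L24037
theorem L24041 : sm gf N2764 = N1947 := ded_46_1 (flp_j L16984) (flp_f L16770) L24037
theorem L24043 : sm gh N2764 = N2764 := ded_52_2 (flp_j L24037) L16769 L24037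
theorem L24044 : sm gb N1920 = N2765 := rfl
theorem L24048 : sm gj N2765 = N2765 := ded_24_2 (flp_b L24044) L16784 L24044
theorem L24049 : sm gh N2765 = N2765 := ded_25_2 (flp_b L24044) L16785 L24044
theorem L24051 : sm gc N2765 = N1922 := ded_19_2 (flp_b L16797) (flp_c L11733) (flp_b L11727) L16780 L24044
theorem L24053 : sm ge N1920 = N2766 := rfl
theorem L24056 : sm gc N2766 = N1921 := ded_28_1 (flp_e L16788) L16780 L24053
theorem L24058 : sm gj N2766 = N2766 := ded_42_2 (flp_e L24053) L16784 L24053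
theorem L24059 : sm gh N2766 = N2766 := ded_43_2 (flp_e L24053) L16785 L24053
theorem L24061 : sm gf N1921 = N2767 := rfl
theorem L24064 : sm gb N2767 = N1924 := ded_22_1 (flp_f L16812) (flp_b L16791) L24061
theorem L24071 : sm ga N1922 = N2768 := rfl
theorem L24073 : sm gd N2768 = N1925 := ded_12_2 (flp_a L16819) (flp_d L16799) L24071
theorem L24076 : sm gj N2768 = N2768 := ded_16_2 (flp_a L24071) L16802 L24071
theorem L24079 : sm ge N1922 = N2769 := rfl
theorem L24081 : sm gb N2769 = N1923 := ded_21_1 (flp_e L16805) L16797 L24079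
theorem L24083 : sm gj N2769 = N2769 := ded_42_2 (flp_e L24079) L16802 L24079
theorem L24086 : sm gd N1923 = N2770 := rfl
theorem L24088 : sm gj N2770 = N2770 := ded_37_2 (flp_d L24086) L16809 L24086
theorem L24091 : sm ge N2770 = N1927 := ded_34_2 (flp_d L16836) (flp_e L11755) (flp_d L11739) L16805 L24086
theorem L24101 : sm gg N1924 = N2772 := rfl
theorem L24107 : sm ge N1925 = N2773 := rfl
theorem L24109 : sm ga N2773 = N1926 := ded_13_1 (flp_e L16827) L16819 L24107
theorem L24113 : sm gh N2773 = N1930 := ded_43_2 (flp_e L16858) (flp_h L16824) L24107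
theorem L24116 : sm gd N1926 = N2774 := rfl
theorem L24120 : sm gj N2774 = N2774 := ded_37_2 (flp_d L24116) L16832 L24116
theorem L24122 : sm gf N1926 = N2775 := rfl
theorem L24124 : sm gb N2775 = N1928 := ded_22_1 (flp_f L16841) (flp_b L16829) L24122
theorem L24128 : sm gh N2775 = N1932 := ded_47_2 (flp_f L16874) (flp_h L16833) L24122
theorem L24132 : sm gf N1927 = N2776 := rfl
theorem L24135 : sm gd N2776 = N1928 := ded_35_1 (flp_f L16841) L16836 L24132
theorem L24137 : sm gj N2776 = N2776 := ded_46_2 (flp_f L24132) L16838 L24132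
theorem L24145 : sm gg N1928 = N2778 := rfl
theorem L24147 : sm gc N2778 = N1929 := ded_30_1 (flp_g L16850) (flp_c L16843) L24145
theorem L24150 : sm gh N2778 = N1935 := ded_50_2 (flp_g L16898) (flp_h L16846) L24145
theorem L24153 : sm gj N1929 = N2779 := rfl
theorem L24155 : sm gb N2779 = N2779 := ded_24_1 (flp_j L24153) L16852 L24153
theorem L24156 : sm gd N2779 = N2779 := ded_37_1 (flp_j L24153) L16853 L24153
theorem L24157 : sm ge N2779 = N2779 := ded_42_1 (flp_j L24153) L16854 L24153
theorem L24158 : sm gh N2779 = N1936 := ded_52_2 (flp_j L16905) (flp_h L16855) L24153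
theorem L24160 : sm gi N2779 = N2779 := ded_53_2 (flp_j L24153) L16857 L24153
theorem L24161 : sm gg N2779 = N2779 := ded_49_1 (flp_j L24153) (flp_g L16850) L11767 L16850 L24153
theorem L24162 : sm gd N1930 = N2780 := rfl
theorem L24164 : sm ga N2780 = N1931 := ded_12_1 (flp_d L16866) (flp_a L16860) L24162
theorem L24167 : sm gi N2780 = N1937 := ded_39_2 (flp_d L16914) (flp_i L16864) L24162
theorem L24169 : sm ge N2780 = N2780 := ded_34_2 (flp_d L24162) (flp_e L16858) L11775 L16858 L24162
theorem L24170 : sm gf N1930 = N2781 := rfl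
theorem L24179 : sm gc N1931 = N2782 := rfl
theorem L24183 : sm gi N2782 = N1939 := ded_33_2 (flp_c L16928) (flp_i L16871) L24179
theorem L24185 : sm gb N2782 = N1980 := ded_19_1 (flp_c L17254) L12040 (flp_c L11793) (flp_b L16868) L24179
theorem L24188 : sm gf N1931 = N2783 := rfl
theorem L24190 : sm gb N2783 = N1933 := ded_22_1 (flp_f L16883) (flp_b L16868) L24188
theorem L24192 : sm gd N2783 = N1932 := ded_35_1 (flp_f L16874) L16866 L24188
theorem L24195 : sm gi N2783 = N1940 := ded_48_2 (flp_f L16935) (flp_i L16871) L24188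
theorem L24203 : sm gg N1932 = N2785 := rfl
theorem L24205 : sm gb N2785 = N1935 := ded_23_1 (flp_g L16898) (flp_b L16876) L24203
theorem L24209 : sm gi N2785 = N1942 := ded_51_2 (flp_g L16949) (flp_i L16880) L24203
theorem L24211 : sm ge N1933 = N2786 := rfl
theorem L24213 : sm gc N2786 = N1984 := ded_28_1 (flp_e L17287) (flp_c L16885) L24211
theorem L24215 : sm gj N2786 = N2786 := ded_42_2 (flp_e L24211) L16889 L24211
theorem L24216 : sm gi N2786 = N1943 := ded_44_2 (flp_e L16956) (flp_i L16890) L24211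
theorem L24218 : sm gd N2786 = N2786 := ded_34_1 (flp_e L24211) L16887 L11803 (flp_d L16887) L24211
theorem L24219 : sm gf N2786 = N2786 := ded_40_2 (flp_e L24211) (flp_f L16883) L11795 L16883 L24211
theorem L24220 : sm gg N1933 = N2787 := rfl
theorem L24222 : sm gc N2787 = N1985 := ded_30_1 (flp_g L17295) (flp_c L16885) L24220
theorem L24224 : sm gd N2787 = N1935 := ded_36_1 (flp_g L16898) (flp_d L16887) L24220
theorem L24226 : sm gi N2787 = N1944 := ded_51_2 (flp_g L16963) (flp_i L16890) L24220
theorem L24228 : sm gh N1933 = N2788 := rfl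
theorem L24230 : sm gc N2788 = N1986 := ded_32_1 (flp_h L17301) (flp_c L16885) L24228
theorem L24243 : sm gj N1935 = N2790 := rfl
theorem L24245 : sm gc N2790 = N1936 := ded_31_1 (flp_j L16905) (flp_c L16900) L24243
theorem L24247 : sm ge N2790 = N2790 := ded_42_1 (flp_j L24243) L16902 L24243
theorem L24248 : sm gi N2790 = N1947 := ded_53_2 (flp_j L16984) (flp_i L16903) L24243
theorem L24250 : sm gg N2790 = N2790 := ded_49_1 (flp_j L24243) (flp_g L16898) L11800 L16898 L24243
theorem L24251 : sm gc N1937 = N2791 := rfl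
theorem L24253 : sm ga N2791 = N1939 := ded_11_1 (flp_c L16928) (flp_a L16916) L24251
theorem L24258 : sm gf N1937 = N2792 := rfl
theorem L24260 : sm ga N2792 = N1940 := ded_14_1 (flp_f L16935) (flp_a L16916) L24258
theorem L24272 : sm gg N1938 = N2794 := rfl
theorem L24274 : sm ga N2794 = N1942 := ded_15_1 (flp_g L16949) (flp_a L16922) L24272
theorem L24279 : sm gf N1939 = N2795 := rfl
theorem L24281 : sm gb N2795 = N1993 := ded_22_1 (flp_f L17355) (flp_b L16932) L24279
theorem L24283 : sm gc N2795 = N1940 := ded_29_1 (flp_f L16935) L16928 L24279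
theorem L24285 : sm gd N2795 = N2795 := ded_35_1 (flp_f L24279) L16934 L24279
theorem L24286 : sm gj N2795 = N2795 := ded_46_2 (flp_f L24279) L16931 L24279
theorem L24287 : sm gh N1939 = N2796 := rfl
theorem L24289 : sm gb N2796 = N1994 := ded_25_1 (flp_h L17361) (flp_b L16932) L24287
theorem L24291 : sm gc N2796 = N1941 := ded_32_1 (flp_h L16942) L16928 L24287
theorem L24295 : sm ge N1940 = N2797 := rfl
theorem L24297 : sm gb N2797 = N1943 := ded_21_1 (flp_e L16956) (flp_b L16937) L24295
theorem L24299 : sm gj N2797 = N2797 := ded_42_2 (flp_e L24295) L16941 L24295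
theorem L24300 : sm gd N2797 = N2797 := ded_34_1 (flp_e L24295) L16939 L11832 (flp_d L16939) L24295
theorem L24301 : sm gf N2797 = N2797 := ded_40_2 (flp_e L24295) (flp_f L16935) L11824 L16935 L24295
theorem L24302 : sm gg N1940 = N2798 := rfl
theorem L24304 : sm gb N2798 = N1944 := ded_23_1 (flp_g L16963) (flp_b L16937) L24302
theorem L24306 : sm gd N2798 = N1942 := ded_36_1 (flp_g L16949) (flp_d L16939) L24302
theorem L24308 : sm gh N1940 = N2799 := rfl
theorem L24310 : sm gb N2799 = N1945 := ded_25_1 (flp_h L16969) (flp_b L16937) L24308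
theorem L24312 : sm gf N2799 = N1941 := ded_47_1 (flp_h L16942) L16935 L24308
theorem L24314 : sm gj N2799 = N2799 := ded_52_1 (flp_h L24308) L16941 L24308
theorem L24315 : sm gd N2799 = N2799 := ded_38_1 (flp_h L24308) L16939 L11831 (flp_d L16939) L24308
theorem L24316 : sm gi N1941 = N2800 := rfl
theorem L24323 : sm gj N1942 = N2801 := rfl
theorem L24325 : sm gb N2801 = N1947 := ded_24_1 (flp_j L16984) (flp_b L16951) L24323
theorem L24327 : sm gc N2801 = N2801 := ded_31_1 (flp_j L24323) L16953 L24323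
theorem L24328 : sm ge N2801 = N2801 := ded_42_1 (flp_j L24323) L16954 L24323
theorem L24329 : sm gh N2801 = N2801 := ded_52_2 (flp_j L24323) L16955 L24323
theorem L24330 : sm gg N2801 = N2801 := ded_49_1 (flp_j L24323) (flp_g L16949) L11830 L16949 L24323
theorem L24331 : sm gg N1943 = N2802 := rfl
theorem L24333 : sm gc N2802 = N2000 := ded_30_1 (flp_g L17408) (flp_c L16958) L24331
theorem L24335 : sm gd N2802 = N2802 := ded_36_1 (flp_g L24331) L16961 L24331
theorem L24336 : sm ge N2802 = N1944 := ded_41_1 (flp_g L16963) L16956 L24331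
theorem L24338 : sm gh N1943 = N2803 := rfl
theorem L24340 : sm gc N2803 = N2001 := ded_32_1 (flp_h L17414) (flp_c L16958) L24338
theorem L24342 : sm ge N2803 = N1945 := ded_43_1 (flp_h L16969) L16956 L24338
theorem L24344 : sm gf N2803 = N2803 := ded_47_1 (flp_h L24338) L16962 L24338
theorem L24345 : sm gj N2803 = N2803 := ded_52_1 (flp_h L24338) L16960 L24338
theorem L24346 : sm gj N1944 = N2804 := rfl
theorem L24348 : sm gc N2804 = N2002 := ded_31_1 (flp_j L17421) (flp_c L16965) L24346
theorem L24350 : sm gd N2804 = N1947 := ded_37_1 (flp_j L16984) (flp_d L16967) L24346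
theorem L24352 : sm gg N2804 = N2804 := ded_49_1 (flp_j L24346) (flp_g L16963) L11839 L16963 L24346
theorem L24353 : sm gh N1944 = N2805 := rfl
theorem L24355 : sm gc N2805 = N2003 := ded_32_1 (flp_h L17426) (flp_c L16965) L24353
theorem L24357 : sm gg N2805 = N1945 := ded_50_1 (flp_h L16969) L16963 L24353
theorem L24359 : sm gd N2805 = N2805 := ded_38_1 (flp_h L24353) L16967 L11852 (flp_d L16967) L24353
theorem L24360 : sm gi N1945 = N2806 := rfl
theorem L24362 : sm gc N2806 = N2004 := ded_33_1 (flp_i L17432) (flp_c L16971) L24360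
theorem L24368 : sm ge N1948 = N2807 := rfl
theorem L24370 : sm ga N2807 = N1949 := ded_13_1 (flp_e L17002) L16991 L24368
theorem L24372 : sm gc N2807 = N2807 := ded_28_1 (flp_e L24368) L16993 L24368
theorem L24373 : sm gg N2807 = N2807 := ded_41_2 (flp_e L24368) L16996 L24368
theorem L24374 : sm gj N2807 = N1960 := ded_42_2 (flp_e L17098) (flp_j L16997) L24368
theorem L24376 : sm gh N2807 = N2807 := ded_43_2 (flp_e L24368) L16999 L24368
theorem L24377 : sm gi N2807 = N1953 := ded_44_2 (flp_e L17039) (flp_i L17000) L24368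
theorem L24379 : sm gd N1949 = N2808 := rfl
theorem L24381 : sm gb N2808 = N1950 := ded_20_1 (flp_d L17013) (flp_b L17004) L24379
theorem L24383 : sm gg N2808 = N2808 := ded_36_2 (flp_d L24379) L17007 L24379
theorem L24384 : sm gj N2808 = N1961 := ded_37_2 (flp_d L17108) (flp_j L17008) L24379
theorem L24386 : sm gi N2808 = N1954 := ded_39_2 (flp_d L17049) (flp_i L17011) L24379
theorem L24388 : sm ge N2808 = N2808 := ded_34_2 (flp_d L24379) (flp_e L17002) L11863 L17002 L24379
theorem L24389 : sm gf N1949 = N2809 := rfl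
theorem L24391 : sm gb N2809 = N1951 := ded_22_1 (flp_f L17021) (flp_b L17004) L24389
theorem L24393 : sm gc N2809 = N2809 := ded_29_1 (flp_f L24389) L17006 L24389
theorem L24394 : sm gj N2809 = N1962 := ded_46_2 (flp_f L17117) (flp_j L17008) L24389
theorem L24396 : sm gh N2809 = N2809 := ded_47_2 (flp_f L24389) L17010 L24389
theorem L24397 : sm gi N2809 = N1955 := ded_48_2 (flp_f L17057) (flp_i L17011) L24389
theorem L24399 : sm ge N2809 = N2809 := ded_40_1 (flp_f L24389) (flp_e L17002) L11864 L17002 L24389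
theorem L24400 : sm gf N1950 = N2810 := rfl
theorem L24402 : sm gd N2810 = N1951 := ded_35_1 (flp_f L17021) L17013 L24400
theorem L24404 : sm gj N2810 = N1963 := ded_46_2 (flp_f L17126) (flp_j L17016) L24400
theorem L24406 : sm gi N2810 = N1956 := ded_48_2 (flp_f L17067) (flp_i L17018) L24400
theorem L24408 : sm gh N1950 = N2811 := rfl
theorem L24410 : sm ge N2811 = N2811 := ded_43_1 (flp_h L24408) L17020 L24408
theorem L24411 : sm gg N2811 = N2811 := ded_50_1 (flp_h L24408) L17015 L24408
theorem L24412 : sm gj N2811 = N1964 := ded_52_1 (flp_h L17132) (flp_j L17016) L24408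
theorem L24414 : sm gd N2811 = N2811 := ded_38_1 (flp_h L24408) (flp_d L17013) L11879 L17013 L24408
theorem L24415 : sm gg N1951 = N2812 := rfl
theorem L24417 : sm gc N2812 = N1952 := ded_30_1 (flp_g L17031) (flp_c L17023) L24415
theorem L24419 : sm ge N2812 = N2812 := ded_41_1 (flp_g L24415) L17030 L24415
theorem L24420 : sm gh N2812 = N2812 := ded_50_2 (flp_g L24415) L17027 L24415
theorem L24421 : sm gi N2812 = N1958 := ded_51_2 (flp_g L17081) (flp_i L17028) L24415
theorem L24423 : sm gf N2812 = N2812 := ded_45_1 (flp_g L24415) (flp_f L17021) L11876 L17021 L24415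
theorem L24424 : sm gj N1952 = N2813 := rfl
theorem L24426 : sm gb N2813 = N2813 := ded_24_1 (flp_j L24424) L17033 L24424
theorem L24427 : sm ge N2813 = N2813 := ded_42_1 (flp_j L24424) L17034 L24424
theorem L24428 : sm gf N2813 = N2813 := ded_46_1 (flp_j L24424) L17038 L24424
theorem L24429 : sm gh N2813 = N2813 := ded_52_2 (flp_j L24424) L17035 L24424
theorem L24430 : sm gi N2813 = N1959 := ded_53_2 (flp_j L17089) (flp_i L17036) L24424
theorem L24432 : sm gg N2813 = N1966 := ded_49_1 (flp_j L17148) (flp_g L11968) (flp_j L11885) L17031 L24424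
theorem L24434 : sm gd N1953 = N2814 := rfl
theorem L24436 : sm ga N2814 = N1954 := ded_12_1 (flp_d L17049) (flp_a L17041) L24434
theorem L24438 : sm gg N2814 = N2814 := ded_36_2 (flp_d L24434) L17044 L24434
theorem L24439 : sm gj N2814 = N1967 := ded_37_2 (flp_d L17157) (flp_j L17045) L24434
theorem L24441 : sm ge N2814 = N2814 := ded_34_2 (flp_d L24434) (flp_e L17039) L11894 L17039 L24434
theorem L24442 : sm gf N1953 = N2815 := rfl
theorem L24444 : sm ga N2815 = N1955 := ded_14_1 (flp_f L17057) (flp_a L17041) L24442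
theorem L24446 : sm gc N2815 = N2815 := ded_29_1 (flp_f L24442) L17043 L24442
theorem L24447 : sm gj N2815 = N1968 := ded_46_2 (flp_f L17164) (flp_j L17045) L24442
theorem L24449 : sm gh N2815 = N2031 := ded_47_2 (flp_f L17658) (flp_h L17047) L24442
theorem L24451 : sm ge N2815 = N2815 := ded_40_1 (flp_f L24442) (flp_e L17039) L11895 L17039 L24442
theorem L24452 : sm gc N1954 = N2816 := rfl
theorem L24456 : sm gj N2816 = N1969 := ded_31_2 (flp_c L17172) (flp_j L17054) L24452
theorem L24459 : sm gf N1954 = N2817 := rfl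
theorem L24461 : sm gb N2817 = N1956 := ded_22_1 (flp_f L17067) (flp_b L17051) L24459
theorem L24463 : sm gd N2817 = N1955 := ded_35_1 (flp_f L17057) L17049 L24459
theorem L24465 : sm gj N2817 = N1970 := ded_46_2 (flp_f L17178) (flp_j L17054) L24459
theorem L24477 : sm gg N1955 = N2819 := rfl
theorem L24479 : sm gb N2819 = N1958 := ded_23_1 (flp_g L17081) (flp_b L17059) L24477
theorem L24481 : sm gc N2819 = N2819 := ded_30_1 (flp_g L24477) L17061 L24477
theorem L24482 : sm ge N2819 = N2819 := ded_41_1 (flp_g L24477) L17066 L24477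
theorem L24483 : sm gh N2819 = N2035 := ded_50_2 (flp_g L17695) (flp_h L17064) L24477
theorem L24485 : sm gf N2819 = N2819 := ded_45_1 (flp_g L24477) (flp_f L17057) L11906 L17057 L24477
theorem L24486 : sm ge N1956 = N2820 := rfl
theorem L24488 : sm gj N2820 = N1973 := ded_42_2 (flp_e L17203) (flp_j L17071) L24486
theorem L24490 : sm gd N2820 = N2820 := ded_34_1 (flp_e L24486) L17069 L11925 (flp_d L17069) L24486
theorem L24491 : sm gf N2820 = N2820 := ded_40_2 (flp_e L24486) (flp_f L17067) L11916 L17067 L24486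
theorem L24492 : sm gg N1956 = N2821 := rfl
theorem L24494 : sm gd N2821 = N1958 := ded_36_1 (flp_g L17081) (flp_d L17069) L24492
theorem L24496 : sm gf N2821 = N2821 := ded_45_1 (flp_g L24492) (flp_f L17067) L11913 L17067 L24492
theorem L24497 : sm gh N1956 = N2822 := rfl
theorem L24499 : sm gf N2822 = N1957 := ded_47_1 (flp_h L17073) L17067 L24497
theorem L24501 : sm gj N2822 = N1975 := ded_52_1 (flp_h L17213) (flp_j L17071) L24497
theorem L24503 : sm gd N2822 = N2038 := ded_38_1 (flp_h L17719) L12352 (flp_h L11923) (flp_d L17069) L24497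
theorem L24505 : sm gi N1957 = N2823 := rfl
theorem L24507 : sm gd N2823 = N2039 := ded_39_1 (flp_i L17726) (flp_d L17079) L24505
theorem L24513 : sm gj N1958 = N2824 := rfl
theorem L24515 : sm gc N2824 = N1959 := ded_31_1 (flp_j L17089) (flp_c L17083) L24513
theorem L24517 : sm ge N2824 = N2824 := ded_42_1 (flp_j L24513) L17085 L24513
theorem L24518 : sm gf N2824 = N2824 := ded_46_1 (flp_j L24513) L17088 L24513
theorem L24519 : sm gh N2824 = N2040 := ded_52_2 (flp_j L17735) (flp_h L17086) L24513
theorem L24521 : sm gg N2824 = N1977 := ded_49_1 (flp_j L17226) (flp_g L12012) (flp_j L11921) L17081 L24513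
theorem L24523 : sm gd N1960 = N2825 := rfl
theorem L24525 : sm ga N2825 = N1961 := ded_12_1 (flp_d L17108) (flp_a L17100) L24523
theorem L24527 : sm gg N2825 = N1978 := ded_36_2 (flp_d L17235) (flp_g L17103) L24523
theorem L24529 : sm gi N2825 = N1967 := ded_39_2 (flp_d L17157) (flp_i L17106) L24523
theorem L24531 : sm ge N2825 = N2825 := ded_34_2 (flp_d L24523) (flp_e L17098) L11936 L17098 L24523
theorem L24532 : sm gf N1960 = N2826 := rfl
theorem L24534 : sm ga N2826 = N1962 := ded_14_1 (flp_f L17117) (flp_a L17100) L24532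
theorem L24536 : sm gc N2826 = N2826 := ded_29_1 (flp_f L24532) L17102 L24532
theorem L24537 : sm gh N2826 = N2826 := ded_47_2 (flp_f L24532) L17105 L24532
theorem L24538 : sm gi N2826 = N1968 := ded_48_2 (flp_f L17164) (flp_i L17106) L24532
theorem L24540 : sm ge N2826 = N2826 := ded_40_1 (flp_f L24532) (flp_e L17098) L11937 L17098 L24532
theorem L24541 : sm gc N1961 = N2827 := rfl
theorem L24544 : sm gg N2827 = N1980 := ded_30_2 (flp_c L17254) (flp_g L17112) L24541
theorem L24546 : sm gi N2827 = N1969 := ded_33_2 (flp_c L17172) (flp_i L17114) L24541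
theorem L24549 : sm gf N1961 = N2828 := rfl
theorem L24551 : sm gb N2828 = N1963 := ded_22_1 (flp_f L17126) (flp_b L17110) L24549
theorem L24553 : sm gd N2828 = N1962 := ded_35_1 (flp_f L17117) L17108 L24549
theorem L24555 : sm gi N2828 = N1970 := ded_48_2 (flp_f L17178) (flp_i L17114) L24549
theorem L24557 : sm gh N1961 = N2829 := rfl
theorem L24559 : sm gb N2829 = N1964 := ded_25_1 (flp_h L17132) (flp_b L17110) L24557
theorem L24565 : sm gg N1962 = N2830 := rfl
theorem L24567 : sm gb N2830 = N1965 := ded_23_1 (flp_g L17138) (flp_b L17119) L24565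
theorem L24569 : sm gc N2830 = N2830 := ded_30_1 (flp_g L24565) L17121 L24565
theorem L24570 : sm ge N2830 = N2830 := ded_41_1 (flp_g L24565) L17125 L24565
theorem L24571 : sm gh N2830 = N2830 := ded_50_2 (flp_g L24565) L17122 L24565
theorem L24572 : sm gi N2830 = N1972 := ded_51_2 (flp_g L17193) (flp_i L17123) L24565
theorem L24574 : sm gf N2830 = N1983 := ded_45_1 (flp_g L17277) (flp_f L12046) (flp_g L11948) L17117 L24565
theorem L24576 : sm ge N1963 = N2831 := rfl
theorem L24578 : sm gi N2831 = N1973 := ded_44_2 (flp_e L17203) (flp_i L17130) L24576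
theorem L24580 : sm gd N2831 = N2831 := ded_34_1 (flp_e L24576) L17128 L11967 (flp_d L17128) L24576
theorem L24581 : sm gf N2831 = N2831 := ded_40_2 (flp_e L24576) (flp_f L17126) L11959 L17126 L24576
theorem L24582 : sm gg N1963 = N2832 := rfl
theorem L24584 : sm gd N2832 = N1965 := ded_36_1 (flp_g L17138) (flp_d L17128) L24582
theorem L24586 : sm gi N2832 = N1974 := ded_51_2 (flp_g L17207) (flp_i L17130) L24582
theorem L24588 : sm gf N2832 = N1985 := ded_45_1 (flp_g L17295) (flp_f L12057) (flp_g L11955) L17126 L24582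
theorem L24590 : sm gh N1963 = N2833 := rfl
theorem L24592 : sm gf N2833 = N1964 := ded_47_1 (flp_h L17132) L17126 L24590
theorem L24594 : sm gd N2833 = N2833 := ded_38_1 (flp_h L24590) L17128 L11964 (flp_d L17128) L24590
theorem L24595 : sm gi N1964 = N2834 := rfl
theorem L24603 : sm gj N1965 = N2835 := rfl
theorem L24605 : sm gc N2835 = N1966 := ded_31_1 (flp_j L17148) (flp_c L17140) L24603
theorem L24607 : sm ge N2835 = N2835 := ded_42_1 (flp_j L24603) L17142 L24603
theorem L24608 : sm gf N2835 = N1988 := ded_46_1 (flp_j L17314) (flp_f L17146) L24603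
theorem L24610 : sm gh N2835 = N2835 := ded_52_2 (flp_j L24603) L17143 L24603
theorem L24611 : sm gi N2835 = N1977 := ded_53_2 (flp_j L17226) (flp_i L17144) L24603
theorem L24613 : sm gc N1967 = N2836 := rfl
theorem L24615 : sm ga N2836 = N1969 := ded_11_1 (flp_c L17172) (flp_a L17159) L24613
theorem L24618 : sm gg N2836 = N1989 := ded_30_2 (flp_c L17324) (flp_g L17161) L24613
theorem L24621 : sm gf N1967 = N2837 := rfl
theorem L24623 : sm ga N2837 = N1970 := ded_14_1 (flp_f L17178) (flp_a L17159) L24621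
theorem L24625 : sm gd N2837 = N1968 := ded_35_1 (flp_f L17164) L17157 L24621
theorem L24627 : sm gh N1967 = N2838 := rfl
theorem L24632 : sm gg N2838 = N1991 := ded_50_1 (flp_h L17338) (flp_g L17161) L24627
theorem L24634 : sm gd N2838 = N2043 := ded_38_1 (flp_h L17761) (flp_d L12381) (flp_h L11984) L17157 L24627
theorem L24636 : sm gg N1968 = N2839 := rfl
theorem L24638 : sm ga N2839 = N1972 := ded_15_1 (flp_g L17193) (flp_a L17166) L24636
theorem L24640 : sm gc N2839 = N2839 := ded_30_1 (flp_g L24636) L17168 L24636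
theorem L24641 : sm ge N2839 = N2839 := ded_41_1 (flp_g L24636) L17171 L24636
theorem L24642 : sm gh N2839 = N2044 := ded_50_2 (flp_g L17769) (flp_h L17169) L24636
theorem L24644 : sm gf N2839 = N1992 := ded_45_1 (flp_g L17346) (flp_f L12093) (flp_g L11982) L17164 L24636
theorem L24646 : sm gf N1969 = N2840 := rfl
theorem L24648 : sm gc N2840 = N1970 := ded_29_1 (flp_f L17178) L17172 L24646
theorem L24651 : sm gh N1969 = N2841 := rfl
theorem L24653 : sm gc N2841 = N1971 := ded_32_1 (flp_h L17184) L17172 L24651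
theorem L24656 : sm gg N2841 = N1994 := ded_50_1 (flp_h L17361) (flp_g L17175) L24651
theorem L24658 : sm ge N1970 = N2842 := rfl
theorem L24660 : sm gb N2842 = N1973 := ded_21_1 (flp_e L17203) (flp_b L17180) L24658
theorem L24662 : sm gd N2842 = N2842 := ded_34_1 (flp_e L24658) L17182 L12000 (flp_d L17182) L24658
theorem L24663 : sm gf N2842 = N2842 := ded_40_2 (flp_e L24658) (flp_f L17178) L11992 L17178 L24658
theorem L24664 : sm gg N1970 = N2843 := rfl
theorem L24666 : sm gb N2843 = N1974 := ded_23_1 (flp_g L17207) (flp_b L17180) L24664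
theorem L24668 : sm gd N2843 = N1972 := ded_36_1 (flp_g L17193) (flp_d L17182) L24664
theorem L24670 : sm gf N2843 = N1996 := ded_45_1 (flp_g L17375) (flp_f L12108) (flp_g L11990) L17178 L24664
theorem L24672 : sm gh N1970 = N2844 := rfl
theorem L24678 : sm gd N2844 = N2049 := ded_38_1 (flp_h L17811) L12410 (flp_h L11998) (flp_d L17182) L24672
theorem L24680 : sm gi N1971 = N2845 := rfl
theorem L24689 : sm gj N1972 = N2846 := rfl
theorem L24691 : sm gb N2846 = N1977 := ded_24_1 (flp_j L17226) (flp_b L17195) L24689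
theorem L24693 : sm gc N2846 = N2846 := ded_31_1 (flp_j L24689) L17197 L24689
theorem L24694 : sm ge N2846 = N2846 := ded_42_1 (flp_j L24689) L17198 L24689
theorem L24695 : sm gf N2846 = N1999 := ded_46_1 (flp_j L17398) (flp_f L17201) L24689
theorem L24697 : sm gh N2846 = N2051 := ded_52_2 (flp_j L17826) (flp_h L17199) L24689
theorem L24699 : sm gg N1973 = N2847 := rfl
theorem L24701 : sm gd N2847 = N2847 := ded_36_1 (flp_g L24699) L17205 L24699
theorem L24702 : sm ge N2847 = N1974 := ded_41_1 (flp_g L17207) L17203 L24699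
theorem L24704 : sm gh N1973 = N2848 := rfl
theorem L24706 : sm ge N2848 = N1975 := ded_43_1 (flp_h L17213) L17203 L24704
theorem L24708 : sm gf N2848 = N2848 := ded_47_1 (flp_h L24704) L17206 L24704
theorem L24709 : sm gj N1974 = N2849 := rfl
theorem L24711 : sm gd N2849 = N1977 := ded_37_1 (flp_j L17226) (flp_d L17209) L24709
theorem L24713 : sm gf N2849 = N2002 := ded_46_1 (flp_j L17421) (flp_f L17211) L24709
theorem L24715 : sm gh N1974 = N2850 := rfl
theorem L24717 : sm gf N2850 = N2003 := ded_47_1 (flp_h L17426) (flp_f L17211) L24715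
theorem L24719 : sm gg N2850 = N1975 := ded_50_1 (flp_h L17213) L17207 L24715
theorem L24721 : sm gd N2850 = N2055 := ded_38_1 (flp_h L17858) L12440 (flp_h L12017) (flp_d L17209) L24715
theorem L24723 : sm gi N1975 = N2851 := rfl
theorem L24729 : sm gc N1978 = N2852 := rfl
theorem L24731 : sm ga N2852 = N1980 := ded_11_1 (flp_c L17254) (flp_a L17237) L24729
theorem L24735 : sm gi N2852 = N1989 := ded_33_2 (flp_c L17324) (flp_i L17240) L24729
theorem L24738 : sm gf N1978 = N2853 := rfl
theorem L24740 : sm ga N2853 = N1981 := ded_14_1 (flp_f L17261) (flp_a L17237) L24738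
theorem L24742 : sm gd N2853 = N1979 := ded_35_1 (flp_f L17243) L17235 L24738
theorem L24744 : sm gj N2853 = N2853 := ded_46_2 (flp_f L24738) L17239 L24738
theorem L24745 : sm gi N2853 = N1990 := ded_48_2 (flp_f L17331) (flp_i L17240) L24738
theorem L24747 : sm gh N1978 = N2854 := rfl
theorem L24749 : sm ga N2854 = N1982 := ded_17_1 (flp_h L17270) (flp_a L17237) L24747
theorem L24754 : sm gg N1979 = N2855 := rfl
theorem L24756 : sm ga N2855 = N1983 := ded_15_1 (flp_g L17277) (flp_a L17245) L24754
theorem L24758 : sm gc N2855 = N2855 := ded_30_1 (flp_g L24754) L17247 L24754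
theorem L24759 : sm ge N2855 = N2008 := ded_41_1 (flp_g L17467) (flp_e L17252) L24754
theorem L24761 : sm gh N2855 = N2855 := ded_50_2 (flp_g L24754) L17249 L24754
theorem L24762 : sm gi N2855 = N1992 := ded_51_2 (flp_g L17346) (flp_i L17250) L24754
theorem L24764 : sm gf N1980 = N2856 := rfl
theorem L24766 : sm gc N2856 = N1981 := ded_29_1 (flp_f L17261) L17254 L24764
theorem L24770 : sm gi N2856 = N1993 := ded_48_2 (flp_f L17355) (flp_i L17258) L24764
theorem L24772 : sm gh N1980 = N2857 := rfl
theorem L24778 : sm ge N1981 = N2858 := rfl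
theorem L24780 : sm gb N2858 = N1984 := ded_21_1 (flp_e L17287) (flp_b L17263) L24778
theorem L24782 : sm gj N2858 = N2858 := ded_42_2 (flp_e L24778) L17267 L24778
theorem L24783 : sm gi N2858 = N1995 := ded_44_2 (flp_e L17367) (flp_i L17268) L24778
theorem L24785 : sm gd N2858 = N2011 := ded_34_1 (flp_e L17494) L12195 (flp_e L12055) (flp_d L17265) L24778
theorem L24787 : sm gf N2858 = N2858 := ded_40_2 (flp_e L24778) (flp_f L17261) L12045 L17261 L24778
theorem L24788 : sm gg N1981 = N2859 := rfl
theorem L24790 : sm gb N2859 = N1985 := ded_23_1 (flp_g L17295) (flp_b L17263) L24788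
theorem L24792 : sm gd N2859 = N1983 := ded_36_1 (flp_g L17277) (flp_d L17265) L24788
theorem L24794 : sm gi N2859 = N1996 := ded_51_2 (flp_g L17375) (flp_i L17268) L24788
theorem L24796 : sm gh N1981 = N2860 := rfl
theorem L24798 : sm gb N2860 = N1986 := ded_25_1 (flp_h L17301) (flp_b L17263) L24796
theorem L24813 : sm gj N1983 = N2862 := rfl
theorem L24815 : sm gb N2862 = N1988 := ded_24_1 (flp_j L17314) (flp_b L17279) L24813
theorem L24817 : sm gc N2862 = N2862 := ded_31_1 (flp_j L24813) L17281 L24813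
theorem L24818 : sm ge N2862 = N2014 := ded_42_1 (flp_j L17520) (flp_e L17282) L24813
theorem L24820 : sm gh N2862 = N2862 := ded_52_2 (flp_j L24813) L17284 L24813
theorem L24821 : sm gi N2862 = N1999 := ded_53_2 (flp_j L17398) (flp_i L17285) L24813
theorem L24823 : sm gg N2862 = N2862 := ded_49_1 (flp_j L24813) (flp_g L17277) L12051 L17277 L24813
theorem L24824 : sm gg N1984 = N2863 := rfl
theorem L24826 : sm gd N2863 = N2015 := ded_36_1 (flp_g L17530) (flp_d L17292) L24824
theorem L24828 : sm ge N2863 = N1985 := ded_41_1 (flp_g L17295) L17287 L24824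
theorem L24830 : sm gi N2863 = N2000 := ded_51_2 (flp_g L17408) (flp_i L17290) L24824
theorem L24832 : sm gh N1984 = N2864 := rfl
theorem L24834 : sm ge N2864 = N1986 := ded_43_1 (flp_h L17301) L17287 L24832
theorem L24836 : sm gf N2864 = N2864 := ded_47_1 (flp_h L24832) L17294 L24832
theorem L24837 : sm gj N2864 = N2864 := ded_52_1 (flp_h L24832) L17289 L24832
theorem L24838 : sm gj N1985 = N2865 := rfl
theorem L24840 : sm gd N2865 = N1988 := ded_37_1 (flp_j L17314) (flp_d L17297) L24838
theorem L24842 : sm gi N2865 = N2002 := ded_53_2 (flp_j L17421) (flp_i L17299) L24838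
theorem L24844 : sm gg N2865 = N2865 := ded_49_1 (flp_j L24838) (flp_g L17295) L12061 L17295 L24838
theorem L24845 : sm gh N1985 = N2866 := rfl
theorem L24847 : sm gg N2866 = N1986 := ded_50_1 (flp_h L17301) L17295 L24845
theorem L24849 : sm gd N2866 = N2866 := ded_38_1 (flp_h L24845) L17297 L12075 (flp_d L17297) L24845
theorem L24850 : sm gi N1986 = N2867 := rfl
theorem L24853 : sm gf N2867 = N1987 := ded_48_1 (flp_i L17307) (flp_f L17303) L24850
theorem L24856 : sm gh N2867 = N2004 := ded_54_1 (flp_i L17432) (flp_h L12142) (flp_i L12062) L17301 L24850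
theorem L24858 : sm gb N1989 = N2868 := rfl
theorem L24863 : sm gf N1989 = N2869 := rfl
theorem L24865 : sm ga N2869 = N1993 := ded_14_1 (flp_f L17355) (flp_a L17326) L24863
theorem L24867 : sm gc N2869 = N1990 := ded_29_1 (flp_f L17331) L17324 L24863
theorem L24871 : sm gh N1989 = N2870 := rfl
theorem L24873 : sm ga N2870 = N1994 := ded_17_1 (flp_h L17361) (flp_a L17326) L24871
theorem L24879 : sm ge N1990 = N2871 := rfl
theorem L24881 : sm ga N2871 = N1995 := ded_13_1 (flp_e L17367) (flp_a L17333) L24879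
theorem L24883 : sm gj N2871 = N2871 := ded_42_2 (flp_e L24879) L17337 L24879
theorem L24884 : sm gd N2871 = N2021 := ded_34_1 (flp_e L17579) L12263 (flp_e L12101) (flp_d L17335) L24879
theorem L24886 : sm gf N2871 = N2871 := ded_40_2 (flp_e L24879) (flp_f L17331) L12092 L17331 L24879
theorem L24887 : sm gg N1990 = N2872 := rfl
theorem L24889 : sm ga N2872 = N1996 := ded_15_1 (flp_g L17375) (flp_a L17333) L24887
theorem L24891 : sm gd N2872 = N1992 := ded_36_1 (flp_g L17346) (flp_d L17335) L24887
theorem L24893 : sm gh N1990 = N2873 := rfl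
theorem L24902 : sm gi N1991 = N2874 := rfl
theorem L24910 : sm gj N1992 = N2875 := rfl
theorem L24912 : sm ga N2875 = N1999 := ded_16_1 (flp_j L17398) (flp_a L17348) L24910
theorem L24914 : sm gc N2875 = N2875 := ded_31_1 (flp_j L24910) L17350 L24910
theorem L24915 : sm ge N2875 = N2023 := ded_42_1 (flp_j L17594) (flp_e L17351) L24910
theorem L24917 : sm gh N2875 = N2063 := ded_52_2 (flp_j L17922) (flp_h L17353) L24910
theorem L24919 : sm gg N2875 = N2875 := ded_49_1 (flp_j L24910) (flp_g L17346) L12098 L17346 L24910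
theorem L24920 : sm ge N1993 = N2876 := rfl
theorem L24922 : sm gc N2876 = N1995 := ded_28_1 (flp_e L17367) (flp_c L17357) L24920
theorem L24926 : sm gg N1993 = N2877 := rfl
theorem L24928 : sm gc N2877 = N1996 := ded_30_1 (flp_g L17375) (flp_c L17357) L24926
theorem L24931 : sm gh N1993 = N2878 := rfl
theorem L24935 : sm gf N2878 = N1994 := ded_47_1 (flp_h L17361) L17355 L24931
theorem L24938 : sm gd N1994 = N2879 := rfl
theorem L24944 : sm gi N1994 = N2880 := rfl
theorem L24950 : sm gg N1995 = N2881 := rfl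
theorem L24952 : sm gb N2881 = N2000 := ded_23_1 (flp_g L17408) (flp_b L17369) L24950
theorem L24954 : sm gd N2881 = N2026 := ded_36_1 (flp_g L17619) (flp_d L17372) L24950
theorem L24956 : sm ge N2881 = N1996 := ded_41_1 (flp_g L17375) L17367 L24950
theorem L24958 : sm gh N1995 = N2882 := rfl
theorem L24960 : sm gb N2882 = N2001 := ded_25_1 (flp_h L17414) (flp_b L17369) L24958
theorem L24967 : sm gj N1996 = N2883 := rfl
theorem L24969 : sm gb N2883 = N2002 := ded_24_1 (flp_j L17421) (flp_b L17377) L24967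
theorem L24971 : sm gd N2883 = N1999 := ded_37_1 (flp_j L17398) (flp_d L17379) L24967
theorem L24973 : sm gg N2883 = N2883 := ded_49_1 (flp_j L24967) (flp_g L17375) L12114 L17375 L24967
theorem L24974 : sm gh N1996 = N2884 := rfl
theorem L24991 : sm gf N2000 = N2886 := rfl
theorem L24993 : sm gd N2886 = N2028 := ded_35_1 (flp_f L17635) (flp_d L17410) L24991
theorem L24995 : sm gg N2886 = N2886 := ded_45_2 (flp_f L24991) (flp_g L17408) L12137 L17408 L24991
theorem L24996 : sm gj N2000 = N2887 := rfl
theorem L24998 : sm gd N2887 = N2029 := ded_37_1 (flp_j L17641) (flp_d L17410) L24996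
theorem L25000 : sm ge N2887 = N2002 := ded_42_1 (flp_j L17421) (flp_e L17412) L24996
theorem L25002 : sm gg N2887 = N2887 := ded_49_1 (flp_j L24996) (flp_g L17408) L12134 L17408 L24996
theorem L25003 : sm gh N2000 = N2888 := rfl
theorem L25005 : sm ge N2888 = N2003 := ded_43_1 (flp_h L17426) (flp_e L17412) L25003
theorem L25007 : sm gg N2888 = N2001 := ded_50_1 (flp_h L17414) L17408 L25003
theorem L25009 : sm gd N2888 = N2888 := ded_38_1 (flp_h L25003) L17410 L12312 (flp_d L17410) L25003
theorem L25010 : sm gi N2001 = N2889 := rfl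
theorem L25013 : sm ge N2889 = N2004 := ded_44_1 (flp_i L17432) (flp_e L17416) L25010
theorem L25017 : sm gh N2002 = N2890 := rfl
theorem L25019 : sm gg N2890 = N2890 := ded_50_1 (flp_h L25017) L17425 L25017
theorem L25020 : sm gj N2890 = N2003 := ded_52_1 (flp_h L17426) L17421 L25017
theorem L25022 : sm gd N2890 = N2071 := ded_38_1 (flp_h L17987) L12552 (flp_h L12161) (flp_d L17423) L25017
theorem L25024 : sm gi N2003 = N2891 := rfl
theorem L25030 : sm gb N2005 = N2892 := rfl
theorem L25032 : sm gd N2892 = N2892 := ded_20_2 (flp_b L25030) L17448 L25030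
theorem L25033 : sm ge N2892 = N2892 := ded_21_2 (flp_b L25030) L17443 L25030
theorem L25034 : sm gg N2892 = N2892 := ded_23_2 (flp_b L25030) L17444 L25030
theorem L25035 : sm gj N2892 = N2892 := ded_24_2 (flp_b L25030) L17445 L25030
theorem L25036 : sm gi N2892 = N2019 := ded_26_2 (flp_b L17562) (flp_i L17446) L25030
theorem L25038 : sm ga N2892 = N2892 := ded_10_1 (flp_b L25030) L17441 L12189 (flp_a L17441) L25030
theorem L25039 : sm gf N2005 = N2893 := rfl
theorem L25041 : sm ga N2893 = N2009 := ded_14_1 (flp_f L17476) (flp_a L17441) L25039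
theorem L25043 : sm gc N2893 = N2006 := ded_29_1 (flp_f L17449) L17439 L25039
theorem L25045 : sm gd N2893 = N2893 := ded_35_1 (flp_f L25039) L17448 L25039
theorem L25046 : sm gj N2893 = N2893 := ded_46_2 (flp_f L25039) L17445 L25039
theorem L25047 : sm gi N2893 = N2020 := ded_48_2 (flp_f L17570) (flp_i L17446) L25039
theorem L25049 : sm gh N2005 = N2894 := rfl
theorem L25051 : sm ga N2894 = N2010 := ded_17_1 (flp_h L17485) (flp_a L17441) L25049
theorem L25053 : sm gc N2894 = N2007 := ded_32_1 (flp_h L17458) L17439 L25049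
theorem L25055 : sm ge N2894 = N2894 := ded_43_1 (flp_h L25049) L17443 L25049
theorem L25056 : sm gg N2894 = N2894 := ded_50_1 (flp_h L25049) L17444 L25049
theorem L25057 : sm gj N2894 = N2894 := ded_52_1 (flp_h L25049) L17445 L25049
theorem L25058 : sm gi N2894 = N2894 := ded_54_2 (flp_h L25049) L17446 L12257 (flp_i L17446) L25049
theorem L25059 : sm ge N2006 = N2895 := rfl
theorem L25061 : sm ga N2895 = N2011 := ded_13_1 (flp_e L17494) (flp_a L17451) L25059
theorem L25063 : sm gj N2895 = N2895 := ded_42_2 (flp_e L25059) L17455 L25059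
theorem L25064 : sm gi N2895 = N2021 := ded_44_2 (flp_e L17579) (flp_i L17456) L25059
theorem L25066 : sm gf N2895 = N2895 := ded_40_2 (flp_e L25059) (flp_f L17449) L12172 L17449 L25059
theorem L25067 : sm gg N2006 = N2896 := rfl
theorem L25069 : sm ga N2896 = N2012 := ded_15_1 (flp_g L17502) (flp_a L17451) L25067
theorem L25071 : sm gd N2896 = N2008 := ded_36_1 (flp_g L17467) (flp_d L17453) L25067
theorem L25073 : sm gi N2896 = N2022 := ded_51_2 (flp_g L17586) (flp_i L17456) L25067
theorem L25075 : sm gf N2896 = N2896 := ded_45_1 (flp_g L25067) (flp_f L17449) L12168 L17449 L25067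
theorem L25076 : sm gh N2006 = N2897 := rfl
theorem L25078 : sm ga N2897 = N2013 := ded_17_1 (flp_h L17511) (flp_a L17451) L25076
theorem L25080 : sm gf N2897 = N2007 := ded_47_1 (flp_h L17458) L17449 L25076
theorem L25082 : sm gj N2897 = N2897 := ded_52_1 (flp_h L25076) L17455 L25076
theorem L25083 : sm gd N2897 = N2897 := ded_38_1 (flp_h L25076) L17453 L12179 (flp_d L17453) L25076
theorem L25084 : sm gi N2897 = N2897 := ded_54_2 (flp_h L25076) L17456 L12266 (flp_i L17456) L25076
theorem L25085 : sm gj N2008 = N2898 := rfl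
theorem L25087 : sm ga N2898 = N2014 := ded_16_1 (flp_j L17520) (flp_a L17469) L25085
theorem L25089 : sm gc N2898 = N2898 := ded_31_1 (flp_j L25085) L17471 L25085
theorem L25090 : sm gf N2898 = N2898 := ded_46_1 (flp_j L25085) L17475 L25085
theorem L25091 : sm gh N2898 = N2898 := ded_52_2 (flp_j L25085) L17472 L25085
theorem L25092 : sm gi N2898 = N2023 := ded_53_2 (flp_j L17594) (flp_i L17473) L25085
theorem L25094 : sm gg N2898 = N2898 := ded_49_1 (flp_j L25085) (flp_g L17467) L12178 L17467 L25085
theorem L25095 : sm ge N2009 = N2899 := rfl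
theorem L25097 : sm gb N2899 = N2899 := ded_21_1 (flp_e L25095) L17478 L25095
theorem L25098 : sm gc N2899 = N2011 := ded_28_1 (flp_e L17494) (flp_c L17479) L25095
theorem L25100 : sm gj N2899 = N2899 := ded_42_2 (flp_e L25095) L17482 L25095
theorem L25101 : sm gi N2899 = N2024 := ded_44_2 (flp_e L17603) (flp_i L17483) L25095
theorem L25103 : sm gf N2899 = N2899 := ded_40_2 (flp_e L25095) (flp_f L17476) L12184 L17476 L25095
theorem L25104 : sm gg N2009 = N2900 := rfl
theorem L25106 : sm gb N2900 = N2900 := ded_23_1 (flp_g L25104) L17478 L25104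
theorem L25107 : sm gc N2900 = N2012 := ded_30_1 (flp_g L17502) (flp_c L17479) L25104
theorem L25109 : sm gd N2900 = N2900 := ded_36_1 (flp_g L25104) L17481 L25104
theorem L25110 : sm gi N2900 = N2025 := ded_51_2 (flp_g L17611) (flp_i L17483) L25104
theorem L25112 : sm gf N2900 = N2900 := ded_45_1 (flp_g L25104) (flp_f L17476) L12185 L17476 L25104
theorem L25113 : sm gh N2009 = N2901 := rfl
theorem L25115 : sm gb N2901 = N2901 := ded_25_1 (flp_h L25113) L17478 L25113
theorem L25116 : sm gc N2901 = N2013 := ded_32_1 (flp_h L17511) (flp_c L17479) L25113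
theorem L25118 : sm gf N2901 = N2010 := ded_47_1 (flp_h L17485) L17476 L25113
theorem L25120 : sm gj N2901 = N2901 := ded_52_1 (flp_h L25113) L17482 L25113
theorem L25121 : sm gi N2901 = N2901 := ded_54_2 (flp_h L25113) L17483 L12282 (flp_i L17483) L25113
theorem L25122 : sm gd N2010 = N2902 := rfl
theorem L25124 : sm gb N2902 = N2902 := ded_20_1 (flp_d L25122) L17487 L25122
theorem L25125 : sm gg N2902 = N2902 := ded_36_2 (flp_d L25122) L17491 L25122
theorem L25126 : sm gj N2902 = N2902 := ded_37_2 (flp_d L25122) L17492 L25122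
theorem L25127 : sm gi N2902 = N2902 := ded_39_2 (flp_d L25122) L17493 L25122
theorem L25128 : sm gc N2902 = N2902 := ded_27_1 (flp_d L25122) L17488 L12207 (flp_c L17488) L25122
theorem L25129 : sm gh N2902 = N2902 := ded_38_2 (flp_d L25122) (flp_h L17485) L12190 L17485 L25122
theorem L25130 : sm gg N2011 = N2903 := rfl
theorem L25132 : sm gb N2903 = N2015 := ded_23_1 (flp_g L17530) (flp_b L17496) L25130
theorem L25134 : sm ge N2903 = N2012 := ded_41_1 (flp_g L17502) L17494 L25130
theorem L25136 : sm gi N2903 = N2026 := ded_51_2 (flp_g L17619) (flp_i L17499) L25130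
theorem L25138 : sm gh N2011 = N2904 := rfl
theorem L25140 : sm gb N2904 = N2016 := ded_25_1 (flp_h L17537) (flp_b L17496) L25138
theorem L25142 : sm ge N2904 = N2013 := ded_43_1 (flp_h L17511) L17494 L25138
theorem L25144 : sm gf N2904 = N2904 := ded_47_1 (flp_h L25138) L17501 L25138
theorem L25145 : sm gj N2904 = N2904 := ded_52_1 (flp_h L25138) L17498 L25138
theorem L25146 : sm gi N2904 = N2904 := ded_54_2 (flp_h L25138) L17499 L12288 (flp_i L17499) L25138
theorem L25147 : sm gj N2012 = N2905 := rfl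
theorem L25149 : sm gb N2905 = N2017 := ded_24_1 (flp_j L17545) (flp_b L17504) L25147
theorem L25151 : sm gd N2905 = N2014 := ded_37_1 (flp_j L17520) (flp_d L17506) L25147
theorem L25153 : sm gf N2905 = N2905 := ded_46_1 (flp_j L25147) L17510 L25147
theorem L25154 : sm gi N2905 = N2027 := ded_53_2 (flp_j L17626) (flp_i L17508) L25147
theorem L25156 : sm gg N2905 = N2905 := ded_49_1 (flp_j L25147) (flp_g L17502) L12197 L17502 L25147
theorem L25157 : sm gh N2012 = N2906 := rfl
theorem L25159 : sm gb N2906 = N2018 := ded_25_1 (flp_h L17554) (flp_b L17504) L25157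
theorem L25161 : sm gf N2906 = N2906 := ded_47_1 (flp_h L25157) L17510 L25157
theorem L25162 : sm gg N2906 = N2013 := ded_50_1 (flp_h L17511) L17502 L25157
theorem L25164 : sm gd N2906 = N2906 := ded_38_1 (flp_h L25157) L17506 L12214 (flp_d L17506) L25157
theorem L25165 : sm gi N2906 = N2906 := ded_54_2 (flp_h L25157) L17508 L12296 (flp_i L17508) L25157
theorem L25166 : sm gf N2015 = N2907 := rfl
theorem L25168 : sm gc N2907 = N2907 := ded_29_1 (flp_f L25166) L17532 L25166
theorem L25169 : sm gi N2907 = N2028 := ded_48_2 (flp_f L17635) (flp_i L17535) L25166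
theorem L25171 : sm ge N2907 = N2907 := ded_40_1 (flp_f L25166) L17533 L12232 (flp_e L17533) L25166
theorem L25172 : sm gg N2907 = N2907 := ded_45_2 (flp_f L25166) (flp_g L17530) L12224 L17530 L25166
theorem L25173 : sm gj N2015 = N2908 := rfl
theorem L25175 : sm gc N2908 = N2908 := ded_31_1 (flp_j L25173) L17532 L25173
theorem L25176 : sm ge N2908 = N2017 := ded_42_1 (flp_j L17545) (flp_e L17533) L25173
theorem L25178 : sm gi N2908 = N2029 := ded_53_2 (flp_j L17641) (flp_i L17535) L25173
theorem L25180 : sm gg N2908 = N2908 := ded_49_1 (flp_j L25173) (flp_g L17530) L12221 L17530 L25173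
theorem L25181 : sm gh N2015 = N2909 := rfl
theorem L25183 : sm gc N2909 = N2909 := ded_32_1 (flp_h L25181) L17532 L25181
theorem L25184 : sm ge N2909 = N2018 := ded_43_1 (flp_h L17554) (flp_e L17533) L25181
theorem L25186 : sm gg N2909 = N2016 := ded_50_1 (flp_h L17537) L17530 L25181
theorem L25188 : sm gi N2909 = N2909 := ded_54_2 (flp_h L25181) L17535 L12312 (flp_i L17535) L25181
theorem L25189 : sm gd N2016 = N2910 := rfl
theorem L25191 : sm gf N2910 = N2910 := ded_35_2 (flp_d L25189) L17542 L25189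
theorem L25192 : sm gj N2910 = N2910 := ded_37_2 (flp_d L25189) L17543 L25189
theorem L25193 : sm gi N2910 = N2910 := ded_39_2 (flp_d L25189) L17544 L25189
theorem L25194 : sm ge N2910 = N2910 := ded_34_2 (flp_d L25189) L17540 L12239 (flp_e L17540) L25189
theorem L25195 : sm gh N2017 = N2911 := rfl
theorem L25197 : sm gc N2911 = N2911 := ded_32_1 (flp_h L25195) L17547 L25195
theorem L25198 : sm gf N2911 = N2911 := ded_47_1 (flp_h L25195) L17550 L25195
theorem L25199 : sm gg N2911 = N2911 := ded_50_1 (flp_h L25195) L17553 L25195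
theorem L25200 : sm gj N2911 = N2018 := ded_52_1 (flp_h L17554) L17545 L25195
theorem L25202 : sm gd N2911 = N2911 := ded_38_1 (flp_h L25195) L17548 L12246 (flp_d L17548) L25195
theorem L25203 : sm gi N2911 = N2911 := ded_54_2 (flp_h L25195) L17551 L12319 (flp_i L17551) L25195
theorem L25204 : sm gf N2019 = N2912 := rfl
theorem L25206 : sm ga N2912 = N2912 := ded_14_1 (flp_f L25204) L17569 L25204
theorem L25207 : sm gb N2912 = N2020 := ded_22_1 (flp_f L17570) L17562 L25204
theorem L25209 : sm gd N2912 = N2912 := ded_35_1 (flp_f L25204) L17564 L25204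
theorem L25210 : sm gj N2912 = N2912 := ded_46_2 (flp_f L25204) L17567 L25204
theorem L25211 : sm gh N2912 = N2912 := ded_47_2 (flp_f L25204) L17568 L25204
theorem L25212 : sm ge N2020 = N2913 := rfl
theorem L25214 : sm ga N2913 = N2024 := ded_13_1 (flp_e L17603) (flp_a L17572) L25212
theorem L25216 : sm gc N2913 = N2021 := ded_28_1 (flp_e L17579) (flp_c L17574) L25212
theorem L25218 : sm gj N2913 = N2913 := ded_42_2 (flp_e L25212) L17577 L25212
theorem L25219 : sm gh N2913 = N2913 := ded_43_2 (flp_e L25212) L17578 L25212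
theorem L25220 : sm gf N2913 = N2913 := ded_40_2 (flp_e L25212) (flp_f L17570) L12254 L17570 L25212
theorem L25221 : sm gg N2020 = N2914 := rfl
theorem L25223 : sm ga N2914 = N2025 := ded_15_1 (flp_g L17611) (flp_a L17572) L25221
theorem L25225 : sm gc N2914 = N2022 := ded_30_1 (flp_g L17586) (flp_c L17574) L25221
theorem L25227 : sm gd N2914 = N2914 := ded_36_1 (flp_g L25221) L17576 L25221
theorem L25228 : sm gh N2914 = N2914 := ded_50_2 (flp_g L25221) L17578 L25221
theorem L25229 : sm gf N2914 = N2914 := ded_45_1 (flp_g L25221) (flp_f L17570) L12255 L17570 L25221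
theorem L25230 : sm gg N2021 = N2915 := rfl
theorem L25232 : sm ga N2915 = N2026 := ded_15_1 (flp_g L17619) (flp_a L17581) L25230
theorem L25234 : sm ge N2915 = N2022 := ded_41_1 (flp_g L17586) L17579 L25230
theorem L25236 : sm gh N2915 = N2915 := ded_50_2 (flp_g L25230) L17584 L25230
theorem L25237 : sm gj N2022 = N2916 := rfl
theorem L25239 : sm ga N2916 = N2027 := ded_16_1 (flp_j L17626) (flp_a L17588) L25237
theorem L25241 : sm gd N2916 = N2023 := ded_37_1 (flp_j L17594) (flp_d L17590) L25237
theorem L25243 : sm gf N2916 = N2916 := ded_46_1 (flp_j L25237) L17593 L25237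
theorem L25244 : sm gh N2916 = N2916 := ded_52_2 (flp_j L25237) L17592 L25237
theorem L25245 : sm gg N2916 = N2916 := ded_49_1 (flp_j L25237) (flp_g L17586) L12265 L17586 L25237
theorem L25246 : sm gd N2024 = N2917 := rfl
theorem L25248 : sm gb N2917 = N2917 := ded_20_1 (flp_d L25246) L17605 L25246
theorem L25249 : sm gf N2917 = N2917 := ded_35_2 (flp_d L25246) L17610 L25246
theorem L25250 : sm gj N2917 = N2917 := ded_37_2 (flp_d L25246) L17608 L25246
theorem L25251 : sm ge N2917 = N2917 := ded_34_2 (flp_d L25246) (flp_e L17603) L12280 L17603 L25246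
theorem L25252 : sm gg N2024 = N2918 := rfl
theorem L25254 : sm gb N2918 = N2918 := ded_23_1 (flp_g L25252) L17605 L25252
theorem L25255 : sm gc N2918 = N2026 := ded_30_1 (flp_g L17619) (flp_c L17606) L25252
theorem L25257 : sm ge N2918 = N2025 := ded_41_1 (flp_g L17611) L17603 L25252
theorem L25259 : sm gh N2918 = N2918 := ded_50_2 (flp_g L25252) L17609 L25252
theorem L25260 : sm gj N2025 = N2919 := rfl
theorem L25262 : sm gb N2919 = N2919 := ded_24_1 (flp_j L25260) L17613 L25260
theorem L25263 : sm gc N2919 = N2027 := ded_31_1 (flp_j L17626) (flp_c L17614) L25260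
theorem L25265 : sm gd N2919 = N2919 := ded_37_1 (flp_j L25260) L17616 L25260
theorem L25266 : sm gf N2919 = N2919 := ded_46_1 (flp_j L25260) L17618 L25260
theorem L25267 : sm gh N2919 = N2919 := ded_52_2 (flp_j L25260) L17617 L25260
theorem L25268 : sm gg N2919 = N2919 := ded_49_1 (flp_j L25260) (flp_g L17611) L12281 L17611 L25260
theorem L25269 : sm gf N2026 = N2920 := rfl
theorem L25271 : sm gb N2920 = N2028 := ded_22_1 (flp_f L17635) (flp_b L17621) L25269
theorem L25273 : sm gh N2920 = N2920 := ded_47_2 (flp_f L25269) L17625 L25269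
theorem L25274 : sm ge N2920 = N2920 := ded_40_1 (flp_f L25269) L17623 L12297 (flp_e L17623) L25269
theorem L25275 : sm gg N2920 = N2920 := ded_45_2 (flp_f L25269) (flp_g L17619) L12289 L17619 L25269
theorem L25276 : sm gj N2026 = N2921 := rfl
theorem L25278 : sm gb N2921 = N2029 := ded_24_1 (flp_j L17641) (flp_b L17621) L25276
theorem L25280 : sm ge N2921 = N2027 := ded_42_1 (flp_j L17626) (flp_e L17623) L25276
theorem L25282 : sm gh N2921 = N2921 := ded_52_2 (flp_j L25276) L17625 L25276
theorem L25283 : sm gg N2921 = N2921 := ded_49_1 (flp_j L25276) (flp_g L17619) L12287 L17619 L25276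
theorem L25284 : sm gj N2028 = N2922 := rfl
theorem L25286 : sm gc N2922 = N2922 := ded_31_1 (flp_j L25284) L17637 L25284
theorem L25287 : sm ge N2922 = N2922 := ded_42_1 (flp_j L25284) L17639 L25284
theorem L25288 : sm gf N2922 = N2029 := ded_46_1 (flp_j L17641) L17635 L25284
theorem L25290 : sm gh N2922 = N2922 := ded_52_2 (flp_j L25284) L17638 L25284
theorem L25291 : sm gc N2030 = N2923 := rfl
theorem L25293 : sm ga N2923 = N2032 := ded_11_1 (flp_c L17667) (flp_a L17650) L25291
theorem L25295 : sm ge N2923 = N2073 := ded_28_2 (flp_c L18001) (flp_e L17656) L25291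
theorem L25298 : sm gj N2923 = N2041 := ded_31_2 (flp_c L17744) (flp_j L17653) L25291
theorem L25302 : sm gf N2030 = N2924 := rfl
theorem L25304 : sm ga N2924 = N2033 := ded_14_1 (flp_f L17677) (flp_a L17650) L25302
theorem L25306 : sm gd N2924 = N2031 := ded_35_1 (flp_f L17658) L17648 L25302
theorem L25308 : sm gj N2924 = N2042 := ded_46_2 (flp_f L17754) (flp_j L17653) L25302
theorem L25310 : sm gi N2924 = N2924 := ded_48_2 (flp_f L25302) L17655 L25302
theorem L25311 : sm gh N2030 = N2925 := rfl
theorem L25320 : sm gg N2031 = N2926 := rfl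
theorem L25322 : sm ga N2926 = N2035 := ded_15_1 (flp_g L17695) (flp_a L17660) L25320
theorem L25324 : sm gc N2926 = N2926 := ded_30_1 (flp_g L25320) L17662 L25320
theorem L25325 : sm ge N2926 = N2926 := ded_41_1 (flp_g L25320) L17666 L25320
theorem L25326 : sm gi N2926 = N2926 := ded_51_2 (flp_g L25320) L17665 L25320
theorem L25327 : sm gf N2926 = N2926 := ded_45_1 (flp_g L25320) (flp_f L17658) L12326 L17658 L25320
theorem L25328 : sm gf N2032 = N2927 := rfl
theorem L25331 : sm gc N2927 = N2033 := ded_29_1 (flp_f L17677) L17667 L25328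
theorem L25334 : sm gj N2927 = N2045 := ded_46_2 (flp_f L17778) (flp_j L17672) L25328
theorem L25337 : sm gh N2032 = N2928 := rfl
theorem L25340 : sm gc N2928 = N2034 := ded_32_1 (flp_h L17686) L17667 L25337
theorem L25342 : sm ge N2928 = N2078 := ded_43_1 (flp_h L18049) (flp_e L17669) L25337
theorem L25345 : sm gj N2928 = N2046 := ded_52_1 (flp_h L17785) (flp_j L17672) L25337
theorem L25347 : sm ge N2033 = N2929 := rfl
theorem L25349 : sm gb N2929 = N2036 := ded_21_1 (flp_e L17703) (flp_b L17679) L25347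
theorem L25351 : sm gj N2929 = N2047 := ded_42_2 (flp_e L17794) (flp_j L17683) L25347
theorem L25353 : sm gi N2929 = N2929 := ded_44_2 (flp_e L25347) L17685 L25347
theorem L25354 : sm gd N2929 = N2929 := ded_34_1 (flp_e L25347) L17681 L12348 (flp_d L17681) L25347
theorem L25355 : sm gf N2929 = N2079 := ded_40_2 (flp_e L18057) (flp_f L12608) (flp_e L12338) L17677 L25347
theorem L25357 : sm gg N2033 = N2930 := rfl
theorem L25359 : sm gb N2930 = N2037 := ded_23_1 (flp_g L17712) (flp_b L17679) L25357
theorem L25361 : sm gd N2930 = N2035 := ded_36_1 (flp_g L17695) (flp_d L17681) L25357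
theorem L25363 : sm gi N2930 = N2930 := ded_51_2 (flp_g L25357) L17685 L25357
theorem L25364 : sm gf N2930 = N2930 := ded_45_1 (flp_g L25357) (flp_f L17677) L12334 L17677 L25357
theorem L25365 : sm gh N2033 = N2931 := rfl
theorem L25383 : sm gj N2035 = N2933 := rfl
theorem L25385 : sm gb N2933 = N2040 := ded_24_1 (flp_j L17735) (flp_b L17697) L25383
theorem L25387 : sm gc N2933 = N2933 := ded_31_1 (flp_j L25383) L17699 L25383
theorem L25388 : sm ge N2933 = N2933 := ded_42_1 (flp_j L25383) L17700 L25383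
theorem L25389 : sm gf N2933 = N2933 := ded_46_1 (flp_j L25383) L17702 L25383
theorem L25390 : sm gi N2933 = N2933 := ded_53_2 (flp_j L25383) L17701 L25383
theorem L25391 : sm gg N2933 = N2051 := ded_49_1 (flp_j L17826) (flp_g L12421) (flp_j L12345) L17695 L25383
theorem L25393 : sm gg N2036 = N2934 := rfl
theorem L25395 : sm gc N2934 = N2934 := ded_30_1 (flp_g L25393) L17705 L25393
theorem L25396 : sm gd N2934 = N2934 := ded_36_1 (flp_g L25393) L17709 L25393
theorem L25397 : sm ge N2934 = N2037 := ded_41_1 (flp_g L17712) L17703 L25393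
theorem L25399 : sm gi N2934 = N2934 := ded_51_2 (flp_g L25393) L17708 L25393
theorem L25400 : sm gh N2036 = N2935 := rfl
theorem L25402 : sm gc N2935 = N2935 := ded_32_1 (flp_h L25400) L17705 L25400
theorem L25403 : sm ge N2935 = N2038 := ded_43_1 (flp_h L17719) L17703 L25400
theorem L25405 : sm gf N2935 = N2084 := ded_47_1 (flp_h L18100) (flp_f L17710) L25400
theorem L25407 : sm gj N2935 = N2053 := ded_52_1 (flp_h L17843) (flp_j L17706) L25400
theorem L25409 : sm gj N2037 = N2936 := rfl
theorem L25411 : sm gc N2936 = N2936 := ded_31_1 (flp_j L25409) L17714 L25409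
theorem L25412 : sm gd N2936 = N2040 := ded_37_1 (flp_j L17735) (flp_d L17715) L25409
theorem L25414 : sm gf N2936 = N2936 := ded_46_1 (flp_j L25409) L17718 L25409
theorem L25415 : sm gi N2936 = N2936 := ded_53_2 (flp_j L25409) L17717 L25409
theorem L25416 : sm gg N2936 = N2054 := ded_49_1 (flp_j L17850) (flp_g L12437) (flp_j L12354) L17712 L25409
theorem L25418 : sm gh N2037 = N2937 := rfl
theorem L25420 : sm gc N2937 = N2937 := ded_32_1 (flp_h L25418) L17714 L25418
theorem L25421 : sm gf N2937 = N2937 := ded_47_1 (flp_h L25418) L17718 L25418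
theorem L25422 : sm gg N2937 = N2038 := ded_50_1 (flp_h L17719) L17712 L25418
theorem L25424 : sm gi N2038 = N2938 := rfl
theorem L25427 : sm gf N2938 = N2039 := ded_48_1 (flp_i L17726) (flp_f L17722) L25424
theorem L25432 : sm gb N2041 = N2939 := rfl
theorem L25435 : sm ge N2939 = N2087 := ded_21_2 (flp_b L18124) (flp_e L17748) L25432
theorem L25437 : sm gg N2939 = N2057 := ded_23_2 (flp_b L17871) (flp_g L17750) L25432
theorem L25441 : sm gf N2041 = N2940 := rfl
theorem L25443 : sm ga N2940 = N2045 := ded_14_1 (flp_f L17778) (flp_a L17746) L25441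
theorem L25445 : sm gc N2940 = N2042 := ded_29_1 (flp_f L17754) L17744 L25441
theorem L25449 : sm gh N2041 = N2941 := rfl
theorem L25451 : sm ga N2941 = N2046 := ded_17_1 (flp_h L17785) (flp_a L17746) L25449
theorem L25453 : sm gc N2941 = N2043 := ded_32_1 (flp_h L17761) L17744 L25449
theorem L25455 : sm ge N2941 = N2089 := ded_43_1 (flp_h L18142) (flp_e L17748) L25449
theorem L25457 : sm gg N2941 = N2059 := ded_50_1 (flp_h L17889) (flp_g L17750) L25449
theorem L25459 : sm ge N2042 = N2942 := rfl
theorem L25461 : sm ga N2942 = N2047 := ded_13_1 (flp_e L17794) (flp_a L17756) L25459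
theorem L25463 : sm gi N2942 = N2942 := ded_44_2 (flp_e L25459) L17760 L25459
theorem L25464 : sm gd N2942 = N2942 := ded_34_1 (flp_e L25459) L17758 L12396 (flp_d L17758) L25459
theorem L25465 : sm gf N2942 = N2090 := ded_40_2 (flp_e L18150) (flp_f L12676) (flp_e L12388) L17754 L25459
theorem L25467 : sm gg N2042 = N2943 := rfl
theorem L25469 : sm ga N2943 = N2048 := ded_15_1 (flp_g L17802) (flp_a L17756) L25467
theorem L25471 : sm gd N2943 = N2044 := ded_36_1 (flp_g L17769) (flp_d L17758) L25467
theorem L25473 : sm gi N2943 = N2943 := ded_51_2 (flp_g L25467) L17760 L25467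
theorem L25474 : sm gf N2943 = N2060 := ded_45_1 (flp_g L17898) (flp_f L12475) (flp_g L12385) L17754 L25467
theorem L25476 : sm gh N2042 = N2944 := rfl
theorem L25491 : sm gj N2044 = N2946 := rfl
theorem L25493 : sm ga N2946 = N2051 := ded_16_1 (flp_j L17826) (flp_a L17771) L25491
theorem L25495 : sm gc N2946 = N2946 := ded_31_1 (flp_j L25491) L17773 L25491
theorem L25496 : sm ge N2946 = N2946 := ded_42_1 (flp_j L25491) L17774 L25491
theorem L25497 : sm gf N2946 = N2063 := ded_46_1 (flp_j L17922) (flp_f L17776) L25491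
theorem L25499 : sm gi N2946 = N2946 := ded_53_2 (flp_j L25491) L17775 L25491
theorem L25500 : sm ge N2045 = N2947 := rfl
theorem L25503 : sm gc N2947 = N2047 := ded_28_1 (flp_e L17794) (flp_c L17781) L25500
theorem L25506 : sm gf N2947 = N2093 := ded_40_2 (flp_e L18173) (flp_f L12691) (flp_e L12399) L17778 L25500
theorem L25508 : sm gg N2045 = N2948 := rfl
theorem L25511 : sm gc N2948 = N2048 := ded_30_1 (flp_g L17802) (flp_c L17781) L25508
theorem L25515 : sm gf N2948 = N2064 := ded_45_1 (flp_g L17931) (flp_f L12499) (flp_g L12401) L17778 L25508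
theorem L25517 : sm gh N2045 = N2949 := rfl
theorem L25520 : sm gc N2949 = N2049 := ded_32_1 (flp_h L17811) (flp_c L17781) L25517
theorem L25524 : sm gd N2046 = N2950 := rfl
theorem L25527 : sm gg N2950 = N2066 := ded_36_2 (flp_d L17948) (flp_g L17792) L25524
theorem L25530 : sm gi N2046 = N2951 := rfl
theorem L25537 : sm gg N2951 = N2067 := ded_51_1 (flp_i L17953) (flp_g L17792) L25530
theorem L25540 : sm gg N2047 = N2952 := rfl
theorem L25542 : sm gb N2952 = N2052 := ded_23_1 (flp_g L17835) (flp_b L17796) L25540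
theorem L25544 : sm gd N2952 = N2952 := ded_36_1 (flp_g L25540) L17799 L25540
theorem L25545 : sm ge N2952 = N2048 := ded_41_1 (flp_g L17802) L17794 L25540
theorem L25547 : sm gi N2952 = N2952 := ded_51_2 (flp_g L25540) L17798 L25540
theorem L25548 : sm gf N2952 = N2952 := ded_45_1 (flp_g L25540) L17800 L12711 (flp_f L17800) L25540
theorem L25549 : sm gh N2047 = N2953 := rfl
theorem L25553 : sm ge N2953 = N2049 := ded_43_1 (flp_h L17811) L17794 L25549
theorem L25555 : sm gf N2953 = N2097 := ded_47_1 (flp_h L18204) (flp_f L17800) L25549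
theorem L25557 : sm gj N2048 = N2954 := rfl
theorem L25559 : sm gb N2954 = N2054 := ded_24_1 (flp_j L17850) (flp_b L17804) L25557
theorem L25561 : sm gd N2954 = N2051 := ded_37_1 (flp_j L17826) (flp_d L17806) L25557
theorem L25563 : sm gf N2954 = N2068 := ded_46_1 (flp_j L17962) (flp_f L17809) L25557
theorem L25565 : sm gi N2954 = N2954 := ded_53_2 (flp_j L25557) L17808 L25557
theorem L25566 : sm gh N2048 = N2955 := rfl
theorem L25570 : sm gf N2955 = N2069 := ded_47_1 (flp_h L17971) (flp_f L17809) L25566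
theorem L25572 : sm gg N2955 = N2049 := ded_50_1 (flp_h L17811) L17802 L25566
theorem L25574 : sm gi N2049 = N2956 := rfl
theorem L25581 : sm gj N2052 = N2957 := rfl
theorem L25583 : sm gc N2957 = N2957 := ded_31_1 (flp_j L25581) L17837 L25581
theorem L25584 : sm gd N2957 = N2957 := ded_37_1 (flp_j L25581) L17838 L25581
theorem L25585 : sm ge N2957 = N2054 := ded_42_1 (flp_j L17850) (flp_e L17839) L25581
theorem L25587 : sm gf N2957 = N2957 := ded_46_1 (flp_j L25581) L17842 L25581
theorem L25588 : sm gi N2957 = N2957 := ded_53_2 (flp_j L25581) L17841 L25581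
theorem L25589 : sm gh N2052 = N2958 := rfl
theorem L25591 : sm gc N2958 = N2958 := ded_32_1 (flp_h L25589) L17837 L25589
theorem L25592 : sm ge N2958 = N2055 := ded_43_1 (flp_h L17858) (flp_e L17839) L25589
theorem L25594 : sm gf N2958 = N2958 := ded_47_1 (flp_h L25589) L17842 L25589
theorem L25595 : sm gg N2958 = N2053 := ded_50_1 (flp_h L17843) L17835 L25589
theorem L25597 : sm gd N2053 = N2959 := rfl
theorem L25599 : sm gf N2959 = N2099 := ded_35_2 (flp_d L18220) (flp_f L17848) L25597
theorem L25601 : sm gh N2959 = N2959 := ded_38_2 (flp_d L25597) (flp_h L17843) L12434 L17843 L25597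
theorem L25602 : sm gi N2053 = N2960 := rfl
theorem L25610 : sm gh N2054 = N2961 := rfl
theorem L25612 : sm gc N2961 = N2961 := ded_32_1 (flp_h L25610) L17852 L25610
theorem L25613 : sm gf N2961 = N2071 := ded_47_1 (flp_h L17987) (flp_f L17855) L25610
theorem L25615 : sm gj N2961 = N2055 := ded_52_1 (flp_h L17858) L17850 L25610
theorem L25617 : sm gi N2055 = N2962 := rfl
theorem L25625 : sm gf N2057 = N2963 := rfl
theorem L25628 : sm gb N2963 = N2058 := ded_22_1 (flp_f L17879) L17871 L25625
theorem L25634 : sm gh N2057 = N2964 := rfl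
theorem L25637 : sm gb N2964 = N2059 := ded_25_1 (flp_h L17889) L17871 L25634
theorem L25639 : sm ge N2964 = N2101 := ded_43_1 (flp_h L18232) (flp_e L17874) L25634
theorem L25642 : sm gg N2058 = N2965 := rfl
theorem L25644 : sm ga N2965 = N2064 := ded_15_1 (flp_g L17931) (flp_a L17881) L25642
theorem L25646 : sm gc N2965 = N2060 := ded_30_1 (flp_g L17898) (flp_c L17883) L25642
theorem L25651 : sm gh N2058 = N2966 := rfl
theorem L25658 : sm gf N2966 = N2059 := ded_47_1 (flp_h L17889) L17879 L25651
theorem L25661 : sm gd N2059 = N2967 := rfl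
theorem L25677 : sm gj N2060 = N2969 := rfl
theorem L25679 : sm ga N2969 = N2068 := ded_16_1 (flp_j L17962) (flp_a L17900) L25677
theorem L25681 : sm gd N2969 = N2063 := ded_37_1 (flp_j L17922) (flp_d L17902) L25677
theorem L25683 : sm ge N2969 = N2969 := ded_42_1 (flp_j L25677) L17904 L25677
theorem L25684 : sm gi N2969 = N2969 := ded_53_2 (flp_j L25677) L17905 L25677
theorem L25685 : sm gg N2969 = N2969 := ded_49_1 (flp_j L25677) (flp_g L17898) L12481 L17898 L25677
theorem L25686 : sm gh N2060 = N2970 := rfl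
theorem L25691 : sm gg N2970 = N2061 := ded_50_1 (flp_h L17906) L17898 L25686
theorem L25693 : sm gi N2061 = N2971 := rfl
theorem L25695 : sm ga N2971 = N2070 := ded_18_1 (flp_i L17978) (flp_a L17908) L25693
theorem L25702 : sm gj N2064 = N2972 := rfl
theorem L25705 : sm gc N2972 = N2068 := ded_31_1 (flp_j L17962) (flp_c L17934) L25702
theorem L25736 : sm ge N2066 = N2976 := rfl
theorem L25741 : sm gd N2976 = N2104 := ded_34_1 (flp_e L18257) (flp_d L12768) (flp_e L12513) L17948 L25736
theorem L25749 : sm gh N2068 = N2978 := rfl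
theorem L25755 : sm gj N2978 = N2069 := ded_52_1 (flp_h L17971) L17962 L25749
theorem L25757 : sm gi N2069 = N2979 := rfl
theorem L25765 : sm gi N2071 = N2980 := rfl
theorem L25773 : sm gb N2073 = N2981 := rfl
theorem L25775 : sm gd N2981 = N2106 := ded_20_2 (flp_b L18272) (flp_d L18009) L25773
theorem L25778 : sm gj N2981 = N2087 := ded_24_2 (flp_b L18124) (flp_j L18006) L25773
theorem L25782 : sm gf N2073 = N2982 := rfl
theorem L25784 : sm ga N2982 = N2077 := ded_14_1 (flp_f L18039) (flp_a L18003) L25782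
theorem L25786 : sm gc N2982 = N2074 := ded_29_1 (flp_f L18011) L18001 L25782
theorem L25788 : sm gd N2982 = N2107 := ded_35_1 (flp_f L18281) (flp_d L18009) L25782
theorem L25790 : sm gj N2982 = N2088 := ded_46_2 (flp_f L18132) (flp_j L18006) L25782
theorem L25793 : sm gh N2073 = N2983 := rfl
theorem L25795 : sm ga N2983 = N2078 := ded_17_1 (flp_h L18049) (flp_a L18003) L25793
theorem L25797 : sm gc N2983 = N2075 := ded_32_1 (flp_h L18020) L18001 L25793
theorem L25800 : sm gj N2983 = N2089 := ded_52_1 (flp_h L18142) (flp_j L18006) L25793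
theorem L25802 : sm ge N2074 = N2984 := rfl
theorem L25804 : sm ga N2984 = N2079 := ded_13_1 (flp_e L18057) (flp_a L18013) L25802
theorem L25806 : sm gj N2984 = N2090 := ded_42_2 (flp_e L18150) (flp_j L18017) L25802
theorem L25808 : sm gi N2984 = N2984 := ded_44_2 (flp_e L25802) L18019 L25802
theorem L25809 : sm gd N2984 = N2984 := ded_34_1 (flp_e L25802) L18015 L12598 (flp_d L18015) L25802
theorem L25810 : sm gg N2074 = N2985 := rfl
theorem L25812 : sm ga N2985 = N2080 := ded_15_1 (flp_g L18065) (flp_a L18013) L25810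
theorem L25814 : sm gd N2985 = N2076 := ded_36_1 (flp_g L18028) (flp_d L18015) L25810
theorem L25816 : sm gi N2985 = N2985 := ded_51_2 (flp_g L25810) L18019 L25810
theorem L25817 : sm gf N2985 = N2985 := ded_45_1 (flp_g L25810) (flp_f L18011) L12584 L18011 L25810
theorem L25818 : sm gj N2985 = N2985 := ded_49_2 (flp_g L25810) L18017 L12683 (flp_j L18017) L25810
theorem L25819 : sm gh N2074 = N2986 := rfl
theorem L25825 : sm gj N2986 = N2091 := ded_52_1 (flp_h L18157) (flp_j L18017) L25819
theorem L25837 : sm ge N2077 = N2988 := rfl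
theorem L25840 : sm gc N2988 = N2079 := ded_28_1 (flp_e L18057) (flp_c L18042) L25837
theorem L25842 : sm gj N2988 = N2093 := ded_42_2 (flp_e L18173) (flp_j L18046) L25837
theorem L25845 : sm gg N2077 = N2989 := rfl
theorem L25850 : sm gd N2989 = N2114 := ded_36_1 (flp_g L18350) (flp_d L18044) L25845
theorem L25855 : sm gh N2077 = N2990 := rfl
theorem L25862 : sm gj N2990 = N2094 := ded_52_1 (flp_h L18180) (flp_j L18046) L25855
theorem L25864 : sm gd N2078 = N2991 := rfl
theorem L25868 : sm gj N2991 = N2095 := ded_37_2 (flp_d L18188) (flp_j L18055) L25864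
theorem L25871 : sm gh N2991 = N2116 := ded_38_2 (flp_d L18367) (flp_h L12831) (flp_d L12606) L18049 L25864
theorem L25882 : sm gg N2079 = N2993 := rfl
theorem L25884 : sm gb N2993 = N2083 := ded_23_1 (flp_g L18092) (flp_b L18059) L25882
theorem L25886 : sm gd N2993 = N2993 := ded_36_1 (flp_g L25882) L18064 L25882
theorem L25887 : sm ge N2993 = N2080 := ded_41_1 (flp_g L18065) L18057 L25882
theorem L25889 : sm gi N2993 = N2993 := ded_51_2 (flp_g L25882) L18063 L25882
theorem L25890 : sm gj N2993 = N2993 := ded_49_2 (flp_g L25882) L18061 L12711 (flp_j L18061) L25882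
theorem L25891 : sm gh N2079 = N2994 := rfl
theorem L25893 : sm gb N2994 = N2084 := ded_25_1 (flp_h L18100) (flp_b L18059) L25891
theorem L25897 : sm gj N2994 = N2097 := ded_52_1 (flp_h L18204) (flp_j L18061) L25891
theorem L25918 : sm gf N2083 = N2997 := rfl
theorem L25920 : sm gc N2997 = N2997 := ded_29_1 (flp_f L25918) L18094 L25918
theorem L25921 : sm gd N2997 = N2997 := ded_35_1 (flp_f L25918) L18095 L25918
theorem L25922 : sm gj N2997 = N2997 := ded_46_2 (flp_f L25918) L18099 L25918
theorem L25923 : sm gi N2997 = N2997 := ded_48_2 (flp_f L25918) L18098 L25918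
theorem L25924 : sm ge N2997 = N2997 := ded_40_1 (flp_f L25918) L18096 L12649 (flp_e L18096) L25918
theorem L25925 : sm gh N2083 = N2998 := rfl
theorem L25927 : sm gc N2998 = N2998 := ded_32_1 (flp_h L25925) L18094 L25925
theorem L25928 : sm ge N2998 = N2085 := ded_43_1 (flp_h L18107) (flp_e L18096) L25925
theorem L25930 : sm gg N2998 = N2084 := ded_50_1 (flp_h L18100) L18092 L25925
theorem L25932 : sm gj N2998 = N2998 := ded_52_1 (flp_h L25925) L18099 L25925
theorem L25933 : sm gd N2084 = N2999 := rfl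
theorem L25935 : sm gj N2999 = N2099 := ded_37_2 (flp_d L18220) (flp_j L18105) L25933
theorem L25937 : sm ge N2999 = N2999 := ded_34_2 (flp_d L25933) L18103 L12658 (flp_e L18103) L25933
theorem L25938 : sm gh N2999 = N2999 := ded_38_2 (flp_d L25933) (flp_h L18100) L12642 L18100 L25933
theorem L25939 : sm gi N2084 = N3000 := rfl
theorem L25947 : sm gi N2085 = N3001 := rfl
theorem L25956 : sm gf N2087 = N3002 := rfl
theorem L25961 : sm gd N3002 = N2127 := ded_35_1 (flp_f L18467) (flp_d L18126) L25956
theorem L25965 : sm gh N2087 = N3003 := rfl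
theorem L25970 : sm gg N3003 = N2101 := ded_50_1 (flp_h L18232) (flp_g L18128) L25965
theorem L25972 : sm ge N2088 = N3004 := rfl
theorem L25974 : sm ga N3004 = N2093 := ded_13_1 (flp_e L18173) (flp_a L18134) L25972
theorem L25976 : sm gc N3004 = N2090 := ded_28_1 (flp_e L18150) (flp_c L18136) L25972
theorem L25980 : sm gh N2088 = N3005 := rfl
theorem L25986 : sm gf N3005 = N2089 := ded_47_1 (flp_h L18142) L18132 L25980
theorem L25989 : sm gd N2089 = N3006 := rfl
theorem L25993 : sm gg N3006 = N2102 := ded_36_2 (flp_d L18239) (flp_g L18148) L25989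
theorem L25996 : sm gh N3006 = N2131 := ded_38_2 (flp_d L18502) (flp_h L12930) (flp_d L12674) L18142 L25989
theorem L25998 : sm gi N2089 = N3007 := rfl
theorem L26004 : sm gg N3007 = N2103 := ded_51_1 (flp_i L18248) (flp_g L18148) L25998
theorem L26007 : sm gh N2090 = N3008 := rfl
theorem L26014 : sm gi N2091 = N3009 := rfl
theorem L26023 : sm gd N2093 = N3010 := rfl
theorem L26029 : sm ge N3010 = N2135 := ded_34_2 (flp_d L18538) (flp_e L12967) (flp_d L12696) L18173 L26023
theorem L26031 : sm gh N2093 = N3011 := rfl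
theorem L26034 : sm gc N3011 = N2097 := ded_32_1 (flp_h L18204) (flp_c L18176) L26031
theorem L26036 : sm ge N3011 = N2094 := ded_43_1 (flp_h L18180) L18173 L26031
theorem L26039 : sm gd N2094 = N3012 := rfl
theorem L26046 : sm gh N3012 = N2137 := ded_38_2 (flp_d L18554) (flp_h L12975) (flp_d L12696) L18180 L26039
theorem L26048 : sm gi N2094 = N3013 := rfl
theorem L26057 : sm ge N2095 = N3014 := rfl
theorem L26063 : sm gh N3014 = N2139 := ded_43_2 (flp_e L18570) (flp_h L18194) L26057
theorem L26073 : sm gd N2097 = N3016 := rfl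
theorem L26075 : sm gb N3016 = N2099 := ded_20_1 (flp_d L18220) (flp_b L18206) L26073
theorem L26088 : sm gc N2099 = N3018 := rfl
theorem L26090 : sm ge N3018 = N3018 := ded_28_2 (flp_c L26088) L18223 L26088
theorem L26091 : sm gg N3018 = N3018 := ded_30_2 (flp_c L26088) L18222 L26088
theorem L26092 : sm gh N3018 = N3018 := ded_32_2 (flp_c L26088) L18224 L26088
theorem L26093 : sm gd N3018 = N3018 := ded_27_2 (flp_c L26088) (flp_d L18220) L12732 L18220 L26088
theorem L26094 : sm gi N2099 = N3019 := rfl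
theorem L26096 : sm gd N3019 = N2100 := ded_39_1 (flp_i L18225) L18220 L26094
theorem L26100 : sm gd N2101 = N3020 := rfl
theorem L26107 : sm gh N3020 = N2145 := ded_38_2 (flp_d L18618) (flp_h L13031) (flp_d L12746) L18232 L26100
theorem L26117 : sm ge N2102 = N3022 := rfl
theorem L26123 : sm gh N3022 = N2147 := ded_43_2 (flp_e L18635) (flp_h L18246) L26117
theorem L26125 : sm gi N2102 = N3023 := rfl
theorem L26134 : sm gf N2104 = N3024 := rfl
theorem L26139 : sm gh N3024 = N2149 := ded_47_2 (flp_f L18651) (flp_h L18262) L26134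
theorem L26142 : sm gi N2104 = N3025 := rfl
theorem L26158 : sm gf N2106 = N3027 := rfl
theorem L26161 : sm gb N3027 = N2107 := ded_22_1 (flp_f L18281) L18272 L26158
theorem L26164 : sm gj N3027 = N2127 := ded_46_2 (flp_f L18467) (flp_j L18276) L26158
theorem L26167 : sm gh N2106 = N3028 := rfl
theorem L26175 : sm gj N3028 = N2128 := ded_52_1 (flp_h L18475) (flp_j L18276) L26167
theorem L26177 : sm ge N2107 = N3029 := rfl
theorem L26179 : sm ga N3029 = N2113 := ded_13_1 (flp_e L18341) (flp_a L18283) L26177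
theorem L26181 : sm gc N3029 = N2109 := ded_28_1 (flp_e L18300) (flp_c L18285) L26177
theorem L26183 : sm gj N3029 = N2129 := ded_42_2 (flp_e L18484) (flp_j L18287) L26177
theorem L26187 : sm gg N2107 = N3030 := rfl
theorem L26191 : sm gc N3030 = N2110 := ded_30_1 (flp_g L18310) (flp_c L18285) L26187
theorem L26196 : sm gh N2107 = N3031 := rfl
theorem L26198 : sm ga N3031 = N2115 := ded_17_1 (flp_h L18358) (flp_a L18283) L26196
theorem L26202 : sm gf N3031 = N2108 := ded_47_1 (flp_h L18290) L18281 L26196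
theorem L26206 : sm gd N2108 = N3032 := rfl
theorem L26211 : sm gj N3032 = N2131 := ded_37_2 (flp_d L18502) (flp_j L18298) L26206
theorem L26225 : sm gg N2109 = N3034 := rfl
theorem L26227 : sm ga N3034 = N2118 := ded_15_1 (flp_g L18384) (flp_a L18302) L26225
theorem L26229 : sm gb N3034 = N3034 := ded_23_1 (flp_g L26225) L18304 L26225
theorem L26230 : sm gd N3034 = N3034 := ded_36_1 (flp_g L26225) L18308 L26225
theorem L26231 : sm ge N3034 = N2110 := ded_41_1 (flp_g L18310) L18300 L26225
theorem L26233 : sm gi N3034 = N3034 := ded_51_2 (flp_g L26225) L18307 L26225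
theorem L26234 : sm gj N3034 = N3034 := ded_49_2 (flp_g L26225) L18305 L12944 (flp_j L18305) L26225
theorem L26235 : sm gh N2109 = N3035 := rfl
theorem L26237 : sm ga N3035 = N2119 := ded_17_1 (flp_h L18393) (flp_a L18302) L26235
theorem L26240 : sm ge N3035 = N2111 := ded_43_1 (flp_h L18320) L18300 L26235
theorem L26243 : sm gj N3035 = N2133 := ded_52_1 (flp_h L18519) (flp_j L18305) L26235
theorem L26245 : sm gh N2110 = N3036 := rfl
theorem L26247 : sm ga N3036 = N2120 := ded_17_1 (flp_h L18402) (flp_a L18312) L26245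
theorem L26266 : sm gd N2113 = N3038 := rfl
theorem L26270 : sm gj N3038 = N2135 := ded_37_2 (flp_d L18538) (flp_j L18346) L26266
theorem L26274 : sm gg N2113 = N3039 := rfl
theorem L26277 : sm gc N3039 = N2118 := ded_30_1 (flp_g L18384) (flp_c L18344) L26274
theorem L26283 : sm gh N2113 = N3040 := rfl
theorem L26286 : sm gc N3040 = N2119 := ded_32_1 (flp_h L18393) (flp_c L18344) L26283
theorem L26288 : sm ge N3040 = N2115 := ded_43_1 (flp_h L18358) L18341 L26283
theorem L26291 : sm gj N3040 = N2136 := ded_52_1 (flp_h L18545) (flp_j L18346) L26283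
theorem L26293 : sm gh N2114 = N3041 := rfl
theorem L26302 : sm gd N2115 = N3042 := rfl
theorem L26305 : sm gf N3042 = N2116 := ded_35_2 (flp_d L18367) (flp_f L18363) L26302
theorem L26307 : sm gj N3042 = N2137 := ded_37_2 (flp_d L18554) (flp_j L18365) L26302
theorem L26320 : sm ge N2116 = N3044 := rfl
theorem L26325 : sm gj N3044 = N2139 := ded_42_2 (flp_e L18570) (flp_j L18371) L26320
theorem L26337 : sm gf N2118 = N3046 := rfl
theorem L26339 : sm gb N3046 = N2122 := ded_22_1 (flp_f L18421) (flp_b L18386) L26337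
theorem L26341 : sm gd N3046 = N3046 := ded_35_1 (flp_f L26337) L18388 L26337
theorem L26342 : sm gj N3046 = N3046 := ded_46_2 (flp_f L26337) L18392 L26337
theorem L26343 : sm gi N3046 = N3046 := ded_48_2 (flp_f L26337) L18391 L26337
theorem L26344 : sm ge N3046 = N3046 := ded_40_1 (flp_f L26337) L18389 L12856 (flp_e L18389) L26337
theorem L26345 : sm gg N3046 = N3046 := ded_45_2 (flp_f L26337) (flp_g L18384) L12848 L18384 L26337
theorem L26346 : sm gh N2118 = N3047 := rfl
theorem L26348 : sm gb N3047 = N2123 := ded_25_1 (flp_h L18430) (flp_b L18386) L26346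
theorem L26355 : sm gd N2119 = N3048 := rfl
theorem L26360 : sm gj N3048 = N2141 := ded_37_2 (flp_d L18585) (flp_j L18400) L26355
theorem L26384 : sm gh N2122 = N3051 := rfl
theorem L26386 : sm ga N3051 = N3051 := ded_17_1 (flp_h L26384) L18423 L26384
theorem L26387 : sm gc N3051 = N3051 := ded_32_1 (flp_h L26384) L18424 L26384
theorem L26388 : sm ge N3051 = N3051 := ded_43_1 (flp_h L26384) L18428 L26384
theorem L26389 : sm gf N3051 = N2123 := ded_47_1 (flp_h L18430) L18421 L26384
theorem L26391 : sm gg N3051 = N3051 := ded_50_1 (flp_h L26384) L18429 L26384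
theorem L26392 : sm gj N3051 = N3051 := ded_52_1 (flp_h L26384) L18426 L26384
theorem L26393 : sm gd N2123 = N3052 := rfl
theorem L26395 : sm ga N3052 = N3052 := ded_12_1 (flp_d L26393) L18432 L26393
theorem L26396 : sm gg N3052 = N2124 := ded_36_2 (flp_d L18439) (flp_g L18436) L26393
theorem L26398 : sm gj N3052 = N3052 := ded_37_2 (flp_d L26393) L18438 L26393
theorem L26399 : sm ge N3052 = N3052 := ded_34_2 (flp_d L26393) L18434 L12903 (flp_e L18434) L26393
theorem L26400 : sm gh N3052 = N3052 := ded_38_2 (flp_d L26393) (flp_h L18430) L12881 L18430 L26393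
theorem L26401 : sm gi N2123 = N3053 := rfl
theorem L26403 : sm ga N3053 = N3053 := ded_18_1 (flp_i L26401) L18432 L26401
theorem L26407 : sm gg N3053 = N2125 := ded_51_1 (flp_i L18447) (flp_g L18436) L26401
theorem L26410 : sm gh N3053 = N3053 := ded_54_1 (flp_i L26401) (flp_h L18430) L12884 L18430 L26401
theorem L26411 : sm gc N2124 = N3054 := rfl
theorem L26413 : sm ga N3054 = N3054 := ded_11_1 (flp_c L26411) L18441 L26411
theorem L26414 : sm ge N3054 = N3054 := ded_28_2 (flp_c L26411) L18445 L26411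
theorem L26415 : sm gf N3054 = N3054 := ded_29_2 (flp_c L26411) L18442 L26411
theorem L26416 : sm gj N3054 = N2143 := ded_31_2 (flp_c L18602) (flp_j L18443) L26411
theorem L26418 : sm gh N3054 = N3054 := ded_32_2 (flp_c L26411) L18446 L26411
theorem L26419 : sm gd N3054 = N3054 := ded_27_2 (flp_c L26411) (flp_d L18439) L12889 L18439 L26411
theorem L26420 : sm gi N2124 = N3055 := rfl
theorem L26429 : sm ge N2127 = N3056 := rfl
theorem L26438 : sm gh N2127 = N3057 := rfl
theorem L26447 : sm gd N2128 = N3058 := rfl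
theorem L26452 : sm gg N3058 = N2145 := ded_36_2 (flp_d L18618) (flp_g L18482) L26447
theorem L26464 : sm gd N2129 = N3060 := rfl
theorem L26472 : sm gh N2129 = N3061 := rfl
theorem L26476 : sm gc N3061 = N2133 := ded_32_1 (flp_h L18519) (flp_c L18488) L26472
theorem L26478 : sm ge N3061 = N2130 := ded_43_1 (flp_h L18493) L18484 L26472
theorem L26482 : sm gd N2130 = N3062 := rfl
theorem L26500 : sm ge N2131 = N3064 := rfl
theorem L26505 : sm gg N3064 = N2147 := ded_41_2 (flp_e L18635) (flp_g L18506) L26500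
theorem L26517 : sm gd N2133 = N3066 := rfl
theorem L26536 : sm gh N2135 = N3068 := rfl
theorem L26542 : sm gd N2136 = N3069 := rfl
theorem L26547 : sm gi N2136 = N3070 := rfl
theorem L26550 : sm gc N3070 = N2142 := ded_33_1 (flp_i L18593) (flp_c L18548) L26547
theorem L26552 : sm ge N3070 = N2138 := ded_44_1 (flp_i L18561) (flp_e L18550) L26547
theorem L26557 : sm ge N2137 = N3071 := rfl
theorem L26571 : sm gf N2139 = N3073 := rfl
theorem L26576 : sm gi N2139 = N3074 := rfl
theorem L26592 : sm gc N2141 = N3076 := rfl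
theorem L26598 : sm gi N2141 = N3077 := rfl
theorem L26600 : sm gb N3077 = N2144 := ded_26_1 (flp_i L18610) (flp_b L18587) L26598
theorem L26602 : sm gd N3077 = N2142 := ded_39_1 (flp_i L18593) L18585 L26598
theorem L26607 : sm gb N2143 = N3078 := rfl
theorem L26614 : sm gi N2143 = N3079 := rfl
theorem L26631 : sm gc N2145 = N3081 := rfl
theorem L26638 : sm ge N2145 = N3082 := rfl
theorem L26641 : sm gb N3082 = N2147 := ded_21_1 (flp_e L18635) (flp_b L18621) L26638
theorem L26654 : sm gf N2147 = N3084 := rfl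
theorem L26671 : sm gh N2148 = N3086 := rfl
theorem L26679 : sm gg N2149 = N3087 := rfl
theorem L26685 : sm gi N2149 = N3088 := rfl
theorem L26691 : sm gf N3088 = N2150 := ded_48_1 (flp_i L18658) L18651 L26685
theorem L26694 : sm gh N2150 = N3089 := rfl
theorem L26701 : sm gf N2152 = N3090 := rfl
theorem L26703 : sm ga N3090 = N3090 := ded_14_1 (flp_f L26701) L18675 L26701
theorem L26704 : sm gb N3090 = N3090 := ded_22_1 (flp_f L26701) L18676 L26701
theorem L26705 : sm gc N3090 = N3090 := ded_29_1 (flp_f L26701) L18677 L26701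
theorem L26706 : sm gd N3090 = N3090 := ded_35_1 (flp_f L26701) L18678 L26701
theorem L26707 : sm gj N3090 = N3090 := ded_46_2 (flp_f L26701) L18682 L26701
theorem L26708 : sm gh N3090 = N3090 := ded_47_2 (flp_f L26701) L18681 L26701
theorem L26709 : sm ge N3090 = N3090 := ded_40_1 (flp_f L26701) L18679 L13099 (flp_e L18679) L26701
theorem L26710 : sm gg N3090 = N3090 := ded_45_2 (flp_f L26701) (flp_g L18673) L13079 L18673 L26701
theorem L26711 : sm gi N2152 = N3091 := rfl
theorem L26713 : sm ga N3091 = N3091 := ded_18_1 (flp_i L26711) L18675 L26711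
theorem L26714 : sm gb N3091 = N3091 := ded_26_1 (flp_i L26711) L18676 L26711
theorem L26715 : sm gc N3091 = N3091 := ded_33_1 (flp_i L26711) L18677 L26711
theorem L26716 : sm gd N3091 = N3091 := ded_39_1 (flp_i L26711) L18678 L26711
theorem L26717 : sm ge N3091 = N2155 := ded_44_1 (flp_i L18704) (flp_e L18679) L26711
theorem L26719 : sm gg N3091 = N2153 := ded_51_1 (flp_i L18683) L18673 L26711
theorem L26721 : sm gj N3091 = N3091 := ded_53_1 (flp_i L26711) L18682 L26711
theorem L26722 : sm gh N2153 = N3092 := rfl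
theorem L26724 : sm ga N3092 = N3092 := ded_17_1 (flp_h L26722) L18685 L26722
theorem L26725 : sm gb N3092 = N3092 := ded_25_1 (flp_h L26722) L18686 L26722
theorem L26726 : sm gc N3092 = N3092 := ded_32_1 (flp_h L26722) L18687 L26722
theorem L26727 : sm ge N3092 = N2156 := ded_43_1 (flp_h L18715) (flp_e L18689) L26722
theorem L26729 : sm gf N3092 = N3092 := ded_47_1 (flp_h L26722) L18691 L26722
theorem L26730 : sm gj N3092 = N2154 := ded_52_1 (flp_h L18694) (flp_j L18692) L26722
theorem L26732 : sm gi N3092 = N3092 := ded_54_2 (flp_h L26722) (flp_i L18683) L13080 L18683 L26722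
theorem L26733 : sm gd N2154 = N3093 := rfl
theorem L26735 : sm ga N3093 = N3093 := ded_12_1 (flp_d L26733) L18696 L26733
theorem L26736 : sm gb N3093 = N3093 := ded_20_1 (flp_d L26733) L18697 L26733
theorem L26737 : sm gf N3093 = N3093 := ded_35_2 (flp_d L26733) L18701 L26733
theorem L26738 : sm gg N3093 = N3093 := ded_36_2 (flp_d L26733) L18702 L26733
theorem L26739 : sm gi N3093 = N3093 := ded_39_2 (flp_d L26733) L18703 L26733
theorem L26740 : sm gh N3093 = N3093 := ded_38_2 (flp_d L26733) (flp_h L18694) L13086 L18694 L26733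
theorem L26741 : sm gh N2155 = N3094 := rfl
theorem L26743 : sm ga N3094 = N3094 := ded_17_1 (flp_h L26741) L18706 L26741
theorem L26744 : sm gb N3094 = N3094 := ded_25_1 (flp_h L26741) L18707 L26741
theorem L26745 : sm gc N3094 = N3094 := ded_32_1 (flp_h L26741) L18708 L26741
theorem L26746 : sm gf N3094 = N3094 := ded_47_1 (flp_h L26741) L18711 L26741
theorem L26747 : sm gg N3094 = N2156 := ded_50_1 (flp_h L18715) (flp_g L18712) L26741
theorem L26749 : sm gj N3094 = N3094 := ded_52_1 (flp_h L26741) L18714 L26741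
theorem L26750 : sm gi N3094 = N3094 := ded_54_2 (flp_h L26741) (flp_i L18704) L13098 L18704 L26741
theorem L26751 : sm gd N2156 = N3095 := rfl
theorem L26753 : sm ga N3095 = N3095 := ded_12_1 (flp_d L26751) L18717 L26751
theorem L26754 : sm gb N3095 = N3095 := ded_20_1 (flp_d L26751) L18718 L26751
theorem L26755 : sm gf N3095 = N2158 := ded_35_2 (flp_d L18735) (flp_f L18720) L26751
theorem L26757 : sm gj N3095 = N2157 := ded_37_2 (flp_d L18725) (flp_j L18722) L26751
theorem L26759 : sm gi N3095 = N3095 := ded_39_2 (flp_d L26751) L18724 L26751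
theorem L26760 : sm gh N3095 = N2167 := ded_38_2 (flp_d L18828) (flp_h L13193) (flp_d L13106) L18715 L26751
theorem L26762 : sm gc N2157 = N3096 := rfl
theorem L26764 : sm ga N3096 = N3096 := ded_11_1 (flp_c L26762) L18727 L26762
theorem L26765 : sm gf N3096 = N2159 := ded_29_2 (flp_c L18745) (flp_f L18729) L26762
theorem L26767 : sm gg N3096 = N3096 := ded_30_2 (flp_c L26762) L18731 L26762
theorem L26768 : sm gh N3096 = N2169 := ded_32_2 (flp_c L18846) (flp_h L18733) L26762
theorem L26770 : sm gi N3096 = N3096 := ded_33_2 (flp_c L26762) L18732 L26762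
theorem L26771 : sm gd N3096 = N3096 := ded_27_2 (flp_c L26762) (flp_d L18725) L13116 L18725 L26762
theorem L26772 : sm ge N2157 = N3097 := rfl
theorem L26774 : sm ga N3097 = N3097 := ded_13_1 (flp_e L26772) L18727 L26772
theorem L26775 : sm gb N3097 = N3097 := ded_21_1 (flp_e L26772) L18728 L26772
theorem L26776 : sm gg N3097 = N3097 := ded_41_2 (flp_e L26772) L18731 L26772
theorem L26777 : sm gh N3097 = N2170 := ded_43_2 (flp_e L18854) (flp_h L18733) L26772
theorem L26779 : sm gi N3097 = N3097 := ded_44_2 (flp_e L26772) L18732 L26772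
theorem L26780 : sm gc N2158 = N3098 := rfl
theorem L26782 : sm ga N3098 = N3098 := ded_11_1 (flp_c L26780) L18737 L26780
theorem L26783 : sm gg N3098 = N3098 := ded_30_2 (flp_c L26780) L18739 L26780
theorem L26784 : sm gj N3098 = N2159 := ded_31_2 (flp_c L18745) (flp_j L18740) L26780
theorem L26786 : sm gh N3098 = N2172 := ded_32_2 (flp_c L18870) (flp_h L18743) L26780
theorem L26788 : sm gi N3098 = N3098 := ded_33_2 (flp_c L26780) L18742 L26780
theorem L26789 : sm gd N3098 = N3098 := ded_27_2 (flp_c L26780) (flp_d L18735) L13125 L18735 L26780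
theorem L26790 : sm ge N2158 = N3099 := rfl
theorem L26792 : sm ga N3099 = N3099 := ded_13_1 (flp_e L26790) L18737 L26790
theorem L26793 : sm gb N3099 = N3099 := ded_21_1 (flp_e L26790) L18738 L26790
theorem L26794 : sm gg N3099 = N3099 := ded_41_2 (flp_e L26790) L18739 L26790
theorem L26795 : sm gj N3099 = N2160 := ded_42_2 (flp_e L18754) (flp_j L18740) L26790
theorem L26797 : sm gh N3099 = N2173 := ded_43_2 (flp_e L18878) (flp_h L18743) L26790
theorem L26799 : sm gi N3099 = N3099 := ded_44_2 (flp_e L26790) L18742 L26790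
theorem L26800 : sm gd N3099 = N3099 := ded_34_1 (flp_e L26790) (flp_d L18735) L13126 L18735 L26790
theorem L26801 : sm gb N2159 = N3100 := rfl
theorem L26803 : sm gd N3100 = N3100 := ded_20_2 (flp_b L26801) L18753 L26801
theorem L26804 : sm gg N3100 = N2161 := ded_23_2 (flp_b L18764) (flp_g L18748) L26801
theorem L26806 : sm gh N3100 = N2176 := ded_25_2 (flp_b L18908) (flp_h L18750) L26801
theorem L26808 : sm gi N3100 = N3100 := ded_26_2 (flp_b L26801) L18752 L26801
theorem L26809 : sm gc N3100 = N3100 := ded_19_2 (flp_b L26801) (flp_c L18745) L13134 L18745 L26801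
theorem L26810 : sm ge N2159 = N3101 := rfl
theorem L26812 : sm ga N3101 = N3101 := ded_13_1 (flp_e L26810) L18747 L26810
theorem L26813 : sm gc N3101 = N2160 := ded_28_1 (flp_e L18754) L18745 L26810
theorem L26815 : sm gg N3101 = N2162 := ded_41_2 (flp_e L18773) (flp_g L18748) L26810
theorem L26817 : sm gh N3101 = N2177 := ded_43_2 (flp_e L18915) (flp_h L18750) L26810
theorem L26819 : sm gi N3101 = N3101 := ded_44_2 (flp_e L26810) L18752 L26810
theorem L26820 : sm gf N2160 = N3102 := rfl
theorem L26822 : sm ga N3102 = N3102 := ded_14_1 (flp_f L26820) L18756 L26820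
theorem L26823 : sm gb N3102 = N3102 := ded_22_1 (flp_f L26820) L18757 L26820
theorem L26824 : sm gd N3102 = N3102 := ded_35_1 (flp_f L26820) L18763 L26820
theorem L26825 : sm gh N3102 = N2178 := ded_47_2 (flp_f L18922) (flp_h L18760) L26820
theorem L26827 : sm gi N3102 = N3102 := ded_48_2 (flp_f L26820) L18762 L26820
theorem L26828 : sm ga N2161 = N3103 := rfl
theorem L26830 : sm gc N3103 = N3103 := ded_11_2 (flp_a L26828) L18772 L26828
theorem L26831 : sm gd N3103 = N3103 := ded_12_2 (flp_a L26828) L18766 L26828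
theorem L26832 : sm gf N3103 = N3103 := ded_14_2 (flp_a L26828) L18767 L26828
theorem L26833 : sm gj N3103 = N3103 := ded_16_2 (flp_a L26828) L18768 L26828
theorem L26834 : sm gh N3103 = N2182 := ded_17_2 (flp_a L18958) (flp_h L18769) L26828
theorem L26836 : sm gi N3103 = N3103 := ded_18_2 (flp_a L26828) L18771 L26828
theorem L26837 : sm gb N3103 = N3103 := ded_10_2 (flp_a L26828) (flp_b L18764) L13142 L18764 L26828
theorem L26838 : sm ge N2161 = N3104 := rfl
theorem L26840 : sm gb N3104 = N2162 := ded_21_1 (flp_e L18773) L18764 L26838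
theorem L26842 : sm gc N3104 = N3104 := ded_28_1 (flp_e L26838) L18772 L26838
theorem L26843 : sm gj N3104 = N3104 := ded_42_2 (flp_e L26838) L18768 L26838
theorem L26844 : sm gh N3104 = N2183 := ded_43_2 (flp_e L18966) (flp_h L18769) L26838
theorem L26846 : sm gi N3104 = N3104 := ded_44_2 (flp_e L26838) L18771 L26838
theorem L26847 : sm gd N2162 = N3105 := rfl
theorem L26849 : sm ga N3105 = N3105 := ded_12_1 (flp_d L26847) L18775 L26847
theorem L26850 : sm gj N3105 = N3105 := ded_37_2 (flp_d L26847) L18778 L26847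
theorem L26851 : sm gi N3105 = N3105 := ded_39_2 (flp_d L26847) L18781 L26847
theorem L26852 : sm gc N3105 = N3105 := ded_27_1 (flp_d L26847) L18776 L13157 (flp_c L18776) L26847
theorem L26853 : sm ge N3105 = N3105 := ded_34_2 (flp_d L26847) (flp_e L18773) L13148 L18773 L26847
theorem L26854 : sm gf N2162 = N3106 := rfl
theorem L26856 : sm ga N3106 = N3106 := ded_14_1 (flp_f L26854) L18775 L26854
theorem L26857 : sm gc N3106 = N2163 := ded_29_1 (flp_f L18782) (flp_c L18776) L26854
theorem L26859 : sm gj N3106 = N3106 := ded_46_2 (flp_f L26854) L18778 L26854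
theorem L26860 : sm gh N3106 = N2185 := ded_47_2 (flp_f L18980) (flp_h L18779) L26854
theorem L26862 : sm gi N3106 = N3106 := ded_48_2 (flp_f L26854) L18781 L26854
theorem L26863 : sm ge N3106 = N3106 := ded_40_1 (flp_f L26854) (flp_e L18773) L13143 L18773 L26854
theorem L26864 : sm gg N2163 = N3107 := rfl
theorem L26866 : sm ga N3107 = N3107 := ded_15_1 (flp_g L26864) L18784 L26864
theorem L26867 : sm gb N3107 = N3107 := ded_23_1 (flp_g L26864) L18785 L26864
theorem L26868 : sm gd N3107 = N3107 := ded_36_1 (flp_g L26864) L18786 L26864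
theorem L26869 : sm ge N3107 = N3107 := ded_41_1 (flp_g L26864) L18791 L26864
theorem L26870 : sm gh N3107 = N2186 := ded_50_2 (flp_g L18987) (flp_h L18788) L26864
theorem L26872 : sm gi N3107 = N3107 := ded_51_2 (flp_g L26864) L18790 L26864
theorem L26873 : sm gh N2164 = N3108 := rfl
theorem L26875 : sm ga N3108 = N3108 := ded_17_1 (flp_h L26873) L18794 L26873
theorem L26876 : sm gb N3108 = N3108 := ded_25_1 (flp_h L26873) L18795 L26873
theorem L26877 : sm gc N3108 = N2246 := ded_32_1 (flp_h L19510) (flp_c L18796) L26873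
theorem L26879 : sm ge N3108 = N3108 := ded_43_1 (flp_h L26873) L18799 L26873
theorem L26880 : sm gf N3108 = N3108 := ded_47_1 (flp_h L26873) L18800 L26873
theorem L26881 : sm gg N3108 = N2166 := ded_50_1 (flp_h L18815) (flp_g L18801) L26873
theorem L26883 : sm gj N3108 = N3108 := ded_52_1 (flp_h L26873) L18803 L26873
theorem L26884 : sm gi N3108 = N2165 := ded_54_2 (flp_h L18804) (flp_i L13170) L13158 L18792 L26873
theorem L26886 : sm gd N2165 = N3109 := rfl
theorem L26888 : sm ga N3109 = N3109 := ded_12_1 (flp_d L26886) L18806 L26886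
theorem L26889 : sm gb N3109 = N3109 := ded_20_1 (flp_d L26886) L18807 L26886
theorem L26890 : sm gf N3109 = N3109 := ded_35_2 (flp_d L26886) L18811 L26886
theorem L26891 : sm gg N3109 = N2167 := ded_36_2 (flp_d L18828) (flp_g L18812) L26886
theorem L26893 : sm gj N3109 = N3109 := ded_37_2 (flp_d L26886) L18814 L26886
theorem L26894 : sm gd N2166 = N3110 := rfl
theorem L26896 : sm ga N3110 = N3110 := ded_12_1 (flp_d L26894) L18817 L26894
theorem L26897 : sm gb N3110 = N3110 := ded_20_1 (flp_d L26894) L18818 L26894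
theorem L26898 : sm gf N3110 = N2171 := ded_35_2 (flp_d L18860) (flp_f L18822) L26894
theorem L26900 : sm gj N3110 = N2168 := ded_37_2 (flp_d L18836) (flp_j L18824) L26894
theorem L26902 : sm gi N3110 = N2167 := ded_39_2 (flp_d L18828) (flp_i L18826) L26894
theorem L26904 : sm gh N3110 = N3110 := ded_38_2 (flp_d L26894) (flp_h L18815) L13187 L18815 L26894
theorem L26905 : sm gc N2167 = N3111 := rfl
theorem L26907 : sm ga N3111 = N3111 := ded_11_1 (flp_c L26905) L18830 L26905
theorem L26908 : sm gf N3111 = N2172 := ded_29_2 (flp_c L18870) (flp_f L18832) L26905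
theorem L26910 : sm gj N3111 = N2169 := ded_31_2 (flp_c L18846) (flp_j L18834) L26905
theorem L26912 : sm gd N3111 = N2251 := ded_27_2 (flp_c L19566) (flp_d L13695) (flp_c L13197) L18828 L26905
theorem L26914 : sm ge N2167 = N3112 := rfl
theorem L26916 : sm ga N3112 = N3112 := ded_13_1 (flp_e L26914) L18830 L26914
theorem L26917 : sm gb N3112 = N3112 := ded_21_1 (flp_e L26914) L18831 L26914
theorem L26918 : sm gj N3112 = N2170 := ded_42_2 (flp_e L18854) (flp_j L18834) L26914
theorem L26920 : sm gd N3112 = N3112 := ded_34_1 (flp_e L26914) (flp_d L18828) L13199 L18828 L26914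
theorem L26921 : sm gc N2168 = N3113 := rfl
theorem L26923 : sm ga N3113 = N3113 := ded_11_1 (flp_c L26921) L18838 L26921
theorem L26924 : sm gf N3113 = N2174 := ded_29_2 (flp_c L18887) (flp_f L18840) L26921
theorem L26926 : sm gg N3113 = N3113 := ded_30_2 (flp_c L26921) L18842 L26921
theorem L26927 : sm gh N3113 = N3113 := ded_32_2 (flp_c L26921) L18845 L26921
theorem L26928 : sm gi N3113 = N2169 := ded_33_2 (flp_c L18846) (flp_i L18843) L26921
theorem L26930 : sm gd N3113 = N2255 := ded_27_2 (flp_c L19605) (flp_d L13726) (flp_c L13208) L18836 L26921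
theorem L26932 : sm ge N2168 = N3114 := rfl
theorem L26934 : sm ga N3114 = N3114 := ded_13_1 (flp_e L26932) L18838 L26932
theorem L26935 : sm gb N3114 = N3114 := ded_21_1 (flp_e L26932) L18839 L26932
theorem L26936 : sm gg N3114 = N3114 := ded_41_2 (flp_e L26932) L18842 L26932
theorem L26937 : sm gh N3114 = N3114 := ded_43_2 (flp_e L26932) L18845 L26932
theorem L26938 : sm gi N3114 = N2170 := ded_44_2 (flp_e L18854) (flp_i L18843) L26932
theorem L26940 : sm gd N3114 = N3114 := ded_34_1 (flp_e L26932) (flp_d L18836) L13210 L18836 L26932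
theorem L26941 : sm gb N2169 = N3115 := rfl
theorem L26943 : sm gd N3115 = N2257 := ded_20_2 (flp_b L19622) (flp_d L18852) L26941
theorem L26945 : sm gf N3115 = N2176 := ded_22_2 (flp_b L18908) (flp_f L18849) L26941
theorem L26947 : sm gg N3115 = N3115 := ded_23_2 (flp_b L26941) L18851 L26941
theorem L26948 : sm gc N3115 = N3115 := ded_19_2 (flp_b L26941) (flp_c L18846) L13219 L18846 L26941
theorem L26949 : sm ge N2169 = N3116 := rfl
theorem L26951 : sm ga N3116 = N3116 := ded_13_1 (flp_e L26949) L18848 L26949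
theorem L26952 : sm gc N3116 = N2170 := ded_28_1 (flp_e L18854) L18846 L26949
theorem L26954 : sm gg N3116 = N3116 := ded_41_2 (flp_e L26949) L18851 L26949
theorem L26955 : sm gf N2170 = N3117 := rfl
theorem L26957 : sm ga N3117 = N3117 := ded_14_1 (flp_f L26955) L18856 L26955
theorem L26958 : sm gb N3117 = N3117 := ded_22_1 (flp_f L26955) L18857 L26955
theorem L26959 : sm gd N3117 = N3117 := ded_35_1 (flp_f L26955) L18859 L26955
theorem L26960 : sm ge N3117 = N2178 := ded_40_1 (flp_f L18922) (flp_e L13259) (flp_f L13220) L18854 L26955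
theorem L26962 : sm gc N2171 = N3118 := rfl
theorem L26964 : sm ga N3118 = N3118 := ded_11_1 (flp_c L26962) L18862 L26962
theorem L26965 : sm gg N3118 = N3118 := ded_30_2 (flp_c L26962) L18864 L26962
theorem L26966 : sm gj N3118 = N2174 := ded_31_2 (flp_c L18887) (flp_j L18865) L26962
theorem L26968 : sm gh N3118 = N3118 := ded_32_2 (flp_c L26962) L18869 L26962
theorem L26969 : sm gi N3118 = N2172 := ded_33_2 (flp_c L18870) (flp_i L18867) L26962
theorem L26971 : sm gd N3118 = N2261 := ded_27_2 (flp_c L19657) (flp_d L13762) (flp_c L13227) L18860 L26962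
theorem L26973 : sm ge N2171 = N3119 := rfl
theorem L26975 : sm ga N3119 = N3119 := ded_13_1 (flp_e L26973) L18862 L26973
theorem L26976 : sm gb N3119 = N3119 := ded_21_1 (flp_e L26973) L18863 L26973
theorem L26977 : sm gg N3119 = N3119 := ded_41_2 (flp_e L26973) L18864 L26973
theorem L26978 : sm gj N3119 = N2175 := ded_42_2 (flp_e L18897) (flp_j L18865) L26973
theorem L26980 : sm gh N3119 = N3119 := ded_43_2 (flp_e L26973) L18869 L26973
theorem L26981 : sm gi N3119 = N2173 := ded_44_2 (flp_e L18878) (flp_i L18867) L26973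
theorem L26983 : sm gd N3119 = N2189 := ded_34_1 (flp_e L19016) (flp_d L13319) (flp_e L13229) L18860 L26973
theorem L26985 : sm gb N2172 = N3120 := rfl
theorem L26987 : sm gd N3120 = N2263 := ded_20_2 (flp_b L19677) (flp_d L18876) L26985
theorem L26989 : sm gg N3120 = N3120 := ded_23_2 (flp_b L26985) L18873 L26985
theorem L26990 : sm gj N3120 = N2176 := ded_24_2 (flp_b L18908) (flp_j L18874) L26985
theorem L26992 : sm gc N3120 = N3120 := ded_19_2 (flp_b L26985) (flp_c L18870) L13239 L18870 L26985
theorem L26993 : sm ge N2172 = N3121 := rfl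
theorem L26995 : sm ga N3121 = N3121 := ded_13_1 (flp_e L26993) L18872 L26993
theorem L26996 : sm gc N3121 = N2173 := ded_28_1 (flp_e L18878) L18870 L26993
theorem L26998 : sm gg N3121 = N3121 := ded_41_2 (flp_e L26993) L18873 L26993
theorem L26999 : sm gj N3121 = N2177 := ded_42_2 (flp_e L18915) (flp_j L18874) L26993
theorem L27001 : sm gf N2173 = N3122 := rfl
theorem L27003 : sm ga N3122 = N3122 := ded_14_1 (flp_f L27001) L18880 L27001
theorem L27004 : sm gb N3122 = N3122 := ded_22_1 (flp_f L27001) L18881 L27001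
theorem L27005 : sm gd N3122 = N2192 := ded_35_1 (flp_f L19044) (flp_d L18885) L27001
theorem L27007 : sm gj N3122 = N2178 := ded_46_2 (flp_f L18922) (flp_j L18883) L27001
theorem L27009 : sm gb N2174 = N3123 := rfl
theorem L27011 : sm gd N3123 = N2268 := ded_20_2 (flp_b L19724) (flp_d L18895) L27009
theorem L27013 : sm gg N3123 = N2179 := ded_23_2 (flp_b L18928) (flp_g L18890) L27009
theorem L27015 : sm gh N3123 = N3123 := ded_25_2 (flp_b L27009) L18892 L27009
theorem L27016 : sm gi N3123 = N2176 := ded_26_2 (flp_b L18908) (flp_i L18893) L27009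
theorem L27018 : sm gc N3123 = N3123 := ded_19_2 (flp_b L27009) (flp_c L18887) L13246 L18887 L27009
theorem L27019 : sm ge N2174 = N3124 := rfl
theorem L27021 : sm ga N3124 = N3124 := ded_13_1 (flp_e L27019) L18889 L27019
theorem L27022 : sm gc N3124 = N2175 := ded_28_1 (flp_e L18897) L18887 L27019
theorem L27024 : sm gg N3124 = N2180 := ded_41_2 (flp_e L18938) (flp_g L18890) L27019
theorem L27026 : sm gh N3124 = N3124 := ded_43_2 (flp_e L27019) L18892 L27019
theorem L27027 : sm gi N3124 = N2177 := ded_44_2 (flp_e L18915) (flp_i L18893) L27019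
theorem L27029 : sm gf N2175 = N3125 := rfl
theorem L27031 : sm ga N3125 = N3125 := ded_14_1 (flp_f L27029) L18899 L27029
theorem L27032 : sm gb N3125 = N3125 := ded_22_1 (flp_f L27029) L18900 L27029
theorem L27033 : sm gd N3125 = N2197 := ded_35_1 (flp_f L19091) (flp_d L18906) L27029
theorem L27035 : sm gh N3125 = N3125 := ded_47_2 (flp_f L27029) L18903 L27029
theorem L27036 : sm gi N3125 = N2178 := ded_48_2 (flp_f L18922) (flp_i L18904) L27029
theorem L27038 : sm ga N2176 = N3126 := rfl
theorem L27040 : sm gc N3126 = N3126 := ded_11_2 (flp_a L27038) L18914 L27038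
theorem L27041 : sm gd N3126 = N2271 := ded_12_2 (flp_a L19750) (flp_d L18910) L27038
theorem L27043 : sm gg N3126 = N2182 := ded_15_2 (flp_a L18958) (flp_g L18912) L27038
theorem L27045 : sm gb N3126 = N3126 := ded_10_2 (flp_a L27038) (flp_b L18908) L13254 L18908 L27038
theorem L27046 : sm ge N2176 = N3127 := rfl
theorem L27048 : sm gb N3127 = N2177 := ded_21_1 (flp_e L18915) L18908 L27046
theorem L27050 : sm gc N3127 = N3127 := ded_28_1 (flp_e L27046) L18914 L27046
theorem L27051 : sm gg N3127 = N2183 := ded_41_2 (flp_e L18966) (flp_g L18912) L27046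
theorem L27053 : sm gd N2177 = N3128 := rfl
theorem L27055 : sm ga N3128 = N3128 := ded_12_1 (flp_d L27053) L18917 L27053
theorem L27056 : sm gg N3128 = N2184 := ded_36_2 (flp_d L18972) (flp_g L18920) L27053
theorem L27058 : sm gc N3128 = N2200 := ded_27_1 (flp_d L19116) L13387 (flp_d L13265) (flp_c L18918) L27053
theorem L27060 : sm ge N3128 = N2273 := ded_34_2 (flp_d L19767) (flp_e L13825) (flp_d L13257) L18915 L27053
theorem L27062 : sm gf N2177 = N3129 := rfl
theorem L27064 : sm ga N3129 = N3129 := ded_14_1 (flp_f L27062) L18917 L27062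
theorem L27065 : sm gc N3129 = N2178 := ded_29_1 (flp_f L18922) (flp_c L18918) L27062
theorem L27067 : sm gg N2178 = N3130 := rfl
theorem L27069 : sm ga N3130 = N3130 := ded_15_1 (flp_g L27067) L18924 L27067
theorem L27070 : sm gb N3130 = N3130 := ded_23_1 (flp_g L27067) L18925 L27067
theorem L27071 : sm gd N3130 = N2202 := ded_36_1 (flp_g L19130) (flp_d L18926) L27067
theorem L27073 : sm gf N3130 = N2186 := ded_45_1 (flp_g L18987) (flp_f L13300) (flp_g L13263) L18922 L27067
theorem L27075 : sm ga N2179 = N3131 := rfl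
theorem L27078 : sm gd N3131 = N2279 := ded_12_2 (flp_a L19820) (flp_d L18930) L27075
theorem L27083 : sm gi N3131 = N2182 := ded_18_2 (flp_a L18958) (flp_i L18935) L27075
theorem L27086 : sm ge N2179 = N3132 := rfl
theorem L27088 : sm gb N3132 = N2180 := ded_21_1 (flp_e L18938) L18928 L27086
theorem L27090 : sm gc N3132 = N3132 := ded_28_1 (flp_e L27086) L18937 L27086
theorem L27091 : sm gj N3132 = N3132 := ded_42_2 (flp_e L27086) L18933 L27086
theorem L27092 : sm gh N3132 = N3132 := ded_43_2 (flp_e L27086) L18934 L27086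
theorem L27093 : sm gi N3132 = N2183 := ded_44_2 (flp_e L18966) (flp_i L18935) L27086
theorem L27095 : sm gd N2180 = N3133 := rfl
theorem L27097 : sm ga N3133 = N3133 := ded_12_1 (flp_d L27095) L18940 L27095
theorem L27098 : sm gj N3133 = N3133 := ded_37_2 (flp_d L27095) L18943 L27095
theorem L27099 : sm gi N3133 = N2184 := ded_39_2 (flp_d L18972) (flp_i L18945) L27095
theorem L27101 : sm gc N3133 = N2208 := ded_27_1 (flp_d L19187) L13430 (flp_d L13285) (flp_c L18941) L27095
theorem L27103 : sm ge N3133 = N2281 := ded_34_2 (flp_d L19838) (flp_e L13868) (flp_d L13275) L18938 L27095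
theorem L27105 : sm gf N2180 = N3134 := rfl
theorem L27107 : sm ga N3134 = N3134 := ded_14_1 (flp_f L27105) L18940 L27105
theorem L27108 : sm gc N3134 = N2181 := ded_29_1 (flp_f L18947) (flp_c L18941) L27105
theorem L27110 : sm gj N3134 = N3134 := ded_46_2 (flp_f L27105) L18943 L27105
theorem L27111 : sm gh N3134 = N3134 := ded_47_2 (flp_f L27105) L18944 L27105
theorem L27112 : sm gi N3134 = N2185 := ded_48_2 (flp_f L18980) (flp_i L18945) L27105
theorem L27114 : sm ge N3134 = N3134 := ded_40_1 (flp_f L27105) (flp_e L18938) L13270 L18938 L27105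
theorem L27115 : sm gg N2181 = N3135 := rfl
theorem L27117 : sm ga N3135 = N3135 := ded_15_1 (flp_g L27115) L18949 L27115
theorem L27118 : sm gb N3135 = N3135 := ded_23_1 (flp_g L27115) L18950 L27115
theorem L27119 : sm gd N3135 = N2210 := ded_36_1 (flp_g L19205) (flp_d L18951) L27115
theorem L27121 : sm ge N3135 = N3135 := ded_41_1 (flp_g L27115) L18957 L27115
theorem L27122 : sm gh N3135 = N3135 := ded_50_2 (flp_g L27115) L18954 L27115
theorem L27123 : sm gi N3135 = N2186 := ded_51_2 (flp_g L18987) (flp_i L18955) L27115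
theorem L27125 : sm ge N2182 = N3136 := rfl
theorem L27127 : sm ga N3136 = N2183 := ded_13_1 (flp_e L18966) L18958 L27125
theorem L27129 : sm gb N3136 = N3136 := ded_21_1 (flp_e L27125) L18965 L27125
theorem L27130 : sm gc N3136 = N3136 := ded_28_1 (flp_e L27125) L18960 L27125
theorem L27131 : sm gj N3136 = N3136 := ded_42_2 (flp_e L27125) L18964 L27125
theorem L27132 : sm gd N2183 = N3137 := rfl
theorem L27134 : sm gb N3137 = N2184 := ded_20_1 (flp_d L18972) (flp_b L18968) L27132
theorem L27136 : sm gj N3137 = N3137 := ded_37_2 (flp_d L27132) L18971 L27132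
theorem L27137 : sm ge N3137 = N2285 := ded_34_2 (flp_d L19874) (flp_e L13895) (flp_d L13289) L18966 L27132
theorem L27139 : sm gf N2183 = N3138 := rfl
theorem L27141 : sm gb N3138 = N2185 := ded_22_1 (flp_f L18980) (flp_b L18968) L27139
theorem L27143 : sm gc N3138 = N3138 := ded_29_1 (flp_f L27139) L18970 L27139
theorem L27144 : sm gj N3138 = N3138 := ded_46_2 (flp_f L27139) L18971 L27139
theorem L27145 : sm ge N3138 = N3138 := ded_40_1 (flp_f L27139) (flp_e L18966) L13291 L18966 L27139
theorem L27146 : sm gf N2184 = N3139 := rfl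
theorem L27148 : sm ga N3139 = N3139 := ded_14_1 (flp_f L27146) L18974 L27146
theorem L27149 : sm gc N3139 = N2214 := ded_29_1 (flp_f L19237) (flp_c L18976) L27146
theorem L27151 : sm gd N3139 = N2185 := ded_35_1 (flp_f L18980) L18972 L27146
theorem L27153 : sm gj N3139 = N3139 := ded_46_2 (flp_f L27146) L18975 L27146
theorem L27154 : sm gh N2184 = N3140 := rfl
theorem L27156 : sm ga N3140 = N3140 := ded_17_1 (flp_h L27154) L18974 L27154
theorem L27157 : sm gc N3140 = N2215 := ded_32_1 (flp_h L19243) (flp_c L18976) L27154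
theorem L27159 : sm ge N3140 = N2288 := ded_43_1 (flp_h L19896) (flp_e L18978) L27154
theorem L27161 : sm gj N3140 = N3140 := ded_52_1 (flp_h L27154) L18975 L27154
theorem L27162 : sm gg N2185 = N3141 := rfl
theorem L27164 : sm ga N3141 = N3141 := ded_15_1 (flp_g L27162) L18982 L27162
theorem L27165 : sm gc N3141 = N2186 := ded_30_1 (flp_g L18987) (flp_c L18983) L27162
theorem L27167 : sm ge N3141 = N3141 := ded_41_1 (flp_g L27162) L18986 L27162
theorem L27168 : sm gj N2186 = N3142 := rfl
theorem L27170 : sm ga N3142 = N3142 := ded_16_1 (flp_j L27168) L18989 L27168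
theorem L27171 : sm gb N3142 = N3142 := ded_24_1 (flp_j L27168) L18990 L27168
theorem L27172 : sm gd N3142 = N2217 := ded_37_1 (flp_j L19258) (flp_d L18991) L27168
theorem L27174 : sm ge N3142 = N3142 := ded_42_1 (flp_j L27168) L18993 L27168
theorem L27175 : sm gg N3142 = N3142 := ded_49_1 (flp_j L27168) (flp_g L18987) L13306 L18987 L27168
theorem L27176 : sm gc N2187 = N3143 := rfl
theorem L27178 : sm ga N3143 = N3143 := ded_11_1 (flp_c L27176) L18996 L27176
theorem L27179 : sm gf N3143 = N3143 := ded_29_2 (flp_c L27176) L18998 L27176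
theorem L27180 : sm gg N3143 = N3143 := ded_30_2 (flp_c L27176) L18999 L27176
theorem L27181 : sm gj N3143 = N2193 := ded_31_2 (flp_c L19052) (flp_j L19000) L27176
theorem L27183 : sm gh N3143 = N2188 := ded_32_2 (flp_c L19005) (flp_h L19003) L27176
theorem L27185 : sm gi N3143 = N3143 := ded_33_2 (flp_c L27176) L19002 L27176
theorem L27186 : sm gd N3143 = N3143 := ded_27_2 (flp_c L27176) (flp_d L18994) L13312 L18994 L27176
theorem L27187 : sm ge N2187 = N3144 := rfl
theorem L27189 : sm ga N3144 = N3144 := ded_13_1 (flp_e L27187) L18996 L27187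
theorem L27190 : sm gb N3144 = N3144 := ded_21_1 (flp_e L27187) L18997 L27187
theorem L27191 : sm gg N3144 = N3144 := ded_41_2 (flp_e L27187) L18999 L27187
theorem L27192 : sm gj N3144 = N2194 := ded_42_2 (flp_e L19062) (flp_j L19000) L27187
theorem L27194 : sm gh N3144 = N2189 := ded_43_2 (flp_e L19016) (flp_h L19003) L27187
theorem L27196 : sm gi N3144 = N3144 := ded_44_2 (flp_e L27187) L19002 L27187
theorem L27197 : sm gd N3144 = N3144 := ded_34_1 (flp_e L27187) (flp_d L18994) L13313 L18994 L27187
theorem L27198 : sm gb N2188 = N3145 := rfl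
theorem L27200 : sm gd N3145 = N2291 := ded_20_2 (flp_b L19920) (flp_d L19014) L27198
theorem L27202 : sm gf N3145 = N3145 := ded_22_2 (flp_b L27198) L19008 L27198
theorem L27203 : sm gg N3145 = N3145 := ded_23_2 (flp_b L27198) L19009 L27198
theorem L27204 : sm gj N3145 = N2195 := ded_24_2 (flp_b L19072) (flp_j L19010) L27198
theorem L27206 : sm gi N3145 = N2190 := ded_26_2 (flp_b L19025) (flp_i L19012) L27198
theorem L27208 : sm gc N3145 = N3145 := ded_19_2 (flp_b L27198) (flp_c L19005) L13322 L19005 L27198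
theorem L27209 : sm ge N2188 = N3146 := rfl
theorem L27211 : sm ga N3146 = N3146 := ded_13_1 (flp_e L27209) L19007 L27209
theorem L27212 : sm gc N3146 = N2189 := ded_28_1 (flp_e L19016) L19005 L27209
theorem L27214 : sm gg N3146 = N3146 := ded_41_2 (flp_e L27209) L19009 L27209
theorem L27215 : sm gj N3146 = N2196 := ded_42_2 (flp_e L19082) (flp_j L19010) L27209
theorem L27217 : sm gi N3146 = N2191 := ded_44_2 (flp_e L19035) (flp_i L19012) L27209
theorem L27219 : sm gf N2189 = N3147 := rfl
theorem L27221 : sm ga N3147 = N3147 := ded_14_1 (flp_f L27219) L19018 L27219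
theorem L27222 : sm gb N3147 = N3147 := ded_22_1 (flp_f L27219) L19019 L27219
theorem L27223 : sm gj N3147 = N2197 := ded_46_2 (flp_f L19091) (flp_j L19021) L27219
theorem L27225 : sm gi N3147 = N2192 := ded_48_2 (flp_f L19044) (flp_i L19023) L27219
theorem L27227 : sm ge N3147 = N3147 := ded_40_1 (flp_f L27219) (flp_e L19016) L13323 L19016 L27219
theorem L27228 : sm ga N2190 = N3148 := rfl
theorem L27230 : sm gc N3148 = N3148 := ded_11_2 (flp_a L27228) L19034 L27228
theorem L27231 : sm gd N3148 = N2294 := ded_12_2 (flp_a L19953) (flp_d L19027) L27228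
theorem L27233 : sm gf N3148 = N3148 := ded_14_2 (flp_a L27228) L19029 L27228
theorem L27234 : sm gg N3148 = N3148 := ded_15_2 (flp_a L27228) L19030 L27228
theorem L27235 : sm gj N3148 = N2198 := ded_16_2 (flp_a L19098) (flp_j L19031) L27228
theorem L27237 : sm gh N3148 = N3148 := ded_17_2 (flp_a L27228) L19033 L27228
theorem L27238 : sm gb N3148 = N3148 := ded_10_2 (flp_a L27228) (flp_b L19025) L13331 L19025 L27228
theorem L27239 : sm ge N2190 = N3149 := rfl
theorem L27241 : sm gb N3149 = N2191 := ded_21_1 (flp_e L19035) L19025 L27239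
theorem L27243 : sm gc N3149 = N3149 := ded_28_1 (flp_e L27239) L19034 L27239
theorem L27244 : sm gg N3149 = N3149 := ded_41_2 (flp_e L27239) L19030 L27239
theorem L27245 : sm gj N3149 = N2199 := ded_42_2 (flp_e L19108) (flp_j L19031) L27239
theorem L27247 : sm gh N3149 = N3149 := ded_43_2 (flp_e L27239) L19033 L27239
theorem L27248 : sm gd N2191 = N3150 := rfl
theorem L27250 : sm ga N3150 = N3150 := ded_12_1 (flp_d L27248) L19037 L27248
theorem L27251 : sm gg N3150 = N3150 := ded_36_2 (flp_d L27248) L19040 L27248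
theorem L27252 : sm gj N3150 = N2200 := ded_37_2 (flp_d L19116) (flp_j L19041) L27248
theorem L27254 : sm ge N3150 = N2296 := ded_34_2 (flp_d L19975) (flp_e L13957) (flp_d L13337) L19035 L27248
theorem L27256 : sm gf N2191 = N3151 := rfl
theorem L27258 : sm ga N3151 = N3151 := ded_14_1 (flp_f L27256) L19037 L27256
theorem L27259 : sm gc N3151 = N2192 := ded_29_1 (flp_f L19044) (flp_c L19038) L27256
theorem L27261 : sm gj N3151 = N2201 := ded_46_2 (flp_f L19123) (flp_j L19041) L27256
theorem L27263 : sm gh N3151 = N3151 := ded_47_2 (flp_f L27256) L19043 L27256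
theorem L27264 : sm ge N3151 = N3151 := ded_40_1 (flp_f L27256) (flp_e L19035) L13332 L19035 L27256
theorem L27265 : sm gg N2192 = N3152 := rfl
theorem L27267 : sm ga N3152 = N3152 := ded_15_1 (flp_g L27265) L19046 L27265
theorem L27268 : sm gb N3152 = N3152 := ded_23_1 (flp_g L27265) L19047 L27265
theorem L27269 : sm ge N3152 = N3152 := ded_41_1 (flp_g L27265) L19051 L27265
theorem L27270 : sm gh N3152 = N3152 := ded_50_2 (flp_g L27265) L19050 L27265
theorem L27271 : sm gf N3152 = N3152 := ded_45_1 (flp_g L27265) (flp_f L19044) L13343 L19044 L27265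
theorem L27272 : sm gb N2193 = N3153 := rfl
theorem L27274 : sm gd N3153 = N3153 := ded_20_2 (flp_b L27272) L19061 L27272
theorem L27275 : sm gf N3153 = N3153 := ded_22_2 (flp_b L27272) L19055 L27272
theorem L27276 : sm gg N3153 = N2203 := ded_23_2 (flp_b L19138) (flp_g L19056) L27272
theorem L27278 : sm gh N3153 = N2195 := ded_25_2 (flp_b L19072) (flp_h L19058) L27272
theorem L27280 : sm gi N3153 = N3153 := ded_26_2 (flp_b L27272) L19060 L27272
theorem L27281 : sm gc N3153 = N3153 := ded_19_2 (flp_b L27272) (flp_c L19052) L13350 L19052 L27272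
theorem L27282 : sm ge N2193 = N3154 := rfl
theorem L27284 : sm ga N3154 = N3154 := ded_13_1 (flp_e L27282) L19054 L27282
theorem L27285 : sm gc N3154 = N2194 := ded_28_1 (flp_e L19062) L19052 L27282
theorem L27287 : sm gg N3154 = N2204 := ded_41_2 (flp_e L19148) (flp_g L19056) L27282
theorem L27289 : sm gh N3154 = N2196 := ded_43_2 (flp_e L19082) (flp_h L19058) L27282
theorem L27291 : sm gi N3154 = N3154 := ded_44_2 (flp_e L27282) L19060 L27282
theorem L27292 : sm gf N2194 = N3155 := rfl
theorem L27294 : sm ga N3155 = N3155 := ded_14_1 (flp_f L27292) L19064 L27292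
theorem L27295 : sm gb N3155 = N3155 := ded_22_1 (flp_f L27292) L19065 L27292
theorem L27296 : sm gd N3155 = N3155 := ded_35_1 (flp_f L27292) L19071 L27292
theorem L27297 : sm gh N3155 = N2197 := ded_47_2 (flp_f L19091) (flp_h L19068) L27292
theorem L27299 : sm gi N3155 = N3155 := ded_48_2 (flp_f L27292) L19070 L27292
theorem L27300 : sm ge N3155 = N3155 := ded_40_1 (flp_f L27292) (flp_e L19062) L13351 L19062 L27292
theorem L27301 : sm ga N2195 = N3156 := rfl
theorem L27303 : sm gc N3156 = N3156 := ded_11_2 (flp_a L27301) L19081 L27301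
theorem L27304 : sm gd N3156 = N2299 := ded_12_2 (flp_a L20000) (flp_d L19074) L27301
theorem L27306 : sm gf N3156 = N3156 := ded_14_2 (flp_a L27301) L19076 L27301
theorem L27307 : sm gg N3156 = N2206 := ded_15_2 (flp_a L19168) (flp_g L19077) L27301
theorem L27309 : sm gi N3156 = N2198 := ded_18_2 (flp_a L19098) (flp_i L19079) L27301
theorem L27311 : sm gb N3156 = N3156 := ded_10_2 (flp_a L27301) (flp_b L19072) L13359 L19072 L27301
theorem L27312 : sm ge N2195 = N3157 := rfl
theorem L27314 : sm gb N3157 = N2196 := ded_21_1 (flp_e L19082) L19072 L27312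
theorem L27316 : sm gc N3157 = N3157 := ded_28_1 (flp_e L27312) L19081 L27312
theorem L27317 : sm gg N3157 = N2207 := ded_41_2 (flp_e L19179) (flp_g L19077) L27312
theorem L27319 : sm gi N3157 = N2199 := ded_44_2 (flp_e L19108) (flp_i L19079) L27312
theorem L27321 : sm gd N2196 = N3158 := rfl
theorem L27323 : sm ga N3158 = N3158 := ded_12_1 (flp_d L27321) L19084 L27321
theorem L27324 : sm gg N3158 = N2208 := ded_36_2 (flp_d L19187) (flp_g L19087) L27321
theorem L27326 : sm gi N3158 = N2200 := ded_39_2 (flp_d L19116) (flp_i L19089) L27321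
theorem L27328 : sm ge N3158 = N2301 := ded_34_2 (flp_d L20022) (flp_e L13987) (flp_d L13365) L19082 L27321
theorem L27330 : sm gf N2196 = N3159 := rfl
theorem L27332 : sm ga N3159 = N3159 := ded_14_1 (flp_f L27330) L19084 L27330
theorem L27333 : sm gc N3159 = N2197 := ded_29_1 (flp_f L19091) (flp_c L19085) L27330
theorem L27335 : sm gi N3159 = N2201 := ded_48_2 (flp_f L19123) (flp_i L19089) L27330
theorem L27337 : sm ge N3159 = N3159 := ded_40_1 (flp_f L27330) (flp_e L19082) L13360 L19082 L27330
theorem L27338 : sm gg N2197 = N3160 := rfl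
theorem L27340 : sm ga N3160 = N3160 := ded_15_1 (flp_g L27338) L19093 L27338
theorem L27341 : sm gb N3160 = N3160 := ded_23_1 (flp_g L27338) L19094 L27338
theorem L27342 : sm ge N3160 = N3160 := ded_41_1 (flp_g L27338) L19097 L27338
theorem L27343 : sm gi N3160 = N2202 := ded_51_2 (flp_g L19130) (flp_i L19095) L27338
theorem L27345 : sm gf N3160 = N2210 := ded_45_1 (flp_g L19205) (flp_f L13435) (flp_g L13371) L19091 L27338
theorem L27347 : sm ge N2198 = N3161 := rfl
theorem L27349 : sm ga N3161 = N2199 := ded_13_1 (flp_e L19108) L19098 L27347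
theorem L27351 : sm gb N3161 = N3161 := ded_21_1 (flp_e L27347) L19107 L27347
theorem L27352 : sm gc N3161 = N3161 := ded_28_1 (flp_e L27347) L19100 L27347
theorem L27353 : sm gg N3161 = N2211 := ded_41_2 (flp_e L19213) (flp_g L19104) L27347
theorem L27355 : sm gh N3161 = N3161 := ded_43_2 (flp_e L27347) L19106 L27347
theorem L27356 : sm gd N2199 = N3162 := rfl
theorem L27358 : sm gb N3162 = N2200 := ded_20_1 (flp_d L19116) (flp_b L19110) L27356
theorem L27360 : sm gg N3162 = N2212 := ded_36_2 (flp_d L19221) (flp_g L19113) L27356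
theorem L27362 : sm ge N3162 = N2305 := ded_34_2 (flp_d L20060) (flp_e L14016) (flp_d L13377) L19108 L27356
theorem L27364 : sm gf N2199 = N3163 := rfl
theorem L27366 : sm gb N3163 = N2201 := ded_22_1 (flp_f L19123) (flp_b L19110) L27364
theorem L27368 : sm gc N3163 = N3163 := ded_29_1 (flp_f L27364) L19112 L27364
theorem L27369 : sm gh N3163 = N3163 := ded_47_2 (flp_f L27364) L19115 L27364
theorem L27370 : sm ge N3163 = N3163 := ded_40_1 (flp_f L27364) (flp_e L19108) L13379 L19108 L27364
theorem L27371 : sm gf N2200 = N3164 := rfl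
theorem L27373 : sm ga N3164 = N3164 := ded_14_1 (flp_f L27371) L19118 L27371
theorem L27374 : sm gd N3164 = N2201 := ded_35_1 (flp_f L19123) L19116 L27371
theorem L27376 : sm gh N2200 = N3165 := rfl
theorem L27378 : sm ga N3165 = N3165 := ded_17_1 (flp_h L27376) L19118 L27376
theorem L27379 : sm ge N3165 = N2308 := ded_43_1 (flp_h L20080) (flp_e L19121) L27376
theorem L27381 : sm gg N3165 = N2215 := ded_50_1 (flp_h L19243) (flp_g L19119) L27376
theorem L27383 : sm gd N3165 = N3165 := ded_38_1 (flp_h L27376) (flp_d L19116) L13391 L19116 L27376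
theorem L27384 : sm gg N2201 = N3166 := rfl
theorem L27386 : sm ga N3166 = N3166 := ded_15_1 (flp_g L27384) L19125 L27384
theorem L27387 : sm gc N3166 = N2202 := ded_30_1 (flp_g L19130) (flp_c L19126) L27384
theorem L27389 : sm ge N3166 = N3166 := ded_41_1 (flp_g L27384) L19129 L27384
theorem L27390 : sm gh N3166 = N3166 := ded_50_2 (flp_g L27384) L19128 L27384
theorem L27391 : sm gf N3166 = N2216 := ded_45_1 (flp_g L19250) (flp_f L13467) (flp_g L13389) L19123 L27384
theorem L27393 : sm gj N2202 = N3167 := rfl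
theorem L27395 : sm ga N3167 = N3167 := ded_16_1 (flp_j L27393) L19132 L27393
theorem L27396 : sm gb N3167 = N3167 := ded_24_1 (flp_j L27393) L19133 L27393
theorem L27397 : sm ge N3167 = N3167 := ded_42_1 (flp_j L27393) L19134 L27393
theorem L27398 : sm gf N3167 = N2217 := ded_46_1 (flp_j L19258) (flp_f L19136) L27393
theorem L27400 : sm gh N3167 = N3167 := ded_52_2 (flp_j L27393) L19135 L27393
theorem L27401 : sm ga N2203 = N3168 := rfl
theorem L27403 : sm gc N3168 = N3168 := ded_11_2 (flp_a L27401) L19147 L27401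
theorem L27404 : sm gd N3168 = N3168 := ded_12_2 (flp_a L27401) L19140 L27401
theorem L27405 : sm gf N3168 = N2221 := ded_14_2 (flp_a L19294) (flp_f L19141) L27401
theorem L27407 : sm gj N3168 = N3168 := ded_16_2 (flp_a L27401) L19143 L27401
theorem L27408 : sm gh N3168 = N2206 := ded_17_2 (flp_a L19168) (flp_h L19144) L27401
theorem L27410 : sm gi N3168 = N3168 := ded_18_2 (flp_a L27401) L19146 L27401
theorem L27411 : sm gb N3168 = N3168 := ded_10_2 (flp_a L27401) (flp_b L19138) L13400 L19138 L27401
theorem L27412 : sm ge N2203 = N3169 := rfl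
theorem L27414 : sm gb N3169 = N2204 := ded_21_1 (flp_e L19148) L19138 L27412
theorem L27416 : sm gc N3169 = N3169 := ded_28_1 (flp_e L27412) L19147 L27412
theorem L27417 : sm gj N3169 = N3169 := ded_42_2 (flp_e L27412) L19143 L27412
theorem L27418 : sm gh N3169 = N2207 := ded_43_2 (flp_e L19179) (flp_h L19144) L27412
theorem L27420 : sm gi N3169 = N3169 := ded_44_2 (flp_e L27412) L19146 L27412
theorem L27421 : sm gd N2204 = N3170 := rfl
theorem L27423 : sm ga N3170 = N3170 := ded_12_1 (flp_d L27421) L19150 L27421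
theorem L27424 : sm gj N3170 = N3170 := ded_37_2 (flp_d L27421) L19153 L27421
theorem L27425 : sm gi N3170 = N3170 := ded_39_2 (flp_d L27421) L19156 L27421
theorem L27426 : sm gc N3170 = N3170 := ded_27_1 (flp_d L27421) L19151 L13416 (flp_c L19151) L27421
theorem L27427 : sm ge N3170 = N3170 := ded_34_2 (flp_d L27421) (flp_e L19148) L13407 L19148 L27421
theorem L27428 : sm gf N2204 = N3171 := rfl
theorem L27430 : sm ga N3171 = N3171 := ded_14_1 (flp_f L27428) L19150 L27428
theorem L27431 : sm gc N3171 = N2205 := ded_29_1 (flp_f L19157) (flp_c L19151) L27428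
theorem L27433 : sm gj N3171 = N3171 := ded_46_2 (flp_f L27428) L19153 L27428
theorem L27434 : sm gh N3171 = N2209 := ded_47_2 (flp_f L19195) (flp_h L19154) L27428
theorem L27436 : sm gi N3171 = N3171 := ded_48_2 (flp_f L27428) L19156 L27428
theorem L27437 : sm ge N3171 = N2224 := ded_40_1 (flp_f L19321) (flp_e L13511) (flp_f L13401) L19148 L27428
theorem L27439 : sm gg N2205 = N3172 := rfl
theorem L27441 : sm ga N3172 = N3172 := ded_15_1 (flp_g L27439) L19159 L27439
theorem L27442 : sm gb N3172 = N3172 := ded_23_1 (flp_g L27439) L19160 L27439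
theorem L27443 : sm gd N3172 = N3172 := ded_36_1 (flp_g L27439) L19161 L27439
theorem L27444 : sm ge N3172 = N2225 := ded_41_1 (flp_g L19330) (flp_e L19166) L27439
theorem L27446 : sm gh N3172 = N2210 := ded_50_2 (flp_g L19205) (flp_h L19163) L27439
theorem L27448 : sm gi N3172 = N3172 := ded_51_2 (flp_g L27439) L19165 L27439
theorem L27449 : sm ge N2206 = N3173 := rfl
theorem L27451 : sm ga N3173 = N2207 := ded_13_1 (flp_e L19179) L19168 L27449
theorem L27453 : sm gb N3173 = N3173 := ded_21_1 (flp_e L27449) L19178 L27449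
theorem L27454 : sm gc N3173 = N3173 := ded_28_1 (flp_e L27449) L19170 L27449
theorem L27455 : sm gj N3173 = N3173 := ded_42_2 (flp_e L27449) L19175 L27449
theorem L27456 : sm gi N3173 = N2211 := ded_44_2 (flp_e L19213) (flp_i L19176) L27449
theorem L27458 : sm gd N2207 = N3174 := rfl
theorem L27460 : sm gb N3174 = N2208 := ded_20_1 (flp_d L19187) (flp_b L19181) L27458
theorem L27462 : sm gj N3174 = N3174 := ded_37_2 (flp_d L27458) L19184 L27458
theorem L27463 : sm gi N3174 = N2212 := ded_39_2 (flp_d L19221) (flp_i L19185) L27458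
theorem L27465 : sm ge N3174 = N2312 := ded_34_2 (flp_d L20118) (flp_e L14060) (flp_d L13419) L19179 L27458
theorem L27467 : sm gf N2207 = N3175 := rfl
theorem L27469 : sm gb N3175 = N2209 := ded_22_1 (flp_f L19195) (flp_b L19181) L27467
theorem L27471 : sm gc N3175 = N3175 := ded_29_1 (flp_f L27467) L19183 L27467
theorem L27472 : sm gj N3175 = N3175 := ded_46_2 (flp_f L27467) L19184 L27467
theorem L27473 : sm gi N3175 = N2213 := ded_48_2 (flp_f L19228) (flp_i L19185) L27467
theorem L27475 : sm ge N3175 = N2228 := ded_40_1 (flp_f L19358) (flp_e L13539) (flp_f L13421) L19179 L27467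
theorem L27477 : sm gf N2208 = N3176 := rfl
theorem L27479 : sm ga N3176 = N3176 := ded_14_1 (flp_f L27477) L19189 L27477
theorem L27480 : sm gd N3176 = N2209 := ded_35_1 (flp_f L19195) L19187 L27477
theorem L27482 : sm gj N3176 = N3176 := ded_46_2 (flp_f L27477) L19190 L27477
theorem L27483 : sm gi N3176 = N2214 := ded_48_2 (flp_f L19237) (flp_i L19191) L27477
theorem L27485 : sm gh N2208 = N3177 := rfl
theorem L27487 : sm ga N3177 = N3177 := ded_17_1 (flp_h L27485) L19189 L27485
theorem L27488 : sm ge N3177 = N2315 := ded_43_1 (flp_h L20145) (flp_e L19193) L27485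
theorem L27490 : sm gj N3177 = N3177 := ded_52_1 (flp_h L27485) L19190 L27485
theorem L27491 : sm gg N2209 = N3178 := rfl
theorem L27493 : sm ga N3178 = N3178 := ded_15_1 (flp_g L27491) L19197 L27491
theorem L27494 : sm gc N3178 = N2210 := ded_30_1 (flp_g L19205) (flp_c L19198) L27491
theorem L27496 : sm ge N3178 = N2231 := ded_41_1 (flp_g L19383) (flp_e L19203) L27491
theorem L27498 : sm gi N3178 = N2216 := ded_51_2 (flp_g L19250) (flp_i L19201) L27491
theorem L27500 : sm gj N2210 = N3179 := rfl
theorem L27502 : sm ga N3179 = N3179 := ded_16_1 (flp_j L27500) L19207 L27500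
theorem L27503 : sm gb N3179 = N3179 := ded_24_1 (flp_j L27500) L19208 L27500
theorem L27504 : sm ge N3179 = N2232 := ded_42_1 (flp_j L19391) (flp_e L19209) L27500
theorem L27506 : sm gi N3179 = N2217 := ded_53_2 (flp_j L19258) (flp_i L19211) L27500
theorem L27508 : sm gg N3179 = N3179 := ded_49_1 (flp_j L27500) (flp_g L19205) L13439 L19205 L27500
theorem L27509 : sm gd N2211 = N3180 := rfl
theorem L27511 : sm ga N3180 = N2212 := ded_12_1 (flp_d L19221) (flp_a L19215) L27509
theorem L27513 : sm gb N3180 = N3180 := ded_20_1 (flp_d L27509) L19217 L27509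
theorem L27514 : sm gj N3180 = N3180 := ded_37_2 (flp_d L27509) L19219 L27509
theorem L27515 : sm ge N3180 = N2318 := ded_34_2 (flp_d L20171) (flp_e L14097) (flp_d L13447) L19213 L27509
theorem L27517 : sm gf N2211 = N3181 := rfl
theorem L27519 : sm ga N3181 = N2213 := ded_14_1 (flp_f L19228) (flp_a L19215) L27517
theorem L27521 : sm gb N3181 = N3181 := ded_22_1 (flp_f L27517) L19217 L27517
theorem L27522 : sm gc N3181 = N3181 := ded_29_1 (flp_f L27517) L19218 L27517
theorem L27523 : sm gj N3181 = N3181 := ded_46_2 (flp_f L27517) L19219 L27517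
theorem L27524 : sm gh N3181 = N3181 := ded_47_2 (flp_f L27517) L19220 L27517
theorem L27525 : sm ge N3181 = N2234 := ded_40_1 (flp_f L19409) (flp_e L13574) (flp_f L13449) L19213 L27517
theorem L27527 : sm gc N2212 = N3182 := rfl
theorem L27529 : sm ge N3182 = N2320 := ded_28_2 (flp_c L20189) (flp_e L19226) L27527
theorem L27531 : sm gj N3182 = N3182 := ded_31_2 (flp_c L27527) L19225 L27527
theorem L27532 : sm gd N3182 = N3182 := ded_27_2 (flp_c L27527) (flp_d L19221) L13458 L19221 L27527
theorem L27533 : sm gf N2212 = N3183 := rfl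
theorem L27535 : sm gb N3183 = N2214 := ded_22_1 (flp_f L19237) (flp_b L19223) L27533
theorem L27537 : sm gd N3183 = N2213 := ded_35_1 (flp_f L19228) L19221 L27533
theorem L27539 : sm gj N3183 = N3183 := ded_46_2 (flp_f L27533) L19225 L27533
theorem L27540 : sm gh N2212 = N3184 := rfl
theorem L27542 : sm gb N3184 = N2215 := ded_25_1 (flp_h L19243) (flp_b L19223) L27540
theorem L27544 : sm ge N3184 = N2322 := ded_43_1 (flp_h L20201) (flp_e L19226) L27540
theorem L27546 : sm gj N3184 = N3184 := ded_52_1 (flp_h L27540) L19225 L27540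
theorem L27547 : sm gd N3184 = N3184 := ded_38_1 (flp_h L27540) (flp_d L19221) L13460 L19221 L27540
theorem L27548 : sm gg N2213 = N3185 := rfl
theorem L27550 : sm gb N3185 = N2216 := ded_23_1 (flp_g L19250) (flp_b L19230) L27548
theorem L27552 : sm gc N3185 = N3185 := ded_30_1 (flp_g L27548) L19232 L27548
theorem L27553 : sm ge N3185 = N2238 := ded_41_1 (flp_g L19441) (flp_e L19235) L27548
theorem L27555 : sm gh N3185 = N3185 := ded_50_2 (flp_g L27548) L19234 L27548
theorem L27556 : sm ge N2214 = N3186 := rfl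
theorem L27558 : sm ga N3186 = N3186 := ded_13_1 (flp_e L27556) L19239 L27556
theorem L27559 : sm gj N3186 = N3186 := ded_42_2 (flp_e L27556) L19242 L27556
theorem L27560 : sm gd N3186 = N2239 := ded_34_1 (flp_e L19448) L13602 (flp_e L13474) (flp_d L19240) L27556
theorem L27562 : sm gf N3186 = N2324 := ded_40_2 (flp_e L20218) (flp_f L14123) (flp_e L13465) L19237 L27556
theorem L27564 : sm gg N2214 = N3187 := rfl
theorem L27566 : sm ga N3187 = N3187 := ded_15_1 (flp_g L27564) L19239 L27564
theorem L27567 : sm gd N3187 = N2216 := ded_36_1 (flp_g L19250) (flp_d L19240) L27564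
theorem L27569 : sm gh N2214 = N3188 := rfl
theorem L27571 : sm ga N3188 = N3188 := ded_17_1 (flp_h L27569) L19239 L27569
theorem L27572 : sm gf N3188 = N2215 := ded_47_1 (flp_h L19243) L19237 L27569
theorem L27574 : sm gj N3188 = N3188 := ded_52_1 (flp_h L27569) L19242 L27569
theorem L27575 : sm gd N3188 = N3188 := ded_38_1 (flp_h L27569) L19240 L13473 (flp_d L19240) L27569
theorem L27576 : sm gi N2215 = N3189 := rfl
theorem L27578 : sm ga N3189 = N3189 := ded_18_1 (flp_i L27576) L19245 L27576
theorem L27579 : sm gd N3189 = N3189 := ded_39_1 (flp_i L27576) L19249 L27576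
theorem L27580 : sm ge N3189 = N2327 := ded_44_1 (flp_i L20237) (flp_e L19246) L27576
theorem L27582 : sm gj N3189 = N3189 := ded_53_1 (flp_i L27576) L19248 L27576
theorem L27583 : sm gj N2216 = N3190 := rfl
theorem L27585 : sm ga N3190 = N3190 := ded_16_1 (flp_j L27583) L19252 L27583
theorem L27586 : sm gc N3190 = N2217 := ded_31_1 (flp_j L19258) (flp_c L19253) L27583
theorem L27588 : sm ge N3190 = N2243 := ded_42_1 (flp_j L19479) (flp_e L19255) L27583
theorem L27590 : sm gh N3190 = N3190 := ded_52_2 (flp_j L27583) L19257 L27583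
theorem L27591 : sm gg N3190 = N3190 := ded_49_1 (flp_j L27583) (flp_g L19250) L13472 L19250 L27583
theorem L27592 : sm ga N2218 = N3191 := rfl
theorem L27594 : sm gc N3191 = N3191 := ded_11_2 (flp_a L27592) L19274 L27592
theorem L27595 : sm gd N3191 = N3191 := ded_12_2 (flp_a L27592) L19268 L27592
theorem L27596 : sm gf N3191 = N3191 := ded_14_2 (flp_a L27592) L19269 L27592
theorem L27597 : sm gg N3191 = N3191 := ded_15_2 (flp_a L27592) L19270 L27592
theorem L27598 : sm gj N3191 = N3191 := ded_16_2 (flp_a L27592) L19271 L27592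
theorem L27599 : sm gh N3191 = N3191 := ded_17_2 (flp_a L27592) L19272 L27592
theorem L27600 : sm gi N3191 = N3191 := ded_18_2 (flp_a L27592) L19273 L27592
theorem L27601 : sm gb N3191 = N3191 := ded_10_2 (flp_a L27592) (flp_b L19266) L13485 L19266 L27592
theorem L27602 : sm ge N2218 = N3192 := rfl
theorem L27604 : sm gb N3192 = N2219 := ded_21_1 (flp_e L19275) L19266 L27602
theorem L27606 : sm gc N3192 = N3192 := ded_28_1 (flp_e L27602) L19274 L27602
theorem L27607 : sm gg N3192 = N3192 := ded_41_2 (flp_e L27602) L19270 L27602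
theorem L27608 : sm gj N3192 = N3192 := ded_42_2 (flp_e L27602) L19271 L27602
theorem L27609 : sm gh N3192 = N3192 := ded_43_2 (flp_e L27602) L19272 L27602
theorem L27610 : sm gi N3192 = N3192 := ded_44_2 (flp_e L27602) L19273 L27602
theorem L27611 : sm gd N2219 = N3193 := rfl
theorem L27613 : sm ga N3193 = N3193 := ded_12_1 (flp_d L27611) L19277 L27611
theorem L27614 : sm gg N3193 = N3193 := ded_36_2 (flp_d L27611) L19280 L27611
theorem L27615 : sm gj N3193 = N3193 := ded_37_2 (flp_d L27611) L19281 L27611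
theorem L27616 : sm gi N3193 = N3193 := ded_39_2 (flp_d L27611) L19283 L27611
theorem L27617 : sm gc N3193 = N2223 := ded_27_1 (flp_d L19314) L13514 (flp_d L13500) (flp_c L19278) L27611
theorem L27619 : sm ge N3193 = N3193 := ded_34_2 (flp_d L27611) (flp_e L19275) L13491 L19275 L27611
theorem L27620 : sm gf N2219 = N3194 := rfl
theorem L27622 : sm ga N3194 = N3194 := ded_14_1 (flp_f L27620) L19277 L27620
theorem L27623 : sm gc N3194 = N2220 := ded_29_1 (flp_f L19284) (flp_c L19278) L27620
theorem L27625 : sm gj N3194 = N3194 := ded_46_2 (flp_f L27620) L19281 L27620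
theorem L27626 : sm gh N3194 = N3194 := ded_47_2 (flp_f L27620) L19282 L27620
theorem L27627 : sm gi N3194 = N3194 := ded_48_2 (flp_f L27620) L19283 L27620
theorem L27628 : sm ge N3194 = N3194 := ded_40_1 (flp_f L27620) (flp_e L19275) L13486 L19275 L27620
theorem L27629 : sm gg N2220 = N3195 := rfl
theorem L27631 : sm ga N3195 = N3195 := ded_15_1 (flp_g L27629) L19286 L27629
theorem L27632 : sm gb N3195 = N3195 := ded_23_1 (flp_g L27629) L19287 L27629
theorem L27633 : sm gd N3195 = N2225 := ded_36_1 (flp_g L19330) (flp_d L19288) L27629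
theorem L27635 : sm ge N3195 = N3195 := ded_41_1 (flp_g L27629) L19293 L27629
theorem L27636 : sm gh N3195 = N3195 := ded_50_2 (flp_g L27629) L19291 L27629
theorem L27637 : sm gi N3195 = N3195 := ded_51_2 (flp_g L27629) L19292 L27629
theorem L27638 : sm gf N3195 = N3195 := ded_45_1 (flp_g L27629) (flp_f L19284) L13496 L19284 L27629
theorem L27639 : sm ge N2221 = N3196 := rfl
theorem L27641 : sm ga N3196 = N2222 := ded_13_1 (flp_e L19304) L19294 L27639
theorem L27643 : sm gb N3196 = N3196 := ded_21_1 (flp_e L27639) L19303 L27639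
theorem L27644 : sm gc N3196 = N3196 := ded_28_1 (flp_e L27639) L19296 L27639
theorem L27645 : sm gg N3196 = N3196 := ded_41_2 (flp_e L27639) L19298 L27639
theorem L27646 : sm gj N3196 = N3196 := ded_42_2 (flp_e L27639) L19299 L27639
theorem L27647 : sm gh N3196 = N2226 := ded_43_2 (flp_e L19338) (flp_h L19300) L27639
theorem L27649 : sm gi N3196 = N3196 := ded_44_2 (flp_e L27639) L19302 L27639
theorem L27650 : sm gd N2222 = N3197 := rfl
theorem L27652 : sm gb N3197 = N2223 := ded_20_1 (flp_d L19314) (flp_b L19306) L27650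
theorem L27654 : sm gg N3197 = N3197 := ded_36_2 (flp_d L27650) L19309 L27650
theorem L27655 : sm gj N3197 = N3197 := ded_37_2 (flp_d L27650) L19310 L27650
theorem L27656 : sm gi N3197 = N3197 := ded_39_2 (flp_d L27650) L19313 L27650
theorem L27657 : sm ge N3197 = N3197 := ded_34_2 (flp_d L27650) (flp_e L19304) L13504 L19304 L27650
theorem L27658 : sm gf N2222 = N3198 := rfl
theorem L27660 : sm gb N3198 = N2224 := ded_22_1 (flp_f L19321) (flp_b L19306) L27658
theorem L27662 : sm gc N3198 = N3198 := ded_29_1 (flp_f L27658) L19308 L27658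
theorem L27663 : sm gj N3198 = N3198 := ded_46_2 (flp_f L27658) L19310 L27658
theorem L27664 : sm gh N3198 = N2228 := ded_47_2 (flp_f L19358) (flp_h L19311) L27658
theorem L27666 : sm gi N3198 = N3198 := ded_48_2 (flp_f L27658) L19313 L27658
theorem L27667 : sm gf N2223 = N3199 := rfl
theorem L27669 : sm ga N3199 = N3199 := ded_14_1 (flp_f L27667) L19316 L27667
theorem L27670 : sm gd N3199 = N2224 := ded_35_1 (flp_f L19321) L19314 L27667
theorem L27672 : sm gj N3199 = N3199 := ded_46_2 (flp_f L27667) L19318 L27667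
theorem L27673 : sm gi N3199 = N3199 := ded_48_2 (flp_f L27667) L19319 L27667
theorem L27674 : sm gh N2223 = N3200 := rfl
theorem L27676 : sm ga N3200 = N3200 := ded_17_1 (flp_h L27674) L19316 L27674
theorem L27677 : sm ge N3200 = N3200 := ded_43_1 (flp_h L27674) L19320 L27674
theorem L27678 : sm gg N3200 = N3200 := ded_50_1 (flp_h L27674) L19317 L27674
theorem L27679 : sm gj N3200 = N3200 := ded_52_1 (flp_h L27674) L19318 L27674
theorem L27680 : sm gd N3200 = N2230 := ded_38_1 (flp_h L19375) (flp_d L13548) (flp_h L13518) L19314 L27674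
theorem L27682 : sm gg N2224 = N3201 := rfl
theorem L27684 : sm ga N3201 = N3201 := ded_15_1 (flp_g L27682) L19323 L27682
theorem L27685 : sm gc N3201 = N2225 := ded_30_1 (flp_g L19330) (flp_c L19324) L27682
theorem L27687 : sm gh N3201 = N2231 := ded_50_2 (flp_g L19383) (flp_h L19327) L27682
theorem L27689 : sm gi N3201 = N3201 := ded_51_2 (flp_g L27682) L19329 L27682
theorem L27690 : sm gf N3201 = N3201 := ded_45_1 (flp_g L27682) (flp_f L19321) L13516 L19321 L27682
theorem L27691 : sm gj N2225 = N3202 := rfl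
theorem L27693 : sm ga N3202 = N3202 := ded_16_1 (flp_j L27691) L19332 L27691
theorem L27694 : sm gb N3202 = N3202 := ded_24_1 (flp_j L27691) L19333 L27691
theorem L27695 : sm gf N3202 = N3202 := ded_46_1 (flp_j L27691) L19337 L27691
theorem L27696 : sm gh N3202 = N2232 := ded_52_2 (flp_j L19391) (flp_h L19334) L27691
theorem L27698 : sm gi N3202 = N3202 := ded_53_2 (flp_j L27691) L19336 L27691
theorem L27699 : sm gg N3202 = N3202 := ded_49_1 (flp_j L27691) (flp_g L19330) L13525 L19330 L27691
theorem L27700 : sm gd N2226 = N3203 := rfl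
theorem L27702 : sm ga N3203 = N2227 := ded_12_1 (flp_d L19348) (flp_a L19340) L27700
theorem L27704 : sm gb N3203 = N3203 := ded_20_1 (flp_d L27700) L19342 L27700
theorem L27705 : sm gg N3203 = N3203 := ded_36_2 (flp_d L27700) L19344 L27700
theorem L27706 : sm gj N3203 = N3203 := ded_37_2 (flp_d L27700) L19345 L27700
theorem L27707 : sm gi N3203 = N2233 := ded_39_2 (flp_d L19400) (flp_i L19346) L27700
theorem L27709 : sm ge N3203 = N2329 := ded_34_2 (flp_d L20253) (flp_e L14154) (flp_d L13532) L19338 L27700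
theorem L27711 : sm gf N2226 = N3204 := rfl
theorem L27713 : sm ga N3204 = N2228 := ded_14_1 (flp_f L19358) (flp_a L19340) L27711
theorem L27715 : sm gb N3204 = N3204 := ded_22_1 (flp_f L27711) L19342 L27711
theorem L27716 : sm gc N3204 = N3204 := ded_29_1 (flp_f L27711) L19343 L27711
theorem L27717 : sm gj N3204 = N3204 := ded_46_2 (flp_f L27711) L19345 L27711
theorem L27718 : sm gi N3204 = N2234 := ded_48_2 (flp_f L19409) (flp_i L19346) L27711
theorem L27720 : sm gc N2227 = N3205 := rfl
theorem L27722 : sm ge N3205 = N2331 := ded_28_2 (flp_c L20273) (flp_e L19356) L27720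
theorem L27724 : sm gg N3205 = N3205 := ded_30_2 (flp_c L27720) L19352 L27720
theorem L27725 : sm gj N3205 = N3205 := ded_31_2 (flp_c L27720) L19353 L27720
theorem L27726 : sm gi N3205 = N2235 := ded_33_2 (flp_c L19417) (flp_i L19354) L27720
theorem L27728 : sm gb N3205 = N3205 := ded_19_1 (flp_c L27720) L19350 L13555 (flp_b L19350) L27720
theorem L27729 : sm gd N3205 = N3205 := ded_27_2 (flp_c L27720) (flp_d L19348) L13543 L19348 L27720
theorem L27730 : sm gf N2227 = N3206 := rfl
theorem L27732 : sm gb N3206 = N2229 := ded_22_1 (flp_f L19366) (flp_b L19350) L27730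
theorem L27734 : sm gd N3206 = N2228 := ded_35_1 (flp_f L19358) L19348 L27730
theorem L27736 : sm gj N3206 = N3206 := ded_46_2 (flp_f L27730) L19353 L27730
theorem L27737 : sm gi N3206 = N2236 := ded_48_2 (flp_f L19425) (flp_i L19354) L27730
theorem L27739 : sm gh N2227 = N3207 := rfl
theorem L27741 : sm gb N3207 = N2230 := ded_25_1 (flp_h L19375) (flp_b L19350) L27739
theorem L27743 : sm ge N3207 = N2333 := ded_43_1 (flp_h L20291) (flp_e L19356) L27739
theorem L27745 : sm gg N3207 = N3207 := ded_50_1 (flp_h L27739) L19352 L27739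
theorem L27746 : sm gj N3207 = N3207 := ded_52_1 (flp_h L27739) L19353 L27739
theorem L27747 : sm gg N2228 = N3208 := rfl
theorem L27749 : sm gb N3208 = N2231 := ded_23_1 (flp_g L19383) (flp_b L19360) L27747
theorem L27751 : sm gc N3208 = N3208 := ded_30_1 (flp_g L27747) L19362 L27747
theorem L27752 : sm gi N3208 = N2238 := ded_51_2 (flp_g L19441) (flp_i L19364) L27747
theorem L27754 : sm gf N3208 = N3208 := ded_45_1 (flp_g L27747) (flp_f L19358) L13544 L19358 L27747
theorem L27755 : sm ge N2229 = N3209 := rfl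
theorem L27757 : sm ga N3209 = N3209 := ded_13_1 (flp_e L27755) L19368 L27755
theorem L27758 : sm gc N3209 = N3209 := ded_28_1 (flp_e L27755) L19369 L27755
theorem L27759 : sm gj N3209 = N3209 := ded_42_2 (flp_e L27755) L19372 L27755
theorem L27760 : sm gi N3209 = N2239 := ded_44_2 (flp_e L19448) (flp_i L19373) L27755
theorem L27762 : sm gf N3209 = N2335 := ded_40_2 (flp_e L20308) (flp_f L14184) (flp_e L13556) L19366 L27755
theorem L27764 : sm gg N2229 = N3210 := rfl
theorem L27766 : sm ga N3210 = N3210 := ded_15_1 (flp_g L27764) L19368 L27764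
theorem L27767 : sm gc N3210 = N3210 := ded_30_1 (flp_g L27764) L19369 L27764
theorem L27768 : sm gd N3210 = N2231 := ded_36_1 (flp_g L19383) (flp_d L19370) L27764
theorem L27770 : sm gi N3210 = N2240 := ded_51_2 (flp_g L19455) (flp_i L19373) L27764
theorem L27772 : sm gf N3210 = N3210 := ded_45_1 (flp_g L27764) (flp_f L19366) L13551 L19366 L27764
theorem L27773 : sm gh N2229 = N3211 := rfl
theorem L27775 : sm ga N3211 = N3211 := ded_17_1 (flp_h L27773) L19368 L27773
theorem L27776 : sm gc N3211 = N3211 := ded_32_1 (flp_h L27773) L19369 L27773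
theorem L27777 : sm gf N3211 = N2230 := ded_47_1 (flp_h L19375) L19366 L27773
theorem L27779 : sm gj N3211 = N3211 := ded_52_1 (flp_h L27773) L19372 L27773
theorem L27780 : sm gi N2230 = N3212 := rfl
theorem L27782 : sm ga N3212 = N3212 := ded_18_1 (flp_i L27780) L19377 L27780
theorem L27783 : sm gc N3212 = N3212 := ded_33_1 (flp_i L27780) L19378 L27780
theorem L27784 : sm ge N3212 = N2338 := ded_44_1 (flp_i L20332) (flp_e L19379) L27780
theorem L27786 : sm gg N3212 = N3212 := ded_51_1 (flp_i L27780) L19381 L27780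
theorem L27787 : sm gj N3212 = N3212 := ded_53_1 (flp_i L27780) L19382 L27780
theorem L27788 : sm gh N3212 = N2242 := ded_54_1 (flp_i L19470) (flp_h L13605) (flp_i L13553) L19375 L27780
theorem L27790 : sm gj N2231 = N3213 := rfl
theorem L27792 : sm ga N3213 = N3213 := ded_16_1 (flp_j L27790) L19385 L27790
theorem L27793 : sm gc N3213 = N2232 := ded_31_1 (flp_j L19391) (flp_c L19386) L27790
theorem L27795 : sm gf N3213 = N3213 := ded_46_1 (flp_j L27790) L19390 L27790
theorem L27796 : sm gi N3213 = N2243 := ded_53_2 (flp_j L19479) (flp_i L19388) L27790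
theorem L27798 : sm gg N3213 = N3213 := ded_49_1 (flp_j L27790) (flp_g L19383) L13563 L19383 L27790
theorem L27799 : sm gc N2233 = N3214 := rfl
theorem L27801 : sm ga N3214 = N2235 := ded_11_1 (flp_c L19417) (flp_a L19402) L27799
theorem L27803 : sm ge N3214 = N2340 := ded_28_2 (flp_c L20351) (flp_e L19407) L27799
theorem L27805 : sm gg N3214 = N3214 := ded_30_2 (flp_c L27799) L19405 L27799
theorem L27806 : sm gj N3214 = N3214 := ded_31_2 (flp_c L27799) L19406 L27799
theorem L27807 : sm gd N3214 = N3214 := ded_27_2 (flp_c L27799) (flp_d L19400) L13579 L19400 L27799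
theorem L27808 : sm gf N2233 = N3215 := rfl
theorem L27810 : sm ga N3215 = N2236 := ded_14_1 (flp_f L19425) (flp_a L19402) L27808
theorem L27812 : sm gb N3215 = N3215 := ded_22_1 (flp_f L27808) L19404 L27808
theorem L27813 : sm gd N3215 = N2234 := ded_35_1 (flp_f L19409) L19400 L27808
theorem L27815 : sm gj N3215 = N3215 := ded_46_2 (flp_f L27808) L19406 L27808
theorem L27816 : sm gh N2233 = N3216 := rfl
theorem L27818 : sm ga N3216 = N2237 := ded_17_1 (flp_h L19432) (flp_a L19402) L27816
theorem L27820 : sm gb N3216 = N3216 := ded_25_1 (flp_h L27816) L19404 L27816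
theorem L27821 : sm ge N3216 = N2342 := ded_43_1 (flp_h L20367) (flp_e L19407) L27816
theorem L27823 : sm gg N3216 = N3216 := ded_50_1 (flp_h L27816) L19405 L27816
theorem L27824 : sm gj N3216 = N3216 := ded_52_1 (flp_h L27816) L19406 L27816
theorem L27825 : sm gd N3216 = N3216 := ded_38_1 (flp_h L27816) (flp_d L19400) L13582 L19400 L27816
theorem L27826 : sm gg N2234 = N3217 := rfl
theorem L27828 : sm ga N3217 = N2238 := ded_15_1 (flp_g L19441) (flp_a L19411) L27826
theorem L27830 : sm gb N3217 = N3217 := ded_23_1 (flp_g L27826) L19413 L27826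
theorem L27831 : sm gc N3217 = N3217 := ded_30_1 (flp_g L27826) L19414 L27826
theorem L27832 : sm gh N3217 = N3217 := ded_50_2 (flp_g L27826) L19416 L27826
theorem L27833 : sm gf N3217 = N3217 := ded_45_1 (flp_g L27826) (flp_f L19409) L13580 L19409 L27826
theorem L27834 : sm gf N2235 = N3218 := rfl
theorem L27836 : sm gb N3218 = N3218 := ded_22_1 (flp_f L27834) L19423 L27834
theorem L27837 : sm gc N3218 = N2236 := ded_29_1 (flp_f L19425) L19417 L27834
theorem L27839 : sm gd N3218 = N3218 := ded_35_1 (flp_f L27834) L19424 L27834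
theorem L27840 : sm gj N3218 = N3218 := ded_46_2 (flp_f L27834) L19422 L27834
theorem L27841 : sm gh N2235 = N3219 := rfl
theorem L27843 : sm gb N3219 = N3219 := ded_25_1 (flp_h L27841) L19423 L27841
theorem L27844 : sm gc N3219 = N2237 := ded_32_1 (flp_h L19432) L19417 L27841
theorem L27846 : sm ge N3219 = N2345 := ded_43_1 (flp_h L20394) (flp_e L19419) L27841
theorem L27848 : sm gg N3219 = N3219 := ded_50_1 (flp_h L27841) L19421 L27841
theorem L27849 : sm gj N3219 = N3219 := ded_52_1 (flp_h L27841) L19422 L27841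
theorem L27850 : sm ge N2236 = N3220 := rfl
theorem L27852 : sm gb N3220 = N2239 := ded_21_1 (flp_e L19448) (flp_b L19427) L27850
theorem L27854 : sm gj N3220 = N3220 := ded_42_2 (flp_e L27850) L19431 L27850
theorem L27855 : sm gf N3220 = N2346 := ded_40_2 (flp_e L20402) (flp_f L14244) (flp_e L13589) L19425 L27850
theorem L27857 : sm gg N2236 = N3221 := rfl
theorem L27859 : sm gb N3221 = N2240 := ded_23_1 (flp_g L19455) (flp_b L19427) L27857
theorem L27861 : sm gd N3221 = N2238 := ded_36_1 (flp_g L19441) (flp_d L19429) L27857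
theorem L27863 : sm gf N3221 = N3221 := ded_45_1 (flp_g L27857) (flp_f L19425) L13587 L19425 L27857
theorem L27864 : sm gh N2236 = N3222 := rfl
theorem L27866 : sm gb N3222 = N2241 := ded_25_1 (flp_h L19462) (flp_b L19427) L27864
theorem L27868 : sm gf N3222 = N2237 := ded_47_1 (flp_h L19432) L19425 L27864
theorem L27870 : sm gj N3222 = N3222 := ded_52_1 (flp_h L27864) L19431 L27864
theorem L27871 : sm gd N3222 = N3222 := ded_38_1 (flp_h L27864) L19429 L13597 (flp_d L19429) L27864
theorem L27872 : sm gi N2237 = N3223 := rfl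
theorem L27874 : sm gb N3223 = N2242 := ded_26_1 (flp_i L19470) (flp_b L19434) L27872
theorem L27876 : sm gd N3223 = N3223 := ded_39_1 (flp_i L27872) L19440 L27872
theorem L27877 : sm ge N3223 = N2349 := ded_44_1 (flp_i L20423) (flp_e L19436) L27872
theorem L27879 : sm gg N3223 = N3223 := ded_51_1 (flp_i L27872) L19438 L27872
theorem L27880 : sm gj N3223 = N3223 := ded_53_1 (flp_i L27872) L19439 L27872
theorem L27881 : sm gj N2238 = N3224 := rfl
theorem L27883 : sm gb N3224 = N2243 := ded_24_1 (flp_j L19479) (flp_b L19443) L27881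
theorem L27885 : sm gc N3224 = N3224 := ded_31_1 (flp_j L27881) L19445 L27881
theorem L27886 : sm gf N3224 = N3224 := ded_46_1 (flp_j L27881) L19447 L27881
theorem L27887 : sm gh N3224 = N3224 := ded_52_2 (flp_j L27881) L19446 L27881
theorem L27888 : sm gg N3224 = N3224 := ded_49_1 (flp_j L27881) (flp_g L19441) L13596 L19441 L27881
theorem L27889 : sm gg N2239 = N3225 := rfl
theorem L27891 : sm ga N3225 = N3225 := ded_15_1 (flp_g L27889) L19450 L27889
theorem L27892 : sm gc N3225 = N3225 := ded_30_1 (flp_g L27889) L19451 L27889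
theorem L27893 : sm ge N3225 = N2240 := ded_41_1 (flp_g L19455) L19448 L27889
theorem L27895 : sm gh N2239 = N3226 := rfl
theorem L27897 : sm ga N3226 = N3226 := ded_17_1 (flp_h L27895) L19450 L27895
theorem L27898 : sm gc N3226 = N3226 := ded_32_1 (flp_h L27895) L19451 L27895
theorem L27899 : sm ge N3226 = N2241 := ded_43_1 (flp_h L19462) L19448 L27895
theorem L27901 : sm gf N3226 = N2352 := ded_47_1 (flp_h L20447) (flp_f L19453) L27895
theorem L27903 : sm gj N3226 = N3226 := ded_52_1 (flp_h L27895) L19452 L27895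
theorem L27904 : sm gj N2240 = N3227 := rfl
theorem L27906 : sm ga N3227 = N3227 := ded_16_1 (flp_j L27904) L19457 L27904
theorem L27907 : sm gc N3227 = N3227 := ded_31_1 (flp_j L27904) L19458 L27904
theorem L27908 : sm gd N3227 = N2243 := ded_37_1 (flp_j L19479) (flp_d L19459) L27904
theorem L27910 : sm gf N3227 = N3227 := ded_46_1 (flp_j L27904) L19461 L27904
theorem L27911 : sm gg N3227 = N3227 := ded_49_1 (flp_j L27904) (flp_g L19455) L13604 L19455 L27904
theorem L27912 : sm gh N2240 = N3228 := rfl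
theorem L27914 : sm ga N3228 = N3228 := ded_17_1 (flp_h L27912) L19457 L27912
theorem L27915 : sm gc N3228 = N3228 := ded_32_1 (flp_h L27912) L19458 L27912
theorem L27916 : sm gf N3228 = N3228 := ded_47_1 (flp_h L27912) L19461 L27912
theorem L27917 : sm gg N3228 = N2241 := ded_50_1 (flp_h L19462) L19455 L27912
theorem L27919 : sm gd N3228 = N3228 := ded_38_1 (flp_h L27912) L19459 L13619 (flp_d L19459) L27912
theorem L27920 : sm gi N2241 = N3229 := rfl
theorem L27922 : sm ga N3229 = N3229 := ded_18_1 (flp_i L27920) L19464 L27920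
theorem L27923 : sm gc N3229 = N3229 := ded_33_1 (flp_i L27920) L19465 L27920
theorem L27924 : sm gd N3229 = N3229 := ded_39_1 (flp_i L27920) L19469 L27920
theorem L27925 : sm gf N3229 = N2242 := ded_48_1 (flp_i L19470) (flp_f L19466) L27920
theorem L27927 : sm gj N3229 = N3229 := ded_53_1 (flp_i L27920) L19468 L27920
theorem L27928 : sm gf N2244 = N3230 := rfl
theorem L27930 : sm ga N3230 = N3230 := ded_14_1 (flp_f L27928) L19489 L27928
theorem L27931 : sm gb N3230 = N2417 := ded_22_1 (flp_f L21009) (flp_b L19490) L27928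
theorem L27933 : sm gc N3230 = N3230 := ded_29_1 (flp_f L27928) L19492 L27928
theorem L27934 : sm gd N3230 = N3230 := ded_35_1 (flp_f L27928) L19497 L27928
theorem L27935 : sm gj N3230 = N3230 := ded_46_2 (flp_f L27928) L19495 L27928
theorem L27936 : sm gh N3230 = N3230 := ded_47_2 (flp_f L27928) L19496 L27928
theorem L27937 : sm ge N3230 = N3230 := ded_40_1 (flp_f L27928) (flp_e L19487) L13634 L19487 L27928
theorem L27938 : sm gg N3230 = N3230 := ded_45_2 (flp_f L27928) L19493 L13670 (flp_g L19493) L27928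
theorem L27939 : sm gi N2244 = N3231 := rfl
theorem L27941 : sm ga N3231 = N3231 := ded_18_1 (flp_i L27939) L19489 L27939
theorem L27942 : sm gb N3231 = N2418 := ded_26_1 (flp_i L21018) (flp_b L19490) L27939
theorem L27944 : sm gc N3231 = N3231 := ded_33_1 (flp_i L27939) L19492 L27939
theorem L27945 : sm gd N3231 = N3231 := ded_39_1 (flp_i L27939) L19497 L27939
theorem L27946 : sm ge N3231 = N2245 := ded_44_1 (flp_i L19498) L19487 L27939
theorem L27948 : sm gg N3231 = N2248 := ded_51_1 (flp_i L19532) (flp_g L19493) L27939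
theorem L27950 : sm gj N3231 = N3231 := ded_53_1 (flp_i L27939) L19495 L27939
theorem L27951 : sm gh N2245 = N3232 := rfl
theorem L27953 : sm ga N3232 = N3232 := ded_17_1 (flp_h L27951) L19500 L27951
theorem L27954 : sm gb N3232 = N2419 := ded_25_1 (flp_h L21028) (flp_b L19501) L27951
theorem L27956 : sm gc N3232 = N3232 := ded_32_1 (flp_h L27951) L19503 L27951
theorem L27957 : sm gf N3232 = N3232 := ded_47_1 (flp_h L27951) L19506 L27951
theorem L27958 : sm gg N3232 = N2249 := ded_50_1 (flp_h L19544) (flp_g L19507) L27951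
theorem L27960 : sm gj N3232 = N3232 := ded_52_1 (flp_h L27951) L19509 L27951
theorem L27961 : sm gi N3232 = N3232 := ded_54_2 (flp_h L27951) (flp_i L19498) L13639 L19498 L27951
theorem L27962 : sm gd N2246 = N3233 := rfl
theorem L27964 : sm ga N3233 = N3233 := ded_12_1 (flp_d L27962) L19512 L27962
theorem L27965 : sm gb N3233 = N2420 := ded_20_1 (flp_d L21037) (flp_b L19513) L27962
theorem L27967 : sm gf N3233 = N3233 := ded_35_2 (flp_d L27962) L19516 L27962
theorem L27968 : sm gg N3233 = N2250 := ded_36_2 (flp_d L19555) (flp_g L19517) L27962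
theorem L27970 : sm gj N3233 = N3233 := ded_37_2 (flp_d L27962) L19519 L27962
theorem L27971 : sm gi N3233 = N2247 := ded_39_2 (flp_d L19522) (flp_i L19520) L27962
theorem L27973 : sm gc N2247 = N3234 := rfl
theorem L27975 : sm ga N3234 = N3234 := ded_11_1 (flp_c L27973) L19524 L27973
theorem L27976 : sm gf N3234 = N3234 := ded_29_2 (flp_c L27973) L19527 L27973
theorem L27977 : sm gg N3234 = N2251 := ded_30_2 (flp_c L19566) (flp_g L19528) L27973
theorem L27979 : sm gj N3234 = N3234 := ded_31_2 (flp_c L27973) L19530 L27973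
theorem L27980 : sm gh N3234 = N3234 := ded_32_2 (flp_c L27973) L19531 L27973
theorem L27981 : sm ge N2247 = N3235 := rfl
theorem L27983 : sm ga N3235 = N3235 := ded_13_1 (flp_e L27981) L19524 L27981
theorem L27984 : sm gb N3235 = N2422 := ded_21_1 (flp_e L21057) (flp_b L19525) L27981
theorem L27986 : sm gg N3235 = N2252 := ded_41_2 (flp_e L19574) (flp_g L19528) L27981
theorem L27988 : sm gj N3235 = N3235 := ded_42_2 (flp_e L27981) L19530 L27981
theorem L27989 : sm gh N3235 = N3235 := ded_43_2 (flp_e L27981) L19531 L27981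
theorem L27990 : sm gd N3235 = N3235 := ded_34_1 (flp_e L27981) (flp_d L19522) L13655 L19522 L27981
theorem L27991 : sm gh N2248 = N3236 := rfl
theorem L27993 : sm ga N3236 = N3236 := ded_17_1 (flp_h L27991) L19534 L27991
theorem L27994 : sm gb N3236 = N2426 := ded_25_1 (flp_h L21100) (flp_b L19535) L27991
theorem L27996 : sm gc N3236 = N3236 := ded_32_1 (flp_h L27991) L19537 L27991
theorem L27997 : sm ge N3236 = N2249 := ded_43_1 (flp_h L19544) (flp_e L19539) L27991
theorem L27999 : sm gf N3236 = N3236 := ded_47_1 (flp_h L27991) L19541 L27991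
theorem L28000 : sm gj N3236 = N2253 := ded_52_1 (flp_h L19583) (flp_j L19542) L27991
theorem L28002 : sm gi N3236 = N3236 := ded_54_2 (flp_h L27991) (flp_i L19532) L13668 L19532 L27991
theorem L28003 : sm gd N2249 = N3237 := rfl
theorem L28005 : sm ga N3237 = N3237 := ded_12_1 (flp_d L28003) L19546 L28003
theorem L28006 : sm gb N3237 = N2427 := ded_20_1 (flp_d L21110) (flp_b L19547) L28003
theorem L28008 : sm gf N3237 = N2260 := ded_35_2 (flp_d L19646) (flp_f L19550) L28003
theorem L28010 : sm gj N3237 = N2254 := ded_37_2 (flp_d L19594) (flp_j L19552) L28003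
theorem L28012 : sm gi N3237 = N3237 := ded_39_2 (flp_d L28003) L19554 L28003
theorem L28013 : sm gh N3237 = N2250 := ded_38_2 (flp_d L19555) (flp_h L13683) (flp_d L13677) L19544 L28003
theorem L28015 : sm gc N2250 = N3238 := rfl
theorem L28017 : sm ga N3238 = N3238 := ded_11_1 (flp_c L28015) L19557 L28015
theorem L28018 : sm gf N3238 = N2261 := ded_29_2 (flp_c L19657) (flp_f L19560) L28015
theorem L28020 : sm gj N3238 = N2255 := ded_31_2 (flp_c L19605) (flp_j L19562) L28015
theorem L28022 : sm gi N3238 = N2251 := ded_33_2 (flp_c L19566) (flp_i L19564) L28015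
theorem L28024 : sm ge N2250 = N3239 := rfl
theorem L28026 : sm ga N3239 = N3239 := ded_13_1 (flp_e L28024) L19557 L28024
theorem L28027 : sm gb N3239 = N2429 := ded_21_1 (flp_e L21132) (flp_b L19558) L28024
theorem L28029 : sm gj N3239 = N2256 := ded_42_2 (flp_e L19613) (flp_j L19562) L28024
theorem L28031 : sm gi N3239 = N2252 := ded_44_2 (flp_e L19574) (flp_i L19564) L28024
theorem L28033 : sm gd N3239 = N3239 := ded_34_1 (flp_e L28024) (flp_d L19555) L13688 L19555 L28024
theorem L28034 : sm gb N2251 = N3240 := rfl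
theorem L28036 : sm gf N3240 = N2263 := ded_22_2 (flp_b L19677) (flp_f L19569) L28034
theorem L28038 : sm gj N3240 = N2257 := ded_24_2 (flp_b L19622) (flp_j L19571) L28034
theorem L28040 : sm gh N3240 = N3240 := ded_25_2 (flp_b L28034) L19573 L28034
theorem L28041 : sm gc N3240 = N2430 := ded_19_2 (flp_b L21141) (flp_c L14780) (flp_b L13698) L19566 L28034
theorem L28043 : sm ge N2251 = N3241 := rfl
theorem L28045 : sm ga N3241 = N3241 := ded_13_1 (flp_e L28043) L19568 L28043
theorem L28046 : sm gc N3241 = N2252 := ded_28_1 (flp_e L19574) L19566 L28043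
theorem L28048 : sm gj N3241 = N2258 := ded_42_2 (flp_e L19630) (flp_j L19571) L28043
theorem L28050 : sm gh N3241 = N3241 := ded_43_2 (flp_e L28043) L19573 L28043
theorem L28051 : sm gf N2252 = N3242 := rfl
theorem L28053 : sm ga N3242 = N3242 := ded_14_1 (flp_f L28051) L19576 L28051
theorem L28054 : sm gb N3242 = N2432 := ded_22_1 (flp_f L21158) (flp_b L19577) L28051
theorem L28056 : sm gd N3242 = N3242 := ded_35_1 (flp_f L28051) L19582 L28051
theorem L28057 : sm gj N3242 = N2259 := ded_46_2 (flp_f L19637) (flp_j L19579) L28051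
theorem L28059 : sm gh N3242 = N3242 := ded_47_2 (flp_f L28051) L19581 L28051
theorem L28060 : sm ge N3242 = N2265 := ded_40_1 (flp_f L19694) (flp_e L13779) (flp_f L13700) L19574 L28051
theorem L28062 : sm gd N2253 = N3243 := rfl
theorem L28064 : sm ga N3243 = N3243 := ded_12_1 (flp_d L28062) L19585 L28062
theorem L28065 : sm gb N3243 = N2437 := ded_20_1 (flp_d L21211) (flp_b L19586) L28062
theorem L28067 : sm gf N3243 = N3243 := ded_35_2 (flp_d L28062) L19591 L28062
theorem L28068 : sm gg N3243 = N3243 := ded_36_2 (flp_d L28062) L19592 L28062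
theorem L28069 : sm gi N3243 = N3243 := ded_39_2 (flp_d L28062) L19593 L28062
theorem L28070 : sm gh N3243 = N3243 := ded_38_2 (flp_d L28062) (flp_h L19583) L13711 L19583 L28062
theorem L28071 : sm gc N2254 = N3244 := rfl
theorem L28073 : sm ga N3244 = N3244 := ded_11_1 (flp_c L28071) L19596 L28071
theorem L28074 : sm gf N3244 = N2266 := ded_29_2 (flp_c L19704) (flp_f L19599) L28071
theorem L28076 : sm gg N3244 = N3244 := ded_30_2 (flp_c L28071) L19601 L28071
theorem L28077 : sm gh N3244 = N2255 := ded_32_2 (flp_c L19605) (flp_h L19603) L28071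
theorem L28079 : sm gi N3244 = N3244 := ded_33_2 (flp_c L28071) L19602 L28071
theorem L28080 : sm gd N3244 = N3244 := ded_27_2 (flp_c L28071) (flp_d L19594) L13721 L19594 L28071
theorem L28081 : sm ge N2254 = N3245 := rfl
theorem L28083 : sm ga N3245 = N3245 := ded_13_1 (flp_e L28081) L19596 L28081
theorem L28084 : sm gb N3245 = N2439 := ded_21_1 (flp_e L21229) (flp_b L19597) L28081
theorem L28086 : sm gg N3245 = N3245 := ded_41_2 (flp_e L28081) L19601 L28081
theorem L28087 : sm gh N3245 = N2256 := ded_43_2 (flp_e L19613) (flp_h L19603) L28081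
theorem L28089 : sm gi N3245 = N3245 := ded_44_2 (flp_e L28081) L19602 L28081
theorem L28090 : sm gb N2255 = N3246 := rfl
theorem L28092 : sm gf N3246 = N2268 := ded_22_2 (flp_b L19724) (flp_f L19608) L28090
theorem L28094 : sm gg N3246 = N3246 := ded_23_2 (flp_b L28090) L19610 L28090
theorem L28095 : sm gi N3246 = N2257 := ded_26_2 (flp_b L19622) (flp_i L19611) L28090
theorem L28097 : sm gc N3246 = N2440 := ded_19_2 (flp_b L21237) (flp_c L14848) (flp_b L13729) L19605 L28090
theorem L28099 : sm ge N2255 = N3247 := rfl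
theorem L28101 : sm ga N3247 = N3247 := ded_13_1 (flp_e L28099) L19607 L28099
theorem L28102 : sm gc N3247 = N2256 := ded_28_1 (flp_e L19613) L19605 L28099
theorem L28104 : sm gg N3247 = N3247 := ded_41_2 (flp_e L28099) L19610 L28099
theorem L28105 : sm gi N3247 = N2258 := ded_44_2 (flp_e L19630) (flp_i L19611) L28099
theorem L28107 : sm gf N2256 = N3248 := rfl
theorem L28109 : sm ga N3248 = N3248 := ded_14_1 (flp_f L28107) L19615 L28107
theorem L28110 : sm gb N3248 = N2442 := ded_22_1 (flp_f L21254) (flp_b L19616) L28107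
theorem L28112 : sm gd N3248 = N3248 := ded_35_1 (flp_f L28107) L19621 L28107
theorem L28113 : sm gi N3248 = N2259 := ded_48_2 (flp_f L19637) (flp_i L19619) L28107
theorem L28115 : sm ge N3248 = N2270 := ded_40_1 (flp_f L19741) (flp_e L13807) (flp_f L13731) L19613 L28107
theorem L28117 : sm ga N2257 = N3249 := rfl
theorem L28119 : sm gc N3249 = N2443 := ded_11_2 (flp_a L21263) (flp_c L19628) L28117
theorem L28121 : sm gf N3249 = N2271 := ded_14_2 (flp_a L19750) (flp_f L19624) L28117
theorem L28123 : sm gg N3249 = N3249 := ded_15_2 (flp_a L28117) L19626 L28117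
theorem L28124 : sm gh N3249 = N3249 := ded_17_2 (flp_a L28117) L19627 L28117
theorem L28125 : sm gb N3249 = N3249 := ded_10_2 (flp_a L28117) (flp_b L19622) L13738 L19622 L28117
theorem L28126 : sm ge N2257 = N3250 := rfl
theorem L28128 : sm gb N3250 = N2258 := ded_21_1 (flp_e L19630) L19622 L28126
theorem L28130 : sm gc N3250 = N2444 := ded_28_1 (flp_e L21272) (flp_c L19628) L28126
theorem L28132 : sm gg N3250 = N3250 := ded_41_2 (flp_e L28126) L19626 L28126
theorem L28133 : sm gh N3250 = N3250 := ded_43_2 (flp_e L28126) L19627 L28126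
theorem L28134 : sm gd N2258 = N3251 := rfl
theorem L28136 : sm ga N3251 = N3251 := ded_12_1 (flp_d L28134) L19632 L28134
theorem L28137 : sm gg N3251 = N3251 := ded_36_2 (flp_d L28134) L19635 L28134
theorem L28138 : sm gc N3251 = N3251 := ded_27_1 (flp_d L28134) L19633 L13750 (flp_c L19633) L28134
theorem L28139 : sm gf N2258 = N3252 := rfl
theorem L28141 : sm ga N3252 = N3252 := ded_14_1 (flp_f L28139) L19632 L28139
theorem L28142 : sm gc N3252 = N2259 := ded_29_1 (flp_f L19637) (flp_c L19633) L28139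
theorem L28144 : sm gh N3252 = N3252 := ded_47_2 (flp_f L28139) L19636 L28139
theorem L28145 : sm ge N3252 = N2274 := ded_40_1 (flp_f L19774) (flp_e L13825) (flp_f L13739) L19630 L28139
theorem L28147 : sm gg N2259 = N3253 := rfl
theorem L28149 : sm ga N3253 = N3253 := ded_15_1 (flp_g L28147) L19639 L28147
theorem L28150 : sm gb N3253 = N2447 := ded_23_1 (flp_g L21294) (flp_b L19640) L28147
theorem L28152 : sm gd N3253 = N3253 := ded_36_1 (flp_g L28147) L19642 L28147
theorem L28153 : sm ge N3253 = N2275 := ded_41_1 (flp_g L19780) (flp_e L19644) L28147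
theorem L28155 : sm gh N3253 = N3253 := ded_50_2 (flp_g L28147) L19643 L28147
theorem L28156 : sm gf N3253 = N3253 := ded_45_1 (flp_g L28147) (flp_f L19637) L13748 L19637 L28147
theorem L28157 : sm gc N2260 = N3254 := rfl
theorem L28159 : sm ga N3254 = N3254 := ded_11_1 (flp_c L28157) L19648 L28157
theorem L28160 : sm gg N3254 = N3254 := ded_30_2 (flp_c L28157) L19651 L28157
theorem L28161 : sm gj N3254 = N2266 := ded_31_2 (flp_c L19704) (flp_j L19652) L28157
theorem L28163 : sm gh N3254 = N2261 := ded_32_2 (flp_c L19657) (flp_h L19655) L28157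
theorem L28165 : sm gi N3254 = N3254 := ded_33_2 (flp_c L28157) L19654 L28157
theorem L28166 : sm gd N3254 = N3254 := ded_27_2 (flp_c L28157) (flp_d L19646) L13756 L19646 L28157
theorem L28167 : sm ge N2260 = N3255 := rfl
theorem L28169 : sm ga N3255 = N3255 := ded_13_1 (flp_e L28167) L19648 L28167
theorem L28170 : sm gb N3255 = N2450 := ded_21_1 (flp_e L21323) (flp_b L19649) L28167
theorem L28172 : sm gg N3255 = N3255 := ded_41_2 (flp_e L28167) L19651 L28167
theorem L28173 : sm gj N3255 = N2267 := ded_42_2 (flp_e L19713) (flp_j L19652) L28167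
theorem L28175 : sm gh N3255 = N2262 := ded_43_2 (flp_e L19665) (flp_h L19655) L28167
theorem L28177 : sm gi N3255 = N3255 := ded_44_2 (flp_e L28167) L19654 L28167
theorem L28178 : sm gd N3255 = N3255 := ded_34_1 (flp_e L28167) (flp_d L19646) L13757 L19646 L28167
theorem L28179 : sm gb N2261 = N3256 := rfl
theorem L28181 : sm gg N3256 = N3256 := ded_23_2 (flp_b L28179) L19660 L28179
theorem L28182 : sm gj N3256 = N2268 := ded_24_2 (flp_b L19724) (flp_j L19661) L28179
theorem L28184 : sm gi N3256 = N2263 := ded_26_2 (flp_b L19677) (flp_i L19663) L28179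
theorem L28186 : sm gc N3256 = N2451 := ded_19_2 (flp_b L21334) (flp_c L14911) (flp_b L13765) L19657 L28179
theorem L28188 : sm ge N2261 = N3257 := rfl
theorem L28190 : sm ga N3257 = N3257 := ded_13_1 (flp_e L28188) L19659 L28188
theorem L28191 : sm gc N3257 = N2262 := ded_28_1 (flp_e L19665) L19657 L28188
theorem L28193 : sm gg N3257 = N3257 := ded_41_2 (flp_e L28188) L19660 L28188
theorem L28194 : sm gj N3257 = N2269 := ded_42_2 (flp_e L19732) (flp_j L19661) L28188
theorem L28196 : sm gi N3257 = N2264 := ded_44_2 (flp_e L19685) (flp_i L19663) L28188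
theorem L28198 : sm gf N2262 = N3258 := rfl
theorem L28200 : sm ga N3258 = N3258 := ded_14_1 (flp_f L28198) L19667 L28198
theorem L28201 : sm gb N3258 = N2453 := ded_22_1 (flp_f L21353) (flp_b L19668) L28198
theorem L28203 : sm gd N3258 = N2293 := ded_35_1 (flp_f L19942) (flp_d L19675) L28198
theorem L28205 : sm gj N3258 = N2270 := ded_46_2 (flp_f L19741) (flp_j L19671) L28198
theorem L28207 : sm gi N3258 = N2265 := ded_48_2 (flp_f L19694) (flp_i L19673) L28198
theorem L28209 : sm ga N2263 = N3259 := rfl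
theorem L28211 : sm gc N3259 = N2454 := ded_11_2 (flp_a L21363) (flp_c L19683) L28209
theorem L28213 : sm gg N3259 = N3259 := ded_15_2 (flp_a L28209) L19679 L28209
theorem L28214 : sm gj N3259 = N2271 := ded_16_2 (flp_a L19750) (flp_j L19680) L28209
theorem L28216 : sm gh N3259 = N3259 := ded_17_2 (flp_a L28209) L19682 L28209
theorem L28217 : sm gb N3259 = N3259 := ded_10_2 (flp_a L28209) (flp_b L19677) L13774 L19677 L28209
theorem L28218 : sm ge N2263 = N3260 := rfl
theorem L28220 : sm gb N3260 = N2264 := ded_21_1 (flp_e L19685) L19677 L28218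
theorem L28222 : sm gc N3260 = N2455 := ded_28_1 (flp_e L21372) (flp_c L19683) L28218
theorem L28224 : sm gg N3260 = N3260 := ded_41_2 (flp_e L28218) L19679 L28218
theorem L28225 : sm gj N3260 = N2272 := ded_42_2 (flp_e L19758) (flp_j L19680) L28218
theorem L28227 : sm gh N3260 = N3260 := ded_43_2 (flp_e L28218) L19682 L28218
theorem L28228 : sm gd N2264 = N3261 := rfl
theorem L28230 : sm ga N3261 = N3261 := ded_12_1 (flp_d L28228) L19687 L28228
theorem L28231 : sm gg N3261 = N3261 := ded_36_2 (flp_d L28228) L19690 L28228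
theorem L28232 : sm gj N3261 = N2273 := ded_37_2 (flp_d L19767) (flp_j L19691) L28228
theorem L28234 : sm gc N3261 = N2296 := ded_27_1 (flp_d L19975) L13960 (flp_d L13788) (flp_c L19688) L28228
theorem L28236 : sm gf N2264 = N3262 := rfl
theorem L28238 : sm ga N3262 = N3262 := ded_14_1 (flp_f L28236) L19687 L28236
theorem L28239 : sm gc N3262 = N2265 := ded_29_1 (flp_f L19694) (flp_c L19688) L28236
theorem L28241 : sm gj N3262 = N2274 := ded_46_2 (flp_f L19774) (flp_j L19691) L28236
theorem L28243 : sm gh N3262 = N3262 := ded_47_2 (flp_f L28236) L19693 L28236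
theorem L28244 : sm gg N2265 = N3263 := rfl
theorem L28246 : sm ga N3263 = N3263 := ded_15_1 (flp_g L28244) L19696 L28244
theorem L28247 : sm gb N3263 = N2458 := ded_23_1 (flp_g L21399) (flp_b L19697) L28244
theorem L28249 : sm gd N3263 = N2298 := ded_36_1 (flp_g L19991) (flp_d L19699) L28244
theorem L28251 : sm gh N3263 = N3263 := ded_50_2 (flp_g L28244) L19703 L28244
theorem L28252 : sm gf N3263 = N3263 := ded_45_1 (flp_g L28244) (flp_f L19694) L13784 L19694 L28244
theorem L28253 : sm gb N2266 = N3264 := rfl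
theorem L28256 : sm gg N3264 = N2276 := ded_23_2 (flp_b L19790) (flp_g L19707) L28253
theorem L28258 : sm gh N3264 = N2268 := ded_25_2 (flp_b L19724) (flp_h L19709) L28253
theorem L28261 : sm gc N3264 = N2461 := ded_19_2 (flp_b L21427) (flp_c L14967) (flp_b L13793) L19704 L28253
theorem L28263 : sm ge N2266 = N3265 := rfl
theorem L28265 : sm ga N3265 = N3265 := ded_13_1 (flp_e L28263) L19706 L28263
theorem L28266 : sm gc N3265 = N2267 := ded_28_1 (flp_e L19713) L19704 L28263
theorem L28268 : sm gg N3265 = N2277 := ded_41_2 (flp_e L19800) (flp_g L19707) L28263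
theorem L28270 : sm gh N3265 = N2269 := ded_43_2 (flp_e L19732) (flp_h L19709) L28263
theorem L28272 : sm gi N3265 = N3265 := ded_44_2 (flp_e L28263) L19711 L28263
theorem L28273 : sm gf N2267 = N3266 := rfl
theorem L28275 : sm ga N3266 = N3266 := ded_14_1 (flp_f L28273) L19715 L28273
theorem L28276 : sm gb N3266 = N2463 := ded_22_1 (flp_f L21445) (flp_b L19716) L28273
theorem L28278 : sm gd N3266 = N3266 := ded_35_1 (flp_f L28273) L19723 L28273
theorem L28279 : sm gh N3266 = N2270 := ded_47_2 (flp_f L19741) (flp_h L19720) L28273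
theorem L28281 : sm gi N3266 = N3266 := ded_48_2 (flp_f L28273) L19722 L28273
theorem L28282 : sm ga N2268 = N3267 := rfl
theorem L28284 : sm gc N3267 = N2464 := ded_11_2 (flp_a L21453) (flp_c L19730) L28282
theorem L28286 : sm gg N3267 = N2279 := ded_15_2 (flp_a L19820) (flp_g L19726) L28282
theorem L28288 : sm gi N3267 = N2271 := ded_18_2 (flp_a L19750) (flp_i L19728) L28282
theorem L28291 : sm ge N2268 = N3268 := rfl
theorem L28293 : sm gb N3268 = N2269 := ded_21_1 (flp_e L19732) L19724 L28291
theorem L28295 : sm gc N3268 = N2465 := ded_28_1 (flp_e L21462) (flp_c L19730) L28291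
theorem L28297 : sm gg N3268 = N2280 := ded_41_2 (flp_e L19829) (flp_g L19726) L28291
theorem L28299 : sm gi N3268 = N2272 := ded_44_2 (flp_e L19758) (flp_i L19728) L28291
theorem L28301 : sm gd N2269 = N3269 := rfl
theorem L28303 : sm ga N3269 = N3269 := ded_12_1 (flp_d L28301) L19734 L28301
theorem L28304 : sm gg N3269 = N2281 := ded_36_2 (flp_d L19838) (flp_g L19737) L28301
theorem L28306 : sm gi N3269 = N2273 := ded_39_2 (flp_d L19767) (flp_i L19739) L28301
theorem L28308 : sm gc N3269 = N2301 := ded_27_1 (flp_d L20022) L13990 (flp_d L13816) (flp_c L19735) L28301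
theorem L28310 : sm gf N2269 = N3270 := rfl
theorem L28312 : sm ga N3270 = N3270 := ded_14_1 (flp_f L28310) L19734 L28310
theorem L28313 : sm gc N3270 = N2270 := ded_29_1 (flp_f L19741) (flp_c L19735) L28310
theorem L28315 : sm gi N3270 = N2274 := ded_48_2 (flp_f L19774) (flp_i L19739) L28310
theorem L28317 : sm gg N2270 = N3271 := rfl
theorem L28319 : sm ga N3271 = N3271 := ded_15_1 (flp_g L28317) L19743 L28317
theorem L28320 : sm gb N3271 = N2468 := ded_23_1 (flp_g L21489) (flp_b L19744) L28317
theorem L28322 : sm gd N3271 = N2303 := ded_36_1 (flp_g L20038) (flp_d L19746) L28317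
theorem L28324 : sm gi N3271 = N2275 := ded_51_2 (flp_g L19780) (flp_i L19748) L28317
theorem L28326 : sm gf N3271 = N2283 := ded_45_1 (flp_g L19855) (flp_f L13876) (flp_g L13812) L19741 L28317
theorem L28328 : sm ge N2271 = N3272 := rfl
theorem L28330 : sm ga N3272 = N2272 := ded_13_1 (flp_e L19758) L19750 L28328
theorem L28332 : sm gb N3272 = N3272 := ded_21_1 (flp_e L28328) L19757 L28328
theorem L28333 : sm gc N3272 = N2469 := ded_28_1 (flp_e L21499) (flp_c L19752) L28328
theorem L28335 : sm gg N3272 = N2284 := ded_41_2 (flp_e L19865) (flp_g L19754) L28328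
theorem L28337 : sm gh N3272 = N3272 := ded_43_2 (flp_e L28328) L19756 L28328
theorem L28338 : sm gd N2272 = N3273 := rfl
theorem L28340 : sm gb N3273 = N2273 := ded_20_1 (flp_d L19767) (flp_b L19760) L28338
theorem L28342 : sm gg N3273 = N2285 := ded_36_2 (flp_d L19874) (flp_g L19764) L28338
theorem L28344 : sm gf N2272 = N3274 := rfl
theorem L28346 : sm gb N3274 = N2274 := ded_22_1 (flp_f L19774) (flp_b L19760) L28344
theorem L28348 : sm gc N3274 = N2471 := ded_29_1 (flp_f L21515) (flp_c L19762) L28344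
theorem L28350 : sm gh N3274 = N3274 := ded_47_2 (flp_f L28344) L19766 L28344
theorem L28351 : sm gf N2273 = N3275 := rfl
theorem L28353 : sm ga N3275 = N3275 := ded_14_1 (flp_f L28351) L19769 L28351
theorem L28354 : sm gc N3275 = N2307 := ded_29_1 (flp_f L20075) (flp_c L19772) L28351
theorem L28356 : sm gd N3275 = N2274 := ded_35_1 (flp_f L19774) L19767 L28351
theorem L28358 : sm gh N2273 = N3276 := rfl
theorem L28360 : sm ga N3276 = N3276 := ded_17_1 (flp_h L28358) L19769 L28358
theorem L28361 : sm gc N3276 = N2308 := ded_32_1 (flp_h L20080) (flp_c L19772) L28358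
theorem L28363 : sm gg N3276 = N2288 := ded_50_1 (flp_h L19896) (flp_g L19770) L28358
theorem L28365 : sm gd N3276 = N3276 := ded_38_1 (flp_h L28358) (flp_d L19767) L13832 L19767 L28358
theorem L28366 : sm gg N2274 = N3277 := rfl
theorem L28368 : sm ga N3277 = N3277 := ded_15_1 (flp_g L28366) L19776 L28366
theorem L28369 : sm gc N3277 = N2275 := ded_30_1 (flp_g L19780) (flp_c L19777) L28366
theorem L28371 : sm gh N3277 = N3277 := ded_50_2 (flp_g L28366) L19779 L28366
theorem L28372 : sm gf N3277 = N2289 := ded_45_1 (flp_g L19903) (flp_f L13909) (flp_g L13830) L19774 L28366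
theorem L28374 : sm gj N2275 = N3278 := rfl
theorem L28376 : sm ga N3278 = N3278 := ded_16_1 (flp_j L28374) L19782 L28374
theorem L28377 : sm gb N3278 = N2475 := ded_24_1 (flp_j L21547) (flp_b L19783) L28374
theorem L28379 : sm gd N3278 = N2310 := ded_37_1 (flp_j L20097) (flp_d L19785) L28374
theorem L28381 : sm gf N3278 = N2290 := ded_46_1 (flp_j L19910) (flp_f L19788) L28374
theorem L28383 : sm gh N3278 = N3278 := ded_52_2 (flp_j L28374) L19787 L28374
theorem L28384 : sm ga N2276 = N3279 := rfl
theorem L28386 : sm gc N3279 = N2479 := ded_11_2 (flp_a L21584) (flp_c L19798) L28384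
theorem L28391 : sm gh N3279 = N2279 := ded_17_2 (flp_a L19820) (flp_h L19795) L28384
theorem L28395 : sm ge N2276 = N3280 := rfl
theorem L28397 : sm gb N3280 = N2277 := ded_21_1 (flp_e L19800) L19790 L28395
theorem L28399 : sm gc N3280 = N2480 := ded_28_1 (flp_e L21593) (flp_c L19798) L28395
theorem L28402 : sm gh N3280 = N2280 := ded_43_2 (flp_e L19829) (flp_h L19795) L28395
theorem L28405 : sm gd N2277 = N3281 := rfl
theorem L28407 : sm ga N3281 = N3281 := ded_12_1 (flp_d L28405) L19802 L28405
theorem L28408 : sm gj N3281 = N3281 := ded_37_2 (flp_d L28405) L19805 L28405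
theorem L28409 : sm gi N3281 = N3281 := ded_39_2 (flp_d L28405) L19808 L28405
theorem L28410 : sm gc N3281 = N3281 := ded_27_1 (flp_d L28405) L19803 L13859 (flp_c L19803) L28405
theorem L28411 : sm ge N3281 = N3281 := ded_34_2 (flp_d L28405) (flp_e L19800) L13849 L19800 L28405
theorem L28412 : sm gf N2277 = N3282 := rfl
theorem L28414 : sm ga N3282 = N3282 := ded_14_1 (flp_f L28412) L19802 L28412
theorem L28415 : sm gc N3282 = N2278 := ded_29_1 (flp_f L19809) (flp_c L19803) L28412
theorem L28417 : sm gj N3282 = N3282 := ded_46_2 (flp_f L28412) L19805 L28412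
theorem L28418 : sm gh N3282 = N2282 := ded_47_2 (flp_f L19846) (flp_h L19806) L28412
theorem L28420 : sm gi N3282 = N3282 := ded_48_2 (flp_f L28412) L19808 L28412
theorem L28421 : sm ge N3282 = N3282 := ded_40_1 (flp_f L28412) (flp_e L19800) L13844 L19800 L28412
theorem L28422 : sm gg N2278 = N3283 := rfl
theorem L28424 : sm ga N3283 = N3283 := ded_15_1 (flp_g L28422) L19811 L28422
theorem L28425 : sm gb N3283 = N2483 := ded_23_1 (flp_g L21619) (flp_b L19812) L28422
theorem L28427 : sm gd N3283 = N3283 := ded_36_1 (flp_g L28422) L19814 L28422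
theorem L28428 : sm ge N3283 = N3283 := ded_41_1 (flp_g L28422) L19819 L28422
theorem L28429 : sm gh N3283 = N2283 := ded_50_2 (flp_g L19855) (flp_h L19816) L28422
theorem L28431 : sm gi N3283 = N3283 := ded_51_2 (flp_g L28422) L19818 L28422
theorem L28432 : sm ge N2279 = N3284 := rfl
theorem L28434 : sm ga N3284 = N2280 := ded_13_1 (flp_e L19829) L19820 L28432
theorem L28437 : sm gc N3284 = N2484 := ded_28_1 (flp_e L21628) (flp_c L19822) L28432
theorem L28440 : sm gi N3284 = N2284 := ded_44_2 (flp_e L19865) (flp_i L19826) L28432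
theorem L28442 : sm gd N2280 = N3285 := rfl
theorem L28444 : sm gb N3285 = N2281 := ded_20_1 (flp_d L19838) (flp_b L19831) L28442
theorem L28446 : sm gj N3285 = N3285 := ded_37_2 (flp_d L28442) L19835 L28442
theorem L28447 : sm gi N3285 = N2285 := ded_39_2 (flp_d L19874) (flp_i L19836) L28442
theorem L28449 : sm gf N2280 = N3286 := rfl
theorem L28451 : sm gb N3286 = N2282 := ded_22_1 (flp_f L19846) (flp_b L19831) L28449
theorem L28453 : sm gc N3286 = N2486 := ded_29_1 (flp_f L21645) (flp_c L19833) L28449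
theorem L28455 : sm gj N3286 = N3286 := ded_46_2 (flp_f L28449) L19835 L28449
theorem L28456 : sm gi N3286 = N2286 := ded_48_2 (flp_f L19879) (flp_i L19836) L28449
theorem L28458 : sm ge N3286 = N3286 := ded_40_1 (flp_f L28449) (flp_e L19829) L13862 L19829 L28449
theorem L28459 : sm gf N2281 = N3287 := rfl
theorem L28461 : sm ga N3287 = N3287 := ded_14_1 (flp_f L28459) L19840 L28459
theorem L28462 : sm gc N3287 = N2314 := ded_29_1 (flp_f L20137) (flp_c L19844) L28459
theorem L28464 : sm gd N3287 = N2282 := ded_35_1 (flp_f L19846) L19838 L28459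
theorem L28466 : sm gj N3287 = N3287 := ded_46_2 (flp_f L28459) L19841 L28459
theorem L28467 : sm gi N3287 = N2287 := ded_48_2 (flp_f L19888) (flp_i L19842) L28459
theorem L28469 : sm gh N2281 = N3288 := rfl
theorem L28471 : sm ga N3288 = N3288 := ded_17_1 (flp_h L28469) L19840 L28469
theorem L28472 : sm gc N3288 = N2315 := ded_32_1 (flp_h L20145) (flp_c L19844) L28469
theorem L28474 : sm gj N3288 = N3288 := ded_52_1 (flp_h L28469) L19841 L28469
theorem L28475 : sm gg N2282 = N3289 := rfl
theorem L28477 : sm ga N3289 = N3289 := ded_15_1 (flp_g L28475) L19848 L28475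
theorem L28478 : sm gc N3289 = N2283 := ded_30_1 (flp_g L19855) (flp_c L19849) L28475
theorem L28480 : sm ge N3289 = N3289 := ded_41_1 (flp_g L28475) L19854 L28475
theorem L28481 : sm gi N3289 = N2289 := ded_51_2 (flp_g L19903) (flp_i L19852) L28475
theorem L28483 : sm gj N2283 = N3290 := rfl
theorem L28485 : sm ga N3290 = N3290 := ded_16_1 (flp_j L28483) L19857 L28483
theorem L28486 : sm gb N3290 = N2490 := ded_24_1 (flp_j L21681) (flp_b L19858) L28483
theorem L28488 : sm gd N3290 = N2317 := ded_37_1 (flp_j L20160) (flp_d L19860) L28483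
theorem L28490 : sm ge N3290 = N3290 := ded_42_1 (flp_j L28483) L19862 L28483
theorem L28491 : sm gi N3290 = N2290 := ded_53_2 (flp_j L19910) (flp_i L19863) L28483
theorem L28493 : sm gg N3290 = N3290 := ded_49_1 (flp_j L28483) (flp_g L19855) L13883 L19855 L28483
theorem L28494 : sm gd N2284 = N3291 := rfl
theorem L28496 : sm ga N3291 = N2285 := ded_12_1 (flp_d L19874) (flp_a L19867) L28494
theorem L28498 : sm gb N3291 = N3291 := ded_20_1 (flp_d L28494) L19869 L28494
theorem L28499 : sm gj N3291 = N3291 := ded_37_2 (flp_d L28494) L19872 L28494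
theorem L28500 : sm gf N2284 = N3292 := rfl
theorem L28502 : sm ga N3292 = N2286 := ded_14_1 (flp_f L19879) (flp_a L19867) L28500
theorem L28504 : sm gb N3292 = N3292 := ded_22_1 (flp_f L28500) L19869 L28500
theorem L28505 : sm gc N3292 = N2492 := ded_29_1 (flp_f L21699) (flp_c L19870) L28500
theorem L28507 : sm gj N3292 = N3292 := ded_46_2 (flp_f L28500) L19872 L28500
theorem L28508 : sm gh N3292 = N3292 := ded_47_2 (flp_f L28500) L19873 L28500
theorem L28509 : sm ge N3292 = N3292 := ded_40_1 (flp_f L28500) (flp_e L19865) L13891 L19865 L28500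
theorem L28510 : sm gc N2285 = N3293 := rfl
theorem L28512 : sm gj N3293 = N3293 := ded_31_2 (flp_c L28510) L19878 L28510
theorem L28513 : sm gb N3293 = N2320 := ded_19_1 (flp_c L20189) L14109 (flp_c L13907) (flp_b L19876) L28510
theorem L28515 : sm gd N3293 = N2493 := ded_27_2 (flp_c L21708) (flp_d L15150) (flp_c L13899) L19874 L28510
theorem L28517 : sm gf N2285 = N3294 := rfl
theorem L28519 : sm gb N3294 = N2287 := ded_22_1 (flp_f L19888) (flp_b L19876) L28517
theorem L28521 : sm gd N3294 = N2286 := ded_35_1 (flp_f L19879) L19874 L28517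
theorem L28523 : sm gj N3294 = N3294 := ded_46_2 (flp_f L28517) L19878 L28517
theorem L28524 : sm gh N2285 = N3295 := rfl
theorem L28526 : sm gb N3295 = N2288 := ded_25_1 (flp_h L19896) (flp_b L19876) L28524
theorem L28528 : sm gj N3295 = N3295 := ded_52_1 (flp_h L28524) L19878 L28524
theorem L28529 : sm gd N3295 = N3295 := ded_38_1 (flp_h L28524) (flp_d L19874) L13902 L19874 L28524
theorem L28530 : sm gg N2286 = N3296 := rfl
theorem L28532 : sm gb N3296 = N2289 := ded_23_1 (flp_g L19903) (flp_b L19881) L28530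
theorem L28534 : sm gc N3296 = N2496 := ded_30_1 (flp_g L21728) (flp_c L19883) L28530
theorem L28536 : sm ge N3296 = N3296 := ded_41_1 (flp_g L28530) L19887 L28530
theorem L28537 : sm gh N3296 = N3296 := ded_50_2 (flp_g L28530) L19886 L28530
theorem L28538 : sm ge N2287 = N3297 := rfl
theorem L28540 : sm ga N3297 = N3297 := ded_13_1 (flp_e L28538) L19890 L28538
theorem L28541 : sm gc N3297 = N2324 := ded_28_1 (flp_e L20218) (flp_c L19891) L28538
theorem L28543 : sm gj N3297 = N3297 := ded_42_2 (flp_e L28538) L19895 L28538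
theorem L28544 : sm gd N3297 = N3297 := ded_34_1 (flp_e L28538) L19893 L13916 (flp_d L19893) L28538
theorem L28545 : sm gg N2287 = N3298 := rfl
theorem L28547 : sm ga N3298 = N3298 := ded_15_1 (flp_g L28545) L19890 L28545
theorem L28548 : sm gc N3298 = N2325 := ded_30_1 (flp_g L20224) (flp_c L19891) L28545
theorem L28550 : sm gd N3298 = N2289 := ded_36_1 (flp_g L19903) (flp_d L19893) L28545
theorem L28552 : sm gh N2287 = N3299 := rfl
theorem L28554 : sm ga N3299 = N3299 := ded_17_1 (flp_h L28552) L19890 L28552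
theorem L28555 : sm gc N3299 = N2326 := ded_32_1 (flp_h L20229) (flp_c L19891) L28552
theorem L28557 : sm gf N3299 = N2288 := ded_47_1 (flp_h L19896) L19888 L28552
theorem L28559 : sm gj N3299 = N3299 := ded_52_1 (flp_h L28552) L19895 L28552
theorem L28560 : sm gd N3299 = N3299 := ded_38_1 (flp_h L28552) L19893 L13915 (flp_d L19893) L28552
theorem L28561 : sm gi N2288 = N3300 := rfl
theorem L28563 : sm ga N3300 = N3300 := ded_18_1 (flp_i L28561) L19898 L28561
theorem L28564 : sm gc N3300 = N2327 := ded_33_1 (flp_i L20237) (flp_c L19899) L28561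
theorem L28566 : sm gd N3300 = N3300 := ded_39_1 (flp_i L28561) L19902 L28561
theorem L28567 : sm gj N3300 = N3300 := ded_53_1 (flp_i L28561) L19901 L28561
theorem L28568 : sm gj N2289 = N3301 := rfl
theorem L28570 : sm ga N3301 = N3301 := ded_16_1 (flp_j L28568) L19905 L28568
theorem L28571 : sm gc N3301 = N2290 := ded_31_1 (flp_j L19910) (flp_c L19906) L28568
theorem L28573 : sm ge N3301 = N3301 := ded_42_1 (flp_j L28568) L19908 L28568
theorem L28574 : sm gh N3301 = N3301 := ded_52_2 (flp_j L28568) L19909 L28568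
theorem L28575 : sm gg N3301 = N3301 := ded_49_1 (flp_j L28568) (flp_g L19903) L13914 L19903 L28568
theorem L28576 : sm ga N2291 = N3302 := rfl
theorem L28578 : sm gc N3302 = N2502 := ded_11_2 (flp_a L21779) (flp_c L19929) L28576
theorem L28580 : sm gf N3302 = N3302 := ded_14_2 (flp_a L28576) L19922 L28576
theorem L28581 : sm gg N3302 = N3302 := ded_15_2 (flp_a L28576) L19923 L28576
theorem L28582 : sm gj N3302 = N2299 := ded_16_2 (flp_a L20000) (flp_j L19924) L28576
theorem L28584 : sm gh N3302 = N3302 := ded_17_2 (flp_a L28576) L19926 L28576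
theorem L28585 : sm gi N3302 = N2294 := ded_18_2 (flp_a L19953) (flp_i L19927) L28576
theorem L28587 : sm gb N3302 = N3302 := ded_10_2 (flp_a L28576) (flp_b L19920) L13928 L19920 L28576
theorem L28588 : sm ge N2291 = N3303 := rfl
theorem L28590 : sm gb N3303 = N2292 := ded_21_1 (flp_e L19931) L19920 L28588
theorem L28592 : sm gc N3303 = N2503 := ded_28_1 (flp_e L21791) (flp_c L19929) L28588
theorem L28594 : sm gg N3303 = N3303 := ded_41_2 (flp_e L28588) L19923 L28588
theorem L28595 : sm gj N3303 = N2300 := ded_42_2 (flp_e L20011) (flp_j L19924) L28588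
theorem L28597 : sm gh N3303 = N3303 := ded_43_2 (flp_e L28588) L19926 L28588
theorem L28598 : sm gi N3303 = N2295 := ded_44_2 (flp_e L19964) (flp_i L19927) L28588
theorem L28600 : sm gd N2292 = N3304 := rfl
theorem L28602 : sm ga N3304 = N3304 := ded_12_1 (flp_d L28600) L19933 L28600
theorem L28603 : sm gg N3304 = N3304 := ded_36_2 (flp_d L28600) L19936 L28600
theorem L28604 : sm gj N3304 = N2301 := ded_37_2 (flp_d L20022) (flp_j L19937) L28600
theorem L28606 : sm gi N3304 = N2296 := ded_39_2 (flp_d L19975) (flp_i L19940) L28600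
theorem L28608 : sm gf N2292 = N3305 := rfl
theorem L28610 : sm ga N3305 = N3305 := ded_14_1 (flp_f L28608) L19933 L28608
theorem L28611 : sm gc N3305 = N2293 := ded_29_1 (flp_f L19942) (flp_c L19934) L28608
theorem L28613 : sm gj N3305 = N2302 := ded_46_2 (flp_f L20029) (flp_j L19937) L28608
theorem L28615 : sm gh N3305 = N3305 := ded_47_2 (flp_f L28608) L19939 L28608
theorem L28616 : sm gi N3305 = N2297 := ded_48_2 (flp_f L19981) (flp_i L19940) L28608
theorem L28618 : sm ge N3305 = N3305 := ded_40_1 (flp_f L28608) (flp_e L19931) L13929 L19931 L28608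
theorem L28619 : sm gg N2293 = N3306 := rfl
theorem L28621 : sm ga N3306 = N3306 := ded_15_1 (flp_g L28619) L19944 L28619
theorem L28622 : sm gb N3306 = N2506 := ded_23_1 (flp_g L21823) (flp_b L19945) L28619
theorem L28624 : sm ge N3306 = N3306 := ded_41_1 (flp_g L28619) L19952 L28619
theorem L28625 : sm gh N3306 = N3306 := ded_50_2 (flp_g L28619) L19949 L28619
theorem L28626 : sm gi N3306 = N2298 := ded_51_2 (flp_g L19991) (flp_i L19950) L28619
theorem L28628 : sm gf N3306 = N3306 := ded_45_1 (flp_g L28619) (flp_f L19942) L13941 L19942 L28619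
theorem L28629 : sm ge N2294 = N3307 := rfl
theorem L28631 : sm ga N3307 = N2295 := ded_13_1 (flp_e L19964) L19953 L28629
theorem L28633 : sm gb N3307 = N3307 := ded_21_1 (flp_e L28629) L19963 L28629
theorem L28634 : sm gc N3307 = N2507 := ded_28_1 (flp_e L21832) (flp_c L19955) L28629
theorem L28636 : sm gg N3307 = N3307 := ded_41_2 (flp_e L28629) L19958 L28629
theorem L28637 : sm gj N3307 = N2304 := ded_42_2 (flp_e L20049) (flp_j L19959) L28629
theorem L28639 : sm gh N3307 = N2356 := ded_43_2 (flp_e L20480) (flp_h L19961) L28629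
theorem L28641 : sm gd N2295 = N3308 := rfl
theorem L28643 : sm gb N3308 = N2296 := ded_20_1 (flp_d L19975) (flp_b L19966) L28641
theorem L28645 : sm gg N3308 = N3308 := ded_36_2 (flp_d L28641) L19970 L28641
theorem L28646 : sm gj N3308 = N2305 := ded_37_2 (flp_d L20060) (flp_j L19971) L28641
theorem L28648 : sm gf N2295 = N3309 := rfl
theorem L28650 : sm gb N3309 = N2297 := ded_22_1 (flp_f L19981) (flp_b L19966) L28648
theorem L28652 : sm gc N3309 = N2509 := ded_29_1 (flp_f L21851) (flp_c L19968) L28648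
theorem L28654 : sm gj N3309 = N2306 := ded_46_2 (flp_f L20066) (flp_j L19971) L28648
theorem L28656 : sm gh N3309 = N2358 := ded_47_2 (flp_f L20500) (flp_h L19973) L28648
theorem L28658 : sm ge N3309 = N3309 := ded_40_1 (flp_f L28648) (flp_e L19964) L13949 L19964 L28648
theorem L28659 : sm gf N2296 = N3310 := rfl
theorem L28661 : sm ga N3310 = N3310 := ded_14_1 (flp_f L28659) L19977 L28659
theorem L28662 : sm gd N3310 = N2297 := ded_35_1 (flp_f L19981) L19975 L28659
theorem L28664 : sm gj N3310 = N2307 := ded_46_2 (flp_f L20075) (flp_j L19979) L28659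
theorem L28666 : sm gh N2296 = N3311 := rfl
theorem L28668 : sm ga N3311 = N3311 := ded_17_1 (flp_h L28666) L19977 L28666
theorem L28669 : sm gg N3311 = N3311 := ded_50_1 (flp_h L28666) L19978 L28666
theorem L28670 : sm gj N3311 = N2308 := ded_52_1 (flp_h L20080) (flp_j L19979) L28666
theorem L28672 : sm gd N3311 = N2360 := ded_38_1 (flp_h L20519) (flp_d L14327) (flp_h L13965) L19975 L28666
theorem L28674 : sm gg N2297 = N3312 := rfl
theorem L28676 : sm ga N3312 = N3312 := ded_15_1 (flp_g L28674) L19983 L28674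
theorem L28677 : sm gc N3312 = N2298 := ded_30_1 (flp_g L19991) (flp_c L19984) L28674
theorem L28679 : sm ge N3312 = N3312 := ded_41_1 (flp_g L28674) L19990 L28674
theorem L28680 : sm gh N3312 = N2361 := ded_50_2 (flp_g L20527) (flp_h L19988) L28674
theorem L28682 : sm gf N3312 = N3312 := ded_45_1 (flp_g L28674) (flp_f L19981) L13962 L19981 L28674
theorem L28683 : sm gj N2298 = N3313 := rfl
theorem L28685 : sm ga N3313 = N3313 := ded_16_1 (flp_j L28683) L19993 L28683
theorem L28686 : sm gb N3313 = N2513 := ded_24_1 (flp_j L21888) (flp_b L19994) L28683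
theorem L28688 : sm ge N3313 = N3313 := ded_42_1 (flp_j L28683) L19996 L28683
theorem L28689 : sm gf N3313 = N3313 := ded_46_1 (flp_j L28683) L19999 L28683
theorem L28690 : sm gh N3313 = N2362 := ded_52_2 (flp_j L20535) (flp_h L19997) L28683
theorem L28692 : sm gg N3313 = N2310 := ded_49_1 (flp_j L20097) (flp_g L14039) (flp_j L13972) L19991 L28683
theorem L28694 : sm ge N2299 = N3314 := rfl
theorem L28696 : sm ga N3314 = N2300 := ded_13_1 (flp_e L20011) L20000 L28694
theorem L28698 : sm gb N3314 = N3314 := ded_21_1 (flp_e L28694) L20010 L28694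
theorem L28699 : sm gc N3314 = N2514 := ded_28_1 (flp_e L21898) (flp_c L20002) L28694
theorem L28701 : sm gg N3314 = N2311 := ded_41_2 (flp_e L20107) (flp_g L20005) L28694
theorem L28703 : sm gh N3314 = N3314 := ded_43_2 (flp_e L28694) L20007 L28694
theorem L28704 : sm gi N3314 = N2304 := ded_44_2 (flp_e L20049) (flp_i L20008) L28694
theorem L28706 : sm gd N2300 = N3315 := rfl
theorem L28708 : sm gb N3315 = N2301 := ded_20_1 (flp_d L20022) (flp_b L20013) L28706
theorem L28710 : sm gg N3315 = N2312 := ded_36_2 (flp_d L20118) (flp_g L20017) L28706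
theorem L28712 : sm gi N3315 = N2305 := ded_39_2 (flp_d L20060) (flp_i L20020) L28706
theorem L28714 : sm gf N2300 = N3316 := rfl
theorem L28716 : sm gb N3316 = N2302 := ded_22_1 (flp_f L20029) (flp_b L20013) L28714
theorem L28718 : sm gc N3316 = N2516 := ded_29_1 (flp_f L21918) (flp_c L20015) L28714
theorem L28720 : sm gh N3316 = N3316 := ded_47_2 (flp_f L28714) L20019 L28714
theorem L28721 : sm gi N3316 = N2306 := ded_48_2 (flp_f L20066) (flp_i L20020) L28714
theorem L28723 : sm ge N3316 = N3316 := ded_40_1 (flp_f L28714) (flp_e L20011) L13979 L20011 L28714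
theorem L28724 : sm gf N2301 = N3317 := rfl
theorem L28726 : sm ga N3317 = N3317 := ded_14_1 (flp_f L28724) L20024 L28724
theorem L28727 : sm gd N3317 = N2302 := ded_35_1 (flp_f L20029) L20022 L28724
theorem L28729 : sm gi N3317 = N2307 := ded_48_2 (flp_f L20075) (flp_i L20027) L28724
theorem L28731 : sm gh N2301 = N3318 := rfl
theorem L28733 : sm ga N3318 = N3318 := ded_17_1 (flp_h L28731) L20024 L28731
theorem L28734 : sm gg N3318 = N2315 := ded_50_1 (flp_h L20145) (flp_g L20025) L28731
theorem L28736 : sm gd N3318 = N3318 := ded_38_1 (flp_h L28731) (flp_d L20022) L13994 L20022 L28731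
theorem L28737 : sm gg N2302 = N3319 := rfl
theorem L28739 : sm ga N3319 = N3319 := ded_15_1 (flp_g L28737) L20031 L28737
theorem L28740 : sm gc N3319 = N2303 := ded_30_1 (flp_g L20038) (flp_c L20032) L28737
theorem L28742 : sm ge N3319 = N3319 := ded_41_1 (flp_g L28737) L20037 L28737
theorem L28743 : sm gh N3319 = N3319 := ded_50_2 (flp_g L28737) L20034 L28737
theorem L28744 : sm gi N3319 = N2309 := ded_51_2 (flp_g L20087) (flp_i L20035) L28737
theorem L28746 : sm gf N3319 = N2316 := ded_45_1 (flp_g L20150) (flp_f L14076) (flp_g L13992) L20029 L28737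
theorem L28748 : sm gj N2303 = N3320 := rfl
theorem L28750 : sm ga N3320 = N3320 := ded_16_1 (flp_j L28748) L20040 L28748
theorem L28751 : sm gb N3320 = N2520 := ded_24_1 (flp_j L21954) (flp_b L20041) L28748
theorem L28753 : sm ge N3320 = N3320 := ded_42_1 (flp_j L28748) L20043 L28748
theorem L28754 : sm gf N3320 = N2317 := ded_46_1 (flp_j L20160) (flp_f L20047) L28748
theorem L28756 : sm gh N3320 = N3320 := ded_52_2 (flp_j L28748) L20044 L28748
theorem L28757 : sm gi N3320 = N2310 := ded_53_2 (flp_j L20097) (flp_i L20045) L28748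
theorem L28759 : sm gd N2304 = N3321 := rfl
theorem L28761 : sm ga N3321 = N2305 := ded_12_1 (flp_d L20060) (flp_a L20051) L28759
theorem L28763 : sm gb N3321 = N3321 := ded_20_1 (flp_d L28759) L20053 L28759
theorem L28764 : sm gg N3321 = N2318 := ded_36_2 (flp_d L20171) (flp_g L20056) L28759
theorem L28766 : sm gf N2304 = N3322 := rfl
theorem L28768 : sm ga N3322 = N2306 := ded_14_1 (flp_f L20066) (flp_a L20051) L28766
theorem L28770 : sm gb N3322 = N3322 := ded_22_1 (flp_f L28766) L20053 L28766
theorem L28771 : sm gc N3322 = N2522 := ded_29_1 (flp_f L21973) (flp_c L20054) L28766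
theorem L28773 : sm gh N3322 = N2364 := ded_47_2 (flp_f L20555) (flp_h L20058) L28766
theorem L28775 : sm ge N3322 = N3322 := ded_40_1 (flp_f L28766) (flp_e L20049) L14010 L20049 L28766
theorem L28776 : sm gc N2305 = N3323 := rfl
theorem L28778 : sm gg N3323 = N2320 := ded_30_2 (flp_c L20189) (flp_g L20064) L28776
theorem L28780 : sm gd N3323 = N2523 := ded_27_2 (flp_c L21982) (flp_d L15336) (flp_c L14020) L20060 L28776
theorem L28782 : sm gf N2305 = N3324 := rfl
theorem L28784 : sm gb N3324 = N2307 := ded_22_1 (flp_f L20075) (flp_b L20062) L28782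
theorem L28786 : sm gd N3324 = N2306 := ded_35_1 (flp_f L20066) L20060 L28782
theorem L28788 : sm gh N2305 = N3325 := rfl
theorem L28790 : sm gb N3325 = N2308 := ded_25_1 (flp_h L20080) (flp_b L20062) L28788
theorem L28792 : sm gg N3325 = N2322 := ded_50_1 (flp_h L20201) (flp_g L20064) L28788
theorem L28794 : sm gd N3325 = N2367 := ded_38_1 (flp_h L20580) (flp_d L14364) (flp_h L14024) L20060 L28788
theorem L28796 : sm gg N2306 = N3326 := rfl
theorem L28798 : sm gb N3326 = N2309 := ded_23_1 (flp_g L20087) (flp_b L20068) L28796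
theorem L28800 : sm gc N3326 = N2526 := ded_30_1 (flp_g L22002) (flp_c L20070) L28796
theorem L28802 : sm ge N3326 = N3326 := ded_41_1 (flp_g L28796) L20074 L28796
theorem L28803 : sm gh N3326 = N2368 := ded_50_2 (flp_g L20587) (flp_h L20072) L28796
theorem L28805 : sm gf N3326 = N2323 := ded_45_1 (flp_g L20208) (flp_f L14112) (flp_g L14022) L20066 L28796
theorem L28807 : sm ge N2307 = N3327 := rfl
theorem L28809 : sm ga N3327 = N3327 := ded_13_1 (flp_e L28807) L20077 L28807
theorem L28810 : sm gd N3327 = N3327 := ded_34_1 (flp_e L28807) L20078 L14038 (flp_d L20078) L28807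
theorem L28811 : sm gg N2307 = N3328 := rfl
theorem L28813 : sm ga N3328 = N3328 := ded_15_1 (flp_g L28811) L20077 L28811
theorem L28814 : sm gd N3328 = N2309 := ded_36_1 (flp_g L20087) (flp_d L20078) L28811
theorem L28816 : sm gf N3328 = N2325 := ded_45_1 (flp_g L20224) (flp_f L14123) (flp_g L14029) L20075 L28811
theorem L28818 : sm gh N2307 = N3329 := rfl
theorem L28820 : sm ga N3329 = N3329 := ded_17_1 (flp_h L28818) L20077 L28818
theorem L28821 : sm gf N3329 = N2308 := ded_47_1 (flp_h L20080) L20075 L28818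
theorem L28823 : sm gd N3329 = N2371 := ded_38_1 (flp_h L20613) L14384 (flp_h L14036) (flp_d L20078) L28818
theorem L28825 : sm gi N2308 = N3330 := rfl
theorem L28827 : sm ga N3330 = N3330 := ded_18_1 (flp_i L28825) L20082 L28825
theorem L28828 : sm gd N3330 = N2372 := ded_39_1 (flp_i L20619) (flp_d L20085) L28825
theorem L28830 : sm gg N3330 = N2327 := ded_51_1 (flp_i L20237) (flp_g L20083) L28825
theorem L28832 : sm gj N2309 = N3331 := rfl
theorem L28834 : sm ga N3331 = N3331 := ded_16_1 (flp_j L28832) L20089 L28832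
theorem L28835 : sm gc N3331 = N2310 := ded_31_1 (flp_j L20097) (flp_c L20090) L28832
theorem L28837 : sm ge N3331 = N3331 := ded_42_1 (flp_j L28832) L20092 L28832
theorem L28838 : sm gf N3331 = N2328 := ded_46_1 (flp_j L20243) (flp_f L20095) L28832
theorem L28840 : sm gh N3331 = N2373 := ded_52_2 (flp_j L20627) (flp_h L20093) L28832
theorem L28842 : sm gd N2311 = N3332 := rfl
theorem L28844 : sm ga N3332 = N2312 := ded_12_1 (flp_d L20118) (flp_a L20109) L28842
theorem L28846 : sm gb N3332 = N3332 := ded_20_1 (flp_d L28842) L20111 L28842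
theorem L28847 : sm gj N3332 = N3332 := ded_37_2 (flp_d L28842) L20114 L28842
theorem L28848 : sm gi N3332 = N2318 := ded_39_2 (flp_d L20171) (flp_i L20116) L28842
theorem L28850 : sm gf N2311 = N3333 := rfl
theorem L28852 : sm ga N3333 = N2313 := ded_14_1 (flp_f L20125) (flp_a L20109) L28850
theorem L28854 : sm gb N3333 = N3333 := ded_22_1 (flp_f L28850) L20111 L28850
theorem L28855 : sm gc N3333 = N2533 := ded_29_1 (flp_f L22063) (flp_c L20112) L28850
theorem L28857 : sm gj N3333 = N3333 := ded_46_2 (flp_f L28850) L20114 L28850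
theorem L28858 : sm gh N3333 = N3333 := ded_47_2 (flp_f L28850) L20115 L28850
theorem L28859 : sm gi N3333 = N2319 := ded_48_2 (flp_f L20177) (flp_i L20116) L28850
theorem L28861 : sm ge N3333 = N2330 := ded_40_1 (flp_f L20262) (flp_e L14154) (flp_f L14053) L20107 L28850
theorem L28863 : sm gc N2312 = N3334 := rfl
theorem L28865 : sm gj N3334 = N3334 := ded_31_2 (flp_c L28863) L20122 L28863
theorem L28866 : sm gi N3334 = N2320 := ded_33_2 (flp_c L20189) (flp_i L20123) L28863
theorem L28868 : sm gd N3334 = N2534 := ded_27_2 (flp_c L22075) (flp_d L15395) (flp_c L14064) L20118 L28863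
theorem L28870 : sm gf N2312 = N3335 := rfl
theorem L28872 : sm gb N3335 = N2314 := ded_22_1 (flp_f L20137) (flp_b L20120) L28870
theorem L28874 : sm gd N3335 = N2313 := ded_35_1 (flp_f L20125) L20118 L28870
theorem L28876 : sm gj N3335 = N3335 := ded_46_2 (flp_f L28870) L20122 L28870
theorem L28877 : sm gi N3335 = N2321 := ded_48_2 (flp_f L20194) (flp_i L20123) L28870
theorem L28879 : sm gh N2312 = N3336 := rfl
theorem L28881 : sm gb N3336 = N2315 := ded_25_1 (flp_h L20145) (flp_b L20120) L28879
theorem L28883 : sm gj N3336 = N3336 := ded_52_1 (flp_h L28879) L20122 L28879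
theorem L28884 : sm gd N3336 = N3336 := ded_38_1 (flp_h L28879) (flp_d L20118) L14067 L20118 L28879
theorem L28885 : sm gg N2313 = N3337 := rfl
theorem L28887 : sm gb N3337 = N2316 := ded_23_1 (flp_g L20150) (flp_b L20127) L28885
theorem L28889 : sm gc N3337 = N2537 := ded_30_1 (flp_g L22097) (flp_c L20129) L28885
theorem L28891 : sm ge N3337 = N2334 := ded_41_1 (flp_g L20298) (flp_e L20135) L28885
theorem L28893 : sm gh N3337 = N3337 := ded_50_2 (flp_g L28885) L20132 L28885
theorem L28894 : sm gi N3337 = N2323 := ded_51_2 (flp_g L20208) (flp_i L20133) L28885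
theorem L28896 : sm ge N2314 = N3338 := rfl
theorem L28898 : sm ga N3338 = N3338 := ded_13_1 (flp_e L28896) L20139 L28896
theorem L28899 : sm gj N3338 = N3338 := ded_42_2 (flp_e L28896) L20142 L28896
theorem L28900 : sm gi N3338 = N2324 := ded_44_2 (flp_e L20218) (flp_i L20143) L28896
theorem L28902 : sm gd N3338 = N2335 := ded_34_1 (flp_e L20308) L14188 (flp_e L14085) (flp_d L20140) L28896
theorem L28904 : sm gg N2314 = N3339 := rfl
theorem L28906 : sm ga N3339 = N3339 := ded_15_1 (flp_g L28904) L20139 L28904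
theorem L28907 : sm gd N3339 = N2316 := ded_36_1 (flp_g L20150) (flp_d L20140) L28904
theorem L28909 : sm gi N3339 = N2325 := ded_51_2 (flp_g L20224) (flp_i L20143) L28904
theorem L28911 : sm gh N2314 = N3340 := rfl
theorem L28913 : sm ga N3340 = N3340 := ded_17_1 (flp_h L28911) L20139 L28911
theorem L28914 : sm gf N3340 = N2315 := ded_47_1 (flp_h L20145) L20137 L28911
theorem L28916 : sm gj N3340 = N3340 := ded_52_1 (flp_h L28911) L20142 L28911
theorem L28917 : sm gd N3340 = N3340 := ded_38_1 (flp_h L28911) L20140 L14082 (flp_d L20140) L28911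
theorem L28918 : sm gi N2315 = N3341 := rfl
theorem L28920 : sm ga N3341 = N3341 := ded_18_1 (flp_i L28918) L20147 L28918
theorem L28921 : sm gd N3341 = N3341 := ded_39_1 (flp_i L28918) L20149 L28918
theorem L28922 : sm gj N3341 = N3341 := ded_53_1 (flp_i L28918) L20148 L28918
theorem L28923 : sm gh N3341 = N2327 := ded_54_1 (flp_i L20237) (flp_h L14129) (flp_i L14074) L20145 L28918
theorem L28925 : sm gj N2316 = N3342 := rfl
theorem L28927 : sm ga N3342 = N3342 := ded_16_1 (flp_j L28925) L20152 L28925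
theorem L28928 : sm gc N3342 = N2317 := ded_31_1 (flp_j L20160) (flp_c L20153) L28925
theorem L28930 : sm ge N3342 = N2339 := ded_42_1 (flp_j L20341) (flp_e L20155) L28925
theorem L28932 : sm gh N3342 = N3342 := ded_52_2 (flp_j L28925) L20157 L28925
theorem L28933 : sm gi N3342 = N2328 := ded_53_2 (flp_j L20243) (flp_i L20158) L28925
theorem L28935 : sm gg N3342 = N3342 := ded_49_1 (flp_j L28925) (flp_g L20150) L14081 L20150 L28925
theorem L28936 : sm gc N2318 = N3343 := rfl
theorem L28938 : sm ga N3343 = N2320 := ded_11_1 (flp_c L20189) (flp_a L20173) L28936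
theorem L28940 : sm gj N3343 = N3343 := ded_31_2 (flp_c L28936) L20176 L28936
theorem L28941 : sm gd N3343 = N2543 := ded_27_2 (flp_c L22153) (flp_d L15450) (flp_c L14102) L20171 L28936
theorem L28943 : sm gf N2318 = N3344 := rfl
theorem L28945 : sm ga N3344 = N2321 := ded_14_1 (flp_f L20194) (flp_a L20173) L28943
theorem L28947 : sm gb N3344 = N3344 := ded_22_1 (flp_f L28943) L20175 L28943
theorem L28948 : sm gd N3344 = N2319 := ded_35_1 (flp_f L20177) L20171 L28943
theorem L28950 : sm gj N3344 = N3344 := ded_46_2 (flp_f L28943) L20176 L28943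
theorem L28951 : sm gh N2318 = N3345 := rfl
theorem L28953 : sm ga N3345 = N2322 := ded_17_1 (flp_h L20201) (flp_a L20173) L28951
theorem L28955 : sm gb N3345 = N3345 := ded_25_1 (flp_h L28951) L20175 L28951
theorem L28956 : sm gj N3345 = N3345 := ded_52_1 (flp_h L28951) L20176 L28951
theorem L28957 : sm gd N3345 = N2376 := ded_38_1 (flp_h L20654) (flp_d L14413) (flp_h L14105) L20171 L28951
theorem L28959 : sm gg N2319 = N3346 := rfl
theorem L28961 : sm ga N3346 = N2323 := ded_15_1 (flp_g L20208) (flp_a L20179) L28959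
theorem L28963 : sm gb N3346 = N3346 := ded_23_1 (flp_g L28959) L20181 L28959
theorem L28964 : sm gc N3346 = N2546 := ded_30_1 (flp_g L22178) (flp_c L20182) L28959
theorem L28966 : sm ge N3346 = N2343 := ded_41_1 (flp_g L20376) (flp_e L20187) L28959
theorem L28968 : sm gh N3346 = N2377 := ded_50_2 (flp_g L20661) (flp_h L20185) L28959
theorem L28970 : sm gf N2320 = N3347 := rfl
theorem L28972 : sm gc N3347 = N2321 := ded_29_1 (flp_f L20194) L20189 L28970
theorem L28974 : sm gd N3347 = N2547 := ded_35_1 (flp_f L22188) (flp_d L20192) L28970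
theorem L28976 : sm gj N3347 = N3347 := ded_46_2 (flp_f L28970) L20191 L28970
theorem L28977 : sm gh N2320 = N3348 := rfl
theorem L28979 : sm gc N3348 = N2322 := ded_32_1 (flp_h L20201) L20189 L28977
theorem L28981 : sm gj N3348 = N3348 := ded_52_1 (flp_h L28977) L20191 L28977
theorem L28982 : sm ge N2321 = N3349 := rfl
theorem L28984 : sm gb N3349 = N2324 := ded_21_1 (flp_e L20218) (flp_b L20196) L28982
theorem L28986 : sm gj N3349 = N3349 := ded_42_2 (flp_e L28982) L20200 L28982
theorem L28987 : sm gd N3349 = N2346 := ded_34_1 (flp_e L20402) L14248 (flp_e L14121) (flp_d L20198) L28982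
theorem L28989 : sm gg N2321 = N3350 := rfl
theorem L28991 : sm gb N3350 = N2325 := ded_23_1 (flp_g L20224) (flp_b L20196) L28989
theorem L28993 : sm gd N3350 = N2323 := ded_36_1 (flp_g L20208) (flp_d L20198) L28989
theorem L28995 : sm gh N2321 = N3351 := rfl
theorem L28997 : sm gb N3351 = N2326 := ded_25_1 (flp_h L20229) (flp_b L20196) L28995
theorem L28999 : sm gf N3351 = N2322 := ded_47_1 (flp_h L20201) L20194 L28995
theorem L29001 : sm gj N3351 = N3351 := ded_52_1 (flp_h L28995) L20200 L28995
theorem L29002 : sm gd N3351 = N2382 := ded_38_1 (flp_h L20703) L14444 (flp_h L14119) (flp_d L20198) L28995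
theorem L29004 : sm gi N2322 = N3352 := rfl
theorem L29006 : sm gb N3352 = N2327 := ded_26_1 (flp_i L20237) (flp_b L20203) L29004
theorem L29008 : sm gd N3352 = N2383 := ded_39_1 (flp_i L20710) (flp_d L20206) L29004
theorem L29010 : sm gj N3352 = N3352 := ded_53_1 (flp_i L29004) L20205 L29004
theorem L29011 : sm gj N2323 = N3353 := rfl
theorem L29013 : sm gb N3353 = N2328 := ded_24_1 (flp_j L20243) (flp_b L20210) L29011
theorem L29015 : sm gc N3353 = N2553 := ded_31_1 (flp_j L22230) (flp_c L20212) L29011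
theorem L29017 : sm ge N3353 = N2350 := ded_42_1 (flp_j L20431) (flp_e L20214) L29011
theorem L29019 : sm gh N3353 = N2384 := ded_52_2 (flp_j L20717) (flp_h L20216) L29011
theorem L29021 : sm gg N3353 = N3353 := ded_49_1 (flp_j L29011) (flp_g L20208) L14118 L20208 L29011
theorem L29022 : sm gg N2324 = N3354 := rfl
theorem L29024 : sm ga N3354 = N3354 := ded_15_1 (flp_g L29022) L20220 L29022
theorem L29025 : sm gd N3354 = N2351 := ded_36_1 (flp_g L20441) (flp_d L20222) L29022
theorem L29027 : sm ge N3354 = N2325 := ded_41_1 (flp_g L20224) L20218 L29022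
theorem L29029 : sm gh N2324 = N3355 := rfl
theorem L29031 : sm ga N3355 = N3355 := ded_17_1 (flp_h L29029) L20220 L29029
theorem L29032 : sm ge N3355 = N2326 := ded_43_1 (flp_h L20229) L20218 L29029
theorem L29034 : sm gj N3355 = N3355 := ded_52_1 (flp_h L29029) L20221 L29029
theorem L29035 : sm gj N2325 = N3356 := rfl
theorem L29037 : sm ga N3356 = N3356 := ded_16_1 (flp_j L29035) L20226 L29035
theorem L29038 : sm gd N3356 = N2328 := ded_37_1 (flp_j L20243) (flp_d L20227) L29035
theorem L29040 : sm gg N3356 = N3356 := ded_49_1 (flp_j L29035) (flp_g L20224) L14128 L20224 L29035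
theorem L29041 : sm gh N2325 = N3357 := rfl
theorem L29043 : sm ga N3357 = N3357 := ded_17_1 (flp_h L29041) L20226 L29041
theorem L29044 : sm gg N3357 = N2326 := ded_50_1 (flp_h L20229) L20224 L29041
theorem L29046 : sm gd N3357 = N2388 := ded_38_1 (flp_h L20752) L14476 (flp_h L14142) (flp_d L20227) L29041
theorem L29048 : sm gi N2326 = N3358 := rfl
theorem L29050 : sm ga N3358 = N3358 := ded_18_1 (flp_i L29048) L20231 L29048
theorem L29051 : sm gd N3358 = N2389 := ded_39_1 (flp_i L20758) (flp_d L20235) L29048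
theorem L29053 : sm gf N3358 = N2327 := ded_48_1 (flp_i L20237) (flp_f L20232) L29048
theorem L29055 : sm gj N3358 = N3358 := ded_53_1 (flp_i L29048) L20234 L29048
theorem L29056 : sm gc N2329 = N3359 := rfl
theorem L29058 : sm ga N3359 = N2331 := ded_11_1 (flp_c L20273) (flp_a L20255) L29056
theorem L29062 : sm gi N3359 = N2340 := ded_33_2 (flp_c L20351) (flp_i L20260) L29056
theorem L29064 : sm gd N3359 = N2559 := ded_27_2 (flp_c L22280) (flp_d L15538) (flp_c L14159) L20253 L29056
theorem L29066 : sm gf N2329 = N3360 := rfl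
theorem L29068 : sm ga N3360 = N2332 := ded_14_1 (flp_f L20282) (flp_a L20255) L29066
theorem L29070 : sm gb N3360 = N3360 := ded_22_1 (flp_f L29066) L20257 L29066
theorem L29071 : sm gd N3360 = N2330 := ded_35_1 (flp_f L20262) L20253 L29066
theorem L29073 : sm gj N3360 = N3360 := ded_46_2 (flp_f L29066) L20259 L29066
theorem L29074 : sm gi N3360 = N2341 := ded_48_2 (flp_f L20359) (flp_i L20260) L29066
theorem L29076 : sm gh N2329 = N3361 := rfl
theorem L29078 : sm ga N3361 = N2333 := ded_17_1 (flp_h L20291) (flp_a L20255) L29076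
theorem L29084 : sm gg N2330 = N3362 := rfl
theorem L29086 : sm ga N3362 = N2334 := ded_15_1 (flp_g L20298) (flp_a L20264) L29084
theorem L29088 : sm gb N3362 = N3362 := ded_23_1 (flp_g L29084) L20266 L29084
theorem L29089 : sm gc N3362 = N2562 := ded_30_1 (flp_g L22311) (flp_c L20267) L29084
theorem L29091 : sm gh N3362 = N3362 := ded_50_2 (flp_g L29084) L20270 L29084
theorem L29092 : sm gi N3362 = N2343 := ded_51_2 (flp_g L20376) (flp_i L20271) L29084
theorem L29094 : sm gf N3362 = N3362 := ded_45_1 (flp_g L29084) (flp_f L20262) L14161 L20262 L29084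
theorem L29095 : sm gf N2331 = N3363 := rfl
theorem L29097 : sm gb N3363 = N3363 := ded_22_1 (flp_f L29095) L20279 L29095
theorem L29098 : sm gc N3363 = N2332 := ded_29_1 (flp_f L20282) L20273 L29095
theorem L29100 : sm gd N3363 = N2563 := ded_35_1 (flp_f L22321) (flp_d L20280) L29095
theorem L29102 : sm gj N3363 = N3363 := ded_46_2 (flp_f L29095) L20276 L29095
theorem L29103 : sm gi N3363 = N2344 := ded_48_2 (flp_f L20386) (flp_i L20277) L29095
theorem L29105 : sm gh N2331 = N3364 := rfl
theorem L29108 : sm gc N3364 = N2333 := ded_32_1 (flp_h L20291) L20273 L29105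
theorem L29112 : sm ge N2332 = N3365 := rfl
theorem L29114 : sm gb N3365 = N2335 := ded_21_1 (flp_e L20308) (flp_b L20284) L29112
theorem L29116 : sm gj N3365 = N3365 := ded_42_2 (flp_e L29112) L20288 L29112
theorem L29117 : sm gi N3365 = N2346 := ded_44_2 (flp_e L20402) (flp_i L20289) L29112
theorem L29119 : sm gg N2332 = N3366 := rfl
theorem L29121 : sm gb N3366 = N2336 := ded_23_1 (flp_g L20315) (flp_b L20284) L29119
theorem L29123 : sm gd N3366 = N2334 := ded_36_1 (flp_g L20298) (flp_d L20286) L29119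
theorem L29125 : sm gi N3366 = N2347 := ded_51_2 (flp_g L20407) (flp_i L20289) L29119
theorem L29127 : sm gf N3366 = N3366 := ded_45_1 (flp_g L29119) (flp_f L20282) L14170 L20282 L29119
theorem L29128 : sm gh N2332 = N3367 := rfl
theorem L29130 : sm gb N3367 = N2337 := ded_25_1 (flp_h L20324) (flp_b L20284) L29128
theorem L29132 : sm gf N3367 = N2333 := ded_47_1 (flp_h L20291) L20282 L29128
theorem L29134 : sm gj N3367 = N3367 := ded_52_1 (flp_h L29128) L20288 L29128
theorem L29135 : sm gd N3367 = N3367 := ded_38_1 (flp_h L29128) L20286 L14181 (flp_d L20286) L29128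
theorem L29136 : sm gi N2333 = N3368 := rfl
theorem L29145 : sm gj N2334 = N3369 := rfl
theorem L29147 : sm gb N3369 = N2339 := ded_24_1 (flp_j L20341) (flp_b L20300) L29145
theorem L29149 : sm gc N3369 = N2568 := ded_31_1 (flp_j L22364) (flp_c L20302) L29145
theorem L29151 : sm gf N3369 = N3369 := ded_46_1 (flp_j L29145) L20307 L29145
theorem L29152 : sm gh N3369 = N3369 := ded_52_2 (flp_j L29145) L20304 L29145
theorem L29153 : sm gi N3369 = N2350 := ded_53_2 (flp_j L20431) (flp_i L20305) L29145
theorem L29155 : sm gg N3369 = N3369 := ded_49_1 (flp_j L29145) (flp_g L20298) L14180 L20298 L29145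
theorem L29156 : sm gg N2335 = N3370 := rfl
theorem L29158 : sm ga N3370 = N3370 := ded_15_1 (flp_g L29156) L20310 L29156
theorem L29159 : sm gc N3370 = N3370 := ded_30_1 (flp_g L29156) L20311 L29156
theorem L29160 : sm ge N3370 = N2336 := ded_41_1 (flp_g L20315) L20308 L29156
theorem L29162 : sm gi N3370 = N2351 := ded_51_2 (flp_g L20441) (flp_i L20313) L29156
theorem L29164 : sm gh N2335 = N3371 := rfl
theorem L29166 : sm ga N3371 = N3371 := ded_17_1 (flp_h L29164) L20310 L29164
theorem L29167 : sm gc N3371 = N3371 := ded_32_1 (flp_h L29164) L20311 L29164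
theorem L29168 : sm ge N3371 = N2337 := ded_43_1 (flp_h L20324) L20308 L29164
theorem L29170 : sm gj N3371 = N3371 := ded_52_1 (flp_h L29164) L20312 L29164
theorem L29171 : sm gj N2336 = N3372 := rfl
theorem L29173 : sm ga N3372 = N3372 := ded_16_1 (flp_j L29171) L20317 L29171
theorem L29174 : sm gc N3372 = N3372 := ded_31_1 (flp_j L29171) L20318 L29171
theorem L29175 : sm gd N3372 = N2339 := ded_37_1 (flp_j L20341) (flp_d L20319) L29171
theorem L29177 : sm gf N3372 = N3372 := ded_46_1 (flp_j L29171) L20323 L29171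
theorem L29178 : sm gi N3372 = N2353 := ded_53_2 (flp_j L20454) (flp_i L20321) L29171
theorem L29180 : sm gg N3372 = N3372 := ded_49_1 (flp_j L29171) (flp_g L20315) L14190 L20315 L29171
theorem L29181 : sm gh N2336 = N3373 := rfl
theorem L29183 : sm ga N3373 = N3373 := ded_17_1 (flp_h L29181) L20317 L29181
theorem L29184 : sm gc N3373 = N3373 := ded_32_1 (flp_h L29181) L20318 L29181
theorem L29185 : sm gf N3373 = N3373 := ded_47_1 (flp_h L29181) L20323 L29181
theorem L29186 : sm gg N3373 = N2337 := ded_50_1 (flp_h L20324) L20315 L29181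
theorem L29188 : sm gd N3373 = N3373 := ded_38_1 (flp_h L29181) L20319 L14205 (flp_d L20319) L29181
theorem L29189 : sm gi N2337 = N3374 := rfl
theorem L29191 : sm ga N3374 = N3374 := ded_18_1 (flp_i L29189) L20326 L29189
theorem L29192 : sm gc N3374 = N3374 := ded_33_1 (flp_i L29189) L20327 L29189
theorem L29193 : sm gd N3374 = N3374 := ded_39_1 (flp_i L29189) L20331 L29189
theorem L29194 : sm gf N3374 = N2338 := ded_48_1 (flp_i L20332) (flp_f L20328) L29189
theorem L29196 : sm gj N3374 = N3374 := ded_53_1 (flp_i L29189) L20330 L29189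
theorem L29197 : sm gh N3374 = N2355 := ded_54_1 (flp_i L20471) (flp_h L14280) (flp_i L14191) L20324 L29189
theorem L29199 : sm gb N2340 = N3375 := rfl
theorem L29201 : sm gd N3375 = N2573 := ded_20_2 (flp_b L22413) (flp_d L20357) L29199
theorem L29207 : sm gf N2340 = N3376 := rfl
theorem L29209 : sm ga N3376 = N2344 := ded_14_1 (flp_f L20386) (flp_a L20353) L29207
theorem L29211 : sm gc N3376 = N2341 := ded_29_1 (flp_f L20359) L20351 L29207
theorem L29213 : sm gd N3376 = N2574 := ded_35_1 (flp_f L22422) (flp_d L20357) L29207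
theorem L29215 : sm gj N3376 = N3376 := ded_46_2 (flp_f L29207) L20356 L29207
theorem L29216 : sm gh N2340 = N3377 := rfl
theorem L29218 : sm ga N3377 = N2345 := ded_17_1 (flp_h L20394) (flp_a L20353) L29216
theorem L29220 : sm gc N3377 = N2342 := ded_32_1 (flp_h L20367) L20351 L29216
theorem L29225 : sm ge N2341 = N3378 := rfl
theorem L29227 : sm ga N3378 = N2346 := ded_13_1 (flp_e L20402) (flp_a L20361) L29225
theorem L29229 : sm gb N3378 = N3378 := ded_21_1 (flp_e L29225) L20363 L29225
theorem L29230 : sm gj N3378 = N3378 := ded_42_2 (flp_e L29225) L20366 L29225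
theorem L29231 : sm gg N2341 = N3379 := rfl
theorem L29233 : sm ga N3379 = N2347 := ded_15_1 (flp_g L20407) (flp_a L20361) L29231
theorem L29235 : sm gb N3379 = N3379 := ded_23_1 (flp_g L29231) L20363 L29231
theorem L29236 : sm gd N3379 = N2343 := ded_36_1 (flp_g L20376) (flp_d L20364) L29231
theorem L29238 : sm gf N3379 = N3379 := ded_45_1 (flp_g L29231) (flp_f L20359) L14225 L20359 L29231
theorem L29239 : sm gh N2341 = N3380 := rfl
theorem L29241 : sm ga N3380 = N2348 := ded_17_1 (flp_h L20414) (flp_a L20361) L29239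
theorem L29243 : sm gb N3380 = N3380 := ded_25_1 (flp_h L29239) L20363 L29239
theorem L29244 : sm gf N3380 = N2342 := ded_47_1 (flp_h L20367) L20359 L29239
theorem L29246 : sm gj N3380 = N3380 := ded_52_1 (flp_h L29239) L20366 L29239
theorem L29247 : sm gd N3380 = N2392 := ded_38_1 (flp_h L20785) L14508 (flp_h L14235) (flp_d L20364) L29239
theorem L29249 : sm gi N2342 = N3381 := rfl
theorem L29258 : sm gj N2343 = N3382 := rfl
theorem L29260 : sm ga N3382 = N2350 := ded_16_1 (flp_j L20431) (flp_a L20378) L29258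
theorem L29262 : sm gb N3382 = N3382 := ded_24_1 (flp_j L29258) L20380 L29258
theorem L29263 : sm gc N3382 = N2577 := ded_31_1 (flp_j L22449) (flp_c L20381) L29258
theorem L29265 : sm gf N3382 = N3382 := ded_46_1 (flp_j L29258) L20385 L29258
theorem L29266 : sm gh N3382 = N2394 := ded_52_2 (flp_j L20804) (flp_h L20383) L29258
theorem L29268 : sm gg N3382 = N3382 := ded_49_1 (flp_j L29258) (flp_g L20376) L14234 L20376 L29258
theorem L29269 : sm ge N2344 = N3383 := rfl
theorem L29271 : sm gb N3383 = N3383 := ded_21_1 (flp_e L29269) L20388 L29269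
theorem L29272 : sm gc N3383 = N2346 := ded_28_1 (flp_e L20402) (flp_c L20389) L29269
theorem L29274 : sm gj N3383 = N3383 := ded_42_2 (flp_e L29269) L20393 L29269
theorem L29275 : sm gg N2344 = N3384 := rfl
theorem L29277 : sm gb N3384 = N3384 := ded_23_1 (flp_g L29275) L20388 L29275
theorem L29278 : sm gc N3384 = N2347 := ded_30_1 (flp_g L20407) (flp_c L20389) L29275
theorem L29280 : sm gd N3384 = N2579 := ded_36_1 (flp_g L22467) (flp_d L20391) L29275
theorem L29282 : sm gf N3384 = N3384 := ded_45_1 (flp_g L29275) (flp_f L20386) L14239 L20386 L29275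
theorem L29283 : sm gh N2344 = N3385 := rfl
theorem L29285 : sm gb N3385 = N3385 := ded_25_1 (flp_h L29283) L20388 L29283
theorem L29286 : sm gc N3385 = N2348 := ded_32_1 (flp_h L20414) (flp_c L20389) L29283
theorem L29288 : sm gf N3385 = N2345 := ded_47_1 (flp_h L20394) L20386 L29283
theorem L29290 : sm gj N3385 = N3385 := ded_52_1 (flp_h L29283) L20393 L29283
theorem L29291 : sm gd N3385 = N3385 := ded_38_1 (flp_h L29283) L20391 L15666 (flp_d L20391) L29283
theorem L29292 : sm gi N2345 = N3386 := rfl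
theorem L29300 : sm gg N2346 = N3387 := rfl
theorem L29302 : sm gb N3387 = N2351 := ded_23_1 (flp_g L20441) (flp_b L20404) L29300
theorem L29304 : sm ge N3387 = N2347 := ded_41_1 (flp_g L20407) L20402 L29300
theorem L29306 : sm gh N2346 = N3388 := rfl
theorem L29308 : sm gb N3388 = N2352 := ded_25_1 (flp_h L20447) (flp_b L20404) L29306
theorem L29310 : sm ge N3388 = N2348 := ded_43_1 (flp_h L20414) L20402 L29306
theorem L29312 : sm gj N3388 = N3388 := ded_52_1 (flp_h L29306) L20406 L29306
theorem L29313 : sm gj N2347 = N3389 := rfl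
theorem L29315 : sm gb N3389 = N2353 := ded_24_1 (flp_j L20454) (flp_b L20409) L29313
theorem L29317 : sm gd N3389 = N2350 := ded_37_1 (flp_j L20431) (flp_d L20411) L29313
theorem L29319 : sm gf N3389 = N3389 := ded_46_1 (flp_j L29313) L20413 L29313
theorem L29320 : sm gg N3389 = N3389 := ded_49_1 (flp_j L29313) (flp_g L20407) L14250 L20407 L29313
theorem L29321 : sm gh N2347 = N3390 := rfl
theorem L29323 : sm gb N3390 = N2354 := ded_25_1 (flp_h L20462) (flp_b L20409) L29321
theorem L29325 : sm gf N3390 = N3390 := ded_47_1 (flp_h L29321) L20413 L29321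
theorem L29326 : sm gg N3390 = N2348 := ded_50_1 (flp_h L20414) L20407 L29321
theorem L29328 : sm gd N3390 = N2398 := ded_38_1 (flp_h L20841) L14543 (flp_h L14265) (flp_d L20411) L29321
theorem L29330 : sm gi N2348 = N3391 := rfl
theorem L29332 : sm gb N3391 = N2355 := ded_26_1 (flp_i L20471) (flp_b L20416) L29330
theorem L29334 : sm gd N3391 = N2399 := ded_39_1 (flp_i L20849) (flp_d L20421) L29330
theorem L29336 : sm gf N3391 = N2349 := ded_48_1 (flp_i L20423) (flp_f L20418) L29330
theorem L29338 : sm gj N3391 = N3391 := ded_53_1 (flp_i L29330) L20420 L29330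
theorem L29339 : sm gf N2351 = N3392 := rfl
theorem L29341 : sm ga N3392 = N3392 := ded_14_1 (flp_f L29339) L20443 L29339
theorem L29342 : sm gc N3392 = N3392 := ded_29_1 (flp_f L29339) L20444 L29339
theorem L29343 : sm ge N3392 = N3392 := ded_40_1 (flp_f L29339) L20445 L14279 (flp_e L20445) L29339
theorem L29344 : sm gj N2351 = N3393 := rfl
theorem L29346 : sm ga N3393 = N3393 := ded_16_1 (flp_j L29344) L20443 L29344
theorem L29347 : sm gc N3393 = N3393 := ded_31_1 (flp_j L29344) L20444 L29344
theorem L29348 : sm ge N3393 = N2353 := ded_42_1 (flp_j L20454) (flp_e L20445) L29344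
theorem L29350 : sm gg N3393 = N3393 := ded_49_1 (flp_j L29344) (flp_g L20441) L14272 L20441 L29344
theorem L29351 : sm gh N2351 = N3394 := rfl
theorem L29353 : sm ga N3394 = N3394 := ded_17_1 (flp_h L29351) L20443 L29351
theorem L29354 : sm gc N3394 = N3394 := ded_32_1 (flp_h L29351) L20444 L29351
theorem L29355 : sm ge N3394 = N2354 := ded_43_1 (flp_h L20462) (flp_e L20445) L29351
theorem L29357 : sm gg N3394 = N2352 := ded_50_1 (flp_h L20447) L20441 L29351
theorem L29359 : sm gd N2352 = N3395 := rfl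
theorem L29361 : sm ga N3395 = N3395 := ded_12_1 (flp_d L29359) L20449 L29359
theorem L29362 : sm gj N3395 = N3395 := ded_37_2 (flp_d L29359) L20453 L29359
theorem L29363 : sm ge N3395 = N2403 := ded_34_2 (flp_d L20884) L14586 (flp_d L14287) (flp_e L20451) L29359
theorem L29365 : sm gi N2352 = N3396 := rfl
theorem L29367 : sm ga N3396 = N3396 := ded_18_1 (flp_i L29365) L20449 L29365
theorem L29368 : sm gc N3396 = N3396 := ded_33_1 (flp_i L29365) L20450 L29365
theorem L29369 : sm ge N3396 = N2355 := ded_44_1 (flp_i L20471) (flp_e L20451) L29365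
theorem L29371 : sm gj N3396 = N3396 := ded_53_1 (flp_i L29365) L20453 L29365
theorem L29372 : sm gh N2353 = N3397 := rfl
theorem L29374 : sm ga N3397 = N3397 := ded_17_1 (flp_h L29372) L20456 L29372
theorem L29375 : sm gc N3397 = N3397 := ded_32_1 (flp_h L29372) L20457 L29372
theorem L29376 : sm gf N3397 = N3397 := ded_47_1 (flp_h L29372) L20460 L29372
theorem L29377 : sm gg N3397 = N3397 := ded_50_1 (flp_h L29372) L20461 L29372
theorem L29378 : sm gj N3397 = N2354 := ded_52_1 (flp_h L20462) L20454 L29372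
theorem L29380 : sm gd N3397 = N2405 := ded_38_1 (flp_h L20899) L14595 (flp_h L14303) (flp_d L20458) L29372
theorem L29382 : sm gi N2354 = N3398 := rfl
theorem L29384 : sm ga N3398 = N3398 := ded_18_1 (flp_i L29382) L20464 L29382
theorem L29385 : sm gc N3398 = N3398 := ded_33_1 (flp_i L29382) L20465 L29382
theorem L29386 : sm gd N3398 = N2406 := ded_39_1 (flp_i L20908) (flp_d L20469) L29382
theorem L29388 : sm gf N3398 = N3398 := ded_48_1 (flp_i L29382) L20466 L29382
theorem L29389 : sm gg N3398 = N2355 := ded_51_1 (flp_i L20471) (flp_g L20467) L29382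
theorem L29391 : sm gd N2356 = N3399 := rfl
theorem L29393 : sm ga N3399 = N2357 := ded_12_1 (flp_d L20491) (flp_a L20482) L29391
theorem L29395 : sm gb N3399 = N3399 := ded_20_1 (flp_d L29391) L20484 L29391
theorem L29396 : sm gg N3399 = N3399 := ded_36_2 (flp_d L29391) L20487 L29391
theorem L29397 : sm gj N3399 = N2363 := ded_37_2 (flp_d L20546) (flp_j L20488) L29391
theorem L29399 : sm gi N3399 = N3399 := ded_39_2 (flp_d L29391) L20490 L29391
theorem L29400 : sm ge N3399 = N3399 := ded_34_2 (flp_d L29391) (flp_e L20480) L14310 L20480 L29391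
theorem L29401 : sm gf N2356 = N3400 := rfl
theorem L29403 : sm ga N3400 = N2358 := ded_14_1 (flp_f L20500) (flp_a L20482) L29401
theorem L29405 : sm gb N3400 = N3400 := ded_22_1 (flp_f L29401) L20484 L29401

end Cfsg.Agent.Helper28.FicA
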