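import Cfsg.Agent.Helper28.FicB10

/-! # The Fi₂₃ presentation, cosets of the subgroup generated by a, …, i: the coset enumeration, part 11 (helper28; generated) -/

set_option autoImplicit false

noncomputable section

namespace Cfsg.Agent.Helper28.FicA

open Cfsg.Agent.Helper28.CosetTable

theorem L29406 : sm gc N3400 = N2585 := ded_29_1 (flp_f L22519) (flp_c L20485) L29401
theorem L29408 : sm gj N3400 = N2364 := ded_46_2 (flp_f L20555) (flp_j L20488) L29401
theorem L29410 : sm gi N3400 = N3400 := ded_48_2 (flp_f L29401) L20490 L29401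
theorem L29411 : sm ge N3400 = N3400 := ded_40_1 (flp_f L29401) (flp_e L20480) L14311 L20480 L29401
theorem L29412 : sm gc N2357 = N3401 := rfl
theorem L29414 : sm ge N3401 = N3401 := ded_28_2 (flp_c L29412) L20499 L29412
theorem L29415 : sm gg N3401 = N3401 := ded_30_2 (flp_c L29412) L20495 L29412
theorem L29416 : sm gj N3401 = N2365 := ded_31_2 (flp_c L20564) (flp_j L20496) L29412
theorem L29418 : sm gi N3401 = N3401 := ded_33_2 (flp_c L29412) L20498 L29412
theorem L29419 : sm gb N3401 = N3401 := ded_19_1 (flp_c L29412) L20493 L14334 (flp_b L20493) L29412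
theorem L29420 : sm gd N3401 = N2586 := ded_27_2 (flp_c L22529) (flp_d L15718) (flp_c L14321) L20491 L29412
theorem L29422 : sm gf N2357 = N3402 := rfl
theorem L29424 : sm gb N3402 = N2359 := ded_22_1 (flp_f L20510) (flp_b L20493) L29422
theorem L29426 : sm gd N3402 = N2358 := ded_35_1 (flp_f L20500) L20491 L29422
theorem L29428 : sm gj N3402 = N2366 := ded_46_2 (flp_f L20573) (flp_j L20496) L29422
theorem L29430 : sm gi N3402 = N3402 := ded_48_2 (flp_f L29422) L20498 L29422
theorem L29431 : sm gh N2357 = N3403 := rfl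
theorem L29433 : sm gb N3403 = N2360 := ded_25_1 (flp_h L20519) (flp_b L20493) L29431
theorem L29435 : sm ge N3403 = N3403 := ded_43_1 (flp_h L29431) L20499 L29431
theorem L29436 : sm gg N3403 = N3403 := ded_50_1 (flp_h L29431) L20495 L29431
theorem L29437 : sm gj N3403 = N2367 := ded_52_1 (flp_h L20580) (flp_j L20496) L29431
theorem L29439 : sm gg N2358 = N3404 := rfl
theorem L29441 : sm gb N3404 = N2361 := ded_23_1 (flp_g L20527) (flp_b L20502) L29439
theorem L29443 : sm gc N3404 = N2589 := ded_30_1 (flp_g L22556) (flp_c L20504) L29439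
theorem L29445 : sm ge N3404 = N3404 := ded_41_1 (flp_g L29439) L20509 L29439
theorem L29446 : sm gi N3404 = N3404 := ded_51_2 (flp_g L29439) L20508 L29439
theorem L29447 : sm gf N3404 = N3404 := ded_45_1 (flp_g L29439) (flp_f L20500) L14323 L20500 L29439
theorem L29448 : sm ge N2359 = N3405 := rfl
theorem L29450 : sm ga N3405 = N3405 := ded_13_1 (flp_e L29448) L20512 L29448
theorem L29451 : sm gc N3405 = N3405 := ded_28_1 (flp_e L29448) L20513 L29448
theorem L29452 : sm gj N3405 = N2369 := ded_42_2 (flp_e L20597) (flp_j L20516) L29448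
theorem L29454 : sm gi N3405 = N3405 := ded_44_2 (flp_e L29448) L20518 L29448
theorem L29455 : sm gd N3405 = N3405 := ded_34_1 (flp_e L29448) L20514 L14344 (flp_d L20514) L29448
theorem L29456 : sm gf N3405 = N3405 := ded_40_2 (flp_e L29448) (flp_f L20510) L14335 L20510 L29448
theorem L29457 : sm gg N2359 = N3406 := rfl
theorem L29459 : sm ga N3406 = N3406 := ded_15_1 (flp_g L29457) L20512 L29457
theorem L29460 : sm gc N3406 = N3406 := ded_30_1 (flp_g L29457) L20513 L29457
theorem L29461 : sm gd N3406 = N2361 := ded_36_1 (flp_g L20527) (flp_d L20514) L29457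
theorem L29463 : sm gi N3406 = N3406 := ded_51_2 (flp_g L29457) L20518 L29457
theorem L29464 : sm gf N3406 = N3406 := ded_45_1 (flp_g L29457) (flp_f L20510) L14330 L20510 L29457
theorem L29465 : sm gh N2359 = N3407 := rfl
theorem L29467 : sm ga N3407 = N3407 := ded_17_1 (flp_h L29465) L20512 L29465
theorem L29468 : sm gc N3407 = N3407 := ded_32_1 (flp_h L29465) L20513 L29465
theorem L29469 : sm gf N3407 = N2360 := ded_47_1 (flp_h L20519) L20510 L29465
theorem L29471 : sm gj N3407 = N2371 := ded_52_1 (flp_h L20613) (flp_j L20516) L29465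
theorem L29473 : sm gi N2360 = N3408 := rfl
theorem L29475 : sm ga N3408 = N3408 := ded_18_1 (flp_i L29473) L20521 L29473
theorem L29476 : sm gc N3408 = N3408 := ded_33_1 (flp_i L29473) L20522 L29473
theorem L29477 : sm ge N3408 = N3408 := ded_44_1 (flp_i L29473) L20523 L29473
theorem L29478 : sm gg N3408 = N3408 := ded_51_1 (flp_i L29473) L20524 L29473
theorem L29479 : sm gj N3408 = N2372 := ded_53_1 (flp_i L20619) (flp_j L20525) L29473
theorem L29481 : sm gh N3408 = N3408 := ded_54_1 (flp_i L29473) (flp_h L20519) L14333 L20519 L29473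
theorem L29482 : sm gj N2361 = N3409 := rfl
theorem L29484 : sm ga N3409 = N3409 := ded_16_1 (flp_j L29482) L20529 L29482
theorem L29485 : sm gc N3409 = N2362 := ded_31_1 (flp_j L20535) (flp_c L20530) L29482
theorem L29487 : sm ge N3409 = N3409 := ded_42_1 (flp_j L29482) L20532 L29482
theorem L29488 : sm gf N3409 = N3409 := ded_46_1 (flp_j L29482) L20534 L29482
theorem L29489 : sm gi N3409 = N3409 := ded_53_2 (flp_j L29482) L20533 L29482
theorem L29490 : sm gg N3409 = N2373 := ded_49_1 (flp_j L20627) (flp_g L14394) (flp_j L14341) L20527 L29482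
theorem L29492 : sm gc N2363 = N3410 := rfl
theorem L29494 : sm ga N3410 = N2365 := ded_11_1 (flp_c L20564) (flp_a L20548) L29492
theorem L29496 : sm ge N3410 = N3410 := ded_28_2 (flp_c L29492) L20554 L29492
theorem L29497 : sm gg N3410 = N2374 := ded_30_2 (flp_c L20636) (flp_g L20551) L29492
theorem L29499 : sm gi N3410 = N3410 := ded_33_2 (flp_c L29492) L20553 L29492
theorem L29500 : sm gd N3410 = N2595 := ded_27_2 (flp_c L22614) (flp_d L15775) (flp_c L14359) L20546 L29492
theorem L29502 : sm gf N2363 = N3411 := rfl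
theorem L29504 : sm ga N3411 = N2366 := ded_14_1 (flp_f L20573) (flp_a L20548) L29502
theorem L29506 : sm gb N3411 = N3411 := ded_22_1 (flp_f L29502) L20550 L29502
theorem L29507 : sm gd N3411 = N2364 := ded_35_1 (flp_f L20555) L20546 L29502
theorem L29509 : sm gi N3411 = N3411 := ded_48_2 (flp_f L29502) L20553 L29502
theorem L29510 : sm gh N2363 = N3412 := rfl
theorem L29512 : sm ga N3412 = N2367 := ded_17_1 (flp_h L20580) (flp_a L20548) L29510
theorem L29514 : sm gb N3412 = N3412 := ded_25_1 (flp_h L29510) L20550 L29510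
theorem L29515 : sm ge N3412 = N3412 := ded_43_1 (flp_h L29510) L20554 L29510
theorem L29516 : sm gg N3412 = N2376 := ded_50_1 (flp_h L20654) (flp_g L20551) L29510
theorem L29518 : sm gg N2364 = N3413 := rfl
theorem L29520 : sm ga N3413 = N2368 := ded_15_1 (flp_g L20587) (flp_a L20557) L29518
theorem L29522 : sm gb N3413 = N3413 := ded_23_1 (flp_g L29518) L20559 L29518
theorem L29523 : sm gc N3413 = N2598 := ded_30_1 (flp_g L22642) (flp_c L20560) L29518
theorem L29525 : sm ge N3413 = N3413 := ded_41_1 (flp_g L29518) L20563 L29518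
theorem L29526 : sm gi N3413 = N3413 := ded_51_2 (flp_g L29518) L20562 L29518
theorem L29527 : sm gf N3413 = N2377 := ded_45_1 (flp_g L20661) (flp_f L14421) (flp_g L14361) L20555 L29518
theorem L29529 : sm gf N2365 = N3414 := rfl
theorem L29531 : sm gb N3414 = N3414 := ded_22_1 (flp_f L29529) L20570 L29529
theorem L29532 : sm gc N3414 = N2366 := ded_29_1 (flp_f L20573) L20564 L29529
theorem L29534 : sm gd N3414 = N2599 := ded_35_1 (flp_f L22652) (flp_d L20571) L29529
theorem L29536 : sm gi N3414 = N3414 := ded_48_2 (flp_f L29529) L20569 L29529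
theorem L29537 : sm gh N2365 = N3415 := rfl
theorem L29539 : sm gb N3415 = N3415 := ded_25_1 (flp_h L29537) L20570 L29537
theorem L29540 : sm gc N3415 = N2367 := ded_32_1 (flp_h L20580) L20564 L29537
theorem L29542 : sm ge N3415 = N3415 := ded_43_1 (flp_h L29537) L20566 L29537
theorem L29543 : sm gg N3415 = N2379 := ded_50_1 (flp_h L20680) (flp_g L20567) L29537
theorem L29545 : sm ge N2366 = N3416 := rfl
theorem L29547 : sm gb N3416 = N2369 := ded_21_1 (flp_e L20597) (flp_b L20575) L29545
theorem L29549 : sm gi N3416 = N3416 := ded_44_2 (flp_e L29545) L20579 L29545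
theorem L29550 : sm gd N3416 = N3416 := ded_34_1 (flp_e L29545) L20577 L14379 (flp_d L20577) L29545
theorem L29551 : sm gf N3416 = N3416 := ded_40_2 (flp_e L29545) (flp_f L20573) L14371 L20573 L29545
theorem L29552 : sm gg N2366 = N3417 := rfl
theorem L29554 : sm gb N3417 = N2370 := ded_23_1 (flp_g L20604) (flp_b L20575) L29552
theorem L29556 : sm gd N3417 = N2368 := ded_36_1 (flp_g L20587) (flp_d L20577) L29552
theorem L29558 : sm gi N3417 = N3417 := ded_51_2 (flp_g L29552) L20579 L29552
theorem L29559 : sm gf N3417 = N2381 := ded_45_1 (flp_g L20696) (flp_f L14440) (flp_g L14368) L20573 L29552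
theorem L29561 : sm gh N2366 = N3418 := rfl
theorem L29563 : sm gb N3418 = N2371 := ded_25_1 (flp_h L20613) (flp_b L20575) L29561
theorem L29565 : sm gf N3418 = N2367 := ded_47_1 (flp_h L20580) L20573 L29561
theorem L29567 : sm gi N2367 = N3419 := rfl
theorem L29569 : sm gb N3419 = N2372 := ded_26_1 (flp_i L20619) (flp_b L20582) L29567
theorem L29571 : sm ge N3419 = N3419 := ded_44_1 (flp_i L29567) L20584 L29567
theorem L29572 : sm gg N3419 = N2383 := ded_51_1 (flp_i L20710) (flp_g L20585) L29567
theorem L29574 : sm gh N3419 = N3419 := ded_54_1 (flp_i L29567) (flp_h L20580) L14370 L20580 L29567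
theorem L29575 : sm gj N2368 = N3420 := rfl
theorem L29577 : sm gb N3420 = N2373 := ded_24_1 (flp_j L20627) (flp_b L20589) L29575
theorem L29579 : sm gc N3420 = N2605 := ded_31_1 (flp_j L22699) (flp_c L20591) L29575
theorem L29581 : sm ge N3420 = N3420 := ded_42_1 (flp_j L29575) L20593 L29575
theorem L29582 : sm gf N3420 = N2384 := ded_46_1 (flp_j L20717) (flp_f L20595) L29575
theorem L29584 : sm gi N3420 = N3420 := ded_53_2 (flp_j L29575) L20594 L29575
theorem L29585 : sm gg N2369 = N3421 := rfl
theorem L29587 : sm ga N3421 = N3421 := ded_15_1 (flp_g L29585) L20599 L29585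
theorem L29588 : sm gc N3421 = N3421 := ded_30_1 (flp_g L29585) L20600 L29585
theorem L29589 : sm gd N3421 = N3421 := ded_36_1 (flp_g L29585) L20602 L29585
theorem L29590 : sm ge N3421 = N2370 := ded_41_1 (flp_g L20604) L20597 L29585
theorem L29592 : sm gi N3421 = N3421 := ded_51_2 (flp_g L29585) L20601 L29585
theorem L29593 : sm gh N2369 = N3422 := rfl
theorem L29595 : sm ga N3422 = N3422 := ded_17_1 (flp_h L29593) L20599 L29593
theorem L29596 : sm gc N3422 = N3422 := ded_32_1 (flp_h L29593) L20600 L29593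
theorem L29597 : sm ge N3422 = N2371 := ded_43_1 (flp_h L20613) L20597 L29593
theorem L29599 : sm gf N3422 = N3422 := ded_47_1 (flp_h L29593) L20603 L29593
theorem L29600 : sm gj N2370 = N3423 := rfl
theorem L29602 : sm ga N3423 = N3423 := ded_16_1 (flp_j L29600) L20606 L29600
theorem L29603 : sm gc N3423 = N3423 := ded_31_1 (flp_j L29600) L20607 L29600
theorem L29604 : sm gd N3423 = N2373 := ded_37_1 (flp_j L20627) (flp_d L20608) L29600
theorem L29606 : sm gf N3423 = N2387 := ded_46_1 (flp_j L20744) (flp_f L20611) L29600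
theorem L29608 : sm gi N3423 = N3423 := ded_53_2 (flp_j L29600) L20610 L29600
theorem L29609 : sm gh N2370 = N3424 := rfl
theorem L29611 : sm ga N3424 = N3424 := ded_17_1 (flp_h L29609) L20606 L29609
theorem L29612 : sm gc N3424 = N3424 := ded_32_1 (flp_h L29609) L20607 L29609
theorem L29613 : sm gf N3424 = N2388 := ded_47_1 (flp_h L20752) (flp_f L20611) L29609
theorem L29615 : sm gg N3424 = N2371 := ded_50_1 (flp_h L20613) L20604 L29609
theorem L29617 : sm gi N2371 = N3425 := rfl
theorem L29619 : sm ga N3425 = N3425 := ded_18_1 (flp_i L29617) L20615 L29617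
theorem L29620 : sm gc N3425 = N3425 := ded_33_1 (flp_i L29617) L20616 L29617
theorem L29621 : sm gf N3425 = N2372 := ded_48_1 (flp_i L20619) (flp_f L20617) L29617
theorem L29623 : sm gh N3425 = N3425 := ded_54_1 (flp_i L29617) (flp_h L20613) L14386 L20613 L29617
theorem L29624 : sm gb N2374 = N3426 := rfl
theorem L29626 : sm gd N3426 = N2611 := ded_20_2 (flp_b L22753) (flp_d L20643) L29624
theorem L29633 : sm gf N2374 = N3427 := rfl
theorem L29635 : sm ga N3427 = N2378 := ded_14_1 (flp_f L20671) (flp_a L20638) L29633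
theorem L29637 : sm gc N3427 = N2375 := ded_29_1 (flp_f L20645) L20636 L29633
theorem L29639 : sm gd N3427 = N2612 := ded_35_1 (flp_f L22762) (flp_d L20643) L29633
theorem L29641 : sm gj N3427 = N3427 := ded_46_2 (flp_f L29633) L20641 L29633
theorem L29642 : sm gi N3427 = N3427 := ded_48_2 (flp_f L29633) L20642 L29633
theorem L29643 : sm gh N2374 = N3428 := rfl
theorem L29645 : sm ga N3428 = N2379 := ded_17_1 (flp_h L20680) (flp_a L20638) L29643
theorem L29647 : sm gc N3428 = N2376 := ded_32_1 (flp_h L20654) L20636 L29643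
theorem L29649 : sm ge N3428 = N3428 := ded_43_1 (flp_h L29643) L20640 L29643
theorem L29650 : sm gj N3428 = N3428 := ded_52_1 (flp_h L29643) L20641 L29643
theorem L29651 : sm ge N2375 = N3429 := rfl
theorem L29653 : sm ga N3429 = N2380 := ded_13_1 (flp_e L20687) (flp_a L20647) L29651
theorem L29655 : sm gb N3429 = N3429 := ded_21_1 (flp_e L29651) L20649 L29651
theorem L29656 : sm gj N3429 = N3429 := ded_42_2 (flp_e L29651) L20652 L29651
theorem L29657 : sm gi N3429 = N3429 := ded_44_2 (flp_e L29651) L20653 L29651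
theorem L29658 : sm gd N3429 = N2390 := ded_34_1 (flp_e L20766) L14508 (flp_e L14430) (flp_d L20650) L29651
theorem L29660 : sm gf N3429 = N3429 := ded_40_2 (flp_e L29651) (flp_f L20645) L14420 L20645 L29651
theorem L29661 : sm gg N2375 = N3430 := rfl
theorem L29663 : sm ga N3430 = N2381 := ded_15_1 (flp_g L20696) (flp_a L20647) L29661
theorem L29665 : sm gb N3430 = N3430 := ded_23_1 (flp_g L29661) L20649 L29661
theorem L29666 : sm gd N3430 = N2377 := ded_36_1 (flp_g L20661) (flp_d L20650) L29661
theorem L29668 : sm gi N3430 = N3430 := ded_51_2 (flp_g L29661) L20653 L29661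
theorem L29669 : sm gh N2375 = N3431 := rfl
theorem L29671 : sm ga N3431 = N2382 := ded_17_1 (flp_h L20703) (flp_a L20647) L29669
theorem L29673 : sm gb N3431 = N3431 := ded_25_1 (flp_h L29669) L20649 L29669
theorem L29674 : sm gf N3431 = N2376 := ded_47_1 (flp_h L20654) L20645 L29669
theorem L29676 : sm gj N3431 = N3431 := ded_52_1 (flp_h L29669) L20652 L29669
theorem L29677 : sm gi N2376 = N3432 := rfl
theorem L29679 : sm ga N3432 = N2383 := ded_18_1 (flp_i L20710) (flp_a L20656) L29677
theorem L29681 : sm gb N3432 = N3432 := ded_26_1 (flp_i L29677) L20658 L29677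
theorem L29682 : sm ge N3432 = N3432 := ded_44_1 (flp_i L29677) L20659 L29677
theorem L29683 : sm gj N3432 = N3432 := ded_53_1 (flp_i L29677) L20660 L29677
theorem L29684 : sm gh N3432 = N3432 := ded_54_1 (flp_i L29677) (flp_h L20654) L14419 L20654 L29677
theorem L29685 : sm gj N2377 = N3433 := rfl
theorem L29687 : sm ga N3433 = N2384 := ded_16_1 (flp_j L20717) (flp_a L20663) L29685
theorem L29689 : sm gb N3433 = N3433 := ded_24_1 (flp_j L29685) L20665 L29685
theorem L29690 : sm gc N3433 = N2617 := ded_31_1 (flp_j L22810) (flp_c L20666) L29685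
theorem L29692 : sm ge N3433 = N2394 := ded_42_1 (flp_j L20804) (flp_e L20668) L29685
theorem L29694 : sm gi N3433 = N3433 := ded_53_2 (flp_j L29685) L20670 L29685
theorem L29695 : sm gg N3433 = N3433 := ded_49_1 (flp_j L29685) (flp_g L20661) L14428 L20661 L29685
theorem L29696 : sm ge N2378 = N3434 := rfl
theorem L29698 : sm gb N3434 = N3434 := ded_21_1 (flp_e L29696) L20673 L29696
theorem L29699 : sm gc N3434 = N2380 := ded_28_1 (flp_e L20687) (flp_c L20674) L29696
theorem L29701 : sm gj N3434 = N3434 := ded_42_2 (flp_e L29696) L20678 L29696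
theorem L29702 : sm gi N3434 = N3434 := ded_44_2 (flp_e L29696) L20679 L29696
theorem L29703 : sm gd N3434 = N3434 := ded_34_1 (flp_e L29696) L20676 L15915 (flp_d L20676) L29696
theorem L29704 : sm gf N3434 = N3434 := ded_40_2 (flp_e L29696) (flp_f L20671) L14434 L20671 L29696
theorem L29705 : sm gg N2378 = N3435 := rfl
theorem L29707 : sm gb N3435 = N3435 := ded_23_1 (flp_g L29705) L20673 L29705
theorem L29708 : sm gc N3435 = N2381 := ded_30_1 (flp_g L20696) (flp_c L20674) L29705
theorem L29710 : sm gd N3435 = N2618 := ded_36_1 (flp_g L22820) (flp_d L20676) L29705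
theorem L29712 : sm gi N3435 = N3435 := ded_51_2 (flp_g L29705) L20679 L29705
theorem L29713 : sm gh N2378 = N3436 := rfl
theorem L29715 : sm gb N3436 = N3436 := ded_25_1 (flp_h L29713) L20673 L29713
theorem L29716 : sm gc N3436 = N2382 := ded_32_1 (flp_h L20703) (flp_c L20674) L29713
theorem L29718 : sm gf N3436 = N2379 := ded_47_1 (flp_h L20680) L20671 L29713
theorem L29720 : sm gj N3436 = N3436 := ded_52_1 (flp_h L29713) L20678 L29713
theorem L29721 : sm gd N2379 = N3437 := rfl
theorem L29723 : sm gb N3437 = N3437 := ded_20_1 (flp_d L29721) L20682 L29721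
theorem L29724 : sm gj N3437 = N3437 := ded_37_2 (flp_d L29721) L20686 L29721
theorem L29725 : sm gh N3437 = N2620 := ded_38_2 (flp_d L22836) (flp_h L15916) (flp_d L14438) L20680 L29721
theorem L29727 : sm gi N2379 = N3438 := rfl
theorem L29729 : sm gb N3438 = N3438 := ded_26_1 (flp_i L29727) L20682 L29727
theorem L29730 : sm gc N3438 = N2383 := ded_33_1 (flp_i L20710) (flp_c L20683) L29727
theorem L29732 : sm ge N3438 = N3438 := ded_44_1 (flp_i L29727) L20685 L29727
theorem L29733 : sm gj N3438 = N3438 := ded_53_1 (flp_i L29727) L20686 L29727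
theorem L29734 : sm gh N3438 = N3438 := ded_54_1 (flp_i L29727) (flp_h L20680) L14436 L20680 L29727
theorem L29735 : sm gg N2380 = N3439 := rfl
theorem L29737 : sm gb N3439 = N2385 := ded_23_1 (flp_g L20727) (flp_b L20689) L29735
theorem L29739 : sm gd N3439 = N2395 := ded_36_1 (flp_g L20814) (flp_d L20693) L29735
theorem L29741 : sm ge N3439 = N2381 := ded_41_1 (flp_g L20696) L20687 L29735
theorem L29743 : sm gi N3439 = N3439 := ded_51_2 (flp_g L29735) L20692 L29735
theorem L29744 : sm gh N2380 = N3440 := rfl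
theorem L29746 : sm gb N3440 = N2386 := ded_25_1 (flp_h L20736) (flp_b L20689) L29744
theorem L29748 : sm ge N3440 = N2382 := ded_43_1 (flp_h L20703) L20687 L29744
theorem L29750 : sm gf N3440 = N3440 := ded_47_1 (flp_h L29744) L20695 L29744
theorem L29751 : sm gj N3440 = N3440 := ded_52_1 (flp_h L29744) L20691 L29744
theorem L29752 : sm gj N2381 = N3441 := rfl
theorem L29754 : sm gb N3441 = N2387 := ded_24_1 (flp_j L20744) (flp_b L20698) L29752
theorem L29756 : sm gd N3441 = N2384 := ded_37_1 (flp_j L20717) (flp_d L20700) L29752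
theorem L29758 : sm gi N3441 = N3441 := ded_53_2 (flp_j L29752) L20702 L29752
theorem L29759 : sm gg N3441 = N3441 := ded_49_1 (flp_j L29752) (flp_g L20696) L14446 L20696 L29752
theorem L29760 : sm gh N2381 = N3442 := rfl
theorem L29762 : sm gb N3442 = N2388 := ded_25_1 (flp_h L20752) (flp_b L20698) L29760
theorem L29764 : sm gg N3442 = N2382 := ded_50_1 (flp_h L20703) L20696 L29760
theorem L29766 : sm gi N2382 = N3443 := rfl
theorem L29768 : sm gb N3443 = N2389 := ded_26_1 (flp_i L20758) (flp_b L20705) L29766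
theorem L29770 : sm gf N3443 = N2383 := ded_48_1 (flp_i L20710) (flp_f L20707) L29766
theorem L29772 : sm gj N3443 = N3443 := ded_53_1 (flp_i L29766) L20709 L29766
theorem L29773 : sm gh N3443 = N3443 := ded_54_1 (flp_i L29766) (flp_h L20703) L14447 L20703 L29766
theorem L29774 : sm gf N2385 = N3444 := rfl
theorem L29776 : sm ga N3444 = N3444 := ded_14_1 (flp_f L29774) L20729 L29774
theorem L29777 : sm gc N3444 = N3444 := ded_29_1 (flp_f L29774) L20730 L29774
theorem L29778 : sm gd N3444 = N2400 := ded_35_1 (flp_f L20858) (flp_d L20731) L29774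
theorem L29780 : sm gi N3444 = N3444 := ded_48_2 (flp_f L29774) L20735 L29774
theorem L29781 : sm gg N3444 = N3444 := ded_45_2 (flp_f L29774) (flp_g L20727) L14471 L20727 L29774
theorem L29782 : sm gj N2385 = N3445 := rfl
theorem L29784 : sm ga N3445 = N3445 := ded_16_1 (flp_j L29782) L20729 L29782
theorem L29785 : sm gc N3445 = N3445 := ded_31_1 (flp_j L29782) L20730 L29782
theorem L29786 : sm gd N3445 = N2401 := ded_37_1 (flp_j L20866) (flp_d L20731) L29782
theorem L29788 : sm ge N3445 = N2387 := ded_42_1 (flp_j L20744) (flp_e L20733) L29782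
theorem L29790 : sm gi N3445 = N3445 := ded_53_2 (flp_j L29782) L20735 L29782
theorem L29791 : sm gg N3445 = N3445 := ded_49_1 (flp_j L29782) (flp_g L20727) L14467 L20727 L29782
theorem L29792 : sm gh N2385 = N3446 := rfl
theorem L29794 : sm ga N3446 = N3446 := ded_17_1 (flp_h L29792) L20729 L29792
theorem L29795 : sm gc N3446 = N3446 := ded_32_1 (flp_h L29792) L20730 L29792
theorem L29796 : sm ge N3446 = N2388 := ded_43_1 (flp_h L20752) (flp_e L20733) L29792
theorem L29798 : sm gg N3446 = N2386 := ded_50_1 (flp_h L20736) L20727 L29792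
theorem L29800 : sm gd N2386 = N3447 := rfl
theorem L29802 : sm ga N3447 = N3447 := ded_12_1 (flp_d L29800) L20738 L29800
theorem L29803 : sm gf N3447 = N3447 := ded_35_2 (flp_d L29800) L20742 L29800
theorem L29804 : sm gj N3447 = N3447 := ded_37_2 (flp_d L29800) L20743 L29800
theorem L29805 : sm gh N3447 = N2403 := ded_38_2 (flp_d L20884) (flp_h L14581) (flp_d L14469) L20736 L29800
theorem L29807 : sm gi N2386 = N3448 := rfl
theorem L29809 : sm ga N3448 = N3448 := ded_18_1 (flp_i L29807) L20738 L29807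
theorem L29810 : sm gc N3448 = N3448 := ded_33_1 (flp_i L29807) L20739 L29807
theorem L29811 : sm ge N3448 = N2389 := ded_44_1 (flp_i L20758) (flp_e L20740) L29807
theorem L29813 : sm gf N3448 = N3448 := ded_48_1 (flp_i L29807) L20742 L29807
theorem L29814 : sm gj N3448 = N3448 := ded_53_1 (flp_i L29807) L20743 L29807
theorem L29815 : sm gh N3448 = N3448 := ded_54_1 (flp_i L29807) (flp_h L20736) L14468 L20736 L29807
theorem L29816 : sm gh N2387 = N3449 := rfl
theorem L29818 : sm ga N3449 = N3449 := ded_17_1 (flp_h L29816) L20746 L29816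
theorem L29819 : sm gc N3449 = N3449 := ded_32_1 (flp_h L29816) L20747 L29816
theorem L29820 : sm gg N3449 = N3449 := ded_50_1 (flp_h L29816) L20751 L29816
theorem L29821 : sm gj N3449 = N2388 := ded_52_1 (flp_h L20752) L20744 L29816
theorem L29823 : sm gi N2388 = N3450 := rfl
theorem L29825 : sm ga N3450 = N3450 := ded_18_1 (flp_i L29823) L20754 L29823
theorem L29826 : sm gc N3450 = N3450 := ded_33_1 (flp_i L29823) L20755 L29823
theorem L29827 : sm gg N3450 = N2389 := ded_51_1 (flp_i L20758) (flp_g L20756) L29823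
theorem L29829 : sm gh N3450 = N3450 := ded_54_1 (flp_i L29823) (flp_h L20752) L14478 L20752 L29823
theorem L29830 : sm gg N2390 = N3451 := rfl
theorem L29832 : sm ga N3451 = N2395 := ded_15_1 (flp_g L20814) (flp_a L20768) L29830
theorem L29834 : sm gb N3451 = N3451 := ded_23_1 (flp_g L29830) L20770 L29830
theorem L29835 : sm gc N3451 = N3451 := ded_30_1 (flp_g L29830) L20771 L29830
theorem L29836 : sm ge N3451 = N2391 := ded_41_1 (flp_g L20775) L20766 L29830
theorem L29838 : sm gi N3451 = N3451 := ded_51_2 (flp_g L29830) L20773 L29830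
theorem L29839 : sm gh N2390 = N3452 := rfl
theorem L29841 : sm ga N3452 = N2396 := ded_17_1 (flp_h L20822) (flp_a L20768) L29839
theorem L29843 : sm gb N3452 = N3452 := ded_25_1 (flp_h L29839) L20770 L29839
theorem L29844 : sm gc N3452 = N3452 := ded_32_1 (flp_h L29839) L20771 L29839
theorem L29845 : sm ge N3452 = N2392 := ded_43_1 (flp_h L20785) L20766 L29839
theorem L29847 : sm gf N3452 = N3452 := ded_47_1 (flp_h L29839) L20774 L29839
theorem L29848 : sm gj N3452 = N3452 := ded_52_1 (flp_h L29839) L20772 L29839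
theorem L29849 : sm gj N2391 = N3453 := rfl
theorem L29851 : sm ga N3453 = N2397 := ded_16_1 (flp_j L20831) (flp_a L20777) L29849
theorem L29853 : sm gb N3453 = N3453 := ded_24_1 (flp_j L29849) L20779 L29849
theorem L29854 : sm gc N3453 = N3453 := ded_31_1 (flp_j L29849) L20780 L29849
theorem L29855 : sm gd N3453 = N2394 := ded_37_1 (flp_j L20804) (flp_d L20781) L29849
theorem L29857 : sm gf N3453 = N3453 := ded_46_1 (flp_j L29849) L20784 L29849
theorem L29858 : sm gi N3453 = N3453 := ded_53_2 (flp_j L29849) L20783 L29849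
theorem L29859 : sm gg N3453 = N3453 := ded_49_1 (flp_j L29849) (flp_g L20775) L14510 L20775 L29849
theorem L29860 : sm gh N2391 = N3454 := rfl
theorem L29862 : sm ga N3454 = N2398 := ded_17_1 (flp_h L20841) (flp_a L20777) L29860
theorem L29864 : sm gb N3454 = N3454 := ded_25_1 (flp_h L29860) L20779 L29860
theorem L29865 : sm gc N3454 = N3454 := ded_32_1 (flp_h L29860) L20780 L29860
theorem L29866 : sm gf N3454 = N3454 := ded_47_1 (flp_h L29860) L20784 L29860
theorem L29867 : sm gg N3454 = N2392 := ded_50_1 (flp_h L20785) L20775 L29860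
theorem L29869 : sm gi N2392 = N3455 := rfl
theorem L29871 : sm ga N3455 = N2399 := ded_18_1 (flp_i L20849) (flp_a L20787) L29869
theorem L29873 : sm gb N3455 = N3455 := ded_26_1 (flp_i L29869) L20789 L29869
theorem L29874 : sm gc N3455 = N3455 := ded_33_1 (flp_i L29869) L20790 L29869
theorem L29875 : sm gf N3455 = N2393 := ded_48_1 (flp_i L20794) (flp_f L20791) L29869
theorem L29877 : sm gj N3455 = N3455 := ded_53_1 (flp_i L29869) L20793 L29869
theorem L29878 : sm gh N3455 = N3455 := ded_54_1 (flp_i L29869) (flp_h L20785) L14511 L20785 L29869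
theorem L29879 : sm gf N2395 = N3456 := rfl
theorem L29881 : sm gb N3456 = N2400 := ded_22_1 (flp_f L20858) (flp_b L20816) L29879
theorem L29883 : sm gc N3456 = N3456 := ded_29_1 (flp_f L29879) L20818 L29879
theorem L29884 : sm gi N3456 = N3456 := ded_48_2 (flp_f L29879) L20821 L29879
theorem L29885 : sm ge N3456 = N3456 := ded_40_1 (flp_f L29879) L20819 L14546 (flp_e L20819) L29879
theorem L29886 : sm gg N3456 = N3456 := ded_45_2 (flp_f L29879) (flp_g L20814) L14537 L20814 L29879
theorem L29887 : sm gj N2395 = N3457 := rfl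
theorem L29889 : sm gb N3457 = N2401 := ded_24_1 (flp_j L20866) (flp_b L20816) L29887
theorem L29891 : sm gc N3457 = N3457 := ded_31_1 (flp_j L29887) L20818 L29887
theorem L29892 : sm ge N3457 = N2397 := ded_42_1 (flp_j L20831) (flp_e L20819) L29887
theorem L29894 : sm gi N3457 = N3457 := ded_53_2 (flp_j L29887) L20821 L29887
theorem L29895 : sm gg N3457 = N3457 := ded_49_1 (flp_j L29887) (flp_g L20814) L14535 L20814 L29887
theorem L29896 : sm gh N2395 = N3458 := rfl
theorem L29898 : sm gb N3458 = N2402 := ded_25_1 (flp_h L20875) (flp_b L20816) L29896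
theorem L29900 : sm gc N3458 = N3458 := ded_32_1 (flp_h L29896) L20818 L29896
theorem L29901 : sm ge N3458 = N2398 := ded_43_1 (flp_h L20841) (flp_e L20819) L29896
theorem L29903 : sm gg N3458 = N2396 := ded_50_1 (flp_h L20822) L20814 L29896
theorem L29905 : sm gd N2396 = N3459 := rfl
theorem L29907 : sm gb N3459 = N2403 := ded_20_1 (flp_d L20884) (flp_b L20824) L29905
theorem L29909 : sm gf N3459 = N3459 := ded_35_2 (flp_d L29905) L20829 L29905
theorem L29910 : sm gj N3459 = N3459 := ded_37_2 (flp_d L29905) L20830 L29905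
theorem L29911 : sm gi N2396 = N3460 := rfl
theorem L29913 : sm gb N3460 = N2404 := ded_26_1 (flp_i L20889) (flp_b L20824) L29911
theorem L29915 : sm gc N3460 = N3460 := ded_33_1 (flp_i L29911) L20826 L29911
theorem L29916 : sm ge N3460 = N2399 := ded_44_1 (flp_i L20849) (flp_e L20827) L29911
theorem L29918 : sm gf N3460 = N3460 := ded_48_1 (flp_i L29911) L20829 L29911
theorem L29919 : sm gj N3460 = N3460 := ded_53_1 (flp_i L29911) L20830 L29911
theorem L29920 : sm gh N3460 = N3460 := ded_54_1 (flp_i L29911) (flp_h L20822) L14536 L20822 L29911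
theorem L29921 : sm gh N2397 = N3461 := rfl
theorem L29923 : sm gb N3461 = N2405 := ded_25_1 (flp_h L20899) (flp_b L20833) L29921
theorem L29925 : sm gc N3461 = N3461 := ded_32_1 (flp_h L29921) L20835 L29921
theorem L29926 : sm gf N3461 = N3461 := ded_47_1 (flp_h L29921) L20838 L29921
theorem L29927 : sm gg N3461 = N3461 := ded_50_1 (flp_h L29921) L20840 L29921
theorem L29928 : sm gj N3461 = N2398 := ded_52_1 (flp_h L20841) L20831 L29921
theorem L29930 : sm gi N2398 = N3462 := rfl
theorem L29932 : sm gb N3462 = N2406 := ded_26_1 (flp_i L20908) (flp_b L20843) L29930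
theorem L29934 : sm gc N3462 = N3462 := ded_33_1 (flp_i L29930) L20845 L29930
theorem L29935 : sm gf N3462 = N3462 := ded_48_1 (flp_i L29930) L20846 L29930
theorem L29936 : sm gg N3462 = N2399 := ded_51_1 (flp_i L20849) (flp_g L20847) L29930
theorem L29938 : sm gh N3462 = N3462 := ded_54_1 (flp_i L29930) (flp_h L20841) L14545 L20841 L29930
theorem L29939 : sm gj N2400 = N3463 := rfl
theorem L29941 : sm ga N3463 = N3463 := ded_16_1 (flp_j L29939) L20860 L29939
theorem L29942 : sm gc N3463 = N2407 := ded_31_1 (flp_j L20917) (flp_c L20861) L29939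
theorem L29944 : sm ge N3463 = N3463 := ded_42_1 (flp_j L29939) L20864 L29939
theorem L29945 : sm gf N3463 = N2401 := ded_46_1 (flp_j L20866) L20858 L29939
theorem L29947 : sm gi N3463 = N3463 := ded_53_2 (flp_j L29939) L20863 L29939
theorem L29948 : sm gh N2400 = N3464 := rfl
theorem L29950 : sm ga N3464 = N3464 := ded_17_1 (flp_h L29948) L20860 L29948
theorem L29951 : sm gc N3464 = N2408 := ded_32_1 (flp_h L20926) (flp_c L20861) L29948
theorem L29953 : sm ge N3464 = N3464 := ded_43_1 (flp_h L29948) L20864 L29948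
theorem L29954 : sm gf N3464 = N2402 := ded_47_1 (flp_h L20875) L20858 L29948
theorem L29956 : sm gg N3464 = N3464 := ded_50_1 (flp_h L29948) L20865 L29948
theorem L29957 : sm gh N2401 = N3465 := rfl
theorem L29959 : sm ga N3465 = N3465 := ded_17_1 (flp_h L29957) L20868 L29957
theorem L29960 : sm gc N3465 = N2409 := ded_32_1 (flp_h L20934) (flp_c L20869) L29957
theorem L29962 : sm ge N3465 = N2405 := ded_43_1 (flp_h L20899) (flp_e L20871) L29957
theorem L29964 : sm gg N3465 = N3465 := ded_50_1 (flp_h L29957) L20874 L29957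
theorem L29965 : sm gj N3465 = N2402 := ded_52_1 (flp_h L20875) L20866 L29957
theorem L29967 : sm gd N2402 = N3466 := rfl
theorem L29969 : sm ga N3466 = N3466 := ded_12_1 (flp_d L29967) L20877 L29967
theorem L29970 : sm gg N3466 = N2403 := ded_36_2 (flp_d L20884) (flp_g L20882) L29967
theorem L29972 : sm gi N2402 = N3467 := rfl
theorem L29974 : sm ga N3467 = N3467 := ded_18_1 (flp_i L29972) L20877 L29972
theorem L29975 : sm gc N3467 = N2411 := ded_33_1 (flp_i L20951) (flp_c L20878) L29972
theorem L29977 : sm ge N3467 = N2406 := ded_44_1 (flp_i L20908) (flp_e L20880) L29972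
theorem L29979 : sm gg N3467 = N2404 := ded_51_1 (flp_i L20889) (flp_g L20882) L29972
theorem L29981 : sm gh N3467 = N3467 := ded_54_1 (flp_i L29972) (flp_h L20875) L14580 L20875 L29972
theorem L29982 : sm gc N2403 = N3468 := rfl
theorem L29984 : sm ga N3468 = N3468 := ded_11_1 (flp_c L29982) L20886 L29982
theorem L29985 : sm gf N3468 = N3468 := ded_29_2 (flp_c L29982) L20887 L29982
theorem L29986 : sm gj N3468 = N3468 := ded_31_2 (flp_c L29982) L20888 L29982
theorem L29987 : sm gd N3468 = N2412 := ded_27_2 (flp_c L20960) (flp_d L14642) (flp_c L14584) L20884 L29982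
theorem L29989 : sm gi N2403 = N3469 := rfl
theorem L29991 : sm ga N3469 = N3469 := ded_18_1 (flp_i L29989) L20886 L29989
theorem L29992 : sm gd N3469 = N2404 := ded_39_1 (flp_i L20889) L20884 L29989
theorem L29994 : sm gf N3469 = N3469 := ded_48_1 (flp_i L29989) L20887 L29989
theorem L29995 : sm gj N3469 = N3469 := ded_53_1 (flp_i L29989) L20888 L29989
theorem L29996 : sm gi N2405 = N3470 := rfl
theorem L29998 : sm ga N3470 = N3470 := ded_18_1 (flp_i L29996) L20901 L29996
theorem L29999 : sm gc N3470 = N2414 := ded_33_1 (flp_i L20976) (flp_c L20902) L29996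
theorem L30001 : sm gf N3470 = N3470 := ded_48_1 (flp_i L29996) L20904 L29996
theorem L30002 : sm gg N3470 = N3470 := ded_51_1 (flp_i L29996) L20905 L29996
theorem L30003 : sm gj N3470 = N2406 := ded_53_1 (flp_i L20908) (flp_j L20906) L29996
theorem L30005 : sm gh N3470 = N3470 := ded_54_1 (flp_i L29996) (flp_h L20899) L14598 L20899 L29996
theorem L30006 : sm gg N2407 = N3471 := rfl
theorem L30008 : sm ga N3471 = N3471 := ded_15_1 (flp_g L30006) L20919 L30006
theorem L30009 : sm gb N3471 = N3471 := ded_23_1 (flp_g L30006) L20920 L30006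
theorem L30010 : sm gd N3471 = N3471 := ded_36_1 (flp_g L30006) L20921 L30006
theorem L30011 : sm ge N3471 = N3471 := ded_41_1 (flp_g L30006) L20922 L30006
theorem L30012 : sm gi N3471 = N3471 := ded_51_2 (flp_g L30006) L20925 L30006
theorem L30013 : sm gf N3471 = N3471 := ded_45_1 (flp_g L30006) L20923 L14633 (flp_f L20923) L30006
theorem L30014 : sm gj N3471 = N3471 := ded_49_2 (flp_g L30006) (flp_j L20917) L14624 L20917 L30006
theorem L30015 : sm gh N2407 = N3472 := rfl
theorem L30017 : sm ga N3472 = N3472 := ded_17_1 (flp_h L30015) L20919 L30015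
theorem L30018 : sm gb N3472 = N3472 := ded_25_1 (flp_h L30015) L20920 L30015
theorem L30019 : sm ge N3472 = N3472 := ded_43_1 (flp_h L30015) L20922 L30015
theorem L30020 : sm gf N3472 = N2409 := ded_47_1 (flp_h L20934) (flp_f L20923) L30015
theorem L30022 : sm gj N3472 = N2408 := ded_52_1 (flp_h L20926) L20917 L30015
theorem L30024 : sm gd N2408 = N3473 := rfl
theorem L30026 : sm ga N3473 = N3473 := ded_12_1 (flp_d L30024) L20928 L30024
theorem L30027 : sm gb N3473 = N3473 := ded_20_1 (flp_d L30024) L20929 L30024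
theorem L30028 : sm gf N3473 = N2410 := ded_35_2 (flp_d L20943) (flp_f L20931) L30024
theorem L30030 : sm gg N3473 = N3473 := ded_36_2 (flp_d L30024) L20933 L30024
theorem L30031 : sm gh N3473 = N3473 := ded_38_2 (flp_d L30024) (flp_h L20926) L14621 L20926 L30024
theorem L30032 : sm gi N2408 = N3474 := rfl
theorem L30034 : sm ga N3474 = N3474 := ded_18_1 (flp_i L30032) L20928 L30032
theorem L30035 : sm gb N3474 = N3474 := ded_26_1 (flp_i L30032) L20929 L30032
theorem L30036 : sm ge N3474 = N3474 := ded_44_1 (flp_i L30032) L20930 L30032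
theorem L30037 : sm gf N3474 = N2411 := ded_48_1 (flp_i L20951) (flp_f L20931) L30032
theorem L30039 : sm gg N3474 = N3474 := ded_51_1 (flp_i L30032) L20933 L30032
theorem L30040 : sm gh N3474 = N3474 := ded_54_1 (flp_i L30032) (flp_h L20926) L14622 L20926 L30032
theorem L30041 : sm gd N2409 = N3475 := rfl
theorem L30046 : sm gj N3475 = N2410 := ded_37_2 (flp_d L20943) (flp_j L20941) L30041
theorem L30050 : sm gi N2409 = N3476 := rfl
theorem L30054 : sm ge N3476 = N2414 := ded_44_1 (flp_i L20976) (flp_e L20938) L30050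
theorem L30057 : sm gj N3476 = N2411 := ded_53_1 (flp_i L20951) (flp_j L20941) L30050
theorem L30060 : sm gc N2410 = N3477 := rfl
theorem L30062 : sm ga N3477 = N3477 := ded_11_1 (flp_c L30060) L20945 L30060
theorem L30063 : sm ge N3477 = N3477 := ded_28_2 (flp_c L30060) L20949 L30060
theorem L30064 : sm gg N3477 = N2412 := ded_30_2 (flp_c L20960) (flp_g L20947) L30060
theorem L30066 : sm gh N3477 = N3477 := ded_32_2 (flp_c L30060) L20950 L30060
theorem L30067 : sm gi N2410 = N3478 := rfl
theorem L30071 : sm gd N3478 = N2411 := ded_39_1 (flp_i L20951) L20943 L30067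
theorem L30076 : sm gb N2412 = N3479 := rfl
theorem L30078 : sm ge N3479 = N3479 := ded_21_2 (flp_b L30076) L20963 L30076
theorem L30079 : sm gf N3479 = N3479 := ded_22_2 (flp_b L30076) L20964 L30076
theorem L30080 : sm gj N3479 = N3479 := ded_24_2 (flp_b L30076) L20965 L30076
theorem L30081 : sm gh N3479 = N3479 := ded_25_2 (flp_b L30076) L20966 L30076
theorem L30082 : sm gc N3479 = N3479 := ded_19_2 (flp_b L30076) (flp_c L20960) L14645 L20960 L30076
theorem L30083 : sm gi N2412 = N3480 := rfl
theorem L30085 : sm ga N3480 = N3480 := ded_18_1 (flp_i L30083) L20962 L30083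
theorem L30086 : sm gc N3480 = N2413 := ded_33_1 (flp_i L20967) L20960 L30083
theorem L30088 : sm ge N3480 = N3480 := ded_44_1 (flp_i L30083) L20963 L30083
theorem L30089 : sm gf N3480 = N3480 := ded_48_1 (flp_i L30083) L20964 L30083
theorem L30090 : sm gj N3480 = N3480 := ded_53_1 (flp_i L30083) L20965 L30083
theorem L30091 : sm gh N2413 = N3481 := rfl
theorem L30098 : sm gd N3481 = N3481 := ded_38_1 (flp_h L30091) L20971 L14658 (flp_d L20971) L30091
theorem L30100 : sm gd N2415 = N3482 := rfl
theorem L30102 : sm ga N3482 = N2662 := ded_12_1 (flp_d L23204) (flp_a L20988) L30100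
theorem L30104 : sm gb N3482 = N3482 := ded_20_1 (flp_d L30100) L20990 L30100
theorem L30105 : sm gg N3482 = N2423 := ded_36_2 (flp_d L21066) (flp_g L20993) L30100
theorem L30107 : sm gj N3482 = N3482 := ded_37_2 (flp_d L30100) L20995 L30100
theorem L30108 : sm gc N3482 = N3482 := ded_27_1 (flp_d L30100) L20991 L14696 (flp_c L20991) L30100
theorem L30109 : sm ge N3482 = N3482 := ded_34_2 (flp_d L30100) (flp_e L20986) L14687 L20986 L30100
theorem L30110 : sm gf N2415 = N3483 := rfl
theorem L30112 : sm ga N3483 = N2663 := ded_14_1 (flp_f L23211) (flp_a L20988) L30110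
theorem L30114 : sm gb N3483 = N3483 := ded_22_1 (flp_f L30110) L20990 L30110
theorem L30115 : sm gc N3483 = N2417 := ded_29_1 (flp_f L21009) (flp_c L20991) L30110
theorem L30117 : sm gj N3483 = N3483 := ded_46_2 (flp_f L30110) L20995 L30110
theorem L30118 : sm gh N3483 = N3483 := ded_47_2 (flp_f L30110) L20996 L30110
theorem L30119 : sm ge N3483 = N3483 := ded_40_1 (flp_f L30110) (flp_e L20986) L14681 L20986 L30110
theorem L30120 : sm gg N3483 = N3483 := ded_45_2 (flp_f L30110) L20993 L14738 (flp_g L20993) L30110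
theorem L30121 : sm gi N2415 = N3484 := rfl
theorem L30123 : sm ga N3484 = N2664 := ded_18_1 (flp_i L23219) (flp_a L20988) L30121
theorem L30125 : sm gb N3484 = N3484 := ded_26_1 (flp_i L30121) L20990 L30121
theorem L30126 : sm gc N3484 = N2418 := ded_33_1 (flp_i L21018) (flp_c L20991) L30121
theorem L30128 : sm ge N3484 = N2416 := ded_44_1 (flp_i L20997) L20986 L30121
theorem L30130 : sm gg N3484 = N2424 := ded_51_1 (flp_i L21076) (flp_g L20993) L30121
theorem L30132 : sm gj N3484 = N3484 := ded_53_1 (flp_i L30121) L20995 L30121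
theorem L30133 : sm gh N2416 = N3485 := rfl
theorem L30135 : sm ga N3485 = N2665 := ded_17_1 (flp_h L23228) (flp_a L20999) L30133
theorem L30138 : sm gc N3485 = N2419 := ded_32_1 (flp_h L21028) (flp_c L21002) L30133
theorem L30140 : sm gf N3485 = N3485 := ded_47_1 (flp_h L30133) L21005 L30133
theorem L30141 : sm gg N3485 = N2425 := ded_50_1 (flp_h L21088) (flp_g L21006) L30133
theorem L30145 : sm gi N2417 = N3486 := rfl
theorem L30147 : sm ga N3486 = N2666 := ded_18_1 (flp_i L23237) (flp_a L21011) L30145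
theorem L30149 : sm gd N3486 = N3486 := ded_39_1 (flp_i L30145) L21013 L30145
theorem L30150 : sm ge N3486 = N3486 := ded_44_1 (flp_i L30145) L21016 L30145
theorem L30151 : sm gf N3486 = N2418 := ded_48_1 (flp_i L21018) L21009 L30145
theorem L30153 : sm gg N3486 = N3486 := ded_51_1 (flp_i L30145) L21017 L30145
theorem L30154 : sm gj N3486 = N3486 := ded_53_1 (flp_i L30145) L21014 L30145
theorem L30155 : sm gh N2418 = N3487 := rfl
theorem L30157 : sm ga N3487 = N2667 := ded_17_1 (flp_h L23246) (flp_a L21020) L30155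
theorem L30159 : sm ge N3487 = N2419 := ded_43_1 (flp_h L21028) (flp_e L21023) L30155
theorem L30161 : sm gg N3487 = N2426 := ded_50_1 (flp_h L21100) (flp_g L21025) L30155
theorem L30163 : sm gj N3487 = N3487 := ded_52_1 (flp_h L30155) L21027 L30155
theorem L30164 : sm gi N3487 = N3487 := ded_54_2 (flp_h L30155) (flp_i L21018) L14695 L21018 L30155
theorem L30165 : sm gd N2419 = N3488 := rfl
theorem L30167 : sm ga N3488 = N2668 := ded_12_1 (flp_d L23255) (flp_a L21030) L30165
theorem L30169 : sm gf N3488 = N3488 := ded_35_2 (flp_d L30165) L21032 L30165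
theorem L30170 : sm gg N3488 = N2427 := ded_36_2 (flp_d L21110) (flp_g L21033) L30165
theorem L30172 : sm gj N3488 = N3488 := ded_37_2 (flp_d L30165) L21035 L30165
theorem L30173 : sm gi N3488 = N3488 := ded_39_2 (flp_d L30165) L21036 L30165
theorem L30174 : sm gh N3488 = N2420 := ded_38_2 (flp_d L21037) (flp_h L14707) (flp_d L14701) L21028 L30165
theorem L30176 : sm gc N2420 = N3489 := rfl
theorem L30178 : sm ga N3489 = N2669 := ded_11_1 (flp_c L23265) (flp_a L21039) L30176
theorem L30180 : sm gf N3489 = N3489 := ded_29_2 (flp_c L30176) L21041 L30176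
theorem L30181 : sm gg N3489 = N2428 := ded_30_2 (flp_c L21121) (flp_g L21042) L30176
theorem L30183 : sm gj N3489 = N3489 := ded_31_2 (flp_c L30176) L21044 L30176
theorem L30184 : sm gi N3489 = N2421 := ded_33_2 (flp_c L21047) (flp_i L21045) L30176
theorem L30186 : sm gd N3489 = N3489 := ded_27_2 (flp_c L30176) (flp_d L21037) L14711 L21037 L30176
theorem L30187 : sm ge N2420 = N3490 := rfl
theorem L30189 : sm ga N3490 = N2670 := ded_13_1 (flp_e L23274) (flp_a L21039) L30187
theorem L30191 : sm gg N3490 = N2429 := ded_41_2 (flp_e L21132) (flp_g L21042) L30187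
theorem L30193 : sm gj N3490 = N3490 := ded_42_2 (flp_e L30187) L21044 L30187
theorem L30194 : sm gi N3490 = N2422 := ded_44_2 (flp_e L21057) (flp_i L21045) L30187
theorem L30196 : sm gd N3490 = N3490 := ded_34_1 (flp_e L30187) (flp_d L21037) L14712 L21037 L30187
theorem L30197 : sm gb N2421 = N3491 := rfl
theorem L30199 : sm gd N3491 = N3491 := ded_20_2 (flp_b L30197) L21056 L30197
theorem L30200 : sm gf N3491 = N3491 := ded_22_2 (flp_b L30197) L21051 L30197
theorem L30201 : sm gg N3491 = N2430 := ded_23_2 (flp_b L21141) (flp_g L21052) L30197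
theorem L30203 : sm gj N3491 = N3491 := ded_24_2 (flp_b L30197) L21054 L30197
theorem L30204 : sm gh N3491 = N3491 := ded_25_2 (flp_b L30197) L21055 L30197
theorem L30205 : sm ge N2421 = N3492 := rfl
theorem L30207 : sm ga N3492 = N2672 := ded_13_1 (flp_e L23292) (flp_a L21049) L30205
theorem L30209 : sm gc N3492 = N2422 := ded_28_1 (flp_e L21057) L21047 L30205
theorem L30211 : sm gg N3492 = N2431 := ded_41_2 (flp_e L21149) (flp_g L21052) L30205
theorem L30213 : sm gj N3492 = N3492 := ded_42_2 (flp_e L30205) L21054 L30205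
theorem L30214 : sm gh N3492 = N3492 := ded_43_2 (flp_e L30205) L21055 L30205
theorem L30215 : sm gf N2422 = N3493 := rfl
theorem L30217 : sm ga N3493 = N2673 := ded_14_1 (flp_f L23300) (flp_a L21059) L30215
theorem L30219 : sm gd N3493 = N3493 := ded_35_1 (flp_f L30215) L21065 L30215
theorem L30220 : sm gj N3493 = N3493 := ded_46_2 (flp_f L30215) L21063 L30215
theorem L30221 : sm gh N3493 = N3493 := ded_47_2 (flp_f L30215) L21064 L30215
theorem L30222 : sm ge N3493 = N3493 := ded_40_1 (flp_f L30215) (flp_e L21057) L14723 L21057 L30215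
theorem L30223 : sm gh N2423 = N3494 := rfl
theorem L30225 : sm ga N3494 = N2677 := ded_17_1 (flp_h L23338) (flp_a L21068) L30223
theorem L30227 : sm gb N3494 = N3494 := ded_25_1 (flp_h L30223) L21070 L30223
theorem L30228 : sm gc N3494 = N3494 := ded_32_1 (flp_h L30223) L21074 L30223
theorem L30229 : sm ge N3494 = N3494 := ded_43_1 (flp_h L30223) L21075 L30223
theorem L30230 : sm gf N3494 = N3494 := ded_47_1 (flp_h L30223) L21071 L30223
theorem L30231 : sm gj N3494 = N2433 := ded_52_1 (flp_h L21168) (flp_j L21072) L30223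
theorem L30233 : sm gd N3494 = N3494 := ded_38_1 (flp_h L30223) (flp_d L21066) L14737 L21066 L30223
theorem L30234 : sm gi N2423 = N3495 := rfl
theorem L30236 : sm ga N3495 = N2678 := ded_18_1 (flp_i L23346) (flp_a L21068) L30234
theorem L30238 : sm gb N3495 = N3495 := ded_26_1 (flp_i L30234) L21070 L30234
theorem L30239 : sm gc N3495 = N3495 := ded_33_1 (flp_i L30234) L21074 L30234
theorem L30240 : sm gd N3495 = N2424 := ded_39_1 (flp_i L21076) L21066 L30234
theorem L30242 : sm ge N3495 = N3495 := ded_44_1 (flp_i L30234) L21075 L30234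
theorem L30243 : sm gf N3495 = N3495 := ded_48_1 (flp_i L30234) L21071 L30234
theorem L30244 : sm gj N3495 = N2434 := ded_53_1 (flp_i L21178) (flp_j L21072) L30234
theorem L30246 : sm gh N2424 = N3496 := rfl
theorem L30248 : sm ga N3496 = N2679 := ded_17_1 (flp_h L23355) (flp_a L21078) L30246
theorem L30253 : sm ge N3496 = N2425 := ded_43_1 (flp_h L21088) (flp_e L21083) L30246
theorem L30256 : sm gj N3496 = N2435 := ded_52_1 (flp_h L21189) (flp_j L21086) L30246
theorem L30259 : sm gd N2425 = N3497 := rfl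
theorem L30261 : sm ga N3497 = N2680 := ded_12_1 (flp_d L23365) (flp_a L21090) L30259
theorem L30264 : sm gf N3497 = N2448 := ded_35_2 (flp_d L21303) (flp_f L21095) L30259
theorem L30266 : sm gj N3497 = N2436 := ded_37_2 (flp_d L21201) (flp_j L21097) L30259
theorem L30270 : sm gd N2426 = N3498 := rfl
theorem L30272 : sm ga N3498 = N2681 := ded_12_1 (flp_d L23373) (flp_a L21102) L30270
theorem L30274 : sm gf N3498 = N3498 := ded_35_2 (flp_d L30270) L21106 L30270
theorem L30275 : sm gj N3498 = N2437 := ded_37_2 (flp_d L21211) (flp_j L21107) L30270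
theorem L30277 : sm gi N3498 = N3498 := ded_39_2 (flp_d L30270) L21109 L30270
theorem L30278 : sm gh N3498 = N3498 := ded_38_2 (flp_d L30270) (flp_h L21100) L14755 L21100 L30270
theorem L30279 : sm gc N2427 = N3499 := rfl
theorem L30281 : sm ga N3499 = N2682 := ded_11_1 (flp_c L23381) (flp_a L21112) L30279
theorem L30283 : sm gf N3499 = N2449 := ded_29_2 (flp_c L21313) (flp_f L21114) L30279
theorem L30285 : sm gj N3499 = N2438 := ded_31_2 (flp_c L21219) (flp_j L21116) L30279
theorem L30287 : sm gh N3499 = N2428 := ded_32_2 (flp_c L21121) (flp_h L21119) L30279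
theorem L30290 : sm ge N2427 = N3500 := rfl
theorem L30292 : sm ga N3500 = N2683 := ded_13_1 (flp_e L23390) (flp_a L21112) L30290
theorem L30294 : sm gj N3500 = N2439 := ded_42_2 (flp_e L21229) (flp_j L21116) L30290
theorem L30296 : sm gh N3500 = N2429 := ded_43_2 (flp_e L21132) (flp_h L21119) L30290
theorem L30298 : sm gi N3500 = N3500 := ded_44_2 (flp_e L30290) L21118 L30290
theorem L30299 : sm gb N2428 = N3501 := rfl
theorem L30301 : sm gd N3501 = N3501 := ded_20_2 (flp_b L30299) L21131 L30299
theorem L30302 : sm gf N3501 = N2451 := ded_22_2 (flp_b L21334) (flp_f L21125) L30299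
theorem L30304 : sm gj N3501 = N2440 := ded_24_2 (flp_b L21237) (flp_j L21127) L30299
theorem L30306 : sm gi N3501 = N2430 := ded_26_2 (flp_b L21141) (flp_i L21129) L30299
theorem L30308 : sm ge N2428 = N3502 := rfl
theorem L30310 : sm ga N3502 = N2685 := ded_13_1 (flp_e L23408) (flp_a L21123) L30308
theorem L30312 : sm gc N3502 = N2429 := ded_28_1 (flp_e L21132) L21121 L30308
theorem L30314 : sm gj N3502 = N2441 := ded_42_2 (flp_e L21245) (flp_j L21127) L30308
theorem L30316 : sm gi N3502 = N2431 := ded_44_2 (flp_e L21149) (flp_i L21129) L30308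
theorem L30318 : sm gf N2429 = N3503 := rfl
theorem L30320 : sm ga N3503 = N2686 := ded_14_1 (flp_f L23416) (flp_a L21134) L30318
theorem L30322 : sm gd N3503 = N3503 := ded_35_1 (flp_f L30318) L21140 L30318
theorem L30323 : sm gj N3503 = N2442 := ded_46_2 (flp_f L21254) (flp_j L21136) L30318
theorem L30325 : sm gi N3503 = N2432 := ded_48_2 (flp_f L21158) (flp_i L21138) L30318
theorem L30327 : sm ge N3503 = N2453 := ded_40_1 (flp_f L21353) (flp_e L14921) (flp_f L14774) L21132 L30318
theorem L30329 : sm ga N2430 = N3504 := rfl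
theorem L30331 : sm gd N3504 = N3504 := ded_12_2 (flp_a L30329) L21143 L30329
theorem L30332 : sm gf N3504 = N2454 := ded_14_2 (flp_a L21363) (flp_f L21144) L30329
theorem L30334 : sm gj N3504 = N2443 := ded_16_2 (flp_a L21263) (flp_j L21146) L30329
theorem L30336 : sm gh N3504 = N3504 := ded_17_2 (flp_a L30329) L21148 L30329
theorem L30337 : sm gb N3504 = N2687 := ded_10_2 (flp_a L23426) (flp_b L16374) (flp_a L14782) L21141 L30329
theorem L30339 : sm ge N2430 = N3505 := rfl
theorem L30341 : sm gb N3505 = N2431 := ded_21_1 (flp_e L21149) L21141 L30339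
theorem L30343 : sm gj N3505 = N2444 := ded_42_2 (flp_e L21272) (flp_j L21146) L30339
theorem L30345 : sm gh N3505 = N3505 := ded_43_2 (flp_e L30339) L21148 L30339
theorem L30346 : sm gd N2431 = N3506 := rfl
theorem L30348 : sm ga N3506 = N2689 := ded_12_1 (flp_d L23443) (flp_a L21151) L30346
theorem L30350 : sm gj N3506 = N2445 := ded_37_2 (flp_d L21278) (flp_j L21155) L30346
theorem L30352 : sm gc N3506 = N3506 := ded_27_1 (flp_d L30346) L21153 L14797 (flp_c L21153) L30346
theorem L30353 : sm ge N3506 = N3506 := ded_34_2 (flp_d L30346) (flp_e L21149) L14789 L21149 L30346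
theorem L30354 : sm gf N2431 = N3507 := rfl
theorem L30356 : sm ga N3507 = N2690 := ded_14_1 (flp_f L23449) (flp_a L21151) L30354
theorem L30358 : sm gc N3507 = N2432 := ded_29_1 (flp_f L21158) (flp_c L21153) L30354
theorem L30360 : sm gj N3507 = N2446 := ded_46_2 (flp_f L21285) (flp_j L21155) L30354
theorem L30362 : sm gh N3507 = N3507 := ded_47_2 (flp_f L30354) L21157 L30354
theorem L30363 : sm ge N3507 = N2457 := ded_40_1 (flp_f L21390) (flp_e L14939) (flp_f L14784) L21149 L30354
theorem L30365 : sm gg N2432 = N3508 := rfl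
theorem L30367 : sm ga N3508 = N2691 := ded_15_1 (flp_g L23458) (flp_a L21160) L30365
theorem L30369 : sm gd N3508 = N3508 := ded_36_1 (flp_g L30365) L21162 L30365
theorem L30370 : sm ge N3508 = N2458 := ded_41_1 (flp_g L21399) (flp_e L21166) L30365
theorem L30372 : sm gh N3508 = N3508 := ded_50_2 (flp_g L30365) L21165 L30365
theorem L30373 : sm gi N2433 = N3509 := rfl
theorem L30383 : sm gh N2434 = N3510 := rfl
theorem L30392 : sm gd N2435 = N3511 := rfl
theorem L30394 : sm ga N3511 = N2699 := ded_12_1 (flp_d L23526) (flp_a L21191) L30392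
theorem L30400 : sm gc N2436 = N3512 := rfl
theorem L30404 : sm gf N3512 = N2459 := ded_29_2 (flp_c L21407) (flp_f L21206) L30400
theorem L30409 : sm gd N3512 = N2438 := ded_27_2 (flp_c L21219) (flp_d L14838) (flp_c L14823) L21201 L30400
theorem L30419 : sm gc N2437 = N3514 := rfl
theorem L30421 : sm ga N3514 = N2702 := ded_11_1 (flp_c L23545) (flp_a L21213) L30419
theorem L30427 : sm ge N2437 = N3515 := rfl
theorem L30429 : sm ga N3515 = N2703 := ded_13_1 (flp_e L23551) (flp_a L21213) L30427
theorem L30431 : sm gg N3515 = N3515 := ded_41_2 (flp_e L30427) L21216 L30427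
theorem L30432 : sm gh N3515 = N3515 := ded_43_2 (flp_e L30427) L21218 L30427
theorem L30433 : sm gi N3515 = N3515 := ded_44_2 (flp_e L30427) L21217 L30427
theorem L30434 : sm gd N3515 = N2439 := ded_34_1 (flp_e L21229) (flp_d L14838) (flp_e L14833) L21211 L30427
theorem L30436 : sm gb N2438 = N3516 := rfl
theorem L30438 : sm gf N3516 = N2461 := ded_22_2 (flp_b L21427) (flp_f L21223) L30436
theorem L30441 : sm gh N3516 = N2440 := ded_25_2 (flp_b L21237) (flp_h L21226) L30436
theorem L30444 : sm ge N2438 = N3517 := rfl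
theorem L30448 : sm gc N3517 = N2439 := ded_28_1 (flp_e L21229) L21219 L30444
theorem L30451 : sm gh N3517 = N2441 := ded_43_2 (flp_e L21245) (flp_h L21226) L30444
theorem L30453 : sm gi N3517 = N3517 := ded_44_2 (flp_e L30444) L21228 L30444
theorem L30454 : sm gf N2439 = N3518 := rfl
theorem L30456 : sm ga N3518 = N2706 := ded_14_1 (flp_f L23576) (flp_a L21231) L30454
theorem L30458 : sm gh N3518 = N2442 := ded_47_2 (flp_f L21254) (flp_h L21234) L30454
theorem L30460 : sm gi N3518 = N3518 := ded_48_2 (flp_f L30454) L21236 L30454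
theorem L30461 : sm ge N3518 = N2463 := ded_40_1 (flp_f L21445) (flp_e L14976) (flp_f L14842) L21229 L30454
theorem L30463 : sm ga N2440 = N3519 := rfl
theorem L30466 : sm gf N3519 = N2464 := ded_14_2 (flp_a L21453) (flp_f L21240) L30463
theorem L30469 : sm gi N3519 = N2443 := ded_18_2 (flp_a L21263) (flp_i L21243) L30463
theorem L30471 : sm gb N3519 = N2707 := ded_10_2 (flp_a L23584) (flp_b L16480) (flp_a L14850) L21237 L30463
theorem L30473 : sm ge N2440 = N3520 := rfl
theorem L30475 : sm gb N3520 = N2441 := ded_21_1 (flp_e L21245) L21237 L30473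
theorem L30477 : sm gg N3520 = N3520 := ded_41_2 (flp_e L30473) L21242 L30473
theorem L30478 : sm gi N3520 = N2444 := ded_44_2 (flp_e L21272) (flp_i L21243) L30473
theorem L30480 : sm gd N2441 = N3521 := rfl
theorem L30482 : sm ga N3521 = N2709 := ded_12_1 (flp_d L23601) (flp_a L21247) L30480
theorem L30484 : sm gg N3521 = N3521 := ded_36_2 (flp_d L30480) L21251 L30480
theorem L30485 : sm gi N3521 = N2445 := ded_39_2 (flp_d L21278) (flp_i L21252) L30480
theorem L30487 : sm gc N3521 = N3521 := ded_27_1 (flp_d L30480) L21249 L14865 (flp_c L21249) L30480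
theorem L30488 : sm ge N3521 = N3521 := ded_34_2 (flp_d L30480) (flp_e L21245) L14857 L21245 L30480
theorem L30489 : sm gf N2441 = N3522 := rfl
theorem L30491 : sm ga N3522 = N2710 := ded_14_1 (flp_f L23608) (flp_a L21247) L30489
theorem L30493 : sm gc N3522 = N2442 := ded_29_1 (flp_f L21254) (flp_c L21249) L30489
theorem L30495 : sm gi N3522 = N2446 := ded_48_2 (flp_f L21285) (flp_i L21252) L30489
theorem L30497 : sm ge N3522 = N2467 := ded_40_1 (flp_f L21481) (flp_e L14993) (flp_f L14852) L21245 L30489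
theorem L30499 : sm gg N2442 = N3523 := rfl
theorem L30501 : sm ga N3523 = N2711 := ded_15_1 (flp_g L23616) (flp_a L21256) L30499
theorem L30503 : sm gd N3523 = N3523 := ded_36_1 (flp_g L30499) L21258 L30499
theorem L30504 : sm ge N3523 = N2468 := ded_41_1 (flp_g L21489) (flp_e L21261) L30499
theorem L30506 : sm gi N3523 = N2447 := ded_51_2 (flp_g L21294) (flp_i L21259) L30499
theorem L30508 : sm gf N3523 = N3523 := ded_45_1 (flp_g L30499) (flp_f L21254) L14862 L21254 L30499
theorem L30509 : sm ge N2443 = N3524 := rfl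
theorem L30511 : sm ga N3524 = N2444 := ded_13_1 (flp_e L21272) L21263 L30509
theorem L30513 : sm gb N3524 = N2712 := ded_21_1 (flp_e L23625) (flp_b L21270) L30509
theorem L30515 : sm gg N3524 = N3524 := ded_41_2 (flp_e L30509) L21268 L30509
theorem L30516 : sm gh N3524 = N3524 := ded_43_2 (flp_e L30509) L21269 L30509
theorem L30517 : sm gd N2444 = N3525 := rfl
theorem L30519 : sm gb N3525 = N2445 := ded_20_1 (flp_d L21278) (flp_b L21274) L30517
theorem L30521 : sm gg N3525 = N3525 := ded_36_2 (flp_d L30517) L21276 L30517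
theorem L30522 : sm ge N3525 = N3525 := ded_34_2 (flp_d L30517) (flp_e L21272) L14868 L21272 L30517
theorem L30523 : sm gf N2444 = N3526 := rfl
theorem L30525 : sm gb N3526 = N2446 := ded_22_1 (flp_f L21285) (flp_b L21274) L30523
theorem L30527 : sm gh N3526 = N3526 := ded_47_2 (flp_f L30523) L21277 L30523
theorem L30528 : sm ge N3526 = N2471 := ded_40_1 (flp_f L21515) (flp_e L15019) (flp_f L14869) L21272 L30523
theorem L30530 : sm gf N2445 = N3527 := rfl
theorem L30532 : sm ga N3527 = N2715 := ded_14_1 (flp_f L23646) (flp_a L21280) L30530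
theorem L30534 : sm gc N3527 = N3527 := ded_29_1 (flp_f L30530) L21283 L30530
theorem L30535 : sm gd N3527 = N2446 := ded_35_1 (flp_f L21285) L21278 L30530
theorem L30537 : sm gh N2445 = N3528 := rfl
theorem L30539 : sm ga N3528 = N2716 := ded_17_1 (flp_h L23651) (flp_a L21280) L30537
theorem L30541 : sm gc N3528 = N3528 := ded_32_1 (flp_h L30537) L21283 L30537
theorem L30542 : sm ge N3528 = N3528 := ded_43_1 (flp_h L30537) L21284 L30537
theorem L30543 : sm gg N3528 = N3528 := ded_50_1 (flp_h L30537) L21282 L30537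
theorem L30544 : sm gd N3528 = N3528 := ded_38_1 (flp_h L30537) (flp_d L21278) L14880 L21278 L30537
theorem L30545 : sm gg N2446 = N3529 := rfl
theorem L30547 : sm ga N3529 = N2717 := ded_15_1 (flp_g L23657) (flp_a L21287) L30545
theorem L30549 : sm gc N3529 = N2447 := ded_30_1 (flp_g L21294) (flp_c L21289) L30545
theorem L30551 : sm ge N3529 = N2474 := ded_41_1 (flp_g L21538) (flp_e L21292) L30545
theorem L30553 : sm gh N3529 = N3529 := ded_50_2 (flp_g L30545) L21291 L30545
theorem L30554 : sm gf N3529 = N3529 := ded_45_1 (flp_g L30545) (flp_f L21285) L14879 L21285 L30545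
theorem L30555 : sm gj N2447 = N3530 := rfl
theorem L30557 : sm ga N3530 = N2718 := ded_16_1 (flp_j L23665) (flp_a L21296) L30555
theorem L30559 : sm gd N3530 = N3530 := ded_37_1 (flp_j L30555) L21298 L30555
theorem L30560 : sm ge N3530 = N2475 := ded_42_1 (flp_j L21547) (flp_e L21299) L30555
theorem L30562 : sm gf N3530 = N3530 := ded_46_1 (flp_j L30555) L21302 L30555
theorem L30563 : sm gh N3530 = N3530 := ded_52_2 (flp_j L30555) L21301 L30555
theorem L30564 : sm gc N2448 = N3531 := rfl
theorem L30568 : sm gg N3531 = N3531 := ded_30_2 (flp_c L30564) L21308 L30564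
theorem L30569 : sm gj N3531 = N2459 := ded_31_2 (flp_c L21407) (flp_j L21309) L30564
theorem L30575 : sm ge N2448 = N3532 := rfl
theorem L30581 : sm gj N3532 = N2460 := ded_42_2 (flp_e L21417) (flp_j L21309) L30575
theorem L30586 : sm gb N2449 = N3533 := rfl
theorem L30588 : sm gg N3533 = N3533 := ded_23_2 (flp_b L30586) L21317 L30586
theorem L30589 : sm gj N3533 = N2461 := ded_24_2 (flp_b L21427) (flp_j L21318) L30586
theorem L30591 : sm gh N3533 = N2451 := ded_25_2 (flp_b L21334) (flp_h L21320) L30586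
theorem L30594 : sm ge N2449 = N3534 := rfl
theorem L30596 : sm ga N3534 = N2723 := ded_13_1 (flp_e L23709) (flp_a L21315) L30594
theorem L30598 : sm gc N3534 = N2450 := ded_28_1 (flp_e L21323) L21313 L30594
theorem L30600 : sm gg N3534 = N3534 := ded_41_2 (flp_e L30594) L21317 L30594
theorem L30601 : sm gj N3534 = N2462 := ded_42_2 (flp_e L21434) (flp_j L21318) L30594
theorem L30603 : sm gh N3534 = N2452 := ded_43_2 (flp_e L21342) (flp_h L21320) L30594
theorem L30606 : sm gf N2450 = N3535 := rfl
theorem L30608 : sm ga N3535 = N2724 := ded_14_1 (flp_f L23719) (flp_a L21325) L30606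
theorem L30610 : sm gd N3535 = N3535 := ded_35_1 (flp_f L30606) L21333 L30606
theorem L30611 : sm gj N3535 = N2463 := ded_46_2 (flp_f L21445) (flp_j L21328) L30606
theorem L30613 : sm gh N3535 = N2453 := ded_47_2 (flp_f L21353) (flp_h L21330) L30606
theorem L30615 : sm gi N3535 = N3535 := ded_48_2 (flp_f L30606) L21332 L30606
theorem L30616 : sm ga N2451 = N3536 := rfl
theorem L30620 : sm gj N3536 = N2464 := ded_16_2 (flp_a L21453) (flp_j L21338) L30616
theorem L30622 : sm gi N3536 = N2454 := ded_18_2 (flp_a L21363) (flp_i L21340) L30616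
theorem L30624 : sm gb N3536 = N2725 := ded_10_2 (flp_a L23728) (flp_b L16575) (flp_a L14913) L21334 L30616
theorem L30626 : sm ge N2451 = N3537 := rfl
theorem L30628 : sm gb N3537 = N2452 := ded_21_1 (flp_e L21342) L21334 L30626
theorem L30630 : sm gg N3537 = N3537 := ded_41_2 (flp_e L30626) L21337 L30626
theorem L30631 : sm gj N3537 = N2465 := ded_42_2 (flp_e L21462) (flp_j L21338) L30626
theorem L30633 : sm gi N3537 = N2455 := ded_44_2 (flp_e L21372) (flp_i L21340) L30626
theorem L30635 : sm gd N2452 = N3538 := rfl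
theorem L30637 : sm ga N3538 = N2727 := ded_12_1 (flp_d L23747) (flp_a L21344) L30635
theorem L30639 : sm gg N3538 = N3538 := ded_36_2 (flp_d L30635) L21348 L30635
theorem L30640 : sm gj N3538 = N2466 := ded_37_2 (flp_d L21470) (flp_j L21349) L30635
theorem L30642 : sm gi N3538 = N2456 := ded_39_2 (flp_d L21380) (flp_i L21351) L30635
theorem L30644 : sm gc N3538 = N2504 := ded_27_1 (flp_d L21801) L15212 (flp_d L14930) (flp_c L21346) L30635
theorem L30646 : sm ge N3538 = N3538 := ded_34_2 (flp_d L30635) (flp_e L21342) L14920 L21342 L30635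
theorem L30647 : sm gf N2452 = N3539 := rfl
theorem L30649 : sm ga N3539 = N2728 := ded_14_1 (flp_f L23757) (flp_a L21344) L30647
theorem L30651 : sm gc N3539 = N2453 := ded_29_1 (flp_f L21353) (flp_c L21346) L30647
theorem L30653 : sm gj N3539 = N2467 := ded_46_2 (flp_f L21481) (flp_j L21349) L30647
theorem L30655 : sm gi N3539 = N2457 := ded_48_2 (flp_f L21390) (flp_i L21351) L30647
theorem L30657 : sm gg N2453 = N3540 := rfl
theorem L30659 : sm ga N3540 = N2729 := ded_15_1 (flp_g L23765) (flp_a L21355) L30657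
theorem L30661 : sm gd N3540 = N2506 := ded_36_1 (flp_g L21823) (flp_d L21357) L30657
theorem L30663 : sm gi N3540 = N2458 := ded_51_2 (flp_g L21399) (flp_i L21361) L30657
theorem L30665 : sm gf N3540 = N3540 := ded_45_1 (flp_g L30657) (flp_f L21353) L14925 L21353 L30657
theorem L30666 : sm ge N2454 = N3541 := rfl
theorem L30668 : sm ga N3541 = N2455 := ded_13_1 (flp_e L21372) L21363 L30666
theorem L30670 : sm gb N3541 = N2730 := ded_21_1 (flp_e L23773) (flp_b L21370) L30666
theorem L30672 : sm gg N3541 = N3541 := ded_41_2 (flp_e L30666) L21366 L30666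
theorem L30673 : sm gj N3541 = N2469 := ded_42_2 (flp_e L21499) (flp_j L21367) L30666
theorem L30675 : sm gh N3541 = N3541 := ded_43_2 (flp_e L30666) L21369 L30666
theorem L30676 : sm gd N2455 = N3542 := rfl
theorem L30678 : sm gb N3542 = N2456 := ded_20_1 (flp_d L21380) (flp_b L21374) L30676
theorem L30680 : sm gg N3542 = N3542 := ded_36_2 (flp_d L30676) L21376 L30676
theorem L30681 : sm gj N3542 = N2470 := ded_37_2 (flp_d L21508) (flp_j L21377) L30676
theorem L30683 : sm ge N3542 = N3542 := ded_34_2 (flp_d L30676) (flp_e L21372) L14934 L21372 L30676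
theorem L30684 : sm gf N2455 = N3543 := rfl
theorem L30686 : sm gb N3543 = N2457 := ded_22_1 (flp_f L21390) (flp_b L21374) L30684
theorem L30688 : sm gj N3543 = N2471 := ded_46_2 (flp_f L21515) (flp_j L21377) L30684
theorem L30690 : sm gh N3543 = N3543 := ded_47_2 (flp_f L30684) L21379 L30684
theorem L30691 : sm gf N2456 = N3544 := rfl
theorem L30693 : sm ga N3544 = N2733 := ded_14_1 (flp_f L23798) (flp_a L21382) L30691
theorem L30695 : sm gc N3544 = N2510 := ded_29_1 (flp_f L21860) (flp_c L21387) L30691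
theorem L30697 : sm gd N3544 = N2457 := ded_35_1 (flp_f L21390) L21380 L30691
theorem L30699 : sm gj N3544 = N2472 := ded_46_2 (flp_f L21520) (flp_j L21385) L30691
theorem L30701 : sm gh N2456 = N3545 := rfl
theorem L30703 : sm ga N3545 = N2734 := ded_17_1 (flp_h L23806) (flp_a L21382) L30701
theorem L30705 : sm gc N3545 = N2511 := ded_32_1 (flp_h L21868) (flp_c L21387) L30701
theorem L30707 : sm ge N3545 = N3545 := ded_43_1 (flp_h L30701) L21389 L30701
theorem L30708 : sm gg N3545 = N3545 := ded_50_1 (flp_h L30701) L21384 L30701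
theorem L30709 : sm gj N3545 = N2473 := ded_52_1 (flp_h L21528) (flp_j L21385) L30701
theorem L30711 : sm gd N3545 = N3545 := ded_38_1 (flp_h L30701) (flp_d L21380) L14948 L21380 L30701
theorem L30712 : sm gg N2457 = N3546 := rfl
theorem L30714 : sm ga N3546 = N2735 := ded_15_1 (flp_g L23815) (flp_a L21392) L30712
theorem L30716 : sm gc N3546 = N2458 := ded_30_1 (flp_g L21399) (flp_c L21394) L30712
theorem L30718 : sm gh N3546 = N3546 := ded_50_2 (flp_g L30712) L21398 L30712
theorem L30719 : sm gf N3546 = N3546 := ded_45_1 (flp_g L30712) (flp_f L21390) L14945 L21390 L30712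
theorem L30720 : sm gj N2458 = N3547 := rfl
theorem L30722 : sm ga N3547 = N2736 := ded_16_1 (flp_j L23821) (flp_a L21401) L30720
theorem L30724 : sm gd N3547 = N2513 := ded_37_1 (flp_j L21888) (flp_d L21403) L30720
theorem L30726 : sm gf N3547 = N3547 := ded_46_1 (flp_j L30720) L21406 L30720
theorem L30727 : sm gh N3547 = N3547 := ded_52_2 (flp_j L30720) L21405 L30720
theorem L30728 : sm gg N3547 = N2475 := ded_49_1 (flp_j L21547) (flp_g L15042) (flp_j L14955) L21399 L30720
theorem L30730 : sm gb N2459 = N3548 := rfl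
theorem L30732 : sm gd N3548 = N2461 := ded_20_2 (flp_b L21427) (flp_d L21415) L30730
theorem L30734 : sm gg N3548 = N2476 := ded_23_2 (flp_b L21556) (flp_g L21411) L30730
theorem L30739 : sm ge N2459 = N3549 := rfl
theorem L30741 : sm ga N3549 = N2740 := ded_13_1 (flp_e L23856) (flp_a L21409) L30739
theorem L30745 : sm gg N3549 = N2477 := ded_41_2 (flp_e L21565) (flp_g L21411) L30739
theorem L30749 : sm gf N2460 = N3550 := rfl
theorem L30757 : sm ga N2461 = N3551 := rfl
theorem L30759 : sm gg N3551 = N2479 := ded_15_2 (flp_a L21584) (flp_g L21429) L30757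
theorem L30761 : sm gh N3551 = N2464 := ded_17_2 (flp_a L21453) (flp_h L21431) L30757
theorem L30764 : sm gb N3551 = N2742 := ded_10_2 (flp_a L23869) (flp_b L16665) (flp_a L14969) L21427 L30757
theorem L30766 : sm ge N2461 = N3552 := rfl
theorem L30770 : sm gg N3552 = N2480 := ded_41_2 (flp_e L21593) (flp_g L21429) L30766
theorem L30772 : sm gh N3552 = N2465 := ded_43_2 (flp_e L21462) (flp_h L21431) L30766
theorem L30775 : sm gd N2462 = N3553 := rfl
theorem L30779 : sm gg N3553 = N2481 := ded_36_2 (flp_d L21601) (flp_g L21440) L30775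
theorem L30783 : sm gf N2462 = N3554 := rfl
theorem L30787 : sm gc N3554 = N2463 := ded_29_1 (flp_f L21445) (flp_c L21438) L30783
theorem L30789 : sm gh N3554 = N2467 := ded_47_2 (flp_f L21481) (flp_h L21442) L30783
theorem L30792 : sm gg N2463 = N3555 := rfl
theorem L30794 : sm ga N3555 = N2746 := ded_15_1 (flp_g L23900) (flp_a L21447) L30792
theorem L30796 : sm gd N3555 = N3555 := ded_36_1 (flp_g L30792) L21449 L30792
theorem L30797 : sm gh N3555 = N2468 := ded_50_2 (flp_g L21489) (flp_h L21450) L30792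
theorem L30799 : sm gi N3555 = N3555 := ded_51_2 (flp_g L30792) L21452 L30792
theorem L30800 : sm gf N3555 = N2483 := ded_45_1 (flp_g L21619) (flp_f L15087) (flp_g L14980) L21445 L30792
theorem L30802 : sm ge N2464 = N3556 := rfl
theorem L30804 : sm ga N3556 = N2465 := ded_13_1 (flp_e L21462) L21453 L30802
theorem L30806 : sm gb N3556 = N2747 := ded_21_1 (flp_e L23909) (flp_b L21460) L30802
theorem L30808 : sm gg N3556 = N2484 := ded_41_2 (flp_e L21628) (flp_g L21456) L30802
theorem L30810 : sm gi N3556 = N2469 := ded_44_2 (flp_e L21499) (flp_i L21458) L30802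
theorem L30812 : sm gd N2465 = N3557 := rfl
theorem L30814 : sm gb N3557 = N2466 := ded_20_1 (flp_d L21470) (flp_b L21464) L30812
theorem L30816 : sm gg N3557 = N2485 := ded_36_2 (flp_d L21637) (flp_g L21466) L30812
theorem L30818 : sm gi N3557 = N2470 := ded_39_2 (flp_d L21508) (flp_i L21468) L30812
theorem L30820 : sm ge N3557 = N3557 := ded_34_2 (flp_d L30812) (flp_e L21462) L14988 L21462 L30812
theorem L30821 : sm gf N2465 = N3558 := rfl
theorem L30823 : sm gb N3558 = N2467 := ded_22_1 (flp_f L21481) (flp_b L21464) L30821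
theorem L30825 : sm gi N3558 = N2471 := ded_48_2 (flp_f L21515) (flp_i L21468) L30821
theorem L30827 : sm gf N2466 = N3559 := rfl
theorem L30829 : sm ga N3559 = N2750 := ded_14_1 (flp_f L23934) (flp_a L21472) L30827
theorem L30831 : sm gc N3559 = N2517 := ded_29_1 (flp_f L21926) (flp_c L21478) L30827
theorem L30833 : sm gd N3559 = N2467 := ded_35_1 (flp_f L21481) L21470 L30827
theorem L30835 : sm gi N3559 = N2472 := ded_48_2 (flp_f L21520) (flp_i L21476) L30827
theorem L30837 : sm gh N2466 = N3560 := rfl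
theorem L30839 : sm ga N3560 = N2751 := ded_17_1 (flp_h L23942) (flp_a L21472) L30837
theorem L30841 : sm gc N3560 = N2518 := ded_32_1 (flp_h L21934) (flp_c L21478) L30837
theorem L30844 : sm gg N3560 = N2488 := ded_50_1 (flp_h L21664) (flp_g L21474) L30837
theorem L30846 : sm gg N2467 = N3561 := rfl
theorem L30848 : sm ga N3561 = N2752 := ded_15_1 (flp_g L23949) (flp_a L21483) L30846
theorem L30850 : sm gc N3561 = N2468 := ded_30_1 (flp_g L21489) (flp_c L21485) L30846
theorem L30852 : sm gi N3561 = N2474 := ded_51_2 (flp_g L21538) (flp_i L21487) L30846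
theorem L30854 : sm gf N3561 = N2489 := ded_45_1 (flp_g L21672) (flp_f L15123) (flp_g L14999) L21481 L30846
theorem L30856 : sm gj N2468 = N3562 := rfl
theorem L30858 : sm ga N3562 = N2753 := ded_16_1 (flp_j L23957) (flp_a L21491) L30856
theorem L30860 : sm gd N3562 = N2520 := ded_37_1 (flp_j L21954) (flp_d L21493) L30856
theorem L30862 : sm gf N3562 = N2490 := ded_46_1 (flp_j L21681) (flp_f L21497) L30856
theorem L30864 : sm gi N3562 = N2475 := ded_53_2 (flp_j L21547) (flp_i L21495) L30856
theorem L30866 : sm gd N2469 = N3563 := rfl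
theorem L30868 : sm ga N3563 = N2470 := ded_12_1 (flp_d L21508) (flp_a L21501) L30866
theorem L30870 : sm gb N3563 = N2754 := ded_20_1 (flp_d L23966) (flp_b L21503) L30866
theorem L30872 : sm gg N3563 = N2491 := ded_36_2 (flp_d L21691) (flp_g L21505) L30866
theorem L30874 : sm ge N3563 = N3563 := ded_34_2 (flp_d L30866) (flp_e L21499) L15013 L21499 L30866
theorem L30875 : sm gf N2469 = N3564 := rfl
theorem L30877 : sm ga N3564 = N2471 := ded_14_1 (flp_f L21515) (flp_a L21501) L30875
theorem L30879 : sm gb N3564 = N2755 := ded_22_1 (flp_f L23973) (flp_b L21503) L30875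
theorem L30881 : sm gh N3564 = N3564 := ded_47_2 (flp_f L30875) L21507 L30875
theorem L30882 : sm gc N2470 = N3565 := rfl
theorem L30884 : sm ge N3565 = N3565 := ded_28_2 (flp_c L30882) L21514 L30882
theorem L30885 : sm gg N3565 = N2493 := ded_30_2 (flp_c L21708) (flp_g L21512) L30882
theorem L30887 : sm gb N3565 = N2523 := ded_19_1 (flp_c L21982) L15338 (flp_c L15032) (flp_b L21510) L30882
theorem L30889 : sm gf N2470 = N3566 := rfl
theorem L30891 : sm gb N3566 = N2472 := ded_22_1 (flp_f L21520) (flp_b L21510) L30889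
theorem L30893 : sm gd N3566 = N2471 := ded_35_1 (flp_f L21515) L21508 L30889
theorem L30895 : sm gh N2470 = N3567 := rfl
theorem L30897 : sm gb N3567 = N2473 := ded_25_1 (flp_h L21528) (flp_b L21510) L30895
theorem L30899 : sm ge N3567 = N3567 := ded_43_1 (flp_h L30895) L21514 L30895
theorem L30900 : sm gg N3567 = N2495 := ded_50_1 (flp_h L21721) (flp_g L21512) L30895
theorem L30902 : sm gd N3567 = N3567 := ded_38_1 (flp_h L30895) (flp_d L21508) L15025 L21508 L30895
theorem L30903 : sm gg N2471 = N3568 := rfl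
theorem L30905 : sm gb N3568 = N2474 := ded_23_1 (flp_g L21538) (flp_b L21517) L30903
theorem L30907 : sm gh N3568 = N3568 := ded_50_2 (flp_g L30903) L21519 L30903
theorem L30908 : sm gf N3568 = N2496 := ded_45_1 (flp_g L21728) (flp_f L15156) (flp_g L15023) L21515 L30903
theorem L30910 : sm ge N2472 = N3569 := rfl
theorem L30912 : sm ga N3569 = N2760 := ded_13_1 (flp_e L24009) (flp_a L21522) L30910
theorem L30914 : sm gc N3569 = N2527 := ded_28_1 (flp_e L22011) (flp_c L21524) L30910
theorem L30916 : sm gf N3569 = N3569 := ded_40_2 (flp_e L30910) (flp_f L21520) L15034 L21520 L30910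
theorem L30917 : sm gg N2472 = N3570 := rfl
theorem L30919 : sm ga N3570 = N2761 := ded_15_1 (flp_g L24014) (flp_a L21522) L30917
theorem L30921 : sm gc N3570 = N2528 := ded_30_1 (flp_g L22017) (flp_c L21524) L30917
theorem L30923 : sm gd N3570 = N2474 := ded_36_1 (flp_g L21538) (flp_d L21526) L30917
theorem L30925 : sm gf N3570 = N2498 := ded_45_1 (flp_g L21743) (flp_f L15163) (flp_g L15030) L21520 L30917
theorem L30927 : sm gh N2472 = N3571 := rfl
theorem L30929 : sm ga N3571 = N2762 := ded_17_1 (flp_h L24022) (flp_a L21522) L30927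
theorem L30931 : sm gc N3571 = N2529 := ded_32_1 (flp_h L22025) (flp_c L21524) L30927
theorem L30933 : sm gf N3571 = N2473 := ded_47_1 (flp_h L21528) L21520 L30927
theorem L30935 : sm gd N3571 = N3571 := ded_38_1 (flp_h L30927) L21526 L15041 (flp_d L21526) L30927
theorem L30936 : sm gi N2473 = N3572 := rfl
theorem L30940 : sm gc N3572 = N2530 := ded_33_1 (flp_i L22033) (flp_c L21532) L30936
theorem L30942 : sm gd N3572 = N3572 := ded_39_1 (flp_i L30936) L21537 L30936
theorem L30943 : sm ge N3572 = N3572 := ded_44_1 (flp_i L30936) L21534 L30936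
theorem L30944 : sm gg N3572 = N2500 := ded_51_1 (flp_i L21761) (flp_g L21535) L30936
theorem L30946 : sm gj N2474 = N3573 := rfl
theorem L30948 : sm ga N3573 = N2764 := ded_16_1 (flp_j L24037) (flp_a L21540) L30946
theorem L30950 : sm gc N3573 = N2475 := ded_31_1 (flp_j L21547) (flp_c L21542) L30946
theorem L30952 : sm gf N3573 = N2501 := ded_46_1 (flp_j L21770) (flp_f L21545) L30946
theorem L30954 : sm gh N3573 = N3573 := ded_52_2 (flp_j L30946) L21544 L30946
theorem L30955 : sm ga N2476 = N3574 := rfl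
theorem L30958 : sm gd N3574 = N2479 := ded_12_2 (flp_a L21584) (flp_d L21558) L30955
theorem L30964 : sm gb N3574 = N2768 := ded_10_2 (flp_a L24071) (flp_b L16797) (flp_a L15053) L21556 L30955
theorem L30966 : sm ge N2476 = N3575 := rfl
theorem L30968 : sm gb N3575 = N2477 := ded_21_1 (flp_e L21565) L21556 L30966
theorem L30971 : sm gj N3575 = N3575 := ded_42_2 (flp_e L30966) L21561 L30966
theorem L30974 : sm gd N2477 = N3576 := rfl
theorem L30976 : sm ga N3576 = N2770 := ded_12_1 (flp_d L24086) (flp_a L21567) L30974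
theorem L30981 : sm ge N3576 = N2481 := ded_34_2 (flp_d L21601) (flp_e L15077) (flp_d L15059) L21565 L30974
theorem L30983 : sm gf N2477 = N3577 := rfl
theorem L30987 : sm gc N3577 = N2478 := ded_29_1 (flp_f L21574) (flp_c L21569) L30983
theorem L30993 : sm gg N2478 = N3578 := rfl
theorem L30995 : sm ga N3578 = N2772 := ded_15_1 (flp_g L24101) (flp_a L21576) L30993
theorem L31002 : sm ge N2479 = N3579 := rfl
theorem L31004 : sm ga N3579 = N2480 := ded_13_1 (flp_e L21593) L21584 L31002
theorem L31006 : sm gb N3579 = N2773 := ded_21_1 (flp_e L24107) (flp_b L21591) L31002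
theorem L31009 : sm gh N3579 = N2484 := ded_43_2 (flp_e L21628) (flp_h L21588) L31002
theorem L31012 : sm gd N2480 = N3580 := rfl
theorem L31014 : sm gb N3580 = N2481 := ded_20_1 (flp_d L21601) (flp_b L21595) L31012
theorem L31018 : sm gf N2480 = N3581 := rfl
theorem L31020 : sm gb N3581 = N2482 := ded_22_1 (flp_f L21608) (flp_b L21595) L31018
theorem L31023 : sm gh N3581 = N2486 := ded_47_2 (flp_f L21645) (flp_h L21598) L31018
theorem L31027 : sm gf N2481 = N3582 := rfl
theorem L31029 : sm ga N3582 = N2776 := ded_14_1 (flp_f L24132) (flp_a L21603) L31027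
theorem L31031 : sm gc N3582 = N3582 := ded_29_1 (flp_f L31027) L21607 L31027
theorem L31032 : sm gd N3582 = N2482 := ded_35_1 (flp_f L21608) L21601 L31027
theorem L31034 : sm gj N3582 = N3582 := ded_46_2 (flp_f L31027) L21605 L31027
theorem L31036 : sm gh N2481 = N3583 := rfl
theorem L31041 : sm gj N3583 = N3583 := ded_52_1 (flp_h L31036) L21605 L31036
theorem L31044 : sm gg N2482 = N3584 := rfl
theorem L31051 : sm gh N3584 = N2489 := ded_50_2 (flp_g L21672) (flp_h L21615) L31044
theorem L31054 : sm gj N2483 = N3585 := rfl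
theorem L31056 : sm ga N3585 = N2779 := ded_16_1 (flp_j L24153) (flp_a L21621) L31054
theorem L31058 : sm gd N3585 = N3585 := ded_37_1 (flp_j L31054) L21623 L31054
theorem L31059 : sm ge N3585 = N3585 := ded_42_1 (flp_j L31054) L21624 L31054
theorem L31060 : sm gh N3585 = N2490 := ded_52_2 (flp_j L21681) (flp_h L21625) L31054
theorem L31062 : sm gi N3585 = N3585 := ded_53_2 (flp_j L31054) L21627 L31054
theorem L31063 : sm gg N3585 = N3585 := ded_49_1 (flp_j L31054) (flp_g L21619) L15092 L21619 L31054
theorem L31064 : sm gd N2484 = N3586 := rfl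
theorem L31066 : sm ga N3586 = N2485 := ded_12_1 (flp_d L21637) (flp_a L21630) L31064
theorem L31068 : sm gb N3586 = N2780 := ded_20_1 (flp_d L24162) (flp_b L21632) L31064
theorem L31071 : sm gi N3586 = N2491 := ded_39_2 (flp_d L21691) (flp_i L21635) L31064
theorem L31074 : sm gf N2484 = N3587 := rfl
theorem L31076 : sm ga N3587 = N2486 := ded_14_1 (flp_f L21645) (flp_a L21630) L31074
theorem L31081 : sm gi N3587 = N2492 := ded_48_2 (flp_f L21699) (flp_i L21635) L31074
theorem L31084 : sm gc N2485 = N3588 := rfl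
theorem L31086 : sm ge N3588 = N3588 := ded_28_2 (flp_c L31084) L21644 L31084
theorem L31087 : sm gj N3588 = N3588 := ded_31_2 (flp_c L31084) L21641 L31084
theorem L31088 : sm gi N3588 = N2493 := ded_33_2 (flp_c L21708) (flp_i L21642) L31084
theorem L31090 : sm gb N3588 = N2534 := ded_19_1 (flp_c L22075) L15397 (flp_c L15120) (flp_b L21639) L31084
theorem L31092 : sm gf N2485 = N3589 := rfl
theorem L31094 : sm gb N3589 = N2487 := ded_22_1 (flp_f L21653) (flp_b L21639) L31092
theorem L31096 : sm gd N3589 = N2486 := ded_35_1 (flp_f L21645) L21637 L31092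
theorem L31098 : sm gj N3589 = N3589 := ded_46_2 (flp_f L31092) L21641 L31092
theorem L31099 : sm gi N3589 = N2494 := ded_48_2 (flp_f L21714) (flp_i L21642) L31092
theorem L31101 : sm gh N2485 = N3590 := rfl
theorem L31103 : sm gb N3590 = N2488 := ded_25_1 (flp_h L21664) (flp_b L21639) L31101
theorem L31107 : sm gg N2486 = N3591 := rfl
theorem L31109 : sm gb N3591 = N2489 := ded_23_1 (flp_g L21672) (flp_b L21647) L31107
theorem L31111 : sm ge N3591 = N3591 := ded_41_1 (flp_g L31107) L21652 L31107
theorem L31112 : sm gi N3591 = N2496 := ded_51_2 (flp_g L21728) (flp_i L21650) L31107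
theorem L31114 : sm ge N2487 = N3592 := rfl
theorem L31116 : sm ga N3592 = N2786 := ded_13_1 (flp_e L24211) (flp_a L21655) L31114
theorem L31118 : sm gc N3592 = N2538 := ded_28_1 (flp_e L22106) (flp_c L21657) L31114
theorem L31120 : sm gj N3592 = N3592 := ded_42_2 (flp_e L31114) L21661 L31114
theorem L31121 : sm gi N3592 = N2497 := ded_44_2 (flp_e L21734) (flp_i L21662) L31114
theorem L31123 : sm gd N3592 = N3592 := ded_34_1 (flp_e L31114) L21659 L15132 (flp_d L21659) L31114
theorem L31124 : sm gf N3592 = N3592 := ded_40_2 (flp_e L31114) (flp_f L21653) L15122 L21653 L31114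
theorem L31125 : sm gg N2487 = N3593 := rfl
theorem L31127 : sm ga N3593 = N2787 := ded_15_1 (flp_g L24220) (flp_a L21655) L31125
theorem L31129 : sm gc N3593 = N2539 := ded_30_1 (flp_g L22116) (flp_c L21657) L31125
theorem L31131 : sm gd N3593 = N2489 := ded_36_1 (flp_g L21672) (flp_d L21659) L31125
theorem L31133 : sm gi N3593 = N2498 := ded_51_2 (flp_g L21743) (flp_i L21662) L31125
theorem L31135 : sm gh N2487 = N3594 := rfl
theorem L31139 : sm gc N3594 = N2540 := ded_32_1 (flp_h L22124) (flp_c L21657) L31135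
theorem L31141 : sm gf N3594 = N2488 := ded_47_1 (flp_h L21664) L21653 L31135
theorem L31144 : sm gi N2488 = N3595 := rfl
theorem L31148 : sm gc N3595 = N2541 := ded_33_1 (flp_i L22132) (flp_c L21668) L31144
theorem L31152 : sm gh N3595 = N2500 := ded_54_1 (flp_i L21761) (flp_h L15172) (flp_i L15118) L21664 L31144
theorem L31154 : sm gj N2489 = N3596 := rfl
theorem L31156 : sm ga N3596 = N2790 := ded_16_1 (flp_j L24243) (flp_a L21674) L31154
theorem L31158 : sm gc N3596 = N2490 := ded_31_1 (flp_j L21681) (flp_c L21676) L31154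
theorem L31160 : sm ge N3596 = N3596 := ded_42_1 (flp_j L31154) L21678 L31154
theorem L31161 : sm gi N3596 = N2501 := ded_53_2 (flp_j L21770) (flp_i L21679) L31154
theorem L31163 : sm gg N3596 = N3596 := ded_49_1 (flp_j L31154) (flp_g L21672) L15129 L21672 L31154
theorem L31164 : sm gc N2491 = N3597 := rfl
theorem L31166 : sm ga N3597 = N2493 := ded_11_1 (flp_c L21708) (flp_a L21693) L31164
theorem L31168 : sm ge N3597 = N3597 := ded_28_2 (flp_c L31164) L21698 L31164
theorem L31169 : sm gj N3597 = N3597 := ded_31_2 (flp_c L31164) L21697 L31164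
theorem L31170 : sm gf N2491 = N3598 := rfl
theorem L31172 : sm ga N3598 = N2494 := ded_14_1 (flp_f L21714) (flp_a L21693) L31170
theorem L31174 : sm gb N3598 = N2792 := ded_22_1 (flp_f L24258) (flp_b L21695) L31170
theorem L31176 : sm gd N3598 = N2492 := ded_35_1 (flp_f L21699) L21691 L31170
theorem L31178 : sm gj N3598 = N3598 := ded_46_2 (flp_f L31170) L21697 L31170
theorem L31179 : sm gh N2491 = N3599 := rfl
theorem L31181 : sm ga N3599 = N2495 := ded_17_1 (flp_h L21721) (flp_a L21693) L31179
theorem L31185 : sm ge N3599 = N3599 := ded_43_1 (flp_h L31179) L21698 L31179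
theorem L31186 : sm gj N3599 = N3599 := ded_52_1 (flp_h L31179) L21697 L31179
theorem L31187 : sm gd N3599 = N3599 := ded_38_1 (flp_h L31179) (flp_d L21691) L15149 L21691 L31179
theorem L31188 : sm gg N2492 = N3600 := rfl
theorem L31190 : sm ga N3600 = N2496 := ded_15_1 (flp_g L21728) (flp_a L21701) L31188
theorem L31192 : sm gb N3600 = N2794 := ded_23_1 (flp_g L24272) (flp_b L21703) L31188
theorem L31194 : sm ge N3600 = N3600 := ded_41_1 (flp_g L31188) L21707 L31188
theorem L31195 : sm gh N3600 = N3600 := ded_50_2 (flp_g L31188) L21706 L31188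
theorem L31196 : sm gf N2493 = N3601 := rfl
theorem L31198 : sm gb N3601 = N2547 := ded_22_1 (flp_f L22188) (flp_b L21712) L31196
theorem L31200 : sm gc N3601 = N2494 := ded_29_1 (flp_f L21714) L21708 L31196
theorem L31202 : sm gj N3601 = N3601 := ded_46_2 (flp_f L31196) L21711 L31196
theorem L31203 : sm gh N2493 = N3602 := rfl
theorem L31205 : sm gb N3602 = N2548 := ded_25_1 (flp_h L22193) (flp_b L21712) L31203
theorem L31207 : sm gc N3602 = N2495 := ded_32_1 (flp_h L21721) L21708 L31203
theorem L31209 : sm ge N3602 = N3602 := ded_43_1 (flp_h L31203) L21710 L31203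
theorem L31210 : sm gj N3602 = N3602 := ded_52_1 (flp_h L31203) L21711 L31203
theorem L31211 : sm ge N2494 = N3603 := rfl
theorem L31213 : sm gb N3603 = N2497 := ded_21_1 (flp_e L21734) (flp_b L21716) L31211
theorem L31215 : sm gj N3603 = N3603 := ded_42_2 (flp_e L31211) L21720 L31211
theorem L31216 : sm gd N3603 = N3603 := ded_34_1 (flp_e L31211) L21718 L15162 (flp_d L21718) L31211
theorem L31217 : sm gf N3603 = N3603 := ded_40_2 (flp_e L31211) (flp_f L21714) L15155 L21714 L31211
theorem L31218 : sm gg N2494 = N3604 := rfl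
theorem L31220 : sm gb N3604 = N2498 := ded_23_1 (flp_g L21743) (flp_b L21716) L31218
theorem L31222 : sm gd N3604 = N2496 := ded_36_1 (flp_g L21728) (flp_d L21718) L31218
theorem L31224 : sm gh N2494 = N3605 := rfl
theorem L31226 : sm gb N3605 = N2499 := ded_25_1 (flp_h L21751) (flp_b L21716) L31224
theorem L31228 : sm gf N3605 = N2495 := ded_47_1 (flp_h L21721) L21714 L31224
theorem L31230 : sm gj N3605 = N3605 := ded_52_1 (flp_h L31224) L21720 L31224
theorem L31231 : sm gd N3605 = N3605 := ded_38_1 (flp_h L31224) L21718 L15161 (flp_d L21718) L31224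
theorem L31232 : sm gi N2495 = N3606 := rfl
theorem L31234 : sm gb N3606 = N2500 := ded_26_1 (flp_i L21761) (flp_b L21723) L31232
theorem L31236 : sm gd N3606 = N3606 := ded_39_1 (flp_i L31232) L21727 L31232
theorem L31237 : sm ge N3606 = N3606 := ded_44_1 (flp_i L31232) L21725 L31232
theorem L31238 : sm gj N3606 = N3606 := ded_53_1 (flp_i L31232) L21726 L31232
theorem L31239 : sm gj N2496 = N3607 := rfl
theorem L31241 : sm gb N3607 = N2501 := ded_24_1 (flp_j L21770) (flp_b L21730) L31239
theorem L31243 : sm ge N3607 = N3607 := ded_42_1 (flp_j L31239) L21732 L31239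
theorem L31244 : sm gh N3607 = N3607 := ded_52_2 (flp_j L31239) L21733 L31239
theorem L31245 : sm gg N3607 = N3607 := ded_49_1 (flp_j L31239) (flp_g L21728) L15160 L21728 L31239
theorem L31246 : sm gg N2497 = N3608 := rfl
theorem L31248 : sm ga N3608 = N2802 := ded_15_1 (flp_g L24331) (flp_a L21736) L31246
theorem L31250 : sm gc N3608 = N2554 := ded_30_1 (flp_g L22239) (flp_c L21738) L31246
theorem L31252 : sm gd N3608 = N3608 := ded_36_1 (flp_g L31246) L21741 L31246
theorem L31253 : sm ge N3608 = N2498 := ded_41_1 (flp_g L21743) L21734 L31246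
theorem L31255 : sm gh N2497 = N3609 := rfl
theorem L31257 : sm ga N3609 = N2803 := ded_17_1 (flp_h L24338) (flp_a L21736) L31255
theorem L31259 : sm gc N3609 = N2555 := ded_32_1 (flp_h L22247) (flp_c L21738) L31255
theorem L31261 : sm ge N3609 = N2499 := ded_43_1 (flp_h L21751) L21734 L31255
theorem L31263 : sm gf N3609 = N3609 := ded_47_1 (flp_h L31255) L21742 L31255
theorem L31264 : sm gj N3609 = N3609 := ded_52_1 (flp_h L31255) L21740 L31255
theorem L31265 : sm gj N2498 = N3610 := rfl
theorem L31267 : sm ga N3610 = N2804 := ded_16_1 (flp_j L24346) (flp_a L21745) L31265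
theorem L31269 : sm gc N3610 = N2556 := ded_31_1 (flp_j L22256) (flp_c L21747) L31265
theorem L31271 : sm gd N3610 = N2501 := ded_37_1 (flp_j L21770) (flp_d L21749) L31265
theorem L31273 : sm gg N3610 = N3610 := ded_49_1 (flp_j L31265) (flp_g L21743) L15171 L21743 L31265
theorem L31274 : sm gh N2498 = N3611 := rfl
theorem L31276 : sm ga N3611 = N2805 := ded_17_1 (flp_h L24353) (flp_a L21745) L31274
theorem L31278 : sm gc N3611 = N2557 := ded_32_1 (flp_h L22263) (flp_c L21747) L31274
theorem L31280 : sm gg N3611 = N2499 := ded_50_1 (flp_h L21751) L21743 L31274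
theorem L31282 : sm gd N3611 = N3611 := ded_38_1 (flp_h L31274) L21749 L15188 (flp_d L21749) L31274
theorem L31283 : sm gi N2499 = N3612 := rfl
theorem L31285 : sm ga N3612 = N2806 := ded_18_1 (flp_i L24360) (flp_a L21753) L31283
theorem L31287 : sm gc N3612 = N2558 := ded_33_1 (flp_i L22271) (flp_c L21755) L31283
theorem L31289 : sm gd N3612 = N3612 := ded_39_1 (flp_i L31283) L21760 L31283
theorem L31290 : sm gf N3612 = N2500 := ded_48_1 (flp_i L21761) (flp_f L21757) L31283
theorem L31292 : sm gj N3612 = N3612 := ded_53_1 (flp_i L31283) L21759 L31283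
theorem L31293 : sm ge N2502 = N3613 := rfl
theorem L31295 : sm ga N3613 = N2503 := ded_13_1 (flp_e L21791) L21779 L31293
theorem L31297 : sm gb N3613 = N2807 := ded_21_1 (flp_e L24368) (flp_b L21789) L31293
theorem L31299 : sm gg N3613 = N3613 := ded_41_2 (flp_e L31293) L21783 L31293
theorem L31300 : sm gj N3613 = N2514 := ded_42_2 (flp_e L21898) (flp_j L21784) L31293
theorem L31302 : sm gh N3613 = N3613 := ded_43_2 (flp_e L31293) L21786 L31293
theorem L31303 : sm gi N3613 = N2507 := ded_44_2 (flp_e L21832) (flp_i L21787) L31293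
theorem L31305 : sm gd N2503 = N3614 := rfl
theorem L31307 : sm gb N3614 = N2504 := ded_20_1 (flp_d L21801) (flp_b L21793) L31305
theorem L31309 : sm gg N3614 = N3614 := ded_36_2 (flp_d L31305) L21795 L31305
theorem L31310 : sm gj N3614 = N2515 := ded_37_2 (flp_d L21909) (flp_j L21796) L31305
theorem L31312 : sm gi N3614 = N2508 := ded_39_2 (flp_d L21843) (flp_i L21799) L31305
theorem L31314 : sm ge N3614 = N3614 := ded_34_2 (flp_d L31305) (flp_e L21791) L15200 L21791 L31305
theorem L31315 : sm gf N2503 = N3615 := rfl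
theorem L31317 : sm gb N3615 = N2505 := ded_22_1 (flp_f L21811) (flp_b L21793) L31315
theorem L31319 : sm gj N3615 = N2516 := ded_46_2 (flp_f L21918) (flp_j L21796) L31315
theorem L31321 : sm gh N3615 = N3615 := ded_47_2 (flp_f L31315) L21798 L31315
theorem L31322 : sm gi N3615 = N2509 := ded_48_2 (flp_f L21851) (flp_i L21799) L31315
theorem L31324 : sm ge N3615 = N3615 := ded_40_1 (flp_f L31315) (flp_e L21791) L15201 L21791 L31315
theorem L31325 : sm gf N2504 = N3616 := rfl
theorem L31327 : sm ga N3616 = N2810 := ded_14_1 (flp_f L24400) (flp_a L21803) L31325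
theorem L31329 : sm gd N3616 = N2505 := ded_35_1 (flp_f L21811) L21801 L31325
theorem L31331 : sm gj N3616 = N2517 := ded_46_2 (flp_f L21926) (flp_j L21806) L31325
theorem L31333 : sm gi N3616 = N2510 := ded_48_2 (flp_f L21860) (flp_i L21808) L31325
theorem L31335 : sm gh N2504 = N3617 := rfl
theorem L31337 : sm ga N3617 = N2811 := ded_17_1 (flp_h L24408) (flp_a L21803) L31335
theorem L31339 : sm ge N3617 = N3617 := ded_43_1 (flp_h L31335) L21810 L31335
theorem L31340 : sm gg N3617 = N3617 := ded_50_1 (flp_h L31335) L21805 L31335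
theorem L31341 : sm gj N3617 = N2518 := ded_52_1 (flp_h L21934) (flp_j L21806) L31335
theorem L31343 : sm gd N3617 = N3617 := ded_38_1 (flp_h L31335) (flp_d L21801) L15217 L21801 L31335
theorem L31344 : sm gg N2505 = N3618 := rfl
theorem L31346 : sm ga N3618 = N2812 := ded_15_1 (flp_g L24415) (flp_a L21813) L31344
theorem L31348 : sm gc N3618 = N2506 := ded_30_1 (flp_g L21823) (flp_c L21815) L31344
theorem L31350 : sm ge N3618 = N3618 := ded_41_1 (flp_g L31344) L21822 L31344
theorem L31351 : sm gh N3618 = N3618 := ded_50_2 (flp_g L31344) L21819 L31344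
theorem L31352 : sm gi N3618 = N2512 := ded_51_2 (flp_g L21878) (flp_i L21820) L31344
theorem L31354 : sm gf N3618 = N3618 := ded_45_1 (flp_g L31344) (flp_f L21811) L15214 L21811 L31344
theorem L31355 : sm gj N2506 = N3619 := rfl
theorem L31357 : sm ga N3619 = N2813 := ded_16_1 (flp_j L24424) (flp_a L21825) L31355
theorem L31359 : sm ge N3619 = N3619 := ded_42_1 (flp_j L31355) L21827 L31355
theorem L31360 : sm gf N3619 = N3619 := ded_46_1 (flp_j L31355) L21831 L31355
theorem L31361 : sm gh N3619 = N3619 := ded_52_2 (flp_j L31355) L21828 L31355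
theorem L31362 : sm gi N3619 = N2513 := ded_53_2 (flp_j L21888) (flp_i L21829) L31355
theorem L31364 : sm gg N3619 = N2520 := ded_49_1 (flp_j L21954) (flp_g L15316) (flp_j L15224) L21823 L31355
theorem L31366 : sm gd N2507 = N3620 := rfl
theorem L31368 : sm ga N3620 = N2508 := ded_12_1 (flp_d L21843) (flp_a L21834) L31366
theorem L31370 : sm gb N3620 = N2814 := ded_20_1 (flp_d L24434) (flp_b L21836) L31366
theorem L31372 : sm gg N3620 = N3620 := ded_36_2 (flp_d L31366) L21838 L31366
theorem L31373 : sm gj N3620 = N2521 := ded_37_2 (flp_d L21964) (flp_j L21839) L31366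
theorem L31375 : sm ge N3620 = N3620 := ded_34_2 (flp_d L31366) (flp_e L21832) L15232 L21832 L31366
theorem L31376 : sm gf N2507 = N3621 := rfl
theorem L31378 : sm ga N3621 = N2509 := ded_14_1 (flp_f L21851) (flp_a L21834) L31376
theorem L31380 : sm gb N3621 = N2815 := ded_22_1 (flp_f L24442) (flp_b L21836) L31376
theorem L31382 : sm gj N3621 = N2522 := ded_46_2 (flp_f L21973) (flp_j L21839) L31376
theorem L31384 : sm gh N3621 = N2585 := ded_47_2 (flp_f L22519) (flp_h L21841) L31376
theorem L31386 : sm ge N3621 = N3621 := ded_40_1 (flp_f L31376) (flp_e L21832) L15233 L21832 L31376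
theorem L31387 : sm gc N2508 = N3622 := rfl
theorem L31389 : sm ge N3622 = N3622 := ded_28_2 (flp_c L31387) L21850 L31387
theorem L31390 : sm gg N3622 = N3622 := ded_30_2 (flp_c L31387) L21847 L31387
theorem L31391 : sm gj N3622 = N2523 := ded_31_2 (flp_c L21982) (flp_j L21848) L31387
theorem L31393 : sm gf N2508 = N3623 := rfl
theorem L31395 : sm gb N3623 = N2510 := ded_22_1 (flp_f L21860) (flp_b L21845) L31393
theorem L31397 : sm gd N3623 = N2509 := ded_35_1 (flp_f L21851) L21843 L31393
theorem L31399 : sm gj N3623 = N2524 := ded_46_2 (flp_f L21987) (flp_j L21848) L31393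
theorem L31401 : sm gh N2508 = N3624 := rfl
theorem L31403 : sm gb N3624 = N2511 := ded_25_1 (flp_h L21868) (flp_b L21845) L31401
theorem L31405 : sm ge N3624 = N3624 := ded_43_1 (flp_h L31401) L21850 L31401
theorem L31406 : sm gg N3624 = N3624 := ded_50_1 (flp_h L31401) L21847 L31401
theorem L31407 : sm gj N3624 = N2525 := ded_52_1 (flp_h L21993) (flp_j L21848) L31401
theorem L31409 : sm gd N3624 = N2588 := ded_38_1 (flp_h L22547) (flp_d L15718) (flp_h L15248) L21843 L31401
theorem L31411 : sm gg N2509 = N3625 := rfl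
theorem L31413 : sm gb N3625 = N2512 := ded_23_1 (flp_g L21878) (flp_b L21853) L31411
theorem L31415 : sm ge N3625 = N3625 := ded_41_1 (flp_g L31411) L21859 L31411
theorem L31416 : sm gh N3625 = N2589 := ded_50_2 (flp_g L22556) (flp_h L21857) L31411
theorem L31418 : sm gf N3625 = N3625 := ded_45_1 (flp_g L31411) (flp_f L21851) L15245 L21851 L31411
theorem L31419 : sm ge N2510 = N3626 := rfl
theorem L31421 : sm ga N3626 = N2820 := ded_13_1 (flp_e L24486) (flp_a L21862) L31419
theorem L31423 : sm gj N3626 = N2527 := ded_42_2 (flp_e L22011) (flp_j L21866) L31419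
theorem L31425 : sm gd N3626 = N3626 := ded_34_1 (flp_e L31419) L21864 L15268 (flp_d L21864) L31419
theorem L31426 : sm gf N3626 = N3626 := ded_40_2 (flp_e L31419) (flp_f L21860) L15257 L21860 L31419
theorem L31427 : sm gg N2510 = N3627 := rfl
theorem L31429 : sm ga N3627 = N2821 := ded_15_1 (flp_g L24492) (flp_a L21862) L31427
theorem L31431 : sm gd N3627 = N2512 := ded_36_1 (flp_g L21878) (flp_d L21864) L31427
theorem L31433 : sm gf N3627 = N3627 := ded_45_1 (flp_g L31427) (flp_f L21860) L15254 L21860 L31427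
theorem L31434 : sm gh N2510 = N3628 := rfl
theorem L31436 : sm ga N3628 = N2822 := ded_17_1 (flp_h L24497) (flp_a L21862) L31434
theorem L31438 : sm gf N3628 = N2511 := ded_47_1 (flp_h L21868) L21860 L31434
theorem L31440 : sm gj N3628 = N2529 := ded_52_1 (flp_h L22025) (flp_j L21866) L31434
theorem L31442 : sm gd N3628 = N2592 := ded_38_1 (flp_h L22583) L15741 (flp_h L15266) (flp_d L21864) L31434
theorem L31444 : sm gi N2511 = N3629 := rfl
theorem L31446 : sm ga N3629 = N2823 := ded_18_1 (flp_i L24505) (flp_a L21870) L31444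
theorem L31448 : sm gd N3629 = N2593 := ded_39_1 (flp_i L22592) (flp_d L21876) L31444
theorem L31450 : sm ge N3629 = N3629 := ded_44_1 (flp_i L31444) L21872 L31444
theorem L31451 : sm gg N3629 = N3629 := ded_51_1 (flp_i L31444) L21873 L31444
theorem L31452 : sm gj N3629 = N2530 := ded_53_1 (flp_i L22033) (flp_j L21874) L31444
theorem L31454 : sm gj N2512 = N3630 := rfl
theorem L31456 : sm ga N3630 = N2824 := ded_16_1 (flp_j L24513) (flp_a L21880) L31454
theorem L31458 : sm gc N3630 = N2513 := ded_31_1 (flp_j L21888) (flp_c L21882) L31454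
theorem L31460 : sm ge N3630 = N3630 := ded_42_1 (flp_j L31454) L21884 L31454
theorem L31461 : sm gf N3630 = N3630 := ded_46_1 (flp_j L31454) L21887 L31454
theorem L31462 : sm gh N3630 = N2594 := ded_52_2 (flp_j L22603) (flp_h L21885) L31454
theorem L31464 : sm gg N3630 = N2531 := ded_49_1 (flp_j L22042) (flp_g L15365) (flp_j L15264) L21878 L31454
theorem L31466 : sm gd N2514 = N3631 := rfl
theorem L31468 : sm ga N3631 = N2515 := ded_12_1 (flp_d L21909) (flp_a L21900) L31466
theorem L31470 : sm gb N3631 = N2825 := ded_20_1 (flp_d L24523) (flp_b L21902) L31466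
theorem L31472 : sm gg N3631 = N2532 := ded_36_2 (flp_d L22053) (flp_g L21904) L31466
theorem L31474 : sm gi N3631 = N2521 := ded_39_2 (flp_d L21964) (flp_i L21907) L31466
theorem L31476 : sm ge N3631 = N3631 := ded_34_2 (flp_d L31466) (flp_e L21898) L15279 L21898 L31466
theorem L31477 : sm gf N2514 = N3632 := rfl
theorem L31479 : sm ga N3632 = N2516 := ded_14_1 (flp_f L21918) (flp_a L21900) L31477
theorem L31481 : sm gb N3632 = N2826 := ded_22_1 (flp_f L24532) (flp_b L21902) L31477
theorem L31483 : sm gh N3632 = N3632 := ded_47_2 (flp_f L31477) L21906 L31477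
theorem L31484 : sm gi N3632 = N2522 := ded_48_2 (flp_f L21973) (flp_i L21907) L31477
theorem L31486 : sm ge N3632 = N3632 := ded_40_1 (flp_f L31477) (flp_e L21898) L15280 L21898 L31477
theorem L31487 : sm gc N2515 = N3633 := rfl
theorem L31489 : sm ge N3633 = N3633 := ded_28_2 (flp_c L31487) L21917 L31487
theorem L31490 : sm gg N3633 = N2534 := ded_30_2 (flp_c L22075) (flp_g L21913) L31487
theorem L31492 : sm gi N3633 = N2523 := ded_33_2 (flp_c L21982) (flp_i L21915) L31487
theorem L31494 : sm gf N2515 = N3634 := rfl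
theorem L31496 : sm gb N3634 = N2517 := ded_22_1 (flp_f L21926) (flp_b L21911) L31494
theorem L31498 : sm gd N3634 = N2516 := ded_35_1 (flp_f L21918) L21909 L31494
theorem L31500 : sm gi N3634 = N2524 := ded_48_2 (flp_f L21987) (flp_i L21915) L31494
theorem L31502 : sm gh N2515 = N3635 := rfl
theorem L31504 : sm gb N3635 = N2518 := ded_25_1 (flp_h L21934) (flp_b L21911) L31502
theorem L31506 : sm ge N3635 = N3635 := ded_43_1 (flp_h L31502) L21917 L31502
theorem L31507 : sm gg N3635 = N2536 := ded_50_1 (flp_h L22090) (flp_g L21913) L31502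
theorem L31509 : sm gd N3635 = N3635 := ded_38_1 (flp_h L31502) (flp_d L21909) L15294 L21909 L31502
theorem L31510 : sm gg N2516 = N3636 := rfl
theorem L31512 : sm gb N3636 = N2519 := ded_23_1 (flp_g L21942) (flp_b L21920) L31510
theorem L31514 : sm ge N3636 = N3636 := ded_41_1 (flp_g L31510) L21925 L31510
theorem L31515 : sm gh N3636 = N3636 := ded_50_2 (flp_g L31510) L21922 L31510
theorem L31516 : sm gi N3636 = N2526 := ded_51_2 (flp_g L22002) (flp_i L21923) L31510
theorem L31518 : sm gf N3636 = N2537 := ded_45_1 (flp_g L22097) (flp_f L15403) (flp_g L15292) L21918 L31510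
theorem L31520 : sm ge N2517 = N3637 := rfl
theorem L31522 : sm ga N3637 = N2831 := ded_13_1 (flp_e L24576) (flp_a L21928) L31520
theorem L31524 : sm gi N3637 = N2527 := ded_44_2 (flp_e L22011) (flp_i L21932) L31520
theorem L31526 : sm gd N3637 = N3637 := ded_34_1 (flp_e L31520) L21930 L15315 (flp_d L21930) L31520
theorem L31527 : sm gf N3637 = N3637 := ded_40_2 (flp_e L31520) (flp_f L21926) L15305 L21926 L31520
theorem L31528 : sm gg N2517 = N3638 := rfl
theorem L31530 : sm ga N3638 = N2832 := ded_15_1 (flp_g L24582) (flp_a L21928) L31528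
theorem L31532 : sm gd N3638 = N2519 := ded_36_1 (flp_g L21942) (flp_d L21930) L31528
theorem L31534 : sm gi N3638 = N2528 := ded_51_2 (flp_g L22017) (flp_i L21932) L31528
theorem L31536 : sm gf N3638 = N2539 := ded_45_1 (flp_g L22116) (flp_f L15413) (flp_g L15301) L21926 L31528
theorem L31538 : sm gh N2517 = N3639 := rfl
theorem L31540 : sm ga N3639 = N2833 := ded_17_1 (flp_h L24590) (flp_a L21928) L31538
theorem L31542 : sm gf N3639 = N2518 := ded_47_1 (flp_h L21934) L21926 L31538
theorem L31544 : sm gd N3639 = N3639 := ded_38_1 (flp_h L31538) L21930 L15312 (flp_d L21930) L31538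
theorem L31545 : sm gi N2518 = N3640 := rfl
theorem L31549 : sm gd N3640 = N3640 := ded_39_1 (flp_i L31545) L21941 L31545
theorem L31550 : sm ge N3640 = N3640 := ded_44_1 (flp_i L31545) L21938 L31545
theorem L31551 : sm gg N3640 = N2541 := ded_51_1 (flp_i L22132) (flp_g L21939) L31545
theorem L31553 : sm gh N3640 = N2530 := ded_54_1 (flp_i L22033) (flp_h L15356) (flp_i L15303) L21934 L31545
theorem L31555 : sm gj N2519 = N3641 := rfl
theorem L31557 : sm ga N3641 = N2835 := ded_16_1 (flp_j L24603) (flp_a L21944) L31555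
theorem L31559 : sm gc N3641 = N2520 := ded_31_1 (flp_j L21954) (flp_c L21946) L31555
theorem L31561 : sm ge N3641 = N3641 := ded_42_1 (flp_j L31555) L21948 L31555
theorem L31562 : sm gf N3641 = N2542 := ded_46_1 (flp_j L22141) (flp_f L21952) L31555
theorem L31564 : sm gh N3641 = N3641 := ded_52_2 (flp_j L31555) L21949 L31555
theorem L31565 : sm gi N3641 = N2531 := ded_53_2 (flp_j L22042) (flp_i L21950) L31555
theorem L31567 : sm gc N2521 = N3642 := rfl
theorem L31569 : sm ga N3642 = N2523 := ded_11_1 (flp_c L21982) (flp_a L21966) L31567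
theorem L31571 : sm ge N3642 = N3642 := ded_28_2 (flp_c L31567) L21972 L31567
theorem L31572 : sm gg N3642 = N2543 := ded_30_2 (flp_c L22153) (flp_g L21970) L31567
theorem L31574 : sm gf N2521 = N3643 := rfl
theorem L31576 : sm ga N3643 = N2524 := ded_14_1 (flp_f L21987) (flp_a L21966) L31574
theorem L31578 : sm gb N3643 = N2837 := ded_22_1 (flp_f L24621) (flp_b L21968) L31574
theorem L31580 : sm gd N3643 = N2522 := ded_35_1 (flp_f L21973) L21964 L31574
theorem L31582 : sm gh N2521 = N3644 := rfl
theorem L31586 : sm gb N3644 = N2838 := ded_25_1 (flp_h L24627) (flp_b L21968) L31582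
theorem L31591 : sm gd N3644 = N2597 := ded_38_1 (flp_h L22632) (flp_d L15775) (flp_h L15334) L21964 L31582
theorem L31593 : sm gg N2522 = N3645 := rfl
theorem L31595 : sm ga N3645 = N2526 := ded_15_1 (flp_g L22002) (flp_a L21975) L31593
theorem L31597 : sm gb N3645 = N2839 := ded_23_1 (flp_g L24636) (flp_b L21977) L31593
theorem L31599 : sm ge N3645 = N3645 := ded_41_1 (flp_g L31593) L21981 L31593
theorem L31600 : sm gh N3645 = N2598 := ded_50_2 (flp_g L22642) (flp_h L21979) L31593
theorem L31602 : sm gf N3645 = N2546 := ded_45_1 (flp_g L22178) (flp_f L15458) (flp_g L15332) L21973 L31593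
theorem L31604 : sm gf N2523 = N3646 := rfl
theorem L31606 : sm gc N3646 = N2524 := ded_29_1 (flp_f L21987) L21982 L31604
theorem L31608 : sm gh N2523 = N3647 := rfl
theorem L31610 : sm gc N3647 = N2525 := ded_32_1 (flp_h L21993) L21982 L31608
theorem L31612 : sm ge N3647 = N3647 := ded_43_1 (flp_h L31608) L21984 L31608
theorem L31613 : sm gg N3647 = N2548 := ded_50_1 (flp_h L22193) (flp_g L21985) L31608
theorem L31615 : sm ge N2524 = N3648 := rfl
theorem L31617 : sm gb N3648 = N2527 := ded_21_1 (flp_e L22011) (flp_b L21989) L31615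
theorem L31619 : sm gd N3648 = N3648 := ded_34_1 (flp_e L31615) L21991 L15349 (flp_d L21991) L31615
theorem L31620 : sm gf N3648 = N3648 := ded_40_2 (flp_e L31615) (flp_f L21987) L15342 L21987 L31615
theorem L31621 : sm gg N2524 = N3649 := rfl
theorem L31623 : sm gb N3649 = N2528 := ded_23_1 (flp_g L22017) (flp_b L21989) L31621
theorem L31625 : sm gd N3649 = N2526 := ded_36_1 (flp_g L22002) (flp_d L21991) L31621
theorem L31627 : sm gf N3649 = N2550 := ded_45_1 (flp_g L22207) (flp_f L15473) (flp_g L15340) L21987 L31621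
theorem L31629 : sm gh N2524 = N3650 := rfl
theorem L31631 : sm gb N3650 = N2529 := ded_25_1 (flp_h L22025) (flp_b L21989) L31629
theorem L31633 : sm gf N3650 = N2525 := ded_47_1 (flp_h L21993) L21987 L31629
theorem L31635 : sm gd N3650 = N2603 := ded_38_1 (flp_h L22684) L15806 (flp_h L15347) (flp_d L21991) L31629
theorem L31637 : sm gi N2525 = N3651 := rfl
theorem L31639 : sm gb N3651 = N2530 := ded_26_1 (flp_i L22033) (flp_b L21995) L31637
theorem L31641 : sm gd N3651 = N2604 := ded_39_1 (flp_i L22690) (flp_d L22000) L31637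
theorem L31646 : sm gj N2526 = N3652 := rfl
theorem L31648 : sm gb N3652 = N2531 := ded_24_1 (flp_j L22042) (flp_b L22004) L31646
theorem L31650 : sm ge N3652 = N3652 := ded_42_1 (flp_j L31646) L22006 L31646
theorem L31651 : sm gf N3652 = N2553 := ded_46_1 (flp_j L22230) (flp_f L22009) L31646
theorem L31653 : sm gh N3652 = N2605 := ded_52_2 (flp_j L22699) (flp_h L22007) L31646
theorem L31655 : sm gg N2527 = N3653 := rfl
theorem L31657 : sm ga N3653 = N2847 := ded_15_1 (flp_g L24699) (flp_a L22013) L31655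
theorem L31659 : sm gd N3653 = N3653 := ded_36_1 (flp_g L31655) L22015 L31655
theorem L31660 : sm ge N3653 = N2528 := ded_41_1 (flp_g L22017) L22011 L31655
theorem L31662 : sm gh N2527 = N3654 := rfl
theorem L31664 : sm ga N3654 = N2848 := ded_17_1 (flp_h L24704) (flp_a L22013) L31662
theorem L31666 : sm ge N3654 = N2529 := ded_43_1 (flp_h L22025) L22011 L31662
theorem L31668 : sm gf N3654 = N3654 := ded_47_1 (flp_h L31662) L22016 L31662
theorem L31669 : sm gj N2528 = N3655 := rfl
theorem L31671 : sm ga N3655 = N2849 := ded_16_1 (flp_j L24709) (flp_a L22019) L31669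
theorem L31673 : sm gd N3655 = N2531 := ded_37_1 (flp_j L22042) (flp_d L22021) L31669
theorem L31675 : sm gf N3655 = N2556 := ded_46_1 (flp_j L22256) (flp_f L22023) L31669
theorem L31677 : sm gh N2528 = N3656 := rfl
theorem L31679 : sm ga N3656 = N2850 := ded_17_1 (flp_h L24715) (flp_a L22019) L31677
theorem L31681 : sm gf N3656 = N2557 := ded_47_1 (flp_h L22263) (flp_f L22023) L31677
theorem L31683 : sm gg N3656 = N2529 := ded_50_1 (flp_h L22025) L22017 L31677
theorem L31685 : sm gd N3656 = N2609 := ded_38_1 (flp_h L22736) L15839 (flp_h L15372) (flp_d L22021) L31677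
theorem L31687 : sm gi N2529 = N3657 := rfl
theorem L31689 : sm ga N3657 = N2851 := ded_18_1 (flp_i L24723) (flp_a L22027) L31687
theorem L31691 : sm gd N3657 = N2610 := ded_39_1 (flp_i L22745) (flp_d L22031) L31687
theorem L31693 : sm gf N3657 = N2530 := ded_48_1 (flp_i L22033) (flp_f L22029) L31687
theorem L31695 : sm gc N2532 = N3658 := rfl
theorem L31697 : sm ga N3658 = N2534 := ded_11_1 (flp_c L22075) (flp_a L22055) L31695
theorem L31699 : sm ge N3658 = N3658 := ded_28_2 (flp_c L31695) L22062 L31695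
theorem L31700 : sm gj N3658 = N3658 := ded_31_2 (flp_c L31695) L22059 L31695
theorem L31701 : sm gi N3658 = N2543 := ded_33_2 (flp_c L22153) (flp_i L22060) L31695
theorem L31703 : sm gf N2532 = N3659 := rfl
theorem L31705 : sm ga N3659 = N2535 := ded_14_1 (flp_f L22081) (flp_a L22055) L31703
theorem L31707 : sm gb N3659 = N2853 := ded_22_1 (flp_f L24738) (flp_b L22057) L31703
theorem L31709 : sm gd N3659 = N2533 := ded_35_1 (flp_f L22063) L22053 L31703
theorem L31711 : sm gj N3659 = N3659 := ded_46_2 (flp_f L31703) L22059 L31703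
theorem L31712 : sm gi N3659 = N2544 := ded_48_2 (flp_f L22159) (flp_i L22060) L31703
theorem L31714 : sm gh N2532 = N3660 := rfl
theorem L31716 : sm ga N3660 = N2536 := ded_17_1 (flp_h L22090) (flp_a L22055) L31714
theorem L31718 : sm gb N3660 = N2854 := ded_25_1 (flp_h L24747) (flp_b L22057) L31714
theorem L31723 : sm gg N2533 = N3661 := rfl
theorem L31725 : sm ga N3661 = N2537 := ded_15_1 (flp_g L22097) (flp_a L22065) L31723
theorem L31727 : sm gb N3661 = N2855 := ded_23_1 (flp_g L24754) (flp_b L22067) L31723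
theorem L31729 : sm ge N3661 = N2562 := ded_41_1 (flp_g L22311) (flp_e L22073) L31723
theorem L31731 : sm gh N3661 = N3661 := ded_50_2 (flp_g L31723) L22070 L31723
theorem L31732 : sm gi N3661 = N2546 := ded_51_2 (flp_g L22178) (flp_i L22071) L31723
theorem L31734 : sm gf N2534 = N3662 := rfl
theorem L31736 : sm gc N3662 = N2535 := ded_29_1 (flp_f L22081) L22075 L31734
theorem L31738 : sm gj N3662 = N3662 := ded_46_2 (flp_f L31734) L22078 L31734
theorem L31739 : sm gi N3662 = N2547 := ded_48_2 (flp_f L22188) (flp_i L22079) L31734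
theorem L31741 : sm gh N2534 = N3663 := rfl
theorem L31743 : sm gc N3663 = N2536 := ded_32_1 (flp_h L22090) L22075 L31741
theorem L31745 : sm ge N3663 = N3663 := ded_43_1 (flp_h L31741) L22077 L31741
theorem L31746 : sm gj N3663 = N3663 := ded_52_1 (flp_h L31741) L22078 L31741
theorem L31747 : sm ge N2535 = N3664 := rfl
theorem L31749 : sm gb N3664 = N2538 := ded_21_1 (flp_e L22106) (flp_b L22083) L31747
theorem L31751 : sm gj N3664 = N3664 := ded_42_2 (flp_e L31747) L22087 L31747
theorem L31752 : sm gi N3664 = N2549 := ded_44_2 (flp_e L22199) (flp_i L22088) L31747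
theorem L31754 : sm gd N3664 = N2565 := ded_34_1 (flp_e L22338) L15571 (flp_e L15411) (flp_d L22085) L31747
theorem L31756 : sm gf N3664 = N3664 := ded_40_2 (flp_e L31747) (flp_f L22081) L15402 L22081 L31747
theorem L31757 : sm gg N2535 = N3665 := rfl
theorem L31759 : sm gb N3665 = N2539 := ded_23_1 (flp_g L22116) (flp_b L22083) L31757
theorem L31761 : sm gd N3665 = N2537 := ded_36_1 (flp_g L22097) (flp_d L22085) L31757
theorem L31763 : sm gi N3665 = N2550 := ded_51_2 (flp_g L22207) (flp_i L22088) L31757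
theorem L31765 : sm gh N2535 = N3666 := rfl
theorem L31767 : sm gb N3666 = N2540 := ded_25_1 (flp_h L22124) (flp_b L22083) L31765
theorem L31769 : sm gf N3666 = N2536 := ded_47_1 (flp_h L22090) L22081 L31765
theorem L31771 : sm gj N3666 = N3666 := ded_52_1 (flp_h L31765) L22087 L31765
theorem L31772 : sm gd N3666 = N3666 := ded_38_1 (flp_h L31765) L22085 L15408 (flp_d L22085) L31765
theorem L31773 : sm gi N2536 = N3667 := rfl
theorem L31775 : sm gb N3667 = N2541 := ded_26_1 (flp_i L22132) (flp_b L22092) L31773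
theorem L31782 : sm gj N2537 = N3668 := rfl
theorem L31784 : sm gb N3668 = N2542 := ded_24_1 (flp_j L22141) (flp_b L22099) L31782
theorem L31786 : sm ge N3668 = N2568 := ded_42_1 (flp_j L22364) (flp_e L22101) L31782
theorem L31788 : sm gh N3668 = N3668 := ded_52_2 (flp_j L31782) L22103 L31782
theorem L31789 : sm gi N3668 = N2553 := ded_53_2 (flp_j L22230) (flp_i L22104) L31782
theorem L31791 : sm gg N3668 = N3668 := ded_49_1 (flp_j L31782) (flp_g L22097) L15407 L22097 L31782
theorem L31792 : sm gg N2538 = N3669 := rfl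
theorem L31794 : sm ga N3669 = N2863 := ded_15_1 (flp_g L24824) (flp_a L22108) L31792
theorem L31796 : sm gd N3669 = N2569 := ded_36_1 (flp_g L22373) (flp_d L22113) L31792
theorem L31798 : sm ge N3669 = N2539 := ded_41_1 (flp_g L22116) L22106 L31792
theorem L31800 : sm gi N3669 = N2554 := ded_51_2 (flp_g L22239) (flp_i L22111) L31792
theorem L31802 : sm gh N2538 = N3670 := rfl
theorem L31804 : sm ga N3670 = N2864 := ded_17_1 (flp_h L24832) (flp_a L22108) L31802
theorem L31806 : sm ge N3670 = N2540 := ded_43_1 (flp_h L22124) L22106 L31802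
theorem L31808 : sm gf N3670 = N3670 := ded_47_1 (flp_h L31802) L22115 L31802
theorem L31809 : sm gj N3670 = N3670 := ded_52_1 (flp_h L31802) L22110 L31802
theorem L31810 : sm gj N2539 = N3671 := rfl
theorem L31812 : sm ga N3671 = N2865 := ded_16_1 (flp_j L24838) (flp_a L22118) L31810
theorem L31814 : sm gd N3671 = N2542 := ded_37_1 (flp_j L22141) (flp_d L22120) L31810
theorem L31816 : sm gi N3671 = N2556 := ded_53_2 (flp_j L22256) (flp_i L22122) L31810
theorem L31818 : sm gg N3671 = N3671 := ded_49_1 (flp_j L31810) (flp_g L22116) L15419 L22116 L31810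
theorem L31819 : sm gh N2539 = N3672 := rfl
theorem L31821 : sm ga N3672 = N2866 := ded_17_1 (flp_h L24845) (flp_a L22118) L31819
theorem L31823 : sm gg N3672 = N2540 := ded_50_1 (flp_h L22124) L22116 L31819
theorem L31825 : sm gd N3672 = N3672 := ded_38_1 (flp_h L31819) L22120 L15437 (flp_d L22120) L31819
theorem L31826 : sm gi N2540 = N3673 := rfl
theorem L31828 : sm ga N3673 = N2867 := ded_18_1 (flp_i L24850) (flp_a L22126) L31826
theorem L31830 : sm gd N3673 = N3673 := ded_39_1 (flp_i L31826) L22131 L31826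
theorem L31831 : sm gf N3673 = N2541 := ded_48_1 (flp_i L22132) (flp_f L22128) L31826
theorem L31833 : sm gj N3673 = N3673 := ded_53_1 (flp_i L31826) L22130 L31826
theorem L31834 : sm gh N3673 = N2558 := ded_54_1 (flp_i L22271) (flp_h L15510) (flp_i L15420) L22124 L31826
theorem L31836 : sm gb N2543 = N3674 := rfl
theorem L31840 : sm gc N3674 = N2868 := ded_19_2 (flp_b L24858) (flp_c L17324) (flp_b L15454) L22153 L31836
theorem L31842 : sm gf N2543 = N3675 := rfl
theorem L31844 : sm ga N3675 = N2547 := ded_14_1 (flp_f L22188) (flp_a L22155) L31842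
theorem L31846 : sm gc N3675 = N2544 := ded_29_1 (flp_f L22159) L22153 L31842
theorem L31848 : sm gj N3675 = N3675 := ded_46_2 (flp_f L31842) L22158 L31842
theorem L31849 : sm gh N2543 = N3676 := rfl
theorem L31851 : sm ga N3676 = N2548 := ded_17_1 (flp_h L22193) (flp_a L22155) L31849
theorem L31853 : sm gc N3676 = N2545 := ded_32_1 (flp_h L22168) L22153 L31849
theorem L31857 : sm ge N2544 = N3677 := rfl
theorem L31859 : sm ga N3677 = N2549 := ded_13_1 (flp_e L22199) (flp_a L22161) L31857
theorem L31861 : sm gb N3677 = N2871 := ded_21_1 (flp_e L24879) (flp_b L22163) L31857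
theorem L31863 : sm gj N3677 = N3677 := ded_42_2 (flp_e L31857) L22167 L31857
theorem L31864 : sm gd N3677 = N2575 := ded_34_1 (flp_e L22430) L15647 (flp_e L15467) (flp_d L22165) L31857
theorem L31866 : sm gf N3677 = N3677 := ded_40_2 (flp_e L31857) (flp_f L22159) L15457 L22159 L31857
theorem L31867 : sm gg N2544 = N3678 := rfl
theorem L31869 : sm ga N3678 = N2550 := ded_15_1 (flp_g L22207) (flp_a L22161) L31867
theorem L31871 : sm gb N3678 = N2872 := ded_23_1 (flp_g L24887) (flp_b L22163) L31867
theorem L31873 : sm gd N3678 = N2546 := ded_36_1 (flp_g L22178) (flp_d L22165) L31867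
theorem L31875 : sm gh N2544 = N3679 := rfl
theorem L31884 : sm gd N3679 = N2615 := ded_38_1 (flp_h L22790) L15885 (flp_h L15465) (flp_d L22165) L31875
theorem L31896 : sm gj N2546 = N3681 := rfl
theorem L31898 : sm ga N3681 = N2553 := ded_16_1 (flp_j L22230) (flp_a L22180) L31896
theorem L31900 : sm gb N3681 = N2875 := ded_24_1 (flp_j L24910) (flp_b L22182) L31896
theorem L31902 : sm ge N3681 = N2577 := ded_42_1 (flp_j L22449) (flp_e L22184) L31896
theorem L31904 : sm gh N3681 = N2617 := ded_52_2 (flp_j L22810) (flp_h L22186) L31896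
theorem L31906 : sm gg N3681 = N3681 := ded_49_1 (flp_j L31896) (flp_g L22178) L15464 L22178 L31896
theorem L31907 : sm ge N2547 = N3682 := rfl
theorem L31909 : sm gc N3682 = N2549 := ded_28_1 (flp_e L22199) (flp_c L22190) L31907
theorem L31911 : sm gj N3682 = N3682 := ded_42_2 (flp_e L31907) L22192 L31907
theorem L31912 : sm gf N3682 = N3682 := ded_40_2 (flp_e L31907) (flp_f L22188) L15471 L22188 L31907
theorem L31913 : sm gg N2547 = N3683 := rfl
theorem L31915 : sm gc N3683 = N2550 := ded_30_1 (flp_g L22207) (flp_c L22190) L31913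
theorem L31917 : sm gh N2547 = N3684 := rfl
theorem L31919 : sm gc N3684 = N2551 := ded_32_1 (flp_h L22213) (flp_c L22190) L31917
theorem L31921 : sm gf N3684 = N2548 := ded_47_1 (flp_h L22193) L22188 L31917
theorem L31923 : sm gj N3684 = N3684 := ded_52_1 (flp_h L31917) L22192 L31917
theorem L31924 : sm gd N2548 = N3685 := rfl
theorem L31926 : sm gj N3685 = N3685 := ded_37_2 (flp_d L31924) L22198 L31924
theorem L31927 : sm gc N3685 = N2620 := ded_27_1 (flp_d L22836) L15919 (flp_d L15486) (flp_c L22195) L31924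
theorem L31929 : sm gi N2548 = N3686 := rfl
theorem L31931 : sm gc N3686 = N2552 := ded_33_1 (flp_i L22222) (flp_c L22195) L31929
theorem L31935 : sm gg N2549 = N3687 := rfl
theorem L31937 : sm gb N3687 = N2554 := ded_23_1 (flp_g L22239) (flp_b L22201) L31935
theorem L31939 : sm gd N3687 = N2580 := ded_36_1 (flp_g L22474) (flp_d L22204) L31935
theorem L31941 : sm ge N3687 = N2550 := ded_41_1 (flp_g L22207) L22199 L31935
theorem L31943 : sm gh N2549 = N3688 := rfl
theorem L31945 : sm gb N3688 = N2555 := ded_25_1 (flp_h L22247) (flp_b L22201) L31943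
theorem L31947 : sm ge N3688 = N2551 := ded_43_1 (flp_h L22213) L22199 L31943
theorem L31949 : sm gf N3688 = N3688 := ded_47_1 (flp_h L31943) L22206 L31943
theorem L31950 : sm gj N3688 = N3688 := ded_52_1 (flp_h L31943) L22203 L31943
theorem L31951 : sm gd N3688 = N3688 := ded_38_1 (flp_h L31943) L22204 L15672 (flp_d L22204) L31943
theorem L31952 : sm gj N2550 = N3689 := rfl
theorem L31954 : sm gb N3689 = N2556 := ded_24_1 (flp_j L22256) (flp_b L22209) L31952
theorem L31956 : sm gd N3689 = N2553 := ded_37_1 (flp_j L22230) (flp_d L22211) L31952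
theorem L31958 : sm gg N3689 = N3689 := ded_49_1 (flp_j L31952) (flp_g L22207) L15479 L22207 L31952
theorem L31959 : sm gh N2550 = N3690 := rfl
theorem L31961 : sm gb N3690 = N2557 := ded_25_1 (flp_h L22263) (flp_b L22209) L31959
theorem L31963 : sm gg N3690 = N2551 := ded_50_1 (flp_h L22213) L22207 L31959
theorem L31965 : sm gd N3690 = N2623 := ded_38_1 (flp_h L22858) L15928 (flp_h L15494) (flp_d L22211) L31959
theorem L31976 : sm gf N2554 = N3692 := rfl
theorem L31978 : sm ga N3692 = N2886 := ded_14_1 (flp_f L24991) (flp_a L22241) L31976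
theorem L31980 : sm gd N3692 = N2582 := ded_35_1 (flp_f L22490) (flp_d L22243) L31976
theorem L31982 : sm gg N3692 = N3692 := ded_45_2 (flp_f L31976) (flp_g L22239) L15503 L22239 L31976
theorem L31983 : sm gj N2554 = N3693 := rfl
theorem L31985 : sm ga N3693 = N2887 := ded_16_1 (flp_j L24996) (flp_a L22241) L31983
theorem L31987 : sm gd N3693 = N2583 := ded_37_1 (flp_j L22498) (flp_d L22243) L31983
theorem L31989 : sm ge N3693 = N2556 := ded_42_1 (flp_j L22256) (flp_e L22245) L31983
theorem L31991 : sm gg N3693 = N3693 := ded_49_1 (flp_j L31983) (flp_g L22239) L15500 L22239 L31983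
theorem L31992 : sm gh N2554 = N3694 := rfl
theorem L31994 : sm ga N3694 = N2888 := ded_17_1 (flp_h L25003) (flp_a L22241) L31992
theorem L31996 : sm ge N3694 = N2557 := ded_43_1 (flp_h L22263) (flp_e L22245) L31992
theorem L31998 : sm gg N3694 = N2555 := ded_50_1 (flp_h L22247) L22239 L31992
theorem L32000 : sm gd N3694 = N3694 := ded_38_1 (flp_h L31992) L22243 L15697 (flp_d L22243) L31992
theorem L32001 : sm gi N2555 = N3695 := rfl
theorem L32003 : sm ga N3695 = N2889 := ded_18_1 (flp_i L25010) (flp_a L22249) L32001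
theorem L32005 : sm gd N3695 = N3695 := ded_39_1 (flp_i L32001) L22255 L32001
theorem L32006 : sm ge N3695 = N2558 := ded_44_1 (flp_i L22271) (flp_e L22251) L32001
theorem L32008 : sm gf N3695 = N3695 := ded_48_1 (flp_i L32001) L22253 L32001
theorem L32009 : sm gj N3695 = N3695 := ded_53_1 (flp_i L32001) L22254 L32001
theorem L32010 : sm gh N2556 = N3696 := rfl
theorem L32012 : sm ga N3696 = N2890 := ded_17_1 (flp_h L25017) (flp_a L22258) L32010
theorem L32014 : sm gg N3696 = N3696 := ded_50_1 (flp_h L32010) L22262 L32010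
theorem L32015 : sm gj N3696 = N2557 := ded_52_1 (flp_h L22263) L22256 L32010
theorem L32017 : sm gd N3696 = N2625 := ded_38_1 (flp_h L22874) L15961 (flp_h L15535) (flp_d L22260) L32010
theorem L32019 : sm gi N2557 = N3697 := rfl
theorem L32021 : sm ga N3697 = N2891 := ded_18_1 (flp_i L25024) (flp_a L22265) L32019
theorem L32023 : sm gd N3697 = N2626 := ded_39_1 (flp_i L22883) (flp_d L22269) L32019
theorem L32025 : sm gg N3697 = N2558 := ded_51_1 (flp_i L22271) (flp_g L22267) L32019
theorem L32027 : sm gb N2559 = N3698 := rfl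
theorem L32032 : sm gi N3698 = N2573 := ded_26_2 (flp_b L22413) (flp_i L22287) L32027
theorem L32035 : sm gc N3698 = N2892 := ded_19_2 (flp_b L25030) (flp_c L17439) (flp_b L15542) L22280 L32027
theorem L32037 : sm gf N2559 = N3699 := rfl
theorem L32039 : sm ga N3699 = N2563 := ded_14_1 (flp_f L22321) (flp_a L22282) L32037
theorem L32041 : sm gc N3699 = N2560 := ded_29_1 (flp_f L22289) L22280 L32037
theorem L32043 : sm gj N3699 = N3699 := ded_46_2 (flp_f L32037) L22286 L32037
theorem L32044 : sm gi N3699 = N2574 := ded_48_2 (flp_f L22422) (flp_i L22287) L32037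
theorem L32046 : sm gh N2559 = N3700 := rfl
theorem L32048 : sm ga N3700 = N2564 := ded_17_1 (flp_h L22329) (flp_a L22282) L32046
theorem L32056 : sm ge N2560 = N3701 := rfl
theorem L32058 : sm ga N3701 = N2565 := ded_13_1 (flp_e L22338) (flp_a L22291) L32056
theorem L32060 : sm gb N3701 = N2895 := ded_21_1 (flp_e L25059) (flp_b L22293) L32056
theorem L32062 : sm gj N3701 = N3701 := ded_42_2 (flp_e L32056) L22297 L32056
theorem L32063 : sm gi N3701 = N2575 := ded_44_2 (flp_e L22430) (flp_i L22298) L32056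
theorem L32065 : sm gf N3701 = N3701 := ded_40_2 (flp_e L32056) (flp_f L22289) L15548 L22289 L32056
theorem L32066 : sm gg N2560 = N3702 := rfl
theorem L32068 : sm ga N3702 = N2566 := ded_15_1 (flp_g L22346) (flp_a L22291) L32066
theorem L32070 : sm gb N3702 = N2896 := ded_23_1 (flp_g L25067) (flp_b L22293) L32066
theorem L32072 : sm gd N3702 = N2562 := ded_36_1 (flp_g L22311) (flp_d L22295) L32066
theorem L32074 : sm gi N3702 = N2576 := ded_51_2 (flp_g L22439) (flp_i L22298) L32066
theorem L32076 : sm gf N3702 = N3702 := ded_45_1 (flp_g L32066) (flp_f L22289) L15544 L22289 L32066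
theorem L32077 : sm gh N2560 = N3703 := rfl
theorem L32079 : sm ga N3703 = N2567 := ded_17_1 (flp_h L22355) (flp_a L22291) L32077
theorem L32081 : sm gb N3703 = N2897 := ded_25_1 (flp_h L25076) (flp_b L22293) L32077
theorem L32083 : sm gf N3703 = N2561 := ded_47_1 (flp_h L22300) L22289 L32077
theorem L32085 : sm gj N3703 = N3703 := ded_52_1 (flp_h L32077) L22297 L32077
theorem L32086 : sm gd N3703 = N3703 := ded_38_1 (flp_h L32077) L22295 L15556 (flp_d L22295) L32077
theorem L32087 : sm gi N3703 = N3703 := ded_54_2 (flp_h L32077) L22298 L15650 (flp_i L22298) L32077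
theorem L32088 : sm gj N2562 = N3704 := rfl
theorem L32090 : sm ga N3704 = N2568 := ded_16_1 (flp_j L22364) (flp_a L22313) L32088
theorem L32092 : sm gb N3704 = N2898 := ded_24_1 (flp_j L25085) (flp_b L22315) L32088
theorem L32094 : sm gf N3704 = N3704 := ded_46_1 (flp_j L32088) L22320 L32088
theorem L32095 : sm gh N3704 = N3704 := ded_52_2 (flp_j L32088) L22317 L32088
theorem L32096 : sm gi N3704 = N2577 := ded_53_2 (flp_j L22449) (flp_i L22318) L32088
theorem L32098 : sm gg N3704 = N3704 := ded_49_1 (flp_j L32088) (flp_g L22311) L15555 L22311 L32088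
theorem L32099 : sm ge N2563 = N3705 := rfl
theorem L32101 : sm gb N3705 = N3705 := ded_21_1 (flp_e L32099) L22323 L32099
theorem L32102 : sm gc N3705 = N2565 := ded_28_1 (flp_e L22338) (flp_c L22324) L32099
theorem L32104 : sm gj N3705 = N3705 := ded_42_2 (flp_e L32099) L22326 L32099
theorem L32105 : sm gi N3705 = N2578 := ded_44_2 (flp_e L22459) (flp_i L22327) L32099
theorem L32107 : sm gf N3705 = N3705 := ded_40_2 (flp_e L32099) (flp_f L22321) L15561 L22321 L32099
theorem L32108 : sm gg N2563 = N3706 := rfl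
theorem L32110 : sm gb N3706 = N3706 := ded_23_1 (flp_g L32108) L22323 L32108
theorem L32111 : sm gc N3706 = N2566 := ded_30_1 (flp_g L22346) (flp_c L22324) L32108
theorem L32113 : sm gi N3706 = N2579 := ded_51_2 (flp_g L22467) (flp_i L22327) L32108
theorem L32115 : sm gf N3706 = N3706 := ded_45_1 (flp_g L32108) (flp_f L22321) L15562 L22321 L32108
theorem L32116 : sm gh N2563 = N3707 := rfl
theorem L32118 : sm gb N3707 = N3707 := ded_25_1 (flp_h L32116) L22323 L32116
theorem L32119 : sm gc N3707 = N2567 := ded_32_1 (flp_h L22355) (flp_c L22324) L32116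
theorem L32121 : sm gf N3707 = N2564 := ded_47_1 (flp_h L22329) L22321 L32116
theorem L32123 : sm gj N3707 = N3707 := ded_52_1 (flp_h L32116) L22326 L32116
theorem L32124 : sm gi N3707 = N3707 := ded_54_2 (flp_h L32116) L22327 L15666 (flp_i L22327) L32116
theorem L32125 : sm gd N2564 = N3708 := rfl
theorem L32132 : sm gg N2565 = N3709 := rfl
theorem L32134 : sm gb N3709 = N2569 := ded_23_1 (flp_g L22373) (flp_b L22340) L32132
theorem L32136 : sm ge N3709 = N2566 := ded_41_1 (flp_g L22346) L22338 L32132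
theorem L32138 : sm gi N3709 = N2580 := ded_51_2 (flp_g L22474) (flp_i L22343) L32132
theorem L32140 : sm gh N2565 = N3710 := rfl
theorem L32142 : sm gb N3710 = N2570 := ded_25_1 (flp_h L22382) (flp_b L22340) L32140
theorem L32144 : sm ge N3710 = N2567 := ded_43_1 (flp_h L22355) L22338 L32140
theorem L32146 : sm gf N3710 = N3710 := ded_47_1 (flp_h L32140) L22345 L32140
theorem L32147 : sm gj N3710 = N3710 := ded_52_1 (flp_h L32140) L22342 L32140
theorem L32148 : sm gi N3710 = N3710 := ded_54_2 (flp_h L32140) L22343 L15672 (flp_i L22343) L32140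
theorem L32149 : sm gj N2566 = N3711 := rfl
theorem L32151 : sm gb N3711 = N2571 := ded_24_1 (flp_j L22392) (flp_b L22348) L32149
theorem L32153 : sm gd N3711 = N2568 := ded_37_1 (flp_j L22364) (flp_d L22350) L32149
theorem L32155 : sm gf N3711 = N3711 := ded_46_1 (flp_j L32149) L22354 L32149
theorem L32156 : sm gi N3711 = N2581 := ded_53_2 (flp_j L22481) (flp_i L22352) L32149
theorem L32158 : sm gg N3711 = N3711 := ded_49_1 (flp_j L32149) (flp_g L22346) L15573 L22346 L32149
theorem L32159 : sm gh N2566 = N3712 := rfl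
theorem L32161 : sm gb N3712 = N2572 := ded_25_1 (flp_h L22403) (flp_b L22348) L32159
theorem L32163 : sm gf N3712 = N3712 := ded_47_1 (flp_h L32159) L22354 L32159
theorem L32164 : sm gg N3712 = N2567 := ded_50_1 (flp_h L22355) L22346 L32159
theorem L32166 : sm gd N3712 = N3712 := ded_38_1 (flp_h L32159) L22350 L15589 (flp_d L22350) L32159
theorem L32167 : sm gi N3712 = N3712 := ded_54_2 (flp_h L32159) L22352 L15680 (flp_i L22352) L32159
theorem L32168 : sm gf N2569 = N3713 := rfl
theorem L32170 : sm ga N3713 = N2907 := ded_14_1 (flp_f L25166) (flp_a L22375) L32168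
theorem L32172 : sm gc N3713 = N3713 := ded_29_1 (flp_f L32168) L22377 L32168
theorem L32173 : sm gi N3713 = N2582 := ded_48_2 (flp_f L22490) (flp_i L22380) L32168
theorem L32175 : sm ge N3713 = N3713 := ded_40_1 (flp_f L32168) L22378 L15611 (flp_e L22378) L32168
theorem L32176 : sm gg N3713 = N3713 := ded_45_2 (flp_f L32168) (flp_g L22373) L15601 L22373 L32168
theorem L32177 : sm gj N2569 = N3714 := rfl
theorem L32179 : sm ga N3714 = N2908 := ded_16_1 (flp_j L25173) (flp_a L22375) L32177
theorem L32181 : sm gc N3714 = N3714 := ded_31_1 (flp_j L32177) L22377 L32177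
theorem L32182 : sm ge N3714 = N2571 := ded_42_1 (flp_j L22392) (flp_e L22378) L32177
theorem L32184 : sm gi N3714 = N2583 := ded_53_2 (flp_j L22498) (flp_i L22380) L32177
theorem L32186 : sm gg N3714 = N3714 := ded_49_1 (flp_j L32177) (flp_g L22373) L15598 L22373 L32177
theorem L32187 : sm gh N2569 = N3715 := rfl
theorem L32189 : sm ga N3715 = N2909 := ded_17_1 (flp_h L25181) (flp_a L22375) L32187
theorem L32191 : sm gc N3715 = N3715 := ded_32_1 (flp_h L32187) L22377 L32187
theorem L32192 : sm ge N3715 = N2572 := ded_43_1 (flp_h L22403) (flp_e L22378) L32187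
theorem L32194 : sm gg N3715 = N2570 := ded_50_1 (flp_h L22382) L22373 L32187
theorem L32196 : sm gi N3715 = N3715 := ded_54_2 (flp_h L32187) L22380 L15697 (flp_i L22380) L32187
theorem L32197 : sm gd N2570 = N3716 := rfl
theorem L32199 : sm ga N3716 = N2910 := ded_12_1 (flp_d L25189) (flp_a L22384) L32197
theorem L32201 : sm gf N3716 = N3716 := ded_35_2 (flp_d L32197) L22389 L32197
theorem L32202 : sm gj N3716 = N3716 := ded_37_2 (flp_d L32197) L22390 L32197
theorem L32203 : sm gi N3716 = N3716 := ded_39_2 (flp_d L32197) L22391 L32197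
theorem L32204 : sm ge N3716 = N3716 := ded_34_2 (flp_d L32197) L22387 L15620 (flp_e L22387) L32197
theorem L32205 : sm gh N2571 = N3717 := rfl
theorem L32207 : sm ga N3717 = N2911 := ded_17_1 (flp_h L25195) (flp_a L22394) L32205
theorem L32209 : sm gc N3717 = N3717 := ded_32_1 (flp_h L32205) L22396 L32205
theorem L32210 : sm gf N3717 = N3717 := ded_47_1 (flp_h L32205) L22399 L32205
theorem L32211 : sm gg N3717 = N3717 := ded_50_1 (flp_h L32205) L22402 L32205
theorem L32212 : sm gj N3717 = N2572 := ded_52_1 (flp_h L22403) L22392 L32205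
theorem L32214 : sm gd N3717 = N3717 := ded_38_1 (flp_h L32205) L22397 L15629 (flp_d L22397) L32205
theorem L32215 : sm gi N3717 = N3717 := ded_54_2 (flp_h L32205) L22400 L15706 (flp_i L22400) L32205
theorem L32216 : sm gf N2573 = N3718 := rfl
theorem L32218 : sm ga N3718 = N3718 := ded_14_1 (flp_f L32216) L22419 L32216
theorem L32219 : sm gb N3718 = N2574 := ded_22_1 (flp_f L22422) L22413 L32216
theorem L32221 : sm gc N3718 = N2912 := ded_29_1 (flp_f L25204) (flp_c L22420) L32216
theorem L32223 : sm gj N3718 = N3718 := ded_46_2 (flp_f L32216) L22417 L32216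
theorem L32224 : sm gh N3718 = N3718 := ded_47_2 (flp_f L32216) L22418 L32216
theorem L32225 : sm ge N2574 = N3719 := rfl
theorem L32227 : sm ga N3719 = N2578 := ded_13_1 (flp_e L22459) (flp_a L22424) L32225
theorem L32229 : sm gc N3719 = N2575 := ded_28_1 (flp_e L22430) (flp_c L22426) L32225
theorem L32231 : sm gj N3719 = N3719 := ded_42_2 (flp_e L32225) L22428 L32225
theorem L32232 : sm gh N3719 = N3719 := ded_43_2 (flp_e L32225) L22429 L32225
theorem L32233 : sm gf N3719 = N3719 := ded_40_2 (flp_e L32225) (flp_f L22422) L15637 L22422 L32225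
theorem L32234 : sm gg N2574 = N3720 := rfl
theorem L32236 : sm ga N3720 = N2579 := ded_15_1 (flp_g L22467) (flp_a L22424) L32234
theorem L32238 : sm gc N3720 = N2576 := ded_30_1 (flp_g L22439) (flp_c L22426) L32234
theorem L32240 : sm gh N3720 = N3720 := ded_50_2 (flp_g L32234) L22429 L32234
theorem L32241 : sm gf N3720 = N3720 := ded_45_1 (flp_g L32234) (flp_f L22422) L15638 L22422 L32234
theorem L32242 : sm gg N2575 = N3721 := rfl
theorem L32244 : sm ga N3721 = N2580 := ded_15_1 (flp_g L22474) (flp_a L22432) L32242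
theorem L32246 : sm gb N3721 = N2915 := ded_23_1 (flp_g L25230) (flp_b L22434) L32242
theorem L32248 : sm ge N3721 = N2576 := ded_41_1 (flp_g L22439) L22430 L32242
theorem L32250 : sm gh N3721 = N3721 := ded_50_2 (flp_g L32242) L22437 L32242
theorem L32251 : sm gj N2576 = N3722 := rfl
theorem L32253 : sm ga N3722 = N2581 := ded_16_1 (flp_j L22481) (flp_a L22441) L32251
theorem L32255 : sm gb N3722 = N2916 := ded_24_1 (flp_j L25237) (flp_b L22443) L32251
theorem L32257 : sm gd N3722 = N2577 := ded_37_1 (flp_j L22449) (flp_d L22445) L32251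
theorem L32259 : sm gf N3722 = N3722 := ded_46_1 (flp_j L32251) L22448 L32251
theorem L32260 : sm gh N3722 = N3722 := ded_52_2 (flp_j L32251) L22447 L32251
theorem L32261 : sm gg N3722 = N3722 := ded_49_1 (flp_j L32251) (flp_g L22439) L15649 L22439 L32251
theorem L32262 : sm gd N2578 = N3723 := rfl
theorem L32264 : sm gb N3723 = N3723 := ded_20_1 (flp_d L32262) L22461 L32262
theorem L32265 : sm gf N3723 = N3723 := ded_35_2 (flp_d L32262) L22466 L32262
theorem L32266 : sm gj N3723 = N3723 := ded_37_2 (flp_d L32262) L22464 L32262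
theorem L32267 : sm gg N2578 = N3724 := rfl
theorem L32269 : sm gb N3724 = N3724 := ded_23_1 (flp_g L32267) L22461 L32267
theorem L32270 : sm gc N3724 = N2580 := ded_30_1 (flp_g L22474) (flp_c L22462) L32267
theorem L32272 : sm ge N3724 = N2579 := ded_41_1 (flp_g L22467) L22459 L32267
theorem L32274 : sm gh N3724 = N3724 := ded_50_2 (flp_g L32267) L22465 L32267
theorem L32275 : sm gj N2579 = N3725 := rfl
theorem L32277 : sm gb N3725 = N3725 := ded_24_1 (flp_j L32275) L22469 L32275
theorem L32278 : sm gc N3725 = N2581 := ded_31_1 (flp_j L22481) (flp_c L22470) L32275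
theorem L32280 : sm gf N3725 = N3725 := ded_46_1 (flp_j L32275) L22473 L32275
theorem L32281 : sm gh N3725 = N3725 := ded_52_2 (flp_j L32275) L22472 L32275
theorem L32282 : sm gg N3725 = N3725 := ded_49_1 (flp_j L32275) (flp_g L22467) L15665 L22467 L32275
theorem L32283 : sm gf N2580 = N3726 := rfl
theorem L32285 : sm gb N3726 = N2582 := ded_22_1 (flp_f L22490) (flp_b L22476) L32283
theorem L32287 : sm gh N3726 = N3726 := ded_47_2 (flp_f L32283) L22480 L32283
theorem L32288 : sm ge N3726 = N3726 := ded_40_1 (flp_f L32283) L22478 L15681 (flp_e L22478) L32283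
theorem L32289 : sm gg N3726 = N3726 := ded_45_2 (flp_f L32283) (flp_g L22474) L15673 L22474 L32283
theorem L32290 : sm gj N2580 = N3727 := rfl
theorem L32292 : sm gb N3727 = N2583 := ded_24_1 (flp_j L22498) (flp_b L22476) L32290
theorem L32294 : sm ge N3727 = N2581 := ded_42_1 (flp_j L22481) (flp_e L22478) L32290
theorem L32296 : sm gh N3727 = N3727 := ded_52_2 (flp_j L32290) L22480 L32290
theorem L32297 : sm gg N3727 = N3727 := ded_49_1 (flp_j L32290) (flp_g L22474) L15671 L22474 L32290
theorem L32298 : sm gj N2582 = N3728 := rfl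
theorem L32300 : sm ga N3728 = N2922 := ded_16_1 (flp_j L25284) (flp_a L22492) L32298
theorem L32302 : sm gc N3728 = N3728 := ded_31_1 (flp_j L32298) L22494 L32298
theorem L32303 : sm ge N3728 = N3728 := ded_42_1 (flp_j L32298) L22496 L32298
theorem L32304 : sm gf N3728 = N2583 := ded_46_1 (flp_j L22498) L22490 L32298
theorem L32306 : sm gh N3728 = N3728 := ded_52_2 (flp_j L32298) L22495 L32298
theorem L32307 : sm gc N2584 = N3729 := rfl
theorem L32309 : sm ga N3729 = N2586 := ded_11_1 (flp_c L22529) (flp_a L22509) L32307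
theorem L32311 : sm ge N3729 = N2627 := ded_28_2 (flp_c L22892) (flp_e L22517) L32307
theorem L32313 : sm gg N3729 = N3729 := ded_30_2 (flp_c L32307) L22513 L32307
theorem L32314 : sm gj N3729 = N2595 := ded_31_2 (flp_c L22614) (flp_j L22514) L32307
theorem L32316 : sm gi N3729 = N3729 := ded_33_2 (flp_c L32307) L22516 L32307
theorem L32317 : sm gf N2584 = N3730 := rfl
theorem L32319 : sm ga N3730 = N2587 := ded_14_1 (flp_f L22538) (flp_a L22509) L32317
theorem L32321 : sm gb N3730 = N2924 := ded_22_1 (flp_f L25302) (flp_b L22511) L32317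
theorem L32323 : sm gd N3730 = N2585 := ded_35_1 (flp_f L22519) L22507 L32317
theorem L32325 : sm gj N3730 = N2596 := ded_46_2 (flp_f L22623) (flp_j L22514) L32317
theorem L32327 : sm gi N3730 = N3730 := ded_48_2 (flp_f L32317) L22516 L32317
theorem L32328 : sm gh N2584 = N3731 := rfl
theorem L32330 : sm ga N3731 = N2588 := ded_17_1 (flp_h L22547) (flp_a L22509) L32328
theorem L32332 : sm gb N3731 = N2925 := ded_25_1 (flp_h L25311) (flp_b L22511) L32328
theorem L32339 : sm gg N2585 = N3732 := rfl
theorem L32341 : sm ga N3732 = N2589 := ded_15_1 (flp_g L22556) (flp_a L22521) L32339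
theorem L32343 : sm gb N3732 = N2926 := ded_23_1 (flp_g L25320) (flp_b L22523) L32339
theorem L32345 : sm ge N3732 = N3732 := ded_41_1 (flp_g L32339) L22528 L32339
theorem L32346 : sm gi N3732 = N3732 := ded_51_2 (flp_g L32339) L22527 L32339
theorem L32347 : sm gf N3732 = N3732 := ded_45_1 (flp_g L32339) (flp_f L22519) L15714 L22519 L32339
theorem L32348 : sm gf N2586 = N3733 := rfl
theorem L32350 : sm gb N3733 = N3733 := ded_22_1 (flp_f L32348) L22537 L32348
theorem L32351 : sm gc N3733 = N2587 := ded_29_1 (flp_f L22538) L22529 L32348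
theorem L32353 : sm gj N3733 = N2599 := ded_46_2 (flp_f L22652) (flp_j L22534) L32348
theorem L32355 : sm gi N3733 = N3733 := ded_48_2 (flp_f L32348) L22536 L32348
theorem L32356 : sm gh N2586 = N3734 := rfl
theorem L32358 : sm gb N3734 = N3734 := ded_25_1 (flp_h L32356) L22537 L32356
theorem L32359 : sm gc N3734 = N2588 := ded_32_1 (flp_h L22547) L22529 L32356
theorem L32361 : sm ge N3734 = N2632 := ded_43_1 (flp_h L22943) (flp_e L22531) L32356
theorem L32363 : sm gg N3734 = N3734 := ded_50_1 (flp_h L32356) L22533 L32356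
theorem L32364 : sm gj N3734 = N2600 := ded_52_1 (flp_h L22658) (flp_j L22534) L32356
theorem L32366 : sm ge N2587 = N3735 := rfl
theorem L32368 : sm gb N3735 = N2590 := ded_21_1 (flp_e L22563) (flp_b L22540) L32366
theorem L32370 : sm gj N3735 = N2601 := ded_42_2 (flp_e L22667) (flp_j L22544) L32366
theorem L32372 : sm gi N3735 = N3735 := ded_44_2 (flp_e L32366) L22546 L32366
theorem L32373 : sm gd N3735 = N3735 := ded_34_1 (flp_e L32366) L22542 L15735 (flp_d L22542) L32366
theorem L32374 : sm gf N3735 = N2633 := ded_40_2 (flp_e L22951) (flp_f L16024) (flp_e L15726) L22538 L32366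
theorem L32376 : sm gg N2587 = N3736 := rfl
theorem L32378 : sm gb N3736 = N2591 := ded_23_1 (flp_g L22574) (flp_b L22540) L32376
theorem L32380 : sm gd N3736 = N2589 := ded_36_1 (flp_g L22556) (flp_d L22542) L32376
theorem L32382 : sm gi N3736 = N3736 := ded_51_2 (flp_g L32376) L22546 L32376
theorem L32383 : sm gf N3736 = N3736 := ded_45_1 (flp_g L32376) (flp_f L22538) L15722 L22538 L32376
theorem L32384 : sm gh N2587 = N3737 := rfl
theorem L32386 : sm gb N3737 = N2592 := ded_25_1 (flp_h L22583) (flp_b L22540) L32384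
theorem L32388 : sm gf N3737 = N2588 := ded_47_1 (flp_h L22547) L22538 L32384
theorem L32390 : sm gj N3737 = N2603 := ded_52_1 (flp_h L22684) (flp_j L22544) L32384
theorem L32392 : sm gi N2588 = N3738 := rfl
theorem L32399 : sm gj N3738 = N2604 := ded_53_1 (flp_i L22690) (flp_j L22554) L32392
theorem L32402 : sm gj N2589 = N3739 := rfl
theorem L32404 : sm gb N3739 = N2594 := ded_24_1 (flp_j L22603) (flp_b L22558) L32402
theorem L32406 : sm ge N3739 = N3739 := ded_42_1 (flp_j L32402) L22560 L32402
theorem L32407 : sm gf N3739 = N3739 := ded_46_1 (flp_j L32402) L22562 L32402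
theorem L32408 : sm gi N3739 = N3739 := ded_53_2 (flp_j L32402) L22561 L32402
theorem L32409 : sm gg N3739 = N2605 := ded_49_1 (flp_j L22699) (flp_g L15817) (flp_j L15732) L22556 L32402
theorem L32411 : sm gg N2590 = N3740 := rfl
theorem L32413 : sm ga N3740 = N2934 := ded_15_1 (flp_g L25393) (flp_a L22565) L32411
theorem L32415 : sm gc N3740 = N3740 := ded_30_1 (flp_g L32411) L22567 L32411
theorem L32416 : sm gd N3740 = N3740 := ded_36_1 (flp_g L32411) L22571 L32411
theorem L32417 : sm ge N3740 = N2591 := ded_41_1 (flp_g L22574) L22563 L32411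
theorem L32419 : sm gi N3740 = N3740 := ded_51_2 (flp_g L32411) L22570 L32411
theorem L32420 : sm gh N2590 = N3741 := rfl
theorem L32422 : sm ga N3741 = N2935 := ded_17_1 (flp_h L25400) (flp_a L22565) L32420
theorem L32424 : sm gc N3741 = N3741 := ded_32_1 (flp_h L32420) L22567 L32420
theorem L32425 : sm ge N3741 = N2592 := ded_43_1 (flp_h L22583) L22563 L32420
theorem L32427 : sm gf N3741 = N2638 := ded_47_1 (flp_h L22996) (flp_f L22572) L32420
theorem L32429 : sm gj N3741 = N2607 := ded_52_1 (flp_h L22717) (flp_j L22568) L32420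
theorem L32431 : sm gj N2591 = N3742 := rfl
theorem L32433 : sm ga N3742 = N2936 := ded_16_1 (flp_j L25409) (flp_a L22576) L32431
theorem L32435 : sm gc N3742 = N3742 := ded_31_1 (flp_j L32431) L22578 L32431
theorem L32436 : sm gd N3742 = N2594 := ded_37_1 (flp_j L22603) (flp_d L22579) L32431
theorem L32438 : sm gf N3742 = N3742 := ded_46_1 (flp_j L32431) L22582 L32431
theorem L32439 : sm gi N3742 = N3742 := ded_53_2 (flp_j L32431) L22581 L32431
theorem L32440 : sm gg N3742 = N2608 := ded_49_1 (flp_j L22726) (flp_g L15834) (flp_j L15743) L22574 L32431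
theorem L32442 : sm gh N2591 = N3743 := rfl
theorem L32444 : sm ga N3743 = N2937 := ded_17_1 (flp_h L25418) (flp_a L22576) L32442
theorem L32446 : sm gc N3743 = N3743 := ded_32_1 (flp_h L32442) L22578 L32442
theorem L32447 : sm gf N3743 = N3743 := ded_47_1 (flp_h L32442) L22582 L32442
theorem L32448 : sm gg N3743 = N2592 := ded_50_1 (flp_h L22583) L22574 L32442
theorem L32450 : sm gi N2592 = N3744 := rfl
theorem L32452 : sm ga N3744 = N2938 := ded_18_1 (flp_i L25424) (flp_a L22585) L32450
theorem L32454 : sm gc N3744 = N3744 := ded_33_1 (flp_i L32450) L22587 L32450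
theorem L32455 : sm gf N3744 = N2593 := ded_48_1 (flp_i L22592) (flp_f L22588) L32450
theorem L32457 : sm gj N3744 = N2610 := ded_53_1 (flp_i L22745) (flp_j L22590) L32450
theorem L32459 : sm gh N3744 = N3744 := ded_54_1 (flp_i L32450) (flp_h L22583) L15745 L22583 L32450
theorem L32460 : sm gb N2595 = N3745 := rfl
theorem L32462 : sm ge N3745 = N2641 := ded_21_2 (flp_b L23026) (flp_e L22618) L32460
theorem L32464 : sm gg N3745 = N2611 := ded_23_2 (flp_b L22753) (flp_g L22620) L32460
theorem L32468 : sm gc N3745 = N2939 := ded_19_2 (flp_b L25432) (flp_c L17744) (flp_b L15779) L22614 L32460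
theorem L32470 : sm gf N2595 = N3746 := rfl
theorem L32472 : sm ga N3746 = N2599 := ded_14_1 (flp_f L22652) (flp_a L22616) L32470
theorem L32474 : sm gc N3746 = N2596 := ded_29_1 (flp_f L22623) L22614 L32470
theorem L32476 : sm gi N3746 = N3746 := ded_48_2 (flp_f L32470) L22622 L32470
theorem L32477 : sm gh N2595 = N3747 := rfl
theorem L32479 : sm ga N3747 = N2600 := ded_17_1 (flp_h L22658) (flp_a L22616) L32477
theorem L32481 : sm gc N3747 = N2597 := ded_32_1 (flp_h L22632) L22614 L32477
theorem L32483 : sm ge N3747 = N2643 := ded_43_1 (flp_h L23044) (flp_e L22618) L32477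
theorem L32485 : sm gg N3747 = N2613 := ded_50_1 (flp_h L22771) (flp_g L22620) L32477
theorem L32487 : sm ge N2596 = N3748 := rfl
theorem L32489 : sm ga N3748 = N2601 := ded_13_1 (flp_e L22667) (flp_a L22625) L32487
theorem L32491 : sm gb N3748 = N2942 := ded_21_1 (flp_e L25459) (flp_b L22627) L32487
theorem L32493 : sm gi N3748 = N3748 := ded_44_2 (flp_e L32487) L22631 L32487
theorem L32494 : sm gd N3748 = N3748 := ded_34_1 (flp_e L32487) L22629 L15793 (flp_d L22629) L32487
theorem L32495 : sm gf N3748 = N2644 := ded_40_2 (flp_e L23052) (flp_f L16098) (flp_e L15784) L22623 L32487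
theorem L32497 : sm gg N2596 = N3749 := rfl
theorem L32499 : sm ga N3749 = N2602 := ded_15_1 (flp_g L22675) (flp_a L22625) L32497
theorem L32501 : sm gb N3749 = N2943 := ded_23_1 (flp_g L25467) (flp_b L22627) L32497
theorem L32503 : sm gd N3749 = N2598 := ded_36_1 (flp_g L22642) (flp_d L22629) L32497
theorem L32505 : sm gi N3749 = N3749 := ded_51_2 (flp_g L32497) L22631 L32497
theorem L32506 : sm gf N3749 = N2614 := ded_45_1 (flp_g L22780) (flp_f L15879) (flp_g L15781) L22623 L32497
theorem L32508 : sm gh N2596 = N3750 := rfl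
theorem L32527 : sm gj N2598 = N3752 := rfl
theorem L32529 : sm ga N3752 = N2605 := ded_16_1 (flp_j L22699) (flp_a L22644) L32527
theorem L32531 : sm gb N3752 = N2946 := ded_24_1 (flp_j L25491) (flp_b L22646) L32527
theorem L32533 : sm ge N3752 = N3752 := ded_42_1 (flp_j L32527) L22648 L32527
theorem L32534 : sm gf N3752 = N2617 := ded_46_1 (flp_j L22810) (flp_f L22650) L32527
theorem L32536 : sm gi N3752 = N3752 := ded_53_2 (flp_j L32527) L22649 L32527
theorem L32537 : sm ge N2599 = N3753 := rfl
theorem L32539 : sm gb N3753 = N3753 := ded_21_1 (flp_e L32537) L22654 L32537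
theorem L32540 : sm gc N3753 = N2601 := ded_28_1 (flp_e L22667) (flp_c L22655) L32537
theorem L32542 : sm gi N3753 = N3753 := ded_44_2 (flp_e L32537) L22657 L32537
theorem L32543 : sm gf N3753 = N2647 := ded_40_2 (flp_e L23081) (flp_f L16117) (flp_e L15796) L22652 L32537
theorem L32545 : sm gg N2599 = N3754 := rfl
theorem L32547 : sm gb N3754 = N3754 := ded_23_1 (flp_g L32545) L22654 L32545
theorem L32548 : sm gc N3754 = N2602 := ded_30_1 (flp_g L22675) (flp_c L22655) L32545
theorem L32550 : sm gi N3754 = N3754 := ded_51_2 (flp_g L32545) L22657 L32545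
theorem L32551 : sm gf N3754 = N2618 := ded_45_1 (flp_g L22820) (flp_f L15908) (flp_g L15798) L22652 L32545
theorem L32553 : sm gh N2599 = N3755 := rfl
theorem L32555 : sm gb N3755 = N3755 := ded_25_1 (flp_h L32553) L22654 L32553
theorem L32556 : sm gc N3755 = N2603 := ded_32_1 (flp_h L22684) (flp_c L22655) L32553
theorem L32558 : sm gf N3755 = N2600 := ded_47_1 (flp_h L22658) L22652 L32553
theorem L32560 : sm gd N2600 = N3756 := rfl
theorem L32562 : sm gb N3756 = N3756 := ded_20_1 (flp_d L32560) L22660 L32560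
theorem L32563 : sm gg N3756 = N2620 := ded_36_2 (flp_d L22836) (flp_g L22665) L32560
theorem L32575 : sm gg N2601 = N3758 := rfl
theorem L32577 : sm gb N3758 = N2606 := ded_23_1 (flp_g L22707) (flp_b L22669) L32575
theorem L32579 : sm gd N3758 = N3758 := ded_36_1 (flp_g L32575) L22672 L32575
theorem L32580 : sm ge N3758 = N2602 := ded_41_1 (flp_g L22675) L22667 L32575
theorem L32582 : sm gi N3758 = N3758 := ded_51_2 (flp_g L32575) L22671 L32575
theorem L32583 : sm gf N3758 = N3758 := ded_45_1 (flp_g L32575) L22673 L16136 (flp_f L22673) L32575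
theorem L32584 : sm gh N2601 = N3759 := rfl
theorem L32586 : sm gb N3759 = N2607 := ded_25_1 (flp_h L22717) (flp_b L22669) L32584
theorem L32588 : sm ge N3759 = N2603 := ded_43_1 (flp_h L22684) L22667 L32584
theorem L32590 : sm gf N3759 = N2651 := ded_47_1 (flp_h L23111) (flp_f L22673) L32584
theorem L32592 : sm gj N2602 = N3760 := rfl
theorem L32594 : sm gb N3760 = N2608 := ded_24_1 (flp_j L22726) (flp_b L22677) L32592
theorem L32596 : sm gd N3760 = N2605 := ded_37_1 (flp_j L22699) (flp_d L22679) L32592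
theorem L32598 : sm gf N3760 = N2622 := ded_46_1 (flp_j L22849) (flp_f L22682) L32592
theorem L32600 : sm gi N3760 = N3760 := ded_53_2 (flp_j L32592) L22681 L32592
theorem L32601 : sm gh N2602 = N3761 := rfl
theorem L32603 : sm gb N3761 = N2609 := ded_25_1 (flp_h L22736) (flp_b L22677) L32601
theorem L32605 : sm gf N3761 = N2623 := ded_47_1 (flp_h L22858) (flp_f L22682) L32601
theorem L32607 : sm gg N3761 = N2603 := ded_50_1 (flp_h L22684) L22675 L32601
theorem L32616 : sm gj N2606 = N3763 := rfl
theorem L32618 : sm ga N3763 = N2957 := ded_16_1 (flp_j L25581) (flp_a L22709) L32616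
theorem L32620 : sm gc N3763 = N3763 := ded_31_1 (flp_j L32616) L22711 L32616
theorem L32621 : sm gd N3763 = N3763 := ded_37_1 (flp_j L32616) L22712 L32616
theorem L32622 : sm ge N3763 = N2608 := ded_42_1 (flp_j L22726) (flp_e L22713) L32616
theorem L32624 : sm gf N3763 = N3763 := ded_46_1 (flp_j L32616) L22716 L32616
theorem L32625 : sm gi N3763 = N3763 := ded_53_2 (flp_j L32616) L22715 L32616
theorem L32626 : sm gh N2606 = N3764 := rfl
theorem L32628 : sm ga N3764 = N2958 := ded_17_1 (flp_h L25589) (flp_a L22709) L32626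
theorem L32630 : sm gc N3764 = N3764 := ded_32_1 (flp_h L32626) L22711 L32626
theorem L32631 : sm ge N3764 = N2609 := ded_43_1 (flp_h L22736) (flp_e L22713) L32626
theorem L32633 : sm gf N3764 = N3764 := ded_47_1 (flp_h L32626) L22716 L32626
theorem L32634 : sm gg N3764 = N2607 := ded_50_1 (flp_h L22717) L22707 L32626
theorem L32636 : sm gd N2607 = N3765 := rfl
theorem L32638 : sm ga N3765 = N2959 := ded_12_1 (flp_d L25597) (flp_a L22719) L32636
theorem L32640 : sm gf N3765 = N2653 := ded_35_2 (flp_d L23127) (flp_f L22724) L32636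
theorem L32642 : sm gh N3765 = N3765 := ded_38_2 (flp_d L32636) (flp_h L22717) L15831 L22717 L32636
theorem L32643 : sm gi N2607 = N3766 := rfl
theorem L32645 : sm ga N3766 = N2960 := ded_18_1 (flp_i L25602) (flp_a L22719) L32643
theorem L32647 : sm gc N3766 = N3766 := ded_33_1 (flp_i L32643) L22721 L32643
theorem L32648 : sm ge N3766 = N2610 := ded_44_1 (flp_i L22745) (flp_e L22722) L32643
theorem L32650 : sm gf N3766 = N2654 := ded_48_1 (flp_i L23134) (flp_f L22724) L32643
theorem L32652 : sm gh N3766 = N3766 := ded_54_1 (flp_i L32643) (flp_h L22717) L15830 L22717 L32643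
theorem L32653 : sm gh N2608 = N3767 := rfl
theorem L32655 : sm ga N3767 = N2961 := ded_17_1 (flp_h L25610) (flp_a L22728) L32653
theorem L32657 : sm gc N3767 = N3767 := ded_32_1 (flp_h L32653) L22730 L32653
theorem L32658 : sm gf N3767 = N2625 := ded_47_1 (flp_h L22874) (flp_f L22733) L32653
theorem L32660 : sm gj N3767 = N2609 := ded_52_1 (flp_h L22736) L22726 L32653
theorem L32662 : sm gi N2609 = N3768 := rfl
theorem L32664 : sm ga N3768 = N2962 := ded_18_1 (flp_i L25617) (flp_a L22738) L32662
theorem L32666 : sm gc N3768 = N3768 := ded_33_1 (flp_i L32662) L22740 L32662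
theorem L32667 : sm gf N3768 = N2626 := ded_48_1 (flp_i L22883) (flp_f L22741) L32662
theorem L32669 : sm gg N3768 = N2610 := ded_51_1 (flp_i L22745) (flp_g L22743) L32662
theorem L32671 : sm gh N3768 = N3768 := ded_54_1 (flp_i L32662) (flp_h L22736) L15841 L22736 L32662
theorem L32672 : sm gf N2611 = N3769 := rfl
theorem L32675 : sm gb N3769 = N2612 := ded_22_1 (flp_f L22762) L22753 L32672
theorem L32677 : sm gc N3769 = N2963 := ded_29_1 (flp_f L25625) (flp_c L22760) L32672
theorem L32682 : sm gh N2611 = N3770 := rfl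
theorem L32692 : sm gg N2612 = N3771 := rfl
theorem L32694 : sm ga N3771 = N2618 := ded_15_1 (flp_g L22820) (flp_a L22764) L32692
theorem L32696 : sm gc N3771 = N2614 := ded_30_1 (flp_g L22780) (flp_c L22766) L32692
theorem L32698 : sm ge N3771 = N3771 := ded_41_1 (flp_g L32692) L22770 L32692
theorem L32699 : sm gi N3771 = N3771 := ded_51_2 (flp_g L32692) L22769 L32692
theorem L32700 : sm gh N2612 = N3772 := rfl
theorem L32702 : sm ga N3772 = N2619 := ded_17_1 (flp_h L22827) (flp_a L22764) L32700
theorem L32704 : sm gc N3772 = N2615 := ded_32_1 (flp_h L22790) (flp_c L22766) L32700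
theorem L32707 : sm gf N3772 = N2613 := ded_47_1 (flp_h L22771) L22762 L32700
theorem L32710 : sm gd N2613 = N3773 := rfl
theorem L32712 : sm ga N3773 = N2620 := ded_12_1 (flp_d L22836) (flp_a L22773) L32710
theorem L32725 : sm gj N2614 = N3775 := rfl
theorem L32727 : sm ga N3775 = N2622 := ded_16_1 (flp_j L22849) (flp_a L22782) L32725
theorem L32729 : sm gb N3775 = N2969 := ded_24_1 (flp_j L25677) (flp_b L22784) L32725
theorem L32731 : sm gd N3775 = N2617 := ded_37_1 (flp_j L22810) (flp_d L22786) L32725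
theorem L32733 : sm ge N3775 = N3775 := ded_42_1 (flp_j L32725) L22788 L32725
theorem L32734 : sm gi N3775 = N3775 := ded_53_2 (flp_j L32725) L22789 L32725
theorem L32735 : sm gg N3775 = N3775 := ded_49_1 (flp_j L32725) (flp_g L22780) L15887 L22780 L32725
theorem L32736 : sm gh N2614 = N3776 := rfl
theorem L32745 : sm gi N2615 = N3777 := rfl
theorem L32749 : sm gb N3777 = N2971 := ded_26_1 (flp_i L25693) (flp_b L22794) L32745
theorem L32752 : sm gf N3777 = N2616 := ded_48_1 (flp_i L22800) (flp_f L22797) L32745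
theorem L32756 : sm gj N2618 = N3778 := rfl
theorem L32758 : sm gb N3778 = N3778 := ded_24_1 (flp_j L32756) L22822 L32756
theorem L32759 : sm gc N3778 = N2622 := ded_31_1 (flp_j L22849) (flp_c L22823) L32756
theorem L32761 : sm ge N3778 = N3778 := ded_42_1 (flp_j L32756) L22825 L32756
theorem L32762 : sm gi N3778 = N3778 := ded_53_2 (flp_j L32756) L22826 L32756
theorem L32763 : sm gg N3778 = N3778 := ded_49_1 (flp_j L32756) (flp_g L22820) L15913 L22820 L32756
theorem L32764 : sm gh N2618 = N3779 := rfl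
theorem L32766 : sm gb N3779 = N3779 := ded_25_1 (flp_h L32764) L22822 L32764
theorem L32767 : sm gc N3779 = N2623 := ded_32_1 (flp_h L22858) (flp_c L22823) L32764
theorem L32769 : sm ge N3779 = N3779 := ded_43_1 (flp_h L32764) L22825 L32764
theorem L32770 : sm gg N3779 = N2619 := ded_50_1 (flp_h L22827) L22820 L32764
theorem L32772 : sm gd N2619 = N3780 := rfl
theorem L32774 : sm gb N3780 = N3780 := ded_20_1 (flp_d L32772) L22829 L32772
theorem L32775 : sm gf N3780 = N2620 := ded_35_2 (flp_d L22836) (flp_f L22833) L32772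
theorem L32777 : sm gj N3780 = N3780 := ded_37_2 (flp_d L32772) L22835 L32772
theorem L32778 : sm gi N2619 = N3781 := rfl
theorem L32781 : sm gc N3781 = N2624 := ded_33_1 (flp_i L22865) (flp_c L22830) L32778
theorem L32784 : sm gf N3781 = N2621 := ded_48_1 (flp_i L22840) (flp_f L22833) L32778
theorem L32788 : sm ge N2620 = N3782 := rfl
theorem L32790 : sm gb N3782 = N3782 := ded_21_1 (flp_e L32788) L22838 L32788
theorem L32791 : sm gj N3782 = N3782 := ded_42_2 (flp_e L32788) L22839 L32788
theorem L32792 : sm gd N3782 = N2658 := ded_34_1 (flp_e L23169) (flp_d L16200) (flp_e L15921) L22836 L32788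
theorem L32794 : sm gi N2620 = N3783 := rfl
theorem L32797 : sm gd N3783 = N2621 := ded_39_1 (flp_i L22840) L22836 L32794
theorem L32800 : sm gh N2622 = N3784 := rfl
theorem L32802 : sm gb N3784 = N2625 := ded_25_1 (flp_h L22874) (flp_b L22851) L32800
theorem L32804 : sm ge N3784 = N3784 := ded_43_1 (flp_h L32800) L22855 L32800
theorem L32805 : sm gg N3784 = N3784 := ded_50_1 (flp_h L32800) L22857 L32800
theorem L32806 : sm gj N3784 = N2623 := ded_52_1 (flp_h L22858) L22849 L32800
theorem L32816 : sm gi N2625 = N3786 := rfl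
theorem L32818 : sm ga N3786 = N2980 := ded_18_1 (flp_i L25765) (flp_a L22876) L32816
theorem L32820 : sm gc N3786 = N3786 := ded_33_1 (flp_i L32816) L22878 L32816
theorem L32821 : sm ge N3786 = N3786 := ded_44_1 (flp_i L32816) L22879 L32816
theorem L32822 : sm gg N3786 = N3786 := ded_51_1 (flp_i L32816) L22880 L32816
theorem L32823 : sm gj N3786 = N2626 := ded_53_1 (flp_i L22883) (flp_j L22881) L32816
theorem L32825 : sm gh N3786 = N3786 := ded_54_1 (flp_i L32816) (flp_h L22874) L15964 L22874 L32816
theorem L32826 : sm gb N2627 = N3787 := rfl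
theorem L32830 : sm gj N3787 = N2641 := ded_24_2 (flp_b L23026) (flp_j L22897) L32826
theorem L32834 : sm gc N3787 = N2981 := ded_19_2 (flp_b L25773) (flp_c L18001) (flp_b L15998) L22892 L32826
theorem L32836 : sm gf N2627 = N3788 := rfl
theorem L32838 : sm ga N3788 = N2631 := ded_14_1 (flp_f L22934) (flp_a L22894) L32836
theorem L32840 : sm gc N3788 = N2628 := ded_29_1 (flp_f L22901) L22892 L32836
theorem L32842 : sm gd N3788 = N3788 := ded_35_1 (flp_f L32836) L22900 L32836
theorem L32843 : sm gj N3788 = N2642 := ded_46_2 (flp_f L23035) (flp_j L22897) L32836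
theorem L32845 : sm gi N3788 = N3788 := ded_48_2 (flp_f L32836) L22899 L32836
theorem L32846 : sm gh N2627 = N3789 := rfl
theorem L32848 : sm ga N3789 = N2632 := ded_17_1 (flp_h L22943) (flp_a L22894) L32846
theorem L32853 : sm gj N3789 = N2643 := ded_52_1 (flp_h L23044) (flp_j L22897) L32846
theorem L32855 : sm ge N2628 = N3790 := rfl
theorem L32857 : sm ga N3790 = N2633 := ded_13_1 (flp_e L22951) (flp_a L22903) L32855
theorem L32859 : sm gb N3790 = N2984 := ded_21_1 (flp_e L25802) (flp_b L22905) L32855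
theorem L32861 : sm gj N3790 = N2644 := ded_42_2 (flp_e L23052) (flp_j L22909) L32855
theorem L32863 : sm gi N3790 = N3790 := ded_44_2 (flp_e L32855) L22911 L32855
theorem L32864 : sm gd N3790 = N3790 := ded_34_1 (flp_e L32855) L22907 L16015 (flp_d L22907) L32855
theorem L32865 : sm gg N2628 = N3791 := rfl
theorem L32867 : sm ga N3791 = N2634 := ded_15_1 (flp_g L22959) (flp_a L22903) L32865
theorem L32869 : sm gb N3791 = N2985 := ded_23_1 (flp_g L25810) (flp_b L22905) L32865
theorem L32871 : sm gd N3791 = N2630 := ded_36_1 (flp_g L22922) (flp_d L22907) L32865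
theorem L32873 : sm gi N3791 = N3791 := ded_51_2 (flp_g L32865) L22911 L32865
theorem L32874 : sm gf N3791 = N3791 := ded_45_1 (flp_g L32865) (flp_f L22901) L16000 L22901 L32865
theorem L32875 : sm gj N3791 = N3791 := ded_49_2 (flp_g L32865) L22909 L16107 (flp_j L22909) L32865
theorem L32898 : sm ge N2631 = N3794 := rfl
theorem L32900 : sm gb N3794 = N3794 := ded_21_1 (flp_e L32898) L22936 L32898
theorem L32901 : sm gc N3794 = N2633 := ded_28_1 (flp_e L22951) (flp_c L22937) L32898
theorem L32903 : sm gj N3794 = N2647 := ded_42_2 (flp_e L23081) (flp_j L22940) L32898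
theorem L32905 : sm gi N3794 = N3794 := ded_44_2 (flp_e L32898) L22942 L32898
theorem L32906 : sm gg N2631 = N3795 := rfl
theorem L32908 : sm gb N3795 = N3795 := ded_23_1 (flp_g L32906) L22936 L32906
theorem L32909 : sm gc N3795 = N2634 := ded_30_1 (flp_g L22959) (flp_c L22937) L32906
theorem L32911 : sm gd N3795 = N3795 := ded_36_1 (flp_g L32906) L22939 L32906
theorem L32912 : sm gi N3795 = N3795 := ded_51_2 (flp_g L32906) L22942 L32906
theorem L32913 : sm gf N3795 = N3795 := ded_45_1 (flp_g L32906) (flp_f L22934) L16018 L22934 L32906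
theorem L32914 : sm gj N3795 = N3795 := ded_49_2 (flp_g L32906) L22940 L16124 (flp_j L22940) L32906
theorem L32915 : sm gh N2631 = N3796 := rfl
theorem L32917 : sm gb N3796 = N3796 := ded_25_1 (flp_h L32915) L22936 L32915
theorem L32918 : sm gc N3796 = N2635 := ded_32_1 (flp_h L22968) (flp_c L22937) L32915
theorem L32920 : sm gf N3796 = N2632 := ded_47_1 (flp_h L22943) L22934 L32915
theorem L32922 : sm gj N3796 = N2648 := ded_52_1 (flp_h L23088) (flp_j L22940) L32915
theorem L32924 : sm gd N2632 = N3797 := rfl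
theorem L32926 : sm gb N3797 = N3797 := ded_20_1 (flp_d L32924) L22945 L32924
theorem L32927 : sm gg N3797 = N3797 := ded_36_2 (flp_d L32924) L22948 L32924
theorem L32928 : sm gj N3797 = N2649 := ded_37_2 (flp_d L23096) (flp_j L22949) L32924
theorem L32930 : sm gc N3797 = N3797 := ded_27_1 (flp_d L32924) L22946 L16040 (flp_c L22946) L32924
theorem L32931 : sm gh N3797 = N3797 := ded_38_2 (flp_d L32924) (flp_h L22943) L16023 L22943 L32924
theorem L32932 : sm gi N2632 = N3798 := rfl
theorem L32941 : sm gg N2633 = N3799 := rfl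
theorem L32943 : sm gb N3799 = N2637 := ded_23_1 (flp_g L22986) (flp_b L22953) L32941
theorem L32945 : sm gd N3799 = N3799 := ded_36_1 (flp_g L32941) L22958 L32941
theorem L32946 : sm ge N3799 = N2634 := ded_41_1 (flp_g L22959) L22951 L32941
theorem L32948 : sm gi N3799 = N3799 := ded_51_2 (flp_g L32941) L22957 L32941
theorem L32949 : sm gj N3799 = N3799 := ded_49_2 (flp_g L32941) L22955 L16136 (flp_j L22955) L32941
theorem L32950 : sm gh N2633 = N3800 := rfl
theorem L32952 : sm gb N3800 = N2638 := ded_25_1 (flp_h L22996) (flp_b L22953) L32950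
theorem L32954 : sm ge N3800 = N2635 := ded_43_1 (flp_h L22968) L22951 L32950
theorem L32956 : sm gj N3800 = N2651 := ded_52_1 (flp_h L23111) (flp_j L22955) L32950
theorem L32958 : sm gh N2634 = N3801 := rfl
theorem L32960 : sm gb N3801 = N2639 := ded_25_1 (flp_h L23005) (flp_b L22961) L32958
theorem L32962 : sm gf N3801 = N3801 := ded_47_1 (flp_h L32958) L22966 L32958
theorem L32963 : sm gg N3801 = N2635 := ded_50_1 (flp_h L22968) L22959 L32958
theorem L32965 : sm gj N3801 = N3801 := ded_52_1 (flp_h L32958) L22967 L32958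
theorem L32966 : sm gd N3801 = N3801 := ded_38_1 (flp_h L32958) L22963 L16047 (flp_d L22963) L32958
theorem L32967 : sm gi N2635 = N3802 := rfl
theorem L32974 : sm gj N3802 = N2652 := ded_53_1 (flp_i L23118) (flp_j L22974) L32967
theorem L32977 : sm gf N2637 = N3803 := rfl
theorem L32979 : sm ga N3803 = N2997 := ded_14_1 (flp_f L25918) (flp_a L22988) L32977
theorem L32981 : sm gc N3803 = N3803 := ded_29_1 (flp_f L32977) L22990 L32977
theorem L32982 : sm gd N3803 = N3803 := ded_35_1 (flp_f L32977) L22991 L32977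
theorem L32983 : sm gj N3803 = N3803 := ded_46_2 (flp_f L32977) L22995 L32977
theorem L32984 : sm gi N3803 = N3803 := ded_48_2 (flp_f L32977) L22994 L32977
theorem L32985 : sm ge N3803 = N3803 := ded_40_1 (flp_f L32977) L22992 L16068 (flp_e L22992) L32977
theorem L32986 : sm gh N2637 = N3804 := rfl
theorem L32988 : sm ga N3804 = N2998 := ded_17_1 (flp_h L25925) (flp_a L22988) L32986
theorem L32990 : sm gc N3804 = N3804 := ded_32_1 (flp_h L32986) L22990 L32986
theorem L32991 : sm ge N3804 = N2639 := ded_43_1 (flp_h L23005) (flp_e L22992) L32986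
theorem L32993 : sm gg N3804 = N2638 := ded_50_1 (flp_h L22996) L22986 L32986
theorem L32995 : sm gj N3804 = N3804 := ded_52_1 (flp_h L32986) L22995 L32986
theorem L32996 : sm gd N2638 = N3805 := rfl
theorem L32998 : sm ga N3805 = N2999 := ded_12_1 (flp_d L25933) (flp_a L22998) L32996
theorem L33000 : sm gj N3805 = N2653 := ded_37_2 (flp_d L23127) (flp_j L23003) L32996
theorem L33002 : sm ge N3805 = N3805 := ded_34_2 (flp_d L32996) L23001 L16079 (flp_e L23001) L32996
theorem L33003 : sm gh N3805 = N3805 := ded_38_2 (flp_d L32996) (flp_h L22996) L16059 L22996 L32996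
theorem L33004 : sm gi N2638 = N3806 := rfl
theorem L33006 : sm ga N3806 = N3000 := ded_18_1 (flp_i L25939) (flp_a L22998) L33004
theorem L33008 : sm gc N3806 = N3806 := ded_33_1 (flp_i L33004) L23000 L33004
theorem L33009 : sm ge N3806 = N2640 := ded_44_1 (flp_i L23015) (flp_e L23001) L33004
theorem L33011 : sm gj N3806 = N2654 := ded_53_1 (flp_i L23134) (flp_j L23003) L33004
theorem L33013 : sm gh N3806 = N3806 := ded_54_1 (flp_i L33004) (flp_h L22996) L16058 L22996 L33004
theorem L33014 : sm gi N2639 = N3807 := rfl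
theorem L33016 : sm ga N3807 = N3001 := ded_18_1 (flp_i L25947) (flp_a L23007) L33014
theorem L33018 : sm gc N3807 = N3807 := ded_33_1 (flp_i L33014) L23009 L33014
theorem L33019 : sm gd N3807 = N3807 := ded_39_1 (flp_i L33014) L23014 L33014
theorem L33020 : sm gf N3807 = N3807 := ded_48_1 (flp_i L33014) L23010 L33014
theorem L33021 : sm gg N3807 = N2640 := ded_51_1 (flp_i L23015) (flp_g L23011) L33014
theorem L33023 : sm gj N3807 = N3807 := ded_53_1 (flp_i L33014) L23013 L33014
theorem L33024 : sm gh N3807 = N3807 := ded_54_1 (flp_i L33014) (flp_h L23005) L16067 L23005 L33014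
theorem L33025 : sm gf N2641 = N3808 := rfl
theorem L33028 : sm gb N3808 = N2642 := ded_22_1 (flp_f L23035) L23026 L33025
theorem L33030 : sm gc N3808 = N3002 := ded_29_1 (flp_f L25956) (flp_c L23033) L33025
theorem L33035 : sm gh N2641 = N3809 := rfl
theorem L33040 : sm gc N3809 = N3003 := ded_32_1 (flp_h L25965) (flp_c L23033) L33035
theorem L33042 : sm gg N3809 = N2655 := ded_50_1 (flp_h L23143) (flp_g L23029) L33035
theorem L33044 : sm ge N2642 = N3810 := rfl
theorem L33046 : sm ga N3810 = N2647 := ded_13_1 (flp_e L23081) (flp_a L23037) L33044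
theorem L33048 : sm gc N3810 = N2644 := ded_28_1 (flp_e L23052) (flp_c L23039) L33044
theorem L33050 : sm gg N3810 = N3810 := ded_41_2 (flp_e L33044) L23043 L33044
theorem L33051 : sm gi N3810 = N3810 := ded_44_2 (flp_e L33044) L23042 L33044
theorem L33052 : sm gh N2642 = N3811 := rfl
theorem L33054 : sm ga N3811 = N2648 := ded_17_1 (flp_h L23088) (flp_a L23037) L33052
theorem L33061 : sm gd N2643 = N3812 := rfl
theorem L33063 : sm ga N3812 = N2649 := ded_12_1 (flp_d L23096) (flp_a L23046) L33061
theorem L33069 : sm gi N2643 = N3813 := rfl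
theorem L33078 : sm gh N2644 = N3814 := rfl
theorem L33080 : sm ga N3814 = N2651 := ded_17_1 (flp_h L23111) (flp_a L23054) L33078
theorem L33098 : sm gd N2647 = N3816 := rfl
theorem L33100 : sm gb N3816 = N3816 := ded_20_1 (flp_d L33098) L23083 L33098
theorem L33101 : sm gg N3816 = N3816 := ded_36_2 (flp_d L33098) L23086 L33098
theorem L33102 : sm gi N3816 = N3816 := ded_39_2 (flp_d L33098) L23087 L33098
theorem L33103 : sm gc N3816 = N3816 := ded_27_1 (flp_d L33098) L23084 L16138 (flp_c L23084) L33098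
theorem L33104 : sm ge N3816 = N3816 := ded_34_2 (flp_d L33098) (flp_e L23081) L16122 L23081 L33098
theorem L33105 : sm gh N2647 = N3817 := rfl
theorem L33107 : sm gb N3817 = N3817 := ded_25_1 (flp_h L33105) L23083 L33105
theorem L33108 : sm gc N3817 = N2651 := ded_32_1 (flp_h L23111) (flp_c L23084) L33105
theorem L33110 : sm ge N3817 = N2648 := ded_43_1 (flp_h L23088) L23081 L33105
theorem L33112 : sm gg N3817 = N3817 := ded_50_1 (flp_h L33105) L23086 L33105
theorem L33113 : sm gd N2648 = N3818 := rfl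
theorem L33115 : sm gb N3818 = N3818 := ded_20_1 (flp_d L33113) L23090 L33113
theorem L33116 : sm gf N3818 = N2649 := ded_35_2 (flp_d L23096) (flp_f L23093) L33113
theorem L33118 : sm gg N3818 = N3818 := ded_36_2 (flp_d L33113) L23095 L33113
theorem L33119 : sm gc N3818 = N3818 := ded_27_1 (flp_d L33113) L23091 L16146 (flp_c L23091) L33113
theorem L33120 : sm gh N3818 = N3818 := ded_38_2 (flp_d L33113) (flp_h L23088) L16122 L23088 L33113
theorem L33130 : sm ge N2649 = N3820 := rfl
theorem L33132 : sm gb N3820 = N3820 := ded_21_1 (flp_e L33130) L23098 L33130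
theorem L33133 : sm gc N3820 = N3820 := ded_28_1 (flp_e L33130) L23101 L33130
theorem L33134 : sm gg N3820 = N2658 := ded_41_2 (flp_e L23169) (flp_g L23099) L33130
theorem L33136 : sm gh N3820 = N3820 := ded_43_2 (flp_e L33130) L23102 L33130
theorem L33137 : sm gi N2649 = N3821 := rfl
theorem L33145 : sm gd N2651 = N3822 := rfl
theorem L33147 : sm gb N3822 = N2653 := ded_20_1 (flp_d L23127) (flp_b L23113) L33145
theorem L33149 : sm gg N3822 = N3822 := ded_36_2 (flp_d L33145) L23117 L33145
theorem L33150 : sm ge N3822 = N3822 := ded_34_2 (flp_d L33145) L23115 L16146 (flp_e L23115) L33145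
theorem L33151 : sm gh N3822 = N3822 := ded_38_2 (flp_d L33145) (flp_h L23111) L16138 L23111 L33145
theorem L33152 : sm gi N2651 = N3823 := rfl
theorem L33154 : sm gb N3823 = N2654 := ded_26_1 (flp_i L23134) (flp_b L23113) L33152
theorem L33156 : sm ge N3823 = N2652 := ded_44_1 (flp_i L23118) (flp_e L23115) L33152
theorem L33160 : sm gc N2653 = N3824 := rfl
theorem L33162 : sm ga N3824 = N3018 := ded_11_1 (flp_c L26088) (flp_a L23129) L33160
theorem L33164 : sm ge N3824 = N3824 := ded_28_2 (flp_c L33160) L23132 L33160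
theorem L33165 : sm gg N3824 = N3824 := ded_30_2 (flp_c L33160) L23131 L33160
theorem L33166 : sm gh N3824 = N3824 := ded_32_2 (flp_c L33160) L23133 L33160
theorem L33167 : sm gd N3824 = N3824 := ded_27_2 (flp_c L33160) (flp_d L23127) L16159 L23127 L33160
theorem L33168 : sm gi N2653 = N3825 := rfl
theorem L33170 : sm ga N3825 = N3019 := ded_18_1 (flp_i L26094) (flp_a L23129) L33168
theorem L33172 : sm gd N3825 = N2654 := ded_39_1 (flp_i L23134) L23127 L33168
theorem L33174 : sm ge N3825 = N3825 := ded_44_1 (flp_i L33168) L23132 L33168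
theorem L33175 : sm gg N3825 = N3825 := ded_51_1 (flp_i L33168) L23131 L33168
theorem L33176 : sm gd N2655 = N3826 := rfl
theorem L33179 : sm gb N3826 = N2656 := ded_20_1 (flp_d L23152) (flp_b L23146) L33176
theorem L33194 : sm ge N2656 = N3828 := rfl
theorem L33196 : sm ga N3828 = N2658 := ded_13_1 (flp_e L23169) (flp_a L23154) L33194
theorem L33210 : sm gf N2658 = N3830 := rfl
theorem L33212 : sm gb N3830 = N3830 := ded_22_1 (flp_f L33210) L23171 L33210
theorem L33213 : sm gc N3830 = N3830 := ded_29_1 (flp_f L33210) L23172 L33210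
theorem L33214 : sm gj N3830 = N3830 := ded_46_2 (flp_f L33210) L23173 L33210
theorem L33215 : sm gh N3830 = N3830 := ded_47_2 (flp_f L33210) L23174 L33210
theorem L33216 : sm ge N3830 = N3830 := ded_40_1 (flp_f L33210) (flp_e L23169) L16203 L23169 L33210
theorem L33217 : sm gi N2658 = N3831 := rfl
theorem L33232 : sm gd N2660 = N3833 := rfl
theorem L33234 : sm ga N3833 = N3833 := ded_12_1 (flp_d L33232) L23185 L33232
theorem L33235 : sm gb N3833 = N2662 := ded_20_1 (flp_d L23204) (flp_b L23186) L33232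
theorem L33237 : sm gg N3833 = N2674 := ded_36_2 (flp_d L23307) (flp_g L23189) L33232
theorem L33239 : sm gj N3833 = N3833 := ded_37_2 (flp_d L33232) L23191 L33232
theorem L33240 : sm ge N3833 = N3833 := ded_34_2 (flp_d L33232) (flp_e L23183) L16217 L23183 L33232
theorem L33241 : sm gf N2660 = N3834 := rfl
theorem L33243 : sm ga N3834 = N3834 := ded_14_1 (flp_f L33241) L23185 L33241
theorem L33244 : sm gb N3834 = N2663 := ded_22_1 (flp_f L23211) (flp_b L23186) L33241
theorem L33246 : sm gc N3834 = N3834 := ded_29_1 (flp_f L33241) L23188 L33241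
theorem L33247 : sm gj N3834 = N3834 := ded_46_2 (flp_f L33241) L23191 L33241
theorem L33248 : sm gh N3834 = N3834 := ded_47_2 (flp_f L33241) L23192 L33241
theorem L33249 : sm ge N3834 = N3834 := ded_40_1 (flp_f L33241) (flp_e L23183) L16218 L23183 L33241
theorem L33250 : sm gg N3834 = N3834 := ded_45_2 (flp_f L33241) L23189 L16301 (flp_g L23189) L33241
theorem L33251 : sm gi N2660 = N3835 := rfl
theorem L33256 : sm gc N3835 = N3835 := ded_33_1 (flp_i L33251) L23188 L33251
theorem L33259 : sm gg N3835 = N2675 := ded_51_1 (flp_i L23316) (flp_g L23189) L33251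
theorem L33262 : sm gh N2661 = N3836 := rfl
theorem L33267 : sm gc N3836 = N3836 := ded_32_1 (flp_h L33262) L23198 L33262
theorem L33268 : sm gf N3836 = N3836 := ded_47_1 (flp_h L33262) L23200 L33262
theorem L33269 : sm gg N3836 = N2676 := ded_50_1 (flp_h L23327) (flp_g L23201) L33262
theorem L33273 : sm gf N2662 = N3837 := rfl
theorem L33275 : sm gc N3837 = N3837 := ded_29_1 (flp_f L33273) L23209 L33273
theorem L33276 : sm gd N3837 = N2663 := ded_35_1 (flp_f L23211) L23204 L33273
theorem L33278 : sm gj N3837 = N3837 := ded_46_2 (flp_f L33273) L23208 L33273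
theorem L33279 : sm gg N3837 = N3837 := ded_45_2 (flp_f L33273) L23206 L16315 (flp_g L23206) L33273
theorem L33280 : sm gh N2662 = N3838 := rfl
theorem L33282 : sm gc N3838 = N3838 := ded_32_1 (flp_h L33280) L23209 L33280
theorem L33283 : sm ge N3838 = N3838 := ded_43_1 (flp_h L33280) L23210 L33280
theorem L33284 : sm gg N3838 = N2677 := ded_50_1 (flp_h L23338) (flp_g L23206) L33280
theorem L33286 : sm gj N3838 = N3838 := ded_52_1 (flp_h L33280) L23208 L33280
theorem L33287 : sm gd N3838 = N3838 := ded_38_1 (flp_h L33280) (flp_d L23204) L16232 L23204 L33280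
theorem L33288 : sm gi N2662 = N3839 := rfl
theorem L33290 : sm gc N3839 = N3839 := ded_33_1 (flp_i L33288) L23209 L33288
theorem L33291 : sm gd N3839 = N2664 := ded_39_1 (flp_i L23219) L23204 L33288
theorem L33293 : sm ge N3839 = N3839 := ded_44_1 (flp_i L33288) L23210 L33288
theorem L33294 : sm gg N3839 = N2678 := ded_51_1 (flp_i L23346) (flp_g L23206) L33288
theorem L33296 : sm gj N3839 = N3839 := ded_53_1 (flp_i L33288) L23208 L33288
theorem L33297 : sm gi N2663 = N3840 := rfl
theorem L33299 : sm gc N3840 = N2666 := ded_33_1 (flp_i L23237) (flp_c L23213) L33297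
theorem L33301 : sm ge N3840 = N3840 := ded_44_1 (flp_i L33297) L23217 L33297
theorem L33302 : sm gf N3840 = N2664 := ded_48_1 (flp_i L23219) L23211 L33297
theorem L33304 : sm gg N3840 = N3840 := ded_51_1 (flp_i L33297) L23218 L33297
theorem L33305 : sm gj N3840 = N3840 := ded_53_1 (flp_i L33297) L23215 L33297
theorem L33306 : sm gh N2664 = N3841 := rfl
theorem L33308 : sm gc N3841 = N2667 := ded_32_1 (flp_h L23246) (flp_c L23221) L33306
theorem L33310 : sm ge N3841 = N2665 := ded_43_1 (flp_h L23228) (flp_e L23223) L33306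
theorem L33312 : sm gg N3841 = N2679 := ded_50_1 (flp_h L23355) (flp_g L23225) L33306
theorem L33316 : sm gd N2665 = N3842 := rfl
theorem L33318 : sm gf N3842 = N3842 := ded_35_2 (flp_d L33316) L23232 L33316
theorem L33319 : sm gg N3842 = N2680 := ded_36_2 (flp_d L23365) (flp_g L23233) L33316
theorem L33324 : sm gh N2666 = N3843 := rfl
theorem L33326 : sm gb N3843 = N3843 := ded_25_1 (flp_h L33324) L23239 L33324
theorem L33327 : sm ge N3843 = N3843 := ded_43_1 (flp_h L33324) L23241 L33324
theorem L33328 : sm gf N3843 = N2667 := ded_47_1 (flp_h L23246) (flp_f L23242) L33324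
theorem L33330 : sm gg N3843 = N3843 := ded_50_1 (flp_h L33324) L23244 L33324
theorem L33331 : sm gj N3843 = N3843 := ded_52_1 (flp_h L33324) L23245 L33324
theorem L33332 : sm gi N3843 = N3843 := ded_54_2 (flp_h L33324) (flp_i L23237) L16247 L23237 L33324
theorem L33333 : sm gd N2667 = N3844 := rfl
theorem L33335 : sm gb N3844 = N3844 := ded_20_1 (flp_d L33333) L23248 L33333
theorem L33336 : sm gg N3844 = N2681 := ded_36_2 (flp_d L23373) (flp_g L23251) L33333
theorem L33338 : sm gj N3844 = N3844 := ded_37_2 (flp_d L33333) L23253 L33333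
theorem L33339 : sm gi N3844 = N3844 := ded_39_2 (flp_d L33333) L23254 L33333
theorem L33340 : sm gh N3844 = N3844 := ded_38_2 (flp_d L33333) (flp_h L23246) L16253 L23246 L33333
theorem L33341 : sm gc N2668 = N3845 := rfl
theorem L33343 : sm gf N3845 = N3845 := ded_29_2 (flp_c L33341) L23258 L33341
theorem L33344 : sm gg N3845 = N2682 := ded_30_2 (flp_c L23381) (flp_g L23259) L33341
theorem L33347 : sm gh N3845 = N2669 := ded_32_2 (flp_c L23265) (flp_h L23263) L33341
theorem L33349 : sm gi N3845 = N3845 := ded_33_2 (flp_c L33341) L23262 L33341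
theorem L33350 : sm ge N2668 = N3846 := rfl
theorem L33352 : sm gb N3846 = N3846 := ded_21_1 (flp_e L33350) L23257 L33350
theorem L33353 : sm gg N3846 = N2683 := ded_41_2 (flp_e L23390) (flp_g L23259) L33350
theorem L33355 : sm gj N3846 = N3846 := ded_42_2 (flp_e L33350) L23261 L33350
theorem L33356 : sm gh N3846 = N2670 := ded_43_2 (flp_e L23274) (flp_h L23263) L33350
theorem L33358 : sm gi N3846 = N3846 := ded_44_2 (flp_e L33350) L23262 L33350
theorem L33359 : sm gb N2669 = N3847 := rfl
theorem L33363 : sm gg N3847 = N2684 := ded_23_2 (flp_b L23398) (flp_g L23268) L33359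
theorem L33366 : sm gi N3847 = N2671 := ded_26_2 (flp_b L23283) (flp_i L23271) L33359
theorem L33369 : sm ge N2669 = N3848 := rfl
theorem L33371 : sm gc N3848 = N2670 := ded_28_1 (flp_e L23274) L23265 L33369
theorem L33373 : sm gg N3848 = N2685 := ded_41_2 (flp_e L23408) (flp_g L23268) L33369
theorem L33375 : sm gj N3848 = N3848 := ded_42_2 (flp_e L33369) L23270 L33369
theorem L33376 : sm gi N3848 = N2672 := ded_44_2 (flp_e L23292) (flp_i L23271) L33369
theorem L33378 : sm gf N2670 = N3849 := rfl
theorem L33380 : sm gb N3849 = N3849 := ded_22_1 (flp_f L33378) L23276 L33378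
theorem L33381 : sm gd N3849 = N3849 := ded_35_1 (flp_f L33378) L23282 L33378
theorem L33382 : sm gj N3849 = N3849 := ded_46_2 (flp_f L33378) L23279 L33378
theorem L33383 : sm gi N3849 = N2673 := ded_48_2 (flp_f L23300) (flp_i L23280) L33378
theorem L33385 : sm ge N3849 = N3849 := ded_40_1 (flp_f L33378) (flp_e L23274) L16270 L23274 L33378
theorem L33386 : sm ga N2671 = N3850 := rfl
theorem L33391 : sm gg N3850 = N2687 := ded_15_2 (flp_a L23426) (flp_g L23287) L33386
theorem L33395 : sm ge N2671 = N3851 := rfl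
theorem L33397 : sm gb N3851 = N2672 := ded_21_1 (flp_e L23292) L23283 L33395
theorem L33399 : sm gc N3851 = N3851 := ded_28_1 (flp_e L33395) L23291 L33395
theorem L33400 : sm gg N3851 = N2688 := ded_41_2 (flp_e L23435) (flp_g L23287) L33395
theorem L33402 : sm gj N3851 = N3851 := ded_42_2 (flp_e L33395) L23289 L33395
theorem L33403 : sm gh N3851 = N3851 := ded_43_2 (flp_e L33395) L23290 L33395
theorem L33404 : sm gd N2672 = N3852 := rfl
theorem L33406 : sm gg N3852 = N2689 := ded_36_2 (flp_d L23443) (flp_g L23296) L33404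
theorem L33408 : sm gj N3852 = N3852 := ded_37_2 (flp_d L33404) L23298 L33404
theorem L33409 : sm gc N3852 = N3852 := ded_27_1 (flp_d L33404) L23294 L16291 (flp_c L23294) L33404
theorem L33410 : sm ge N3852 = N3852 := ded_34_2 (flp_d L33404) (flp_e L23292) L16283 L23292 L33404
theorem L33411 : sm gf N2672 = N3853 := rfl
theorem L33413 : sm gc N3853 = N2673 := ded_29_1 (flp_f L23300) (flp_c L23294) L33411
theorem L33415 : sm gj N3853 = N3853 := ded_46_2 (flp_f L33411) L23298 L33411
theorem L33416 : sm gh N3853 = N3853 := ded_47_2 (flp_f L33411) L23299 L33411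
theorem L33417 : sm ge N3853 = N3853 := ded_40_1 (flp_f L33411) (flp_e L23292) L16278 L23292 L33411
theorem L33418 : sm gg N2673 = N3854 := rfl
theorem L33420 : sm gb N3854 = N3854 := ded_23_1 (flp_g L33418) L23302 L33418
theorem L33421 : sm gd N3854 = N3854 := ded_36_1 (flp_g L33418) L23303 L33418
theorem L33422 : sm ge N3854 = N3854 := ded_41_1 (flp_g L33418) L23306 L33418
theorem L33423 : sm gh N3854 = N3854 := ded_50_2 (flp_g L33418) L23305 L33418
theorem L33424 : sm gf N3854 = N2691 := ded_45_1 (flp_g L23458) (flp_f L16390) (flp_g L16287) L23300 L33418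
theorem L33426 : sm gc N2674 = N3855 := rfl
theorem L33428 : sm ga N3855 = N3855 := ded_11_1 (flp_c L33426) L23309 L33426
theorem L33429 : sm ge N3855 = N3855 := ded_28_2 (flp_c L33426) L23315 L33426
theorem L33430 : sm gf N3855 = N3855 := ded_29_2 (flp_c L33426) L23312 L33426
theorem L33431 : sm gj N3855 = N2692 := ded_31_2 (flp_c L23465) (flp_j L23313) L33426
theorem L33433 : sm gb N3855 = N3855 := ded_19_1 (flp_c L33426) L23310 L16318 (flp_b L23310) L33426
theorem L33434 : sm gd N3855 = N3855 := ded_27_2 (flp_c L33426) (flp_d L23307) L16297 L23307 L33426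
theorem L33435 : sm gh N2674 = N3856 := rfl
theorem L33437 : sm ga N3856 = N3856 := ded_17_1 (flp_h L33435) L23309 L33435
theorem L33438 : sm gb N3856 = N2677 := ded_25_1 (flp_h L23338) (flp_b L23310) L33435
theorem L33440 : sm ge N3856 = N3856 := ded_43_1 (flp_h L33435) L23315 L33435
theorem L33441 : sm gf N3856 = N3856 := ded_47_1 (flp_h L33435) L23312 L33435
theorem L33442 : sm gj N3856 = N2693 := ded_52_1 (flp_h L23473) (flp_j L23313) L33435
theorem L33444 : sm gd N3856 = N3856 := ded_38_1 (flp_h L33435) (flp_d L23307) L16300 L23307 L33435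
theorem L33445 : sm gi N2674 = N3857 := rfl
theorem L33448 : sm gb N3857 = N2678 := ded_26_1 (flp_i L23346) (flp_b L23310) L33445
theorem L33450 : sm gd N3857 = N2675 := ded_39_1 (flp_i L23316) L23307 L33445
theorem L33454 : sm gj N3857 = N2694 := ded_53_1 (flp_i L23482) (flp_j L23313) L33445
theorem L33456 : sm gh N2675 = N3858 := rfl
theorem L33461 : sm gc N3858 = N3858 := ded_32_1 (flp_h L33456) L23321 L33456
theorem L33462 : sm ge N3858 = N2676 := ded_43_1 (flp_h L23327) (flp_e L23322) L33456
theorem L33465 : sm gj N3858 = N2695 := ded_52_1 (flp_h L23492) (flp_j L23325) L33456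
theorem L33468 : sm gd N2676 = N3859 := rfl
theorem L33473 : sm gf N3859 = N2719 := ded_35_2 (flp_d L23673) (flp_f L23333) L33468
theorem L33475 : sm gj N3859 = N2696 := ded_37_2 (flp_d L23503) (flp_j L23335) L33468
theorem L33477 : sm gi N3859 = N3859 := ded_39_2 (flp_d L33468) L23337 L33468
theorem L33479 : sm gi N2677 = N3860 := rfl
theorem L33485 : sm gj N3860 = N2697 := ded_53_1 (flp_i L23513) (flp_j L23343) L33479
theorem L33487 : sm gh N2678 = N3861 := rfl
theorem L33492 : sm gj N3861 = N2698 := ded_52_1 (flp_h L23520) (flp_j L23353) L33487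
theorem L33494 : sm gd N2679 = N3862 := rfl
theorem L33497 : sm gj N3862 = N2699 := ded_37_2 (flp_d L23526) (flp_j L23362) L33494
theorem L33500 : sm gc N2680 = N3863 := rfl
theorem L33502 : sm gf N3863 = N2720 := ded_29_2 (flp_c L23683) (flp_f L23367) L33500
theorem L33504 : sm gj N3863 = N2700 := ded_31_2 (flp_c L23531) (flp_j L23369) L33500
theorem L33507 : sm gi N3863 = N3863 := ded_33_2 (flp_c L33500) L23371 L33500
theorem L33508 : sm gd N3863 = N2682 := ded_27_2 (flp_c L23381) (flp_d L16347) (flp_c L16331) L23365 L33500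
theorem L33510 : sm ge N2680 = N3864 := rfl
theorem L33516 : sm gc N2681 = N3865 := rfl
theorem L33519 : sm gj N3865 = N2702 := ded_31_2 (flp_c L23545) (flp_j L23377) L33516
theorem L33523 : sm ge N2681 = N3866 := rfl
theorem L33525 : sm gb N3866 = N3866 := ded_21_1 (flp_e L33523) L23375 L33523
theorem L33526 : sm gj N3866 = N2703 := ded_42_2 (flp_e L23551) (flp_j L23377) L33523
theorem L33528 : sm gh N3866 = N3866 := ded_43_2 (flp_e L33523) L23380 L33523
theorem L33529 : sm gi N3866 = N3866 := ded_44_2 (flp_e L33523) L23379 L33523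
theorem L33530 : sm gd N3866 = N2683 := ded_34_1 (flp_e L23390) (flp_d L16347) (flp_e L16341) L23373 L33523
theorem L33532 : sm gb N2682 = N3867 := rfl
theorem L33536 : sm gj N3867 = N2704 := ded_24_2 (flp_b L23559) (flp_j L23385) L33532
theorem L33538 : sm gh N3867 = N2684 := ded_25_2 (flp_b L23398) (flp_h L23387) L33532
theorem L33542 : sm ge N2682 = N3868 := rfl
theorem L33544 : sm gc N3868 = N2683 := ded_28_1 (flp_e L23390) L23381 L33542
theorem L33546 : sm gj N3868 = N2705 := ded_42_2 (flp_e L23568) (flp_j L23385) L33542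
theorem L33548 : sm gh N3868 = N2685 := ded_43_2 (flp_e L23408) (flp_h L23387) L33542
theorem L33551 : sm gf N2683 = N3869 := rfl
theorem L33553 : sm gb N3869 = N3869 := ded_22_1 (flp_f L33551) L23392 L33551
theorem L33554 : sm gj N3869 = N2706 := ded_46_2 (flp_f L23576) (flp_j L23393) L33551
theorem L33556 : sm gh N3869 = N2686 := ded_47_2 (flp_f L23416) (flp_h L23395) L33551
theorem L33558 : sm gi N3869 = N3869 := ded_48_2 (flp_f L33551) L23397 L33551
theorem L33559 : sm ge N3869 = N2724 := ded_40_1 (flp_f L23719) (flp_e L16565) (flp_f L16350) L23390 L33551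
theorem L33561 : sm ga N2684 = N3870 := rfl
theorem L33563 : sm gc N3870 = N3870 := ded_11_2 (flp_a L33561) L23407 L33561
theorem L33565 : sm gf N3870 = N2725 := ded_14_2 (flp_a L23728) (flp_f L23401) L33561
theorem L33567 : sm gj N3870 = N2707 := ded_16_2 (flp_a L23584) (flp_j L23403) L33561
theorem L33569 : sm gi N3870 = N2687 := ded_18_2 (flp_a L23426) (flp_i L23405) L33561
theorem L33571 : sm ge N2684 = N3871 := rfl
theorem L33573 : sm gb N3871 = N2685 := ded_21_1 (flp_e L23408) L23398 L33571
theorem L33575 : sm gc N3871 = N3871 := ded_28_1 (flp_e L33571) L23407 L33571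
theorem L33576 : sm gj N3871 = N2708 := ded_42_2 (flp_e L23593) (flp_j L23403) L33571
theorem L33578 : sm gi N3871 = N2688 := ded_44_2 (flp_e L23435) (flp_i L23405) L33571
theorem L33580 : sm gd N2685 = N3872 := rfl
theorem L33582 : sm gj N3872 = N2709 := ded_37_2 (flp_d L23601) (flp_j L23412) L33580
theorem L33584 : sm gi N3872 = N2689 := ded_39_2 (flp_d L23443) (flp_i L23414) L33580
theorem L33586 : sm gc N3872 = N3872 := ded_27_1 (flp_d L33580) L23410 L16373 (flp_c L23410) L33580
theorem L33587 : sm ge N3872 = N3872 := ded_34_2 (flp_d L33580) (flp_e L23408) L16365 L23408 L33580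
theorem L33588 : sm gf N2685 = N3873 := rfl
theorem L33590 : sm gc N3873 = N2686 := ded_29_1 (flp_f L23416) (flp_c L23410) L33588
theorem L33592 : sm gj N3873 = N2710 := ded_46_2 (flp_f L23608) (flp_j L23412) L33588
theorem L33594 : sm gi N3873 = N2690 := ded_48_2 (flp_f L23449) (flp_i L23414) L33588
theorem L33596 : sm ge N3873 = N2728 := ded_40_1 (flp_f L23757) (flp_e L16584) (flp_f L16359) L23408 L33588
theorem L33598 : sm gg N2686 = N3874 := rfl
theorem L33600 : sm gb N3874 = N3874 := ded_23_1 (flp_g L33598) L23418 L33598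
theorem L33601 : sm gd N3874 = N3874 := ded_36_1 (flp_g L33598) L23419 L33598
theorem L33602 : sm ge N3874 = N2729 := ded_41_1 (flp_g L23765) (flp_e L23424) L33598
theorem L33604 : sm gi N3874 = N2691 := ded_51_2 (flp_g L23458) (flp_i L23422) L33598
theorem L33606 : sm ge N2687 = N3875 := rfl
theorem L33608 : sm ga N3875 = N2688 := ded_13_1 (flp_e L23435) L23426 L33606
theorem L33611 : sm gj N3875 = N2712 := ded_42_2 (flp_e L23625) (flp_j L23432) L33606
theorem L33614 : sm gd N2688 = N3876 := rfl
theorem L33616 : sm gb N3876 = N2689 := ded_20_1 (flp_d L23443) (flp_b L23437) L33614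
theorem L33618 : sm gj N3876 = N2713 := ded_37_2 (flp_d L23632) (flp_j L23440) L33614
theorem L33620 : sm ge N3876 = N3876 := ded_34_2 (flp_d L33614) (flp_e L23435) L16376 L23435 L33614
theorem L33621 : sm gf N2688 = N3877 := rfl
theorem L33623 : sm gb N3877 = N2690 := ded_22_1 (flp_f L23449) (flp_b L23437) L33621
theorem L33625 : sm gc N3877 = N3877 := ded_29_1 (flp_f L33621) L23439 L33621
theorem L33626 : sm gj N3877 = N2714 := ded_46_2 (flp_f L23638) (flp_j L23440) L33621
theorem L33628 : sm gh N3877 = N3877 := ded_47_2 (flp_f L33621) L23442 L33621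
theorem L33629 : sm ge N3877 = N2732 := ded_40_1 (flp_f L23790) (flp_e L16610) (flp_f L16377) L23435 L33621
theorem L33631 : sm gf N2689 = N3878 := rfl
theorem L33633 : sm gc N3878 = N3878 := ded_29_1 (flp_f L33631) L23447 L33631
theorem L33634 : sm gd N3878 = N2690 := ded_35_1 (flp_f L23449) L23443 L33631
theorem L33636 : sm gj N3878 = N2715 := ded_46_2 (flp_f L23646) (flp_j L23445) L33631
theorem L33638 : sm gh N2689 = N3879 := rfl
theorem L33640 : sm gc N3879 = N3879 := ded_32_1 (flp_h L33638) L23447 L33638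
theorem L33641 : sm ge N3879 = N3879 := ded_43_1 (flp_h L33638) L23448 L33638
theorem L33642 : sm gj N3879 = N2716 := ded_52_1 (flp_h L23651) (flp_j L23445) L33638
theorem L33644 : sm gd N3879 = N3879 := ded_38_1 (flp_h L33638) (flp_d L23443) L16389 L23443 L33638
theorem L33645 : sm gg N2690 = N3880 := rfl
theorem L33647 : sm gc N3880 = N2691 := ded_30_1 (flp_g L23458) (flp_c L23451) L33645
theorem L33649 : sm ge N3880 = N2735 := ded_41_1 (flp_g L23815) (flp_e L23456) L33645
theorem L33651 : sm gh N3880 = N3880 := ded_50_2 (flp_g L33645) L23455 L33645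
theorem L33652 : sm gj N2691 = N3881 := rfl
theorem L33654 : sm gb N3881 = N3881 := ded_24_1 (flp_j L33652) L23460 L33652
theorem L33655 : sm gd N3881 = N3881 := ded_37_1 (flp_j L33652) L23461 L33652
theorem L33656 : sm ge N3881 = N2736 := ded_42_1 (flp_j L23821) (flp_e L23462) L33652
theorem L33658 : sm gh N3881 = N3881 := ded_52_2 (flp_j L33652) L23464 L33652
theorem L33659 : sm gg N3881 = N2718 := ded_49_1 (flp_j L23665) (flp_g L16531) (flp_j L16394) L23458 L33652
theorem L33661 : sm gh N2692 = N3882 := rfl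
theorem L33663 : sm ga N3882 = N3882 := ded_17_1 (flp_h L33661) L23467 L33661
theorem L33664 : sm gb N3882 = N3882 := ded_25_1 (flp_h L33661) L23471 L33661
theorem L33665 : sm gc N3882 = N2693 := ded_32_1 (flp_h L23473) L23465 L33661
theorem L33667 : sm ge N3882 = N3882 := ded_43_1 (flp_h L33661) L23468 L33661
theorem L33668 : sm gf N3882 = N3882 := ded_47_1 (flp_h L33661) L23469 L33661
theorem L33669 : sm gg N3882 = N3882 := ded_50_1 (flp_h L33661) L23470 L33661
theorem L33670 : sm gi N2692 = N3883 := rfl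
theorem L33673 : sm gb N3883 = N3883 := ded_26_1 (flp_i L33670) L23471 L33670
theorem L33674 : sm gc N3883 = N2694 := ded_33_1 (flp_i L23482) L23465 L33670
theorem L33676 : sm gd N3883 = N3883 := ded_39_1 (flp_i L33670) L23472 L33670
theorem L33680 : sm gi N2693 = N3884 := rfl
theorem L33683 : sm gb N3884 = N2697 := ded_26_1 (flp_i L23513) (flp_b L23476) L33680
theorem L33689 : sm gh N2694 = N3885 := rfl
theorem L33692 : sm gb N3885 = N2698 := ded_25_1 (flp_h L23520) (flp_b L23485) L33689
theorem L33697 : sm gd N2695 = N3886 := rfl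
theorem L33705 : sm gc N2696 = N3887 := rfl
theorem L33708 : sm gf N3887 = N2737 := ded_29_2 (flp_c L23830) (flp_f L23508) L33705
theorem L33712 : sm gi N3887 = N3887 := ded_33_2 (flp_c L33705) L23511 L33705
theorem L33714 : sm ge N2696 = N3888 := rfl
theorem L33722 : sm gh N2697 = N3889 := rfl
theorem L33728 : sm gi N3889 = N2698 := ded_54_2 (flp_h L23520) (flp_i L16434) L16427 L23513 L33722
theorem L33730 : sm gd N2698 = N3890 := rfl
theorem L33734 : sm gh N3890 = N2699 := ded_38_2 (flp_d L23526) (flp_h L16442) (flp_d L16437) L23520 L33730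
theorem L33736 : sm gc N2699 = N3891 := rfl
theorem L33741 : sm gd N3891 = N2702 := ded_27_2 (flp_c L23545) (flp_d L16458) (flp_c L16444) L23526 L33736
theorem L33743 : sm ge N2699 = N3892 := rfl
theorem L33747 : sm gd N3892 = N2701 := ded_34_1 (flp_e L23540) (flp_d L16451) (flp_e L16446) L23526 L33743
theorem L33749 : sm gb N2700 = N3893 := rfl
theorem L33751 : sm gd N3893 = N2704 := ded_20_2 (flp_b L23559) (flp_d L23538) L33749
theorem L33753 : sm gf N3893 = N2739 := ded_22_2 (flp_b L23848) (flp_f L23533) L33749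
theorem L33758 : sm ge N2700 = N3894 := rfl
theorem L33760 : sm gc N3894 = N2701 := ded_28_1 (flp_e L23540) L23531 L33758
theorem L33765 : sm gf N2701 = N3895 := rfl
theorem L33771 : sm gb N2702 = N3896 := rfl
theorem L33778 : sm ge N2702 = N3897 := rfl
theorem L33780 : sm gc N3897 = N2703 := ded_28_1 (flp_e L23551) L23545 L33778
theorem L33785 : sm gf N2703 = N3898 := rfl
theorem L33787 : sm gb N3898 = N3898 := ded_22_1 (flp_f L33785) L23553 L33785
theorem L33788 : sm gd N3898 = N2706 := ded_35_1 (flp_f L23576) (flp_d L23557) L33785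
theorem L33790 : sm gh N3898 = N3898 := ded_47_2 (flp_f L33785) L23555 L33785
theorem L33791 : sm gi N3898 = N3898 := ded_48_2 (flp_f L33785) L23556 L33785
theorem L33792 : sm ge N3898 = N3898 := ded_40_1 (flp_f L33785) (flp_e L23551) L16461 L23551 L33785
theorem L33793 : sm ga N2704 = N3899 := rfl
theorem L33796 : sm gf N3899 = N2742 := ded_14_2 (flp_a L23869) (flp_f L23561) L33793
theorem L33799 : sm gh N3899 = N2707 := ded_17_2 (flp_a L23584) (flp_h L23564) L33793
theorem L33802 : sm ge N2704 = N3900 := rfl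
theorem L33804 : sm gb N3900 = N2705 := ded_21_1 (flp_e L23568) L23559 L33802
theorem L33808 : sm gh N3900 = N2708 := ded_43_2 (flp_e L23593) (flp_h L23564) L33802
theorem L33811 : sm gd N2705 = N3901 := rfl
theorem L33815 : sm gf N2705 = N3902 := rfl
theorem L33817 : sm gc N3902 = N2706 := ded_29_1 (flp_f L23576) (flp_c L23570) L33815
theorem L33819 : sm gh N3902 = N2710 := ded_47_2 (flp_f L23608) (flp_h L23573) L33815
theorem L33822 : sm ge N3902 = N2745 := ded_40_1 (flp_f L23893) (flp_e L16673) (flp_f L16467) L23568 L33815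
theorem L33824 : sm gg N2706 = N3903 := rfl
theorem L33826 : sm gb N3903 = N3903 := ded_23_1 (flp_g L33824) L23578 L33824
theorem L33827 : sm ge N3903 = N2746 := ded_41_1 (flp_g L23900) (flp_e L23582) L33824
theorem L33829 : sm gh N3903 = N2711 := ded_50_2 (flp_g L23616) (flp_h L23579) L33824
theorem L33831 : sm gi N3903 = N3903 := ded_51_2 (flp_g L33824) L23581 L33824
theorem L33832 : sm gf N3903 = N3903 := ded_45_1 (flp_g L33824) (flp_f L23576) L16476 L23576 L33824
theorem L33833 : sm ge N2707 = N3904 := rfl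
theorem L33835 : sm ga N3904 = N2708 := ded_13_1 (flp_e L23593) L23584 L33833
theorem L33839 : sm gi N3904 = N2712 := ded_44_2 (flp_e L23625) (flp_i L23591) L33833
theorem L33841 : sm gd N2708 = N3905 := rfl
theorem L33843 : sm gb N3905 = N2709 := ded_20_1 (flp_d L23601) (flp_b L23595) L33841
theorem L33846 : sm gi N3905 = N2713 := ded_39_2 (flp_d L23632) (flp_i L23599) L33841
theorem L33849 : sm gf N2708 = N3906 := rfl
theorem L33851 : sm gb N3906 = N2710 := ded_22_1 (flp_f L23608) (flp_b L23595) L33849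
theorem L33854 : sm gi N3906 = N2714 := ded_48_2 (flp_f L23638) (flp_i L23599) L33849
theorem L33856 : sm ge N3906 = N2749 := ded_40_1 (flp_f L23927) (flp_e L16697) (flp_f L16483) L23593 L33849
theorem L33858 : sm gf N2709 = N3907 := rfl
theorem L33860 : sm gc N3907 = N3907 := ded_29_1 (flp_f L33858) L23606 L33858
theorem L33861 : sm gd N3907 = N2710 := ded_35_1 (flp_f L23608) L23601 L33858
theorem L33863 : sm gi N3907 = N2715 := ded_48_2 (flp_f L23646) (flp_i L23604) L33858
theorem L33865 : sm gh N2709 = N3908 := rfl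
theorem L33870 : sm gg N2710 = N3909 := rfl
theorem L33872 : sm gc N3909 = N2711 := ded_30_1 (flp_g L23616) (flp_c L23610) L33870
theorem L33874 : sm ge N3909 = N2752 := ded_41_1 (flp_g L23949) (flp_e L23614) L33870
theorem L33876 : sm gi N3909 = N2717 := ded_51_2 (flp_g L23657) (flp_i L23612) L33870
theorem L33878 : sm gf N3909 = N3909 := ded_45_1 (flp_g L33870) (flp_f L23608) L16493 L23608 L33870
theorem L33879 : sm gj N2711 = N3910 := rfl
theorem L33881 : sm gb N3910 = N3910 := ded_24_1 (flp_j L33879) L23618 L33879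
theorem L33882 : sm gd N3910 = N3910 := ded_37_1 (flp_j L33879) L23619 L33879
theorem L33883 : sm ge N3910 = N2753 := ded_42_1 (flp_j L23957) (flp_e L23620) L33879
theorem L33885 : sm gf N3910 = N3910 := ded_46_1 (flp_j L33879) L23624 L33879
theorem L33886 : sm gi N3910 = N2718 := ded_53_2 (flp_j L23665) (flp_i L23622) L33879
theorem L33888 : sm gd N2712 = N3911 := rfl
theorem L33890 : sm ga N3911 = N2713 := ded_12_1 (flp_d L23632) (flp_a L23627) L33888
theorem L33894 : sm gf N2712 = N3912 := rfl
theorem L33896 : sm ga N3912 = N2714 := ded_14_1 (flp_f L23638) (flp_a L23627) L33894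
theorem L33900 : sm ge N3912 = N2755 := ded_40_1 (flp_f L23973) (flp_e L16730) (flp_f L16508) L23625 L33894
theorem L33902 : sm gc N2713 = N3913 := rfl
theorem L33904 : sm ge N3913 = N3913 := ded_28_2 (flp_c L33902) L23637 L33902
theorem L33905 : sm gg N3913 = N3913 := ded_30_2 (flp_c L33902) L23636 L33902
theorem L33906 : sm gb N3913 = N3913 := ded_19_1 (flp_c L33902) L23634 L16522 (flp_b L23634) L33902
theorem L33907 : sm gd N3913 = N3913 := ded_27_2 (flp_c L33902) (flp_d L23632) L16516 L23632 L33902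
theorem L33908 : sm gf N2713 = N3914 := rfl
theorem L33910 : sm gb N3914 = N2715 := ded_22_1 (flp_f L23646) (flp_b L23634) L33908
theorem L33912 : sm gd N3914 = N2714 := ded_35_1 (flp_f L23638) L23632 L33908
theorem L33914 : sm gh N2713 = N3915 := rfl
theorem L33916 : sm gb N3915 = N2716 := ded_25_1 (flp_h L23651) (flp_b L23634) L33914
theorem L33918 : sm ge N3915 = N3915 := ded_43_1 (flp_h L33914) L23637 L33914
theorem L33919 : sm gg N3915 = N3915 := ded_50_1 (flp_h L33914) L23636 L33914
theorem L33920 : sm gd N3915 = N3915 := ded_38_1 (flp_h L33914) (flp_d L23632) L16518 L23632 L33914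
theorem L33921 : sm gg N2714 = N3916 := rfl
theorem L33923 : sm gb N3916 = N2717 := ded_23_1 (flp_g L23657) (flp_b L23640) L33921
theorem L33925 : sm gc N3916 = N3916 := ded_30_1 (flp_g L33921) L23642 L33921
theorem L33926 : sm ge N3916 = N2759 := ded_41_1 (flp_g L24001) (flp_e L23644) L33921
theorem L33928 : sm gh N3916 = N3916 := ded_50_2 (flp_g L33921) L23643 L33921
theorem L33929 : sm gf N3916 = N3916 := ded_45_1 (flp_g L33921) (flp_f L23638) L16517 L23638 L33921
theorem L33930 : sm ge N2715 = N3917 := rfl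
theorem L33932 : sm gc N3917 = N3917 := ded_28_1 (flp_e L33930) L23648 L33930
theorem L33933 : sm gd N3917 = N2760 := ded_34_1 (flp_e L24009) L16755 (flp_e L16529) (flp_d L23649) L33930
theorem L33935 : sm gf N3917 = N3917 := ded_40_2 (flp_e L33930) (flp_f L23646) L16523 L23646 L33930
theorem L33936 : sm gg N2715 = N3918 := rfl
theorem L33938 : sm gc N3918 = N3918 := ded_30_1 (flp_g L33936) L23648 L33936
theorem L33939 : sm gd N3918 = N2717 := ded_36_1 (flp_g L23657) (flp_d L23649) L33936
theorem L33941 : sm gf N3918 = N3918 := ded_45_1 (flp_g L33936) (flp_f L23646) L16521 L23646 L33936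
theorem L33942 : sm gh N2715 = N3919 := rfl
theorem L33944 : sm gc N3919 = N3919 := ded_32_1 (flp_h L33942) L23648 L33942
theorem L33945 : sm gf N3919 = N2716 := ded_47_1 (flp_h L23651) L23646 L33942
theorem L33947 : sm gd N3919 = N3919 := ded_38_1 (flp_h L33942) L23649 L16528 (flp_d L23649) L33942
theorem L33948 : sm gi N2716 = N3920 := rfl
theorem L33954 : sm gj N2717 = N3921 := rfl
theorem L33956 : sm gc N3921 = N2718 := ded_31_1 (flp_j L23665) (flp_c L23659) L33954
theorem L33958 : sm ge N3921 = N2764 := ded_42_1 (flp_j L24037) (flp_e L23661) L33954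
theorem L33960 : sm gf N3921 = N3921 := ded_46_1 (flp_j L33954) L23664 L33954
theorem L33961 : sm gh N3921 = N3921 := ded_52_2 (flp_j L33954) L23663 L33954
theorem L33962 : sm gc N2719 = N3922 := rfl
theorem L33965 : sm gg N3922 = N3922 := ded_30_2 (flp_c L33962) L23678 L33962
theorem L33966 : sm gj N3922 = N2737 := ded_31_2 (flp_c L23830) (flp_j L23679) L33962
theorem L33968 : sm gh N3922 = N3922 := ded_32_2 (flp_c L33962) L23682 L33962
theorem L33969 : sm gi N3922 = N3922 := ded_33_2 (flp_c L33962) L23681 L33962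
theorem L33971 : sm ge N2719 = N3923 := rfl
theorem L33977 : sm gj N3923 = N2738 := ded_42_2 (flp_e L23838) (flp_j L23679) L33971
theorem L33982 : sm gb N2720 = N3924 := rfl
theorem L33984 : sm gd N3924 = N2722 := ded_20_2 (flp_b L23700) (flp_d L23690) L33982
theorem L33986 : sm gg N3924 = N3924 := ded_23_2 (flp_b L33982) L23685 L33982
theorem L33987 : sm gj N3924 = N2739 := ded_24_2 (flp_b L23848) (flp_j L23686) L33982
theorem L33991 : sm ge N2720 = N3925 := rfl
theorem L33995 : sm gg N3925 = N3925 := ded_41_2 (flp_e L33991) L23685 L33991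
theorem L33996 : sm gj N3925 = N2740 := ded_42_2 (flp_e L23856) (flp_j L23686) L33991
theorem L34007 : sm ga N2722 = N3927 := rfl
theorem L34009 : sm gc N3927 = N3927 := ded_11_2 (flp_a L34007) L23708 L34007
theorem L34011 : sm gj N3927 = N2742 := ded_16_2 (flp_a L23869) (flp_j L23703) L34007
theorem L34013 : sm gh N3927 = N2725 := ded_17_2 (flp_a L23728) (flp_h L23705) L34007
theorem L34016 : sm ge N2722 = N3928 := rfl
theorem L34021 : sm gg N3928 = N3928 := ded_41_2 (flp_e L34016) L23702 L34016
theorem L34022 : sm gj N3928 = N2743 := ded_42_2 (flp_e L23877) (flp_j L23703) L34016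
theorem L34024 : sm gh N3928 = N2726 := ded_43_2 (flp_e L23737) (flp_h L23705) L34016
theorem L34027 : sm gd N2723 = N3929 := rfl
theorem L34030 : sm gj N3929 = N2744 := ded_37_2 (flp_d L23887) (flp_j L23714) L34027
theorem L34034 : sm gf N2723 = N3930 := rfl
theorem L34038 : sm gj N3930 = N2745 := ded_46_2 (flp_f L23893) (flp_j L23714) L34034
theorem L34040 : sm gh N3930 = N2728 := ded_47_2 (flp_f L23757) (flp_h L23716) L34034
theorem L34043 : sm gg N2724 = N3931 := rfl
theorem L34045 : sm gb N3931 = N3931 := ded_23_1 (flp_g L34043) L23721 L34043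
theorem L34046 : sm gd N3931 = N3931 := ded_36_1 (flp_g L34043) L23722 L34043
theorem L34047 : sm gh N3931 = N2729 := ded_50_2 (flp_g L23765) (flp_h L23725) L34043
theorem L34049 : sm gi N3931 = N3931 := ded_51_2 (flp_g L34043) L23727 L34043
theorem L34050 : sm gf N3931 = N3931 := ded_45_1 (flp_g L34043) (flp_f L23719) L16568 L23719 L34043
theorem L34051 : sm ge N2725 = N3932 := rfl
theorem L34053 : sm ga N3932 = N2726 := ded_13_1 (flp_e L23737) L23728 L34051
theorem L34057 : sm gj N3932 = N2747 := ded_42_2 (flp_e L23909) (flp_j L23733) L34051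
theorem L34059 : sm gi N3932 = N2730 := ded_44_2 (flp_e L23773) (flp_i L23735) L34051
theorem L34061 : sm gd N2726 = N3933 := rfl
theorem L34063 : sm gb N3933 = N2727 := ded_20_1 (flp_d L23747) (flp_b L23739) L34061
theorem L34066 : sm gj N3933 = N2748 := ded_37_2 (flp_d L23918) (flp_j L23743) L34061
theorem L34068 : sm gi N3933 = N2731 := ded_39_2 (flp_d L23782) (flp_i L23745) L34061
theorem L34071 : sm gf N2726 = N3934 := rfl
theorem L34073 : sm gb N3934 = N2728 := ded_22_1 (flp_f L23757) (flp_b L23739) L34071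
theorem L34078 : sm gi N3934 = N2732 := ded_48_2 (flp_f L23790) (flp_i L23745) L34071
theorem L34080 : sm gf N2727 = N3935 := rfl
theorem L34082 : sm gc N3935 = N2810 := ded_29_1 (flp_f L24400) (flp_c L23754) L34080
theorem L34084 : sm gd N3935 = N2728 := ded_35_1 (flp_f L23757) L23747 L34080
theorem L34086 : sm gj N3935 = N2750 := ded_46_2 (flp_f L23934) (flp_j L23750) L34080
theorem L34088 : sm gi N3935 = N2733 := ded_48_2 (flp_f L23798) (flp_i L23752) L34080
theorem L34090 : sm gh N2727 = N3936 := rfl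
theorem L34092 : sm gc N3936 = N2811 := ded_32_1 (flp_h L24408) (flp_c L23754) L34090
theorem L34098 : sm gg N2728 = N3937 := rfl
theorem L34100 : sm gc N3937 = N2729 := ded_30_1 (flp_g L23765) (flp_c L23759) L34098
theorem L34102 : sm gi N3937 = N2735 := ded_51_2 (flp_g L23815) (flp_i L23763) L34098
theorem L34104 : sm gf N3937 = N3937 := ded_45_1 (flp_g L34098) (flp_f L23757) L16588 L23757 L34098
theorem L34105 : sm gj N2729 = N3938 := rfl
theorem L34107 : sm gb N3938 = N3938 := ded_24_1 (flp_j L34105) L23767 L34105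
theorem L34108 : sm gd N3938 = N2813 := ded_37_1 (flp_j L24424) (flp_d L23768) L34105
theorem L34110 : sm gf N3938 = N3938 := ded_46_1 (flp_j L34105) L23772 L34105
theorem L34111 : sm gi N3938 = N2736 := ded_53_2 (flp_j L23821) (flp_i L23770) L34105
theorem L34113 : sm gg N3938 = N2753 := ded_49_1 (flp_j L23957) (flp_g L16721) (flp_j L16598) L23765 L34105
theorem L34115 : sm gd N2730 = N3939 := rfl
theorem L34117 : sm ga N3939 = N2731 := ded_12_1 (flp_d L23782) (flp_a L23775) L34115
theorem L34120 : sm gj N3939 = N2754 := ded_37_2 (flp_d L23966) (flp_j L23779) L34115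
theorem L34123 : sm gf N2730 = N3940 := rfl
theorem L34125 : sm ga N3940 = N2732 := ded_14_1 (flp_f L23790) (flp_a L23775) L34123
theorem L34128 : sm gj N3940 = N2755 := ded_46_2 (flp_f L23973) (flp_j L23779) L34123
theorem L34131 : sm gc N2731 = N3941 := rfl
theorem L34133 : sm ge N3941 = N3941 := ded_28_2 (flp_c L34131) L23789 L34131
theorem L34134 : sm gg N3941 = N3941 := ded_30_2 (flp_c L34131) L23786 L34131
theorem L34135 : sm gj N3941 = N2756 := ded_31_2 (flp_c L23979) (flp_j L23787) L34131
theorem L34137 : sm gb N3941 = N2816 := ded_19_1 (flp_c L24452) L17051 (flp_c L16624) (flp_b L23784) L34131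
theorem L34139 : sm gd N3941 = N3941 := ded_27_2 (flp_c L34131) (flp_d L23782) L16614 L23782 L34131
theorem L34140 : sm gf N2731 = N3942 := rfl
theorem L34142 : sm gb N3942 = N2733 := ded_22_1 (flp_f L23798) (flp_b L23784) L34140
theorem L34144 : sm gd N3942 = N2732 := ded_35_1 (flp_f L23790) L23782 L34140
theorem L34146 : sm gj N3942 = N2757 := ded_46_2 (flp_f L23987) (flp_j L23787) L34140
theorem L34148 : sm gh N2731 = N3943 := rfl
theorem L34150 : sm gb N3943 = N2734 := ded_25_1 (flp_h L23806) (flp_b L23784) L34148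
theorem L34152 : sm ge N3943 = N3943 := ded_43_1 (flp_h L34148) L23789 L34148
theorem L34153 : sm gg N3943 = N3943 := ded_50_1 (flp_h L34148) L23786 L34148
theorem L34154 : sm gj N3943 = N2758 := ded_52_1 (flp_h L23993) (flp_j L23787) L34148
theorem L34156 : sm gd N3943 = N3943 := ded_38_1 (flp_h L34148) (flp_d L23782) L16618 L23782 L34148
theorem L34157 : sm gg N2732 = N3944 := rfl
theorem L34159 : sm gb N3944 = N2735 := ded_23_1 (flp_g L23815) (flp_b L23792) L34157
theorem L34161 : sm gc N3944 = N3944 := ded_30_1 (flp_g L34157) L23794 L34157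
theorem L34162 : sm gh N3944 = N3944 := ded_50_2 (flp_g L34157) L23797 L34157
theorem L34163 : sm gf N3944 = N3944 := ded_45_1 (flp_g L34157) (flp_f L23790) L16615 L23790 L34157
theorem L34164 : sm ge N2733 = N3945 := rfl
theorem L34166 : sm gc N3945 = N2820 := ded_28_1 (flp_e L24486) (flp_c L23800) L34164
theorem L34168 : sm gj N3945 = N2760 := ded_42_2 (flp_e L24009) (flp_j L23804) L34164
theorem L34170 : sm gf N3945 = N3945 := ded_40_2 (flp_e L34164) (flp_f L23798) L16626 L23798 L34164
theorem L34171 : sm gg N2733 = N3946 := rfl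
theorem L34173 : sm gc N3946 = N2821 := ded_30_1 (flp_g L24492) (flp_c L23800) L34171
theorem L34175 : sm gd N3946 = N2735 := ded_36_1 (flp_g L23815) (flp_d L23802) L34171
theorem L34177 : sm gf N3946 = N3946 := ded_45_1 (flp_g L34171) (flp_f L23798) L16621 L23798 L34171
theorem L34178 : sm gh N2733 = N3947 := rfl
theorem L34180 : sm gc N3947 = N2822 := ded_32_1 (flp_h L24497) (flp_c L23800) L34178
theorem L34182 : sm gf N3947 = N2734 := ded_47_1 (flp_h L23806) L23798 L34178
theorem L34184 : sm gj N3947 = N2762 := ded_52_1 (flp_h L24022) (flp_j L23804) L34178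
theorem L34186 : sm gd N3947 = N3947 := ded_38_1 (flp_h L34178) L23802 L16633 (flp_d L23802) L34178
theorem L34187 : sm gi N2734 = N3948 := rfl
theorem L34196 : sm gj N2735 = N3949 := rfl
theorem L34198 : sm gc N3949 = N2736 := ded_31_1 (flp_j L23821) (flp_c L23817) L34196
theorem L34200 : sm gf N3949 = N3949 := ded_46_1 (flp_j L34196) L23820 L34196
theorem L34201 : sm gh N3949 = N3949 := ded_52_2 (flp_j L34196) L23819 L34196
theorem L34202 : sm gg N3949 = N2764 := ded_49_1 (flp_j L24037) (flp_g L16765) (flp_j L16631) L23815 L34196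
theorem L34204 : sm gb N2737 = N3950 := rfl
theorem L34207 : sm gg N3950 = N2765 := ded_23_2 (flp_b L24044) (flp_g L23833) L34204
theorem L34213 : sm ge N2737 = N3951 := rfl
theorem L34218 : sm gg N3951 = N2766 := ded_41_2 (flp_e L24053) (flp_g L23833) L34213
theorem L34221 : sm gi N3951 = N3951 := ded_44_2 (flp_e L34213) L23836 L34213
theorem L34230 : sm ga N2739 = N3953 := rfl
theorem L34234 : sm gg N3953 = N2768 := ded_15_2 (flp_a L24071) (flp_g L23852) L34230
theorem L34238 : sm ge N2739 = N3954 := rfl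
theorem L34240 : sm gb N3954 = N2740 := ded_21_1 (flp_e L23856) L23848 L34238
theorem L34242 : sm gg N3954 = N2769 := ded_41_2 (flp_e L24079) (flp_g L23852) L34238
theorem L34246 : sm gd N2740 = N3955 := rfl
theorem L34248 : sm gg N3955 = N2770 := ded_36_2 (flp_d L24086) (flp_g L23860) L34246
theorem L34267 : sm ge N2742 = N3958 := rfl
theorem L34272 : sm gg N3958 = N2773 := ded_41_2 (flp_e L24107) (flp_g L23872) L34267
theorem L34274 : sm gh N3958 = N2747 := ded_43_2 (flp_e L23909) (flp_h L23874) L34267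
theorem L34277 : sm gd N2743 = N3959 := rfl
theorem L34281 : sm gg N3959 = N2774 := ded_36_2 (flp_d L24116) (flp_g L23882) L34277
theorem L34284 : sm gf N2743 = N3960 := rfl
theorem L34289 : sm gh N3960 = N2749 := ded_47_2 (flp_f L23927) (flp_h L23884) L34284
theorem L34292 : sm gf N2744 = N3961 := rfl
theorem L34295 : sm gd N3961 = N2745 := ded_35_1 (flp_f L23893) L23887 L34292
theorem L34305 : sm gg N2745 = N3963 := rfl
theorem L34307 : sm gc N3963 = N2746 := ded_30_1 (flp_g L23900) (flp_c L23895) L34305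
theorem L34309 : sm gh N3963 = N2752 := ded_50_2 (flp_g L23949) (flp_h L23897) L34305
theorem L34312 : sm gf N3963 = N2778 := ded_45_1 (flp_g L24145) (flp_f L16841) (flp_g L16677) L23893 L34305
theorem L34314 : sm gj N2746 = N3964 := rfl
theorem L34316 : sm gb N3964 = N3964 := ded_24_1 (flp_j L34314) L23902 L34314
theorem L34317 : sm gd N3964 = N3964 := ded_37_1 (flp_j L34314) L23903 L34314
theorem L34318 : sm gf N3964 = N2779 := ded_46_1 (flp_j L24153) (flp_f L23907) L34314
theorem L34320 : sm gh N3964 = N2753 := ded_52_2 (flp_j L23957) (flp_h L23904) L34314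
theorem L34322 : sm gi N3964 = N3964 := ded_53_2 (flp_j L34314) L23906 L34314
theorem L34323 : sm gd N2747 = N3965 := rfl
theorem L34325 : sm ga N3965 = N2748 := ded_12_1 (flp_d L23918) (flp_a L23911) L34323
theorem L34327 : sm gg N3965 = N2780 := ded_36_2 (flp_d L24162) (flp_g L23914) L34323
theorem L34329 : sm gi N3965 = N2754 := ded_39_2 (flp_d L23966) (flp_i L23916) L34323
theorem L34332 : sm gf N2747 = N3966 := rfl
theorem L34334 : sm ga N3966 = N2749 := ded_14_1 (flp_f L23927) (flp_a L23911) L34332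
theorem L34337 : sm gi N3966 = N2755 := ded_48_2 (flp_f L23973) (flp_i L23916) L34332
theorem L34339 : sm gc N2748 = N3967 := rfl
theorem L34342 : sm gg N3967 = N2782 := ded_30_2 (flp_c L24179) (flp_g L23922) L34339
theorem L34344 : sm gi N3967 = N2756 := ded_33_2 (flp_c L23979) (flp_i L23924) L34339
theorem L34346 : sm gb N3967 = N2827 := ded_19_1 (flp_c L24541) L17110 (flp_c L16712) (flp_b L23920) L34339
theorem L34349 : sm gf N2748 = N3968 := rfl
theorem L34351 : sm gb N3968 = N2750 := ded_22_1 (flp_f L23934) (flp_b L23920) L34349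
theorem L34353 : sm gd N3968 = N2749 := ded_35_1 (flp_f L23927) L23918 L34349
theorem L34355 : sm gi N3968 = N2757 := ded_48_2 (flp_f L23987) (flp_i L23924) L34349
theorem L34357 : sm gh N2748 = N3969 := rfl
theorem L34359 : sm gb N3969 = N2751 := ded_25_1 (flp_h L23942) (flp_b L23920) L34357
theorem L34364 : sm gg N2749 = N3970 := rfl
theorem L34366 : sm gb N3970 = N2752 := ded_23_1 (flp_g L23949) (flp_b L23929) L34364
theorem L34369 : sm gi N3970 = N2759 := ded_51_2 (flp_g L24001) (flp_i L23932) L34364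
theorem L34373 : sm ge N2750 = N3971 := rfl
theorem L34375 : sm gc N3971 = N2831 := ded_28_1 (flp_e L24576) (flp_c L23936) L34373
theorem L34377 : sm gi N3971 = N2760 := ded_44_2 (flp_e L24009) (flp_i L23940) L34373
theorem L34379 : sm gf N3971 = N3971 := ded_40_2 (flp_e L34373) (flp_f L23934) L16714 L23934 L34373
theorem L34380 : sm gg N2750 = N3972 := rfl
theorem L34382 : sm gc N3972 = N2832 := ded_30_1 (flp_g L24582) (flp_c L23936) L34380
theorem L34384 : sm gd N3972 = N2752 := ded_36_1 (flp_g L23949) (flp_d L23938) L34380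
theorem L34386 : sm gi N3972 = N2761 := ded_51_2 (flp_g L24014) (flp_i L23940) L34380
theorem L34388 : sm gf N3972 = N2787 := ded_45_1 (flp_g L24220) (flp_f L16883) (flp_g L16708) L23934 L34380
theorem L34390 : sm gh N2750 = N3973 := rfl
theorem L34392 : sm gc N3973 = N2833 := ded_32_1 (flp_h L24590) (flp_c L23936) L34390
theorem L34394 : sm gf N3973 = N2751 := ded_47_1 (flp_h L23942) L23934 L34390
theorem L34396 : sm gi N2751 = N3974 := rfl
theorem L34398 : sm gc N3974 = N2834 := ded_33_1 (flp_i L24595) (flp_c L23944) L34396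
theorem L34403 : sm gh N3974 = N2763 := ded_54_1 (flp_i L24029) (flp_h L16757) (flp_i L16710) L23942 L34396
theorem L34405 : sm gj N2752 = N3975 := rfl
theorem L34407 : sm gc N3975 = N2753 := ded_31_1 (flp_j L23957) (flp_c L23951) L34405
theorem L34409 : sm gf N3975 = N2790 := ded_46_1 (flp_j L24243) (flp_f L23955) L34405
theorem L34411 : sm gi N3975 = N2764 := ded_53_2 (flp_j L24037) (flp_i L23953) L34405
theorem L34413 : sm gc N2754 = N3976 := rfl
theorem L34415 : sm ga N3976 = N2756 := ded_11_1 (flp_c L23979) (flp_a L23968) L34413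
theorem L34418 : sm gg N3976 = N2791 := ded_30_2 (flp_c L24251) (flp_g L23970) L34413
theorem L34421 : sm gf N2754 = N3977 := rfl
theorem L34423 : sm ga N3977 = N2757 := ded_14_1 (flp_f L23987) (flp_a L23968) L34421
theorem L34425 : sm gd N3977 = N2755 := ded_35_1 (flp_f L23973) L23966 L34421
theorem L34427 : sm gh N2754 = N3978 := rfl
theorem L34429 : sm ga N3978 = N2758 := ded_17_1 (flp_h L23993) (flp_a L23968) L34427
theorem L34435 : sm gg N2755 = N3979 := rfl
theorem L34441 : sm gf N3979 = N2794 := ded_45_1 (flp_g L24272) (flp_f L16920) (flp_g L16735) L23973 L34435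
theorem L34443 : sm gf N2756 = N3980 := rfl
theorem L34445 : sm gb N3980 = N2840 := ded_22_1 (flp_f L24646) (flp_b L23984) L34443
theorem L34447 : sm gc N3980 = N2757 := ded_29_1 (flp_f L23987) L23979 L34443
theorem L34449 : sm gd N3980 = N3980 := ded_35_1 (flp_f L34443) L23986 L34443
theorem L34450 : sm gh N2756 = N3981 := rfl
theorem L34459 : sm ge N2757 = N3982 := rfl
theorem L34461 : sm gb N3982 = N2760 := ded_21_1 (flp_e L24009) (flp_b L23989) L34459
theorem L34463 : sm gf N3982 = N3982 := ded_40_2 (flp_e L34459) (flp_f L23987) L16744 L23987 L34459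
theorem L34464 : sm gg N2757 = N3983 := rfl
theorem L34466 : sm gb N3983 = N2761 := ded_23_1 (flp_g L24014) (flp_b L23989) L34464
theorem L34468 : sm gd N3983 = N2759 := ded_36_1 (flp_g L24001) (flp_d L23991) L34464
theorem L34470 : sm gf N3983 = N2798 := ded_45_1 (flp_g L24302) (flp_f L16935) (flp_g L16742) L23987 L34464
theorem L34472 : sm gh N2757 = N3984 := rfl
theorem L34474 : sm gb N3984 = N2762 := ded_25_1 (flp_h L24022) (flp_b L23989) L34472
theorem L34476 : sm gf N3984 = N2758 := ded_47_1 (flp_h L23993) L23987 L34472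
theorem L34478 : sm gd N3984 = N3984 := ded_38_1 (flp_h L34472) L23991 L16750 (flp_d L23991) L34472
theorem L34479 : sm gi N2758 = N3985 := rfl
theorem L34481 : sm gb N3985 = N2763 := ded_26_1 (flp_i L24029) (flp_b L23995) L34479
theorem L34487 : sm gj N2759 = N3986 := rfl
theorem L34489 : sm gb N3986 = N2764 := ded_24_1 (flp_j L24037) (flp_b L24003) L34487
theorem L34491 : sm gc N3986 = N3986 := ded_31_1 (flp_j L34487) L24005 L34487
theorem L34492 : sm gf N3986 = N2801 := ded_46_1 (flp_j L24323) (flp_f L24007) L34487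
theorem L34494 : sm gh N3986 = N3986 := ded_52_2 (flp_j L34487) L24006 L34487
theorem L34495 : sm gg N2760 = N3987 := rfl
theorem L34497 : sm gc N3987 = N2847 := ded_30_1 (flp_g L24699) (flp_c L24011) L34495
theorem L34499 : sm ge N3987 = N2761 := ded_41_1 (flp_g L24014) L24009 L34495
theorem L34501 : sm gh N2760 = N3988 := rfl
theorem L34503 : sm gc N3988 = N2848 := ded_32_1 (flp_h L24704) (flp_c L24011) L34501
theorem L34505 : sm ge N3988 = N2762 := ded_43_1 (flp_h L24022) L24009 L34501
theorem L34507 : sm gf N3988 = N3988 := ded_47_1 (flp_h L34501) L24013 L34501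
theorem L34508 : sm gj N2761 = N3989 := rfl
theorem L34510 : sm gc N3989 = N2849 := ded_31_1 (flp_j L24709) (flp_c L24016) L34508
theorem L34512 : sm gd N3989 = N2764 := ded_37_1 (flp_j L24037) (flp_d L24018) L34508
theorem L34514 : sm gf N3989 = N2804 := ded_46_1 (flp_j L24346) (flp_f L24020) L34508
theorem L34516 : sm gh N2761 = N3990 := rfl
theorem L34518 : sm gc N3990 = N2850 := ded_32_1 (flp_h L24715) (flp_c L24016) L34516
theorem L34520 : sm gf N3990 = N2805 := ded_47_1 (flp_h L24353) (flp_f L24020) L34516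
theorem L34522 : sm gg N3990 = N2762 := ded_50_1 (flp_h L24022) L24014 L34516
theorem L34524 : sm gd N3990 = N3990 := ded_38_1 (flp_h L34516) L24018 L16769 (flp_d L24018) L34516
theorem L34525 : sm gi N2762 = N3991 := rfl
theorem L34532 : sm ga N2765 = N3992 := rfl
theorem L34534 : sm gc N3992 = N2768 := ded_11_2 (flp_a L24071) (flp_c L24051) L34532
theorem L34538 : sm gj N3992 = N3992 := ded_16_2 (flp_a L34532) L24048 L34532
theorem L34542 : sm ge N2765 = N3993 := rfl
theorem L34544 : sm gb N3993 = N2766 := ded_21_1 (flp_e L24053) L24044 L34542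
theorem L34546 : sm gc N3993 = N2769 := ded_28_1 (flp_e L24079) (flp_c L24051) L34542
theorem L34548 : sm gj N3993 = N3993 := ded_42_2 (flp_e L34542) L24048 L34542
theorem L34551 : sm gd N2766 = N3994 := rfl
theorem L34554 : sm gj N3994 = N3994 := ded_37_2 (flp_d L34551) L24058 L34551
theorem L34557 : sm ge N3994 = N3994 := ded_34_2 (flp_d L34551) (flp_e L24053) L16787 L24053 L34551
theorem L34558 : sm gf N2766 = N3995 := rfl
theorem L34561 : sm gc N3995 = N2767 := ded_29_1 (flp_f L24061) (flp_c L24056) L34558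
theorem L34563 : sm gj N3995 = N3995 := ded_46_2 (flp_f L34558) L24058 L34558
theorem L34567 : sm gg N2767 = N3996 := rfl
theorem L34570 : sm gb N3996 = N2772 := ded_23_1 (flp_g L24101) (flp_b L24064) L34567
theorem L34576 : sm ge N2768 = N3997 := rfl
theorem L34578 : sm ga N3997 = N2769 := ded_13_1 (flp_e L24079) L24071 L34576
theorem L34580 : sm gj N3997 = N3997 := ded_42_2 (flp_e L34576) L24076 L34576
theorem L34583 : sm gd N2769 = N3998 := rfl
theorem L34585 : sm gb N3998 = N2770 := ded_20_1 (flp_d L24086) (flp_b L24081) L34583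
theorem L34587 : sm gj N3998 = N3998 := ded_37_2 (flp_d L34583) L24083 L34583
theorem L34589 : sm ge N3998 = N2774 := ded_34_2 (flp_d L24116) (flp_e L16827) (flp_d L16799) L24079 L34583
theorem L34599 : sm gf N2770 = N4000 := rfl
theorem L34604 : sm gj N4000 = N4000 := ded_46_2 (flp_f L34599) L24088 L34599
theorem L34606 : sm gh N2770 = N4001 := rfl
theorem L34611 : sm gj N4001 = N4001 := ded_52_1 (flp_h L34606) L24088 L34606
theorem L34620 : sm gj N2772 = N4003 := rfl
theorem L34626 : sm gg N4003 = N4003 := ded_49_1 (flp_j L34620) (flp_g L24101) L16815 L24101 L34620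
theorem L34627 : sm gd N2773 = N4004 := rfl
theorem L34629 : sm ga N4004 = N2774 := ded_12_1 (flp_d L24116) (flp_a L24109) L34627
theorem L34633 : sm gf N2773 = N4005 := rfl
theorem L34639 : sm gh N4005 = N2781 := ded_47_2 (flp_f L24170) (flp_h L24113) L34633
theorem L34643 : sm gc N2774 = N4006 := rfl
theorem L34649 : sm gf N2774 = N4007 := rfl
theorem L34653 : sm gd N4007 = N2775 := ded_35_1 (flp_f L24122) L24116 L34649
theorem L34657 : sm gh N2774 = N4008 := rfl
theorem L34661 : sm gj N4008 = N4008 := ded_52_1 (flp_h L34657) L24120 L34657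
theorem L34664 : sm gg N2775 = N4009 := rfl
theorem L34670 : sm gh N4009 = N2785 := ded_50_2 (flp_g L24203) (flp_h L24128) L34664
theorem L34673 : sm ge N2776 = N4010 := rfl
theorem L34676 : sm gj N4010 = N4010 := ded_42_2 (flp_e L34673) L24137 L34673
theorem L34679 : sm gg N2776 = N4011 := rfl
theorem L34682 : sm gd N4011 = N2778 := ded_36_1 (flp_g L24145) (flp_d L24135) L34679
theorem L34685 : sm gh N2776 = N4012 := rfl
theorem L34691 : sm gd N4012 = N2788 := ded_38_1 (flp_h L24228) L16887 (flp_h L16846) (flp_d L24135) L34685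
theorem L34700 : sm gj N2778 = N4014 := rfl
theorem L34702 : sm gc N4014 = N2779 := ded_31_1 (flp_j L24153) (flp_c L24147) L34700
theorem L34705 : sm gh N4014 = N2790 := ded_52_2 (flp_j L24243) (flp_h L24150) L34700
theorem L34709 : sm gc N2780 = N4015 := rfl
theorem L34711 : sm ga N4015 = N2782 := ded_11_1 (flp_c L24179) (flp_a L24164) L34709
theorem L34713 : sm ge N4015 = N4015 := ded_28_2 (flp_c L34709) L24169 L34709
theorem L34715 : sm gi N4015 = N2791 := ded_33_2 (flp_c L24251) (flp_i L24167) L34709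
theorem L34717 : sm gd N4015 = N4015 := ded_27_2 (flp_c L34709) (flp_d L24162) L16862 L24162 L34709
theorem L34718 : sm gf N2780 = N4016 := rfl
theorem L34720 : sm ga N4016 = N2783 := ded_14_1 (flp_f L24188) (flp_a L24164) L34718
theorem L34722 : sm gd N4016 = N2781 := ded_35_1 (flp_f L24170) L24162 L34718
theorem L34725 : sm gi N4016 = N2792 := ded_48_2 (flp_f L24258) (flp_i L24167) L34718
theorem L34741 : sm gf N2782 = N4019 := rfl
theorem L34743 : sm gb N4019 = N2856 := ded_22_1 (flp_f L24764) (flp_b L24185) L34741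
theorem L34745 : sm gc N4019 = N2783 := ded_29_1 (flp_f L24188) L24179 L34741
theorem L34749 : sm gi N4019 = N2795 := ded_48_2 (flp_f L24279) (flp_i L24183) L34741
theorem L34751 : sm gh N2782 = N4020 := rfl
theorem L34753 : sm gb N4020 = N2857 := ded_25_1 (flp_h L24772) (flp_b L24185) L34751
theorem L34759 : sm ge N2783 = N4021 := rfl
theorem L34761 : sm gb N4021 = N2786 := ded_21_1 (flp_e L24211) (flp_b L24190) L34759
theorem L34764 : sm gi N4021 = N2797 := ded_44_2 (flp_e L24295) (flp_i L24195) L34759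
theorem L34768 : sm gg N2783 = N4022 := rfl
theorem L34770 : sm gb N4022 = N2787 := ded_23_1 (flp_g L24220) (flp_b L24190) L34768
theorem L34772 : sm gd N4022 = N2785 := ded_36_1 (flp_g L24203) (flp_d L24192) L34768
theorem L34774 : sm gi N4022 = N2798 := ded_51_2 (flp_g L24302) (flp_i L24195) L34768
theorem L34776 : sm gh N2783 = N4023 := rfl
theorem L34778 : sm gb N4023 = N2788 := ded_25_1 (flp_h L24228) (flp_b L24190) L34776
theorem L34791 : sm gj N2785 = N4025 := rfl
theorem L34793 : sm gb N4025 = N2790 := ded_24_1 (flp_j L24243) (flp_b L24205) L34791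
theorem L34797 : sm gi N4025 = N2801 := ded_53_2 (flp_j L24323) (flp_i L24209) L34791
theorem L34800 : sm gg N2786 = N4026 := rfl
theorem L34802 : sm gc N4026 = N2863 := ded_30_1 (flp_g L24824) (flp_c L24213) L34800
theorem L34804 : sm gd N4026 = N4026 := ded_36_1 (flp_g L34800) L24218 L34800
theorem L34805 : sm ge N4026 = N2787 := ded_41_1 (flp_g L24220) L24211 L34800
theorem L34807 : sm gi N4026 = N2802 := ded_51_2 (flp_g L24331) (flp_i L24216) L34800
theorem L34809 : sm gh N2786 = N4027 := rfl
theorem L34811 : sm gc N4027 = N2864 := ded_32_1 (flp_h L24832) (flp_c L24213) L34809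
theorem L34813 : sm ge N4027 = N2788 := ded_43_1 (flp_h L24228) L24211 L34809
theorem L34817 : sm gj N2787 = N4028 := rfl
theorem L34819 : sm gc N4028 = N2865 := ded_31_1 (flp_j L24838) (flp_c L24222) L34817
theorem L34821 : sm gd N4028 = N2790 := ded_37_1 (flp_j L24243) (flp_d L24224) L34817
theorem L34823 : sm gi N4028 = N2804 := ded_53_2 (flp_j L24346) (flp_i L24226) L34817
theorem L34825 : sm gg N4028 = N4028 := ded_49_1 (flp_j L34817) (flp_g L24220) L16889 L24220 L34817
theorem L34826 : sm gh N2787 = N4029 := rfl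
theorem L34832 : sm gi N2788 = N4030 := rfl
theorem L34834 : sm gc N4030 = N2867 := ded_33_1 (flp_i L24850) (flp_c L24230) L34832
theorem L34841 : sm gb N2791 = N4031 := rfl
theorem L34846 : sm ga N4031 = N2868 := ded_10_1 (flp_b L24858) L17326 (flp_b L16932) (flp_a L24253) L34841
theorem L34848 : sm gf N2791 = N4032 := rfl
theorem L34850 : sm ga N4032 = N2795 := ded_14_1 (flp_f L24279) (flp_a L24253) L34848
theorem L34852 : sm gc N4032 = N2792 := ded_29_1 (flp_f L24258) L24251 L34848
theorem L34856 : sm gh N2791 = N4033 := rfl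
theorem L34858 : sm ga N4033 = N2796 := ded_17_1 (flp_h L24287) (flp_a L24253) L34856
theorem L34864 : sm ge N2792 = N4034 := rfl
theorem L34866 : sm ga N4034 = N2797 := ded_13_1 (flp_e L24295) (flp_a L24260) L34864
theorem L34871 : sm gg N2792 = N4035 := rfl
theorem L34873 : sm ga N4035 = N2798 := ded_15_1 (flp_g L24302) (flp_a L24260) L34871
theorem L34877 : sm gh N2792 = N4036 := rfl
theorem L34879 : sm ga N4036 = N2799 := ded_17_1 (flp_h L24308) (flp_a L24260) L34877
theorem L34892 : sm gj N2794 = N4038 := rfl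
theorem L34900 : sm ge N2795 = N4039 := rfl
theorem L34902 : sm gb N4039 = N2876 := ded_21_1 (flp_e L24920) (flp_b L24281) L34900
theorem L34904 : sm gc N4039 = N2797 := ded_28_1 (flp_e L24295) (flp_c L24283) L34900
theorem L34906 : sm gj N4039 = N4039 := ded_42_2 (flp_e L34900) L24286 L34900
theorem L34907 : sm gf N4039 = N4039 := ded_40_2 (flp_e L34900) (flp_f L24279) L16930 L24279 L34900
theorem L34908 : sm gg N2795 = N4040 := rfl
theorem L34910 : sm gb N4040 = N2877 := ded_23_1 (flp_g L24926) (flp_b L24281) L34908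
theorem L34912 : sm gc N4040 = N2798 := ded_30_1 (flp_g L24302) (flp_c L24283) L34908
theorem L34914 : sm gd N4040 = N4040 := ded_36_1 (flp_g L34908) L24285 L34908
theorem L34915 : sm gh N2795 = N4041 := rfl
theorem L34919 : sm gc N4041 = N2799 := ded_32_1 (flp_h L24308) (flp_c L24283) L34915
theorem L34921 : sm gf N4041 = N2796 := ded_47_1 (flp_h L24287) L24279 L34915
theorem L34924 : sm gd N2796 = N4042 := rfl
theorem L34939 : sm gg N2797 = N4044 := rfl
theorem L34941 : sm gb N4044 = N2802 := ded_23_1 (flp_g L24331) (flp_b L24297) L34939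
theorem L34943 : sm gd N4044 = N4044 := ded_36_1 (flp_g L34939) L24300 L34939
theorem L34944 : sm ge N4044 = N2798 := ded_41_1 (flp_g L24302) L24295 L34939
theorem L34946 : sm gh N2797 = N4045 := rfl
theorem L34948 : sm gb N4045 = N2803 := ded_25_1 (flp_h L24338) (flp_b L24297) L34946
theorem L34950 : sm ge N4045 = N2799 := ded_43_1 (flp_h L24308) L24295 L34946
theorem L34952 : sm gf N4045 = N4045 := ded_47_1 (flp_h L34946) L24301 L34946
theorem L34953 : sm gj N4045 = N4045 := ded_52_1 (flp_h L34946) L24299 L34946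
theorem L34954 : sm gj N2798 = N4046 := rfl
theorem L34956 : sm gb N4046 = N2804 := ded_24_1 (flp_j L24346) (flp_b L24304) L34954
theorem L34958 : sm gd N4046 = N2801 := ded_37_1 (flp_j L24323) (flp_d L24306) L34954
theorem L34960 : sm gg N4046 = N4046 := ded_49_1 (flp_j L34954) (flp_g L24302) L16941 L24302 L34954
theorem L34961 : sm gh N2798 = N4047 := rfl
theorem L34963 : sm gb N4047 = N2805 := ded_25_1 (flp_h L24353) (flp_b L24304) L34961
theorem L34965 : sm gg N4047 = N2799 := ded_50_1 (flp_h L24308) L24302 L34961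
theorem L34967 : sm gd N4047 = N4047 := ded_38_1 (flp_h L34961) L24306 L16955 (flp_d L24306) L34961
theorem L34968 : sm gi N2799 = N4048 := rfl
theorem L34970 : sm gb N4048 = N2806 := ded_26_1 (flp_i L24360) (flp_b L24310) L34968
theorem L34973 : sm gf N4048 = N2800 := ded_48_1 (flp_i L24316) (flp_f L24312) L34968
theorem L34976 : sm gf N2802 = N4049 := rfl
theorem L34978 : sm gc N4049 = N2886 := ded_29_1 (flp_f L24991) (flp_c L24333) L34976
theorem L34980 : sm gd N4049 = N4049 := ded_35_1 (flp_f L34976) L24335 L34976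
theorem L34981 : sm gg N4049 = N4049 := ded_45_2 (flp_f L34976) (flp_g L24331) L16962 L24331 L34976
theorem L34982 : sm gj N2802 = N4050 := rfl
theorem L34984 : sm gc N4050 = N2887 := ded_31_1 (flp_j L24996) (flp_c L24333) L34982
theorem L34986 : sm gd N4050 = N4050 := ded_37_1 (flp_j L34982) L24335 L34982
theorem L34987 : sm ge N4050 = N2804 := ded_42_1 (flp_j L24346) (flp_e L24336) L34982
theorem L34989 : sm gg N4050 = N4050 := ded_49_1 (flp_j L34982) (flp_g L24331) L16960 L24331 L34982
theorem L34990 : sm gh N2802 = N4051 := rfl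
theorem L34992 : sm gc N4051 = N2888 := ded_32_1 (flp_h L25003) (flp_c L24333) L34990
theorem L34994 : sm ge N4051 = N2805 := ded_43_1 (flp_h L24353) (flp_e L24336) L34990
theorem L34996 : sm gg N4051 = N2803 := ded_50_1 (flp_h L24338) L24331 L34990
theorem L34998 : sm gd N2803 = N4052 := rfl
theorem L35000 : sm gf N4052 = N4052 := ded_35_2 (flp_d L34998) L24344 L34998
theorem L35001 : sm gj N4052 = N4052 := ded_37_2 (flp_d L34998) L24345 L34998
theorem L35002 : sm gc N4052 = N4052 := ded_27_1 (flp_d L34998) L24340 L17420 (flp_c L24340) L34998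
theorem L35003 : sm ge N4052 = N4052 := ded_34_2 (flp_d L34998) L24342 L16976 (flp_e L24342) L34998
theorem L35004 : sm gh N4052 = N4052 := ded_38_2 (flp_d L34998) (flp_h L24338) L16961 L24338 L34998
theorem L35005 : sm gi N2803 = N4053 := rfl
theorem L35013 : sm gh N2804 = N4054 := rfl
theorem L35015 : sm gc N4054 = N2890 := ded_32_1 (flp_h L25017) (flp_c L24348) L35013
theorem L35017 : sm gg N4054 = N4054 := ded_50_1 (flp_h L35013) L24352 L35013
theorem L35018 : sm gj N4054 = N2805 := ded_52_1 (flp_h L24353) L24346 L35013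
theorem L35020 : sm gd N4054 = N4054 := ded_38_1 (flp_h L35013) L24350 L16989 (flp_d L24350) L35013
theorem L35021 : sm gi N2805 = N4055 := rfl
theorem L35028 : sm gd N2807 = N4056 := rfl
theorem L35030 : sm ga N4056 = N2808 := ded_12_1 (flp_d L24379) (flp_a L24370) L35028
theorem L35032 : sm gg N4056 = N4056 := ded_36_2 (flp_d L35028) L24373 L35028
theorem L35033 : sm gj N4056 = N2825 := ded_37_2 (flp_d L24523) (flp_j L24374) L35028
theorem L35035 : sm gi N4056 = N2814 := ded_39_2 (flp_d L24434) (flp_i L24377) L35028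
theorem L35037 : sm ge N4056 = N4056 := ded_34_2 (flp_d L35028) (flp_e L24368) L16994 L24368 L35028
theorem L35038 : sm gf N2807 = N4057 := rfl
theorem L35040 : sm ga N4057 = N2809 := ded_14_1 (flp_f L24389) (flp_a L24370) L35038
theorem L35042 : sm gc N4057 = N4057 := ded_29_1 (flp_f L35038) L24372 L35038
theorem L35043 : sm gj N4057 = N2826 := ded_46_2 (flp_f L24532) (flp_j L24374) L35038
theorem L35045 : sm gh N4057 = N4057 := ded_47_2 (flp_f L35038) L24376 L35038
theorem L35046 : sm gi N4057 = N2815 := ded_48_2 (flp_f L24442) (flp_i L24377) L35038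
theorem L35048 : sm ge N4057 = N4057 := ded_40_1 (flp_f L35038) (flp_e L24368) L16995 L24368 L35038
theorem L35049 : sm gc N2808 = N4058 := rfl
theorem L35053 : sm gj N4058 = N2827 := ded_31_2 (flp_c L24541) (flp_j L24384) L35049
theorem L35055 : sm gi N4058 = N2816 := ded_33_2 (flp_c L24452) (flp_i L24386) L35049
theorem L35058 : sm gf N2808 = N4059 := rfl
theorem L35060 : sm gb N4059 = N2810 := ded_22_1 (flp_f L24400) (flp_b L24381) L35058
theorem L35062 : sm gd N4059 = N2809 := ded_35_1 (flp_f L24389) L24379 L35058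
theorem L35064 : sm gj N4059 = N2828 := ded_46_2 (flp_f L24549) (flp_j L24384) L35058
theorem L35066 : sm gi N4059 = N2817 := ded_48_2 (flp_f L24459) (flp_i L24386) L35058
theorem L35068 : sm gh N2808 = N4060 := rfl
theorem L35070 : sm gb N4060 = N2811 := ded_25_1 (flp_h L24408) (flp_b L24381) L35068
theorem L35077 : sm gg N2809 = N4061 := rfl
theorem L35079 : sm gb N4061 = N2812 := ded_23_1 (flp_g L24415) (flp_b L24391) L35077
theorem L35081 : sm gc N4061 = N4061 := ded_30_1 (flp_g L35077) L24393 L35077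
theorem L35082 : sm ge N4061 = N4061 := ded_41_1 (flp_g L35077) L24399 L35077
theorem L35083 : sm gh N4061 = N4061 := ded_50_2 (flp_g L35077) L24396 L35077
theorem L35084 : sm gi N4061 = N2819 := ded_51_2 (flp_g L24477) (flp_i L24397) L35077
theorem L35086 : sm gf N4061 = N4061 := ded_45_1 (flp_g L35077) (flp_f L24389) L17007 L24389 L35077
theorem L35087 : sm ge N2810 = N4062 := rfl
theorem L35089 : sm gj N4062 = N2831 := ded_42_2 (flp_e L24576) (flp_j L24404) L35087
theorem L35091 : sm gi N4062 = N2820 := ded_44_2 (flp_e L24486) (flp_i L24406) L35087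
theorem L35093 : sm gd N4062 = N4062 := ded_34_1 (flp_e L35087) L24402 L17030 (flp_d L24402) L35087
theorem L35094 : sm gf N4062 = N4062 := ded_40_2 (flp_e L35087) (flp_f L24400) L17020 L24400 L35087
theorem L35095 : sm gg N2810 = N4063 := rfl
theorem L35097 : sm gd N4063 = N2812 := ded_36_1 (flp_g L24415) (flp_d L24402) L35095
theorem L35099 : sm gi N4063 = N2821 := ded_51_2 (flp_g L24492) (flp_i L24406) L35095
theorem L35101 : sm gf N4063 = N4063 := ded_45_1 (flp_g L35095) (flp_f L24400) L17015 L24400 L35095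
theorem L35102 : sm gh N2810 = N4064 := rfl
theorem L35104 : sm gf N4064 = N2811 := ded_47_1 (flp_h L24408) L24400 L35102
theorem L35106 : sm gj N4064 = N2833 := ded_52_1 (flp_h L24590) (flp_j L24404) L35102
theorem L35108 : sm gd N4064 = N4064 := ded_38_1 (flp_h L35102) L24402 L17027 (flp_d L24402) L35102
theorem L35118 : sm gj N2812 = N4066 := rfl
theorem L35120 : sm gc N4066 = N2813 := ded_31_1 (flp_j L24424) (flp_c L24417) L35118
theorem L35122 : sm ge N4066 = N4066 := ded_42_1 (flp_j L35118) L24419 L35118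
theorem L35123 : sm gf N4066 = N4066 := ded_46_1 (flp_j L35118) L24423 L35118
theorem L35124 : sm gh N4066 = N4066 := ded_52_2 (flp_j L35118) L24420 L35118
theorem L35125 : sm gi N4066 = N2824 := ded_53_2 (flp_j L24513) (flp_i L24421) L35118
theorem L35127 : sm gg N4066 = N2835 := ded_49_1 (flp_j L24603) (flp_g L17138) (flp_j L17025) L24415 L35118
theorem L35129 : sm gc N2814 = N4067 := rfl
theorem L35131 : sm ga N4067 = N2816 := ded_11_1 (flp_c L24452) (flp_a L24436) L35129
theorem L35135 : sm gj N4067 = N2836 := ded_31_2 (flp_c L24613) (flp_j L24439) L35129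
theorem L35138 : sm gf N2814 = N4068 := rfl
theorem L35140 : sm ga N4068 = N2817 := ded_14_1 (flp_f L24459) (flp_a L24436) L35138
theorem L35142 : sm gd N4068 = N2815 := ded_35_1 (flp_f L24442) L24434 L35138
theorem L35144 : sm gj N4068 = N2837 := ded_46_2 (flp_f L24621) (flp_j L24439) L35138
theorem L35146 : sm gh N2814 = N4069 := rfl
theorem L35152 : sm gj N4069 = N2838 := ded_52_1 (flp_h L24627) (flp_j L24439) L35146
theorem L35156 : sm gg N2815 = N4070 := rfl
theorem L35158 : sm ga N4070 = N2819 := ded_15_1 (flp_g L24477) (flp_a L24444) L35156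
theorem L35160 : sm gc N4070 = N4070 := ded_30_1 (flp_g L35156) L24446 L35156
theorem L35161 : sm ge N4070 = N4070 := ded_41_1 (flp_g L35156) L24451 L35156
theorem L35162 : sm gh N4070 = N2926 := ded_50_2 (flp_g L25320) (flp_h L24449) L35156
theorem L35164 : sm gf N4070 = N4070 := ded_45_1 (flp_g L35156) (flp_f L24442) L17044 L24442 L35156
theorem L35165 : sm gf N2816 = N4071 := rfl
theorem L35167 : sm gc N4071 = N2817 := ded_29_1 (flp_f L24459) L24452 L35165
theorem L35170 : sm gj N4071 = N2840 := ded_46_2 (flp_f L24646) (flp_j L24456) L35165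
theorem L35172 : sm gh N2816 = N4072 := rfl
theorem L35178 : sm gj N4072 = N2841 := ded_52_1 (flp_h L24651) (flp_j L24456) L35172
theorem L35180 : sm ge N2817 = N4073 := rfl
theorem L35182 : sm gb N4073 = N2820 := ded_21_1 (flp_e L24486) (flp_b L24461) L35180
theorem L35184 : sm gj N4073 = N2842 := ded_42_2 (flp_e L24658) (flp_j L24465) L35180
theorem L35186 : sm gd N4073 = N4073 := ded_34_1 (flp_e L35180) L24463 L17066 (flp_d L24463) L35180
theorem L35187 : sm gf N4073 = N4073 := ded_40_2 (flp_e L35180) (flp_f L24459) L17056 L24459 L35180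
theorem L35188 : sm gg N2817 = N4074 := rfl
theorem L35190 : sm gb N4074 = N2821 := ded_23_1 (flp_g L24492) (flp_b L24461) L35188
theorem L35192 : sm gd N4074 = N2819 := ded_36_1 (flp_g L24477) (flp_d L24463) L35188
theorem L35194 : sm gf N4074 = N4074 := ded_45_1 (flp_g L35188) (flp_f L24459) L17053 L24459 L35188
theorem L35195 : sm gh N2817 = N4075 := rfl
theorem L35197 : sm gb N4075 = N2822 := ded_25_1 (flp_h L24497) (flp_b L24461) L35195
theorem L35203 : sm gd N4075 = N2931 := ded_38_1 (flp_h L25365) L17681 (flp_h L17064) (flp_d L24463) L35195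
theorem L35215 : sm gj N2819 = N4077 := rfl
theorem L35217 : sm gb N4077 = N2824 := ded_24_1 (flp_j L24513) (flp_b L24479) L35215
theorem L35219 : sm gc N4077 = N4077 := ded_31_1 (flp_j L35215) L24481 L35215
theorem L35220 : sm ge N4077 = N4077 := ded_42_1 (flp_j L35215) L24482 L35215
theorem L35221 : sm gf N4077 = N4077 := ded_46_1 (flp_j L35215) L24485 L35215
theorem L35222 : sm gh N4077 = N2933 := ded_52_2 (flp_j L25383) (flp_h L24483) L35215
theorem L35224 : sm gg N4077 = N2846 := ded_49_1 (flp_j L24689) (flp_g L17193) (flp_j L17062) L24477 L35215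
theorem L35226 : sm gg N2820 = N4078 := rfl
theorem L35229 : sm ge N4078 = N2821 := ded_41_1 (flp_g L24492) L24486 L35226
theorem L35231 : sm gh N2820 = N4079 := rfl
theorem L35233 : sm ge N4079 = N2822 := ded_43_1 (flp_h L24497) L24486 L35231
theorem L35236 : sm gj N4079 = N2848 := ded_52_1 (flp_h L24704) (flp_j L24488) L35231
theorem L35238 : sm gj N2821 = N4080 := rfl
theorem L35240 : sm gd N4080 = N2824 := ded_37_1 (flp_j L24513) (flp_d L24494) L35238
theorem L35243 : sm gg N4080 = N2849 := ded_49_1 (flp_j L24709) (flp_g L17207) (flp_j L17071) L24492 L35238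
theorem L35245 : sm gh N2821 = N4081 := rfl
theorem L35248 : sm gg N4081 = N2822 := ded_50_1 (flp_h L24497) L24492 L35245
theorem L35250 : sm gd N4081 = N2937 := ded_38_1 (flp_h L25418) L17715 (flp_h L17086) (flp_d L24494) L35245
theorem L35252 : sm gi N2822 = N4082 := rfl
theorem L35260 : sm gc N2825 = N4083 := rfl
theorem L35262 : sm ga N4083 = N2827 := ded_11_1 (flp_c L24541) (flp_a L24525) L35260
theorem L35265 : sm gg N4083 = N2852 := ded_30_2 (flp_c L24729) (flp_g L24527) L35260
theorem L35267 : sm gi N4083 = N2836 := ded_33_2 (flp_c L24613) (flp_i L24529) L35260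
theorem L35270 : sm gf N2825 = N4084 := rfl
theorem L35272 : sm ga N4084 = N2828 := ded_14_1 (flp_f L24549) (flp_a L24525) L35270
theorem L35274 : sm gd N4084 = N2826 := ded_35_1 (flp_f L24532) L24523 L35270
theorem L35276 : sm gi N4084 = N2837 := ded_48_2 (flp_f L24621) (flp_i L24529) L35270
theorem L35286 : sm gg N2826 = N4086 := rfl
theorem L35288 : sm ga N4086 = N2830 := ded_15_1 (flp_g L24565) (flp_a L24534) L35286
theorem L35290 : sm gc N4086 = N4086 := ded_30_1 (flp_g L35286) L24536 L35286
theorem L35291 : sm ge N4086 = N4086 := ded_41_1 (flp_g L35286) L24540 L35286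
theorem L35292 : sm gh N4086 = N4086 := ded_50_2 (flp_g L35286) L24537 L35286
theorem L35293 : sm gi N4086 = N2839 := ded_51_2 (flp_g L24636) (flp_i L24538) L35286
theorem L35295 : sm gf N4086 = N2855 := ded_45_1 (flp_g L24754) (flp_f L17243) (flp_g L17103) L24532 L35286
theorem L35297 : sm gf N2827 = N4087 := rfl
theorem L35299 : sm gc N4087 = N2828 := ded_29_1 (flp_f L24549) L24541 L35297
theorem L35302 : sm gi N4087 = N2840 := ded_48_2 (flp_f L24646) (flp_i L24546) L35297
theorem L35304 : sm gh N2827 = N4088 := rfl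
theorem L35309 : sm gg N4088 = N2857 := ded_50_1 (flp_h L24772) (flp_g L24544) L35304
theorem L35311 : sm ge N2828 = N4089 := rfl
theorem L35313 : sm gb N4089 = N2831 := ded_21_1 (flp_e L24576) (flp_b L24551) L35311
theorem L35315 : sm gi N4089 = N2842 := ded_44_2 (flp_e L24658) (flp_i L24555) L35311
theorem L35317 : sm gd N4089 = N4089 := ded_34_1 (flp_e L35311) L24553 L17125 (flp_d L24553) L35311
theorem L35318 : sm gf N4089 = N4089 := ded_40_2 (flp_e L35311) (flp_f L24549) L17116 L24549 L35311
theorem L35319 : sm gg N2828 = N4090 := rfl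
theorem L35321 : sm gb N4090 = N2832 := ded_23_1 (flp_g L24582) (flp_b L24551) L35319
theorem L35323 : sm gd N4090 = N2830 := ded_36_1 (flp_g L24565) (flp_d L24553) L35319
theorem L35325 : sm gi N4090 = N2843 := ded_51_2 (flp_g L24664) (flp_i L24555) L35319
theorem L35327 : sm gf N4090 = N2859 := ded_45_1 (flp_g L24788) (flp_f L17261) (flp_g L17112) L24549 L35319
theorem L35329 : sm gh N2828 = N4091 := rfl
theorem L35331 : sm gb N4091 = N2833 := ded_25_1 (flp_h L24590) (flp_b L24551) L35329
theorem L35336 : sm gi N2829 = N4092 := rfl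
theorem L35344 : sm gh N4092 = N2845 := ded_54_1 (flp_i L24680) (flp_h L17184) (flp_i L17114) L24557 L35336
theorem L35346 : sm gj N2830 = N4093 := rfl
theorem L35348 : sm gb N4093 = N2835 := ded_24_1 (flp_j L24603) (flp_b L24567) L35346
theorem L35350 : sm gc N4093 = N4093 := ded_31_1 (flp_j L35346) L24569 L35346
theorem L35351 : sm ge N4093 = N4093 := ded_42_1 (flp_j L35346) L24570 L35346
theorem L35352 : sm gf N4093 = N2862 := ded_46_1 (flp_j L24813) (flp_f L24574) L35346
theorem L35354 : sm gh N4093 = N4093 := ded_52_2 (flp_j L35346) L24571 L35346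
theorem L35355 : sm gi N4093 = N2846 := ded_53_2 (flp_j L24689) (flp_i L24572) L35346
theorem L35357 : sm gg N2831 = N4094 := rfl
theorem L35359 : sm gd N4094 = N4094 := ded_36_1 (flp_g L35357) L24580 L35357
theorem L35360 : sm ge N4094 = N2832 := ded_41_1 (flp_g L24582) L24576 L35357
theorem L35362 : sm gi N4094 = N2847 := ded_51_2 (flp_g L24699) (flp_i L24578) L35357
theorem L35364 : sm gh N2831 = N4095 := rfl
theorem L35366 : sm ge N4095 = N2833 := ded_43_1 (flp_h L24590) L24576 L35364
theorem L35368 : sm gf N4095 = N4095 := ded_47_1 (flp_h L35364) L24581 L35364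
theorem L35369 : sm gj N2832 = N4096 := rfl
theorem L35371 : sm gd N4096 = N2835 := ded_37_1 (flp_j L24603) (flp_d L24584) L35369
theorem L35373 : sm gf N4096 = N2865 := ded_46_1 (flp_j L24838) (flp_f L24588) L35369
theorem L35375 : sm gi N4096 = N2849 := ded_53_2 (flp_j L24709) (flp_i L24586) L35369
theorem L35377 : sm gh N2832 = N4097 := rfl
theorem L35379 : sm gf N4097 = N2866 := ded_47_1 (flp_h L24845) (flp_f L24588) L35377
theorem L35381 : sm gg N4097 = N2833 := ded_50_1 (flp_h L24590) L24582 L35377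
theorem L35383 : sm gd N4097 = N4097 := ded_38_1 (flp_h L35377) L24584 L17143 (flp_d L24584) L35377
theorem L35384 : sm gi N2833 = N4098 := rfl
theorem L35391 : sm gb N2836 = N4099 := rfl
theorem L35395 : sm gg N4099 = N2868 := ded_23_2 (flp_b L24858) (flp_g L24618) L35391
theorem L35397 : sm gf N2836 = N4100 := rfl
theorem L35399 : sm ga N4100 = N2840 := ded_14_1 (flp_f L24646) (flp_a L24615) L35397
theorem L35401 : sm gc N4100 = N2837 := ded_29_1 (flp_f L24621) L24613 L35397
theorem L35404 : sm gh N2836 = N4101 := rfl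
theorem L35408 : sm gc N4101 = N2838 := ded_32_1 (flp_h L24627) L24613 L35404
theorem L35411 : sm gg N4101 = N2870 := ded_50_1 (flp_h L24871) (flp_g L24618) L35404
theorem L35413 : sm ge N2837 = N4102 := rfl
theorem L35415 : sm ga N4102 = N2842 := ded_13_1 (flp_e L24658) (flp_a L24623) L35413
theorem L35417 : sm gd N4102 = N4102 := ded_34_1 (flp_e L35413) L24625 L17171 (flp_d L24625) L35413
theorem L35418 : sm gf N4102 = N4102 := ded_40_2 (flp_e L35413) (flp_f L24621) L17163 L24621 L35413
theorem L35419 : sm gg N2837 = N4103 := rfl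
theorem L35421 : sm ga N4103 = N2843 := ded_15_1 (flp_g L24664) (flp_a L24623) L35419
theorem L35423 : sm gd N4103 = N2839 := ded_36_1 (flp_g L24636) (flp_d L24625) L35419
theorem L35425 : sm gf N4103 = N2872 := ded_45_1 (flp_g L24887) (flp_f L17331) (flp_g L17161) L24621 L35419
theorem L35427 : sm gh N2837 = N4104 := rfl
theorem L35431 : sm gf N4104 = N2838 := ded_47_1 (flp_h L24627) L24621 L35427
theorem L35433 : sm gd N4104 = N2944 := ded_38_1 (flp_h L25476) L17758 (flp_h L17169) (flp_d L24625) L35427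
theorem L35444 : sm gj N2839 = N4106 := rfl
theorem L35446 : sm ga N4106 = N2846 := ded_16_1 (flp_j L24689) (flp_a L24638) L35444
theorem L35448 : sm gc N4106 = N4106 := ded_31_1 (flp_j L35444) L24640 L35444
theorem L35449 : sm ge N4106 = N4106 := ded_42_1 (flp_j L35444) L24641 L35444
theorem L35450 : sm gf N4106 = N2875 := ded_46_1 (flp_j L24910) (flp_f L24644) L35444
theorem L35452 : sm gh N4106 = N2946 := ded_52_2 (flp_j L25491) (flp_h L24642) L35444
theorem L35454 : sm ge N2840 = N4107 := rfl
theorem L35456 : sm gc N4107 = N2842 := ded_28_1 (flp_e L24658) (flp_c L24648) L35454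
theorem L35459 : sm gg N2840 = N4108 := rfl
theorem L35461 : sm gc N4108 = N2843 := ded_30_1 (flp_g L24664) (flp_c L24648) L35459
theorem L35464 : sm gf N4108 = N2877 := ded_45_1 (flp_g L24926) (flp_f L17355) (flp_g L17175) L24646 L35459
theorem L35466 : sm gh N2840 = N4109 := rfl
theorem L35468 : sm gc N4109 = N2844 := ded_32_1 (flp_h L24672) (flp_c L24648) L35466
theorem L35472 : sm gd N2841 = N4110 := rfl
theorem L35474 : sm gg N4110 = N2879 := ded_36_2 (flp_d L24938) (flp_g L24656) L35472
theorem L35479 : sm gi N2841 = N4111 := rfl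
theorem L35481 : sm gc N4111 = N2845 := ded_33_1 (flp_i L24680) (flp_c L24653) L35479
theorem L35484 : sm gg N4111 = N2880 := ded_51_1 (flp_i L24944) (flp_g L24656) L35479
theorem L35486 : sm gg N2842 = N4112 := rfl
theorem L35488 : sm gb N4112 = N2847 := ded_23_1 (flp_g L24699) (flp_b L24660) L35486
theorem L35490 : sm gd N4112 = N4112 := ded_36_1 (flp_g L35486) L24662 L35486
theorem L35491 : sm ge N4112 = N2843 := ded_41_1 (flp_g L24664) L24658 L35486
theorem L35493 : sm gh N2842 = N4113 := rfl
theorem L35495 : sm gb N4113 = N2848 := ded_25_1 (flp_h L24704) (flp_b L24660) L35493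
theorem L35497 : sm ge N4113 = N2844 := ded_43_1 (flp_h L24672) L24658 L35493
theorem L35500 : sm gj N2843 = N4114 := rfl
theorem L35502 : sm gb N4114 = N2849 := ded_24_1 (flp_j L24709) (flp_b L24666) L35500
theorem L35504 : sm gd N4114 = N2846 := ded_37_1 (flp_j L24689) (flp_d L24668) L35500
theorem L35506 : sm gf N4114 = N2883 := ded_46_1 (flp_j L24967) (flp_f L24670) L35500
theorem L35508 : sm gh N2843 = N4115 := rfl
theorem L35510 : sm gb N4115 = N2850 := ded_25_1 (flp_h L24715) (flp_b L24666) L35508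
theorem L35516 : sm gd N4115 = N2955 := ded_38_1 (flp_h L25566) L17806 (flp_h L17199) (flp_d L24668) L35508
theorem L35526 : sm gf N2847 = N4117 := rfl
theorem L35529 : sm ge N4117 = N2886 := ded_40_1 (flp_f L24991) L17412 (flp_f L17211) (flp_e L24702) L35526
theorem L35532 : sm gj N2847 = N4118 := rfl
theorem L35535 : sm ge N4118 = N2849 := ded_42_1 (flp_j L24709) (flp_e L24702) L35532
theorem L35537 : sm gh N2847 = N4119 := rfl
theorem L35539 : sm ge N4119 = N2850 := ded_43_1 (flp_h L24715) (flp_e L24702) L35537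
theorem L35541 : sm gg N4119 = N2848 := ded_50_1 (flp_h L24704) L24699 L35537
theorem L35543 : sm gd N2848 = N4120 := rfl
theorem L35546 : sm ge N4120 = N2959 := ded_34_2 (flp_d L25597) L17846 (flp_d L17217) (flp_e L24706) L35543
theorem L35549 : sm gi N2848 = N4121 := rfl
theorem L35554 : sm gh N2849 = N4122 := rfl
theorem L35556 : sm gf N4122 = N2890 := ded_47_1 (flp_h L25017) (flp_f L24713) L35554
theorem L35558 : sm gj N4122 = N2850 := ded_52_1 (flp_h L24715) L24709 L35554
theorem L35560 : sm gd N4122 = N2961 := ded_38_1 (flp_h L25610) L17853 (flp_h L17233) (flp_d L24711) L35554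
theorem L35562 : sm gi N2850 = N4123 := rfl
theorem L35564 : sm gd N4123 = N2962 := ded_39_1 (flp_i L25617) (flp_d L24721) L35562
theorem L35566 : sm gf N4123 = N2891 := ded_48_1 (flp_i L25024) (flp_f L24717) L35562
theorem L35568 : sm gg N4123 = N2851 := ded_51_1 (flp_i L24723) (flp_g L24719) L35562
theorem L35570 : sm gb N2852 = N4124 := rfl
theorem L35575 : sm gi N4124 = N2868 := ded_26_2 (flp_b L24858) (flp_i L24735) L35570
theorem L35577 : sm gf N2852 = N4125 := rfl
theorem L35579 : sm ga N4125 = N2856 := ded_14_1 (flp_f L24764) (flp_a L24731) L35577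
theorem L35581 : sm gc N4125 = N2853 := ded_29_1 (flp_f L24738) L24729 L35577
theorem L35585 : sm gi N4125 = N2869 := ded_48_2 (flp_f L24863) (flp_i L24735) L35577
theorem L35587 : sm gh N2852 = N4126 := rfl
theorem L35595 : sm ge N2853 = N4127 := rfl
theorem L35597 : sm ga N4127 = N2858 := ded_13_1 (flp_e L24778) (flp_a L24740) L35595
theorem L35599 : sm gj N4127 = N4127 := ded_42_2 (flp_e L35595) L24744 L35595
theorem L35600 : sm gi N4127 = N2871 := ded_44_2 (flp_e L24879) (flp_i L24745) L35595
theorem L35602 : sm gd N4127 = N2895 := ded_34_1 (flp_e L25059) L17453 (flp_e L17252) (flp_d L24742) L35595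
theorem L35604 : sm gf N4127 = N4127 := ded_40_2 (flp_e L35595) (flp_f L24738) L17242 L24738 L35595
theorem L35605 : sm gg N2853 = N4128 := rfl
theorem L35607 : sm ga N4128 = N2859 := ded_15_1 (flp_g L24788) (flp_a L24740) L35605
theorem L35609 : sm gd N4128 = N2855 := ded_36_1 (flp_g L24754) (flp_d L24742) L35605
theorem L35611 : sm gi N4128 = N2872 := ded_51_2 (flp_g L24887) (flp_i L24745) L35605
theorem L35613 : sm gh N2853 = N4129 := rfl
theorem L35620 : sm gd N4129 = N4129 := ded_38_1 (flp_h L35613) L24742 L17249 (flp_d L24742) L35613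
theorem L35621 : sm gi N2854 = N4130 := rfl
theorem L35628 : sm gh N4130 = N2874 := ded_54_1 (flp_i L24902) (flp_h L17338) (flp_i L17240) L24747 L35621
theorem L35630 : sm gj N2855 = N4131 := rfl
theorem L35632 : sm ga N4131 = N2862 := ded_16_1 (flp_j L24813) (flp_a L24756) L35630
theorem L35634 : sm gc N4131 = N4131 := ded_31_1 (flp_j L35630) L24758 L35630
theorem L35635 : sm ge N4131 = N2898 := ded_42_1 (flp_j L25085) (flp_e L24759) L35630
theorem L35637 : sm gh N4131 = N4131 := ded_52_2 (flp_j L35630) L24761 L35630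
theorem L35638 : sm gi N4131 = N2875 := ded_53_2 (flp_j L24910) (flp_i L24762) L35630
theorem L35640 : sm gg N4131 = N4131 := ded_49_1 (flp_j L35630) (flp_g L24754) L17248 L24754 L35630
theorem L35641 : sm ge N2856 = N4132 := rfl
theorem L35643 : sm gc N4132 = N2858 := ded_28_1 (flp_e L24778) (flp_c L24766) L35641
theorem L35646 : sm gi N4132 = N2876 := ded_44_2 (flp_e L24920) (flp_i L24770) L35641
theorem L35649 : sm gg N2856 = N4133 := rfl
theorem L35651 : sm gc N4133 = N2859 := ded_30_1 (flp_g L24788) (flp_c L24766) L35649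
theorem L35654 : sm gi N4133 = N2877 := ded_51_2 (flp_g L24926) (flp_i L24770) L35649
theorem L35656 : sm gh N2856 = N4134 := rfl
theorem L35660 : sm gf N4134 = N2857 := ded_47_1 (flp_h L24772) L24764 L35656
theorem L35663 : sm gd N2857 = N4135 := rfl
theorem L35668 : sm gi N2857 = N4136 := rfl
theorem L35674 : sm gh N4136 = N2880 := ded_54_1 (flp_i L24944) (flp_h L17361) (flp_i L17258) L24772 L35668
theorem L35676 : sm gg N2858 = N4137 := rfl
theorem L35678 : sm gb N4137 = N2863 := ded_23_1 (flp_g L24824) (flp_b L24780) L35676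
theorem L35680 : sm gd N4137 = N2903 := ded_36_1 (flp_g L25130) (flp_d L24785) L35676
theorem L35682 : sm ge N4137 = N2859 := ded_41_1 (flp_g L24788) L24778 L35676
theorem L35684 : sm gi N4137 = N2881 := ded_51_2 (flp_g L24950) (flp_i L24783) L35676
theorem L35686 : sm gh N2858 = N4138 := rfl
theorem L35688 : sm gb N4138 = N2864 := ded_25_1 (flp_h L24832) (flp_b L24780) L35686
theorem L35694 : sm gj N2859 = N4139 := rfl
theorem L35696 : sm gb N4139 = N2865 := ded_24_1 (flp_j L24838) (flp_b L24790) L35694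
theorem L35698 : sm gd N4139 = N2862 := ded_37_1 (flp_j L24813) (flp_d L24792) L35694
theorem L35700 : sm gi N4139 = N2883 := ded_53_2 (flp_j L24967) (flp_i L24794) L35694
theorem L35702 : sm gg N4139 = N4139 := ded_49_1 (flp_j L35694) (flp_g L24788) L17267 L24788 L35694
theorem L35703 : sm gh N2859 = N4140 := rfl
theorem L35705 : sm gb N4140 = N2866 := ded_25_1 (flp_h L24845) (flp_b L24790) L35703
theorem L35720 : sm gf N2863 = N4142 := rfl
theorem L35722 : sm gd N4142 = N2907 := ded_35_1 (flp_f L25166) (flp_d L24826) L35720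
theorem L35724 : sm gi N4142 = N2886 := ded_48_2 (flp_f L24991) (flp_i L24830) L35720
theorem L35726 : sm gg N4142 = N4142 := ded_45_2 (flp_f L35720) (flp_g L24824) L17294 L24824 L35720
theorem L35727 : sm gj N2863 = N4143 := rfl
theorem L35729 : sm gd N4143 = N2908 := ded_37_1 (flp_j L25173) (flp_d L24826) L35727
theorem L35731 : sm ge N4143 = N2865 := ded_42_1 (flp_j L24838) (flp_e L24828) L35727
theorem L35733 : sm gi N4143 = N2887 := ded_53_2 (flp_j L24996) (flp_i L24830) L35727
theorem L35735 : sm gg N4143 = N4143 := ded_49_1 (flp_j L35727) (flp_g L24824) L17289 L24824 L35727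
theorem L35736 : sm gh N2863 = N4144 := rfl
theorem L35738 : sm ge N4144 = N2866 := ded_43_1 (flp_h L24845) (flp_e L24828) L35736
theorem L35740 : sm gg N4144 = N2864 := ded_50_1 (flp_h L24832) L24824 L35736
theorem L35742 : sm gd N2864 = N4145 := rfl
theorem L35744 : sm gf N4145 = N4145 := ded_35_2 (flp_d L35742) L24836 L35742
theorem L35745 : sm gj N4145 = N4145 := ded_37_2 (flp_d L35742) L24837 L35742
theorem L35746 : sm ge N4145 = N4145 := ded_34_2 (flp_d L35742) L24834 L17306 (flp_e L24834) L35742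
theorem L35747 : sm gh N4145 = N2910 := ded_38_2 (flp_d L25189) (flp_h L17537) (flp_d L17292) L24832 L35742
theorem L35749 : sm gi N2864 = N4146 := rfl
theorem L35751 : sm ge N4146 = N2867 := ded_44_1 (flp_i L24850) (flp_e L24834) L35749
theorem L35757 : sm gh N2865 = N4147 := rfl
theorem L35759 : sm gg N4147 = N4147 := ded_50_1 (flp_h L35757) L24844 L35757
theorem L35760 : sm gj N4147 = N2866 := ded_52_1 (flp_h L24845) L24838 L35757
theorem L35762 : sm gd N4147 = N4147 := ded_38_1 (flp_h L35757) L24840 L17320 (flp_d L24840) L35757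
theorem L35763 : sm gi N2866 = N4148 := rfl
theorem L35770 : sm gf N2868 = N4149 := rfl
theorem L35772 : sm gb N4149 = N2869 := ded_22_1 (flp_f L24863) L24858 L35770
theorem L35776 : sm gh N2868 = N4150 := rfl
theorem L35778 : sm gb N4150 = N2870 := ded_25_1 (flp_h L24871) L24858 L35776
theorem L35782 : sm ge N2869 = N4151 := rfl
theorem L35784 : sm ga N4151 = N2876 := ded_13_1 (flp_e L24920) (flp_a L24865) L35782
theorem L35786 : sm gc N4151 = N2871 := ded_28_1 (flp_e L24879) (flp_c L24867) L35782
theorem L35790 : sm gg N2869 = N4152 := rfl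
theorem L35792 : sm ga N4152 = N2877 := ded_15_1 (flp_g L24926) (flp_a L24865) L35790
theorem L35794 : sm gc N4152 = N2872 := ded_30_1 (flp_g L24887) (flp_c L24867) L35790
theorem L35797 : sm gh N2869 = N4153 := rfl
theorem L35806 : sm gd N2870 = N4154 := rfl
theorem L35808 : sm ga N4154 = N2879 := ded_12_1 (flp_d L24938) (flp_a L24873) L35806
theorem L35814 : sm gi N2870 = N4155 := rfl
theorem L35822 : sm gg N2871 = N4156 := rfl
theorem L35824 : sm ga N4156 = N2881 := ded_15_1 (flp_g L24950) (flp_a L24881) L35822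
theorem L35826 : sm gd N4156 = N2915 := ded_36_1 (flp_g L25230) (flp_d L24884) L35822
theorem L35828 : sm ge N4156 = N2872 := ded_41_1 (flp_g L24887) L24879 L35822
theorem L35830 : sm gh N2871 = N4157 := rfl
theorem L35832 : sm ga N4157 = N2882 := ded_17_1 (flp_h L24958) (flp_a L24881) L35830
theorem L35834 : sm ge N4157 = N2873 := ded_43_1 (flp_h L24893) L24879 L35830
theorem L35839 : sm gj N2872 = N4158 := rfl
theorem L35841 : sm ga N4158 = N2883 := ded_16_1 (flp_j L24967) (flp_a L24889) L35839
theorem L35843 : sm gd N4158 = N2875 := ded_37_1 (flp_j L24910) (flp_d L24891) L35839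
theorem L35845 : sm gg N4158 = N4158 := ded_49_1 (flp_j L35839) (flp_g L24887) L17337 L24887 L35839
theorem L35846 : sm gh N2872 = N4159 := rfl
theorem L35852 : sm gd N4159 = N2970 := ded_38_1 (flp_h L25686) L17902 (flp_h L17353) (flp_d L24891) L35846
theorem L35863 : sm gd N2876 = N4161 := rfl
theorem L35867 : sm gc N4161 = N2917 := ded_27_1 (flp_d L25246) L17606 (flp_d L17372) (flp_c L24922) L35863
theorem L35870 : sm gg N2876 = N4162 := rfl
theorem L35872 : sm gc N4162 = N2881 := ded_30_1 (flp_g L24950) (flp_c L24922) L35870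
theorem L35874 : sm ge N4162 = N2877 := ded_41_1 (flp_g L24926) L24920 L35870
theorem L35876 : sm gh N2876 = N4163 := rfl
theorem L35880 : sm ge N4163 = N2878 := ded_43_1 (flp_h L24931) L24920 L35876
theorem L35884 : sm gj N2877 = N4164 := rfl
theorem L35886 : sm gc N4164 = N2883 := ded_31_1 (flp_j L24967) (flp_c L24928) L35884
theorem L35890 : sm gh N2877 = N4165 := rfl
theorem L35892 : sm gc N4165 = N2884 := ded_32_1 (flp_h L24974) (flp_c L24928) L35890
theorem L35894 : sm gg N4165 = N2878 := ded_50_1 (flp_h L24931) L24926 L35890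
theorem L35896 : sm gd N2878 = N4166 := rfl
theorem L35898 : sm gf N4166 = N2879 := ded_35_2 (flp_d L24938) (flp_f L24935) L35896
theorem L35911 : sm ge N2879 = N4168 := rfl
theorem L35918 : sm gi N2879 = N4169 := rfl
theorem L35922 : sm gd N4169 = N2880 := ded_39_1 (flp_i L24944) L24938 L35918
theorem L35925 : sm gf N2881 = N4170 := rfl
theorem L35927 : sm gb N4170 = N2886 := ded_22_1 (flp_f L24991) (flp_b L24952) L35925
theorem L35929 : sm gd N4170 = N2920 := ded_35_1 (flp_f L25269) (flp_d L24954) L35925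
theorem L35931 : sm gg N4170 = N4170 := ded_45_2 (flp_f L35925) (flp_g L24950) L17374 L24950 L35925
theorem L35932 : sm gj N2881 = N4171 := rfl
theorem L35934 : sm gb N4171 = N2887 := ded_24_1 (flp_j L24996) (flp_b L24952) L35932
theorem L35936 : sm gd N4171 = N2921 := ded_37_1 (flp_j L25276) (flp_d L24954) L35932
theorem L35938 : sm ge N4171 = N2883 := ded_42_1 (flp_j L24967) (flp_e L24956) L35932
theorem L35940 : sm gg N4171 = N4171 := ded_49_1 (flp_j L35932) (flp_g L24950) L17371 L24950 L35932
theorem L35941 : sm gh N2881 = N4172 := rfl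
theorem L35943 : sm gb N4172 = N2888 := ded_25_1 (flp_h L25003) (flp_b L24952) L35941
theorem L35950 : sm gi N2882 = N4173 := rfl
theorem L35959 : sm gh N2883 = N4174 := rfl
theorem L35961 : sm gb N4174 = N2890 := ded_25_1 (flp_h L25017) (flp_b L24969) L35959
theorem L35966 : sm gd N4174 = N2978 := ded_38_1 (flp_h L25749) L17966 (flp_h L17405) (flp_d L24971) L35959
theorem L35976 : sm gj N2886 = N4176 := rfl
theorem L35978 : sm gd N4176 = N2922 := ded_37_1 (flp_j L25284) (flp_d L24993) L35976
theorem L35980 : sm gf N4176 = N2887 := ded_46_1 (flp_j L24996) L24991 L35976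
theorem L35982 : sm gh N2886 = N4177 := rfl
theorem L35984 : sm gf N4177 = N2888 := ded_47_1 (flp_h L25003) L24991 L35982
theorem L35996 : sm gi N2888 = N4179 := rfl
theorem L36003 : sm gi N2890 = N4180 := rfl
theorem L36005 : sm gd N4180 = N2980 := ded_39_1 (flp_i L25765) (flp_d L25022) L36003
theorem L36010 : sm gf N2892 = N4181 := rfl
theorem L36012 : sm ga N4181 = N4181 := ded_14_1 (flp_f L36010) L25038 L36010
theorem L36013 : sm gb N4181 = N2893 := ded_22_1 (flp_f L25039) L25030 L36010
theorem L36015 : sm gd N4181 = N4181 := ded_35_1 (flp_f L36010) L25032 L36010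
theorem L36016 : sm gj N4181 = N4181 := ded_46_2 (flp_f L36010) L25035 L36010
theorem L36017 : sm gi N4181 = N2912 := ded_48_2 (flp_f L25204) (flp_i L25036) L36010
theorem L36019 : sm gh N2892 = N4182 := rfl
theorem L36022 : sm gb N4182 = N2894 := ded_25_1 (flp_h L25049) L25030 L36019
theorem L36025 : sm gg N4182 = N4182 := ded_50_1 (flp_h L36019) L25034 L36019
theorem L36026 : sm gj N4182 = N4182 := ded_52_1 (flp_h L36019) L25035 L36019
theorem L36028 : sm ge N2893 = N4183 := rfl
theorem L36030 : sm ga N4183 = N2899 := ded_13_1 (flp_e L25095) (flp_a L25041) L36028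
theorem L36032 : sm gc N4183 = N2895 := ded_28_1 (flp_e L25059) (flp_c L25043) L36028
theorem L36034 : sm gj N4183 = N4183 := ded_42_2 (flp_e L36028) L25046 L36028
theorem L36035 : sm gi N4183 = N2913 := ded_44_2 (flp_e L25212) (flp_i L25047) L36028
theorem L36037 : sm gf N4183 = N4183 := ded_40_2 (flp_e L36028) (flp_f L25039) L17443 L25039 L36028
theorem L36038 : sm gg N2893 = N4184 := rfl
theorem L36040 : sm ga N4184 = N2900 := ded_15_1 (flp_g L25104) (flp_a L25041) L36038
theorem L36042 : sm gc N4184 = N2896 := ded_30_1 (flp_g L25067) (flp_c L25043) L36038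
theorem L36044 : sm gd N4184 = N4184 := ded_36_1 (flp_g L36038) L25045 L36038
theorem L36045 : sm gi N4184 = N2914 := ded_51_2 (flp_g L25221) (flp_i L25047) L36038
theorem L36047 : sm gf N4184 = N4184 := ded_45_1 (flp_g L36038) (flp_f L25039) L17444 L25039 L36038
theorem L36048 : sm gh N2893 = N4185 := rfl
theorem L36050 : sm ga N4185 = N2901 := ded_17_1 (flp_h L25113) (flp_a L25041) L36048
theorem L36052 : sm gc N4185 = N2897 := ded_32_1 (flp_h L25076) (flp_c L25043) L36048
theorem L36054 : sm gf N4185 = N2894 := ded_47_1 (flp_h L25049) L25039 L36048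
theorem L36056 : sm gj N4185 = N4185 := ded_52_1 (flp_h L36048) L25046 L36048
theorem L36057 : sm gi N4185 = N4185 := ded_54_2 (flp_h L36048) L25047 L17578 (flp_i L25047) L36048
theorem L36058 : sm gd N2894 = N4186 := rfl
theorem L36060 : sm ga N4186 = N2902 := ded_12_1 (flp_d L25122) (flp_a L25051) L36058
theorem L36063 : sm gj N4186 = N4186 := ded_37_2 (flp_d L36058) L25057 L36058
theorem L36067 : sm gg N2895 = N4187 := rfl
theorem L36069 : sm ga N4187 = N2903 := ded_15_1 (flp_g L25130) (flp_a L25061) L36067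
theorem L36071 : sm ge N4187 = N2896 := ded_41_1 (flp_g L25067) L25059 L36067
theorem L36073 : sm gi N4187 = N2915 := ded_51_2 (flp_g L25230) (flp_i L25064) L36067
theorem L36075 : sm gh N2895 = N4188 := rfl
theorem L36077 : sm ga N4188 = N2904 := ded_17_1 (flp_h L25138) (flp_a L25061) L36075
theorem L36079 : sm ge N4188 = N2897 := ded_43_1 (flp_h L25076) L25059 L36075
theorem L36081 : sm gf N4188 = N4188 := ded_47_1 (flp_h L36075) L25066 L36075
theorem L36082 : sm gj N4188 = N4188 := ded_52_1 (flp_h L36075) L25063 L36075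
theorem L36083 : sm gi N4188 = N4188 := ded_54_2 (flp_h L36075) L25064 L17584 (flp_i L25064) L36075
theorem L36084 : sm gj N2896 = N4189 := rfl
theorem L36086 : sm ga N4189 = N2905 := ded_16_1 (flp_j L25147) (flp_a L25069) L36084
theorem L36088 : sm gd N4189 = N2898 := ded_37_1 (flp_j L25085) (flp_d L25071) L36084
theorem L36090 : sm gf N4189 = N4189 := ded_46_1 (flp_j L36084) L25075 L36084
theorem L36091 : sm gi N4189 = N2916 := ded_53_2 (flp_j L25237) (flp_i L25073) L36084
theorem L36093 : sm gg N4189 = N4189 := ded_49_1 (flp_j L36084) (flp_g L25067) L17455 L25067 L36084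
theorem L36094 : sm gh N2896 = N4190 := rfl
theorem L36096 : sm ga N4190 = N2906 := ded_17_1 (flp_h L25157) (flp_a L25069) L36094
theorem L36098 : sm gf N4190 = N4190 := ded_47_1 (flp_h L36094) L25075 L36094
theorem L36099 : sm gg N4190 = N2897 := ded_50_1 (flp_h L25076) L25067 L36094
theorem L36101 : sm gd N4190 = N4190 := ded_38_1 (flp_h L36094) L25071 L17472 (flp_d L25071) L36094
theorem L36102 : sm gi N4190 = N4190 := ded_54_2 (flp_h L36094) L25073 L17592 (flp_i L25073) L36094
theorem L36103 : sm gd N2899 = N4191 := rfl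
theorem L36105 : sm gb N4191 = N4191 := ded_20_1 (flp_d L36103) L25097 L36103
theorem L36106 : sm gf N4191 = N4191 := ded_35_2 (flp_d L36103) L25103 L36103
theorem L36107 : sm gj N4191 = N4191 := ded_37_2 (flp_d L36103) L25100 L36103
theorem L36108 : sm gi N4191 = N2917 := ded_39_2 (flp_d L25246) (flp_i L25101) L36103
theorem L36110 : sm ge N4191 = N4191 := ded_34_2 (flp_d L36103) (flp_e L25095) L17481 L25095 L36103
theorem L36111 : sm gg N2899 = N4192 := rfl
theorem L36113 : sm gb N4192 = N4192 := ded_23_1 (flp_g L36111) L25097 L36111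
theorem L36114 : sm gc N4192 = N2903 := ded_30_1 (flp_g L25130) (flp_c L25098) L36111
theorem L36116 : sm ge N4192 = N2900 := ded_41_1 (flp_g L25104) L25095 L36111
theorem L36118 : sm gi N4192 = N2918 := ded_51_2 (flp_g L25252) (flp_i L25101) L36111
theorem L36120 : sm gh N2899 = N4193 := rfl
theorem L36122 : sm gb N4193 = N4193 := ded_25_1 (flp_h L36120) L25097 L36120
theorem L36123 : sm gc N4193 = N2904 := ded_32_1 (flp_h L25138) (flp_c L25098) L36120
theorem L36125 : sm ge N4193 = N2901 := ded_43_1 (flp_h L25113) L25095 L36120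
theorem L36127 : sm gf N4193 = N4193 := ded_47_1 (flp_h L36120) L25103 L36120
theorem L36128 : sm gj N4193 = N4193 := ded_52_1 (flp_h L36120) L25100 L36120
theorem L36129 : sm gi N4193 = N4193 := ded_54_2 (flp_h L36120) L25101 L17609 (flp_i L25101) L36120
theorem L36130 : sm gj N2900 = N4194 := rfl
theorem L36132 : sm gb N4194 = N4194 := ded_24_1 (flp_j L36130) L25106 L36130
theorem L36133 : sm gc N4194 = N2905 := ded_31_1 (flp_j L25147) (flp_c L25107) L36130
theorem L36135 : sm gd N4194 = N4194 := ded_37_1 (flp_j L36130) L25109 L36130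
theorem L36136 : sm gf N4194 = N4194 := ded_46_1 (flp_j L36130) L25112 L36130
theorem L36137 : sm gi N4194 = N2919 := ded_53_2 (flp_j L25260) (flp_i L25110) L36130
theorem L36139 : sm gg N4194 = N4194 := ded_49_1 (flp_j L36130) (flp_g L25104) L17482 L25104 L36130
theorem L36140 : sm gh N2900 = N4195 := rfl
theorem L36142 : sm gb N4195 = N4195 := ded_25_1 (flp_h L36140) L25106 L36140
theorem L36143 : sm gc N4195 = N2906 := ded_32_1 (flp_h L25157) (flp_c L25107) L36140
theorem L36145 : sm gf N4195 = N4195 := ded_47_1 (flp_h L36140) L25112 L36140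
theorem L36146 : sm gg N4195 = N2901 := ded_50_1 (flp_h L25113) L25104 L36140
theorem L36148 : sm gi N4195 = N4195 := ded_54_2 (flp_h L36140) L25110 L17617 (flp_i L25110) L36140
theorem L36149 : sm gd N2901 = N4196 := rfl
theorem L36151 : sm gb N4196 = N4196 := ded_20_1 (flp_d L36149) L25115 L36149
theorem L36152 : sm gf N4196 = N2902 := ded_35_2 (flp_d L25122) (flp_f L25118) L36149
theorem L36154 : sm gj N4196 = N4196 := ded_37_2 (flp_d L36149) L25120 L36149
theorem L36155 : sm gi N4196 = N4196 := ded_39_2 (flp_d L36149) L25121 L36149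
theorem L36156 : sm gc N4196 = N4196 := ded_27_1 (flp_d L36149) L25116 L17518 (flp_c L25116) L36149
theorem L36157 : sm gh N4196 = N4196 := ded_38_2 (flp_d L36149) (flp_h L25113) L17481 L25113 L36149
theorem L36158 : sm ge N2902 = N4197 := rfl
theorem L36162 : sm gg N4197 = N4197 := ded_41_2 (flp_e L36158) L25125 L36158
theorem L36167 : sm gf N2903 = N4198 := rfl
theorem L36169 : sm gb N4198 = N2907 := ded_22_1 (flp_f L25166) (flp_b L25132) L36167
theorem L36171 : sm gi N4198 = N2920 := ded_48_2 (flp_f L25269) (flp_i L25136) L36167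
theorem L36173 : sm ge N4198 = N4198 := ded_40_1 (flp_f L36167) L25134 L17510 (flp_e L25134) L36167
theorem L36174 : sm gg N4198 = N4198 := ded_45_2 (flp_f L36167) (flp_g L25130) L17501 L25130 L36167
theorem L36175 : sm gj N2903 = N4199 := rfl
theorem L36177 : sm gb N4199 = N2908 := ded_24_1 (flp_j L25173) (flp_b L25132) L36175
theorem L36179 : sm ge N4199 = N2905 := ded_42_1 (flp_j L25147) (flp_e L25134) L36175
theorem L36181 : sm gi N4199 = N2921 := ded_53_2 (flp_j L25276) (flp_i L25136) L36175
theorem L36183 : sm gg N4199 = N4199 := ded_49_1 (flp_j L36175) (flp_g L25130) L17498 L25130 L36175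
theorem L36184 : sm gh N2903 = N4200 := rfl
theorem L36186 : sm gb N4200 = N2909 := ded_25_1 (flp_h L25181) (flp_b L25132) L36184
theorem L36188 : sm ge N4200 = N2906 := ded_43_1 (flp_h L25157) (flp_e L25134) L36184
theorem L36190 : sm gg N4200 = N2904 := ded_50_1 (flp_h L25138) L25130 L36184
theorem L36192 : sm gi N4200 = N4200 := ded_54_2 (flp_h L36184) L25136 L17625 (flp_i L25136) L36184
theorem L36193 : sm gd N2904 = N4201 := rfl
theorem L36195 : sm gb N4201 = N2910 := ded_20_1 (flp_d L25189) (flp_b L25140) L36193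
theorem L36197 : sm gf N4201 = N4201 := ded_35_2 (flp_d L36193) L25144 L36193
theorem L36198 : sm gj N4201 = N4201 := ded_37_2 (flp_d L36193) L25145 L36193
theorem L36199 : sm gi N4201 = N4201 := ded_39_2 (flp_d L36193) L25146 L36193
theorem L36200 : sm ge N4201 = N4201 := ded_34_2 (flp_d L36193) L25142 L17518 (flp_e L25142) L36193
theorem L36201 : sm gh N2905 = N4202 := rfl
theorem L36203 : sm gb N4202 = N2911 := ded_25_1 (flp_h L25195) (flp_b L25149) L36201
theorem L36205 : sm gf N4202 = N4202 := ded_47_1 (flp_h L36201) L25153 L36201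
theorem L36206 : sm gg N4202 = N4202 := ded_50_1 (flp_h L36201) L25156 L36201
theorem L36207 : sm gj N4202 = N2906 := ded_52_1 (flp_h L25157) L25147 L36201
theorem L36209 : sm gd N4202 = N4202 := ded_38_1 (flp_h L36201) L25151 L17526 (flp_d L25151) L36201
theorem L36210 : sm gi N4202 = N4202 := ded_54_2 (flp_h L36201) L25154 L17633 (flp_i L25154) L36201
theorem L36211 : sm gj N2907 = N4203 := rfl
theorem L36213 : sm gc N4203 = N4203 := ded_31_1 (flp_j L36211) L25168 L36211
theorem L36214 : sm ge N4203 = N4203 := ded_42_1 (flp_j L36211) L25171 L36211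
theorem L36215 : sm gf N4203 = N2908 := ded_46_1 (flp_j L25173) L25166 L36211
theorem L36217 : sm gi N4203 = N2922 := ded_53_2 (flp_j L25284) (flp_i L25169) L36211
theorem L36219 : sm gh N2907 = N4204 := rfl
theorem L36221 : sm gc N4204 = N4204 := ded_32_1 (flp_h L36219) L25168 L36219
theorem L36222 : sm ge N4204 = N4204 := ded_43_1 (flp_h L36219) L25171 L36219
theorem L36223 : sm gf N4204 = N2909 := ded_47_1 (flp_h L25181) L25166 L36219
theorem L36225 : sm gg N4204 = N4204 := ded_50_1 (flp_h L36219) L25172 L36219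
theorem L36226 : sm gi N4204 = N4204 := ded_54_2 (flp_h L36219) L25169 L17638 (flp_i L25169) L36219
theorem L36227 : sm gh N2908 = N4205 := rfl
theorem L36229 : sm gc N4205 = N4205 := ded_32_1 (flp_h L36227) L25175 L36227
theorem L36230 : sm ge N4205 = N2911 := ded_43_1 (flp_h L25195) (flp_e L25176) L36227
theorem L36232 : sm gg N4205 = N4205 := ded_50_1 (flp_h L36227) L25180 L36227
theorem L36233 : sm gj N4205 = N2909 := ded_52_1 (flp_h L25181) L25173 L36227
theorem L36235 : sm gi N4205 = N4205 := ded_54_2 (flp_h L36227) L25178 L17646 (flp_i L25178) L36227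
theorem L36236 : sm gd N2909 = N4206 := rfl
theorem L36238 : sm gg N4206 = N2910 := ded_36_2 (flp_d L25189) (flp_g L25186) L36236
theorem L36240 : sm gi N4206 = N4206 := ded_39_2 (flp_d L36236) L25188 L36236
theorem L36241 : sm ge N4206 = N4206 := ded_34_2 (flp_d L36236) L25184 L17560 (flp_e L25184) L36236
theorem L36242 : sm gc N2910 = N4207 := rfl
theorem L36244 : sm ge N4207 = N4207 := ded_28_2 (flp_c L36242) L25194 L36242
theorem L36245 : sm gf N4207 = N4207 := ded_29_2 (flp_c L36242) L25191 L36242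
theorem L36246 : sm gj N4207 = N4207 := ded_31_2 (flp_c L36242) L25192 L36242
theorem L36247 : sm gi N4207 = N4207 := ded_33_2 (flp_c L36242) L25193 L36242
theorem L36248 : sm gd N4207 = N4207 := ded_27_2 (flp_c L36242) (flp_d L25189) L17539 L25189 L36242
theorem L36249 : sm ge N2912 = N4208 := rfl
theorem L36251 : sm ga N4208 = N4208 := ded_13_1 (flp_e L36249) L25206 L36249
theorem L36252 : sm gb N4208 = N2913 := ded_21_1 (flp_e L25212) (flp_b L25207) L36249
theorem L36254 : sm gj N4208 = N4208 := ded_42_2 (flp_e L36249) L25210 L36249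
theorem L36255 : sm gh N4208 = N4208 := ded_43_2 (flp_e L36249) L25211 L36249
theorem L36256 : sm gf N4208 = N4208 := ded_40_2 (flp_e L36249) (flp_f L25204) L17565 L25204 L36249
theorem L36257 : sm gg N2912 = N4209 := rfl
theorem L36259 : sm ga N4209 = N4209 := ded_15_1 (flp_g L36257) L25206 L36257
theorem L36260 : sm gb N4209 = N2914 := ded_23_1 (flp_g L25221) (flp_b L25207) L36257
theorem L36262 : sm gd N4209 = N4209 := ded_36_1 (flp_g L36257) L25209 L36257
theorem L36263 : sm gh N4209 = N4209 := ded_50_2 (flp_g L36257) L25211 L36257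
theorem L36264 : sm gf N4209 = N4209 := ded_45_1 (flp_g L36257) (flp_f L25204) L17566 L25204 L36257
theorem L36265 : sm gd N2913 = N4210 := rfl
theorem L36267 : sm ga N4210 = N2917 := ded_12_1 (flp_d L25246) (flp_a L25214) L36265
theorem L36269 : sm gf N4210 = N4210 := ded_35_2 (flp_d L36265) L25220 L36265
theorem L36270 : sm gj N4210 = N4210 := ded_37_2 (flp_d L36265) L25218 L36265
theorem L36271 : sm ge N4210 = N4210 := ded_34_2 (flp_d L36265) (flp_e L25212) L17576 L25212 L36265
theorem L36272 : sm gg N2913 = N4211 := rfl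
theorem L36274 : sm ga N4211 = N2918 := ded_15_1 (flp_g L25252) (flp_a L25214) L36272
theorem L36276 : sm gc N4211 = N2915 := ded_30_1 (flp_g L25230) (flp_c L25216) L36272
theorem L36278 : sm ge N4211 = N2914 := ded_41_1 (flp_g L25221) L25212 L36272
theorem L36280 : sm gh N4211 = N4211 := ded_50_2 (flp_g L36272) L25219 L36272
theorem L36281 : sm gj N2914 = N4212 := rfl
theorem L36283 : sm ga N4212 = N2919 := ded_16_1 (flp_j L25260) (flp_a L25223) L36281
theorem L36285 : sm gc N4212 = N2916 := ded_31_1 (flp_j L25237) (flp_c L25225) L36281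
theorem L36287 : sm gd N4212 = N4212 := ded_37_1 (flp_j L36281) L25227 L36281
theorem L36288 : sm gf N4212 = N4212 := ded_46_1 (flp_j L36281) L25229 L36281
theorem L36289 : sm gh N4212 = N4212 := ded_52_2 (flp_j L36281) L25228 L36281
theorem L36290 : sm gg N4212 = N4212 := ded_49_1 (flp_j L36281) (flp_g L25221) L17577 L25221 L36281
theorem L36291 : sm gf N2915 = N4213 := rfl
theorem L36293 : sm ga N4213 = N2920 := ded_14_1 (flp_f L25269) (flp_a L25232) L36291
theorem L36295 : sm gh N4213 = N4213 := ded_47_2 (flp_f L36291) L25236 L36291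
theorem L36296 : sm ge N4213 = N4213 := ded_40_1 (flp_f L36291) L25234 L17593 (flp_e L25234) L36291
theorem L36297 : sm gg N4213 = N4213 := ded_45_2 (flp_f L36291) (flp_g L25230) L17585 L25230 L36291
theorem L36298 : sm gj N2915 = N4214 := rfl
theorem L36300 : sm ga N4214 = N2921 := ded_16_1 (flp_j L25276) (flp_a L25232) L36298
theorem L36302 : sm ge N4214 = N2916 := ded_42_1 (flp_j L25237) (flp_e L25234) L36298
theorem L36304 : sm gh N4214 = N4214 := ded_52_2 (flp_j L36298) L25236 L36298
theorem L36305 : sm gg N4214 = N4214 := ded_49_1 (flp_j L36298) (flp_g L25230) L17583 L25230 L36298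
theorem L36306 : sm gg N2917 = N4215 := rfl
theorem L36308 : sm gb N4215 = N4215 := ded_23_1 (flp_g L36306) L25248 L36306
theorem L36309 : sm gd N4215 = N2918 := ded_36_1 (flp_g L25252) L25246 L36306
theorem L36311 : sm ge N4215 = N4215 := ded_41_1 (flp_g L36306) L25251 L36306
theorem L36312 : sm gh N2917 = N4216 := rfl
theorem L36319 : sm gf N2918 = N4217 := rfl
theorem L36321 : sm gb N4217 = N4217 := ded_22_1 (flp_f L36319) L25254 L36319
theorem L36322 : sm gc N4217 = N2920 := ded_29_1 (flp_f L25269) (flp_c L25255) L36319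
theorem L36324 : sm gh N4217 = N4217 := ded_47_2 (flp_f L36319) L25259 L36319
theorem L36325 : sm ge N4217 = N4217 := ded_40_1 (flp_f L36319) L25257 L17618 (flp_e L25257) L36319
theorem L36326 : sm gg N4217 = N4217 := ded_45_2 (flp_f L36319) (flp_g L25252) L17610 L25252 L36319
theorem L36327 : sm gj N2918 = N4218 := rfl
theorem L36329 : sm gb N4218 = N4218 := ded_24_1 (flp_j L36327) L25254 L36327
theorem L36330 : sm gc N4218 = N2921 := ded_31_1 (flp_j L25276) (flp_c L25255) L36327
theorem L36332 : sm ge N4218 = N2919 := ded_42_1 (flp_j L25260) (flp_e L25257) L36327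
theorem L36334 : sm gh N4218 = N4218 := ded_52_2 (flp_j L36327) L25259 L36327
theorem L36335 : sm gg N4218 = N4218 := ded_49_1 (flp_j L36327) (flp_g L25252) L17608 L25252 L36327
theorem L36336 : sm gj N2920 = N4219 := rfl
theorem L36338 : sm gb N4219 = N2922 := ded_24_1 (flp_j L25284) (flp_b L25271) L36336
theorem L36340 : sm ge N4219 = N4219 := ded_42_1 (flp_j L36336) L25274 L36336
theorem L36341 : sm gf N4219 = N2921 := ded_46_1 (flp_j L25276) L25269 L36336
theorem L36343 : sm gh N4219 = N4219 := ded_52_2 (flp_j L36336) L25273 L36336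
theorem L36344 : sm gg N2922 = N4220 := rfl
theorem L36351 : sm gb N2923 = N4221 := rfl
theorem L36354 : sm ge N4221 = N2981 := ded_21_2 (flp_b L25773) (flp_e L25295) L36351
theorem L36357 : sm gj N4221 = N2939 := ded_24_2 (flp_b L25432) (flp_j L25298) L36351
theorem L36361 : sm gf N2923 = N4222 := rfl
theorem L36363 : sm ga N4222 = N2927 := ded_14_1 (flp_f L25328) (flp_a L25293) L36361
theorem L36365 : sm gc N4222 = N2924 := ded_29_1 (flp_f L25302) L25291 L36361
theorem L36368 : sm gj N4222 = N2940 := ded_46_2 (flp_f L25441) (flp_j L25298) L36361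
theorem L36371 : sm gh N2923 = N4223 := rfl
theorem L36377 : sm ge N4223 = N2983 := ded_43_1 (flp_h L25793) (flp_e L25295) L36371
theorem L36380 : sm gj N4223 = N2941 := ded_52_1 (flp_h L25449) (flp_j L25298) L36371
theorem L36382 : sm ge N2924 = N4224 := rfl
theorem L36384 : sm ga N4224 = N2929 := ded_13_1 (flp_e L25347) (flp_a L25304) L36382
theorem L36386 : sm gj N4224 = N2942 := ded_42_2 (flp_e L25459) (flp_j L25308) L36382
theorem L36388 : sm gi N4224 = N4224 := ded_44_2 (flp_e L36382) L25310 L36382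
theorem L36389 : sm gd N4224 = N4224 := ded_34_1 (flp_e L36382) L25306 L17666 (flp_d L25306) L36382
theorem L36390 : sm gf N4224 = N2984 := ded_40_2 (flp_e L25802) (flp_f L18011) (flp_e L17656) L25302 L36382
theorem L36392 : sm gg N2924 = N4225 := rfl
theorem L36394 : sm ga N4225 = N2930 := ded_15_1 (flp_g L25357) (flp_a L25304) L36392
theorem L36396 : sm gd N4225 = N2926 := ded_36_1 (flp_g L25320) (flp_d L25306) L36392
theorem L36398 : sm gi N4225 = N4225 := ded_51_2 (flp_g L36392) L25310 L36392
theorem L36399 : sm gf N4225 = N4225 := ded_45_1 (flp_g L36392) (flp_f L25302) L17652 L25302 L36392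
theorem L36400 : sm gh N2924 = N4226 := rfl
theorem L36418 : sm gj N2926 = N4228 := rfl
theorem L36420 : sm ga N4228 = N2933 := ded_16_1 (flp_j L25383) (flp_a L25322) L36418
theorem L36422 : sm gc N4228 = N4228 := ded_31_1 (flp_j L36418) L25324 L36418
theorem L36423 : sm ge N4228 = N4228 := ded_42_1 (flp_j L36418) L25325 L36418
theorem L36424 : sm gf N4228 = N4228 := ded_46_1 (flp_j L36418) L25327 L36418
theorem L36425 : sm gi N4228 = N4228 := ded_53_2 (flp_j L36418) L25326 L36418
theorem L36426 : sm gg N4228 = N2946 := ded_49_1 (flp_j L25491) (flp_g L17769) (flp_j L17663) L25320 L36418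
theorem L36428 : sm ge N2927 = N4229 := rfl
theorem L36431 : sm gc N4229 = N2929 := ded_28_1 (flp_e L25347) (flp_c L25331) L36428
theorem L36433 : sm gj N4229 = N2947 := ded_42_2 (flp_e L25500) (flp_j L25334) L36428
theorem L36436 : sm gf N4229 = N2988 := ded_40_2 (flp_e L25837) (flp_f L18039) (flp_e L17669) L25328 L36428
theorem L36438 : sm gg N2927 = N4230 := rfl
theorem L36441 : sm gc N4230 = N2930 := ded_30_1 (flp_g L25357) (flp_c L25331) L36438
theorem L36446 : sm gh N2927 = N4231 := rfl
theorem L36449 : sm gc N4231 = N2931 := ded_32_1 (flp_h L25365) (flp_c L25331) L36446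
theorem L36451 : sm gf N4231 = N2928 := ded_47_1 (flp_h L25337) L25328 L36446
theorem L36453 : sm gj N4231 = N2949 := ded_52_1 (flp_h L25517) (flp_j L25334) L36446
theorem L36455 : sm gd N2928 = N4232 := rfl
theorem L36459 : sm gj N4232 = N2950 := ded_37_2 (flp_d L25524) (flp_j L25345) L36455
theorem L36462 : sm gi N2928 = N4233 := rfl
theorem L36470 : sm gj N4233 = N2951 := ded_53_1 (flp_i L25530) (flp_j L25345) L36462
theorem L36473 : sm gg N2929 = N4234 := rfl
theorem L36475 : sm gb N4234 = N2934 := ded_23_1 (flp_g L25393) (flp_b L25349) L36473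
theorem L36477 : sm gd N4234 = N4234 := ded_36_1 (flp_g L36473) L25354 L36473
theorem L36478 : sm ge N4234 = N2930 := ded_41_1 (flp_g L25357) L25347 L36473
theorem L36480 : sm gi N4234 = N4234 := ded_51_2 (flp_g L36473) L25353 L36473
theorem L36481 : sm gh N2929 = N4235 := rfl
theorem L36483 : sm gb N4235 = N2935 := ded_25_1 (flp_h L25400) (flp_b L25349) L36481
theorem L36485 : sm ge N4235 = N2931 := ded_43_1 (flp_h L25365) L25347 L36481
theorem L36487 : sm gf N4235 = N2994 := ded_47_1 (flp_h L25891) (flp_f L25355) L36481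
theorem L36491 : sm gj N2930 = N4236 := rfl
theorem L36493 : sm gb N4236 = N2936 := ded_24_1 (flp_j L25409) (flp_b L25359) L36491
theorem L36495 : sm gd N4236 = N2933 := ded_37_1 (flp_j L25383) (flp_d L25361) L36491
theorem L36497 : sm gf N4236 = N4236 := ded_46_1 (flp_j L36491) L25364 L36491
theorem L36498 : sm gi N4236 = N4236 := ded_53_2 (flp_j L36491) L25363 L36491
theorem L36499 : sm gg N4236 = N2954 := ded_49_1 (flp_j L25557) (flp_g L17802) (flp_j L17683) L25357 L36491
theorem L36501 : sm gh N2930 = N4237 := rfl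
theorem L36517 : sm gf N2934 = N4239 := rfl
theorem L36523 : sm gg N4239 = N2997 := ded_45_2 (flp_f L25918) (flp_g L18092) (flp_f L17710) L25393 L36517
theorem L36525 : sm gj N2934 = N4240 := rfl
theorem L36529 : sm ge N4240 = N2936 := ded_42_1 (flp_j L25409) (flp_e L25397) L36525
theorem L36532 : sm gg N4240 = N2957 := ded_49_1 (flp_j L25581) (flp_g L17835) (flp_j L17706) L25393 L36525
theorem L36534 : sm gh N2934 = N4241 := rfl
theorem L36537 : sm ge N4241 = N2937 := ded_43_1 (flp_h L25418) (flp_e L25397) L36534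
theorem L36539 : sm gg N4241 = N2935 := ded_50_1 (flp_h L25400) L25393 L36534
theorem L36541 : sm gd N2935 = N4242 := rfl
theorem L36545 : sm gj N4242 = N2959 := ded_37_2 (flp_d L25597) (flp_j L25407) L36541
theorem L36548 : sm gi N2935 = N4243 := rfl
theorem L36551 : sm ge N4243 = N2938 := ded_44_1 (flp_i L25424) (flp_e L25403) L36548
theorem L36553 : sm gf N4243 = N3000 := ded_48_1 (flp_i L25939) (flp_f L25405) L36548
theorem L36555 : sm gj N4243 = N2960 := ded_53_1 (flp_i L25602) (flp_j L25407) L36548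
theorem L36558 : sm gh N2936 = N4244 := rfl
theorem L36562 : sm gg N4244 = N2961 := ded_50_1 (flp_h L25610) (flp_g L25416) L36558
theorem L36564 : sm gj N4244 = N2937 := ded_52_1 (flp_h L25418) L25409 L36558
theorem L36566 : sm gi N2937 = N4245 := rfl
theorem L36573 : sm gf N2939 = N4246 := rfl
theorem L36576 : sm gb N4246 = N2940 := ded_22_1 (flp_f L25441) L25432 L36573
theorem L36580 : sm gh N2939 = N4247 := rfl
theorem L36585 : sm ge N4247 = N3003 := ded_43_1 (flp_h L25965) (flp_e L25435) L36580
theorem L36587 : sm gg N4247 = N2964 := ded_50_1 (flp_h L25634) (flp_g L25437) L36580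
theorem L36589 : sm ge N2940 = N4248 := rfl
theorem L36591 : sm ga N4248 = N2947 := ded_13_1 (flp_e L25500) (flp_a L25443) L36589
theorem L36593 : sm gc N4248 = N2942 := ded_28_1 (flp_e L25459) (flp_c L25445) L36589
theorem L36596 : sm gf N4248 = N3004 := ded_40_2 (flp_e L25972) (flp_f L18132) (flp_e L17748) L25441 L36589
theorem L36598 : sm gg N2940 = N4249 := rfl
theorem L36600 : sm ga N4249 = N2948 := ded_15_1 (flp_g L25508) (flp_a L25443) L36598
theorem L36602 : sm gc N4249 = N2943 := ded_30_1 (flp_g L25467) (flp_c L25445) L36598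
theorem L36606 : sm gf N4249 = N2965 := ded_45_1 (flp_g L25642) (flp_f L17879) (flp_g L17750) L25441 L36598
theorem L36608 : sm gh N2940 = N4250 := rfl
theorem L36612 : sm gc N4250 = N2944 := ded_32_1 (flp_h L25476) (flp_c L25445) L36608
theorem L36616 : sm gd N2941 = N4251 := rfl
theorem L36618 : sm ga N4251 = N2950 := ded_12_1 (flp_d L25524) (flp_a L25451) L36616
theorem L36620 : sm gg N4251 = N2967 := ded_36_2 (flp_d L25661) (flp_g L25457) L36616
theorem L36634 : sm gg N2942 = N4253 := rfl
theorem L36636 : sm ga N4253 = N2952 := ded_15_1 (flp_g L25540) (flp_a L25461) L36634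
theorem L36638 : sm gd N4253 = N4253 := ded_36_1 (flp_g L36634) L25464 L36634
theorem L36639 : sm ge N4253 = N2943 := ded_41_1 (flp_g L25467) L25459 L36634
theorem L36641 : sm gi N4253 = N4253 := ded_51_2 (flp_g L36634) L25463 L36634
theorem L36642 : sm gf N4253 = N4253 := ded_45_1 (flp_g L36634) L25465 L18154 (flp_f L25465) L36634
theorem L36643 : sm gh N2942 = N4254 := rfl
theorem L36645 : sm ga N4254 = N2953 := ded_17_1 (flp_h L25549) (flp_a L25461) L36643
theorem L36647 : sm ge N4254 = N2944 := ded_43_1 (flp_h L25476) L25459 L36643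
theorem L36651 : sm gj N2943 = N4255 := rfl
theorem L36653 : sm ga N4255 = N2954 := ded_16_1 (flp_j L25557) (flp_a L25469) L36651
theorem L36655 : sm gd N4255 = N2946 := ded_37_1 (flp_j L25491) (flp_d L25471) L36651
theorem L36657 : sm gf N4255 = N2969 := ded_46_1 (flp_j L25677) (flp_f L25474) L36651
theorem L36659 : sm gi N4255 = N4255 := ded_53_2 (flp_j L36651) L25473 L36651
theorem L36660 : sm gh N2943 = N4256 := rfl
theorem L36662 : sm ga N4256 = N2955 := ded_17_1 (flp_h L25566) (flp_a L25469) L36660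
theorem L36675 : sm gd N2947 = N4258 := rfl
theorem L36678 : sm gf N4258 = N3010 := ded_35_2 (flp_d L26023) (flp_f L25506) L36675
theorem L36683 : sm gg N2947 = N4259 := rfl
theorem L36686 : sm gc N4259 = N2952 := ded_30_1 (flp_g L25540) (flp_c L25503) L36683
theorem L36692 : sm gh N2947 = N4260 := rfl
theorem L36695 : sm gc N4260 = N2953 := ded_32_1 (flp_h L25549) (flp_c L25503) L36692
theorem L36697 : sm ge N4260 = N2949 := ded_43_1 (flp_h L25517) L25500 L36692
theorem L36699 : sm gf N4260 = N3011 := ded_47_1 (flp_h L26031) (flp_f L25506) L36692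
theorem L36701 : sm gj N2948 = N4261 := rfl
theorem L36704 : sm gc N4261 = N2954 := ded_31_1 (flp_j L25557) (flp_c L25511) L36701
theorem L36707 : sm gf N4261 = N2972 := ded_46_1 (flp_j L25702) (flp_f L25515) L36701
theorem L36710 : sm gh N2948 = N4262 := rfl
theorem L36713 : sm gc N4262 = N2955 := ded_32_1 (flp_h L25566) (flp_c L25511) L36710
theorem L36717 : sm gg N4262 = N2949 := ded_50_1 (flp_h L25517) L25508 L36710
theorem L36719 : sm gd N2949 = N4263 := rfl
theorem L36733 : sm ge N2950 = N4265 := rfl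
theorem L36736 : sm gg N4265 = N2976 := ded_41_2 (flp_e L25736) (flp_g L25527) L36733
theorem L36739 : sm gd N4265 = N3014 := ded_34_1 (flp_e L26057) (flp_d L18188) (flp_e L17790) L25524 L36733
theorem L36748 : sm gj N2952 = N4267 := rfl
theorem L36750 : sm gb N4267 = N2957 := ded_24_1 (flp_j L25581) (flp_b L25542) L36748
theorem L36752 : sm gd N4267 = N4267 := ded_37_1 (flp_j L36748) L25544 L36748
theorem L36753 : sm ge N4267 = N2954 := ded_42_1 (flp_j L25557) (flp_e L25545) L36748
theorem L36755 : sm gf N4267 = N4267 := ded_46_1 (flp_j L36748) L25548 L36748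
theorem L36756 : sm gi N4267 = N4267 := ded_53_2 (flp_j L36748) L25547 L36748
theorem L36757 : sm gh N2952 = N4268 := rfl
theorem L36759 : sm gb N4268 = N2958 := ded_25_1 (flp_h L25589) (flp_b L25542) L36757
theorem L36761 : sm ge N4268 = N2955 := ded_43_1 (flp_h L25566) (flp_e L25545) L36757
theorem L36764 : sm gg N4268 = N2953 := ded_50_1 (flp_h L25549) L25540 L36757
theorem L36766 : sm gd N2953 = N4269 := rfl
theorem L36770 : sm gf N4269 = N3016 := ded_35_2 (flp_d L26073) (flp_f L25555) L36766
theorem L36773 : sm gi N2953 = N4270 := rfl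
theorem L36777 : sm ge N4270 = N2956 := ded_44_1 (flp_i L25574) (flp_e L25553) L36773
theorem L36782 : sm gh N2954 = N4271 := rfl
theorem L36788 : sm gj N4271 = N2955 := ded_52_1 (flp_h L25566) L25557 L36782
theorem L36790 : sm gi N2955 = N4272 := rfl
theorem L36794 : sm gf N4272 = N2979 := ded_48_1 (flp_i L25757) (flp_f L25570) L36790
theorem L36796 : sm gg N4272 = N2956 := ded_51_1 (flp_i L25574) (flp_g L25572) L36790
theorem L36799 : sm gh N2957 = N4273 := rfl
theorem L36802 : sm ge N4273 = N2961 := ded_43_1 (flp_h L25610) (flp_e L25585) L36799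
theorem L36805 : sm gj N4273 = N2958 := ded_52_1 (flp_h L25589) L25581 L36799
theorem L36807 : sm gd N2958 = N4274 := rfl
theorem L36810 : sm gg N4274 = N2959 := ded_36_2 (flp_d L25597) (flp_g L25595) L36807
theorem L36813 : sm gi N2958 = N4275 := rfl
theorem L36822 : sm gc N2959 = N4276 := rfl
theorem L36824 : sm gf N4276 = N3018 := ded_29_2 (flp_c L26088) (flp_f L25599) L36822
theorem L36828 : sm gi N2959 = N4277 := rfl
theorem L36832 : sm gf N4277 = N3019 := ded_48_1 (flp_i L26094) (flp_f L25599) L36828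
theorem L36834 : sm gi N2961 = N4278 := rfl
theorem L36842 : sm gg N2963 = N4279 := rfl
theorem L36845 : sm gb N4279 = N2965 := ded_23_1 (flp_g L25642) (flp_b L25628) L36842
theorem L36850 : sm gh N2963 = N4280 := rfl
theorem L36856 : sm gf N4280 = N2964 := ded_47_1 (flp_h L25634) L25625 L36850
theorem L36859 : sm gd N2964 = N4281 := rfl
theorem L36862 : sm gb N4281 = N2967 := ded_20_1 (flp_d L25661) (flp_b L25637) L36859
theorem L36866 : sm gi N2964 = N4282 := rfl
theorem L36875 : sm gj N2965 = N4283 := rfl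
theorem L36877 : sm ga N4283 = N2972 := ded_16_1 (flp_j L25702) (flp_a L25644) L36875
theorem L36879 : sm gc N4283 = N2969 := ded_31_1 (flp_j L25677) (flp_c L25646) L36875
theorem L36885 : sm gh N2965 = N4284 := rfl
theorem L36889 : sm gc N4284 = N2970 := ded_32_1 (flp_h L25686) (flp_c L25646) L36885
theorem L36892 : sm gg N4284 = N2966 := ded_50_1 (flp_h L25651) L25642 L36885
theorem L36894 : sm gd N2966 = N4285 := rfl
theorem L36898 : sm gf N4285 = N2967 := ded_35_2 (flp_d L25661) (flp_f L25658) L36894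
theorem L36913 : sm ge N2967 = N4287 := rfl
theorem L36921 : sm gi N2967 = N4288 := rfl
theorem L36928 : sm gh N2969 = N4289 := rfl
theorem L36936 : sm gi N2970 = N4290 := rfl
theorem L36941 : sm gg N4290 = N2971 := ded_51_1 (flp_i L25693) (flp_g L25691) L36936
theorem L36944 : sm gh N2972 = N4291 := rfl
theorem L36947 : sm gc N4291 = N2978 := ded_32_1 (flp_h L25749) (flp_c L25705) L36944
theorem L36982 : sm gf N2976 = N4296 := rfl
theorem L36985 : sm gd N4296 = N3024 := ded_35_1 (flp_f L26134) (flp_d L25741) L36982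
theorem L36989 : sm gi N2976 = N4297 := rfl
theorem L36992 : sm gd N4297 = N3025 := ded_39_1 (flp_i L26142) (flp_d L25741) L36989
theorem L37003 : sm gi N2978 = N4299 := rfl
theorem L37009 : sm gj N4299 = N2979 := ded_53_1 (flp_i L25757) (flp_j L25755) L37003
theorem L37012 : sm gf N2981 = N4300 := rfl
theorem L37015 : sm gb N4300 = N2982 := ded_22_1 (flp_f L25782) L25773 L37012
theorem L37017 : sm gd N4300 = N3027 := ded_35_1 (flp_f L26158) (flp_d L25775) L37012
theorem L37019 : sm gj N4300 = N3002 := ded_46_2 (flp_f L25956) (flp_j L25778) L37012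
theorem L37022 : sm gh N2981 = N4301 := rfl
theorem L37025 : sm gb N4301 = N2983 := ded_25_1 (flp_h L25793) L25773 L37022
theorem L37028 : sm gj N4301 = N3003 := ded_52_1 (flp_h L25965) (flp_j L25778) L37022
theorem L37030 : sm ge N2982 = N4302 := rfl
theorem L37032 : sm ga N4302 = N2988 := ded_13_1 (flp_e L25837) (flp_a L25784) L37030
theorem L37034 : sm gc N4302 = N2984 := ded_28_1 (flp_e L25802) (flp_c L25786) L37030
theorem L37036 : sm gj N4302 = N3004 := ded_42_2 (flp_e L25972) (flp_j L25790) L37030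
theorem L37039 : sm gg N2982 = N4303 := rfl
theorem L37043 : sm gc N4303 = N2985 := ded_30_1 (flp_g L25810) (flp_c L25786) L37039
theorem L37045 : sm gd N4303 = N3030 := ded_36_1 (flp_g L26187) (flp_d L25788) L37039
theorem L37050 : sm gh N2982 = N4304 := rfl
theorem L37056 : sm gf N4304 = N2983 := ded_47_1 (flp_h L25793) L25782 L37050
theorem L37058 : sm gj N4304 = N3005 := ded_52_1 (flp_h L25980) (flp_j L25790) L37050
theorem L37060 : sm gd N2983 = N4305 := rfl
theorem L37062 : sm ga N4305 = N2991 := ded_12_1 (flp_d L25864) (flp_a L25795) L37060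
theorem L37065 : sm gj N4305 = N3006 := ded_37_2 (flp_d L25989) (flp_j L25800) L37060
theorem L37068 : sm gh N4305 = N3032 := ded_38_2 (flp_d L26206) (flp_h L18290) (flp_d L18009) L25793 L37060
theorem L37070 : sm gi N2983 = N4306 := rfl
theorem L37077 : sm gj N4306 = N3007 := ded_53_1 (flp_i L25998) (flp_j L25800) L37070
theorem L37080 : sm gg N2984 = N4307 := rfl
theorem L37082 : sm ga N4307 = N2993 := ded_15_1 (flp_g L25882) (flp_a L25804) L37080
theorem L37084 : sm gd N4307 = N4307 := ded_36_1 (flp_g L37080) L25809 L37080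
theorem L37085 : sm ge N4307 = N2985 := ded_41_1 (flp_g L25810) L25802 L37080
theorem L37087 : sm gi N4307 = N4307 := ded_51_2 (flp_g L37080) L25808 L37080
theorem L37088 : sm gj N4307 = N4307 := ded_49_2 (flp_g L37080) L25806 L18154 (flp_j L25806) L37080
theorem L37089 : sm gh N2984 = N4308 := rfl
theorem L37095 : sm gj N4308 = N3008 := ded_52_1 (flp_h L26007) (flp_j L25806) L37089
theorem L37097 : sm gh N2985 = N4309 := rfl
theorem L37102 : sm gg N4309 = N2986 := ded_50_1 (flp_h L25819) L25810 L37097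
theorem L37106 : sm gi N2986 = N4310 := rfl
theorem L37113 : sm gj N4310 = N3009 := ded_53_1 (flp_i L26014) (flp_j L25825) L37106
theorem L37116 : sm gd N2988 = N4311 := rfl
theorem L37119 : sm gj N4311 = N3010 := ded_37_2 (flp_d L26023) (flp_j L25842) L37116
theorem L37123 : sm ge N4311 = N3038 := ded_34_2 (flp_d L26266) (flp_e L18341) (flp_d L18044) L25837 L37116
theorem L37125 : sm gg N2988 = N4312 := rfl
theorem L37128 : sm gc N4312 = N2993 := ded_30_1 (flp_g L25882) (flp_c L25840) L37125
theorem L37130 : sm ge N4312 = N2989 := ded_41_1 (flp_g L25845) L25837 L37125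
theorem L37134 : sm gh N2988 = N4313 := rfl
theorem L37139 : sm ge N4313 = N2990 := ded_43_1 (flp_h L25855) L25837 L37134
theorem L37141 : sm gj N4313 = N3011 := ded_52_1 (flp_h L26031) (flp_j L25842) L37134
theorem L37143 : sm gh N2989 = N4314 := rfl
theorem L37149 : sm gg N4314 = N2990 := ded_50_1 (flp_h L25855) L25845 L37143
theorem L37152 : sm gd N2990 = N4315 := rfl
theorem L37157 : sm gj N4315 = N3012 := ded_37_2 (flp_d L26039) (flp_j L25862) L37152
theorem L37160 : sm gh N4315 = N3042 := ded_38_2 (flp_d L26302) (flp_h L18358) (flp_d L18044) L25855 L37152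
theorem L37162 : sm gi N2990 = N4316 := rfl
theorem L37169 : sm gj N4316 = N3013 := ded_53_1 (flp_i L26048) (flp_j L25862) L37162
theorem L37172 : sm ge N2991 = N4317 := rfl
theorem L37177 : sm gj N4317 = N3014 := ded_42_2 (flp_e L26057) (flp_j L25868) L37172
theorem L37179 : sm gh N4317 = N3044 := ded_43_2 (flp_e L26320) (flp_h L25871) L37172
theorem L37190 : sm gf N2993 = N4319 := rfl
theorem L37192 : sm gb N4319 = N2997 := ded_22_1 (flp_f L25918) (flp_b L25884) L37190
theorem L37194 : sm gd N4319 = N4319 := ded_35_1 (flp_f L37190) L25886 L37190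
theorem L37195 : sm gj N4319 = N4319 := ded_46_2 (flp_f L37190) L25890 L37190
theorem L37196 : sm gi N4319 = N4319 := ded_48_2 (flp_f L37190) L25889 L37190
theorem L37197 : sm ge N4319 = N4319 := ded_40_1 (flp_f L37190) L25887 L18072 (flp_e L25887) L37190
theorem L37198 : sm gh N2993 = N4320 := rfl
theorem L37200 : sm gb N4320 = N2998 := ded_25_1 (flp_h L25925) (flp_b L25884) L37198
theorem L37204 : sm gg N4320 = N2994 := ded_50_1 (flp_h L25891) L25882 L37198
theorem L37207 : sm gd N2994 = N4321 := rfl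
theorem L37209 : sm gb N4321 = N2999 := ded_20_1 (flp_d L25933) (flp_b L25893) L37207
theorem L37211 : sm gj N4321 = N3016 := ded_37_2 (flp_d L26073) (flp_j L25897) L37207
theorem L37234 : sm gh N2997 = N4324 := rfl
theorem L37238 : sm gf N4324 = N2998 := ded_47_1 (flp_h L25925) L25918 L37234
theorem L37241 : sm gd N2998 = N4325 := rfl
theorem L37243 : sm gg N4325 = N2999 := ded_36_2 (flp_d L25933) (flp_g L25930) L37241
theorem L37248 : sm gi N2998 = N4326 := rfl
theorem L37251 : sm ge N4326 = N3001 := ded_44_1 (flp_i L25947) (flp_e L25928) L37248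
theorem L37257 : sm gc N2999 = N4327 := rfl
theorem L37260 : sm gj N4327 = N3018 := ded_31_2 (flp_c L26088) (flp_j L25935) L37257
theorem L37264 : sm gi N2999 = N4328 := rfl
theorem L37269 : sm gj N4328 = N3019 := ded_53_1 (flp_i L26094) (flp_j L25935) L37264
theorem L37271 : sm ge N3002 = N4329 := rfl
theorem L37278 : sm gh N3002 = N4330 := rfl
theorem L37286 : sm gd N3003 = N4331 := rfl
theorem L37291 : sm gg N4331 = N3020 := ded_36_2 (flp_d L26100) (flp_g L25970) L37286
theorem L37293 : sm gh N4331 = N3058 := ded_38_2 (flp_d L26447) (flp_h L18475) (flp_d L18126) L25965 L37286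
theorem L37303 : sm gd N3004 = N4333 := rfl
theorem L37305 : sm ga N4333 = N3010 := ded_12_1 (flp_d L26023) (flp_a L25974) L37303
theorem L37310 : sm ge N4333 = N3060 := ded_34_2 (flp_d L26464) (flp_e L18484) (flp_d L18138) L25972 L37303
theorem L37312 : sm gh N3004 = N4334 := rfl
theorem L37318 : sm ge N4334 = N3005 := ded_43_1 (flp_h L25980) L25972 L37312
theorem L37321 : sm gd N3005 = N4335 := rfl
theorem L37325 : sm gf N4335 = N3006 := ded_35_2 (flp_d L25989) (flp_f L25986) L37321
theorem L37329 : sm gh N4335 = N3062 := ded_38_2 (flp_d L26482) (flp_h L18493) (flp_d L18138) L25980 L37321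
theorem L37341 : sm ge N3006 = N4337 := rfl
theorem L37348 : sm gh N4337 = N3064 := ded_43_2 (flp_e L26500) (flp_h L25996) L37341
theorem L37350 : sm gi N3006 = N4338 := rfl
theorem L37357 : sm gg N4338 = N3023 := ded_51_1 (flp_i L26125) (flp_g L25993) L37350
theorem L37359 : sm gd N3008 = N4339 := rfl
theorem L37374 : sm gh N3010 = N4341 := rfl
theorem L37378 : sm ge N4341 = N3068 := ded_43_1 (flp_h L26536) (flp_e L26029) L37374
theorem L37381 : sm gd N3011 = N4342 := rfl
theorem L37394 : sm ge N3012 = N4344 := rfl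
theorem L37399 : sm gh N4344 = N3071 := ded_43_2 (flp_e L26557) (flp_h L26046) L37394
theorem L37410 : sm gf N3014 = N4346 := rfl
theorem L37414 : sm gh N4346 = N3073 := ded_47_2 (flp_f L26571) (flp_h L26063) L37410
theorem L37416 : sm gi N3014 = N4347 := rfl
theorem L37433 : sm gc N3016 = N4349 := rfl
theorem L37446 : sm gb N3018 = N4351 := rfl
theorem L37452 : sm gi N3018 = N4352 := rfl
theorem L37454 : sm gc N4352 = N3019 := ded_33_1 (flp_i L26094) L26088 L37452
theorem L37459 : sm gh N3019 = N4353 := rfl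
theorem L37465 : sm gc N3020 = N4354 := rfl
theorem L37470 : sm gh N4354 = N3081 := ded_32_2 (flp_c L26631) (flp_h L26107) L37465
theorem L37473 : sm ge N3020 = N4355 := rfl
theorem L37479 : sm gh N4355 = N3082 := ded_43_2 (flp_e L26638) (flp_h L26107) L37473
theorem L37490 : sm gf N3022 = N4357 := rfl
theorem L37496 : sm gh N4357 = N3084 := ded_47_2 (flp_f L26654) (flp_h L26123) L37490
theorem L37507 : sm gh N3023 = N4359 := rfl
theorem L37515 : sm gi N4359 = N3086 := ded_54_2 (flp_h L26671) (flp_i L18642) (flp_h L18246) L26125 L37507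
theorem L37517 : sm gg N3024 = N4360 := rfl
theorem L37522 : sm gh N4360 = N3087 := ded_50_2 (flp_g L26679) (flp_h L26139) L37517
theorem L37532 : sm gh N3025 = N4362 := rfl
theorem L37539 : sm gi N4362 = N3089 := ded_54_2 (flp_h L26694) (flp_i L18658) (flp_h L18262) L26142 L37532
theorem L37541 : sm ge N3027 = N4363 := rfl
theorem L37544 : sm gb N4363 = N3029 := ded_21_1 (flp_e L26177) (flp_b L26161) L37541
theorem L37547 : sm gj N4363 = N3056 := ded_42_2 (flp_e L26429) (flp_j L26164) L37541
theorem L37551 : sm gg N3027 = N4364 := rfl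
theorem L37554 : sm gb N4364 = N3030 := ded_23_1 (flp_g L26187) (flp_b L26161) L37551
theorem L37560 : sm gh N3027 = N4365 := rfl
theorem L37566 : sm gf N4365 = N3028 := ded_47_1 (flp_h L26167) L26158 L37560
theorem L37568 : sm gj N4365 = N3057 := ded_52_1 (flp_h L26438) (flp_j L26164) L37560
theorem L37570 : sm gd N3028 = N4366 := rfl
theorem L37576 : sm gj N4366 = N3058 := ded_37_2 (flp_d L26447) (flp_j L26175) L37570
theorem L37589 : sm gd N3029 = N4368 := rfl
theorem L37591 : sm ga N4368 = N3038 := ded_12_1 (flp_d L26266) (flp_a L26179) L37589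
theorem L37594 : sm gj N4368 = N3060 := ded_37_2 (flp_d L26464) (flp_j L26183) L37589
theorem L37598 : sm gg N3029 = N4369 := rfl
theorem L37600 : sm ga N4369 = N3039 := ded_15_1 (flp_g L26274) (flp_a L26179) L37598
theorem L37602 : sm gc N4369 = N3034 := ded_30_1 (flp_g L26225) (flp_c L26181) L37598
theorem L37608 : sm gh N3029 = N4370 := rfl
theorem L37612 : sm gc N4370 = N3035 := ded_32_1 (flp_h L26235) (flp_c L26181) L37608
theorem L37617 : sm gj N4370 = N3061 := ded_52_1 (flp_h L26472) (flp_j L26183) L37608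
theorem L37619 : sm gh N3030 = N4371 := rfl
theorem L37623 : sm gc N4371 = N3036 := ded_32_1 (flp_h L26245) (flp_c L26191) L37619
theorem L37626 : sm gg N4371 = N3031 := ded_50_1 (flp_h L26196) L26187 L37619
theorem L37629 : sm gd N3031 = N4372 := rfl
theorem L37631 : sm ga N4372 = N3042 := ded_12_1 (flp_d L26302) (flp_a L26198) L37629
theorem L37633 : sm gf N4372 = N3032 := ded_35_2 (flp_d L26206) (flp_f L26202) L37629
theorem L37638 : sm gi N3031 = N4373 := rfl
theorem L37649 : sm ge N3032 = N4374 := rfl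
theorem L37655 : sm gj N4374 = N3064 := ded_42_2 (flp_e L26500) (flp_j L26211) L37649
theorem L37658 : sm gi N3032 = N4375 := rfl
theorem L37668 : sm gf N3034 = N4376 := rfl
theorem L37670 : sm ga N4376 = N3046 := ded_14_1 (flp_f L26337) (flp_a L26227) L37668
theorem L37672 : sm gb N4376 = N4376 := ded_22_1 (flp_f L37668) L26229 L37668
theorem L37673 : sm gd N4376 = N4376 := ded_35_1 (flp_f L37668) L26230 L37668
theorem L37674 : sm gj N4376 = N4376 := ded_46_2 (flp_f L37668) L26234 L37668
theorem L37675 : sm gi N4376 = N4376 := ded_48_2 (flp_f L37668) L26233 L37668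
theorem L37676 : sm ge N4376 = N4376 := ded_40_1 (flp_f L37668) L26231 L18318 (flp_e L26231) L37668
theorem L37677 : sm gg N4376 = N4376 := ded_45_2 (flp_f L37668) (flp_g L26225) L18309 L26225 L37668
theorem L37678 : sm gh N3034 = N4377 := rfl
theorem L37680 : sm ga N4377 = N3047 := ded_17_1 (flp_h L26346) (flp_a L26227) L37678
theorem L37685 : sm gg N4377 = N3035 := ded_50_1 (flp_h L26235) L26225 L37678
theorem L37688 : sm gd N3035 = N4378 := rfl
theorem L37690 : sm ga N4378 = N3048 := ded_12_1 (flp_d L26355) (flp_a L26237) L37688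
theorem L37694 : sm gj N4378 = N3066 := ded_37_2 (flp_d L26517) (flp_j L26243) L37688
theorem L37698 : sm gi N3035 = N4379 := rfl
theorem L37709 : sm gi N3036 = N4380 := rfl
theorem L37720 : sm gg N3038 = N4381 := rfl
theorem L37724 : sm gd N4381 = N3039 := ded_36_1 (flp_g L26274) L26266 L37720
theorem L37728 : sm gh N3038 = N4382 := rfl
theorem L37733 : sm gj N4382 = N3068 := ded_52_1 (flp_h L26536) (flp_j L26270) L37728
theorem L37735 : sm gf N3039 = N4383 := rfl
theorem L37738 : sm gc N4383 = N3046 := ded_29_1 (flp_f L26337) (flp_c L26277) L37735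
theorem L37744 : sm gh N3039 = N4384 := rfl
theorem L37751 : sm gg N4384 = N3040 := ded_50_1 (flp_h L26283) L26274 L37744
theorem L37754 : sm gd N3040 = N4385 := rfl
theorem L37758 : sm gj N4385 = N3069 := ded_37_2 (flp_d L26542) (flp_j L26291) L37754
theorem L37771 : sm gd N3041 = N4387 := rfl
theorem L37789 : sm ge N3042 = N4389 := rfl
theorem L37793 : sm gj N4389 = N3071 := ded_42_2 (flp_e L26557) (flp_j L26307) L37789
theorem L37805 : sm gf N3044 = N4391 := rfl
theorem L37810 : sm gj N4391 = N3073 := ded_46_2 (flp_f L26571) (flp_j L26325) L37805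
theorem L37812 : sm gi N3044 = N4392 := rfl
theorem L37820 : sm gj N4392 = N3074 := ded_53_1 (flp_i L26576) (flp_j L26325) L37812
theorem L37830 : sm gh N3046 = N4394 := rfl
theorem L37832 : sm gb N4394 = N3051 := ded_25_1 (flp_h L26384) (flp_b L26339) L37830
theorem L37835 : sm gf N4394 = N3047 := ded_47_1 (flp_h L26346) L26337 L37830
theorem L37839 : sm gd N3047 = N4395 := rfl
theorem L37841 : sm gb N4395 = N3052 := ded_20_1 (flp_d L26393) (flp_b L26348) L37839
theorem L37858 : sm gc N3048 = N4397 := rfl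
theorem L37862 : sm gj N4397 = N3076 := ded_31_2 (flp_c L26592) (flp_j L26360) L37858
theorem L37875 : sm gd N3051 = N4399 := rfl
theorem L37877 : sm ga N4399 = N4399 := ded_12_1 (flp_d L37875) L26386 L37875
theorem L37878 : sm gf N4399 = N3052 := ded_35_2 (flp_d L26393) (flp_f L26389) L37875
theorem L37880 : sm gg N4399 = N4399 := ded_36_2 (flp_d L37875) L26391 L37875
theorem L37881 : sm gj N4399 = N4399 := ded_37_2 (flp_d L37875) L26392 L37875
theorem L37882 : sm gh N4399 = N4399 := ded_38_2 (flp_d L37875) (flp_h L26384) L18425 L26384 L37875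
theorem L37883 : sm gi N3051 = N4400 := rfl
theorem L37893 : sm gc N3052 = N4401 := rfl
theorem L37895 : sm ga N4401 = N4401 := ded_11_1 (flp_c L37893) L26395 L37893
theorem L37896 : sm ge N4401 = N4401 := ded_28_2 (flp_c L37893) L26399 L37893
theorem L37897 : sm gg N4401 = N3054 := ded_30_2 (flp_c L26411) (flp_g L26396) L37893
theorem L37899 : sm gj N4401 = N4401 := ded_31_2 (flp_c L37893) L26398 L37893
theorem L37900 : sm gh N4401 = N4401 := ded_32_2 (flp_c L37893) L26400 L37893
theorem L37901 : sm gd N4401 = N4401 := ded_27_2 (flp_c L37893) (flp_d L26393) L18433 L26393 L37893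
theorem L37902 : sm gi N3052 = N4402 := rfl
theorem L37911 : sm gb N3054 = N4403 := rfl
theorem L37916 : sm gj N4403 = N3078 := ded_24_2 (flp_b L26607) (flp_j L26416) L37911
theorem L37919 : sm gi N3054 = N4404 := rfl
theorem L37922 : sm gc N4404 = N3055 := ded_33_1 (flp_i L26420) L26411 L37919
theorem L37927 : sm gj N4404 = N3079 := ded_53_1 (flp_i L26614) (flp_j L26416) L37919
theorem L37938 : sm gd N3056 = N4406 := rfl
theorem L37946 : sm gh N3056 = N4407 := rfl
theorem L37952 : sm ge N4407 = N3057 := ded_43_1 (flp_h L26438) L26429 L37946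
theorem L37956 : sm gd N3057 = N4408 := rfl
theorem L37974 : sm gc N3058 = N4410 := rfl
theorem L37977 : sm gg N4410 = N3081 := ded_30_2 (flp_c L26631) (flp_g L26452) L37974
theorem L37981 : sm ge N3058 = N4411 := rfl
theorem L37998 : sm gh N3060 = N4413 := rfl
theorem L38005 : sm gd N3061 = N4414 := rfl
theorem L38022 : sm ge N3062 = N4416 := rfl
theorem L38038 : sm gf N3064 = N4418 := rfl
theorem L38044 : sm gi N3064 = N4419 := rfl
theorem L38062 : sm gc N3066 = N4421 := rfl
theorem L38080 : sm gd N3068 = N4423 := rfl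
theorem L38085 : sm gh N4423 = N3069 := ded_38_2 (flp_d L26542) (flp_h L18545) L18538 L26536 L38080
theorem L38094 : sm gc N3069 = N4425 := rfl
theorem L38098 : sm gd N4425 = N3076 := ded_27_2 (flp_c L26592) (flp_d L18585) (flp_c L18548) L26542 L38094
theorem L38100 : sm ge N3069 = N4426 := rfl
theorem L38104 : sm gd N4426 = N3071 := ded_34_1 (flp_e L26557) (flp_d L18554) (flp_e L18550) L26542 L38100
theorem L38113 : sm gf N3071 = N4428 := rfl
theorem L38117 : sm ge N4428 = N3073 := ded_40_1 (flp_f L26571) (flp_e L18570) (flp_f L18557) L26557 L38113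
theorem L38119 : sm gi N3071 = N4429 := rfl
theorem L38134 : sm gg N3073 = N4431 := rfl
theorem L38141 : sm gi N3073 = N4432 := rfl
theorem L38148 : sm gh N3074 = N4433 := rfl
theorem L38156 : sm gb N3076 = N4434 := rfl
theorem L38162 : sm gc N4434 = N3078 := ded_19_2 (flp_b L26607) (flp_c L18602) (flp_b L18587) L26592 L38156
theorem L38164 : sm gi N3076 = N4435 := rfl
theorem L38180 : sm ga N3078 = N4437 := rfl
theorem L38188 : sm gi N3078 = N4438 := rfl
theorem L38205 : sm ge N3081 = N4440 := rfl
theorem L38209 : sm gc N4440 = N3082 := ded_28_1 (flp_e L26638) L26631 L38205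
theorem L38221 : sm gf N3082 = N4442 := rfl
theorem L38224 : sm gb N4442 = N3084 := ded_22_1 (flp_f L26654) (flp_b L26641) L38221
theorem L38246 : sm gg N3084 = N4445 := rfl
theorem L38278 : sm gi N3087 = N4449 := rfl
theorem L38284 : sm gg N4449 = N3088 := ded_51_1 (flp_i L26685) L26679 L38278
theorem L38286 : sm gh N3088 = N4450 := rfl
theorem L38291 : sm gf N4450 = N3089 := ded_47_1 (flp_h L26694) (flp_f L26691) L38286
theorem L38294 : sm gd N3089 = N4451 := rfl
theorem L38300 : sm gi N3090 = N4452 := rfl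
theorem L38302 : sm ga N4452 = N4452 := ded_18_1 (flp_i L38300) L26703 L38300
theorem L38303 : sm gb N4452 = N4452 := ded_26_1 (flp_i L38300) L26704 L38300
theorem L38304 : sm gc N4452 = N4452 := ded_33_1 (flp_i L38300) L26705 L38300
theorem L38305 : sm gd N4452 = N4452 := ded_39_1 (flp_i L38300) L26706 L38300
theorem L38306 : sm ge N4452 = N4452 := ded_44_1 (flp_i L38300) L26709 L38300
theorem L38307 : sm gf N4452 = N3091 := ded_48_1 (flp_i L26711) L26701 L38300
theorem L38309 : sm gg N4452 = N4452 := ded_51_1 (flp_i L38300) L26710 L38300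
theorem L38310 : sm gj N4452 = N4452 := ded_53_1 (flp_i L38300) L26707 L38300
theorem L38311 : sm gh N3091 = N4453 := rfl
theorem L38313 : sm ga N4453 = N4453 := ded_17_1 (flp_h L38311) L26713 L38311
theorem L38314 : sm gb N4453 = N4453 := ded_25_1 (flp_h L38311) L26714 L38311
theorem L38315 : sm gc N4453 = N4453 := ded_32_1 (flp_h L38311) L26715 L38311
theorem L38316 : sm ge N4453 = N3094 := ded_43_1 (flp_h L26741) (flp_e L26717) L38311
theorem L38318 : sm gg N4453 = N3092 := ded_50_1 (flp_h L26722) (flp_g L26719) L38311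
theorem L38320 : sm gj N4453 = N4453 := ded_52_1 (flp_h L38311) L26721 L38311
theorem L38321 : sm gi N4453 = N4453 := ded_54_2 (flp_h L38311) (flp_i L26711) L18681 L26711 L38311
theorem L38322 : sm gd N3092 = N4454 := rfl
theorem L38324 : sm ga N4454 = N4454 := ded_12_1 (flp_d L38322) L26724 L38322
theorem L38325 : sm gb N4454 = N4454 := ded_20_1 (flp_d L38322) L26725 L38322
theorem L38326 : sm gf N4454 = N4454 := ded_35_2 (flp_d L38322) L26729 L38322
theorem L38327 : sm gj N4454 = N3093 := ded_37_2 (flp_d L26733) (flp_j L26730) L38322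
theorem L38329 : sm gi N4454 = N4454 := ded_39_2 (flp_d L38322) L26732 L38322
theorem L38330 : sm gh N4454 = N4454 := ded_38_2 (flp_d L38322) (flp_h L26722) L18688 L26722 L38322
theorem L38331 : sm gc N3093 = N4455 := rfl
theorem L38333 : sm ga N4455 = N4455 := ded_11_1 (flp_c L38331) L26735 L38331
theorem L38334 : sm gf N4455 = N4455 := ded_29_2 (flp_c L38331) L26737 L38331
theorem L38335 : sm gg N4455 = N4455 := ded_30_2 (flp_c L38331) L26738 L38331
theorem L38336 : sm gh N4455 = N4455 := ded_32_2 (flp_c L38331) L26740 L38331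
theorem L38337 : sm gi N4455 = N4455 := ded_33_2 (flp_c L38331) L26739 L38331
theorem L38338 : sm gd N4455 = N4455 := ded_27_2 (flp_c L38331) (flp_d L26733) L18698 L26733 L38331
theorem L38339 : sm ge N3093 = N4456 := rfl
theorem L38341 : sm ga N4456 = N4456 := ded_13_1 (flp_e L38339) L26735 L38339
theorem L38342 : sm gb N4456 = N4456 := ded_21_1 (flp_e L38339) L26736 L38339
theorem L38343 : sm gg N4456 = N4456 := ded_41_2 (flp_e L38339) L26738 L38339
theorem L38344 : sm gh N4456 = N4456 := ded_43_2 (flp_e L38339) L26740 L38339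
theorem L38345 : sm gi N4456 = N4456 := ded_44_2 (flp_e L38339) L26739 L38339
theorem L38346 : sm gd N4456 = N3097 := ded_34_1 (flp_e L26772) (flp_d L18725) (flp_e L18699) L26733 L38339
theorem L38348 : sm gd N3094 = N4457 := rfl
theorem L38350 : sm ga N4457 = N4457 := ded_12_1 (flp_d L38348) L26743 L38348
theorem L38351 : sm gb N4457 = N4457 := ded_20_1 (flp_d L38348) L26744 L38348
theorem L38352 : sm gf N4457 = N4457 := ded_35_2 (flp_d L38348) L26746 L38348
theorem L38353 : sm gg N4457 = N3095 := ded_36_2 (flp_d L26751) (flp_g L26747) L38348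
theorem L38355 : sm gj N4457 = N4457 := ded_37_2 (flp_d L38348) L26749 L38348
theorem L38356 : sm gi N4457 = N4457 := ded_39_2 (flp_d L38348) L26750 L38348
theorem L38357 : sm gh N4457 = N3109 := ded_38_2 (flp_d L26886) (flp_h L18804) (flp_d L18709) L26741 L38348
theorem L38359 : sm gc N3095 = N4458 := rfl
theorem L38361 : sm ga N4458 = N4458 := ded_11_1 (flp_c L38359) L26753 L38359
theorem L38362 : sm gf N4458 = N3098 := ded_29_2 (flp_c L26780) (flp_f L26755) L38359
theorem L38364 : sm gj N4458 = N3096 := ded_31_2 (flp_c L26762) (flp_j L26757) L38359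
theorem L38366 : sm gh N4458 = N3111 := ded_32_2 (flp_c L26905) (flp_h L26760) L38359
theorem L38368 : sm gi N4458 = N4458 := ded_33_2 (flp_c L38359) L26759 L38359
theorem L38369 : sm gd N4458 = N4458 := ded_27_2 (flp_c L38359) (flp_d L26751) L18719 L26751 L38359
theorem L38370 : sm ge N3095 = N4459 := rfl
theorem L38372 : sm ga N4459 = N4459 := ded_13_1 (flp_e L38370) L26753 L38370
theorem L38373 : sm gb N4459 = N4459 := ded_21_1 (flp_e L38370) L26754 L38370
theorem L38374 : sm gj N4459 = N3097 := ded_42_2 (flp_e L26772) (flp_j L26757) L38370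
theorem L38376 : sm gh N4459 = N3112 := ded_43_2 (flp_e L26914) (flp_h L26760) L38370
theorem L38378 : sm gi N4459 = N4459 := ded_44_2 (flp_e L38370) L26759 L38370
theorem L38379 : sm gb N3096 = N4460 := rfl
theorem L38381 : sm gd N4460 = N4460 := ded_20_2 (flp_b L38379) L26771 L38379
theorem L38382 : sm gf N4460 = N3100 := ded_22_2 (flp_b L26801) (flp_f L26765) L38379
theorem L38384 : sm gg N4460 = N4460 := ded_23_2 (flp_b L38379) L26767 L38379
theorem L38385 : sm gh N4460 = N3115 := ded_25_2 (flp_b L26941) (flp_h L26768) L38379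
theorem L38387 : sm gi N4460 = N4460 := ded_26_2 (flp_b L38379) L26770 L38379
theorem L38388 : sm gc N4460 = N4460 := ded_19_2 (flp_b L38379) (flp_c L26762) L18728 L26762 L38379
theorem L38389 : sm ge N3096 = N4461 := rfl
theorem L38391 : sm ga N4461 = N4461 := ded_13_1 (flp_e L38389) L26764 L38389
theorem L38392 : sm gc N4461 = N3097 := ded_28_1 (flp_e L26772) L26762 L38389
theorem L38394 : sm gg N4461 = N4461 := ded_41_2 (flp_e L38389) L26767 L38389
theorem L38395 : sm gh N4461 = N3116 := ded_43_2 (flp_e L26949) (flp_h L26768) L38389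
theorem L38397 : sm gi N4461 = N4461 := ded_44_2 (flp_e L38389) L26770 L38389
theorem L38398 : sm gf N3097 = N4462 := rfl
theorem L38400 : sm ga N4462 = N4462 := ded_14_1 (flp_f L38398) L26774 L38398
theorem L38401 : sm gb N4462 = N4462 := ded_22_1 (flp_f L38398) L26775 L38398
theorem L38402 : sm gh N4462 = N3117 := ded_47_2 (flp_f L26955) (flp_h L26777) L38398
theorem L38404 : sm gi N4462 = N4462 := ded_48_2 (flp_f L38398) L26779 L38398
theorem L38405 : sm ge N4462 = N3102 := ded_40_1 (flp_f L26820) (flp_e L18754) (flp_f L18729) L26772 L38398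
theorem L38407 : sm gb N3098 = N4463 := rfl
theorem L38409 : sm gd N4463 = N4463 := ded_20_2 (flp_b L38407) L26789 L38407
theorem L38410 : sm gg N4463 = N4463 := ded_23_2 (flp_b L38407) L26783 L38407
theorem L38411 : sm gj N4463 = N3100 := ded_24_2 (flp_b L26801) (flp_j L26784) L38407
theorem L38413 : sm gh N4463 = N3120 := ded_25_2 (flp_b L26985) (flp_h L26786) L38407
theorem L38415 : sm gi N4463 = N4463 := ded_26_2 (flp_b L38407) L26788 L38407
theorem L38416 : sm gc N4463 = N4463 := ded_19_2 (flp_b L38407) (flp_c L26780) L18738 L26780 L38407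
theorem L38417 : sm ge N3098 = N4464 := rfl
theorem L38419 : sm ga N4464 = N4464 := ded_13_1 (flp_e L38417) L26782 L38417
theorem L38420 : sm gc N4464 = N3099 := ded_28_1 (flp_e L26790) L26780 L38417
theorem L38422 : sm gg N4464 = N4464 := ded_41_2 (flp_e L38417) L26783 L38417
theorem L38423 : sm gj N4464 = N3101 := ded_42_2 (flp_e L26810) (flp_j L26784) L38417
theorem L38425 : sm gh N4464 = N3121 := ded_43_2 (flp_e L26993) (flp_h L26786) L38417
theorem L38427 : sm gi N4464 = N4464 := ded_44_2 (flp_e L38417) L26788 L38417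
theorem L38428 : sm gf N3099 = N4465 := rfl
theorem L38430 : sm ga N4465 = N4465 := ded_14_1 (flp_f L38428) L26792 L38428
theorem L38431 : sm gb N4465 = N4465 := ded_22_1 (flp_f L38428) L26793 L38428
theorem L38432 : sm gd N4465 = N4465 := ded_35_1 (flp_f L38428) L26800 L38428
theorem L38433 : sm gj N4465 = N3102 := ded_46_2 (flp_f L26820) (flp_j L26795) L38428
theorem L38435 : sm gh N4465 = N3122 := ded_47_2 (flp_f L27001) (flp_h L26797) L38428
theorem L38437 : sm gi N4465 = N4465 := ded_48_2 (flp_f L38428) L26799 L38428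
theorem L38438 : sm ga N3100 = N4466 := rfl
theorem L38440 : sm gc N4466 = N4466 := ded_11_2 (flp_a L38438) L26809 L38438
theorem L38441 : sm gd N4466 = N4466 := ded_12_2 (flp_a L38438) L26803 L38438
theorem L38442 : sm gg N4466 = N3103 := ded_15_2 (flp_a L26828) (flp_g L26804) L38438
theorem L38444 : sm gh N4466 = N3126 := ded_17_2 (flp_a L27038) (flp_h L26806) L38438
theorem L38446 : sm gi N4466 = N4466 := ded_18_2 (flp_a L38438) L26808 L38438
theorem L38447 : sm gb N4466 = N4466 := ded_10_2 (flp_a L38438) (flp_b L26801) L18747 L26801 L38438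
theorem L38448 : sm ge N3100 = N4467 := rfl
theorem L38450 : sm gb N4467 = N3101 := ded_21_1 (flp_e L26810) L26801 L38448
theorem L38452 : sm gc N4467 = N4467 := ded_28_1 (flp_e L38448) L26809 L38448
theorem L38453 : sm gg N4467 = N3104 := ded_41_2 (flp_e L26838) (flp_g L26804) L38448
theorem L38455 : sm gh N4467 = N3127 := ded_43_2 (flp_e L27046) (flp_h L26806) L38448
theorem L38457 : sm gi N4467 = N4467 := ded_44_2 (flp_e L38448) L26808 L38448
theorem L38458 : sm gd N3101 = N4468 := rfl
theorem L38460 : sm ga N4468 = N4468 := ded_12_1 (flp_d L38458) L26812 L38458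
theorem L38461 : sm gg N4468 = N3105 := ded_36_2 (flp_d L26847) (flp_g L26815) L38458
theorem L38463 : sm gi N4468 = N4468 := ded_39_2 (flp_d L38458) L26819 L38458
theorem L38464 : sm gc N4468 = N4468 := ded_27_1 (flp_d L38458) L26813 L18763 (flp_c L26813) L38458
theorem L38465 : sm ge N4468 = N4468 := ded_34_2 (flp_d L38458) (flp_e L26810) L18753 L26810 L38458
theorem L38466 : sm gf N3101 = N4469 := rfl
theorem L38468 : sm ga N4469 = N4469 := ded_14_1 (flp_f L38466) L26812 L38466
theorem L38469 : sm gc N4469 = N3102 := ded_29_1 (flp_f L26820) (flp_c L26813) L38466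
theorem L38471 : sm gh N4469 = N3129 := ded_47_2 (flp_f L27062) (flp_h L26817) L38466
theorem L38473 : sm gi N4469 = N4469 := ded_48_2 (flp_f L38466) L26819 L38466
theorem L38474 : sm gg N3102 = N4470 := rfl
theorem L38476 : sm ga N4470 = N4470 := ded_15_1 (flp_g L38474) L26822 L38474
theorem L38477 : sm gb N4470 = N4470 := ded_23_1 (flp_g L38474) L26823 L38474
theorem L38478 : sm gd N4470 = N4470 := ded_36_1 (flp_g L38474) L26824 L38474
theorem L38479 : sm gh N4470 = N3130 := ded_50_2 (flp_g L27067) (flp_h L26825) L38474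
theorem L38481 : sm gi N4470 = N4470 := ded_51_2 (flp_g L38474) L26827 L38474
theorem L38482 : sm gf N4470 = N3107 := ded_45_1 (flp_g L26864) (flp_f L18782) (flp_g L18758) L26820 L38474
theorem L38484 : sm ge N3103 = N4471 := rfl
theorem L38486 : sm ga N4471 = N3104 := ded_13_1 (flp_e L26838) L26828 L38484
theorem L38488 : sm gb N4471 = N4471 := ded_21_1 (flp_e L38484) L26837 L38484
theorem L38489 : sm gc N4471 = N4471 := ded_28_1 (flp_e L38484) L26830 L38484
theorem L38490 : sm gj N4471 = N4471 := ded_42_2 (flp_e L38484) L26833 L38484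
theorem L38491 : sm gh N4471 = N3136 := ded_43_2 (flp_e L27125) (flp_h L26834) L38484
theorem L38493 : sm gi N4471 = N4471 := ded_44_2 (flp_e L38484) L26836 L38484
theorem L38494 : sm gd N3104 = N4472 := rfl
theorem L38496 : sm gb N4472 = N3105 := ded_20_1 (flp_d L26847) (flp_b L26840) L38494
theorem L38498 : sm gj N4472 = N4472 := ded_37_2 (flp_d L38494) L26843 L38494
theorem L38499 : sm gi N4472 = N4472 := ded_39_2 (flp_d L38494) L26846 L38494
theorem L38500 : sm ge N4472 = N4472 := ded_34_2 (flp_d L38494) (flp_e L26838) L18766 L26838 L38494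
theorem L38501 : sm gf N3104 = N4473 := rfl
theorem L38503 : sm gb N4473 = N3106 := ded_22_1 (flp_f L26854) (flp_b L26840) L38501
theorem L38505 : sm gc N4473 = N4473 := ded_29_1 (flp_f L38501) L26842 L38501
theorem L38506 : sm gj N4473 = N4473 := ded_46_2 (flp_f L38501) L26843 L38501
theorem L38507 : sm gh N4473 = N3138 := ded_47_2 (flp_f L27139) (flp_h L26844) L38501
theorem L38509 : sm gi N4473 = N4473 := ded_48_2 (flp_f L38501) L26846 L38501
theorem L38510 : sm ge N4473 = N4473 := ded_40_1 (flp_f L38501) (flp_e L26838) L18767 L26838 L38501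
theorem L38511 : sm gf N3105 = N4474 := rfl
theorem L38513 : sm ga N4474 = N4474 := ded_14_1 (flp_f L38511) L26849 L38511
theorem L38514 : sm gc N4474 = N4474 := ded_29_1 (flp_f L38511) L26852 L38511
theorem L38515 : sm gd N4474 = N3106 := ded_35_1 (flp_f L26854) L26847 L38511
theorem L38517 : sm gj N4474 = N4474 := ded_46_2 (flp_f L38511) L26850 L38511
theorem L38518 : sm gi N4474 = N4474 := ded_48_2 (flp_f L38511) L26851 L38511
theorem L38519 : sm gh N3105 = N4475 := rfl
theorem L38521 : sm ga N4475 = N4475 := ded_17_1 (flp_h L38519) L26849 L38519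
theorem L38522 : sm gc N4475 = N4475 := ded_32_1 (flp_h L38519) L26852 L38519
theorem L38523 : sm ge N4475 = N4475 := ded_43_1 (flp_h L38519) L26853 L38519
theorem L38524 : sm gj N4475 = N4475 := ded_52_1 (flp_h L38519) L26850 L38519
theorem L38525 : sm gd N4475 = N3140 := ded_38_1 (flp_h L27154) (flp_d L18972) (flp_h L18779) L26847 L38519
theorem L38527 : sm gg N3106 = N4476 := rfl
theorem L38529 : sm ga N4476 = N4476 := ded_15_1 (flp_g L38527) L26856 L38527
theorem L38530 : sm gc N4476 = N3107 := ded_30_1 (flp_g L26864) (flp_c L26857) L38527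
theorem L38532 : sm ge N4476 = N4476 := ded_41_1 (flp_g L38527) L26863 L38527
theorem L38533 : sm gh N4476 = N3141 := ded_50_2 (flp_g L27162) (flp_h L26860) L38527
theorem L38535 : sm gi N4476 = N4476 := ded_51_2 (flp_g L38527) L26862 L38527
theorem L38536 : sm gj N3107 = N4477 := rfl
theorem L38538 : sm ga N4477 = N4477 := ded_16_1 (flp_j L38536) L26866 L38536
theorem L38539 : sm gb N4477 = N4477 := ded_24_1 (flp_j L38536) L26867 L38536
theorem L38540 : sm gd N4477 = N4477 := ded_37_1 (flp_j L38536) L26868 L38536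
theorem L38541 : sm ge N4477 = N4477 := ded_42_1 (flp_j L38536) L26869 L38536
theorem L38542 : sm gh N4477 = N3142 := ded_52_2 (flp_j L27168) (flp_h L26870) L38536
theorem L38544 : sm gi N4477 = N4477 := ded_53_2 (flp_j L38536) L26872 L38536
theorem L38545 : sm gg N4477 = N4477 := ded_49_1 (flp_j L38536) (flp_g L26864) L18787 L26864 L38536
theorem L38546 : sm gd N3108 = N4478 := rfl
theorem L38548 : sm ga N4478 = N4478 := ded_12_1 (flp_d L38546) L26875 L38546
theorem L38549 : sm gb N4478 = N4478 := ded_20_1 (flp_d L38546) L26876 L38546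
theorem L38550 : sm gf N4478 = N4478 := ded_35_2 (flp_d L38546) L26880 L38546
theorem L38551 : sm gg N4478 = N3110 := ded_36_2 (flp_d L26894) (flp_g L26881) L38546
theorem L38553 : sm gj N4478 = N4478 := ded_37_2 (flp_d L38546) L26883 L38546
theorem L38554 : sm gi N4478 = N3109 := ded_39_2 (flp_d L26886) (flp_i L26884) L38546
theorem L38556 : sm gh N4478 = N4478 := ded_38_2 (flp_d L38546) (flp_h L26873) L18798 L26873 L38546
theorem L38557 : sm gc N3109 = N4479 := rfl
theorem L38559 : sm ga N4479 = N4479 := ded_11_1 (flp_c L38557) L26888 L38557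
theorem L38560 : sm gf N4479 = N4479 := ded_29_2 (flp_c L38557) L26890 L38557
theorem L38561 : sm gg N4479 = N3111 := ded_30_2 (flp_c L26905) (flp_g L26891) L38557
theorem L38563 : sm gj N4479 = N4479 := ded_31_2 (flp_c L38557) L26893 L38557
theorem L38564 : sm gd N4479 = N3234 := ded_27_2 (flp_c L27973) (flp_d L19522) (flp_c L18808) L26886 L38557
theorem L38566 : sm ge N3109 = N4480 := rfl
theorem L38568 : sm ga N4480 = N4480 := ded_13_1 (flp_e L38566) L26888 L38566
theorem L38569 : sm gb N4480 = N4480 := ded_21_1 (flp_e L38566) L26889 L38566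
theorem L38570 : sm gg N4480 = N3112 := ded_41_2 (flp_e L26914) (flp_g L26891) L38566
theorem L38572 : sm gj N4480 = N4480 := ded_42_2 (flp_e L38566) L26893 L38566
theorem L38573 : sm gd N4480 = N4480 := ded_34_1 (flp_e L38566) (flp_d L26886) L18810 L26886 L38566
theorem L38574 : sm gc N3110 = N4481 := rfl
theorem L38576 : sm ga N4481 = N4481 := ded_11_1 (flp_c L38574) L26896 L38574
theorem L38577 : sm gf N4481 = N3118 := ded_29_2 (flp_c L26962) (flp_f L26898) L38574
theorem L38579 : sm gj N4481 = N3113 := ded_31_2 (flp_c L26921) (flp_j L26900) L38574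
theorem L38581 : sm gh N4481 = N4481 := ded_32_2 (flp_c L38574) L26904 L38574
theorem L38582 : sm gi N4481 = N3111 := ded_33_2 (flp_c L26905) (flp_i L26902) L38574
theorem L38584 : sm gd N4481 = N3238 := ded_27_2 (flp_c L28015) (flp_d L19555) (flp_c L18819) L26894 L38574
theorem L38586 : sm ge N3110 = N4482 := rfl
theorem L38588 : sm ga N4482 = N4482 := ded_13_1 (flp_e L38586) L26896 L38586
theorem L38589 : sm gb N4482 = N4482 := ded_21_1 (flp_e L38586) L26897 L38586
theorem L38590 : sm gj N4482 = N3114 := ded_42_2 (flp_e L26932) (flp_j L26900) L38586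
theorem L38592 : sm gh N4482 = N4482 := ded_43_2 (flp_e L38586) L26904 L38586
theorem L38593 : sm gi N4482 = N3112 := ded_44_2 (flp_e L26914) (flp_i L26902) L38586
theorem L38595 : sm gd N4482 = N4482 := ded_34_1 (flp_e L38586) (flp_d L26894) L18821 L26894 L38586
theorem L38596 : sm gb N3111 = N4483 := rfl
theorem L38598 : sm gd N4483 = N3240 := ded_20_2 (flp_b L28034) (flp_d L26912) L38596
theorem L38600 : sm gf N4483 = N3120 := ded_22_2 (flp_b L26985) (flp_f L26908) L38596
theorem L38602 : sm gj N4483 = N3115 := ded_24_2 (flp_b L26941) (flp_j L26910) L38596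
theorem L38604 : sm gc N4483 = N4483 := ded_19_2 (flp_b L38596) (flp_c L26905) L18831 L26905 L38596
theorem L38605 : sm ge N3111 = N4484 := rfl
theorem L38607 : sm ga N4484 = N4484 := ded_13_1 (flp_e L38605) L26907 L38605
theorem L38608 : sm gc N4484 = N3112 := ded_28_1 (flp_e L26914) L26905 L38605
theorem L38610 : sm gj N4484 = N3116 := ded_42_2 (flp_e L26949) (flp_j L26910) L38605
theorem L38612 : sm gf N3112 = N4485 := rfl
theorem L38614 : sm ga N4485 = N4485 := ded_14_1 (flp_f L38612) L26916 L38612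
theorem L38615 : sm gb N4485 = N4485 := ded_22_1 (flp_f L38612) L26917 L38612
theorem L38616 : sm gd N4485 = N4485 := ded_35_1 (flp_f L38612) L26920 L38612
theorem L38617 : sm gj N4485 = N3117 := ded_46_2 (flp_f L26955) (flp_j L26918) L38612
theorem L38619 : sm ge N4485 = N3122 := ded_40_1 (flp_f L27001) (flp_e L18878) (flp_f L18832) L26914 L38612
theorem L38621 : sm gb N3113 = N4486 := rfl
theorem L38623 : sm gd N4486 = N3246 := ded_20_2 (flp_b L28090) (flp_d L26930) L38621
theorem L38625 : sm gf N4486 = N3123 := ded_22_2 (flp_b L27009) (flp_f L26924) L38621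
theorem L38627 : sm gg N4486 = N4486 := ded_23_2 (flp_b L38621) L26926 L38621
theorem L38628 : sm gh N4486 = N4486 := ded_25_2 (flp_b L38621) L26927 L38621
theorem L38629 : sm gi N4486 = N3115 := ded_26_2 (flp_b L26941) (flp_i L26928) L38621
theorem L38631 : sm gc N4486 = N4486 := ded_19_2 (flp_b L38621) (flp_c L26921) L18839 L26921 L38621
theorem L38632 : sm ge N3113 = N4487 := rfl
theorem L38634 : sm ga N4487 = N4487 := ded_13_1 (flp_e L38632) L26923 L38632
theorem L38635 : sm gc N4487 = N3114 := ded_28_1 (flp_e L26932) L26921 L38632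
theorem L38637 : sm gg N4487 = N4487 := ded_41_2 (flp_e L38632) L26926 L38632
theorem L38638 : sm gh N4487 = N4487 := ded_43_2 (flp_e L38632) L26927 L38632
theorem L38639 : sm gi N4487 = N3116 := ded_44_2 (flp_e L26949) (flp_i L26928) L38632
theorem L38641 : sm gf N3114 = N4488 := rfl
theorem L38643 : sm ga N4488 = N4488 := ded_14_1 (flp_f L38641) L26934 L38641
theorem L38644 : sm gb N4488 = N4488 := ded_22_1 (flp_f L38641) L26935 L38641
theorem L38645 : sm gd N4488 = N4488 := ded_35_1 (flp_f L38641) L26940 L38641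
theorem L38646 : sm gh N4488 = N4488 := ded_47_2 (flp_f L38641) L26937 L38641
theorem L38647 : sm gi N4488 = N3117 := ded_48_2 (flp_f L26955) (flp_i L26938) L38641
theorem L38649 : sm ge N4488 = N3125 := ded_40_1 (flp_f L27029) (flp_e L18897) (flp_f L18840) L26932 L38641
theorem L38651 : sm ga N3115 = N4489 := rfl
theorem L38653 : sm gc N4489 = N4489 := ded_11_2 (flp_a L38651) L26948 L38651
theorem L38654 : sm gd N4489 = N3249 := ded_12_2 (flp_a L28117) (flp_d L26943) L38651
theorem L38656 : sm gf N4489 = N3126 := ded_14_2 (flp_a L27038) (flp_f L26945) L38651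
theorem L38658 : sm gg N4489 = N4489 := ded_15_2 (flp_a L38651) L26947 L38651
theorem L38659 : sm gb N4489 = N4489 := ded_10_2 (flp_a L38651) (flp_b L26941) L18848 L26941 L38651
theorem L38660 : sm ge N3115 = N4490 := rfl
theorem L38662 : sm gb N4490 = N3116 := ded_21_1 (flp_e L26949) L26941 L38660
theorem L38664 : sm gc N4490 = N4490 := ded_28_1 (flp_e L38660) L26948 L38660
theorem L38665 : sm gg N4490 = N4490 := ded_41_2 (flp_e L38660) L26947 L38660
theorem L38666 : sm gd N3116 = N4491 := rfl
theorem L38668 : sm ga N4491 = N4491 := ded_12_1 (flp_d L38666) L26951 L38666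
theorem L38669 : sm gg N4491 = N4491 := ded_36_2 (flp_d L38666) L26954 L38666
theorem L38670 : sm gc N4491 = N4491 := ded_27_1 (flp_d L38666) L26952 L18859 (flp_c L26952) L38666
theorem L38671 : sm ge N4491 = N3251 := ded_34_2 (flp_d L28134) (flp_e L19630) (flp_d L18852) L26949 L38666
theorem L38673 : sm gf N3116 = N4492 := rfl
theorem L38675 : sm ga N4492 = N4492 := ded_14_1 (flp_f L38673) L26951 L38673
theorem L38676 : sm gc N4492 = N3117 := ded_29_1 (flp_f L26955) (flp_c L26952) L38673
theorem L38678 : sm ge N4492 = N3129 := ded_40_1 (flp_f L27062) (flp_e L18915) (flp_f L18849) L26949 L38673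
theorem L38680 : sm gg N3117 = N4493 := rfl
theorem L38682 : sm ga N4493 = N4493 := ded_15_1 (flp_g L38680) L26957 L38680
theorem L38683 : sm gb N4493 = N4493 := ded_23_1 (flp_g L38680) L26958 L38680
theorem L38684 : sm gd N4493 = N4493 := ded_36_1 (flp_g L38680) L26959 L38680
theorem L38685 : sm ge N4493 = N3130 := ded_41_1 (flp_g L27067) (flp_e L26960) L38680
theorem L38687 : sm gf N4493 = N4493 := ded_45_1 (flp_g L38680) (flp_f L26955) L18858 L26955 L38680
theorem L38688 : sm gb N3118 = N4494 := rfl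
theorem L38690 : sm gd N4494 = N3256 := ded_20_2 (flp_b L28179) (flp_d L26971) L38688
theorem L38692 : sm gg N4494 = N4494 := ded_23_2 (flp_b L38688) L26965 L38688
theorem L38693 : sm gj N4494 = N3123 := ded_24_2 (flp_b L27009) (flp_j L26966) L38688
theorem L38695 : sm gh N4494 = N4494 := ded_25_2 (flp_b L38688) L26968 L38688
theorem L38696 : sm gi N4494 = N3120 := ded_26_2 (flp_b L26985) (flp_i L26969) L38688
theorem L38698 : sm gc N4494 = N4494 := ded_19_2 (flp_b L38688) (flp_c L26962) L18863 L26962 L38688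
theorem L38699 : sm ge N3118 = N4495 := rfl
theorem L38701 : sm ga N4495 = N4495 := ded_13_1 (flp_e L38699) L26964 L38699
theorem L38702 : sm gc N4495 = N3119 := ded_28_1 (flp_e L26973) L26962 L38699
theorem L38704 : sm gg N4495 = N4495 := ded_41_2 (flp_e L38699) L26965 L38699
theorem L38705 : sm gj N4495 = N3124 := ded_42_2 (flp_e L27019) (flp_j L26966) L38699
theorem L38707 : sm gh N4495 = N4495 := ded_43_2 (flp_e L38699) L26968 L38699
theorem L38708 : sm gi N4495 = N3121 := ded_44_2 (flp_e L26993) (flp_i L26969) L38699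
theorem L38710 : sm gf N3119 = N4496 := rfl
theorem L38712 : sm ga N4496 = N4496 := ded_14_1 (flp_f L38710) L26975 L38710
theorem L38713 : sm gb N4496 = N4496 := ded_22_1 (flp_f L38710) L26976 L38710
theorem L38714 : sm gd N4496 = N3147 := ded_35_1 (flp_f L27219) (flp_d L26983) L38710
theorem L38716 : sm gj N4496 = N3125 := ded_46_2 (flp_f L27029) (flp_j L26978) L38710
theorem L38718 : sm gh N4496 = N4496 := ded_47_2 (flp_f L38710) L26980 L38710
theorem L38719 : sm gi N4496 = N3122 := ded_48_2 (flp_f L27001) (flp_i L26981) L38710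
theorem L38721 : sm ga N3120 = N4497 := rfl
theorem L38723 : sm gc N4497 = N4497 := ded_11_2 (flp_a L38721) L26992 L38721
theorem L38724 : sm gd N4497 = N3259 := ded_12_2 (flp_a L28209) (flp_d L26987) L38721
theorem L38726 : sm gg N4497 = N4497 := ded_15_2 (flp_a L38721) L26989 L38721
theorem L38727 : sm gj N4497 = N3126 := ded_16_2 (flp_a L27038) (flp_j L26990) L38721
theorem L38729 : sm gb N4497 = N4497 := ded_10_2 (flp_a L38721) (flp_b L26985) L18872 L26985 L38721
theorem L38730 : sm ge N3120 = N4498 := rfl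
theorem L38732 : sm gb N4498 = N3121 := ded_21_1 (flp_e L26993) L26985 L38730
theorem L38734 : sm gc N4498 = N4498 := ded_28_1 (flp_e L38730) L26992 L38730
theorem L38735 : sm gg N4498 = N4498 := ded_41_2 (flp_e L38730) L26989 L38730
theorem L38736 : sm gj N4498 = N3127 := ded_42_2 (flp_e L27046) (flp_j L26990) L38730
theorem L38738 : sm gd N3121 = N4499 := rfl
theorem L38740 : sm ga N4499 = N4499 := ded_12_1 (flp_d L38738) L26995 L38738
theorem L38741 : sm gg N4499 = N4499 := ded_36_2 (flp_d L38738) L26998 L38738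
theorem L38742 : sm gj N4499 = N3128 := ded_37_2 (flp_d L27053) (flp_j L26999) L38738
theorem L38744 : sm gc N4499 = N3150 := ded_27_1 (flp_d L27248) L19038 (flp_d L18885) (flp_c L26996) L38738
theorem L38746 : sm ge N4499 = N3261 := ded_34_2 (flp_d L28228) (flp_e L19685) (flp_d L18876) L26993 L38738
theorem L38748 : sm gf N3121 = N4500 := rfl
theorem L38750 : sm ga N4500 = N4500 := ded_14_1 (flp_f L38748) L26995 L38748
theorem L38751 : sm gc N4500 = N3122 := ded_29_1 (flp_f L27001) (flp_c L26996) L38748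
theorem L38753 : sm gj N4500 = N3129 := ded_46_2 (flp_f L27062) (flp_j L26999) L38748
theorem L38755 : sm gg N3122 = N4501 := rfl
theorem L38757 : sm ga N4501 = N4501 := ded_15_1 (flp_g L38755) L27003 L38755
theorem L38758 : sm gb N4501 = N4501 := ded_23_1 (flp_g L38755) L27004 L38755
theorem L38759 : sm gd N4501 = N3152 := ded_36_1 (flp_g L27265) (flp_d L27005) L38755
theorem L38761 : sm gf N4501 = N4501 := ded_45_1 (flp_g L38755) (flp_f L27001) L18882 L27001 L38755
theorem L38762 : sm ga N3123 = N4502 := rfl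
theorem L38765 : sm gd N4502 = N3267 := ded_12_2 (flp_a L28282) (flp_d L27011) L38762
theorem L38767 : sm gg N4502 = N3131 := ded_15_2 (flp_a L27075) (flp_g L27013) L38762
theorem L38770 : sm gi N4502 = N3126 := ded_18_2 (flp_a L27038) (flp_i L27016) L38762
theorem L38773 : sm ge N3123 = N4503 := rfl
theorem L38775 : sm gb N4503 = N3124 := ded_21_1 (flp_e L27019) L27009 L38773
theorem L38777 : sm gc N4503 = N4503 := ded_28_1 (flp_e L38773) L27018 L38773
theorem L38778 : sm gg N4503 = N3132 := ded_41_2 (flp_e L27086) (flp_g L27013) L38773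
theorem L38780 : sm gh N4503 = N4503 := ded_43_2 (flp_e L38773) L27015 L38773
theorem L38781 : sm gi N4503 = N3127 := ded_44_2 (flp_e L27046) (flp_i L27016) L38773
theorem L38783 : sm gd N3124 = N4504 := rfl
theorem L38785 : sm ga N4504 = N4504 := ded_12_1 (flp_d L38783) L27021 L38783
theorem L38786 : sm gg N4504 = N3133 := ded_36_2 (flp_d L27095) (flp_g L27024) L38783
theorem L38788 : sm gi N4504 = N3128 := ded_39_2 (flp_d L27053) (flp_i L27027) L38783
theorem L38790 : sm gc N4504 = N3158 := ded_27_1 (flp_d L27321) L19085 (flp_d L18906) (flp_c L27022) L38783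
theorem L38792 : sm ge N4504 = N3269 := ded_34_2 (flp_d L28301) (flp_e L19732) (flp_d L18895) L27019 L38783
theorem L38794 : sm gf N3124 = N4505 := rfl
theorem L38796 : sm ga N4505 = N4505 := ded_14_1 (flp_f L38794) L27021 L38794
theorem L38797 : sm gc N4505 = N3125 := ded_29_1 (flp_f L27029) (flp_c L27022) L38794
theorem L38799 : sm gh N4505 = N4505 := ded_47_2 (flp_f L38794) L27026 L38794
theorem L38800 : sm gi N4505 = N3129 := ded_48_2 (flp_f L27062) (flp_i L27027) L38794
theorem L38802 : sm gg N3125 = N4506 := rfl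
theorem L38804 : sm ga N4506 = N4506 := ded_15_1 (flp_g L38802) L27031 L38802
theorem L38805 : sm gb N4506 = N4506 := ded_23_1 (flp_g L38802) L27032 L38802
theorem L38806 : sm gd N4506 = N3160 := ded_36_1 (flp_g L27338) (flp_d L27033) L38802
theorem L38808 : sm gh N4506 = N4506 := ded_50_2 (flp_g L38802) L27035 L38802
theorem L38809 : sm gi N4506 = N3130 := ded_51_2 (flp_g L27067) (flp_i L27036) L38802
theorem L38811 : sm gf N4506 = N3135 := ded_45_1 (flp_g L27115) (flp_f L18947) (flp_g L18901) L27029 L38802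
theorem L38813 : sm ge N3126 = N4507 := rfl
theorem L38815 : sm ga N4507 = N3127 := ded_13_1 (flp_e L27046) L27038 L38813
theorem L38817 : sm gb N4507 = N4507 := ded_21_1 (flp_e L38813) L27045 L38813
theorem L38818 : sm gc N4507 = N4507 := ded_28_1 (flp_e L38813) L27040 L38813
theorem L38819 : sm gg N4507 = N3136 := ded_41_2 (flp_e L27125) (flp_g L27043) L38813
theorem L38821 : sm gd N3127 = N4508 := rfl
theorem L38823 : sm gb N4508 = N3128 := ded_20_1 (flp_d L27053) (flp_b L27048) L38821
theorem L38825 : sm gg N4508 = N3137 := ded_36_2 (flp_d L27132) (flp_g L27051) L38821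
theorem L38827 : sm ge N4508 = N3273 := ded_34_2 (flp_d L28338) (flp_e L19758) (flp_d L18910) L27046 L38821
theorem L38829 : sm gf N3127 = N4509 := rfl
theorem L38831 : sm gb N4509 = N3129 := ded_22_1 (flp_f L27062) (flp_b L27048) L38829
theorem L38833 : sm gc N4509 = N4509 := ded_29_1 (flp_f L38829) L27050 L38829
theorem L38834 : sm gf N3128 = N4510 := rfl
theorem L38836 : sm ga N4510 = N4510 := ded_14_1 (flp_f L38834) L27055 L38834
theorem L38837 : sm gc N4510 = N3164 := ded_29_1 (flp_f L27371) (flp_c L27058) L38834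
theorem L38839 : sm gd N4510 = N3129 := ded_35_1 (flp_f L27062) L27053 L38834
theorem L38841 : sm gh N3128 = N4511 := rfl
theorem L38843 : sm ga N4511 = N4511 := ded_17_1 (flp_h L38841) L27055 L38841
theorem L38844 : sm gc N4511 = N3165 := ded_32_1 (flp_h L27376) (flp_c L27058) L38841
theorem L38846 : sm ge N4511 = N3276 := ded_43_1 (flp_h L28358) (flp_e L27060) L38841
theorem L38848 : sm gg N4511 = N3140 := ded_50_1 (flp_h L27154) (flp_g L27056) L38841
theorem L38850 : sm gg N3129 = N4512 := rfl
theorem L38852 : sm ga N4512 = N4512 := ded_15_1 (flp_g L38850) L27064 L38850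
theorem L38853 : sm gc N4512 = N3130 := ded_30_1 (flp_g L27067) (flp_c L27065) L38850
theorem L38855 : sm gf N4512 = N3141 := ded_45_1 (flp_g L27162) (flp_f L18980) (flp_g L18920) L27062 L38850
theorem L38857 : sm gj N3130 = N4513 := rfl
theorem L38859 : sm ga N4513 = N4513 := ded_16_1 (flp_j L38857) L27069 L38857
theorem L38860 : sm gb N4513 = N4513 := ded_24_1 (flp_j L38857) L27070 L38857
theorem L38861 : sm gd N4513 = N3167 := ded_37_1 (flp_j L27393) (flp_d L27071) L38857
theorem L38863 : sm gf N4513 = N3142 := ded_46_1 (flp_j L27168) (flp_f L27073) L38857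
theorem L38865 : sm ge N3131 = N4514 := rfl
theorem L38867 : sm ga N4514 = N3132 := ded_13_1 (flp_e L27086) L27075 L38865
theorem L38873 : sm gi N4514 = N3136 := ded_44_2 (flp_e L27125) (flp_i L27083) L38865
theorem L38875 : sm gd N3132 = N4515 := rfl
theorem L38877 : sm gb N4515 = N3133 := ded_20_1 (flp_d L27095) (flp_b L27088) L38875
theorem L38879 : sm gj N4515 = N4515 := ded_37_2 (flp_d L38875) L27091 L38875
theorem L38880 : sm gi N4515 = N3137 := ded_39_2 (flp_d L27132) (flp_i L27093) L38875
theorem L38882 : sm ge N4515 = N3285 := ded_34_2 (flp_d L28442) (flp_e L19829) (flp_d L18930) L27086 L38875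
theorem L38884 : sm gf N3132 = N4516 := rfl
theorem L38886 : sm gb N4516 = N3134 := ded_22_1 (flp_f L27105) (flp_b L27088) L38884
theorem L38888 : sm gc N4516 = N4516 := ded_29_1 (flp_f L38884) L27090 L38884
theorem L38889 : sm gj N4516 = N4516 := ded_46_2 (flp_f L38884) L27091 L38884
theorem L38890 : sm gh N4516 = N4516 := ded_47_2 (flp_f L38884) L27092 L38884
theorem L38891 : sm gi N4516 = N3138 := ded_48_2 (flp_f L27139) (flp_i L27093) L38884
theorem L38893 : sm ge N4516 = N4516 := ded_40_1 (flp_f L38884) (flp_e L27086) L18932 L27086 L38884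
theorem L38894 : sm gf N3133 = N4517 := rfl
theorem L38896 : sm ga N4517 = N4517 := ded_14_1 (flp_f L38894) L27097 L38894
theorem L38897 : sm gc N4517 = N3176 := ded_29_1 (flp_f L27477) (flp_c L27101) L38894
theorem L38899 : sm gd N4517 = N3134 := ded_35_1 (flp_f L27105) L27095 L38894
theorem L38901 : sm gj N4517 = N4517 := ded_46_2 (flp_f L38894) L27098 L38894
theorem L38902 : sm gi N4517 = N3139 := ded_48_2 (flp_f L27146) (flp_i L27099) L38894
theorem L38904 : sm gh N3133 = N4518 := rfl
theorem L38906 : sm ga N4518 = N4518 := ded_17_1 (flp_h L38904) L27097 L38904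
theorem L38907 : sm gc N4518 = N3177 := ded_32_1 (flp_h L27485) (flp_c L27101) L38904
theorem L38909 : sm ge N4518 = N3288 := ded_43_1 (flp_h L28469) (flp_e L27103) L38904
theorem L38911 : sm gj N4518 = N4518 := ded_52_1 (flp_h L38904) L27098 L38904
theorem L38912 : sm gd N4518 = N4518 := ded_38_1 (flp_h L38904) (flp_d L27095) L18944 L27095 L38904
theorem L38913 : sm gg N3134 = N4519 := rfl
theorem L38915 : sm ga N4519 = N4519 := ded_15_1 (flp_g L38913) L27107 L38913
theorem L38916 : sm gc N4519 = N3135 := ded_30_1 (flp_g L27115) (flp_c L27108) L38913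
theorem L38918 : sm ge N4519 = N4519 := ded_41_1 (flp_g L38913) L27114 L38913
theorem L38919 : sm gh N4519 = N4519 := ded_50_2 (flp_g L38913) L27111 L38913
theorem L38920 : sm gi N4519 = N3141 := ded_51_2 (flp_g L27162) (flp_i L27112) L38913
theorem L38922 : sm gj N3135 = N4520 := rfl
theorem L38924 : sm ga N4520 = N4520 := ded_16_1 (flp_j L38922) L27117 L38922
theorem L38925 : sm gb N4520 = N4520 := ded_24_1 (flp_j L38922) L27118 L38922
theorem L38926 : sm gd N4520 = N3179 := ded_37_1 (flp_j L27500) (flp_d L27119) L38922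
theorem L38928 : sm ge N4520 = N4520 := ded_42_1 (flp_j L38922) L27121 L38922
theorem L38929 : sm gh N4520 = N4520 := ded_52_2 (flp_j L38922) L27122 L38922
theorem L38930 : sm gi N4520 = N3142 := ded_53_2 (flp_j L27168) (flp_i L27123) L38922
theorem L38932 : sm gg N4520 = N4520 := ded_49_1 (flp_j L38922) (flp_g L27115) L18953 L27115 L38922
theorem L38933 : sm gd N3136 = N4521 := rfl
theorem L38935 : sm ga N4521 = N3137 := ded_12_1 (flp_d L27132) (flp_a L27127) L38933
theorem L38937 : sm gb N4521 = N4521 := ded_20_1 (flp_d L38933) L27129 L38933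
theorem L38938 : sm gj N4521 = N4521 := ded_37_2 (flp_d L38933) L27131 L38933
theorem L38939 : sm ge N4521 = N3291 := ded_34_2 (flp_d L28494) (flp_e L19865) (flp_d L18961) L27125 L38933
theorem L38941 : sm gf N3136 = N4522 := rfl
theorem L38943 : sm ga N4522 = N3138 := ded_14_1 (flp_f L27139) (flp_a L27127) L38941
theorem L38945 : sm gb N4522 = N4522 := ded_22_1 (flp_f L38941) L27129 L38941
theorem L38946 : sm gc N4522 = N4522 := ded_29_1 (flp_f L38941) L27130 L38941
theorem L38947 : sm gj N4522 = N4522 := ded_46_2 (flp_f L38941) L27131 L38941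
theorem L38948 : sm ge N4522 = N4522 := ded_40_1 (flp_f L38941) (flp_e L27125) L18963 L27125 L38941
theorem L38949 : sm gc N3137 = N4523 := rfl
theorem L38951 : sm ge N4523 = N3293 := ded_28_2 (flp_c L28510) (flp_e L27137) L38949
theorem L38953 : sm gj N4523 = N4523 := ded_31_2 (flp_c L38949) L27136 L38949
theorem L38954 : sm gb N4523 = N3182 := ded_19_1 (flp_c L27527) L19223 (flp_c L18976) (flp_b L27134) L38949
theorem L38956 : sm gd N4523 = N4523 := ded_27_2 (flp_c L38949) (flp_d L27132) L18970 L27132 L38949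
theorem L38957 : sm gf N3137 = N4524 := rfl
theorem L38959 : sm gb N4524 = N3139 := ded_22_1 (flp_f L27146) (flp_b L27134) L38957
theorem L38961 : sm gd N4524 = N3138 := ded_35_1 (flp_f L27139) L27132 L38957
theorem L38963 : sm gj N4524 = N4524 := ded_46_2 (flp_f L38957) L27136 L38957
theorem L38964 : sm gh N3137 = N4525 := rfl
theorem L38966 : sm gb N4525 = N3140 := ded_25_1 (flp_h L27154) (flp_b L27134) L38964
theorem L38968 : sm ge N4525 = N3295 := ded_43_1 (flp_h L28524) (flp_e L27137) L38964
theorem L38970 : sm gj N4525 = N4525 := ded_52_1 (flp_h L38964) L27136 L38964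
theorem L38971 : sm gg N3138 = N4526 := rfl
theorem L38973 : sm gb N4526 = N3141 := ded_23_1 (flp_g L27162) (flp_b L27141) L38971
theorem L38975 : sm gc N4526 = N4526 := ded_30_1 (flp_g L38971) L27143 L38971
theorem L38976 : sm ge N4526 = N4526 := ded_41_1 (flp_g L38971) L27145 L38971
theorem L38977 : sm ge N3139 = N4527 := rfl
theorem L38979 : sm ga N4527 = N4527 := ded_13_1 (flp_e L38977) L27148 L38977
theorem L38980 : sm gc N4527 = N3186 := ded_28_1 (flp_e L27556) (flp_c L27149) L38977
theorem L38982 : sm gj N4527 = N4527 := ded_42_2 (flp_e L38977) L27153 L38977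
theorem L38983 : sm gd N4527 = N4527 := ded_34_1 (flp_e L38977) L27151 L18986 (flp_d L27151) L38977
theorem L38984 : sm gf N4527 = N3297 := ded_40_2 (flp_e L28538) (flp_f L19888) (flp_e L18978) L27146 L38977
theorem L38986 : sm gg N3139 = N4528 := rfl
theorem L38988 : sm ga N4528 = N4528 := ded_15_1 (flp_g L38986) L27148 L38986
theorem L38989 : sm gc N4528 = N3187 := ded_30_1 (flp_g L27564) (flp_c L27149) L38986
theorem L38991 : sm gd N4528 = N3141 := ded_36_1 (flp_g L27162) (flp_d L27151) L38986
theorem L38993 : sm gh N3139 = N4529 := rfl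
theorem L38995 : sm ga N4529 = N4529 := ded_17_1 (flp_h L38993) L27148 L38993
theorem L38996 : sm gc N4529 = N3188 := ded_32_1 (flp_h L27569) (flp_c L27149) L38993
theorem L38998 : sm gf N4529 = N3140 := ded_47_1 (flp_h L27154) L27146 L38993
theorem L39000 : sm gj N4529 = N4529 := ded_52_1 (flp_h L38993) L27153 L38993
theorem L39001 : sm gi N3140 = N4530 := rfl
theorem L39003 : sm ga N4530 = N4530 := ded_18_1 (flp_i L39001) L27156 L39001
theorem L39004 : sm gc N4530 = N3189 := ded_33_1 (flp_i L27576) (flp_c L27157) L39001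
theorem L39006 : sm ge N4530 = N3300 := ded_44_1 (flp_i L28561) (flp_e L27159) L39001
theorem L39008 : sm gj N4530 = N4530 := ded_53_1 (flp_i L39001) L27161 L39001
theorem L39009 : sm gj N3141 = N4531 := rfl
theorem L39011 : sm ga N4531 = N4531 := ded_16_1 (flp_j L39009) L27164 L39009
theorem L39012 : sm gc N4531 = N3142 := ded_31_1 (flp_j L27168) (flp_c L27165) L39009
theorem L39014 : sm ge N4531 = N4531 := ded_42_1 (flp_j L39009) L27167 L39009
theorem L39015 : sm gg N4531 = N4531 := ded_49_1 (flp_j L39009) (flp_g L27162) L18985 L27162 L39009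
theorem L39016 : sm gb N3143 = N4532 := rfl
theorem L39018 : sm gd N4532 = N4532 := ded_20_2 (flp_b L39016) L27186 L39016
theorem L39019 : sm gf N4532 = N4532 := ded_22_2 (flp_b L39016) L27179 L39016
theorem L39020 : sm gg N4532 = N4532 := ded_23_2 (flp_b L39016) L27180 L39016
theorem L39021 : sm gj N4532 = N3153 := ded_24_2 (flp_b L27272) (flp_j L27181) L39016
theorem L39023 : sm gh N4532 = N3145 := ded_25_2 (flp_b L27198) (flp_h L27183) L39016
theorem L39025 : sm gi N4532 = N4532 := ded_26_2 (flp_b L39016) L27185 L39016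
theorem L39026 : sm gc N4532 = N4532 := ded_19_2 (flp_b L39016) (flp_c L27176) L18997 L27176 L39016
theorem L39027 : sm ge N3143 = N4533 := rfl
theorem L39029 : sm ga N4533 = N4533 := ded_13_1 (flp_e L39027) L27178 L39027
theorem L39030 : sm gc N4533 = N3144 := ded_28_1 (flp_e L27187) L27176 L39027
theorem L39032 : sm gg N4533 = N4533 := ded_41_2 (flp_e L39027) L27180 L39027
theorem L39033 : sm gj N4533 = N3154 := ded_42_2 (flp_e L27282) (flp_j L27181) L39027
theorem L39035 : sm gh N4533 = N3146 := ded_43_2 (flp_e L27209) (flp_h L27183) L39027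
theorem L39037 : sm gi N4533 = N4533 := ded_44_2 (flp_e L39027) L27185 L39027
theorem L39038 : sm gf N3144 = N4534 := rfl
theorem L39040 : sm ga N4534 = N4534 := ded_14_1 (flp_f L39038) L27189 L39038
theorem L39041 : sm gb N4534 = N4534 := ded_22_1 (flp_f L39038) L27190 L39038
theorem L39042 : sm gd N4534 = N4534 := ded_35_1 (flp_f L39038) L27197 L39038
theorem L39043 : sm gj N4534 = N3155 := ded_46_2 (flp_f L27292) (flp_j L27192) L39038
theorem L39045 : sm gh N4534 = N3147 := ded_47_2 (flp_f L27219) (flp_h L27194) L39038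
theorem L39047 : sm gi N4534 = N4534 := ded_48_2 (flp_f L39038) L27196 L39038
theorem L39048 : sm ge N4534 = N4534 := ded_40_1 (flp_f L39038) (flp_e L27187) L18998 L27187 L39038
theorem L39049 : sm ga N3145 = N4535 := rfl
theorem L39051 : sm gc N4535 = N4535 := ded_11_2 (flp_a L39049) L27208 L39049
theorem L39052 : sm gd N4535 = N3302 := ded_12_2 (flp_a L28576) (flp_d L27200) L39049
theorem L39054 : sm gf N4535 = N4535 := ded_14_2 (flp_a L39049) L27202 L39049
theorem L39055 : sm gg N4535 = N4535 := ded_15_2 (flp_a L39049) L27203 L39049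
theorem L39056 : sm gj N4535 = N3156 := ded_16_2 (flp_a L27301) (flp_j L27204) L39049
theorem L39058 : sm gi N4535 = N3148 := ded_18_2 (flp_a L27228) (flp_i L27206) L39049
theorem L39060 : sm gb N4535 = N4535 := ded_10_2 (flp_a L39049) (flp_b L27198) L19007 L27198 L39049
theorem L39061 : sm ge N3145 = N4536 := rfl
theorem L39063 : sm gb N4536 = N3146 := ded_21_1 (flp_e L27209) L27198 L39061
theorem L39065 : sm gc N4536 = N4536 := ded_28_1 (flp_e L39061) L27208 L39061
theorem L39066 : sm gg N4536 = N4536 := ded_41_2 (flp_e L39061) L27203 L39061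
theorem L39067 : sm gj N4536 = N3157 := ded_42_2 (flp_e L27312) (flp_j L27204) L39061
theorem L39069 : sm gi N4536 = N3149 := ded_44_2 (flp_e L27239) (flp_i L27206) L39061
theorem L39071 : sm gd N3146 = N4537 := rfl
theorem L39073 : sm ga N4537 = N4537 := ded_12_1 (flp_d L39071) L27211 L39071
theorem L39074 : sm gg N4537 = N4537 := ded_36_2 (flp_d L39071) L27214 L39071
theorem L39075 : sm gj N4537 = N3158 := ded_37_2 (flp_d L27321) (flp_j L27215) L39071
theorem L39077 : sm gi N4537 = N3150 := ded_39_2 (flp_d L27248) (flp_i L27217) L39071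
theorem L39079 : sm ge N4537 = N3304 := ded_34_2 (flp_d L28600) (flp_e L19931) (flp_d L19014) L27209 L39071
theorem L39081 : sm gf N3146 = N4538 := rfl
theorem L39083 : sm ga N4538 = N4538 := ded_14_1 (flp_f L39081) L27211 L39081
theorem L39084 : sm gc N4538 = N3147 := ded_29_1 (flp_f L27219) (flp_c L27212) L39081
theorem L39086 : sm gj N4538 = N3159 := ded_46_2 (flp_f L27330) (flp_j L27215) L39081
theorem L39088 : sm gi N4538 = N3151 := ded_48_2 (flp_f L27256) (flp_i L27217) L39081
theorem L39090 : sm ge N4538 = N4538 := ded_40_1 (flp_f L39081) (flp_e L27209) L19008 L27209 L39081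
theorem L39091 : sm gg N3147 = N4539 := rfl
theorem L39093 : sm ga N4539 = N4539 := ded_15_1 (flp_g L39091) L27221 L39091
theorem L39094 : sm gb N4539 = N4539 := ded_23_1 (flp_g L39091) L27222 L39091
theorem L39095 : sm ge N4539 = N4539 := ded_41_1 (flp_g L39091) L27227 L39091
theorem L39096 : sm gi N4539 = N3152 := ded_51_2 (flp_g L27265) (flp_i L27225) L39091
theorem L39098 : sm gf N4539 = N4539 := ded_45_1 (flp_g L39091) (flp_f L27219) L19020 L27219 L39091
theorem L39099 : sm ge N3148 = N4540 := rfl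
theorem L39101 : sm ga N4540 = N3149 := ded_13_1 (flp_e L27239) L27228 L39099
theorem L39103 : sm gb N4540 = N4540 := ded_21_1 (flp_e L39099) L27238 L39099
theorem L39104 : sm gc N4540 = N4540 := ded_28_1 (flp_e L39099) L27230 L39099
theorem L39105 : sm gg N4540 = N4540 := ded_41_2 (flp_e L39099) L27234 L39099
theorem L39106 : sm gj N4540 = N3161 := ded_42_2 (flp_e L27347) (flp_j L27235) L39099
theorem L39108 : sm gh N4540 = N4540 := ded_43_2 (flp_e L39099) L27237 L39099
theorem L39109 : sm gd N3149 = N4541 := rfl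
theorem L39111 : sm gb N4541 = N3150 := ded_20_1 (flp_d L27248) (flp_b L27241) L39109
theorem L39113 : sm gg N4541 = N4541 := ded_36_2 (flp_d L39109) L27244 L39109
theorem L39114 : sm gj N4541 = N3162 := ded_37_2 (flp_d L27356) (flp_j L27245) L39109
theorem L39116 : sm ge N4541 = N3308 := ded_34_2 (flp_d L28641) (flp_e L19964) (flp_d L19027) L27239 L39109
theorem L39118 : sm gf N3149 = N4542 := rfl
theorem L39120 : sm gb N4542 = N3151 := ded_22_1 (flp_f L27256) (flp_b L27241) L39118
theorem L39122 : sm gc N4542 = N4542 := ded_29_1 (flp_f L39118) L27243 L39118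
theorem L39123 : sm gj N4542 = N3163 := ded_46_2 (flp_f L27364) (flp_j L27245) L39118
theorem L39125 : sm gh N4542 = N4542 := ded_47_2 (flp_f L39118) L27247 L39118
theorem L39126 : sm ge N4542 = N4542 := ded_40_1 (flp_f L39118) (flp_e L27239) L19029 L27239 L39118
theorem L39127 : sm gf N3150 = N4543 := rfl
theorem L39129 : sm ga N4543 = N4543 := ded_14_1 (flp_f L39127) L27250 L39127
theorem L39130 : sm gd N4543 = N3151 := ded_35_1 (flp_f L27256) L27248 L39127
theorem L39132 : sm gj N4543 = N3164 := ded_46_2 (flp_f L27371) (flp_j L27252) L39127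
theorem L39134 : sm gh N3150 = N4544 := rfl
theorem L39136 : sm ga N4544 = N4544 := ded_17_1 (flp_h L39134) L27250 L39134
theorem L39137 : sm ge N4544 = N3311 := ded_43_1 (flp_h L28666) (flp_e L27254) L39134
theorem L39139 : sm gg N4544 = N4544 := ded_50_1 (flp_h L39134) L27251 L39134
theorem L39140 : sm gj N4544 = N3165 := ded_52_1 (flp_h L27376) (flp_j L27252) L39134
theorem L39142 : sm gd N4544 = N4544 := ded_38_1 (flp_h L39134) (flp_d L27248) L19043 L27248 L39134
theorem L39143 : sm gg N3151 = N4545 := rfl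
theorem L39145 : sm ga N4545 = N4545 := ded_15_1 (flp_g L39143) L27258 L39143
theorem L39146 : sm gc N4545 = N3152 := ded_30_1 (flp_g L27265) (flp_c L27259) L39143
theorem L39148 : sm ge N4545 = N4545 := ded_41_1 (flp_g L39143) L27264 L39143
theorem L39149 : sm gh N4545 = N4545 := ded_50_2 (flp_g L39143) L27263 L39143
theorem L39150 : sm gf N4545 = N4545 := ded_45_1 (flp_g L39143) (flp_f L27256) L19040 L27256 L39143
theorem L39151 : sm gj N3152 = N4546 := rfl
theorem L39153 : sm ga N4546 = N4546 := ded_16_1 (flp_j L39151) L27267 L39151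
theorem L39154 : sm gb N4546 = N4546 := ded_24_1 (flp_j L39151) L27268 L39151
theorem L39155 : sm ge N4546 = N4546 := ded_42_1 (flp_j L39151) L27269 L39151
theorem L39156 : sm gf N4546 = N4546 := ded_46_1 (flp_j L39151) L27271 L39151
theorem L39157 : sm gh N4546 = N4546 := ded_52_2 (flp_j L39151) L27270 L39151
theorem L39158 : sm gg N4546 = N3167 := ded_49_1 (flp_j L27393) (flp_g L19130) (flp_j L19048) L27265 L39151
theorem L39160 : sm ga N3153 = N4547 := rfl
theorem L39162 : sm gc N4547 = N4547 := ded_11_2 (flp_a L39160) L27281 L39160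
theorem L39163 : sm gd N4547 = N4547 := ded_12_2 (flp_a L39160) L27274 L39160
theorem L39164 : sm gf N4547 = N4547 := ded_14_2 (flp_a L39160) L27275 L39160
theorem L39165 : sm gg N4547 = N3168 := ded_15_2 (flp_a L27401) (flp_g L27276) L39160
theorem L39167 : sm gh N4547 = N3156 := ded_17_2 (flp_a L27301) (flp_h L27278) L39160
theorem L39169 : sm gi N4547 = N4547 := ded_18_2 (flp_a L39160) L27280 L39160
theorem L39170 : sm gb N4547 = N4547 := ded_10_2 (flp_a L39160) (flp_b L27272) L19054 L27272 L39160
theorem L39171 : sm ge N3153 = N4548 := rfl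
theorem L39173 : sm gb N4548 = N3154 := ded_21_1 (flp_e L27282) L27272 L39171
theorem L39175 : sm gc N4548 = N4548 := ded_28_1 (flp_e L39171) L27281 L39171
theorem L39176 : sm gg N4548 = N3169 := ded_41_2 (flp_e L27412) (flp_g L27276) L39171
theorem L39178 : sm gh N4548 = N3157 := ded_43_2 (flp_e L27312) (flp_h L27278) L39171
theorem L39180 : sm gi N4548 = N4548 := ded_44_2 (flp_e L39171) L27280 L39171
theorem L39181 : sm gd N3154 = N4549 := rfl
theorem L39183 : sm ga N4549 = N4549 := ded_12_1 (flp_d L39181) L27284 L39181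
theorem L39184 : sm gg N4549 = N3170 := ded_36_2 (flp_d L27421) (flp_g L27287) L39181
theorem L39186 : sm gi N4549 = N4549 := ded_39_2 (flp_d L39181) L27291 L39181
theorem L39187 : sm gc N4549 = N4549 := ded_27_1 (flp_d L39181) L27285 L19071 (flp_c L27285) L39181
theorem L39188 : sm ge N4549 = N4549 := ded_34_2 (flp_d L39181) (flp_e L27282) L19061 L27282 L39181
theorem L39189 : sm gf N3154 = N4550 := rfl
theorem L39191 : sm ga N4550 = N4550 := ded_14_1 (flp_f L39189) L27284 L39189
theorem L39192 : sm gc N4550 = N3155 := ded_29_1 (flp_f L27292) (flp_c L27285) L39189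
theorem L39194 : sm gh N4550 = N3159 := ded_47_2 (flp_f L27330) (flp_h L27289) L39189
theorem L39196 : sm gi N4550 = N4550 := ded_48_2 (flp_f L39189) L27291 L39189
theorem L39197 : sm ge N4550 = N4550 := ded_40_1 (flp_f L39189) (flp_e L27282) L19055 L27282 L39189
theorem L39198 : sm gg N3155 = N4551 := rfl
theorem L39200 : sm ga N4551 = N4551 := ded_15_1 (flp_g L39198) L27294 L39198
theorem L39201 : sm gb N4551 = N4551 := ded_23_1 (flp_g L39198) L27295 L39198
theorem L39202 : sm gd N4551 = N4551 := ded_36_1 (flp_g L39198) L27296 L39198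
theorem L39203 : sm ge N4551 = N4551 := ded_41_1 (flp_g L39198) L27300 L39198
theorem L39204 : sm gh N4551 = N3160 := ded_50_2 (flp_g L27338) (flp_h L27297) L39198
theorem L39206 : sm gi N4551 = N4551 := ded_51_2 (flp_g L39198) L27299 L39198
theorem L39207 : sm gf N4551 = N3172 := ded_45_1 (flp_g L27439) (flp_f L19157) (flp_g L19066) L27292 L39198
theorem L39209 : sm ge N3156 = N4552 := rfl
theorem L39211 : sm ga N4552 = N3157 := ded_13_1 (flp_e L27312) L27301 L39209
theorem L39213 : sm gb N4552 = N4552 := ded_21_1 (flp_e L39209) L27311 L39209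
theorem L39214 : sm gc N4552 = N4552 := ded_28_1 (flp_e L39209) L27303 L39209
theorem L39215 : sm gg N4552 = N3173 := ded_41_2 (flp_e L27449) (flp_g L27307) L39209
theorem L39217 : sm gi N4552 = N3161 := ded_44_2 (flp_e L27347) (flp_i L27309) L39209
theorem L39219 : sm gd N3157 = N4553 := rfl
theorem L39221 : sm gb N4553 = N3158 := ded_20_1 (flp_d L27321) (flp_b L27314) L39219
theorem L39223 : sm gg N4553 = N3174 := ded_36_2 (flp_d L27458) (flp_g L27317) L39219
theorem L39225 : sm gi N4553 = N3162 := ded_39_2 (flp_d L27356) (flp_i L27319) L39219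
theorem L39227 : sm ge N4553 = N3315 := ded_34_2 (flp_d L28706) (flp_e L20011) (flp_d L19074) L27312 L39219
theorem L39229 : sm gf N3157 = N4554 := rfl
theorem L39231 : sm gb N4554 = N3159 := ded_22_1 (flp_f L27330) (flp_b L27314) L39229
theorem L39233 : sm gc N4554 = N4554 := ded_29_1 (flp_f L39229) L27316 L39229
theorem L39234 : sm gi N4554 = N3163 := ded_48_2 (flp_f L27364) (flp_i L27319) L39229
theorem L39236 : sm ge N4554 = N4554 := ded_40_1 (flp_f L39229) (flp_e L27312) L19076 L27312 L39229
theorem L39237 : sm gf N3158 = N4555 := rfl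
theorem L39239 : sm ga N4555 = N4555 := ded_14_1 (flp_f L39237) L27323 L39237
theorem L39240 : sm gd N4555 = N3159 := ded_35_1 (flp_f L27330) L27321 L39237
theorem L39242 : sm gi N4555 = N3164 := ded_48_2 (flp_f L27371) (flp_i L27326) L39237
theorem L39244 : sm gh N3158 = N4556 := rfl
theorem L39246 : sm ga N4556 = N4556 := ded_17_1 (flp_h L39244) L27323 L39244
theorem L39247 : sm ge N4556 = N3318 := ded_43_1 (flp_h L28731) (flp_e L27328) L39244
theorem L39249 : sm gg N4556 = N3177 := ded_50_1 (flp_h L27485) (flp_g L27324) L39244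
theorem L39251 : sm gg N3159 = N4557 := rfl
theorem L39253 : sm ga N4557 = N4557 := ded_15_1 (flp_g L39251) L27332 L39251
theorem L39254 : sm gc N4557 = N3160 := ded_30_1 (flp_g L27338) (flp_c L27333) L39251
theorem L39256 : sm ge N4557 = N4557 := ded_41_1 (flp_g L39251) L27337 L39251
theorem L39257 : sm gi N4557 = N3166 := ded_51_2 (flp_g L27384) (flp_i L27335) L39251
theorem L39259 : sm gf N4557 = N3178 := ded_45_1 (flp_g L27491) (flp_f L19195) (flp_g L19087) L27330 L39251
theorem L39261 : sm gj N3160 = N4558 := rfl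
theorem L39263 : sm ga N4558 = N4558 := ded_16_1 (flp_j L39261) L27340 L39261
theorem L39264 : sm gb N4558 = N4558 := ded_24_1 (flp_j L39261) L27341 L39261
theorem L39265 : sm ge N4558 = N4558 := ded_42_1 (flp_j L39261) L27342 L39261
theorem L39266 : sm gf N4558 = N3179 := ded_46_1 (flp_j L27500) (flp_f L27345) L39261
theorem L39268 : sm gi N4558 = N3167 := ded_53_2 (flp_j L27393) (flp_i L27343) L39261
theorem L39270 : sm gd N3161 = N4559 := rfl
theorem L39272 : sm ga N4559 = N3162 := ded_12_1 (flp_d L27356) (flp_a L27349) L39270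
theorem L39274 : sm gb N4559 = N4559 := ded_20_1 (flp_d L39270) L27351 L39270
theorem L39275 : sm gg N4559 = N3180 := ded_36_2 (flp_d L27509) (flp_g L27353) L39270
theorem L39277 : sm ge N4559 = N3321 := ded_34_2 (flp_d L28759) (flp_e L20049) (flp_d L19101) L27347 L39270
theorem L39279 : sm gf N3161 = N4560 := rfl
theorem L39281 : sm ga N4560 = N3163 := ded_14_1 (flp_f L27364) (flp_a L27349) L39279
theorem L39283 : sm gb N4560 = N4560 := ded_22_1 (flp_f L39279) L27351 L39279
theorem L39284 : sm gc N4560 = N4560 := ded_29_1 (flp_f L39279) L27352 L39279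
theorem L39285 : sm gh N4560 = N4560 := ded_47_2 (flp_f L39279) L27355 L39279
theorem L39286 : sm ge N4560 = N4560 := ded_40_1 (flp_f L39279) (flp_e L27347) L19103 L27347 L39279
theorem L39287 : sm gc N3162 = N4561 := rfl
theorem L39289 : sm ge N4561 = N3323 := ded_28_2 (flp_c L28776) (flp_e L27362) L39287
theorem L39291 : sm gg N4561 = N3182 := ded_30_2 (flp_c L27527) (flp_g L27360) L39287
theorem L39293 : sm gd N4561 = N4561 := ded_27_2 (flp_c L39287) (flp_d L27356) L19112 L27356 L39287
theorem L39294 : sm gf N3162 = N4562 := rfl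
theorem L39296 : sm gb N4562 = N3164 := ded_22_1 (flp_f L27371) (flp_b L27358) L39294
theorem L39298 : sm gd N4562 = N3163 := ded_35_1 (flp_f L27364) L27356 L39294
theorem L39300 : sm gh N3162 = N4563 := rfl
theorem L39302 : sm gb N4563 = N3165 := ded_25_1 (flp_h L27376) (flp_b L27358) L39300
theorem L39304 : sm ge N4563 = N3325 := ded_43_1 (flp_h L28788) (flp_e L27362) L39300
theorem L39306 : sm gg N4563 = N3184 := ded_50_1 (flp_h L27540) (flp_g L27360) L39300
theorem L39308 : sm gd N4563 = N4563 := ded_38_1 (flp_h L39300) (flp_d L27356) L19115 L27356 L39300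
theorem L39309 : sm gg N3163 = N4564 := rfl
theorem L39311 : sm gb N4564 = N3166 := ded_23_1 (flp_g L27384) (flp_b L27366) L39309
theorem L39313 : sm gc N4564 = N4564 := ded_30_1 (flp_g L39309) L27368 L39309
theorem L39314 : sm ge N4564 = N4564 := ded_41_1 (flp_g L39309) L27370 L39309
theorem L39315 : sm gh N4564 = N4564 := ded_50_2 (flp_g L39309) L27369 L39309
theorem L39316 : sm gf N4564 = N3185 := ded_45_1 (flp_g L27548) (flp_f L19228) (flp_g L19113) L27364 L39309
theorem L39318 : sm ge N3164 = N4565 := rfl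
theorem L39320 : sm ga N4565 = N4565 := ded_13_1 (flp_e L39318) L27373 L39318
theorem L39321 : sm gd N4565 = N4565 := ded_34_1 (flp_e L39318) L27374 L19129 (flp_d L27374) L39318
theorem L39322 : sm gf N4565 = N3327 := ded_40_2 (flp_e L28807) (flp_f L20075) (flp_e L19121) L27371 L39318
theorem L39324 : sm gg N3164 = N4566 := rfl
theorem L39326 : sm ga N4566 = N4566 := ded_15_1 (flp_g L39324) L27373 L39324
theorem L39327 : sm gd N4566 = N3166 := ded_36_1 (flp_g L27384) (flp_d L27374) L39324
theorem L39329 : sm gf N4566 = N3187 := ded_45_1 (flp_g L27564) (flp_f L19237) (flp_g L19119) L27371 L39324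
theorem L39331 : sm gh N3164 = N4567 := rfl
theorem L39333 : sm ga N4567 = N4567 := ded_17_1 (flp_h L39331) L27373 L39331
theorem L39334 : sm gf N4567 = N3165 := ded_47_1 (flp_h L27376) L27371 L39331
theorem L39336 : sm gd N4567 = N4567 := ded_38_1 (flp_h L39331) L27374 L19128 (flp_d L27374) L39331
theorem L39337 : sm gi N3165 = N4568 := rfl
theorem L39339 : sm ga N4568 = N4568 := ded_18_1 (flp_i L39337) L27378 L39337
theorem L39340 : sm gd N4568 = N4568 := ded_39_1 (flp_i L39337) L27383 L39337
theorem L39341 : sm ge N4568 = N3330 := ded_44_1 (flp_i L28825) (flp_e L27379) L39337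
theorem L39343 : sm gg N4568 = N3189 := ded_51_1 (flp_i L27576) (flp_g L27381) L39337
theorem L39345 : sm gj N3166 = N4569 := rfl
theorem L39347 : sm ga N4569 = N4569 := ded_16_1 (flp_j L39345) L27386 L39345
theorem L39348 : sm gc N4569 = N3167 := ded_31_1 (flp_j L27393) (flp_c L27387) L39345
theorem L39350 : sm ge N4569 = N4569 := ded_42_1 (flp_j L39345) L27389 L39345
theorem L39351 : sm gf N4569 = N3190 := ded_46_1 (flp_j L27583) (flp_f L27391) L39345
theorem L39353 : sm gh N4569 = N4569 := ded_52_2 (flp_j L39345) L27390 L39345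
theorem L39354 : sm ge N3168 = N4570 := rfl
theorem L39356 : sm ga N4570 = N3169 := ded_13_1 (flp_e L27412) L27401 L39354
theorem L39358 : sm gb N4570 = N4570 := ded_21_1 (flp_e L39354) L27411 L39354
theorem L39359 : sm gc N4570 = N4570 := ded_28_1 (flp_e L39354) L27403 L39354
theorem L39360 : sm gj N4570 = N4570 := ded_42_2 (flp_e L39354) L27407 L39354
theorem L39361 : sm gh N4570 = N3173 := ded_43_2 (flp_e L27449) (flp_h L27408) L39354
theorem L39363 : sm gi N4570 = N4570 := ded_44_2 (flp_e L39354) L27410 L39354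
theorem L39364 : sm gd N3169 = N4571 := rfl
theorem L39366 : sm gb N4571 = N3170 := ded_20_1 (flp_d L27421) (flp_b L27414) L39364
theorem L39368 : sm gj N4571 = N4571 := ded_37_2 (flp_d L39364) L27417 L39364
theorem L39369 : sm gi N4571 = N4571 := ded_39_2 (flp_d L39364) L27420 L39364
theorem L39370 : sm ge N4571 = N4571 := ded_34_2 (flp_d L39364) (flp_e L27412) L19140 L27412 L39364
theorem L39371 : sm gf N3169 = N4572 := rfl
theorem L39373 : sm gb N4572 = N3171 := ded_22_1 (flp_f L27428) (flp_b L27414) L39371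
theorem L39375 : sm gc N4572 = N4572 := ded_29_1 (flp_f L39371) L27416 L39371
theorem L39376 : sm gj N4572 = N4572 := ded_46_2 (flp_f L39371) L27417 L39371
theorem L39377 : sm gh N4572 = N3175 := ded_47_2 (flp_f L27467) (flp_h L27418) L39371
theorem L39379 : sm gi N4572 = N4572 := ded_48_2 (flp_f L39371) L27420 L39371
theorem L39380 : sm ge N4572 = N3198 := ded_40_1 (flp_f L27658) (flp_e L19304) (flp_f L19141) L27412 L39371
theorem L39382 : sm gf N3170 = N4573 := rfl
theorem L39384 : sm ga N4573 = N4573 := ded_14_1 (flp_f L39382) L27423 L39382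
theorem L39385 : sm gc N4573 = N4573 := ded_29_1 (flp_f L39382) L27426 L39382
theorem L39386 : sm gd N4573 = N3171 := ded_35_1 (flp_f L27428) L27421 L39382
theorem L39388 : sm gj N4573 = N4573 := ded_46_2 (flp_f L39382) L27424 L39382
theorem L39389 : sm gi N4573 = N4573 := ded_48_2 (flp_f L39382) L27425 L39382
theorem L39390 : sm gh N3170 = N4574 := rfl
theorem L39392 : sm ga N4574 = N4574 := ded_17_1 (flp_h L39390) L27423 L39390
theorem L39393 : sm gc N4574 = N4574 := ded_32_1 (flp_h L39390) L27426 L39390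
theorem L39394 : sm ge N4574 = N4574 := ded_43_1 (flp_h L39390) L27427 L39390
theorem L39395 : sm gj N4574 = N4574 := ded_52_1 (flp_h L39390) L27424 L39390
theorem L39396 : sm gd N4574 = N3177 := ded_38_1 (flp_h L27485) (flp_d L19187) (flp_h L19154) L27421 L39390
theorem L39398 : sm gg N3171 = N4575 := rfl
theorem L39400 : sm ga N4575 = N4575 := ded_15_1 (flp_g L39398) L27430 L39398
theorem L39401 : sm gc N4575 = N3172 := ded_30_1 (flp_g L27439) (flp_c L27431) L39398
theorem L39403 : sm ge N4575 = N3201 := ded_41_1 (flp_g L27682) (flp_e L27437) L39398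
theorem L39405 : sm gh N4575 = N3178 := ded_50_2 (flp_g L27491) (flp_h L27434) L39398
theorem L39407 : sm gi N4575 = N4575 := ded_51_2 (flp_g L39398) L27436 L39398
theorem L39408 : sm gj N3172 = N4576 := rfl
theorem L39410 : sm ga N4576 = N4576 := ded_16_1 (flp_j L39408) L27441 L39408
theorem L39411 : sm gb N4576 = N4576 := ded_24_1 (flp_j L39408) L27442 L39408
theorem L39412 : sm gd N4576 = N4576 := ded_37_1 (flp_j L39408) L27443 L39408
theorem L39413 : sm ge N4576 = N3202 := ded_42_1 (flp_j L27691) (flp_e L27444) L39408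
theorem L39415 : sm gh N4576 = N3179 := ded_52_2 (flp_j L27500) (flp_h L27446) L39408
theorem L39417 : sm gi N4576 = N4576 := ded_53_2 (flp_j L39408) L27448 L39408
theorem L39418 : sm gg N4576 = N4576 := ded_49_1 (flp_j L39408) (flp_g L27439) L19162 L27439 L39408
theorem L39419 : sm gd N3173 = N4577 := rfl
theorem L39421 : sm ga N4577 = N3174 := ded_12_1 (flp_d L27458) (flp_a L27451) L39419
theorem L39423 : sm gb N4577 = N4577 := ded_20_1 (flp_d L39419) L27453 L39419
theorem L39424 : sm gj N4577 = N4577 := ded_37_2 (flp_d L39419) L27455 L39419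
theorem L39425 : sm gi N4577 = N3180 := ded_39_2 (flp_d L27509) (flp_i L27456) L39419
theorem L39427 : sm ge N4577 = N3332 := ded_34_2 (flp_d L28842) (flp_e L20107) (flp_d L19171) L27449 L39419
theorem L39429 : sm gf N3173 = N4578 := rfl
theorem L39431 : sm ga N4578 = N3175 := ded_14_1 (flp_f L27467) (flp_a L27451) L39429
theorem L39433 : sm gb N4578 = N4578 := ded_22_1 (flp_f L39429) L27453 L39429
theorem L39434 : sm gc N4578 = N4578 := ded_29_1 (flp_f L39429) L27454 L39429
theorem L39435 : sm gj N4578 = N4578 := ded_46_2 (flp_f L39429) L27455 L39429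
theorem L39436 : sm gi N4578 = N3181 := ded_48_2 (flp_f L27517) (flp_i L27456) L39429
theorem L39438 : sm ge N4578 = N3204 := ded_40_1 (flp_f L27711) (flp_e L19338) (flp_f L19173) L27449 L39429
theorem L39440 : sm gc N3174 = N4579 := rfl
theorem L39442 : sm ge N4579 = N3334 := ded_28_2 (flp_c L28863) (flp_e L27465) L39440
theorem L39444 : sm gj N4579 = N4579 := ded_31_2 (flp_c L39440) L27462 L39440
theorem L39445 : sm gi N4579 = N3182 := ded_33_2 (flp_c L27527) (flp_i L27463) L39440
theorem L39447 : sm gd N4579 = N4579 := ded_27_2 (flp_c L39440) (flp_d L27458) L19183 L27458 L39440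
theorem L39448 : sm gf N3174 = N4580 := rfl
theorem L39450 : sm gb N4580 = N3176 := ded_22_1 (flp_f L27477) (flp_b L27460) L39448
theorem L39452 : sm gd N4580 = N3175 := ded_35_1 (flp_f L27467) L27458 L39448
theorem L39454 : sm gj N4580 = N4580 := ded_46_2 (flp_f L39448) L27462 L39448
theorem L39455 : sm gi N4580 = N3183 := ded_48_2 (flp_f L27533) (flp_i L27463) L39448
theorem L39457 : sm gh N3174 = N4581 := rfl
theorem L39459 : sm gb N4581 = N3177 := ded_25_1 (flp_h L27485) (flp_b L27460) L39457
theorem L39461 : sm ge N4581 = N3336 := ded_43_1 (flp_h L28879) (flp_e L27465) L39457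
theorem L39463 : sm gj N4581 = N4581 := ded_52_1 (flp_h L39457) L27462 L39457
theorem L39464 : sm gg N3175 = N4582 := rfl
theorem L39466 : sm gb N4582 = N3178 := ded_23_1 (flp_g L27491) (flp_b L27469) L39464
theorem L39468 : sm gc N4582 = N4582 := ded_30_1 (flp_g L39464) L27471 L39464
theorem L39469 : sm ge N4582 = N3208 := ded_41_1 (flp_g L27747) (flp_e L27475) L39464
theorem L39471 : sm gi N4582 = N3185 := ded_51_2 (flp_g L27548) (flp_i L27473) L39464
theorem L39473 : sm ge N3176 = N4583 := rfl
theorem L39475 : sm ga N4583 = N4583 := ded_13_1 (flp_e L39473) L27479 L39473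
theorem L39476 : sm gj N4583 = N4583 := ded_42_2 (flp_e L39473) L27482 L39473
theorem L39477 : sm gi N4583 = N3186 := ded_44_2 (flp_e L27556) (flp_i L27483) L39473
theorem L39479 : sm gd N4583 = N3209 := ded_34_1 (flp_e L27755) L19370 (flp_e L19203) (flp_d L27480) L39473
theorem L39481 : sm gf N4583 = N3338 := ded_40_2 (flp_e L28896) (flp_f L20137) (flp_e L19193) L27477 L39473
theorem L39483 : sm gg N3176 = N4584 := rfl
theorem L39485 : sm ga N4584 = N4584 := ded_15_1 (flp_g L39483) L27479 L39483
theorem L39486 : sm gd N4584 = N3178 := ded_36_1 (flp_g L27491) (flp_d L27480) L39483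
theorem L39488 : sm gi N4584 = N3187 := ded_51_2 (flp_g L27564) (flp_i L27483) L39483
theorem L39490 : sm gh N3176 = N4585 := rfl
theorem L39492 : sm ga N4585 = N4585 := ded_17_1 (flp_h L39490) L27479 L39490
theorem L39493 : sm gf N4585 = N3177 := ded_47_1 (flp_h L27485) L27477 L39490
theorem L39495 : sm gj N4585 = N4585 := ded_52_1 (flp_h L39490) L27482 L39490
theorem L39496 : sm gi N3177 = N4586 := rfl
theorem L39498 : sm ga N4586 = N4586 := ded_18_1 (flp_i L39496) L27487 L39496
theorem L39499 : sm ge N4586 = N3341 := ded_44_1 (flp_i L28918) (flp_e L27488) L39496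
theorem L39501 : sm gj N4586 = N4586 := ded_53_1 (flp_i L39496) L27490 L39496
theorem L39502 : sm gh N4586 = N3189 := ded_54_1 (flp_i L27576) (flp_h L19243) (flp_i L19191) L27485 L39496
theorem L39504 : sm gj N3178 = N4587 := rfl
theorem L39506 : sm ga N4587 = N4587 := ded_16_1 (flp_j L39504) L27493 L39504
theorem L39507 : sm gc N4587 = N3179 := ded_31_1 (flp_j L27500) (flp_c L27494) L39504
theorem L39509 : sm ge N4587 = N3213 := ded_42_1 (flp_j L27790) (flp_e L27496) L39504
theorem L39511 : sm gi N4587 = N3190 := ded_53_2 (flp_j L27583) (flp_i L27498) L39504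
theorem L39513 : sm gg N4587 = N4587 := ded_49_1 (flp_j L39504) (flp_g L27491) L19200 L27491 L39504
theorem L39514 : sm gc N3180 = N4588 := rfl
theorem L39516 : sm ga N4588 = N3182 := ded_11_1 (flp_c L27527) (flp_a L27511) L39514
theorem L39518 : sm ge N4588 = N3343 := ded_28_2 (flp_c L28936) (flp_e L27515) L39514
theorem L39520 : sm gj N4588 = N4588 := ded_31_2 (flp_c L39514) L27514 L39514
theorem L39521 : sm gd N4588 = N4588 := ded_27_2 (flp_c L39514) (flp_d L27509) L19218 L27509 L39514
theorem L39522 : sm gf N3180 = N4589 := rfl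
theorem L39524 : sm ga N4589 = N3183 := ded_14_1 (flp_f L27533) (flp_a L27511) L39522
theorem L39526 : sm gb N4589 = N4589 := ded_22_1 (flp_f L39522) L27513 L39522
theorem L39527 : sm gd N4589 = N3181 := ded_35_1 (flp_f L27517) L27509 L39522
theorem L39529 : sm gj N4589 = N4589 := ded_46_2 (flp_f L39522) L27514 L39522
theorem L39530 : sm gh N3180 = N4590 := rfl
theorem L39532 : sm ga N4590 = N3184 := ded_17_1 (flp_h L27540) (flp_a L27511) L39530
theorem L39534 : sm gb N4590 = N4590 := ded_25_1 (flp_h L39530) L27513 L39530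
theorem L39535 : sm ge N4590 = N3345 := ded_43_1 (flp_h L28951) (flp_e L27515) L39530
theorem L39537 : sm gj N4590 = N4590 := ded_52_1 (flp_h L39530) L27514 L39530
theorem L39538 : sm gd N4590 = N4590 := ded_38_1 (flp_h L39530) (flp_d L27509) L19220 L27509 L39530
theorem L39539 : sm gg N3181 = N4591 := rfl
theorem L39541 : sm ga N4591 = N3185 := ded_15_1 (flp_g L27548) (flp_a L27519) L39539
theorem L39543 : sm gb N4591 = N4591 := ded_23_1 (flp_g L39539) L27521 L39539
theorem L39544 : sm gc N4591 = N4591 := ded_30_1 (flp_g L39539) L27522 L39539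
theorem L39545 : sm ge N4591 = N3217 := ded_41_1 (flp_g L27826) (flp_e L27525) L39539
theorem L39547 : sm gh N4591 = N4591 := ded_50_2 (flp_g L39539) L27524 L39539
theorem L39548 : sm gf N3182 = N4592 := rfl
theorem L39550 : sm gc N4592 = N3183 := ded_29_1 (flp_f L27533) L27527 L39548
theorem L39552 : sm gd N4592 = N4592 := ded_35_1 (flp_f L39548) L27532 L39548
theorem L39553 : sm gj N4592 = N4592 := ded_46_2 (flp_f L39548) L27531 L39548
theorem L39554 : sm gh N3182 = N4593 := rfl
theorem L39556 : sm gc N4593 = N3184 := ded_32_1 (flp_h L27540) L27527 L39554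
theorem L39558 : sm ge N4593 = N3348 := ded_43_1 (flp_h L28977) (flp_e L27529) L39554
theorem L39560 : sm gj N4593 = N4593 := ded_52_1 (flp_h L39554) L27531 L39554
theorem L39561 : sm ge N3183 = N4594 := rfl
theorem L39563 : sm gb N4594 = N3186 := ded_21_1 (flp_e L27556) (flp_b L27535) L39561
theorem L39565 : sm gj N4594 = N4594 := ded_42_2 (flp_e L39561) L27539 L39561
theorem L39566 : sm gd N4594 = N3220 := ded_34_1 (flp_e L27850) L19429 (flp_e L19235) (flp_d L27537) L39561
theorem L39568 : sm gf N4594 = N3349 := ded_40_2 (flp_e L28982) (flp_f L20194) (flp_e L19226) L27533 L39561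
theorem L39570 : sm gg N3183 = N4595 := rfl
theorem L39572 : sm gb N4595 = N3187 := ded_23_1 (flp_g L27564) (flp_b L27535) L39570
theorem L39574 : sm gd N4595 = N3185 := ded_36_1 (flp_g L27548) (flp_d L27537) L39570
theorem L39576 : sm gh N3183 = N4596 := rfl
theorem L39578 : sm gb N4596 = N3188 := ded_25_1 (flp_h L27569) (flp_b L27535) L39576
theorem L39580 : sm gf N4596 = N3184 := ded_47_1 (flp_h L27540) L27533 L39576
theorem L39582 : sm gj N4596 = N4596 := ded_52_1 (flp_h L39576) L27539 L39576
theorem L39583 : sm gd N4596 = N4596 := ded_38_1 (flp_h L39576) L27537 L19234 (flp_d L27537) L39576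
theorem L39584 : sm gi N3184 = N4597 := rfl
theorem L39586 : sm gb N4597 = N3189 := ded_26_1 (flp_i L27576) (flp_b L27542) L39584
theorem L39588 : sm gd N4597 = N4597 := ded_39_1 (flp_i L39584) L27547 L39584
theorem L39589 : sm ge N4597 = N3352 := ded_44_1 (flp_i L29004) (flp_e L27544) L39584
theorem L39591 : sm gj N4597 = N4597 := ded_53_1 (flp_i L39584) L27546 L39584
theorem L39592 : sm gj N3185 = N4598 := rfl
theorem L39594 : sm gb N4598 = N3190 := ded_24_1 (flp_j L27583) (flp_b L27550) L39592
theorem L39596 : sm gc N4598 = N4598 := ded_31_1 (flp_j L39592) L27552 L39592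
theorem L39597 : sm ge N4598 = N3224 := ded_42_1 (flp_j L27881) (flp_e L27553) L39592
theorem L39599 : sm gh N4598 = N4598 := ded_52_2 (flp_j L39592) L27555 L39592
theorem L39600 : sm gg N4598 = N4598 := ded_49_1 (flp_j L39592) (flp_g L27548) L19233 L27548 L39592
theorem L39601 : sm gg N3186 = N4599 := rfl
theorem L39603 : sm ga N4599 = N4599 := ded_15_1 (flp_g L39601) L27558 L39601
theorem L39604 : sm gd N4599 = N3225 := ded_36_1 (flp_g L27889) (flp_d L27560) L39601
theorem L39606 : sm ge N4599 = N3187 := ded_41_1 (flp_g L27564) L27556 L39601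
theorem L39608 : sm gh N3186 = N4600 := rfl
theorem L39610 : sm ga N4600 = N4600 := ded_17_1 (flp_h L39608) L27558 L39608
theorem L39611 : sm ge N4600 = N3188 := ded_43_1 (flp_h L27569) L27556 L39608
theorem L39613 : sm gf N4600 = N3355 := ded_47_1 (flp_h L29029) (flp_f L27562) L39608
theorem L39615 : sm gj N4600 = N4600 := ded_52_1 (flp_h L39608) L27559 L39608
theorem L39616 : sm gj N3187 = N4601 := rfl
theorem L39618 : sm ga N4601 = N4601 := ded_16_1 (flp_j L39616) L27566 L39616
theorem L39619 : sm gd N4601 = N3190 := ded_37_1 (flp_j L27583) (flp_d L27567) L39616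
theorem L39621 : sm gg N4601 = N4601 := ded_49_1 (flp_j L39616) (flp_g L27564) L19242 L27564 L39616
theorem L39622 : sm gh N3187 = N4602 := rfl
theorem L39624 : sm ga N4602 = N4602 := ded_17_1 (flp_h L39622) L27566 L39622
theorem L39625 : sm gg N4602 = N3188 := ded_50_1 (flp_h L27569) L27564 L39622
theorem L39627 : sm gd N4602 = N4602 := ded_38_1 (flp_h L39622) L27567 L19257 (flp_d L27567) L39622
theorem L39628 : sm gi N3188 = N4603 := rfl
theorem L39630 : sm ga N4603 = N4603 := ded_18_1 (flp_i L39628) L27571 L39628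
theorem L39631 : sm gd N4603 = N4603 := ded_39_1 (flp_i L39628) L27575 L39628
theorem L39632 : sm gf N4603 = N3189 := ded_48_1 (flp_i L27576) (flp_f L27572) L39628
theorem L39634 : sm gj N4603 = N4603 := ded_53_1 (flp_i L39628) L27574 L39628
theorem L39635 : sm ge N3191 = N4604 := rfl
theorem L39637 : sm ga N4604 = N3192 := ded_13_1 (flp_e L27602) L27592 L39635
theorem L39639 : sm gb N4604 = N4604 := ded_21_1 (flp_e L39635) L27601 L39635
theorem L39645 : sm gd N3192 = N4605 := rfl
theorem L39647 : sm gb N4605 = N3193 := ded_20_1 (flp_d L27611) (flp_b L27604) L39645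
theorem L39649 : sm gg N4605 = N4605 := ded_36_2 (flp_d L39645) L27607 L39645
theorem L39653 : sm gf N3192 = N4606 := rfl
theorem L39655 : sm gb N4606 = N3194 := ded_22_1 (flp_f L27620) (flp_b L27604) L39653
theorem L39657 : sm gc N4606 = N4606 := ded_29_1 (flp_f L39653) L27606 L39653
theorem L39658 : sm gj N4606 = N4606 := ded_46_2 (flp_f L39653) L27608 L39653
theorem L39659 : sm gh N4606 = N4606 := ded_47_2 (flp_f L39653) L27609 L39653
theorem L39660 : sm gi N4606 = N4606 := ded_48_2 (flp_f L39653) L27610 L39653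
theorem L39661 : sm ge N4606 = N4606 := ded_40_1 (flp_f L39653) (flp_e L27602) L19269 L27602 L39653
theorem L39662 : sm gf N3193 = N4607 := rfl
theorem L39664 : sm ga N4607 = N4607 := ded_14_1 (flp_f L39662) L27613 L39662
theorem L39665 : sm gc N4607 = N3199 := ded_29_1 (flp_f L27667) (flp_c L27617) L39662
theorem L39667 : sm gd N4607 = N3194 := ded_35_1 (flp_f L27620) L27611 L39662
theorem L39669 : sm gj N4607 = N4607 := ded_46_2 (flp_f L39662) L27615 L39662
theorem L39670 : sm gi N4607 = N4607 := ded_48_2 (flp_f L39662) L27616 L39662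
theorem L39671 : sm gh N3193 = N4608 := rfl
theorem L39680 : sm gg N3194 = N4609 := rfl
theorem L39682 : sm ga N4609 = N4609 := ded_15_1 (flp_g L39680) L27622 L39680
theorem L39683 : sm gc N4609 = N3195 := ded_30_1 (flp_g L27629) (flp_c L27623) L39680
theorem L39685 : sm ge N4609 = N4609 := ded_41_1 (flp_g L39680) L27628 L39680
theorem L39686 : sm gh N4609 = N4609 := ded_50_2 (flp_g L39680) L27626 L39680
theorem L39687 : sm gi N4609 = N4609 := ded_51_2 (flp_g L39680) L27627 L39680
theorem L39688 : sm gf N4609 = N4609 := ded_45_1 (flp_g L39680) (flp_f L27620) L19280 L27620 L39680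
theorem L39689 : sm gj N3195 = N4610 := rfl
theorem L39691 : sm ga N4610 = N4610 := ded_16_1 (flp_j L39689) L27631 L39689
theorem L39692 : sm gb N4610 = N4610 := ded_24_1 (flp_j L39689) L27632 L39689
theorem L39693 : sm gd N4610 = N3202 := ded_37_1 (flp_j L27691) (flp_d L27633) L39689
theorem L39695 : sm ge N4610 = N4610 := ded_42_1 (flp_j L39689) L27635 L39689
theorem L39696 : sm gf N4610 = N4610 := ded_46_1 (flp_j L39689) L27638 L39689
theorem L39697 : sm gh N4610 = N4610 := ded_52_2 (flp_j L39689) L27636 L39689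
theorem L39698 : sm gi N4610 = N4610 := ded_53_2 (flp_j L39689) L27637 L39689
theorem L39699 : sm gg N4610 = N4610 := ded_49_1 (flp_j L39689) (flp_g L27629) L19290 L27629 L39689
theorem L39700 : sm gd N3196 = N4611 := rfl
theorem L39702 : sm ga N4611 = N3197 := ded_12_1 (flp_d L27650) (flp_a L27641) L39700
theorem L39704 : sm gb N4611 = N4611 := ded_20_1 (flp_d L39700) L27643 L39700
theorem L39709 : sm gf N3196 = N4612 := rfl
theorem L39711 : sm ga N4612 = N3198 := ded_14_1 (flp_f L27658) (flp_a L27641) L39709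
theorem L39713 : sm gb N4612 = N4612 := ded_22_1 (flp_f L39709) L27643 L39709
theorem L39714 : sm gc N4612 = N4612 := ded_29_1 (flp_f L39709) L27644 L39709
theorem L39715 : sm gj N4612 = N4612 := ded_46_2 (flp_f L39709) L27646 L39709
theorem L39716 : sm gh N4612 = N3204 := ded_47_2 (flp_f L27711) (flp_h L27647) L39709
theorem L39718 : sm gi N4612 = N4612 := ded_48_2 (flp_f L39709) L27649 L39709
theorem L39719 : sm gc N3197 = N4613 := rfl
theorem L39726 : sm gf N3197 = N4614 := rfl
theorem L39728 : sm gb N4614 = N3199 := ded_22_1 (flp_f L27667) (flp_b L27652) L39726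
theorem L39730 : sm gd N4614 = N3198 := ded_35_1 (flp_f L27658) L27650 L39726
theorem L39732 : sm gj N4614 = N4614 := ded_46_2 (flp_f L39726) L27655 L39726
theorem L39733 : sm gi N4614 = N4614 := ded_48_2 (flp_f L39726) L27656 L39726
theorem L39734 : sm gh N3197 = N4615 := rfl
theorem L39741 : sm gd N4615 = N3207 := ded_38_1 (flp_h L27739) (flp_d L19348) (flp_h L19311) L27650 L39734
theorem L39743 : sm gg N3198 = N4616 := rfl
theorem L39745 : sm gb N4616 = N3201 := ded_23_1 (flp_g L27682) (flp_b L27660) L39743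
theorem L39747 : sm gc N4616 = N4616 := ded_30_1 (flp_g L39743) L27662 L39743
theorem L39748 : sm gh N4616 = N3208 := ded_50_2 (flp_g L27747) (flp_h L27664) L39743
theorem L39750 : sm gi N4616 = N4616 := ded_51_2 (flp_g L39743) L27666 L39743
theorem L39751 : sm gf N4616 = N4616 := ded_45_1 (flp_g L39743) (flp_f L27658) L19309 L27658 L39743
theorem L39752 : sm ge N3199 = N4617 := rfl
theorem L39754 : sm ga N4617 = N4617 := ded_13_1 (flp_e L39752) L27669 L39752
theorem L39755 : sm gj N4617 = N4617 := ded_42_2 (flp_e L39752) L27672 L39752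
theorem L39756 : sm gi N4617 = N4617 := ded_44_2 (flp_e L39752) L27673 L39752
theorem L39757 : sm gf N4617 = N4617 := ded_40_2 (flp_e L39752) (flp_f L27667) L19320 L27667 L39752
theorem L39758 : sm gg N3199 = N4618 := rfl
theorem L39760 : sm ga N4618 = N4618 := ded_15_1 (flp_g L39758) L27669 L39758
theorem L39761 : sm gd N4618 = N3201 := ded_36_1 (flp_g L27682) (flp_d L27670) L39758
theorem L39763 : sm gi N4618 = N4618 := ded_51_2 (flp_g L39758) L27673 L39758
theorem L39764 : sm gf N4618 = N4618 := ded_45_1 (flp_g L39758) (flp_f L27667) L19317 L27667 L39758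
theorem L39765 : sm gh N3199 = N4619 := rfl
theorem L39767 : sm ga N4619 = N4619 := ded_17_1 (flp_h L39765) L27669 L39765
theorem L39768 : sm gf N4619 = N3200 := ded_47_1 (flp_h L27674) L27667 L39765
theorem L39770 : sm gj N4619 = N4619 := ded_52_1 (flp_h L39765) L27672 L39765
theorem L39771 : sm gd N4619 = N3211 := ded_38_1 (flp_h L27773) L19370 (flp_h L19327) (flp_d L27670) L39765
theorem L39773 : sm gi N3200 = N4620 := rfl
theorem L39776 : sm gd N4620 = N3212 := ded_39_1 (flp_i L27780) (flp_d L27680) L39773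
theorem L39782 : sm gj N3201 = N4621 := rfl
theorem L39784 : sm ga N4621 = N4621 := ded_16_1 (flp_j L39782) L27684 L39782
theorem L39785 : sm gc N4621 = N3202 := ded_31_1 (flp_j L27691) (flp_c L27685) L39782
theorem L39787 : sm gf N4621 = N4621 := ded_46_1 (flp_j L39782) L27690 L39782
theorem L39788 : sm gh N4621 = N3213 := ded_52_2 (flp_j L27790) (flp_h L27687) L39782
theorem L39790 : sm gi N4621 = N4621 := ded_53_2 (flp_j L39782) L27689 L39782
theorem L39791 : sm gg N4621 = N4621 := ded_49_1 (flp_j L39782) (flp_g L27682) L19326 L27682 L39782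
theorem L39792 : sm gc N3203 = N4622 := rfl
theorem L39794 : sm ga N4622 = N3205 := ded_11_1 (flp_c L27720) (flp_a L27702) L39792
theorem L39796 : sm ge N4622 = N3359 := ded_28_2 (flp_c L29056) (flp_e L27709) L39792
theorem L39800 : sm gi N4622 = N3214 := ded_33_2 (flp_c L27799) (flp_i L27707) L39792
theorem L39803 : sm gf N3203 = N4623 := rfl
theorem L39805 : sm ga N4623 = N3206 := ded_14_1 (flp_f L27730) (flp_a L27702) L39803
theorem L39807 : sm gb N4623 = N4623 := ded_22_1 (flp_f L39803) L27704 L39803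
theorem L39808 : sm gd N4623 = N3204 := ded_35_1 (flp_f L27711) L27700 L39803
theorem L39810 : sm gj N4623 = N4623 := ded_46_2 (flp_f L39803) L27706 L39803
theorem L39811 : sm gi N4623 = N3215 := ded_48_2 (flp_f L27808) (flp_i L27707) L39803
theorem L39813 : sm gh N3203 = N4624 := rfl
theorem L39822 : sm gg N3204 = N4625 := rfl
theorem L39824 : sm ga N4625 = N3208 := ded_15_1 (flp_g L27747) (flp_a L27713) L39822
theorem L39826 : sm gb N4625 = N4625 := ded_23_1 (flp_g L39822) L27715 L39822
theorem L39827 : sm gc N4625 = N4625 := ded_30_1 (flp_g L39822) L27716 L39822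
theorem L39828 : sm gi N4625 = N3217 := ded_51_2 (flp_g L27826) (flp_i L27718) L39822
theorem L39830 : sm gf N4625 = N4625 := ded_45_1 (flp_g L39822) (flp_f L27711) L19344 L27711 L39822
theorem L39831 : sm gf N3205 = N4626 := rfl
theorem L39833 : sm gb N4626 = N4626 := ded_22_1 (flp_f L39831) L27728 L39831
theorem L39834 : sm gc N4626 = N3206 := ded_29_1 (flp_f L27730) L27720 L39831
theorem L39836 : sm gd N4626 = N4626 := ded_35_1 (flp_f L39831) L27729 L39831
theorem L39837 : sm gj N4626 = N4626 := ded_46_2 (flp_f L39831) L27725 L39831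
theorem L39838 : sm gi N4626 = N3218 := ded_48_2 (flp_f L27834) (flp_i L27726) L39831
theorem L39840 : sm gh N3205 = N4627 := rfl
theorem L39843 : sm gc N4627 = N3207 := ded_32_1 (flp_h L27739) L27720 L39840
theorem L39849 : sm ge N3206 = N4628 := rfl
theorem L39851 : sm gb N4628 = N3209 := ded_21_1 (flp_e L27755) (flp_b L27732) L39849
theorem L39853 : sm gj N4628 = N4628 := ded_42_2 (flp_e L39849) L27736 L39849
theorem L39854 : sm gi N4628 = N3220 := ded_44_2 (flp_e L27850) (flp_i L27737) L39849
theorem L39856 : sm gf N4628 = N3365 := ded_40_2 (flp_e L29112) (flp_f L20282) (flp_e L19356) L27730 L39849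
theorem L39858 : sm gg N3206 = N4629 := rfl
theorem L39860 : sm gb N4629 = N3210 := ded_23_1 (flp_g L27764) (flp_b L27732) L39858
theorem L39862 : sm gd N4629 = N3208 := ded_36_1 (flp_g L27747) (flp_d L27734) L39858
theorem L39864 : sm gi N4629 = N3221 := ded_51_2 (flp_g L27857) (flp_i L27737) L39858
theorem L39866 : sm gf N4629 = N4629 := ded_45_1 (flp_g L39858) (flp_f L27730) L19352 L27730 L39858
theorem L39867 : sm gh N3206 = N4630 := rfl
theorem L39869 : sm gb N4630 = N3211 := ded_25_1 (flp_h L27773) (flp_b L27732) L39867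
theorem L39871 : sm gf N4630 = N3207 := ded_47_1 (flp_h L27739) L27730 L39867
theorem L39873 : sm gj N4630 = N4630 := ded_52_1 (flp_h L39867) L27736 L39867
theorem L39874 : sm gi N3207 = N4631 := rfl
theorem L39876 : sm gb N4631 = N3212 := ded_26_1 (flp_i L27780) (flp_b L27741) L39874
theorem L39884 : sm gj N3208 = N4632 := rfl
theorem L39886 : sm gb N4632 = N3213 := ded_24_1 (flp_j L27790) (flp_b L27749) L39884
theorem L39888 : sm gc N4632 = N4632 := ded_31_1 (flp_j L39884) L27751 L39884
theorem L39889 : sm gf N4632 = N4632 := ded_46_1 (flp_j L39884) L27754 L39884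
theorem L39890 : sm gi N4632 = N3224 := ded_53_2 (flp_j L27881) (flp_i L27752) L39884
theorem L39892 : sm gg N4632 = N4632 := ded_49_1 (flp_j L39884) (flp_g L27747) L19363 L27747 L39884
theorem L39893 : sm gg N3209 = N4633 := rfl
theorem L39895 : sm ga N4633 = N4633 := ded_15_1 (flp_g L39893) L27757 L39893
theorem L39896 : sm gc N4633 = N4633 := ded_30_1 (flp_g L39893) L27758 L39893
theorem L39897 : sm ge N4633 = N3210 := ded_41_1 (flp_g L27764) L27755 L39893
theorem L39899 : sm gi N4633 = N3225 := ded_51_2 (flp_g L27889) (flp_i L27760) L39893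
theorem L39901 : sm gh N3209 = N4634 := rfl
theorem L39903 : sm ga N4634 = N4634 := ded_17_1 (flp_h L39901) L27757 L39901
theorem L39904 : sm gc N4634 = N4634 := ded_32_1 (flp_h L39901) L27758 L39901
theorem L39905 : sm ge N4634 = N3211 := ded_43_1 (flp_h L27773) L27755 L39901
theorem L39907 : sm gf N4634 = N3371 := ded_47_1 (flp_h L29164) (flp_f L27762) L39901
theorem L39909 : sm gj N4634 = N4634 := ded_52_1 (flp_h L39901) L27759 L39901
theorem L39910 : sm gj N3210 = N4635 := rfl
theorem L39912 : sm ga N4635 = N4635 := ded_16_1 (flp_j L39910) L27766 L39910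
theorem L39913 : sm gc N4635 = N4635 := ded_31_1 (flp_j L39910) L27767 L39910
theorem L39914 : sm gd N4635 = N3213 := ded_37_1 (flp_j L27790) (flp_d L27768) L39910
theorem L39916 : sm gf N4635 = N4635 := ded_46_1 (flp_j L39910) L27772 L39910
theorem L39917 : sm gi N4635 = N3227 := ded_53_2 (flp_j L27904) (flp_i L27770) L39910
theorem L39919 : sm gg N4635 = N4635 := ded_49_1 (flp_j L39910) (flp_g L27764) L19372 L27764 L39910
theorem L39920 : sm gh N3210 = N4636 := rfl
theorem L39922 : sm ga N4636 = N4636 := ded_17_1 (flp_h L39920) L27766 L39920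
theorem L39923 : sm gc N4636 = N4636 := ded_32_1 (flp_h L39920) L27767 L39920
theorem L39924 : sm gf N4636 = N4636 := ded_47_1 (flp_h L39920) L27772 L39920
theorem L39925 : sm gg N4636 = N3211 := ded_50_1 (flp_h L27773) L27764 L39920
theorem L39927 : sm gi N3211 = N4637 := rfl
theorem L39929 : sm ga N4637 = N4637 := ded_18_1 (flp_i L39927) L27775 L39927
theorem L39930 : sm gc N4637 = N4637 := ded_33_1 (flp_i L39927) L27776 L39927
theorem L39931 : sm gf N4637 = N3212 := ded_48_1 (flp_i L27780) (flp_f L27777) L39927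
theorem L39933 : sm gj N4637 = N4637 := ded_53_1 (flp_i L39927) L27779 L39927
theorem L39934 : sm gh N4637 = N3229 := ded_54_1 (flp_i L27920) (flp_h L19462) (flp_i L19373) L27773 L39927
theorem L39936 : sm gb N3214 = N4638 := rfl
theorem L39939 : sm ge N4638 = N3375 := ded_21_2 (flp_b L29199) (flp_e L27803) L39936
theorem L39945 : sm gf N3214 = N4639 := rfl
theorem L39947 : sm ga N4639 = N3218 := ded_14_1 (flp_f L27834) (flp_a L27801) L39945
theorem L39949 : sm gc N4639 = N3215 := ded_29_1 (flp_f L27808) L27799 L39945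
theorem L39951 : sm gd N4639 = N4639 := ded_35_1 (flp_f L39945) L27807 L39945
theorem L39952 : sm gj N4639 = N4639 := ded_46_2 (flp_f L39945) L27806 L39945
theorem L39953 : sm gh N3214 = N4640 := rfl
theorem L39955 : sm ga N4640 = N3219 := ded_17_1 (flp_h L27841) (flp_a L27801) L39953
theorem L39957 : sm gc N4640 = N3216 := ded_32_1 (flp_h L27816) L27799 L39953
theorem L39963 : sm ge N3215 = N4641 := rfl
theorem L39965 : sm ga N4641 = N3220 := ded_13_1 (flp_e L27850) (flp_a L27810) L39963
theorem L39967 : sm gb N4641 = N4641 := ded_21_1 (flp_e L39963) L27812 L39963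
theorem L39968 : sm gj N4641 = N4641 := ded_42_2 (flp_e L39963) L27815 L39963
theorem L39969 : sm gf N4641 = N3378 := ded_40_2 (flp_e L29225) (flp_f L20359) (flp_e L19407) L27808 L39963
theorem L39971 : sm gg N3215 = N4642 := rfl
theorem L39973 : sm ga N4642 = N3221 := ded_15_1 (flp_g L27857) (flp_a L27810) L39971
theorem L39975 : sm gb N4642 = N4642 := ded_23_1 (flp_g L39971) L27812 L39971
theorem L39976 : sm gd N4642 = N3217 := ded_36_1 (flp_g L27826) (flp_d L27813) L39971
theorem L39978 : sm gf N4642 = N4642 := ded_45_1 (flp_g L39971) (flp_f L27808) L19405 L27808 L39971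
theorem L39979 : sm gh N3215 = N4643 := rfl
theorem L39981 : sm ga N4643 = N3222 := ded_17_1 (flp_h L27864) (flp_a L27810) L39979
theorem L39983 : sm gb N4643 = N4643 := ded_25_1 (flp_h L39979) L27812 L39979
theorem L39984 : sm gf N4643 = N3216 := ded_47_1 (flp_h L27816) L27808 L39979
theorem L39986 : sm gj N4643 = N4643 := ded_52_1 (flp_h L39979) L27815 L39979
theorem L39987 : sm gd N4643 = N4643 := ded_38_1 (flp_h L39979) L27813 L19416 (flp_d L27813) L39979
theorem L39988 : sm gi N3216 = N4644 := rfl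
theorem L39998 : sm gj N3217 = N4645 := rfl
theorem L40000 : sm ga N4645 = N3224 := ded_16_1 (flp_j L27881) (flp_a L27828) L39998
theorem L40002 : sm gb N4645 = N4645 := ded_24_1 (flp_j L39998) L27830 L39998
theorem L40003 : sm gc N4645 = N4645 := ded_31_1 (flp_j L39998) L27831 L39998
theorem L40004 : sm gf N4645 = N4645 := ded_46_1 (flp_j L39998) L27833 L39998
theorem L40005 : sm gh N4645 = N4645 := ded_52_2 (flp_j L39998) L27832 L39998
theorem L40006 : sm gg N4645 = N4645 := ded_49_1 (flp_j L39998) (flp_g L27826) L19415 L27826 L39998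
theorem L40007 : sm ge N3218 = N4646 := rfl
theorem L40009 : sm gb N4646 = N4646 := ded_21_1 (flp_e L40007) L27836 L40007
theorem L40010 : sm gc N4646 = N3220 := ded_28_1 (flp_e L27850) (flp_c L27837) L40007
theorem L40012 : sm gj N4646 = N4646 := ded_42_2 (flp_e L40007) L27840 L40007
theorem L40013 : sm gf N4646 = N3383 := ded_40_2 (flp_e L29269) (flp_f L20386) (flp_e L19419) L27834 L40007
theorem L40015 : sm gg N3218 = N4647 := rfl
theorem L40017 : sm gb N4647 = N4647 := ded_23_1 (flp_g L40015) L27836 L40015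
theorem L40018 : sm gc N4647 = N3221 := ded_30_1 (flp_g L27857) (flp_c L27837) L40015
theorem L40020 : sm gd N4647 = N4647 := ded_36_1 (flp_g L40015) L27839 L40015
theorem L40021 : sm gf N4647 = N4647 := ded_45_1 (flp_g L40015) (flp_f L27834) L19421 L27834 L40015
theorem L40022 : sm gh N3218 = N4648 := rfl
theorem L40024 : sm gb N4648 = N4648 := ded_25_1 (flp_h L40022) L27836 L40022
theorem L40025 : sm gc N4648 = N3222 := ded_32_1 (flp_h L27864) (flp_c L27837) L40022
theorem L40027 : sm gf N4648 = N3219 := ded_47_1 (flp_h L27841) L27834 L40022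
theorem L40029 : sm gj N4648 = N4648 := ded_52_1 (flp_h L40022) L27840 L40022
theorem L40030 : sm gd N3219 = N4649 := rfl
theorem L40038 : sm gi N3219 = N4650 := rfl
theorem L40043 : sm ge N4650 = N3386 := ded_44_1 (flp_i L29292) (flp_e L27846) L40038
theorem L40047 : sm gg N3220 = N4651 := rfl
theorem L40049 : sm gb N4651 = N3225 := ded_23_1 (flp_g L27889) (flp_b L27852) L40047
theorem L40051 : sm ge N4651 = N3221 := ded_41_1 (flp_g L27857) L27850 L40047
theorem L40053 : sm gh N3220 = N4652 := rfl
theorem L40055 : sm gb N4652 = N3226 := ded_25_1 (flp_h L27895) (flp_b L27852) L40053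
theorem L40057 : sm ge N4652 = N3222 := ded_43_1 (flp_h L27864) L27850 L40053
theorem L40059 : sm gf N4652 = N3388 := ded_47_1 (flp_h L29306) (flp_f L27855) L40053
theorem L40061 : sm gj N4652 = N4652 := ded_52_1 (flp_h L40053) L27854 L40053
theorem L40062 : sm gj N3221 = N4653 := rfl
theorem L40064 : sm gb N4653 = N3227 := ded_24_1 (flp_j L27904) (flp_b L27859) L40062
theorem L40066 : sm gd N4653 = N3224 := ded_37_1 (flp_j L27881) (flp_d L27861) L40062
theorem L40068 : sm gf N4653 = N4653 := ded_46_1 (flp_j L40062) L27863 L40062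
theorem L40069 : sm gg N4653 = N4653 := ded_49_1 (flp_j L40062) (flp_g L27857) L19431 L27857 L40062
theorem L40070 : sm gh N3221 = N4654 := rfl
theorem L40072 : sm gb N4654 = N3228 := ded_25_1 (flp_h L27912) (flp_b L27859) L40070
theorem L40074 : sm gf N4654 = N4654 := ded_47_1 (flp_h L40070) L27863 L40070
theorem L40075 : sm gg N4654 = N3222 := ded_50_1 (flp_h L27864) L27857 L40070
theorem L40077 : sm gd N4654 = N4654 := ded_38_1 (flp_h L40070) L27861 L19446 (flp_d L27861) L40070
theorem L40078 : sm gi N3222 = N4655 := rfl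
theorem L40080 : sm gb N4655 = N3229 := ded_26_1 (flp_i L27920) (flp_b L27866) L40078
theorem L40082 : sm gd N4655 = N4655 := ded_39_1 (flp_i L40078) L27871 L40078
theorem L40083 : sm gf N4655 = N3223 := ded_48_1 (flp_i L27872) (flp_f L27868) L40078
theorem L40085 : sm gj N4655 = N4655 := ded_53_1 (flp_i L40078) L27870 L40078
theorem L40086 : sm gf N3225 = N4656 := rfl
theorem L40088 : sm ga N4656 = N4656 := ded_14_1 (flp_f L40086) L27891 L40086
theorem L40089 : sm gc N4656 = N4656 := ded_29_1 (flp_f L40086) L27892 L40086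
theorem L40090 : sm ge N4656 = N4656 := ded_40_1 (flp_f L40086) L27893 L19461 (flp_e L27893) L40086
theorem L40091 : sm gg N4656 = N3392 := ded_45_2 (flp_f L29339) (flp_g L20441) (flp_f L19453) L27889 L40086
theorem L40093 : sm gj N3225 = N4657 := rfl
theorem L40095 : sm ga N4657 = N4657 := ded_16_1 (flp_j L40093) L27891 L40093
theorem L40096 : sm gc N4657 = N4657 := ded_31_1 (flp_j L40093) L27892 L40093
theorem L40097 : sm ge N4657 = N3227 := ded_42_1 (flp_j L27904) (flp_e L27893) L40093
theorem L40099 : sm gg N4657 = N4657 := ded_49_1 (flp_j L40093) (flp_g L27889) L19452 L27889 L40093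
theorem L40100 : sm gh N3225 = N4658 := rfl
theorem L40102 : sm ga N4658 = N4658 := ded_17_1 (flp_h L40100) L27891 L40100
theorem L40103 : sm gc N4658 = N4658 := ded_32_1 (flp_h L40100) L27892 L40100
theorem L40104 : sm ge N4658 = N3228 := ded_43_1 (flp_h L27912) (flp_e L27893) L40100
theorem L40106 : sm gg N4658 = N3226 := ded_50_1 (flp_h L27895) L27889 L40100
theorem L40108 : sm gd N3226 = N4659 := rfl
theorem L40110 : sm ga N4659 = N4659 := ded_12_1 (flp_d L40108) L27897 L40108
theorem L40111 : sm gf N4659 = N3395 := ded_35_2 (flp_d L29359) (flp_f L27901) L40108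
theorem L40113 : sm gj N4659 = N4659 := ded_37_2 (flp_d L40108) L27903 L40108
theorem L40114 : sm ge N4659 = N4659 := ded_34_2 (flp_d L40108) L27899 L19469 (flp_e L27899) L40108
theorem L40115 : sm gi N3226 = N4660 := rfl
theorem L40117 : sm ga N4660 = N4660 := ded_18_1 (flp_i L40115) L27897 L40115
theorem L40118 : sm gc N4660 = N4660 := ded_33_1 (flp_i L40115) L27898 L40115
theorem L40119 : sm ge N4660 = N3229 := ded_44_1 (flp_i L27920) (flp_e L27899) L40115
theorem L40121 : sm gf N4660 = N3396 := ded_48_1 (flp_i L29365) (flp_f L27901) L40115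
theorem L40123 : sm gj N4660 = N4660 := ded_53_1 (flp_i L40115) L27903 L40115
theorem L40124 : sm gh N3227 = N4661 := rfl
theorem L40126 : sm ga N4661 = N4661 := ded_17_1 (flp_h L40124) L27906 L40124
theorem L40127 : sm gc N4661 = N4661 := ded_32_1 (flp_h L40124) L27907 L40124
theorem L40128 : sm gf N4661 = N4661 := ded_47_1 (flp_h L40124) L27910 L40124
theorem L40129 : sm gg N4661 = N4661 := ded_50_1 (flp_h L40124) L27911 L40124
theorem L40130 : sm gj N4661 = N3228 := ded_52_1 (flp_h L27912) L27904 L40124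
theorem L40132 : sm gd N4661 = N4661 := ded_38_1 (flp_h L40124) L27908 L19485 (flp_d L27908) L40124
theorem L40133 : sm gi N3228 = N4662 := rfl
theorem L40135 : sm ga N4662 = N4662 := ded_18_1 (flp_i L40133) L27914 L40133
theorem L40136 : sm gc N4662 = N4662 := ded_33_1 (flp_i L40133) L27915 L40133
theorem L40137 : sm gd N4662 = N4662 := ded_39_1 (flp_i L40133) L27919 L40133
theorem L40138 : sm gf N4662 = N4662 := ded_48_1 (flp_i L40133) L27916 L40133
theorem L40139 : sm gg N4662 = N3229 := ded_51_1 (flp_i L27920) (flp_g L27917) L40133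
theorem L40141 : sm gi N3230 = N4663 := rfl
theorem L40143 : sm ga N4663 = N4663 := ded_18_1 (flp_i L40141) L27930 L40141
theorem L40144 : sm gb N4663 = N3486 := ded_26_1 (flp_i L30145) (flp_b L27931) L40141
theorem L40146 : sm gc N4663 = N4663 := ded_33_1 (flp_i L40141) L27933 L40141
theorem L40147 : sm gd N4663 = N4663 := ded_39_1 (flp_i L40141) L27934 L40141
theorem L40148 : sm ge N4663 = N4663 := ded_44_1 (flp_i L40141) L27937 L40141
theorem L40149 : sm gf N4663 = N3231 := ded_48_1 (flp_i L27939) L27928 L40141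
theorem L40151 : sm gg N4663 = N4663 := ded_51_1 (flp_i L40141) L27938 L40141
theorem L40152 : sm gj N4663 = N4663 := ded_53_1 (flp_i L40141) L27935 L40141
theorem L40153 : sm gh N3231 = N4664 := rfl
theorem L40155 : sm ga N4664 = N4664 := ded_17_1 (flp_h L40153) L27941 L40153
theorem L40156 : sm gb N4664 = N3487 := ded_25_1 (flp_h L30155) (flp_b L27942) L40153
theorem L40158 : sm gc N4664 = N4664 := ded_32_1 (flp_h L40153) L27944 L40153
theorem L40159 : sm ge N4664 = N3232 := ded_43_1 (flp_h L27951) (flp_e L27946) L40153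
theorem L40161 : sm gg N4664 = N3236 := ded_50_1 (flp_h L27991) (flp_g L27948) L40153
theorem L40163 : sm gj N4664 = N4664 := ded_52_1 (flp_h L40153) L27950 L40153
theorem L40164 : sm gi N4664 = N4664 := ded_54_2 (flp_h L40153) (flp_i L27939) L19496 L27939 L40153
theorem L40165 : sm gd N3232 = N4665 := rfl
theorem L40167 : sm ga N4665 = N4665 := ded_12_1 (flp_d L40165) L27953 L40165
theorem L40168 : sm gb N4665 = N3488 := ded_20_1 (flp_d L30165) (flp_b L27954) L40165
theorem L40170 : sm gf N4665 = N4665 := ded_35_2 (flp_d L40165) L27957 L40165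
theorem L40171 : sm gg N4665 = N3237 := ded_36_2 (flp_d L28003) (flp_g L27958) L40165
theorem L40173 : sm gj N4665 = N4665 := ded_37_2 (flp_d L40165) L27960 L40165
theorem L40174 : sm gi N4665 = N4665 := ded_39_2 (flp_d L40165) L27961 L40165
theorem L40175 : sm gh N4665 = N3233 := ded_38_2 (flp_d L27962) (flp_h L19510) (flp_d L19504) L27951 L40165
theorem L40177 : sm gc N3233 = N4666 := rfl
theorem L40179 : sm ga N4666 = N4666 := ded_11_1 (flp_c L40177) L27964 L40177
theorem L40180 : sm gf N4666 = N4666 := ded_29_2 (flp_c L40177) L27967 L40177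
theorem L40181 : sm gg N4666 = N3238 := ded_30_2 (flp_c L28015) (flp_g L27968) L40177
theorem L40183 : sm gj N4666 = N4666 := ded_31_2 (flp_c L40177) L27970 L40177
theorem L40184 : sm gi N4666 = N3234 := ded_33_2 (flp_c L27973) (flp_i L27971) L40177
theorem L40186 : sm ge N3233 = N4667 := rfl
theorem L40188 : sm ga N4667 = N4667 := ded_13_1 (flp_e L40186) L27964 L40186
theorem L40189 : sm gb N4667 = N3490 := ded_21_1 (flp_e L30187) (flp_b L27965) L40186
theorem L40191 : sm gg N4667 = N3239 := ded_41_2 (flp_e L28024) (flp_g L27968) L40186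
theorem L40193 : sm gj N4667 = N4667 := ded_42_2 (flp_e L40186) L27970 L40186
theorem L40194 : sm gi N4667 = N3235 := ded_44_2 (flp_e L27981) (flp_i L27971) L40186
theorem L40196 : sm gd N4667 = N4667 := ded_34_1 (flp_e L40186) (flp_d L27962) L19515 L27962 L40186
theorem L40197 : sm gb N3234 = N4668 := rfl
theorem L40199 : sm gf N4668 = N4668 := ded_22_2 (flp_b L40197) L27976 L40197
theorem L40200 : sm gg N4668 = N3240 := ded_23_2 (flp_b L28034) (flp_g L27977) L40197
theorem L40202 : sm gj N4668 = N4668 := ded_24_2 (flp_b L40197) L27979 L40197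
theorem L40203 : sm gh N4668 = N4668 := ded_25_2 (flp_b L40197) L27980 L40197
theorem L40204 : sm gc N4668 = N3491 := ded_19_2 (flp_b L30197) (flp_c L21047) (flp_b L19525) L27973 L40197
theorem L40206 : sm ge N3234 = N4669 := rfl
theorem L40208 : sm ga N4669 = N4669 := ded_13_1 (flp_e L40206) L27975 L40206
theorem L40209 : sm gc N4669 = N3235 := ded_28_1 (flp_e L27981) L27973 L40206
theorem L40211 : sm gg N4669 = N3241 := ded_41_2 (flp_e L28043) (flp_g L27977) L40206
theorem L40213 : sm gj N4669 = N4669 := ded_42_2 (flp_e L40206) L27979 L40206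
theorem L40214 : sm gh N4669 = N4669 := ded_43_2 (flp_e L40206) L27980 L40206
theorem L40215 : sm gf N3235 = N4670 := rfl
theorem L40217 : sm ga N4670 = N4670 := ded_14_1 (flp_f L40215) L27983 L40215
theorem L40218 : sm gb N4670 = N3493 := ded_22_1 (flp_f L30215) (flp_b L27984) L40215
theorem L40220 : sm gd N4670 = N4670 := ded_35_1 (flp_f L40215) L27990 L40215
theorem L40221 : sm gj N4670 = N4670 := ded_46_2 (flp_f L40215) L27988 L40215
theorem L40222 : sm gh N4670 = N4670 := ded_47_2 (flp_f L40215) L27989 L40215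
theorem L40223 : sm ge N4670 = N4670 := ded_40_1 (flp_f L40215) (flp_e L27981) L19527 L27981 L40215
theorem L40224 : sm gd N3236 = N4671 := rfl
theorem L40226 : sm ga N4671 = N4671 := ded_12_1 (flp_d L40224) L27993 L40224
theorem L40227 : sm gb N4671 = N3498 := ded_20_1 (flp_d L30270) (flp_b L27994) L40224
theorem L40229 : sm gf N4671 = N4671 := ded_35_2 (flp_d L40224) L27999 L40224
theorem L40230 : sm gj N4671 = N3243 := ded_37_2 (flp_d L28062) (flp_j L28000) L40224
theorem L40232 : sm gi N4671 = N4671 := ded_39_2 (flp_d L40224) L28002 L40224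
theorem L40233 : sm gh N4671 = N4671 := ded_38_2 (flp_d L40224) (flp_h L27991) L19538 L27991 L40224
theorem L40234 : sm gc N3237 = N4672 := rfl
theorem L40236 : sm ga N4672 = N4672 := ded_11_1 (flp_c L40234) L28005 L40234
theorem L40237 : sm gf N4672 = N3254 := ded_29_2 (flp_c L28157) (flp_f L28008) L40234
theorem L40239 : sm gj N4672 = N3244 := ded_31_2 (flp_c L28071) (flp_j L28010) L40234
theorem L40241 : sm gh N4672 = N3238 := ded_32_2 (flp_c L28015) (flp_h L28013) L40234
theorem L40243 : sm gi N4672 = N4672 := ded_33_2 (flp_c L40234) L28012 L40234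
theorem L40244 : sm gd N4672 = N4672 := ded_27_2 (flp_c L40234) (flp_d L28003) L19549 L28003 L40234
theorem L40245 : sm ge N3237 = N4673 := rfl
theorem L40247 : sm ga N4673 = N4673 := ded_13_1 (flp_e L40245) L28005 L40245
theorem L40248 : sm gb N4673 = N3500 := ded_21_1 (flp_e L30290) (flp_b L28006) L40245
theorem L40250 : sm gj N4673 = N3245 := ded_42_2 (flp_e L28081) (flp_j L28010) L40245
theorem L40252 : sm gh N4673 = N3239 := ded_43_2 (flp_e L28024) (flp_h L28013) L40245
theorem L40254 : sm gi N4673 = N4673 := ded_44_2 (flp_e L40245) L28012 L40245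
theorem L40255 : sm gb N3238 = N4674 := rfl
theorem L40257 : sm gf N4674 = N3256 := ded_22_2 (flp_b L28179) (flp_f L28018) L40255
theorem L40259 : sm gj N4674 = N3246 := ded_24_2 (flp_b L28090) (flp_j L28020) L40255
theorem L40261 : sm gi N4674 = N3240 := ded_26_2 (flp_b L28034) (flp_i L28022) L40255
theorem L40263 : sm gc N4674 = N3501 := ded_19_2 (flp_b L30299) (flp_c L21121) (flp_b L19558) L28015 L40255
theorem L40265 : sm ge N3238 = N4675 := rfl
theorem L40267 : sm ga N4675 = N4675 := ded_13_1 (flp_e L40265) L28017 L40265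
theorem L40268 : sm gc N4675 = N3239 := ded_28_1 (flp_e L28024) L28015 L40265
theorem L40270 : sm gj N4675 = N3247 := ded_42_2 (flp_e L28099) (flp_j L28020) L40265
theorem L40272 : sm gi N4675 = N3241 := ded_44_2 (flp_e L28043) (flp_i L28022) L40265
theorem L40274 : sm gf N3239 = N4676 := rfl
theorem L40276 : sm ga N4676 = N4676 := ded_14_1 (flp_f L40274) L28026 L40274
theorem L40277 : sm gb N4676 = N3503 := ded_22_1 (flp_f L30318) (flp_b L28027) L40274
theorem L40279 : sm gd N4676 = N4676 := ded_35_1 (flp_f L40274) L28033 L40274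
theorem L40280 : sm gj N4676 = N3248 := ded_46_2 (flp_f L28107) (flp_j L28029) L40274
theorem L40282 : sm gi N4676 = N3242 := ded_48_2 (flp_f L28051) (flp_i L28031) L40274
theorem L40284 : sm ge N4676 = N3258 := ded_40_1 (flp_f L28198) (flp_e L19665) (flp_f L19560) L28024 L40274
theorem L40286 : sm ga N3240 = N4677 := rfl
theorem L40288 : sm gc N4677 = N3504 := ded_11_2 (flp_a L30329) (flp_c L28041) L40286
theorem L40290 : sm gf N4677 = N3259 := ded_14_2 (flp_a L28209) (flp_f L28036) L40286
theorem L40292 : sm gj N4677 = N3249 := ded_16_2 (flp_a L28117) (flp_j L28038) L40286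
theorem L40294 : sm gh N4677 = N4677 := ded_17_2 (flp_a L40286) L28040 L40286
theorem L40295 : sm gb N4677 = N4677 := ded_10_2 (flp_a L40286) (flp_b L28034) L19568 L28034 L40286
theorem L40296 : sm ge N3240 = N4678 := rfl
theorem L40298 : sm gb N4678 = N3241 := ded_21_1 (flp_e L28043) L28034 L40296
theorem L40300 : sm gc N4678 = N3505 := ded_28_1 (flp_e L30339) (flp_c L28041) L40296
theorem L40302 : sm gj N4678 = N3250 := ded_42_2 (flp_e L28126) (flp_j L28038) L40296
theorem L40304 : sm gh N4678 = N4678 := ded_43_2 (flp_e L40296) L28040 L40296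
theorem L40305 : sm gd N3241 = N4679 := rfl
theorem L40307 : sm ga N4679 = N4679 := ded_12_1 (flp_d L40305) L28045 L40305
theorem L40308 : sm gj N4679 = N3251 := ded_37_2 (flp_d L28134) (flp_j L28048) L40305
theorem L40310 : sm gc N4679 = N4679 := ded_27_1 (flp_d L40305) L28046 L19582 (flp_c L28046) L40305
theorem L40311 : sm gf N3241 = N4680 := rfl
theorem L40313 : sm ga N4680 = N4680 := ded_14_1 (flp_f L40311) L28045 L40311
theorem L40314 : sm gc N4680 = N3242 := ded_29_1 (flp_f L28051) (flp_c L28046) L40311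
theorem L40316 : sm gj N4680 = N3252 := ded_46_2 (flp_f L28139) (flp_j L28048) L40311
theorem L40318 : sm gh N4680 = N4680 := ded_47_2 (flp_f L40311) L28050 L40311
theorem L40319 : sm ge N4680 = N3262 := ded_40_1 (flp_f L28236) (flp_e L19685) (flp_f L19569) L28043 L40311
theorem L40321 : sm gg N3242 = N4681 := rfl
theorem L40323 : sm ga N4681 = N4681 := ded_15_1 (flp_g L40321) L28053 L40321
theorem L40324 : sm gb N4681 = N3508 := ded_23_1 (flp_g L30365) (flp_b L28054) L40321
theorem L40326 : sm gd N4681 = N4681 := ded_36_1 (flp_g L40321) L28056 L40321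
theorem L40327 : sm ge N4681 = N3263 := ded_41_1 (flp_g L28244) (flp_e L28060) L40321
theorem L40329 : sm gh N4681 = N4681 := ded_50_2 (flp_g L40321) L28059 L40321
theorem L40330 : sm gc N3243 = N4682 := rfl
theorem L40332 : sm ga N4682 = N4682 := ded_11_1 (flp_c L40330) L28064 L40330
theorem L40333 : sm gf N4682 = N4682 := ded_29_2 (flp_c L40330) L28067 L40330
theorem L40334 : sm gg N4682 = N4682 := ded_30_2 (flp_c L40330) L28068 L40330
theorem L40335 : sm gh N4682 = N4682 := ded_32_2 (flp_c L40330) L28070 L40330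
theorem L40336 : sm gi N4682 = N4682 := ded_33_2 (flp_c L40330) L28069 L40330
theorem L40337 : sm gd N4682 = N4682 := ded_27_2 (flp_c L40330) (flp_d L28062) L19588 L28062 L40330
theorem L40338 : sm ge N3243 = N4683 := rfl
theorem L40340 : sm ga N4683 = N4683 := ded_13_1 (flp_e L40338) L28064 L40338
theorem L40341 : sm gb N4683 = N3515 := ded_21_1 (flp_e L30427) (flp_b L28065) L40338
theorem L40343 : sm gg N4683 = N4683 := ded_41_2 (flp_e L40338) L28068 L40338
theorem L40344 : sm gh N4683 = N4683 := ded_43_2 (flp_e L40338) L28070 L40338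
theorem L40345 : sm gi N4683 = N4683 := ded_44_2 (flp_e L40338) L28069 L40338
theorem L40346 : sm gd N4683 = N3245 := ded_34_1 (flp_e L28081) (flp_d L19594) (flp_e L19589) L28062 L40338
theorem L40348 : sm gb N3244 = N4684 := rfl
theorem L40351 : sm gf N4684 = N3264 := ded_22_2 (flp_b L28253) (flp_f L28074) L40348
theorem L40354 : sm gh N4684 = N3246 := ded_25_2 (flp_b L28090) (flp_h L28077) L40348
theorem L40357 : sm gc N4684 = N3516 := ded_19_2 (flp_b L30436) (flp_c L21219) (flp_b L19597) L28071 L40348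
theorem L40359 : sm ge N3244 = N4685 := rfl
theorem L40361 : sm ga N4685 = N4685 := ded_13_1 (flp_e L40359) L28073 L40359
theorem L40362 : sm gc N4685 = N3245 := ded_28_1 (flp_e L28081) L28071 L40359
theorem L40364 : sm gg N4685 = N4685 := ded_41_2 (flp_e L40359) L28076 L40359
theorem L40365 : sm gh N4685 = N3247 := ded_43_2 (flp_e L28099) (flp_h L28077) L40359
theorem L40367 : sm gi N4685 = N4685 := ded_44_2 (flp_e L40359) L28079 L40359
theorem L40368 : sm gf N3245 = N4686 := rfl
theorem L40370 : sm ga N4686 = N4686 := ded_14_1 (flp_f L40368) L28083 L40368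
theorem L40371 : sm gb N4686 = N3518 := ded_22_1 (flp_f L30454) (flp_b L28084) L40368
theorem L40373 : sm gh N4686 = N3248 := ded_47_2 (flp_f L28107) (flp_h L28087) L40368
theorem L40375 : sm gi N4686 = N4686 := ded_48_2 (flp_f L40368) L28089 L40368
theorem L40376 : sm ge N4686 = N3266 := ded_40_1 (flp_f L28273) (flp_e L19713) (flp_f L19599) L28081 L40368
theorem L40378 : sm ga N3246 = N4687 := rfl
theorem L40380 : sm gc N4687 = N3519 := ded_11_2 (flp_a L30463) (flp_c L28097) L40378
theorem L40385 : sm gi N4687 = N3249 := ded_18_2 (flp_a L28117) (flp_i L28095) L40378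
theorem L40388 : sm ge N3246 = N4688 := rfl
theorem L40390 : sm gb N4688 = N3247 := ded_21_1 (flp_e L28099) L28090 L40388
theorem L40392 : sm gc N4688 = N3520 := ded_28_1 (flp_e L30473) (flp_c L28097) L40388
theorem L40394 : sm gg N4688 = N4688 := ded_41_2 (flp_e L40388) L28094 L40388
theorem L40395 : sm gi N4688 = N3250 := ded_44_2 (flp_e L28126) (flp_i L28095) L40388
theorem L40397 : sm gd N3247 = N4689 := rfl
theorem L40399 : sm ga N4689 = N4689 := ded_12_1 (flp_d L40397) L28101 L40397
theorem L40400 : sm gg N4689 = N4689 := ded_36_2 (flp_d L40397) L28104 L40397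
theorem L40401 : sm gi N4689 = N3251 := ded_39_2 (flp_d L28134) (flp_i L28105) L40397
theorem L40403 : sm gc N4689 = N4689 := ded_27_1 (flp_d L40397) L28102 L19621 (flp_c L28102) L40397
theorem L40404 : sm gf N3247 = N4690 := rfl
theorem L40406 : sm ga N4690 = N4690 := ded_14_1 (flp_f L40404) L28101 L40404
theorem L40407 : sm gc N4690 = N3248 := ded_29_1 (flp_f L28107) (flp_c L28102) L40404
theorem L40409 : sm gi N4690 = N3252 := ded_48_2 (flp_f L28139) (flp_i L28105) L40404
theorem L40411 : sm ge N4690 = N3270 := ded_40_1 (flp_f L28310) (flp_e L19732) (flp_f L19608) L28099 L40404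
theorem L40413 : sm gg N3248 = N4691 := rfl
theorem L40415 : sm ga N4691 = N4691 := ded_15_1 (flp_g L40413) L28109 L40413
theorem L40416 : sm gb N4691 = N3523 := ded_23_1 (flp_g L30499) (flp_b L28110) L40413
theorem L40418 : sm gd N4691 = N4691 := ded_36_1 (flp_g L40413) L28112 L40413
theorem L40419 : sm ge N4691 = N3271 := ded_41_1 (flp_g L28317) (flp_e L28115) L40413
theorem L40421 : sm gi N4691 = N3253 := ded_51_2 (flp_g L28147) (flp_i L28113) L40413
theorem L40423 : sm gf N4691 = N4691 := ded_45_1 (flp_g L40413) (flp_f L28107) L19618 L28107 L40413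
theorem L40424 : sm ge N3249 = N4692 := rfl
theorem L40426 : sm ga N4692 = N3250 := ded_13_1 (flp_e L28126) L28117 L40424
theorem L40428 : sm gb N4692 = N4692 := ded_21_1 (flp_e L40424) L28125 L40424
theorem L40429 : sm gc N4692 = N3524 := ded_28_1 (flp_e L30509) (flp_c L28119) L40424
theorem L40431 : sm gg N4692 = N4692 := ded_41_2 (flp_e L40424) L28123 L40424
theorem L40432 : sm gh N4692 = N4692 := ded_43_2 (flp_e L40424) L28124 L40424
theorem L40433 : sm gd N3250 = N4693 := rfl
theorem L40435 : sm gb N4693 = N3251 := ded_20_1 (flp_d L28134) (flp_b L28128) L40433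
theorem L40437 : sm gg N4693 = N4693 := ded_36_2 (flp_d L40433) L28132 L40433
theorem L40438 : sm gf N3250 = N4694 := rfl
theorem L40440 : sm gb N4694 = N3252 := ded_22_1 (flp_f L28139) (flp_b L28128) L40438
theorem L40442 : sm gc N4694 = N3526 := ded_29_1 (flp_f L30523) (flp_c L28130) L40438
theorem L40444 : sm gh N4694 = N4694 := ded_47_2 (flp_f L40438) L28133 L40438
theorem L40445 : sm ge N4694 = N3274 := ded_40_1 (flp_f L28344) (flp_e L19758) (flp_f L19624) L28126 L40438
theorem L40447 : sm gf N3251 = N4695 := rfl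
theorem L40449 : sm ga N4695 = N4695 := ded_14_1 (flp_f L40447) L28136 L40447
theorem L40450 : sm gc N4695 = N4695 := ded_29_1 (flp_f L40447) L28138 L40447
theorem L40451 : sm gd N4695 = N3252 := ded_35_1 (flp_f L28139) L28134 L40447
theorem L40453 : sm gh N3251 = N4696 := rfl
theorem L40455 : sm ga N4696 = N4696 := ded_17_1 (flp_h L40453) L28136 L40453
theorem L40456 : sm gc N4696 = N4696 := ded_32_1 (flp_h L40453) L28138 L40453
theorem L40457 : sm gg N4696 = N4696 := ded_50_1 (flp_h L40453) L28137 L40453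
theorem L40458 : sm gd N4696 = N4696 := ded_38_1 (flp_h L40453) (flp_d L28134) L19636 L28134 L40453
theorem L40459 : sm gg N3252 = N4697 := rfl
theorem L40461 : sm ga N4697 = N4697 := ded_15_1 (flp_g L40459) L28141 L40459
theorem L40462 : sm gc N4697 = N3253 := ded_30_1 (flp_g L28147) (flp_c L28142) L40459
theorem L40464 : sm ge N4697 = N3277 := ded_41_1 (flp_g L28366) (flp_e L28145) L40459
theorem L40466 : sm gh N4697 = N4697 := ded_50_2 (flp_g L40459) L28144 L40459
theorem L40467 : sm gf N4697 = N4697 := ded_45_1 (flp_g L40459) (flp_f L28139) L19635 L28139 L40459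
theorem L40468 : sm gj N3253 = N4698 := rfl
theorem L40470 : sm ga N4698 = N4698 := ded_16_1 (flp_j L40468) L28149 L40468
theorem L40471 : sm gb N4698 = N3530 := ded_24_1 (flp_j L30555) (flp_b L28150) L40468
theorem L40473 : sm gd N4698 = N4698 := ded_37_1 (flp_j L40468) L28152 L40468
theorem L40474 : sm ge N4698 = N3278 := ded_42_1 (flp_j L28374) (flp_e L28153) L40468
theorem L40476 : sm gf N4698 = N4698 := ded_46_1 (flp_j L40468) L28156 L40468
theorem L40477 : sm gh N4698 = N4698 := ded_52_2 (flp_j L40468) L28155 L40468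
theorem L40478 : sm gb N3254 = N4699 := rfl
theorem L40482 : sm gj N4699 = N3264 := ded_24_2 (flp_b L28253) (flp_j L28161) L40478
theorem L40484 : sm gh N4699 = N3256 := ded_25_2 (flp_b L28179) (flp_h L28163) L40478
theorem L40487 : sm gc N4699 = N3533 := ded_19_2 (flp_b L30586) (flp_c L21313) (flp_b L19649) L28157 L40478
theorem L40489 : sm ge N3254 = N4700 := rfl
theorem L40491 : sm ga N4700 = N4700 := ded_13_1 (flp_e L40489) L28159 L40489
theorem L40492 : sm gc N4700 = N3255 := ded_28_1 (flp_e L28167) L28157 L40489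
theorem L40494 : sm gg N4700 = N4700 := ded_41_2 (flp_e L40489) L28160 L40489
theorem L40495 : sm gj N4700 = N3265 := ded_42_2 (flp_e L28263) (flp_j L28161) L40489
theorem L40497 : sm gh N4700 = N3257 := ded_43_2 (flp_e L28188) (flp_h L28163) L40489
theorem L40499 : sm gi N4700 = N4700 := ded_44_2 (flp_e L40489) L28165 L40489
theorem L40500 : sm gf N3255 = N4701 := rfl
theorem L40502 : sm ga N4701 = N4701 := ded_14_1 (flp_f L40500) L28169 L40500
theorem L40503 : sm gb N4701 = N3535 := ded_22_1 (flp_f L30606) (flp_b L28170) L40500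
theorem L40505 : sm gd N4701 = N4701 := ded_35_1 (flp_f L40500) L28178 L40500
theorem L40506 : sm gj N4701 = N3266 := ded_46_2 (flp_f L28273) (flp_j L28173) L40500
theorem L40508 : sm gh N4701 = N3258 := ded_47_2 (flp_f L28198) (flp_h L28175) L40500
theorem L40510 : sm gi N4701 = N4701 := ded_48_2 (flp_f L40500) L28177 L40500
theorem L40511 : sm ga N3256 = N4702 := rfl
theorem L40513 : sm gc N4702 = N3536 := ded_11_2 (flp_a L30616) (flp_c L28186) L40511
theorem L40516 : sm gj N4702 = N3267 := ded_16_2 (flp_a L28282) (flp_j L28182) L40511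
theorem L40518 : sm gi N4702 = N3259 := ded_18_2 (flp_a L28209) (flp_i L28184) L40511
theorem L40521 : sm ge N3256 = N4703 := rfl
theorem L40523 : sm gb N4703 = N3257 := ded_21_1 (flp_e L28188) L28179 L40521
theorem L40525 : sm gc N4703 = N3537 := ded_28_1 (flp_e L30626) (flp_c L28186) L40521
theorem L40527 : sm gg N4703 = N4703 := ded_41_2 (flp_e L40521) L28181 L40521
theorem L40528 : sm gj N4703 = N3268 := ded_42_2 (flp_e L28291) (flp_j L28182) L40521
theorem L40530 : sm gi N4703 = N3260 := ded_44_2 (flp_e L28218) (flp_i L28184) L40521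
theorem L40532 : sm gd N3257 = N4704 := rfl
theorem L40534 : sm ga N4704 = N4704 := ded_12_1 (flp_d L40532) L28190 L40532
theorem L40535 : sm gg N4704 = N4704 := ded_36_2 (flp_d L40532) L28193 L40532
theorem L40536 : sm gj N4704 = N3269 := ded_37_2 (flp_d L28301) (flp_j L28194) L40532
theorem L40538 : sm gi N4704 = N3261 := ded_39_2 (flp_d L28228) (flp_i L28196) L40532
theorem L40540 : sm gc N4704 = N3304 := ded_27_1 (flp_d L28600) L19934 (flp_d L19675) (flp_c L28191) L40532
theorem L40542 : sm gf N3257 = N4705 := rfl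
theorem L40544 : sm ga N4705 = N4705 := ded_14_1 (flp_f L40542) L28190 L40542
theorem L40545 : sm gc N4705 = N3258 := ded_29_1 (flp_f L28198) (flp_c L28191) L40542
theorem L40547 : sm gj N4705 = N3270 := ded_46_2 (flp_f L28310) (flp_j L28194) L40542
theorem L40549 : sm gi N4705 = N3262 := ded_48_2 (flp_f L28236) (flp_i L28196) L40542
theorem L40551 : sm gg N3258 = N4706 := rfl
theorem L40553 : sm ga N4706 = N4706 := ded_15_1 (flp_g L40551) L28200 L40551
theorem L40554 : sm gb N4706 = N3540 := ded_23_1 (flp_g L30657) (flp_b L28201) L40551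
theorem L40556 : sm gd N4706 = N3306 := ded_36_1 (flp_g L28619) (flp_d L28203) L40551
theorem L40558 : sm gi N4706 = N3263 := ded_51_2 (flp_g L28244) (flp_i L28207) L40551
theorem L40560 : sm gf N4706 = N4706 := ded_45_1 (flp_g L40551) (flp_f L28198) L19670 L28198 L40551
theorem L40561 : sm ge N3259 = N4707 := rfl
theorem L40563 : sm ga N4707 = N3260 := ded_13_1 (flp_e L28218) L28209 L40561
theorem L40565 : sm gb N4707 = N4707 := ded_21_1 (flp_e L40561) L28217 L40561
theorem L40566 : sm gc N4707 = N3541 := ded_28_1 (flp_e L30666) (flp_c L28211) L40561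
theorem L40568 : sm gg N4707 = N4707 := ded_41_2 (flp_e L40561) L28213 L40561
theorem L40569 : sm gj N4707 = N3272 := ded_42_2 (flp_e L28328) (flp_j L28214) L40561
theorem L40571 : sm gh N4707 = N4707 := ded_43_2 (flp_e L40561) L28216 L40561
theorem L40572 : sm gd N3260 = N4708 := rfl
theorem L40574 : sm gb N4708 = N3261 := ded_20_1 (flp_d L28228) (flp_b L28220) L40572
theorem L40576 : sm gg N4708 = N4708 := ded_36_2 (flp_d L40572) L28224 L40572
theorem L40577 : sm gj N4708 = N3273 := ded_37_2 (flp_d L28338) (flp_j L28225) L40572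
theorem L40579 : sm gf N3260 = N4709 := rfl
theorem L40581 : sm gb N4709 = N3262 := ded_22_1 (flp_f L28236) (flp_b L28220) L40579
theorem L40583 : sm gc N4709 = N3543 := ded_29_1 (flp_f L30684) (flp_c L28222) L40579
theorem L40585 : sm gj N4709 = N3274 := ded_46_2 (flp_f L28344) (flp_j L28225) L40579
theorem L40587 : sm gh N4709 = N4709 := ded_47_2 (flp_f L40579) L28227 L40579
theorem L40588 : sm gf N3261 = N4710 := rfl
theorem L40590 : sm ga N4710 = N4710 := ded_14_1 (flp_f L40588) L28230 L40588
theorem L40591 : sm gc N4710 = N3310 := ded_29_1 (flp_f L28659) (flp_c L28234) L40588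
theorem L40593 : sm gd N4710 = N3262 := ded_35_1 (flp_f L28236) L28228 L40588
theorem L40595 : sm gj N4710 = N3275 := ded_46_2 (flp_f L28351) (flp_j L28232) L40588
theorem L40597 : sm gh N3261 = N4711 := rfl
theorem L40599 : sm ga N4711 = N4711 := ded_17_1 (flp_h L40597) L28230 L40597
theorem L40600 : sm gc N4711 = N3311 := ded_32_1 (flp_h L28666) (flp_c L28234) L40597
theorem L40602 : sm gg N4711 = N4711 := ded_50_1 (flp_h L40597) L28231 L40597
theorem L40603 : sm gj N4711 = N3276 := ded_52_1 (flp_h L28358) (flp_j L28232) L40597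
theorem L40605 : sm gd N4711 = N4711 := ded_38_1 (flp_h L40597) (flp_d L28228) L19693 L28228 L40597
theorem L40606 : sm gg N3262 = N4712 := rfl
theorem L40608 : sm ga N4712 = N4712 := ded_15_1 (flp_g L40606) L28238 L40606
theorem L40609 : sm gc N4712 = N3263 := ded_30_1 (flp_g L28244) (flp_c L28239) L40606
theorem L40611 : sm gh N4712 = N4712 := ded_50_2 (flp_g L40606) L28243 L40606
theorem L40612 : sm gf N4712 = N4712 := ded_45_1 (flp_g L40606) (flp_f L28236) L19690 L28236 L40606
theorem L40613 : sm gj N3263 = N4713 := rfl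
theorem L40615 : sm ga N4713 = N4713 := ded_16_1 (flp_j L40613) L28246 L40613
theorem L40616 : sm gb N4713 = N3547 := ded_24_1 (flp_j L30720) (flp_b L28247) L40613
theorem L40618 : sm gd N4713 = N3313 := ded_37_1 (flp_j L28683) (flp_d L28249) L40613
theorem L40620 : sm gf N4713 = N4713 := ded_46_1 (flp_j L40613) L28252 L40613
theorem L40621 : sm gh N4713 = N4713 := ded_52_2 (flp_j L40613) L28251 L40613
theorem L40622 : sm gg N4713 = N3278 := ded_49_1 (flp_j L28374) (flp_g L19780) (flp_j L19701) L28244 L40613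
theorem L40624 : sm ga N3264 = N4714 := rfl
theorem L40626 : sm gc N4714 = N3551 := ded_11_2 (flp_a L30757) (flp_c L28261) L40624
theorem L40629 : sm gg N4714 = N3279 := ded_15_2 (flp_a L28384) (flp_g L28256) L40624
theorem L40631 : sm gh N4714 = N3267 := ded_17_2 (flp_a L28282) (flp_h L28258) L40624
theorem L40635 : sm ge N3264 = N4715 := rfl
theorem L40637 : sm gb N4715 = N3265 := ded_21_1 (flp_e L28263) L28253 L40635
theorem L40639 : sm gc N4715 = N3552 := ded_28_1 (flp_e L30766) (flp_c L28261) L40635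
theorem L40641 : sm gg N4715 = N3280 := ded_41_2 (flp_e L28395) (flp_g L28256) L40635
theorem L40643 : sm gh N4715 = N3268 := ded_43_2 (flp_e L28291) (flp_h L28258) L40635
theorem L40646 : sm gd N3265 = N4716 := rfl
theorem L40648 : sm ga N4716 = N4716 := ded_12_1 (flp_d L40646) L28265 L40646
theorem L40649 : sm gg N4716 = N3281 := ded_36_2 (flp_d L28405) (flp_g L28268) L40646
theorem L40651 : sm gi N4716 = N4716 := ded_39_2 (flp_d L40646) L28272 L40646
theorem L40652 : sm gc N4716 = N4716 := ded_27_1 (flp_d L40646) L28266 L19723 (flp_c L28266) L40646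
theorem L40653 : sm ge N4716 = N4716 := ded_34_2 (flp_d L40646) (flp_e L28263) L19712 L28263 L40646
theorem L40654 : sm gf N3265 = N4717 := rfl
theorem L40656 : sm ga N4717 = N4717 := ded_14_1 (flp_f L40654) L28265 L40654
theorem L40657 : sm gc N4717 = N3266 := ded_29_1 (flp_f L28273) (flp_c L28266) L40654
theorem L40659 : sm gh N4717 = N3270 := ded_47_2 (flp_f L28310) (flp_h L28270) L40654
theorem L40661 : sm gi N4717 = N4717 := ded_48_2 (flp_f L40654) L28272 L40654
theorem L40662 : sm gg N3266 = N4718 := rfl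
theorem L40664 : sm ga N4718 = N4718 := ded_15_1 (flp_g L40662) L28275 L40662
theorem L40665 : sm gb N4718 = N3555 := ded_23_1 (flp_g L30792) (flp_b L28276) L40662
theorem L40667 : sm gd N4718 = N4718 := ded_36_1 (flp_g L40662) L28278 L40662
theorem L40668 : sm gh N4718 = N3271 := ded_50_2 (flp_g L28317) (flp_h L28279) L40662
theorem L40670 : sm gi N4718 = N4718 := ded_51_2 (flp_g L40662) L28281 L40662
theorem L40671 : sm gf N4718 = N3283 := ded_45_1 (flp_g L28422) (flp_f L19809) (flp_g L19718) L28273 L40662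
theorem L40673 : sm ge N3267 = N4719 := rfl
theorem L40675 : sm ga N4719 = N3268 := ded_13_1 (flp_e L28291) L28282 L40673
theorem L40678 : sm gc N4719 = N3556 := ded_28_1 (flp_e L30802) (flp_c L28284) L40673
theorem L40680 : sm gg N4719 = N3284 := ded_41_2 (flp_e L28432) (flp_g L28286) L40673
theorem L40682 : sm gi N4719 = N3272 := ded_44_2 (flp_e L28328) (flp_i L28288) L40673
theorem L40684 : sm gd N3268 = N4720 := rfl
theorem L40686 : sm gb N4720 = N3269 := ded_20_1 (flp_d L28301) (flp_b L28293) L40684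
theorem L40688 : sm gg N4720 = N3285 := ded_36_2 (flp_d L28442) (flp_g L28297) L40684
theorem L40690 : sm gi N4720 = N3273 := ded_39_2 (flp_d L28338) (flp_i L28299) L40684
theorem L40692 : sm gf N3268 = N4721 := rfl
theorem L40694 : sm gb N4721 = N3270 := ded_22_1 (flp_f L28310) (flp_b L28293) L40692
theorem L40696 : sm gc N4721 = N3558 := ded_29_1 (flp_f L30821) (flp_c L28295) L40692
theorem L40698 : sm gi N4721 = N3274 := ded_48_2 (flp_f L28344) (flp_i L28299) L40692
theorem L40700 : sm gf N3269 = N4722 := rfl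
theorem L40702 : sm ga N4722 = N4722 := ded_14_1 (flp_f L40700) L28303 L40700
theorem L40703 : sm gc N4722 = N3317 := ded_29_1 (flp_f L28724) (flp_c L28308) L40700
theorem L40705 : sm gd N4722 = N3270 := ded_35_1 (flp_f L28310) L28301 L40700
theorem L40707 : sm gi N4722 = N3275 := ded_48_2 (flp_f L28351) (flp_i L28306) L40700
theorem L40709 : sm gh N3269 = N4723 := rfl
theorem L40711 : sm ga N4723 = N4723 := ded_17_1 (flp_h L40709) L28303 L40709
theorem L40712 : sm gc N4723 = N3318 := ded_32_1 (flp_h L28731) (flp_c L28308) L40709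
theorem L40714 : sm gg N4723 = N3288 := ded_50_1 (flp_h L28469) (flp_g L28304) L40709
theorem L40716 : sm gg N3270 = N4724 := rfl
theorem L40718 : sm ga N4724 = N4724 := ded_15_1 (flp_g L40716) L28312 L40716
theorem L40719 : sm gc N4724 = N3271 := ded_30_1 (flp_g L28317) (flp_c L28313) L40716
theorem L40721 : sm gi N4724 = N3277 := ded_51_2 (flp_g L28366) (flp_i L28315) L40716
theorem L40723 : sm gf N4724 = N3289 := ded_45_1 (flp_g L28475) (flp_f L19846) (flp_g L19737) L28310 L40716
theorem L40725 : sm gj N3271 = N4725 := rfl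
theorem L40727 : sm ga N4725 = N4725 := ded_16_1 (flp_j L40725) L28319 L40725
theorem L40728 : sm gb N4725 = N3562 := ded_24_1 (flp_j L30856) (flp_b L28320) L40725
theorem L40730 : sm gd N4725 = N3320 := ded_37_1 (flp_j L28748) (flp_d L28322) L40725
theorem L40732 : sm gf N4725 = N3290 := ded_46_1 (flp_j L28483) (flp_f L28326) L40725
theorem L40734 : sm gi N4725 = N3278 := ded_53_2 (flp_j L28374) (flp_i L28324) L40725
theorem L40736 : sm gd N3272 = N4726 := rfl
theorem L40738 : sm ga N4726 = N3273 := ded_12_1 (flp_d L28338) (flp_a L28330) L40736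
theorem L40740 : sm gb N4726 = N4726 := ded_20_1 (flp_d L40736) L28332 L40736
theorem L40741 : sm gg N4726 = N3291 := ded_36_2 (flp_d L28494) (flp_g L28335) L40736
theorem L40743 : sm gf N3272 = N4727 := rfl
theorem L40745 : sm ga N4727 = N3274 := ded_14_1 (flp_f L28344) (flp_a L28330) L40743
theorem L40747 : sm gb N4727 = N4727 := ded_22_1 (flp_f L40743) L28332 L40743
theorem L40748 : sm gc N4727 = N3564 := ded_29_1 (flp_f L30875) (flp_c L28333) L40743
theorem L40750 : sm gh N4727 = N4727 := ded_47_2 (flp_f L40743) L28337 L40743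
theorem L40751 : sm gc N3273 = N4728 := rfl
theorem L40753 : sm gg N4728 = N3293 := ded_30_2 (flp_c L28510) (flp_g L28342) L40751
theorem L40755 : sm gb N4728 = N3323 := ded_19_1 (flp_c L28776) L20062 (flp_c L19772) (flp_b L28340) L40751
theorem L40757 : sm gd N4728 = N3565 := ded_27_2 (flp_c L30882) (flp_d L21508) (flp_c L19762) L28338 L40751
theorem L40759 : sm gf N3273 = N4729 := rfl
theorem L40761 : sm gb N4729 = N3275 := ded_22_1 (flp_f L28351) (flp_b L28340) L40759
theorem L40763 : sm gd N4729 = N3274 := ded_35_1 (flp_f L28344) L28338 L40759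
theorem L40765 : sm gh N3273 = N4730 := rfl
theorem L40767 : sm gb N4730 = N3276 := ded_25_1 (flp_h L28358) (flp_b L28340) L40765
theorem L40769 : sm gg N4730 = N3295 := ded_50_1 (flp_h L28524) (flp_g L28342) L40765
theorem L40771 : sm gd N4730 = N4730 := ded_38_1 (flp_h L40765) (flp_d L28338) L19766 L28338 L40765
theorem L40772 : sm gg N3274 = N4731 := rfl
theorem L40774 : sm gb N4731 = N3277 := ded_23_1 (flp_g L28366) (flp_b L28346) L40772
theorem L40776 : sm gc N4731 = N3568 := ded_30_1 (flp_g L30903) (flp_c L28348) L40772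
theorem L40778 : sm gh N4731 = N4731 := ded_50_2 (flp_g L40772) L28350 L40772
theorem L40779 : sm gf N4731 = N3296 := ded_45_1 (flp_g L28530) (flp_f L19879) (flp_g L19764) L28344 L40772
theorem L40781 : sm ge N3275 = N4732 := rfl
theorem L40783 : sm ga N4732 = N4732 := ded_13_1 (flp_e L40781) L28353 L40781
theorem L40784 : sm gc N4732 = N3327 := ded_28_1 (flp_e L28807) (flp_c L28354) L40781
theorem L40786 : sm gg N3275 = N4733 := rfl
theorem L40788 : sm ga N4733 = N4733 := ded_15_1 (flp_g L40786) L28353 L40786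
theorem L40789 : sm gc N4733 = N3328 := ded_30_1 (flp_g L28811) (flp_c L28354) L40786
theorem L40791 : sm gd N4733 = N3277 := ded_36_1 (flp_g L28366) (flp_d L28356) L40786
theorem L40793 : sm gf N4733 = N3298 := ded_45_1 (flp_g L28545) (flp_f L19888) (flp_g L19770) L28351 L40786
theorem L40795 : sm gh N3275 = N4734 := rfl
theorem L40797 : sm ga N4734 = N4734 := ded_17_1 (flp_h L40795) L28353 L40795
theorem L40798 : sm gc N4734 = N3329 := ded_32_1 (flp_h L28818) (flp_c L28354) L40795
theorem L40800 : sm gf N4734 = N3276 := ded_47_1 (flp_h L28358) L28351 L40795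
theorem L40802 : sm gd N4734 = N4734 := ded_38_1 (flp_h L40795) L28356 L19779 (flp_d L28356) L40795
theorem L40803 : sm gi N3276 = N4735 := rfl
theorem L40805 : sm ga N4735 = N4735 := ded_18_1 (flp_i L40803) L28360 L40803
theorem L40806 : sm gc N4735 = N3330 := ded_33_1 (flp_i L28825) (flp_c L28361) L40803
theorem L40808 : sm gd N4735 = N4735 := ded_39_1 (flp_i L40803) L28365 L40803
theorem L40809 : sm gg N4735 = N3300 := ded_51_1 (flp_i L28561) (flp_g L28363) L40803
theorem L40811 : sm gj N3277 = N4736 := rfl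
theorem L40813 : sm ga N4736 = N4736 := ded_16_1 (flp_j L40811) L28368 L40811
theorem L40814 : sm gc N4736 = N3278 := ded_31_1 (flp_j L28374) (flp_c L28369) L40811
theorem L40816 : sm gf N4736 = N3301 := ded_46_1 (flp_j L28568) (flp_f L28372) L40811
theorem L40818 : sm gh N4736 = N4736 := ded_52_2 (flp_j L40811) L28371 L40811
theorem L40819 : sm ge N3279 = N4737 := rfl
theorem L40821 : sm ga N4737 = N3280 := ded_13_1 (flp_e L28395) L28384 L40819
theorem L40824 : sm gc N4737 = N3579 := ded_28_1 (flp_e L31002) (flp_c L28386) L40819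
theorem L40827 : sm gh N4737 = N3284 := ded_43_2 (flp_e L28432) (flp_h L28391) L40819
theorem L40830 : sm gd N3280 = N4738 := rfl
theorem L40832 : sm gb N4738 = N3281 := ded_20_1 (flp_d L28405) (flp_b L28397) L40830
theorem L40837 : sm gf N3280 = N4739 := rfl
theorem L40839 : sm gb N4739 = N3282 := ded_22_1 (flp_f L28412) (flp_b L28397) L40837
theorem L40844 : sm gh N4739 = N3286 := ded_47_2 (flp_f L28449) (flp_h L28402) L40837
theorem L40848 : sm gf N3281 = N4740 := rfl
theorem L40850 : sm ga N4740 = N4740 := ded_14_1 (flp_f L40848) L28407 L40848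
theorem L40851 : sm gc N4740 = N4740 := ded_29_1 (flp_f L40848) L28410 L40848
theorem L40852 : sm gd N4740 = N3282 := ded_35_1 (flp_f L28412) L28405 L40848
theorem L40854 : sm gj N4740 = N4740 := ded_46_2 (flp_f L40848) L28408 L40848
theorem L40855 : sm gi N4740 = N4740 := ded_48_2 (flp_f L40848) L28409 L40848
theorem L40856 : sm gh N3281 = N4741 := rfl
theorem L40858 : sm ga N4741 = N4741 := ded_17_1 (flp_h L40856) L28407 L40856
theorem L40859 : sm gc N4741 = N4741 := ded_32_1 (flp_h L40856) L28410 L40856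
theorem L40860 : sm ge N4741 = N4741 := ded_43_1 (flp_h L40856) L28411 L40856
theorem L40861 : sm gj N4741 = N4741 := ded_52_1 (flp_h L40856) L28408 L40856
theorem L40862 : sm gd N4741 = N3288 := ded_38_1 (flp_h L28469) (flp_d L19838) (flp_h L19806) L28405 L40856
theorem L40864 : sm gg N3282 = N4742 := rfl
theorem L40866 : sm ga N4742 = N4742 := ded_15_1 (flp_g L40864) L28414 L40864
theorem L40867 : sm gc N4742 = N3283 := ded_30_1 (flp_g L28422) (flp_c L28415) L40864
theorem L40869 : sm ge N4742 = N4742 := ded_41_1 (flp_g L40864) L28421 L40864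
theorem L40870 : sm gh N4742 = N3289 := ded_50_2 (flp_g L28475) (flp_h L28418) L40864
theorem L40872 : sm gi N4742 = N4742 := ded_51_2 (flp_g L40864) L28420 L40864
theorem L40873 : sm gj N3283 = N4743 := rfl
theorem L40875 : sm ga N4743 = N4743 := ded_16_1 (flp_j L40873) L28424 L40873
theorem L40876 : sm gb N4743 = N3585 := ded_24_1 (flp_j L31054) (flp_b L28425) L40873
theorem L40878 : sm gd N4743 = N4743 := ded_37_1 (flp_j L40873) L28427 L40873
theorem L40879 : sm ge N4743 = N4743 := ded_42_1 (flp_j L40873) L28428 L40873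
theorem L40880 : sm gh N4743 = N3290 := ded_52_2 (flp_j L28483) (flp_h L28429) L40873
theorem L40882 : sm gi N4743 = N4743 := ded_53_2 (flp_j L40873) L28431 L40873
theorem L40883 : sm gg N4743 = N4743 := ded_49_1 (flp_j L40873) (flp_g L28422) L19815 L28422 L40873
theorem L40884 : sm gd N3284 = N4744 := rfl
theorem L40886 : sm ga N4744 = N3285 := ded_12_1 (flp_d L28442) (flp_a L28434) L40884
theorem L40890 : sm gi N4744 = N3291 := ded_39_2 (flp_d L28494) (flp_i L28440) L40884
theorem L40892 : sm gf N3284 = N4745 := rfl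
theorem L40894 : sm ga N4745 = N3286 := ded_14_1 (flp_f L28449) (flp_a L28434) L40892
theorem L40897 : sm gc N4745 = N3587 := ded_29_1 (flp_f L31074) (flp_c L28437) L40892
theorem L40900 : sm gi N4745 = N3292 := ded_48_2 (flp_f L28500) (flp_i L28440) L40892
theorem L40903 : sm gc N3285 = N4746 := rfl
theorem L40905 : sm gj N4746 = N4746 := ded_31_2 (flp_c L40903) L28446 L40903
theorem L40906 : sm gi N4746 = N3293 := ded_33_2 (flp_c L28510) (flp_i L28447) L40903
theorem L40908 : sm gb N4746 = N3334 := ded_19_1 (flp_c L28863) L20120 (flp_c L19844) (flp_b L28444) L40903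
theorem L40910 : sm gd N4746 = N3588 := ded_27_2 (flp_c L31084) (flp_d L21637) (flp_c L19833) L28442 L40903
theorem L40912 : sm gf N3285 = N4747 := rfl
theorem L40914 : sm gb N4747 = N3287 := ded_22_1 (flp_f L28459) (flp_b L28444) L40912
theorem L40916 : sm gd N4747 = N3286 := ded_35_1 (flp_f L28449) L28442 L40912
theorem L40918 : sm gj N4747 = N4747 := ded_46_2 (flp_f L40912) L28446 L40912
theorem L40919 : sm gi N4747 = N3294 := ded_48_2 (flp_f L28517) (flp_i L28447) L40912
theorem L40921 : sm gh N3285 = N4748 := rfl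
theorem L40923 : sm gb N4748 = N3288 := ded_25_1 (flp_h L28469) (flp_b L28444) L40921
theorem L40925 : sm gj N4748 = N4748 := ded_52_1 (flp_h L40921) L28446 L40921
theorem L40926 : sm gg N3286 = N4749 := rfl
theorem L40928 : sm gb N4749 = N3289 := ded_23_1 (flp_g L28475) (flp_b L28451) L40926
theorem L40930 : sm gc N4749 = N3591 := ded_30_1 (flp_g L31107) (flp_c L28453) L40926
theorem L40932 : sm ge N4749 = N4749 := ded_41_1 (flp_g L40926) L28458 L40926
theorem L40933 : sm gi N4749 = N3296 := ded_51_2 (flp_g L28530) (flp_i L28456) L40926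
theorem L40935 : sm ge N3287 = N4750 := rfl
theorem L40937 : sm ga N4750 = N4750 := ded_13_1 (flp_e L40935) L28461 L40935
theorem L40938 : sm gc N4750 = N3338 := ded_28_1 (flp_e L28896) (flp_c L28462) L40935
theorem L40940 : sm gj N4750 = N4750 := ded_42_2 (flp_e L40935) L28466 L40935
theorem L40941 : sm gi N4750 = N3297 := ded_44_2 (flp_e L28538) (flp_i L28467) L40935
theorem L40943 : sm gd N4750 = N4750 := ded_34_1 (flp_e L40935) L28464 L19854 (flp_d L28464) L40935
theorem L40944 : sm gg N3287 = N4751 := rfl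
theorem L40946 : sm ga N4751 = N4751 := ded_15_1 (flp_g L40944) L28461 L40944
theorem L40947 : sm gc N4751 = N3339 := ded_30_1 (flp_g L28904) (flp_c L28462) L40944
theorem L40949 : sm gd N4751 = N3289 := ded_36_1 (flp_g L28475) (flp_d L28464) L40944
theorem L40951 : sm gi N4751 = N3298 := ded_51_2 (flp_g L28545) (flp_i L28467) L40944
theorem L40953 : sm gh N3287 = N4752 := rfl
theorem L40955 : sm ga N4752 = N4752 := ded_17_1 (flp_h L40953) L28461 L40953
theorem L40956 : sm gc N4752 = N3340 := ded_32_1 (flp_h L28911) (flp_c L28462) L40953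
theorem L40958 : sm gf N4752 = N3288 := ded_47_1 (flp_h L28469) L28459 L40953
theorem L40960 : sm gj N4752 = N4752 := ded_52_1 (flp_h L40953) L28466 L40953
theorem L40961 : sm gi N3288 = N4753 := rfl
theorem L40963 : sm ga N4753 = N4753 := ded_18_1 (flp_i L40961) L28471 L40961
theorem L40964 : sm gc N4753 = N3341 := ded_33_1 (flp_i L28918) (flp_c L28472) L40961
theorem L40966 : sm gj N4753 = N4753 := ded_53_1 (flp_i L40961) L28474 L40961
theorem L40967 : sm gh N4753 = N3300 := ded_54_1 (flp_i L28561) (flp_h L19896) (flp_i L19842) L28469 L40961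
theorem L40969 : sm gj N3289 = N4754 := rfl
theorem L40971 : sm ga N4754 = N4754 := ded_16_1 (flp_j L40969) L28477 L40969
theorem L40972 : sm gc N4754 = N3290 := ded_31_1 (flp_j L28483) (flp_c L28478) L40969
theorem L40974 : sm ge N4754 = N4754 := ded_42_1 (flp_j L40969) L28480 L40969
theorem L40975 : sm gi N4754 = N3301 := ded_53_2 (flp_j L28568) (flp_i L28481) L40969
theorem L40977 : sm gg N4754 = N4754 := ded_49_1 (flp_j L40969) (flp_g L28475) L19851 L28475 L40969
theorem L40978 : sm gc N3291 = N4755 := rfl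
theorem L40980 : sm ga N4755 = N3293 := ded_11_1 (flp_c L28510) (flp_a L28496) L40978
theorem L40982 : sm gj N4755 = N4755 := ded_31_2 (flp_c L40978) L28499 L40978
theorem L40983 : sm gd N4755 = N3597 := ded_27_2 (flp_c L31164) (flp_d L21691) (flp_c L19870) L28494 L40978
theorem L40985 : sm gf N3291 = N4756 := rfl
theorem L40987 : sm ga N4756 = N3294 := ded_14_1 (flp_f L28517) (flp_a L28496) L40985
theorem L40989 : sm gb N4756 = N4756 := ded_22_1 (flp_f L40985) L28498 L40985
theorem L40990 : sm gd N4756 = N3292 := ded_35_1 (flp_f L28500) L28494 L40985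
theorem L40992 : sm gj N4756 = N4756 := ded_46_2 (flp_f L40985) L28499 L40985
theorem L40993 : sm gh N3291 = N4757 := rfl
theorem L40995 : sm ga N4757 = N3295 := ded_17_1 (flp_h L28524) (flp_a L28496) L40993
theorem L40997 : sm gb N4757 = N4757 := ded_25_1 (flp_h L40993) L28498 L40993
theorem L40998 : sm gj N4757 = N4757 := ded_52_1 (flp_h L40993) L28499 L40993
theorem L40999 : sm gd N4757 = N4757 := ded_38_1 (flp_h L40993) (flp_d L28494) L19873 L28494 L40993
theorem L41000 : sm gg N3292 = N4758 := rfl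
theorem L41002 : sm ga N4758 = N3296 := ded_15_1 (flp_g L28530) (flp_a L28502) L41000
theorem L41004 : sm gb N4758 = N4758 := ded_23_1 (flp_g L41000) L28504 L41000
theorem L41005 : sm gc N4758 = N3600 := ded_30_1 (flp_g L31188) (flp_c L28505) L41000
theorem L41007 : sm ge N4758 = N4758 := ded_41_1 (flp_g L41000) L28509 L41000
theorem L41008 : sm gh N4758 = N4758 := ded_50_2 (flp_g L41000) L28508 L41000
theorem L41009 : sm gf N3293 = N4759 := rfl
theorem L41011 : sm gb N4759 = N3347 := ded_22_1 (flp_f L28970) (flp_b L28513) L41009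
theorem L41013 : sm gc N4759 = N3294 := ded_29_1 (flp_f L28517) L28510 L41009
theorem L41015 : sm gd N4759 = N3601 := ded_35_1 (flp_f L31196) (flp_d L28515) L41009
theorem L41017 : sm gj N4759 = N4759 := ded_46_2 (flp_f L41009) L28512 L41009
theorem L41018 : sm gh N3293 = N4760 := rfl
theorem L41020 : sm gb N4760 = N3348 := ded_25_1 (flp_h L28977) (flp_b L28513) L41018
theorem L41022 : sm gc N4760 = N3295 := ded_32_1 (flp_h L28524) L28510 L41018
theorem L41024 : sm gj N4760 = N4760 := ded_52_1 (flp_h L41018) L28512 L41018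
theorem L41025 : sm ge N3294 = N4761 := rfl
theorem L41027 : sm gb N4761 = N3297 := ded_21_1 (flp_e L28538) (flp_b L28519) L41025
theorem L41029 : sm gj N4761 = N4761 := ded_42_2 (flp_e L41025) L28523 L41025
theorem L41030 : sm gd N4761 = N4761 := ded_34_1 (flp_e L41025) L28521 L19887 (flp_d L28521) L41025
theorem L41031 : sm gg N3294 = N4762 := rfl
theorem L41033 : sm gb N4762 = N3298 := ded_23_1 (flp_g L28545) (flp_b L28519) L41031
theorem L41035 : sm gd N4762 = N3296 := ded_36_1 (flp_g L28530) (flp_d L28521) L41031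
theorem L41037 : sm gh N3294 = N4763 := rfl
theorem L41039 : sm gb N4763 = N3299 := ded_25_1 (flp_h L28552) (flp_b L28519) L41037
theorem L41041 : sm gf N4763 = N3295 := ded_47_1 (flp_h L28524) L28517 L41037
theorem L41043 : sm gj N4763 = N4763 := ded_52_1 (flp_h L41037) L28523 L41037
theorem L41044 : sm gd N4763 = N4763 := ded_38_1 (flp_h L41037) L28521 L19886 (flp_d L28521) L41037
theorem L41045 : sm gi N3295 = N4764 := rfl
theorem L41047 : sm gb N4764 = N3300 := ded_26_1 (flp_i L28561) (flp_b L28526) L41045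
theorem L41049 : sm gd N4764 = N4764 := ded_39_1 (flp_i L41045) L28529 L41045
theorem L41050 : sm gj N4764 = N4764 := ded_53_1 (flp_i L41045) L28528 L41045
theorem L41051 : sm gj N3296 = N4765 := rfl
theorem L41053 : sm gb N4765 = N3301 := ded_24_1 (flp_j L28568) (flp_b L28532) L41051
theorem L41055 : sm gc N4765 = N3607 := ded_31_1 (flp_j L31239) (flp_c L28534) L41051
theorem L41057 : sm ge N4765 = N4765 := ded_42_1 (flp_j L41051) L28536 L41051
theorem L41058 : sm gh N4765 = N4765 := ded_52_2 (flp_j L41051) L28537 L41051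
theorem L41059 : sm gg N4765 = N4765 := ded_49_1 (flp_j L41051) (flp_g L28530) L19885 L28530 L41051
theorem L41060 : sm gg N3297 = N4766 := rfl
theorem L41062 : sm ga N4766 = N4766 := ded_15_1 (flp_g L41060) L28540 L41060
theorem L41063 : sm gc N4766 = N3354 := ded_30_1 (flp_g L29022) (flp_c L28541) L41060
theorem L41065 : sm gd N4766 = N4766 := ded_36_1 (flp_g L41060) L28544 L41060
theorem L41066 : sm ge N4766 = N3298 := ded_41_1 (flp_g L28545) L28538 L41060
theorem L41068 : sm gh N3297 = N4767 := rfl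
theorem L41070 : sm ga N4767 = N4767 := ded_17_1 (flp_h L41068) L28540 L41068
theorem L41071 : sm gc N4767 = N3355 := ded_32_1 (flp_h L29029) (flp_c L28541) L41068
theorem L41073 : sm ge N4767 = N3299 := ded_43_1 (flp_h L28552) L28538 L41068
theorem L41075 : sm gj N4767 = N4767 := ded_52_1 (flp_h L41068) L28543 L41068
theorem L41076 : sm gj N3298 = N4768 := rfl
theorem L41078 : sm ga N4768 = N4768 := ded_16_1 (flp_j L41076) L28547 L41076
theorem L41079 : sm gc N4768 = N3356 := ded_31_1 (flp_j L29035) (flp_c L28548) L41076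
theorem L41081 : sm gd N4768 = N3301 := ded_37_1 (flp_j L28568) (flp_d L28550) L41076
theorem L41083 : sm gg N4768 = N4768 := ded_49_1 (flp_j L41076) (flp_g L28545) L19895 L28545 L41076
theorem L41084 : sm gh N3298 = N4769 := rfl
theorem L41086 : sm ga N4769 = N4769 := ded_17_1 (flp_h L41084) L28547 L41084
theorem L41087 : sm gc N4769 = N3357 := ded_32_1 (flp_h L29041) (flp_c L28548) L41084
theorem L41089 : sm gg N4769 = N3299 := ded_50_1 (flp_h L28552) L28545 L41084
theorem L41091 : sm gd N4769 = N4769 := ded_38_1 (flp_h L41084) L28550 L19909 (flp_d L28550) L41084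
theorem L41092 : sm gi N3299 = N4770 := rfl
theorem L41094 : sm ga N4770 = N4770 := ded_18_1 (flp_i L41092) L28554 L41092
theorem L41095 : sm gc N4770 = N3358 := ded_33_1 (flp_i L29048) (flp_c L28555) L41092
theorem L41097 : sm gd N4770 = N4770 := ded_39_1 (flp_i L41092) L28560 L41092
theorem L41098 : sm gf N4770 = N3300 := ded_48_1 (flp_i L28561) (flp_f L28557) L41092
theorem L41100 : sm gj N4770 = N4770 := ded_53_1 (flp_i L41092) L28559 L41092
theorem L41101 : sm ge N3302 = N4771 := rfl
theorem L41103 : sm ga N4771 = N3303 := ded_13_1 (flp_e L28588) L28576 L41101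
theorem L41105 : sm gb N4771 = N4771 := ded_21_1 (flp_e L41101) L28587 L41101
theorem L41106 : sm gc N4771 = N3613 := ded_28_1 (flp_e L31293) (flp_c L28578) L41101
theorem L41108 : sm gg N4771 = N4771 := ded_41_2 (flp_e L41101) L28581 L41101
theorem L41109 : sm gj N4771 = N3314 := ded_42_2 (flp_e L28694) (flp_j L28582) L41101
theorem L41111 : sm gh N4771 = N4771 := ded_43_2 (flp_e L41101) L28584 L41101
theorem L41112 : sm gi N4771 = N3307 := ded_44_2 (flp_e L28629) (flp_i L28585) L41101
theorem L41114 : sm gd N3303 = N4772 := rfl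
theorem L41116 : sm gb N4772 = N3304 := ded_20_1 (flp_d L28600) (flp_b L28590) L41114
theorem L41118 : sm gg N4772 = N4772 := ded_36_2 (flp_d L41114) L28594 L41114
theorem L41119 : sm gj N4772 = N3315 := ded_37_2 (flp_d L28706) (flp_j L28595) L41114
theorem L41121 : sm gi N4772 = N3308 := ded_39_2 (flp_d L28641) (flp_i L28598) L41114
theorem L41123 : sm gf N3303 = N4773 := rfl
theorem L41125 : sm gb N4773 = N3305 := ded_22_1 (flp_f L28608) (flp_b L28590) L41123
theorem L41127 : sm gc N4773 = N3615 := ded_29_1 (flp_f L31315) (flp_c L28592) L41123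
theorem L41129 : sm gj N4773 = N3316 := ded_46_2 (flp_f L28714) (flp_j L28595) L41123
theorem L41131 : sm gh N4773 = N4773 := ded_47_2 (flp_f L41123) L28597 L41123
theorem L41132 : sm gi N4773 = N3309 := ded_48_2 (flp_f L28648) (flp_i L28598) L41123
theorem L41134 : sm ge N4773 = N4773 := ded_40_1 (flp_f L41123) (flp_e L28588) L19922 L28588 L41123
theorem L41135 : sm gf N3304 = N4774 := rfl
theorem L41137 : sm ga N4774 = N4774 := ded_14_1 (flp_f L41135) L28602 L41135
theorem L41138 : sm gd N4774 = N3305 := ded_35_1 (flp_f L28608) L28600 L41135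
theorem L41140 : sm gj N4774 = N3317 := ded_46_2 (flp_f L28724) (flp_j L28604) L41135
theorem L41142 : sm gi N4774 = N3310 := ded_48_2 (flp_f L28659) (flp_i L28606) L41135
theorem L41144 : sm gh N3304 = N4775 := rfl
theorem L41146 : sm ga N4775 = N4775 := ded_17_1 (flp_h L41144) L28602 L41144
theorem L41147 : sm gg N4775 = N4775 := ded_50_1 (flp_h L41144) L28603 L41144
theorem L41148 : sm gj N4775 = N3318 := ded_52_1 (flp_h L28731) (flp_j L28604) L41144
theorem L41150 : sm gd N4775 = N4775 := ded_38_1 (flp_h L41144) (flp_d L28600) L19939 L28600 L41144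
theorem L41151 : sm gg N3305 = N4776 := rfl
theorem L41153 : sm ga N4776 = N4776 := ded_15_1 (flp_g L41151) L28610 L41151
theorem L41154 : sm gc N4776 = N3306 := ded_30_1 (flp_g L28619) (flp_c L28611) L41151
theorem L41156 : sm ge N4776 = N4776 := ded_41_1 (flp_g L41151) L28618 L41151
theorem L41157 : sm gh N4776 = N4776 := ded_50_2 (flp_g L41151) L28615 L41151
theorem L41158 : sm gi N4776 = N3312 := ded_51_2 (flp_g L28674) (flp_i L28616) L41151
theorem L41160 : sm gf N4776 = N4776 := ded_45_1 (flp_g L41151) (flp_f L28608) L19936 L28608 L41151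
theorem L41161 : sm gj N3306 = N4777 := rfl
theorem L41163 : sm ga N4777 = N4777 := ded_16_1 (flp_j L41161) L28621 L41161
theorem L41164 : sm gb N4777 = N3619 := ded_24_1 (flp_j L31355) (flp_b L28622) L41161
theorem L41166 : sm ge N4777 = N4777 := ded_42_1 (flp_j L41161) L28624 L41161
theorem L41167 : sm gf N4777 = N4777 := ded_46_1 (flp_j L41161) L28628 L41161
theorem L41168 : sm gh N4777 = N4777 := ded_52_2 (flp_j L41161) L28625 L41161
theorem L41169 : sm gi N4777 = N3313 := ded_53_2 (flp_j L28683) (flp_i L28626) L41161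
theorem L41171 : sm gg N4777 = N3320 := ded_49_1 (flp_j L28748) (flp_g L20038) (flp_j L19947) L28619 L41161
theorem L41173 : sm gd N3307 = N4778 := rfl
theorem L41175 : sm ga N4778 = N3308 := ded_12_1 (flp_d L28641) (flp_a L28631) L41173
theorem L41177 : sm gb N4778 = N4778 := ded_20_1 (flp_d L41173) L28633 L41173
theorem L41178 : sm gg N4778 = N4778 := ded_36_2 (flp_d L41173) L28636 L41173
theorem L41179 : sm gj N4778 = N3321 := ded_37_2 (flp_d L28759) (flp_j L28637) L41173
theorem L41181 : sm gf N3307 = N4779 := rfl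
theorem L41183 : sm ga N4779 = N3309 := ded_14_1 (flp_f L28648) (flp_a L28631) L41181
theorem L41185 : sm gb N4779 = N4779 := ded_22_1 (flp_f L41181) L28633 L41181
theorem L41186 : sm gc N4779 = N3621 := ded_29_1 (flp_f L31376) (flp_c L28634) L41181
theorem L41188 : sm gj N4779 = N3322 := ded_46_2 (flp_f L28766) (flp_j L28637) L41181
theorem L41190 : sm gh N4779 = N3400 := ded_47_2 (flp_f L29401) (flp_h L28639) L41181
theorem L41192 : sm ge N4779 = N4779 := ded_40_1 (flp_f L41181) (flp_e L28629) L19957 L28629 L41181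
theorem L41193 : sm gc N3308 = N4780 := rfl
theorem L41195 : sm gg N4780 = N4780 := ded_30_2 (flp_c L41193) L28645 L41193
theorem L41196 : sm gj N4780 = N3323 := ded_31_2 (flp_c L28776) (flp_j L28646) L41193
theorem L41198 : sm gd N4780 = N3622 := ded_27_2 (flp_c L31387) (flp_d L21843) (flp_c L19968) L28641 L41193
theorem L41200 : sm gf N3308 = N4781 := rfl
theorem L41202 : sm gb N4781 = N3310 := ded_22_1 (flp_f L28659) (flp_b L28643) L41200
theorem L41204 : sm gd N4781 = N3309 := ded_35_1 (flp_f L28648) L28641 L41200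
theorem L41206 : sm gj N4781 = N3324 := ded_46_2 (flp_f L28782) (flp_j L28646) L41200
theorem L41208 : sm gh N3308 = N4782 := rfl
theorem L41210 : sm gb N4782 = N3311 := ded_25_1 (flp_h L28666) (flp_b L28643) L41208
theorem L41212 : sm gg N4782 = N4782 := ded_50_1 (flp_h L41208) L28645 L41208
theorem L41213 : sm gj N4782 = N3325 := ded_52_1 (flp_h L28788) (flp_j L28646) L41208
theorem L41215 : sm gd N4782 = N3403 := ded_38_1 (flp_h L29431) (flp_d L20491) (flp_h L19973) L28641 L41208
theorem L41217 : sm gg N3309 = N4783 := rfl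
theorem L41219 : sm gb N4783 = N3312 := ded_23_1 (flp_g L28674) (flp_b L28650) L41217
theorem L41221 : sm gc N4783 = N3625 := ded_30_1 (flp_g L31411) (flp_c L28652) L41217
theorem L41223 : sm ge N4783 = N4783 := ded_41_1 (flp_g L41217) L28658 L41217
theorem L41224 : sm gh N4783 = N3404 := ded_50_2 (flp_g L29439) (flp_h L28656) L41217
theorem L41226 : sm gf N4783 = N4783 := ded_45_1 (flp_g L41217) (flp_f L28648) L19970 L28648 L41217
theorem L41227 : sm ge N3310 = N4784 := rfl
theorem L41229 : sm ga N4784 = N4784 := ded_13_1 (flp_e L41227) L28661 L41227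
theorem L41230 : sm gj N4784 = N3327 := ded_42_2 (flp_e L28807) (flp_j L28664) L41227
theorem L41232 : sm gd N4784 = N4784 := ded_34_1 (flp_e L41227) L28662 L19990 (flp_d L28662) L41227
theorem L41233 : sm gg N3310 = N4785 := rfl
theorem L41235 : sm ga N4785 = N4785 := ded_15_1 (flp_g L41233) L28661 L41233
theorem L41236 : sm gd N4785 = N3312 := ded_36_1 (flp_g L28674) (flp_d L28662) L41233
theorem L41238 : sm gf N4785 = N4785 := ded_45_1 (flp_g L41233) (flp_f L28659) L19978 L28659 L41233
theorem L41239 : sm gh N3310 = N4786 := rfl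
theorem L41241 : sm ga N4786 = N4786 := ded_17_1 (flp_h L41239) L28661 L41239
theorem L41242 : sm gf N4786 = N3311 := ded_47_1 (flp_h L28666) L28659 L41239
theorem L41244 : sm gj N4786 = N3329 := ded_52_1 (flp_h L28818) (flp_j L28664) L41239
theorem L41246 : sm gd N4786 = N3407 := ded_38_1 (flp_h L29465) L20514 (flp_h L19988) (flp_d L28662) L41239
theorem L41248 : sm gi N3311 = N4787 := rfl
theorem L41250 : sm ga N4787 = N4787 := ded_18_1 (flp_i L41248) L28668 L41248
theorem L41251 : sm gd N4787 = N3408 := ded_39_1 (flp_i L29473) (flp_d L28672) L41248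
theorem L41253 : sm gg N4787 = N4787 := ded_51_1 (flp_i L41248) L28669 L41248
theorem L41254 : sm gj N4787 = N3330 := ded_53_1 (flp_i L28825) (flp_j L28670) L41248
theorem L41256 : sm gj N3312 = N4788 := rfl
theorem L41258 : sm ga N4788 = N4788 := ded_16_1 (flp_j L41256) L28676 L41256
theorem L41259 : sm gc N4788 = N3313 := ded_31_1 (flp_j L28683) (flp_c L28677) L41256
theorem L41261 : sm ge N4788 = N4788 := ded_42_1 (flp_j L41256) L28679 L41256
theorem L41262 : sm gf N4788 = N4788 := ded_46_1 (flp_j L41256) L28682 L41256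
theorem L41263 : sm gh N4788 = N3409 := ded_52_2 (flp_j L29482) (flp_h L28680) L41256
theorem L41265 : sm gg N4788 = N3331 := ded_49_1 (flp_j L28832) (flp_g L20087) (flp_j L19986) L28674 L41256
theorem L41267 : sm gd N3314 = N4789 := rfl
theorem L41269 : sm ga N4789 = N3315 := ded_12_1 (flp_d L28706) (flp_a L28696) L41267
theorem L41271 : sm gb N4789 = N4789 := ded_20_1 (flp_d L41267) L28698 L41267
theorem L41272 : sm gg N4789 = N3332 := ded_36_2 (flp_d L28842) (flp_g L28701) L41267
theorem L41274 : sm gi N4789 = N3321 := ded_39_2 (flp_d L28759) (flp_i L28704) L41267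
theorem L41276 : sm gf N3314 = N4790 := rfl
theorem L41278 : sm ga N4790 = N3316 := ded_14_1 (flp_f L28714) (flp_a L28696) L41276
theorem L41280 : sm gb N4790 = N4790 := ded_22_1 (flp_f L41276) L28698 L41276
theorem L41281 : sm gc N4790 = N3632 := ded_29_1 (flp_f L31477) (flp_c L28699) L41276
theorem L41283 : sm gh N4790 = N4790 := ded_47_2 (flp_f L41276) L28703 L41276
theorem L41284 : sm gi N4790 = N3322 := ded_48_2 (flp_f L28766) (flp_i L28704) L41276
theorem L41286 : sm ge N4790 = N4790 := ded_40_1 (flp_f L41276) (flp_e L28694) L20004 L28694 L41276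
theorem L41287 : sm gc N3315 = N4791 := rfl
theorem L41289 : sm gg N4791 = N3334 := ded_30_2 (flp_c L28863) (flp_g L28710) L41287
theorem L41291 : sm gi N4791 = N3323 := ded_33_2 (flp_c L28776) (flp_i L28712) L41287
theorem L41293 : sm gd N4791 = N3633 := ded_27_2 (flp_c L31487) (flp_d L21909) (flp_c L20015) L28706 L41287
theorem L41295 : sm gf N3315 = N4792 := rfl
theorem L41297 : sm gb N4792 = N3317 := ded_22_1 (flp_f L28724) (flp_b L28708) L41295
theorem L41299 : sm gd N4792 = N3316 := ded_35_1 (flp_f L28714) L28706 L41295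
theorem L41301 : sm gi N4792 = N3324 := ded_48_2 (flp_f L28782) (flp_i L28712) L41295
theorem L41303 : sm gh N3315 = N4793 := rfl
theorem L41305 : sm gb N4793 = N3318 := ded_25_1 (flp_h L28731) (flp_b L28708) L41303
theorem L41307 : sm gg N4793 = N3336 := ded_50_1 (flp_h L28879) (flp_g L28710) L41303
theorem L41309 : sm gd N4793 = N4793 := ded_38_1 (flp_h L41303) (flp_d L28706) L20019 L28706 L41303
theorem L41310 : sm gg N3316 = N4794 := rfl
theorem L41312 : sm gb N4794 = N3319 := ded_23_1 (flp_g L28737) (flp_b L28716) L41310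
theorem L41314 : sm gc N4794 = N3636 := ded_30_1 (flp_g L31510) (flp_c L28718) L41310
theorem L41316 : sm ge N4794 = N4794 := ded_41_1 (flp_g L41310) L28723 L41310
theorem L41317 : sm gh N4794 = N4794 := ded_50_2 (flp_g L41310) L28720 L41310
theorem L41318 : sm gi N4794 = N3326 := ded_51_2 (flp_g L28796) (flp_i L28721) L41310
theorem L41320 : sm gf N4794 = N3337 := ded_45_1 (flp_g L28885) (flp_f L20125) (flp_g L20017) L28714 L41310
theorem L41322 : sm ge N3317 = N4795 := rfl
theorem L41324 : sm ga N4795 = N4795 := ded_13_1 (flp_e L41322) L28726 L41322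
theorem L41325 : sm gi N4795 = N3327 := ded_44_2 (flp_e L28807) (flp_i L28729) L41322
theorem L41327 : sm gd N4795 = N4795 := ded_34_1 (flp_e L41322) L28727 L20037 (flp_d L28727) L41322
theorem L41328 : sm gg N3317 = N4796 := rfl
theorem L41330 : sm ga N4796 = N4796 := ded_15_1 (flp_g L41328) L28726 L41328
theorem L41331 : sm gd N4796 = N3319 := ded_36_1 (flp_g L28737) (flp_d L28727) L41328
theorem L41333 : sm gi N4796 = N3328 := ded_51_2 (flp_g L28811) (flp_i L28729) L41328
theorem L41335 : sm gf N4796 = N3339 := ded_45_1 (flp_g L28904) (flp_f L20137) (flp_g L20025) L28724 L41328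
theorem L41337 : sm gh N3317 = N4797 := rfl
theorem L41339 : sm ga N4797 = N4797 := ded_17_1 (flp_h L41337) L28726 L41337
theorem L41340 : sm gf N4797 = N3318 := ded_47_1 (flp_h L28731) L28724 L41337
theorem L41342 : sm gd N4797 = N4797 := ded_38_1 (flp_h L41337) L28727 L20034 (flp_d L28727) L41337
theorem L41343 : sm gi N3318 = N4798 := rfl
theorem L41345 : sm ga N4798 = N4798 := ded_18_1 (flp_i L41343) L28733 L41343
theorem L41346 : sm gd N4798 = N4798 := ded_39_1 (flp_i L41343) L28736 L41343
theorem L41347 : sm gg N4798 = N3341 := ded_51_1 (flp_i L28918) (flp_g L28734) L41343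
theorem L41349 : sm gh N4798 = N3330 := ded_54_1 (flp_i L28825) (flp_h L20080) (flp_i L20027) L28731 L41343
theorem L41351 : sm gj N3319 = N4799 := rfl
theorem L41353 : sm ga N4799 = N4799 := ded_16_1 (flp_j L41351) L28739 L41351
theorem L41354 : sm gc N4799 = N3320 := ded_31_1 (flp_j L28748) (flp_c L28740) L41351
theorem L41356 : sm ge N4799 = N4799 := ded_42_1 (flp_j L41351) L28742 L41351
theorem L41357 : sm gf N4799 = N3342 := ded_46_1 (flp_j L28925) (flp_f L28746) L41351
theorem L41359 : sm gh N4799 = N4799 := ded_52_2 (flp_j L41351) L28743 L41351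
theorem L41360 : sm gi N4799 = N3331 := ded_53_2 (flp_j L28832) (flp_i L28744) L41351
theorem L41362 : sm gc N3321 = N4800 := rfl
theorem L41364 : sm ga N4800 = N3323 := ded_11_1 (flp_c L28776) (flp_a L28761) L41362
theorem L41366 : sm gg N4800 = N3343 := ded_30_2 (flp_c L28936) (flp_g L28764) L41362
theorem L41368 : sm gd N4800 = N3642 := ded_27_2 (flp_c L31567) (flp_d L21964) (flp_c L20054) L28759 L41362
theorem L41370 : sm gf N3321 = N4801 := rfl
theorem L41372 : sm ga N4801 = N3324 := ded_14_1 (flp_f L28782) (flp_a L28761) L41370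
theorem L41374 : sm gb N4801 = N4801 := ded_22_1 (flp_f L41370) L28763 L41370
theorem L41375 : sm gd N4801 = N3322 := ded_35_1 (flp_f L28766) L28759 L41370
theorem L41377 : sm gh N3321 = N4802 := rfl
theorem L41379 : sm ga N4802 = N3325 := ded_17_1 (flp_h L28788) (flp_a L28761) L41377
theorem L41381 : sm gb N4802 = N4802 := ded_25_1 (flp_h L41377) L28763 L41377
theorem L41382 : sm gg N4802 = N3345 := ded_50_1 (flp_h L28951) (flp_g L28764) L41377
theorem L41384 : sm gd N4802 = N3412 := ded_38_1 (flp_h L29510) (flp_d L20546) (flp_h L20058) L28759 L41377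
theorem L41386 : sm gg N3322 = N4803 := rfl
theorem L41388 : sm ga N4803 = N3326 := ded_15_1 (flp_g L28796) (flp_a L28768) L41386
theorem L41390 : sm gb N4803 = N4803 := ded_23_1 (flp_g L41386) L28770 L41386
theorem L41391 : sm gc N4803 = N3645 := ded_30_1 (flp_g L31593) (flp_c L28771) L41386
theorem L41393 : sm ge N4803 = N4803 := ded_41_1 (flp_g L41386) L28775 L41386
theorem L41394 : sm gh N4803 = N3413 := ded_50_2 (flp_g L29518) (flp_h L28773) L41386
theorem L41396 : sm gf N4803 = N3346 := ded_45_1 (flp_g L28959) (flp_f L20177) (flp_g L20056) L28766 L41386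
theorem L41398 : sm gf N3323 = N4804 := rfl
theorem L41400 : sm gc N4804 = N3324 := ded_29_1 (flp_f L28782) L28776 L41398
theorem L41402 : sm gd N4804 = N3646 := ded_35_1 (flp_f L31604) (flp_d L28780) L41398
theorem L41404 : sm gh N3323 = N4805 := rfl
theorem L41406 : sm gc N4805 = N3325 := ded_32_1 (flp_h L28788) L28776 L41404
theorem L41408 : sm gg N4805 = N3348 := ded_50_1 (flp_h L28977) (flp_g L28778) L41404
theorem L41410 : sm ge N3324 = N4806 := rfl
theorem L41412 : sm gb N4806 = N3327 := ded_21_1 (flp_e L28807) (flp_b L28784) L41410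
theorem L41414 : sm gd N4806 = N4806 := ded_34_1 (flp_e L41410) L28786 L20074 (flp_d L28786) L41410
theorem L41415 : sm gg N3324 = N4807 := rfl
theorem L41417 : sm gb N4807 = N3328 := ded_23_1 (flp_g L28811) (flp_b L28784) L41415
theorem L41419 : sm gd N4807 = N3326 := ded_36_1 (flp_g L28796) (flp_d L28786) L41415
theorem L41421 : sm gf N4807 = N3350 := ded_45_1 (flp_g L28989) (flp_f L20194) (flp_g L20064) L28782 L41415
theorem L41423 : sm gh N3324 = N4808 := rfl
theorem L41425 : sm gb N4808 = N3329 := ded_25_1 (flp_h L28818) (flp_b L28784) L41423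
theorem L41427 : sm gf N4808 = N3325 := ded_47_1 (flp_h L28788) L28782 L41423
theorem L41429 : sm gd N4808 = N3418 := ded_38_1 (flp_h L29561) L20577 (flp_h L20072) (flp_d L28786) L41423
theorem L41431 : sm gi N3325 = N4809 := rfl
theorem L41433 : sm gb N4809 = N3330 := ded_26_1 (flp_i L28825) (flp_b L28790) L41431
theorem L41435 : sm gd N4809 = N3419 := ded_39_1 (flp_i L29567) (flp_d L28794) L41431
theorem L41437 : sm gg N4809 = N3352 := ded_51_1 (flp_i L29004) (flp_g L28792) L41431
theorem L41439 : sm gj N3326 = N4810 := rfl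
theorem L41441 : sm gb N4810 = N3331 := ded_24_1 (flp_j L28832) (flp_b L28798) L41439
theorem L41443 : sm gc N4810 = N3652 := ded_31_1 (flp_j L31646) (flp_c L28800) L41439
theorem L41445 : sm ge N4810 = N4810 := ded_42_1 (flp_j L41439) L28802 L41439
theorem L41446 : sm gf N4810 = N3353 := ded_46_1 (flp_j L29011) (flp_f L28805) L41439
theorem L41448 : sm gh N4810 = N3420 := ded_52_2 (flp_j L29575) (flp_h L28803) L41439
theorem L41450 : sm gg N3327 = N4811 := rfl
theorem L41452 : sm ga N4811 = N4811 := ded_15_1 (flp_g L41450) L28809 L41450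
theorem L41453 : sm gd N4811 = N4811 := ded_36_1 (flp_g L41450) L28810 L41450
theorem L41454 : sm ge N4811 = N3328 := ded_41_1 (flp_g L28811) L28807 L41450
theorem L41456 : sm gh N3327 = N4812 := rfl
theorem L41458 : sm ga N4812 = N4812 := ded_17_1 (flp_h L41456) L28809 L41456
theorem L41459 : sm ge N4812 = N3329 := ded_43_1 (flp_h L28818) L28807 L41456
theorem L41461 : sm gj N3328 = N4813 := rfl
theorem L41463 : sm ga N4813 = N4813 := ded_16_1 (flp_j L41461) L28813 L41461
theorem L41464 : sm gd N4813 = N3331 := ded_37_1 (flp_j L28832) (flp_d L28814) L41461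
theorem L41466 : sm gf N4813 = N3356 := ded_46_1 (flp_j L29035) (flp_f L28816) L41461
theorem L41468 : sm gh N3328 = N4814 := rfl
theorem L41470 : sm ga N4814 = N4814 := ded_17_1 (flp_h L41468) L28813 L41468
theorem L41471 : sm gf N4814 = N3357 := ded_47_1 (flp_h L29041) (flp_f L28816) L41468
theorem L41473 : sm gg N4814 = N3329 := ded_50_1 (flp_h L28818) L28811 L41468
theorem L41475 : sm gd N4814 = N3424 := ded_38_1 (flp_h L29609) L20608 (flp_h L20093) (flp_d L28814) L41468
theorem L41477 : sm gi N3329 = N4815 := rfl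
theorem L41479 : sm ga N4815 = N4815 := ded_18_1 (flp_i L41477) L28820 L41477
theorem L41480 : sm gd N4815 = N3425 := ded_39_1 (flp_i L29617) (flp_d L28823) L41477
theorem L41482 : sm gf N4815 = N3330 := ded_48_1 (flp_i L28825) (flp_f L28821) L41477
theorem L41484 : sm gc N3332 = N4816 := rfl
theorem L41486 : sm ga N4816 = N3334 := ded_11_1 (flp_c L28863) (flp_a L28844) L41484
theorem L41488 : sm gj N4816 = N4816 := ded_31_2 (flp_c L41484) L28847 L41484
theorem L41489 : sm gi N4816 = N3343 := ded_33_2 (flp_c L28936) (flp_i L28848) L41484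
theorem L41491 : sm gd N4816 = N3658 := ded_27_2 (flp_c L31695) (flp_d L22053) (flp_c L20112) L28842 L41484
theorem L41493 : sm gf N3332 = N4817 := rfl
theorem L41495 : sm ga N4817 = N3335 := ded_14_1 (flp_f L28870) (flp_a L28844) L41493
theorem L41497 : sm gb N4817 = N4817 := ded_22_1 (flp_f L41493) L28846 L41493
theorem L41498 : sm gd N4817 = N3333 := ded_35_1 (flp_f L28850) L28842 L41493
theorem L41500 : sm gj N4817 = N4817 := ded_46_2 (flp_f L41493) L28847 L41493
theorem L41501 : sm gi N4817 = N3344 := ded_48_2 (flp_f L28943) (flp_i L28848) L41493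
theorem L41503 : sm gh N3332 = N4818 := rfl
theorem L41505 : sm ga N4818 = N3336 := ded_17_1 (flp_h L28879) (flp_a L28844) L41503
theorem L41507 : sm gb N4818 = N4818 := ded_25_1 (flp_h L41503) L28846 L41503
theorem L41508 : sm gj N4818 = N4818 := ded_52_1 (flp_h L41503) L28847 L41503
theorem L41509 : sm gd N4818 = N4818 := ded_38_1 (flp_h L41503) (flp_d L28842) L20115 L28842 L41503
theorem L41510 : sm gg N3333 = N4819 := rfl
theorem L41512 : sm ga N4819 = N3337 := ded_15_1 (flp_g L28885) (flp_a L28852) L41510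
theorem L41514 : sm gb N4819 = N4819 := ded_23_1 (flp_g L41510) L28854 L41510
theorem L41515 : sm gc N4819 = N3661 := ded_30_1 (flp_g L31723) (flp_c L28855) L41510
theorem L41517 : sm ge N4819 = N3362 := ded_41_1 (flp_g L29084) (flp_e L28861) L41510
theorem L41519 : sm gh N4819 = N4819 := ded_50_2 (flp_g L41510) L28858 L41510
theorem L41520 : sm gi N4819 = N3346 := ded_51_2 (flp_g L28959) (flp_i L28859) L41510
theorem L41522 : sm gf N3334 = N4820 := rfl
theorem L41524 : sm gc N4820 = N3335 := ded_29_1 (flp_f L28870) L28863 L41522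
theorem L41526 : sm gd N4820 = N3662 := ded_35_1 (flp_f L31734) (flp_d L28868) L41522
theorem L41528 : sm gj N4820 = N4820 := ded_46_2 (flp_f L41522) L28865 L41522
theorem L41529 : sm gi N4820 = N3347 := ded_48_2 (flp_f L28970) (flp_i L28866) L41522
theorem L41531 : sm gh N3334 = N4821 := rfl
theorem L41533 : sm gc N4821 = N3336 := ded_32_1 (flp_h L28879) L28863 L41531
theorem L41535 : sm gj N4821 = N4821 := ded_52_1 (flp_h L41531) L28865 L41531
theorem L41536 : sm ge N3335 = N4822 := rfl
theorem L41538 : sm gb N4822 = N3338 := ded_21_1 (flp_e L28896) (flp_b L28872) L41536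
theorem L41540 : sm gj N4822 = N4822 := ded_42_2 (flp_e L41536) L28876 L41536
theorem L41541 : sm gi N4822 = N3349 := ded_44_2 (flp_e L28982) (flp_i L28877) L41536
theorem L41543 : sm gd N4822 = N3365 := ded_34_1 (flp_e L29112) L20286 (flp_e L20135) (flp_d L28874) L41536
theorem L41545 : sm gg N3335 = N4823 := rfl
theorem L41547 : sm gb N4823 = N3339 := ded_23_1 (flp_g L28904) (flp_b L28872) L41545
theorem L41549 : sm gd N4823 = N3337 := ded_36_1 (flp_g L28885) (flp_d L28874) L41545
theorem L41551 : sm gi N4823 = N3350 := ded_51_2 (flp_g L28989) (flp_i L28877) L41545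
theorem L41553 : sm gh N3335 = N4824 := rfl
theorem L41555 : sm gb N4824 = N3340 := ded_25_1 (flp_h L28911) (flp_b L28872) L41553
theorem L41557 : sm gf N4824 = N3336 := ded_47_1 (flp_h L28879) L28870 L41553
theorem L41559 : sm gj N4824 = N4824 := ded_52_1 (flp_h L41553) L28876 L41553
theorem L41560 : sm gd N4824 = N4824 := ded_38_1 (flp_h L41553) L28874 L20132 (flp_d L28874) L41553
theorem L41561 : sm gi N3336 = N4825 := rfl
theorem L41563 : sm gb N4825 = N3341 := ded_26_1 (flp_i L28918) (flp_b L28881) L41561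
theorem L41565 : sm gd N4825 = N4825 := ded_39_1 (flp_i L41561) L28884 L41561
theorem L41566 : sm gj N4825 = N4825 := ded_53_1 (flp_i L41561) L28883 L41561
theorem L41567 : sm gh N4825 = N3352 := ded_54_1 (flp_i L29004) (flp_h L20201) (flp_i L20123) L28879 L41561
theorem L41569 : sm gj N3337 = N4826 := rfl
theorem L41571 : sm gb N4826 = N3342 := ded_24_1 (flp_j L28925) (flp_b L28887) L41569
theorem L41573 : sm gc N4826 = N3668 := ded_31_1 (flp_j L31782) (flp_c L28889) L41569
theorem L41575 : sm ge N4826 = N3369 := ded_42_1 (flp_j L29145) (flp_e L28891) L41569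
theorem L41577 : sm gh N4826 = N4826 := ded_52_2 (flp_j L41569) L28893 L41569
theorem L41578 : sm gi N4826 = N3353 := ded_53_2 (flp_j L29011) (flp_i L28894) L41569
theorem L41580 : sm gg N4826 = N4826 := ded_49_1 (flp_j L41569) (flp_g L28885) L20131 L28885 L41569
theorem L41581 : sm gg N3338 = N4827 := rfl
theorem L41583 : sm ga N4827 = N4827 := ded_15_1 (flp_g L41581) L28898 L41581
theorem L41584 : sm gd N4827 = N3370 := ded_36_1 (flp_g L29156) (flp_d L28902) L41581
theorem L41586 : sm ge N4827 = N3339 := ded_41_1 (flp_g L28904) L28896 L41581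
theorem L41588 : sm gi N4827 = N3354 := ded_51_2 (flp_g L29022) (flp_i L28900) L41581
theorem L41590 : sm gh N3338 = N4828 := rfl
theorem L41592 : sm ga N4828 = N4828 := ded_17_1 (flp_h L41590) L28898 L41590
theorem L41593 : sm ge N4828 = N3340 := ded_43_1 (flp_h L28911) L28896 L41590
theorem L41595 : sm gj N4828 = N4828 := ded_52_1 (flp_h L41590) L28899 L41590
theorem L41596 : sm gj N3339 = N4829 := rfl
theorem L41598 : sm ga N4829 = N4829 := ded_16_1 (flp_j L41596) L28906 L41596
theorem L41599 : sm gd N4829 = N3342 := ded_37_1 (flp_j L28925) (flp_d L28907) L41596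
theorem L41601 : sm gi N4829 = N3356 := ded_53_2 (flp_j L29035) (flp_i L28909) L41596
theorem L41603 : sm gg N4829 = N4829 := ded_49_1 (flp_j L41596) (flp_g L28904) L20142 L28904 L41596
theorem L41604 : sm gh N3339 = N4830 := rfl
theorem L41606 : sm ga N4830 = N4830 := ded_17_1 (flp_h L41604) L28906 L41604
theorem L41607 : sm gg N4830 = N3340 := ded_50_1 (flp_h L28911) L28904 L41604
theorem L41609 : sm gd N4830 = N4830 := ded_38_1 (flp_h L41604) L28907 L20157 (flp_d L28907) L41604
theorem L41610 : sm gi N3340 = N4831 := rfl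
theorem L41612 : sm ga N4831 = N4831 := ded_18_1 (flp_i L41610) L28913 L41610
theorem L41613 : sm gd N4831 = N4831 := ded_39_1 (flp_i L41610) L28917 L41610
theorem L41614 : sm gf N4831 = N3341 := ded_48_1 (flp_i L28918) (flp_f L28914) L41610
theorem L41616 : sm gj N4831 = N4831 := ded_53_1 (flp_i L41610) L28916 L41610
theorem L41617 : sm gh N4831 = N3358 := ded_54_1 (flp_i L29048) (flp_h L20229) (flp_i L20143) L28911 L41610
theorem L41619 : sm gb N3343 = N4832 := rfl
theorem L41621 : sm gd N4832 = N3674 := ded_20_2 (flp_b L31836) (flp_d L28941) L41619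
theorem L41623 : sm gj N4832 = N4832 := ded_24_2 (flp_b L41619) L28940 L41619
theorem L41624 : sm gc N4832 = N4832 := ded_19_2 (flp_b L41619) (flp_c L28936) L20175 L28936 L41619
theorem L41625 : sm gf N3343 = N4833 := rfl
theorem L41627 : sm ga N4833 = N3347 := ded_14_1 (flp_f L28970) (flp_a L28938) L41625
theorem L41629 : sm gc N4833 = N3344 := ded_29_1 (flp_f L28943) L28936 L41625
theorem L41631 : sm gd N4833 = N3675 := ded_35_1 (flp_f L31842) (flp_d L28941) L41625
theorem L41633 : sm gj N4833 = N4833 := ded_46_2 (flp_f L41625) L28940 L41625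
theorem L41634 : sm gh N3343 = N4834 := rfl
theorem L41636 : sm ga N4834 = N3348 := ded_17_1 (flp_h L28977) (flp_a L28938) L41634
theorem L41638 : sm gc N4834 = N3345 := ded_32_1 (flp_h L28951) L28936 L41634
theorem L41640 : sm gj N4834 = N4834 := ded_52_1 (flp_h L41634) L28940 L41634
theorem L41641 : sm ge N3344 = N4835 := rfl
theorem L41643 : sm ga N4835 = N3349 := ded_13_1 (flp_e L28982) (flp_a L28945) L41641
theorem L41645 : sm gb N4835 = N4835 := ded_21_1 (flp_e L41641) L28947 L41641
theorem L41646 : sm gj N4835 = N4835 := ded_42_2 (flp_e L41641) L28950 L41641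
theorem L41647 : sm gd N4835 = N3378 := ded_34_1 (flp_e L29225) L20364 (flp_e L20187) (flp_d L28948) L41641
theorem L41649 : sm gg N3344 = N4836 := rfl
theorem L41651 : sm ga N4836 = N3350 := ded_15_1 (flp_g L28989) (flp_a L28945) L41649
theorem L41653 : sm gb N4836 = N4836 := ded_23_1 (flp_g L41649) L28947 L41649
theorem L41654 : sm gd N4836 = N3346 := ded_36_1 (flp_g L28959) (flp_d L28948) L41649
theorem L41656 : sm gh N3344 = N4837 := rfl
theorem L41658 : sm ga N4837 = N3351 := ded_17_1 (flp_h L28995) (flp_a L28945) L41656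
theorem L41660 : sm gb N4837 = N4837 := ded_25_1 (flp_h L41656) L28947 L41656
theorem L41661 : sm gf N4837 = N3345 := ded_47_1 (flp_h L28951) L28943 L41656
theorem L41663 : sm gj N4837 = N4837 := ded_52_1 (flp_h L41656) L28950 L41656
theorem L41664 : sm gd N4837 = N3431 := ded_38_1 (flp_h L29669) L20650 (flp_h L20185) (flp_d L28948) L41656
theorem L41666 : sm gi N3345 = N4838 := rfl
theorem L41668 : sm ga N4838 = N3352 := ded_18_1 (flp_i L29004) (flp_a L28953) L41666
theorem L41670 : sm gb N4838 = N4838 := ded_26_1 (flp_i L41666) L28955 L41666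
theorem L41671 : sm gd N4838 = N3432 := ded_39_1 (flp_i L29677) (flp_d L28957) L41666
theorem L41673 : sm gj N4838 = N4838 := ded_53_1 (flp_i L41666) L28956 L41666
theorem L41674 : sm gj N3346 = N4839 := rfl
theorem L41676 : sm ga N4839 = N3353 := ded_16_1 (flp_j L29011) (flp_a L28961) L41674
theorem L41678 : sm gb N4839 = N4839 := ded_24_1 (flp_j L41674) L28963 L41674
theorem L41679 : sm gc N4839 = N3681 := ded_31_1 (flp_j L31896) (flp_c L28964) L41674
theorem L41681 : sm ge N4839 = N3382 := ded_42_1 (flp_j L29258) (flp_e L28966) L41674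
theorem L41683 : sm gh N4839 = N3433 := ded_52_2 (flp_j L29685) (flp_h L28968) L41674
theorem L41685 : sm gg N4839 = N4839 := ded_49_1 (flp_j L41674) (flp_g L28959) L20184 L28959 L41674
theorem L41686 : sm ge N3347 = N4840 := rfl
theorem L41688 : sm gc N4840 = N3349 := ded_28_1 (flp_e L28982) (flp_c L28972) L41686
theorem L41690 : sm gj N4840 = N4840 := ded_42_2 (flp_e L41686) L28976 L41686
theorem L41691 : sm gg N3347 = N4841 := rfl
theorem L41693 : sm gc N4841 = N3350 := ded_30_1 (flp_g L28989) (flp_c L28972) L41691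
theorem L41695 : sm gd N4841 = N3683 := ded_36_1 (flp_g L31913) (flp_d L28974) L41691
theorem L41697 : sm gh N3347 = N4842 := rfl
theorem L41699 : sm gc N4842 = N3351 := ded_32_1 (flp_h L28995) (flp_c L28972) L41697
theorem L41701 : sm gf N4842 = N3348 := ded_47_1 (flp_h L28977) L28970 L41697
theorem L41703 : sm gj N4842 = N4842 := ded_52_1 (flp_h L41697) L28976 L41697
theorem L41704 : sm gd N3348 = N4843 := rfl
theorem L41706 : sm gj N4843 = N4843 := ded_37_2 (flp_d L41704) L28981 L41704
theorem L41707 : sm gc N4843 = N3437 := ded_27_1 (flp_d L29721) L20683 (flp_d L20206) (flp_c L28979) L41704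
theorem L41709 : sm gh N4843 = N3685 := ded_38_2 (flp_d L31924) (flp_h L22193) (flp_d L20192) L28977 L41704
theorem L41711 : sm gi N3348 = N4844 := rfl
theorem L41713 : sm gc N4844 = N3352 := ded_33_1 (flp_i L29004) (flp_c L28979) L41711
theorem L41715 : sm gj N4844 = N4844 := ded_53_1 (flp_i L41711) L28981 L41711
theorem L41716 : sm gg N3349 = N4845 := rfl
theorem L41718 : sm gb N4845 = N3354 := ded_23_1 (flp_g L29022) (flp_b L28984) L41716
theorem L41720 : sm gd N4845 = N3387 := ded_36_1 (flp_g L29300) (flp_d L28987) L41716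
theorem L41722 : sm ge N4845 = N3350 := ded_41_1 (flp_g L28989) L28982 L41716
theorem L41724 : sm gh N3349 = N4846 := rfl
theorem L41726 : sm gb N4846 = N3355 := ded_25_1 (flp_h L29029) (flp_b L28984) L41724
theorem L41728 : sm ge N4846 = N3351 := ded_43_1 (flp_h L28995) L28982 L41724
theorem L41730 : sm gj N4846 = N4846 := ded_52_1 (flp_h L41724) L28986 L41724
theorem L41731 : sm gj N3350 = N4847 := rfl
theorem L41733 : sm gb N4847 = N3356 := ded_24_1 (flp_j L29035) (flp_b L28991) L41731
theorem L41735 : sm gd N4847 = N3353 := ded_37_1 (flp_j L29011) (flp_d L28993) L41731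
theorem L41737 : sm gg N4847 = N4847 := ded_49_1 (flp_j L41731) (flp_g L28989) L20200 L28989 L41731
theorem L41738 : sm gh N3350 = N4848 := rfl
theorem L41740 : sm gb N4848 = N3357 := ded_25_1 (flp_h L29041) (flp_b L28991) L41738
theorem L41742 : sm gg N4848 = N3351 := ded_50_1 (flp_h L28995) L28989 L41738
theorem L41744 : sm gd N4848 = N3442 := ded_38_1 (flp_h L29760) L20700 (flp_h L20216) (flp_d L28993) L41738
theorem L41746 : sm gi N3351 = N4849 := rfl
theorem L41748 : sm gb N4849 = N3358 := ded_26_1 (flp_i L29048) (flp_b L28997) L41746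
theorem L41750 : sm gd N4849 = N3443 := ded_39_1 (flp_i L29766) (flp_d L29002) L41746
theorem L41752 : sm gf N4849 = N3352 := ded_48_1 (flp_i L29004) (flp_f L28999) L41746
theorem L41754 : sm gj N4849 = N4849 := ded_53_1 (flp_i L41746) L29001 L41746
theorem L41755 : sm gf N3354 = N4850 := rfl
theorem L41757 : sm ga N4850 = N4850 := ded_14_1 (flp_f L41755) L29024 L41755
theorem L41758 : sm gd N4850 = N3392 := ded_35_1 (flp_f L29339) (flp_d L29025) L41755
theorem L41760 : sm gj N3354 = N4851 := rfl
theorem L41762 : sm ga N4851 = N4851 := ded_16_1 (flp_j L41760) L29024 L41760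
theorem L41763 : sm gd N4851 = N3393 := ded_37_1 (flp_j L29344) (flp_d L29025) L41760
theorem L41765 : sm ge N4851 = N3356 := ded_42_1 (flp_j L29035) (flp_e L29027) L41760
theorem L41767 : sm gg N4851 = N4851 := ded_49_1 (flp_j L41760) (flp_g L29022) L20221 L29022 L41760
theorem L41768 : sm gh N3354 = N4852 := rfl
theorem L41770 : sm ga N4852 = N4852 := ded_17_1 (flp_h L41768) L29024 L41768
theorem L41771 : sm ge N4852 = N3357 := ded_43_1 (flp_h L29041) (flp_e L29027) L41768
theorem L41773 : sm gg N4852 = N3355 := ded_50_1 (flp_h L29029) L29022 L41768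
theorem L41775 : sm gd N3355 = N4853 := rfl
theorem L41777 : sm ga N4853 = N4853 := ded_12_1 (flp_d L41775) L29031 L41775
theorem L41778 : sm gj N4853 = N4853 := ded_37_2 (flp_d L41775) L29034 L41775
theorem L41779 : sm ge N4853 = N3447 := ded_34_2 (flp_d L29800) L20740 (flp_d L20235) (flp_e L29032) L41775
theorem L41781 : sm gh N4853 = N3395 := ded_38_2 (flp_d L29359) (flp_h L20447) (flp_d L20222) L29029 L41775
theorem L41783 : sm gi N3355 = N4854 := rfl
theorem L41785 : sm ga N4854 = N4854 := ded_18_1 (flp_i L41783) L29031 L41783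
theorem L41786 : sm ge N4854 = N3358 := ded_44_1 (flp_i L29048) (flp_e L29032) L41783
theorem L41788 : sm gj N4854 = N4854 := ded_53_1 (flp_i L41783) L29034 L41783
theorem L41789 : sm gh N3356 = N4855 := rfl
theorem L41791 : sm ga N4855 = N4855 := ded_17_1 (flp_h L41789) L29037 L41789
theorem L41792 : sm gg N4855 = N4855 := ded_50_1 (flp_h L41789) L29040 L41789
theorem L41793 : sm gj N4855 = N3357 := ded_52_1 (flp_h L29041) L29035 L41789
theorem L41795 : sm gd N4855 = N3449 := ded_38_1 (flp_h L29816) L20748 (flp_h L20250) (flp_d L29038) L41789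
theorem L41797 : sm gi N3357 = N4856 := rfl
theorem L41799 : sm ga N4856 = N4856 := ded_18_1 (flp_i L41797) L29043 L41797
theorem L41800 : sm gd N4856 = N3450 := ded_39_1 (flp_i L29823) (flp_d L29046) L41797
theorem L41802 : sm gg N4856 = N3358 := ded_51_1 (flp_i L29048) (flp_g L29044) L41797
theorem L41804 : sm gb N3359 = N4857 := rfl
theorem L41806 : sm gd N4857 = N3698 := ded_20_2 (flp_b L32027) (flp_d L29064) L41804
theorem L41810 : sm gi N4857 = N3375 := ded_26_2 (flp_b L29199) (flp_i L29062) L41804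
theorem L41814 : sm gf N3359 = N4858 := rfl
theorem L41816 : sm ga N4858 = N3363 := ded_14_1 (flp_f L29095) (flp_a L29058) L41814
theorem L41818 : sm gc N4858 = N3360 := ded_29_1 (flp_f L29066) L29056 L41814
theorem L41820 : sm gd N4858 = N3699 := ded_35_1 (flp_f L32037) (flp_d L29064) L41814
theorem L41823 : sm gi N4858 = N3376 := ded_48_2 (flp_f L29207) (flp_i L29062) L41814
theorem L41825 : sm gh N3359 = N4859 := rfl
theorem L41827 : sm ga N4859 = N3364 := ded_17_1 (flp_h L29105) (flp_a L29058) L41825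
theorem L41829 : sm gc N4859 = N3361 := ded_32_1 (flp_h L29076) L29056 L41825
theorem L41833 : sm ge N3360 = N4860 := rfl
theorem L41835 : sm ga N4860 = N3365 := ded_13_1 (flp_e L29112) (flp_a L29068) L41833
theorem L41837 : sm gb N4860 = N4860 := ded_21_1 (flp_e L41833) L29070 L41833
theorem L41838 : sm gj N4860 = N4860 := ded_42_2 (flp_e L41833) L29073 L41833
theorem L41839 : sm gi N4860 = N3378 := ded_44_2 (flp_e L29225) (flp_i L29074) L41833
theorem L41841 : sm gg N3360 = N4861 := rfl
theorem L41843 : sm ga N4861 = N3366 := ded_15_1 (flp_g L29119) (flp_a L29068) L41841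
theorem L41845 : sm gb N4861 = N4861 := ded_23_1 (flp_g L41841) L29070 L41841
theorem L41846 : sm gd N4861 = N3362 := ded_36_1 (flp_g L29084) (flp_d L29071) L41841
theorem L41848 : sm gi N4861 = N3379 := ded_51_2 (flp_g L29231) (flp_i L29074) L41841
theorem L41850 : sm gf N4861 = N4861 := ded_45_1 (flp_g L41841) (flp_f L29066) L20258 L29066 L41841
theorem L41851 : sm gh N3360 = N4862 := rfl
theorem L41856 : sm gf N4862 = N3361 := ded_47_1 (flp_h L29076) L29066 L41851
theorem L41870 : sm gj N3362 = N4864 := rfl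
theorem L41872 : sm ga N4864 = N3369 := ded_16_1 (flp_j L29145) (flp_a L29086) L41870
theorem L41874 : sm gb N4864 = N4864 := ded_24_1 (flp_j L41870) L29088 L41870
theorem L41875 : sm gc N4864 = N3704 := ded_31_1 (flp_j L32088) (flp_c L29089) L41870
theorem L41877 : sm gf N4864 = N4864 := ded_46_1 (flp_j L41870) L29094 L41870
theorem L41878 : sm gh N4864 = N4864 := ded_52_2 (flp_j L41870) L29091 L41870
theorem L41879 : sm gi N4864 = N3382 := ded_53_2 (flp_j L29258) (flp_i L29092) L41870
theorem L41881 : sm gg N4864 = N4864 := ded_49_1 (flp_j L41870) (flp_g L29084) L20269 L29084 L41870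
theorem L41882 : sm ge N3363 = N4865 := rfl
theorem L41884 : sm gb N4865 = N4865 := ded_21_1 (flp_e L41882) L29097 L41882
theorem L41885 : sm gc N4865 = N3365 := ded_28_1 (flp_e L29112) (flp_c L29098) L41882
theorem L41887 : sm gj N4865 = N4865 := ded_42_2 (flp_e L41882) L29102 L41882
theorem L41888 : sm gi N4865 = N3383 := ded_44_2 (flp_e L29269) (flp_i L29103) L41882
theorem L41890 : sm gg N3363 = N4866 := rfl
theorem L41892 : sm gb N4866 = N4866 := ded_23_1 (flp_g L41890) L29097 L41890
theorem L41893 : sm gc N4866 = N3366 := ded_30_1 (flp_g L29119) (flp_c L29098) L41890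
theorem L41895 : sm gd N4866 = N3706 := ded_36_1 (flp_g L32108) (flp_d L29100) L41890
theorem L41897 : sm gi N4866 = N3384 := ded_51_2 (flp_g L29275) (flp_i L29103) L41890
theorem L41899 : sm gf N4866 = N4866 := ded_45_1 (flp_g L41890) (flp_f L29095) L20275 L29095 L41890
theorem L41900 : sm gh N3363 = N4867 := rfl
theorem L41908 : sm gd N3364 = N4868 := rfl
theorem L41914 : sm gh N4868 = N3708 := ded_38_2 (flp_d L32125) (flp_h L22329) (flp_d L20280) L29105 L41908
theorem L41925 : sm gg N3365 = N4870 := rfl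
theorem L41927 : sm gb N4870 = N3370 := ded_23_1 (flp_g L29156) (flp_b L29114) L41925
theorem L41929 : sm ge N4870 = N3366 := ded_41_1 (flp_g L29119) L29112 L41925
theorem L41931 : sm gi N4870 = N3387 := ded_51_2 (flp_g L29300) (flp_i L29117) L41925
theorem L41933 : sm gh N3365 = N4871 := rfl
theorem L41935 : sm gb N4871 = N3371 := ded_25_1 (flp_h L29164) (flp_b L29114) L41933
theorem L41937 : sm ge N4871 = N3367 := ded_43_1 (flp_h L29128) L29112 L41933
theorem L41939 : sm gj N4871 = N4871 := ded_52_1 (flp_h L41933) L29116 L41933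
theorem L41940 : sm gj N3366 = N4872 := rfl
theorem L41942 : sm gb N4872 = N3372 := ded_24_1 (flp_j L29171) (flp_b L29121) L41940
theorem L41944 : sm gd N4872 = N3369 := ded_37_1 (flp_j L29145) (flp_d L29123) L41940
theorem L41946 : sm gf N4872 = N4872 := ded_46_1 (flp_j L41940) L29127 L41940
theorem L41947 : sm gi N4872 = N3389 := ded_53_2 (flp_j L29313) (flp_i L29125) L41940
theorem L41949 : sm gg N4872 = N4872 := ded_49_1 (flp_j L41940) (flp_g L29119) L20288 L29119 L41940
theorem L41950 : sm gh N3366 = N4873 := rfl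
theorem L41952 : sm gb N4873 = N3373 := ded_25_1 (flp_h L29181) (flp_b L29121) L41950
theorem L41954 : sm gf N4873 = N4873 := ded_47_1 (flp_h L41950) L29127 L41950
theorem L41955 : sm gg N4873 = N3367 := ded_50_1 (flp_h L29128) L29119 L41950
theorem L41957 : sm gd N4873 = N4873 := ded_38_1 (flp_h L41950) L29123 L20304 (flp_d L29123) L41950
theorem L41958 : sm gi N3367 = N4874 := rfl
theorem L41960 : sm gb N4874 = N3374 := ded_26_1 (flp_i L29189) (flp_b L29130) L41958
theorem L41966 : sm gh N4874 = N3391 := ded_54_1 (flp_i L29330) (flp_h L20414) (flp_i L20289) L29128 L41958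
theorem L41968 : sm gf N3370 = N4875 := rfl
theorem L41970 : sm ga N4875 = N4875 := ded_14_1 (flp_f L41968) L29158 L41968
theorem L41971 : sm gc N4875 = N4875 := ded_29_1 (flp_f L41968) L29159 L41968
theorem L41972 : sm gi N4875 = N3392 := ded_48_2 (flp_f L29339) (flp_i L29162) L41968
theorem L41974 : sm ge N4875 = N4875 := ded_40_1 (flp_f L41968) L29160 L20323 (flp_e L29160) L41968
theorem L41975 : sm gj N3370 = N4876 := rfl
theorem L41977 : sm ga N4876 = N4876 := ded_16_1 (flp_j L41975) L29158 L41975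
theorem L41978 : sm gc N4876 = N4876 := ded_31_1 (flp_j L41975) L29159 L41975
theorem L41979 : sm ge N4876 = N3372 := ded_42_1 (flp_j L29171) (flp_e L29160) L41975
theorem L41981 : sm gi N4876 = N3393 := ded_53_2 (flp_j L29344) (flp_i L29162) L41975
theorem L41983 : sm gg N4876 = N4876 := ded_49_1 (flp_j L41975) (flp_g L29156) L20312 L29156 L41975
theorem L41984 : sm gh N3370 = N4877 := rfl
theorem L41986 : sm ga N4877 = N4877 := ded_17_1 (flp_h L41984) L29158 L41984
theorem L41987 : sm gc N4877 = N4877 := ded_32_1 (flp_h L41984) L29159 L41984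
theorem L41988 : sm ge N4877 = N3373 := ded_43_1 (flp_h L29181) (flp_e L29160) L41984
theorem L41990 : sm gg N4877 = N3371 := ded_50_1 (flp_h L29164) L29156 L41984
theorem L41992 : sm gd N3371 = N4878 := rfl
theorem L41994 : sm ga N4878 = N4878 := ded_12_1 (flp_d L41992) L29166 L41992
theorem L41995 : sm gj N4878 = N4878 := ded_37_2 (flp_d L41992) L29170 L41992
theorem L41996 : sm ge N4878 = N4878 := ded_34_2 (flp_d L41992) L29168 L20331 (flp_e L29168) L41992
theorem L41997 : sm gi N3371 = N4879 := rfl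
theorem L41999 : sm ga N4879 = N4879 := ded_18_1 (flp_i L41997) L29166 L41997
theorem L42000 : sm gc N4879 = N4879 := ded_33_1 (flp_i L41997) L29167 L41997
theorem L42001 : sm ge N4879 = N3374 := ded_44_1 (flp_i L29189) (flp_e L29168) L41997
theorem L42003 : sm gj N4879 = N4879 := ded_53_1 (flp_i L41997) L29170 L41997
theorem L42004 : sm gh N4879 = N3396 := ded_54_1 (flp_i L29365) (flp_h L20447) (flp_i L20313) L29164 L41997

end Cfsg.Agent.Helper28.FicA
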