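import Cfsg.Agent.Helper28.FicB11

/-! # The Fi₂₃ presentation, cosets of the subgroup generated by a, …, i: the coset enumeration, part 12 (helper28; generated) -/

set_option autoImplicit false

noncomputable section

namespace Cfsg.Agent.Helper28.FicA

open Cfsg.Agent.Helper28.CosetTable

theorem L42006 : sm gh N3372 = N4880 := rfl
theorem L42008 : sm ga N4880 = N4880 := ded_17_1 (flp_h L42006) L29173 L42006
theorem L42009 : sm gc N4880 = N4880 := ded_32_1 (flp_h L42006) L29174 L42006
theorem L42010 : sm gf N4880 = N4880 := ded_47_1 (flp_h L42006) L29177 L42006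
theorem L42011 : sm gg N4880 = N4880 := ded_50_1 (flp_h L42006) L29180 L42006
theorem L42012 : sm gj N4880 = N3373 := ded_52_1 (flp_h L29181) L29171 L42006
theorem L42014 : sm gd N4880 = N4880 := ded_38_1 (flp_h L42006) L29175 L20347 (flp_d L29175) L42006
theorem L42015 : sm gi N3373 = N4881 := rfl
theorem L42017 : sm ga N4881 = N4881 := ded_18_1 (flp_i L42015) L29183 L42015
theorem L42018 : sm gc N4881 = N4881 := ded_33_1 (flp_i L42015) L29184 L42015
theorem L42019 : sm gd N4881 = N4881 := ded_39_1 (flp_i L42015) L29188 L42015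
theorem L42020 : sm gf N4881 = N4881 := ded_48_1 (flp_i L42015) L29185 L42015
theorem L42021 : sm gg N4881 = N3374 := ded_51_1 (flp_i L29189) (flp_g L29186) L42015
theorem L42023 : sm gh N4881 = N3398 := ded_54_1 (flp_i L29382) (flp_h L20462) (flp_i L20321) L29181 L42015
theorem L42025 : sm gf N3375 = N4882 := rfl
theorem L42028 : sm gb N4882 = N3376 := ded_22_1 (flp_f L29207) L29199 L42025
theorem L42031 : sm gd N4882 = N3718 := ded_35_1 (flp_f L32216) (flp_d L29201) L42025
theorem L42034 : sm gh N3375 = N4883 := rfl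
theorem L42037 : sm gb N4883 = N3377 := ded_25_1 (flp_h L29216) L29199 L42034
theorem L42043 : sm ge N3376 = N4884 := rfl
theorem L42045 : sm ga N4884 = N3383 := ded_13_1 (flp_e L29269) (flp_a L29209) L42043
theorem L42047 : sm gc N4884 = N3378 := ded_28_1 (flp_e L29225) (flp_c L29211) L42043
theorem L42049 : sm gj N4884 = N4884 := ded_42_2 (flp_e L42043) L29215 L42043
theorem L42050 : sm gg N3376 = N4885 := rfl
theorem L42052 : sm ga N4885 = N3384 := ded_15_1 (flp_g L29275) (flp_a L29209) L42050
theorem L42054 : sm gc N4885 = N3379 := ded_30_1 (flp_g L29231) (flp_c L29211) L42050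
theorem L42056 : sm gd N4885 = N3720 := ded_36_1 (flp_g L32234) (flp_d L29213) L42050
theorem L42058 : sm gf N4885 = N4885 := ded_45_1 (flp_g L42050) (flp_f L29207) L20355 L29207 L42050
theorem L42059 : sm gh N3376 = N4886 := rfl
theorem L42061 : sm ga N4886 = N3385 := ded_17_1 (flp_h L29283) (flp_a L29209) L42059
theorem L42078 : sm gg N3378 = N4888 := rfl
theorem L42080 : sm ga N4888 = N3387 := ded_15_1 (flp_g L29300) (flp_a L29227) L42078
theorem L42082 : sm gb N4888 = N4888 := ded_23_1 (flp_g L42078) L29229 L42078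
theorem L42083 : sm ge N4888 = N3379 := ded_41_1 (flp_g L29231) L29225 L42078
theorem L42085 : sm gh N3378 = N4889 := rfl
theorem L42087 : sm ga N4889 = N3388 := ded_17_1 (flp_h L29306) (flp_a L29227) L42085
theorem L42089 : sm gb N4889 = N4889 := ded_25_1 (flp_h L42085) L29229 L42085
theorem L42090 : sm ge N4889 = N3380 := ded_43_1 (flp_h L29239) L29225 L42085
theorem L42092 : sm gj N4889 = N4889 := ded_52_1 (flp_h L42085) L29230 L42085
theorem L42093 : sm gj N3379 = N4890 := rfl
theorem L42095 : sm ga N4890 = N3389 := ded_16_1 (flp_j L29313) (flp_a L29233) L42093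
theorem L42097 : sm gb N4890 = N4890 := ded_24_1 (flp_j L42093) L29235 L42093
theorem L42098 : sm gd N4890 = N3382 := ded_37_1 (flp_j L29258) (flp_d L29236) L42093
theorem L42100 : sm gf N4890 = N4890 := ded_46_1 (flp_j L42093) L29238 L42093
theorem L42101 : sm gg N4890 = N4890 := ded_49_1 (flp_j L42093) (flp_g L29231) L20366 L29231 L42093
theorem L42102 : sm gh N3379 = N4891 := rfl
theorem L42104 : sm ga N4891 = N3390 := ded_17_1 (flp_h L29321) (flp_a L29233) L42102
theorem L42106 : sm gb N4891 = N4891 := ded_25_1 (flp_h L42102) L29235 L42102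
theorem L42107 : sm gf N4891 = N4891 := ded_47_1 (flp_h L42102) L29238 L42102
theorem L42108 : sm gg N4891 = N3380 := ded_50_1 (flp_h L29239) L29231 L42102
theorem L42110 : sm gd N4891 = N3454 := ded_38_1 (flp_h L29860) L20781 (flp_h L20383) (flp_d L29236) L42102
theorem L42112 : sm gi N3380 = N4892 := rfl
theorem L42117 : sm gd N4892 = N3455 := ded_39_1 (flp_i L29869) (flp_d L29247) L42112
theorem L42122 : sm gd N3383 = N4893 := rfl
theorem L42124 : sm gb N4893 = N4893 := ded_20_1 (flp_d L42122) L29271 L42122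
theorem L42125 : sm gj N4893 = N4893 := ded_37_2 (flp_d L42122) L29274 L42122
theorem L42126 : sm ge N4893 = N3723 := ded_34_2 (flp_d L32262) (flp_e L22459) (flp_d L20391) L29269 L42122
theorem L42128 : sm gg N3383 = N4894 := rfl
theorem L42130 : sm gb N4894 = N4894 := ded_23_1 (flp_g L42128) L29271 L42128
theorem L42131 : sm gc N4894 = N3387 := ded_30_1 (flp_g L29300) (flp_c L29272) L42128
theorem L42133 : sm ge N4894 = N3384 := ded_41_1 (flp_g L29275) L29269 L42128
theorem L42135 : sm gh N3383 = N4895 := rfl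
theorem L42137 : sm gb N4895 = N4895 := ded_25_1 (flp_h L42135) L29271 L42135
theorem L42138 : sm gc N4895 = N3388 := ded_32_1 (flp_h L29306) (flp_c L29272) L42135
theorem L42140 : sm ge N4895 = N3385 := ded_43_1 (flp_h L29283) L29269 L42135
theorem L42142 : sm gj N4895 = N4895 := ded_52_1 (flp_h L42135) L29274 L42135
theorem L42143 : sm gj N3384 = N4896 := rfl
theorem L42145 : sm gb N4896 = N4896 := ded_24_1 (flp_j L42143) L29277 L42143
theorem L42146 : sm gc N4896 = N3389 := ded_31_1 (flp_j L29313) (flp_c L29278) L42143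
theorem L42148 : sm gd N4896 = N3725 := ded_37_1 (flp_j L32275) (flp_d L29280) L42143
theorem L42150 : sm gf N4896 = N4896 := ded_46_1 (flp_j L42143) L29282 L42143
theorem L42151 : sm gg N4896 = N4896 := ded_49_1 (flp_j L42143) (flp_g L29275) L20393 L29275 L42143
theorem L42152 : sm gh N3384 = N4897 := rfl
theorem L42154 : sm gb N4897 = N4897 := ded_25_1 (flp_h L42152) L29277 L42152
theorem L42155 : sm gc N4897 = N3390 := ded_32_1 (flp_h L29321) (flp_c L29278) L42152
theorem L42157 : sm gf N4897 = N4897 := ded_47_1 (flp_h L42152) L29282 L42152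
theorem L42158 : sm gg N4897 = N3385 := ded_50_1 (flp_h L29283) L29275 L42152
theorem L42160 : sm gd N4897 = N4897 := ded_38_1 (flp_h L42152) L29280 L22472 (flp_d L29280) L42152
theorem L42161 : sm gi N3385 = N4898 := rfl
theorem L42167 : sm gf N4898 = N3386 := ded_48_1 (flp_i L29292) (flp_f L29288) L42161
theorem L42170 : sm gf N3387 = N4899 := rfl
theorem L42172 : sm gb N4899 = N3392 := ded_22_1 (flp_f L29339) (flp_b L29302) L42170
theorem L42174 : sm ge N4899 = N4899 := ded_40_1 (flp_f L42170) L29304 L20413 (flp_e L29304) L42170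
theorem L42175 : sm gj N3387 = N4900 := rfl
theorem L42177 : sm gb N4900 = N3393 := ded_24_1 (flp_j L29344) (flp_b L29302) L42175
theorem L42179 : sm ge N4900 = N3389 := ded_42_1 (flp_j L29313) (flp_e L29304) L42175
theorem L42181 : sm gg N4900 = N4900 := ded_49_1 (flp_j L42175) (flp_g L29300) L20406 L29300 L42175
theorem L42182 : sm gh N3387 = N4901 := rfl
theorem L42184 : sm gb N4901 = N3394 := ded_25_1 (flp_h L29351) (flp_b L29302) L42182
theorem L42186 : sm ge N4901 = N3390 := ded_43_1 (flp_h L29321) (flp_e L29304) L42182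
theorem L42188 : sm gg N4901 = N3388 := ded_50_1 (flp_h L29306) L29300 L42182
theorem L42190 : sm gd N3388 = N4902 := rfl
theorem L42192 : sm gb N4902 = N3395 := ded_20_1 (flp_d L29359) (flp_b L29308) L42190
theorem L42194 : sm gj N4902 = N4902 := ded_37_2 (flp_d L42190) L29312 L42190
theorem L42195 : sm ge N4902 = N3459 := ded_34_2 (flp_d L29905) L20827 (flp_d L20421) (flp_e L29310) L42190
theorem L42197 : sm gi N3388 = N4903 := rfl
theorem L42199 : sm gb N4903 = N3396 := ded_26_1 (flp_i L29365) (flp_b L29308) L42197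
theorem L42201 : sm ge N4903 = N3391 := ded_44_1 (flp_i L29330) (flp_e L29310) L42197
theorem L42203 : sm gj N4903 = N4903 := ded_53_1 (flp_i L42197) L29312 L42197
theorem L42204 : sm gh N3389 = N4904 := rfl
theorem L42206 : sm gb N4904 = N3397 := ded_25_1 (flp_h L29372) (flp_b L29315) L42204
theorem L42208 : sm gf N4904 = N4904 := ded_47_1 (flp_h L42204) L29319 L42204
theorem L42209 : sm gg N4904 = N4904 := ded_50_1 (flp_h L42204) L29320 L42204
theorem L42210 : sm gj N4904 = N3390 := ded_52_1 (flp_h L29321) L29313 L42204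
theorem L42212 : sm gd N4904 = N3461 := ded_38_1 (flp_h L29921) L20836 (flp_h L20438) (flp_d L29317) L42204
theorem L42214 : sm gi N3390 = N4905 := rfl
theorem L42216 : sm gb N4905 = N3398 := ded_26_1 (flp_i L29382) (flp_b L29323) L42214
theorem L42218 : sm gd N4905 = N3462 := ded_39_1 (flp_i L29930) (flp_d L29328) L42214
theorem L42220 : sm gf N4905 = N4905 := ded_48_1 (flp_i L42214) L29325 L42214
theorem L42221 : sm gg N4905 = N3391 := ded_51_1 (flp_i L29330) (flp_g L29326) L42214
theorem L42223 : sm gj N3392 = N4906 := rfl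
theorem L42225 : sm ga N4906 = N4906 := ded_16_1 (flp_j L42223) L29341 L42223
theorem L42226 : sm gc N4906 = N4906 := ded_31_1 (flp_j L42223) L29342 L42223
theorem L42227 : sm ge N4906 = N4906 := ded_42_1 (flp_j L42223) L29343 L42223
theorem L42228 : sm gf N4906 = N3393 := ded_46_1 (flp_j L29344) L29339 L42223
theorem L42230 : sm gh N3392 = N4907 := rfl
theorem L42232 : sm ga N4907 = N4907 := ded_17_1 (flp_h L42230) L29341 L42230
theorem L42233 : sm gc N4907 = N4907 := ded_32_1 (flp_h L42230) L29342 L42230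
theorem L42234 : sm ge N4907 = N4907 := ded_43_1 (flp_h L42230) L29343 L42230
theorem L42235 : sm gf N4907 = N3394 := ded_47_1 (flp_h L29351) L29339 L42230
theorem L42237 : sm gh N3393 = N4908 := rfl
theorem L42239 : sm ga N4908 = N4908 := ded_17_1 (flp_h L42237) L29346 L42237
theorem L42240 : sm gc N4908 = N4908 := ded_32_1 (flp_h L42237) L29347 L42237
theorem L42241 : sm ge N4908 = N3397 := ded_43_1 (flp_h L29372) (flp_e L29348) L42237
theorem L42243 : sm gg N4908 = N4908 := ded_50_1 (flp_h L42237) L29350 L42237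
theorem L42244 : sm gj N4908 = N3394 := ded_52_1 (flp_h L29351) L29344 L42237
theorem L42246 : sm gd N3394 = N4909 := rfl
theorem L42248 : sm ga N4909 = N4909 := ded_12_1 (flp_d L42246) L29353 L42246
theorem L42249 : sm gg N4909 = N3395 := ded_36_2 (flp_d L29359) (flp_g L29357) L42246
theorem L42251 : sm ge N4909 = N3466 := ded_34_2 (flp_d L29967) L20880 (flp_d L20469) (flp_e L29355) L42246
theorem L42253 : sm gi N3394 = N4910 := rfl
theorem L42255 : sm ga N4910 = N4910 := ded_18_1 (flp_i L42253) L29353 L42253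
theorem L42256 : sm gc N4910 = N4910 := ded_33_1 (flp_i L42253) L29354 L42253
theorem L42257 : sm ge N4910 = N3398 := ded_44_1 (flp_i L29382) (flp_e L29355) L42253
theorem L42259 : sm gg N4910 = N3396 := ded_51_1 (flp_i L29365) (flp_g L29357) L42253
theorem L42261 : sm gc N3395 = N4911 := rfl
theorem L42263 : sm ga N4911 = N4911 := ded_11_1 (flp_c L42261) L29361 L42261
theorem L42264 : sm ge N4911 = N3468 := ded_28_2 (flp_c L29982) (flp_e L29363) L42261
theorem L42266 : sm gj N4911 = N4911 := ded_31_2 (flp_c L42261) L29362 L42261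
theorem L42267 : sm gd N4911 = N4911 := ded_27_2 (flp_c L42261) (flp_d L29359) L20450 L29359 L42261
theorem L42268 : sm gi N3395 = N4912 := rfl
theorem L42270 : sm ga N4912 = N4912 := ded_18_1 (flp_i L42268) L29361 L42268
theorem L42271 : sm gd N4912 = N3396 := ded_39_1 (flp_i L29365) L29359 L42268
theorem L42273 : sm ge N4912 = N3469 := ded_44_1 (flp_i L29989) (flp_e L29363) L42268
theorem L42275 : sm gj N4912 = N4912 := ded_53_1 (flp_i L42268) L29362 L42268
theorem L42276 : sm gi N3397 = N4913 := rfl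
theorem L42278 : sm ga N4913 = N4913 := ded_18_1 (flp_i L42276) L29374 L42276
theorem L42279 : sm gc N4913 = N4913 := ded_33_1 (flp_i L42276) L29375 L42276
theorem L42280 : sm gd N4913 = N3470 := ded_39_1 (flp_i L29996) (flp_d L29380) L42276
theorem L42282 : sm gf N4913 = N4913 := ded_48_1 (flp_i L42276) L29376 L42276
theorem L42283 : sm gg N4913 = N4913 := ded_51_1 (flp_i L42276) L29377 L42276
theorem L42284 : sm gj N4913 = N3398 := ded_53_1 (flp_i L29382) (flp_j L29378) L42276
theorem L42286 : sm gc N3399 = N4914 := rfl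
theorem L42288 : sm ga N4914 = N3401 := ded_11_1 (flp_c L29412) (flp_a L29393) L42286
theorem L42290 : sm ge N4914 = N4914 := ded_28_2 (flp_c L42286) L29400 L42286
theorem L42291 : sm gg N4914 = N4914 := ded_30_2 (flp_c L42286) L29396 L42286
theorem L42292 : sm gj N4914 = N3410 := ded_31_2 (flp_c L29492) (flp_j L29397) L42286
theorem L42294 : sm gi N4914 = N4914 := ded_33_2 (flp_c L42286) L29399 L42286
theorem L42295 : sm gd N4914 = N3729 := ded_27_2 (flp_c L32307) (flp_d L22507) (flp_c L20485) L29391 L42286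
theorem L42297 : sm gf N3399 = N4915 := rfl
theorem L42299 : sm ga N4915 = N3402 := ded_14_1 (flp_f L29422) (flp_a L29393) L42297
theorem L42301 : sm gb N4915 = N4915 := ded_22_1 (flp_f L42297) L29395 L42297
theorem L42302 : sm gd N4915 = N3400 := ded_35_1 (flp_f L29401) L29391 L42297
theorem L42304 : sm gj N4915 = N3411 := ded_46_2 (flp_f L29502) (flp_j L29397) L42297
theorem L42306 : sm gi N4915 = N4915 := ded_48_2 (flp_f L42297) L29399 L42297
theorem L42307 : sm gh N3399 = N4916 := rfl
theorem L42309 : sm ga N4916 = N3403 := ded_17_1 (flp_h L29431) (flp_a L29393) L42307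
theorem L42311 : sm gb N4916 = N4916 := ded_25_1 (flp_h L42307) L29395 L42307
theorem L42312 : sm ge N4916 = N4916 := ded_43_1 (flp_h L42307) L29400 L42307
theorem L42313 : sm gg N4916 = N4916 := ded_50_1 (flp_h L42307) L29396 L42307
theorem L42314 : sm gj N4916 = N3412 := ded_52_1 (flp_h L29510) (flp_j L29397) L42307
theorem L42316 : sm gg N3400 = N4917 := rfl
theorem L42318 : sm ga N4917 = N3404 := ded_15_1 (flp_g L29439) (flp_a L29403) L42316
theorem L42320 : sm gb N4917 = N4917 := ded_23_1 (flp_g L42316) L29405 L42316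
theorem L42321 : sm gc N4917 = N3732 := ded_30_1 (flp_g L32339) (flp_c L29406) L42316
theorem L42323 : sm ge N4917 = N4917 := ded_41_1 (flp_g L42316) L29411 L42316
theorem L42324 : sm gi N4917 = N4917 := ded_51_2 (flp_g L42316) L29410 L42316
theorem L42325 : sm gf N4917 = N4917 := ded_45_1 (flp_g L42316) (flp_f L29401) L20487 L29401 L42316
theorem L42326 : sm gf N3401 = N4918 := rfl
theorem L42328 : sm gb N4918 = N4918 := ded_22_1 (flp_f L42326) L29419 L42326
theorem L42329 : sm gc N4918 = N3402 := ded_29_1 (flp_f L29422) L29412 L42326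
theorem L42331 : sm gd N4918 = N3733 := ded_35_1 (flp_f L32348) (flp_d L29420) L42326
theorem L42333 : sm gj N4918 = N3414 := ded_46_2 (flp_f L29529) (flp_j L29416) L42326
theorem L42335 : sm gi N4918 = N4918 := ded_48_2 (flp_f L42326) L29418 L42326
theorem L42336 : sm gh N3401 = N4919 := rfl
theorem L42338 : sm gb N4919 = N4919 := ded_25_1 (flp_h L42336) L29419 L42336
theorem L42339 : sm gc N4919 = N3403 := ded_32_1 (flp_h L29431) L29412 L42336
theorem L42341 : sm ge N4919 = N4919 := ded_43_1 (flp_h L42336) L29414 L42336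
theorem L42342 : sm gg N4919 = N4919 := ded_50_1 (flp_h L42336) L29415 L42336
theorem L42343 : sm gj N4919 = N3415 := ded_52_1 (flp_h L29537) (flp_j L29416) L42336
theorem L42345 : sm ge N3402 = N4920 := rfl
theorem L42347 : sm gb N4920 = N3405 := ded_21_1 (flp_e L29448) (flp_b L29424) L42345
theorem L42349 : sm gj N4920 = N3416 := ded_42_2 (flp_e L29545) (flp_j L29428) L42345
theorem L42351 : sm gi N4920 = N4920 := ded_44_2 (flp_e L42345) L29430 L42345
theorem L42352 : sm gd N4920 = N4920 := ded_34_1 (flp_e L42345) L29426 L20509 (flp_d L29426) L42345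
theorem L42353 : sm gf N4920 = N4920 := ded_40_2 (flp_e L42345) (flp_f L29422) L20499 L29422 L42345
theorem L42354 : sm gg N3402 = N4921 := rfl
theorem L42356 : sm gb N4921 = N3406 := ded_23_1 (flp_g L29457) (flp_b L29424) L42354
theorem L42358 : sm gd N4921 = N3404 := ded_36_1 (flp_g L29439) (flp_d L29426) L42354
theorem L42360 : sm gi N4921 = N4921 := ded_51_2 (flp_g L42354) L29430 L42354
theorem L42361 : sm gf N4921 = N4921 := ded_45_1 (flp_g L42354) (flp_f L29422) L20495 L29422 L42354
theorem L42362 : sm gh N3402 = N4922 := rfl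
theorem L42364 : sm gb N4922 = N3407 := ded_25_1 (flp_h L29465) (flp_b L29424) L42362
theorem L42366 : sm gf N4922 = N3403 := ded_47_1 (flp_h L29431) L29422 L42362
theorem L42368 : sm gj N4922 = N3418 := ded_52_1 (flp_h L29561) (flp_j L29428) L42362
theorem L42370 : sm gi N3403 = N4923 := rfl
theorem L42372 : sm gb N4923 = N3408 := ded_26_1 (flp_i L29473) (flp_b L29433) L42370
theorem L42374 : sm ge N4923 = N4923 := ded_44_1 (flp_i L42370) L29435 L42370
theorem L42375 : sm gg N4923 = N4923 := ded_51_1 (flp_i L42370) L29436 L42370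
theorem L42376 : sm gj N4923 = N3419 := ded_53_1 (flp_i L29567) (flp_j L29437) L42370
theorem L42378 : sm gh N4923 = N4923 := ded_54_1 (flp_i L42370) (flp_h L29431) L20498 L29431 L42370
theorem L42379 : sm gj N3404 = N4924 := rfl
theorem L42381 : sm gb N4924 = N3409 := ded_24_1 (flp_j L29482) (flp_b L29441) L42379
theorem L42383 : sm gc N4924 = N3739 := ded_31_1 (flp_j L32402) (flp_c L29443) L42379
theorem L42385 : sm ge N4924 = N4924 := ded_42_1 (flp_j L42379) L29445 L42379
theorem L42386 : sm gf N4924 = N4924 := ded_46_1 (flp_j L42379) L29447 L42379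
theorem L42387 : sm gi N4924 = N4924 := ded_53_2 (flp_j L42379) L29446 L42379
theorem L42388 : sm gg N4924 = N3420 := ded_49_1 (flp_j L29575) (flp_g L20587) (flp_j L20506) L29439 L42379
theorem L42390 : sm gg N3405 = N4925 := rfl
theorem L42392 : sm ga N4925 = N4925 := ded_15_1 (flp_g L42390) L29450 L42390
theorem L42393 : sm gc N4925 = N4925 := ded_30_1 (flp_g L42390) L29451 L42390
theorem L42394 : sm gd N4925 = N4925 := ded_36_1 (flp_g L42390) L29455 L42390
theorem L42395 : sm ge N4925 = N3406 := ded_41_1 (flp_g L29457) L29448 L42390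
theorem L42397 : sm gi N4925 = N4925 := ded_51_2 (flp_g L42390) L29454 L42390
theorem L42398 : sm gh N3405 = N4926 := rfl
theorem L42400 : sm ga N4926 = N4926 := ded_17_1 (flp_h L42398) L29450 L42398
theorem L42401 : sm gc N4926 = N4926 := ded_32_1 (flp_h L42398) L29451 L42398
theorem L42402 : sm ge N4926 = N3407 := ded_43_1 (flp_h L29465) L29448 L42398
theorem L42404 : sm gf N4926 = N4926 := ded_47_1 (flp_h L42398) L29456 L42398
theorem L42405 : sm gj N4926 = N3422 := ded_52_1 (flp_h L29593) (flp_j L29452) L42398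
theorem L42407 : sm gj N3406 = N4927 := rfl
theorem L42409 : sm ga N4927 = N4927 := ded_16_1 (flp_j L42407) L29459 L42407
theorem L42410 : sm gc N4927 = N4927 := ded_31_1 (flp_j L42407) L29460 L42407
theorem L42411 : sm gd N4927 = N3409 := ded_37_1 (flp_j L29482) (flp_d L29461) L42407
theorem L42413 : sm gf N4927 = N4927 := ded_46_1 (flp_j L42407) L29464 L42407
theorem L42414 : sm gi N4927 = N4927 := ded_53_2 (flp_j L42407) L29463 L42407
theorem L42415 : sm gg N4927 = N3423 := ded_49_1 (flp_j L29600) (flp_g L20604) (flp_j L20516) L29457 L42407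
theorem L42417 : sm gh N3406 = N4928 := rfl
theorem L42419 : sm ga N4928 = N4928 := ded_17_1 (flp_h L42417) L29459 L42417
theorem L42420 : sm gc N4928 = N4928 := ded_32_1 (flp_h L42417) L29460 L42417
theorem L42421 : sm gf N4928 = N4928 := ded_47_1 (flp_h L42417) L29464 L42417
theorem L42422 : sm gg N4928 = N3407 := ded_50_1 (flp_h L29465) L29457 L42417
theorem L42424 : sm gi N3407 = N4929 := rfl
theorem L42426 : sm ga N4929 = N4929 := ded_18_1 (flp_i L42424) L29467 L42424
theorem L42427 : sm gc N4929 = N4929 := ded_33_1 (flp_i L42424) L29468 L42424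
theorem L42428 : sm gf N4929 = N3408 := ded_48_1 (flp_i L29473) (flp_f L29469) L42424
theorem L42430 : sm gj N4929 = N3425 := ded_53_1 (flp_i L29617) (flp_j L29471) L42424
theorem L42432 : sm gh N4929 = N4929 := ded_54_1 (flp_i L42424) (flp_h L29465) L20518 L29465 L42424
theorem L42433 : sm gb N3410 = N4930 := rfl
theorem L42435 : sm gd N4930 = N3745 := ded_20_2 (flp_b L32460) (flp_d L29500) L42433
theorem L42438 : sm gg N4930 = N3426 := ded_23_2 (flp_b L29624) (flp_g L29497) L42433
theorem L42443 : sm gf N3410 = N4931 := rfl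
theorem L42445 : sm ga N4931 = N3414 := ded_14_1 (flp_f L29529) (flp_a L29494) L42443
theorem L42447 : sm gc N4931 = N3411 := ded_29_1 (flp_f L29502) L29492 L42443
theorem L42449 : sm gd N4931 = N3746 := ded_35_1 (flp_f L32470) (flp_d L29500) L42443
theorem L42451 : sm gi N4931 = N4931 := ded_48_2 (flp_f L42443) L29499 L42443
theorem L42452 : sm gh N3410 = N4932 := rfl
theorem L42454 : sm ga N4932 = N3415 := ded_17_1 (flp_h L29537) (flp_a L29494) L42452
theorem L42456 : sm gc N4932 = N3412 := ded_32_1 (flp_h L29510) L29492 L42452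
theorem L42458 : sm ge N4932 = N4932 := ded_43_1 (flp_h L42452) L29496 L42452
theorem L42459 : sm gg N4932 = N3428 := ded_50_1 (flp_h L29643) (flp_g L29497) L42452
theorem L42461 : sm ge N3411 = N4933 := rfl
theorem L42463 : sm ga N4933 = N3416 := ded_13_1 (flp_e L29545) (flp_a L29504) L42461
theorem L42465 : sm gb N4933 = N4933 := ded_21_1 (flp_e L42461) L29506 L42461
theorem L42466 : sm gi N4933 = N4933 := ded_44_2 (flp_e L42461) L29509 L42461
theorem L42467 : sm gd N4933 = N4933 := ded_34_1 (flp_e L42461) L29507 L20563 (flp_d L29507) L42461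
theorem L42468 : sm gf N4933 = N4933 := ded_40_2 (flp_e L42461) (flp_f L29502) L20554 L29502 L42461
theorem L42469 : sm gg N3411 = N4934 := rfl
theorem L42471 : sm ga N4934 = N3417 := ded_15_1 (flp_g L29552) (flp_a L29504) L42469
theorem L42473 : sm gb N4934 = N4934 := ded_23_1 (flp_g L42469) L29506 L42469
theorem L42474 : sm gd N4934 = N3413 := ded_36_1 (flp_g L29518) (flp_d L29507) L42469
theorem L42476 : sm gi N4934 = N4934 := ded_51_2 (flp_g L42469) L29509 L42469
theorem L42477 : sm gf N4934 = N3430 := ded_45_1 (flp_g L29661) (flp_f L20645) (flp_g L20551) L29502 L42469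
theorem L42479 : sm gh N3411 = N4935 := rfl
theorem L42481 : sm ga N4935 = N3418 := ded_17_1 (flp_h L29561) (flp_a L29504) L42479
theorem L42483 : sm gb N4935 = N4935 := ded_25_1 (flp_h L42479) L29506 L42479
theorem L42484 : sm gf N4935 = N3412 := ded_47_1 (flp_h L29510) L29502 L42479
theorem L42486 : sm gi N3412 = N4936 := rfl
theorem L42488 : sm ga N4936 = N3419 := ded_18_1 (flp_i L29567) (flp_a L29512) L42486
theorem L42490 : sm gb N4936 = N4936 := ded_26_1 (flp_i L42486) L29514 L42486
theorem L42491 : sm ge N4936 = N4936 := ded_44_1 (flp_i L42486) L29515 L42486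
theorem L42492 : sm gg N4936 = N3432 := ded_51_1 (flp_i L29677) (flp_g L29516) L42486
theorem L42494 : sm gh N4936 = N4936 := ded_54_1 (flp_i L42486) (flp_h L29510) L20553 L29510 L42486
theorem L42495 : sm gj N3413 = N4937 := rfl
theorem L42497 : sm ga N4937 = N3420 := ded_16_1 (flp_j L29575) (flp_a L29520) L42495
theorem L42499 : sm gb N4937 = N4937 := ded_24_1 (flp_j L42495) L29522 L42495
theorem L42500 : sm gc N4937 = N3752 := ded_31_1 (flp_j L32527) (flp_c L29523) L42495
theorem L42502 : sm ge N4937 = N4937 := ded_42_1 (flp_j L42495) L29525 L42495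
theorem L42503 : sm gf N4937 = N3433 := ded_46_1 (flp_j L29685) (flp_f L29527) L42495
theorem L42505 : sm gi N4937 = N4937 := ded_53_2 (flp_j L42495) L29526 L42495
theorem L42506 : sm ge N3414 = N4938 := rfl
theorem L42508 : sm gb N4938 = N4938 := ded_21_1 (flp_e L42506) L29531 L42506
theorem L42509 : sm gc N4938 = N3416 := ded_28_1 (flp_e L29545) (flp_c L29532) L42506
theorem L42511 : sm gi N4938 = N4938 := ded_44_2 (flp_e L42506) L29536 L42506
theorem L42512 : sm gf N4938 = N4938 := ded_40_2 (flp_e L42506) (flp_f L29529) L20566 L29529 L42506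
theorem L42513 : sm gg N3414 = N4939 := rfl
theorem L42515 : sm gb N4939 = N4939 := ded_23_1 (flp_g L42513) L29531 L42513
theorem L42516 : sm gc N4939 = N3417 := ded_30_1 (flp_g L29552) (flp_c L29532) L42513
theorem L42518 : sm gd N4939 = N3754 := ded_36_1 (flp_g L32545) (flp_d L29534) L42513
theorem L42520 : sm gi N4939 = N4939 := ded_51_2 (flp_g L42513) L29536 L42513
theorem L42521 : sm gf N4939 = N3435 := ded_45_1 (flp_g L29705) (flp_f L20671) (flp_g L20567) L29529 L42513
theorem L42523 : sm gh N3414 = N4940 := rfl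
theorem L42525 : sm gb N4940 = N4940 := ded_25_1 (flp_h L42523) L29531 L42523
theorem L42526 : sm gc N4940 = N3418 := ded_32_1 (flp_h L29561) (flp_c L29532) L42523
theorem L42528 : sm gf N4940 = N3415 := ded_47_1 (flp_h L29537) L29529 L42523
theorem L42530 : sm gd N3415 = N4941 := rfl
theorem L42532 : sm gb N4941 = N4941 := ded_20_1 (flp_d L42530) L29539 L42530
theorem L42533 : sm gg N4941 = N3437 := ded_36_2 (flp_d L29721) (flp_g L29543) L42530
theorem L42535 : sm gh N4941 = N3756 := ded_38_2 (flp_d L32560) (flp_h L22658) (flp_d L20571) L29537 L42530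
theorem L42537 : sm gi N3415 = N4942 := rfl
theorem L42539 : sm gb N4942 = N4942 := ded_26_1 (flp_i L42537) L29539 L42537
theorem L42540 : sm gc N4942 = N3419 := ded_33_1 (flp_i L29567) (flp_c L29540) L42537
theorem L42542 : sm ge N4942 = N4942 := ded_44_1 (flp_i L42537) L29542 L42537
theorem L42543 : sm gg N4942 = N3438 := ded_51_1 (flp_i L29727) (flp_g L29543) L42537
theorem L42545 : sm gh N4942 = N4942 := ded_54_1 (flp_i L42537) (flp_h L29537) L20569 L29537 L42537
theorem L42546 : sm gg N3416 = N4943 := rfl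
theorem L42548 : sm gb N4943 = N3421 := ded_23_1 (flp_g L29585) (flp_b L29547) L42546
theorem L42550 : sm gd N4943 = N4943 := ded_36_1 (flp_g L42546) L29550 L42546
theorem L42551 : sm ge N4943 = N3417 := ded_41_1 (flp_g L29552) L29545 L42546
theorem L42553 : sm gi N4943 = N4943 := ded_51_2 (flp_g L42546) L29549 L42546
theorem L42554 : sm gh N3416 = N4944 := rfl
theorem L42556 : sm gb N4944 = N3422 := ded_25_1 (flp_h L29593) (flp_b L29547) L42554
theorem L42558 : sm ge N4944 = N3418 := ded_43_1 (flp_h L29561) L29545 L42554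
theorem L42560 : sm gf N4944 = N4944 := ded_47_1 (flp_h L42554) L29551 L42554
theorem L42561 : sm gj N3417 = N4945 := rfl
theorem L42563 : sm gb N4945 = N3423 := ded_24_1 (flp_j L29600) (flp_b L29554) L42561
theorem L42565 : sm gd N4945 = N3420 := ded_37_1 (flp_j L29575) (flp_d L29556) L42561
theorem L42567 : sm gf N4945 = N3441 := ded_46_1 (flp_j L29752) (flp_f L29559) L42561
theorem L42569 : sm gi N4945 = N4945 := ded_53_2 (flp_j L42561) L29558 L42561
theorem L42570 : sm gh N3417 = N4946 := rfl
theorem L42572 : sm gb N4946 = N3424 := ded_25_1 (flp_h L29609) (flp_b L29554) L42570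
theorem L42574 : sm gf N4946 = N3442 := ded_47_1 (flp_h L29760) (flp_f L29559) L42570
theorem L42576 : sm gg N4946 = N3418 := ded_50_1 (flp_h L29561) L29552 L42570
theorem L42578 : sm gi N3418 = N4947 := rfl
theorem L42580 : sm gb N4947 = N3425 := ded_26_1 (flp_i L29617) (flp_b L29563) L42578
theorem L42582 : sm gf N4947 = N3419 := ded_48_1 (flp_i L29567) (flp_f L29565) L42578
theorem L42584 : sm gh N4947 = N4947 := ded_54_1 (flp_i L42578) (flp_h L29561) L20579 L29561 L42578
theorem L42585 : sm gf N3421 = N4948 := rfl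
theorem L42587 : sm ga N4948 = N4948 := ded_14_1 (flp_f L42585) L29587 L42585
theorem L42588 : sm gc N4948 = N4948 := ded_29_1 (flp_f L42585) L29588 L42585
theorem L42589 : sm gd N4948 = N4948 := ded_35_1 (flp_f L42585) L29589 L42585
theorem L42590 : sm gi N4948 = N4948 := ded_48_2 (flp_f L42585) L29592 L42585
theorem L42591 : sm ge N4948 = N3444 := ded_40_1 (flp_f L29774) L20733 (flp_f L20611) (flp_e L29590) L42585
theorem L42593 : sm gg N4948 = N4948 := ded_45_2 (flp_f L42585) (flp_g L29585) L20603 L29585 L42585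
theorem L42594 : sm gj N3421 = N4949 := rfl
theorem L42596 : sm ga N4949 = N4949 := ded_16_1 (flp_j L42594) L29587 L42594
theorem L42597 : sm gc N4949 = N4949 := ded_31_1 (flp_j L42594) L29588 L42594
theorem L42598 : sm gd N4949 = N4949 := ded_37_1 (flp_j L42594) L29589 L42594
theorem L42599 : sm ge N4949 = N3423 := ded_42_1 (flp_j L29600) (flp_e L29590) L42594
theorem L42601 : sm gi N4949 = N4949 := ded_53_2 (flp_j L42594) L29592 L42594
theorem L42602 : sm gh N3421 = N4950 := rfl
theorem L42604 : sm ga N4950 = N4950 := ded_17_1 (flp_h L42602) L29587 L42602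
theorem L42605 : sm gc N4950 = N4950 := ded_32_1 (flp_h L42602) L29588 L42602
theorem L42606 : sm ge N4950 = N3424 := ded_43_1 (flp_h L29609) (flp_e L29590) L42602
theorem L42608 : sm gg N4950 = N3422 := ded_50_1 (flp_h L29593) L29585 L42602
theorem L42610 : sm gd N3422 = N4951 := rfl
theorem L42612 : sm ga N4951 = N4951 := ded_12_1 (flp_d L42610) L29595 L42610
theorem L42613 : sm gf N4951 = N4951 := ded_35_2 (flp_d L42610) L29599 L42610
theorem L42614 : sm gh N4951 = N4951 := ded_38_2 (flp_d L42610) (flp_h L29593) L20602 L29593 L42610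
theorem L42615 : sm gi N3422 = N4952 := rfl
theorem L42617 : sm ga N4952 = N4952 := ded_18_1 (flp_i L42615) L29595 L42615
theorem L42618 : sm gc N4952 = N4952 := ded_33_1 (flp_i L42615) L29596 L42615
theorem L42619 : sm ge N4952 = N3425 := ded_44_1 (flp_i L29617) (flp_e L29597) L42615
theorem L42621 : sm gf N4952 = N4952 := ded_48_1 (flp_i L42615) L29599 L42615
theorem L42622 : sm gh N4952 = N4952 := ded_54_1 (flp_i L42615) (flp_h L29593) L20601 L29593 L42615
theorem L42623 : sm gh N3423 = N4953 := rfl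
theorem L42625 : sm ga N4953 = N4953 := ded_17_1 (flp_h L42623) L29602 L42623
theorem L42626 : sm gc N4953 = N4953 := ded_32_1 (flp_h L42623) L29603 L42623
theorem L42627 : sm gf N4953 = N3449 := ded_47_1 (flp_h L29816) (flp_f L29606) L42623
theorem L42629 : sm gj N4953 = N3424 := ded_52_1 (flp_h L29609) L29600 L42623
theorem L42631 : sm gi N3424 = N4954 := rfl
theorem L42633 : sm ga N4954 = N4954 := ded_18_1 (flp_i L42631) L29611 L42631
theorem L42634 : sm gc N4954 = N4954 := ded_33_1 (flp_i L42631) L29612 L42631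
theorem L42635 : sm gf N4954 = N3450 := ded_48_1 (flp_i L29823) (flp_f L29613) L42631
theorem L42637 : sm gg N4954 = N3425 := ded_51_1 (flp_i L29617) (flp_g L29615) L42631
theorem L42639 : sm gh N4954 = N4954 := ded_54_1 (flp_i L42631) (flp_h L29609) L20610 L29609 L42631
theorem L42640 : sm gf N3426 = N4955 := rfl
theorem L42643 : sm gb N4955 = N3427 := ded_22_1 (flp_f L29633) L29624 L42640
theorem L42646 : sm gd N4955 = N3769 := ded_35_1 (flp_f L32672) (flp_d L29626) L42640
theorem L42650 : sm gh N3426 = N4956 := rfl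
theorem L42653 : sm gb N4956 = N3428 := ded_25_1 (flp_h L29643) L29624 L42650
theorem L42658 : sm ge N3427 = N4957 := rfl
theorem L42660 : sm ga N4957 = N3434 := ded_13_1 (flp_e L29696) (flp_a L29635) L42658
theorem L42662 : sm gc N4957 = N3429 := ded_28_1 (flp_e L29651) (flp_c L29637) L42658
theorem L42664 : sm gj N4957 = N4957 := ded_42_2 (flp_e L42658) L29641 L42658
theorem L42665 : sm gi N4957 = N4957 := ded_44_2 (flp_e L42658) L29642 L42658
theorem L42666 : sm gd N4957 = N4957 := ded_34_1 (flp_e L42658) L29639 L22770 (flp_d L29639) L42658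
theorem L42667 : sm gf N4957 = N4957 := ded_40_2 (flp_e L42658) (flp_f L29633) L20640 L29633 L42658
theorem L42668 : sm gg N3427 = N4958 := rfl
theorem L42670 : sm ga N4958 = N3435 := ded_15_1 (flp_g L29705) (flp_a L29635) L42668
theorem L42672 : sm gc N4958 = N3430 := ded_30_1 (flp_g L29661) (flp_c L29637) L42668
theorem L42674 : sm gd N4958 = N3771 := ded_36_1 (flp_g L32692) (flp_d L29639) L42668
theorem L42676 : sm gi N4958 = N4958 := ded_51_2 (flp_g L42668) L29642 L42668
theorem L42677 : sm gh N3427 = N4959 := rfl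
theorem L42679 : sm ga N4959 = N3436 := ded_17_1 (flp_h L29713) (flp_a L29635) L42677
theorem L42681 : sm gc N4959 = N3431 := ded_32_1 (flp_h L29669) (flp_c L29637) L42677
theorem L42683 : sm gf N4959 = N3428 := ded_47_1 (flp_h L29643) L29633 L42677
theorem L42685 : sm gj N4959 = N4959 := ded_52_1 (flp_h L42677) L29641 L42677
theorem L42686 : sm gd N3428 = N4960 := rfl
theorem L42688 : sm ga N4960 = N3437 := ded_12_1 (flp_d L29721) (flp_a L29645) L42686
theorem L42691 : sm gh N4960 = N3773 := ded_38_2 (flp_d L32710) (flp_h L22771) (flp_d L20643) L29643 L42686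
theorem L42693 : sm gi N3428 = N4961 := rfl
theorem L42695 : sm ga N4961 = N3438 := ded_18_1 (flp_i L29727) (flp_a L29645) L42693
theorem L42697 : sm gc N4961 = N3432 := ded_33_1 (flp_i L29677) (flp_c L29647) L42693
theorem L42699 : sm ge N4961 = N4961 := ded_44_1 (flp_i L42693) L29649 L42693
theorem L42700 : sm gj N4961 = N4961 := ded_53_1 (flp_i L42693) L29650 L42693
theorem L42701 : sm gh N4961 = N4961 := ded_54_1 (flp_i L42693) (flp_h L29643) L20642 L29643 L42693
theorem L42702 : sm gg N3429 = N4962 := rfl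
theorem L42704 : sm ga N4962 = N3439 := ded_15_1 (flp_g L29735) (flp_a L29653) L42702
theorem L42706 : sm gb N4962 = N4962 := ded_23_1 (flp_g L42702) L29655 L42702
theorem L42707 : sm gd N4962 = N3451 := ded_36_1 (flp_g L29830) (flp_d L29658) L42702
theorem L42709 : sm ge N4962 = N3430 := ded_41_1 (flp_g L29661) L29651 L42702
theorem L42711 : sm gi N4962 = N4962 := ded_51_2 (flp_g L42702) L29657 L42702
theorem L42712 : sm gh N3429 = N4963 := rfl
theorem L42714 : sm ga N4963 = N3440 := ded_17_1 (flp_h L29744) (flp_a L29653) L42712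
theorem L42716 : sm gb N4963 = N4963 := ded_25_1 (flp_h L42712) L29655 L42712
theorem L42717 : sm ge N4963 = N3431 := ded_43_1 (flp_h L29669) L29651 L42712
theorem L42719 : sm gf N4963 = N4963 := ded_47_1 (flp_h L42712) L29660 L42712
theorem L42720 : sm gj N4963 = N4963 := ded_52_1 (flp_h L42712) L29656 L42712
theorem L42721 : sm gj N3430 = N4964 := rfl
theorem L42723 : sm ga N4964 = N3441 := ded_16_1 (flp_j L29752) (flp_a L29663) L42721
theorem L42725 : sm gb N4964 = N4964 := ded_24_1 (flp_j L42721) L29665 L42721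
theorem L42726 : sm gd N4964 = N3433 := ded_37_1 (flp_j L29685) (flp_d L29666) L42721
theorem L42728 : sm gi N4964 = N4964 := ded_53_2 (flp_j L42721) L29668 L42721
theorem L42729 : sm gg N4964 = N4964 := ded_49_1 (flp_j L42721) (flp_g L29661) L20652 L29661 L42721
theorem L42730 : sm gh N3430 = N4965 := rfl
theorem L42732 : sm ga N4965 = N3442 := ded_17_1 (flp_h L29760) (flp_a L29663) L42730
theorem L42734 : sm gb N4965 = N4965 := ded_25_1 (flp_h L42730) L29665 L42730
theorem L42735 : sm gg N4965 = N3431 := ded_50_1 (flp_h L29669) L29661 L42730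
theorem L42737 : sm gi N3431 = N4966 := rfl
theorem L42739 : sm ga N4966 = N3443 := ded_18_1 (flp_i L29766) (flp_a L29671) L42737
theorem L42741 : sm gb N4966 = N4966 := ded_26_1 (flp_i L42737) L29673 L42737
theorem L42742 : sm gf N4966 = N3432 := ded_48_1 (flp_i L29677) (flp_f L29674) L42737
theorem L42744 : sm gj N4966 = N4966 := ded_53_1 (flp_i L42737) L29676 L42737
theorem L42745 : sm gh N4966 = N4966 := ded_54_1 (flp_i L42737) (flp_h L29669) L20653 L29669 L42737
theorem L42746 : sm gg N3434 = N4967 := rfl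
theorem L42748 : sm gb N4967 = N4967 := ded_23_1 (flp_g L42746) L29698 L42746
theorem L42749 : sm gc N4967 = N3439 := ded_30_1 (flp_g L29735) (flp_c L29699) L42746
theorem L42751 : sm gd N4967 = N4967 := ded_36_1 (flp_g L42746) L29703 L42746
theorem L42752 : sm ge N4967 = N3435 := ded_41_1 (flp_g L29705) L29696 L42746
theorem L42754 : sm gi N4967 = N4967 := ded_51_2 (flp_g L42746) L29702 L42746
theorem L42755 : sm gh N3434 = N4968 := rfl
theorem L42757 : sm gb N4968 = N4968 := ded_25_1 (flp_h L42755) L29698 L42755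
theorem L42758 : sm gc N4968 = N3440 := ded_32_1 (flp_h L29744) (flp_c L29699) L42755
theorem L42760 : sm ge N4968 = N3436 := ded_43_1 (flp_h L29713) L29696 L42755
theorem L42762 : sm gf N4968 = N4968 := ded_47_1 (flp_h L42755) L29704 L42755
theorem L42763 : sm gj N4968 = N4968 := ded_52_1 (flp_h L42755) L29701 L42755
theorem L42764 : sm gj N3435 = N4969 := rfl
theorem L42766 : sm gb N4969 = N4969 := ded_24_1 (flp_j L42764) L29707 L42764
theorem L42767 : sm gc N4969 = N3441 := ded_31_1 (flp_j L29752) (flp_c L29708) L42764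
theorem L42769 : sm gd N4969 = N3778 := ded_37_1 (flp_j L32756) (flp_d L29710) L42764
theorem L42771 : sm gi N4969 = N4969 := ded_53_2 (flp_j L42764) L29712 L42764
theorem L42772 : sm gg N4969 = N4969 := ded_49_1 (flp_j L42764) (flp_g L29705) L20678 L29705 L42764
theorem L42773 : sm gh N3435 = N4970 := rfl
theorem L42775 : sm gb N4970 = N4970 := ded_25_1 (flp_h L42773) L29707 L42773
theorem L42776 : sm gc N4970 = N3442 := ded_32_1 (flp_h L29760) (flp_c L29708) L42773
theorem L42778 : sm gg N4970 = N3436 := ded_50_1 (flp_h L29713) L29705 L42773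
theorem L42780 : sm gd N3436 = N4971 := rfl
theorem L42782 : sm gb N4971 = N4971 := ded_20_1 (flp_d L42780) L29715 L42780
theorem L42783 : sm gf N4971 = N3437 := ded_35_2 (flp_d L29721) (flp_f L29718) L42780
theorem L42785 : sm gj N4971 = N4971 := ded_37_2 (flp_d L42780) L29720 L42780
theorem L42786 : sm gh N4971 = N3780 := ded_38_2 (flp_d L32772) (flp_h L22827) (flp_d L20676) L29713 L42780
theorem L42788 : sm gi N3436 = N4972 := rfl
theorem L42790 : sm gb N4972 = N4972 := ded_26_1 (flp_i L42788) L29715 L42788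
theorem L42791 : sm gc N4972 = N3443 := ded_33_1 (flp_i L29766) (flp_c L29716) L42788
theorem L42793 : sm gf N4972 = N3438 := ded_48_1 (flp_i L29727) (flp_f L29718) L42788
theorem L42795 : sm gj N4972 = N4972 := ded_53_1 (flp_i L42788) L29720 L42788
theorem L42796 : sm gh N4972 = N4972 := ded_54_1 (flp_i L42788) (flp_h L29713) L20679 L29713 L42788
theorem L42797 : sm ge N3437 = N4973 := rfl
theorem L42799 : sm gb N4973 = N4973 := ded_21_1 (flp_e L42797) L29723 L42797
theorem L42800 : sm gj N4973 = N4973 := ded_42_2 (flp_e L42797) L29724 L42797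
theorem L42801 : sm gh N4973 = N3782 := ded_43_2 (flp_e L32788) (flp_h L29725) L42797
theorem L42803 : sm gd N4973 = N4973 := ded_34_1 (flp_e L42797) (flp_d L29721) L20685 L29721 L42797
theorem L42804 : sm gi N3437 = N4974 := rfl
theorem L42806 : sm gb N4974 = N4974 := ded_26_1 (flp_i L42804) L29723 L42804
theorem L42807 : sm gd N4974 = N3438 := ded_39_1 (flp_i L29727) L29721 L42804
theorem L42809 : sm gj N4974 = N4974 := ded_53_1 (flp_i L42804) L29724 L42804
theorem L42810 : sm gf N3439 = N4975 := rfl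
theorem L42812 : sm gb N4975 = N3444 := ded_22_1 (flp_f L29774) (flp_b L29737) L42810
theorem L42814 : sm gd N4975 = N3456 := ded_35_1 (flp_f L29879) (flp_d L29739) L42810
theorem L42816 : sm gi N4975 = N4975 := ded_48_2 (flp_f L42810) L29743 L42810
theorem L42817 : sm gg N4975 = N4975 := ded_45_2 (flp_f L42810) (flp_g L29735) L20695 L29735 L42810
theorem L42818 : sm gj N3439 = N4976 := rfl
theorem L42820 : sm gb N4976 = N3445 := ded_24_1 (flp_j L29782) (flp_b L29737) L42818
theorem L42822 : sm gd N4976 = N3457 := ded_37_1 (flp_j L29887) (flp_d L29739) L42818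
theorem L42824 : sm ge N4976 = N3441 := ded_42_1 (flp_j L29752) (flp_e L29741) L42818
theorem L42826 : sm gi N4976 = N4976 := ded_53_2 (flp_j L42818) L29743 L42818
theorem L42827 : sm gg N4976 = N4976 := ded_49_1 (flp_j L42818) (flp_g L29735) L20691 L29735 L42818
theorem L42828 : sm gh N3439 = N4977 := rfl
theorem L42830 : sm gb N4977 = N3446 := ded_25_1 (flp_h L29792) (flp_b L29737) L42828
theorem L42832 : sm ge N4977 = N3442 := ded_43_1 (flp_h L29760) (flp_e L29741) L42828
theorem L42834 : sm gg N4977 = N3440 := ded_50_1 (flp_h L29744) L29735 L42828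
theorem L42836 : sm gd N3440 = N4978 := rfl
theorem L42838 : sm gb N4978 = N3447 := ded_20_1 (flp_d L29800) (flp_b L29746) L42836
theorem L42840 : sm gf N4978 = N4978 := ded_35_2 (flp_d L42836) L29750 L42836
theorem L42841 : sm gj N4978 = N4978 := ded_37_2 (flp_d L42836) L29751 L42836
theorem L42842 : sm gh N4978 = N3459 := ded_38_2 (flp_d L29905) (flp_h L20822) (flp_d L20693) L29744 L42836
theorem L42844 : sm gi N3440 = N4979 := rfl
theorem L42846 : sm gb N4979 = N3448 := ded_26_1 (flp_i L29807) (flp_b L29746) L42844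
theorem L42848 : sm ge N4979 = N3443 := ded_44_1 (flp_i L29766) (flp_e L29748) L42844
theorem L42850 : sm gf N4979 = N4979 := ded_48_1 (flp_i L42844) L29750 L42844
theorem L42851 : sm gj N4979 = N4979 := ded_53_1 (flp_i L42844) L29751 L42844
theorem L42852 : sm gh N4979 = N4979 := ded_54_1 (flp_i L42844) (flp_h L29744) L20692 L29744 L42844
theorem L42853 : sm gh N3441 = N4980 := rfl
theorem L42855 : sm gb N4980 = N3449 := ded_25_1 (flp_h L29816) (flp_b L29754) L42853
theorem L42857 : sm gg N4980 = N4980 := ded_50_1 (flp_h L42853) L29759 L42853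
theorem L42858 : sm gj N4980 = N3442 := ded_52_1 (flp_h L29760) L29752 L42853
theorem L42860 : sm gi N3442 = N4981 := rfl
theorem L42862 : sm gb N4981 = N3450 := ded_26_1 (flp_i L29823) (flp_b L29762) L42860
theorem L42864 : sm gg N4981 = N3443 := ded_51_1 (flp_i L29766) (flp_g L29764) L42860
theorem L42866 : sm gh N4981 = N4981 := ded_54_1 (flp_i L42860) (flp_h L29760) L20702 L29760 L42860
theorem L42867 : sm gj N3444 = N4982 := rfl
theorem L42869 : sm ga N4982 = N4982 := ded_16_1 (flp_j L42867) L29776 L42867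
theorem L42870 : sm gc N4982 = N4982 := ded_31_1 (flp_j L42867) L29777 L42867
theorem L42871 : sm gd N4982 = N3463 := ded_37_1 (flp_j L29939) (flp_d L29778) L42867
theorem L42873 : sm gf N4982 = N3445 := ded_46_1 (flp_j L29782) L29774 L42867
theorem L42875 : sm gi N4982 = N4982 := ded_53_2 (flp_j L42867) L29780 L42867
theorem L42876 : sm gh N3444 = N4983 := rfl
theorem L42878 : sm ga N4983 = N4983 := ded_17_1 (flp_h L42876) L29776 L42876
theorem L42879 : sm gc N4983 = N4983 := ded_32_1 (flp_h L42876) L29777 L42876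
theorem L42880 : sm gf N4983 = N3446 := ded_47_1 (flp_h L29792) L29774 L42876
theorem L42882 : sm gg N4983 = N4983 := ded_50_1 (flp_h L42876) L29781 L42876
theorem L42883 : sm gh N3445 = N4984 := rfl
theorem L42885 : sm ga N4984 = N4984 := ded_17_1 (flp_h L42883) L29784 L42883
theorem L42886 : sm gc N4984 = N4984 := ded_32_1 (flp_h L42883) L29785 L42883
theorem L42887 : sm ge N4984 = N3449 := ded_43_1 (flp_h L29816) (flp_e L29788) L42883
theorem L42889 : sm gg N4984 = N4984 := ded_50_1 (flp_h L42883) L29791 L42883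
theorem L42890 : sm gj N4984 = N3446 := ded_52_1 (flp_h L29792) L29782 L42883
theorem L42892 : sm gd N3446 = N4985 := rfl
theorem L42894 : sm ga N4985 = N4985 := ded_12_1 (flp_d L42892) L29794 L42892
theorem L42895 : sm gg N4985 = N3447 := ded_36_2 (flp_d L29800) (flp_g L29798) L42892
theorem L42897 : sm gh N4985 = N3466 := ded_38_2 (flp_d L29967) (flp_h L20875) (flp_d L20731) L29792 L42892
theorem L42899 : sm gi N3446 = N4986 := rfl
theorem L42901 : sm ga N4986 = N4986 := ded_18_1 (flp_i L42899) L29794 L42899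
theorem L42902 : sm gc N4986 = N4986 := ded_33_1 (flp_i L42899) L29795 L42899
theorem L42903 : sm ge N4986 = N3450 := ded_44_1 (flp_i L29823) (flp_e L29796) L42899
theorem L42905 : sm gg N4986 = N3448 := ded_51_1 (flp_i L29807) (flp_g L29798) L42899
theorem L42907 : sm gh N4986 = N4986 := ded_54_1 (flp_i L42899) (flp_h L29792) L20735 L29792 L42899
theorem L42908 : sm gc N3447 = N4987 := rfl
theorem L42910 : sm ga N4987 = N4987 := ded_11_1 (flp_c L42908) L29802 L42908
theorem L42911 : sm gf N4987 = N4987 := ded_29_2 (flp_c L42908) L29803 L42908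
theorem L42912 : sm gj N4987 = N4987 := ded_31_2 (flp_c L42908) L29804 L42908
theorem L42913 : sm gh N4987 = N3468 := ded_32_2 (flp_c L29982) (flp_h L29805) L42908
theorem L42915 : sm gd N4987 = N4987 := ded_27_2 (flp_c L42908) (flp_d L29800) L20739 L29800 L42908
theorem L42916 : sm gi N3447 = N4988 := rfl
theorem L42918 : sm ga N4988 = N4988 := ded_18_1 (flp_i L42916) L29802 L42916
theorem L42919 : sm gd N4988 = N3448 := ded_39_1 (flp_i L29807) L29800 L42916
theorem L42921 : sm gf N4988 = N4988 := ded_48_1 (flp_i L42916) L29803 L42916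
theorem L42922 : sm gj N4988 = N4988 := ded_53_1 (flp_i L42916) L29804 L42916
theorem L42923 : sm gi N3449 = N4989 := rfl
theorem L42925 : sm ga N4989 = N4989 := ded_18_1 (flp_i L42923) L29818 L42923
theorem L42926 : sm gc N4989 = N4989 := ded_33_1 (flp_i L42923) L29819 L42923
theorem L42927 : sm gg N4989 = N4989 := ded_51_1 (flp_i L42923) L29820 L42923
theorem L42928 : sm gj N4989 = N3450 := ded_53_1 (flp_i L29823) (flp_j L29821) L42923
theorem L42930 : sm gh N4989 = N4989 := ded_54_1 (flp_i L42923) (flp_h L29816) L20750 L29816 L42923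
theorem L42931 : sm gf N3451 = N4990 := rfl
theorem L42933 : sm ga N4990 = N3456 := ded_14_1 (flp_f L29879) (flp_a L29832) L42931
theorem L42935 : sm gb N4990 = N4990 := ded_22_1 (flp_f L42931) L29834 L42931
theorem L42936 : sm gc N4990 = N4990 := ded_29_1 (flp_f L42931) L29835 L42931
theorem L42937 : sm gi N4990 = N4990 := ded_48_2 (flp_f L42931) L29838 L42931
theorem L42938 : sm ge N4990 = N4990 := ded_40_1 (flp_f L42931) L29836 L20784 (flp_e L29836) L42931
theorem L42939 : sm gg N4990 = N4990 := ded_45_2 (flp_f L42931) (flp_g L29830) L20774 L29830 L42931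
theorem L42940 : sm gj N3451 = N4991 := rfl
theorem L42942 : sm ga N4991 = N3457 := ded_16_1 (flp_j L29887) (flp_a L29832) L42940
theorem L42944 : sm gb N4991 = N4991 := ded_24_1 (flp_j L42940) L29834 L42940
theorem L42945 : sm gc N4991 = N4991 := ded_31_1 (flp_j L42940) L29835 L42940
theorem L42946 : sm ge N4991 = N3453 := ded_42_1 (flp_j L29849) (flp_e L29836) L42940
theorem L42948 : sm gi N4991 = N4991 := ded_53_2 (flp_j L42940) L29838 L42940
theorem L42949 : sm gg N4991 = N4991 := ded_49_1 (flp_j L42940) (flp_g L29830) L20772 L29830 L42940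
theorem L42950 : sm gh N3451 = N4992 := rfl
theorem L42952 : sm ga N4992 = N3458 := ded_17_1 (flp_h L29896) (flp_a L29832) L42950
theorem L42954 : sm gb N4992 = N4992 := ded_25_1 (flp_h L42950) L29834 L42950
theorem L42955 : sm gc N4992 = N4992 := ded_32_1 (flp_h L42950) L29835 L42950
theorem L42956 : sm ge N4992 = N3454 := ded_43_1 (flp_h L29860) (flp_e L29836) L42950
theorem L42958 : sm gg N4992 = N3452 := ded_50_1 (flp_h L29839) L29830 L42950
theorem L42960 : sm gd N3452 = N4993 := rfl
theorem L42962 : sm ga N4993 = N3459 := ded_12_1 (flp_d L29905) (flp_a L29841) L42960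
theorem L42964 : sm gb N4993 = N4993 := ded_20_1 (flp_d L42960) L29843 L42960
theorem L42965 : sm gf N4993 = N4993 := ded_35_2 (flp_d L42960) L29847 L42960
theorem L42966 : sm gj N4993 = N4993 := ded_37_2 (flp_d L42960) L29848 L42960
theorem L42967 : sm gi N3452 = N4994 := rfl
theorem L42969 : sm ga N4994 = N3460 := ded_18_1 (flp_i L29911) (flp_a L29841) L42967
theorem L42971 : sm gb N4994 = N4994 := ded_26_1 (flp_i L42967) L29843 L42967
theorem L42972 : sm gc N4994 = N4994 := ded_33_1 (flp_i L42967) L29844 L42967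
theorem L42973 : sm ge N4994 = N3455 := ded_44_1 (flp_i L29869) (flp_e L29845) L42967
theorem L42975 : sm gf N4994 = N4994 := ded_48_1 (flp_i L42967) L29847 L42967
theorem L42976 : sm gj N4994 = N4994 := ded_53_1 (flp_i L42967) L29848 L42967
theorem L42977 : sm gh N4994 = N4994 := ded_54_1 (flp_i L42967) (flp_h L29839) L20773 L29839 L42967
theorem L42978 : sm gh N3453 = N4995 := rfl
theorem L42980 : sm ga N4995 = N3461 := ded_17_1 (flp_h L29921) (flp_a L29851) L42978
theorem L42982 : sm gb N4995 = N4995 := ded_25_1 (flp_h L42978) L29853 L42978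
theorem L42983 : sm gc N4995 = N4995 := ded_32_1 (flp_h L42978) L29854 L42978
theorem L42984 : sm gf N4995 = N4995 := ded_47_1 (flp_h L42978) L29857 L42978
theorem L42985 : sm gg N4995 = N4995 := ded_50_1 (flp_h L42978) L29859 L42978
theorem L42986 : sm gj N4995 = N3454 := ded_52_1 (flp_h L29860) L29849 L42978
theorem L42988 : sm gi N3454 = N4996 := rfl
theorem L42990 : sm ga N4996 = N3462 := ded_18_1 (flp_i L29930) (flp_a L29862) L42988
theorem L42992 : sm gb N4996 = N4996 := ded_26_1 (flp_i L42988) L29864 L42988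
theorem L42993 : sm gc N4996 = N4996 := ded_33_1 (flp_i L42988) L29865 L42988
theorem L42994 : sm gf N4996 = N4996 := ded_48_1 (flp_i L42988) L29866 L42988
theorem L42995 : sm gg N4996 = N3455 := ded_51_1 (flp_i L29869) (flp_g L29867) L42988
theorem L42997 : sm gh N4996 = N4996 := ded_54_1 (flp_i L42988) (flp_h L29860) L20783 L29860 L42988
theorem L42998 : sm gj N3456 = N4997 := rfl
theorem L43000 : sm gb N4997 = N3463 := ded_24_1 (flp_j L29939) (flp_b L29881) L42998
theorem L43002 : sm gc N4997 = N4997 := ded_31_1 (flp_j L42998) L29883 L42998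
theorem L43003 : sm ge N4997 = N4997 := ded_42_1 (flp_j L42998) L29885 L42998
theorem L43004 : sm gf N4997 = N3457 := ded_46_1 (flp_j L29887) L29879 L42998
theorem L43006 : sm gi N4997 = N4997 := ded_53_2 (flp_j L42998) L29884 L42998
theorem L43007 : sm gh N3456 = N4998 := rfl
theorem L43009 : sm gb N4998 = N3464 := ded_25_1 (flp_h L29948) (flp_b L29881) L43007
theorem L43011 : sm gc N4998 = N4998 := ded_32_1 (flp_h L43007) L29883 L43007
theorem L43012 : sm ge N4998 = N4998 := ded_43_1 (flp_h L43007) L29885 L43007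
theorem L43013 : sm gf N4998 = N3458 := ded_47_1 (flp_h L29896) L29879 L43007
theorem L43015 : sm gg N4998 = N4998 := ded_50_1 (flp_h L43007) L29886 L43007
theorem L43016 : sm gh N3457 = N4999 := rfl
theorem L43018 : sm gb N4999 = N3465 := ded_25_1 (flp_h L29957) (flp_b L29889) L43016
theorem L43020 : sm gc N4999 = N4999 := ded_32_1 (flp_h L43016) L29891 L43016
theorem L43021 : sm ge N4999 = N3461 := ded_43_1 (flp_h L29921) (flp_e L29892) L43016
theorem L43023 : sm gg N4999 = N4999 := ded_50_1 (flp_h L43016) L29895 L43016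
theorem L43024 : sm gj N4999 = N3458 := ded_52_1 (flp_h L29896) L29887 L43016
theorem L43026 : sm gd N3458 = N5000 := rfl
theorem L43028 : sm gb N5000 = N3466 := ded_20_1 (flp_d L29967) (flp_b L29898) L43026
theorem L43030 : sm gg N5000 = N3459 := ded_36_2 (flp_d L29905) (flp_g L29903) L43026
theorem L43032 : sm gi N3458 = N5001 := rfl
theorem L43034 : sm gb N5001 = N3467 := ded_26_1 (flp_i L29972) (flp_b L29898) L43032
theorem L43036 : sm gc N5001 = N5001 := ded_33_1 (flp_i L43032) L29900 L43032
theorem L43037 : sm ge N5001 = N3462 := ded_44_1 (flp_i L29930) (flp_e L29901) L43032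
theorem L43039 : sm gg N5001 = N3460 := ded_51_1 (flp_i L29911) (flp_g L29903) L43032
theorem L43041 : sm gh N5001 = N5001 := ded_54_1 (flp_i L43032) (flp_h L29896) L20821 L29896 L43032
theorem L43042 : sm gc N3459 = N5002 := rfl
theorem L43044 : sm gf N5002 = N5002 := ded_29_2 (flp_c L43042) L29909 L43042
theorem L43045 : sm gj N5002 = N5002 := ded_31_2 (flp_c L43042) L29910 L43042
theorem L43046 : sm gd N5002 = N5002 := ded_27_2 (flp_c L43042) (flp_d L29905) L20826 L29905 L43042
theorem L43047 : sm gi N3459 = N5003 := rfl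
theorem L43049 : sm gb N5003 = N3469 := ded_26_1 (flp_i L29989) (flp_b L29907) L43047
theorem L43051 : sm gd N5003 = N3460 := ded_39_1 (flp_i L29911) L29905 L43047
theorem L43053 : sm gf N5003 = N5003 := ded_48_1 (flp_i L43047) L29909 L43047
theorem L43054 : sm gj N5003 = N5003 := ded_53_1 (flp_i L43047) L29910 L43047
theorem L43055 : sm gi N3461 = N5004 := rfl
theorem L43057 : sm gb N5004 = N3470 := ded_26_1 (flp_i L29996) (flp_b L29923) L43055
theorem L43059 : sm gc N5004 = N5004 := ded_33_1 (flp_i L43055) L29925 L43055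
theorem L43060 : sm gf N5004 = N5004 := ded_48_1 (flp_i L43055) L29926 L43055
theorem L43061 : sm gg N5004 = N5004 := ded_51_1 (flp_i L43055) L29927 L43055
theorem L43062 : sm gj N5004 = N3462 := ded_53_1 (flp_i L29930) (flp_j L29928) L43055
theorem L43064 : sm gh N5004 = N5004 := ded_54_1 (flp_i L43055) (flp_h L29921) L20839 L29921 L43055
theorem L43065 : sm gg N3463 = N5005 := rfl
theorem L43067 : sm ga N5005 = N5005 := ded_15_1 (flp_g L43065) L29941 L43065
theorem L43068 : sm gc N5005 = N3471 := ded_30_1 (flp_g L30006) (flp_c L29942) L43065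
theorem L43070 : sm ge N5005 = N5005 := ded_41_1 (flp_g L43065) L29944 L43065
theorem L43071 : sm gi N5005 = N5005 := ded_51_2 (flp_g L43065) L29947 L43065
theorem L43072 : sm gf N5005 = N5005 := ded_45_1 (flp_g L43065) L29945 L20874 (flp_f L29945) L43065
theorem L43073 : sm gj N5005 = N5005 := ded_49_2 (flp_g L43065) (flp_j L29939) L20865 L29939 L43065
theorem L43074 : sm gh N3463 = N5006 := rfl
theorem L43076 : sm ga N5006 = N5006 := ded_17_1 (flp_h L43074) L29941 L43074
theorem L43077 : sm gc N5006 = N3472 := ded_32_1 (flp_h L30015) (flp_c L29942) L43074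
theorem L43079 : sm ge N5006 = N5006 := ded_43_1 (flp_h L43074) L29944 L43074
theorem L43080 : sm gf N5006 = N3465 := ded_47_1 (flp_h L29957) (flp_f L29945) L43074
theorem L43082 : sm gj N5006 = N3464 := ded_52_1 (flp_h L29948) L29939 L43074
theorem L43084 : sm gd N3464 = N5007 := rfl
theorem L43086 : sm ga N5007 = N5007 := ded_12_1 (flp_d L43084) L29950 L43084
theorem L43087 : sm gf N5007 = N3466 := ded_35_2 (flp_d L29967) (flp_f L29954) L43084
theorem L43089 : sm gg N5007 = N5007 := ded_36_2 (flp_d L43084) L29956 L43084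
theorem L43090 : sm gi N3464 = N5008 := rfl
theorem L43092 : sm ga N5008 = N5008 := ded_18_1 (flp_i L43090) L29950 L43090
theorem L43093 : sm gc N5008 = N3474 := ded_33_1 (flp_i L30032) (flp_c L29951) L43090
theorem L43095 : sm ge N5008 = N5008 := ded_44_1 (flp_i L43090) L29953 L43090
theorem L43096 : sm gf N5008 = N3467 := ded_48_1 (flp_i L29972) (flp_f L29954) L43090
theorem L43098 : sm gg N5008 = N5008 := ded_51_1 (flp_i L43090) L29956 L43090
theorem L43099 : sm gh N5008 = N5008 := ded_54_1 (flp_i L43090) (flp_h L29948) L20863 L29948 L43090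
theorem L43100 : sm gd N3465 = N5009 := rfl
theorem L43102 : sm ga N5009 = N5009 := ded_12_1 (flp_d L43100) L29959 L43100
theorem L43103 : sm gg N5009 = N5009 := ded_36_2 (flp_d L43100) L29964 L43100
theorem L43104 : sm gj N5009 = N3466 := ded_37_2 (flp_d L29967) (flp_j L29965) L43100
theorem L43106 : sm gi N3465 = N5010 := rfl
theorem L43108 : sm ga N5010 = N5010 := ded_18_1 (flp_i L43106) L29959 L43106
theorem L43111 : sm ge N5010 = N3470 := ded_44_1 (flp_i L29996) (flp_e L29962) L43106
theorem L43113 : sm gg N5010 = N5010 := ded_51_1 (flp_i L43106) L29964 L43106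
theorem L43114 : sm gj N5010 = N3467 := ded_53_1 (flp_i L29972) (flp_j L29965) L43106
theorem L43116 : sm gh N5010 = N5010 := ded_54_1 (flp_i L43106) (flp_h L29957) L20873 L29957 L43106
theorem L43117 : sm gc N3466 = N5011 := rfl
theorem L43119 : sm ga N5011 = N5011 := ded_11_1 (flp_c L43117) L29969 L43117
theorem L43120 : sm gg N5011 = N3468 := ded_30_2 (flp_c L29982) (flp_g L29970) L43117
theorem L43122 : sm gd N5011 = N3477 := ded_27_2 (flp_c L30060) (flp_d L20943) (flp_c L20878) L29967 L43117
theorem L43124 : sm gi N3466 = N5012 := rfl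
theorem L43126 : sm ga N5012 = N5012 := ded_18_1 (flp_i L43124) L29969 L43124
theorem L43127 : sm gd N5012 = N3467 := ded_39_1 (flp_i L29972) L29967 L43124
theorem L43129 : sm gg N5012 = N3469 := ded_51_1 (flp_i L29989) (flp_g L29970) L43124
theorem L43131 : sm gb N3468 = N5013 := rfl
theorem L43133 : sm gd N5013 = N3479 := ded_20_2 (flp_b L30076) (flp_d L29987) L43131
theorem L43135 : sm gf N5013 = N5013 := ded_22_2 (flp_b L43131) L29985 L43131
theorem L43136 : sm gj N5013 = N5013 := ded_24_2 (flp_b L43131) L29986 L43131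
theorem L43137 : sm gi N3468 = N5014 := rfl
theorem L43139 : sm ga N5014 = N5014 := ded_18_1 (flp_i L43137) L29984 L43137
theorem L43140 : sm gc N5014 = N3469 := ded_33_1 (flp_i L29989) L29982 L43137
theorem L43142 : sm gd N5014 = N3480 := ded_39_1 (flp_i L30083) (flp_d L29987) L43137
theorem L43144 : sm gf N5014 = N5014 := ded_48_1 (flp_i L43137) L29985 L43137
theorem L43145 : sm gj N5014 = N5014 := ded_53_1 (flp_i L43137) L29986 L43137
theorem L43146 : sm gh N3469 = N5015 := rfl
theorem L43148 : sm ga N5015 = N5015 := ded_17_1 (flp_h L43146) L29991 L43146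
theorem L43149 : sm gf N5015 = N5015 := ded_47_1 (flp_h L43146) L29994 L43146
theorem L43150 : sm gj N5015 = N5015 := ded_52_1 (flp_h L43146) L29995 L43146
theorem L43151 : sm gd N5015 = N5015 := ded_38_1 (flp_h L43146) L29992 L20898 (flp_d L29992) L43146
theorem L43152 : sm gh N3471 = N5016 := rfl
theorem L43158 : sm gg N5016 = N3472 := ded_50_1 (flp_h L30015) L30006 L43152
theorem L43161 : sm gd N3472 = N5017 := rfl
theorem L43165 : sm gf N5017 = N3475 := ded_35_2 (flp_d L30041) (flp_f L30020) L43161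
theorem L43167 : sm gj N5017 = N3473 := ded_37_2 (flp_d L30024) (flp_j L30022) L43161
theorem L43180 : sm gc N3473 = N5019 := rfl
theorem L43183 : sm gf N5019 = N3477 := ded_29_2 (flp_c L30060) (flp_f L30028) L43180
theorem L43187 : sm ge N3473 = N5020 := rfl
theorem L43195 : sm gi N3473 = N5021 := rfl
theorem L43204 : sm gc N3475 = N5022 := rfl
theorem L43209 : sm gj N5022 = N3477 := ded_31_2 (flp_c L30060) (flp_j L30046) L43204
theorem L43222 : sm gb N3477 = N5024 := rfl
theorem L43224 : sm ge N5024 = N5024 := ded_21_2 (flp_b L43222) L30063 L43222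
theorem L43225 : sm gg N5024 = N3479 := ded_23_2 (flp_b L30076) (flp_g L30064) L43222
theorem L43227 : sm gh N5024 = N5024 := ded_25_2 (flp_b L43222) L30066 L43222
theorem L43228 : sm gc N5024 = N5024 := ded_19_2 (flp_b L43222) (flp_c L30060) L20946 L30060 L43222
theorem L43229 : sm gi N3477 = N5025 := rfl
theorem L43235 : sm gg N5025 = N3480 := ded_51_1 (flp_i L30083) (flp_g L30064) L43229
theorem L43246 : sm ga N3479 = N5027 := rfl
theorem L43248 : sm gc N5027 = N5027 := ded_11_2 (flp_a L43246) L30082 L43246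
theorem L43249 : sm ge N5027 = N5027 := ded_13_2 (flp_a L43246) L30078 L43246
theorem L43250 : sm gf N5027 = N5027 := ded_14_2 (flp_a L43246) L30079 L43246
theorem L43251 : sm gj N5027 = N5027 := ded_16_2 (flp_a L43246) L30080 L43246
theorem L43252 : sm gh N5027 = N5027 := ded_17_2 (flp_a L43246) L30081 L43246
theorem L43253 : sm gb N5027 = N5027 := ded_10_2 (flp_a L43246) (flp_b L30076) L20962 L30076 L43246
theorem L43254 : sm gi N3479 = N5028 := rfl
theorem L43256 : sm gb N5028 = N3480 := ded_26_1 (flp_i L30083) L30076 L43254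
theorem L43258 : sm gc N5028 = N5028 := ded_33_1 (flp_i L43254) L30082 L43254
theorem L43259 : sm ge N5028 = N5028 := ded_44_1 (flp_i L43254) L30078 L43254
theorem L43260 : sm gf N5028 = N5028 := ded_48_1 (flp_i L43254) L30079 L43254
theorem L43261 : sm gj N5028 = N5028 := ded_53_1 (flp_i L43254) L30080 L43254
theorem L43262 : sm gh N3480 = N5029 := rfl
theorem L43265 : sm gc N5029 = N3481 := ded_32_1 (flp_h L30091) (flp_c L30086) L43262
theorem L43271 : sm gf N3482 = N5030 := rfl
theorem L43273 : sm ga N5030 = N3837 := ded_14_1 (flp_f L33273) (flp_a L30102) L43271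
theorem L43275 : sm gb N5030 = N5030 := ded_22_1 (flp_f L43271) L30104 L43271
theorem L43276 : sm gc N5030 = N5030 := ded_29_1 (flp_f L43271) L30108 L43271
theorem L43277 : sm gd N5030 = N3483 := ded_35_1 (flp_f L30110) L30100 L43271
theorem L43279 : sm gj N5030 = N5030 := ded_46_2 (flp_f L43271) L30107 L43271
theorem L43280 : sm gg N5030 = N5030 := ded_45_2 (flp_f L43271) L30105 L21071 (flp_g L30105) L43271
theorem L43281 : sm gh N3482 = N5031 := rfl
theorem L43283 : sm ga N5031 = N3838 := ded_17_1 (flp_h L33280) (flp_a L30102) L43281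
theorem L43285 : sm gb N5031 = N5031 := ded_25_1 (flp_h L43281) L30104 L43281
theorem L43286 : sm gc N5031 = N5031 := ded_32_1 (flp_h L43281) L30108 L43281
theorem L43287 : sm ge N5031 = N5031 := ded_43_1 (flp_h L43281) L30109 L43281
theorem L43288 : sm gg N5031 = N3494 := ded_50_1 (flp_h L30223) (flp_g L30105) L43281
theorem L43290 : sm gj N5031 = N5031 := ded_52_1 (flp_h L43281) L30107 L43281
theorem L43291 : sm gd N5031 = N5031 := ded_38_1 (flp_h L43281) (flp_d L30100) L20996 L30100 L43281
theorem L43292 : sm gi N3482 = N5032 := rfl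
theorem L43294 : sm ga N5032 = N3839 := ded_18_1 (flp_i L33288) (flp_a L30102) L43292
theorem L43296 : sm gb N5032 = N5032 := ded_26_1 (flp_i L43292) L30104 L43292
theorem L43297 : sm gc N5032 = N5032 := ded_33_1 (flp_i L43292) L30108 L43292
theorem L43298 : sm gd N5032 = N3484 := ded_39_1 (flp_i L30121) L30100 L43292
theorem L43300 : sm ge N5032 = N5032 := ded_44_1 (flp_i L43292) L30109 L43292
theorem L43301 : sm gg N5032 = N3495 := ded_51_1 (flp_i L30234) (flp_g L30105) L43292
theorem L43303 : sm gj N5032 = N5032 := ded_53_1 (flp_i L43292) L30107 L43292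
theorem L43304 : sm gi N3483 = N5033 := rfl
theorem L43306 : sm ga N5033 = N3840 := ded_18_1 (flp_i L33297) (flp_a L30112) L43304
theorem L43308 : sm gb N5033 = N5033 := ded_26_1 (flp_i L43304) L30114 L43304
theorem L43309 : sm gc N5033 = N3486 := ded_33_1 (flp_i L30145) (flp_c L30115) L43304
theorem L43311 : sm ge N5033 = N5033 := ded_44_1 (flp_i L43304) L30119 L43304
theorem L43312 : sm gf N5033 = N3484 := ded_48_1 (flp_i L30121) L30110 L43304
theorem L43314 : sm gg N5033 = N5033 := ded_51_1 (flp_i L43304) L30120 L43304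
theorem L43315 : sm gj N5033 = N5033 := ded_53_1 (flp_i L43304) L30117 L43304
theorem L43316 : sm gh N3484 = N5034 := rfl
theorem L43321 : sm gc N5034 = N3487 := ded_32_1 (flp_h L30155) (flp_c L30126) L43316
theorem L43323 : sm ge N5034 = N3485 := ded_43_1 (flp_h L30133) (flp_e L30128) L43316
theorem L43325 : sm gg N5034 = N3496 := ded_50_1 (flp_h L30246) (flp_g L30130) L43316
theorem L43328 : sm gi N5034 = N5034 := ded_54_2 (flp_h L43316) (flp_i L30121) L20996 L30121 L43316
theorem L43329 : sm gd N3485 = N5035 := rfl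
theorem L43334 : sm gf N5035 = N5035 := ded_35_2 (flp_d L43329) L30140 L43329
theorem L43335 : sm gg N5035 = N3497 := ded_36_2 (flp_d L30259) (flp_g L30141) L43329
theorem L43340 : sm gh N3486 = N5036 := rfl
theorem L43342 : sm ga N5036 = N3843 := ded_17_1 (flp_h L33324) (flp_a L30147) L43340
theorem L43344 : sm ge N5036 = N5036 := ded_43_1 (flp_h L43340) L30150 L43340
theorem L43345 : sm gf N5036 = N3487 := ded_47_1 (flp_h L30155) (flp_f L30151) L43340
theorem L43347 : sm gg N5036 = N5036 := ded_50_1 (flp_h L43340) L30153 L43340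
theorem L43348 : sm gj N5036 = N5036 := ded_52_1 (flp_h L43340) L30154 L43340
theorem L43349 : sm gi N5036 = N5036 := ded_54_2 (flp_h L43340) (flp_i L30145) L21015 L30145 L43340
theorem L43350 : sm gd N3487 = N5037 := rfl
theorem L43352 : sm ga N5037 = N3844 := ded_12_1 (flp_d L33333) (flp_a L30157) L43350
theorem L43354 : sm gg N5037 = N3498 := ded_36_2 (flp_d L30270) (flp_g L30161) L43350
theorem L43356 : sm gj N5037 = N5037 := ded_37_2 (flp_d L43350) L30163 L43350
theorem L43357 : sm gi N5037 = N5037 := ded_39_2 (flp_d L43350) L30164 L43350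
theorem L43358 : sm gh N5037 = N5037 := ded_38_2 (flp_d L43350) (flp_h L30155) L21022 L30155 L43350
theorem L43359 : sm gc N3488 = N5038 := rfl
theorem L43361 : sm ga N5038 = N3845 := ded_11_1 (flp_c L33341) (flp_a L30167) L43359
theorem L43363 : sm gf N5038 = N5038 := ded_29_2 (flp_c L43359) L30169 L43359
theorem L43364 : sm gg N5038 = N3499 := ded_30_2 (flp_c L30279) (flp_g L30170) L43359
theorem L43367 : sm gh N5038 = N3489 := ded_32_2 (flp_c L30176) (flp_h L30174) L43359
theorem L43370 : sm ge N3488 = N5039 := rfl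
theorem L43372 : sm ga N5039 = N3846 := ded_13_1 (flp_e L33350) (flp_a L30167) L43370
theorem L43374 : sm gg N5039 = N3500 := ded_41_2 (flp_e L30290) (flp_g L30170) L43370
theorem L43376 : sm gj N5039 = N5039 := ded_42_2 (flp_e L43370) L30172 L43370
theorem L43377 : sm gh N5039 = N3490 := ded_43_2 (flp_e L30187) (flp_h L30174) L43370
theorem L43379 : sm gi N5039 = N5039 := ded_44_2 (flp_e L43370) L30173 L43370
theorem L43380 : sm gb N3489 = N5040 := rfl
theorem L43382 : sm gd N5040 = N5040 := ded_20_2 (flp_b L43380) L30186 L43380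
theorem L43383 : sm gf N5040 = N5040 := ded_22_2 (flp_b L43380) L30180 L43380
theorem L43384 : sm gg N5040 = N3501 := ded_23_2 (flp_b L30299) (flp_g L30181) L43380
theorem L43386 : sm gj N5040 = N5040 := ded_24_2 (flp_b L43380) L30183 L43380
theorem L43387 : sm gi N5040 = N3491 := ded_26_2 (flp_b L30197) (flp_i L30184) L43380
theorem L43389 : sm ge N3489 = N5041 := rfl
theorem L43391 : sm ga N5041 = N3848 := ded_13_1 (flp_e L33369) (flp_a L30178) L43389
theorem L43393 : sm gc N5041 = N3490 := ded_28_1 (flp_e L30187) L30176 L43389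
theorem L43395 : sm gg N5041 = N3502 := ded_41_2 (flp_e L30308) (flp_g L30181) L43389
theorem L43397 : sm gj N5041 = N5041 := ded_42_2 (flp_e L43389) L30183 L43389
theorem L43398 : sm gi N5041 = N3492 := ded_44_2 (flp_e L30205) (flp_i L30184) L43389
theorem L43400 : sm gf N3490 = N5042 := rfl
theorem L43402 : sm ga N5042 = N3849 := ded_14_1 (flp_f L33378) (flp_a L30189) L43400
theorem L43404 : sm gd N5042 = N5042 := ded_35_1 (flp_f L43400) L30196 L43400
theorem L43405 : sm gj N5042 = N5042 := ded_46_2 (flp_f L43400) L30193 L43400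
theorem L43406 : sm gi N5042 = N3493 := ded_48_2 (flp_f L30215) (flp_i L30194) L43400
theorem L43408 : sm ge N5042 = N5042 := ded_40_1 (flp_f L43400) (flp_e L30187) L21041 L30187 L43400
theorem L43409 : sm ga N3491 = N5043 := rfl
theorem L43411 : sm gd N5043 = N5043 := ded_12_2 (flp_a L43409) L30199 L43409
theorem L43412 : sm gf N5043 = N5043 := ded_14_2 (flp_a L43409) L30200 L43409
theorem L43413 : sm gg N5043 = N3504 := ded_15_2 (flp_a L30329) (flp_g L30201) L43409
theorem L43415 : sm gj N5043 = N5043 := ded_16_2 (flp_a L43409) L30203 L43409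
theorem L43416 : sm gh N5043 = N5043 := ded_17_2 (flp_a L43409) L30204 L43409
theorem L43417 : sm gb N5043 = N3850 := ded_10_2 (flp_a L33386) (flp_b L23283) (flp_a L21049) L30197 L43409
theorem L43419 : sm ge N3491 = N5044 := rfl
theorem L43421 : sm gb N5044 = N3492 := ded_21_1 (flp_e L30205) L30197 L43419
theorem L43423 : sm gg N5044 = N3505 := ded_41_2 (flp_e L30339) (flp_g L30201) L43419
theorem L43425 : sm gj N5044 = N5044 := ded_42_2 (flp_e L43419) L30203 L43419
theorem L43426 : sm gh N5044 = N5044 := ded_43_2 (flp_e L43419) L30204 L43419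
theorem L43427 : sm gd N3492 = N5045 := rfl
theorem L43429 : sm ga N5045 = N3852 := ded_12_1 (flp_d L33404) (flp_a L30207) L43427
theorem L43431 : sm gg N5045 = N3506 := ded_36_2 (flp_d L30346) (flp_g L30211) L43427
theorem L43433 : sm gj N5045 = N5045 := ded_37_2 (flp_d L43427) L30213 L43427
theorem L43434 : sm gc N5045 = N5045 := ded_27_1 (flp_d L43427) L30209 L21065 (flp_c L30209) L43427
theorem L43435 : sm ge N5045 = N5045 := ded_34_2 (flp_d L43427) (flp_e L30205) L21056 L30205 L43427
theorem L43436 : sm gf N3492 = N5046 := rfl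
theorem L43438 : sm ga N5046 = N3853 := ded_14_1 (flp_f L33411) (flp_a L30207) L43436
theorem L43440 : sm gc N5046 = N3493 := ded_29_1 (flp_f L30215) (flp_c L30209) L43436
theorem L43442 : sm gj N5046 = N5046 := ded_46_2 (flp_f L43436) L30213 L43436
theorem L43443 : sm gh N5046 = N5046 := ded_47_2 (flp_f L43436) L30214 L43436
theorem L43444 : sm ge N5046 = N5046 := ded_40_1 (flp_f L43436) (flp_e L30205) L21051 L30205 L43436
theorem L43445 : sm gg N3493 = N5047 := rfl
theorem L43447 : sm ga N5047 = N3854 := ded_15_1 (flp_g L33418) (flp_a L30217) L43445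
theorem L43449 : sm gd N5047 = N5047 := ded_36_1 (flp_g L43445) L30219 L43445
theorem L43450 : sm ge N5047 = N5047 := ded_41_1 (flp_g L43445) L30222 L43445
theorem L43451 : sm gh N5047 = N5047 := ded_50_2 (flp_g L43445) L30221 L43445
theorem L43452 : sm gf N5047 = N3508 := ded_45_1 (flp_g L30365) (flp_f L21158) (flp_g L21061) L30215 L43445
theorem L43454 : sm gi N3494 = N5048 := rfl
theorem L43456 : sm ga N5048 = N3860 := ded_18_1 (flp_i L33479) (flp_a L30225) L43454
theorem L43463 : sm gj N5048 = N3509 := ded_53_1 (flp_i L30373) (flp_j L30231) L43454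
theorem L43465 : sm gh N3495 = N5049 := rfl
theorem L43473 : sm gj N5049 = N3510 := ded_52_1 (flp_h L30383) (flp_j L30244) L43465
theorem L43475 : sm gd N3496 = N5050 := rfl
theorem L43481 : sm gj N5050 = N3511 := ded_37_2 (flp_d L30392) (flp_j L30256) L43475
theorem L43484 : sm gc N3497 = N5051 := rfl
theorem L43488 : sm gf N5051 = N3531 := ded_29_2 (flp_c L30564) (flp_f L30264) L43484
theorem L43490 : sm gj N5051 = N3512 := ded_31_2 (flp_c L30400) (flp_j L30266) L43484
theorem L43496 : sm ge N3497 = N5052 := rfl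
theorem L43505 : sm gc N3498 = N5053 := rfl
theorem L43507 : sm ga N5053 = N3865 := ded_11_1 (flp_c L33516) (flp_a L30272) L43505
theorem L43510 : sm gj N5053 = N3514 := ded_31_2 (flp_c L30419) (flp_j L30275) L43505
theorem L43514 : sm ge N3498 = N5054 := rfl
theorem L43516 : sm ga N5054 = N3866 := ded_13_1 (flp_e L33523) (flp_a L30272) L43514
theorem L43518 : sm gj N5054 = N3515 := ded_42_2 (flp_e L30427) (flp_j L30275) L43514
theorem L43520 : sm gh N5054 = N5054 := ded_43_2 (flp_e L43514) L30278 L43514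
theorem L43521 : sm gi N5054 = N5054 := ded_44_2 (flp_e L43514) L30277 L43514
theorem L43522 : sm gd N5054 = N3500 := ded_34_1 (flp_e L30290) (flp_d L21110) (flp_e L21104) L30270 L43514
theorem L43524 : sm gb N3499 = N5055 := rfl
theorem L43526 : sm gf N5055 = N3533 := ded_22_2 (flp_b L30586) (flp_f L30283) L43524
theorem L43528 : sm gj N5055 = N3516 := ded_24_2 (flp_b L30436) (flp_j L30285) L43524
theorem L43530 : sm gh N5055 = N3501 := ded_25_2 (flp_b L30299) (flp_h L30287) L43524
theorem L43533 : sm ge N3499 = N5056 := rfl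
theorem L43535 : sm ga N5056 = N3868 := ded_13_1 (flp_e L33542) (flp_a L30281) L43533
theorem L43537 : sm gc N5056 = N3500 := ded_28_1 (flp_e L30290) L30279 L43533
theorem L43539 : sm gj N5056 = N3517 := ded_42_2 (flp_e L30444) (flp_j L30285) L43533
theorem L43541 : sm gh N5056 = N3502 := ded_43_2 (flp_e L30308) (flp_h L30287) L43533
theorem L43544 : sm gf N3500 = N5057 := rfl
theorem L43546 : sm ga N5057 = N3869 := ded_14_1 (flp_f L33551) (flp_a L30292) L43544
theorem L43548 : sm gj N5057 = N3518 := ded_46_2 (flp_f L30454) (flp_j L30294) L43544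
theorem L43550 : sm gh N5057 = N3503 := ded_47_2 (flp_f L30318) (flp_h L30296) L43544
theorem L43552 : sm gi N5057 = N5057 := ded_48_2 (flp_f L43544) L30298 L43544
theorem L43553 : sm ge N5057 = N3535 := ded_40_1 (flp_f L30606) (flp_e L21323) (flp_f L21114) L30290 L43544
theorem L43555 : sm ga N3501 = N5058 := rfl
theorem L43558 : sm gf N5058 = N3536 := ded_14_2 (flp_a L30616) (flp_f L30302) L43555
theorem L43560 : sm gj N5058 = N3519 := ded_16_2 (flp_a L30463) (flp_j L30304) L43555
theorem L43562 : sm gi N5058 = N3504 := ded_18_2 (flp_a L30329) (flp_i L30306) L43555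
theorem L43564 : sm gb N5058 = N3870 := ded_10_2 (flp_a L33561) (flp_b L23398) (flp_a L21123) L30299 L43555
theorem L43566 : sm ge N3501 = N5059 := rfl
theorem L43568 : sm gb N5059 = N3502 := ded_21_1 (flp_e L30308) L30299 L43566
theorem L43570 : sm gj N5059 = N3520 := ded_42_2 (flp_e L30473) (flp_j L30304) L43566
theorem L43572 : sm gi N5059 = N3505 := ded_44_2 (flp_e L30339) (flp_i L30306) L43566
theorem L43574 : sm gd N3502 = N5060 := rfl
theorem L43576 : sm ga N5060 = N3872 := ded_12_1 (flp_d L33580) (flp_a L30310) L43574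
theorem L43578 : sm gj N5060 = N3521 := ded_37_2 (flp_d L30480) (flp_j L30314) L43574
theorem L43580 : sm gi N5060 = N3506 := ded_39_2 (flp_d L30346) (flp_i L30316) L43574
theorem L43582 : sm gc N5060 = N5060 := ded_27_1 (flp_d L43574) L30312 L21140 (flp_c L30312) L43574
theorem L43583 : sm ge N5060 = N5060 := ded_34_2 (flp_d L43574) (flp_e L30308) L21131 L30308 L43574
theorem L43584 : sm gf N3502 = N5061 := rfl
theorem L43586 : sm ga N5061 = N3873 := ded_14_1 (flp_f L33588) (flp_a L30310) L43584
theorem L43588 : sm gc N5061 = N3503 := ded_29_1 (flp_f L30318) (flp_c L30312) L43584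
theorem L43590 : sm gj N5061 = N3522 := ded_46_2 (flp_f L30489) (flp_j L30314) L43584
theorem L43592 : sm gi N5061 = N3507 := ded_48_2 (flp_f L30354) (flp_i L30316) L43584
theorem L43594 : sm ge N5061 = N3539 := ded_40_1 (flp_f L30647) (flp_e L21342) (flp_f L21125) L30308 L43584
theorem L43596 : sm gg N3503 = N5062 := rfl
theorem L43598 : sm ga N5062 = N3874 := ded_15_1 (flp_g L33598) (flp_a L30320) L43596
theorem L43600 : sm gd N5062 = N5062 := ded_36_1 (flp_g L43596) L30322 L43596
theorem L43601 : sm ge N5062 = N3540 := ded_41_1 (flp_g L30657) (flp_e L30327) L43596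
theorem L43603 : sm gi N5062 = N3508 := ded_51_2 (flp_g L30365) (flp_i L30325) L43596
theorem L43605 : sm ge N3504 = N5063 := rfl
theorem L43607 : sm ga N5063 = N3505 := ded_13_1 (flp_e L30339) L30329 L43605
theorem L43609 : sm gb N5063 = N3875 := ded_21_1 (flp_e L33606) (flp_b L30337) L43605
theorem L43611 : sm gj N5063 = N3524 := ded_42_2 (flp_e L30509) (flp_j L30334) L43605
theorem L43613 : sm gh N5063 = N5063 := ded_43_2 (flp_e L43605) L30336 L43605
theorem L43614 : sm gd N3505 = N5064 := rfl
theorem L43616 : sm gb N5064 = N3506 := ded_20_1 (flp_d L30346) (flp_b L30341) L43614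
theorem L43618 : sm gj N5064 = N3525 := ded_37_2 (flp_d L30517) (flp_j L30343) L43614
theorem L43620 : sm ge N5064 = N5064 := ded_34_2 (flp_d L43614) (flp_e L30339) L21143 L30339 L43614
theorem L43621 : sm gf N3505 = N5065 := rfl
theorem L43623 : sm gb N5065 = N3507 := ded_22_1 (flp_f L30354) (flp_b L30341) L43621
theorem L43625 : sm gj N5065 = N3526 := ded_46_2 (flp_f L30523) (flp_j L30343) L43621
theorem L43627 : sm gh N5065 = N5065 := ded_47_2 (flp_f L43621) L30345 L43621
theorem L43628 : sm ge N5065 = N3543 := ded_40_1 (flp_f L30684) (flp_e L21372) (flp_f L21144) L30339 L43621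
theorem L43630 : sm gf N3506 = N5066 := rfl
theorem L43632 : sm ga N5066 = N3878 := ded_14_1 (flp_f L33631) (flp_a L30348) L43630
theorem L43634 : sm gc N5066 = N5066 := ded_29_1 (flp_f L43630) L30352 L43630
theorem L43635 : sm gd N5066 = N3507 := ded_35_1 (flp_f L30354) L30346 L43630
theorem L43637 : sm gj N5066 = N3527 := ded_46_2 (flp_f L30530) (flp_j L30350) L43630
theorem L43639 : sm gh N3506 = N5067 := rfl
theorem L43641 : sm ga N5067 = N3879 := ded_17_1 (flp_h L33638) (flp_a L30348) L43639
theorem L43643 : sm gc N5067 = N5067 := ded_32_1 (flp_h L43639) L30352 L43639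
theorem L43644 : sm ge N5067 = N5067 := ded_43_1 (flp_h L43639) L30353 L43639
theorem L43645 : sm gj N5067 = N3528 := ded_52_1 (flp_h L30537) (flp_j L30350) L43639
theorem L43647 : sm gd N5067 = N5067 := ded_38_1 (flp_h L43639) (flp_d L30346) L21157 L30346 L43639
theorem L43648 : sm gg N3507 = N5068 := rfl
theorem L43650 : sm ga N5068 = N3880 := ded_15_1 (flp_g L33645) (flp_a L30356) L43648
theorem L43652 : sm gc N5068 = N3508 := ded_30_1 (flp_g L30365) (flp_c L30358) L43648
theorem L43654 : sm ge N5068 = N3546 := ded_41_1 (flp_g L30712) (flp_e L30363) L43648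
theorem L43656 : sm gh N5068 = N5068 := ded_50_2 (flp_g L43648) L30362 L43648
theorem L43657 : sm gj N3508 = N5069 := rfl
theorem L43659 : sm ga N5069 = N3881 := ded_16_1 (flp_j L33652) (flp_a L30367) L43657
theorem L43661 : sm gd N5069 = N5069 := ded_37_1 (flp_j L43657) L30369 L43657
theorem L43662 : sm ge N5069 = N3547 := ded_42_1 (flp_j L30720) (flp_e L30370) L43657
theorem L43664 : sm gh N5069 = N5069 := ded_52_2 (flp_j L43657) L30372 L43657
theorem L43665 : sm gg N5069 = N3530 := ded_49_1 (flp_j L30555) (flp_g L21294) (flp_j L21163) L30365 L43657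
theorem L43667 : sm gh N3509 = N5070 := rfl
theorem L43676 : sm gi N5070 = N3510 := ded_54_2 (flp_h L30383) (flp_i L21178) L21168 L30373 L43667
theorem L43678 : sm gd N3510 = N5071 := rfl
theorem L43685 : sm gh N5071 = N3511 := ded_38_2 (flp_d L30392) (flp_h L21189) (flp_d L21184) L30383 L43678
theorem L43687 : sm gc N3511 = N5072 := rfl
theorem L43694 : sm gd N5072 = N3514 := ded_27_2 (flp_c L30419) (flp_d L21211) (flp_c L21194) L30392 L43687
theorem L43705 : sm gb N3512 = N5074 := rfl
theorem L43707 : sm gd N5074 = N3516 := ded_20_2 (flp_b L30436) (flp_d L30409) L43705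
theorem L43715 : sm ge N3512 = N5075 := rfl
theorem L43733 : sm gb N3514 = N5077 := rfl
theorem L43739 : sm ge N3514 = N5078 := rfl
theorem L43741 : sm ga N5078 = N3897 := ded_13_1 (flp_e L33778) (flp_a L30421) L43739
theorem L43743 : sm gc N5078 = N3515 := ded_28_1 (flp_e L30427) L30419 L43739
theorem L43748 : sm gf N3515 = N5079 := rfl
theorem L43750 : sm ga N5079 = N3898 := ded_14_1 (flp_f L33785) (flp_a L30429) L43748
theorem L43752 : sm gd N5079 = N3518 := ded_35_1 (flp_f L30454) (flp_d L30434) L43748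
theorem L43754 : sm gh N5079 = N5079 := ded_47_2 (flp_f L43748) L30432 L43748
theorem L43755 : sm gi N5079 = N5079 := ded_48_2 (flp_f L43748) L30433 L43748
theorem L43756 : sm ge N5079 = N5079 := ded_40_1 (flp_f L43748) (flp_e L30427) L21215 L30427 L43748
theorem L43757 : sm ga N3516 = N5080 := rfl
theorem L43759 : sm gf N5080 = N3551 := ded_14_2 (flp_a L30757) (flp_f L30438) L43757
theorem L43762 : sm gh N5080 = N3519 := ded_17_2 (flp_a L30463) (flp_h L30441) L43757
theorem L43765 : sm gb N5080 = N3899 := ded_10_2 (flp_a L33793) (flp_b L23559) (flp_a L21221) L30436 L43757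
theorem L43767 : sm ge N3516 = N5081 := rfl
theorem L43772 : sm gh N5081 = N3520 := ded_43_2 (flp_e L30473) (flp_h L30441) L43767
theorem L43775 : sm gd N3517 = N5082 := rfl
theorem L43781 : sm gf N3517 = N5083 := rfl
theorem L43785 : sm gc N5083 = N3518 := ded_29_1 (flp_f L30454) (flp_c L30448) L43781
theorem L43787 : sm gh N5083 = N3522 := ded_47_2 (flp_f L30489) (flp_h L30451) L43781
theorem L43789 : sm gi N5083 = N5083 := ded_48_2 (flp_f L43781) L30453 L43781
theorem L43790 : sm ge N5083 = N3554 := ded_40_1 (flp_f L30783) (flp_e L21434) (flp_f L21223) L30444 L43781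
theorem L43792 : sm gg N3518 = N5084 := rfl
theorem L43794 : sm ga N5084 = N3903 := ded_15_1 (flp_g L33824) (flp_a L30456) L43792
theorem L43796 : sm ge N5084 = N3555 := ded_41_1 (flp_g L30792) (flp_e L30461) L43792
theorem L43798 : sm gh N5084 = N3523 := ded_50_2 (flp_g L30499) (flp_h L30458) L43792
theorem L43800 : sm gi N5084 = N5084 := ded_51_2 (flp_g L43792) L30460 L43792
theorem L43801 : sm gf N5084 = N5084 := ded_45_1 (flp_g L43792) (flp_f L30454) L21233 L30454 L43792
theorem L43802 : sm ge N3519 = N5085 := rfl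
theorem L43804 : sm ga N5085 = N3520 := ded_13_1 (flp_e L30473) L30463 L43802
theorem L43806 : sm gb N5085 = N3904 := ded_21_1 (flp_e L33833) (flp_b L30471) L43802
theorem L43809 : sm gi N5085 = N3524 := ded_44_2 (flp_e L30509) (flp_i L30469) L43802
theorem L43811 : sm gd N3520 = N5086 := rfl
theorem L43813 : sm gb N5086 = N3521 := ded_20_1 (flp_d L30480) (flp_b L30475) L43811
theorem L43815 : sm gg N5086 = N5086 := ded_36_2 (flp_d L43811) L30477 L43811
theorem L43816 : sm gi N5086 = N3525 := ded_39_2 (flp_d L30517) (flp_i L30478) L43811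
theorem L43818 : sm ge N5086 = N5086 := ded_34_2 (flp_d L43811) (flp_e L30473) L21239 L30473 L43811
theorem L43819 : sm gf N3520 = N5087 := rfl
theorem L43821 : sm gb N5087 = N3522 := ded_22_1 (flp_f L30489) (flp_b L30475) L43819
theorem L43823 : sm gi N5087 = N3526 := ded_48_2 (flp_f L30523) (flp_i L30478) L43819
theorem L43825 : sm ge N5087 = N3558 := ded_40_1 (flp_f L30821) (flp_e L21462) (flp_f L21240) L30473 L43819
theorem L43827 : sm gf N3521 = N5088 := rfl
theorem L43829 : sm ga N5088 = N3907 := ded_14_1 (flp_f L33858) (flp_a L30482) L43827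
theorem L43831 : sm gc N5088 = N5088 := ded_29_1 (flp_f L43827) L30487 L43827
theorem L43832 : sm gd N5088 = N3522 := ded_35_1 (flp_f L30489) L30480 L43827
theorem L43834 : sm gi N5088 = N3527 := ded_48_2 (flp_f L30530) (flp_i L30485) L43827
theorem L43836 : sm gh N3521 = N5089 := rfl
theorem L43843 : sm gg N3522 = N5090 := rfl
theorem L43845 : sm ga N5090 = N3909 := ded_15_1 (flp_g L33870) (flp_a L30491) L43843
theorem L43847 : sm gc N5090 = N3523 := ded_30_1 (flp_g L30499) (flp_c L30493) L43843
theorem L43849 : sm ge N5090 = N3561 := ded_41_1 (flp_g L30846) (flp_e L30497) L43843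
theorem L43851 : sm gi N5090 = N3529 := ded_51_2 (flp_g L30545) (flp_i L30495) L43843
theorem L43853 : sm gf N5090 = N5090 := ded_45_1 (flp_g L43843) (flp_f L30489) L21251 L30489 L43843
theorem L43854 : sm gj N3523 = N5091 := rfl
theorem L43856 : sm ga N5091 = N3910 := ded_16_1 (flp_j L33879) (flp_a L30501) L43854
theorem L43858 : sm gd N5091 = N5091 := ded_37_1 (flp_j L43854) L30503 L43854
theorem L43859 : sm ge N5091 = N3562 := ded_42_1 (flp_j L30856) (flp_e L30504) L43854
theorem L43861 : sm gf N5091 = N5091 := ded_46_1 (flp_j L43854) L30508 L43854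
theorem L43862 : sm gi N5091 = N3530 := ded_53_2 (flp_j L30555) (flp_i L30506) L43854
theorem L43864 : sm gd N3524 = N5092 := rfl
theorem L43866 : sm ga N5092 = N3525 := ded_12_1 (flp_d L30517) (flp_a L30511) L43864
theorem L43868 : sm gb N5092 = N3911 := ded_20_1 (flp_d L33888) (flp_b L30513) L43864
theorem L43870 : sm gg N5092 = N5092 := ded_36_2 (flp_d L43864) L30515 L43864
theorem L43871 : sm ge N5092 = N5092 := ded_34_2 (flp_d L43864) (flp_e L30509) L21265 L30509 L43864
theorem L43872 : sm gf N3524 = N5093 := rfl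
theorem L43874 : sm ga N5093 = N3526 := ded_14_1 (flp_f L30523) (flp_a L30511) L43872
theorem L43876 : sm gb N5093 = N3912 := ded_22_1 (flp_f L33894) (flp_b L30513) L43872
theorem L43878 : sm gh N5093 = N5093 := ded_47_2 (flp_f L43872) L30516 L43872
theorem L43879 : sm ge N5093 = N3564 := ded_40_1 (flp_f L30875) (flp_e L21499) (flp_f L21266) L30509 L43872
theorem L43881 : sm gc N3525 = N5094 := rfl
theorem L43883 : sm ge N5094 = N5094 := ded_28_2 (flp_c L43881) L30522 L43881
theorem L43884 : sm gg N5094 = N5094 := ded_30_2 (flp_c L43881) L30521 L43881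
theorem L43885 : sm gb N5094 = N5094 := ded_19_1 (flp_c L43881) L30519 L21283 (flp_b L30519) L43881
theorem L43886 : sm gf N3525 = N5095 := rfl
theorem L43888 : sm gb N5095 = N3527 := ded_22_1 (flp_f L30530) (flp_b L30519) L43886
theorem L43890 : sm gd N5095 = N3526 := ded_35_1 (flp_f L30523) L30517 L43886
theorem L43892 : sm gh N3525 = N5096 := rfl
theorem L43894 : sm gb N5096 = N3528 := ded_25_1 (flp_h L30537) (flp_b L30519) L43892
theorem L43896 : sm ge N5096 = N5096 := ded_43_1 (flp_h L43892) L30522 L43892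
theorem L43897 : sm gg N5096 = N5096 := ded_50_1 (flp_h L43892) L30521 L43892
theorem L43898 : sm gd N5096 = N5096 := ded_38_1 (flp_h L43892) (flp_d L30517) L21277 L30517 L43892
theorem L43899 : sm gg N3526 = N5097 := rfl
theorem L43901 : sm gb N5097 = N3529 := ded_23_1 (flp_g L30545) (flp_b L30525) L43899
theorem L43903 : sm ge N5097 = N3568 := ded_41_1 (flp_g L30903) (flp_e L30528) L43899
theorem L43905 : sm gh N5097 = N5097 := ded_50_2 (flp_g L43899) L30527 L43899
theorem L43906 : sm gf N5097 = N5097 := ded_45_1 (flp_g L43899) (flp_f L30523) L21276 L30523 L43899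
theorem L43907 : sm ge N3527 = N5098 := rfl
theorem L43909 : sm ga N5098 = N3917 := ded_13_1 (flp_e L33930) (flp_a L30532) L43907
theorem L43911 : sm gc N5098 = N5098 := ded_28_1 (flp_e L43907) L30534 L43907
theorem L43912 : sm gd N5098 = N3569 := ded_34_1 (flp_e L30910) L21526 (flp_e L21292) (flp_d L30535) L43907
theorem L43914 : sm gf N5098 = N5098 := ded_40_2 (flp_e L43907) (flp_f L30530) L21284 L30530 L43907
theorem L43915 : sm gg N3527 = N5099 := rfl
theorem L43917 : sm ga N5099 = N3918 := ded_15_1 (flp_g L33936) (flp_a L30532) L43915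
theorem L43919 : sm gc N5099 = N5099 := ded_30_1 (flp_g L43915) L30534 L43915
theorem L43920 : sm gd N5099 = N3529 := ded_36_1 (flp_g L30545) (flp_d L30535) L43915
theorem L43922 : sm gf N5099 = N5099 := ded_45_1 (flp_g L43915) (flp_f L30530) L21282 L30530 L43915
theorem L43923 : sm gh N3527 = N5100 := rfl
theorem L43925 : sm ga N5100 = N3919 := ded_17_1 (flp_h L33942) (flp_a L30532) L43923
theorem L43927 : sm gc N5100 = N5100 := ded_32_1 (flp_h L43923) L30534 L43923
theorem L43928 : sm gf N5100 = N3528 := ded_47_1 (flp_h L30537) L30530 L43923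
theorem L43930 : sm gd N5100 = N5100 := ded_38_1 (flp_h L43923) L30535 L21291 (flp_d L30535) L43923
theorem L43931 : sm gi N3528 = N5101 := rfl
theorem L43933 : sm ga N5101 = N3920 := ded_18_1 (flp_i L33948) (flp_a L30539) L43931
theorem L43939 : sm gj N3529 = N5102 := rfl
theorem L43941 : sm ga N5102 = N3921 := ded_16_1 (flp_j L33954) (flp_a L30547) L43939
theorem L43943 : sm gc N5102 = N3530 := ded_31_1 (flp_j L30555) (flp_c L30549) L43939
theorem L43945 : sm ge N5102 = N3573 := ded_42_1 (flp_j L30946) (flp_e L30551) L43939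
theorem L43947 : sm gf N5102 = N5102 := ded_46_1 (flp_j L43939) L30554 L43939
theorem L43948 : sm gh N5102 = N5102 := ded_52_2 (flp_j L43939) L30553 L43939
theorem L43949 : sm gb N3531 = N5103 := rfl
theorem L43953 : sm gg N5103 = N5103 := ded_23_2 (flp_b L43949) L30568 L43949
theorem L43954 : sm gj N5103 = N3548 := ded_24_2 (flp_b L30730) (flp_j L30569) L43949
theorem L43959 : sm ge N3531 = N5104 := rfl
theorem L43966 : sm gj N5104 = N3549 := ded_42_2 (flp_e L30739) (flp_j L30569) L43959
theorem L43970 : sm gf N3532 = N5105 := rfl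
theorem L43976 : sm gj N5105 = N3550 := ded_46_2 (flp_f L30749) (flp_j L30581) L43970
theorem L43980 : sm ga N3533 = N5106 := rfl
theorem L43983 : sm gj N5106 = N3551 := ded_16_2 (flp_a L30757) (flp_j L30589) L43980
theorem L43985 : sm gh N5106 = N3536 := ded_17_2 (flp_a L30616) (flp_h L30591) L43980
theorem L43990 : sm ge N3533 = N5107 := rfl
theorem L43992 : sm gb N5107 = N3534 := ded_21_1 (flp_e L30594) L30586 L43990
theorem L43994 : sm gg N5107 = N5107 := ded_41_2 (flp_e L43990) L30588 L43990
theorem L43995 : sm gj N5107 = N3552 := ded_42_2 (flp_e L30766) (flp_j L30589) L43990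
theorem L43997 : sm gh N5107 = N3537 := ded_43_2 (flp_e L30626) (flp_h L30591) L43990
theorem L44000 : sm gd N3534 = N5108 := rfl
theorem L44002 : sm ga N5108 = N3929 := ded_12_1 (flp_d L34027) (flp_a L30596) L44000
theorem L44004 : sm gg N5108 = N5108 := ded_36_2 (flp_d L44000) L30600 L44000
theorem L44005 : sm gj N5108 = N3553 := ded_37_2 (flp_d L30775) (flp_j L30601) L44000
theorem L44009 : sm gf N3534 = N5109 := rfl
theorem L44013 : sm gc N5109 = N3535 := ded_29_1 (flp_f L30606) (flp_c L30598) L44009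
theorem L44015 : sm gj N5109 = N3554 := ded_46_2 (flp_f L30783) (flp_j L30601) L44009
theorem L44020 : sm gg N3535 = N5110 := rfl
theorem L44022 : sm ga N5110 = N3931 := ded_15_1 (flp_g L34043) (flp_a L30608) L44020
theorem L44024 : sm gd N5110 = N5110 := ded_36_1 (flp_g L44020) L30610 L44020
theorem L44025 : sm gh N5110 = N3540 := ded_50_2 (flp_g L30657) (flp_h L30613) L44020
theorem L44027 : sm gi N5110 = N5110 := ded_51_2 (flp_g L44020) L30615 L44020
theorem L44028 : sm gf N5110 = N5110 := ded_45_1 (flp_g L44020) (flp_f L30606) L21327 L30606 L44020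
theorem L44029 : sm ge N3536 = N5111 := rfl
theorem L44031 : sm ga N5111 = N3537 := ded_13_1 (flp_e L30626) L30616 L44029
theorem L44033 : sm gb N5111 = N3932 := ded_21_1 (flp_e L34051) (flp_b L30624) L44029
theorem L44036 : sm gj N5111 = N3556 := ded_42_2 (flp_e L30802) (flp_j L30620) L44029
theorem L44038 : sm gi N5111 = N3541 := ded_44_2 (flp_e L30666) (flp_i L30622) L44029
theorem L44040 : sm gd N3537 = N5112 := rfl
theorem L44042 : sm gb N5112 = N3538 := ded_20_1 (flp_d L30635) (flp_b L30628) L44040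
theorem L44044 : sm gg N5112 = N5112 := ded_36_2 (flp_d L44040) L30630 L44040
theorem L44045 : sm gj N5112 = N3557 := ded_37_2 (flp_d L30812) (flp_j L30631) L44040
theorem L44047 : sm gi N5112 = N3542 := ded_39_2 (flp_d L30676) (flp_i L30633) L44040
theorem L44049 : sm ge N5112 = N5112 := ded_34_2 (flp_d L44040) (flp_e L30626) L21336 L30626 L44040
theorem L44050 : sm gf N3537 = N5113 := rfl
theorem L44052 : sm gb N5113 = N3539 := ded_22_1 (flp_f L30647) (flp_b L30628) L44050
theorem L44054 : sm gj N5113 = N3558 := ded_46_2 (flp_f L30821) (flp_j L30631) L44050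
theorem L44056 : sm gi N5113 = N3543 := ded_48_2 (flp_f L30684) (flp_i L30633) L44050
theorem L44058 : sm gf N3538 = N5114 := rfl
theorem L44060 : sm ga N5114 = N3935 := ded_14_1 (flp_f L34080) (flp_a L30637) L44058
theorem L44062 : sm gc N5114 = N3616 := ded_29_1 (flp_f L31325) (flp_c L30644) L44058
theorem L44064 : sm gd N5114 = N3539 := ded_35_1 (flp_f L30647) L30635 L44058
theorem L44066 : sm gj N5114 = N3559 := ded_46_2 (flp_f L30827) (flp_j L30640) L44058
theorem L44068 : sm gi N5114 = N3544 := ded_48_2 (flp_f L30691) (flp_i L30642) L44058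
theorem L44070 : sm gh N3538 = N5115 := rfl
theorem L44072 : sm ga N5115 = N3936 := ded_17_1 (flp_h L34090) (flp_a L30637) L44070
theorem L44074 : sm gc N5115 = N3617 := ded_32_1 (flp_h L31335) (flp_c L30644) L44070
theorem L44078 : sm gj N5115 = N3560 := ded_52_1 (flp_h L30837) (flp_j L30640) L44070
theorem L44080 : sm gg N3539 = N5116 := rfl
theorem L44082 : sm ga N5116 = N3937 := ded_15_1 (flp_g L34098) (flp_a L30649) L44080
theorem L44084 : sm gc N5116 = N3540 := ded_30_1 (flp_g L30657) (flp_c L30651) L44080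
theorem L44086 : sm gi N5116 = N3546 := ded_51_2 (flp_g L30712) (flp_i L30655) L44080
theorem L44088 : sm gf N5116 = N5116 := ded_45_1 (flp_g L44080) (flp_f L30647) L21348 L30647 L44080
theorem L44089 : sm gj N3540 = N5117 := rfl
theorem L44091 : sm ga N5117 = N3938 := ded_16_1 (flp_j L34105) (flp_a L30659) L44089
theorem L44093 : sm gd N5117 = N3619 := ded_37_1 (flp_j L31355) (flp_d L30661) L44089
theorem L44095 : sm gf N5117 = N5117 := ded_46_1 (flp_j L44089) L30665 L44089
theorem L44096 : sm gi N5117 = N3547 := ded_53_2 (flp_j L30720) (flp_i L30663) L44089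
theorem L44098 : sm gg N5117 = N3562 := ded_49_1 (flp_j L30856) (flp_g L21489) (flp_j L21359) L30657 L44089
theorem L44100 : sm gd N3541 = N5118 := rfl
theorem L44102 : sm ga N5118 = N3542 := ded_12_1 (flp_d L30676) (flp_a L30668) L44100
theorem L44104 : sm gb N5118 = N3939 := ded_20_1 (flp_d L34115) (flp_b L30670) L44100
theorem L44106 : sm gg N5118 = N5118 := ded_36_2 (flp_d L44100) L30672 L44100
theorem L44107 : sm gj N5118 = N3563 := ded_37_2 (flp_d L30866) (flp_j L30673) L44100
theorem L44109 : sm ge N5118 = N5118 := ded_34_2 (flp_d L44100) (flp_e L30666) L21365 L30666 L44100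
theorem L44110 : sm gf N3541 = N5119 := rfl
theorem L44112 : sm ga N5119 = N3543 := ded_14_1 (flp_f L30684) (flp_a L30668) L44110
theorem L44114 : sm gb N5119 = N3940 := ded_22_1 (flp_f L34123) (flp_b L30670) L44110
theorem L44116 : sm gj N5119 = N3564 := ded_46_2 (flp_f L30875) (flp_j L30673) L44110
theorem L44118 : sm gh N5119 = N5119 := ded_47_2 (flp_f L44110) L30675 L44110
theorem L44119 : sm gc N3542 = N5120 := rfl
theorem L44121 : sm ge N5120 = N5120 := ded_28_2 (flp_c L44119) L30683 L44119
theorem L44122 : sm gg N5120 = N5120 := ded_30_2 (flp_c L44119) L30680 L44119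
theorem L44123 : sm gj N5120 = N3565 := ded_31_2 (flp_c L30882) (flp_j L30681) L44119
theorem L44125 : sm gb N5120 = N3622 := ded_19_1 (flp_c L31387) L21845 (flp_c L21387) (flp_b L30678) L44119
theorem L44127 : sm gf N3542 = N5121 := rfl
theorem L44129 : sm gb N5121 = N3544 := ded_22_1 (flp_f L30691) (flp_b L30678) L44127
theorem L44131 : sm gd N5121 = N3543 := ded_35_1 (flp_f L30684) L30676 L44127
theorem L44133 : sm gj N5121 = N3566 := ded_46_2 (flp_f L30889) (flp_j L30681) L44127
theorem L44135 : sm gh N3542 = N5122 := rfl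
theorem L44137 : sm gb N5122 = N3545 := ded_25_1 (flp_h L30701) (flp_b L30678) L44135
theorem L44139 : sm ge N5122 = N5122 := ded_43_1 (flp_h L44135) L30683 L44135
theorem L44140 : sm gg N5122 = N5122 := ded_50_1 (flp_h L44135) L30680 L44135
theorem L44141 : sm gj N5122 = N3567 := ded_52_1 (flp_h L30895) (flp_j L30681) L44135
theorem L44143 : sm gd N5122 = N5122 := ded_38_1 (flp_h L44135) (flp_d L30676) L21379 L30676 L44135
theorem L44144 : sm gg N3543 = N5123 := rfl
theorem L44146 : sm gb N5123 = N3546 := ded_23_1 (flp_g L30712) (flp_b L30686) L44144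
theorem L44148 : sm gh N5123 = N5123 := ded_50_2 (flp_g L44144) L30690 L44144
theorem L44149 : sm gf N5123 = N5123 := ded_45_1 (flp_g L44144) (flp_f L30684) L21376 L30684 L44144
theorem L44150 : sm ge N3544 = N5124 := rfl
theorem L44152 : sm ga N5124 = N3945 := ded_13_1 (flp_e L34164) (flp_a L30693) L44150
theorem L44154 : sm gc N5124 = N3626 := ded_28_1 (flp_e L31419) (flp_c L30695) L44150
theorem L44156 : sm gj N5124 = N3569 := ded_42_2 (flp_e L30910) (flp_j L30699) L44150
theorem L44158 : sm gf N5124 = N5124 := ded_40_2 (flp_e L44150) (flp_f L30691) L21389 L30691 L44150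
theorem L44159 : sm gg N3544 = N5125 := rfl
theorem L44161 : sm ga N5125 = N3946 := ded_15_1 (flp_g L34171) (flp_a L30693) L44159
theorem L44163 : sm gc N5125 = N3627 := ded_30_1 (flp_g L31427) (flp_c L30695) L44159
theorem L44165 : sm gd N5125 = N3546 := ded_36_1 (flp_g L30712) (flp_d L30697) L44159
theorem L44167 : sm gf N5125 = N5125 := ded_45_1 (flp_g L44159) (flp_f L30691) L21384 L30691 L44159
theorem L44168 : sm gh N3544 = N5126 := rfl
theorem L44170 : sm ga N5126 = N3947 := ded_17_1 (flp_h L34178) (flp_a L30693) L44168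
theorem L44172 : sm gc N5126 = N3628 := ded_32_1 (flp_h L31434) (flp_c L30695) L44168
theorem L44174 : sm gf N5126 = N3545 := ded_47_1 (flp_h L30701) L30691 L44168
theorem L44176 : sm gj N5126 = N3571 := ded_52_1 (flp_h L30927) (flp_j L30699) L44168
theorem L44178 : sm gd N5126 = N5126 := ded_38_1 (flp_h L44168) L30697 L21398 (flp_d L30697) L44168
theorem L44179 : sm gi N3545 = N5127 := rfl
theorem L44181 : sm ga N5127 = N3948 := ded_18_1 (flp_i L34187) (flp_a L30703) L44179
theorem L44183 : sm gc N5127 = N3629 := ded_33_1 (flp_i L31444) (flp_c L30705) L44179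
theorem L44185 : sm gd N5127 = N5127 := ded_39_1 (flp_i L44179) L30711 L44179
theorem L44186 : sm ge N5127 = N5127 := ded_44_1 (flp_i L44179) L30707 L44179
theorem L44187 : sm gg N5127 = N5127 := ded_51_1 (flp_i L44179) L30708 L44179
theorem L44188 : sm gj N5127 = N3572 := ded_53_1 (flp_i L30936) (flp_j L30709) L44179
theorem L44190 : sm gj N3546 = N5128 := rfl
theorem L44192 : sm ga N5128 = N3949 := ded_16_1 (flp_j L34196) (flp_a L30714) L44190
theorem L44194 : sm gc N5128 = N3547 := ded_31_1 (flp_j L30720) (flp_c L30716) L44190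
theorem L44196 : sm gf N5128 = N5128 := ded_46_1 (flp_j L44190) L30719 L44190
theorem L44197 : sm gh N5128 = N5128 := ded_52_2 (flp_j L44190) L30718 L44190
theorem L44198 : sm gg N5128 = N3573 := ded_49_1 (flp_j L30946) (flp_g L21538) (flp_j L21396) L30712 L44190
theorem L44200 : sm ga N3548 = N5129 := rfl
theorem L44203 : sm gd N5129 = N3551 := ded_12_2 (flp_a L30757) (flp_d L30732) L44200
theorem L44211 : sm ge N3548 = N5130 := rfl
theorem L44216 : sm gg N5130 = N3575 := ded_41_2 (flp_e L30966) (flp_g L30734) L44211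
theorem L44220 : sm gd N3549 = N5131 := rfl
theorem L44222 : sm ga N5131 = N3955 := ded_12_1 (flp_d L34246) (flp_a L30741) L44220
theorem L44224 : sm gg N5131 = N3576 := ded_36_2 (flp_d L30974) (flp_g L30745) L44220
theorem L44228 : sm ge N5131 = N3553 := ded_34_2 (flp_d L30775) (flp_e L21434) (flp_d L21415) L30739 L44220
theorem L44238 : sm gg N3550 = N5133 := rfl
theorem L44246 : sm gf N5133 = N3578 := ded_45_1 (flp_g L30993) (flp_f L21574) (flp_g L21422) L30749 L44238
theorem L44248 : sm ge N3551 = N5134 := rfl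
theorem L44250 : sm ga N5134 = N3552 := ded_13_1 (flp_e L30766) L30757 L44248
theorem L44252 : sm gb N5134 = N3958 := ded_21_1 (flp_e L34267) (flp_b L30764) L44248
theorem L44254 : sm gg N5134 = N3579 := ded_41_2 (flp_e L31002) (flp_g L30759) L44248
theorem L44256 : sm gh N5134 = N3556 := ded_43_2 (flp_e L30802) (flp_h L30761) L44248
theorem L44259 : sm gd N3552 = N5135 := rfl
theorem L44263 : sm gg N5135 = N3580 := ded_36_2 (flp_d L31012) (flp_g L30770) L44259
theorem L44266 : sm gf N3552 = N5136 := rfl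
theorem L44270 : sm gh N5136 = N3558 := ded_47_2 (flp_f L30821) (flp_h L30772) L44266
theorem L44273 : sm gf N3553 = N5137 := rfl
theorem L44278 : sm gd N5137 = N3554 := ded_35_1 (flp_f L30783) L30775 L44273
theorem L44281 : sm gh N3553 = N5138 := rfl
theorem L44286 : sm gg N5138 = N3583 := ded_50_1 (flp_h L31036) (flp_g L30779) L44281
theorem L44290 : sm gg N3554 = N5139 := rfl
theorem L44296 : sm gh N5139 = N3561 := ded_50_2 (flp_g L30846) (flp_h L30789) L44290
theorem L44301 : sm gj N3555 = N5140 := rfl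
theorem L44303 : sm ga N5140 = N3964 := ded_16_1 (flp_j L34314) (flp_a L30794) L44301
theorem L44305 : sm gd N5140 = N5140 := ded_37_1 (flp_j L44301) L30796 L44301
theorem L44306 : sm gf N5140 = N3585 := ded_46_1 (flp_j L31054) (flp_f L30800) L44301
theorem L44308 : sm gh N5140 = N3562 := ded_52_2 (flp_j L30856) (flp_h L30797) L44301
theorem L44310 : sm gi N5140 = N5140 := ded_53_2 (flp_j L44301) L30799 L44301
theorem L44311 : sm gd N3556 = N5141 := rfl
theorem L44313 : sm ga N5141 = N3557 := ded_12_1 (flp_d L30812) (flp_a L30804) L44311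
theorem L44315 : sm gb N5141 = N3965 := ded_20_1 (flp_d L34323) (flp_b L30806) L44311
theorem L44317 : sm gg N5141 = N3586 := ded_36_2 (flp_d L31064) (flp_g L30808) L44311
theorem L44319 : sm gi N5141 = N3563 := ded_39_2 (flp_d L30866) (flp_i L30810) L44311
theorem L44322 : sm gf N3556 = N5142 := rfl
theorem L44324 : sm ga N5142 = N3558 := ded_14_1 (flp_f L30821) (flp_a L30804) L44322
theorem L44326 : sm gb N5142 = N3966 := ded_22_1 (flp_f L34332) (flp_b L30806) L44322
theorem L44328 : sm gi N5142 = N3564 := ded_48_2 (flp_f L30875) (flp_i L30810) L44322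
theorem L44330 : sm gc N3557 = N5143 := rfl
theorem L44332 : sm ge N5143 = N5143 := ded_28_2 (flp_c L44330) L30820 L44330
theorem L44333 : sm gg N5143 = N3588 := ded_30_2 (flp_c L31084) (flp_g L30816) L44330
theorem L44335 : sm gi N5143 = N3565 := ded_33_2 (flp_c L30882) (flp_i L30818) L44330
theorem L44337 : sm gb N5143 = N3633 := ded_19_1 (flp_c L31487) L21911 (flp_c L21478) (flp_b L30814) L44330
theorem L44339 : sm gf N3557 = N5144 := rfl
theorem L44341 : sm gb N5144 = N3559 := ded_22_1 (flp_f L30827) (flp_b L30814) L44339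
theorem L44343 : sm gd N5144 = N3558 := ded_35_1 (flp_f L30821) L30812 L44339
theorem L44345 : sm gi N5144 = N3566 := ded_48_2 (flp_f L30889) (flp_i L30818) L44339
theorem L44347 : sm gh N3557 = N5145 := rfl
theorem L44354 : sm gg N3558 = N5146 := rfl
theorem L44356 : sm gb N5146 = N3561 := ded_23_1 (flp_g L30846) (flp_b L30823) L44354
theorem L44358 : sm gi N5146 = N3568 := ded_51_2 (flp_g L30903) (flp_i L30825) L44354
theorem L44360 : sm gf N5146 = N3591 := ded_45_1 (flp_g L31107) (flp_f L21645) (flp_g L21466) L30821 L44354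
theorem L44362 : sm ge N3559 = N5147 := rfl
theorem L44364 : sm ga N5147 = N3971 := ded_13_1 (flp_e L34373) (flp_a L30829) L44362
theorem L44366 : sm gc N5147 = N3637 := ded_28_1 (flp_e L31520) (flp_c L30831) L44362
theorem L44368 : sm gi N5147 = N3569 := ded_44_2 (flp_e L30910) (flp_i L30835) L44362
theorem L44370 : sm gf N5147 = N5147 := ded_40_2 (flp_e L44362) (flp_f L30827) L21480 L30827 L44362
theorem L44371 : sm gg N3559 = N5148 := rfl
theorem L44373 : sm ga N5148 = N3972 := ded_15_1 (flp_g L34380) (flp_a L30829) L44371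
theorem L44375 : sm gc N5148 = N3638 := ded_30_1 (flp_g L31528) (flp_c L30831) L44371
theorem L44377 : sm gd N5148 = N3561 := ded_36_1 (flp_g L30846) (flp_d L30833) L44371
theorem L44379 : sm gi N5148 = N3570 := ded_51_2 (flp_g L30917) (flp_i L30835) L44371
theorem L44381 : sm gf N5148 = N3593 := ded_45_1 (flp_g L31125) (flp_f L21653) (flp_g L21474) L30827 L44371
theorem L44383 : sm gh N3559 = N5149 := rfl
theorem L44389 : sm gf N5149 = N3560 := ded_47_1 (flp_h L30837) L30827 L44383
theorem L44391 : sm gi N3560 = N5150 := rfl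
theorem L44393 : sm ga N5150 = N3974 := ded_18_1 (flp_i L34396) (flp_a L30839) L44391
theorem L44395 : sm gc N5150 = N3640 := ded_33_1 (flp_i L31545) (flp_c L30841) L44391
theorem L44398 : sm gg N5150 = N3595 := ded_51_1 (flp_i L31144) (flp_g L30844) L44391
theorem L44400 : sm gh N5150 = N3572 := ded_54_1 (flp_i L30936) (flp_h L21528) (flp_i L21476) L30837 L44391
theorem L44402 : sm gj N3561 = N5151 := rfl
theorem L44404 : sm ga N5151 = N3975 := ded_16_1 (flp_j L34405) (flp_a L30848) L44402
theorem L44406 : sm gc N5151 = N3562 := ded_31_1 (flp_j L30856) (flp_c L30850) L44402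
theorem L44408 : sm gf N5151 = N3596 := ded_46_1 (flp_j L31154) (flp_f L30854) L44402
theorem L44410 : sm gi N5151 = N3573 := ded_53_2 (flp_j L30946) (flp_i L30852) L44402
theorem L44412 : sm gc N3563 = N5152 := rfl
theorem L44414 : sm ga N5152 = N3565 := ded_11_1 (flp_c L30882) (flp_a L30868) L44412
theorem L44416 : sm ge N5152 = N5152 := ded_28_2 (flp_c L44412) L30874 L44412
theorem L44417 : sm gg N5152 = N3597 := ded_30_2 (flp_c L31164) (flp_g L30872) L44412
theorem L44419 : sm gf N3563 = N5153 := rfl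
theorem L44421 : sm ga N5153 = N3566 := ded_14_1 (flp_f L30889) (flp_a L30868) L44419
theorem L44423 : sm gb N5153 = N3977 := ded_22_1 (flp_f L34421) (flp_b L30870) L44419
theorem L44425 : sm gd N5153 = N3564 := ded_35_1 (flp_f L30875) L30866 L44419
theorem L44427 : sm gh N3563 = N5154 := rfl
theorem L44429 : sm ga N5154 = N3567 := ded_17_1 (flp_h L30895) (flp_a L30868) L44427
theorem L44433 : sm ge N5154 = N5154 := ded_43_1 (flp_h L44427) L30874 L44427
theorem L44434 : sm gg N5154 = N3599 := ded_50_1 (flp_h L31179) (flp_g L30872) L44427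
theorem L44436 : sm gd N5154 = N5154 := ded_38_1 (flp_h L44427) (flp_d L30866) L21507 L30866 L44427
theorem L44437 : sm gg N3564 = N5155 := rfl
theorem L44439 : sm ga N5155 = N3568 := ded_15_1 (flp_g L30903) (flp_a L30877) L44437
theorem L44441 : sm gb N5155 = N3979 := ded_23_1 (flp_g L34435) (flp_b L30879) L44437
theorem L44443 : sm gh N5155 = N5155 := ded_50_2 (flp_g L44437) L30881 L44437
theorem L44444 : sm gf N5155 = N3600 := ded_45_1 (flp_g L31188) (flp_f L21699) (flp_g L21505) L30875 L44437
theorem L44446 : sm gf N3565 = N5156 := rfl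
theorem L44448 : sm gb N5156 = N3646 := ded_22_1 (flp_f L31604) (flp_b L30887) L44446
theorem L44450 : sm gc N5156 = N3566 := ded_29_1 (flp_f L30889) L30882 L44446
theorem L44452 : sm gh N3565 = N5157 := rfl
theorem L44454 : sm gb N5157 = N3647 := ded_25_1 (flp_h L31608) (flp_b L30887) L44452
theorem L44456 : sm gc N5157 = N3567 := ded_32_1 (flp_h L30895) L30882 L44452
theorem L44458 : sm ge N5157 = N5157 := ded_43_1 (flp_h L44452) L30884 L44452
theorem L44459 : sm gg N5157 = N3602 := ded_50_1 (flp_h L31203) (flp_g L30885) L44452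
theorem L44461 : sm ge N3566 = N5158 := rfl
theorem L44463 : sm gb N5158 = N3569 := ded_21_1 (flp_e L30910) (flp_b L30891) L44461
theorem L44465 : sm gf N5158 = N5158 := ded_40_2 (flp_e L44461) (flp_f L30889) L21514 L30889 L44461
theorem L44466 : sm gg N3566 = N5159 := rfl
theorem L44468 : sm gb N5159 = N3570 := ded_23_1 (flp_g L30917) (flp_b L30891) L44466
theorem L44470 : sm gd N5159 = N3568 := ded_36_1 (flp_g L30903) (flp_d L30893) L44466
theorem L44472 : sm gf N5159 = N3604 := ded_45_1 (flp_g L31218) (flp_f L21714) (flp_g L21512) L30889 L44466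
theorem L44474 : sm gh N3566 = N5160 := rfl
theorem L44476 : sm gb N5160 = N3571 := ded_25_1 (flp_h L30927) (flp_b L30891) L44474
theorem L44478 : sm gf N5160 = N3567 := ded_47_1 (flp_h L30895) L30889 L44474
theorem L44480 : sm gd N5160 = N5160 := ded_38_1 (flp_h L44474) L30893 L21519 (flp_d L30893) L44474
theorem L44481 : sm gi N3567 = N5161 := rfl
theorem L44483 : sm gb N5161 = N3572 := ded_26_1 (flp_i L30936) (flp_b L30897) L44481
theorem L44485 : sm gd N5161 = N5161 := ded_39_1 (flp_i L44481) L30902 L44481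
theorem L44486 : sm ge N5161 = N5161 := ded_44_1 (flp_i L44481) L30899 L44481
theorem L44487 : sm gg N5161 = N3606 := ded_51_1 (flp_i L31232) (flp_g L30900) L44481
theorem L44489 : sm gj N3568 = N5162 := rfl
theorem L44491 : sm gb N5162 = N3573 := ded_24_1 (flp_j L30946) (flp_b L30905) L44489
theorem L44493 : sm gf N5162 = N3607 := ded_46_1 (flp_j L31239) (flp_f L30908) L44489
theorem L44495 : sm gh N5162 = N5162 := ded_52_2 (flp_j L44489) L30907 L44489
theorem L44496 : sm gg N3569 = N5163 := rfl
theorem L44498 : sm ga N5163 = N3987 := ded_15_1 (flp_g L34495) (flp_a L30912) L44496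
theorem L44500 : sm gc N5163 = N3653 := ded_30_1 (flp_g L31655) (flp_c L30914) L44496
theorem L44502 : sm ge N5163 = N3570 := ded_41_1 (flp_g L30917) L30910 L44496
theorem L44504 : sm gh N3569 = N5164 := rfl
theorem L44506 : sm ga N5164 = N3988 := ded_17_1 (flp_h L34501) (flp_a L30912) L44504
theorem L44508 : sm gc N5164 = N3654 := ded_32_1 (flp_h L31662) (flp_c L30914) L44504
theorem L44510 : sm ge N5164 = N3571 := ded_43_1 (flp_h L30927) L30910 L44504
theorem L44512 : sm gf N5164 = N5164 := ded_47_1 (flp_h L44504) L30916 L44504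
theorem L44513 : sm gj N3570 = N5165 := rfl
theorem L44515 : sm ga N5165 = N3989 := ded_16_1 (flp_j L34508) (flp_a L30919) L44513
theorem L44517 : sm gc N5165 = N3655 := ded_31_1 (flp_j L31669) (flp_c L30921) L44513
theorem L44519 : sm gd N5165 = N3573 := ded_37_1 (flp_j L30946) (flp_d L30923) L44513
theorem L44521 : sm gf N5165 = N3610 := ded_46_1 (flp_j L31265) (flp_f L30925) L44513
theorem L44523 : sm gh N3570 = N5166 := rfl
theorem L44525 : sm ga N5166 = N3990 := ded_17_1 (flp_h L34516) (flp_a L30919) L44523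
theorem L44527 : sm gc N5166 = N3656 := ded_32_1 (flp_h L31677) (flp_c L30921) L44523
theorem L44529 : sm gf N5166 = N3611 := ded_47_1 (flp_h L31274) (flp_f L30925) L44523
theorem L44531 : sm gg N5166 = N3571 := ded_50_1 (flp_h L30927) L30917 L44523
theorem L44533 : sm gd N5166 = N5166 := ded_38_1 (flp_h L44523) L30923 L21544 (flp_d L30923) L44523
theorem L44534 : sm gi N3571 = N5167 := rfl
theorem L44536 : sm ga N5167 = N3991 := ded_18_1 (flp_i L34525) (flp_a L30929) L44534
theorem L44538 : sm gc N5167 = N3657 := ded_33_1 (flp_i L31687) (flp_c L30931) L44534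
theorem L44540 : sm gd N5167 = N5167 := ded_39_1 (flp_i L44534) L30935 L44534
theorem L44541 : sm gf N5167 = N3572 := ded_48_1 (flp_i L30936) (flp_f L30933) L44534
theorem L44543 : sm ge N3574 = N5168 := rfl
theorem L44545 : sm ga N5168 = N3575 := ded_13_1 (flp_e L30966) L30955 L44543
theorem L44547 : sm gb N5168 = N3997 := ded_21_1 (flp_e L34576) (flp_b L30964) L44543
theorem L44553 : sm gd N3575 = N5169 := rfl
theorem L44555 : sm gb N5169 = N3576 := ded_20_1 (flp_d L30974) (flp_b L30968) L44553
theorem L44559 : sm ge N5169 = N3580 := ded_34_2 (flp_d L31012) (flp_e L21593) (flp_d L21558) L30966 L44553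
theorem L44561 : sm gf N3575 = N5170 := rfl
theorem L44563 : sm gb N5170 = N3577 := ded_22_1 (flp_f L30983) (flp_b L30968) L44561
theorem L44570 : sm gf N3576 = N5171 := rfl
theorem L44572 : sm ga N5171 = N4000 := ded_14_1 (flp_f L34599) (flp_a L30976) L44570
theorem L44579 : sm gh N3576 = N5172 := rfl
theorem L44584 : sm ge N5172 = N3583 := ded_43_1 (flp_h L31036) (flp_e L30981) L44579
theorem L44597 : sm gj N3578 = N5174 := rfl
theorem L44599 : sm ga N5174 = N4003 := ded_16_1 (flp_j L34620) (flp_a L30995) L44597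
theorem L44607 : sm gd N3579 = N5175 := rfl
theorem L44609 : sm ga N5175 = N3580 := ded_12_1 (flp_d L31012) (flp_a L31004) L44607
theorem L44611 : sm gb N5175 = N4004 := ded_20_1 (flp_d L34627) (flp_b L31006) L44607
theorem L44626 : sm gc N3580 = N5177 := rfl
theorem L44631 : sm gf N3580 = N5178 := rfl
theorem L44633 : sm gb N5178 = N3582 := ded_22_1 (flp_f L31027) (flp_b L31014) L44631
theorem L44635 : sm gd N5178 = N3581 := ded_35_1 (flp_f L31018) L31012 L44631
theorem L44639 : sm gh N3580 = N5179 := rfl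
theorem L44644 : sm gd N5179 = N3590 := ded_38_1 (flp_h L31101) (flp_d L21637) (flp_h L21598) L31012 L44639
theorem L44646 : sm gg N3581 = N5180 := rfl
theorem L44648 : sm gb N5180 = N3584 := ded_23_1 (flp_g L31044) (flp_b L31020) L44646
theorem L44651 : sm gh N5180 = N3591 := ded_50_2 (flp_g L31107) (flp_h L31023) L44646
theorem L44654 : sm ge N3582 = N5181 := rfl
theorem L44656 : sm ga N5181 = N4010 := ded_13_1 (flp_e L34673) (flp_a L31029) L44654
theorem L44658 : sm gc N5181 = N5181 := ded_28_1 (flp_e L44654) L31031 L44654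
theorem L44662 : sm gg N3582 = N5182 := rfl
theorem L44667 : sm gd N5182 = N3584 := ded_36_1 (flp_g L31044) (flp_d L31032) L44662
theorem L44670 : sm gh N3582 = N5183 := rfl
theorem L44678 : sm gd N5183 = N3594 := ded_38_1 (flp_h L31135) L21659 (flp_h L21615) (flp_d L31032) L44670
theorem L44689 : sm gj N3584 = N5185 := rfl
theorem L44696 : sm gh N5185 = N3596 := ded_52_2 (flp_j L31154) (flp_h L31051) L44689
theorem L44700 : sm gc N3586 = N5186 := rfl
theorem L44702 : sm ga N5186 = N3588 := ded_11_1 (flp_c L31084) (flp_a L31066) L44700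
theorem L44706 : sm gi N5186 = N3597 := ded_33_2 (flp_c L31164) (flp_i L31071) L44700
theorem L44708 : sm gf N3586 = N5187 := rfl
theorem L44710 : sm ga N5187 = N3589 := ded_14_1 (flp_f L31092) (flp_a L31066) L44708
theorem L44712 : sm gb N5187 = N4016 := ded_22_1 (flp_f L34718) (flp_b L31068) L44708
theorem L44714 : sm gd N5187 = N3587 := ded_35_1 (flp_f L31074) L31064 L44708
theorem L44717 : sm gi N5187 = N3598 := ded_48_2 (flp_f L31170) (flp_i L31071) L44708
theorem L44719 : sm gh N3586 = N5188 := rfl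
theorem L44727 : sm gg N3587 = N5189 := rfl
theorem L44729 : sm ga N5189 = N3591 := ded_15_1 (flp_g L31107) (flp_a L31076) L44727
theorem L44734 : sm gi N5189 = N3600 := ded_51_2 (flp_g L31188) (flp_i L31081) L44727
theorem L44736 : sm gf N3588 = N5190 := rfl
theorem L44738 : sm gb N5190 = N3662 := ded_22_1 (flp_f L31734) (flp_b L31090) L44736
theorem L44740 : sm gc N5190 = N3589 := ded_29_1 (flp_f L31092) L31084 L44736
theorem L44742 : sm gj N5190 = N5190 := ded_46_2 (flp_f L44736) L31087 L44736
theorem L44743 : sm gi N5190 = N3601 := ded_48_2 (flp_f L31196) (flp_i L31088) L44736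
theorem L44745 : sm gh N3588 = N5191 := rfl
theorem L44747 : sm gb N5191 = N3663 := ded_25_1 (flp_h L31741) (flp_b L31090) L44745
theorem L44749 : sm gc N5191 = N3590 := ded_32_1 (flp_h L31101) L31084 L44745
theorem L44753 : sm ge N3589 = N5192 := rfl
theorem L44755 : sm gb N5192 = N3592 := ded_21_1 (flp_e L31114) (flp_b L31094) L44753
theorem L44757 : sm gj N5192 = N5192 := ded_42_2 (flp_e L44753) L31098 L44753
theorem L44758 : sm gi N5192 = N3603 := ded_44_2 (flp_e L31211) (flp_i L31099) L44753
theorem L44760 : sm gd N5192 = N5192 := ded_34_1 (flp_e L44753) L31096 L21652 (flp_d L31096) L44753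
theorem L44761 : sm gf N5192 = N5192 := ded_40_2 (flp_e L44753) (flp_f L31092) L21644 L31092 L44753
theorem L44762 : sm gg N3589 = N5193 := rfl
theorem L44764 : sm gb N5193 = N3593 := ded_23_1 (flp_g L31125) (flp_b L31094) L44762
theorem L44766 : sm gd N5193 = N3591 := ded_36_1 (flp_g L31107) (flp_d L31096) L44762
theorem L44768 : sm gi N5193 = N3604 := ded_51_2 (flp_g L31218) (flp_i L31099) L44762
theorem L44770 : sm gh N3589 = N5194 := rfl
theorem L44772 : sm gb N5194 = N3594 := ded_25_1 (flp_h L31135) (flp_b L31094) L44770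
theorem L44777 : sm gi N3590 = N5195 := rfl
theorem L44779 : sm gb N5195 = N3595 := ded_26_1 (flp_i L31144) (flp_b L31103) L44777
theorem L44783 : sm gh N5195 = N3606 := ded_54_1 (flp_i L31232) (flp_h L21721) (flp_i L21642) L31101 L44777
theorem L44785 : sm gj N3591 = N5196 := rfl
theorem L44787 : sm gb N5196 = N3596 := ded_24_1 (flp_j L31154) (flp_b L31109) L44785
theorem L44789 : sm ge N5196 = N5196 := ded_42_1 (flp_j L44785) L31111 L44785
theorem L44790 : sm gi N5196 = N3607 := ded_53_2 (flp_j L31239) (flp_i L31112) L44785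
theorem L44792 : sm gg N5196 = N5196 := ded_49_1 (flp_j L44785) (flp_g L31107) L21649 L31107 L44785
theorem L44793 : sm gg N3592 = N5197 := rfl
theorem L44795 : sm ga N5197 = N4026 := ded_15_1 (flp_g L34800) (flp_a L31116) L44793
theorem L44797 : sm gc N5197 = N3669 := ded_30_1 (flp_g L31792) (flp_c L31118) L44793
theorem L44799 : sm gd N5197 = N5197 := ded_36_1 (flp_g L44793) L31123 L44793
theorem L44800 : sm ge N5197 = N3593 := ded_41_1 (flp_g L31125) L31114 L44793
theorem L44802 : sm gi N5197 = N3608 := ded_51_2 (flp_g L31246) (flp_i L31121) L44793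
theorem L44804 : sm gh N3592 = N5198 := rfl
theorem L44806 : sm ga N5198 = N4027 := ded_17_1 (flp_h L34809) (flp_a L31116) L44804
theorem L44808 : sm gc N5198 = N3670 := ded_32_1 (flp_h L31802) (flp_c L31118) L44804
theorem L44810 : sm ge N5198 = N3594 := ded_43_1 (flp_h L31135) L31114 L44804
theorem L44814 : sm gj N3593 = N5199 := rfl
theorem L44816 : sm ga N5199 = N4028 := ded_16_1 (flp_j L34817) (flp_a L31127) L44814
theorem L44818 : sm gc N5199 = N3671 := ded_31_1 (flp_j L31810) (flp_c L31129) L44814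
theorem L44820 : sm gd N5199 = N3596 := ded_37_1 (flp_j L31154) (flp_d L31131) L44814
theorem L44822 : sm gi N5199 = N3610 := ded_53_2 (flp_j L31265) (flp_i L31133) L44814
theorem L44824 : sm gg N5199 = N5199 := ded_49_1 (flp_j L44814) (flp_g L31125) L21661 L31125 L44814
theorem L44825 : sm gh N3593 = N5200 := rfl
theorem L44829 : sm gc N5200 = N3672 := ded_32_1 (flp_h L31819) (flp_c L31129) L44825
theorem L44831 : sm gg N5200 = N3594 := ded_50_1 (flp_h L31135) L31125 L44825
theorem L44833 : sm gi N3594 = N5201 := rfl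
theorem L44837 : sm gc N5201 = N3673 := ded_33_1 (flp_i L31826) (flp_c L31139) L44833
theorem L44839 : sm gf N5201 = N3595 := ded_48_1 (flp_i L31144) (flp_f L31141) L44833
theorem L44844 : sm gb N3597 = N5202 := rfl
theorem L44846 : sm ge N5202 = N5202 := ded_21_2 (flp_b L44844) L31168 L44844
theorem L44847 : sm gj N5202 = N5202 := ded_24_2 (flp_b L44844) L31169 L44844
theorem L44848 : sm ga N5202 = N3674 := ded_10_1 (flp_b L31836) L22155 (flp_b L21712) (flp_a L31166) L44844
theorem L44850 : sm gc N5202 = N4031 := ded_19_2 (flp_b L34841) (flp_c L24251) (flp_b L21695) L31164 L44844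
theorem L44852 : sm gf N3597 = N5203 := rfl
theorem L44854 : sm ga N5203 = N3601 := ded_14_1 (flp_f L31196) (flp_a L31166) L44852
theorem L44856 : sm gc N5203 = N3598 := ded_29_1 (flp_f L31170) L31164 L44852
theorem L44858 : sm gj N5203 = N5203 := ded_46_2 (flp_f L44852) L31169 L44852
theorem L44859 : sm gh N3597 = N5204 := rfl
theorem L44861 : sm ga N5204 = N3602 := ded_17_1 (flp_h L31203) (flp_a L31166) L44859
theorem L44863 : sm gc N5204 = N3599 := ded_32_1 (flp_h L31179) L31164 L44859
theorem L44865 : sm ge N5204 = N5204 := ded_43_1 (flp_h L44859) L31168 L44859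
theorem L44866 : sm gj N5204 = N5204 := ded_52_1 (flp_h L44859) L31169 L44859
theorem L44867 : sm ge N3598 = N5205 := rfl
theorem L44869 : sm ga N5205 = N3603 := ded_13_1 (flp_e L31211) (flp_a L31172) L44867
theorem L44871 : sm gb N5205 = N4034 := ded_21_1 (flp_e L34864) (flp_b L31174) L44867
theorem L44873 : sm gj N5205 = N5205 := ded_42_2 (flp_e L44867) L31178 L44867
theorem L44874 : sm gd N5205 = N5205 := ded_34_1 (flp_e L44867) L31176 L21707 (flp_d L31176) L44867
theorem L44875 : sm gf N5205 = N5205 := ded_40_2 (flp_e L44867) (flp_f L31170) L21698 L31170 L44867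
theorem L44876 : sm gg N3598 = N5206 := rfl
theorem L44878 : sm ga N5206 = N3604 := ded_15_1 (flp_g L31218) (flp_a L31172) L44876
theorem L44880 : sm gb N5206 = N4035 := ded_23_1 (flp_g L34871) (flp_b L31174) L44876
theorem L44882 : sm gd N5206 = N3600 := ded_36_1 (flp_g L31188) (flp_d L31176) L44876
theorem L44884 : sm gh N3598 = N5207 := rfl
theorem L44886 : sm ga N5207 = N3605 := ded_17_1 (flp_h L31224) (flp_a L31172) L44884
theorem L44888 : sm gb N5207 = N4036 := ded_25_1 (flp_h L34877) (flp_b L31174) L44884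
theorem L44890 : sm gf N5207 = N3599 := ded_47_1 (flp_h L31179) L31170 L44884
theorem L44892 : sm gj N5207 = N5207 := ded_52_1 (flp_h L44884) L31178 L44884
theorem L44893 : sm gd N5207 = N5207 := ded_38_1 (flp_h L44884) L31176 L21706 (flp_d L31176) L44884
theorem L44903 : sm gj N3600 = N5209 := rfl
theorem L44905 : sm ga N5209 = N3607 := ded_16_1 (flp_j L31239) (flp_a L31190) L44903
theorem L44907 : sm gb N5209 = N4038 := ded_24_1 (flp_j L34892) (flp_b L31192) L44903
theorem L44909 : sm ge N5209 = N5209 := ded_42_1 (flp_j L44903) L31194 L44903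
theorem L44910 : sm gh N5209 = N5209 := ded_52_2 (flp_j L44903) L31195 L44903
theorem L44911 : sm gg N5209 = N5209 := ded_49_1 (flp_j L44903) (flp_g L31188) L21705 L31188 L44903
theorem L44912 : sm ge N3601 = N5210 := rfl
theorem L44914 : sm gb N5210 = N3682 := ded_21_1 (flp_e L31907) (flp_b L31198) L44912
theorem L44916 : sm gc N5210 = N3603 := ded_28_1 (flp_e L31211) (flp_c L31200) L44912
theorem L44918 : sm gj N5210 = N5210 := ded_42_2 (flp_e L44912) L31202 L44912
theorem L44919 : sm gf N5210 = N5210 := ded_40_2 (flp_e L44912) (flp_f L31196) L21710 L31196 L44912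
theorem L44920 : sm gg N3601 = N5211 := rfl
theorem L44922 : sm gb N5211 = N3683 := ded_23_1 (flp_g L31913) (flp_b L31198) L44920
theorem L44924 : sm gc N5211 = N3604 := ded_30_1 (flp_g L31218) (flp_c L31200) L44920
theorem L44926 : sm gh N3601 = N5212 := rfl
theorem L44928 : sm gb N5212 = N3684 := ded_25_1 (flp_h L31917) (flp_b L31198) L44926
theorem L44930 : sm gc N5212 = N3605 := ded_32_1 (flp_h L31224) (flp_c L31200) L44926
theorem L44932 : sm gf N5212 = N3602 := ded_47_1 (flp_h L31203) L31196 L44926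
theorem L44934 : sm gj N5212 = N5212 := ded_52_1 (flp_h L44926) L31202 L44926
theorem L44935 : sm gd N3602 = N5213 := rfl
theorem L44937 : sm gb N5213 = N3685 := ded_20_1 (flp_d L31924) (flp_b L31205) L44935
theorem L44939 : sm gj N5213 = N5213 := ded_37_2 (flp_d L44935) L31210 L44935
theorem L44940 : sm gc N5213 = N5213 := ded_27_1 (flp_d L44935) L31207 L21727 (flp_c L31207) L44935
theorem L44941 : sm gi N3602 = N5214 := rfl
theorem L44943 : sm gb N5214 = N3686 := ded_26_1 (flp_i L31929) (flp_b L31205) L44941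
theorem L44945 : sm gc N5214 = N3606 := ded_33_1 (flp_i L31232) (flp_c L31207) L44941
theorem L44949 : sm gg N3603 = N5215 := rfl
theorem L44951 : sm gb N5215 = N3608 := ded_23_1 (flp_g L31246) (flp_b L31213) L44949
theorem L44953 : sm gd N5215 = N5215 := ded_36_1 (flp_g L44949) L31216 L44949
theorem L44954 : sm ge N5215 = N3604 := ded_41_1 (flp_g L31218) L31211 L44949
theorem L44956 : sm gh N3603 = N5216 := rfl
theorem L44958 : sm gb N5216 = N3609 := ded_25_1 (flp_h L31255) (flp_b L31213) L44956
theorem L44960 : sm ge N5216 = N3605 := ded_43_1 (flp_h L31224) L31211 L44956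
theorem L44962 : sm gf N5216 = N5216 := ded_47_1 (flp_h L44956) L31217 L44956
theorem L44963 : sm gj N5216 = N5216 := ded_52_1 (flp_h L44956) L31215 L44956
theorem L44964 : sm gj N3604 = N5217 := rfl
theorem L44966 : sm gb N5217 = N3610 := ded_24_1 (flp_j L31265) (flp_b L31220) L44964
theorem L44968 : sm gd N5217 = N3607 := ded_37_1 (flp_j L31239) (flp_d L31222) L44964
theorem L44970 : sm gg N5217 = N5217 := ded_49_1 (flp_j L44964) (flp_g L31218) L21720 L31218 L44964
theorem L44971 : sm gh N3604 = N5218 := rfl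
theorem L44973 : sm gb N5218 = N3611 := ded_25_1 (flp_h L31274) (flp_b L31220) L44971
theorem L44975 : sm gg N5218 = N3605 := ded_50_1 (flp_h L31224) L31218 L44971
theorem L44977 : sm gd N5218 = N5218 := ded_38_1 (flp_h L44971) L31222 L21733 (flp_d L31222) L44971
theorem L44978 : sm gi N3605 = N5219 := rfl
theorem L44980 : sm gb N5219 = N3612 := ded_26_1 (flp_i L31283) (flp_b L31226) L44978
theorem L44982 : sm gd N5219 = N5219 := ded_39_1 (flp_i L44978) L31231 L44978
theorem L44983 : sm gf N5219 = N3606 := ded_48_1 (flp_i L31232) (flp_f L31228) L44978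
theorem L44985 : sm gj N5219 = N5219 := ded_53_1 (flp_i L44978) L31230 L44978
theorem L44986 : sm gf N3608 = N5220 := rfl
theorem L44988 : sm ga N5220 = N4049 := ded_14_1 (flp_f L34976) (flp_a L31248) L44986
theorem L44990 : sm gc N5220 = N3692 := ded_29_1 (flp_f L31976) (flp_c L31250) L44986
theorem L44992 : sm gd N5220 = N5220 := ded_35_1 (flp_f L44986) L31252 L44986
theorem L44993 : sm gg N5220 = N5220 := ded_45_2 (flp_f L44986) (flp_g L31246) L21742 L31246 L44986
theorem L44994 : sm gj N3608 = N5221 := rfl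
theorem L44996 : sm ga N5221 = N4050 := ded_16_1 (flp_j L34982) (flp_a L31248) L44994
theorem L44998 : sm gc N5221 = N3693 := ded_31_1 (flp_j L31983) (flp_c L31250) L44994
theorem L45000 : sm gd N5221 = N5221 := ded_37_1 (flp_j L44994) L31252 L44994
theorem L45001 : sm ge N5221 = N3610 := ded_42_1 (flp_j L31265) (flp_e L31253) L44994
theorem L45003 : sm gg N5221 = N5221 := ded_49_1 (flp_j L44994) (flp_g L31246) L21740 L31246 L44994
theorem L45004 : sm gh N3608 = N5222 := rfl
theorem L45006 : sm ga N5222 = N4051 := ded_17_1 (flp_h L34990) (flp_a L31248) L45004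
theorem L45008 : sm gc N5222 = N3694 := ded_32_1 (flp_h L31992) (flp_c L31250) L45004
theorem L45010 : sm ge N5222 = N3611 := ded_43_1 (flp_h L31274) (flp_e L31253) L45004
theorem L45012 : sm gg N5222 = N3609 := ded_50_1 (flp_h L31255) L31246 L45004
theorem L45014 : sm gd N3609 = N5223 := rfl
theorem L45016 : sm ga N5223 = N4052 := ded_12_1 (flp_d L34998) (flp_a L31257) L45014
theorem L45018 : sm gf N5223 = N5223 := ded_35_2 (flp_d L45014) L31263 L45014
theorem L45019 : sm gj N5223 = N5223 := ded_37_2 (flp_d L45014) L31264 L45014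
theorem L45020 : sm gc N5223 = N5223 := ded_27_1 (flp_d L45014) L31259 L22255 (flp_c L31259) L45014
theorem L45021 : sm ge N5223 = N5223 := ded_34_2 (flp_d L45014) L31261 L21760 (flp_e L31261) L45014
theorem L45022 : sm gh N5223 = N5223 := ded_38_2 (flp_d L45014) (flp_h L31255) L21741 L31255 L45014
theorem L45023 : sm gi N3609 = N5224 := rfl
theorem L45025 : sm ga N5224 = N4053 := ded_18_1 (flp_i L35005) (flp_a L31257) L45023
theorem L45027 : sm gc N5224 = N3695 := ded_33_1 (flp_i L32001) (flp_c L31259) L45023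
theorem L45029 : sm ge N5224 = N3612 := ded_44_1 (flp_i L31283) (flp_e L31261) L45023
theorem L45031 : sm gf N5224 = N5224 := ded_48_1 (flp_i L45023) L31263 L45023
theorem L45032 : sm gj N5224 = N5224 := ded_53_1 (flp_i L45023) L31264 L45023
theorem L45033 : sm gh N3610 = N5225 := rfl
theorem L45035 : sm ga N5225 = N4054 := ded_17_1 (flp_h L35013) (flp_a L31267) L45033
theorem L45037 : sm gc N5225 = N3696 := ded_32_1 (flp_h L32010) (flp_c L31269) L45033
theorem L45039 : sm gg N5225 = N5225 := ded_50_1 (flp_h L45033) L31273 L45033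
theorem L45040 : sm gj N5225 = N3611 := ded_52_1 (flp_h L31274) L31265 L45033
theorem L45042 : sm gd N5225 = N5225 := ded_38_1 (flp_h L45033) L31271 L21777 (flp_d L31271) L45033
theorem L45043 : sm gi N3611 = N5226 := rfl
theorem L45045 : sm ga N5226 = N4055 := ded_18_1 (flp_i L35021) (flp_a L31276) L45043
theorem L45047 : sm gc N5226 = N3697 := ded_33_1 (flp_i L32019) (flp_c L31278) L45043
theorem L45049 : sm gd N5226 = N5226 := ded_39_1 (flp_i L45043) L31282 L45043
theorem L45050 : sm gg N5226 = N3612 := ded_51_1 (flp_i L31283) (flp_g L31280) L45043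
theorem L45052 : sm gd N3613 = N5227 := rfl
theorem L45054 : sm ga N5227 = N3614 := ded_12_1 (flp_d L31305) (flp_a L31295) L45052
theorem L45056 : sm gb N5227 = N4056 := ded_20_1 (flp_d L35028) (flp_b L31297) L45052
theorem L45058 : sm gg N5227 = N5227 := ded_36_2 (flp_d L45052) L31299 L45052
theorem L45059 : sm gj N5227 = N3631 := ded_37_2 (flp_d L31466) (flp_j L31300) L45052
theorem L45061 : sm gi N5227 = N3620 := ded_39_2 (flp_d L31366) (flp_i L31303) L45052
theorem L45063 : sm ge N5227 = N5227 := ded_34_2 (flp_d L45052) (flp_e L31293) L21781 L31293 L45052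
theorem L45064 : sm gf N3613 = N5228 := rfl
theorem L45066 : sm ga N5228 = N3615 := ded_14_1 (flp_f L31315) (flp_a L31295) L45064
theorem L45068 : sm gb N5228 = N4057 := ded_22_1 (flp_f L35038) (flp_b L31297) L45064
theorem L45070 : sm gj N5228 = N3632 := ded_46_2 (flp_f L31477) (flp_j L31300) L45064
theorem L45072 : sm gh N5228 = N5228 := ded_47_2 (flp_f L45064) L31302 L45064
theorem L45073 : sm gi N5228 = N3621 := ded_48_2 (flp_f L31376) (flp_i L31303) L45064
theorem L45075 : sm ge N5228 = N5228 := ded_40_1 (flp_f L45064) (flp_e L31293) L21782 L31293 L45064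
theorem L45076 : sm gc N3614 = N5229 := rfl
theorem L45078 : sm ge N5229 = N5229 := ded_28_2 (flp_c L45076) L31314 L45076
theorem L45079 : sm gg N5229 = N5229 := ded_30_2 (flp_c L45076) L31309 L45076
theorem L45080 : sm gj N5229 = N3633 := ded_31_2 (flp_c L31487) (flp_j L31310) L45076
theorem L45082 : sm gi N5229 = N3622 := ded_33_2 (flp_c L31387) (flp_i L31312) L45076
theorem L45084 : sm gf N3614 = N5230 := rfl
theorem L45086 : sm gb N5230 = N3616 := ded_22_1 (flp_f L31325) (flp_b L31307) L45084
theorem L45088 : sm gd N5230 = N3615 := ded_35_1 (flp_f L31315) L31305 L45084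
theorem L45090 : sm gj N5230 = N3634 := ded_46_2 (flp_f L31494) (flp_j L31310) L45084
theorem L45092 : sm gi N5230 = N3623 := ded_48_2 (flp_f L31393) (flp_i L31312) L45084
theorem L45094 : sm gh N3614 = N5231 := rfl
theorem L45096 : sm gb N5231 = N3617 := ded_25_1 (flp_h L31335) (flp_b L31307) L45094
theorem L45098 : sm ge N5231 = N5231 := ded_43_1 (flp_h L45094) L31314 L45094
theorem L45099 : sm gg N5231 = N5231 := ded_50_1 (flp_h L45094) L31309 L45094
theorem L45100 : sm gj N5231 = N3635 := ded_52_1 (flp_h L31502) (flp_j L31310) L45094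
theorem L45102 : sm gd N5231 = N5231 := ded_38_1 (flp_h L45094) (flp_d L31305) L21798 L31305 L45094
theorem L45103 : sm gg N3615 = N5232 := rfl
theorem L45105 : sm gb N5232 = N3618 := ded_23_1 (flp_g L31344) (flp_b L31317) L45103
theorem L45107 : sm ge N5232 = N5232 := ded_41_1 (flp_g L45103) L31324 L45103
theorem L45108 : sm gh N5232 = N5232 := ded_50_2 (flp_g L45103) L31321 L45103
theorem L45109 : sm gi N5232 = N3625 := ded_51_2 (flp_g L31411) (flp_i L31322) L45103
theorem L45111 : sm gf N5232 = N5232 := ded_45_1 (flp_g L45103) (flp_f L31315) L21795 L31315 L45103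
theorem L45112 : sm ge N3616 = N5233 := rfl
theorem L45114 : sm ga N5233 = N4062 := ded_13_1 (flp_e L35087) (flp_a L31327) L45112
theorem L45116 : sm gj N5233 = N3637 := ded_42_2 (flp_e L31520) (flp_j L31331) L45112
theorem L45118 : sm gi N5233 = N3626 := ded_44_2 (flp_e L31419) (flp_i L31333) L45112
theorem L45120 : sm gd N5233 = N5233 := ded_34_1 (flp_e L45112) L31329 L21822 (flp_d L31329) L45112
theorem L45121 : sm gf N5233 = N5233 := ded_40_2 (flp_e L45112) (flp_f L31325) L21810 L31325 L45112
theorem L45122 : sm gg N3616 = N5234 := rfl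
theorem L45124 : sm ga N5234 = N4063 := ded_15_1 (flp_g L35095) (flp_a L31327) L45122
theorem L45126 : sm gd N5234 = N3618 := ded_36_1 (flp_g L31344) (flp_d L31329) L45122
theorem L45128 : sm gi N5234 = N3627 := ded_51_2 (flp_g L31427) (flp_i L31333) L45122
theorem L45130 : sm gf N5234 = N5234 := ded_45_1 (flp_g L45122) (flp_f L31325) L21805 L31325 L45122
theorem L45131 : sm gh N3616 = N5235 := rfl
theorem L45133 : sm ga N5235 = N4064 := ded_17_1 (flp_h L35102) (flp_a L31327) L45131
theorem L45135 : sm gf N5235 = N3617 := ded_47_1 (flp_h L31335) L31325 L45131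
theorem L45137 : sm gj N5235 = N3639 := ded_52_1 (flp_h L31538) (flp_j L31331) L45131
theorem L45139 : sm gd N5235 = N5235 := ded_38_1 (flp_h L45131) L31329 L21819 (flp_d L31329) L45131
theorem L45140 : sm gi N3617 = N5236 := rfl
theorem L45144 : sm gd N5236 = N5236 := ded_39_1 (flp_i L45140) L31343 L45140
theorem L45145 : sm ge N5236 = N5236 := ded_44_1 (flp_i L45140) L31339 L45140
theorem L45146 : sm gg N5236 = N5236 := ded_51_1 (flp_i L45140) L31340 L45140
theorem L45147 : sm gj N5236 = N3640 := ded_53_1 (flp_i L31545) (flp_j L31341) L45140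
theorem L45149 : sm gh N5236 = N3629 := ded_54_1 (flp_i L31444) (flp_h L21868) (flp_i L21808) L31335 L45140
theorem L45151 : sm gj N3618 = N5237 := rfl
theorem L45153 : sm ga N5237 = N4066 := ded_16_1 (flp_j L35118) (flp_a L31346) L45151
theorem L45155 : sm gc N5237 = N3619 := ded_31_1 (flp_j L31355) (flp_c L31348) L45151
theorem L45157 : sm ge N5237 = N5237 := ded_42_1 (flp_j L45151) L31350 L45151
theorem L45158 : sm gf N5237 = N5237 := ded_46_1 (flp_j L45151) L31354 L45151
theorem L45159 : sm gh N5237 = N5237 := ded_52_2 (flp_j L45151) L31351 L45151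
theorem L45160 : sm gi N5237 = N3630 := ded_53_2 (flp_j L31454) (flp_i L31352) L45151
theorem L45162 : sm gg N5237 = N3641 := ded_49_1 (flp_j L31555) (flp_g L21942) (flp_j L21817) L31344 L45151
theorem L45164 : sm gc N3620 = N5238 := rfl
theorem L45166 : sm ga N5238 = N3622 := ded_11_1 (flp_c L31387) (flp_a L31368) L45164
theorem L45168 : sm ge N5238 = N5238 := ded_28_2 (flp_c L45164) L31375 L45164
theorem L45169 : sm gg N5238 = N5238 := ded_30_2 (flp_c L45164) L31372 L45164
theorem L45170 : sm gj N5238 = N3642 := ded_31_2 (flp_c L31567) (flp_j L31373) L45164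
theorem L45172 : sm gf N3620 = N5239 := rfl
theorem L45174 : sm ga N5239 = N3623 := ded_14_1 (flp_f L31393) (flp_a L31368) L45172
theorem L45176 : sm gb N5239 = N4068 := ded_22_1 (flp_f L35138) (flp_b L31370) L45172
theorem L45178 : sm gd N5239 = N3621 := ded_35_1 (flp_f L31376) L31366 L45172
theorem L45180 : sm gj N5239 = N3643 := ded_46_2 (flp_f L31574) (flp_j L31373) L45172
theorem L45182 : sm gh N3620 = N5240 := rfl
theorem L45192 : sm gd N5240 = N3731 := ded_38_1 (flp_h L32328) (flp_d L22507) (flp_h L21841) L31366 L45182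
theorem L45194 : sm gg N3621 = N5241 := rfl
theorem L45196 : sm ga N5241 = N3625 := ded_15_1 (flp_g L31411) (flp_a L31378) L45194
theorem L45198 : sm gb N5241 = N4070 := ded_23_1 (flp_g L35156) (flp_b L31380) L45194
theorem L45200 : sm ge N5241 = N5241 := ded_41_1 (flp_g L45194) L31386 L45194
theorem L45201 : sm gh N5241 = N3732 := ded_50_2 (flp_g L32339) (flp_h L31384) L45194
theorem L45203 : sm gf N5241 = N5241 := ded_45_1 (flp_g L45194) (flp_f L31376) L21838 L31376 L45194
theorem L45204 : sm gf N3622 = N5242 := rfl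
theorem L45206 : sm gc N5242 = N3623 := ded_29_1 (flp_f L31393) L31387 L45204
theorem L45208 : sm gj N5242 = N3646 := ded_46_2 (flp_f L31604) (flp_j L31391) L45204
theorem L45210 : sm gh N3622 = N5243 := rfl
theorem L45212 : sm gc N5243 = N3624 := ded_32_1 (flp_h L31401) L31387 L45210
theorem L45214 : sm ge N5243 = N5243 := ded_43_1 (flp_h L45210) L31389 L45210
theorem L45215 : sm gg N5243 = N5243 := ded_50_1 (flp_h L45210) L31390 L45210
theorem L45216 : sm gj N5243 = N3647 := ded_52_1 (flp_h L31608) (flp_j L31391) L45210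
theorem L45218 : sm ge N3623 = N5244 := rfl
theorem L45220 : sm gb N5244 = N3626 := ded_21_1 (flp_e L31419) (flp_b L31395) L45218
theorem L45222 : sm gj N5244 = N3648 := ded_42_2 (flp_e L31615) (flp_j L31399) L45218
theorem L45224 : sm gd N5244 = N5244 := ded_34_1 (flp_e L45218) L31397 L21859 (flp_d L31397) L45218
theorem L45225 : sm gf N5244 = N5244 := ded_40_2 (flp_e L45218) (flp_f L31393) L21850 L31393 L45218
theorem L45226 : sm gg N3623 = N5245 := rfl
theorem L45228 : sm gb N5245 = N3627 := ded_23_1 (flp_g L31427) (flp_b L31395) L45226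
theorem L45230 : sm gd N5245 = N3625 := ded_36_1 (flp_g L31411) (flp_d L31397) L45226
theorem L45232 : sm gf N5245 = N5245 := ded_45_1 (flp_g L45226) (flp_f L31393) L21847 L31393 L45226
theorem L45233 : sm gh N3623 = N5246 := rfl
theorem L45235 : sm gb N5246 = N3628 := ded_25_1 (flp_h L31434) (flp_b L31395) L45233
theorem L45237 : sm gf N5246 = N3624 := ded_47_1 (flp_h L31401) L31393 L45233
theorem L45239 : sm gj N5246 = N3650 := ded_52_1 (flp_h L31629) (flp_j L31399) L45233
theorem L45241 : sm gd N5246 = N3737 := ded_38_1 (flp_h L32384) L22542 (flp_h L21857) (flp_d L31397) L45233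
theorem L45243 : sm gi N3624 = N5247 := rfl
theorem L45245 : sm gb N5247 = N3629 := ded_26_1 (flp_i L31444) (flp_b L31403) L45243
theorem L45247 : sm gd N5247 = N3738 := ded_39_1 (flp_i L32392) (flp_d L31409) L45243
theorem L45253 : sm gj N3625 = N5248 := rfl
theorem L45255 : sm gb N5248 = N3630 := ded_24_1 (flp_j L31454) (flp_b L31413) L45253
theorem L45257 : sm ge N5248 = N5248 := ded_42_1 (flp_j L45253) L31415 L45253
theorem L45258 : sm gf N5248 = N5248 := ded_46_1 (flp_j L45253) L31418 L45253
theorem L45259 : sm gh N5248 = N3739 := ded_52_2 (flp_j L32402) (flp_h L31416) L45253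
theorem L45261 : sm gg N5248 = N3652 := ded_49_1 (flp_j L31646) (flp_g L22002) (flp_j L21855) L31411 L45253
theorem L45263 : sm gg N3626 = N5249 := rfl
theorem L45265 : sm ga N5249 = N4078 := ded_15_1 (flp_g L35226) (flp_a L31421) L45263
theorem L45268 : sm ge N5249 = N3627 := ded_41_1 (flp_g L31427) L31419 L45263
theorem L45270 : sm gh N3626 = N5250 := rfl
theorem L45272 : sm ga N5250 = N4079 := ded_17_1 (flp_h L35231) (flp_a L31421) L45270
theorem L45274 : sm ge N5250 = N3628 := ded_43_1 (flp_h L31434) L31419 L45270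
theorem L45277 : sm gj N5250 = N3654 := ded_52_1 (flp_h L31662) (flp_j L31423) L45270
theorem L45288 : sm gh N3627 = N5252 := rfl
theorem L45293 : sm gg N5252 = N3628 := ded_50_1 (flp_h L31434) L31427 L45288
theorem L45295 : sm gd N5252 = N3743 := ded_38_1 (flp_h L32442) L22579 (flp_h L21885) (flp_d L31431) L45288
theorem L45297 : sm gi N3628 = N5253 := rfl
theorem L45299 : sm ga N5253 = N4082 := ded_18_1 (flp_i L35252) (flp_a L31436) L45297
theorem L45301 : sm gd N5253 = N3744 := ded_39_1 (flp_i L32450) (flp_d L31442) L45297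
theorem L45303 : sm gf N5253 = N3629 := ded_48_1 (flp_i L31444) (flp_f L31438) L45297
theorem L45305 : sm gj N5253 = N3657 := ded_53_1 (flp_i L31687) (flp_j L31440) L45297
theorem L45307 : sm gc N3631 = N5254 := rfl
theorem L45309 : sm ga N5254 = N3633 := ded_11_1 (flp_c L31487) (flp_a L31468) L45307
theorem L45311 : sm ge N5254 = N5254 := ded_28_2 (flp_c L45307) L31476 L45307
theorem L45312 : sm gg N5254 = N3658 := ded_30_2 (flp_c L31695) (flp_g L31472) L45307
theorem L45314 : sm gi N5254 = N3642 := ded_33_2 (flp_c L31567) (flp_i L31474) L45307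
theorem L45316 : sm gf N3631 = N5255 := rfl
theorem L45318 : sm ga N5255 = N3634 := ded_14_1 (flp_f L31494) (flp_a L31468) L45316
theorem L45320 : sm gb N5255 = N4084 := ded_22_1 (flp_f L35270) (flp_b L31470) L45316
theorem L45322 : sm gd N5255 = N3632 := ded_35_1 (flp_f L31477) L31466 L45316
theorem L45324 : sm gi N5255 = N3643 := ded_48_2 (flp_f L31574) (flp_i L31474) L45316
theorem L45336 : sm gg N3632 = N5257 := rfl
theorem L45338 : sm ga N5257 = N3636 := ded_15_1 (flp_g L31510) (flp_a L31479) L45336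
theorem L45340 : sm gb N5257 = N4086 := ded_23_1 (flp_g L35286) (flp_b L31481) L45336
theorem L45342 : sm ge N5257 = N5257 := ded_41_1 (flp_g L45336) L31486 L45336
theorem L45343 : sm gh N5257 = N5257 := ded_50_2 (flp_g L45336) L31483 L45336
theorem L45344 : sm gi N5257 = N3645 := ded_51_2 (flp_g L31593) (flp_i L31484) L45336
theorem L45346 : sm gf N5257 = N3661 := ded_45_1 (flp_g L31723) (flp_f L22063) (flp_g L21904) L31477 L45336
theorem L45348 : sm gf N3633 = N5258 := rfl
theorem L45350 : sm gc N5258 = N3634 := ded_29_1 (flp_f L31494) L31487 L45348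
theorem L45352 : sm gi N5258 = N3646 := ded_48_2 (flp_f L31604) (flp_i L31492) L45348
theorem L45354 : sm gh N3633 = N5259 := rfl
theorem L45356 : sm gc N5259 = N3635 := ded_32_1 (flp_h L31502) L31487 L45354
theorem L45358 : sm ge N5259 = N5259 := ded_43_1 (flp_h L45354) L31489 L45354
theorem L45359 : sm gg N5259 = N3663 := ded_50_1 (flp_h L31741) (flp_g L31490) L45354
theorem L45361 : sm ge N3634 = N5260 := rfl
theorem L45363 : sm gb N5260 = N3637 := ded_21_1 (flp_e L31520) (flp_b L31496) L45361
theorem L45365 : sm gi N5260 = N3648 := ded_44_2 (flp_e L31615) (flp_i L31500) L45361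
theorem L45367 : sm gd N5260 = N5260 := ded_34_1 (flp_e L45361) L31498 L21925 (flp_d L31498) L45361
theorem L45368 : sm gf N5260 = N5260 := ded_40_2 (flp_e L45361) (flp_f L31494) L21917 L31494 L45361
theorem L45369 : sm gg N3634 = N5261 := rfl
theorem L45371 : sm gb N5261 = N3638 := ded_23_1 (flp_g L31528) (flp_b L31496) L45369
theorem L45373 : sm gd N5261 = N3636 := ded_36_1 (flp_g L31510) (flp_d L31498) L45369
theorem L45375 : sm gi N5261 = N3649 := ded_51_2 (flp_g L31621) (flp_i L31500) L45369
theorem L45377 : sm gf N5261 = N3665 := ded_45_1 (flp_g L31757) (flp_f L22081) (flp_g L21913) L31494 L45369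
theorem L45379 : sm gh N3634 = N5262 := rfl
theorem L45381 : sm gb N5262 = N3639 := ded_25_1 (flp_h L31538) (flp_b L31496) L45379
theorem L45383 : sm gf N5262 = N3635 := ded_47_1 (flp_h L31502) L31494 L45379
theorem L45385 : sm gd N5262 = N5262 := ded_38_1 (flp_h L45379) L31498 L21922 (flp_d L31498) L45379
theorem L45386 : sm gi N3635 = N5263 := rfl
theorem L45388 : sm gb N5263 = N3640 := ded_26_1 (flp_i L31545) (flp_b L31504) L45386
theorem L45396 : sm gj N3636 = N5264 := rfl
theorem L45398 : sm gb N5264 = N3641 := ded_24_1 (flp_j L31555) (flp_b L31512) L45396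
theorem L45400 : sm ge N5264 = N5264 := ded_42_1 (flp_j L45396) L31514 L45396
theorem L45401 : sm gf N5264 = N3668 := ded_46_1 (flp_j L31782) (flp_f L31518) L45396
theorem L45403 : sm gh N5264 = N5264 := ded_52_2 (flp_j L45396) L31515 L45396
theorem L45404 : sm gi N5264 = N3652 := ded_53_2 (flp_j L31646) (flp_i L31516) L45396
theorem L45406 : sm gg N3637 = N5265 := rfl
theorem L45408 : sm ga N5265 = N4094 := ded_15_1 (flp_g L35357) (flp_a L31522) L45406
theorem L45410 : sm gd N5265 = N5265 := ded_36_1 (flp_g L45406) L31526 L45406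
theorem L45411 : sm ge N5265 = N3638 := ded_41_1 (flp_g L31528) L31520 L45406
theorem L45413 : sm gi N5265 = N3653 := ded_51_2 (flp_g L31655) (flp_i L31524) L45406
theorem L45415 : sm gh N3637 = N5266 := rfl
theorem L45417 : sm ga N5266 = N4095 := ded_17_1 (flp_h L35364) (flp_a L31522) L45415
theorem L45419 : sm ge N5266 = N3639 := ded_43_1 (flp_h L31538) L31520 L45415
theorem L45421 : sm gf N5266 = N5266 := ded_47_1 (flp_h L45415) L31527 L45415
theorem L45422 : sm gj N3638 = N5267 := rfl
theorem L45424 : sm ga N5267 = N4096 := ded_16_1 (flp_j L35369) (flp_a L31530) L45422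
theorem L45426 : sm gd N5267 = N3641 := ded_37_1 (flp_j L31555) (flp_d L31532) L45422
theorem L45428 : sm gf N5267 = N3671 := ded_46_1 (flp_j L31810) (flp_f L31536) L45422
theorem L45430 : sm gi N5267 = N3655 := ded_53_2 (flp_j L31669) (flp_i L31534) L45422
theorem L45432 : sm gh N3638 = N5268 := rfl
theorem L45434 : sm ga N5268 = N4097 := ded_17_1 (flp_h L35377) (flp_a L31530) L45432
theorem L45436 : sm gf N5268 = N3672 := ded_47_1 (flp_h L31819) (flp_f L31536) L45432
theorem L45438 : sm gg N5268 = N3639 := ded_50_1 (flp_h L31538) L31528 L45432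
theorem L45440 : sm gd N5268 = N5268 := ded_38_1 (flp_h L45432) L31532 L21949 (flp_d L31532) L45432
theorem L45441 : sm gi N3639 = N5269 := rfl
theorem L45443 : sm ga N5269 = N4098 := ded_18_1 (flp_i L35384) (flp_a L31540) L45441
theorem L45445 : sm gd N5269 = N5269 := ded_39_1 (flp_i L45441) L31544 L45441
theorem L45446 : sm gf N5269 = N3640 := ded_48_1 (flp_i L31545) (flp_f L31542) L45441
theorem L45448 : sm gh N5269 = N3657 := ded_54_1 (flp_i L31687) (flp_h L22025) (flp_i L21932) L31538 L45441
theorem L45450 : sm gb N3642 = N5270 := rfl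
theorem L45453 : sm gg N5270 = N3674 := ded_23_2 (flp_b L31836) (flp_g L31572) L45450
theorem L45455 : sm gc N5270 = N4099 := ded_19_2 (flp_b L35391) (flp_c L24613) (flp_b L21968) L31567 L45450
theorem L45457 : sm gf N3642 = N5271 := rfl
theorem L45459 : sm ga N5271 = N3646 := ded_14_1 (flp_f L31604) (flp_a L31569) L45457
theorem L45461 : sm gc N5271 = N3643 := ded_29_1 (flp_f L31574) L31567 L45457
theorem L45463 : sm gh N3642 = N5272 := rfl
theorem L45465 : sm ga N5272 = N3647 := ded_17_1 (flp_h L31608) (flp_a L31569) L45463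
theorem L45467 : sm gc N5272 = N3644 := ded_32_1 (flp_h L31582) L31567 L45463
theorem L45470 : sm gg N5272 = N3676 := ded_50_1 (flp_h L31849) (flp_g L31572) L45463
theorem L45472 : sm ge N3643 = N5273 := rfl
theorem L45474 : sm ga N5273 = N3648 := ded_13_1 (flp_e L31615) (flp_a L31576) L45472
theorem L45476 : sm gb N5273 = N4102 := ded_21_1 (flp_e L35413) (flp_b L31578) L45472
theorem L45478 : sm gd N5273 = N5273 := ded_34_1 (flp_e L45472) L31580 L21981 (flp_d L31580) L45472
theorem L45479 : sm gf N5273 = N5273 := ded_40_2 (flp_e L45472) (flp_f L31574) L21972 L31574 L45472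
theorem L45480 : sm gg N3643 = N5274 := rfl
theorem L45482 : sm ga N5274 = N3649 := ded_15_1 (flp_g L31621) (flp_a L31576) L45480
theorem L45484 : sm gb N5274 = N4103 := ded_23_1 (flp_g L35419) (flp_b L31578) L45480
theorem L45486 : sm gd N5274 = N3645 := ded_36_1 (flp_g L31593) (flp_d L31580) L45480
theorem L45488 : sm gf N5274 = N3678 := ded_45_1 (flp_g L31867) (flp_f L22159) (flp_g L21970) L31574 L45480
theorem L45490 : sm gh N3643 = N5275 := rfl
theorem L45498 : sm gd N5275 = N3750 := ded_38_1 (flp_h L32508) L22629 (flp_h L21979) (flp_d L31580) L45490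
theorem L45511 : sm gj N3645 = N5277 := rfl
theorem L45513 : sm ga N5277 = N3652 := ded_16_1 (flp_j L31646) (flp_a L31595) L45511
theorem L45515 : sm gb N5277 = N4106 := ded_24_1 (flp_j L35444) (flp_b L31597) L45511
theorem L45517 : sm ge N5277 = N5277 := ded_42_1 (flp_j L45511) L31599 L45511
theorem L45518 : sm gf N5277 = N3681 := ded_46_1 (flp_j L31896) (flp_f L31602) L45511
theorem L45520 : sm gh N5277 = N3752 := ded_52_2 (flp_j L32527) (flp_h L31600) L45511
theorem L45522 : sm ge N3646 = N5278 := rfl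
theorem L45524 : sm gc N5278 = N3648 := ded_28_1 (flp_e L31615) (flp_c L31606) L45522
theorem L45526 : sm gf N5278 = N5278 := ded_40_2 (flp_e L45522) (flp_f L31604) L21984 L31604 L45522
theorem L45527 : sm gg N3646 = N5279 := rfl
theorem L45529 : sm gc N5279 = N3649 := ded_30_1 (flp_g L31621) (flp_c L31606) L45527
theorem L45531 : sm gf N5279 = N3683 := ded_45_1 (flp_g L31913) (flp_f L22188) (flp_g L21985) L31604 L45527
theorem L45533 : sm gh N3646 = N5280 := rfl
theorem L45535 : sm gc N5280 = N3650 := ded_32_1 (flp_h L31629) (flp_c L31606) L45533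
theorem L45537 : sm gf N5280 = N3647 := ded_47_1 (flp_h L31608) L31604 L45533
theorem L45539 : sm gd N3647 = N5281 := rfl
theorem L45541 : sm gg N5281 = N3685 := ded_36_2 (flp_d L31924) (flp_g L31613) L45539
theorem L45543 : sm gc N5281 = N3756 := ded_27_1 (flp_d L32560) L22661 (flp_d L22000) (flp_c L31610) L45539
theorem L45545 : sm gi N3647 = N5282 := rfl
theorem L45552 : sm gg N3648 = N5283 := rfl
theorem L45554 : sm gb N5283 = N3653 := ded_23_1 (flp_g L31655) (flp_b L31617) L45552
theorem L45556 : sm gd N5283 = N5283 := ded_36_1 (flp_g L45552) L31619 L45552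
theorem L45557 : sm ge N5283 = N3649 := ded_41_1 (flp_g L31621) L31615 L45552
theorem L45559 : sm gh N3648 = N5284 := rfl
theorem L45561 : sm gb N5284 = N3654 := ded_25_1 (flp_h L31662) (flp_b L31617) L45559
theorem L45563 : sm ge N5284 = N3650 := ded_43_1 (flp_h L31629) L31615 L45559
theorem L45565 : sm gf N5284 = N5284 := ded_47_1 (flp_h L45559) L31620 L45559
theorem L45566 : sm gj N3649 = N5285 := rfl
theorem L45568 : sm gb N5285 = N3655 := ded_24_1 (flp_j L31669) (flp_b L31623) L45566
theorem L45570 : sm gd N5285 = N3652 := ded_37_1 (flp_j L31646) (flp_d L31625) L45566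
theorem L45572 : sm gf N5285 = N3689 := ded_46_1 (flp_j L31952) (flp_f L31627) L45566
theorem L45574 : sm gh N3649 = N5286 := rfl
theorem L45576 : sm gb N5286 = N3656 := ded_25_1 (flp_h L31677) (flp_b L31623) L45574
theorem L45578 : sm gf N5286 = N3690 := ded_47_1 (flp_h L31959) (flp_f L31627) L45574
theorem L45580 : sm gg N5286 = N3650 := ded_50_1 (flp_h L31629) L31621 L45574
theorem L45582 : sm gd N5286 = N3761 := ded_38_1 (flp_h L32601) L22679 (flp_h L22007) (flp_d L31625) L45574
theorem L45584 : sm gi N3650 = N5287 := rfl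
theorem L45586 : sm gb N5287 = N3657 := ded_26_1 (flp_i L31687) (flp_b L31631) L45584
theorem L45592 : sm gf N3653 = N5288 := rfl
theorem L45594 : sm ga N5288 = N4117 := ded_14_1 (flp_f L35526) (flp_a L31657) L45592
theorem L45600 : sm gj N3653 = N5289 := rfl
theorem L45602 : sm ga N5289 = N4118 := ded_16_1 (flp_j L35532) (flp_a L31657) L45600
theorem L45605 : sm ge N5289 = N3655 := ded_42_1 (flp_j L31669) (flp_e L31660) L45600
theorem L45607 : sm gh N3653 = N5290 := rfl
theorem L45609 : sm ga N5290 = N4119 := ded_17_1 (flp_h L35537) (flp_a L31657) L45607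
theorem L45611 : sm ge N5290 = N3656 := ded_43_1 (flp_h L31677) (flp_e L31660) L45607
theorem L45613 : sm gg N5290 = N3654 := ded_50_1 (flp_h L31662) L31655 L45607
theorem L45615 : sm gd N3654 = N5291 := rfl
theorem L45617 : sm ga N5291 = N4120 := ded_12_1 (flp_d L35543) (flp_a L31664) L45615
theorem L45620 : sm ge N5291 = N3765 := ded_34_2 (flp_d L32636) L22722 (flp_d L22031) (flp_e L31666) L45615
theorem L45623 : sm gi N3654 = N5292 := rfl
theorem L45625 : sm ga N5292 = N4121 := ded_18_1 (flp_i L35549) (flp_a L31664) L45623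
theorem L45627 : sm ge N5292 = N3657 := ded_44_1 (flp_i L31687) (flp_e L31666) L45623
theorem L45629 : sm gf N5292 = N5292 := ded_48_1 (flp_i L45623) L31668 L45623
theorem L45630 : sm gh N3655 = N5293 := rfl
theorem L45632 : sm ga N5293 = N4122 := ded_17_1 (flp_h L35554) (flp_a L31671) L45630
theorem L45634 : sm gf N5293 = N3696 := ded_47_1 (flp_h L32010) (flp_f L31675) L45630
theorem L45636 : sm gj N5293 = N3656 := ded_52_1 (flp_h L31677) L31669 L45630
theorem L45638 : sm gd N5293 = N3767 := ded_38_1 (flp_h L32653) L22731 (flp_h L22051) (flp_d L31673) L45630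
theorem L45640 : sm gi N3656 = N5294 := rfl
theorem L45642 : sm ga N5294 = N4123 := ded_18_1 (flp_i L35562) (flp_a L31679) L45640
theorem L45644 : sm gd N5294 = N3768 := ded_39_1 (flp_i L32662) (flp_d L31685) L45640
theorem L45646 : sm gf N5294 = N3697 := ded_48_1 (flp_i L32019) (flp_f L31681) L45640
theorem L45648 : sm gg N5294 = N3657 := ded_51_1 (flp_i L31687) (flp_g L31683) L45640
theorem L45650 : sm gb N3658 = N5295 := rfl
theorem L45654 : sm gi N5295 = N3674 := ded_26_2 (flp_b L31836) (flp_i L31701) L45650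
theorem L45656 : sm gc N5295 = N4124 := ded_19_2 (flp_b L35570) (flp_c L24729) (flp_b L22057) L31695 L45650
theorem L45658 : sm gf N3658 = N5296 := rfl
theorem L45660 : sm ga N5296 = N3662 := ded_14_1 (flp_f L31734) (flp_a L31697) L45658
theorem L45662 : sm gc N5296 = N3659 := ded_29_1 (flp_f L31703) L31695 L45658
theorem L45664 : sm gj N5296 = N5296 := ded_46_2 (flp_f L45658) L31700 L45658
theorem L45665 : sm gi N5296 = N3675 := ded_48_2 (flp_f L31842) (flp_i L31701) L45658
theorem L45667 : sm gh N3658 = N5297 := rfl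
theorem L45669 : sm ga N5297 = N3663 := ded_17_1 (flp_h L31741) (flp_a L31697) L45667
theorem L45675 : sm ge N3659 = N5298 := rfl
theorem L45677 : sm ga N5298 = N3664 := ded_13_1 (flp_e L31747) (flp_a L31705) L45675
theorem L45679 : sm gb N5298 = N4127 := ded_21_1 (flp_e L35595) (flp_b L31707) L45675
theorem L45681 : sm gj N5298 = N5298 := ded_42_2 (flp_e L45675) L31711 L45675
theorem L45682 : sm gi N5298 = N3677 := ded_44_2 (flp_e L31857) (flp_i L31712) L45675
theorem L45684 : sm gd N5298 = N3701 := ded_34_1 (flp_e L32056) L22295 (flp_e L22073) (flp_d L31709) L45675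
theorem L45686 : sm gf N5298 = N5298 := ded_40_2 (flp_e L45675) (flp_f L31703) L22062 L31703 L45675
theorem L45687 : sm gg N3659 = N5299 := rfl
theorem L45689 : sm ga N5299 = N3665 := ded_15_1 (flp_g L31757) (flp_a L31705) L45687
theorem L45691 : sm gb N5299 = N4128 := ded_23_1 (flp_g L35605) (flp_b L31707) L45687
theorem L45693 : sm gd N5299 = N3661 := ded_36_1 (flp_g L31723) (flp_d L31709) L45687
theorem L45695 : sm gi N5299 = N3678 := ded_51_2 (flp_g L31867) (flp_i L31712) L45687
theorem L45718 : sm gj N3661 = N5302 := rfl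
theorem L45720 : sm ga N5302 = N3668 := ded_16_1 (flp_j L31782) (flp_a L31725) L45718
theorem L45722 : sm gb N5302 = N4131 := ded_24_1 (flp_j L35630) (flp_b L31727) L45718
theorem L45724 : sm ge N5302 = N3704 := ded_42_1 (flp_j L32088) (flp_e L31729) L45718
theorem L45726 : sm gh N5302 = N5302 := ded_52_2 (flp_j L45718) L31731 L45718
theorem L45727 : sm gi N5302 = N3681 := ded_53_2 (flp_j L31896) (flp_i L31732) L45718
theorem L45729 : sm gg N5302 = N5302 := ded_49_1 (flp_j L45718) (flp_g L31723) L22069 L31723 L45718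
theorem L45730 : sm ge N3662 = N5303 := rfl
theorem L45732 : sm gc N5303 = N3664 := ded_28_1 (flp_e L31747) (flp_c L31736) L45730
theorem L45734 : sm gj N5303 = N5303 := ded_42_2 (flp_e L45730) L31738 L45730
theorem L45735 : sm gi N5303 = N3682 := ded_44_2 (flp_e L31907) (flp_i L31739) L45730
theorem L45737 : sm gf N5303 = N5303 := ded_40_2 (flp_e L45730) (flp_f L31734) L22077 L31734 L45730
theorem L45738 : sm gg N3662 = N5304 := rfl
theorem L45740 : sm gc N5304 = N3665 := ded_30_1 (flp_g L31757) (flp_c L31736) L45738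
theorem L45742 : sm gi N5304 = N3683 := ded_51_2 (flp_g L31913) (flp_i L31739) L45738
theorem L45744 : sm gh N3662 = N5305 := rfl
theorem L45746 : sm gc N5305 = N3666 := ded_32_1 (flp_h L31765) (flp_c L31736) L45744
theorem L45748 : sm gf N5305 = N3663 := ded_47_1 (flp_h L31741) L31734 L45744
theorem L45750 : sm gj N5305 = N5305 := ded_52_1 (flp_h L45744) L31738 L45744
theorem L45751 : sm gd N3663 = N5306 := rfl
theorem L45755 : sm gi N3663 = N5307 := rfl
theorem L45757 : sm gc N5307 = N3667 := ded_33_1 (flp_i L31773) (flp_c L31743) L45755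
theorem L45761 : sm gh N5307 = N3686 := ded_54_1 (flp_i L31929) (flp_h L22193) (flp_i L22079) L31741 L45755
theorem L45763 : sm gg N3664 = N5308 := rfl
theorem L45765 : sm gb N5308 = N3669 := ded_23_1 (flp_g L31792) (flp_b L31749) L45763
theorem L45767 : sm gd N5308 = N3709 := ded_36_1 (flp_g L32132) (flp_d L31754) L45763
theorem L45769 : sm ge N5308 = N3665 := ded_41_1 (flp_g L31757) L31747 L45763
theorem L45771 : sm gi N5308 = N3687 := ded_51_2 (flp_g L31935) (flp_i L31752) L45763
theorem L45773 : sm gh N3664 = N5309 := rfl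
theorem L45775 : sm gb N5309 = N3670 := ded_25_1 (flp_h L31802) (flp_b L31749) L45773
theorem L45777 : sm ge N5309 = N3666 := ded_43_1 (flp_h L31765) L31747 L45773
theorem L45779 : sm gf N5309 = N5309 := ded_47_1 (flp_h L45773) L31756 L45773
theorem L45780 : sm gj N5309 = N5309 := ded_52_1 (flp_h L45773) L31751 L45773
theorem L45781 : sm gj N3665 = N5310 := rfl
theorem L45783 : sm gb N5310 = N3671 := ded_24_1 (flp_j L31810) (flp_b L31759) L45781
theorem L45785 : sm gd N5310 = N3668 := ded_37_1 (flp_j L31782) (flp_d L31761) L45781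
theorem L45787 : sm gi N5310 = N3689 := ded_53_2 (flp_j L31952) (flp_i L31763) L45781
theorem L45789 : sm gg N5310 = N5310 := ded_49_1 (flp_j L45781) (flp_g L31757) L22087 L31757 L45781
theorem L45790 : sm gh N3665 = N5311 := rfl
theorem L45792 : sm gb N5311 = N3672 := ded_25_1 (flp_h L31819) (flp_b L31759) L45790
theorem L45794 : sm gg N5311 = N3666 := ded_50_1 (flp_h L31765) L31757 L45790
theorem L45796 : sm gd N5311 = N5311 := ded_38_1 (flp_h L45790) L31761 L22103 (flp_d L31761) L45790
theorem L45797 : sm gi N3666 = N5312 := rfl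
theorem L45807 : sm gf N3669 = N5313 := rfl
theorem L45809 : sm ga N5313 = N4142 := ded_14_1 (flp_f L35720) (flp_a L31794) L45807
theorem L45811 : sm gd N5313 = N3713 := ded_35_1 (flp_f L32168) (flp_d L31796) L45807
theorem L45813 : sm gi N5313 = N3692 := ded_48_2 (flp_f L31976) (flp_i L31800) L45807
theorem L45815 : sm gg N5313 = N5313 := ded_45_2 (flp_f L45807) (flp_g L31792) L22115 L31792 L45807
theorem L45816 : sm gj N3669 = N5314 := rfl
theorem L45818 : sm ga N5314 = N4143 := ded_16_1 (flp_j L35727) (flp_a L31794) L45816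
theorem L45820 : sm gd N5314 = N3714 := ded_37_1 (flp_j L32177) (flp_d L31796) L45816
theorem L45822 : sm ge N5314 = N3671 := ded_42_1 (flp_j L31810) (flp_e L31798) L45816
theorem L45824 : sm gi N5314 = N3693 := ded_53_2 (flp_j L31983) (flp_i L31800) L45816
theorem L45826 : sm gg N5314 = N5314 := ded_49_1 (flp_j L45816) (flp_g L31792) L22110 L31792 L45816
theorem L45827 : sm gh N3669 = N5315 := rfl
theorem L45829 : sm ga N5315 = N4144 := ded_17_1 (flp_h L35736) (flp_a L31794) L45827
theorem L45831 : sm ge N5315 = N3672 := ded_43_1 (flp_h L31819) (flp_e L31798) L45827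
theorem L45833 : sm gg N5315 = N3670 := ded_50_1 (flp_h L31802) L31792 L45827
theorem L45835 : sm gd N3670 = N5316 := rfl
theorem L45837 : sm ga N5316 = N4145 := ded_12_1 (flp_d L35742) (flp_a L31804) L45835
theorem L45839 : sm gf N5316 = N5316 := ded_35_2 (flp_d L45835) L31808 L45835
theorem L45840 : sm gj N5316 = N5316 := ded_37_2 (flp_d L45835) L31809 L45835
theorem L45841 : sm ge N5316 = N5316 := ded_34_2 (flp_d L45835) L31806 L22131 (flp_e L31806) L45835
theorem L45842 : sm gh N5316 = N3716 := ded_38_2 (flp_d L32197) (flp_h L22382) (flp_d L22113) L31802 L45835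
theorem L45844 : sm gi N3670 = N5317 := rfl
theorem L45846 : sm ga N5317 = N4146 := ded_18_1 (flp_i L35749) (flp_a L31804) L45844
theorem L45848 : sm ge N5317 = N3673 := ded_44_1 (flp_i L31826) (flp_e L31806) L45844
theorem L45850 : sm gf N5317 = N5317 := ded_48_1 (flp_i L45844) L31808 L45844
theorem L45851 : sm gj N5317 = N5317 := ded_53_1 (flp_i L45844) L31809 L45844
theorem L45852 : sm gh N5317 = N3695 := ded_54_1 (flp_i L32001) (flp_h L22247) (flp_i L22111) L31802 L45844
theorem L45854 : sm gh N3671 = N5318 := rfl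
theorem L45856 : sm ga N5318 = N4147 := ded_17_1 (flp_h L35757) (flp_a L31812) L45854
theorem L45858 : sm gg N5318 = N5318 := ded_50_1 (flp_h L45854) L31818 L45854
theorem L45859 : sm gj N5318 = N3672 := ded_52_1 (flp_h L31819) L31810 L45854
theorem L45861 : sm gd N5318 = N5318 := ded_38_1 (flp_h L45854) L31814 L22149 (flp_d L31814) L45854
theorem L45862 : sm gi N3672 = N5319 := rfl
theorem L45864 : sm ga N5319 = N4148 := ded_18_1 (flp_i L35763) (flp_a L31821) L45862
theorem L45866 : sm gd N5319 = N5319 := ded_39_1 (flp_i L45862) L31825 L45862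
theorem L45867 : sm gg N5319 = N3673 := ded_51_1 (flp_i L31826) (flp_g L31823) L45862
theorem L45869 : sm gh N5319 = N3697 := ded_54_1 (flp_i L32019) (flp_h L22263) (flp_i L22122) L31819 L45862
theorem L45871 : sm gf N3674 = N5320 := rfl
theorem L45873 : sm gb N5320 = N3675 := ded_22_1 (flp_f L31842) L31836 L45871
theorem L45875 : sm gc N5320 = N4149 := ded_29_1 (flp_f L35770) (flp_c L31840) L45871
theorem L45878 : sm gh N3674 = N5321 := rfl
theorem L45880 : sm gb N5321 = N3676 := ded_25_1 (flp_h L31849) L31836 L45878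
theorem L45886 : sm ge N3675 = N5322 := rfl
theorem L45888 : sm ga N5322 = N3682 := ded_13_1 (flp_e L31907) (flp_a L31844) L45886
theorem L45890 : sm gc N5322 = N3677 := ded_28_1 (flp_e L31857) (flp_c L31846) L45886
theorem L45892 : sm gj N5322 = N5322 := ded_42_2 (flp_e L45886) L31848 L45886
theorem L45893 : sm gf N5322 = N5322 := ded_40_2 (flp_e L45886) (flp_f L31842) L22157 L31842 L45886
theorem L45894 : sm gg N3675 = N5323 := rfl
theorem L45896 : sm ga N5323 = N3683 := ded_15_1 (flp_g L31913) (flp_a L31844) L45894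
theorem L45898 : sm gc N5323 = N3678 := ded_30_1 (flp_g L31867) (flp_c L31846) L45894
theorem L45900 : sm gh N3675 = N5324 := rfl
theorem L45902 : sm ga N5324 = N3684 := ded_17_1 (flp_h L31917) (flp_a L31844) L45900
theorem L45904 : sm gc N5324 = N3679 := ded_32_1 (flp_h L31875) (flp_c L31846) L45900
theorem L45906 : sm gf N5324 = N3676 := ded_47_1 (flp_h L31849) L31842 L45900
theorem L45909 : sm gd N3676 = N5325 := rfl
theorem L45911 : sm ga N5325 = N3685 := ded_12_1 (flp_d L31924) (flp_a L31851) L45909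
theorem L45914 : sm gc N5325 = N3773 := ded_27_1 (flp_d L32710) L22775 (flp_d L22176) (flp_c L31853) L45909
theorem L45924 : sm gg N3677 = N5327 := rfl
theorem L45926 : sm ga N5327 = N3687 := ded_15_1 (flp_g L31935) (flp_a L31859) L45924
theorem L45928 : sm gb N5327 = N4156 := ded_23_1 (flp_g L35822) (flp_b L31861) L45924
theorem L45930 : sm gd N5327 = N3721 := ded_36_1 (flp_g L32242) (flp_d L31864) L45924
theorem L45932 : sm ge N5327 = N3678 := ded_41_1 (flp_g L31867) L31857 L45924
theorem L45934 : sm gh N3677 = N5328 := rfl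
theorem L45936 : sm ga N5328 = N3688 := ded_17_1 (flp_h L31943) (flp_a L31859) L45934
theorem L45938 : sm gb N5328 = N4157 := ded_25_1 (flp_h L35830) (flp_b L31861) L45934
theorem L45945 : sm gj N3678 = N5329 := rfl
theorem L45947 : sm ga N5329 = N3689 := ded_16_1 (flp_j L31952) (flp_a L31869) L45945
theorem L45949 : sm gb N5329 = N4158 := ded_24_1 (flp_j L35839) (flp_b L31871) L45945
theorem L45951 : sm gd N5329 = N3681 := ded_37_1 (flp_j L31896) (flp_d L31873) L45945
theorem L45953 : sm gg N5329 = N5329 := ded_49_1 (flp_j L45945) (flp_g L31867) L22167 L31867 L45945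
theorem L45954 : sm gh N3678 = N5330 := rfl
theorem L45956 : sm ga N5330 = N3690 := ded_17_1 (flp_h L31959) (flp_a L31869) L45954
theorem L45962 : sm gd N5330 = N3776 := ded_38_1 (flp_h L32736) L22786 (flp_h L22186) (flp_d L31873) L45954
theorem L45975 : sm gd N3682 = N5332 := rfl
theorem L45977 : sm gf N5332 = N5332 := ded_35_2 (flp_d L45975) L31912 L45975
theorem L45978 : sm gj N5332 = N5332 := ded_37_2 (flp_d L45975) L31911 L45975
theorem L45979 : sm gc N5332 = N3723 := ded_27_1 (flp_d L32262) L22462 (flp_d L22204) (flp_c L31909) L45975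
theorem L45981 : sm gg N3682 = N5333 := rfl
theorem L45983 : sm gc N5333 = N3687 := ded_30_1 (flp_g L31935) (flp_c L31909) L45981
theorem L45985 : sm ge N5333 = N3683 := ded_41_1 (flp_g L31913) L31907 L45981
theorem L45987 : sm gh N3682 = N5334 := rfl
theorem L45989 : sm gc N5334 = N3688 := ded_32_1 (flp_h L31943) (flp_c L31909) L45987
theorem L45991 : sm ge N5334 = N3684 := ded_43_1 (flp_h L31917) L31907 L45987
theorem L45993 : sm gf N5334 = N5334 := ded_47_1 (flp_h L45987) L31912 L45987
theorem L45994 : sm gj N5334 = N5334 := ded_52_1 (flp_h L45987) L31911 L45987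
theorem L45995 : sm gj N3683 = N5335 := rfl
theorem L45997 : sm gc N5335 = N3689 := ded_31_1 (flp_j L31952) (flp_c L31915) L45995
theorem L45999 : sm gg N5335 = N5335 := ded_49_1 (flp_j L45995) (flp_g L31913) L22192 L31913 L45995
theorem L46000 : sm gh N3683 = N5336 := rfl
theorem L46002 : sm gc N5336 = N3690 := ded_32_1 (flp_h L31959) (flp_c L31915) L46000
theorem L46004 : sm gg N5336 = N3684 := ded_50_1 (flp_h L31917) L31913 L46000
theorem L46006 : sm gd N3684 = N5337 := rfl
theorem L46008 : sm gf N5337 = N3685 := ded_35_2 (flp_d L31924) (flp_f L31921) L46006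
theorem L46010 : sm gj N5337 = N5337 := ded_37_2 (flp_d L46006) L31923 L46006
theorem L46011 : sm gc N5337 = N3780 := ded_27_1 (flp_d L32772) L22830 (flp_d L22220) (flp_c L31919) L46006
theorem L46013 : sm gi N3684 = N5338 := rfl
theorem L46017 : sm gf N5338 = N3686 := ded_48_1 (flp_i L31929) (flp_f L31921) L46013
theorem L46020 : sm ge N3685 = N5339 := rfl
theorem L46022 : sm gc N5339 = N3782 := ded_28_1 (flp_e L32788) (flp_c L31927) L46020
theorem L46024 : sm gj N5339 = N5339 := ded_42_2 (flp_e L46020) L31926 L46020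
theorem L46025 : sm gd N5339 = N5339 := ded_34_1 (flp_e L46020) (flp_d L31924) L22197 L31924 L46020
theorem L46026 : sm gi N3685 = N5340 := rfl
theorem L46030 : sm gd N5340 = N3686 := ded_39_1 (flp_i L31929) L31924 L46026
theorem L46033 : sm gf N3687 = N5341 := rfl
theorem L46035 : sm gb N5341 = N3692 := ded_22_1 (flp_f L31976) (flp_b L31937) L46033
theorem L46037 : sm gd N5341 = N3726 := ded_35_1 (flp_f L32283) (flp_d L31939) L46033
theorem L46039 : sm gg N5341 = N5341 := ded_45_2 (flp_f L46033) (flp_g L31935) L22206 L31935 L46033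
theorem L46040 : sm gj N3687 = N5342 := rfl
theorem L46042 : sm gb N5342 = N3693 := ded_24_1 (flp_j L31983) (flp_b L31937) L46040
theorem L46044 : sm gd N5342 = N3727 := ded_37_1 (flp_j L32290) (flp_d L31939) L46040
theorem L46046 : sm ge N5342 = N3689 := ded_42_1 (flp_j L31952) (flp_e L31941) L46040
theorem L46048 : sm gg N5342 = N5342 := ded_49_1 (flp_j L46040) (flp_g L31935) L22203 L31935 L46040
theorem L46049 : sm gh N3687 = N5343 := rfl
theorem L46051 : sm gb N5343 = N3694 := ded_25_1 (flp_h L31992) (flp_b L31937) L46049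
theorem L46053 : sm ge N5343 = N3690 := ded_43_1 (flp_h L31959) (flp_e L31941) L46049
theorem L46055 : sm gg N5343 = N3688 := ded_50_1 (flp_h L31943) L31935 L46049
theorem L46057 : sm gd N5343 = N5343 := ded_38_1 (flp_h L46049) L31939 L22480 (flp_d L31939) L46049
theorem L46058 : sm gi N3688 = N5344 := rfl
theorem L46060 : sm gb N5344 = N3695 := ded_26_1 (flp_i L32001) (flp_b L31945) L46058
theorem L46067 : sm gh N3689 = N5345 := rfl
theorem L46069 : sm gb N5345 = N3696 := ded_25_1 (flp_h L32010) (flp_b L31954) L46067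
theorem L46071 : sm gg N5345 = N5345 := ded_50_1 (flp_h L46067) L31958 L46067
theorem L46072 : sm gj N5345 = N3690 := ded_52_1 (flp_h L31959) L31952 L46067
theorem L46074 : sm gd N5345 = N3784 := ded_38_1 (flp_h L32800) L22853 (flp_h L22236) (flp_d L31956) L46067
theorem L46076 : sm gi N3690 = N5346 := rfl
theorem L46084 : sm gj N3692 = N5347 := rfl
theorem L46088 : sm gd N5347 = N3728 := ded_37_1 (flp_j L32298) (flp_d L31980) L46084
theorem L46090 : sm gf N5347 = N3693 := ded_46_1 (flp_j L31983) L31976 L46084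
theorem L46092 : sm gh N3692 = N5348 := rfl
theorem L46096 : sm gf N5348 = N3694 := ded_47_1 (flp_h L31992) L31976 L46092
theorem L46100 : sm gh N3693 = N5349 := rfl
theorem L46104 : sm ge N5349 = N3696 := ded_43_1 (flp_h L32010) (flp_e L31989) L46100
theorem L46107 : sm gj N5349 = N3694 := ded_52_1 (flp_h L31992) L31983 L46100
theorem L46110 : sm gi N3694 = N5350 := rfl
theorem L46112 : sm ga N5350 = N4179 := ded_18_1 (flp_i L35996) (flp_a L31994) L46110
theorem L46114 : sm gd N5350 = N5350 := ded_39_1 (flp_i L46110) L32000 L46110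
theorem L46115 : sm ge N5350 = N3697 := ded_44_1 (flp_i L32019) (flp_e L31996) L46110
theorem L46117 : sm gg N5350 = N3695 := ded_51_1 (flp_i L32001) (flp_g L31998) L46110
theorem L46119 : sm gi N3696 = N5351 := rfl
theorem L46121 : sm ga N5351 = N4180 := ded_18_1 (flp_i L36003) (flp_a L32012) L46119
theorem L46123 : sm gd N5351 = N3786 := ded_39_1 (flp_i L32816) (flp_d L32017) L46119
theorem L46125 : sm gg N5351 = N5351 := ded_51_1 (flp_i L46119) L32014 L46119
theorem L46126 : sm gj N5351 = N3697 := ded_53_1 (flp_i L32019) (flp_j L32015) L46119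
theorem L46128 : sm gf N3698 = N5352 := rfl
theorem L46131 : sm gb N5352 = N3699 := ded_22_1 (flp_f L32037) L32027 L46128
theorem L46133 : sm gc N5352 = N4181 := ded_29_1 (flp_f L36010) (flp_c L32035) L46128
theorem L46136 : sm gi N5352 = N3718 := ded_48_2 (flp_f L32216) (flp_i L32032) L46128
theorem L46149 : sm ge N3699 = N5354 := rfl
theorem L46151 : sm ga N5354 = N3705 := ded_13_1 (flp_e L32099) (flp_a L32039) L46149
theorem L46153 : sm gc N5354 = N3701 := ded_28_1 (flp_e L32056) (flp_c L32041) L46149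
theorem L46155 : sm gj N5354 = N5354 := ded_42_2 (flp_e L46149) L32043 L46149
theorem L46156 : sm gi N5354 = N3719 := ded_44_2 (flp_e L32225) (flp_i L32044) L46149
theorem L46158 : sm gf N5354 = N5354 := ded_40_2 (flp_e L46149) (flp_f L32037) L22284 L32037 L46149
theorem L46159 : sm gg N3699 = N5355 := rfl
theorem L46161 : sm ga N5355 = N3706 := ded_15_1 (flp_g L32108) (flp_a L32039) L46159
theorem L46163 : sm gc N5355 = N3702 := ded_30_1 (flp_g L32066) (flp_c L32041) L46159
theorem L46165 : sm gi N5355 = N3720 := ded_51_2 (flp_g L32234) (flp_i L32044) L46159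
theorem L46167 : sm gf N5355 = N5355 := ded_45_1 (flp_g L46159) (flp_f L32037) L22285 L32037 L46159
theorem L46168 : sm gh N3699 = N5356 := rfl
theorem L46170 : sm ga N5356 = N3707 := ded_17_1 (flp_h L32116) (flp_a L32039) L46168
theorem L46178 : sm gd N3700 = N5357 := rfl
theorem L46186 : sm gg N3701 = N5358 := rfl
theorem L46188 : sm ga N5358 = N3709 := ded_15_1 (flp_g L32132) (flp_a L32058) L46186
theorem L46190 : sm gb N5358 = N4187 := ded_23_1 (flp_g L36067) (flp_b L32060) L46186
theorem L46192 : sm ge N5358 = N3702 := ded_41_1 (flp_g L32066) L32056 L46186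
theorem L46194 : sm gi N5358 = N3721 := ded_51_2 (flp_g L32242) (flp_i L32063) L46186
theorem L46196 : sm gh N3701 = N5359 := rfl
theorem L46198 : sm ga N5359 = N3710 := ded_17_1 (flp_h L32140) (flp_a L32058) L46196
theorem L46200 : sm gb N5359 = N4188 := ded_25_1 (flp_h L36075) (flp_b L32060) L46196
theorem L46202 : sm ge N5359 = N3703 := ded_43_1 (flp_h L32077) L32056 L46196
theorem L46204 : sm gf N5359 = N5359 := ded_47_1 (flp_h L46196) L32065 L46196
theorem L46205 : sm gj N5359 = N5359 := ded_52_1 (flp_h L46196) L32062 L46196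
theorem L46206 : sm gi N5359 = N5359 := ded_54_2 (flp_h L46196) L32063 L22437 (flp_i L32063) L46196
theorem L46207 : sm gj N3702 = N5360 := rfl
theorem L46209 : sm ga N5360 = N3711 := ded_16_1 (flp_j L32149) (flp_a L32068) L46207
theorem L46211 : sm gb N5360 = N4189 := ded_24_1 (flp_j L36084) (flp_b L32070) L46207
theorem L46213 : sm gd N5360 = N3704 := ded_37_1 (flp_j L32088) (flp_d L32072) L46207
theorem L46215 : sm gf N5360 = N5360 := ded_46_1 (flp_j L46207) L32076 L46207
theorem L46216 : sm gi N5360 = N3722 := ded_53_2 (flp_j L32251) (flp_i L32074) L46207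
theorem L46218 : sm gg N5360 = N5360 := ded_49_1 (flp_j L46207) (flp_g L32066) L22297 L32066 L46207
theorem L46219 : sm gh N3702 = N5361 := rfl
theorem L46221 : sm ga N5361 = N3712 := ded_17_1 (flp_h L32159) (flp_a L32068) L46219
theorem L46223 : sm gb N5361 = N4190 := ded_25_1 (flp_h L36094) (flp_b L32070) L46219
theorem L46225 : sm gf N5361 = N5361 := ded_47_1 (flp_h L46219) L32076 L46219
theorem L46226 : sm gg N5361 = N3703 := ded_50_1 (flp_h L32077) L32066 L46219
theorem L46228 : sm gd N5361 = N5361 := ded_38_1 (flp_h L46219) L32072 L22317 (flp_d L32072) L46219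
theorem L46229 : sm gi N5361 = N5361 := ded_54_2 (flp_h L46219) L32074 L22447 (flp_i L32074) L46219
theorem L46230 : sm gd N3705 = N5362 := rfl
theorem L46232 : sm gb N5362 = N5362 := ded_20_1 (flp_d L46230) L32101 L46230
theorem L46233 : sm gf N5362 = N5362 := ded_35_2 (flp_d L46230) L32107 L46230
theorem L46234 : sm gj N5362 = N5362 := ded_37_2 (flp_d L46230) L32104 L46230
theorem L46235 : sm gi N5362 = N3723 := ded_39_2 (flp_d L32262) (flp_i L32105) L46230
theorem L46237 : sm gg N3705 = N5363 := rfl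
theorem L46239 : sm gb N5363 = N5363 := ded_23_1 (flp_g L46237) L32101 L46237
theorem L46240 : sm gc N5363 = N3709 := ded_30_1 (flp_g L32132) (flp_c L32102) L46237
theorem L46242 : sm ge N5363 = N3706 := ded_41_1 (flp_g L32108) L32099 L46237
theorem L46244 : sm gi N5363 = N3724 := ded_51_2 (flp_g L32267) (flp_i L32105) L46237
theorem L46246 : sm gh N3705 = N5364 := rfl
theorem L46248 : sm gb N5364 = N5364 := ded_25_1 (flp_h L46246) L32101 L46246
theorem L46249 : sm gc N5364 = N3710 := ded_32_1 (flp_h L32140) (flp_c L32102) L46246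
theorem L46251 : sm ge N5364 = N3707 := ded_43_1 (flp_h L32116) L32099 L46246
theorem L46253 : sm gf N5364 = N5364 := ded_47_1 (flp_h L46246) L32107 L46246
theorem L46254 : sm gj N5364 = N5364 := ded_52_1 (flp_h L46246) L32104 L46246
theorem L46255 : sm gi N5364 = N5364 := ded_54_2 (flp_h L46246) L32105 L22465 (flp_i L32105) L46246
theorem L46256 : sm gj N3706 = N5365 := rfl
theorem L46258 : sm gb N5365 = N5365 := ded_24_1 (flp_j L46256) L32110 L46256
theorem L46259 : sm gc N5365 = N3711 := ded_31_1 (flp_j L32149) (flp_c L32111) L46256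
theorem L46261 : sm gf N5365 = N5365 := ded_46_1 (flp_j L46256) L32115 L46256
theorem L46262 : sm gi N5365 = N3725 := ded_53_2 (flp_j L32275) (flp_i L32113) L46256
theorem L46264 : sm gg N5365 = N5365 := ded_49_1 (flp_j L46256) (flp_g L32108) L22326 L32108 L46256
theorem L46265 : sm gh N3706 = N5366 := rfl
theorem L46267 : sm gb N5366 = N5366 := ded_25_1 (flp_h L46265) L32110 L46265
theorem L46268 : sm gc N5366 = N3712 := ded_32_1 (flp_h L32159) (flp_c L32111) L46265
theorem L46270 : sm gf N5366 = N5366 := ded_47_1 (flp_h L46265) L32115 L46265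
theorem L46271 : sm gg N5366 = N3707 := ded_50_1 (flp_h L32116) L32108 L46265
theorem L46273 : sm gi N5366 = N5366 := ded_54_2 (flp_h L46265) L32113 L22472 (flp_i L32113) L46265
theorem L46274 : sm gd N3707 = N5367 := rfl
theorem L46277 : sm gf N5367 = N3708 := ded_35_2 (flp_d L32125) (flp_f L32121) L46274
theorem L46282 : sm ge N3708 = N5368 := rfl
theorem L46290 : sm gf N3709 = N5369 := rfl
theorem L46292 : sm gb N5369 = N3713 := ded_22_1 (flp_f L32168) (flp_b L32134) L46290
theorem L46294 : sm gi N5369 = N3726 := ded_48_2 (flp_f L32283) (flp_i L32138) L46290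
theorem L46296 : sm ge N5369 = N5369 := ded_40_1 (flp_f L46290) L32136 L22354 (flp_e L32136) L46290
theorem L46297 : sm gg N5369 = N5369 := ded_45_2 (flp_f L46290) (flp_g L32132) L22345 L32132 L46290
theorem L46298 : sm gj N3709 = N5370 := rfl
theorem L46300 : sm gb N5370 = N3714 := ded_24_1 (flp_j L32177) (flp_b L32134) L46298
theorem L46302 : sm ge N5370 = N3711 := ded_42_1 (flp_j L32149) (flp_e L32136) L46298
theorem L46304 : sm gi N5370 = N3727 := ded_53_2 (flp_j L32290) (flp_i L32138) L46298
theorem L46306 : sm gg N5370 = N5370 := ded_49_1 (flp_j L46298) (flp_g L32132) L22342 L32132 L46298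
theorem L46307 : sm gh N3709 = N5371 := rfl
theorem L46309 : sm gb N5371 = N3715 := ded_25_1 (flp_h L32187) (flp_b L32134) L46307
theorem L46311 : sm ge N5371 = N3712 := ded_43_1 (flp_h L32159) (flp_e L32136) L46307
theorem L46313 : sm gg N5371 = N3710 := ded_50_1 (flp_h L32140) L32132 L46307
theorem L46315 : sm gi N5371 = N5371 := ded_54_2 (flp_h L46307) L32138 L22480 (flp_i L32138) L46307
theorem L46316 : sm gd N3710 = N5372 := rfl
theorem L46318 : sm gb N5372 = N3716 := ded_20_1 (flp_d L32197) (flp_b L32142) L46316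
theorem L46320 : sm gf N5372 = N5372 := ded_35_2 (flp_d L46316) L32146 L46316
theorem L46321 : sm gj N5372 = N5372 := ded_37_2 (flp_d L46316) L32147 L46316
theorem L46322 : sm gi N5372 = N5372 := ded_39_2 (flp_d L46316) L32148 L46316
theorem L46323 : sm ge N5372 = N5372 := ded_34_2 (flp_d L46316) L32144 L22362 (flp_e L32144) L46316
theorem L46324 : sm gh N3711 = N5373 := rfl
theorem L46326 : sm gb N5373 = N3717 := ded_25_1 (flp_h L32205) (flp_b L32151) L46324
theorem L46328 : sm gf N5373 = N5373 := ded_47_1 (flp_h L46324) L32155 L46324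
theorem L46329 : sm gg N5373 = N5373 := ded_50_1 (flp_h L46324) L32158 L46324
theorem L46330 : sm gj N5373 = N3712 := ded_52_1 (flp_h L32159) L32149 L46324
theorem L46332 : sm gd N5373 = N5373 := ded_38_1 (flp_h L46324) L32153 L22369 (flp_d L32153) L46324
theorem L46333 : sm gi N5373 = N5373 := ded_54_2 (flp_h L46324) L32156 L22488 (flp_i L32156) L46324
theorem L46334 : sm gj N3713 = N5374 := rfl
theorem L46336 : sm ga N5374 = N4203 := ded_16_1 (flp_j L36211) (flp_a L32170) L46334
theorem L46338 : sm gc N5374 = N5374 := ded_31_1 (flp_j L46334) L32172 L46334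
theorem L46339 : sm ge N5374 = N5374 := ded_42_1 (flp_j L46334) L32175 L46334
theorem L46340 : sm gf N5374 = N3714 := ded_46_1 (flp_j L32177) L32168 L46334
theorem L46342 : sm gi N5374 = N3728 := ded_53_2 (flp_j L32298) (flp_i L32173) L46334
theorem L46344 : sm gh N3713 = N5375 := rfl
theorem L46346 : sm ga N5375 = N4204 := ded_17_1 (flp_h L36219) (flp_a L32170) L46344
theorem L46348 : sm gc N5375 = N5375 := ded_32_1 (flp_h L46344) L32172 L46344
theorem L46349 : sm ge N5375 = N5375 := ded_43_1 (flp_h L46344) L32175 L46344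
theorem L46350 : sm gf N5375 = N3715 := ded_47_1 (flp_h L32187) L32168 L46344
theorem L46352 : sm gg N5375 = N5375 := ded_50_1 (flp_h L46344) L32176 L46344
theorem L46353 : sm gi N5375 = N5375 := ded_54_2 (flp_h L46344) L32173 L22495 (flp_i L32173) L46344
theorem L46354 : sm gh N3714 = N5376 := rfl
theorem L46356 : sm ga N5376 = N4205 := ded_17_1 (flp_h L36227) (flp_a L32179) L46354
theorem L46358 : sm gc N5376 = N5376 := ded_32_1 (flp_h L46354) L32181 L46354
theorem L46359 : sm ge N5376 = N3717 := ded_43_1 (flp_h L32205) (flp_e L32182) L46354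
theorem L46361 : sm gg N5376 = N5376 := ded_50_1 (flp_h L46354) L32186 L46354
theorem L46362 : sm gj N5376 = N3715 := ded_52_1 (flp_h L32187) L32177 L46354
theorem L46364 : sm gi N5376 = N5376 := ded_54_2 (flp_h L46354) L32184 L22505 (flp_i L32184) L46354
theorem L46365 : sm gd N3715 = N5377 := rfl
theorem L46367 : sm ga N5377 = N4206 := ded_12_1 (flp_d L36236) (flp_a L32189) L46365
theorem L46369 : sm gg N5377 = N3716 := ded_36_2 (flp_d L32197) (flp_g L32194) L46365
theorem L46371 : sm gi N5377 = N5377 := ded_39_2 (flp_d L46365) L32196 L46365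
theorem L46372 : sm ge N5377 = N5377 := ded_34_2 (flp_d L46365) L32192 L22411 (flp_e L32192) L46365
theorem L46373 : sm gc N3716 = N5378 := rfl
theorem L46375 : sm ga N5378 = N4207 := ded_11_1 (flp_c L36242) (flp_a L32199) L46373
theorem L46377 : sm ge N5378 = N5378 := ded_28_2 (flp_c L46373) L32204 L46373
theorem L46378 : sm gf N5378 = N5378 := ded_29_2 (flp_c L46373) L32201 L46373
theorem L46379 : sm gj N5378 = N5378 := ded_31_2 (flp_c L46373) L32202 L46373
theorem L46380 : sm gi N5378 = N5378 := ded_33_2 (flp_c L46373) L32203 L46373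
theorem L46381 : sm gd N5378 = N5378 := ded_27_2 (flp_c L46373) (flp_d L32197) L22386 L32197 L46373
theorem L46382 : sm ge N3718 = N5379 := rfl
theorem L46384 : sm ga N5379 = N5379 := ded_13_1 (flp_e L46382) L32218 L46382
theorem L46385 : sm gb N5379 = N3719 := ded_21_1 (flp_e L32225) (flp_b L32219) L46382
theorem L46387 : sm gc N5379 = N4208 := ded_28_1 (flp_e L36249) (flp_c L32221) L46382
theorem L46389 : sm gj N5379 = N5379 := ded_42_2 (flp_e L46382) L32223 L46382
theorem L46390 : sm gh N5379 = N5379 := ded_43_2 (flp_e L46382) L32224 L46382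
theorem L46391 : sm gf N5379 = N5379 := ded_40_2 (flp_e L46382) (flp_f L32216) L22415 L32216 L46382
theorem L46392 : sm gg N3718 = N5380 := rfl
theorem L46394 : sm ga N5380 = N5380 := ded_15_1 (flp_g L46392) L32218 L46392
theorem L46395 : sm gb N5380 = N3720 := ded_23_1 (flp_g L32234) (flp_b L32219) L46392
theorem L46397 : sm gc N5380 = N4209 := ded_30_1 (flp_g L36257) (flp_c L32221) L46392
theorem L46399 : sm gh N5380 = N5380 := ded_50_2 (flp_g L46392) L32224 L46392
theorem L46400 : sm gf N5380 = N5380 := ded_45_1 (flp_g L46392) (flp_f L32216) L22416 L32216 L46392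
theorem L46401 : sm gd N3719 = N5381 := rfl
theorem L46403 : sm ga N5381 = N3723 := ded_12_1 (flp_d L32262) (flp_a L32227) L46401
theorem L46405 : sm gf N5381 = N5381 := ded_35_2 (flp_d L46401) L32233 L46401
theorem L46406 : sm gj N5381 = N5381 := ded_37_2 (flp_d L46401) L32231 L46401
theorem L46407 : sm gg N3719 = N5382 := rfl
theorem L46409 : sm ga N5382 = N3724 := ded_15_1 (flp_g L32267) (flp_a L32227) L46407
theorem L46411 : sm gc N5382 = N3721 := ded_30_1 (flp_g L32242) (flp_c L32229) L46407
theorem L46413 : sm ge N5382 = N3720 := ded_41_1 (flp_g L32234) L32225 L46407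
theorem L46415 : sm gh N5382 = N5382 := ded_50_2 (flp_g L46407) L32232 L46407
theorem L46416 : sm gj N3720 = N5383 := rfl
theorem L46418 : sm ga N5383 = N3725 := ded_16_1 (flp_j L32275) (flp_a L32236) L46416
theorem L46420 : sm gc N5383 = N3722 := ded_31_1 (flp_j L32251) (flp_c L32238) L46416
theorem L46422 : sm gf N5383 = N5383 := ded_46_1 (flp_j L46416) L32241 L46416
theorem L46423 : sm gh N5383 = N5383 := ded_52_2 (flp_j L46416) L32240 L46416
theorem L46424 : sm gg N5383 = N5383 := ded_49_1 (flp_j L46416) (flp_g L32234) L22428 L32234 L46416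
theorem L46425 : sm gf N3721 = N5384 := rfl
theorem L46427 : sm ga N5384 = N3726 := ded_14_1 (flp_f L32283) (flp_a L32244) L46425
theorem L46429 : sm gb N5384 = N4213 := ded_22_1 (flp_f L36291) (flp_b L32246) L46425
theorem L46431 : sm gh N5384 = N5384 := ded_47_2 (flp_f L46425) L32250 L46425
theorem L46432 : sm ge N5384 = N5384 := ded_40_1 (flp_f L46425) L32248 L22448 (flp_e L32248) L46425
theorem L46433 : sm gg N5384 = N5384 := ded_45_2 (flp_f L46425) (flp_g L32242) L22438 L32242 L46425
theorem L46434 : sm gj N3721 = N5385 := rfl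
theorem L46436 : sm ga N5385 = N3727 := ded_16_1 (flp_j L32290) (flp_a L32244) L46434
theorem L46438 : sm gb N5385 = N4214 := ded_24_1 (flp_j L36298) (flp_b L32246) L46434
theorem L46440 : sm ge N5385 = N3722 := ded_42_1 (flp_j L32251) (flp_e L32248) L46434
theorem L46442 : sm gh N5385 = N5385 := ded_52_2 (flp_j L46434) L32250 L46434
theorem L46443 : sm gg N5385 = N5385 := ded_49_1 (flp_j L46434) (flp_g L32242) L22436 L32242 L46434
theorem L46444 : sm gg N3723 = N5386 := rfl
theorem L46446 : sm gb N5386 = N5386 := ded_23_1 (flp_g L46444) L32264 L46444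
theorem L46447 : sm gd N5386 = N3724 := ded_36_1 (flp_g L32267) L32262 L46444
theorem L46449 : sm gh N3723 = N5387 := rfl
theorem L46451 : sm gb N5387 = N5387 := ded_25_1 (flp_h L46449) L32264 L46449
theorem L46452 : sm gf N5387 = N5387 := ded_47_1 (flp_h L46449) L32265 L46449
theorem L46453 : sm gj N5387 = N5387 := ded_52_1 (flp_h L46449) L32266 L46449
theorem L46454 : sm gd N5387 = N5387 := ded_38_1 (flp_h L46449) (flp_d L32262) L22465 L32262 L46449
theorem L46455 : sm gf N3724 = N5388 := rfl
theorem L46457 : sm gb N5388 = N5388 := ded_22_1 (flp_f L46455) L32269 L46455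
theorem L46458 : sm gc N5388 = N3726 := ded_29_1 (flp_f L32283) (flp_c L32270) L46455
theorem L46460 : sm gh N5388 = N5388 := ded_47_2 (flp_f L46455) L32274 L46455
theorem L46461 : sm ge N5388 = N5388 := ded_40_1 (flp_f L46455) L32272 L22473 (flp_e L32272) L46455
theorem L46462 : sm gg N5388 = N5388 := ded_45_2 (flp_f L46455) (flp_g L32267) L22466 L32267 L46455
theorem L46463 : sm gj N3724 = N5389 := rfl
theorem L46465 : sm gb N5389 = N5389 := ded_24_1 (flp_j L46463) L32269 L46463
theorem L46466 : sm gc N5389 = N3727 := ded_31_1 (flp_j L32290) (flp_c L32270) L46463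
theorem L46468 : sm ge N5389 = N3725 := ded_42_1 (flp_j L32275) (flp_e L32272) L46463
theorem L46470 : sm gh N5389 = N5389 := ded_52_2 (flp_j L46463) L32274 L46463
theorem L46471 : sm gg N5389 = N5389 := ded_49_1 (flp_j L46463) (flp_g L32267) L22464 L32267 L46463
theorem L46472 : sm gj N3726 = N5390 := rfl
theorem L46474 : sm gb N5390 = N3728 := ded_24_1 (flp_j L32298) (flp_b L32285) L46472
theorem L46476 : sm ge N5390 = N5390 := ded_42_1 (flp_j L46472) L32288 L46472
theorem L46477 : sm gf N5390 = N3727 := ded_46_1 (flp_j L32290) L32283 L46472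
theorem L46479 : sm gh N5390 = N5390 := ded_52_2 (flp_j L46472) L32287 L46472
theorem L46480 : sm gg N3728 = N5391 := rfl
theorem L46482 : sm ga N5391 = N4220 := ded_15_1 (flp_g L36344) (flp_a L32300) L46480
theorem L46489 : sm gb N3729 = N5392 := rfl
theorem L46491 : sm ge N5392 = N3787 := ded_21_2 (flp_b L32826) (flp_e L32311) L46489
theorem L46494 : sm gj N5392 = N3745 := ded_24_2 (flp_b L32460) (flp_j L32314) L46489
theorem L46498 : sm gc N5392 = N4221 := ded_19_2 (flp_b L36351) (flp_c L25291) (flp_b L22511) L32307 L46489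
theorem L46500 : sm gf N3729 = N5393 := rfl
theorem L46502 : sm ga N5393 = N3733 := ded_14_1 (flp_f L32348) (flp_a L32309) L46500
theorem L46504 : sm gc N5393 = N3730 := ded_29_1 (flp_f L32317) L32307 L46500
theorem L46506 : sm gj N5393 = N3746 := ded_46_2 (flp_f L32470) (flp_j L32314) L46500
theorem L46508 : sm gi N5393 = N5393 := ded_48_2 (flp_f L46500) L32316 L46500
theorem L46509 : sm gh N3729 = N5394 := rfl
theorem L46511 : sm ga N5394 = N3734 := ded_17_1 (flp_h L32356) (flp_a L32309) L46509
theorem L46513 : sm gc N5394 = N3731 := ded_32_1 (flp_h L32328) L32307 L46509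
theorem L46518 : sm gj N5394 = N3747 := ded_52_1 (flp_h L32477) (flp_j L32314) L46509
theorem L46520 : sm ge N3730 = N5395 := rfl
theorem L46522 : sm ga N5395 = N3735 := ded_13_1 (flp_e L32366) (flp_a L32319) L46520
theorem L46524 : sm gb N5395 = N4224 := ded_21_1 (flp_e L36382) (flp_b L32321) L46520
theorem L46526 : sm gj N5395 = N3748 := ded_42_2 (flp_e L32487) (flp_j L32325) L46520
theorem L46528 : sm gi N5395 = N5395 := ded_44_2 (flp_e L46520) L32327 L46520
theorem L46529 : sm gd N5395 = N5395 := ded_34_1 (flp_e L46520) L32323 L22528 (flp_d L32323) L46520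
theorem L46530 : sm gf N5395 = N3790 := ded_40_2 (flp_e L32855) (flp_f L22901) (flp_e L22517) L32317 L46520
theorem L46532 : sm gg N3730 = N5396 := rfl
theorem L46534 : sm ga N5396 = N3736 := ded_15_1 (flp_g L32376) (flp_a L32319) L46532
theorem L46536 : sm gb N5396 = N4225 := ded_23_1 (flp_g L36392) (flp_b L32321) L46532
theorem L46538 : sm gd N5396 = N3732 := ded_36_1 (flp_g L32339) (flp_d L32323) L46532
theorem L46540 : sm gi N5396 = N5396 := ded_51_2 (flp_g L46532) L32327 L46532
theorem L46541 : sm gf N5396 = N5396 := ded_45_1 (flp_g L46532) (flp_f L32317) L22513 L32317 L46532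
theorem L46542 : sm gh N3730 = N5397 := rfl
theorem L46550 : sm gj N5397 = N3750 := ded_52_1 (flp_h L32508) (flp_j L32325) L46542
theorem L46564 : sm gj N3732 = N5399 := rfl
theorem L46566 : sm ga N5399 = N3739 := ded_16_1 (flp_j L32402) (flp_a L32341) L46564
theorem L46568 : sm gb N5399 = N4228 := ded_24_1 (flp_j L36418) (flp_b L32343) L46564
theorem L46570 : sm ge N5399 = N5399 := ded_42_1 (flp_j L46564) L32345 L46564
theorem L46571 : sm gf N5399 = N5399 := ded_46_1 (flp_j L46564) L32347 L46564
theorem L46572 : sm gi N5399 = N5399 := ded_53_2 (flp_j L46564) L32346 L46564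
theorem L46573 : sm gg N5399 = N3752 := ded_49_1 (flp_j L32527) (flp_g L22642) (flp_j L22525) L32339 L46564
theorem L46575 : sm ge N3733 = N5400 := rfl
theorem L46577 : sm gb N5400 = N5400 := ded_21_1 (flp_e L46575) L32350 L46575
theorem L46578 : sm gc N5400 = N3735 := ded_28_1 (flp_e L32366) (flp_c L32351) L46575
theorem L46580 : sm gj N5400 = N3753 := ded_42_2 (flp_e L32537) (flp_j L32353) L46575
theorem L46582 : sm gi N5400 = N5400 := ded_44_2 (flp_e L46575) L32355 L46575
theorem L46583 : sm gf N5400 = N3794 := ded_40_2 (flp_e L32898) (flp_f L22934) (flp_e L22531) L32348 L46575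
theorem L46585 : sm gg N3733 = N5401 := rfl
theorem L46587 : sm gb N5401 = N5401 := ded_23_1 (flp_g L46585) L32350 L46585
theorem L46588 : sm gc N5401 = N3736 := ded_30_1 (flp_g L32376) (flp_c L32351) L46585
theorem L46590 : sm gi N5401 = N5401 := ded_51_2 (flp_g L46585) L32355 L46585
theorem L46591 : sm gf N5401 = N5401 := ded_45_1 (flp_g L46585) (flp_f L32348) L22533 L32348 L46585
theorem L46592 : sm gh N3733 = N5402 := rfl
theorem L46594 : sm gb N5402 = N5402 := ded_25_1 (flp_h L46592) L32350 L46592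
theorem L46595 : sm gc N5402 = N3737 := ded_32_1 (flp_h L32384) (flp_c L32351) L46592
theorem L46597 : sm gf N5402 = N3734 := ded_47_1 (flp_h L32356) L32348 L46592
theorem L46599 : sm gj N5402 = N3755 := ded_52_1 (flp_h L32553) (flp_j L32353) L46592
theorem L46601 : sm gd N3734 = N5403 := rfl
theorem L46603 : sm gb N5403 = N5403 := ded_20_1 (flp_d L46601) L32358 L46601
theorem L46604 : sm gg N5403 = N5403 := ded_36_2 (flp_d L46601) L32363 L46601
theorem L46605 : sm gj N5403 = N3756 := ded_37_2 (flp_d L32560) (flp_j L32364) L46601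
theorem L46607 : sm gi N3734 = N5404 := rfl
theorem L46610 : sm gc N5404 = N3738 := ded_33_1 (flp_i L32392) (flp_c L32359) L46607
theorem L46618 : sm gg N3735 = N5405 := rfl
theorem L46620 : sm gb N5405 = N3740 := ded_23_1 (flp_g L32411) (flp_b L32368) L46618
theorem L46622 : sm gd N5405 = N5405 := ded_36_1 (flp_g L46618) L32373 L46618
theorem L46623 : sm ge N5405 = N3736 := ded_41_1 (flp_g L32376) L32366 L46618
theorem L46625 : sm gi N5405 = N5405 := ded_51_2 (flp_g L46618) L32372 L46618
theorem L46626 : sm gh N3735 = N5406 := rfl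
theorem L46628 : sm gb N5406 = N3741 := ded_25_1 (flp_h L32420) (flp_b L32368) L46626
theorem L46630 : sm ge N5406 = N3737 := ded_43_1 (flp_h L32384) L32366 L46626
theorem L46632 : sm gf N5406 = N3800 := ded_47_1 (flp_h L32950) (flp_f L32374) L46626
theorem L46634 : sm gj N5406 = N3759 := ded_52_1 (flp_h L32584) (flp_j L32370) L46626
theorem L46636 : sm gj N3736 = N5407 := rfl
theorem L46638 : sm gb N5407 = N3742 := ded_24_1 (flp_j L32431) (flp_b L32378) L46636
theorem L46640 : sm gd N5407 = N3739 := ded_37_1 (flp_j L32402) (flp_d L32380) L46636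
theorem L46642 : sm gf N5407 = N5407 := ded_46_1 (flp_j L46636) L32383 L46636
theorem L46643 : sm gi N5407 = N5407 := ded_53_2 (flp_j L46636) L32382 L46636
theorem L46644 : sm gg N5407 = N3760 := ded_49_1 (flp_j L32592) (flp_g L22675) (flp_j L22544) L32376 L46636
theorem L46646 : sm gh N3736 = N5408 := rfl
theorem L46648 : sm gb N5408 = N3743 := ded_25_1 (flp_h L32442) (flp_b L32378) L46646
theorem L46650 : sm gf N5408 = N5408 := ded_47_1 (flp_h L46646) L32383 L46646
theorem L46651 : sm gg N5408 = N3737 := ded_50_1 (flp_h L32384) L32376 L46646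
theorem L46653 : sm gi N3737 = N5409 := rfl
theorem L46657 : sm gf N5409 = N3738 := ded_48_1 (flp_i L32392) (flp_f L32388) L46653
theorem L46662 : sm gf N3740 = N5410 := rfl
theorem L46664 : sm ga N5410 = N4239 := ded_14_1 (flp_f L36517) (flp_a L32413) L46662
theorem L46670 : sm gg N5410 = N3803 := ded_45_2 (flp_f L32977) (flp_g L22986) (flp_f L22572) L32411 L46662
theorem L46672 : sm gj N3740 = N5411 := rfl
theorem L46674 : sm ga N5411 = N4240 := ded_16_1 (flp_j L36525) (flp_a L32413) L46672
theorem L46681 : sm gg N5411 = N3763 := ded_49_1 (flp_j L32616) (flp_g L22707) (flp_j L22568) L32411 L46672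
theorem L46683 : sm gh N3740 = N5412 := rfl
theorem L46688 : sm ge N5412 = N3743 := ded_43_1 (flp_h L32442) (flp_e L32417) L46683
theorem L46690 : sm gg N5412 = N3741 := ded_50_1 (flp_h L32420) L32411 L46683
theorem L46692 : sm gd N3741 = N5413 := rfl
theorem L46694 : sm ga N5413 = N4242 := ded_12_1 (flp_d L36541) (flp_a L32422) L46692
theorem L46696 : sm gf N5413 = N3805 := ded_35_2 (flp_d L32996) (flp_f L32427) L46692
theorem L46698 : sm gj N5413 = N3765 := ded_37_2 (flp_d L32636) (flp_j L32429) L46692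
theorem L46701 : sm gi N3741 = N5414 := rfl
theorem L46703 : sm ga N5414 = N4243 := ded_18_1 (flp_i L36548) (flp_a L32422) L46701
theorem L46705 : sm gc N5414 = N5414 := ded_33_1 (flp_i L46701) L32424 L46701
theorem L46706 : sm ge N5414 = N3744 := ded_44_1 (flp_i L32450) (flp_e L32425) L46701
theorem L46708 : sm gf N5414 = N3806 := ded_48_1 (flp_i L33004) (flp_f L32427) L46701
theorem L46710 : sm gj N5414 = N3766 := ded_53_1 (flp_i L32643) (flp_j L32429) L46701
theorem L46712 : sm gh N5414 = N5414 := ded_54_1 (flp_i L46701) (flp_h L32420) L22570 L32420 L46701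
theorem L46713 : sm gh N3742 = N5415 := rfl
theorem L46715 : sm ga N5415 = N4244 := ded_17_1 (flp_h L36558) (flp_a L32433) L46713
theorem L46719 : sm gg N5415 = N3767 := ded_50_1 (flp_h L32653) (flp_g L32440) L46713
theorem L46721 : sm gj N5415 = N3743 := ded_52_1 (flp_h L32442) L32431 L46713
theorem L46723 : sm gi N3743 = N5416 := rfl
theorem L46725 : sm ga N5416 = N4245 := ded_18_1 (flp_i L36566) (flp_a L32444) L46723
theorem L46727 : sm gc N5416 = N5416 := ded_33_1 (flp_i L46723) L32446 L46723
theorem L46728 : sm gf N5416 = N5416 := ded_48_1 (flp_i L46723) L32447 L46723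
theorem L46729 : sm gg N5416 = N3744 := ded_51_1 (flp_i L32450) (flp_g L32448) L46723
theorem L46731 : sm gh N5416 = N5416 := ded_54_1 (flp_i L46723) (flp_h L32442) L22581 L32442 L46723
theorem L46732 : sm gf N3745 = N5417 := rfl
theorem L46735 : sm gb N5417 = N3746 := ded_22_1 (flp_f L32470) L32460 L46732
theorem L46737 : sm gc N5417 = N4246 := ded_29_1 (flp_f L36573) (flp_c L32468) L46732
theorem L46740 : sm gh N3745 = N5418 := rfl
theorem L46749 : sm gg N5418 = N3770 := ded_50_1 (flp_h L32682) (flp_g L32464) L46740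
theorem L46751 : sm ge N3746 = N5419 := rfl
theorem L46753 : sm ga N5419 = N3753 := ded_13_1 (flp_e L32537) (flp_a L32472) L46751
theorem L46755 : sm gc N5419 = N3748 := ded_28_1 (flp_e L32487) (flp_c L32474) L46751
theorem L46757 : sm gi N5419 = N5419 := ded_44_2 (flp_e L46751) L32476 L46751
theorem L46758 : sm gf N5419 = N3810 := ded_40_2 (flp_e L33044) (flp_f L23035) (flp_e L22618) L32470 L46751
theorem L46760 : sm gg N3746 = N5420 := rfl
theorem L46762 : sm ga N5420 = N3754 := ded_15_1 (flp_g L32545) (flp_a L32472) L46760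
theorem L46764 : sm gc N5420 = N3749 := ded_30_1 (flp_g L32497) (flp_c L32474) L46760
theorem L46766 : sm gi N5420 = N5420 := ded_51_2 (flp_g L46760) L32476 L46760
theorem L46767 : sm gf N5420 = N3771 := ded_45_1 (flp_g L32692) (flp_f L22762) (flp_g L22620) L32470 L46760
theorem L46769 : sm gh N3746 = N5421 := rfl
theorem L46771 : sm ga N5421 = N3755 := ded_17_1 (flp_h L32553) (flp_a L32472) L46769
theorem L46775 : sm gf N5421 = N3747 := ded_47_1 (flp_h L32477) L32470 L46769
theorem L46777 : sm gd N3747 = N5422 := rfl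
theorem L46779 : sm ga N5422 = N3756 := ded_12_1 (flp_d L32560) (flp_a L32479) L46777
theorem L46781 : sm gg N5422 = N3773 := ded_36_2 (flp_d L32710) (flp_g L32485) L46777
theorem L46794 : sm gg N3748 = N5424 := rfl
theorem L46796 : sm ga N5424 = N3758 := ded_15_1 (flp_g L32575) (flp_a L32489) L46794
theorem L46798 : sm gb N5424 = N4253 := ded_23_1 (flp_g L36634) (flp_b L32491) L46794
theorem L46800 : sm gd N5424 = N5424 := ded_36_1 (flp_g L46794) L32494 L46794
theorem L46801 : sm ge N5424 = N3749 := ded_41_1 (flp_g L32497) L32487 L46794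
theorem L46803 : sm gi N5424 = N5424 := ded_51_2 (flp_g L46794) L32493 L46794
theorem L46804 : sm gf N5424 = N5424 := ded_45_1 (flp_g L46794) L32495 L23058 (flp_f L32495) L46794
theorem L46805 : sm gh N3748 = N5425 := rfl
theorem L46807 : sm ga N5425 = N3759 := ded_17_1 (flp_h L32584) (flp_a L32489) L46805
theorem L46811 : sm ge N5425 = N3750 := ded_43_1 (flp_h L32508) L32487 L46805
theorem L46813 : sm gf N5425 = N3814 := ded_47_1 (flp_h L33078) (flp_f L32495) L46805
theorem L46815 : sm gj N3749 = N5426 := rfl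
theorem L46817 : sm ga N5426 = N3760 := ded_16_1 (flp_j L32592) (flp_a L32499) L46815
theorem L46819 : sm gb N5426 = N4255 := ded_24_1 (flp_j L36651) (flp_b L32501) L46815
theorem L46821 : sm gd N5426 = N3752 := ded_37_1 (flp_j L32527) (flp_d L32503) L46815
theorem L46823 : sm gf N5426 = N3775 := ded_46_1 (flp_j L32725) (flp_f L32506) L46815
theorem L46825 : sm gi N5426 = N5426 := ded_53_2 (flp_j L46815) L32505 L46815
theorem L46826 : sm gh N3749 = N5427 := rfl
theorem L46834 : sm gg N5427 = N3750 := ded_50_1 (flp_h L32508) L32497 L46826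
theorem L46845 : sm gd N3753 = N5429 := rfl
theorem L46847 : sm gb N5429 = N5429 := ded_20_1 (flp_d L46845) L32539 L46845
theorem L46848 : sm gf N5429 = N3816 := ded_35_2 (flp_d L33098) (flp_f L32543) L46845
theorem L46850 : sm gi N5429 = N5429 := ded_39_2 (flp_d L46845) L32542 L46845
theorem L46851 : sm gc N5429 = N5429 := ded_27_1 (flp_d L46845) L32540 L22672 (flp_c L32540) L46845
theorem L46852 : sm gg N3753 = N5430 := rfl
theorem L46854 : sm gb N5430 = N5430 := ded_23_1 (flp_g L46852) L32539 L46852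
theorem L46855 : sm gc N5430 = N3758 := ded_30_1 (flp_g L32575) (flp_c L32540) L46852
theorem L46857 : sm ge N5430 = N3754 := ded_41_1 (flp_g L32545) L32537 L46852
theorem L46859 : sm gi N5430 = N5430 := ded_51_2 (flp_g L46852) L32542 L46852
theorem L46860 : sm gf N5430 = N5430 := ded_45_1 (flp_g L46852) L32543 L23086 (flp_f L32543) L46852
theorem L46861 : sm gh N3753 = N5431 := rfl
theorem L46863 : sm gb N5431 = N5431 := ded_25_1 (flp_h L46861) L32539 L46861
theorem L46864 : sm gc N5431 = N3759 := ded_32_1 (flp_h L32584) (flp_c L32540) L46861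
theorem L46866 : sm ge N5431 = N3755 := ded_43_1 (flp_h L32553) L32537 L46861
theorem L46868 : sm gf N5431 = N3817 := ded_47_1 (flp_h L33105) (flp_f L32543) L46861
theorem L46870 : sm gj N3754 = N5432 := rfl
theorem L46872 : sm gb N5432 = N5432 := ded_24_1 (flp_j L46870) L32547 L46870
theorem L46873 : sm gc N5432 = N3760 := ded_31_1 (flp_j L32592) (flp_c L32548) L46870
theorem L46875 : sm gf N5432 = N3778 := ded_46_1 (flp_j L32756) (flp_f L32551) L46870
theorem L46877 : sm gi N5432 = N5432 := ded_53_2 (flp_j L46870) L32550 L46870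
theorem L46878 : sm gh N3754 = N5433 := rfl
theorem L46880 : sm gb N5433 = N5433 := ded_25_1 (flp_h L46878) L32547 L46878
theorem L46881 : sm gc N5433 = N3761 := ded_32_1 (flp_h L32601) (flp_c L32548) L46878
theorem L46883 : sm gf N5433 = N3779 := ded_47_1 (flp_h L32764) (flp_f L32551) L46878
theorem L46885 : sm gg N5433 = N3755 := ded_50_1 (flp_h L32553) L32545 L46878
theorem L46887 : sm gd N3755 = N5434 := rfl
theorem L46889 : sm gb N5434 = N5434 := ded_20_1 (flp_d L46887) L32555 L46887
theorem L46890 : sm gf N5434 = N3756 := ded_35_2 (flp_d L32560) (flp_f L32558) L46887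
theorem L46892 : sm gi N3755 = N5435 := rfl
theorem L46900 : sm ge N3756 = N5436 := rfl
theorem L46902 : sm gb N5436 = N5436 := ded_21_1 (flp_e L46900) L32562 L46900
theorem L46903 : sm gg N5436 = N3782 := ded_41_2 (flp_e L32788) (flp_g L32563) L46900
theorem L46905 : sm gd N5436 = N3820 := ded_34_1 (flp_e L33130) (flp_d L23096) (flp_e L22663) L32560 L46900
theorem L46914 : sm gj N3758 = N5438 := rfl
theorem L46916 : sm gb N5438 = N3763 := ded_24_1 (flp_j L32616) (flp_b L32577) L46914
theorem L46918 : sm gd N5438 = N5438 := ded_37_1 (flp_j L46914) L32579 L46914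
theorem L46919 : sm ge N5438 = N3760 := ded_42_1 (flp_j L32592) (flp_e L32580) L46914
theorem L46921 : sm gf N5438 = N5438 := ded_46_1 (flp_j L46914) L32583 L46914
theorem L46922 : sm gi N5438 = N5438 := ded_53_2 (flp_j L46914) L32582 L46914
theorem L46923 : sm gh N3758 = N5439 := rfl
theorem L46925 : sm gb N5439 = N3764 := ded_25_1 (flp_h L32626) (flp_b L32577) L46923
theorem L46927 : sm ge N5439 = N3761 := ded_43_1 (flp_h L32601) (flp_e L32580) L46923
theorem L46929 : sm gf N5439 = N5439 := ded_47_1 (flp_h L46923) L32583 L46923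
theorem L46930 : sm gg N5439 = N3759 := ded_50_1 (flp_h L32584) L32575 L46923
theorem L46932 : sm gd N3759 = N5440 := rfl
theorem L46934 : sm gb N5440 = N3765 := ded_20_1 (flp_d L32636) (flp_b L32586) L46932
theorem L46936 : sm gf N5440 = N3822 := ded_35_2 (flp_d L33145) (flp_f L32590) L46932
theorem L46938 : sm gh N5440 = N5440 := ded_38_2 (flp_d L46932) (flp_h L32584) L22672 L32584 L46932
theorem L46939 : sm gi N3759 = N5441 := rfl
theorem L46941 : sm gb N5441 = N3766 := ded_26_1 (flp_i L32643) (flp_b L32586) L46939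
theorem L46948 : sm gh N3760 = N5442 := rfl
theorem L46950 : sm gb N5442 = N3767 := ded_25_1 (flp_h L32653) (flp_b L32594) L46948
theorem L46952 : sm gf N5442 = N3784 := ded_47_1 (flp_h L32800) (flp_f L32598) L46948
theorem L46954 : sm gj N5442 = N3761 := ded_52_1 (flp_h L32601) L32592 L46948
theorem L46956 : sm gi N3761 = N5443 := rfl
theorem L46958 : sm gb N5443 = N3768 := ded_26_1 (flp_i L32662) (flp_b L32603) L46956
theorem L46965 : sm gh N3763 = N5444 := rfl
theorem L46967 : sm ga N5444 = N4273 := ded_17_1 (flp_h L36799) (flp_a L32618) L46965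
theorem L46970 : sm ge N5444 = N3767 := ded_43_1 (flp_h L32653) (flp_e L32622) L46965
theorem L46973 : sm gj N5444 = N3764 := ded_52_1 (flp_h L32626) L32616 L46965
theorem L46975 : sm gd N3764 = N5445 := rfl
theorem L46980 : sm gg N5445 = N3765 := ded_36_2 (flp_d L32636) (flp_g L32634) L46975
theorem L46983 : sm gi N3764 = N5446 := rfl
theorem L46985 : sm ga N5446 = N4275 := ded_18_1 (flp_i L36813) (flp_a L32628) L46983
theorem L46987 : sm gc N5446 = N5446 := ded_33_1 (flp_i L46983) L32630 L46983
theorem L46988 : sm ge N5446 = N3768 := ded_44_1 (flp_i L32662) (flp_e L32631) L46983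
theorem L46990 : sm gf N5446 = N5446 := ded_48_1 (flp_i L46983) L32633 L46983
theorem L46991 : sm gg N5446 = N3766 := ded_51_1 (flp_i L32643) (flp_g L32634) L46983
theorem L46993 : sm gh N5446 = N5446 := ded_54_1 (flp_i L46983) (flp_h L32626) L22715 L32626 L46983
theorem L46994 : sm gc N3765 = N5447 := rfl
theorem L46996 : sm ga N5447 = N4276 := ded_11_1 (flp_c L36822) (flp_a L32638) L46994
theorem L46998 : sm gf N5447 = N3824 := ded_29_2 (flp_c L33160) (flp_f L32640) L46994
theorem L47002 : sm gi N3765 = N5448 := rfl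
theorem L47004 : sm ga N5448 = N4277 := ded_18_1 (flp_i L36828) (flp_a L32638) L47002
theorem L47006 : sm gd N5448 = N3766 := ded_39_1 (flp_i L32643) L32636 L47002
theorem L47008 : sm gf N5448 = N3825 := ded_48_1 (flp_i L33168) (flp_f L32640) L47002
theorem L47010 : sm gi N3767 = N5449 := rfl
theorem L47012 : sm ga N5449 = N4278 := ded_18_1 (flp_i L36834) (flp_a L32655) L47010
theorem L47014 : sm gc N5449 = N5449 := ded_33_1 (flp_i L47010) L32657 L47010
theorem L47015 : sm gf N5449 = N3786 := ded_48_1 (flp_i L32816) (flp_f L32658) L47010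
theorem L47017 : sm gj N5449 = N3768 := ded_53_1 (flp_i L32662) (flp_j L32660) L47010
theorem L47019 : sm gh N5449 = N5449 := ded_54_1 (flp_i L47010) (flp_h L32653) L22735 L32653 L47010
theorem L47020 : sm gg N3769 = N5450 := rfl
theorem L47025 : sm gc N5450 = N4279 := ded_30_1 (flp_g L36842) (flp_c L32677) L47020
theorem L47029 : sm gh N3769 = N5451 := rfl
theorem L47032 : sm gb N5451 = N3772 := ded_25_1 (flp_h L32700) (flp_b L32675) L47029
theorem L47037 : sm gf N5451 = N3770 := ded_47_1 (flp_h L32682) L32672 L47029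
theorem L47040 : sm gd N3770 = N5452 := rfl
theorem L47057 : sm gj N3771 = N5454 := rfl
theorem L47059 : sm ga N5454 = N3778 := ded_16_1 (flp_j L32756) (flp_a L32694) L47057
theorem L47061 : sm gc N5454 = N3775 := ded_31_1 (flp_j L32725) (flp_c L32696) L47057
theorem L47063 : sm ge N5454 = N5454 := ded_42_1 (flp_j L47057) L32698 L47057
theorem L47064 : sm gi N5454 = N5454 := ded_53_2 (flp_j L47057) L32699 L47057
theorem L47065 : sm gg N5454 = N5454 := ded_49_1 (flp_j L47057) (flp_g L32692) L22768 L32692 L47057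
theorem L47066 : sm gh N3771 = N5455 := rfl
theorem L47068 : sm ga N5455 = N3779 := ded_17_1 (flp_h L32764) (flp_a L32694) L47066
theorem L47070 : sm gc N5455 = N3776 := ded_32_1 (flp_h L32736) (flp_c L32696) L47066
theorem L47075 : sm gd N3772 = N5456 := rfl
theorem L47077 : sm ga N5456 = N3780 := ded_12_1 (flp_d L32772) (flp_a L32702) L47075
theorem L47079 : sm gf N5456 = N3773 := ded_35_2 (flp_d L32710) (flp_f L32707) L47075
theorem L47093 : sm ge N3773 = N5458 := rfl
theorem L47095 : sm ga N5458 = N3782 := ded_13_1 (flp_e L32788) (flp_a L32712) L47093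
theorem L47098 : sm gd N5458 = N3828 := ded_34_1 (flp_e L33194) (flp_d L23152) (flp_e L22777) L32710 L47093
theorem L47100 : sm gi N3773 = N5459 := rfl
theorem L47107 : sm gh N3775 = N5460 := rfl
theorem L47111 : sm gb N5460 = N4289 := ded_25_1 (flp_h L36928) (flp_b L32729) L47107
theorem L47115 : sm gj N5460 = N3776 := ded_52_1 (flp_h L32736) L32725 L47107
theorem L47127 : sm gh N3778 = N5462 := rfl
theorem L47129 : sm gb N5462 = N5462 := ded_25_1 (flp_h L47127) L32758 L47127
theorem L47130 : sm gc N5462 = N3784 := ded_32_1 (flp_h L32800) (flp_c L32759) L47127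
theorem L47132 : sm ge N5462 = N5462 := ded_43_1 (flp_h L47127) L32761 L47127
theorem L47133 : sm gg N5462 = N5462 := ded_50_1 (flp_h L47127) L32763 L47127
theorem L47134 : sm gj N5462 = N3779 := ded_52_1 (flp_h L32764) L32756 L47127
theorem L47136 : sm gd N3779 = N5463 := rfl
theorem L47138 : sm gb N5463 = N5463 := ded_20_1 (flp_d L47136) L32766 L47136
theorem L47139 : sm gg N5463 = N3780 := ded_36_2 (flp_d L32772) (flp_g L32770) L47136
theorem L47141 : sm gi N3779 = N5464 := rfl
theorem L47150 : sm ge N3780 = N5465 := rfl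
theorem L47152 : sm gb N5465 = N5465 := ded_21_1 (flp_e L47150) L32774 L47150
theorem L47153 : sm gj N5465 = N5465 := ded_42_2 (flp_e L47150) L32777 L47150
theorem L47154 : sm gd N5465 = N5465 := ded_34_1 (flp_e L47150) (flp_d L32772) L22832 L32772 L47150
theorem L47163 : sm gf N3782 = N5467 := rfl
theorem L47165 : sm gb N5467 = N5467 := ded_22_1 (flp_f L47163) L32790 L47163
theorem L47166 : sm gd N5467 = N3830 := ded_35_1 (flp_f L33210) (flp_d L32792) L47163
theorem L47168 : sm gj N5467 = N5467 := ded_46_2 (flp_f L47163) L32791 L47163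
theorem L47169 : sm gi N3782 = N5468 := rfl
theorem L47172 : sm gd N5468 = N3831 := ded_39_1 (flp_i L33217) (flp_d L32792) L47169
theorem L47182 : sm gi N3784 = N5470 := rfl
theorem L47191 : sm gf N3787 = N5471 := rfl
theorem L47194 : sm gb N5471 = N3788 := ded_22_1 (flp_f L32836) L32826 L47191
theorem L47196 : sm gc N5471 = N4300 := ded_29_1 (flp_f L37012) (flp_c L32834) L47191
theorem L47199 : sm gj N5471 = N3808 := ded_46_2 (flp_f L33025) (flp_j L32830) L47191
theorem L47202 : sm gh N3787 = N5472 := rfl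
theorem L47210 : sm gj N5472 = N3809 := ded_52_1 (flp_h L33035) (flp_j L32830) L47202
theorem L47212 : sm ge N3788 = N5473 := rfl
theorem L47214 : sm ga N5473 = N3794 := ded_13_1 (flp_e L32898) (flp_a L32838) L47212
theorem L47216 : sm gc N5473 = N3790 := ded_28_1 (flp_e L32855) (flp_c L32840) L47212
theorem L47218 : sm gj N5473 = N3810 := ded_42_2 (flp_e L33044) (flp_j L32843) L47212
theorem L47220 : sm gi N5473 = N5473 := ded_44_2 (flp_e L47212) L32845 L47212
theorem L47221 : sm gg N3788 = N5474 := rfl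
theorem L47223 : sm ga N5474 = N3795 := ded_15_1 (flp_g L32906) (flp_a L32838) L47221
theorem L47225 : sm gc N5474 = N3791 := ded_30_1 (flp_g L32865) (flp_c L32840) L47221
theorem L47227 : sm gd N5474 = N5474 := ded_36_1 (flp_g L47221) L32842 L47221
theorem L47228 : sm gi N5474 = N5474 := ded_51_2 (flp_g L47221) L32845 L47221
theorem L47229 : sm gf N5474 = N5474 := ded_45_1 (flp_g L47221) (flp_f L32836) L22896 L32836 L47221
theorem L47230 : sm gj N5474 = N5474 := ded_49_2 (flp_g L47221) L32843 L23043 (flp_j L32843) L47221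
theorem L47231 : sm gh N3788 = N5475 := rfl
theorem L47233 : sm ga N5475 = N3796 := ded_17_1 (flp_h L32915) (flp_a L32838) L47231
theorem L47237 : sm gf N5475 = N3789 := ded_47_1 (flp_h L32846) L32836 L47231
theorem L47239 : sm gj N5475 = N3811 := ded_52_1 (flp_h L33052) (flp_j L32843) L47231
theorem L47241 : sm gd N3789 = N5476 := rfl
theorem L47243 : sm ga N5476 = N3797 := ded_12_1 (flp_d L32924) (flp_a L32848) L47241
theorem L47246 : sm gj N5476 = N3812 := ded_37_2 (flp_d L33061) (flp_j L32853) L47241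
theorem L47250 : sm gi N3789 = N5477 := rfl
theorem L47252 : sm ga N5477 = N3798 := ded_18_1 (flp_i L32932) (flp_a L32848) L47250
theorem L47257 : sm gj N5477 = N3813 := ded_53_1 (flp_i L33069) (flp_j L32853) L47250
theorem L47260 : sm gg N3790 = N5478 := rfl
theorem L47262 : sm ga N5478 = N3799 := ded_15_1 (flp_g L32941) (flp_a L32857) L47260
theorem L47264 : sm gb N5478 = N4307 := ded_23_1 (flp_g L37080) (flp_b L32859) L47260
theorem L47266 : sm gd N5478 = N5478 := ded_36_1 (flp_g L47260) L32864 L47260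
theorem L47267 : sm ge N5478 = N3791 := ded_41_1 (flp_g L32865) L32855 L47260
theorem L47269 : sm gi N5478 = N5478 := ded_51_2 (flp_g L47260) L32863 L47260
theorem L47270 : sm gj N5478 = N5478 := ded_49_2 (flp_g L47260) L32861 L23058 (flp_j L32861) L47260
theorem L47271 : sm gh N3790 = N5479 := rfl
theorem L47273 : sm ga N5479 = N3800 := ded_17_1 (flp_h L32950) (flp_a L32857) L47271
theorem L47275 : sm gb N5479 = N4308 := ded_25_1 (flp_h L37089) (flp_b L32859) L47271
theorem L47279 : sm gj N5479 = N3814 := ded_52_1 (flp_h L33078) (flp_j L32861) L47271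
theorem L47281 : sm gh N3791 = N5480 := rfl
theorem L47283 : sm ga N5480 = N3801 := ded_17_1 (flp_h L32958) (flp_a L32867) L47281
theorem L47304 : sm gd N3794 = N5482 := rfl
theorem L47306 : sm gb N5482 = N5482 := ded_20_1 (flp_d L47304) L32900 L47304
theorem L47307 : sm gj N5482 = N3816 := ded_37_2 (flp_d L33098) (flp_j L32903) L47304
theorem L47309 : sm gi N5482 = N5482 := ded_39_2 (flp_d L47304) L32905 L47304
theorem L47310 : sm gc N5482 = N5482 := ded_27_1 (flp_d L47304) L32901 L22958 (flp_c L32901) L47304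
theorem L47311 : sm ge N5482 = N5482 := ded_34_2 (flp_d L47304) (flp_e L32898) L22939 L32898 L47304
theorem L47312 : sm gg N3794 = N5483 := rfl
theorem L47314 : sm gb N5483 = N5483 := ded_23_1 (flp_g L47312) L32900 L47312
theorem L47315 : sm gc N5483 = N3799 := ded_30_1 (flp_g L32941) (flp_c L32901) L47312
theorem L47317 : sm ge N5483 = N3795 := ded_41_1 (flp_g L32906) L32898 L47312
theorem L47319 : sm gi N5483 = N5483 := ded_51_2 (flp_g L47312) L32905 L47312
theorem L47320 : sm gj N5483 = N5483 := ded_49_2 (flp_g L47312) L32903 L23086 (flp_j L32903) L47312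
theorem L47321 : sm gh N3794 = N5484 := rfl
theorem L47323 : sm gb N5484 = N5484 := ded_25_1 (flp_h L47321) L32900 L47321
theorem L47324 : sm gc N5484 = N3800 := ded_32_1 (flp_h L32950) (flp_c L32901) L47321
theorem L47326 : sm ge N5484 = N3796 := ded_43_1 (flp_h L32915) L32898 L47321
theorem L47328 : sm gj N5484 = N3817 := ded_52_1 (flp_h L33105) (flp_j L32903) L47321
theorem L47330 : sm gh N3795 = N5485 := rfl
theorem L47332 : sm gb N5485 = N5485 := ded_25_1 (flp_h L47330) L32908 L47330
theorem L47333 : sm gc N5485 = N3801 := ded_32_1 (flp_h L32958) (flp_c L32909) L47330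
theorem L47335 : sm gf N5485 = N5485 := ded_47_1 (flp_h L47330) L32913 L47330
theorem L47336 : sm gg N5485 = N3796 := ded_50_1 (flp_h L32915) L32906 L47330
theorem L47338 : sm gj N5485 = N5485 := ded_52_1 (flp_h L47330) L32914 L47330
theorem L47339 : sm gd N3796 = N5486 := rfl
theorem L47341 : sm gb N5486 = N5486 := ded_20_1 (flp_d L47339) L32917 L47339
theorem L47342 : sm gf N5486 = N3797 := ded_35_2 (flp_d L32924) (flp_f L32920) L47339
theorem L47344 : sm gj N5486 = N3818 := ded_37_2 (flp_d L33113) (flp_j L32922) L47339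
theorem L47346 : sm gc N5486 = N5486 := ded_27_1 (flp_d L47339) L32918 L22976 (flp_c L32918) L47339
theorem L47347 : sm gh N5486 = N5486 := ded_38_2 (flp_d L47339) (flp_h L32915) L22939 L32915 L47339
theorem L47348 : sm gi N3796 = N5487 := rfl
theorem L47351 : sm gc N5487 = N3802 := ded_33_1 (flp_i L32967) (flp_c L32918) L47348
theorem L47358 : sm ge N3797 = N5488 := rfl
theorem L47360 : sm gb N5488 = N5488 := ded_21_1 (flp_e L47358) L32926 L47358
theorem L47361 : sm gc N5488 = N5488 := ded_28_1 (flp_e L47358) L32930 L47358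
theorem L47362 : sm gg N5488 = N5488 := ded_41_2 (flp_e L47358) L32927 L47358
theorem L47363 : sm gj N5488 = N3820 := ded_42_2 (flp_e L33130) (flp_j L32928) L47358
theorem L47365 : sm gh N5488 = N5488 := ded_43_2 (flp_e L47358) L32931 L47358
theorem L47366 : sm gi N3797 = N5489 := rfl
theorem L47375 : sm gf N3799 = N5490 := rfl
theorem L47377 : sm gb N5490 = N3803 := ded_22_1 (flp_f L32977) (flp_b L32943) L47375
theorem L47379 : sm gd N5490 = N5490 := ded_35_1 (flp_f L47375) L32945 L47375
theorem L47380 : sm gj N5490 = N5490 := ded_46_2 (flp_f L47375) L32949 L47375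
theorem L47381 : sm gi N5490 = N5490 := ded_48_2 (flp_f L47375) L32948 L47375
theorem L47382 : sm ge N5490 = N5490 := ded_40_1 (flp_f L47375) L32946 L22966 (flp_e L32946) L47375
theorem L47383 : sm gh N3799 = N5491 := rfl
theorem L47385 : sm gb N5491 = N3804 := ded_25_1 (flp_h L32986) (flp_b L32943) L47383
theorem L47387 : sm ge N5491 = N3801 := ded_43_1 (flp_h L32958) (flp_e L32946) L47383
theorem L47389 : sm gg N5491 = N3800 := ded_50_1 (flp_h L32950) L32941 L47383
theorem L47391 : sm gj N5491 = N5491 := ded_52_1 (flp_h L47383) L32949 L47383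
theorem L47392 : sm gd N3800 = N5492 := rfl
theorem L47394 : sm gb N5492 = N3805 := ded_20_1 (flp_d L32996) (flp_b L32952) L47392
theorem L47396 : sm gj N5492 = N3822 := ded_37_2 (flp_d L33145) (flp_j L32956) L47392
theorem L47398 : sm ge N5492 = N5492 := ded_34_2 (flp_d L47392) L32954 L22976 (flp_e L32954) L47392
theorem L47399 : sm gh N5492 = N5492 := ded_38_2 (flp_d L47392) (flp_h L32950) L22958 L32950 L47392
theorem L47400 : sm gi N3800 = N5493 := rfl
theorem L47402 : sm gb N5493 = N3806 := ded_26_1 (flp_i L33004) (flp_b L32952) L47400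
theorem L47404 : sm ge N5493 = N3802 := ded_44_1 (flp_i L32967) (flp_e L32954) L47400
theorem L47409 : sm gi N3801 = N5494 := rfl
theorem L47411 : sm gb N5494 = N3807 := ded_26_1 (flp_i L33014) (flp_b L32960) L47409
theorem L47415 : sm gg N5494 = N3802 := ded_51_1 (flp_i L32967) (flp_g L32963) L47409
theorem L47419 : sm gh N3803 = N5495 := rfl
theorem L47421 : sm ga N5495 = N4324 := ded_17_1 (flp_h L37234) (flp_a L32979) L47419
theorem L47425 : sm gf N5495 = N3804 := ded_47_1 (flp_h L32986) L32977 L47419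
theorem L47428 : sm gd N3804 = N5496 := rfl
theorem L47432 : sm gg N5496 = N3805 := ded_36_2 (flp_d L32996) (flp_g L32993) L47428
theorem L47437 : sm gi N3804 = N5497 := rfl
theorem L47439 : sm ga N5497 = N4326 := ded_18_1 (flp_i L37248) (flp_a L32988) L47437
theorem L47441 : sm gc N5497 = N5497 := ded_33_1 (flp_i L47437) L32990 L47437
theorem L47442 : sm ge N5497 = N3807 := ded_44_1 (flp_i L33014) (flp_e L32991) L47437
theorem L47444 : sm gg N5497 = N3806 := ded_51_1 (flp_i L33004) (flp_g L32993) L47437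
theorem L47446 : sm gj N5497 = N5497 := ded_53_1 (flp_i L47437) L32995 L47437
theorem L47447 : sm gh N5497 = N5497 := ded_54_1 (flp_i L47437) (flp_h L32986) L22994 L32986 L47437
theorem L47448 : sm gc N3805 = N5498 := rfl
theorem L47450 : sm ga N5498 = N4327 := ded_11_1 (flp_c L37257) (flp_a L32998) L47448
theorem L47453 : sm gj N5498 = N3824 := ded_31_2 (flp_c L33160) (flp_j L33000) L47448
theorem L47457 : sm gi N3805 = N5499 := rfl
theorem L47459 : sm ga N5499 = N4328 := ded_18_1 (flp_i L37264) (flp_a L32998) L47457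
theorem L47461 : sm gd N5499 = N3806 := ded_39_1 (flp_i L33004) L32996 L47457
theorem L47463 : sm ge N5499 = N5499 := ded_44_1 (flp_i L47457) L33002 L47457
theorem L47464 : sm gj N5499 = N3825 := ded_53_1 (flp_i L33168) (flp_j L33000) L47457
theorem L47466 : sm ge N3808 = N5500 := rfl
theorem L47469 : sm gb N5500 = N3810 := ded_21_1 (flp_e L33044) (flp_b L33028) L47466
theorem L47471 : sm gc N5500 = N4329 := ded_28_1 (flp_e L37271) (flp_c L33030) L47466
theorem L47475 : sm gh N3808 = N5501 := rfl
theorem L47478 : sm gb N5501 = N3811 := ded_25_1 (flp_h L33052) (flp_b L33028) L47475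
theorem L47482 : sm gf N5501 = N3809 := ded_47_1 (flp_h L33035) L33025 L47475
theorem L47485 : sm gd N3809 = N5502 := rfl
theorem L47490 : sm gg N5502 = N3826 := ded_36_2 (flp_d L33176) (flp_g L33042) L47485
theorem L47503 : sm gd N3810 = N5504 := rfl
theorem L47505 : sm ga N5504 = N3816 := ded_12_1 (flp_d L33098) (flp_a L33046) L47503
theorem L47507 : sm gg N5504 = N5504 := ded_36_2 (flp_d L47503) L33050 L47503
theorem L47508 : sm gi N5504 = N5504 := ded_39_2 (flp_d L47503) L33051 L47503
theorem L47509 : sm gc N5504 = N5504 := ded_27_1 (flp_d L47503) L33048 L23060 (flp_c L33048) L47503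
theorem L47510 : sm ge N5504 = N5504 := ded_34_2 (flp_d L47503) (flp_e L33044) L23041 L33044 L47503
theorem L47511 : sm gh N3810 = N5505 := rfl
theorem L47513 : sm ga N5505 = N3817 := ded_17_1 (flp_h L33105) (flp_a L33046) L47511
theorem L47517 : sm ge N5505 = N3811 := ded_43_1 (flp_h L33052) L33044 L47511
theorem L47520 : sm gd N3811 = N5506 := rfl
theorem L47522 : sm ga N5506 = N3818 := ded_12_1 (flp_d L33113) (flp_a L33054) L47520
theorem L47539 : sm ge N3812 = N5508 := rfl
theorem L47541 : sm ga N5508 = N3820 := ded_13_1 (flp_e L33130) (flp_a L33063) L47539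
theorem L47547 : sm gi N3812 = N5509 := rfl
theorem L47556 : sm gd N3814 = N5510 := rfl
theorem L47558 : sm ga N5510 = N3822 := ded_12_1 (flp_d L33145) (flp_a L33080) L47556
theorem L47565 : sm gi N3814 = N5511 := rfl
theorem L47575 : sm gh N3816 = N5512 := rfl
theorem L47577 : sm gb N5512 = N5512 := ded_25_1 (flp_h L47575) L33100 L47575
theorem L47578 : sm gc N5512 = N5512 := ded_32_1 (flp_h L47575) L33103 L47575
theorem L47579 : sm ge N5512 = N5512 := ded_43_1 (flp_h L47575) L33104 L47575
theorem L47580 : sm gg N5512 = N5512 := ded_50_1 (flp_h L47575) L33101 L47575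
theorem L47581 : sm gd N3817 = N5513 := rfl
theorem L47583 : sm gb N5513 = N5513 := ded_20_1 (flp_d L47581) L33107 L47581
theorem L47584 : sm gg N5513 = N5513 := ded_36_2 (flp_d L47581) L33112 L47581
theorem L47585 : sm gi N3817 = N5514 := rfl
theorem L47594 : sm ge N3818 = N5515 := rfl
theorem L47596 : sm gb N5515 = N5515 := ded_21_1 (flp_e L47594) L33115 L47594
theorem L47597 : sm gc N5515 = N5515 := ded_28_1 (flp_e L47594) L33119 L47594
theorem L47598 : sm gg N5515 = N5515 := ded_41_2 (flp_e L47594) L33118 L47594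
theorem L47599 : sm gh N5515 = N5515 := ded_43_2 (flp_e L47594) L33120 L47594
theorem L47600 : sm gi N3818 = N5516 := rfl
theorem L47609 : sm gf N3820 = N5517 := rfl
theorem L47611 : sm gb N5517 = N5517 := ded_22_1 (flp_f L47609) L33132 L47609
theorem L47612 : sm gc N5517 = N5517 := ded_29_1 (flp_f L47609) L33133 L47609
theorem L47613 : sm gh N5517 = N5517 := ded_47_2 (flp_f L47609) L33136 L47609
theorem L47614 : sm gi N3820 = N5518 := rfl
theorem L47620 : sm gg N5518 = N3831 := ded_51_1 (flp_i L33217) (flp_g L33134) L47614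
theorem L47630 : sm gc N3822 = N5520 := rfl
theorem L47632 : sm ge N5520 = N5520 := ded_28_2 (flp_c L47630) L33150 L47630
theorem L47633 : sm gg N5520 = N5520 := ded_30_2 (flp_c L47630) L33149 L47630
theorem L47634 : sm gh N5520 = N5520 := ded_32_2 (flp_c L47630) L33151 L47630
theorem L47635 : sm gi N3822 = N5521 := rfl
theorem L47637 : sm gb N5521 = N3825 := ded_26_1 (flp_i L33168) (flp_b L33147) L47635
theorem L47643 : sm gb N3824 = N5522 := rfl
theorem L47645 : sm gd N5522 = N5522 := ded_20_2 (flp_b L47643) L33167 L47643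
theorem L47646 : sm ge N5522 = N5522 := ded_21_2 (flp_b L47643) L33164 L47643
theorem L47647 : sm gg N5522 = N5522 := ded_23_2 (flp_b L47643) L33165 L47643
theorem L47648 : sm gh N5522 = N5522 := ded_25_2 (flp_b L47643) L33166 L47643
theorem L47649 : sm gi N3824 = N5523 := rfl
theorem L47651 : sm ga N5523 = N4352 := ded_18_1 (flp_i L37452) (flp_a L33162) L47649
theorem L47653 : sm gc N5523 = N3825 := ded_33_1 (flp_i L33168) L33160 L47649
theorem L47655 : sm gd N5523 = N5523 := ded_39_1 (flp_i L47649) L33167 L47649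
theorem L47656 : sm ge N5523 = N5523 := ded_44_1 (flp_i L47649) L33164 L47649
theorem L47657 : sm gg N5523 = N5523 := ded_51_1 (flp_i L47649) L33165 L47649
theorem L47658 : sm gh N3825 = N5524 := rfl
theorem L47660 : sm ga N5524 = N4353 := ded_17_1 (flp_h L37459) (flp_a L33170) L47658
theorem L47662 : sm ge N5524 = N5524 := ded_43_1 (flp_h L47658) L33174 L47658
theorem L47663 : sm gg N5524 = N5524 := ded_50_1 (flp_h L47658) L33175 L47658
theorem L47664 : sm gd N5524 = N5524 := ded_38_1 (flp_h L47658) L33172 L23142 (flp_d L33172) L47658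
theorem L47665 : sm gi N5524 = N5524 := ded_54_2 (flp_h L47658) (flp_i L33168) L23133 L33168 L47658
theorem L47666 : sm gc N3826 = N5525 := rfl
theorem L47675 : sm ge N3826 = N5526 := rfl
theorem L47678 : sm gb N5526 = N3828 := ded_21_1 (flp_e L33194) (flp_b L33179) L47675
theorem L47691 : sm gf N3828 = N5528 := rfl
theorem L47693 : sm ga N5528 = N3830 := ded_14_1 (flp_f L33210) (flp_a L33196) L47691
theorem L47716 : sm gg N3830 = N5531 := rfl
theorem L47718 : sm gb N5531 = N5531 := ded_23_1 (flp_g L47716) L33212 L47716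
theorem L47719 : sm gc N5531 = N5531 := ded_30_1 (flp_g L47716) L33213 L47716
theorem L47720 : sm ge N5531 = N5531 := ded_41_1 (flp_g L47716) L33216 L47716
theorem L47721 : sm gh N5531 = N5531 := ded_50_2 (flp_g L47716) L33215 L47716
theorem L47722 : sm gi N3830 = N5532 := rfl
theorem L47727 : sm gf N5532 = N3831 := ded_48_1 (flp_i L33217) L33210 L47722
theorem L47730 : sm gh N3831 = N5533 := rfl
theorem L47738 : sm gc N3833 = N5534 := rfl
theorem L47740 : sm ga N5534 = N5534 := ded_11_1 (flp_c L47738) L33234 L47738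
theorem L47741 : sm ge N5534 = N5534 := ded_28_2 (flp_c L47738) L33240 L47738
theorem L47742 : sm gg N5534 = N3855 := ded_30_2 (flp_c L33426) (flp_g L33237) L47738
theorem L47744 : sm gj N5534 = N5534 := ded_31_2 (flp_c L47738) L33239 L47738
theorem L47745 : sm gb N5534 = N5534 := ded_19_1 (flp_c L47738) L33235 L23209 (flp_b L33235) L47738
theorem L47746 : sm gd N5534 = N5534 := ded_27_2 (flp_c L47738) (flp_d L33232) L23188 L33232 L47738
theorem L47747 : sm gf N3833 = N5535 := rfl
theorem L47749 : sm ga N5535 = N5535 := ded_14_1 (flp_f L47747) L33234 L47747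
theorem L47750 : sm gb N5535 = N3837 := ded_22_1 (flp_f L33273) (flp_b L33235) L47747
theorem L47752 : sm gd N5535 = N3834 := ded_35_1 (flp_f L33241) L33232 L47747
theorem L47754 : sm gj N5535 = N5535 := ded_46_2 (flp_f L47747) L33239 L47747
theorem L47755 : sm gg N5535 = N5535 := ded_45_2 (flp_f L47747) L33237 L23312 (flp_g L33237) L47747
theorem L47756 : sm gh N3833 = N5536 := rfl
theorem L47758 : sm ga N5536 = N5536 := ded_17_1 (flp_h L47756) L33234 L47756
theorem L47759 : sm gb N5536 = N3838 := ded_25_1 (flp_h L33280) (flp_b L33235) L47756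
theorem L47761 : sm ge N5536 = N5536 := ded_43_1 (flp_h L47756) L33240 L47756
theorem L47762 : sm gg N5536 = N3856 := ded_50_1 (flp_h L33435) (flp_g L33237) L47756
theorem L47764 : sm gj N5536 = N5536 := ded_52_1 (flp_h L47756) L33239 L47756
theorem L47765 : sm gd N5536 = N5536 := ded_38_1 (flp_h L47756) (flp_d L33232) L23192 L33232 L47756
theorem L47766 : sm gi N3833 = N5537 := rfl
theorem L47769 : sm gb N5537 = N3839 := ded_26_1 (flp_i L33288) (flp_b L33235) L47766
theorem L47771 : sm gd N5537 = N3835 := ded_39_1 (flp_i L33251) L33232 L47766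
theorem L47774 : sm gg N5537 = N3857 := ded_51_1 (flp_i L33445) (flp_g L33237) L47766
theorem L47777 : sm gi N3834 = N5538 := rfl
theorem L47780 : sm gb N5538 = N3840 := ded_26_1 (flp_i L33297) (flp_b L33244) L47777
theorem L47782 : sm gc N5538 = N5538 := ded_33_1 (flp_i L47777) L33246 L47777
theorem L47783 : sm ge N5538 = N5538 := ded_44_1 (flp_i L47777) L33249 L47777
theorem L47784 : sm gf N5538 = N3835 := ded_48_1 (flp_i L33251) L33241 L47777
theorem L47788 : sm gh N3835 = N5539 := rfl
theorem L47793 : sm gc N5539 = N5539 := ded_32_1 (flp_h L47788) L33256 L47788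
theorem L47796 : sm gg N5539 = N3858 := ded_50_1 (flp_h L33456) (flp_g L33259) L47788
theorem L47800 : sm gd N3836 = N5540 := rfl
theorem L47805 : sm gf N5540 = N5540 := ded_35_2 (flp_d L47800) L33268 L47800
theorem L47806 : sm gg N5540 = N3859 := ded_36_2 (flp_d L33468) (flp_g L33269) L47800
theorem L47811 : sm ge N3837 = N5541 := rfl
theorem L47813 : sm gc N5541 = N5541 := ded_28_1 (flp_e L47811) L33275 L47811
theorem L47814 : sm gg N5541 = N5541 := ded_41_2 (flp_e L47811) L33279 L47811
theorem L47815 : sm gj N5541 = N5541 := ded_42_2 (flp_e L47811) L33278 L47811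
theorem L47816 : sm gd N5541 = N5541 := ded_34_1 (flp_e L47811) L33276 L23217 (flp_d L33276) L47811
theorem L47817 : sm gf N5541 = N5541 := ded_40_2 (flp_e L47811) (flp_f L33273) L23210 L33273 L47811
theorem L47818 : sm gh N3837 = N5542 := rfl
theorem L47820 : sm gc N5542 = N5542 := ded_32_1 (flp_h L47818) L33275 L47818
theorem L47821 : sm gf N5542 = N3838 := ded_47_1 (flp_h L33280) L33273 L47818
theorem L47823 : sm gg N5542 = N5542 := ded_50_1 (flp_h L47818) L33279 L47818
theorem L47824 : sm gj N5542 = N5542 := ded_52_1 (flp_h L47818) L33278 L47818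
theorem L47825 : sm gd N5542 = N5542 := ded_38_1 (flp_h L47818) L33276 L23216 (flp_d L33276) L47818
theorem L47826 : sm gi N3837 = N5543 := rfl
theorem L47828 : sm gc N5543 = N5543 := ded_33_1 (flp_i L47826) L33275 L47826
theorem L47829 : sm gd N5543 = N3840 := ded_39_1 (flp_i L33297) (flp_d L33276) L47826
theorem L47831 : sm gf N5543 = N3839 := ded_48_1 (flp_i L33288) L33273 L47826
theorem L47833 : sm gg N5543 = N5543 := ded_51_1 (flp_i L47826) L33279 L47826
theorem L47834 : sm gj N5543 = N5543 := ded_53_1 (flp_i L47826) L33278 L47826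
theorem L47835 : sm gi N3838 = N5544 := rfl
theorem L47840 : sm gg N5544 = N3860 := ded_51_1 (flp_i L33479) (flp_g L33284) L47835
theorem L47843 : sm gh N3839 = N5545 := rfl
theorem L47847 : sm gg N5545 = N3861 := ded_50_1 (flp_h L33487) (flp_g L33294) L47843
theorem L47850 : sm gh N3840 = N5546 := rfl
theorem L47852 : sm gc N5546 = N3843 := ded_32_1 (flp_h L33324) (flp_c L33299) L47850
theorem L47854 : sm ge N5546 = N5546 := ded_43_1 (flp_h L47850) L33301 L47850
theorem L47855 : sm gf N5546 = N3841 := ded_47_1 (flp_h L33306) (flp_f L33302) L47850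
theorem L47860 : sm gd N3841 = N5547 := rfl
theorem L47862 : sm gg N5547 = N3862 := ded_36_2 (flp_d L33494) (flp_g L33312) L47860
theorem L47866 : sm gc N3842 = N5548 := rfl
theorem L47868 : sm gf N5548 = N5548 := ded_29_2 (flp_c L47866) L33318 L47866
theorem L47869 : sm gg N5548 = N3863 := ded_30_2 (flp_c L33500) (flp_g L33319) L47866
theorem L47874 : sm gd N5548 = N3845 := ded_27_2 (flp_c L33341) (flp_d L23255) (flp_c L23230) L33316 L47866
theorem L47876 : sm ge N3842 = N5549 := rfl
theorem L47878 : sm gg N5549 = N3864 := ded_41_2 (flp_e L33510) (flp_g L33319) L47876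
theorem L47883 : sm gd N3843 = N5550 := rfl
theorem L47885 : sm gb N5550 = N5550 := ded_20_1 (flp_d L47883) L33326 L47883
theorem L47886 : sm gf N5550 = N3844 := ded_35_2 (flp_d L33333) (flp_f L33328) L47883
theorem L47888 : sm gg N5550 = N5550 := ded_36_2 (flp_d L47883) L33330 L47883
theorem L47889 : sm gj N5550 = N5550 := ded_37_2 (flp_d L47883) L33331 L47883
theorem L47890 : sm gi N5550 = N5550 := ded_39_2 (flp_d L47883) L33332 L47883
theorem L47891 : sm gh N5550 = N5550 := ded_38_2 (flp_d L47883) (flp_h L33324) L23240 L33324 L47883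
theorem L47892 : sm gc N3844 = N5551 := rfl
theorem L47894 : sm gg N5551 = N3865 := ded_30_2 (flp_c L33516) (flp_g L33336) L47892
theorem L47899 : sm ge N3844 = N5552 := rfl
theorem L47901 : sm gb N5552 = N5552 := ded_21_1 (flp_e L47899) L33335 L47899
theorem L47902 : sm gg N5552 = N3866 := ded_41_2 (flp_e L33523) (flp_g L33336) L47899
theorem L47904 : sm gj N5552 = N5552 := ded_42_2 (flp_e L47899) L33338 L47899
theorem L47905 : sm gh N5552 = N5552 := ded_43_2 (flp_e L47899) L33340 L47899
theorem L47906 : sm gi N5552 = N5552 := ded_44_2 (flp_e L47899) L33339 L47899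
theorem L47907 : sm gd N5552 = N3846 := ded_34_1 (flp_e L33350) (flp_d L23255) (flp_e L23249) L33333 L47899
theorem L47909 : sm gb N3845 = N5553 := rfl
theorem L47911 : sm gf N5553 = N5553 := ded_22_2 (flp_b L47909) L33343 L47909
theorem L47912 : sm gg N5553 = N3867 := ded_23_2 (flp_b L33532) (flp_g L33344) L47909
theorem L47915 : sm gh N5553 = N3847 := ded_25_2 (flp_b L33359) (flp_h L33347) L47909
theorem L47918 : sm gc N5553 = N5553 := ded_19_2 (flp_b L47909) (flp_c L33341) L23257 L33341 L47909
theorem L47919 : sm ge N3845 = N5554 := rfl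
theorem L47921 : sm gc N5554 = N3846 := ded_28_1 (flp_e L33350) L33341 L47919
theorem L47926 : sm gh N5554 = N3848 := ded_43_2 (flp_e L33369) (flp_h L33347) L47919
theorem L47928 : sm gi N5554 = N5554 := ded_44_2 (flp_e L47919) L33349 L47919
theorem L47929 : sm gf N3846 = N5555 := rfl
theorem L47931 : sm gb N5555 = N5555 := ded_22_1 (flp_f L47929) L33352 L47929
theorem L47932 : sm gj N5555 = N5555 := ded_46_2 (flp_f L47929) L33355 L47929
theorem L47933 : sm gh N5555 = N3849 := ded_47_2 (flp_f L33378) (flp_h L33356) L47929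
theorem L47935 : sm gi N5555 = N5555 := ded_48_2 (flp_f L47929) L33358 L47929
theorem L47936 : sm ge N5555 = N5555 := ded_40_1 (flp_f L47929) (flp_e L33350) L23258 L33350 L47929
theorem L47937 : sm ga N3847 = N5556 := rfl
theorem L47942 : sm gg N5556 = N3870 := ded_15_2 (flp_a L33561) (flp_g L33363) L47937
theorem L47945 : sm gi N5556 = N3850 := ded_18_2 (flp_a L33386) (flp_i L33366) L47937
theorem L47947 : sm ge N3847 = N5557 := rfl
theorem L47949 : sm gb N5557 = N3848 := ded_21_1 (flp_e L33369) L33359 L47947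
theorem L47952 : sm gg N5557 = N3871 := ded_41_2 (flp_e L33571) (flp_g L33363) L47947
theorem L47955 : sm gi N5557 = N3851 := ded_44_2 (flp_e L33395) (flp_i L33366) L47947
theorem L47957 : sm gd N3848 = N5558 := rfl
theorem L47959 : sm gg N5558 = N3872 := ded_36_2 (flp_d L33580) (flp_g L33373) L47957
theorem L47961 : sm gj N5558 = N5558 := ded_37_2 (flp_d L47957) L33375 L47957
theorem L47962 : sm gi N5558 = N3852 := ded_39_2 (flp_d L33404) (flp_i L33376) L47957
theorem L47964 : sm gc N5558 = N5558 := ded_27_1 (flp_d L47957) L33371 L23282 (flp_c L33371) L47957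
theorem L47965 : sm ge N5558 = N5558 := ded_34_2 (flp_d L47957) (flp_e L33369) L23273 L33369 L47957
theorem L47966 : sm gf N3848 = N5559 := rfl
theorem L47968 : sm gc N5559 = N3849 := ded_29_1 (flp_f L33378) (flp_c L33371) L47966
theorem L47970 : sm gj N5559 = N5559 := ded_46_2 (flp_f L47966) L33375 L47966
theorem L47971 : sm gi N5559 = N3853 := ded_48_2 (flp_f L33411) (flp_i L33376) L47966
theorem L47973 : sm ge N5559 = N5559 := ded_40_1 (flp_f L47966) (flp_e L33369) L23267 L33369 L47966
theorem L47974 : sm gg N3849 = N5560 := rfl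
theorem L47976 : sm gb N5560 = N5560 := ded_23_1 (flp_g L47974) L33380 L47974
theorem L47977 : sm gd N5560 = N5560 := ded_36_1 (flp_g L47974) L33381 L47974
theorem L47978 : sm ge N5560 = N5560 := ded_41_1 (flp_g L47974) L33385 L47974
theorem L47979 : sm gi N5560 = N3854 := ded_51_2 (flp_g L33418) (flp_i L33383) L47974
theorem L47981 : sm gf N5560 = N3874 := ded_45_1 (flp_g L33598) (flp_f L23416) (flp_g L23277) L33378 L47974
theorem L47983 : sm ge N3850 = N5561 := rfl
theorem L47985 : sm ga N5561 = N3851 := ded_13_1 (flp_e L33395) L33386 L47983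
theorem L47988 : sm gg N5561 = N3875 := ded_41_2 (flp_e L33606) (flp_g L33391) L47983
theorem L47992 : sm gd N3851 = N5562 := rfl
theorem L47994 : sm gb N5562 = N3852 := ded_20_1 (flp_d L33404) (flp_b L33397) L47992
theorem L47996 : sm gg N5562 = N3876 := ded_36_2 (flp_d L33614) (flp_g L33400) L47992
theorem L47999 : sm ge N5562 = N5562 := ded_34_2 (flp_d L47992) (flp_e L33395) L23285 L33395 L47992
theorem L48000 : sm gf N3851 = N5563 := rfl
theorem L48002 : sm gb N5563 = N3853 := ded_22_1 (flp_f L33411) (flp_b L33397) L48000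
theorem L48006 : sm gh N5563 = N5563 := ded_47_2 (flp_f L48000) L33403 L48000
theorem L48008 : sm gf N3852 = N5564 := rfl
theorem L48010 : sm gc N5564 = N5564 := ded_29_1 (flp_f L48008) L33409 L48008
theorem L48014 : sm gh N3852 = N5565 := rfl
theorem L48018 : sm gg N5565 = N3879 := ded_50_1 (flp_h L33638) (flp_g L33406) L48014
theorem L48022 : sm gg N3853 = N5566 := rfl
theorem L48024 : sm gc N5566 = N3854 := ded_30_1 (flp_g L33418) (flp_c L33413) L48022
theorem L48028 : sm gf N5566 = N3880 := ded_45_1 (flp_g L33645) (flp_f L23449) (flp_g L23296) L33411 L48022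
theorem L48030 : sm gj N3854 = N5567 := rfl
theorem L48035 : sm gf N5567 = N3881 := ded_46_1 (flp_j L33652) (flp_f L33424) L48030
theorem L48039 : sm gh N3855 = N5568 := rfl
theorem L48041 : sm ga N5568 = N5568 := ded_17_1 (flp_h L48039) L33428 L48039
theorem L48042 : sm gb N5568 = N5568 := ded_25_1 (flp_h L48039) L33433 L48039
theorem L48043 : sm gc N5568 = N3856 := ded_32_1 (flp_h L33435) L33426 L48039
theorem L48045 : sm ge N5568 = N5568 := ded_43_1 (flp_h L48039) L33429 L48039
theorem L48046 : sm gf N5568 = N5568 := ded_47_1 (flp_h L48039) L33430 L48039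
theorem L48047 : sm gj N5568 = N3882 := ded_52_1 (flp_h L33661) (flp_j L33431) L48039
theorem L48049 : sm gi N3855 = N5569 := rfl
theorem L48052 : sm gb N5569 = N5569 := ded_26_1 (flp_i L48049) L33433 L48049
theorem L48058 : sm gj N5569 = N3883 := ded_53_1 (flp_i L33670) (flp_j L33431) L48049
theorem L48060 : sm gi N3856 = N5570 := rfl
theorem L48068 : sm gj N5570 = N3884 := ded_53_1 (flp_i L33680) (flp_j L33442) L48060
theorem L48070 : sm gh N3857 = N5571 := rfl
theorem L48073 : sm gb N5571 = N3861 := ded_25_1 (flp_h L33487) (flp_b L33448) L48070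
theorem L48077 : sm gj N5571 = N3885 := ded_52_1 (flp_h L33689) (flp_j L33454) L48070
theorem L48079 : sm gd N3858 = N5572 := rfl
theorem L48085 : sm gj N5572 = N3886 := ded_37_2 (flp_d L33697) (flp_j L33465) L48079
theorem L48088 : sm gc N3859 = N5573 := rfl
theorem L48091 : sm gf N5573 = N3922 := ded_29_2 (flp_c L33962) (flp_f L33473) L48088
theorem L48093 : sm gj N5573 = N3887 := ded_31_2 (flp_c L33705) (flp_j L33475) L48088
theorem L48097 : sm gd N5573 = N5573 := ded_27_2 (flp_c L48088) (flp_d L33468) L23332 L33468 L48088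
theorem L48098 : sm ge N3859 = N5574 := rfl
theorem L48107 : sm gh N3860 = N5575 := rfl
theorem L48112 : sm gj N5575 = N3889 := ded_52_1 (flp_h L33722) (flp_j L33485) L48107
theorem L48114 : sm gi N5575 = N3861 := ded_54_2 (flp_h L33487) (flp_i L23346) L23338 L33479 L48107
theorem L48116 : sm gd N3861 = N5576 := rfl
theorem L48119 : sm gj N5576 = N3890 := ded_37_2 (flp_d L33730) (flp_j L33492) L48116
theorem L48121 : sm gh N5576 = N3862 := ded_38_2 (flp_d L33494) (flp_h L23355) (flp_d L23349) L33487 L48116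
theorem L48123 : sm gc N3862 = N5577 := rfl
theorem L48126 : sm gj N5577 = N3891 := ded_31_2 (flp_c L33736) (flp_j L33497) L48123
theorem L48129 : sm gd N5577 = N3865 := ded_27_2 (flp_c L33516) (flp_d L23373) (flp_c L23357) L33494 L48123
theorem L48131 : sm ge N3862 = N5578 := rfl
theorem L48138 : sm gb N3863 = N5579 := rfl
theorem L48140 : sm gd N5579 = N3867 := ded_20_2 (flp_b L33532) (flp_d L33508) L48138
theorem L48142 : sm gf N5579 = N3924 := ded_22_2 (flp_b L33982) (flp_f L33502) L48138
theorem L48144 : sm gj N5579 = N3893 := ded_24_2 (flp_b L33749) (flp_j L33504) L48138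
theorem L48148 : sm ge N3863 = N5580 := rfl
theorem L48150 : sm gc N5580 = N3864 := ded_28_1 (flp_e L33510) L33500 L48148
theorem L48152 : sm gj N5580 = N3894 := ded_42_2 (flp_e L33758) (flp_j L33504) L48148
theorem L48156 : sm gf N3864 = N5581 := rfl
theorem L48164 : sm gb N3865 = N5582 := rfl
theorem L48167 : sm gj N5582 = N3896 := ded_24_2 (flp_b L33771) (flp_j L33519) L48164
theorem L48172 : sm ge N3865 = N5583 := rfl
theorem L48174 : sm gc N5583 = N3866 := ded_28_1 (flp_e L33523) L33516 L48172
theorem L48176 : sm gj N5583 = N3897 := ded_42_2 (flp_e L33778) (flp_j L33519) L48172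
theorem L48180 : sm gf N3866 = N5584 := rfl
theorem L48182 : sm gb N5584 = N5584 := ded_22_1 (flp_f L48180) L33525 L48180
theorem L48183 : sm gd N5584 = N3869 := ded_35_1 (flp_f L33551) (flp_d L33530) L48180
theorem L48185 : sm gj N5584 = N3898 := ded_46_2 (flp_f L33785) (flp_j L33526) L48180
theorem L48187 : sm gh N5584 = N5584 := ded_47_2 (flp_f L48180) L33528 L48180
theorem L48188 : sm gi N5584 = N5584 := ded_48_2 (flp_f L48180) L33529 L48180
theorem L48189 : sm ge N5584 = N5584 := ded_40_1 (flp_f L48180) (flp_e L33523) L23376 L33523 L48180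
theorem L48190 : sm ga N3867 = N5585 := rfl
theorem L48195 : sm gj N5585 = N3899 := ded_16_2 (flp_a L33793) (flp_j L33536) L48190
theorem L48197 : sm gh N5585 = N3870 := ded_17_2 (flp_a L33561) (flp_h L33538) L48190
theorem L48200 : sm ge N3867 = N5586 := rfl
theorem L48202 : sm gb N5586 = N3868 := ded_21_1 (flp_e L33542) L33532 L48200
theorem L48205 : sm gj N5586 = N3900 := ded_42_2 (flp_e L33802) (flp_j L33536) L48200
theorem L48207 : sm gh N5586 = N3871 := ded_43_2 (flp_e L33571) (flp_h L33538) L48200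
theorem L48210 : sm gd N3868 = N5587 := rfl
theorem L48212 : sm gj N5587 = N3901 := ded_37_2 (flp_d L33811) (flp_j L33546) L48210
theorem L48215 : sm gf N3868 = N5588 := rfl
theorem L48217 : sm gc N5588 = N3869 := ded_29_1 (flp_f L33551) (flp_c L33544) L48215
theorem L48221 : sm gh N5588 = N3873 := ded_47_2 (flp_f L33588) (flp_h L33548) L48215
theorem L48226 : sm gg N3869 = N5589 := rfl
theorem L48228 : sm gb N5589 = N5589 := ded_23_1 (flp_g L48226) L33553 L48226
theorem L48229 : sm ge N5589 = N3931 := ded_41_1 (flp_g L34043) (flp_e L33559) L48226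
theorem L48231 : sm gh N5589 = N3874 := ded_50_2 (flp_g L33598) (flp_h L33556) L48226
theorem L48233 : sm gi N5589 = N5589 := ded_51_2 (flp_g L48226) L33558 L48226
theorem L48234 : sm ge N3870 = N5590 := rfl
theorem L48238 : sm gc N5590 = N5590 := ded_28_1 (flp_e L48234) L33563 L48234
theorem L48239 : sm gj N5590 = N3904 := ded_42_2 (flp_e L33833) (flp_j L33567) L48234
theorem L48241 : sm gi N5590 = N3875 := ded_44_2 (flp_e L33606) (flp_i L33569) L48234
theorem L48243 : sm gd N3871 = N5591 := rfl
theorem L48245 : sm gb N5591 = N3872 := ded_20_1 (flp_d L33580) (flp_b L33573) L48243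
theorem L48247 : sm gj N5591 = N3905 := ded_37_2 (flp_d L33841) (flp_j L33576) L48243
theorem L48249 : sm gi N5591 = N3876 := ded_39_2 (flp_d L33614) (flp_i L33578) L48243
theorem L48252 : sm gf N3871 = N5592 := rfl
theorem L48254 : sm gb N5592 = N3873 := ded_22_1 (flp_f L33588) (flp_b L33573) L48252
theorem L48256 : sm gc N5592 = N5592 := ded_29_1 (flp_f L48252) L33575 L48252
theorem L48257 : sm gj N5592 = N3906 := ded_46_2 (flp_f L33849) (flp_j L33576) L48252
theorem L48259 : sm gi N5592 = N3877 := ded_48_2 (flp_f L33621) (flp_i L33578) L48252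
theorem L48261 : sm ge N5592 = N3934 := ded_40_1 (flp_f L34071) (flp_e L23737) (flp_f L23401) L33571 L48252
theorem L48263 : sm gf N3872 = N5593 := rfl
theorem L48265 : sm gc N5593 = N5593 := ded_29_1 (flp_f L48263) L33586 L48263
theorem L48266 : sm gd N5593 = N3873 := ded_35_1 (flp_f L33588) L33580 L48263
theorem L48268 : sm gj N5593 = N3907 := ded_46_2 (flp_f L33858) (flp_j L33582) L48263
theorem L48270 : sm gi N5593 = N3878 := ded_48_2 (flp_f L33631) (flp_i L33584) L48263
theorem L48272 : sm gh N3872 = N5594 := rfl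
theorem L48276 : sm gj N5594 = N3908 := ded_52_1 (flp_h L33865) (flp_j L33582) L48272
theorem L48278 : sm gg N3873 = N5595 := rfl
theorem L48280 : sm gc N5595 = N3874 := ded_30_1 (flp_g L33598) (flp_c L33590) L48278
theorem L48282 : sm ge N5595 = N3937 := ded_41_1 (flp_g L34098) (flp_e L33596) L48278
theorem L48284 : sm gi N5595 = N3880 := ded_51_2 (flp_g L33645) (flp_i L33594) L48278
theorem L48286 : sm gj N3874 = N5596 := rfl
theorem L48288 : sm gb N5596 = N5596 := ded_24_1 (flp_j L48286) L33600 L48286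
theorem L48289 : sm gd N5596 = N5596 := ded_37_1 (flp_j L48286) L33601 L48286
theorem L48290 : sm ge N5596 = N3938 := ded_42_1 (flp_j L34105) (flp_e L33602) L48286
theorem L48292 : sm gi N5596 = N3881 := ded_53_2 (flp_j L33652) (flp_i L33604) L48286
theorem L48294 : sm gg N5596 = N3910 := ded_49_1 (flp_j L33879) (flp_g L23616) (flp_j L23420) L33598 L48286
theorem L48296 : sm gd N3875 = N5597 := rfl
theorem L48298 : sm ga N5597 = N3876 := ded_12_1 (flp_d L33614) (flp_a L33608) L48296
theorem L48300 : sm gj N5597 = N3911 := ded_37_2 (flp_d L33888) (flp_j L33611) L48296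
theorem L48303 : sm gf N3875 = N5598 := rfl
theorem L48305 : sm ga N5598 = N3877 := ded_14_1 (flp_f L33621) (flp_a L33608) L48303
theorem L48313 : sm gc N3876 = N5599 := rfl
theorem L48316 : sm gj N5599 = N3913 := ded_31_2 (flp_c L33902) (flp_j L33618) L48313
theorem L48318 : sm gb N5599 = N5599 := ded_19_1 (flp_c L48313) L33616 L23447 (flp_b L33616) L48313
theorem L48319 : sm gd N5599 = N5599 := ded_27_2 (flp_c L48313) (flp_d L33614) L23439 L33614 L48313
theorem L48320 : sm gf N3876 = N5600 := rfl
theorem L48322 : sm gb N5600 = N3878 := ded_22_1 (flp_f L33631) (flp_b L33616) L48320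
theorem L48324 : sm gd N5600 = N3877 := ded_35_1 (flp_f L33621) L33614 L48320
theorem L48326 : sm gj N5600 = N3914 := ded_46_2 (flp_f L33908) (flp_j L33618) L48320
theorem L48328 : sm gh N3876 = N5601 := rfl
theorem L48330 : sm gb N5601 = N3879 := ded_25_1 (flp_h L33638) (flp_b L33616) L48328
theorem L48332 : sm ge N5601 = N5601 := ded_43_1 (flp_h L48328) L33620 L48328
theorem L48333 : sm gj N5601 = N3915 := ded_52_1 (flp_h L33914) (flp_j L33618) L48328
theorem L48335 : sm gd N5601 = N5601 := ded_38_1 (flp_h L48328) (flp_d L33614) L23442 L33614 L48328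
theorem L48336 : sm gg N3877 = N5602 := rfl
theorem L48338 : sm gb N5602 = N3880 := ded_23_1 (flp_g L33645) (flp_b L33623) L48336
theorem L48341 : sm ge N5602 = N3944 := ded_41_1 (flp_g L34157) (flp_e L33629) L48336
theorem L48344 : sm ge N3878 = N5603 := rfl
theorem L48347 : sm gj N5603 = N3917 := ded_42_2 (flp_e L33930) (flp_j L33636) L48344
theorem L48349 : sm gd N5603 = N3945 := ded_34_1 (flp_e L34164) L23802 (flp_e L23456) (flp_d L33634) L48344
theorem L48352 : sm gg N3878 = N5604 := rfl
theorem L48357 : sm gh N3878 = N5605 := rfl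
theorem L48360 : sm gf N5605 = N3879 := ded_47_1 (flp_h L33638) L33631 L48357
theorem L48362 : sm gj N5605 = N3919 := ded_52_1 (flp_h L33942) (flp_j L33636) L48357
theorem L48365 : sm gi N3879 = N5606 := rfl
theorem L48372 : sm gj N3880 = N5607 := rfl
theorem L48374 : sm gc N5607 = N3881 := ded_31_1 (flp_j L33652) (flp_c L33647) L48372
theorem L48376 : sm ge N5607 = N3949 := ded_42_1 (flp_j L34196) (flp_e L33649) L48372
theorem L48379 : sm gg N5607 = N3921 := ded_49_1 (flp_j L33954) (flp_g L23657) (flp_j L23453) L33645 L48372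
theorem L48381 : sm gd N3882 = N5608 := rfl
theorem L48383 : sm ga N5608 = N5608 := ded_12_1 (flp_d L48381) L33663 L48381
theorem L48384 : sm gb N5608 = N5608 := ded_20_1 (flp_d L48381) L33664 L48381
theorem L48385 : sm gf N5608 = N5608 := ded_35_2 (flp_d L48381) L33668 L48381
theorem L48386 : sm gg N5608 = N5608 := ded_36_2 (flp_d L48381) L33669 L48381
theorem L48387 : sm gc N5608 = N5608 := ded_27_1 (flp_d L48381) L33665 L23481 (flp_c L33665) L48381
theorem L48388 : sm gh N5608 = N5608 := ded_38_2 (flp_d L48381) (flp_h L33661) L23472 L33661 L48381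
theorem L48389 : sm gi N3882 = N5609 := rfl
theorem L48393 : sm gc N5609 = N3884 := ded_33_1 (flp_i L33680) (flp_c L33665) L48389
theorem L48398 : sm gh N3883 = N5610 := rfl
theorem L48402 : sm gc N5610 = N3885 := ded_32_1 (flp_h L33689) (flp_c L33674) L48398
theorem L48407 : sm gh N3884 = N5611 := rfl
theorem L48410 : sm gb N5611 = N3889 := ded_25_1 (flp_h L33722) (flp_b L33683) L48407
theorem L48415 : sm gi N5611 = N3885 := ded_54_2 (flp_h L33689) (flp_i L23482) L23473 L33680 L48407
theorem L48417 : sm gd N3885 = N5612 := rfl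
theorem L48420 : sm gb N5612 = N3890 := ded_20_1 (flp_d L33730) (flp_b L33692) L48417
theorem L48424 : sm gh N5612 = N3886 := ded_38_2 (flp_d L33697) (flp_h L23492) (flp_d L23487) L33689 L48417
theorem L48426 : sm gc N3886 = N5613 := rfl
theorem L48433 : sm ge N3886 = N5614 := rfl
theorem L48440 : sm gd N5614 = N3888 := ded_34_1 (flp_e L33714) (flp_d L23503) (flp_e L23498) L33697 L48433
theorem L48442 : sm gb N3887 = N5615 := rfl
theorem L48445 : sm gf N5615 = N3950 := ded_22_2 (flp_b L34204) (flp_f L33708) L48442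
theorem L48449 : sm gi N5615 = N5615 := ded_26_2 (flp_b L48442) L33712 L48442
theorem L48450 : sm gc N5615 = N3893 := ded_19_2 (flp_b L33749) (flp_c L23531) (flp_b L23506) L33705 L48442
theorem L48452 : sm ge N3887 = N5616 := rfl
theorem L48455 : sm gc N5616 = N3888 := ded_28_1 (flp_e L33714) L33705 L48452
theorem L48469 : sm gd N3889 = N5618 := rfl
theorem L48473 : sm gi N5618 = N3890 := ded_39_2 (flp_d L33730) (flp_i L33728) L48469
theorem L48476 : sm gc N3890 = N5619 := rfl
theorem L48480 : sm gh N5619 = N3891 := ded_32_2 (flp_c L33736) (flp_h L33734) L48476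
theorem L48483 : sm ge N3890 = N5620 := rfl
theorem L48486 : sm gh N5620 = N3892 := ded_43_2 (flp_e L33743) (flp_h L33734) L48483
theorem L48489 : sm gb N3891 = N5621 := rfl
theorem L48491 : sm gd N5621 = N3896 := ded_20_2 (flp_b L33771) (flp_d L33741) L48489
theorem L48496 : sm ge N3891 = N5622 := rfl
theorem L48502 : sm gf N3892 = N5623 := rfl
theorem L48504 : sm gd N5623 = N3895 := ded_35_1 (flp_f L33765) (flp_d L33747) L48502
theorem L48508 : sm ga N3893 = N5624 := rfl
theorem L48512 : sm gf N5624 = N3953 := ded_14_2 (flp_a L34230) (flp_f L33753) L48508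
theorem L48517 : sm ge N3893 = N5625 := rfl
theorem L48519 : sm gb N5625 = N3894 := ded_21_1 (flp_e L33758) L33749 L48517
theorem L48524 : sm gd N3894 = N5626 := rfl
theorem L48528 : sm ge N5626 = N3901 := ded_34_2 (flp_d L33811) (flp_e L23568) (flp_d L23538) L33758 L48524
theorem L48538 : sm gg N3895 = N5628 := rfl
theorem L48545 : sm ga N3896 = N5629 := rfl
theorem L48552 : sm ge N3896 = N5630 := rfl
theorem L48554 : sm gb N5630 = N3897 := ded_21_1 (flp_e L33778) L33771 L48552
theorem L48560 : sm gd N3897 = N5631 := rfl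
theorem L48564 : sm gc N5631 = N3901 := ded_27_1 (flp_d L33811) L23570 (flp_d L23557) (flp_c L33780) L48560
theorem L48566 : sm gf N3897 = N5632 := rfl
theorem L48568 : sm gc N5632 = N3898 := ded_29_1 (flp_f L33785) (flp_c L33780) L48566
theorem L48573 : sm gg N3898 = N5633 := rfl
theorem L48575 : sm gb N5633 = N5633 := ded_23_1 (flp_g L48573) L33787 L48573
theorem L48576 : sm gd N5633 = N3903 := ded_36_1 (flp_g L33824) (flp_d L33788) L48573
theorem L48578 : sm ge N5633 = N5633 := ded_41_1 (flp_g L48573) L33792 L48573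
theorem L48579 : sm gh N5633 = N5633 := ded_50_2 (flp_g L48573) L33790 L48573
theorem L48580 : sm gi N5633 = N5633 := ded_51_2 (flp_g L48573) L33791 L48573
theorem L48581 : sm gf N5633 = N5633 := ded_45_1 (flp_g L48573) (flp_f L33785) L23554 L33785 L48573
theorem L48582 : sm ge N3899 = N5634 := rfl
theorem L48584 : sm ga N5634 = N3900 := ded_13_1 (flp_e L33802) L33793 L48582
theorem L48588 : sm gh N5634 = N3904 := ded_43_2 (flp_e L33833) (flp_h L33799) L48582
theorem L48591 : sm gd N3900 = N5635 := rfl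
theorem L48593 : sm gb N5635 = N3901 := ded_20_1 (flp_d L33811) (flp_b L33804) L48591
theorem L48597 : sm gf N3900 = N5636 := rfl
theorem L48599 : sm gb N5636 = N3902 := ded_22_1 (flp_f L33815) (flp_b L33804) L48597
theorem L48602 : sm gh N5636 = N3906 := ded_47_2 (flp_f L33849) (flp_h L33808) L48597
theorem L48605 : sm ge N5636 = N3960 := ded_40_1 (flp_f L34284) (flp_e L23877) (flp_f L23561) L33802 L48597
theorem L48607 : sm gf N3901 = N5637 := rfl
theorem L48609 : sm gd N5637 = N3902 := ded_35_1 (flp_f L33815) L33811 L48607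
theorem L48617 : sm gg N3902 = N5639 := rfl
theorem L48619 : sm gc N5639 = N3903 := ded_30_1 (flp_g L33824) (flp_c L33817) L48617
theorem L48621 : sm ge N5639 = N3963 := ded_41_1 (flp_g L34305) (flp_e L33822) L48617
theorem L48623 : sm gh N5639 = N3909 := ded_50_2 (flp_g L33870) (flp_h L33819) L48617
theorem L48627 : sm gj N3903 = N5640 := rfl
theorem L48629 : sm gb N5640 = N5640 := ded_24_1 (flp_j L48627) L33826 L48627
theorem L48630 : sm ge N5640 = N3964 := ded_42_1 (flp_j L34314) (flp_e L33827) L48627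
theorem L48632 : sm gf N5640 = N5640 := ded_46_1 (flp_j L48627) L33832 L48627
theorem L48633 : sm gh N5640 = N3910 := ded_52_2 (flp_j L33879) (flp_h L33829) L48627
theorem L48635 : sm gi N5640 = N5640 := ded_53_2 (flp_j L48627) L33831 L48627
theorem L48636 : sm gd N3904 = N5641 := rfl
theorem L48638 : sm ga N5641 = N3905 := ded_12_1 (flp_d L33841) (flp_a L33835) L48636
theorem L48641 : sm gi N5641 = N3911 := ded_39_2 (flp_d L33888) (flp_i L33839) L48636
theorem L48644 : sm gf N3904 = N5642 := rfl
theorem L48649 : sm gi N5642 = N3912 := ded_48_2 (flp_f L33894) (flp_i L33839) L48644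
theorem L48653 : sm gc N3905 = N5643 := rfl
theorem L48657 : sm gi N5643 = N3913 := ded_33_2 (flp_c L33902) (flp_i L33846) L48653
theorem L48659 : sm gb N5643 = N5643 := ded_19_1 (flp_c L48653) L33843 L23606 (flp_b L33843) L48653
theorem L48661 : sm gf N3905 = N5644 := rfl
theorem L48663 : sm gb N5644 = N3907 := ded_22_1 (flp_f L33858) (flp_b L33843) L48661
theorem L48665 : sm gd N5644 = N3906 := ded_35_1 (flp_f L33849) L33841 L48661
theorem L48667 : sm gi N5644 = N3914 := ded_48_2 (flp_f L33908) (flp_i L33846) L48661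
theorem L48675 : sm gg N3906 = N5646 := rfl
theorem L48677 : sm gb N5646 = N3909 := ded_23_1 (flp_g L33870) (flp_b L33851) L48675
theorem L48682 : sm gi N5646 = N3916 := ded_51_2 (flp_g L33921) (flp_i L33854) L48675
theorem L48685 : sm ge N3907 = N5647 := rfl
theorem L48687 : sm gc N5647 = N5647 := ded_28_1 (flp_e L48685) L33860 L48685
theorem L48688 : sm gi N5647 = N3917 := ded_44_2 (flp_e L33930) (flp_i L33863) L48685
theorem L48690 : sm gd N5647 = N3971 := ded_34_1 (flp_e L34373) L23938 (flp_e L23614) (flp_d L33861) L48685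
theorem L48692 : sm gf N5647 = N5647 := ded_40_2 (flp_e L48685) (flp_f L33858) L23607 L33858 L48685
theorem L48693 : sm gg N3907 = N5648 := rfl
theorem L48695 : sm gc N5648 = N5648 := ded_30_1 (flp_g L48693) L33860 L48693
theorem L48696 : sm gd N5648 = N3909 := ded_36_1 (flp_g L33870) (flp_d L33861) L48693
theorem L48698 : sm gi N5648 = N3918 := ded_51_2 (flp_g L33936) (flp_i L33863) L48693
theorem L48700 : sm gf N5648 = N5648 := ded_45_1 (flp_g L48693) (flp_f L33858) L23603 L33858 L48693
theorem L48701 : sm gh N3907 = N5649 := rfl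
theorem L48706 : sm gi N3908 = N5650 := rfl
theorem L48711 : sm gh N5650 = N3920 := ded_54_1 (flp_i L33948) (flp_h L23651) (flp_i L23604) L33865 L48706
theorem L48713 : sm gj N3909 = N5651 := rfl
theorem L48715 : sm gc N5651 = N3910 := ded_31_1 (flp_j L33879) (flp_c L33872) L48713
theorem L48717 : sm ge N5651 = N3975 := ded_42_1 (flp_j L34405) (flp_e L33874) L48713
theorem L48719 : sm gf N5651 = N5651 := ded_46_1 (flp_j L48713) L33878 L48713
theorem L48720 : sm gi N5651 = N3921 := ded_53_2 (flp_j L33954) (flp_i L33876) L48713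
theorem L48722 : sm gc N3911 = N5652 := rfl
theorem L48724 : sm ga N5652 = N3913 := ded_11_1 (flp_c L33902) (flp_a L33890) L48722
theorem L48729 : sm gf N3911 = N5653 := rfl
theorem L48731 : sm ga N5653 = N3914 := ded_14_1 (flp_f L33908) (flp_a L33890) L48729
theorem L48733 : sm gd N5653 = N3912 := ded_35_1 (flp_f L33894) L33888 L48729
theorem L48735 : sm gh N3911 = N5654 := rfl
theorem L48737 : sm ga N5654 = N3915 := ded_17_1 (flp_h L33914) (flp_a L33890) L48735
theorem L48742 : sm gg N3912 = N5655 := rfl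
theorem L48744 : sm ga N5655 = N3916 := ded_15_1 (flp_g L33921) (flp_a L33896) L48742
theorem L48751 : sm gf N3913 = N5656 := rfl
theorem L48753 : sm gb N5656 = N5656 := ded_22_1 (flp_f L48751) L33906 L48751
theorem L48754 : sm gc N5656 = N3914 := ded_29_1 (flp_f L33908) L33902 L48751
theorem L48756 : sm gd N5656 = N5656 := ded_35_1 (flp_f L48751) L33907 L48751
theorem L48757 : sm gh N3913 = N5657 := rfl
theorem L48759 : sm gb N5657 = N5657 := ded_25_1 (flp_h L48757) L33906 L48757
theorem L48760 : sm gc N5657 = N3915 := ded_32_1 (flp_h L33914) L33902 L48757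
theorem L48762 : sm ge N5657 = N5657 := ded_43_1 (flp_h L48757) L33904 L48757
theorem L48763 : sm gg N5657 = N5657 := ded_50_1 (flp_h L48757) L33905 L48757
theorem L48764 : sm ge N3914 = N5658 := rfl
theorem L48766 : sm gb N5658 = N3917 := ded_21_1 (flp_e L33930) (flp_b L33910) L48764
theorem L48768 : sm gd N5658 = N3982 := ded_34_1 (flp_e L34459) L23991 (flp_e L23644) (flp_d L33912) L48764
theorem L48770 : sm gf N5658 = N5658 := ded_40_2 (flp_e L48764) (flp_f L33908) L23637 L33908 L48764
theorem L48771 : sm gg N3914 = N5659 := rfl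
theorem L48773 : sm gb N5659 = N3918 := ded_23_1 (flp_g L33936) (flp_b L33910) L48771
theorem L48775 : sm gd N5659 = N3916 := ded_36_1 (flp_g L33921) (flp_d L33912) L48771
theorem L48778 : sm gh N3914 = N5660 := rfl
theorem L48780 : sm gb N5660 = N3919 := ded_25_1 (flp_h L33942) (flp_b L33910) L48778
theorem L48782 : sm gf N5660 = N3915 := ded_47_1 (flp_h L33914) L33908 L48778
theorem L48784 : sm gd N5660 = N5660 := ded_38_1 (flp_h L48778) L33912 L23643 (flp_d L33912) L48778
theorem L48785 : sm gi N3915 = N5661 := rfl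
theorem L48792 : sm gj N3916 = N5662 := rfl
theorem L48794 : sm gb N5662 = N3921 := ded_24_1 (flp_j L33954) (flp_b L33923) L48792
theorem L48797 : sm ge N5662 = N3986 := ded_42_1 (flp_j L34487) (flp_e L33926) L48792
theorem L48801 : sm gg N3917 = N5663 := rfl
theorem L48804 : sm gd N5663 = N3987 := ded_36_1 (flp_g L34495) (flp_d L33933) L48801
theorem L48806 : sm ge N5663 = N3918 := ded_41_1 (flp_g L33936) L33930 L48801
theorem L48808 : sm gh N3917 = N5664 := rfl
theorem L48811 : sm ge N5664 = N3919 := ded_43_1 (flp_h L33942) L33930 L48808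
theorem L48814 : sm gj N3918 = N5665 := rfl
theorem L48817 : sm gd N5665 = N3921 := ded_37_1 (flp_j L33954) (flp_d L33939) L48814
theorem L48820 : sm gh N3918 = N5666 := rfl
theorem L48824 : sm gg N5666 = N3919 := ded_50_1 (flp_h L33942) L33936 L48820
theorem L48827 : sm gi N3919 = N5667 := rfl
theorem L48833 : sm gb N3922 = N5668 := rfl
theorem L48837 : sm gj N5668 = N3950 := ded_24_2 (flp_b L34204) (flp_j L33966) L48833
theorem L48841 : sm gc N5668 = N3924 := ded_19_2 (flp_b L33982) (flp_c L23683) (flp_b L23676) L33962 L48833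
theorem L48843 : sm ge N3922 = N5669 := rfl
theorem L48848 : sm gg N5669 = N5669 := ded_41_2 (flp_e L48843) L33965 L48843
theorem L48849 : sm gj N5669 = N3951 := ded_42_2 (flp_e L34213) (flp_j L33966) L48843
theorem L48863 : sm ga N3924 = N5671 := rfl
theorem L48865 : sm gd N5671 = N3927 := ded_12_2 (flp_a L34007) (flp_d L33984) L48863
theorem L48867 : sm gg N5671 = N5671 := ded_15_2 (flp_a L48863) L33986 L48863
theorem L48868 : sm gj N5671 = N3953 := ded_16_2 (flp_a L34230) (flp_j L33987) L48863
theorem L48872 : sm ge N3924 = N5672 := rfl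
theorem L48876 : sm gg N5672 = N5672 := ded_41_2 (flp_e L48872) L33986 L48872
theorem L48877 : sm gj N5672 = N3954 := ded_42_2 (flp_e L34238) (flp_j L33987) L48872
theorem L48881 : sm gd N3925 = N5673 := rfl
theorem L48883 : sm gg N5673 = N5673 := ded_36_2 (flp_d L48881) L33995 L48881
theorem L48884 : sm gj N5673 = N3955 := ded_37_2 (flp_d L34246) (flp_j L33996) L48881
theorem L48888 : sm ge N5673 = N3929 := ded_34_2 (flp_d L34027) (flp_e L23709) (flp_d L23690) L33991 L48881
theorem L48904 : sm ge N3927 = N5676 := rfl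
theorem L48906 : sm ga N5676 = N3928 := ded_13_1 (flp_e L34016) L34007 L48904
theorem L48908 : sm gc N5676 = N5676 := ded_28_1 (flp_e L48904) L34009 L48904
theorem L48910 : sm gj N5676 = N3958 := ded_42_2 (flp_e L34267) (flp_j L34011) L48904
theorem L48912 : sm gh N5676 = N3932 := ded_43_2 (flp_e L34051) (flp_h L34013) L48904
theorem L48915 : sm gd N3928 = N5677 := rfl
theorem L48919 : sm gg N5677 = N5677 := ded_36_2 (flp_d L48915) L34021 L48915
theorem L48920 : sm gj N5677 = N3959 := ded_37_2 (flp_d L34277) (flp_j L34022) L48915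
theorem L48923 : sm gf N3928 = N5678 := rfl
theorem L48928 : sm gj N5678 = N3960 := ded_46_2 (flp_f L34284) (flp_j L34022) L48923
theorem L48930 : sm gh N5678 = N3934 := ded_47_2 (flp_f L34071) (flp_h L34024) L48923
theorem L48933 : sm gf N3929 = N5679 := rfl
theorem L48936 : sm gd N5679 = N3930 := ded_35_1 (flp_f L34034) L34027 L48933
theorem L48938 : sm gj N5679 = N3961 := ded_46_2 (flp_f L34292) (flp_j L34030) L48933
theorem L48941 : sm gh N3929 = N5680 := rfl
theorem L48949 : sm gg N3930 = N5681 := rfl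
theorem L48953 : sm gh N5681 = N3937 := ded_50_2 (flp_g L34098) (flp_h L34040) L48949
theorem L48957 : sm gj N3931 = N5682 := rfl
theorem L48959 : sm gb N5682 = N5682 := ded_24_1 (flp_j L48957) L34045 L48957
theorem L48960 : sm gd N5682 = N5682 := ded_37_1 (flp_j L48957) L34046 L48957
theorem L48961 : sm gf N5682 = N5682 := ded_46_1 (flp_j L48957) L34050 L48957
theorem L48962 : sm gh N5682 = N3938 := ded_52_2 (flp_j L34105) (flp_h L34047) L48957
theorem L48964 : sm gi N5682 = N5682 := ded_53_2 (flp_j L48957) L34049 L48957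
theorem L48965 : sm gg N5682 = N3964 := ded_49_1 (flp_j L34314) (flp_g L23900) (flp_j L23723) L34043 L48957
theorem L48967 : sm gd N3932 = N5683 := rfl
theorem L48969 : sm ga N5683 = N3933 := ded_12_1 (flp_d L34061) (flp_a L34053) L48967
theorem L48972 : sm gj N5683 = N3965 := ded_37_2 (flp_d L34323) (flp_j L34057) L48967
theorem L48974 : sm gi N5683 = N3939 := ded_39_2 (flp_d L34115) (flp_i L34059) L48967
theorem L48977 : sm gf N3932 = N5684 := rfl
theorem L48984 : sm gi N5684 = N3940 := ded_48_2 (flp_f L34123) (flp_i L34059) L48977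
theorem L48986 : sm gc N3933 = N5685 := rfl
theorem L48990 : sm gj N5685 = N3967 := ded_31_2 (flp_c L34339) (flp_j L34066) L48986
theorem L48992 : sm gi N5685 = N3941 := ded_33_2 (flp_c L34131) (flp_i L34068) L48986
theorem L48994 : sm gb N5685 = N4058 := ded_19_1 (flp_c L35049) L24381 (flp_c L23754) (flp_b L34063) L48986
theorem L48997 : sm gf N3933 = N5686 := rfl
theorem L48999 : sm gb N5686 = N3935 := ded_22_1 (flp_f L34080) (flp_b L34063) L48997
theorem L49001 : sm gd N5686 = N3934 := ded_35_1 (flp_f L34071) L34061 L48997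
theorem L49003 : sm gj N5686 = N3968 := ded_46_2 (flp_f L34349) (flp_j L34066) L48997
theorem L49005 : sm gi N5686 = N3942 := ded_48_2 (flp_f L34140) (flp_i L34068) L48997
theorem L49015 : sm gg N3934 = N5688 := rfl
theorem L49017 : sm gb N5688 = N3937 := ded_23_1 (flp_g L34098) (flp_b L34073) L49015
theorem L49023 : sm ge N3935 = N5689 := rfl
theorem L49025 : sm gc N5689 = N4062 := ded_28_1 (flp_e L35087) (flp_c L34082) L49023
theorem L49027 : sm gj N5689 = N3971 := ded_42_2 (flp_e L34373) (flp_j L34086) L49023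
theorem L49029 : sm gi N5689 = N3945 := ded_44_2 (flp_e L34164) (flp_i L34088) L49023
theorem L49031 : sm gf N5689 = N5689 := ded_40_2 (flp_e L49023) (flp_f L34080) L23756 L34080 L49023
theorem L49032 : sm gg N3935 = N5690 := rfl
theorem L49034 : sm gc N5690 = N4063 := ded_30_1 (flp_g L35095) (flp_c L34082) L49032
theorem L49036 : sm gd N5690 = N3937 := ded_36_1 (flp_g L34098) (flp_d L34084) L49032
theorem L49038 : sm gi N5690 = N3946 := ded_51_2 (flp_g L34171) (flp_i L34088) L49032
theorem L49040 : sm gf N5690 = N5690 := ded_45_1 (flp_g L49032) (flp_f L34080) L23749 L34080 L49032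
theorem L49041 : sm gh N3935 = N5691 := rfl
theorem L49043 : sm gc N5691 = N4064 := ded_32_1 (flp_h L35102) (flp_c L34082) L49041
theorem L49059 : sm gj N3937 = N5693 := rfl
theorem L49064 : sm gi N5693 = N3949 := ded_53_2 (flp_j L34196) (flp_i L34102) L49059
theorem L49068 : sm gc N3939 = N5694 := rfl
theorem L49070 : sm ga N5694 = N3941 := ded_11_1 (flp_c L34131) (flp_a L34117) L49068
theorem L49074 : sm gj N5694 = N3976 := ded_31_2 (flp_c L34413) (flp_j L34120) L49068
theorem L49077 : sm gf N3939 = N5695 := rfl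
theorem L49079 : sm ga N5695 = N3942 := ded_14_1 (flp_f L34140) (flp_a L34117) L49077
theorem L49083 : sm gj N5695 = N3977 := ded_46_2 (flp_f L34421) (flp_j L34120) L49077
theorem L49085 : sm gh N3939 = N5696 := rfl
theorem L49087 : sm ga N5696 = N3943 := ded_17_1 (flp_h L34148) (flp_a L34117) L49085
theorem L49094 : sm gg N3940 = N5697 := rfl
theorem L49101 : sm gf N3941 = N5698 := rfl
theorem L49103 : sm gb N5698 = N4071 := ded_22_1 (flp_f L35165) (flp_b L34137) L49101
theorem L49105 : sm gc N5698 = N3942 := ded_29_1 (flp_f L34140) L34131 L49101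
theorem L49107 : sm gd N5698 = N5698 := ded_35_1 (flp_f L49101) L34139 L49101
theorem L49108 : sm gj N5698 = N3980 := ded_46_2 (flp_f L34443) (flp_j L34135) L49101
theorem L49110 : sm gh N3941 = N5699 := rfl
theorem L49114 : sm gc N5699 = N3943 := ded_32_1 (flp_h L34148) L34131 L49110
theorem L49120 : sm ge N3942 = N5700 := rfl
theorem L49122 : sm gb N5700 = N3945 := ded_21_1 (flp_e L34164) (flp_b L34142) L49120
theorem L49124 : sm gj N5700 = N3982 := ded_42_2 (flp_e L34459) (flp_j L34146) L49120
theorem L49127 : sm gg N3942 = N5701 := rfl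
theorem L49129 : sm gb N5701 = N3946 := ded_23_1 (flp_g L34171) (flp_b L34142) L49127
theorem L49131 : sm gd N5701 = N3944 := ded_36_1 (flp_g L34157) (flp_d L34144) L49127
theorem L49134 : sm gh N3942 = N5702 := rfl
theorem L49136 : sm gb N5702 = N3947 := ded_25_1 (flp_h L34178) (flp_b L34142) L49134
theorem L49138 : sm gf N5702 = N3943 := ded_47_1 (flp_h L34148) L34140 L49134
theorem L49140 : sm gj N5702 = N3984 := ded_52_1 (flp_h L34472) (flp_j L34146) L49134
theorem L49142 : sm gd N5702 = N5702 := ded_38_1 (flp_h L49134) L34144 L23797 (flp_d L34144) L49134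
theorem L49143 : sm gi N3943 = N5703 := rfl
theorem L49150 : sm gj N5703 = N3985 := ded_53_1 (flp_i L34479) (flp_j L34154) L49143
theorem L49152 : sm gj N3944 = N5704 := rfl
theorem L49159 : sm gg N5704 = N3986 := ded_49_1 (flp_j L34487) (flp_g L24001) (flp_j L23795) L34157 L49152
theorem L49161 : sm gg N3945 = N5705 := rfl
theorem L49163 : sm gc N5705 = N4078 := ded_30_1 (flp_g L35226) (flp_c L34166) L49161
theorem L49165 : sm ge N5705 = N3946 := ded_41_1 (flp_g L34171) L34164 L49161
theorem L49167 : sm gh N3945 = N5706 := rfl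
theorem L49169 : sm gc N5706 = N4079 := ded_32_1 (flp_h L35231) (flp_c L34166) L49167
theorem L49171 : sm ge N5706 = N3947 := ded_43_1 (flp_h L34178) L34164 L49167
theorem L49174 : sm gj N5706 = N3988 := ded_52_1 (flp_h L34501) (flp_j L34168) L49167
theorem L49176 : sm gj N3946 = N5707 := rfl
theorem L49180 : sm gd N5707 = N3949 := ded_37_1 (flp_j L34196) (flp_d L34175) L49176
theorem L49185 : sm gh N3946 = N5708 := rfl
theorem L49190 : sm gg N5708 = N3947 := ded_50_1 (flp_h L34178) L34171 L49185
theorem L49193 : sm gi N3947 = N5709 := rfl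
theorem L49200 : sm gj N5709 = N3991 := ded_53_1 (flp_i L34525) (flp_j L34184) L49193
theorem L49202 : sm ga N3950 = N5710 := rfl
theorem L49207 : sm gg N5710 = N3992 := ded_15_2 (flp_a L34532) (flp_g L34207) L49202
theorem L49212 : sm ge N3950 = N5711 := rfl
theorem L49218 : sm gg N5711 = N3993 := ded_41_2 (flp_e L34542) (flp_g L34207) L49212
theorem L49222 : sm gd N3951 = N5712 := rfl
theorem L49225 : sm gg N5712 = N3994 := ded_36_2 (flp_d L34551) (flp_g L34218) L49222
theorem L49230 : sm gf N3951 = N5713 := rfl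
theorem L49247 : sm ge N3953 = N5715 := rfl
theorem L49251 : sm gg N5715 = N3997 := ded_41_2 (flp_e L34576) (flp_g L34234) L49247
theorem L49255 : sm gd N3954 = N5716 := rfl
theorem L49257 : sm gb N5716 = N3955 := ded_20_1 (flp_d L34246) (flp_b L34240) L49255
theorem L49259 : sm gg N5716 = N3998 := ded_36_2 (flp_d L34583) (flp_g L34242) L49255
theorem L49262 : sm ge N5716 = N3959 := ded_34_2 (flp_d L34277) (flp_e L23877) (flp_d L23850) L34238 L49255
theorem L49264 : sm gf N3954 = N5717 := rfl
theorem L49270 : sm gf N3955 = N5718 := rfl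
theorem L49276 : sm gh N3955 = N5719 := rfl
theorem L49281 : sm gg N5719 = N4001 := ded_50_1 (flp_h L34606) (flp_g L34248) L49276
theorem L49299 : sm gd N3958 = N5722 := rfl
theorem L49303 : sm gg N5722 = N4004 := ded_36_2 (flp_d L34627) (flp_g L34272) L49299
theorem L49306 : sm gf N3958 = N5723 := rfl
theorem L49311 : sm gh N5723 = N3966 := ded_47_2 (flp_f L34332) (flp_h L34274) L49306
theorem L49314 : sm gc N3959 = N5724 := rfl
theorem L49316 : sm gg N5724 = N4006 := ded_30_2 (flp_c L34643) (flp_g L34281) L49314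
theorem L49320 : sm gd N5724 = N5724 := ded_27_2 (flp_c L49314) (flp_d L34277) L23881 L34277 L49314
theorem L49321 : sm gf N3959 = N5725 := rfl
theorem L49325 : sm gd N5725 = N3960 := ded_35_1 (flp_f L34284) L34277 L49321
theorem L49328 : sm gh N3959 = N5726 := rfl
theorem L49332 : sm gg N5726 = N4008 := ded_50_1 (flp_h L34657) (flp_g L34281) L49328
theorem L49334 : sm gd N5726 = N3969 := ded_38_1 (flp_h L34357) (flp_d L23918) (flp_h L23884) L34277 L49328
theorem L49336 : sm gg N3960 = N5727 := rfl
theorem L49341 : sm gh N5727 = N3970 := ded_50_2 (flp_g L34364) (flp_h L34289) L49336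
theorem L49346 : sm ge N3961 = N5728 := rfl
theorem L49350 : sm gg N3961 = N5729 := rfl
theorem L49353 : sm gd N5729 = N3963 := ded_36_1 (flp_g L34305) (flp_d L34295) L49350
theorem L49358 : sm gh N3961 = N5730 := rfl
theorem L49363 : sm gd N5730 = N3973 := ded_38_1 (flp_h L34390) L23938 (flp_h L23897) (flp_d L34295) L49358
theorem L49373 : sm gj N3963 = N5732 := rfl
theorem L49375 : sm gc N5732 = N3964 := ded_31_1 (flp_j L34314) (flp_c L34307) L49373
theorem L49377 : sm gf N5732 = N4014 := ded_46_1 (flp_j L34700) (flp_f L34312) L49373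
theorem L49379 : sm gh N5732 = N3975 := ded_52_2 (flp_j L34405) (flp_h L34309) L49373
theorem L49382 : sm gc N3965 = N5733 := rfl
theorem L49387 : sm gg N5733 = N4015 := ded_30_2 (flp_c L34709) (flp_g L34327) L49382
theorem L49389 : sm gi N5733 = N3976 := ded_33_2 (flp_c L34413) (flp_i L34329) L49382
theorem L49392 : sm gf N3965 = N5734 := rfl
theorem L49394 : sm ga N5734 = N3968 := ded_14_1 (flp_f L34349) (flp_a L34325) L49392
theorem L49396 : sm gd N5734 = N3966 := ded_35_1 (flp_f L34332) L34323 L49392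
theorem L49398 : sm gi N5734 = N3977 := ded_48_2 (flp_f L34421) (flp_i L34329) L49392
theorem L49400 : sm gh N3965 = N5735 := rfl
theorem L49407 : sm gg N3966 = N5736 := rfl
theorem L49409 : sm ga N5736 = N3970 := ded_15_1 (flp_g L34364) (flp_a L34334) L49407
theorem L49412 : sm gi N5736 = N3979 := ded_51_2 (flp_g L34435) (flp_i L34337) L49407
theorem L49416 : sm gf N3967 = N5737 := rfl
theorem L49418 : sm gb N5737 = N4087 := ded_22_1 (flp_f L35297) (flp_b L34346) L49416
theorem L49420 : sm gc N5737 = N3968 := ded_29_1 (flp_f L34349) L34339 L49416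
theorem L49423 : sm gi N5737 = N3980 := ded_48_2 (flp_f L34443) (flp_i L34344) L49416
theorem L49425 : sm gh N3967 = N5738 := rfl
theorem L49429 : sm gc N5738 = N3969 := ded_32_1 (flp_h L34357) L34339 L49425
theorem L49432 : sm gg N5738 = N4020 := ded_50_1 (flp_h L34751) (flp_g L34342) L49425
theorem L49434 : sm ge N3968 = N5739 := rfl
theorem L49436 : sm gb N5739 = N3971 := ded_21_1 (flp_e L34373) (flp_b L34351) L49434
theorem L49438 : sm gi N5739 = N3982 := ded_44_2 (flp_e L34459) (flp_i L34355) L49434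
theorem L49441 : sm gg N3968 = N5740 := rfl
theorem L49443 : sm gb N5740 = N3972 := ded_23_1 (flp_g L34380) (flp_b L34351) L49441
theorem L49445 : sm gd N5740 = N3970 := ded_36_1 (flp_g L34364) (flp_d L34353) L49441
theorem L49447 : sm gi N5740 = N3983 := ded_51_2 (flp_g L34464) (flp_i L34355) L49441
theorem L49449 : sm gf N5740 = N4022 := ded_45_1 (flp_g L34768) (flp_f L24188) (flp_g L23922) L34349 L49441
theorem L49451 : sm gh N3968 = N5741 := rfl
theorem L49453 : sm gb N5741 = N3973 := ded_25_1 (flp_h L34390) (flp_b L34351) L49451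
theorem L49455 : sm gf N5741 = N3969 := ded_47_1 (flp_h L34357) L34349 L49451
theorem L49466 : sm gj N3970 = N5743 := rfl
theorem L49468 : sm gb N5743 = N3975 := ded_24_1 (flp_j L34405) (flp_b L34366) L49466
theorem L49473 : sm gi N5743 = N3986 := ded_53_2 (flp_j L34487) (flp_i L34369) L49466
theorem L49475 : sm gg N3971 = N5744 := rfl
theorem L49477 : sm gc N5744 = N4094 := ded_30_1 (flp_g L35357) (flp_c L34375) L49475
theorem L49479 : sm ge N5744 = N3972 := ded_41_1 (flp_g L34380) L34373 L49475
theorem L49481 : sm gi N5744 = N3987 := ded_51_2 (flp_g L34495) (flp_i L34377) L49475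
theorem L49483 : sm gh N3971 = N5745 := rfl
theorem L49485 : sm gc N5745 = N4095 := ded_32_1 (flp_h L35364) (flp_c L34375) L49483
theorem L49490 : sm gj N3972 = N5746 := rfl
theorem L49492 : sm gc N5746 = N4096 := ded_31_1 (flp_j L35369) (flp_c L34382) L49490
theorem L49494 : sm gd N5746 = N3975 := ded_37_1 (flp_j L34405) (flp_d L34384) L49490
theorem L49496 : sm gf N5746 = N4028 := ded_46_1 (flp_j L34817) (flp_f L34388) L49490
theorem L49498 : sm gi N5746 = N3989 := ded_53_2 (flp_j L34508) (flp_i L34386) L49490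
theorem L49500 : sm gh N3972 = N5747 := rfl
theorem L49502 : sm gc N5747 = N4097 := ded_32_1 (flp_h L35377) (flp_c L34382) L49500
theorem L49508 : sm gi N3973 = N5748 := rfl
theorem L49512 : sm gf N5748 = N3974 := ded_48_1 (flp_i L34396) (flp_f L34394) L49508
theorem L49516 : sm gb N3976 = N5749 := rfl
theorem L49522 : sm ga N5749 = N4099 := ded_10_1 (flp_b L35391) L24615 (flp_b L23984) (flp_a L34415) L49516
theorem L49524 : sm gf N3976 = N5750 := rfl
theorem L49526 : sm ga N5750 = N3980 := ded_14_1 (flp_f L34443) (flp_a L34415) L49524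
theorem L49528 : sm gc N5750 = N3977 := ded_29_1 (flp_f L34421) L34413 L49524
theorem L49531 : sm gh N3976 = N5751 := rfl
theorem L49533 : sm ga N5751 = N3981 := ded_17_1 (flp_h L34450) (flp_a L34415) L49531
theorem L49538 : sm gg N5751 = N4033 := ded_50_1 (flp_h L34856) (flp_g L34418) L49531
theorem L49540 : sm ge N3977 = N5752 := rfl
theorem L49542 : sm ga N5752 = N3982 := ded_13_1 (flp_e L34459) (flp_a L34423) L49540
theorem L49545 : sm gg N3977 = N5753 := rfl
theorem L49547 : sm ga N5753 = N3983 := ded_15_1 (flp_g L34464) (flp_a L34423) L49545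
theorem L49553 : sm gh N3977 = N5754 := rfl
theorem L49557 : sm gf N5754 = N3978 := ded_47_1 (flp_h L34427) L34421 L49553
theorem L49568 : sm gj N3979 = N5756 := rfl
theorem L49573 : sm gf N5756 = N4038 := ded_46_1 (flp_j L34892) (flp_f L34441) L49568
theorem L49576 : sm ge N3980 = N5757 := rfl
theorem L49578 : sm gb N5757 = N4107 := ded_21_1 (flp_e L35454) (flp_b L34445) L49576
theorem L49580 : sm gc N5757 = N3982 := ded_28_1 (flp_e L34459) (flp_c L34447) L49576
theorem L49582 : sm gf N5757 = N5757 := ded_40_2 (flp_e L49576) (flp_f L34443) L23981 L34443 L49576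
theorem L49583 : sm gg N3980 = N5758 := rfl
theorem L49585 : sm gb N5758 = N4108 := ded_23_1 (flp_g L35459) (flp_b L34445) L49583
theorem L49587 : sm gc N5758 = N3983 := ded_30_1 (flp_g L34464) (flp_c L34447) L49583
theorem L49589 : sm gd N5758 = N5758 := ded_36_1 (flp_g L49583) L34449 L49583
theorem L49590 : sm gf N5758 = N4040 := ded_45_1 (flp_g L34908) (flp_f L24279) (flp_g L23982) L34443 L49583
theorem L49592 : sm gh N3980 = N5759 := rfl
theorem L49596 : sm gc N5759 = N3984 := ded_32_1 (flp_h L34472) (flp_c L34447) L49592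
theorem L49617 : sm gg N3982 = N5762 := rfl
theorem L49619 : sm gb N5762 = N3987 := ded_23_1 (flp_g L34495) (flp_b L34461) L49617
theorem L49621 : sm ge N5762 = N3983 := ded_41_1 (flp_g L34464) L34459 L49617
theorem L49623 : sm gh N3982 = N5763 := rfl
theorem L49625 : sm gb N5763 = N3988 := ded_25_1 (flp_h L34501) (flp_b L34461) L49623
theorem L49627 : sm ge N5763 = N3984 := ded_43_1 (flp_h L34472) L34459 L49623
theorem L49629 : sm gf N5763 = N5763 := ded_47_1 (flp_h L49623) L34463 L49623
theorem L49630 : sm gj N3983 = N5764 := rfl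
theorem L49634 : sm gd N5764 = N3986 := ded_37_1 (flp_j L34487) (flp_d L34468) L49630
theorem L49638 : sm gh N3983 = N5765 := rfl
theorem L49640 : sm gb N5765 = N3990 := ded_25_1 (flp_h L34516) (flp_b L34466) L49638
theorem L49642 : sm gf N5765 = N4047 := ded_47_1 (flp_h L34961) (flp_f L34470) L49638
theorem L49644 : sm gg N5765 = N3984 := ded_50_1 (flp_h L34472) L34464 L49638
theorem L49646 : sm gd N5765 = N5765 := ded_38_1 (flp_h L49638) L34468 L24006 (flp_d L34468) L49638
theorem L49647 : sm gi N3984 = N5766 := rfl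
theorem L49654 : sm gf N3987 = N5767 := rfl
theorem L49656 : sm gc N5767 = N4117 := ded_29_1 (flp_f L35526) (flp_c L34497) L49654
theorem L49658 : sm ge N5767 = N4049 := ded_40_1 (flp_f L34976) L24336 (flp_f L24020) (flp_e L34499) L49654
theorem L49661 : sm gj N3987 = N5768 := rfl
theorem L49667 : sm gh N3987 = N5769 := rfl
theorem L49673 : sm gg N5769 = N3988 := ded_50_1 (flp_h L34501) L34495 L49667
theorem L49675 : sm gd N3988 = N5770 := rfl
theorem L49679 : sm gi N3988 = N5771 := rfl
theorem L49681 : sm gc N5771 = N4121 := ded_33_1 (flp_i L35549) (flp_c L34503) L49679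
theorem L49683 : sm ge N5771 = N3991 := ded_44_1 (flp_i L34525) (flp_e L34505) L49679
theorem L49695 : sm gi N3990 = N5773 := rfl
theorem L49704 : sm ge N3992 = N5774 := rfl
theorem L49706 : sm ga N5774 = N3993 := ded_13_1 (flp_e L34542) L34532 L49704
theorem L49709 : sm gc N5774 = N3997 := ded_28_1 (flp_e L34576) (flp_c L34534) L49704
theorem L49711 : sm gj N5774 = N5774 := ded_42_2 (flp_e L49704) L34538 L49704
theorem L49714 : sm gd N3993 = N5775 := rfl
theorem L49718 : sm gj N5775 = N5775 := ded_37_2 (flp_d L49714) L34548 L49714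
theorem L49721 : sm gf N3993 = N5776 := rfl
theorem L49723 : sm gb N5776 = N3995 := ded_22_1 (flp_f L34558) (flp_b L34544) L49721
theorem L49731 : sm gf N3994 = N5777 := rfl
theorem L49735 : sm gd N5777 = N3995 := ded_35_1 (flp_f L34558) L34551 L49731
theorem L49737 : sm gj N5777 = N5777 := ded_46_2 (flp_f L49731) L34554 L49731
theorem L49739 : sm gh N3994 = N5778 := rfl
theorem L49745 : sm gd N5778 = N5778 := ded_38_1 (flp_h L49739) (flp_d L34551) L24059 L34551 L49739
theorem L49746 : sm gg N3995 = N5779 := rfl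
theorem L49749 : sm gc N5779 = N3996 := ded_30_1 (flp_g L34567) (flp_c L34561) L49746
theorem L49764 : sm gd N3997 = N5781 := rfl
theorem L49766 : sm ga N5781 = N3998 := ded_12_1 (flp_d L34583) (flp_a L34578) L49764
theorem L49768 : sm gj N5781 = N5781 := ded_37_2 (flp_d L49764) L34580 L49764
theorem L49770 : sm ge N5781 = N4004 := ded_34_2 (flp_d L34627) (flp_e L24107) (flp_d L24073) L34576 L49764
theorem L49780 : sm gc N3998 = N5783 := rfl
theorem L49782 : sm ge N5783 = N4006 := ded_28_2 (flp_c L34643) (flp_e L34589) L49780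
theorem L49784 : sm gj N5783 = N5783 := ded_31_2 (flp_c L49780) L34587 L49780
theorem L49787 : sm gf N3998 = N5784 := rfl
theorem L49789 : sm gb N5784 = N4000 := ded_22_1 (flp_f L34599) (flp_b L34585) L49787
theorem L49810 : sm ge N4000 = N5787 := rfl
theorem L49816 : sm gf N5787 = N4010 := ded_40_2 (flp_e L34673) (flp_f L24132) (flp_e L24091) L34599 L49810
theorem L49818 : sm gg N4000 = N5788 := rfl
theorem L49824 : sm gh N4000 = N5789 := rfl
theorem L49827 : sm gf N5789 = N4001 := ded_47_1 (flp_h L34606) L34599 L49824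
theorem L49831 : sm gi N4001 = N5790 := rfl
theorem L49837 : sm gj N5790 = N5790 := ded_53_1 (flp_i L49831) L34611 L49831
theorem L49847 : sm gc N4004 = N5792 := rfl
theorem L49849 : sm ga N5792 = N4006 := ded_11_1 (flp_c L34643) (flp_a L34629) L49847
theorem L49854 : sm gf N4004 = N5793 := rfl
theorem L49858 : sm gd N5793 = N4005 := ded_35_1 (flp_f L34633) L34627 L49854
theorem L49878 : sm gf N4006 = N5796 := rfl
theorem L49881 : sm gc N5796 = N4007 := ded_29_1 (flp_f L34649) L34643 L49878
theorem L49886 : sm gh N4006 = N5797 := rfl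
theorem L49899 : sm gg N4007 = N5799 := rfl
theorem L49903 : sm gd N5799 = N4009 := ded_36_1 (flp_g L34664) (flp_d L34653) L49899
theorem L49906 : sm gh N4007 = N5800 := rfl
theorem L49913 : sm gd N5800 = N4023 := ded_38_1 (flp_h L34776) L24192 (flp_h L24128) (flp_d L34653) L49906
theorem L49915 : sm gi N4008 = N5801 := rfl
theorem L49923 : sm gj N4009 = N5802 := rfl
theorem L49929 : sm gh N5802 = N4025 := ded_52_2 (flp_j L34791) (flp_h L34670) L49923
theorem L49933 : sm gg N4010 = N5803 := rfl
theorem L49937 : sm ge N5803 = N4011 := ded_41_1 (flp_g L34679) L34673 L49933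
theorem L49940 : sm gh N4010 = N5804 := rfl
theorem L49943 : sm ge N5804 = N4012 := ded_43_1 (flp_h L34685) L34673 L49940
theorem L49945 : sm gj N5804 = N5804 := ded_52_1 (flp_h L49940) L34676 L49940
theorem L49946 : sm gj N4011 = N5805 := rfl
theorem L49949 : sm gd N5805 = N4014 := ded_37_1 (flp_j L34700) (flp_d L34682) L49946
theorem L49953 : sm gh N4011 = N5806 := rfl
theorem L49958 : sm gd N5806 = N4029 := ded_38_1 (flp_h L34826) L24224 (flp_h L24150) (flp_d L34682) L49953
theorem L49969 : sm gb N4015 = N5808 := rfl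
theorem L49971 : sm gd N5808 = N5808 := ded_20_2 (flp_b L49969) L34717 L49969
theorem L49972 : sm ge N5808 = N5808 := ded_21_2 (flp_b L49969) L34713 L49969
theorem L49974 : sm gi N5808 = N4031 := ded_26_2 (flp_b L34841) (flp_i L34715) L49969
theorem L49976 : sm ga N5808 = N4124 := ded_10_1 (flp_b L35570) L24731 (flp_b L24185) (flp_a L34711) L49969
theorem L49978 : sm gf N4015 = N5809 := rfl
theorem L49980 : sm ga N5809 = N4019 := ded_14_1 (flp_f L34741) (flp_a L34711) L49978
theorem L49982 : sm gc N5809 = N4016 := ded_29_1 (flp_f L34718) L34709 L49978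
theorem L49986 : sm gi N5809 = N4032 := ded_48_2 (flp_f L34848) (flp_i L34715) L49978
theorem L49988 : sm gh N4015 = N5810 := rfl
theorem L49990 : sm ga N5810 = N4020 := ded_17_1 (flp_h L34751) (flp_a L34711) L49988
theorem L49996 : sm ge N4016 = N5811 := rfl
theorem L49998 : sm ga N5811 = N4021 := ded_13_1 (flp_e L34759) (flp_a L34720) L49996
theorem L50001 : sm gi N5811 = N4034 := ded_44_2 (flp_e L34864) (flp_i L34725) L49996
theorem L50005 : sm gg N4016 = N5812 := rfl
theorem L50013 : sm gh N4016 = N5813 := rfl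
theorem L50037 : sm ge N4019 = N5816 := rfl
theorem L50039 : sm gb N5816 = N4132 := ded_21_1 (flp_e L35641) (flp_b L34743) L50037
theorem L50041 : sm gc N5816 = N4021 := ded_28_1 (flp_e L34759) (flp_c L34745) L50037
theorem L50044 : sm gi N5816 = N4039 := ded_44_2 (flp_e L34900) (flp_i L34749) L50037
theorem L50047 : sm gg N4019 = N5817 := rfl
theorem L50049 : sm gb N5817 = N4133 := ded_23_1 (flp_g L35649) (flp_b L34743) L50047
theorem L50054 : sm gi N5817 = N4040 := ded_51_2 (flp_g L34908) (flp_i L34749) L50047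
theorem L50056 : sm gh N4019 = N5818 := rfl
theorem L50058 : sm gb N5818 = N4134 := ded_25_1 (flp_h L35656) (flp_b L34743) L50056
theorem L50060 : sm gc N5818 = N4023 := ded_32_1 (flp_h L34776) (flp_c L34745) L50056
theorem L50062 : sm gf N5818 = N4020 := ded_47_1 (flp_h L34751) L34741 L50056
theorem L50065 : sm gd N4020 = N5819 := rfl
theorem L50067 : sm gb N5819 = N4135 := ded_20_1 (flp_d L35663) (flp_b L34753) L50065
theorem L50071 : sm gi N4020 = N5820 := rfl
theorem L50081 : sm gg N4021 = N5821 := rfl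
theorem L50083 : sm gb N5821 = N4026 := ded_23_1 (flp_g L34800) (flp_b L34761) L50081
theorem L50086 : sm ge N5821 = N4022 := ded_41_1 (flp_g L34768) L34759 L50081
theorem L50088 : sm gi N5821 = N4044 := ded_51_2 (flp_g L34939) (flp_i L34764) L50081
theorem L50090 : sm gh N4021 = N5822 := rfl
theorem L50098 : sm gj N4022 = N5823 := rfl
theorem L50100 : sm gb N5823 = N4028 := ded_24_1 (flp_j L34817) (flp_b L34770) L50098
theorem L50102 : sm gd N5823 = N4025 := ded_37_1 (flp_j L34791) (flp_d L34772) L50098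
theorem L50104 : sm gi N5823 = N4046 := ded_53_2 (flp_j L34954) (flp_i L34774) L50098
theorem L50107 : sm gh N4022 = N5824 := rfl
theorem L50109 : sm gb N5824 = N4029 := ded_25_1 (flp_h L34826) (flp_b L34770) L50107
theorem L50111 : sm gg N5824 = N4023 := ded_50_1 (flp_h L34776) L34768 L50107
theorem L50113 : sm gi N4023 = N5825 := rfl
theorem L50115 : sm gb N5825 = N4030 := ded_26_1 (flp_i L34832) (flp_b L34778) L50113
theorem L50120 : sm gh N5825 = N4048 := ded_54_1 (flp_i L34968) (flp_h L24308) (flp_i L24195) L34776 L50113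
theorem L50122 : sm gf N4026 = N5826 := rfl
theorem L50124 : sm gc N5826 = N4142 := ded_29_1 (flp_f L35720) (flp_c L34802) L50122
theorem L50126 : sm gd N5826 = N5826 := ded_35_1 (flp_f L50122) L34804 L50122
theorem L50127 : sm gi N5826 = N4049 := ded_48_2 (flp_f L34976) (flp_i L34807) L50122
theorem L50129 : sm gg N5826 = N5826 := ded_45_2 (flp_f L50122) (flp_g L34800) L24219 L34800 L50122
theorem L50130 : sm gj N4026 = N5827 := rfl
theorem L50132 : sm gc N5827 = N4143 := ded_31_1 (flp_j L35727) (flp_c L34802) L50130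
theorem L50134 : sm gd N5827 = N5827 := ded_37_1 (flp_j L50130) L34804 L50130
theorem L50135 : sm ge N5827 = N4028 := ded_42_1 (flp_j L34817) (flp_e L34805) L50130
theorem L50137 : sm gi N5827 = N4050 := ded_53_2 (flp_j L34982) (flp_i L34807) L50130
theorem L50139 : sm gg N5827 = N5827 := ded_49_1 (flp_j L50130) (flp_g L34800) L24215 L34800 L50130
theorem L50140 : sm gh N4026 = N5828 := rfl
theorem L50142 : sm gc N5828 = N4144 := ded_32_1 (flp_h L35736) (flp_c L34802) L50140
theorem L50144 : sm ge N5828 = N4029 := ded_43_1 (flp_h L34826) (flp_e L34805) L50140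
theorem L50146 : sm gg N5828 = N4027 := ded_50_1 (flp_h L34809) L34800 L50140
theorem L50148 : sm gd N4027 = N5829 := rfl
theorem L50153 : sm gi N4027 = N5830 := rfl
theorem L50155 : sm gc N5830 = N4146 := ded_33_1 (flp_i L35749) (flp_c L34811) L50153
theorem L50161 : sm gh N5830 = N4053 := ded_54_1 (flp_i L35005) (flp_h L24338) (flp_i L24216) L34809 L50153
theorem L50163 : sm gh N4028 = N5831 := rfl
theorem L50165 : sm gc N5831 = N4147 := ded_32_1 (flp_h L35757) (flp_c L34819) L50163
theorem L50178 : sm gf N4031 = N5833 := rfl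
theorem L50180 : sm ga N5833 = N4149 := ded_14_1 (flp_f L35770) (flp_a L34846) L50178
theorem L50182 : sm gb N5833 = N4032 := ded_22_1 (flp_f L34848) L34841 L50178
theorem L50194 : sm ge N4032 = N5835 := rfl
theorem L50196 : sm ga N5835 = N4039 := ded_13_1 (flp_e L34900) (flp_a L34850) L50194
theorem L50198 : sm gc N5835 = N4034 := ded_28_1 (flp_e L34864) (flp_c L34852) L50194
theorem L50202 : sm gg N4032 = N5836 := rfl
theorem L50204 : sm ga N5836 = N4040 := ded_15_1 (flp_g L34908) (flp_a L34850) L50202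
theorem L50206 : sm gc N5836 = N4035 := ded_30_1 (flp_g L34871) (flp_c L34852) L50202
theorem L50218 : sm gd N4033 = N5838 := rfl
theorem L50220 : sm ga N5838 = N4042 := ded_12_1 (flp_d L34924) (flp_a L34858) L50218
theorem L50225 : sm gi N4033 = N5839 := rfl
theorem L50233 : sm gg N4034 = N5840 := rfl
theorem L50235 : sm ga N5840 = N4044 := ded_15_1 (flp_g L34939) (flp_a L34866) L50233
theorem L50240 : sm gh N4034 = N5841 := rfl
theorem L50242 : sm ga N5841 = N4045 := ded_17_1 (flp_h L34946) (flp_a L34866) L50240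
theorem L50248 : sm gj N4035 = N5842 := rfl
theorem L50250 : sm ga N5842 = N4046 := ded_16_1 (flp_j L34954) (flp_a L34873) L50248
theorem L50255 : sm gh N4035 = N5843 := rfl
theorem L50270 : sm gd N4039 = N5845 := rfl
theorem L50272 : sm gb N5845 = N4161 := ded_20_1 (flp_d L35863) (flp_b L34902) L50270
theorem L50274 : sm gf N5845 = N5845 := ded_35_2 (flp_d L50270) L34907 L50270
theorem L50275 : sm gj N5845 = N5845 := ded_37_2 (flp_d L50270) L34906 L50270
theorem L50276 : sm gc N5845 = N5845 := ded_27_1 (flp_d L50270) L34904 L24300 (flp_c L34904) L50270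
theorem L50277 : sm ge N5845 = N5845 := ded_34_2 (flp_d L50270) (flp_e L34900) L24285 L34900 L50270
theorem L50278 : sm gg N4039 = N5846 := rfl
theorem L50280 : sm gb N5846 = N4162 := ded_23_1 (flp_g L35870) (flp_b L34902) L50278
theorem L50282 : sm gc N5846 = N4044 := ded_30_1 (flp_g L34939) (flp_c L34904) L50278
theorem L50284 : sm ge N5846 = N4040 := ded_41_1 (flp_g L34908) L34900 L50278
theorem L50286 : sm gh N4039 = N5847 := rfl
theorem L50290 : sm gc N5847 = N4045 := ded_32_1 (flp_h L34946) (flp_c L34904) L50286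
theorem L50292 : sm ge N5847 = N4041 := ded_43_1 (flp_h L34915) L34900 L50286
theorem L50296 : sm gj N4040 = N5848 := rfl
theorem L50298 : sm gb N5848 = N4164 := ded_24_1 (flp_j L35884) (flp_b L34910) L50296
theorem L50300 : sm gc N5848 = N4046 := ded_31_1 (flp_j L34954) (flp_c L34912) L50296
theorem L50302 : sm gd N5848 = N5848 := ded_37_1 (flp_j L50296) L34914 L50296
theorem L50303 : sm gg N5848 = N5848 := ded_49_1 (flp_j L50296) (flp_g L34908) L24286 L34908 L50296
theorem L50304 : sm gh N4040 = N5849 := rfl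
theorem L50312 : sm gd N4041 = N5850 := rfl
theorem L50316 : sm gf N5850 = N4042 := ded_35_2 (flp_d L34924) (flp_f L34921) L50312
theorem L50330 : sm ge N4042 = N5852 := rfl
theorem L50346 : sm gf N4044 = N5854 := rfl
theorem L50348 : sm gb N5854 = N4049 := ded_22_1 (flp_f L34976) (flp_b L34941) L50346
theorem L50352 : sm gj N4044 = N5855 := rfl
theorem L50354 : sm gb N5855 = N4050 := ded_24_1 (flp_j L34982) (flp_b L34941) L50352
theorem L50360 : sm gh N4044 = N5856 := rfl
theorem L50362 : sm gb N5856 = N4051 := ded_25_1 (flp_h L34990) (flp_b L34941) L50360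
theorem L50364 : sm ge N5856 = N4047 := ded_43_1 (flp_h L34961) (flp_e L34944) L50360
theorem L50366 : sm gg N5856 = N4045 := ded_50_1 (flp_h L34946) L34939 L50360
theorem L50368 : sm gd N4045 = N5857 := rfl
theorem L50370 : sm gb N5857 = N4052 := ded_20_1 (flp_d L34998) (flp_b L34948) L50368
theorem L50372 : sm gf N5857 = N5857 := ded_35_2 (flp_d L50368) L34952 L50368
theorem L50373 : sm gj N5857 = N5857 := ded_37_2 (flp_d L50368) L34953 L50368
theorem L50374 : sm ge N5857 = N5857 := ded_34_2 (flp_d L50368) L34950 L24315 (flp_e L34950) L50368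
theorem L50375 : sm gh N5857 = N5857 := ded_38_2 (flp_d L50368) (flp_h L34946) L24300 L34946 L50368
theorem L50376 : sm gi N4045 = N5858 := rfl
theorem L50380 : sm ge N5858 = N4048 := ded_44_1 (flp_i L34968) (flp_e L34950) L50376
theorem L50384 : sm gh N4046 = N5859 := rfl
theorem L50386 : sm gb N5859 = N4054 := ded_25_1 (flp_h L35013) (flp_b L34956) L50384
theorem L50388 : sm gg N5859 = N5859 := ded_50_1 (flp_h L50384) L34960 L50384
theorem L50389 : sm gj N5859 = N4047 := ded_52_1 (flp_h L34961) L34954 L50384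
theorem L50391 : sm gd N5859 = N5859 := ded_38_1 (flp_h L50384) L34958 L24329 (flp_d L34958) L50384
theorem L50392 : sm gi N4047 = N5860 := rfl
theorem L50399 : sm gj N4049 = N5861 := rfl
theorem L50406 : sm gh N4049 = N5862 := rfl
theorem L50410 : sm gf N5862 = N4051 := ded_47_1 (flp_h L34990) L34976 L50406
theorem L50413 : sm gh N4050 = N5863 := rfl
theorem L50422 : sm gd N4051 = N5864 := rfl
theorem L50429 : sm gi N4051 = N5865 := rfl
theorem L50437 : sm gi N4052 = N5866 := rfl
theorem L50445 : sm gi N4054 = N5867 := rfl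
theorem L50453 : sm gc N4056 = N5868 := rfl
theorem L50455 : sm ga N5868 = N4058 := ded_11_1 (flp_c L35049) (flp_a L35030) L50453
theorem L50459 : sm gj N5868 = N4083 := ded_31_2 (flp_c L35260) (flp_j L35033) L50453
theorem L50461 : sm gi N5868 = N4067 := ded_33_2 (flp_c L35129) (flp_i L35035) L50453
theorem L50464 : sm gf N4056 = N5869 := rfl
theorem L50466 : sm ga N5869 = N4059 := ded_14_1 (flp_f L35058) (flp_a L35030) L50464
theorem L50468 : sm gd N5869 = N4057 := ded_35_1 (flp_f L35038) L35028 L50464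
theorem L50470 : sm gj N5869 = N4084 := ded_46_2 (flp_f L35270) (flp_j L35033) L50464
theorem L50472 : sm gi N5869 = N4068 := ded_48_2 (flp_f L35138) (flp_i L35035) L50464
theorem L50474 : sm gh N4056 = N5870 := rfl
theorem L50476 : sm ga N5870 = N4060 := ded_17_1 (flp_h L35068) (flp_a L35030) L50474
theorem L50483 : sm gg N4057 = N5871 := rfl
theorem L50485 : sm ga N5871 = N4061 := ded_15_1 (flp_g L35077) (flp_a L35040) L50483
theorem L50487 : sm gc N5871 = N5871 := ded_30_1 (flp_g L50483) L35042 L50483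
theorem L50488 : sm ge N5871 = N5871 := ded_41_1 (flp_g L50483) L35048 L50483
theorem L50489 : sm gh N5871 = N5871 := ded_50_2 (flp_g L50483) L35045 L50483
theorem L50490 : sm gi N5871 = N4070 := ded_51_2 (flp_g L35156) (flp_i L35046) L50483
theorem L50492 : sm gf N5871 = N5871 := ded_45_1 (flp_g L50483) (flp_f L35038) L24373 L35038 L50483
theorem L50493 : sm gf N4058 = N5872 := rfl
theorem L50495 : sm gc N5872 = N4059 := ded_29_1 (flp_f L35058) L35049 L50493
theorem L50498 : sm gj N5872 = N4087 := ded_46_2 (flp_f L35297) (flp_j L35053) L50493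
theorem L50500 : sm gi N5872 = N4071 := ded_48_2 (flp_f L35165) (flp_i L35055) L50493
theorem L50502 : sm gh N4058 = N5873 := rfl
theorem L50508 : sm gj N5873 = N4088 := ded_52_1 (flp_h L35304) (flp_j L35053) L50502
theorem L50510 : sm ge N4059 = N5874 := rfl
theorem L50512 : sm gb N5874 = N4062 := ded_21_1 (flp_e L35087) (flp_b L35060) L50510
theorem L50514 : sm gj N5874 = N4089 := ded_42_2 (flp_e L35311) (flp_j L35064) L50510
theorem L50516 : sm gi N5874 = N4073 := ded_44_2 (flp_e L35180) (flp_i L35066) L50510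
theorem L50518 : sm gd N5874 = N5874 := ded_34_1 (flp_e L50510) L35062 L24399 (flp_d L35062) L50510
theorem L50519 : sm gf N5874 = N5874 := ded_40_2 (flp_e L50510) (flp_f L35058) L24388 L35058 L50510
theorem L50520 : sm gg N4059 = N5875 := rfl
theorem L50522 : sm gb N5875 = N4063 := ded_23_1 (flp_g L35095) (flp_b L35060) L50520
theorem L50524 : sm gd N5875 = N4061 := ded_36_1 (flp_g L35077) (flp_d L35062) L50520
theorem L50526 : sm gi N5875 = N4074 := ded_51_2 (flp_g L35188) (flp_i L35066) L50520
theorem L50528 : sm gf N5875 = N5875 := ded_45_1 (flp_g L50520) (flp_f L35058) L24383 L35058 L50520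
theorem L50529 : sm gh N4059 = N5876 := rfl
theorem L50531 : sm gb N5876 = N4064 := ded_25_1 (flp_h L35102) (flp_b L35060) L50529
theorem L50549 : sm gj N4061 = N5878 := rfl
theorem L50551 : sm gb N5878 = N4066 := ded_24_1 (flp_j L35118) (flp_b L35079) L50549
theorem L50553 : sm gc N5878 = N5878 := ded_31_1 (flp_j L50549) L35081 L50549
theorem L50554 : sm ge N5878 = N5878 := ded_42_1 (flp_j L50549) L35082 L50549
theorem L50555 : sm gf N5878 = N5878 := ded_46_1 (flp_j L50549) L35086 L50549
theorem L50556 : sm gh N5878 = N5878 := ded_52_2 (flp_j L50549) L35083 L50549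
theorem L50557 : sm gi N5878 = N4077 := ded_53_2 (flp_j L35215) (flp_i L35084) L50549
theorem L50559 : sm gg N5878 = N4093 := ded_49_1 (flp_j L35346) (flp_g L24565) (flp_j L24394) L35077 L50549
theorem L50561 : sm gg N4062 = N5879 := rfl
theorem L50564 : sm ge N5879 = N4063 := ded_41_1 (flp_g L35095) L35087 L50561
theorem L50566 : sm gi N5879 = N4078 := ded_51_2 (flp_g L35226) (flp_i L35091) L50561
theorem L50568 : sm gh N4062 = N5880 := rfl
theorem L50570 : sm ge N5880 = N4064 := ded_43_1 (flp_h L35102) L35087 L50568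
theorem L50573 : sm gj N5880 = N4095 := ded_52_1 (flp_h L35364) (flp_j L35089) L50568
theorem L50575 : sm gj N4063 = N5881 := rfl
theorem L50577 : sm gd N5881 = N4066 := ded_37_1 (flp_j L35118) (flp_d L35097) L50575
theorem L50580 : sm gi N5881 = N4080 := ded_53_2 (flp_j L35238) (flp_i L35099) L50575
theorem L50582 : sm gg N5881 = N4096 := ded_49_1 (flp_j L35369) (flp_g L24582) (flp_j L24404) L35095 L50575
theorem L50584 : sm gh N4063 = N5882 := rfl
theorem L50587 : sm gg N5882 = N4064 := ded_50_1 (flp_h L35102) L35095 L50584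
theorem L50590 : sm gi N4064 = N5883 := rfl
theorem L50599 : sm gb N4067 = N5884 := rfl
theorem L50604 : sm gj N5884 = N4099 := ded_24_2 (flp_b L35391) (flp_j L35135) L50599
theorem L50606 : sm gf N4067 = N5885 := rfl
theorem L50608 : sm ga N5885 = N4071 := ded_14_1 (flp_f L35165) (flp_a L35131) L50606
theorem L50610 : sm gc N5885 = N4068 := ded_29_1 (flp_f L35138) L35129 L50606
theorem L50613 : sm gj N5885 = N4100 := ded_46_2 (flp_f L35397) (flp_j L35135) L50606
theorem L50615 : sm gh N4067 = N5886 := rfl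
theorem L50617 : sm ga N5886 = N4072 := ded_17_1 (flp_h L35172) (flp_a L35131) L50615
theorem L50623 : sm gj N5886 = N4101 := ded_52_1 (flp_h L35404) (flp_j L35135) L50615
theorem L50625 : sm ge N4068 = N5887 := rfl
theorem L50627 : sm ga N5887 = N4073 := ded_13_1 (flp_e L35180) (flp_a L35140) L50625
theorem L50629 : sm gj N5887 = N4102 := ded_42_2 (flp_e L35413) (flp_j L35144) L50625
theorem L50631 : sm gd N5887 = N5887 := ded_34_1 (flp_e L50625) L35142 L24451 (flp_d L35142) L50625
theorem L50632 : sm gf N5887 = N5887 := ded_40_2 (flp_e L50625) (flp_f L35138) L24441 L35138 L50625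
theorem L50633 : sm gg N4068 = N5888 := rfl
theorem L50635 : sm ga N5888 = N4074 := ded_15_1 (flp_g L35188) (flp_a L35140) L50633
theorem L50637 : sm gd N5888 = N4070 := ded_36_1 (flp_g L35156) (flp_d L35142) L50633
theorem L50639 : sm gf N5888 = N5888 := ded_45_1 (flp_g L50633) (flp_f L35138) L24438 L35138 L50633
theorem L50640 : sm gh N4068 = N5889 := rfl
theorem L50644 : sm gf N5889 = N4069 := ded_47_1 (flp_h L35146) L35138 L50640
theorem L50648 : sm gd N5889 = N4226 := ded_38_1 (flp_h L36400) L25306 (flp_h L24449) (flp_d L35142) L50640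
theorem L50650 : sm gi N4069 = N5890 := rfl
theorem L50660 : sm gj N4070 = N5891 := rfl
theorem L50662 : sm ga N5891 = N4077 := ded_16_1 (flp_j L35215) (flp_a L35158) L50660
theorem L50664 : sm gc N5891 = N5891 := ded_31_1 (flp_j L50660) L35160 L50660
theorem L50665 : sm ge N5891 = N5891 := ded_42_1 (flp_j L50660) L35161 L50660
theorem L50666 : sm gf N5891 = N5891 := ded_46_1 (flp_j L50660) L35164 L50660
theorem L50667 : sm gh N5891 = N4228 := ded_52_2 (flp_j L36418) (flp_h L35162) L50660
theorem L50669 : sm gg N5891 = N4106 := ded_49_1 (flp_j L35444) (flp_g L24636) (flp_j L24447) L35156 L50660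
theorem L50671 : sm ge N4071 = N5892 := rfl
theorem L50673 : sm gc N5892 = N4073 := ded_28_1 (flp_e L35180) (flp_c L35167) L50671
theorem L50675 : sm gj N5892 = N4107 := ded_42_2 (flp_e L35454) (flp_j L35170) L50671
theorem L50678 : sm gg N4071 = N5893 := rfl
theorem L50680 : sm gc N5893 = N4074 := ded_30_1 (flp_g L35188) (flp_c L35167) L50678
theorem L50684 : sm gh N4071 = N5894 := rfl
theorem L50686 : sm gc N5894 = N4075 := ded_32_1 (flp_h L35195) (flp_c L35167) L50684
theorem L50690 : sm gj N5894 = N4109 := ded_52_1 (flp_h L35466) (flp_j L35170) L50684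
theorem L50692 : sm gd N4072 = N5895 := rfl
theorem L50695 : sm gj N5895 = N4110 := ded_37_2 (flp_d L35472) (flp_j L35178) L50692
theorem L50708 : sm gg N4073 = N5897 := rfl
theorem L50710 : sm gb N5897 = N4078 := ded_23_1 (flp_g L35226) (flp_b L35182) L50708
theorem L50713 : sm ge N5897 = N4074 := ded_41_1 (flp_g L35188) L35180 L50708
theorem L50715 : sm gh N4073 = N5898 := rfl
theorem L50717 : sm gb N5898 = N4079 := ded_25_1 (flp_h L35231) (flp_b L35182) L50715
theorem L50719 : sm ge N5898 = N4075 := ded_43_1 (flp_h L35195) L35180 L50715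
theorem L50722 : sm gj N5898 = N4113 := ded_52_1 (flp_h L35493) (flp_j L35184) L50715
theorem L50724 : sm gj N4074 = N5899 := rfl
theorem L50726 : sm gb N5899 = N4080 := ded_24_1 (flp_j L35238) (flp_b L35190) L50724
theorem L50728 : sm gd N5899 = N4077 := ded_37_1 (flp_j L35215) (flp_d L35192) L50724
theorem L50733 : sm gh N4074 = N5900 := rfl
theorem L50735 : sm gb N5900 = N4081 := ded_25_1 (flp_h L35245) (flp_b L35190) L50733
theorem L50740 : sm gd N5900 = N4237 := ded_38_1 (flp_h L36501) L25361 (flp_h L24483) (flp_d L35192) L50733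
theorem L50752 : sm gf N4078 = N5902 := rfl
theorem L50757 : sm gj N4078 = N5903 := rfl
theorem L50760 : sm ge N5903 = N4080 := ded_42_1 (flp_j L35238) (flp_e L35229) L50757
theorem L50762 : sm gg N5903 = N4118 := ded_49_1 (flp_j L35532) (flp_g L24699) (flp_j L24488) L35226 L50757
theorem L50764 : sm gh N4078 = N5904 := rfl
theorem L50766 : sm ge N5904 = N4081 := ded_43_1 (flp_h L35245) (flp_e L35229) L50764
theorem L50768 : sm gg N5904 = N4079 := ded_50_1 (flp_h L35231) L35226 L50764
theorem L50770 : sm gd N4079 = N5905 := rfl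
theorem L50773 : sm gj N5905 = N4120 := ded_37_2 (flp_d L35543) (flp_j L35236) L50770
theorem L50775 : sm ge N5905 = N4242 := ded_34_2 (flp_d L36541) L25403 (flp_d L24503) (flp_e L35233) L50770
theorem L50777 : sm gh N5905 = N5905 := ded_38_2 (flp_d L50770) (flp_h L35231) L24490 L35231 L50770
theorem L50778 : sm gi N4079 = N5906 := rfl
theorem L50785 : sm gh N4080 = N5907 := rfl
theorem L50792 : sm gd N5907 = N4244 := ded_38_1 (flp_h L36558) L25412 (flp_h L24519) (flp_d L35240) L50785
theorem L50794 : sm gi N4081 = N5908 := rfl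
theorem L50796 : sm gd N5908 = N4245 := ded_39_1 (flp_i L36566) (flp_d L35250) L50794
theorem L50799 : sm gg N5908 = N4082 := ded_51_1 (flp_i L35252) (flp_g L35248) L50794
theorem L50801 : sm gb N4083 = N5909 := rfl
theorem L50805 : sm gg N5909 = N4124 := ded_23_2 (flp_b L35570) (flp_g L35265) L50801
theorem L50807 : sm gi N5909 = N4099 := ded_26_2 (flp_b L35391) (flp_i L35267) L50801
theorem L50809 : sm gf N4083 = N5910 := rfl
theorem L50811 : sm ga N5910 = N4087 := ded_14_1 (flp_f L35297) (flp_a L35262) L50809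
theorem L50813 : sm gc N5910 = N4084 := ded_29_1 (flp_f L35270) L35260 L50809
theorem L50816 : sm gi N5910 = N4100 := ded_48_2 (flp_f L35397) (flp_i L35267) L50809
theorem L50818 : sm gh N4083 = N5911 := rfl
theorem L50825 : sm gg N5911 = N4126 := ded_50_1 (flp_h L35587) (flp_g L35265) L50818
theorem L50827 : sm ge N4084 = N5912 := rfl
theorem L50829 : sm ga N5912 = N4089 := ded_13_1 (flp_e L35311) (flp_a L35272) L50827
theorem L50831 : sm gi N5912 = N4102 := ded_44_2 (flp_e L35413) (flp_i L35276) L50827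
theorem L50833 : sm gd N5912 = N5912 := ded_34_1 (flp_e L50827) L35274 L24540 (flp_d L35274) L50827
theorem L50834 : sm gf N5912 = N5912 := ded_40_2 (flp_e L50827) (flp_f L35270) L24531 L35270 L50827
theorem L50835 : sm gg N4084 = N5913 := rfl
theorem L50837 : sm ga N5913 = N4090 := ded_15_1 (flp_g L35319) (flp_a L35272) L50835
theorem L50839 : sm gd N5913 = N4086 := ded_36_1 (flp_g L35286) (flp_d L35274) L50835
theorem L50841 : sm gi N5913 = N4103 := ded_51_2 (flp_g L35419) (flp_i L35276) L50835
theorem L50843 : sm gf N5913 = N4128 := ded_45_1 (flp_g L35605) (flp_f L24738) (flp_g L24527) L35270 L50835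
theorem L50845 : sm gh N4084 = N5914 := rfl
theorem L50862 : sm gj N4086 = N5916 := rfl
theorem L50864 : sm ga N5916 = N4093 := ded_16_1 (flp_j L35346) (flp_a L35288) L50862
theorem L50866 : sm gc N5916 = N5916 := ded_31_1 (flp_j L50862) L35290 L50862
theorem L50867 : sm ge N5916 = N5916 := ded_42_1 (flp_j L50862) L35291 L50862
theorem L50868 : sm gf N5916 = N4131 := ded_46_1 (flp_j L35630) (flp_f L35295) L50862
theorem L50870 : sm gh N5916 = N5916 := ded_52_2 (flp_j L50862) L35292 L50862
theorem L50871 : sm gi N5916 = N4106 := ded_53_2 (flp_j L35444) (flp_i L35293) L50862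
theorem L50873 : sm ge N4087 = N5917 := rfl
theorem L50875 : sm gc N5917 = N4089 := ded_28_1 (flp_e L35311) (flp_c L35299) L50873
theorem L50877 : sm gi N5917 = N4107 := ded_44_2 (flp_e L35454) (flp_i L35302) L50873
theorem L50880 : sm gg N4087 = N5918 := rfl
theorem L50882 : sm gc N5918 = N4090 := ded_30_1 (flp_g L35319) (flp_c L35299) L50880
theorem L50885 : sm gi N5918 = N4108 := ded_51_2 (flp_g L35459) (flp_i L35302) L50880
theorem L50887 : sm gf N5918 = N4133 := ded_45_1 (flp_g L35649) (flp_f L24764) (flp_g L24544) L35297 L50880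
theorem L50889 : sm gh N4087 = N5919 := rfl
theorem L50891 : sm gc N5919 = N4091 := ded_32_1 (flp_h L35329) (flp_c L35299) L50889
theorem L50893 : sm gf N5919 = N4088 := ded_47_1 (flp_h L35304) L35297 L50889
theorem L50895 : sm gd N4088 = N5920 := rfl
theorem L50897 : sm gg N5920 = N4135 := ded_36_2 (flp_d L35663) (flp_g L35309) L50895
theorem L50910 : sm gg N4089 = N5922 := rfl
theorem L50912 : sm gb N5922 = N4094 := ded_23_1 (flp_g L35357) (flp_b L35313) L50910
theorem L50914 : sm gd N5922 = N5922 := ded_36_1 (flp_g L50910) L35317 L50910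
theorem L50915 : sm ge N5922 = N4090 := ded_41_1 (flp_g L35319) L35311 L50910
theorem L50917 : sm gi N5922 = N4112 := ded_51_2 (flp_g L35486) (flp_i L35315) L50910
theorem L50919 : sm gh N4089 = N5923 := rfl
theorem L50921 : sm gb N5923 = N4095 := ded_25_1 (flp_h L35364) (flp_b L35313) L50919
theorem L50926 : sm gj N4090 = N5924 := rfl
theorem L50928 : sm gb N5924 = N4096 := ded_24_1 (flp_j L35369) (flp_b L35321) L50926
theorem L50930 : sm gd N5924 = N4093 := ded_37_1 (flp_j L35346) (flp_d L35323) L50926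
theorem L50932 : sm gf N5924 = N4139 := ded_46_1 (flp_j L35694) (flp_f L35327) L50926
theorem L50934 : sm gi N5924 = N4114 := ded_53_2 (flp_j L35500) (flp_i L35325) L50926
theorem L50936 : sm gh N4090 = N5925 := rfl
theorem L50938 : sm gb N5925 = N4097 := ded_25_1 (flp_h L35377) (flp_b L35321) L50936
theorem L50954 : sm gf N4094 = N5927 := rfl
theorem L50957 : sm gi N5927 = N4117 := ded_48_2 (flp_f L35526) (flp_i L35362) L50954
theorem L50959 : sm ge N5927 = N4142 := ded_40_1 (flp_f L35720) L24828 (flp_f L24588) (flp_e L35360) L50954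
theorem L50962 : sm gj N4094 = N5928 := rfl
theorem L50965 : sm ge N5928 = N4096 := ded_42_1 (flp_j L35369) (flp_e L35360) L50962
theorem L50967 : sm gi N5928 = N4118 := ded_53_2 (flp_j L35532) (flp_i L35362) L50962
theorem L50969 : sm gh N4094 = N5929 := rfl
theorem L50971 : sm ge N5929 = N4097 := ded_43_1 (flp_h L35377) (flp_e L35360) L50969
theorem L50973 : sm gg N5929 = N4095 := ded_50_1 (flp_h L35364) L35357 L50969
theorem L50975 : sm gd N4095 = N5930 := rfl
theorem L50980 : sm gi N4095 = N5931 := rfl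
theorem L50985 : sm gh N5931 = N4121 := ded_54_1 (flp_i L35549) (flp_h L24704) (flp_i L24578) L35364 L50980
theorem L50987 : sm gh N4096 = N5932 := rfl
theorem L50991 : sm gj N5932 = N4097 := ded_52_1 (flp_h L35377) L35369 L50987
theorem L50994 : sm gi N4097 = N5933 := rfl
theorem L50997 : sm gf N5933 = N4148 := ded_48_1 (flp_i L35763) (flp_f L35379) L50994
theorem L50999 : sm gg N5933 = N4098 := ded_51_1 (flp_i L35384) (flp_g L35381) L50994
theorem L51001 : sm gh N5933 = N4123 := ded_54_1 (flp_i L35562) (flp_h L24715) (flp_i L24586) L35377 L50994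
theorem L51003 : sm gf N4099 = N5934 := rfl
theorem L51005 : sm gb N5934 = N4100 := ded_22_1 (flp_f L35397) L35391 L51003
theorem L51008 : sm gh N4099 = N5935 := rfl
theorem L51013 : sm gg N5935 = N4150 := ded_50_1 (flp_h L35776) (flp_g L35395) L51008
theorem L51015 : sm ge N4100 = N5936 := rfl
theorem L51019 : sm gc N5936 = N4102 := ded_28_1 (flp_e L35413) (flp_c L35401) L51015
theorem L51022 : sm gg N4100 = N5937 := rfl
theorem L51024 : sm ga N5937 = N4108 := ded_15_1 (flp_g L35459) (flp_a L35399) L51022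
theorem L51026 : sm gc N5937 = N4103 := ded_30_1 (flp_g L35419) (flp_c L35401) L51022
theorem L51029 : sm gf N5937 = N4152 := ded_45_1 (flp_g L35790) (flp_f L24863) (flp_g L24618) L35397 L51022
theorem L51031 : sm gh N4100 = N5938 := rfl
theorem L51035 : sm gc N5938 = N4104 := ded_32_1 (flp_h L35427) (flp_c L35401) L51031
theorem L51037 : sm gf N5938 = N4101 := ded_47_1 (flp_h L35404) L35397 L51031
theorem L51039 : sm gd N4101 = N5939 := rfl
theorem L51043 : sm gg N5939 = N4154 := ded_36_2 (flp_d L35806) (flp_g L35411) L51039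
theorem L51045 : sm gc N5939 = N4251 := ded_27_1 (flp_d L36616) L25453 (flp_d L24634) (flp_c L35408) L51039
theorem L51057 : sm gg N4102 = N5941 := rfl
theorem L51059 : sm ga N5941 = N4112 := ded_15_1 (flp_g L35486) (flp_a L35415) L51057
theorem L51061 : sm gd N5941 = N5941 := ded_36_1 (flp_g L51057) L35417 L51057
theorem L51062 : sm ge N5941 = N4103 := ded_41_1 (flp_g L35419) L35413 L51057
theorem L51064 : sm gh N4102 = N5942 := rfl
theorem L51066 : sm ga N5942 = N4113 := ded_17_1 (flp_h L35493) (flp_a L35415) L51064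
theorem L51068 : sm ge N5942 = N4104 := ded_43_1 (flp_h L35427) L35413 L51064
theorem L51071 : sm gj N4103 = N5943 := rfl
theorem L51073 : sm ga N5943 = N4114 := ded_16_1 (flp_j L35500) (flp_a L35421) L51071
theorem L51075 : sm gd N5943 = N4106 := ded_37_1 (flp_j L35444) (flp_d L35423) L51071
theorem L51077 : sm gf N5943 = N4158 := ded_46_1 (flp_j L35839) (flp_f L35425) L51071
theorem L51079 : sm gh N4103 = N5944 := rfl
theorem L51087 : sm gd N5944 = N4256 := ded_38_1 (flp_h L36660) L25471 (flp_h L24642) (flp_d L35423) L51079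
theorem L51097 : sm gd N4107 = N5946 := rfl
theorem L51102 : sm gg N4107 = N5947 := rfl
theorem L51104 : sm gc N5947 = N4112 := ded_30_1 (flp_g L35486) (flp_c L35456) L51102
theorem L51106 : sm ge N5947 = N4108 := ded_41_1 (flp_g L35459) L35454 L51102
theorem L51108 : sm gh N4107 = N5948 := rfl
theorem L51110 : sm gc N5948 = N4113 := ded_32_1 (flp_h L35493) (flp_c L35456) L51108
theorem L51112 : sm ge N5948 = N4109 := ded_43_1 (flp_h L35466) L35454 L51108
theorem L51122 : sm gh N4108 = N5950 := rfl
theorem L51124 : sm gc N5950 = N4115 := ded_32_1 (flp_h L35508) (flp_c L35461) L51122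
theorem L51126 : sm gf N5950 = N4165 := ded_47_1 (flp_h L35890) (flp_f L35464) L51122
theorem L51130 : sm gd N4109 = N5951 := rfl
theorem L51134 : sm gc N5951 = N4263 := ded_27_1 (flp_d L36719) L25520 (flp_d L24678) (flp_c L35468) L51130
theorem L51143 : sm ge N4110 = N5953 := rfl
theorem L51147 : sm gg N5953 = N4168 := ded_41_2 (flp_e L35911) (flp_g L35474) L51143
theorem L51159 : sm gf N4112 = N5955 := rfl
theorem L51161 : sm gb N5955 = N4117 := ded_22_1 (flp_f L35526) (flp_b L35488) L51159
theorem L51164 : sm ge N5955 = N4170 := ded_40_1 (flp_f L35925) L24956 (flp_f L24670) (flp_e L35491) L51159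
theorem L51167 : sm gj N4112 = N5956 := rfl
theorem L51172 : sm ge N5956 = N4114 := ded_42_1 (flp_j L35500) (flp_e L35491) L51167
theorem L51174 : sm gh N4112 = N5957 := rfl
theorem L51176 : sm gb N5957 = N4119 := ded_25_1 (flp_h L35537) (flp_b L35488) L51174
theorem L51178 : sm ge N5957 = N4115 := ded_43_1 (flp_h L35508) (flp_e L35491) L51174
theorem L51180 : sm gg N5957 = N4113 := ded_50_1 (flp_h L35493) L35486 L51174
theorem L51182 : sm gd N4113 = N5958 := rfl
theorem L51184 : sm gb N5958 = N4120 := ded_20_1 (flp_d L35543) (flp_b L35495) L51182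
theorem L51187 : sm ge N5958 = N4269 := ded_34_2 (flp_d L36766) L25553 (flp_d L24678) (flp_e L35497) L51182
theorem L51190 : sm gi N4113 = N5959 := rfl
theorem L51197 : sm gh N4114 = N5960 := rfl
theorem L51205 : sm gd N5960 = N4271 := ded_38_1 (flp_h L36782) L25561 (flp_h L24697) (flp_d L35504) L51197
theorem L51217 : sm gj N4117 = N5962 := rfl
theorem L51220 : sm ge N5962 = N4176 := ded_42_1 (flp_j L35976) (flp_e L35529) L51217
theorem L51222 : sm gf N5962 = N4118 := ded_46_1 (flp_j L35532) L35526 L51217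
theorem L51224 : sm gh N4117 = N5963 := rfl
theorem L51226 : sm ge N5963 = N4177 := ded_43_1 (flp_h L35982) (flp_e L35529) L51224
theorem L51228 : sm gf N5963 = N4119 := ded_47_1 (flp_h L35537) L35526 L51224
theorem L51231 : sm gh N4118 = N5964 := rfl
theorem L51235 : sm gj N5964 = N4119 := ded_52_1 (flp_h L35537) L35532 L51231
theorem L51237 : sm gd N4119 = N5965 := rfl
theorem L51239 : sm gg N5965 = N4120 := ded_36_2 (flp_d L35543) (flp_g L35541) L51237
theorem L51243 : sm gh N5965 = N5965 := ded_38_2 (flp_d L51237) (flp_h L35537) L24701 L35537 L51237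
theorem L51250 : sm gc N4120 = N5967 := rfl
theorem L51252 : sm ge N5967 = N4276 := ded_28_2 (flp_c L36822) (flp_e L35546) L51250
theorem L51256 : sm gi N4120 = N5968 := rfl
theorem L51260 : sm ge N5968 = N4277 := ded_44_1 (flp_i L36828) (flp_e L35546) L51256
theorem L51271 : sm gf N4124 = N5970 := rfl
theorem L51273 : sm gb N5970 = N4125 := ded_22_1 (flp_f L35577) L35570 L51271
theorem L51277 : sm gi N5970 = N4149 := ded_48_2 (flp_f L35770) (flp_i L35575) L51271
theorem L51279 : sm gh N4124 = N5971 := rfl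
theorem L51285 : sm ge N4125 = N5972 := rfl
theorem L51287 : sm ga N5972 = N4132 := ded_13_1 (flp_e L35641) (flp_a L35579) L51285
theorem L51289 : sm gc N5972 = N4127 := ded_28_1 (flp_e L35595) (flp_c L35581) L51285
theorem L51292 : sm gi N5972 = N4151 := ded_44_2 (flp_e L35782) (flp_i L35585) L51285
theorem L51295 : sm gg N4125 = N5973 := rfl
theorem L51297 : sm ga N5973 = N4133 := ded_15_1 (flp_g L35649) (flp_a L35579) L51295
theorem L51299 : sm gc N5973 = N4128 := ded_30_1 (flp_g L35605) (flp_c L35581) L51295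
theorem L51304 : sm gh N4125 = N5974 := rfl
theorem L51308 : sm gc N5974 = N4129 := ded_32_1 (flp_h L35613) (flp_c L35581) L51304
theorem L51313 : sm gd N4126 = N5975 := rfl
theorem L51320 : sm gi N4126 = N5976 := rfl
theorem L51328 : sm gh N5976 = N4155 := ded_54_1 (flp_i L35814) (flp_h L24871) (flp_i L24735) L35587 L51320
theorem L51330 : sm gg N4127 = N5977 := rfl
theorem L51332 : sm ga N5977 = N4137 := ded_15_1 (flp_g L35676) (flp_a L35597) L51330
theorem L51334 : sm gd N5977 = N4187 := ded_36_1 (flp_g L36067) (flp_d L35602) L51330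
theorem L51336 : sm ge N5977 = N4128 := ded_41_1 (flp_g L35605) L35595 L51330
theorem L51338 : sm gi N5977 = N4156 := ded_51_2 (flp_g L35822) (flp_i L35600) L51330
theorem L51340 : sm gh N4127 = N5978 := rfl
theorem L51342 : sm ga N5978 = N4138 := ded_17_1 (flp_h L35686) (flp_a L35597) L51340
theorem L51344 : sm ge N5978 = N4129 := ded_43_1 (flp_h L35613) L35595 L51340
theorem L51346 : sm gf N5978 = N5978 := ded_47_1 (flp_h L51340) L35604 L51340
theorem L51348 : sm gj N4128 = N5979 := rfl
theorem L51350 : sm ga N5979 = N4139 := ded_16_1 (flp_j L35694) (flp_a L35607) L51348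
theorem L51352 : sm gd N5979 = N4131 := ded_37_1 (flp_j L35630) (flp_d L35609) L51348
theorem L51354 : sm gi N5979 = N4158 := ded_53_2 (flp_j L35839) (flp_i L35611) L51348
theorem L51356 : sm gg N5979 = N5979 := ded_49_1 (flp_j L51348) (flp_g L35605) L24744 L35605 L51348
theorem L51374 : sm gd N4132 = N5982 := rfl
theorem L51378 : sm gi N5982 = N4161 := ded_39_2 (flp_d L35863) (flp_i L35646) L51374
theorem L51380 : sm gc N5982 = N4191 := ded_27_1 (flp_d L36103) L25098 (flp_d L24785) (flp_c L35643) L51374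
theorem L51383 : sm gg N4132 = N5983 := rfl
theorem L51385 : sm gc N5983 = N4137 := ded_30_1 (flp_g L35676) (flp_c L35643) L51383
theorem L51389 : sm gi N5983 = N4162 := ded_51_2 (flp_g L35870) (flp_i L35646) L51383
theorem L51391 : sm gh N4132 = N5984 := rfl
theorem L51393 : sm gc N5984 = N4138 := ded_32_1 (flp_h L35686) (flp_c L35643) L51391
theorem L51399 : sm gj N4133 = N5985 := rfl
theorem L51401 : sm gc N5985 = N4139 := ded_31_1 (flp_j L35694) (flp_c L35651) L51399
theorem L51404 : sm gi N5985 = N4164 := ded_53_2 (flp_j L35884) (flp_i L35654) L51399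
theorem L51407 : sm gh N4133 = N5986 := rfl
theorem L51409 : sm gc N5986 = N4140 := ded_32_1 (flp_h L35703) (flp_c L35651) L51407
theorem L51413 : sm gd N4134 = N5987 := rfl
theorem L51415 : sm gf N5987 = N4135 := ded_35_2 (flp_d L35663) (flp_f L35660) L51413
theorem L51429 : sm ge N4135 = N5989 := rfl
theorem L51435 : sm gi N4135 = N5990 := rfl
theorem L51438 : sm gd N5990 = N4136 := ded_39_1 (flp_i L35668) L35663 L51435
theorem L51441 : sm gf N4137 = N5991 := rfl
theorem L51443 : sm gb N5991 = N4142 := ded_22_1 (flp_f L35720) (flp_b L35678) L51441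
theorem L51445 : sm gd N5991 = N4198 := ded_35_1 (flp_f L36167) (flp_d L35680) L51441
theorem L51447 : sm gi N5991 = N4170 := ded_48_2 (flp_f L35925) (flp_i L35684) L51441
theorem L51449 : sm gg N5991 = N5991 := ded_45_2 (flp_f L51441) (flp_g L35676) L24787 L35676 L51441
theorem L51450 : sm gj N4137 = N5992 := rfl
theorem L51452 : sm gb N5992 = N4143 := ded_24_1 (flp_j L35727) (flp_b L35678) L51450
theorem L51454 : sm gd N5992 = N4199 := ded_37_1 (flp_j L36175) (flp_d L35680) L51450
theorem L51456 : sm ge N5992 = N4139 := ded_42_1 (flp_j L35694) (flp_e L35682) L51450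
theorem L51458 : sm gi N5992 = N4171 := ded_53_2 (flp_j L35932) (flp_i L35684) L51450
theorem L51460 : sm gg N5992 = N5992 := ded_49_1 (flp_j L51450) (flp_g L35676) L24782 L35676 L51450
theorem L51461 : sm gh N4137 = N5993 := rfl
theorem L51463 : sm gb N5993 = N4144 := ded_25_1 (flp_h L35736) (flp_b L35678) L51461
theorem L51467 : sm gg N5993 = N4138 := ded_50_1 (flp_h L35686) L35676 L51461
theorem L51469 : sm gd N4138 = N5994 := rfl
theorem L51471 : sm gb N5994 = N4145 := ded_20_1 (flp_d L35742) (flp_b L35688) L51469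
theorem L51476 : sm gh N5994 = N4201 := ded_38_2 (flp_d L36193) (flp_h L25138) (flp_d L24785) L35686 L51469
theorem L51478 : sm gi N4138 = N5995 := rfl
theorem L51486 : sm gh N5995 = N4173 := ded_54_1 (flp_i L35950) (flp_h L24958) (flp_i L24783) L35686 L51478
theorem L51488 : sm gh N4139 = N5996 := rfl
theorem L51490 : sm gb N5996 = N4147 := ded_25_1 (flp_h L35757) (flp_b L35696) L51488
theorem L51505 : sm gj N4142 = N5998 := rfl
theorem L51507 : sm gd N5998 = N4203 := ded_37_1 (flp_j L36211) (flp_d L35722) L51505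
theorem L51509 : sm gf N5998 = N4143 := ded_46_1 (flp_j L35727) L35720 L51505
theorem L51513 : sm gh N4142 = N5999 := rfl
theorem L51515 : sm gf N5999 = N4144 := ded_47_1 (flp_h L35736) L35720 L51513
theorem L51518 : sm gh N4143 = N6000 := rfl
theorem L51523 : sm gj N6000 = N4144 := ded_52_1 (flp_h L35736) L35727 L51518
theorem L51525 : sm gd N4144 = N6001 := rfl
theorem L51527 : sm gg N6001 = N4145 := ded_36_2 (flp_d L35742) (flp_g L35740) L51525
theorem L51529 : sm ge N6001 = N6001 := ded_34_2 (flp_d L51525) L35738 L24849 (flp_e L35738) L51525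
theorem L51530 : sm gh N6001 = N4206 := ded_38_2 (flp_d L36236) (flp_h L25181) (flp_d L24826) L35736 L51525
theorem L51540 : sm gc N4145 = N6003 := rfl
theorem L51545 : sm gh N6003 = N4207 := ded_32_2 (flp_c L36242) (flp_h L35747) L51540
theorem L51547 : sm gi N4145 = N6004 := rfl
theorem L51555 : sm gi N4147 = N6005 := rfl
theorem L51561 : sm gh N6005 = N4180 := ded_54_1 (flp_i L36003) (flp_h L25017) (flp_i L24842) L35757 L51555
theorem L51563 : sm ge N4149 = N6006 := rfl
theorem L51565 : sm gb N6006 = N4151 := ded_21_1 (flp_e L35782) (flp_b L35772) L51563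
theorem L51569 : sm gg N4149 = N6007 := rfl
theorem L51574 : sm gh N4149 = N6008 := rfl
theorem L51578 : sm gf N6008 = N4150 := ded_47_1 (flp_h L35776) L35770 L51574
theorem L51581 : sm gd N4150 = N6009 := rfl
theorem L51583 : sm gb N6009 = N4154 := ded_20_1 (flp_d L35806) (flp_b L35778) L51581
theorem L51587 : sm gi N4150 = N6010 := rfl
theorem L51593 : sm gd N4151 = N6011 := rfl
theorem L51595 : sm ga N6011 = N4161 := ded_12_1 (flp_d L35863) (flp_a L35784) L51593
theorem L51599 : sm gc N6011 = N4210 := ded_27_1 (flp_d L36265) L25216 (flp_d L24884) (flp_c L35786) L51593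
theorem L51602 : sm gg N4151 = N6012 := rfl
theorem L51604 : sm ga N6012 = N4162 := ded_15_1 (flp_g L35870) (flp_a L35784) L51602
theorem L51606 : sm gc N6012 = N4156 := ded_30_1 (flp_g L35822) (flp_c L35786) L51602
theorem L51608 : sm ge N6012 = N4152 := ded_41_1 (flp_g L35790) L35782 L51602
theorem L51610 : sm gh N4151 = N6013 := rfl
theorem L51616 : sm ge N6013 = N4153 := ded_43_1 (flp_h L35797) L35782 L51610
theorem L51620 : sm gj N4152 = N6014 := rfl
theorem L51622 : sm ga N6014 = N4164 := ded_16_1 (flp_j L35884) (flp_a L35792) L51620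
theorem L51624 : sm gc N6014 = N4158 := ded_31_1 (flp_j L35839) (flp_c L35794) L51620
theorem L51628 : sm gh N4152 = N6015 := rfl
theorem L51632 : sm gc N6015 = N4159 := ded_32_1 (flp_h L35846) (flp_c L35794) L51628
theorem L51634 : sm gg N6015 = N4153 := ded_50_1 (flp_h L35797) L35790 L51628
theorem L51646 : sm gi N4153 = N6017 := rfl
theorem L51655 : sm ge N4154 = N6018 := rfl
theorem L51657 : sm ga N6018 = N4168 := ded_13_1 (flp_e L35911) (flp_a L35808) L51655
theorem L51664 : sm gi N4154 = N6019 := rfl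
theorem L51670 : sm gd N6019 = N4155 := ded_39_1 (flp_i L35814) L35806 L51664
theorem L51673 : sm gf N4156 = N6020 := rfl
theorem L51675 : sm ga N6020 = N4170 := ded_14_1 (flp_f L35925) (flp_a L35824) L51673
theorem L51677 : sm gd N6020 = N4213 := ded_35_1 (flp_f L36291) (flp_d L35826) L51673
theorem L51679 : sm gg N6020 = N6020 := ded_45_2 (flp_f L51673) (flp_g L35822) L24886 L35822 L51673
theorem L51680 : sm gj N4156 = N6021 := rfl
theorem L51682 : sm ga N6021 = N4171 := ded_16_1 (flp_j L35932) (flp_a L35824) L51680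
theorem L51684 : sm gd N6021 = N4214 := ded_37_1 (flp_j L36298) (flp_d L35826) L51680
theorem L51686 : sm ge N6021 = N4158 := ded_42_1 (flp_j L35839) (flp_e L35828) L51680
theorem L51688 : sm gg N6021 = N6021 := ded_49_1 (flp_j L51680) (flp_g L35822) L24883 L35822 L51680
theorem L51689 : sm gh N4156 = N6022 := rfl
theorem L51698 : sm gi N4157 = N6023 := rfl
theorem L51707 : sm gh N4158 = N6024 := rfl
theorem L51716 : sm gi N4159 = N6025 := rfl
theorem L51720 : sm gd N6025 = N4290 := ded_39_1 (flp_i L36936) (flp_d L35852) L51716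
theorem L51724 : sm gg N4161 = N6026 := rfl
theorem L51726 : sm gc N6026 = N4215 := ded_30_1 (flp_g L36306) (flp_c L35867) L51724
theorem L51728 : sm gd N6026 = N4162 := ded_36_1 (flp_g L35870) L35863 L51724
theorem L51731 : sm gh N4161 = N6027 := rfl
theorem L51733 : sm gc N6027 = N4216 := ded_32_1 (flp_h L36312) (flp_c L35867) L51731
theorem L51738 : sm gf N4162 = N6028 := rfl
theorem L51743 : sm gj N4162 = N6029 := rfl
theorem L51747 : sm ge N6029 = N4164 := ded_42_1 (flp_j L35884) (flp_e L35874) L51743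
theorem L51750 : sm gh N4162 = N6030 := rfl
theorem L51754 : sm ge N6030 = N4165 := ded_43_1 (flp_h L35890) (flp_e L35874) L51750
theorem L51758 : sm gd N4163 = N6031 := rfl
theorem L51771 : sm gh N4164 = N6033 := rfl
theorem L51773 : sm gc N6033 = N4174 := ded_32_1 (flp_h L35959) (flp_c L35886) L51771
theorem L51776 : sm gj N6033 = N4165 := ded_52_1 (flp_h L35890) L35884 L51771
theorem L51778 : sm gd N4165 = N6034 := rfl
theorem L51780 : sm gg N6034 = N4166 := ded_36_2 (flp_d L35896) (flp_g L35894) L51778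
theorem L51785 : sm gi N4165 = N6035 := rfl
theorem L51791 : sm ge N4166 = N6036 := rfl
theorem L51797 : sm gi N4166 = N6037 := rfl
theorem L51806 : sm gf N4168 = N6038 := rfl
theorem L51813 : sm gi N4168 = N6039 := rfl
theorem L51818 : sm ge N6039 = N4169 := ded_44_1 (flp_i L35918) L35911 L51813
theorem L51821 : sm gh N4169 = N6040 := rfl
theorem L51827 : sm gj N4170 = N6041 := rfl
theorem L51835 : sm gh N4170 = N6042 := rfl
theorem L51837 : sm gb N6042 = N4177 := ded_25_1 (flp_h L35982) (flp_b L35927) L51835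
theorem L51853 : sm gi N4172 = N6044 := rfl
theorem L51855 : sm gb N6044 = N4179 := ded_26_1 (flp_i L35996) (flp_b L35943) L51853
theorem L51898 : sm ge N4181 = N6050 := rfl
theorem L51900 : sm ga N6050 = N6050 := ded_13_1 (flp_e L51898) L36012 L51898
theorem L51901 : sm gb N6050 = N4183 := ded_21_1 (flp_e L36028) (flp_b L36013) L51898
theorem L51903 : sm gj N6050 = N6050 := ded_42_2 (flp_e L51898) L36016 L51898
theorem L51904 : sm gi N6050 = N4208 := ded_44_2 (flp_e L36249) (flp_i L36017) L51898
theorem L51906 : sm gf N6050 = N6050 := ded_40_2 (flp_e L51898) (flp_f L36010) L25033 L36010 L51898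
theorem L51907 : sm gg N4181 = N6051 := rfl
theorem L51909 : sm ga N6051 = N6051 := ded_15_1 (flp_g L51907) L36012 L51907
theorem L51910 : sm gb N6051 = N4184 := ded_23_1 (flp_g L36038) (flp_b L36013) L51907
theorem L51912 : sm gd N6051 = N6051 := ded_36_1 (flp_g L51907) L36015 L51907
theorem L51913 : sm gi N6051 = N4209 := ded_51_2 (flp_g L36257) (flp_i L36017) L51907
theorem L51915 : sm gf N6051 = N6051 := ded_45_1 (flp_g L51907) (flp_f L36010) L25034 L36010 L51907
theorem L51916 : sm gh N4181 = N6052 := rfl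
theorem L51921 : sm gf N6052 = N4182 := ded_47_1 (flp_h L36019) L36010 L51916
theorem L51925 : sm gd N4182 = N6053 := rfl
theorem L51928 : sm gb N6053 = N4186 := ded_20_1 (flp_d L36058) (flp_b L36022) L51925
theorem L51930 : sm gg N6053 = N6053 := ded_36_2 (flp_d L51925) L36025 L51925
theorem L51931 : sm gj N6053 = N6053 := ded_37_2 (flp_d L51925) L36026 L51925
theorem L51934 : sm gd N4183 = N6054 := rfl
theorem L51936 : sm ga N6054 = N4191 := ded_12_1 (flp_d L36103) (flp_a L36030) L51934
theorem L51938 : sm gf N6054 = N6054 := ded_35_2 (flp_d L51934) L36037 L51934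
theorem L51939 : sm gj N6054 = N6054 := ded_37_2 (flp_d L51934) L36034 L51934
theorem L51940 : sm gi N6054 = N4210 := ded_39_2 (flp_d L36265) (flp_i L36035) L51934
theorem L51942 : sm ge N6054 = N6054 := ded_34_2 (flp_d L51934) (flp_e L36028) L25045 L36028 L51934
theorem L51943 : sm gg N4183 = N6055 := rfl
theorem L51945 : sm ga N6055 = N4192 := ded_15_1 (flp_g L36111) (flp_a L36030) L51943
theorem L51947 : sm gc N6055 = N4187 := ded_30_1 (flp_g L36067) (flp_c L36032) L51943
theorem L51949 : sm ge N6055 = N4184 := ded_41_1 (flp_g L36038) L36028 L51943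
theorem L51951 : sm gi N6055 = N4211 := ded_51_2 (flp_g L36272) (flp_i L36035) L51943
theorem L51953 : sm gh N4183 = N6056 := rfl
theorem L51955 : sm ga N6056 = N4193 := ded_17_1 (flp_h L36120) (flp_a L36030) L51953
theorem L51957 : sm gc N6056 = N4188 := ded_32_1 (flp_h L36075) (flp_c L36032) L51953
theorem L51959 : sm ge N6056 = N4185 := ded_43_1 (flp_h L36048) L36028 L51953
theorem L51961 : sm gf N6056 = N6056 := ded_47_1 (flp_h L51953) L36037 L51953
theorem L51962 : sm gj N6056 = N6056 := ded_52_1 (flp_h L51953) L36034 L51953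
theorem L51963 : sm gi N6056 = N6056 := ded_54_2 (flp_h L51953) L36035 L25219 (flp_i L36035) L51953
theorem L51964 : sm gj N4184 = N6057 := rfl
theorem L51966 : sm ga N6057 = N4194 := ded_16_1 (flp_j L36130) (flp_a L36040) L51964
theorem L51968 : sm gc N6057 = N4189 := ded_31_1 (flp_j L36084) (flp_c L36042) L51964
theorem L51970 : sm gd N6057 = N6057 := ded_37_1 (flp_j L51964) L36044 L51964
theorem L51971 : sm gf N6057 = N6057 := ded_46_1 (flp_j L51964) L36047 L51964
theorem L51972 : sm gi N6057 = N4212 := ded_53_2 (flp_j L36281) (flp_i L36045) L51964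
theorem L51974 : sm gg N6057 = N6057 := ded_49_1 (flp_j L51964) (flp_g L36038) L25046 L36038 L51964
theorem L51975 : sm gh N4184 = N6058 := rfl
theorem L51977 : sm ga N6058 = N4195 := ded_17_1 (flp_h L36140) (flp_a L36040) L51975
theorem L51979 : sm gc N6058 = N4190 := ded_32_1 (flp_h L36094) (flp_c L36042) L51975
theorem L51981 : sm gf N6058 = N6058 := ded_47_1 (flp_h L51975) L36047 L51975
theorem L51982 : sm gg N6058 = N4185 := ded_50_1 (flp_h L36048) L36038 L51975
theorem L51984 : sm gi N6058 = N6058 := ded_54_2 (flp_h L51975) L36045 L25228 (flp_i L36045) L51975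
theorem L51985 : sm gd N4185 = N6059 := rfl
theorem L51987 : sm ga N6059 = N4196 := ded_12_1 (flp_d L36149) (flp_a L36050) L51985
theorem L51995 : sm ge N4186 = N6060 := rfl
theorem L51997 : sm ga N6060 = N4197 := ded_13_1 (flp_e L36158) (flp_a L36060) L51995
theorem L52001 : sm gj N6060 = N6060 := ded_42_2 (flp_e L51995) L36063 L51995
theorem L52005 : sm gf N4187 = N6061 := rfl
theorem L52007 : sm ga N6061 = N4198 := ded_14_1 (flp_f L36167) (flp_a L36069) L52005
theorem L52009 : sm gi N6061 = N4213 := ded_48_2 (flp_f L36291) (flp_i L36073) L52005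
theorem L52011 : sm ge N6061 = N6061 := ded_40_1 (flp_f L52005) L36071 L25075 (flp_e L36071) L52005
theorem L52012 : sm gg N6061 = N6061 := ded_45_2 (flp_f L52005) (flp_g L36067) L25066 L36067 L52005
theorem L52013 : sm gj N4187 = N6062 := rfl
theorem L52015 : sm ga N6062 = N4199 := ded_16_1 (flp_j L36175) (flp_a L36069) L52013
theorem L52017 : sm ge N6062 = N4189 := ded_42_1 (flp_j L36084) (flp_e L36071) L52013
theorem L52019 : sm gi N6062 = N4214 := ded_53_2 (flp_j L36298) (flp_i L36073) L52013
theorem L52021 : sm gg N6062 = N6062 := ded_49_1 (flp_j L52013) (flp_g L36067) L25063 L36067 L52013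
theorem L52022 : sm gh N4187 = N6063 := rfl
theorem L52024 : sm ga N6063 = N4200 := ded_17_1 (flp_h L36184) (flp_a L36069) L52022
theorem L52026 : sm ge N6063 = N4190 := ded_43_1 (flp_h L36094) (flp_e L36071) L52022
theorem L52028 : sm gg N6063 = N4188 := ded_50_1 (flp_h L36075) L36067 L52022
theorem L52030 : sm gi N6063 = N6063 := ded_54_2 (flp_h L52022) L36073 L25236 (flp_i L36073) L52022
theorem L52031 : sm gd N4188 = N6064 := rfl
theorem L52033 : sm ga N6064 = N4201 := ded_12_1 (flp_d L36193) (flp_a L36077) L52031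
theorem L52035 : sm gf N6064 = N6064 := ded_35_2 (flp_d L52031) L36081 L52031
theorem L52036 : sm gj N6064 = N6064 := ded_37_2 (flp_d L52031) L36082 L52031
theorem L52037 : sm gi N6064 = N6064 := ded_39_2 (flp_d L52031) L36083 L52031
theorem L52038 : sm ge N6064 = N6064 := ded_34_2 (flp_d L52031) L36079 L25083 (flp_e L36079) L52031
theorem L52039 : sm gh N4189 = N6065 := rfl
theorem L52041 : sm ga N6065 = N4202 := ded_17_1 (flp_h L36201) (flp_a L36086) L52039
theorem L52043 : sm gf N6065 = N6065 := ded_47_1 (flp_h L52039) L36090 L52039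
theorem L52044 : sm gg N6065 = N6065 := ded_50_1 (flp_h L52039) L36093 L52039
theorem L52045 : sm gj N6065 = N4190 := ded_52_1 (flp_h L36094) L36084 L52039
theorem L52047 : sm gd N6065 = N6065 := ded_38_1 (flp_h L52039) L36088 L25091 (flp_d L36088) L52039
theorem L52048 : sm gi N6065 = N6065 := ded_54_2 (flp_h L52039) L36091 L25244 (flp_i L36091) L52039
theorem L52049 : sm gg N4191 = N6066 := rfl
theorem L52051 : sm gb N6066 = N6066 := ded_23_1 (flp_g L52049) L36105 L52049
theorem L52052 : sm gd N6066 = N4192 := ded_36_1 (flp_g L36111) L36103 L52049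
theorem L52054 : sm ge N6066 = N6066 := ded_41_1 (flp_g L52049) L36110 L52049
theorem L52055 : sm gi N6066 = N4215 := ded_51_2 (flp_g L36306) (flp_i L36108) L52049
theorem L52057 : sm gh N4191 = N6067 := rfl
theorem L52063 : sm gf N4192 = N6068 := rfl
theorem L52065 : sm gb N6068 = N6068 := ded_22_1 (flp_f L52063) L36113 L52063
theorem L52066 : sm gc N6068 = N4198 := ded_29_1 (flp_f L36167) (flp_c L36114) L52063
theorem L52068 : sm gi N6068 = N4217 := ded_48_2 (flp_f L36319) (flp_i L36118) L52063
theorem L52070 : sm ge N6068 = N6068 := ded_40_1 (flp_f L52063) L36116 L25112 (flp_e L36116) L52063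
theorem L52071 : sm gg N6068 = N6068 := ded_45_2 (flp_f L52063) (flp_g L36111) L25103 L36111 L52063
theorem L52072 : sm gj N4192 = N6069 := rfl
theorem L52074 : sm gb N6069 = N6069 := ded_24_1 (flp_j L52072) L36113 L52072
theorem L52075 : sm gc N6069 = N4199 := ded_31_1 (flp_j L36175) (flp_c L36114) L52072
theorem L52077 : sm ge N6069 = N4194 := ded_42_1 (flp_j L36130) (flp_e L36116) L52072
theorem L52079 : sm gi N6069 = N4218 := ded_53_2 (flp_j L36327) (flp_i L36118) L52072
theorem L52081 : sm gg N6069 = N6069 := ded_49_1 (flp_j L52072) (flp_g L36111) L25100 L36111 L52072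
theorem L52082 : sm gh N4192 = N6070 := rfl
theorem L52084 : sm gb N6070 = N6070 := ded_25_1 (flp_h L52082) L36113 L52082
theorem L52085 : sm gc N6070 = N4200 := ded_32_1 (flp_h L36184) (flp_c L36114) L52082
theorem L52087 : sm ge N6070 = N4195 := ded_43_1 (flp_h L36140) (flp_e L36116) L52082
theorem L52089 : sm gg N6070 = N4193 := ded_50_1 (flp_h L36120) L36111 L52082
theorem L52091 : sm gi N6070 = N6070 := ded_54_2 (flp_h L52082) L36118 L25259 (flp_i L36118) L52082
theorem L52092 : sm gd N4193 = N6071 := rfl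
theorem L52098 : sm gh N4194 = N6072 := rfl
theorem L52100 : sm gb N6072 = N6072 := ded_25_1 (flp_h L52098) L36132 L52098
theorem L52101 : sm gc N6072 = N4202 := ded_32_1 (flp_h L36201) (flp_c L36133) L52098
theorem L52103 : sm gf N6072 = N6072 := ded_47_1 (flp_h L52098) L36136 L52098
theorem L52104 : sm gg N6072 = N6072 := ded_50_1 (flp_h L52098) L36139 L52098
theorem L52105 : sm gj N6072 = N4195 := ded_52_1 (flp_h L36140) L36130 L52098
theorem L52107 : sm gi N6072 = N6072 := ded_54_2 (flp_h L52098) L36137 L25267 (flp_i L36137) L52098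
theorem L52108 : sm gd N4195 = N6073 := rfl
theorem L52110 : sm gb N6073 = N6073 := ded_20_1 (flp_d L52108) L36142 L52108
theorem L52111 : sm gf N6073 = N6073 := ded_35_2 (flp_d L52108) L36145 L52108
theorem L52112 : sm gg N6073 = N4196 := ded_36_2 (flp_d L36149) (flp_g L36146) L52108
theorem L52114 : sm gi N6073 = N6073 := ded_39_2 (flp_d L52108) L36148 L52108
theorem L52115 : sm gc N6073 = N6073 := ded_27_1 (flp_d L52108) L36143 L25164 (flp_c L36143) L52108
theorem L52116 : sm gh N6073 = N6073 := ded_38_2 (flp_d L52108) (flp_h L36140) L25109 L36140 L52108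
theorem L52117 : sm ge N4196 = N6074 := rfl
theorem L52124 : sm gf N4197 = N6075 := rfl
theorem L52132 : sm gj N4198 = N6076 := rfl
theorem L52134 : sm gb N6076 = N4203 := ded_24_1 (flp_j L36211) (flp_b L36169) L52132
theorem L52137 : sm gf N6076 = N4199 := ded_46_1 (flp_j L36175) L36167 L52132
theorem L52141 : sm gh N4198 = N6077 := rfl
theorem L52143 : sm gb N6077 = N4204 := ded_25_1 (flp_h L36219) (flp_b L36169) L52141
theorem L52145 : sm ge N6077 = N6077 := ded_43_1 (flp_h L52141) L36173 L52141
theorem L52146 : sm gf N6077 = N4200 := ded_47_1 (flp_h L36184) L36167 L52141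
theorem L52148 : sm gg N6077 = N6077 := ded_50_1 (flp_h L52141) L36174 L52141
theorem L52149 : sm gi N6077 = N6077 := ded_54_2 (flp_h L52141) L36171 L25273 (flp_i L36171) L52141
theorem L52150 : sm gh N4199 = N6078 := rfl
theorem L52152 : sm gb N6078 = N4205 := ded_25_1 (flp_h L36227) (flp_b L36177) L52150
theorem L52154 : sm ge N6078 = N4202 := ded_43_1 (flp_h L36201) (flp_e L36179) L52150
theorem L52156 : sm gg N6078 = N6078 := ded_50_1 (flp_h L52150) L36183 L52150
theorem L52157 : sm gj N6078 = N4200 := ded_52_1 (flp_h L36184) L36175 L52150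
theorem L52159 : sm gi N6078 = N6078 := ded_54_2 (flp_h L52150) L36181 L25282 (flp_i L36181) L52150
theorem L52160 : sm gd N4200 = N6079 := rfl
theorem L52162 : sm gb N6079 = N4206 := ded_20_1 (flp_d L36236) (flp_b L36186) L52160
theorem L52164 : sm gg N6079 = N4201 := ded_36_2 (flp_d L36193) (flp_g L36190) L52160
theorem L52166 : sm gi N6079 = N6079 := ded_39_2 (flp_d L52160) L36192 L52160
theorem L52167 : sm ge N6079 = N6079 := ded_34_2 (flp_d L52160) L36188 L25164 (flp_e L36188) L52160
theorem L52168 : sm gc N4201 = N6080 := rfl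
theorem L52174 : sm gg N4203 = N6081 := rfl
theorem L52178 : sm gi N6081 = N4220 := ded_51_2 (flp_g L36344) (flp_i L36217) L52174
theorem L52182 : sm gh N4203 = N6082 := rfl
theorem L52186 : sm gf N6082 = N4205 := ded_47_1 (flp_h L36227) (flp_f L36215) L52182
theorem L52188 : sm gj N6082 = N4204 := ded_52_1 (flp_h L36219) L36211 L52182
theorem L52191 : sm gd N4204 = N6083 := rfl
theorem L52193 : sm gf N6083 = N4206 := ded_35_2 (flp_d L36236) (flp_f L36223) L52191
theorem L52197 : sm gd N4205 = N6084 := rfl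
theorem L52200 : sm gj N6084 = N4206 := ded_37_2 (flp_d L36236) (flp_j L36233) L52197
theorem L52204 : sm gc N4206 = N6085 := rfl
theorem L52206 : sm ge N6085 = N6085 := ded_28_2 (flp_c L52204) L36241 L52204
theorem L52207 : sm gg N6085 = N4207 := ded_30_2 (flp_c L36242) (flp_g L36238) L52204
theorem L52209 : sm gi N6085 = N6085 := ded_33_2 (flp_c L52204) L36240 L52204
theorem L52210 : sm gd N6085 = N6085 := ded_27_2 (flp_c L52204) (flp_d L36236) L25183 L36236 L52204
theorem L52211 : sm gb N4207 = N6086 := rfl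
theorem L52218 : sm gd N4208 = N6087 := rfl
theorem L52220 : sm ga N6087 = N6087 := ded_12_1 (flp_d L52218) L36251 L52218
theorem L52221 : sm gb N6087 = N4210 := ded_20_1 (flp_d L36265) (flp_b L36252) L52218
theorem L52223 : sm gf N6087 = N6087 := ded_35_2 (flp_d L52218) L36256 L52218
theorem L52224 : sm gj N6087 = N6087 := ded_37_2 (flp_d L52218) L36254 L52218
theorem L52225 : sm ge N6087 = N6087 := ded_34_2 (flp_d L52218) (flp_e L36249) L25209 L36249 L52218
theorem L52226 : sm gg N4208 = N6088 := rfl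
theorem L52228 : sm ga N6088 = N6088 := ded_15_1 (flp_g L52226) L36251 L52226
theorem L52229 : sm gb N6088 = N4211 := ded_23_1 (flp_g L36272) (flp_b L36252) L52226
theorem L52231 : sm ge N6088 = N4209 := ded_41_1 (flp_g L36257) L36249 L52226
theorem L52233 : sm gh N6088 = N6088 := ded_50_2 (flp_g L52226) L36255 L52226
theorem L52234 : sm gj N4209 = N6089 := rfl
theorem L52236 : sm ga N6089 = N6089 := ded_16_1 (flp_j L52234) L36259 L52234
theorem L52237 : sm gb N6089 = N4212 := ded_24_1 (flp_j L36281) (flp_b L36260) L52234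
theorem L52239 : sm gd N6089 = N6089 := ded_37_1 (flp_j L52234) L36262 L52234
theorem L52240 : sm gf N6089 = N6089 := ded_46_1 (flp_j L52234) L36264 L52234
theorem L52241 : sm gh N6089 = N6089 := ded_52_2 (flp_j L52234) L36263 L52234
theorem L52242 : sm gg N6089 = N6089 := ded_49_1 (flp_j L52234) (flp_g L36257) L25210 L36257 L52234
theorem L52243 : sm gg N4210 = N6090 := rfl
theorem L52245 : sm ga N6090 = N4215 := ded_15_1 (flp_g L36306) (flp_a L36267) L52243
theorem L52247 : sm gd N6090 = N4211 := ded_36_1 (flp_g L36272) L36265 L52243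
theorem L52249 : sm ge N6090 = N6090 := ded_41_1 (flp_g L52243) L36271 L52243
theorem L52250 : sm gh N4210 = N6091 := rfl
theorem L52252 : sm ga N6091 = N4216 := ded_17_1 (flp_h L36312) (flp_a L36267) L52250
theorem L52258 : sm gf N4211 = N6092 := rfl
theorem L52260 : sm ga N6092 = N4217 := ded_14_1 (flp_f L36319) (flp_a L36274) L52258
theorem L52262 : sm gc N6092 = N4213 := ded_29_1 (flp_f L36291) (flp_c L36276) L52258
theorem L52264 : sm gh N6092 = N6092 := ded_47_2 (flp_f L52258) L36280 L52258
theorem L52265 : sm ge N6092 = N6092 := ded_40_1 (flp_f L52258) L36278 L25229 (flp_e L36278) L52258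
theorem L52266 : sm gg N6092 = N6092 := ded_45_2 (flp_f L52258) (flp_g L36272) L25220 L36272 L52258
theorem L52267 : sm gj N4211 = N6093 := rfl
theorem L52269 : sm ga N6093 = N4218 := ded_16_1 (flp_j L36327) (flp_a L36274) L52267
theorem L52271 : sm gc N6093 = N4214 := ded_31_1 (flp_j L36298) (flp_c L36276) L52267
theorem L52273 : sm ge N6093 = N4212 := ded_42_1 (flp_j L36281) (flp_e L36278) L52267
theorem L52275 : sm gh N6093 = N6093 := ded_52_2 (flp_j L52267) L36280 L52267
theorem L52276 : sm gg N6093 = N6093 := ded_49_1 (flp_j L52267) (flp_g L36272) L25218 L36272 L52267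
theorem L52277 : sm gj N4213 = N6094 := rfl
theorem L52279 : sm ga N6094 = N4219 := ded_16_1 (flp_j L36336) (flp_a L36293) L52277
theorem L52281 : sm ge N6094 = N6094 := ded_42_1 (flp_j L52277) L36296 L52277
theorem L52282 : sm gf N6094 = N4214 := ded_46_1 (flp_j L36298) L36291 L52277
theorem L52284 : sm gh N6094 = N6094 := ded_52_2 (flp_j L52277) L36295 L52277
theorem L52285 : sm gf N4215 = N6095 := rfl
theorem L52288 : sm gd N6095 = N4217 := ded_35_1 (flp_f L36319) (flp_d L36309) L52285
theorem L52291 : sm gj N4215 = N6096 := rfl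
theorem L52298 : sm gh N4215 = N6097 := rfl
theorem L52302 : sm gg N6097 = N4216 := ded_50_1 (flp_h L36312) L36306 L52298
theorem L52305 : sm gi N4216 = N6098 := rfl
theorem L52312 : sm gj N4217 = N6099 := rfl
theorem L52321 : sm gg N4219 = N6100 := rfl
theorem L52329 : sm gf N4221 = N6101 := rfl
theorem L52332 : sm gb N6101 = N4222 := ded_22_1 (flp_f L36361) L36351 L52329
theorem L52335 : sm gj N6101 = N4246 := ded_46_2 (flp_f L36573) (flp_j L36357) L52329
theorem L52338 : sm gh N4221 = N6102 := rfl
theorem L52346 : sm gj N6102 = N4247 := ded_52_1 (flp_h L36580) (flp_j L36357) L52338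
theorem L52348 : sm ge N4222 = N6103 := rfl
theorem L52350 : sm ga N6103 = N4229 := ded_13_1 (flp_e L36428) (flp_a L36363) L52348
theorem L52352 : sm gc N6103 = N4224 := ded_28_1 (flp_e L36382) (flp_c L36365) L52348
theorem L52354 : sm gj N6103 = N4248 := ded_42_2 (flp_e L36589) (flp_j L36368) L52348
theorem L52357 : sm gf N6103 = N4302 := ded_40_2 (flp_e L37030) (flp_f L25782) (flp_e L25295) L36361 L52348
theorem L52359 : sm gg N4222 = N6104 := rfl
theorem L52361 : sm ga N6104 = N4230 := ded_15_1 (flp_g L36438) (flp_a L36363) L52359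
theorem L52363 : sm gc N6104 = N4225 := ded_30_1 (flp_g L36392) (flp_c L36365) L52359
theorem L52368 : sm gh N4222 = N6105 := rfl
theorem L52374 : sm gf N6105 = N4223 := ded_47_1 (flp_h L36371) L36361 L52368
theorem L52376 : sm gj N6105 = N4250 := ded_52_1 (flp_h L36608) (flp_j L36368) L52368
theorem L52378 : sm gd N4223 = N6106 := rfl
theorem L52383 : sm gj N6106 = N4251 := ded_37_2 (flp_d L36616) (flp_j L36380) L52378
theorem L52398 : sm gg N4224 = N6108 := rfl
theorem L52400 : sm ga N6108 = N4234 := ded_15_1 (flp_g L36473) (flp_a L36384) L52398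
theorem L52402 : sm gd N6108 = N6108 := ded_36_1 (flp_g L52398) L36389 L52398
theorem L52403 : sm ge N6108 = N4225 := ded_41_1 (flp_g L36392) L36382 L52398
theorem L52405 : sm gi N6108 = N6108 := ded_51_2 (flp_g L52398) L36388 L52398
theorem L52406 : sm gh N4224 = N6109 := rfl
theorem L52412 : sm gf N6109 = N4308 := ded_47_1 (flp_h L37089) (flp_f L36390) L52406
theorem L52414 : sm gj N6109 = N4254 := ded_52_1 (flp_h L36643) (flp_j L36386) L52406
theorem L52416 : sm gj N4225 = N6110 := rfl
theorem L52418 : sm ga N6110 = N4236 := ded_16_1 (flp_j L36491) (flp_a L36394) L52416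
theorem L52420 : sm gd N6110 = N4228 := ded_37_1 (flp_j L36418) (flp_d L36396) L52416
theorem L52422 : sm gf N6110 = N6110 := ded_46_1 (flp_j L52416) L36399 L52416
theorem L52423 : sm gi N6110 = N6110 := ded_53_2 (flp_j L52416) L36398 L52416
theorem L52424 : sm gg N6110 = N4255 := ded_49_1 (flp_j L36651) (flp_g L25467) (flp_j L25308) L36392 L52416
theorem L52426 : sm gh N4225 = N6111 := rfl
theorem L52442 : sm gd N4229 = N6113 := rfl
theorem L52445 : sm gf N6113 = N4311 := ded_35_2 (flp_d L37116) (flp_f L36436) L52442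
theorem L52447 : sm gj N6113 = N4258 := ded_37_2 (flp_d L36675) (flp_j L36433) L52442
theorem L52452 : sm gg N4229 = N6114 := rfl
theorem L52455 : sm gc N6114 = N4234 := ded_30_1 (flp_g L36473) (flp_c L36431) L52452
theorem L52460 : sm gh N4229 = N6115 := rfl
theorem L52467 : sm gf N6115 = N4313 := ded_47_1 (flp_h L37134) (flp_f L36436) L52460
theorem L52469 : sm gj N6115 = N4260 := ded_52_1 (flp_h L36692) (flp_j L36433) L52460
theorem L52471 : sm gj N4230 = N6116 := rfl
theorem L52474 : sm gc N6116 = N4236 := ded_31_1 (flp_j L36491) (flp_c L36441) L52471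
theorem L52479 : sm gg N6116 = N4261 := ded_49_1 (flp_j L36701) (flp_g L25508) (flp_j L25334) L36438 L52471
theorem L52481 : sm gh N4230 = N6117 := rfl
theorem L52484 : sm gc N6117 = N4237 := ded_32_1 (flp_h L36501) (flp_c L36441) L52481
theorem L52487 : sm gg N6117 = N4231 := ded_50_1 (flp_h L36446) L36438 L52481
theorem L52489 : sm gd N4231 = N6118 := rfl
theorem L52494 : sm gj N6118 = N4263 := ded_37_2 (flp_d L36719) (flp_j L36453) L52489
theorem L52507 : sm ge N4232 = N6120 := rfl
theorem L52511 : sm gj N6120 = N4265 := ded_42_2 (flp_e L36733) (flp_j L36459) L52507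
theorem L52514 : sm gd N6120 = N4317 := ded_34_1 (flp_e L37172) (flp_d L25864) (flp_e L25342) L36455 L52507
theorem L52524 : sm gf N4234 = N6122 := rfl
theorem L52526 : sm gb N6122 = N4239 := ded_22_1 (flp_f L36517) (flp_b L36475) L52524
theorem L52531 : sm gg N6122 = N4319 := ded_45_2 (flp_f L37190) (flp_g L25882) (flp_f L25355) L36473 L52524
theorem L52533 : sm gj N4234 = N6123 := rfl
theorem L52535 : sm gb N6123 = N4240 := ded_24_1 (flp_j L36525) (flp_b L36475) L52533
theorem L52538 : sm ge N6123 = N4236 := ded_42_1 (flp_j L36491) (flp_e L36478) L52533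
theorem L52541 : sm gg N6123 = N4267 := ded_49_1 (flp_j L36748) (flp_g L25540) (flp_j L25351) L36473 L52533
theorem L52543 : sm gh N4234 = N6124 := rfl
theorem L52547 : sm ge N6124 = N4237 := ded_43_1 (flp_h L36501) (flp_e L36478) L52543
theorem L52549 : sm gg N6124 = N4235 := ded_50_1 (flp_h L36481) L36473 L52543
theorem L52551 : sm gd N4235 = N6125 := rfl
theorem L52553 : sm gb N6125 = N4242 := ded_20_1 (flp_d L36541) (flp_b L36483) L52551
theorem L52555 : sm gf N6125 = N4321 := ded_35_2 (flp_d L37207) (flp_f L36487) L52551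
theorem L52571 : sm gh N4236 = N6127 := rfl
theorem L52578 : sm gj N6127 = N4237 := ded_52_1 (flp_h L36501) L36491 L52571
theorem L52580 : sm gi N4237 = N6128 := rfl
theorem L52588 : sm gj N4239 = N6129 := rfl
theorem L52593 : sm gf N6129 = N4240 := ded_46_1 (flp_j L36525) L36517 L52588
theorem L52597 : sm gh N4239 = N6130 := rfl
theorem L52603 : sm gg N6130 = N4324 := ded_50_1 (flp_h L37234) (flp_g L36523) L52597
theorem L52605 : sm gh N4240 = N6131 := rfl
theorem L52608 : sm ge N6131 = N4244 := ded_43_1 (flp_h L36558) (flp_e L36529) L52605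
theorem L52610 : sm gg N6131 = N4273 := ded_50_1 (flp_h L36799) (flp_g L36532) L52605
theorem L52612 : sm gj N6131 = N4241 := ded_52_1 (flp_h L36534) L36525 L52605
theorem L52614 : sm gd N4241 = N6132 := rfl
theorem L52616 : sm gg N6132 = N4242 := ded_36_2 (flp_d L36541) (flp_g L36539) L52614
theorem L52627 : sm gc N4242 = N6134 := rfl
theorem L52631 : sm gj N6134 = N4276 := ded_31_2 (flp_c L36822) (flp_j L36545) L52627
theorem L52643 : sm gi N4244 = N6136 := rfl
theorem L52652 : sm ge N4246 = N6137 := rfl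
theorem L52658 : sm gf N6137 = N4329 := ded_40_2 (flp_e L37271) (flp_f L25956) (flp_e L25435) L36573 L52652
theorem L52660 : sm gg N4246 = N6138 := rfl
theorem L52663 : sm gb N6138 = N4249 := ded_23_1 (flp_g L36598) (flp_b L36576) L52660
theorem L52667 : sm gf N6138 = N4279 := ded_45_1 (flp_g L36842) (flp_f L25625) (flp_g L25437) L36573 L52660
theorem L52669 : sm gh N4246 = N6139 := rfl
theorem L52674 : sm gf N6139 = N4247 := ded_47_1 (flp_h L36580) L36573 L52669
theorem L52676 : sm gd N4247 = N6140 := rfl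
theorem L52681 : sm gg N6140 = N4281 := ded_36_2 (flp_d L36859) (flp_g L36587) L52676
theorem L52694 : sm gd N4248 = N6142 := rfl
theorem L52703 : sm gg N4248 = N6143 := rfl
theorem L52705 : sm ga N6143 = N4259 := ded_15_1 (flp_g L36683) (flp_a L36591) L52703
theorem L52707 : sm gc N6143 = N4253 := ded_30_1 (flp_g L36634) (flp_c L36593) L52703
theorem L52709 : sm ge N6143 = N4249 := ded_41_1 (flp_g L36598) L36589 L52703
theorem L52713 : sm gh N4248 = N6144 := rfl
theorem L52715 : sm ga N6144 = N4260 := ded_17_1 (flp_h L36692) (flp_a L36591) L52713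
theorem L52721 : sm gf N6144 = N4334 := ded_47_1 (flp_h L37312) (flp_f L36596) L52713
theorem L52723 : sm gj N4249 = N6145 := rfl
theorem L52727 : sm gc N6145 = N4255 := ded_31_1 (flp_j L36651) (flp_c L36602) L52723
theorem L52733 : sm gh N4249 = N6146 := rfl
theorem L52735 : sm ga N6146 = N4262 := ded_17_1 (flp_h L36710) (flp_a L36600) L52733
theorem L52737 : sm gc N6146 = N4256 := ded_32_1 (flp_h L36660) (flp_c L36602) L52733
theorem L52739 : sm gf N6146 = N4284 := ded_47_1 (flp_h L36885) (flp_f L36606) L52733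
theorem L52741 : sm gg N6146 = N4250 := ded_50_1 (flp_h L36608) L36598 L52733
theorem L52743 : sm gd N4250 = N6147 := rfl
theorem L52750 : sm gi N4250 = N6148 := rfl
theorem L52759 : sm ge N4251 = N6149 := rfl
theorem L52761 : sm ga N6149 = N4265 := ded_13_1 (flp_e L36733) (flp_a L36618) L52759
theorem L52766 : sm gd N6149 = N4337 := ded_34_1 (flp_e L37341) (flp_d L25989) (flp_e L25455) L36616 L52759
theorem L52768 : sm gi N4251 = N6150 := rfl
theorem L52774 : sm gg N6150 = N4288 := ded_51_1 (flp_i L36921) (flp_g L36620) L52768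
theorem L52776 : sm gj N4253 = N6151 := rfl
theorem L52778 : sm ga N6151 = N4267 := ded_16_1 (flp_j L36748) (flp_a L36636) L52776
theorem L52780 : sm gd N6151 = N6151 := ded_37_1 (flp_j L52776) L36638 L52776
theorem L52781 : sm ge N6151 = N4255 := ded_42_1 (flp_j L36651) (flp_e L36639) L52776
theorem L52783 : sm gf N6151 = N6151 := ded_46_1 (flp_j L52776) L36642 L52776
theorem L52784 : sm gi N6151 = N6151 := ded_53_2 (flp_j L52776) L36641 L52776
theorem L52785 : sm gh N4253 = N6152 := rfl
theorem L52792 : sm gg N6152 = N4254 := ded_50_1 (flp_h L36643) L36634 L52785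
theorem L52794 : sm gd N4254 = N6153 := rfl
theorem L52810 : sm gh N4255 = N6155 := rfl
theorem L52827 : sm gg N4258 = N6157 := rfl
theorem L52831 : sm gd N6157 = N4259 := ded_36_1 (flp_g L36683) L36675 L52827
theorem L52836 : sm gh N4258 = N6158 := rfl
theorem L52841 : sm gf N6158 = N4341 := ded_47_1 (flp_h L37374) (flp_f L36678) L52836
theorem L52843 : sm gj N4259 = N6159 := rfl
theorem L52846 : sm gc N6159 = N4267 := ded_31_1 (flp_j L36748) (flp_c L36686) L52843
theorem L52852 : sm gh N4259 = N6160 := rfl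
theorem L52860 : sm gg N6160 = N4260 := ded_50_1 (flp_h L36692) L36683 L52852
theorem L52862 : sm gd N4260 = N6161 := rfl
theorem L52865 : sm gf N6161 = N4342 := ded_35_2 (flp_d L37381) (flp_f L36699) L52862
theorem L52877 : sm gh N4261 = N6163 := rfl
theorem L52882 : sm gf N6163 = N4291 := ded_47_1 (flp_h L36944) (flp_f L36707) L52877
theorem L52884 : sm gj N6163 = N4262 := ded_52_1 (flp_h L36710) L36701 L52877
theorem L52886 : sm gd N4262 = N6164 := rfl
theorem L52891 : sm gg N6164 = N4263 := ded_36_2 (flp_d L36719) (flp_g L36717) L52886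
theorem L52904 : sm ge N4263 = N6166 := rfl
theorem L52915 : sm gf N4265 = N6168 := rfl
theorem L52918 : sm gd N6168 = N4346 := ded_35_1 (flp_f L37410) (flp_d L36739) L52915
theorem L52921 : sm gi N4265 = N6169 := rfl
theorem L52928 : sm gg N6169 = N4297 := ded_51_1 (flp_i L36989) (flp_g L36736) L52921
theorem L52937 : sm gh N4267 = N6171 := rfl
theorem L52941 : sm ge N6171 = N4271 := ded_43_1 (flp_h L36782) (flp_e L36753) L52937
theorem L52946 : sm gd N4268 = N6172 := rfl
theorem L52948 : sm gb N6172 = N4274 := ded_20_1 (flp_d L36807) (flp_b L36759) L52946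
theorem L52951 : sm gg N6172 = N4269 := ded_36_2 (flp_d L36766) (flp_g L36764) L52946
theorem L52964 : sm gc N4269 = N6174 := rfl
theorem L52966 : sm gf N6174 = N4349 := ded_29_2 (flp_c L37433) (flp_f L36770) L52964
theorem L52986 : sm gd N4273 = N6177 := rfl
theorem L52989 : sm gj N6177 = N4274 := ded_37_2 (flp_d L36807) (flp_j L36805) L52986
theorem L52992 : sm gi N4273 = N6178 := rfl
theorem L52995 : sm ge N6178 = N4278 := ded_44_1 (flp_i L36834) (flp_e L36802) L52992
theorem L52998 : sm gj N6178 = N4275 := ded_53_1 (flp_i L36813) (flp_j L36805) L52992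
theorem L53001 : sm gc N4274 = N6179 := rfl
theorem L53004 : sm gg N6179 = N4276 := ded_30_2 (flp_c L36822) (flp_g L36810) L53001
theorem L53008 : sm gi N4274 = N6180 := rfl
theorem L53010 : sm gd N6180 = N4275 := ded_39_1 (flp_i L36813) L36807 L53008
theorem L53015 : sm gb N4276 = N6181 := rfl
theorem L53018 : sm gf N6181 = N4351 := ded_22_2 (flp_b L37446) (flp_f L36824) L53015
theorem L53021 : sm gi N4276 = N6182 := rfl
theorem L53023 : sm gc N6182 = N4277 := ded_33_1 (flp_i L36828) L36822 L53021
theorem L53028 : sm gh N4277 = N6183 := rfl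
theorem L53030 : sm gf N6183 = N4353 := ded_47_1 (flp_h L37459) (flp_f L36832) L53028
theorem L53034 : sm gj N4279 = N6184 := rfl
theorem L53037 : sm gb N6184 = N4283 := ded_24_1 (flp_j L36875) (flp_b L36845) L53034
theorem L53043 : sm gh N4279 = N6185 := rfl
theorem L53046 : sm gb N6185 = N4284 := ded_25_1 (flp_h L36885) (flp_b L36845) L53043
theorem L53049 : sm gg N6185 = N4280 := ded_50_1 (flp_h L36850) L36842 L53043
theorem L53051 : sm gd N4280 = N6186 := rfl
theorem L53060 : sm gi N4280 = N6187 := rfl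
theorem L53066 : sm gf N6187 = N4282 := ded_48_1 (flp_i L36866) (flp_f L36856) L53060
theorem L53075 : sm ge N4281 = N6189 := rfl
theorem L53078 : sm gb N6189 = N4287 := ded_21_1 (flp_e L36913) (flp_b L36862) L53075
theorem L53082 : sm gd N6189 = N4355 := ded_34_1 (flp_e L37473) (flp_d L26100) (flp_e L25639) L36859 L53075
theorem L53092 : sm gh N4283 = N6191 := rfl
theorem L53094 : sm ga N6191 = N4291 := ded_17_1 (flp_h L36944) (flp_a L36877) L53092
theorem L53100 : sm gj N6191 = N4284 := ded_52_1 (flp_h L36885) L36875 L53092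
theorem L53102 : sm gd N4284 = N6192 := rfl
theorem L53106 : sm gg N6192 = N4285 := ded_36_2 (flp_d L36894) (flp_g L36892) L53102
theorem L53119 : sm ge N4285 = N6194 := rfl
theorem L53126 : sm gi N4285 = N6195 := rfl
theorem L53132 : sm gf N6195 = N4288 := ded_48_1 (flp_i L36921) (flp_f L36898) L53126
theorem L53135 : sm gf N4287 = N6196 := rfl
theorem L53152 : sm gh N4288 = N6198 := rfl
theorem L53168 : sm gd N4291 = N6200 := rfl
theorem L53222 : sm gg N4296 = N6207 := rfl
theorem L53225 : sm gd N6207 = N4360 := ded_36_1 (flp_g L37517) (flp_d L36985) L53222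
theorem L53236 : sm gh N4297 = N6209 := rfl
theorem L53243 : sm ge N4300 = N6210 := rfl
theorem L53246 : sm gb N6210 = N4302 := ded_21_1 (flp_e L37030) (flp_b L37015) L53243
theorem L53248 : sm gj N6210 = N4329 := ded_42_2 (flp_e L37271) (flp_j L37019) L53243
theorem L53251 : sm gg N4300 = N6211 := rfl
theorem L53256 : sm gd N6211 = N4364 := ded_36_1 (flp_g L37551) (flp_d L37017) L53251
theorem L53261 : sm gh N4300 = N6212 := rfl
theorem L53268 : sm gj N6212 = N4330 := ded_52_1 (flp_h L37278) (flp_j L37019) L53261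
theorem L53270 : sm gd N4301 = N6213 := rfl
theorem L53273 : sm gb N6213 = N4305 := ded_20_1 (flp_d L37060) (flp_b L37025) L53270
theorem L53276 : sm gj N6213 = N4331 := ded_37_2 (flp_d L37286) (flp_j L37028) L53270
theorem L53278 : sm gh N6213 = N4366 := ded_38_2 (flp_d L37570) (flp_h L26167) (flp_d L25775) L37022 L53270
theorem L53289 : sm gd N4302 = N6215 := rfl
theorem L53293 : sm gj N6215 = N4333 := ded_37_2 (flp_d L37303) (flp_j L37036) L53289
theorem L53297 : sm ge N6215 = N4368 := ded_34_2 (flp_d L37589) (flp_e L26177) (flp_d L25788) L37030 L53289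
theorem L53299 : sm gg N4302 = N6216 := rfl
theorem L53301 : sm ga N6216 = N4312 := ded_15_1 (flp_g L37125) (flp_a L37032) L53299
theorem L53303 : sm gc N6216 = N4307 := ded_30_1 (flp_g L37080) (flp_c L37034) L53299
theorem L53309 : sm gh N4302 = N6217 := rfl
theorem L53313 : sm gc N6217 = N4308 := ded_32_1 (flp_h L37089) (flp_c L37034) L53309
theorem L53317 : sm gj N6217 = N4334 := ded_52_1 (flp_h L37312) (flp_j L37036) L53309
theorem L53319 : sm gh N4303 = N6218 := rfl
theorem L53326 : sm gg N6218 = N4304 := ded_50_1 (flp_h L37050) L37039 L53319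
theorem L53329 : sm gd N4304 = N6219 := rfl
theorem L53335 : sm gj N6219 = N4335 := ded_37_2 (flp_d L37321) (flp_j L37058) L53329
theorem L53338 : sm gh N6219 = N4372 := ded_38_2 (flp_d L37629) (flp_h L26196) (flp_d L25788) L37050 L53329
theorem L53351 : sm ge N4305 = N6221 := rfl
theorem L53353 : sm ga N6221 = N4317 := ded_13_1 (flp_e L37172) (flp_a L37062) L53351
theorem L53357 : sm gj N6221 = N4337 := ded_42_2 (flp_e L37341) (flp_j L37065) L53351
theorem L53359 : sm gh N6221 = N4374 := ded_43_2 (flp_e L37649) (flp_h L37068) L53351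
theorem L53361 : sm gi N4305 = N6222 := rfl
theorem L53369 : sm gj N6222 = N4338 := ded_53_1 (flp_i L37350) (flp_j L37065) L53361
theorem L53371 : sm gf N4307 = N6223 := rfl
theorem L53373 : sm ga N6223 = N4319 := ded_14_1 (flp_f L37190) (flp_a L37082) L53371
theorem L53375 : sm gd N6223 = N6223 := ded_35_1 (flp_f L53371) L37084 L53371
theorem L53376 : sm gj N6223 = N6223 := ded_46_2 (flp_f L53371) L37088 L53371
theorem L53377 : sm gi N6223 = N6223 := ded_48_2 (flp_f L53371) L37087 L53371
theorem L53378 : sm ge N6223 = N6223 := ded_40_1 (flp_f L53371) L37085 L25817 (flp_e L37085) L53371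
theorem L53379 : sm gh N4307 = N6224 := rfl
theorem L53385 : sm gg N6224 = N4308 := ded_50_1 (flp_h L37089) L37080 L53379
theorem L53388 : sm gd N4308 = N6225 := rfl
theorem L53392 : sm gj N6225 = N4339 := ded_37_2 (flp_d L37359) (flp_j L37095) L53388
theorem L53405 : sm gi N4309 = N6227 := rfl
theorem L53411 : sm gg N6227 = N4310 := ded_51_1 (flp_i L37106) (flp_g L37102) L53405
theorem L53415 : sm gg N4311 = N6228 := rfl
theorem L53419 : sm gd N6228 = N4312 := ded_36_1 (flp_g L37125) L37116 L53415
theorem L53421 : sm ge N6228 = N4381 := ded_41_1 (flp_g L37720) (flp_e L37123) L53415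
theorem L53425 : sm gh N4311 = N6229 := rfl
theorem L53429 : sm ge N6229 = N4382 := ded_43_1 (flp_h L37728) (flp_e L37123) L53425
theorem L53431 : sm gj N6229 = N4341 := ded_52_1 (flp_h L37374) (flp_j L37119) L53425
theorem L53433 : sm gf N4312 = N6230 := rfl
theorem L53436 : sm gc N6230 = N4319 := ded_29_1 (flp_f L37190) (flp_c L37128) L53433
theorem L53441 : sm gh N4312 = N6231 := rfl
theorem L53446 : sm ge N6231 = N4314 := ded_43_1 (flp_h L37143) (flp_e L37130) L53441
theorem L53448 : sm gg N6231 = N4313 := ded_50_1 (flp_h L37134) L37125 L53441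
theorem L53451 : sm gd N4313 = N6232 := rfl
theorem L53454 : sm gj N6232 = N4342 := ded_37_2 (flp_d L37381) (flp_j L37141) L53451
theorem L53466 : sm gd N4314 = N6234 := rfl
theorem L53470 : sm gg N6234 = N4315 := ded_36_2 (flp_d L37152) (flp_g L37149) L53466
theorem L53474 : sm gh N6234 = N4387 := ded_38_2 (flp_d L37771) (flp_h L26293) (flp_d L25850) L37143 L53466
theorem L53476 : sm gi N4314 = N6235 := rfl
theorem L53482 : sm gg N6235 = N4316 := ded_51_1 (flp_i L37162) (flp_g L37149) L53476
theorem L53486 : sm ge N4315 = N6236 := rfl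
theorem L53490 : sm gj N6236 = N4344 := ded_42_2 (flp_e L37394) (flp_j L37157) L53486
theorem L53492 : sm gh N6236 = N4389 := ded_43_2 (flp_e L37789) (flp_h L37160) L53486
theorem L53504 : sm gf N4317 = N6238 := rfl
theorem L53508 : sm gj N6238 = N4346 := ded_46_2 (flp_f L37410) (flp_j L37177) L53504
theorem L53510 : sm gh N6238 = N4391 := ded_47_2 (flp_f L37805) (flp_h L37179) L53504
theorem L53512 : sm gi N4317 = N6239 := rfl
theorem L53531 : sm gh N4319 = N6241 := rfl
theorem L53533 : sm gb N6241 = N4324 := ded_25_1 (flp_h L37234) (flp_b L37192) L53531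
theorem L53536 : sm gf N6241 = N4320 := ded_47_1 (flp_h L37198) L37190 L53531
theorem L53539 : sm gd N4320 = N6242 := rfl
theorem L53543 : sm gg N6242 = N4321 := ded_36_2 (flp_d L37207) (flp_g L37204) L53539
theorem L53558 : sm gc N4321 = N6244 := rfl
theorem L53561 : sm gj N6244 = N4349 := ded_31_2 (flp_c L37433) (flp_j L37211) L53558
theorem L53573 : sm gd N4324 = N6246 := rfl
theorem L53575 : sm gf N6246 = N4325 := ded_35_2 (flp_d L37241) (flp_f L37238) L53573
theorem L53579 : sm gi N4324 = N6247 := rfl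
theorem L53583 : sm gf N6247 = N4326 := ded_48_1 (flp_i L37248) (flp_f L37238) L53579
theorem L53587 : sm gc N4325 = N6248 := rfl
theorem L53590 : sm gg N6248 = N4327 := ded_30_2 (flp_c L37257) (flp_g L37243) L53587
theorem L53603 : sm gb N4327 = N6250 := rfl
theorem L53607 : sm gj N6250 = N4351 := ded_24_2 (flp_b L37446) (flp_j L37260) L53603
theorem L53610 : sm gi N4327 = N6251 := rfl
theorem L53612 : sm gc N6251 = N4328 := ded_33_1 (flp_i L37264) L37257 L53610
theorem L53618 : sm gh N4328 = N6252 := rfl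
theorem L53621 : sm gj N6252 = N4353 := ded_52_1 (flp_h L37459) (flp_j L37269) L53618
theorem L53625 : sm gd N4329 = N6253 := rfl
theorem L53632 : sm ge N6253 = N4406 := ded_34_2 (flp_d L37938) (flp_e L26429) (flp_d L25961) L37271 L53625
theorem L53634 : sm gh N4329 = N6254 := rfl
theorem L53642 : sm gd N4330 = N6255 := rfl
theorem L53650 : sm gh N6255 = N4408 := ded_38_2 (flp_d L37956) (flp_h L26438) (flp_d L25961) L37278 L53642
theorem L53661 : sm gc N4331 = N6257 := rfl
theorem L53666 : sm gh N6257 = N4410 := ded_32_2 (flp_c L37974) (flp_h L37293) L53661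
theorem L53669 : sm ge N4331 = N6258 := rfl
theorem L53674 : sm gg N6258 = N4355 := ded_41_2 (flp_e L37473) (flp_g L37291) L53669
theorem L53676 : sm gh N6258 = N4411 := ded_43_2 (flp_e L37981) (flp_h L37293) L53669
theorem L53687 : sm gh N4333 = N6260 := rfl
theorem L53689 : sm ga N6260 = N4341 := ded_17_1 (flp_h L37374) (flp_a L37305) L53687
theorem L53695 : sm gd N4334 = N6261 := rfl
theorem L53710 : sm ge N4335 = N6263 := rfl
theorem L53716 : sm gh N6263 = N4416 := ded_43_2 (flp_e L38022) (flp_h L37329) L53710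
theorem L53718 : sm gi N4335 = N6264 := rfl
theorem L53728 : sm gf N4337 = N6265 := rfl
theorem L53733 : sm gh N6265 = N4418 := ded_47_2 (flp_f L38038) (flp_h L37348) L53728
theorem L53735 : sm gi N4337 = N6266 := rfl
theorem L53744 : sm gh N4338 = N6267 := rfl
theorem L53749 : sm gg N6267 = N4359 := ded_50_1 (flp_h L37507) (flp_g L37357) L53744
theorem L53754 : sm gc N4339 = N6268 := rfl
theorem L53769 : sm gd N4341 = N6270 := rfl
theorem L53773 : sm gh N6270 = N4342 := ded_38_2 (flp_d L37381) (flp_h L26031) L26023 L37374 L53769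
theorem L53783 : sm gc N4342 = N6272 := rfl
theorem L53786 : sm gd N6272 = N4349 := ded_27_2 (flp_c L37433) (flp_d L26073) (flp_c L26034) L37381 L53783
theorem L53788 : sm ge N4342 = N6273 := rfl
theorem L53792 : sm gd N6273 = N4344 := ded_34_1 (flp_e L37394) (flp_d L26039) (flp_e L26036) L37381 L53788
theorem L53800 : sm gf N4344 = N6275 := rfl
theorem L53804 : sm gh N6275 = N4428 := ded_47_2 (flp_f L38113) (flp_h L37399) L53800
theorem L53808 : sm gi N4344 = N6276 := rfl
theorem L53825 : sm gg N4346 = N6278 := rfl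
theorem L53829 : sm gh N6278 = N4431 := ded_50_2 (flp_g L38134) (flp_h L37414) L53825
theorem L53833 : sm gi N4346 = N6279 := rfl
theorem L53839 : sm gh N4347 = N6280 := rfl
theorem L53847 : sm gi N6280 = N4433 := ded_54_2 (flp_h L38148) (flp_i L26576) (flp_h L26063) L37416 L53839
theorem L53849 : sm gb N4349 = N6281 := rfl
theorem L53854 : sm gc N6281 = N4351 := ded_19_2 (flp_b L37446) (flp_c L26088) (flp_b L26075) L37433 L53849
theorem L53876 : sm gi N4351 = N6285 := rfl
theorem L53878 : sm gb N6285 = N4352 := ded_26_1 (flp_i L37452) L37446 L53876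
theorem L53883 : sm gh N4352 = N6286 := rfl
theorem L53885 : sm gc N6286 = N4353 := ded_32_1 (flp_h L37459) (flp_c L37454) L53883
theorem L53890 : sm ge N4354 = N6287 := rfl
theorem L53897 : sm gh N6287 = N4440 := ded_43_2 (flp_e L38205) (flp_h L37470) L53890
theorem L53907 : sm gf N4355 = N6289 := rfl
theorem L53913 : sm gh N6289 = N4442 := ded_47_2 (flp_f L38221) (flp_h L37479) L53907
theorem L53934 : sm gg N4357 = N6292 := rfl
theorem L53940 : sm gh N6292 = N4445 := ded_50_2 (flp_g L38246) (flp_h L37496) L53934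
theorem L53969 : sm gi N4360 = N6296 := rfl
theorem L53986 : sm gd N4362 = N6298 := rfl
theorem L53990 : sm gi N6298 = N4451 := ded_39_2 (flp_d L38294) (flp_i L37539) L53986
theorem L53993 : sm gd N4363 = N6299 := rfl
theorem L53996 : sm gb N6299 = N4368 := ded_20_1 (flp_d L37589) (flp_b L37544) L53993
theorem L53999 : sm gj N6299 = N4406 := ded_37_2 (flp_d L37938) (flp_j L37547) L53993
theorem L54002 : sm gg N4363 = N6300 := rfl
theorem L54005 : sm gb N6300 = N4369 := ded_23_1 (flp_g L37598) (flp_b L37544) L54002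
theorem L54012 : sm gh N4363 = N6301 := rfl
theorem L54021 : sm gj N6301 = N4407 := ded_52_1 (flp_h L37946) (flp_j L37547) L54012
theorem L54023 : sm gh N4364 = N6302 := rfl
theorem L54026 : sm gb N6302 = N4371 := ded_25_1 (flp_h L37619) (flp_b L37554) L54023
theorem L54030 : sm gg N6302 = N4365 := ded_50_1 (flp_h L37560) L37551 L54023
theorem L54033 : sm gd N4365 = N6303 := rfl
theorem L54038 : sm gf N6303 = N4366 := ded_35_2 (flp_d L37570) (flp_f L37566) L54033
theorem L54040 : sm gj N6303 = N4408 := ded_37_2 (flp_d L37956) (flp_j L37568) L54033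
theorem L54053 : sm gc N4366 = N6305 := rfl
theorem L54057 : sm gj N6305 = N4410 := ded_31_2 (flp_c L37974) (flp_j L37576) L54053
theorem L54061 : sm ge N4366 = N6306 := rfl
theorem L54067 : sm gj N6306 = N4411 := ded_42_2 (flp_e L37981) (flp_j L37576) L54061
theorem L54080 : sm gg N4368 = N6308 := rfl
theorem L54082 : sm ga N6308 = N4381 := ded_15_1 (flp_g L37720) (flp_a L37591) L54080
theorem L54085 : sm gd N6308 = N4369 := ded_36_1 (flp_g L37598) L37589 L54080
theorem L54089 : sm gh N4368 = N6309 := rfl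
theorem L54091 : sm ga N6309 = N4382 := ded_17_1 (flp_h L37728) (flp_a L37591) L54089
theorem L54095 : sm gj N6309 = N4413 := ded_52_1 (flp_h L37998) (flp_j L37594) L54089
theorem L54097 : sm gf N4369 = N6310 := rfl
theorem L54099 : sm ga N6310 = N4383 := ded_14_1 (flp_f L37735) (flp_a L37600) L54097
theorem L54101 : sm gc N6310 = N4376 := ded_29_1 (flp_f L37668) (flp_c L37602) L54097
theorem L54107 : sm gh N4369 = N6311 := rfl
theorem L54115 : sm gg N6311 = N4370 := ded_50_1 (flp_h L37608) L37598 L54107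
theorem L54118 : sm gd N4370 = N6312 := rfl
theorem L54123 : sm gj N6312 = N4414 := ded_37_2 (flp_d L38005) (flp_j L37617) L54118
theorem L54137 : sm gd N4371 = N6314 := rfl
theorem L54142 : sm gg N6314 = N4372 := ded_36_2 (flp_d L37629) (flp_g L37626) L54137
theorem L54146 : sm gi N4371 = N6315 := rfl
theorem L54150 : sm gc N6315 = N4380 := ded_33_1 (flp_i L37709) (flp_c L37623) L54146
theorem L54153 : sm gg N6315 = N4373 := ded_51_1 (flp_i L37638) (flp_g L37626) L54146
theorem L54157 : sm ge N4372 = N6316 := rfl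
theorem L54159 : sm ga N6316 = N4389 := ded_13_1 (flp_e L37789) (flp_a L37631) L54157
theorem L54175 : sm gf N4374 = N6318 := rfl
theorem L54183 : sm gi N4374 = N6319 := rfl
theorem L54192 : sm gj N6319 = N4419 := ded_53_1 (flp_i L38044) (flp_j L37655) L54183
theorem L54194 : sm gh N4375 = N6320 := rfl
theorem L54203 : sm gh N4376 = N6321 := rfl
theorem L54205 : sm ga N6321 = N4394 := ded_17_1 (flp_h L37830) (flp_a L37670) L54203
theorem L54209 : sm gf N6321 = N4377 := ded_47_1 (flp_h L37678) L37668 L54203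
theorem L54213 : sm gd N4377 = N6322 := rfl
theorem L54215 : sm ga N6322 = N4395 := ded_12_1 (flp_d L37839) (flp_a L37680) L54213
theorem L54218 : sm gg N6322 = N4378 := ded_36_2 (flp_d L37688) (flp_g L37685) L54213
theorem L54234 : sm gc N4378 = N6324 := rfl
theorem L54236 : sm ga N6324 = N4397 := ded_11_1 (flp_c L37858) (flp_a L37690) L54234
theorem L54240 : sm gj N6324 = N4421 := ded_31_2 (flp_c L38062) (flp_j L37694) L54234
theorem L54243 : sm gi N4378 = N6325 := rfl
theorem L54248 : sm gd N6325 = N4379 := ded_39_1 (flp_i L37698) L37688 L54243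
theorem L54254 : sm gf N4381 = N6326 := rfl
theorem L54258 : sm gd N6326 = N4383 := ded_35_1 (flp_f L37735) (flp_d L37724) L54254
theorem L54263 : sm gh N4381 = N6327 := rfl
theorem L54267 : sm gg N6327 = N4382 := ded_50_1 (flp_h L37728) L37720 L54263
theorem L54270 : sm gd N4382 = N6328 := rfl
theorem L54274 : sm gj N6328 = N4423 := ded_37_2 (flp_d L38080) (flp_j L37733) L54270
theorem L54276 : sm gh N6328 = N4385 := ded_38_2 (flp_d L37754) (flp_h L26283) L26266 L37728 L54270
theorem L54286 : sm gh N4383 = N6330 := rfl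
theorem L54292 : sm gf N6330 = N4384 := ded_47_1 (flp_h L37744) L37735 L54286
theorem L54296 : sm gd N4384 = N6331 := rfl
theorem L54299 : sm gg N6331 = N4385 := ded_36_2 (flp_d L37754) (flp_g L37751) L54296
theorem L54313 : sm gc N4385 = N6333 := rfl
theorem L54316 : sm gj N6333 = N4425 := ded_31_2 (flp_c L38094) (flp_j L37758) L54313
theorem L54318 : sm gd N6333 = N4397 := ded_27_2 (flp_c L37858) (flp_d L26355) (flp_c L26286) L37754 L54313
theorem L54320 : sm ge N4385 = N6334 := rfl
theorem L54323 : sm gj N6334 = N4426 := ded_42_2 (flp_e L38100) (flp_j L37758) L54320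
theorem L54325 : sm gd N6334 = N4389 := ded_34_1 (flp_e L37789) (flp_d L26302) (flp_e L26288) L37754 L54320
theorem L54327 : sm gi N4385 = N6335 := rfl
theorem L54335 : sm ge N4387 = N6336 := rfl
theorem L54352 : sm gf N4389 = N6338 := rfl
theorem L54356 : sm gj N6338 = N4428 := ded_46_2 (flp_f L38113) (flp_j L37793) L54352
theorem L54358 : sm ge N6338 = N4391 := ded_40_1 (flp_f L37805) (flp_e L26320) (flp_f L26305) L37789 L54352
theorem L54360 : sm gi N4389 = N6339 := rfl
theorem L54377 : sm gg N4391 = N6341 := rfl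
theorem L54383 : sm gi N4391 = N6342 := rfl
theorem L54392 : sm gh N4392 = N6343 := rfl
theorem L54399 : sm gj N6343 = N4433 := ded_52_1 (flp_h L38148) (flp_j L37820) L54392
theorem L54401 : sm gd N4394 = N6344 := rfl
theorem L54403 : sm gb N6344 = N4399 := ded_20_1 (flp_d L37875) (flp_b L37832) L54401
theorem L54405 : sm gf N6344 = N4395 := ded_35_2 (flp_d L37839) (flp_f L37835) L54401
theorem L54410 : sm gi N4394 = N6345 := rfl
theorem L54412 : sm gb N6345 = N4400 := ded_26_1 (flp_i L37883) (flp_b L37832) L54410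
theorem L54420 : sm gc N4395 = N6346 := rfl
theorem L54437 : sm gb N4397 = N6348 := rfl
theorem L54441 : sm gj N6348 = N4434 := ded_24_2 (flp_b L38156) (flp_j L37862) L54437
theorem L54446 : sm gi N4397 = N6349 := rfl
theorem L54452 : sm gj N6349 = N4435 := ded_53_1 (flp_i L38164) (flp_j L37862) L54446
theorem L54464 : sm gc N4399 = N6351 := rfl
theorem L54466 : sm ga N6351 = N6351 := ded_11_1 (flp_c L54464) L37877 L54464
theorem L54467 : sm gf N6351 = N4401 := ded_29_2 (flp_c L37893) (flp_f L37878) L54464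
theorem L54469 : sm gg N6351 = N6351 := ded_30_2 (flp_c L54464) L37880 L54464
theorem L54470 : sm gj N6351 = N6351 := ded_31_2 (flp_c L54464) L37881 L54464
theorem L54471 : sm gh N6351 = N6351 := ded_32_2 (flp_c L54464) L37882 L54464
theorem L54472 : sm gd N6351 = N6351 := ded_27_2 (flp_c L54464) (flp_d L37875) L26387 L37875 L54464
theorem L54473 : sm ge N4399 = N6352 := rfl
theorem L54475 : sm ga N6352 = N6352 := ded_13_1 (flp_e L54473) L37877 L54473
theorem L54476 : sm gg N6352 = N6352 := ded_41_2 (flp_e L54473) L37880 L54473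
theorem L54477 : sm gj N6352 = N6352 := ded_42_2 (flp_e L54473) L37881 L54473
theorem L54478 : sm gh N6352 = N6352 := ded_43_2 (flp_e L54473) L37882 L54473
theorem L54479 : sm gd N6352 = N6352 := ded_34_1 (flp_e L54473) (flp_d L37875) L26388 L37875 L54473
theorem L54480 : sm gf N6352 = N6352 := ded_40_2 (flp_e L54473) L37878 L26399 (flp_f L37878) L54473
theorem L54481 : sm gi N4399 = N6353 := rfl
theorem L54490 : sm gb N4401 = N6354 := rfl
theorem L54494 : sm gg N6354 = N4403 := ded_23_2 (flp_b L37911) (flp_g L37897) L54490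
theorem L54498 : sm gi N4401 = N6355 := rfl
theorem L54505 : sm gg N6355 = N4404 := ded_51_1 (flp_i L37919) (flp_g L37897) L54498
theorem L54517 : sm ga N4403 = N6357 := rfl
theorem L54522 : sm gj N6357 = N4437 := ded_16_2 (flp_a L38180) (flp_j L37916) L54517
theorem L54535 : sm gh N4404 = N6359 := rfl
theorem L54545 : sm gc N4406 = N6360 := rfl
theorem L54553 : sm gh N4406 = N6361 := rfl
theorem L54560 : sm gd N4407 = N6362 := rfl
theorem L54578 : sm gc N4408 = N6364 := rfl
theorem L54586 : sm ge N4408 = N6365 := rfl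
theorem L54592 : sm gi N4408 = N6366 := rfl
theorem L54602 : sm ge N4410 = N6367 := rfl
theorem L54608 : sm gg N6367 = N4440 := ded_41_2 (flp_e L38205) (flp_g L37977) L54602
theorem L54619 : sm gf N4411 = N6369 := rfl
theorem L54625 : sm gi N4411 = N6370 := rfl
theorem L54643 : sm gd N4413 = N6372 := rfl
theorem L54649 : sm gh N6372 = N4414 := ded_38_2 (flp_d L38005) (flp_h L26472) L26464 L37998 L54643
theorem L54659 : sm gc N4414 = N6374 := rfl
theorem L54665 : sm gd N6374 = N4421 := ded_27_2 (flp_c L38062) (flp_d L26517) (flp_c L26476) L38005 L54659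
theorem L54667 : sm ge N4414 = N6375 := rfl
theorem L54672 : sm gd N6375 = N4416 := ded_34_1 (flp_e L38022) (flp_d L26482) (flp_e L26478) L38005 L54667
theorem L54682 : sm gf N4416 = N6377 := rfl
theorem L54706 : sm gg N4418 = N6380 := rfl
theorem L54712 : sm gf N6380 = N4445 := ded_45_1 (flp_g L38246) (flp_f L26654) (flp_g L26505) L38038 L54706
theorem L54722 : sm gh N4419 = N6382 := rfl
theorem L54731 : sm gb N4421 = N6383 := rfl
theorem L54738 : sm gi N4421 = N6384 := rfl
theorem L54757 : sm gc N4423 = N6386 := rfl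
theorem L54761 : sm gh N6386 = N4425 := ded_32_2 (flp_c L38094) (flp_h L38085) L54757
theorem L54764 : sm ge N4423 = N6387 := rfl
theorem L54768 : sm gh N6387 = N4426 := ded_43_2 (flp_e L38100) (flp_h L38085) L54764
theorem L54777 : sm gb N4425 = N6389 := rfl
theorem L54779 : sm gd N6389 = N4434 := ded_20_2 (flp_b L38156) (flp_d L38098) L54777
theorem L54784 : sm ge N4425 = N6390 := rfl
theorem L54786 : sm gc N6390 = N4426 := ded_28_1 (flp_e L38100) L38094 L54784
theorem L54790 : sm gi N4425 = N6391 := rfl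
theorem L54798 : sm gf N4426 = N6392 := rfl
theorem L54801 : sm gd N6392 = N4428 := ded_35_1 (flp_f L38113) (flp_d L38104) L54798
theorem L54804 : sm gi N4426 = N6393 := rfl
theorem L54807 : sm gd N6393 = N4429 := ded_39_1 (flp_i L38119) (flp_d L38104) L54804
theorem L54818 : sm gg N4428 = N6395 := rfl
theorem L54825 : sm gi N4428 = N6396 := rfl
theorem L54829 : sm ge N6396 = N4432 := ded_44_1 (flp_i L38141) (flp_e L38117) L54825
theorem L54831 : sm gf N6396 = N4429 := ded_48_1 (flp_i L38119) L38113 L54825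
theorem L54833 : sm gh N4429 = N6397 := rfl
theorem L54840 : sm gj N4431 = N6398 := rfl
theorem L54847 : sm gi N4431 = N6399 := rfl
theorem L54854 : sm gg N6399 = N4432 := ded_51_1 (flp_i L38141) L38134 L54847
theorem L54856 : sm gh N4432 = N6400 := rfl
theorem L54877 : sm gi N4434 = N6403 := rfl
theorem L54879 : sm gb N6403 = N4435 := ded_26_1 (flp_i L38164) L38156 L54877
theorem L54881 : sm gc N6403 = N4438 := ded_33_1 (flp_i L38188) (flp_c L38162) L54877
theorem L54886 : sm gh N4435 = N6404 := rfl
theorem L54894 : sm gi N4437 = N6405 := rfl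
theorem L54896 : sm ga N6405 = N4438 := ded_18_1 (flp_i L38188) L38180 L54894
theorem L54919 : sm gd N4440 = N6408 := rfl
theorem L54926 : sm gf N4440 = N6409 := rfl
theorem L54930 : sm gc N6409 = N4442 := ded_29_1 (flp_f L38221) (flp_c L38209) L54926
theorem L54934 : sm gi N4440 = N6410 := rfl
theorem L54951 : sm gg N4442 = N6412 := rfl
theorem L54954 : sm gb N6412 = N4445 := ded_23_1 (flp_g L38246) (flp_b L38224) L54951
theorem L54958 : sm gi N4442 = N6413 := rfl
theorem L54976 : sm gj N4445 = N6415 := rfl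
theorem L54984 : sm gi N4445 = N6416 := rfl
theorem L55018 : sm gh N4449 = N6420 := rfl
theorem L55023 : sm gg N6420 = N4450 := ded_50_1 (flp_h L38286) (flp_g L38284) L55018
theorem L55025 : sm gd N4450 = N6421 := rfl
theorem L55028 : sm gf N6421 = N4451 := ded_35_2 (flp_d L38294) (flp_f L38291) L55025
theorem L55038 : sm gh N4452 = N6423 := rfl
theorem L55040 : sm ga N6423 = N6423 := ded_17_1 (flp_h L55038) L38302 L55038
theorem L55041 : sm gb N6423 = N6423 := ded_25_1 (flp_h L55038) L38303 L55038
theorem L55042 : sm gc N6423 = N6423 := ded_32_1 (flp_h L55038) L38304 L55038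
theorem L55043 : sm ge N6423 = N6423 := ded_43_1 (flp_h L55038) L38306 L55038
theorem L55044 : sm gf N6423 = N4453 := ded_47_1 (flp_h L38311) (flp_f L38307) L55038
theorem L55046 : sm gg N6423 = N6423 := ded_50_1 (flp_h L55038) L38309 L55038
theorem L55047 : sm gj N6423 = N6423 := ded_52_1 (flp_h L55038) L38310 L55038
theorem L55048 : sm gi N6423 = N6423 := ded_54_2 (flp_h L55038) (flp_i L38300) L26708 L38300 L55038
theorem L55049 : sm gd N4453 = N6424 := rfl
theorem L55051 : sm ga N6424 = N6424 := ded_12_1 (flp_d L55049) L38313 L55049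
theorem L55052 : sm gb N6424 = N6424 := ded_20_1 (flp_d L55049) L38314 L55049
theorem L55053 : sm gg N6424 = N4454 := ded_36_2 (flp_d L38322) (flp_g L38318) L55049
theorem L55055 : sm gj N6424 = N6424 := ded_37_2 (flp_d L55049) L38320 L55049
theorem L55056 : sm gi N6424 = N6424 := ded_39_2 (flp_d L55049) L38321 L55049
theorem L55057 : sm gh N6424 = N6424 := ded_38_2 (flp_d L55049) (flp_h L38311) L26716 L38311 L55049
theorem L55058 : sm gc N4454 = N6425 := rfl
theorem L55060 : sm ga N6425 = N6425 := ded_11_1 (flp_c L55058) L38324 L55058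
theorem L55061 : sm gf N6425 = N6425 := ded_29_2 (flp_c L55058) L38326 L55058
theorem L55062 : sm gj N6425 = N4455 := ded_31_2 (flp_c L38331) (flp_j L38327) L55058
theorem L55064 : sm gh N6425 = N6425 := ded_32_2 (flp_c L55058) L38330 L55058
theorem L55065 : sm gi N6425 = N6425 := ded_33_2 (flp_c L55058) L38329 L55058
theorem L55066 : sm gd N6425 = N6425 := ded_27_2 (flp_c L55058) (flp_d L38322) L26726 L38322 L55058
theorem L55067 : sm ge N4454 = N6426 := rfl
theorem L55069 : sm ga N6426 = N6426 := ded_13_1 (flp_e L55067) L38324 L55067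
theorem L55070 : sm gb N6426 = N6426 := ded_21_1 (flp_e L55067) L38325 L55067
theorem L55071 : sm gj N6426 = N4456 := ded_42_2 (flp_e L38339) (flp_j L38327) L55067
theorem L55073 : sm gh N6426 = N6426 := ded_43_2 (flp_e L55067) L38330 L55067
theorem L55074 : sm gi N6426 = N6426 := ded_44_2 (flp_e L55067) L38329 L55067
theorem L55075 : sm gd N6426 = N4459 := ded_34_1 (flp_e L38370) (flp_d L26751) (flp_e L26727) L38322 L55067
theorem L55077 : sm gb N4455 = N6427 := rfl
theorem L55079 : sm gd N6427 = N6427 := ded_20_2 (flp_b L55077) L38338 L55077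
theorem L55080 : sm gf N6427 = N6427 := ded_22_2 (flp_b L55077) L38334 L55077
theorem L55081 : sm gg N6427 = N6427 := ded_23_2 (flp_b L55077) L38335 L55077
theorem L55082 : sm gh N6427 = N6427 := ded_25_2 (flp_b L55077) L38336 L55077
theorem L55083 : sm gi N6427 = N6427 := ded_26_2 (flp_b L55077) L38337 L55077
theorem L55084 : sm gc N6427 = N6427 := ded_19_2 (flp_b L55077) (flp_c L38331) L26736 L38331 L55077
theorem L55085 : sm ge N4455 = N6428 := rfl
theorem L55087 : sm ga N6428 = N6428 := ded_13_1 (flp_e L55085) L38333 L55085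
theorem L55088 : sm gc N6428 = N4456 := ded_28_1 (flp_e L38339) L38331 L55085
theorem L55090 : sm gg N6428 = N6428 := ded_41_2 (flp_e L55085) L38335 L55085
theorem L55091 : sm gh N6428 = N6428 := ded_43_2 (flp_e L55085) L38336 L55085
theorem L55092 : sm gi N6428 = N6428 := ded_44_2 (flp_e L55085) L38337 L55085
theorem L55093 : sm gf N4456 = N6429 := rfl
theorem L55095 : sm ga N6429 = N6429 := ded_14_1 (flp_f L55093) L38341 L55093
theorem L55096 : sm gb N6429 = N6429 := ded_22_1 (flp_f L55093) L38342 L55093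
theorem L55097 : sm gd N6429 = N4462 := ded_35_1 (flp_f L38398) (flp_d L38346) L55093
theorem L55099 : sm gh N6429 = N6429 := ded_47_2 (flp_f L55093) L38344 L55093
theorem L55100 : sm gi N6429 = N6429 := ded_48_2 (flp_f L55093) L38345 L55093
theorem L55101 : sm ge N6429 = N6429 := ded_40_1 (flp_f L55093) (flp_e L38339) L26737 L38339 L55093
theorem L55102 : sm gc N4457 = N6430 := rfl
theorem L55104 : sm ga N6430 = N6430 := ded_11_1 (flp_c L55102) L38350 L55102
theorem L55105 : sm gf N6430 = N6430 := ded_29_2 (flp_c L55102) L38352 L55102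
theorem L55106 : sm gg N6430 = N4458 := ded_30_2 (flp_c L38359) (flp_g L38353) L55102
theorem L55108 : sm gj N6430 = N6430 := ded_31_2 (flp_c L55102) L38355 L55102
theorem L55109 : sm gh N6430 = N4479 := ded_32_2 (flp_c L38557) (flp_h L38357) L55102
theorem L55111 : sm gi N6430 = N6430 := ded_33_2 (flp_c L55102) L38356 L55102
theorem L55112 : sm gd N6430 = N6430 := ded_27_2 (flp_c L55102) (flp_d L38348) L26745 L38348 L55102
theorem L55113 : sm ge N4457 = N6431 := rfl
theorem L55115 : sm ga N6431 = N6431 := ded_13_1 (flp_e L55113) L38350 L55113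
theorem L55116 : sm gb N6431 = N6431 := ded_21_1 (flp_e L55113) L38351 L55113
theorem L55117 : sm gg N6431 = N4459 := ded_41_2 (flp_e L38370) (flp_g L38353) L55113
theorem L55119 : sm gj N6431 = N6431 := ded_42_2 (flp_e L55113) L38355 L55113
theorem L55120 : sm gh N6431 = N4480 := ded_43_2 (flp_e L38566) (flp_h L38357) L55113
theorem L55122 : sm gi N6431 = N6431 := ded_44_2 (flp_e L55113) L38356 L55113
theorem L55123 : sm gb N4458 = N6432 := rfl
theorem L55125 : sm gd N6432 = N6432 := ded_20_2 (flp_b L55123) L38369 L55123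
theorem L55126 : sm gf N6432 = N4463 := ded_22_2 (flp_b L38407) (flp_f L38362) L55123
theorem L55128 : sm gj N6432 = N4460 := ded_24_2 (flp_b L38379) (flp_j L38364) L55123
theorem L55130 : sm gh N6432 = N4483 := ded_25_2 (flp_b L38596) (flp_h L38366) L55123
theorem L55132 : sm gi N6432 = N6432 := ded_26_2 (flp_b L55123) L38368 L55123
theorem L55133 : sm gc N6432 = N6432 := ded_19_2 (flp_b L55123) (flp_c L38359) L26754 L38359 L55123
theorem L55134 : sm ge N4458 = N6433 := rfl
theorem L55136 : sm ga N6433 = N6433 := ded_13_1 (flp_e L55134) L38361 L55134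
theorem L55137 : sm gc N6433 = N4459 := ded_28_1 (flp_e L38370) L38359 L55134
theorem L55139 : sm gj N6433 = N4461 := ded_42_2 (flp_e L38389) (flp_j L38364) L55134
theorem L55141 : sm gh N6433 = N4484 := ded_43_2 (flp_e L38605) (flp_h L38366) L55134
theorem L55143 : sm gi N6433 = N6433 := ded_44_2 (flp_e L55134) L38368 L55134
theorem L55144 : sm gf N4459 = N6434 := rfl
theorem L55146 : sm ga N6434 = N6434 := ded_14_1 (flp_f L55144) L38372 L55144
theorem L55147 : sm gb N6434 = N6434 := ded_22_1 (flp_f L55144) L38373 L55144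
theorem L55148 : sm gj N6434 = N4462 := ded_46_2 (flp_f L38398) (flp_j L38374) L55144
theorem L55150 : sm gh N6434 = N4485 := ded_47_2 (flp_f L38612) (flp_h L38376) L55144
theorem L55152 : sm gi N6434 = N6434 := ded_48_2 (flp_f L55144) L38378 L55144
theorem L55153 : sm ge N6434 = N4465 := ded_40_1 (flp_f L38428) (flp_e L26790) (flp_f L26755) L38370 L55144
theorem L55155 : sm ga N4460 = N6435 := rfl
theorem L55157 : sm gc N6435 = N6435 := ded_11_2 (flp_a L55155) L38388 L55155
theorem L55158 : sm gd N6435 = N6435 := ded_12_2 (flp_a L55155) L38381 L55155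
theorem L55159 : sm gf N6435 = N4466 := ded_14_2 (flp_a L38438) (flp_f L38382) L55155
theorem L55161 : sm gg N6435 = N6435 := ded_15_2 (flp_a L55155) L38384 L55155
theorem L55162 : sm gh N6435 = N4489 := ded_17_2 (flp_a L38651) (flp_h L38385) L55155
theorem L55164 : sm gi N6435 = N6435 := ded_18_2 (flp_a L55155) L38387 L55155
theorem L55165 : sm gb N6435 = N6435 := ded_10_2 (flp_a L55155) (flp_b L38379) L26764 L38379 L55155
theorem L55166 : sm ge N4460 = N6436 := rfl
theorem L55168 : sm gb N6436 = N4461 := ded_21_1 (flp_e L38389) L38379 L55166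
theorem L55170 : sm gc N6436 = N6436 := ded_28_1 (flp_e L55166) L38388 L55166
theorem L55171 : sm gg N6436 = N6436 := ded_41_2 (flp_e L55166) L38384 L55166
theorem L55172 : sm gh N6436 = N4490 := ded_43_2 (flp_e L38660) (flp_h L38385) L55166
theorem L55174 : sm gi N6436 = N6436 := ded_44_2 (flp_e L55166) L38387 L55166
theorem L55175 : sm gd N4461 = N6437 := rfl
theorem L55177 : sm ga N6437 = N6437 := ded_12_1 (flp_d L55175) L38391 L55175
theorem L55178 : sm gg N6437 = N6437 := ded_36_2 (flp_d L55175) L38394 L55175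
theorem L55179 : sm gi N6437 = N6437 := ded_39_2 (flp_d L55175) L38397 L55175
theorem L55180 : sm ge N6437 = N6437 := ded_34_2 (flp_d L55175) (flp_e L38389) L26771 L38389 L55175
theorem L55181 : sm gf N4461 = N6438 := rfl
theorem L55183 : sm ga N6438 = N6438 := ded_14_1 (flp_f L55181) L38391 L55181
theorem L55184 : sm gc N6438 = N4462 := ded_29_1 (flp_f L38398) (flp_c L38392) L55181
theorem L55186 : sm gh N6438 = N4492 := ded_47_2 (flp_f L38673) (flp_h L38395) L55181
theorem L55188 : sm gi N6438 = N6438 := ded_48_2 (flp_f L55181) L38397 L55181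
theorem L55189 : sm ge N6438 = N4469 := ded_40_1 (flp_f L38466) (flp_e L26810) (flp_f L26765) L38389 L55181
theorem L55191 : sm gg N4462 = N6439 := rfl
theorem L55193 : sm ga N6439 = N6439 := ded_15_1 (flp_g L55191) L38400 L55191
theorem L55194 : sm gb N6439 = N6439 := ded_23_1 (flp_g L55191) L38401 L55191
theorem L55195 : sm ge N6439 = N4470 := ded_41_1 (flp_g L38474) (flp_e L38405) L55191
theorem L55197 : sm gh N6439 = N4493 := ded_50_2 (flp_g L38680) (flp_h L38402) L55191
theorem L55199 : sm gi N6439 = N6439 := ded_51_2 (flp_g L55191) L38404 L55191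
theorem L55200 : sm gf N6439 = N6439 := ded_45_1 (flp_g L55191) (flp_f L38398) L26776 L38398 L55191
theorem L55201 : sm ga N4463 = N6440 := rfl
theorem L55203 : sm gc N6440 = N6440 := ded_11_2 (flp_a L55201) L38416 L55201
theorem L55204 : sm gd N6440 = N6440 := ded_12_2 (flp_a L55201) L38409 L55201
theorem L55205 : sm gg N6440 = N6440 := ded_15_2 (flp_a L55201) L38410 L55201
theorem L55206 : sm gj N6440 = N4466 := ded_16_2 (flp_a L38438) (flp_j L38411) L55201
theorem L55208 : sm gh N6440 = N4497 := ded_17_2 (flp_a L38721) (flp_h L38413) L55201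
theorem L55210 : sm gi N6440 = N6440 := ded_18_2 (flp_a L55201) L38415 L55201
theorem L55211 : sm gb N6440 = N6440 := ded_10_2 (flp_a L55201) (flp_b L38407) L26782 L38407 L55201
theorem L55212 : sm ge N4463 = N6441 := rfl
theorem L55214 : sm gb N6441 = N4464 := ded_21_1 (flp_e L38417) L38407 L55212
theorem L55216 : sm gc N6441 = N6441 := ded_28_1 (flp_e L55212) L38416 L55212
theorem L55217 : sm gg N6441 = N6441 := ded_41_2 (flp_e L55212) L38410 L55212
theorem L55218 : sm gj N6441 = N4467 := ded_42_2 (flp_e L38448) (flp_j L38411) L55212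
theorem L55220 : sm gh N6441 = N4498 := ded_43_2 (flp_e L38730) (flp_h L38413) L55212
theorem L55222 : sm gi N6441 = N6441 := ded_44_2 (flp_e L55212) L38415 L55212
theorem L55223 : sm gd N4464 = N6442 := rfl
theorem L55225 : sm ga N6442 = N6442 := ded_12_1 (flp_d L55223) L38419 L55223
theorem L55226 : sm gg N6442 = N6442 := ded_36_2 (flp_d L55223) L38422 L55223
theorem L55227 : sm gj N6442 = N4468 := ded_37_2 (flp_d L38458) (flp_j L38423) L55223
theorem L55229 : sm gi N6442 = N6442 := ded_39_2 (flp_d L55223) L38427 L55223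
theorem L55230 : sm gc N6442 = N6442 := ded_27_1 (flp_d L55223) L38420 L26800 (flp_c L38420) L55223
theorem L55231 : sm ge N6442 = N6442 := ded_34_2 (flp_d L55223) (flp_e L38417) L26789 L38417 L55223
theorem L55232 : sm gf N4464 = N6443 := rfl
theorem L55234 : sm ga N6443 = N6443 := ded_14_1 (flp_f L55232) L38419 L55232
theorem L55235 : sm gc N6443 = N4465 := ded_29_1 (flp_f L38428) (flp_c L38420) L55232
theorem L55237 : sm gj N6443 = N4469 := ded_46_2 (flp_f L38466) (flp_j L38423) L55232
theorem L55239 : sm gh N6443 = N4500 := ded_47_2 (flp_f L38748) (flp_h L38425) L55232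
theorem L55241 : sm gi N6443 = N6443 := ded_48_2 (flp_f L55232) L38427 L55232
theorem L55242 : sm gg N4465 = N6444 := rfl
theorem L55244 : sm ga N6444 = N6444 := ded_15_1 (flp_g L55242) L38430 L55242
theorem L55245 : sm gb N6444 = N6444 := ded_23_1 (flp_g L55242) L38431 L55242
theorem L55246 : sm gd N6444 = N6444 := ded_36_1 (flp_g L55242) L38432 L55242
theorem L55247 : sm gh N6444 = N4501 := ded_50_2 (flp_g L38755) (flp_h L38435) L55242
theorem L55249 : sm gi N6444 = N6444 := ded_51_2 (flp_g L55242) L38437 L55242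
theorem L55250 : sm gf N6444 = N6444 := ded_45_1 (flp_g L55242) (flp_f L38428) L26794 L38428 L55242
theorem L55251 : sm ge N4466 = N6445 := rfl
theorem L55253 : sm ga N6445 = N4467 := ded_13_1 (flp_e L38448) L38438 L55251
theorem L55255 : sm gb N6445 = N6445 := ded_21_1 (flp_e L55251) L38447 L55251
theorem L55256 : sm gc N6445 = N6445 := ded_28_1 (flp_e L55251) L38440 L55251
theorem L55257 : sm gg N6445 = N4471 := ded_41_2 (flp_e L38484) (flp_g L38442) L55251
theorem L55259 : sm gh N6445 = N4507 := ded_43_2 (flp_e L38813) (flp_h L38444) L55251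
theorem L55261 : sm gi N6445 = N6445 := ded_44_2 (flp_e L55251) L38446 L55251
theorem L55262 : sm gd N4467 = N6446 := rfl
theorem L55264 : sm gb N6446 = N4468 := ded_20_1 (flp_d L38458) (flp_b L38450) L55262
theorem L55266 : sm gg N6446 = N4472 := ded_36_2 (flp_d L38494) (flp_g L38453) L55262
theorem L55268 : sm gi N6446 = N6446 := ded_39_2 (flp_d L55262) L38457 L55262
theorem L55269 : sm ge N6446 = N6446 := ded_34_2 (flp_d L55262) (flp_e L38448) L26803 L38448 L55262
theorem L55270 : sm gf N4467 = N6447 := rfl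
theorem L55272 : sm gb N6447 = N4469 := ded_22_1 (flp_f L38466) (flp_b L38450) L55270
theorem L55274 : sm gc N6447 = N6447 := ded_29_1 (flp_f L55270) L38452 L55270
theorem L55275 : sm gh N6447 = N4509 := ded_47_2 (flp_f L38829) (flp_h L38455) L55270
theorem L55277 : sm gi N6447 = N6447 := ded_48_2 (flp_f L55270) L38457 L55270
theorem L55278 : sm gf N4468 = N6448 := rfl
theorem L55280 : sm ga N6448 = N6448 := ded_14_1 (flp_f L55278) L38460 L55278
theorem L55281 : sm gc N6448 = N6448 := ded_29_1 (flp_f L55278) L38464 L55278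
theorem L55282 : sm gd N6448 = N4469 := ded_35_1 (flp_f L38466) L38458 L55278
theorem L55284 : sm gi N6448 = N6448 := ded_48_2 (flp_f L55278) L38463 L55278
theorem L55285 : sm gh N4468 = N6449 := rfl
theorem L55287 : sm ga N6449 = N6449 := ded_17_1 (flp_h L55285) L38460 L55285
theorem L55288 : sm gc N6449 = N6449 := ded_32_1 (flp_h L55285) L38464 L55285
theorem L55289 : sm ge N6449 = N6449 := ded_43_1 (flp_h L55285) L38465 L55285
theorem L55290 : sm gg N6449 = N4475 := ded_50_1 (flp_h L38519) (flp_g L38461) L55285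
theorem L55292 : sm gd N6449 = N4511 := ded_38_1 (flp_h L38841) (flp_d L27053) (flp_h L26817) L38458 L55285
theorem L55294 : sm gg N4469 = N6450 := rfl
theorem L55296 : sm ga N6450 = N6450 := ded_15_1 (flp_g L55294) L38468 L55294
theorem L55297 : sm gc N6450 = N4470 := ded_30_1 (flp_g L38474) (flp_c L38469) L55294
theorem L55299 : sm gh N6450 = N4512 := ded_50_2 (flp_g L38850) (flp_h L38471) L55294
theorem L55301 : sm gi N6450 = N6450 := ded_51_2 (flp_g L55294) L38473 L55294
theorem L55302 : sm gf N6450 = N4476 := ded_45_1 (flp_g L38527) (flp_f L26854) (flp_g L26815) L38466 L55294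
theorem L55304 : sm gj N4470 = N6451 := rfl
theorem L55306 : sm ga N6451 = N6451 := ded_16_1 (flp_j L55304) L38476 L55304
theorem L55307 : sm gb N6451 = N6451 := ded_24_1 (flp_j L55304) L38477 L55304
theorem L55308 : sm gd N6451 = N6451 := ded_37_1 (flp_j L55304) L38478 L55304
theorem L55309 : sm gf N6451 = N4477 := ded_46_1 (flp_j L38536) (flp_f L38482) L55304
theorem L55311 : sm gh N6451 = N4513 := ded_52_2 (flp_j L38857) (flp_h L38479) L55304
theorem L55313 : sm gi N6451 = N6451 := ded_53_2 (flp_j L55304) L38481 L55304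
theorem L55314 : sm gd N4471 = N6452 := rfl
theorem L55316 : sm ga N6452 = N4472 := ded_12_1 (flp_d L38494) (flp_a L38486) L55314
theorem L55318 : sm gb N6452 = N6452 := ded_20_1 (flp_d L55314) L38488 L55314
theorem L55319 : sm gj N6452 = N6452 := ded_37_2 (flp_d L55314) L38490 L55314
theorem L55320 : sm gi N6452 = N6452 := ded_39_2 (flp_d L55314) L38493 L55314
theorem L55321 : sm ge N6452 = N6452 := ded_34_2 (flp_d L55314) (flp_e L38484) L26831 L38484 L55314
theorem L55322 : sm gf N4471 = N6453 := rfl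
theorem L55324 : sm ga N6453 = N4473 := ded_14_1 (flp_f L38501) (flp_a L38486) L55322
theorem L55326 : sm gb N6453 = N6453 := ded_22_1 (flp_f L55322) L38488 L55322
theorem L55327 : sm gc N6453 = N6453 := ded_29_1 (flp_f L55322) L38489 L55322
theorem L55328 : sm gj N6453 = N6453 := ded_46_2 (flp_f L55322) L38490 L55322
theorem L55329 : sm gh N6453 = N4522 := ded_47_2 (flp_f L38941) (flp_h L38491) L55322
theorem L55331 : sm gi N6453 = N6453 := ded_48_2 (flp_f L55322) L38493 L55322
theorem L55332 : sm ge N6453 = N6453 := ded_40_1 (flp_f L55322) (flp_e L38484) L26832 L38484 L55322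
theorem L55333 : sm gc N4472 = N6454 := rfl
theorem L55335 : sm ge N6454 = N6454 := ded_28_2 (flp_c L55333) L38500 L55333
theorem L55336 : sm gj N6454 = N6454 := ded_31_2 (flp_c L55333) L38498 L55333
theorem L55337 : sm gi N6454 = N6454 := ded_33_2 (flp_c L55333) L38499 L55333
theorem L55338 : sm gb N6454 = N6454 := ded_19_1 (flp_c L55333) L38496 L26852 (flp_b L38496) L55333
theorem L55339 : sm gd N6454 = N6454 := ded_27_2 (flp_c L55333) (flp_d L38494) L26842 L38494 L55333
theorem L55340 : sm gf N4472 = N6455 := rfl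
theorem L55342 : sm gb N6455 = N4474 := ded_22_1 (flp_f L38511) (flp_b L38496) L55340
theorem L55344 : sm gd N6455 = N4473 := ded_35_1 (flp_f L38501) L38494 L55340
theorem L55346 : sm gj N6455 = N6455 := ded_46_2 (flp_f L55340) L38498 L55340
theorem L55347 : sm gi N6455 = N6455 := ded_48_2 (flp_f L55340) L38499 L55340
theorem L55348 : sm gh N4472 = N6456 := rfl
theorem L55350 : sm gb N6456 = N4475 := ded_25_1 (flp_h L38519) (flp_b L38496) L55348
theorem L55352 : sm ge N6456 = N6456 := ded_43_1 (flp_h L55348) L38500 L55348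
theorem L55353 : sm gj N6456 = N6456 := ded_52_1 (flp_h L55348) L38498 L55348
theorem L55354 : sm gd N6456 = N4525 := ded_38_1 (flp_h L38964) (flp_d L27132) (flp_h L26844) L38494 L55348
theorem L55356 : sm gg N4473 = N6457 := rfl
theorem L55358 : sm gb N6457 = N4476 := ded_23_1 (flp_g L38527) (flp_b L38503) L55356
theorem L55360 : sm gc N6457 = N6457 := ded_30_1 (flp_g L55356) L38505 L55356
theorem L55361 : sm ge N6457 = N6457 := ded_41_1 (flp_g L55356) L38510 L55356
theorem L55362 : sm gh N6457 = N4526 := ded_50_2 (flp_g L38971) (flp_h L38507) L55356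
theorem L55364 : sm gi N6457 = N6457 := ded_51_2 (flp_g L55356) L38509 L55356
theorem L55365 : sm ge N4474 = N6458 := rfl
theorem L55367 : sm ga N6458 = N6458 := ded_13_1 (flp_e L55365) L38513 L55365
theorem L55368 : sm gc N6458 = N6458 := ded_28_1 (flp_e L55365) L38514 L55365
theorem L55369 : sm gj N6458 = N6458 := ded_42_2 (flp_e L55365) L38517 L55365
theorem L55370 : sm gi N6458 = N6458 := ded_44_2 (flp_e L55365) L38518 L55365
theorem L55371 : sm gd N6458 = N6458 := ded_34_1 (flp_e L55365) L38515 L26863 (flp_d L38515) L55365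
theorem L55372 : sm gf N6458 = N6458 := ded_40_2 (flp_e L55365) (flp_f L38511) L26853 L38511 L55365
theorem L55373 : sm gg N4474 = N6459 := rfl
theorem L55375 : sm ga N6459 = N6459 := ded_15_1 (flp_g L55373) L38513 L55373
theorem L55376 : sm gc N6459 = N6459 := ded_30_1 (flp_g L55373) L38514 L55373
theorem L55377 : sm gd N6459 = N4476 := ded_36_1 (flp_g L38527) (flp_d L38515) L55373
theorem L55379 : sm gi N6459 = N6459 := ded_51_2 (flp_g L55373) L38518 L55373
theorem L55380 : sm gh N4474 = N6460 := rfl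
theorem L55382 : sm ga N6460 = N6460 := ded_17_1 (flp_h L55380) L38513 L55380
theorem L55383 : sm gc N6460 = N6460 := ded_32_1 (flp_h L55380) L38514 L55380
theorem L55384 : sm gf N6460 = N4475 := ded_47_1 (flp_h L38519) L38511 L55380
theorem L55386 : sm gj N6460 = N6460 := ded_52_1 (flp_h L55380) L38517 L55380
theorem L55387 : sm gd N6460 = N4529 := ded_38_1 (flp_h L38993) L27151 (flp_h L26860) (flp_d L38515) L55380
theorem L55389 : sm gi N4475 = N6461 := rfl
theorem L55391 : sm ga N6461 = N6461 := ded_18_1 (flp_i L55389) L38521 L55389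
theorem L55392 : sm gc N6461 = N6461 := ded_33_1 (flp_i L55389) L38522 L55389
theorem L55393 : sm gd N6461 = N4530 := ded_39_1 (flp_i L39001) (flp_d L38525) L55389
theorem L55395 : sm ge N6461 = N6461 := ded_44_1 (flp_i L55389) L38523 L55389
theorem L55396 : sm gj N6461 = N6461 := ded_53_1 (flp_i L55389) L38524 L55389
theorem L55397 : sm gh N6461 = N6461 := ded_54_1 (flp_i L55389) (flp_h L38519) L26851 L38519 L55389
theorem L55398 : sm gj N4476 = N6462 := rfl
theorem L55400 : sm ga N6462 = N6462 := ded_16_1 (flp_j L55398) L38529 L55398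
theorem L55401 : sm gc N6462 = N4477 := ded_31_1 (flp_j L38536) (flp_c L38530) L55398
theorem L55403 : sm ge N6462 = N6462 := ded_42_1 (flp_j L55398) L38532 L55398
theorem L55404 : sm gh N6462 = N4531 := ded_52_2 (flp_j L39009) (flp_h L38533) L55398
theorem L55406 : sm gi N6462 = N6462 := ded_53_2 (flp_j L55398) L38535 L55398
theorem L55407 : sm gg N6462 = N6462 := ded_49_1 (flp_j L55398) (flp_g L38527) L26859 L38527 L55398
theorem L55408 : sm gc N4478 = N6463 := rfl
theorem L55410 : sm ga N6463 = N6463 := ded_11_1 (flp_c L55408) L38548 L55408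
theorem L55411 : sm gf N6463 = N6463 := ded_29_2 (flp_c L55408) L38550 L55408
theorem L55412 : sm gg N6463 = N4481 := ded_30_2 (flp_c L38574) (flp_g L38551) L55408
theorem L55414 : sm gj N6463 = N6463 := ded_31_2 (flp_c L55408) L38553 L55408
theorem L55415 : sm gh N6463 = N6463 := ded_32_2 (flp_c L55408) L38556 L55408
theorem L55416 : sm gi N6463 = N4479 := ded_33_2 (flp_c L38557) (flp_i L38554) L55408
theorem L55418 : sm gd N6463 = N4666 := ded_27_2 (flp_c L40177) (flp_d L27962) (flp_c L26877) L38546 L55408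
theorem L55420 : sm ge N4478 = N6464 := rfl
theorem L55422 : sm ga N6464 = N6464 := ded_13_1 (flp_e L55420) L38548 L55420
theorem L55423 : sm gb N6464 = N6464 := ded_21_1 (flp_e L55420) L38549 L55420
theorem L55424 : sm gg N6464 = N4482 := ded_41_2 (flp_e L38586) (flp_g L38551) L55420
theorem L55426 : sm gj N6464 = N6464 := ded_42_2 (flp_e L55420) L38553 L55420
theorem L55427 : sm gh N6464 = N6464 := ded_43_2 (flp_e L55420) L38556 L55420
theorem L55428 : sm gi N6464 = N4480 := ded_44_2 (flp_e L38566) (flp_i L38554) L55420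
theorem L55430 : sm gd N6464 = N6464 := ded_34_1 (flp_e L55420) (flp_d L38546) L26879 L38546 L55420
theorem L55431 : sm gb N4479 = N6465 := rfl
theorem L55433 : sm gd N6465 = N4668 := ded_20_2 (flp_b L40197) (flp_d L38564) L55431
theorem L55435 : sm gf N6465 = N6465 := ded_22_2 (flp_b L55431) L38560 L55431
theorem L55436 : sm gg N6465 = N4483 := ded_23_2 (flp_b L38596) (flp_g L38561) L55431
theorem L55438 : sm gj N6465 = N6465 := ded_24_2 (flp_b L55431) L38563 L55431
theorem L55439 : sm gc N6465 = N6465 := ded_19_2 (flp_b L55431) (flp_c L38557) L26889 L38557 L55431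
theorem L55440 : sm ge N4479 = N6466 := rfl
theorem L55442 : sm ga N6466 = N6466 := ded_13_1 (flp_e L55440) L38559 L55440
theorem L55443 : sm gc N6466 = N4480 := ded_28_1 (flp_e L38566) L38557 L55440
theorem L55445 : sm gg N6466 = N4484 := ded_41_2 (flp_e L38605) (flp_g L38561) L55440
theorem L55447 : sm gj N6466 = N6466 := ded_42_2 (flp_e L55440) L38563 L55440
theorem L55448 : sm gf N4480 = N6467 := rfl
theorem L55450 : sm ga N6467 = N6467 := ded_14_1 (flp_f L55448) L38568 L55448
theorem L55451 : sm gb N6467 = N6467 := ded_22_1 (flp_f L55448) L38569 L55448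
theorem L55452 : sm gd N6467 = N6467 := ded_35_1 (flp_f L55448) L38573 L55448
theorem L55453 : sm gj N6467 = N6467 := ded_46_2 (flp_f L55448) L38572 L55448
theorem L55454 : sm ge N6467 = N6467 := ded_40_1 (flp_f L55448) (flp_e L38566) L26890 L38566 L55448
theorem L55455 : sm gb N4481 = N6468 := rfl
theorem L55457 : sm gd N6468 = N4674 := ded_20_2 (flp_b L40255) (flp_d L38584) L55455
theorem L55459 : sm gf N6468 = N4494 := ded_22_2 (flp_b L38688) (flp_f L38577) L55455
theorem L55461 : sm gj N6468 = N4486 := ded_24_2 (flp_b L38621) (flp_j L38579) L55455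
theorem L55463 : sm gh N6468 = N6468 := ded_25_2 (flp_b L55455) L38581 L55455
theorem L55464 : sm gi N6468 = N4483 := ded_26_2 (flp_b L38596) (flp_i L38582) L55455
theorem L55466 : sm gc N6468 = N6468 := ded_19_2 (flp_b L55455) (flp_c L38574) L26897 L38574 L55455
theorem L55467 : sm ge N4481 = N6469 := rfl
theorem L55469 : sm ga N6469 = N6469 := ded_13_1 (flp_e L55467) L38576 L55467
theorem L55470 : sm gc N6469 = N4482 := ded_28_1 (flp_e L38586) L38574 L55467
theorem L55472 : sm gj N6469 = N4487 := ded_42_2 (flp_e L38632) (flp_j L38579) L55467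
theorem L55474 : sm gh N6469 = N6469 := ded_43_2 (flp_e L55467) L38581 L55467
theorem L55475 : sm gi N6469 = N4484 := ded_44_2 (flp_e L38605) (flp_i L38582) L55467
theorem L55477 : sm gf N4482 = N6470 := rfl
theorem L55479 : sm ga N6470 = N6470 := ded_14_1 (flp_f L55477) L38588 L55477
theorem L55480 : sm gb N6470 = N6470 := ded_22_1 (flp_f L55477) L38589 L55477
theorem L55481 : sm gd N6470 = N6470 := ded_35_1 (flp_f L55477) L38595 L55477
theorem L55482 : sm gj N6470 = N4488 := ded_46_2 (flp_f L38641) (flp_j L38590) L55477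
theorem L55484 : sm gh N6470 = N6470 := ded_47_2 (flp_f L55477) L38592 L55477
theorem L55485 : sm gi N6470 = N4485 := ded_48_2 (flp_f L38612) (flp_i L38593) L55477
theorem L55487 : sm ge N6470 = N4496 := ded_40_1 (flp_f L38710) (flp_e L26973) (flp_f L26898) L38586 L55477
theorem L55489 : sm ga N4483 = N6471 := rfl
theorem L55491 : sm gc N6471 = N6471 := ded_11_2 (flp_a L55489) L38604 L55489
theorem L55492 : sm gd N6471 = N4677 := ded_12_2 (flp_a L40286) (flp_d L38598) L55489
theorem L55494 : sm gf N6471 = N4497 := ded_14_2 (flp_a L38721) (flp_f L38600) L55489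
theorem L55496 : sm gj N6471 = N4489 := ded_16_2 (flp_a L38651) (flp_j L38602) L55489
theorem L55498 : sm gb N6471 = N6471 := ded_10_2 (flp_a L55489) (flp_b L38596) L26907 L38596 L55489
theorem L55499 : sm ge N4483 = N6472 := rfl
theorem L55501 : sm gb N6472 = N4484 := ded_21_1 (flp_e L38605) L38596 L55499
theorem L55503 : sm gc N6472 = N6472 := ded_28_1 (flp_e L55499) L38604 L55499
theorem L55504 : sm gj N6472 = N4490 := ded_42_2 (flp_e L38660) (flp_j L38602) L55499
theorem L55506 : sm gd N4484 = N6473 := rfl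
theorem L55508 : sm ga N6473 = N6473 := ded_12_1 (flp_d L55506) L38607 L55506
theorem L55509 : sm gj N6473 = N4491 := ded_37_2 (flp_d L38666) (flp_j L38610) L55506
theorem L55511 : sm gc N6473 = N6473 := ded_27_1 (flp_d L55506) L38608 L26920 (flp_c L38608) L55506
theorem L55512 : sm ge N6473 = N4679 := ded_34_2 (flp_d L40305) (flp_e L28043) (flp_d L26912) L38605 L55506
theorem L55514 : sm gf N4484 = N6474 := rfl
theorem L55516 : sm ga N6474 = N6474 := ded_14_1 (flp_f L55514) L38607 L55514
theorem L55517 : sm gc N6474 = N4485 := ded_29_1 (flp_f L38612) (flp_c L38608) L55514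
theorem L55519 : sm gj N6474 = N4492 := ded_46_2 (flp_f L38673) (flp_j L38610) L55514
theorem L55521 : sm ge N6474 = N4500 := ded_40_1 (flp_f L38748) (flp_e L26993) (flp_f L26908) L38605 L55514
theorem L55523 : sm gg N4485 = N6475 := rfl
theorem L55525 : sm ga N6475 = N6475 := ded_15_1 (flp_g L55523) L38614 L55523
theorem L55526 : sm gb N6475 = N6475 := ded_23_1 (flp_g L55523) L38615 L55523
theorem L55527 : sm gd N6475 = N6475 := ded_36_1 (flp_g L55523) L38616 L55523
theorem L55528 : sm ge N6475 = N4501 := ded_41_1 (flp_g L38755) (flp_e L38619) L55523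
theorem L55530 : sm ga N4486 = N6476 := rfl
theorem L55533 : sm gd N6476 = N4687 := ded_12_2 (flp_a L40378) (flp_d L38623) L55530
theorem L55535 : sm gf N6476 = N4502 := ded_14_2 (flp_a L38762) (flp_f L38625) L55530
theorem L55539 : sm gi N6476 = N4489 := ded_18_2 (flp_a L38651) (flp_i L38629) L55530
theorem L55542 : sm ge N4486 = N6477 := rfl
theorem L55544 : sm gb N6477 = N4487 := ded_21_1 (flp_e L38632) L38621 L55542
theorem L55546 : sm gc N6477 = N6477 := ded_28_1 (flp_e L55542) L38631 L55542
theorem L55547 : sm gg N6477 = N6477 := ded_41_2 (flp_e L55542) L38627 L55542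
theorem L55548 : sm gh N6477 = N6477 := ded_43_2 (flp_e L55542) L38628 L55542
theorem L55549 : sm gi N6477 = N4490 := ded_44_2 (flp_e L38660) (flp_i L38629) L55542
theorem L55551 : sm gd N4487 = N6478 := rfl
theorem L55553 : sm ga N6478 = N6478 := ded_12_1 (flp_d L55551) L38634 L55551
theorem L55554 : sm gg N6478 = N6478 := ded_36_2 (flp_d L55551) L38637 L55551
theorem L55555 : sm gi N6478 = N4491 := ded_39_2 (flp_d L38666) (flp_i L38639) L55551
theorem L55557 : sm gc N6478 = N6478 := ded_27_1 (flp_d L55551) L38635 L26940 (flp_c L38635) L55551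
theorem L55558 : sm ge N6478 = N4689 := ded_34_2 (flp_d L40397) (flp_e L28099) (flp_d L26930) L38632 L55551
theorem L55560 : sm gf N4487 = N6479 := rfl
theorem L55562 : sm ga N6479 = N6479 := ded_14_1 (flp_f L55560) L38634 L55560
theorem L55563 : sm gc N6479 = N4488 := ded_29_1 (flp_f L38641) (flp_c L38635) L55560
theorem L55565 : sm gh N6479 = N6479 := ded_47_2 (flp_f L55560) L38638 L55560
theorem L55566 : sm gi N6479 = N4492 := ded_48_2 (flp_f L38673) (flp_i L38639) L55560
theorem L55568 : sm ge N6479 = N4505 := ded_40_1 (flp_f L38794) (flp_e L27019) (flp_f L26924) L38632 L55560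
theorem L55570 : sm gg N4488 = N6480 := rfl
theorem L55572 : sm ga N6480 = N6480 := ded_15_1 (flp_g L55570) L38643 L55570
theorem L55573 : sm gb N6480 = N6480 := ded_23_1 (flp_g L55570) L38644 L55570
theorem L55574 : sm gd N6480 = N6480 := ded_36_1 (flp_g L55570) L38645 L55570
theorem L55575 : sm ge N6480 = N4506 := ded_41_1 (flp_g L38802) (flp_e L38649) L55570
theorem L55577 : sm gh N6480 = N6480 := ded_50_2 (flp_g L55570) L38646 L55570
theorem L55578 : sm gi N6480 = N4493 := ded_51_2 (flp_g L38680) (flp_i L38647) L55570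
theorem L55580 : sm gf N6480 = N6480 := ded_45_1 (flp_g L55570) (flp_f L38641) L26936 L38641 L55570
theorem L55581 : sm ge N4489 = N6481 := rfl
theorem L55583 : sm ga N6481 = N4490 := ded_13_1 (flp_e L38660) L38651 L55581
theorem L55585 : sm gb N6481 = N6481 := ded_21_1 (flp_e L55581) L38659 L55581
theorem L55586 : sm gc N6481 = N6481 := ded_28_1 (flp_e L55581) L38653 L55581
theorem L55587 : sm gg N6481 = N6481 := ded_41_2 (flp_e L55581) L38658 L55581
theorem L55588 : sm gd N4490 = N6482 := rfl
theorem L55590 : sm gb N6482 = N4491 := ded_20_1 (flp_d L38666) (flp_b L38662) L55588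
theorem L55592 : sm gg N6482 = N6482 := ded_36_2 (flp_d L55588) L38665 L55588
theorem L55593 : sm ge N6482 = N4693 := ded_34_2 (flp_d L40433) (flp_e L28126) (flp_d L26943) L38660 L55588
theorem L55595 : sm gf N4490 = N6483 := rfl
theorem L55597 : sm gb N6483 = N4492 := ded_22_1 (flp_f L38673) (flp_b L38662) L55595
theorem L55599 : sm gc N6483 = N6483 := ded_29_1 (flp_f L55595) L38664 L55595
theorem L55600 : sm ge N6483 = N4509 := ded_40_1 (flp_f L38829) (flp_e L27046) (flp_f L26945) L38660 L55595
theorem L55602 : sm gf N4491 = N6484 := rfl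
theorem L55604 : sm ga N6484 = N6484 := ded_14_1 (flp_f L55602) L38668 L55602
theorem L55605 : sm gc N6484 = N6484 := ded_29_1 (flp_f L55602) L38670 L55602
theorem L55606 : sm gd N6484 = N4492 := ded_35_1 (flp_f L38673) L38666 L55602
theorem L55608 : sm gh N4491 = N6485 := rfl
theorem L55610 : sm ga N6485 = N6485 := ded_17_1 (flp_h L55608) L38668 L55608
theorem L55611 : sm gc N6485 = N6485 := ded_32_1 (flp_h L55608) L38670 L55608
theorem L55612 : sm ge N6485 = N4696 := ded_43_1 (flp_h L40453) (flp_e L38671) L55608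
theorem L55614 : sm gg N6485 = N6485 := ded_50_1 (flp_h L55608) L38669 L55608
theorem L55615 : sm gg N4492 = N6486 := rfl
theorem L55617 : sm ga N6486 = N6486 := ded_15_1 (flp_g L55615) L38675 L55615
theorem L55618 : sm gc N6486 = N4493 := ded_30_1 (flp_g L38680) (flp_c L38676) L55615
theorem L55620 : sm ge N6486 = N4512 := ded_41_1 (flp_g L38850) (flp_e L38678) L55615
theorem L55622 : sm gf N6486 = N6486 := ded_45_1 (flp_g L55615) (flp_f L38673) L26954 L38673 L55615
theorem L55623 : sm gj N4493 = N6487 := rfl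
theorem L55625 : sm ga N6487 = N6487 := ded_16_1 (flp_j L55623) L38682 L55623
theorem L55626 : sm gb N6487 = N6487 := ded_24_1 (flp_j L55623) L38683 L55623
theorem L55627 : sm gd N6487 = N6487 := ded_37_1 (flp_j L55623) L38684 L55623
theorem L55628 : sm ge N6487 = N4513 := ded_42_1 (flp_j L38857) (flp_e L38685) L55623
theorem L55630 : sm gf N6487 = N6487 := ded_46_1 (flp_j L55623) L38687 L55623
theorem L55631 : sm ga N4494 = N6488 := rfl
theorem L55634 : sm gd N6488 = N4702 := ded_12_2 (flp_a L40511) (flp_d L38690) L55631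
theorem L55637 : sm gj N6488 = N4502 := ded_16_2 (flp_a L38762) (flp_j L38693) L55631
theorem L55640 : sm gi N6488 = N4497 := ded_18_2 (flp_a L38721) (flp_i L38696) L55631
theorem L55643 : sm ge N4494 = N6489 := rfl
theorem L55645 : sm gb N6489 = N4495 := ded_21_1 (flp_e L38699) L38688 L55643
theorem L55647 : sm gc N6489 = N6489 := ded_28_1 (flp_e L55643) L38698 L55643
theorem L55648 : sm gg N6489 = N6489 := ded_41_2 (flp_e L55643) L38692 L55643
theorem L55649 : sm gj N6489 = N4503 := ded_42_2 (flp_e L38773) (flp_j L38693) L55643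
theorem L55651 : sm gh N6489 = N6489 := ded_43_2 (flp_e L55643) L38695 L55643
theorem L55652 : sm gi N6489 = N4498 := ded_44_2 (flp_e L38730) (flp_i L38696) L55643
theorem L55654 : sm gd N4495 = N6490 := rfl
theorem L55656 : sm ga N6490 = N6490 := ded_12_1 (flp_d L55654) L38701 L55654
theorem L55657 : sm gg N6490 = N6490 := ded_36_2 (flp_d L55654) L38704 L55654
theorem L55658 : sm gj N6490 = N4504 := ded_37_2 (flp_d L38783) (flp_j L38705) L55654
theorem L55660 : sm gi N6490 = N4499 := ded_39_2 (flp_d L38738) (flp_i L38708) L55654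
theorem L55662 : sm gc N6490 = N4537 := ded_27_1 (flp_d L39071) L27212 (flp_d L26983) (flp_c L38702) L55654
theorem L55664 : sm ge N6490 = N4704 := ded_34_2 (flp_d L40532) (flp_e L28188) (flp_d L26971) L38699 L55654
theorem L55666 : sm gf N4495 = N6491 := rfl
theorem L55668 : sm ga N6491 = N6491 := ded_14_1 (flp_f L55666) L38701 L55666
theorem L55669 : sm gc N6491 = N4496 := ded_29_1 (flp_f L38710) (flp_c L38702) L55666
theorem L55671 : sm gj N6491 = N4505 := ded_46_2 (flp_f L38794) (flp_j L38705) L55666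
theorem L55673 : sm gh N6491 = N6491 := ded_47_2 (flp_f L55666) L38707 L55666
theorem L55674 : sm gi N6491 = N4500 := ded_48_2 (flp_f L38748) (flp_i L38708) L55666
theorem L55676 : sm gg N4496 = N6492 := rfl
theorem L55678 : sm ga N6492 = N6492 := ded_15_1 (flp_g L55676) L38712 L55676
theorem L55679 : sm gb N6492 = N6492 := ded_23_1 (flp_g L55676) L38713 L55676
theorem L55680 : sm gd N6492 = N4539 := ded_36_1 (flp_g L39091) (flp_d L38714) L55676
theorem L55682 : sm gh N6492 = N6492 := ded_50_2 (flp_g L55676) L38718 L55676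
theorem L55683 : sm gi N6492 = N4501 := ded_51_2 (flp_g L38755) (flp_i L38719) L55676
theorem L55685 : sm gf N6492 = N6492 := ded_45_1 (flp_g L55676) (flp_f L38710) L26977 L38710 L55676
theorem L55686 : sm ge N4497 = N6493 := rfl
theorem L55688 : sm ga N6493 = N4498 := ded_13_1 (flp_e L38730) L38721 L55686
theorem L55690 : sm gb N6493 = N6493 := ded_21_1 (flp_e L55686) L38729 L55686
theorem L55691 : sm gc N6493 = N6493 := ded_28_1 (flp_e L55686) L38723 L55686
theorem L55692 : sm gg N6493 = N6493 := ded_41_2 (flp_e L55686) L38726 L55686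
theorem L55693 : sm gj N6493 = N4507 := ded_42_2 (flp_e L38813) (flp_j L38727) L55686
theorem L55695 : sm gd N4498 = N6494 := rfl
theorem L55697 : sm gb N6494 = N4499 := ded_20_1 (flp_d L38738) (flp_b L38732) L55695
theorem L55699 : sm gg N6494 = N6494 := ded_36_2 (flp_d L55695) L38735 L55695
theorem L55700 : sm gj N6494 = N4508 := ded_37_2 (flp_d L38821) (flp_j L38736) L55695
theorem L55702 : sm ge N6494 = N4708 := ded_34_2 (flp_d L40572) (flp_e L28218) (flp_d L26987) L38730 L55695
theorem L55704 : sm gf N4498 = N6495 := rfl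
theorem L55706 : sm gb N6495 = N4500 := ded_22_1 (flp_f L38748) (flp_b L38732) L55704
theorem L55708 : sm gc N6495 = N6495 := ded_29_1 (flp_f L55704) L38734 L55704
theorem L55709 : sm gj N6495 = N4509 := ded_46_2 (flp_f L38829) (flp_j L38736) L55704
theorem L55711 : sm gf N4499 = N6496 := rfl
theorem L55713 : sm ga N6496 = N6496 := ded_14_1 (flp_f L55711) L38740 L55711
theorem L55714 : sm gc N6496 = N4543 := ded_29_1 (flp_f L39127) (flp_c L38744) L55711
theorem L55716 : sm gd N6496 = N4500 := ded_35_1 (flp_f L38748) L38738 L55711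
theorem L55718 : sm gj N6496 = N4510 := ded_46_2 (flp_f L38834) (flp_j L38742) L55711
theorem L55720 : sm gh N4499 = N6497 := rfl
theorem L55722 : sm ga N6497 = N6497 := ded_17_1 (flp_h L55720) L38740 L55720
theorem L55723 : sm gc N6497 = N4544 := ded_32_1 (flp_h L39134) (flp_c L38744) L55720
theorem L55725 : sm ge N6497 = N4711 := ded_43_1 (flp_h L40597) (flp_e L38746) L55720
theorem L55727 : sm gg N6497 = N6497 := ded_50_1 (flp_h L55720) L38741 L55720
theorem L55728 : sm gj N6497 = N4511 := ded_52_1 (flp_h L38841) (flp_j L38742) L55720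
theorem L55730 : sm gg N4500 = N6498 := rfl
theorem L55732 : sm ga N6498 = N6498 := ded_15_1 (flp_g L55730) L38750 L55730
theorem L55733 : sm gc N6498 = N4501 := ded_30_1 (flp_g L38755) (flp_c L38751) L55730
theorem L55735 : sm gf N6498 = N6498 := ded_45_1 (flp_g L55730) (flp_f L38748) L26998 L38748 L55730
theorem L55736 : sm gj N4501 = N6499 := rfl
theorem L55738 : sm ga N6499 = N6499 := ded_16_1 (flp_j L55736) L38757 L55736
theorem L55739 : sm gb N6499 = N6499 := ded_24_1 (flp_j L55736) L38758 L55736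
theorem L55740 : sm gd N6499 = N4546 := ded_37_1 (flp_j L39151) (flp_d L38759) L55736
theorem L55742 : sm gf N6499 = N6499 := ded_46_1 (flp_j L55736) L38761 L55736
theorem L55743 : sm gg N6499 = N4513 := ded_49_1 (flp_j L38857) (flp_g L27067) (flp_j L27007) L38755 L55736
theorem L55745 : sm ge N4502 = N6500 := rfl
theorem L55747 : sm ga N6500 = N4503 := ded_13_1 (flp_e L38773) L38762 L55745
theorem L55751 : sm gg N6500 = N4514 := ded_41_2 (flp_e L38865) (flp_g L38767) L55745
theorem L55754 : sm gi N6500 = N4507 := ded_44_2 (flp_e L38813) (flp_i L38770) L55745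
theorem L55756 : sm gd N4503 = N6501 := rfl
theorem L55758 : sm gb N6501 = N4504 := ded_20_1 (flp_d L38783) (flp_b L38775) L55756
theorem L55760 : sm gg N6501 = N4515 := ded_36_2 (flp_d L38875) (flp_g L38778) L55756
theorem L55762 : sm gi N6501 = N4508 := ded_39_2 (flp_d L38821) (flp_i L38781) L55756
theorem L55764 : sm ge N6501 = N4720 := ded_34_2 (flp_d L40684) (flp_e L28291) (flp_d L27011) L38773 L55756
theorem L55766 : sm gf N4503 = N6502 := rfl
theorem L55768 : sm gb N6502 = N4505 := ded_22_1 (flp_f L38794) (flp_b L38775) L55766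
theorem L55770 : sm gc N6502 = N6502 := ded_29_1 (flp_f L55766) L38777 L55766
theorem L55771 : sm gh N6502 = N6502 := ded_47_2 (flp_f L55766) L38780 L55766
theorem L55772 : sm gi N6502 = N4509 := ded_48_2 (flp_f L38829) (flp_i L38781) L55766
theorem L55774 : sm gf N4504 = N6503 := rfl
theorem L55776 : sm ga N6503 = N6503 := ded_14_1 (flp_f L55774) L38785 L55774
theorem L55777 : sm gc N6503 = N4555 := ded_29_1 (flp_f L39237) (flp_c L38790) L55774
theorem L55779 : sm gd N6503 = N4505 := ded_35_1 (flp_f L38794) L38783 L55774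
theorem L55781 : sm gi N6503 = N4510 := ded_48_2 (flp_f L38834) (flp_i L38788) L55774
theorem L55783 : sm gh N4504 = N6504 := rfl
theorem L55785 : sm ga N6504 = N6504 := ded_17_1 (flp_h L55783) L38785 L55783
theorem L55786 : sm gc N6504 = N4556 := ded_32_1 (flp_h L39244) (flp_c L38790) L55783
theorem L55788 : sm ge N6504 = N4723 := ded_43_1 (flp_h L40709) (flp_e L38792) L55783
theorem L55790 : sm gg N6504 = N4518 := ded_50_1 (flp_h L38904) (flp_g L38786) L55783
theorem L55792 : sm gd N6504 = N6504 := ded_38_1 (flp_h L55783) (flp_d L38783) L27026 L38783 L55783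
theorem L55793 : sm gg N4505 = N6505 := rfl
theorem L55795 : sm ga N6505 = N6505 := ded_15_1 (flp_g L55793) L38796 L55793
theorem L55796 : sm gc N6505 = N4506 := ded_30_1 (flp_g L38802) (flp_c L38797) L55793
theorem L55798 : sm gh N6505 = N6505 := ded_50_2 (flp_g L55793) L38799 L55793
theorem L55799 : sm gi N6505 = N4512 := ded_51_2 (flp_g L38850) (flp_i L38800) L55793
theorem L55801 : sm gf N6505 = N4519 := ded_45_1 (flp_g L38913) (flp_f L27105) (flp_g L27024) L38794 L55793
theorem L55803 : sm gj N4506 = N6506 := rfl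
theorem L55805 : sm ga N6506 = N6506 := ded_16_1 (flp_j L55803) L38804 L55803
theorem L55806 : sm gb N6506 = N6506 := ded_24_1 (flp_j L55803) L38805 L55803
theorem L55807 : sm gd N6506 = N4558 := ded_37_1 (flp_j L39261) (flp_d L38806) L55803
theorem L55809 : sm gf N6506 = N4520 := ded_46_1 (flp_j L38922) (flp_f L38811) L55803
theorem L55811 : sm gh N6506 = N6506 := ded_52_2 (flp_j L55803) L38808 L55803
theorem L55812 : sm gi N6506 = N4513 := ded_53_2 (flp_j L38857) (flp_i L38809) L55803
theorem L55814 : sm gd N4507 = N6507 := rfl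
theorem L55816 : sm ga N6507 = N4508 := ded_12_1 (flp_d L38821) (flp_a L38815) L55814
theorem L55818 : sm gb N6507 = N6507 := ded_20_1 (flp_d L55814) L38817 L55814
theorem L55819 : sm gg N6507 = N4521 := ded_36_2 (flp_d L38933) (flp_g L38819) L55814
theorem L55821 : sm ge N6507 = N4726 := ded_34_2 (flp_d L40736) (flp_e L28328) (flp_d L27041) L38813 L55814
theorem L55823 : sm gf N4507 = N6508 := rfl
theorem L55825 : sm ga N6508 = N4509 := ded_14_1 (flp_f L38829) (flp_a L38815) L55823
theorem L55827 : sm gb N6508 = N6508 := ded_22_1 (flp_f L55823) L38817 L55823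
theorem L55828 : sm gc N6508 = N6508 := ded_29_1 (flp_f L55823) L38818 L55823
theorem L55829 : sm gc N4508 = N6509 := rfl
theorem L55831 : sm ge N6509 = N4728 := ded_28_2 (flp_c L40751) (flp_e L38827) L55829
theorem L55833 : sm gg N6509 = N4523 := ded_30_2 (flp_c L38949) (flp_g L38825) L55829
theorem L55835 : sm gb N6509 = N4561 := ded_19_1 (flp_c L39287) L27358 (flp_c L27058) (flp_b L38823) L55829
theorem L55837 : sm gd N6509 = N6509 := ded_27_2 (flp_c L55829) (flp_d L38821) L27050 L38821 L55829
theorem L55838 : sm gf N4508 = N6510 := rfl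
theorem L55840 : sm gb N6510 = N4510 := ded_22_1 (flp_f L38834) (flp_b L38823) L55838
theorem L55842 : sm gd N6510 = N4509 := ded_35_1 (flp_f L38829) L38821 L55838
theorem L55844 : sm gh N4508 = N6511 := rfl
theorem L55846 : sm gb N6511 = N4511 := ded_25_1 (flp_h L38841) (flp_b L38823) L55844
theorem L55848 : sm ge N6511 = N4730 := ded_43_1 (flp_h L40765) (flp_e L38827) L55844
theorem L55850 : sm gg N6511 = N4525 := ded_50_1 (flp_h L38964) (flp_g L38825) L55844
theorem L55852 : sm gg N4509 = N6512 := rfl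
theorem L55854 : sm gb N6512 = N4512 := ded_23_1 (flp_g L38850) (flp_b L38831) L55852
theorem L55856 : sm gc N6512 = N6512 := ded_30_1 (flp_g L55852) L38833 L55852
theorem L55857 : sm gf N6512 = N4526 := ded_45_1 (flp_g L38971) (flp_f L27139) (flp_g L27051) L38829 L55852
theorem L55859 : sm ge N4510 = N6513 := rfl
theorem L55861 : sm ga N6513 = N6513 := ded_13_1 (flp_e L55859) L38836 L55859
theorem L55862 : sm gc N6513 = N4565 := ded_28_1 (flp_e L39318) (flp_c L38837) L55859
theorem L55864 : sm gf N6513 = N4732 := ded_40_2 (flp_e L40781) (flp_f L28351) (flp_e L27060) L38834 L55859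
theorem L55866 : sm gg N4510 = N6514 := rfl
theorem L55868 : sm ga N6514 = N6514 := ded_15_1 (flp_g L55866) L38836 L55866
theorem L55869 : sm gc N6514 = N4566 := ded_30_1 (flp_g L39324) (flp_c L38837) L55866
theorem L55871 : sm gd N6514 = N4512 := ded_36_1 (flp_g L38850) (flp_d L38839) L55866
theorem L55873 : sm gf N6514 = N4528 := ded_45_1 (flp_g L38986) (flp_f L27146) (flp_g L27056) L38834 L55866
theorem L55875 : sm gh N4510 = N6515 := rfl
theorem L55877 : sm ga N6515 = N6515 := ded_17_1 (flp_h L55875) L38836 L55875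
theorem L55878 : sm gc N6515 = N4567 := ded_32_1 (flp_h L39331) (flp_c L38837) L55875
theorem L55880 : sm gf N6515 = N4511 := ded_47_1 (flp_h L38841) L38834 L55875
theorem L55882 : sm gi N4511 = N6516 := rfl
theorem L55884 : sm ga N6516 = N6516 := ded_18_1 (flp_i L55882) L38843 L55882
theorem L55885 : sm gc N6516 = N4568 := ded_33_1 (flp_i L39337) (flp_c L38844) L55882
theorem L55887 : sm ge N6516 = N4735 := ded_44_1 (flp_i L40803) (flp_e L38846) L55882
theorem L55889 : sm gg N6516 = N4530 := ded_51_1 (flp_i L39001) (flp_g L38848) L55882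
theorem L55891 : sm gj N4512 = N6517 := rfl
theorem L55893 : sm ga N6517 = N6517 := ded_16_1 (flp_j L55891) L38852 L55891
theorem L55894 : sm gc N6517 = N4513 := ded_31_1 (flp_j L38857) (flp_c L38853) L55891
theorem L55896 : sm gf N6517 = N4531 := ded_46_1 (flp_j L39009) (flp_f L38855) L55891
theorem L55898 : sm gd N4514 = N6518 := rfl
theorem L55900 : sm ga N6518 = N4515 := ded_12_1 (flp_d L38875) (flp_a L38867) L55898
theorem L55904 : sm gi N6518 = N4521 := ded_39_2 (flp_d L38933) (flp_i L38873) L55898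
theorem L55906 : sm ge N6518 = N4744 := ded_34_2 (flp_d L40884) (flp_e L28432) (flp_d L27078) L38865 L55898
theorem L55908 : sm gf N4514 = N6519 := rfl
theorem L55910 : sm ga N6519 = N4516 := ded_14_1 (flp_f L38884) (flp_a L38867) L55908
theorem L55916 : sm gi N6519 = N4522 := ded_48_2 (flp_f L38941) (flp_i L38873) L55908
theorem L55919 : sm gc N4515 = N6520 := rfl
theorem L55921 : sm ge N6520 = N4746 := ded_28_2 (flp_c L40903) (flp_e L38882) L55919
theorem L55923 : sm gj N6520 = N6520 := ded_31_2 (flp_c L55919) L38879 L55919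
theorem L55924 : sm gi N6520 = N4523 := ded_33_2 (flp_c L38949) (flp_i L38880) L55919
theorem L55926 : sm gb N6520 = N4579 := ded_19_1 (flp_c L39440) L27460 (flp_c L27101) (flp_b L38877) L55919
theorem L55928 : sm gd N6520 = N6520 := ded_27_2 (flp_c L55919) (flp_d L38875) L27090 L38875 L55919
theorem L55929 : sm gf N4515 = N6521 := rfl
theorem L55931 : sm gb N6521 = N4517 := ded_22_1 (flp_f L38894) (flp_b L38877) L55929
theorem L55933 : sm gd N6521 = N4516 := ded_35_1 (flp_f L38884) L38875 L55929
theorem L55935 : sm gj N6521 = N6521 := ded_46_2 (flp_f L55929) L38879 L55929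
theorem L55936 : sm gi N6521 = N4524 := ded_48_2 (flp_f L38957) (flp_i L38880) L55929
theorem L55938 : sm gh N4515 = N6522 := rfl
theorem L55940 : sm gb N6522 = N4518 := ded_25_1 (flp_h L38904) (flp_b L38877) L55938
theorem L55942 : sm ge N6522 = N4748 := ded_43_1 (flp_h L40921) (flp_e L38882) L55938
theorem L55944 : sm gj N6522 = N6522 := ded_52_1 (flp_h L55938) L38879 L55938
theorem L55945 : sm gd N6522 = N6522 := ded_38_1 (flp_h L55938) (flp_d L38875) L27092 L38875 L55938
theorem L55946 : sm gg N4516 = N6523 := rfl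
theorem L55948 : sm gb N6523 = N4519 := ded_23_1 (flp_g L38913) (flp_b L38886) L55946
theorem L55950 : sm gc N6523 = N6523 := ded_30_1 (flp_g L55946) L38888 L55946
theorem L55951 : sm ge N6523 = N6523 := ded_41_1 (flp_g L55946) L38893 L55946
theorem L55952 : sm gh N6523 = N6523 := ded_50_2 (flp_g L55946) L38890 L55946
theorem L55953 : sm gi N6523 = N4526 := ded_51_2 (flp_g L38971) (flp_i L38891) L55946
theorem L55955 : sm ge N4517 = N6524 := rfl
theorem L55957 : sm ga N6524 = N6524 := ded_13_1 (flp_e L55955) L38896 L55955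
theorem L55958 : sm gc N6524 = N4583 := ded_28_1 (flp_e L39473) (flp_c L38897) L55955
theorem L55960 : sm gj N6524 = N6524 := ded_42_2 (flp_e L55955) L38901 L55955
theorem L55961 : sm gi N6524 = N4527 := ded_44_2 (flp_e L38977) (flp_i L38902) L55955
theorem L55963 : sm gd N6524 = N6524 := ded_34_1 (flp_e L55955) L38899 L27114 (flp_d L38899) L55955
theorem L55964 : sm gf N6524 = N4750 := ded_40_2 (flp_e L40935) (flp_f L28459) (flp_e L27103) L38894 L55955
theorem L55966 : sm gg N4517 = N6525 := rfl
theorem L55968 : sm ga N6525 = N6525 := ded_15_1 (flp_g L55966) L38896 L55966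
theorem L55969 : sm gc N6525 = N4584 := ded_30_1 (flp_g L39483) (flp_c L38897) L55966
theorem L55971 : sm gd N6525 = N4519 := ded_36_1 (flp_g L38913) (flp_d L38899) L55966
theorem L55973 : sm gi N6525 = N4528 := ded_51_2 (flp_g L38986) (flp_i L38902) L55966
theorem L55975 : sm gh N4517 = N6526 := rfl
theorem L55977 : sm ga N6526 = N6526 := ded_17_1 (flp_h L55975) L38896 L55975
theorem L55978 : sm gc N6526 = N4585 := ded_32_1 (flp_h L39490) (flp_c L38897) L55975
theorem L55980 : sm gf N6526 = N4518 := ded_47_1 (flp_h L38904) L38894 L55975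
theorem L55982 : sm gj N6526 = N6526 := ded_52_1 (flp_h L55975) L38901 L55975
theorem L55983 : sm gd N6526 = N6526 := ded_38_1 (flp_h L55975) L38899 L27111 (flp_d L38899) L55975
theorem L55984 : sm gi N4518 = N6527 := rfl
theorem L55986 : sm ga N6527 = N6527 := ded_18_1 (flp_i L55984) L38906 L55984
theorem L55987 : sm gc N6527 = N4586 := ded_33_1 (flp_i L39496) (flp_c L38907) L55984
theorem L55989 : sm gd N6527 = N6527 := ded_39_1 (flp_i L55984) L38912 L55984
theorem L55990 : sm ge N6527 = N4753 := ded_44_1 (flp_i L40961) (flp_e L38909) L55984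
theorem L55992 : sm gj N6527 = N6527 := ded_53_1 (flp_i L55984) L38911 L55984
theorem L55993 : sm gh N6527 = N4530 := ded_54_1 (flp_i L39001) (flp_h L27154) (flp_i L27099) L38904 L55984
theorem L55995 : sm gj N4519 = N6528 := rfl
theorem L55997 : sm ga N6528 = N6528 := ded_16_1 (flp_j L55995) L38915 L55995
theorem L55998 : sm gc N6528 = N4520 := ded_31_1 (flp_j L38922) (flp_c L38916) L55995
theorem L56000 : sm ge N6528 = N6528 := ded_42_1 (flp_j L55995) L38918 L55995
theorem L56001 : sm gh N6528 = N6528 := ded_52_2 (flp_j L55995) L38919 L55995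
theorem L56002 : sm gi N6528 = N4531 := ded_53_2 (flp_j L39009) (flp_i L38920) L55995
theorem L56004 : sm gg N6528 = N6528 := ded_49_1 (flp_j L55995) (flp_g L38913) L27110 L38913 L55995
theorem L56005 : sm gc N4521 = N6529 := rfl
theorem L56007 : sm ga N6529 = N4523 := ded_11_1 (flp_c L38949) (flp_a L38935) L56005
theorem L56009 : sm ge N6529 = N4755 := ded_28_2 (flp_c L40978) (flp_e L38939) L56005
theorem L56011 : sm gj N6529 = N6529 := ded_31_2 (flp_c L56005) L38938 L56005
theorem L56012 : sm gd N6529 = N6529 := ded_27_2 (flp_c L56005) (flp_d L38933) L27130 L38933 L56005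
theorem L56013 : sm gf N4521 = N6530 := rfl
theorem L56015 : sm ga N6530 = N4524 := ded_14_1 (flp_f L38957) (flp_a L38935) L56013
theorem L56017 : sm gb N6530 = N6530 := ded_22_1 (flp_f L56013) L38937 L56013
theorem L56018 : sm gd N6530 = N4522 := ded_35_1 (flp_f L38941) L38933 L56013
theorem L56020 : sm gj N6530 = N6530 := ded_46_2 (flp_f L56013) L38938 L56013
theorem L56021 : sm gh N4521 = N6531 := rfl
theorem L56023 : sm ga N6531 = N4525 := ded_17_1 (flp_h L38964) (flp_a L38935) L56021
theorem L56025 : sm gb N6531 = N6531 := ded_25_1 (flp_h L56021) L38937 L56021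
theorem L56026 : sm ge N6531 = N4757 := ded_43_1 (flp_h L40993) (flp_e L38939) L56021
theorem L56028 : sm gj N6531 = N6531 := ded_52_1 (flp_h L56021) L38938 L56021
theorem L56029 : sm gg N4522 = N6532 := rfl
theorem L56031 : sm ga N6532 = N4526 := ded_15_1 (flp_g L38971) (flp_a L38943) L56029
theorem L56033 : sm gb N6532 = N6532 := ded_23_1 (flp_g L56029) L38945 L56029
theorem L56034 : sm gc N6532 = N6532 := ded_30_1 (flp_g L56029) L38946 L56029
theorem L56035 : sm ge N6532 = N6532 := ded_41_1 (flp_g L56029) L38948 L56029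
theorem L56036 : sm gf N4523 = N6533 := rfl
theorem L56038 : sm gb N6533 = N4592 := ded_22_1 (flp_f L39548) (flp_b L38954) L56036
theorem L56040 : sm gc N6533 = N4524 := ded_29_1 (flp_f L38957) L38949 L56036
theorem L56042 : sm gd N6533 = N6533 := ded_35_1 (flp_f L56036) L38956 L56036
theorem L56043 : sm gj N6533 = N6533 := ded_46_2 (flp_f L56036) L38953 L56036
theorem L56044 : sm gh N4523 = N6534 := rfl
theorem L56046 : sm gb N6534 = N4593 := ded_25_1 (flp_h L39554) (flp_b L38954) L56044
theorem L56048 : sm gc N6534 = N4525 := ded_32_1 (flp_h L38964) L38949 L56044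
theorem L56050 : sm ge N6534 = N4760 := ded_43_1 (flp_h L41018) (flp_e L38951) L56044
theorem L56052 : sm gj N6534 = N6534 := ded_52_1 (flp_h L56044) L38953 L56044
theorem L56053 : sm ge N4524 = N6535 := rfl
theorem L56055 : sm gb N6535 = N4527 := ded_21_1 (flp_e L38977) (flp_b L38959) L56053
theorem L56057 : sm gj N6535 = N6535 := ded_42_2 (flp_e L56053) L38963 L56053
theorem L56058 : sm gd N6535 = N6535 := ded_34_1 (flp_e L56053) L38961 L27145 (flp_d L38961) L56053
theorem L56059 : sm gf N6535 = N4761 := ded_40_2 (flp_e L41025) (flp_f L28517) (flp_e L27137) L38957 L56053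
theorem L56061 : sm gg N4524 = N6536 := rfl
theorem L56063 : sm gb N6536 = N4528 := ded_23_1 (flp_g L38986) (flp_b L38959) L56061
theorem L56065 : sm gd N6536 = N4526 := ded_36_1 (flp_g L38971) (flp_d L38961) L56061
theorem L56067 : sm gh N4524 = N6537 := rfl
theorem L56069 : sm gb N6537 = N4529 := ded_25_1 (flp_h L38993) (flp_b L38959) L56067
theorem L56071 : sm gf N6537 = N4525 := ded_47_1 (flp_h L38964) L38957 L56067
theorem L56073 : sm gj N6537 = N6537 := ded_52_1 (flp_h L56067) L38963 L56067
theorem L56074 : sm gi N4525 = N6538 := rfl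
theorem L56076 : sm gb N6538 = N4530 := ded_26_1 (flp_i L39001) (flp_b L38966) L56074
theorem L56078 : sm ge N6538 = N4764 := ded_44_1 (flp_i L41045) (flp_e L38968) L56074
theorem L56080 : sm gj N6538 = N6538 := ded_53_1 (flp_i L56074) L38970 L56074
theorem L56081 : sm gj N4526 = N6539 := rfl
theorem L56083 : sm gb N6539 = N4531 := ded_24_1 (flp_j L39009) (flp_b L38973) L56081
theorem L56085 : sm gc N6539 = N6539 := ded_31_1 (flp_j L56081) L38975 L56081
theorem L56086 : sm ge N6539 = N6539 := ded_42_1 (flp_j L56081) L38976 L56081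
theorem L56087 : sm gg N6539 = N6539 := ded_49_1 (flp_j L56081) (flp_g L38971) L27144 L38971 L56081
theorem L56088 : sm gg N4527 = N6540 := rfl
theorem L56090 : sm ga N6540 = N6540 := ded_15_1 (flp_g L56088) L38979 L56088
theorem L56091 : sm gc N6540 = N4599 := ded_30_1 (flp_g L39601) (flp_c L38980) L56088
theorem L56093 : sm gd N6540 = N6540 := ded_36_1 (flp_g L56088) L38983 L56088
theorem L56094 : sm ge N6540 = N4528 := ded_41_1 (flp_g L38986) L38977 L56088
theorem L56096 : sm gh N4527 = N6541 := rfl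
theorem L56098 : sm ga N6541 = N6541 := ded_17_1 (flp_h L56096) L38979 L56096
theorem L56099 : sm gc N6541 = N4600 := ded_32_1 (flp_h L39608) (flp_c L38980) L56096
theorem L56101 : sm ge N6541 = N4529 := ded_43_1 (flp_h L38993) L38977 L56096
theorem L56103 : sm gf N6541 = N4767 := ded_47_1 (flp_h L41068) (flp_f L38984) L56096
theorem L56105 : sm gj N6541 = N6541 := ded_52_1 (flp_h L56096) L38982 L56096
theorem L56106 : sm gj N4528 = N6542 := rfl
theorem L56108 : sm ga N6542 = N6542 := ded_16_1 (flp_j L56106) L38988 L56106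
theorem L56109 : sm gc N6542 = N4601 := ded_31_1 (flp_j L39616) (flp_c L38989) L56106
theorem L56111 : sm gd N6542 = N4531 := ded_37_1 (flp_j L39009) (flp_d L38991) L56106
theorem L56113 : sm gg N6542 = N6542 := ded_49_1 (flp_j L56106) (flp_g L38986) L27153 L38986 L56106
theorem L56114 : sm gh N4528 = N6543 := rfl
theorem L56116 : sm ga N6543 = N6543 := ded_17_1 (flp_h L56114) L38988 L56114
theorem L56117 : sm gc N6543 = N4602 := ded_32_1 (flp_h L39622) (flp_c L38989) L56114
theorem L56119 : sm gg N6543 = N4529 := ded_50_1 (flp_h L38993) L38986 L56114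
theorem L56121 : sm gi N4529 = N6544 := rfl
theorem L56123 : sm ga N6544 = N6544 := ded_18_1 (flp_i L56121) L38995 L56121
theorem L56124 : sm gc N6544 = N4603 := ded_33_1 (flp_i L39628) (flp_c L38996) L56121
theorem L56126 : sm gf N6544 = N4530 := ded_48_1 (flp_i L39001) (flp_f L38998) L56121
theorem L56128 : sm gj N6544 = N6544 := ded_53_1 (flp_i L56121) L39000 L56121
theorem L56129 : sm ga N4532 = N6545 := rfl
theorem L56131 : sm gc N6545 = N6545 := ded_11_2 (flp_a L56129) L39026 L56129
theorem L56132 : sm gd N6545 = N6545 := ded_12_2 (flp_a L56129) L39018 L56129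
theorem L56133 : sm gf N6545 = N6545 := ded_14_2 (flp_a L56129) L39019 L56129
theorem L56134 : sm gg N6545 = N6545 := ded_15_2 (flp_a L56129) L39020 L56129
theorem L56135 : sm gj N6545 = N4547 := ded_16_2 (flp_a L39160) (flp_j L39021) L56129
theorem L56137 : sm gh N6545 = N4535 := ded_17_2 (flp_a L39049) (flp_h L39023) L56129
theorem L56139 : sm gi N6545 = N6545 := ded_18_2 (flp_a L56129) L39025 L56129
theorem L56140 : sm gb N6545 = N6545 := ded_10_2 (flp_a L56129) (flp_b L39016) L27178 L39016 L56129
theorem L56141 : sm ge N4532 = N6546 := rfl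
theorem L56143 : sm gb N6546 = N4533 := ded_21_1 (flp_e L39027) L39016 L56141
theorem L56145 : sm gc N6546 = N6546 := ded_28_1 (flp_e L56141) L39026 L56141
theorem L56146 : sm gg N6546 = N6546 := ded_41_2 (flp_e L56141) L39020 L56141
theorem L56147 : sm gj N6546 = N4548 := ded_42_2 (flp_e L39171) (flp_j L39021) L56141
theorem L56149 : sm gh N6546 = N4536 := ded_43_2 (flp_e L39061) (flp_h L39023) L56141
theorem L56151 : sm gi N6546 = N6546 := ded_44_2 (flp_e L56141) L39025 L56141
theorem L56152 : sm gd N4533 = N6547 := rfl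
theorem L56154 : sm ga N6547 = N6547 := ded_12_1 (flp_d L56152) L39029 L56152
theorem L56155 : sm gg N6547 = N6547 := ded_36_2 (flp_d L56152) L39032 L56152
theorem L56156 : sm gj N6547 = N4549 := ded_37_2 (flp_d L39181) (flp_j L39033) L56152
theorem L56158 : sm gi N6547 = N6547 := ded_39_2 (flp_d L56152) L39037 L56152
theorem L56159 : sm gc N6547 = N6547 := ded_27_1 (flp_d L56152) L39030 L27197 (flp_c L39030) L56152
theorem L56160 : sm ge N6547 = N6547 := ded_34_2 (flp_d L56152) (flp_e L39027) L27186 L39027 L56152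
theorem L56161 : sm gf N4533 = N6548 := rfl
theorem L56163 : sm ga N6548 = N6548 := ded_14_1 (flp_f L56161) L39029 L56161
theorem L56164 : sm gc N6548 = N4534 := ded_29_1 (flp_f L39038) (flp_c L39030) L56161
theorem L56166 : sm gj N6548 = N4550 := ded_46_2 (flp_f L39189) (flp_j L39033) L56161
theorem L56168 : sm gh N6548 = N4538 := ded_47_2 (flp_f L39081) (flp_h L39035) L56161
theorem L56170 : sm gi N6548 = N6548 := ded_48_2 (flp_f L56161) L39037 L56161
theorem L56171 : sm ge N6548 = N6548 := ded_40_1 (flp_f L56161) (flp_e L39027) L27179 L39027 L56161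
theorem L56172 : sm gg N4534 = N6549 := rfl
theorem L56174 : sm ga N6549 = N6549 := ded_15_1 (flp_g L56172) L39040 L56172
theorem L56175 : sm gb N6549 = N6549 := ded_23_1 (flp_g L56172) L39041 L56172
theorem L56176 : sm gd N6549 = N6549 := ded_36_1 (flp_g L56172) L39042 L56172
theorem L56177 : sm ge N6549 = N6549 := ded_41_1 (flp_g L56172) L39048 L56172
theorem L56178 : sm gh N6549 = N4539 := ded_50_2 (flp_g L39091) (flp_h L39045) L56172
theorem L56180 : sm gi N6549 = N6549 := ded_51_2 (flp_g L56172) L39047 L56172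
theorem L56181 : sm gf N6549 = N6549 := ded_45_1 (flp_g L56172) (flp_f L39038) L27191 L39038 L56172
theorem L56182 : sm ge N4535 = N6550 := rfl
theorem L56184 : sm ga N6550 = N4536 := ded_13_1 (flp_e L39061) L39049 L56182
theorem L56186 : sm gb N6550 = N6550 := ded_21_1 (flp_e L56182) L39060 L56182
theorem L56187 : sm gc N6550 = N6550 := ded_28_1 (flp_e L56182) L39051 L56182
theorem L56188 : sm gg N6550 = N6550 := ded_41_2 (flp_e L56182) L39055 L56182
theorem L56189 : sm gj N6550 = N4552 := ded_42_2 (flp_e L39209) (flp_j L39056) L56182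
theorem L56191 : sm gi N6550 = N4540 := ded_44_2 (flp_e L39099) (flp_i L39058) L56182
theorem L56193 : sm gd N4536 = N6551 := rfl
theorem L56195 : sm gb N6551 = N4537 := ded_20_1 (flp_d L39071) (flp_b L39063) L56193
theorem L56197 : sm gg N6551 = N6551 := ded_36_2 (flp_d L56193) L39066 L56193
theorem L56198 : sm gj N6551 = N4553 := ded_37_2 (flp_d L39219) (flp_j L39067) L56193
theorem L56200 : sm gi N6551 = N4541 := ded_39_2 (flp_d L39109) (flp_i L39069) L56193
theorem L56202 : sm ge N6551 = N4772 := ded_34_2 (flp_d L41114) (flp_e L28588) (flp_d L27200) L39061 L56193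
theorem L56204 : sm gf N4536 = N6552 := rfl
theorem L56206 : sm gb N6552 = N4538 := ded_22_1 (flp_f L39081) (flp_b L39063) L56204
theorem L56208 : sm gc N6552 = N6552 := ded_29_1 (flp_f L56204) L39065 L56204
theorem L56209 : sm gj N6552 = N4554 := ded_46_2 (flp_f L39229) (flp_j L39067) L56204
theorem L56211 : sm gi N6552 = N4542 := ded_48_2 (flp_f L39118) (flp_i L39069) L56204
theorem L56213 : sm ge N6552 = N6552 := ded_40_1 (flp_f L56204) (flp_e L39061) L27202 L39061 L56204
theorem L56214 : sm gf N4537 = N6553 := rfl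
theorem L56216 : sm ga N6553 = N6553 := ded_14_1 (flp_f L56214) L39073 L56214
theorem L56217 : sm gd N6553 = N4538 := ded_35_1 (flp_f L39081) L39071 L56214
theorem L56219 : sm gj N6553 = N4555 := ded_46_2 (flp_f L39237) (flp_j L39075) L56214
theorem L56221 : sm gi N6553 = N4543 := ded_48_2 (flp_f L39127) (flp_i L39077) L56214
theorem L56223 : sm gh N4537 = N6554 := rfl
theorem L56225 : sm ga N6554 = N6554 := ded_17_1 (flp_h L56223) L39073 L56223
theorem L56226 : sm ge N6554 = N4775 := ded_43_1 (flp_h L41144) (flp_e L39079) L56223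
theorem L56228 : sm gg N6554 = N6554 := ded_50_1 (flp_h L56223) L39074 L56223
theorem L56229 : sm gj N6554 = N4556 := ded_52_1 (flp_h L39244) (flp_j L39075) L56223
theorem L56231 : sm gg N4538 = N6555 := rfl
theorem L56233 : sm ga N6555 = N6555 := ded_15_1 (flp_g L56231) L39083 L56231
theorem L56234 : sm gc N6555 = N4539 := ded_30_1 (flp_g L39091) (flp_c L39084) L56231
theorem L56236 : sm ge N6555 = N6555 := ded_41_1 (flp_g L56231) L39090 L56231
theorem L56237 : sm gi N6555 = N4545 := ded_51_2 (flp_g L39143) (flp_i L39088) L56231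
theorem L56239 : sm gf N6555 = N6555 := ded_45_1 (flp_g L56231) (flp_f L39081) L27214 L39081 L56231
theorem L56240 : sm gj N4539 = N6556 := rfl
theorem L56242 : sm ga N6556 = N6556 := ded_16_1 (flp_j L56240) L39093 L56240
theorem L56243 : sm gb N6556 = N6556 := ded_24_1 (flp_j L56240) L39094 L56240
theorem L56244 : sm ge N6556 = N6556 := ded_42_1 (flp_j L56240) L39095 L56240
theorem L56245 : sm gf N6556 = N6556 := ded_46_1 (flp_j L56240) L39098 L56240
theorem L56246 : sm gi N6556 = N4546 := ded_53_2 (flp_j L39151) (flp_i L39096) L56240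
theorem L56248 : sm gg N6556 = N4558 := ded_49_1 (flp_j L39261) (flp_g L27338) (flp_j L27223) L39091 L56240
theorem L56250 : sm gd N4540 = N6557 := rfl
theorem L56252 : sm ga N6557 = N4541 := ded_12_1 (flp_d L39109) (flp_a L39101) L56250
theorem L56254 : sm gb N6557 = N6557 := ded_20_1 (flp_d L56250) L39103 L56250
theorem L56255 : sm gg N6557 = N6557 := ded_36_2 (flp_d L56250) L39105 L56250
theorem L56256 : sm gj N6557 = N4559 := ded_37_2 (flp_d L39270) (flp_j L39106) L56250
theorem L56258 : sm ge N6557 = N4778 := ded_34_2 (flp_d L41173) (flp_e L28629) (flp_d L27231) L39099 L56250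
theorem L56260 : sm gf N4540 = N6558 := rfl
theorem L56262 : sm ga N6558 = N4542 := ded_14_1 (flp_f L39118) (flp_a L39101) L56260
theorem L56264 : sm gb N6558 = N6558 := ded_22_1 (flp_f L56260) L39103 L56260
theorem L56265 : sm gc N6558 = N6558 := ded_29_1 (flp_f L56260) L39104 L56260
theorem L56266 : sm gj N6558 = N4560 := ded_46_2 (flp_f L39279) (flp_j L39106) L56260
theorem L56268 : sm gh N6558 = N6558 := ded_47_2 (flp_f L56260) L39108 L56260
theorem L56269 : sm ge N6558 = N6558 := ded_40_1 (flp_f L56260) (flp_e L39099) L27233 L39099 L56260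
theorem L56270 : sm gc N4541 = N6559 := rfl
theorem L56272 : sm ge N6559 = N4780 := ded_28_2 (flp_c L41193) (flp_e L39116) L56270
theorem L56274 : sm gg N6559 = N6559 := ded_30_2 (flp_c L56270) L39113 L56270
theorem L56275 : sm gj N6559 = N4561 := ded_31_2 (flp_c L39287) (flp_j L39114) L56270
theorem L56277 : sm gd N6559 = N6559 := ded_27_2 (flp_c L56270) (flp_d L39109) L27243 L39109 L56270
theorem L56278 : sm gf N4541 = N6560 := rfl
theorem L56280 : sm gb N6560 = N4543 := ded_22_1 (flp_f L39127) (flp_b L39111) L56278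
theorem L56282 : sm gd N6560 = N4542 := ded_35_1 (flp_f L39118) L39109 L56278
theorem L56284 : sm gj N6560 = N4562 := ded_46_2 (flp_f L39294) (flp_j L39114) L56278
theorem L56286 : sm gh N4541 = N6561 := rfl
theorem L56288 : sm gb N6561 = N4544 := ded_25_1 (flp_h L39134) (flp_b L39111) L56286
theorem L56290 : sm ge N6561 = N4782 := ded_43_1 (flp_h L41208) (flp_e L39116) L56286
theorem L56292 : sm gg N6561 = N6561 := ded_50_1 (flp_h L56286) L39113 L56286
theorem L56293 : sm gj N6561 = N4563 := ded_52_1 (flp_h L39300) (flp_j L39114) L56286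
theorem L56295 : sm gd N6561 = N6561 := ded_38_1 (flp_h L56286) (flp_d L39109) L27247 L39109 L56286
theorem L56296 : sm gg N4542 = N6562 := rfl
theorem L56298 : sm gb N6562 = N4545 := ded_23_1 (flp_g L39143) (flp_b L39120) L56296
theorem L56300 : sm gc N6562 = N6562 := ded_30_1 (flp_g L56296) L39122 L56296
theorem L56301 : sm ge N6562 = N6562 := ded_41_1 (flp_g L56296) L39126 L56296
theorem L56302 : sm gh N6562 = N6562 := ded_50_2 (flp_g L56296) L39125 L56296
theorem L56303 : sm gf N6562 = N6562 := ded_45_1 (flp_g L56296) (flp_f L39118) L27244 L39118 L56296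
theorem L56304 : sm ge N4543 = N6563 := rfl
theorem L56306 : sm ga N6563 = N6563 := ded_13_1 (flp_e L56304) L39129 L56304
theorem L56307 : sm gj N6563 = N4565 := ded_42_2 (flp_e L39318) (flp_j L39132) L56304
theorem L56309 : sm gd N6563 = N6563 := ded_34_1 (flp_e L56304) L39130 L27264 (flp_d L39130) L56304
theorem L56310 : sm gf N6563 = N4784 := ded_40_2 (flp_e L41227) (flp_f L28659) (flp_e L27254) L39127 L56304
theorem L56312 : sm gg N4543 = N6564 := rfl
theorem L56314 : sm ga N6564 = N6564 := ded_15_1 (flp_g L56312) L39129 L56312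
theorem L56315 : sm gd N6564 = N4545 := ded_36_1 (flp_g L39143) (flp_d L39130) L56312
theorem L56317 : sm gf N6564 = N6564 := ded_45_1 (flp_g L56312) (flp_f L39127) L27251 L39127 L56312
theorem L56318 : sm gh N4543 = N6565 := rfl
theorem L56320 : sm ga N6565 = N6565 := ded_17_1 (flp_h L56318) L39129 L56318
theorem L56321 : sm gf N6565 = N4544 := ded_47_1 (flp_h L39134) L39127 L56318
theorem L56323 : sm gj N6565 = N4567 := ded_52_1 (flp_h L39331) (flp_j L39132) L56318
theorem L56325 : sm gd N6565 = N6565 := ded_38_1 (flp_h L56318) L39130 L27263 (flp_d L39130) L56318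
theorem L56326 : sm gi N4544 = N6566 := rfl
theorem L56328 : sm ga N6566 = N6566 := ded_18_1 (flp_i L56326) L39136 L56326
theorem L56329 : sm gd N6566 = N6566 := ded_39_1 (flp_i L56326) L39142 L56326
theorem L56330 : sm ge N6566 = N4787 := ded_44_1 (flp_i L41248) (flp_e L39137) L56326
theorem L56332 : sm gg N6566 = N6566 := ded_51_1 (flp_i L56326) L39139 L56326
theorem L56333 : sm gj N6566 = N4568 := ded_53_1 (flp_i L39337) (flp_j L39140) L56326
theorem L56335 : sm gj N4545 = N6567 := rfl
theorem L56337 : sm ga N6567 = N6567 := ded_16_1 (flp_j L56335) L39145 L56335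
theorem L56338 : sm gc N6567 = N4546 := ded_31_1 (flp_j L39151) (flp_c L39146) L56335
theorem L56340 : sm ge N6567 = N6567 := ded_42_1 (flp_j L56335) L39148 L56335
theorem L56341 : sm gf N6567 = N6567 := ded_46_1 (flp_j L56335) L39150 L56335
theorem L56342 : sm gh N6567 = N6567 := ded_52_2 (flp_j L56335) L39149 L56335
theorem L56343 : sm gg N6567 = N4569 := ded_49_1 (flp_j L39345) (flp_g L27384) (flp_j L27261) L39143 L56335
theorem L56345 : sm ge N4547 = N6568 := rfl
theorem L56347 : sm ga N6568 = N4548 := ded_13_1 (flp_e L39171) L39160 L56345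
theorem L56349 : sm gb N6568 = N6568 := ded_21_1 (flp_e L56345) L39170 L56345
theorem L56350 : sm gc N6568 = N6568 := ded_28_1 (flp_e L56345) L39162 L56345
theorem L56351 : sm gg N6568 = N4570 := ded_41_2 (flp_e L39354) (flp_g L39165) L56345
theorem L56353 : sm gh N6568 = N4552 := ded_43_2 (flp_e L39209) (flp_h L39167) L56345
theorem L56355 : sm gi N6568 = N6568 := ded_44_2 (flp_e L56345) L39169 L56345
theorem L56356 : sm gd N4548 = N6569 := rfl
theorem L56358 : sm gb N6569 = N4549 := ded_20_1 (flp_d L39181) (flp_b L39173) L56356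
theorem L56360 : sm gg N6569 = N4571 := ded_36_2 (flp_d L39364) (flp_g L39176) L56356
theorem L56362 : sm gi N6569 = N6569 := ded_39_2 (flp_d L56356) L39180 L56356
theorem L56363 : sm ge N6569 = N6569 := ded_34_2 (flp_d L56356) (flp_e L39171) L27274 L39171 L56356
theorem L56364 : sm gf N4548 = N6570 := rfl
theorem L56366 : sm gb N6570 = N4550 := ded_22_1 (flp_f L39189) (flp_b L39173) L56364
theorem L56368 : sm gc N6570 = N6570 := ded_29_1 (flp_f L56364) L39175 L56364
theorem L56369 : sm gh N6570 = N4554 := ded_47_2 (flp_f L39229) (flp_h L39178) L56364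
theorem L56371 : sm gi N6570 = N6570 := ded_48_2 (flp_f L56364) L39180 L56364
theorem L56372 : sm ge N6570 = N6570 := ded_40_1 (flp_f L56364) (flp_e L39171) L27275 L39171 L56364
theorem L56373 : sm gf N4549 = N6571 := rfl
theorem L56375 : sm ga N6571 = N6571 := ded_14_1 (flp_f L56373) L39183 L56373
theorem L56376 : sm gc N6571 = N6571 := ded_29_1 (flp_f L56373) L39187 L56373
theorem L56377 : sm gd N6571 = N4550 := ded_35_1 (flp_f L39189) L39181 L56373
theorem L56379 : sm gi N6571 = N6571 := ded_48_2 (flp_f L56373) L39186 L56373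
theorem L56380 : sm gh N4549 = N6572 := rfl
theorem L56382 : sm ga N6572 = N6572 := ded_17_1 (flp_h L56380) L39183 L56380
theorem L56383 : sm gc N6572 = N6572 := ded_32_1 (flp_h L56380) L39187 L56380
theorem L56384 : sm ge N6572 = N6572 := ded_43_1 (flp_h L56380) L39188 L56380
theorem L56385 : sm gg N6572 = N4574 := ded_50_1 (flp_h L39390) (flp_g L39184) L56380
theorem L56387 : sm gd N6572 = N4556 := ded_38_1 (flp_h L39244) (flp_d L27321) (flp_h L27289) L39181 L56380
theorem L56389 : sm gg N4550 = N6573 := rfl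
theorem L56391 : sm ga N6573 = N6573 := ded_15_1 (flp_g L56389) L39191 L56389
theorem L56392 : sm gc N6573 = N4551 := ded_30_1 (flp_g L39198) (flp_c L39192) L56389
theorem L56394 : sm ge N6573 = N6573 := ded_41_1 (flp_g L56389) L39197 L56389
theorem L56395 : sm gh N6573 = N4557 := ded_50_2 (flp_g L39251) (flp_h L39194) L56389
theorem L56397 : sm gi N6573 = N6573 := ded_51_2 (flp_g L56389) L39196 L56389
theorem L56398 : sm gf N6573 = N4575 := ded_45_1 (flp_g L39398) (flp_f L27428) (flp_g L27287) L39189 L56389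
theorem L56400 : sm gj N4551 = N6574 := rfl
theorem L56402 : sm ga N6574 = N6574 := ded_16_1 (flp_j L56400) L39200 L56400
theorem L56403 : sm gb N6574 = N6574 := ded_24_1 (flp_j L56400) L39201 L56400
theorem L56404 : sm gd N6574 = N6574 := ded_37_1 (flp_j L56400) L39202 L56400
theorem L56405 : sm ge N6574 = N6574 := ded_42_1 (flp_j L56400) L39203 L56400
theorem L56406 : sm gf N6574 = N4576 := ded_46_1 (flp_j L39408) (flp_f L39207) L56400
theorem L56408 : sm gh N6574 = N4558 := ded_52_2 (flp_j L39261) (flp_h L39204) L56400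
theorem L56410 : sm gi N6574 = N6574 := ded_53_2 (flp_j L56400) L39206 L56400
theorem L56411 : sm gd N4552 = N6575 := rfl
theorem L56413 : sm ga N6575 = N4553 := ded_12_1 (flp_d L39219) (flp_a L39211) L56411
theorem L56415 : sm gb N6575 = N6575 := ded_20_1 (flp_d L56411) L39213 L56411
theorem L56416 : sm gg N6575 = N4577 := ded_36_2 (flp_d L39419) (flp_g L39215) L56411
theorem L56418 : sm gi N6575 = N4559 := ded_39_2 (flp_d L39270) (flp_i L39217) L56411
theorem L56420 : sm ge N6575 = N4789 := ded_34_2 (flp_d L41267) (flp_e L28694) (flp_d L27304) L39209 L56411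
theorem L56422 : sm gf N4552 = N6576 := rfl
theorem L56424 : sm ga N6576 = N4554 := ded_14_1 (flp_f L39229) (flp_a L39211) L56422
theorem L56426 : sm gb N6576 = N6576 := ded_22_1 (flp_f L56422) L39213 L56422
theorem L56427 : sm gc N6576 = N6576 := ded_29_1 (flp_f L56422) L39214 L56422
theorem L56428 : sm gi N6576 = N4560 := ded_48_2 (flp_f L39279) (flp_i L39217) L56422
theorem L56430 : sm ge N6576 = N6576 := ded_40_1 (flp_f L56422) (flp_e L39209) L27306 L39209 L56422
theorem L56431 : sm gc N4553 = N6577 := rfl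
theorem L56433 : sm ge N6577 = N4791 := ded_28_2 (flp_c L41287) (flp_e L39227) L56431
theorem L56435 : sm gg N6577 = N4579 := ded_30_2 (flp_c L39440) (flp_g L39223) L56431
theorem L56437 : sm gi N6577 = N4561 := ded_33_2 (flp_c L39287) (flp_i L39225) L56431
theorem L56439 : sm gd N6577 = N6577 := ded_27_2 (flp_c L56431) (flp_d L39219) L27316 L39219 L56431
theorem L56440 : sm gf N4553 = N6578 := rfl
theorem L56442 : sm gb N6578 = N4555 := ded_22_1 (flp_f L39237) (flp_b L39221) L56440
theorem L56444 : sm gd N6578 = N4554 := ded_35_1 (flp_f L39229) L39219 L56440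
theorem L56446 : sm gi N6578 = N4562 := ded_48_2 (flp_f L39294) (flp_i L39225) L56440
theorem L56448 : sm gh N4553 = N6579 := rfl
theorem L56450 : sm gb N6579 = N4556 := ded_25_1 (flp_h L39244) (flp_b L39221) L56448
theorem L56452 : sm ge N6579 = N4793 := ded_43_1 (flp_h L41303) (flp_e L39227) L56448
theorem L56454 : sm gg N6579 = N4581 := ded_50_1 (flp_h L39457) (flp_g L39223) L56448
theorem L56456 : sm gg N4554 = N6580 := rfl
theorem L56458 : sm gb N6580 = N4557 := ded_23_1 (flp_g L39251) (flp_b L39231) L56456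
theorem L56460 : sm gc N6580 = N6580 := ded_30_1 (flp_g L56456) L39233 L56456
theorem L56461 : sm ge N6580 = N6580 := ded_41_1 (flp_g L56456) L39236 L56456
theorem L56462 : sm gi N6580 = N4564 := ded_51_2 (flp_g L39309) (flp_i L39234) L56456
theorem L56464 : sm gf N6580 = N4582 := ded_45_1 (flp_g L39464) (flp_f L27467) (flp_g L27317) L39229 L56456
theorem L56466 : sm ge N4555 = N6581 := rfl
theorem L56468 : sm ga N6581 = N6581 := ded_13_1 (flp_e L56466) L39239 L56466
theorem L56469 : sm gi N6581 = N4565 := ded_44_2 (flp_e L39318) (flp_i L39242) L56466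
theorem L56471 : sm gd N6581 = N6581 := ded_34_1 (flp_e L56466) L39240 L27337 (flp_d L39240) L56466
theorem L56472 : sm gf N6581 = N4795 := ded_40_2 (flp_e L41322) (flp_f L28724) (flp_e L27328) L39237 L56466
theorem L56474 : sm gg N4555 = N6582 := rfl
theorem L56476 : sm ga N6582 = N6582 := ded_15_1 (flp_g L56474) L39239 L56474
theorem L56477 : sm gd N6582 = N4557 := ded_36_1 (flp_g L39251) (flp_d L39240) L56474
theorem L56479 : sm gi N6582 = N4566 := ded_51_2 (flp_g L39324) (flp_i L39242) L56474
theorem L56481 : sm gf N6582 = N4584 := ded_45_1 (flp_g L39483) (flp_f L27477) (flp_g L27324) L39237 L56474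
theorem L56483 : sm gh N4555 = N6583 := rfl
theorem L56485 : sm ga N6583 = N6583 := ded_17_1 (flp_h L56483) L39239 L56483
theorem L56486 : sm gf N6583 = N4556 := ded_47_1 (flp_h L39244) L39237 L56483
theorem L56488 : sm gi N4556 = N6584 := rfl
theorem L56490 : sm ga N6584 = N6584 := ded_18_1 (flp_i L56488) L39246 L56488
theorem L56491 : sm ge N6584 = N4798 := ded_44_1 (flp_i L41343) (flp_e L39247) L56488
theorem L56493 : sm gg N6584 = N4586 := ded_51_1 (flp_i L39496) (flp_g L39249) L56488
theorem L56495 : sm gh N6584 = N4568 := ded_54_1 (flp_i L39337) (flp_h L27376) (flp_i L27326) L39244 L56488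
theorem L56497 : sm gj N4557 = N6585 := rfl
theorem L56499 : sm ga N6585 = N6585 := ded_16_1 (flp_j L56497) L39253 L56497
theorem L56500 : sm gc N6585 = N4558 := ded_31_1 (flp_j L39261) (flp_c L39254) L56497
theorem L56502 : sm ge N6585 = N6585 := ded_42_1 (flp_j L56497) L39256 L56497
theorem L56503 : sm gf N6585 = N4587 := ded_46_1 (flp_j L39504) (flp_f L39259) L56497
theorem L56505 : sm gi N6585 = N4569 := ded_53_2 (flp_j L39345) (flp_i L39257) L56497
theorem L56507 : sm gc N4559 = N6586 := rfl
theorem L56509 : sm ga N6586 = N4561 := ded_11_1 (flp_c L39287) (flp_a L39272) L56507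
theorem L56511 : sm ge N6586 = N4800 := ded_28_2 (flp_c L41362) (flp_e L39277) L56507
theorem L56513 : sm gg N6586 = N4588 := ded_30_2 (flp_c L39514) (flp_g L39275) L56507
theorem L56515 : sm gd N6586 = N6586 := ded_27_2 (flp_c L56507) (flp_d L39270) L27352 L39270 L56507
theorem L56516 : sm gf N4559 = N6587 := rfl
theorem L56518 : sm ga N6587 = N4562 := ded_14_1 (flp_f L39294) (flp_a L39272) L56516
theorem L56520 : sm gb N6587 = N6587 := ded_22_1 (flp_f L56516) L39274 L56516
theorem L56521 : sm gd N6587 = N4560 := ded_35_1 (flp_f L39279) L39270 L56516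
theorem L56523 : sm gh N4559 = N6588 := rfl
theorem L56525 : sm ga N6588 = N4563 := ded_17_1 (flp_h L39300) (flp_a L39272) L56523
theorem L56527 : sm gb N6588 = N6588 := ded_25_1 (flp_h L56523) L39274 L56523
theorem L56528 : sm ge N6588 = N4802 := ded_43_1 (flp_h L41377) (flp_e L39277) L56523
theorem L56530 : sm gg N6588 = N4590 := ded_50_1 (flp_h L39530) (flp_g L39275) L56523
theorem L56532 : sm gd N6588 = N6588 := ded_38_1 (flp_h L56523) (flp_d L39270) L27355 L39270 L56523
theorem L56533 : sm gg N4560 = N6589 := rfl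
theorem L56535 : sm ga N6589 = N4564 := ded_15_1 (flp_g L39309) (flp_a L39281) L56533
theorem L56537 : sm gb N6589 = N6589 := ded_23_1 (flp_g L56533) L39283 L56533
theorem L56538 : sm gc N6589 = N6589 := ded_30_1 (flp_g L56533) L39284 L56533
theorem L56539 : sm ge N6589 = N6589 := ded_41_1 (flp_g L56533) L39286 L56533
theorem L56540 : sm gh N6589 = N6589 := ded_50_2 (flp_g L56533) L39285 L56533
theorem L56541 : sm gf N6589 = N4591 := ded_45_1 (flp_g L39539) (flp_f L27517) (flp_g L27353) L39279 L56533
theorem L56543 : sm gf N4561 = N6590 := rfl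
theorem L56545 : sm gc N6590 = N4562 := ded_29_1 (flp_f L39294) L39287 L56543
theorem L56547 : sm gd N6590 = N6590 := ded_35_1 (flp_f L56543) L39293 L56543
theorem L56548 : sm gh N4561 = N6591 := rfl
theorem L56550 : sm gc N6591 = N4563 := ded_32_1 (flp_h L39300) L39287 L56548
theorem L56552 : sm ge N6591 = N4805 := ded_43_1 (flp_h L41404) (flp_e L39289) L56548
theorem L56554 : sm gg N6591 = N4593 := ded_50_1 (flp_h L39554) (flp_g L39291) L56548
theorem L56556 : sm ge N4562 = N6592 := rfl
theorem L56558 : sm gb N6592 = N4565 := ded_21_1 (flp_e L39318) (flp_b L39296) L56556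
theorem L56560 : sm gd N6592 = N6592 := ded_34_1 (flp_e L56556) L39298 L27370 (flp_d L39298) L56556
theorem L56561 : sm gf N6592 = N4806 := ded_40_2 (flp_e L41410) (flp_f L28782) (flp_e L27362) L39294 L56556
theorem L56563 : sm gg N4562 = N6593 := rfl
theorem L56565 : sm gb N6593 = N4566 := ded_23_1 (flp_g L39324) (flp_b L39296) L56563
theorem L56567 : sm gd N6593 = N4564 := ded_36_1 (flp_g L39309) (flp_d L39298) L56563
theorem L56569 : sm gf N6593 = N4595 := ded_45_1 (flp_g L39570) (flp_f L27533) (flp_g L27360) L39294 L56563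
theorem L56571 : sm gh N4562 = N6594 := rfl
theorem L56573 : sm gb N6594 = N4567 := ded_25_1 (flp_h L39331) (flp_b L39296) L56571
theorem L56575 : sm gf N6594 = N4563 := ded_47_1 (flp_h L39300) L39294 L56571
theorem L56577 : sm gd N6594 = N6594 := ded_38_1 (flp_h L56571) L39298 L27369 (flp_d L39298) L56571
theorem L56578 : sm gi N4563 = N6595 := rfl
theorem L56580 : sm gb N6595 = N4568 := ded_26_1 (flp_i L39337) (flp_b L39302) L56578
theorem L56582 : sm gd N6595 = N6595 := ded_39_1 (flp_i L56578) L39308 L56578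
theorem L56583 : sm ge N6595 = N4809 := ded_44_1 (flp_i L41431) (flp_e L39304) L56578
theorem L56585 : sm gg N6595 = N4597 := ded_51_1 (flp_i L39584) (flp_g L39306) L56578
theorem L56587 : sm gj N4564 = N6596 := rfl
theorem L56589 : sm gb N6596 = N4569 := ded_24_1 (flp_j L39345) (flp_b L39311) L56587
theorem L56591 : sm gc N6596 = N6596 := ded_31_1 (flp_j L56587) L39313 L56587
theorem L56592 : sm ge N6596 = N6596 := ded_42_1 (flp_j L56587) L39314 L56587
theorem L56593 : sm gf N6596 = N4598 := ded_46_1 (flp_j L39592) (flp_f L39316) L56587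
theorem L56595 : sm gh N6596 = N6596 := ded_52_2 (flp_j L56587) L39315 L56587
theorem L56596 : sm gg N4565 = N6597 := rfl
theorem L56598 : sm ga N6597 = N6597 := ded_15_1 (flp_g L56596) L39320 L56596
theorem L56599 : sm gd N6597 = N6597 := ded_36_1 (flp_g L56596) L39321 L56596
theorem L56600 : sm ge N6597 = N4566 := ded_41_1 (flp_g L39324) L39318 L56596
theorem L56602 : sm gh N4565 = N6598 := rfl
theorem L56604 : sm ga N6598 = N6598 := ded_17_1 (flp_h L56602) L39320 L56602
theorem L56605 : sm ge N6598 = N4567 := ded_43_1 (flp_h L39331) L39318 L56602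
theorem L56607 : sm gf N6598 = N4812 := ded_47_1 (flp_h L41456) (flp_f L39322) L56602
theorem L56609 : sm gj N4566 = N6599 := rfl
theorem L56611 : sm ga N6599 = N6599 := ded_16_1 (flp_j L56609) L39326 L56609
theorem L56612 : sm gd N6599 = N4569 := ded_37_1 (flp_j L39345) (flp_d L39327) L56609
theorem L56614 : sm gf N6599 = N4601 := ded_46_1 (flp_j L39616) (flp_f L39329) L56609
theorem L56616 : sm gh N4566 = N6600 := rfl
theorem L56618 : sm ga N6600 = N6600 := ded_17_1 (flp_h L56616) L39326 L56616
theorem L56619 : sm gf N6600 = N4602 := ded_47_1 (flp_h L39622) (flp_f L39329) L56616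
theorem L56621 : sm gg N6600 = N4567 := ded_50_1 (flp_h L39331) L39324 L56616
theorem L56623 : sm gd N6600 = N6600 := ded_38_1 (flp_h L56616) L39327 L27390 (flp_d L39327) L56616
theorem L56624 : sm gi N4567 = N6601 := rfl
theorem L56626 : sm ga N6601 = N6601 := ded_18_1 (flp_i L56624) L39333 L56624
theorem L56627 : sm gd N6601 = N6601 := ded_39_1 (flp_i L56624) L39336 L56624
theorem L56628 : sm gf N6601 = N4568 := ded_48_1 (flp_i L39337) (flp_f L39334) L56624
theorem L56630 : sm gd N4570 = N6602 := rfl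
theorem L56632 : sm ga N6602 = N4571 := ded_12_1 (flp_d L39364) (flp_a L39356) L56630
theorem L56634 : sm gb N6602 = N6602 := ded_20_1 (flp_d L56630) L39358 L56630
theorem L56635 : sm gj N6602 = N6602 := ded_37_2 (flp_d L56630) L39360 L56630
theorem L56636 : sm gi N6602 = N6602 := ded_39_2 (flp_d L56630) L39363 L56630
theorem L56637 : sm ge N6602 = N6602 := ded_34_2 (flp_d L56630) (flp_e L39354) L27404 L39354 L56630
theorem L56638 : sm gf N4570 = N6603 := rfl
theorem L56640 : sm ga N6603 = N4572 := ded_14_1 (flp_f L39371) (flp_a L39356) L56638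
theorem L56642 : sm gb N6603 = N6603 := ded_22_1 (flp_f L56638) L39358 L56638
theorem L56643 : sm gc N6603 = N6603 := ded_29_1 (flp_f L56638) L39359 L56638
theorem L56644 : sm gj N6603 = N6603 := ded_46_2 (flp_f L56638) L39360 L56638
theorem L56645 : sm gh N6603 = N4578 := ded_47_2 (flp_f L39429) (flp_h L39361) L56638
theorem L56647 : sm gi N6603 = N6603 := ded_48_2 (flp_f L56638) L39363 L56638
theorem L56648 : sm ge N6603 = N4612 := ded_40_1 (flp_f L39709) (flp_e L27639) (flp_f L27405) L39354 L56638
theorem L56650 : sm gc N4571 = N6604 := rfl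
theorem L56652 : sm ge N6604 = N6604 := ded_28_2 (flp_c L56650) L39370 L56650
theorem L56653 : sm gj N6604 = N6604 := ded_31_2 (flp_c L56650) L39368 L56650
theorem L56654 : sm gi N6604 = N6604 := ded_33_2 (flp_c L56650) L39369 L56650
theorem L56655 : sm gb N6604 = N6604 := ded_19_1 (flp_c L56650) L39366 L27426 (flp_b L39366) L56650
theorem L56656 : sm gd N6604 = N6604 := ded_27_2 (flp_c L56650) (flp_d L39364) L27416 L39364 L56650
theorem L56657 : sm gf N4571 = N6605 := rfl
theorem L56659 : sm gb N6605 = N4573 := ded_22_1 (flp_f L39382) (flp_b L39366) L56657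
theorem L56661 : sm gd N6605 = N4572 := ded_35_1 (flp_f L39371) L39364 L56657
theorem L56663 : sm gj N6605 = N6605 := ded_46_2 (flp_f L56657) L39368 L56657
theorem L56664 : sm gi N6605 = N6605 := ded_48_2 (flp_f L56657) L39369 L56657
theorem L56665 : sm gh N4571 = N6606 := rfl
theorem L56667 : sm gb N6606 = N4574 := ded_25_1 (flp_h L39390) (flp_b L39366) L56665
theorem L56669 : sm ge N6606 = N6606 := ded_43_1 (flp_h L56665) L39370 L56665
theorem L56670 : sm gj N6606 = N6606 := ded_52_1 (flp_h L56665) L39368 L56665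
theorem L56671 : sm gd N6606 = N4581 := ded_38_1 (flp_h L39457) (flp_d L27458) (flp_h L27418) L39364 L56665
theorem L56673 : sm gg N4572 = N6607 := rfl
theorem L56675 : sm gb N6607 = N4575 := ded_23_1 (flp_g L39398) (flp_b L39373) L56673
theorem L56677 : sm gc N6607 = N6607 := ded_30_1 (flp_g L56673) L39375 L56673
theorem L56678 : sm ge N6607 = N4616 := ded_41_1 (flp_g L39743) (flp_e L39380) L56673
theorem L56680 : sm gh N6607 = N4582 := ded_50_2 (flp_g L39464) (flp_h L39377) L56673
theorem L56682 : sm gi N6607 = N6607 := ded_51_2 (flp_g L56673) L39379 L56673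
theorem L56683 : sm ge N4573 = N6608 := rfl
theorem L56685 : sm ga N6608 = N6608 := ded_13_1 (flp_e L56683) L39384 L56683
theorem L56686 : sm gc N6608 = N6608 := ded_28_1 (flp_e L56683) L39385 L56683
theorem L56687 : sm gj N6608 = N6608 := ded_42_2 (flp_e L56683) L39388 L56683
theorem L56688 : sm gi N6608 = N6608 := ded_44_2 (flp_e L56683) L39389 L56683
theorem L56689 : sm gd N6608 = N4617 := ded_34_1 (flp_e L39752) L27670 (flp_e L27437) (flp_d L39386) L56683
theorem L56691 : sm gf N6608 = N6608 := ded_40_2 (flp_e L56683) (flp_f L39382) L27427 L39382 L56683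
theorem L56692 : sm gg N4573 = N6609 := rfl
theorem L56694 : sm ga N6609 = N6609 := ded_15_1 (flp_g L56692) L39384 L56692
theorem L56695 : sm gc N6609 = N6609 := ded_30_1 (flp_g L56692) L39385 L56692
theorem L56696 : sm gd N6609 = N4575 := ded_36_1 (flp_g L39398) (flp_d L39386) L56692
theorem L56698 : sm gi N6609 = N6609 := ded_51_2 (flp_g L56692) L39389 L56692
theorem L56699 : sm gh N4573 = N6610 := rfl
theorem L56701 : sm ga N6610 = N6610 := ded_17_1 (flp_h L56699) L39384 L56699
theorem L56702 : sm gc N6610 = N6610 := ded_32_1 (flp_h L56699) L39385 L56699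
theorem L56703 : sm gf N6610 = N4574 := ded_47_1 (flp_h L39390) L39382 L56699
theorem L56705 : sm gj N6610 = N6610 := ded_52_1 (flp_h L56699) L39388 L56699
theorem L56706 : sm gd N6610 = N4585 := ded_38_1 (flp_h L39490) L27480 (flp_h L27434) (flp_d L39386) L56699
theorem L56708 : sm gi N4574 = N6611 := rfl
theorem L56710 : sm ga N6611 = N6611 := ded_18_1 (flp_i L56708) L39392 L56708
theorem L56711 : sm gc N6611 = N6611 := ded_33_1 (flp_i L56708) L39393 L56708
theorem L56712 : sm gd N6611 = N4586 := ded_39_1 (flp_i L39496) (flp_d L39396) L56708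
theorem L56714 : sm ge N6611 = N6611 := ded_44_1 (flp_i L56708) L39394 L56708
theorem L56715 : sm gj N6611 = N6611 := ded_53_1 (flp_i L56708) L39395 L56708
theorem L56716 : sm gh N6611 = N6611 := ded_54_1 (flp_i L56708) (flp_h L39390) L27425 L39390 L56708
theorem L56717 : sm gj N4575 = N6612 := rfl
theorem L56719 : sm ga N6612 = N6612 := ded_16_1 (flp_j L56717) L39400 L56717
theorem L56720 : sm gc N6612 = N4576 := ded_31_1 (flp_j L39408) (flp_c L39401) L56717
theorem L56722 : sm ge N6612 = N4621 := ded_42_1 (flp_j L39782) (flp_e L39403) L56717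
theorem L56724 : sm gh N6612 = N4587 := ded_52_2 (flp_j L39504) (flp_h L39405) L56717
theorem L56726 : sm gi N6612 = N6612 := ded_53_2 (flp_j L56717) L39407 L56717
theorem L56727 : sm gg N6612 = N6612 := ded_49_1 (flp_j L56717) (flp_g L39398) L27433 L39398 L56717
theorem L56728 : sm gc N4577 = N6613 := rfl
theorem L56730 : sm ga N6613 = N4579 := ded_11_1 (flp_c L39440) (flp_a L39421) L56728
theorem L56732 : sm ge N6613 = N4816 := ded_28_2 (flp_c L41484) (flp_e L39427) L56728
theorem L56734 : sm gj N6613 = N6613 := ded_31_2 (flp_c L56728) L39424 L56728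
theorem L56735 : sm gi N6613 = N4588 := ded_33_2 (flp_c L39514) (flp_i L39425) L56728
theorem L56737 : sm gd N6613 = N6613 := ded_27_2 (flp_c L56728) (flp_d L39419) L27454 L39419 L56728
theorem L56738 : sm gf N4577 = N6614 := rfl
theorem L56740 : sm ga N6614 = N4580 := ded_14_1 (flp_f L39448) (flp_a L39421) L56738
theorem L56742 : sm gb N6614 = N6614 := ded_22_1 (flp_f L56738) L39423 L56738
theorem L56743 : sm gd N6614 = N4578 := ded_35_1 (flp_f L39429) L39419 L56738
theorem L56745 : sm gj N6614 = N6614 := ded_46_2 (flp_f L56738) L39424 L56738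
theorem L56746 : sm gi N6614 = N4589 := ded_48_2 (flp_f L39522) (flp_i L39425) L56738
theorem L56748 : sm gh N4577 = N6615 := rfl
theorem L56750 : sm ga N6615 = N4581 := ded_17_1 (flp_h L39457) (flp_a L39421) L56748
theorem L56752 : sm gb N6615 = N6615 := ded_25_1 (flp_h L56748) L39423 L56748
theorem L56753 : sm ge N6615 = N4818 := ded_43_1 (flp_h L41503) (flp_e L39427) L56748
theorem L56755 : sm gj N6615 = N6615 := ded_52_1 (flp_h L56748) L39424 L56748
theorem L56756 : sm gg N4578 = N6616 := rfl
theorem L56758 : sm ga N6616 = N4582 := ded_15_1 (flp_g L39464) (flp_a L39431) L56756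
theorem L56760 : sm gb N6616 = N6616 := ded_23_1 (flp_g L56756) L39433 L56756
theorem L56761 : sm gc N6616 = N6616 := ded_30_1 (flp_g L56756) L39434 L56756
theorem L56762 : sm ge N6616 = N4625 := ded_41_1 (flp_g L39822) (flp_e L39438) L56756
theorem L56764 : sm gi N6616 = N4591 := ded_51_2 (flp_g L39539) (flp_i L39436) L56756
theorem L56766 : sm gf N4579 = N6617 := rfl
theorem L56768 : sm gc N6617 = N4580 := ded_29_1 (flp_f L39448) L39440 L56766
theorem L56770 : sm gd N6617 = N6617 := ded_35_1 (flp_f L56766) L39447 L56766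
theorem L56771 : sm gj N6617 = N6617 := ded_46_2 (flp_f L56766) L39444 L56766
theorem L56772 : sm gi N6617 = N4592 := ded_48_2 (flp_f L39548) (flp_i L39445) L56766
theorem L56774 : sm gh N4579 = N6618 := rfl
theorem L56776 : sm gc N6618 = N4581 := ded_32_1 (flp_h L39457) L39440 L56774
theorem L56778 : sm ge N6618 = N4821 := ded_43_1 (flp_h L41531) (flp_e L39442) L56774
theorem L56780 : sm gj N6618 = N6618 := ded_52_1 (flp_h L56774) L39444 L56774
theorem L56781 : sm ge N4580 = N6619 := rfl
theorem L56783 : sm gb N6619 = N4583 := ded_21_1 (flp_e L39473) (flp_b L39450) L56781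
theorem L56785 : sm gj N6619 = N6619 := ded_42_2 (flp_e L56781) L39454 L56781
theorem L56786 : sm gi N6619 = N4594 := ded_44_2 (flp_e L39561) (flp_i L39455) L56781
theorem L56788 : sm gd N6619 = N4628 := ded_34_1 (flp_e L39849) L27734 (flp_e L27475) (flp_d L39452) L56781
theorem L56790 : sm gf N6619 = N4822 := ded_40_2 (flp_e L41536) (flp_f L28870) (flp_e L27465) L39448 L56781
theorem L56792 : sm gg N4580 = N6620 := rfl
theorem L56794 : sm gb N6620 = N4584 := ded_23_1 (flp_g L39483) (flp_b L39450) L56792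
theorem L56796 : sm gd N6620 = N4582 := ded_36_1 (flp_g L39464) (flp_d L39452) L56792
theorem L56798 : sm gi N6620 = N4595 := ded_51_2 (flp_g L39570) (flp_i L39455) L56792
theorem L56800 : sm gh N4580 = N6621 := rfl
theorem L56802 : sm gb N6621 = N4585 := ded_25_1 (flp_h L39490) (flp_b L39450) L56800
theorem L56804 : sm gf N6621 = N4581 := ded_47_1 (flp_h L39457) L39448 L56800
theorem L56806 : sm gj N6621 = N6621 := ded_52_1 (flp_h L56800) L39454 L56800
theorem L56807 : sm gi N4581 = N6622 := rfl
theorem L56809 : sm gb N6622 = N4586 := ded_26_1 (flp_i L39496) (flp_b L39459) L56807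
theorem L56811 : sm ge N6622 = N4825 := ded_44_1 (flp_i L41561) (flp_e L39461) L56807
theorem L56813 : sm gj N6622 = N6622 := ded_53_1 (flp_i L56807) L39463 L56807
theorem L56814 : sm gh N6622 = N4597 := ded_54_1 (flp_i L39584) (flp_h L27540) (flp_i L27463) L39457 L56807
theorem L56816 : sm gj N4582 = N6623 := rfl
theorem L56818 : sm gb N6623 = N4587 := ded_24_1 (flp_j L39504) (flp_b L39466) L56816
theorem L56820 : sm gc N6623 = N6623 := ded_31_1 (flp_j L56816) L39468 L56816
theorem L56821 : sm ge N6623 = N4632 := ded_42_1 (flp_j L39884) (flp_e L39469) L56816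
theorem L56823 : sm gi N6623 = N4598 := ded_53_2 (flp_j L39592) (flp_i L39471) L56816
theorem L56825 : sm gg N6623 = N6623 := ded_49_1 (flp_j L56816) (flp_g L39464) L27472 L39464 L56816
theorem L56826 : sm gg N4583 = N6624 := rfl
theorem L56828 : sm ga N6624 = N6624 := ded_15_1 (flp_g L56826) L39475 L56826
theorem L56829 : sm gd N6624 = N4633 := ded_36_1 (flp_g L39893) (flp_d L39479) L56826
theorem L56831 : sm ge N6624 = N4584 := ded_41_1 (flp_g L39483) L39473 L56826
theorem L56833 : sm gi N6624 = N4599 := ded_51_2 (flp_g L39601) (flp_i L39477) L56826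
theorem L56835 : sm gh N4583 = N6625 := rfl
theorem L56837 : sm ga N6625 = N6625 := ded_17_1 (flp_h L56835) L39475 L56835
theorem L56838 : sm ge N6625 = N4585 := ded_43_1 (flp_h L39490) L39473 L56835
theorem L56840 : sm gf N6625 = N4828 := ded_47_1 (flp_h L41590) (flp_f L39481) L56835
theorem L56842 : sm gj N6625 = N6625 := ded_52_1 (flp_h L56835) L39476 L56835
theorem L56843 : sm gj N4584 = N6626 := rfl
theorem L56845 : sm ga N6626 = N6626 := ded_16_1 (flp_j L56843) L39485 L56843
theorem L56846 : sm gd N6626 = N4587 := ded_37_1 (flp_j L39504) (flp_d L39486) L56843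
theorem L56848 : sm gi N6626 = N4601 := ded_53_2 (flp_j L39616) (flp_i L39488) L56843
theorem L56850 : sm gg N6626 = N6626 := ded_49_1 (flp_j L56843) (flp_g L39483) L27482 L39483 L56843
theorem L56851 : sm gh N4584 = N6627 := rfl
theorem L56853 : sm ga N6627 = N6627 := ded_17_1 (flp_h L56851) L39485 L56851
theorem L56854 : sm gg N6627 = N4585 := ded_50_1 (flp_h L39490) L39483 L56851
theorem L56856 : sm gi N4585 = N6628 := rfl
theorem L56858 : sm ga N6628 = N6628 := ded_18_1 (flp_i L56856) L39492 L56856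
theorem L56859 : sm gf N6628 = N4586 := ded_48_1 (flp_i L39496) (flp_f L39493) L56856
theorem L56861 : sm gj N6628 = N6628 := ded_53_1 (flp_i L56856) L39495 L56856
theorem L56862 : sm gh N6628 = N4603 := ded_54_1 (flp_i L39628) (flp_h L27569) (flp_i L27483) L39490 L56856
theorem L56864 : sm gb N4588 = N6629 := rfl
theorem L56866 : sm gd N6629 = N6629 := ded_20_2 (flp_b L56864) L39521 L56864
theorem L56867 : sm ge N6629 = N4832 := ded_21_2 (flp_b L41619) (flp_e L39518) L56864
theorem L56869 : sm gj N6629 = N6629 := ded_24_2 (flp_b L56864) L39520 L56864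
theorem L56870 : sm gc N6629 = N6629 := ded_19_2 (flp_b L56864) (flp_c L39514) L27513 L39514 L56864
theorem L56871 : sm gf N4588 = N6630 := rfl
theorem L56873 : sm ga N6630 = N4592 := ded_14_1 (flp_f L39548) (flp_a L39516) L56871
theorem L56875 : sm gc N6630 = N4589 := ded_29_1 (flp_f L39522) L39514 L56871
theorem L56877 : sm gd N6630 = N6630 := ded_35_1 (flp_f L56871) L39521 L56871
theorem L56878 : sm gj N6630 = N6630 := ded_46_2 (flp_f L56871) L39520 L56871
theorem L56879 : sm gh N4588 = N6631 := rfl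
theorem L56881 : sm ga N6631 = N4593 := ded_17_1 (flp_h L39554) (flp_a L39516) L56879
theorem L56883 : sm gc N6631 = N4590 := ded_32_1 (flp_h L39530) L39514 L56879
theorem L56885 : sm ge N6631 = N4834 := ded_43_1 (flp_h L41634) (flp_e L39518) L56879
theorem L56887 : sm gj N6631 = N6631 := ded_52_1 (flp_h L56879) L39520 L56879
theorem L56888 : sm ge N4589 = N6632 := rfl
theorem L56890 : sm ga N6632 = N4594 := ded_13_1 (flp_e L39561) (flp_a L39524) L56888
theorem L56892 : sm gb N6632 = N6632 := ded_21_1 (flp_e L56888) L39526 L56888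
theorem L56893 : sm gj N6632 = N6632 := ded_42_2 (flp_e L56888) L39529 L56888
theorem L56894 : sm gd N6632 = N4641 := ded_34_1 (flp_e L39963) L27813 (flp_e L27525) (flp_d L39527) L56888
theorem L56896 : sm gf N6632 = N4835 := ded_40_2 (flp_e L41641) (flp_f L28943) (flp_e L27515) L39522 L56888
theorem L56898 : sm gg N4589 = N6633 := rfl
theorem L56900 : sm ga N6633 = N4595 := ded_15_1 (flp_g L39570) (flp_a L39524) L56898
theorem L56902 : sm gb N6633 = N6633 := ded_23_1 (flp_g L56898) L39526 L56898
theorem L56903 : sm gd N6633 = N4591 := ded_36_1 (flp_g L39539) (flp_d L39527) L56898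
theorem L56905 : sm gh N4589 = N6634 := rfl
theorem L56907 : sm ga N6634 = N4596 := ded_17_1 (flp_h L39576) (flp_a L39524) L56905
theorem L56909 : sm gb N6634 = N6634 := ded_25_1 (flp_h L56905) L39526 L56905
theorem L56910 : sm gf N6634 = N4590 := ded_47_1 (flp_h L39530) L39522 L56905
theorem L56912 : sm gj N6634 = N6634 := ded_52_1 (flp_h L56905) L39529 L56905
theorem L56913 : sm gd N6634 = N6634 := ded_38_1 (flp_h L56905) L39527 L27524 (flp_d L39527) L56905
theorem L56914 : sm gi N4590 = N6635 := rfl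
theorem L56916 : sm ga N6635 = N4597 := ded_18_1 (flp_i L39584) (flp_a L39532) L56914
theorem L56918 : sm gb N6635 = N6635 := ded_26_1 (flp_i L56914) L39534 L56914
theorem L56919 : sm gd N6635 = N6635 := ded_39_1 (flp_i L56914) L39538 L56914
theorem L56920 : sm ge N6635 = N4838 := ded_44_1 (flp_i L41666) (flp_e L39535) L56914
theorem L56922 : sm gj N6635 = N6635 := ded_53_1 (flp_i L56914) L39537 L56914
theorem L56923 : sm gj N4591 = N6636 := rfl
theorem L56925 : sm ga N6636 = N4598 := ded_16_1 (flp_j L39592) (flp_a L39541) L56923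
theorem L56927 : sm gb N6636 = N6636 := ded_24_1 (flp_j L56923) L39543 L56923
theorem L56928 : sm gc N6636 = N6636 := ded_31_1 (flp_j L56923) L39544 L56923
theorem L56929 : sm ge N6636 = N4645 := ded_42_1 (flp_j L39998) (flp_e L39545) L56923
theorem L56931 : sm gh N6636 = N6636 := ded_52_2 (flp_j L56923) L39547 L56923
theorem L56932 : sm gg N6636 = N6636 := ded_49_1 (flp_j L56923) (flp_g L39539) L27523 L39539 L56923
theorem L56933 : sm ge N4592 = N6637 := rfl
theorem L56935 : sm gc N6637 = N4594 := ded_28_1 (flp_e L39561) (flp_c L39550) L56933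
theorem L56937 : sm gj N6637 = N6637 := ded_42_2 (flp_e L56933) L39553 L56933
theorem L56938 : sm gf N6637 = N4840 := ded_40_2 (flp_e L41686) (flp_f L28970) (flp_e L27529) L39548 L56933
theorem L56940 : sm gg N4592 = N6638 := rfl
theorem L56942 : sm gc N6638 = N4595 := ded_30_1 (flp_g L39570) (flp_c L39550) L56940
theorem L56944 : sm gd N6638 = N6638 := ded_36_1 (flp_g L56940) L39552 L56940
theorem L56945 : sm gh N4592 = N6639 := rfl
theorem L56947 : sm gc N6639 = N4596 := ded_32_1 (flp_h L39576) (flp_c L39550) L56945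
theorem L56949 : sm gf N6639 = N4593 := ded_47_1 (flp_h L39554) L39548 L56945
theorem L56951 : sm gj N6639 = N6639 := ded_52_1 (flp_h L56945) L39553 L56945
theorem L56952 : sm gd N4593 = N6640 := rfl
theorem L56954 : sm gj N6640 = N6640 := ded_37_2 (flp_d L56952) L39560 L56952
theorem L56955 : sm gc N6640 = N6640 := ded_27_1 (flp_d L56952) L39556 L27547 (flp_c L39556) L56952
theorem L56956 : sm gh N6640 = N6640 := ded_38_2 (flp_d L56952) (flp_h L39554) L27532 L39554 L56952
theorem L56957 : sm gi N4593 = N6641 := rfl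
theorem L56959 : sm gc N6641 = N4597 := ded_33_1 (flp_i L39584) (flp_c L39556) L56957
theorem L56961 : sm ge N6641 = N4844 := ded_44_1 (flp_i L41711) (flp_e L39558) L56957
theorem L56963 : sm gj N6641 = N6641 := ded_53_1 (flp_i L56957) L39560 L56957
theorem L56964 : sm gg N4594 = N6642 := rfl
theorem L56966 : sm gb N6642 = N4599 := ded_23_1 (flp_g L39601) (flp_b L39563) L56964
theorem L56968 : sm gd N6642 = N4651 := ded_36_1 (flp_g L40047) (flp_d L39566) L56964
theorem L56970 : sm ge N6642 = N4595 := ded_41_1 (flp_g L39570) L39561 L56964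
theorem L56972 : sm gh N4594 = N6643 := rfl
theorem L56974 : sm gb N6643 = N4600 := ded_25_1 (flp_h L39608) (flp_b L39563) L56972
theorem L56976 : sm ge N6643 = N4596 := ded_43_1 (flp_h L39576) L39561 L56972
theorem L56978 : sm gf N6643 = N4846 := ded_47_1 (flp_h L41724) (flp_f L39568) L56972
theorem L56980 : sm gj N6643 = N6643 := ded_52_1 (flp_h L56972) L39565 L56972
theorem L56981 : sm gj N4595 = N6644 := rfl
theorem L56983 : sm gb N6644 = N4601 := ded_24_1 (flp_j L39616) (flp_b L39572) L56981
theorem L56985 : sm gd N6644 = N4598 := ded_37_1 (flp_j L39592) (flp_d L39574) L56981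
theorem L56987 : sm gg N6644 = N6644 := ded_49_1 (flp_j L56981) (flp_g L39570) L27539 L39570 L56981
theorem L56988 : sm gh N4595 = N6645 := rfl
theorem L56990 : sm gb N6645 = N4602 := ded_25_1 (flp_h L39622) (flp_b L39572) L56988
theorem L56992 : sm gg N6645 = N4596 := ded_50_1 (flp_h L39576) L39570 L56988
theorem L56994 : sm gd N6645 = N6645 := ded_38_1 (flp_h L56988) L39574 L27555 (flp_d L39574) L56988
theorem L56995 : sm gi N4596 = N6646 := rfl
theorem L56997 : sm gb N6646 = N4603 := ded_26_1 (flp_i L39628) (flp_b L39578) L56995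
theorem L56999 : sm gd N6646 = N6646 := ded_39_1 (flp_i L56995) L39583 L56995
theorem L57000 : sm gf N6646 = N4597 := ded_48_1 (flp_i L39584) (flp_f L39580) L56995
theorem L57002 : sm gj N6646 = N6646 := ded_53_1 (flp_i L56995) L39582 L56995
theorem L57003 : sm gf N4599 = N6647 := rfl
theorem L57005 : sm ga N6647 = N6647 := ded_14_1 (flp_f L57003) L39603 L57003
theorem L57006 : sm gd N6647 = N4656 := ded_35_1 (flp_f L40086) (flp_d L39604) L57003
theorem L57008 : sm gg N6647 = N4850 := ded_45_2 (flp_f L41755) (flp_g L29022) (flp_f L27562) L39601 L57003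
theorem L57010 : sm gj N4599 = N6648 := rfl
theorem L57012 : sm ga N6648 = N6648 := ded_16_1 (flp_j L57010) L39603 L57010
theorem L57013 : sm gd N6648 = N4657 := ded_37_1 (flp_j L40093) (flp_d L39604) L57010
theorem L57015 : sm ge N6648 = N4601 := ded_42_1 (flp_j L39616) (flp_e L39606) L57010
theorem L57017 : sm gg N6648 = N6648 := ded_49_1 (flp_j L57010) (flp_g L39601) L27559 L39601 L57010
theorem L57018 : sm gh N4599 = N6649 := rfl
theorem L57020 : sm ga N6649 = N6649 := ded_17_1 (flp_h L57018) L39603 L57018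
theorem L57021 : sm ge N6649 = N4602 := ded_43_1 (flp_h L39622) (flp_e L39606) L57018
theorem L57023 : sm gg N6649 = N4600 := ded_50_1 (flp_h L39608) L39601 L57018
theorem L57025 : sm gd N4600 = N6650 := rfl
theorem L57027 : sm ga N6650 = N6650 := ded_12_1 (flp_d L57025) L39610 L57025
theorem L57028 : sm gf N6650 = N4853 := ded_35_2 (flp_d L41775) (flp_f L39613) L57025
theorem L57030 : sm gj N6650 = N6650 := ded_37_2 (flp_d L57025) L39615 L57025
theorem L57031 : sm ge N6650 = N6650 := ded_34_2 (flp_d L57025) L39611 L27575 (flp_e L39611) L57025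
theorem L57032 : sm gh N6650 = N4659 := ded_38_2 (flp_d L40108) (flp_h L27895) (flp_d L27560) L39608 L57025
theorem L57034 : sm gi N4600 = N6651 := rfl
theorem L57036 : sm ga N6651 = N6651 := ded_18_1 (flp_i L57034) L39610 L57034
theorem L57037 : sm ge N6651 = N4603 := ded_44_1 (flp_i L39628) (flp_e L39611) L57034
theorem L57039 : sm gf N6651 = N4854 := ded_48_1 (flp_i L41783) (flp_f L39613) L57034
theorem L57041 : sm gj N6651 = N6651 := ded_53_1 (flp_i L57034) L39615 L57034

end Cfsg.Agent.Helper28.FicA
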