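import Cfsg.Agent.Helper28.FicB12

/-! # The Fi₂₃ presentation, cosets of the subgroup generated by a, …, i: the coset enumeration, part 13 (helper28; generated) -/

set_option autoImplicit false

noncomputable section

namespace Cfsg.Agent.Helper28.FicA

open Cfsg.Agent.Helper28.CosetTable

theorem L57042 : sm gh N4601 = N6652 := rfl
theorem L57044 : sm ga N6652 = N6652 := ded_17_1 (flp_h L57042) L39618 L57042
theorem L57045 : sm gg N6652 = N6652 := ded_50_1 (flp_h L57042) L39621 L57042
theorem L57046 : sm gj N6652 = N4602 := ded_52_1 (flp_h L39622) L39616 L57042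
theorem L57048 : sm gd N6652 = N6652 := ded_38_1 (flp_h L57042) L39619 L27590 (flp_d L39619) L57042
theorem L57049 : sm gi N4602 = N6653 := rfl
theorem L57051 : sm ga N6653 = N6653 := ded_18_1 (flp_i L57049) L39624 L57049
theorem L57052 : sm gd N6653 = N6653 := ded_39_1 (flp_i L57049) L39627 L57049
theorem L57053 : sm gg N6653 = N4603 := ded_51_1 (flp_i L39628) (flp_g L39625) L57049
theorem L57055 : sm gd N4604 = N6654 := rfl
theorem L57057 : sm ga N6654 = N4605 := ded_12_1 (flp_d L39645) (flp_a L39637) L57055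
theorem L57059 : sm gb N6654 = N6654 := ded_20_1 (flp_d L57055) L39639 L57055
theorem L57064 : sm gf N4604 = N6655 := rfl
theorem L57066 : sm ga N6655 = N4606 := ded_14_1 (flp_f L39653) (flp_a L39637) L57064
theorem L57074 : sm gc N4605 = N6656 := rfl
theorem L57077 : sm gg N6656 = N6656 := ded_30_2 (flp_c L57074) L39649 L57074
theorem L57080 : sm gb N6656 = N4613 := ded_19_1 (flp_c L39719) L27652 (flp_c L27617) (flp_b L39647) L57074
theorem L57083 : sm gf N4605 = N6657 := rfl
theorem L57085 : sm gb N6657 = N4607 := ded_22_1 (flp_f L39662) (flp_b L39647) L57083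
theorem L57087 : sm gd N6657 = N4606 := ded_35_1 (flp_f L39653) L39645 L57083
theorem L57091 : sm gh N4605 = N6658 := rfl
theorem L57099 : sm gg N4606 = N6659 := rfl
theorem L57101 : sm gb N6659 = N4609 := ded_23_1 (flp_g L39680) (flp_b L39655) L57099
theorem L57103 : sm gc N6659 = N6659 := ded_30_1 (flp_g L57099) L39657 L57099
theorem L57104 : sm ge N6659 = N6659 := ded_41_1 (flp_g L57099) L39661 L57099
theorem L57105 : sm gh N6659 = N6659 := ded_50_2 (flp_g L57099) L39659 L57099
theorem L57106 : sm gi N6659 = N6659 := ded_51_2 (flp_g L57099) L39660 L57099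
theorem L57107 : sm gf N6659 = N6659 := ded_45_1 (flp_g L57099) (flp_f L39653) L27607 L39653 L57099
theorem L57108 : sm ge N4607 = N6660 := rfl
theorem L57110 : sm ga N6660 = N6660 := ded_13_1 (flp_e L57108) L39664 L57108
theorem L57111 : sm gc N6660 = N4617 := ded_28_1 (flp_e L39752) (flp_c L39665) L57108
theorem L57113 : sm gj N6660 = N6660 := ded_42_2 (flp_e L57108) L39669 L57108
theorem L57114 : sm gi N6660 = N6660 := ded_44_2 (flp_e L57108) L39670 L57108
theorem L57115 : sm gd N6660 = N6660 := ded_34_1 (flp_e L57108) L39667 L27628 (flp_d L39667) L57108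
theorem L57116 : sm gf N6660 = N6660 := ded_40_2 (flp_e L57108) (flp_f L39662) L27619 L39662 L57108
theorem L57117 : sm gg N4607 = N6661 := rfl
theorem L57119 : sm ga N6661 = N6661 := ded_15_1 (flp_g L57117) L39664 L57117
theorem L57120 : sm gc N6661 = N4618 := ded_30_1 (flp_g L39758) (flp_c L39665) L57117
theorem L57122 : sm gd N6661 = N4609 := ded_36_1 (flp_g L39680) (flp_d L39667) L57117
theorem L57124 : sm gi N6661 = N6661 := ded_51_2 (flp_g L57117) L39670 L57117
theorem L57125 : sm gf N6661 = N6661 := ded_45_1 (flp_g L57117) (flp_f L39662) L27614 L39662 L57117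
theorem L57126 : sm gh N4607 = N6662 := rfl
theorem L57131 : sm gf N6662 = N4608 := ded_47_1 (flp_h L39671) L39662 L57126
theorem L57145 : sm gj N4609 = N6664 := rfl
theorem L57147 : sm ga N6664 = N6664 := ded_16_1 (flp_j L57145) L39682 L57145
theorem L57148 : sm gc N6664 = N4610 := ded_31_1 (flp_j L39689) (flp_c L39683) L57145
theorem L57150 : sm ge N6664 = N6664 := ded_42_1 (flp_j L57145) L39685 L57145
theorem L57151 : sm gf N6664 = N6664 := ded_46_1 (flp_j L57145) L39688 L57145
theorem L57152 : sm gh N6664 = N6664 := ded_52_2 (flp_j L57145) L39686 L57145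
theorem L57153 : sm gi N6664 = N6664 := ded_53_2 (flp_j L57145) L39687 L57145
theorem L57154 : sm gg N6664 = N6664 := ded_49_1 (flp_j L57145) (flp_g L39680) L27625 L39680 L57145
theorem L57155 : sm gc N4611 = N6665 := rfl
theorem L57157 : sm ga N6665 = N4613 := ded_11_1 (flp_c L39719) (flp_a L39702) L57155
theorem L57164 : sm gf N4611 = N6666 := rfl
theorem L57166 : sm ga N6666 = N4614 := ded_14_1 (flp_f L39726) (flp_a L39702) L57164
theorem L57169 : sm gd N6666 = N4612 := ded_35_1 (flp_f L39709) L39700 L57164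
theorem L57173 : sm gh N4611 = N6667 := rfl
theorem L57175 : sm ga N6667 = N4615 := ded_17_1 (flp_h L39734) (flp_a L39702) L57173
theorem L57181 : sm gd N6667 = N4624 := ded_38_1 (flp_h L39813) (flp_d L27700) (flp_h L27647) L39700 L57173
theorem L57183 : sm gg N4612 = N6668 := rfl
theorem L57185 : sm ga N6668 = N4616 := ded_15_1 (flp_g L39743) (flp_a L39711) L57183
theorem L57187 : sm gb N6668 = N6668 := ded_23_1 (flp_g L57183) L39713 L57183
theorem L57188 : sm gc N6668 = N6668 := ded_30_1 (flp_g L57183) L39714 L57183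
theorem L57189 : sm gh N6668 = N4625 := ded_50_2 (flp_g L39822) (flp_h L39716) L57183
theorem L57191 : sm gi N6668 = N6668 := ded_51_2 (flp_g L57183) L39718 L57183
theorem L57192 : sm gf N6668 = N6668 := ded_45_1 (flp_g L57183) (flp_f L39709) L27645 L39709 L57183
theorem L57193 : sm gf N4613 = N6669 := rfl
theorem L57195 : sm gc N6669 = N4614 := ded_29_1 (flp_f L39726) L39719 L57193
theorem L57200 : sm gh N4613 = N6670 := rfl
theorem L57202 : sm gc N6670 = N4615 := ded_32_1 (flp_h L39734) L39719 L57200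
theorem L57207 : sm ge N4614 = N6671 := rfl
theorem L57209 : sm gb N6671 = N4617 := ded_21_1 (flp_e L39752) (flp_b L39728) L57207
theorem L57211 : sm gj N6671 = N6671 := ded_42_2 (flp_e L57207) L39732 L57207
theorem L57212 : sm gi N6671 = N6671 := ded_44_2 (flp_e L57207) L39733 L57207
theorem L57213 : sm gf N6671 = N6671 := ded_40_2 (flp_e L57207) (flp_f L39726) L27657 L39726 L57207
theorem L57214 : sm gg N4614 = N6672 := rfl
theorem L57216 : sm gb N6672 = N4618 := ded_23_1 (flp_g L39758) (flp_b L39728) L57214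
theorem L57218 : sm gd N6672 = N4616 := ded_36_1 (flp_g L39743) (flp_d L39730) L57214
theorem L57220 : sm gi N6672 = N6672 := ded_51_2 (flp_g L57214) L39733 L57214
theorem L57221 : sm gf N6672 = N6672 := ded_45_1 (flp_g L57214) (flp_f L39726) L27654 L39726 L57214
theorem L57222 : sm gh N4614 = N6673 := rfl
theorem L57229 : sm gd N6673 = N4630 := ded_38_1 (flp_h L39867) L27734 (flp_h L27664) (flp_d L39730) L57222
theorem L57241 : sm gj N4616 = N6675 := rfl
theorem L57243 : sm gb N6675 = N4621 := ded_24_1 (flp_j L39782) (flp_b L39745) L57241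
theorem L57245 : sm gc N6675 = N6675 := ded_31_1 (flp_j L57241) L39747 L57241
theorem L57246 : sm gf N6675 = N6675 := ded_46_1 (flp_j L57241) L39751 L57241
theorem L57247 : sm gh N6675 = N4632 := ded_52_2 (flp_j L39884) (flp_h L39748) L57241
theorem L57249 : sm gi N6675 = N6675 := ded_53_2 (flp_j L57241) L39750 L57241
theorem L57250 : sm gg N6675 = N6675 := ded_49_1 (flp_j L57241) (flp_g L39743) L27663 L39743 L57241
theorem L57251 : sm gg N4617 = N6676 := rfl
theorem L57253 : sm ga N6676 = N6676 := ded_15_1 (flp_g L57251) L39754 L57251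
theorem L57254 : sm ge N6676 = N4618 := ded_41_1 (flp_g L39758) L39752 L57251
theorem L57256 : sm gi N6676 = N6676 := ded_51_2 (flp_g L57251) L39756 L57251
theorem L57257 : sm gh N4617 = N6677 := rfl
theorem L57259 : sm ga N6677 = N6677 := ded_17_1 (flp_h L57257) L39754 L57257
theorem L57260 : sm ge N6677 = N4619 := ded_43_1 (flp_h L39765) L39752 L57257
theorem L57262 : sm gf N6677 = N6677 := ded_47_1 (flp_h L57257) L39757 L57257
theorem L57263 : sm gj N6677 = N6677 := ded_52_1 (flp_h L57257) L39755 L57257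
theorem L57264 : sm gj N4618 = N6678 := rfl
theorem L57266 : sm ga N6678 = N6678 := ded_16_1 (flp_j L57264) L39760 L57264
theorem L57267 : sm gd N6678 = N4621 := ded_37_1 (flp_j L39782) (flp_d L39761) L57264
theorem L57269 : sm gf N6678 = N6678 := ded_46_1 (flp_j L57264) L39764 L57264
theorem L57270 : sm gi N6678 = N6678 := ded_53_2 (flp_j L57264) L39763 L57264
theorem L57271 : sm gg N6678 = N6678 := ded_49_1 (flp_j L57264) (flp_g L39758) L27672 L39758 L57264
theorem L57272 : sm gh N4618 = N6679 := rfl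
theorem L57274 : sm ga N6679 = N6679 := ded_17_1 (flp_h L57272) L39760 L57272
theorem L57275 : sm gf N6679 = N6679 := ded_47_1 (flp_h L57272) L39764 L57272
theorem L57276 : sm gg N6679 = N4619 := ded_50_1 (flp_h L39765) L39758 L57272
theorem L57278 : sm gd N6679 = N4636 := ded_38_1 (flp_h L39920) L27768 (flp_h L27687) (flp_d L39761) L57272
theorem L57289 : sm gb N4622 = N6681 := rfl
theorem L57296 : sm gi N6681 = N4638 := ded_26_2 (flp_b L39936) (flp_i L39800) L57289
theorem L57300 : sm gf N4622 = N6682 := rfl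
theorem L57302 : sm ga N6682 = N4626 := ded_14_1 (flp_f L39831) (flp_a L39794) L57300
theorem L57304 : sm gc N6682 = N4623 := ded_29_1 (flp_f L39803) L39792 L57300
theorem L57308 : sm gi N6682 = N4639 := ded_48_2 (flp_f L39945) (flp_i L39800) L57300
theorem L57310 : sm gh N4622 = N6683 := rfl
theorem L57312 : sm ga N6683 = N4627 := ded_17_1 (flp_h L39840) (flp_a L39794) L57310
theorem L57314 : sm gc N6683 = N4624 := ded_32_1 (flp_h L39813) L39792 L57310
theorem L57316 : sm ge N6683 = N4859 := ded_43_1 (flp_h L41825) (flp_e L39796) L57310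
theorem L57320 : sm ge N4623 = N6684 := rfl
theorem L57322 : sm ga N6684 = N4628 := ded_13_1 (flp_e L39849) (flp_a L39805) L57320
theorem L57324 : sm gb N6684 = N6684 := ded_21_1 (flp_e L57320) L39807 L57320
theorem L57325 : sm gj N6684 = N6684 := ded_42_2 (flp_e L57320) L39810 L57320
theorem L57326 : sm gi N6684 = N4641 := ded_44_2 (flp_e L39963) (flp_i L39811) L57320
theorem L57328 : sm gf N6684 = N4860 := ded_40_2 (flp_e L41833) (flp_f L29066) (flp_e L27709) L39803 L57320
theorem L57330 : sm gg N4623 = N6685 := rfl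
theorem L57332 : sm ga N6685 = N4629 := ded_15_1 (flp_g L39858) (flp_a L39805) L57330
theorem L57334 : sm gb N6685 = N6685 := ded_23_1 (flp_g L57330) L39807 L57330
theorem L57335 : sm gd N6685 = N4625 := ded_36_1 (flp_g L39822) (flp_d L39808) L57330
theorem L57337 : sm gi N6685 = N4642 := ded_51_2 (flp_g L39971) (flp_i L39811) L57330
theorem L57339 : sm gf N6685 = N6685 := ded_45_1 (flp_g L57330) (flp_f L39803) L27705 L39803 L57330
theorem L57340 : sm gh N4623 = N6686 := rfl
theorem L57348 : sm gi N4624 = N6687 := rfl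
theorem L57357 : sm gh N6687 = N4644 := ded_54_1 (flp_i L39988) (flp_h L27816) (flp_i L27707) L39813 L57348
theorem L57359 : sm gj N4625 = N6688 := rfl
theorem L57361 : sm ga N6688 = N4632 := ded_16_1 (flp_j L39884) (flp_a L39824) L57359
theorem L57363 : sm gb N6688 = N6688 := ded_24_1 (flp_j L57359) L39826 L57359
theorem L57364 : sm gc N6688 = N6688 := ded_31_1 (flp_j L57359) L39827 L57359
theorem L57365 : sm gf N6688 = N6688 := ded_46_1 (flp_j L57359) L39830 L57359
theorem L57366 : sm gi N6688 = N4645 := ded_53_2 (flp_j L39998) (flp_i L39828) L57359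
theorem L57368 : sm gg N6688 = N6688 := ded_49_1 (flp_j L57359) (flp_g L39822) L27717 L39822 L57359
theorem L57369 : sm ge N4626 = N6689 := rfl
theorem L57371 : sm gb N6689 = N6689 := ded_21_1 (flp_e L57369) L39833 L57369
theorem L57372 : sm gc N6689 = N4628 := ded_28_1 (flp_e L39849) (flp_c L39834) L57369
theorem L57374 : sm gj N6689 = N6689 := ded_42_2 (flp_e L57369) L39837 L57369
theorem L57375 : sm gi N6689 = N4646 := ded_44_2 (flp_e L40007) (flp_i L39838) L57369
theorem L57377 : sm gf N6689 = N4865 := ded_40_2 (flp_e L41882) (flp_f L29095) (flp_e L27722) L39831 L57369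
theorem L57379 : sm gg N4626 = N6690 := rfl
theorem L57381 : sm gb N6690 = N6690 := ded_23_1 (flp_g L57379) L39833 L57379
theorem L57382 : sm gc N6690 = N4629 := ded_30_1 (flp_g L39858) (flp_c L39834) L57379
theorem L57384 : sm gd N6690 = N6690 := ded_36_1 (flp_g L57379) L39836 L57379
theorem L57385 : sm gi N6690 = N4647 := ded_51_2 (flp_g L40015) (flp_i L39838) L57379
theorem L57387 : sm gf N6690 = N6690 := ded_45_1 (flp_g L57379) (flp_f L39831) L27724 L39831 L57379
theorem L57388 : sm gh N4626 = N6691 := rfl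
theorem L57393 : sm gf N6691 = N4627 := ded_47_1 (flp_h L39840) L39831 L57388
theorem L57396 : sm gd N4627 = N6692 := rfl
theorem L57402 : sm gi N4627 = N6693 := rfl
theorem L57411 : sm gh N6693 = N4650 := ded_54_1 (flp_i L40038) (flp_h L27841) (flp_i L27726) L39840 L57402
theorem L57413 : sm gg N4628 = N6694 := rfl
theorem L57415 : sm gb N6694 = N4633 := ded_23_1 (flp_g L39893) (flp_b L39851) L57413
theorem L57417 : sm ge N6694 = N4629 := ded_41_1 (flp_g L39858) L39849 L57413
theorem L57419 : sm gi N6694 = N4651 := ded_51_2 (flp_g L40047) (flp_i L39854) L57413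
theorem L57421 : sm gh N4628 = N6695 := rfl
theorem L57423 : sm gb N6695 = N4634 := ded_25_1 (flp_h L39901) (flp_b L39851) L57421
theorem L57425 : sm ge N6695 = N4630 := ded_43_1 (flp_h L39867) L39849 L57421
theorem L57427 : sm gf N6695 = N4871 := ded_47_1 (flp_h L41933) (flp_f L39856) L57421
theorem L57429 : sm gj N6695 = N6695 := ded_52_1 (flp_h L57421) L39853 L57421
theorem L57430 : sm gj N4629 = N6696 := rfl
theorem L57432 : sm gb N6696 = N4635 := ded_24_1 (flp_j L39910) (flp_b L39860) L57430
theorem L57434 : sm gd N6696 = N4632 := ded_37_1 (flp_j L39884) (flp_d L39862) L57430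
theorem L57436 : sm gf N6696 = N6696 := ded_46_1 (flp_j L57430) L39866 L57430
theorem L57437 : sm gi N6696 = N4653 := ded_53_2 (flp_j L40062) (flp_i L39864) L57430
theorem L57439 : sm gg N6696 = N6696 := ded_49_1 (flp_j L57430) (flp_g L39858) L27736 L39858 L57430
theorem L57440 : sm gh N4629 = N6697 := rfl
theorem L57442 : sm gb N6697 = N4636 := ded_25_1 (flp_h L39920) (flp_b L39860) L57440
theorem L57444 : sm gf N6697 = N6697 := ded_47_1 (flp_h L57440) L39866 L57440
theorem L57445 : sm gg N6697 = N4630 := ded_50_1 (flp_h L39867) L39858 L57440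
theorem L57447 : sm gi N4630 = N6698 := rfl
theorem L57454 : sm gh N6698 = N4655 := ded_54_1 (flp_i L40078) (flp_h L27864) (flp_i L27737) L39867 L57447
theorem L57456 : sm gf N4633 = N6699 := rfl
theorem L57458 : sm ga N6699 = N6699 := ded_14_1 (flp_f L57456) L39895 L57456
theorem L57459 : sm gc N6699 = N6699 := ded_29_1 (flp_f L57456) L39896 L57456
theorem L57460 : sm gi N6699 = N4656 := ded_48_2 (flp_f L40086) (flp_i L39899) L57456
theorem L57462 : sm ge N6699 = N6699 := ded_40_1 (flp_f L57456) L39897 L27772 (flp_e L39897) L57456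
theorem L57463 : sm gg N6699 = N4875 := ded_45_2 (flp_f L41968) (flp_g L29156) (flp_f L27762) L39893 L57456
theorem L57465 : sm gj N4633 = N6700 := rfl
theorem L57467 : sm ga N6700 = N6700 := ded_16_1 (flp_j L57465) L39895 L57465
theorem L57468 : sm gc N6700 = N6700 := ded_31_1 (flp_j L57465) L39896 L57465
theorem L57469 : sm ge N6700 = N4635 := ded_42_1 (flp_j L39910) (flp_e L39897) L57465
theorem L57471 : sm gi N6700 = N4657 := ded_53_2 (flp_j L40093) (flp_i L39899) L57465
theorem L57473 : sm gg N6700 = N6700 := ded_49_1 (flp_j L57465) (flp_g L39893) L27759 L39893 L57465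
theorem L57474 : sm gh N4633 = N6701 := rfl
theorem L57476 : sm ga N6701 = N6701 := ded_17_1 (flp_h L57474) L39895 L57474
theorem L57477 : sm gc N6701 = N6701 := ded_32_1 (flp_h L57474) L39896 L57474
theorem L57478 : sm ge N6701 = N4636 := ded_43_1 (flp_h L39920) (flp_e L39897) L57474
theorem L57480 : sm gg N6701 = N4634 := ded_50_1 (flp_h L39901) L39893 L57474
theorem L57482 : sm gd N4634 = N6702 := rfl
theorem L57484 : sm ga N6702 = N6702 := ded_12_1 (flp_d L57482) L39903 L57482
theorem L57485 : sm gf N6702 = N4878 := ded_35_2 (flp_d L41992) (flp_f L39907) L57482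
theorem L57487 : sm gj N6702 = N6702 := ded_37_2 (flp_d L57482) L39909 L57482
theorem L57488 : sm gi N4634 = N6703 := rfl
theorem L57490 : sm ga N6703 = N6703 := ded_18_1 (flp_i L57488) L39903 L57488
theorem L57491 : sm gc N6703 = N6703 := ded_33_1 (flp_i L57488) L39904 L57488
theorem L57492 : sm ge N6703 = N4637 := ded_44_1 (flp_i L39927) (flp_e L39905) L57488
theorem L57494 : sm gf N6703 = N4879 := ded_48_1 (flp_i L41997) (flp_f L39907) L57488
theorem L57496 : sm gj N6703 = N6703 := ded_53_1 (flp_i L57488) L39909 L57488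
theorem L57497 : sm gh N6703 = N4660 := ded_54_1 (flp_i L40115) (flp_h L27895) (flp_i L27760) L39901 L57488
theorem L57499 : sm gh N4635 = N6704 := rfl
theorem L57501 : sm ga N6704 = N6704 := ded_17_1 (flp_h L57499) L39912 L57499
theorem L57502 : sm gc N6704 = N6704 := ded_32_1 (flp_h L57499) L39913 L57499
theorem L57503 : sm gf N6704 = N6704 := ded_47_1 (flp_h L57499) L39916 L57499
theorem L57504 : sm gg N6704 = N6704 := ded_50_1 (flp_h L57499) L39919 L57499
theorem L57505 : sm gj N6704 = N4636 := ded_52_1 (flp_h L39920) L39910 L57499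
theorem L57507 : sm gi N4636 = N6705 := rfl
theorem L57509 : sm ga N6705 = N6705 := ded_18_1 (flp_i L57507) L39922 L57507
theorem L57510 : sm gc N6705 = N6705 := ded_33_1 (flp_i L57507) L39923 L57507
theorem L57511 : sm gf N6705 = N6705 := ded_48_1 (flp_i L57507) L39924 L57507
theorem L57512 : sm gg N6705 = N4637 := ded_51_1 (flp_i L39927) (flp_g L39925) L57507
theorem L57514 : sm gh N6705 = N4662 := ded_54_1 (flp_i L40133) (flp_h L27912) (flp_i L27770) L39920 L57507
theorem L57516 : sm gf N4638 = N6706 := rfl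
theorem L57519 : sm gb N6706 = N4639 := ded_22_1 (flp_f L39945) L39936 L57516
theorem L57524 : sm gh N4638 = N6707 := rfl
theorem L57527 : sm gb N6707 = N4640 := ded_25_1 (flp_h L39953) L39936 L57524
theorem L57530 : sm ge N6707 = N4883 := ded_43_1 (flp_h L42034) (flp_e L39939) L57524
theorem L57534 : sm ge N4639 = N6708 := rfl
theorem L57536 : sm ga N6708 = N4646 := ded_13_1 (flp_e L40007) (flp_a L39947) L57534
theorem L57538 : sm gc N6708 = N4641 := ded_28_1 (flp_e L39963) (flp_c L39949) L57534
theorem L57540 : sm gj N6708 = N6708 := ded_42_2 (flp_e L57534) L39952 L57534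
theorem L57541 : sm gf N6708 = N4884 := ded_40_2 (flp_e L42043) (flp_f L29207) (flp_e L27803) L39945 L57534
theorem L57543 : sm gg N4639 = N6709 := rfl
theorem L57545 : sm ga N6709 = N4647 := ded_15_1 (flp_g L40015) (flp_a L39947) L57543
theorem L57547 : sm gc N6709 = N4642 := ded_30_1 (flp_g L39971) (flp_c L39949) L57543
theorem L57549 : sm gd N6709 = N6709 := ded_36_1 (flp_g L57543) L39951 L57543
theorem L57550 : sm gf N6709 = N6709 := ded_45_1 (flp_g L57543) (flp_f L39945) L27805 L39945 L57543
theorem L57551 : sm gh N4639 = N6710 := rfl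
theorem L57553 : sm ga N6710 = N4648 := ded_17_1 (flp_h L40022) (flp_a L39947) L57551
theorem L57555 : sm gc N6710 = N4643 := ded_32_1 (flp_h L39979) (flp_c L39949) L57551
theorem L57579 : sm gg N4641 = N6713 := rfl
theorem L57581 : sm ga N6713 = N4651 := ded_15_1 (flp_g L40047) (flp_a L39965) L57579
theorem L57583 : sm gb N6713 = N6713 := ded_23_1 (flp_g L57579) L39967 L57579
theorem L57584 : sm ge N6713 = N4642 := ded_41_1 (flp_g L39971) L39963 L57579
theorem L57586 : sm gh N4641 = N6714 := rfl
theorem L57588 : sm ga N6714 = N4652 := ded_17_1 (flp_h L40053) (flp_a L39965) L57586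
theorem L57590 : sm gb N6714 = N6714 := ded_25_1 (flp_h L57586) L39967 L57586
theorem L57591 : sm ge N6714 = N4643 := ded_43_1 (flp_h L39979) L39963 L57586
theorem L57593 : sm gf N6714 = N4889 := ded_47_1 (flp_h L42085) (flp_f L39969) L57586
theorem L57595 : sm gj N6714 = N6714 := ded_52_1 (flp_h L57586) L39968 L57586
theorem L57596 : sm gj N4642 = N6715 := rfl
theorem L57598 : sm ga N6715 = N4653 := ded_16_1 (flp_j L40062) (flp_a L39973) L57596
theorem L57600 : sm gb N6715 = N6715 := ded_24_1 (flp_j L57596) L39975 L57596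
theorem L57601 : sm gd N6715 = N4645 := ded_37_1 (flp_j L39998) (flp_d L39976) L57596
theorem L57603 : sm gf N6715 = N6715 := ded_46_1 (flp_j L57596) L39978 L57596
theorem L57604 : sm gg N6715 = N6715 := ded_49_1 (flp_j L57596) (flp_g L39971) L27815 L39971 L57596
theorem L57605 : sm gh N4642 = N6716 := rfl
theorem L57607 : sm ga N6716 = N4654 := ded_17_1 (flp_h L40070) (flp_a L39973) L57605
theorem L57609 : sm gb N6716 = N6716 := ded_25_1 (flp_h L57605) L39975 L57605
theorem L57610 : sm gf N6716 = N6716 := ded_47_1 (flp_h L57605) L39978 L57605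
theorem L57611 : sm gg N6716 = N4643 := ded_50_1 (flp_h L39979) L39971 L57605
theorem L57613 : sm gd N6716 = N6716 := ded_38_1 (flp_h L57605) L39976 L27832 (flp_d L39976) L57605
theorem L57614 : sm gi N4643 = N6717 := rfl
theorem L57616 : sm ga N6717 = N4655 := ded_18_1 (flp_i L40078) (flp_a L39981) L57614
theorem L57620 : sm gf N6717 = N4644 := ded_48_1 (flp_i L39988) (flp_f L39984) L57614
theorem L57623 : sm gd N4646 = N6718 := rfl
theorem L57625 : sm gb N6718 = N6718 := ded_20_1 (flp_d L57623) L40009 L57623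
theorem L57626 : sm gf N6718 = N4893 := ded_35_2 (flp_d L42122) (flp_f L40013) L57623
theorem L57628 : sm gj N6718 = N6718 := ded_37_2 (flp_d L57623) L40012 L57623
theorem L57629 : sm ge N6718 = N6718 := ded_34_2 (flp_d L57623) (flp_e L40007) L27839 L40007 L57623
theorem L57630 : sm gg N4646 = N6719 := rfl
theorem L57632 : sm gb N6719 = N6719 := ded_23_1 (flp_g L57630) L40009 L57630
theorem L57633 : sm gc N6719 = N4651 := ded_30_1 (flp_g L40047) (flp_c L40010) L57630
theorem L57635 : sm ge N6719 = N4647 := ded_41_1 (flp_g L40015) L40007 L57630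
theorem L57637 : sm gh N4646 = N6720 := rfl
theorem L57639 : sm gb N6720 = N6720 := ded_25_1 (flp_h L57637) L40009 L57637
theorem L57640 : sm gc N6720 = N4652 := ded_32_1 (flp_h L40053) (flp_c L40010) L57637
theorem L57642 : sm ge N6720 = N4648 := ded_43_1 (flp_h L40022) L40007 L57637
theorem L57644 : sm gf N6720 = N4895 := ded_47_1 (flp_h L42135) (flp_f L40013) L57637
theorem L57646 : sm gj N6720 = N6720 := ded_52_1 (flp_h L57637) L40012 L57637
theorem L57647 : sm gj N4647 = N6721 := rfl
theorem L57649 : sm gb N6721 = N6721 := ded_24_1 (flp_j L57647) L40017 L57647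
theorem L57650 : sm gc N6721 = N4653 := ded_31_1 (flp_j L40062) (flp_c L40018) L57647
theorem L57652 : sm gd N6721 = N6721 := ded_37_1 (flp_j L57647) L40020 L57647
theorem L57653 : sm gf N6721 = N6721 := ded_46_1 (flp_j L57647) L40021 L57647
theorem L57654 : sm gg N6721 = N6721 := ded_49_1 (flp_j L57647) (flp_g L40015) L27840 L40015 L57647
theorem L57655 : sm gh N4647 = N6722 := rfl
theorem L57657 : sm gb N6722 = N6722 := ded_25_1 (flp_h L57655) L40017 L57655
theorem L57658 : sm gc N6722 = N4654 := ded_32_1 (flp_h L40070) (flp_c L40018) L57655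
theorem L57660 : sm gf N6722 = N6722 := ded_47_1 (flp_h L57655) L40021 L57655
theorem L57661 : sm gg N6722 = N4648 := ded_50_1 (flp_h L40022) L40015 L57655
theorem L57663 : sm gd N4648 = N6723 := rfl
theorem L57666 : sm gf N6723 = N4649 := ded_35_2 (flp_d L40030) (flp_f L40027) L57663
theorem L57671 : sm gi N4648 = N6724 := rfl
theorem L57674 : sm gc N6724 = N4655 := ded_33_1 (flp_i L40078) (flp_c L40025) L57671
theorem L57679 : sm gi N4649 = N6725 := rfl
theorem L57683 : sm gd N6725 = N4650 := ded_39_1 (flp_i L40038) L40030 L57679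
theorem L57688 : sm gf N4651 = N6726 := rfl
theorem L57690 : sm gb N6726 = N4656 := ded_22_1 (flp_f L40086) (flp_b L40049) L57688
theorem L57692 : sm ge N6726 = N6726 := ded_40_1 (flp_f L57688) L40051 L27863 (flp_e L40051) L57688
theorem L57693 : sm gg N6726 = N4899 := ded_45_2 (flp_f L42170) (flp_g L29300) (flp_f L27855) L40047 L57688
theorem L57695 : sm gj N4651 = N6727 := rfl
theorem L57697 : sm gb N6727 = N4657 := ded_24_1 (flp_j L40093) (flp_b L40049) L57695
theorem L57699 : sm ge N6727 = N4653 := ded_42_1 (flp_j L40062) (flp_e L40051) L57695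
theorem L57701 : sm gg N6727 = N6727 := ded_49_1 (flp_j L57695) (flp_g L40047) L27854 L40047 L57695
theorem L57702 : sm gh N4651 = N6728 := rfl
theorem L57704 : sm gb N6728 = N4658 := ded_25_1 (flp_h L40100) (flp_b L40049) L57702
theorem L57706 : sm ge N6728 = N4654 := ded_43_1 (flp_h L40070) (flp_e L40051) L57702
theorem L57708 : sm gg N6728 = N4652 := ded_50_1 (flp_h L40053) L40047 L57702
theorem L57710 : sm gd N4652 = N6729 := rfl
theorem L57712 : sm gb N6729 = N4659 := ded_20_1 (flp_d L40108) (flp_b L40055) L57710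
theorem L57714 : sm gf N6729 = N4902 := ded_35_2 (flp_d L42190) (flp_f L40059) L57710
theorem L57716 : sm gj N6729 = N6729 := ded_37_2 (flp_d L57710) L40061 L57710
theorem L57717 : sm ge N6729 = N6729 := ded_34_2 (flp_d L57710) L40057 L27871 (flp_e L40057) L57710
theorem L57718 : sm gi N4652 = N6730 := rfl
theorem L57720 : sm gb N6730 = N4660 := ded_26_1 (flp_i L40115) (flp_b L40055) L57718
theorem L57722 : sm ge N6730 = N4655 := ded_44_1 (flp_i L40078) (flp_e L40057) L57718
theorem L57724 : sm gf N6730 = N4903 := ded_48_1 (flp_i L42197) (flp_f L40059) L57718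
theorem L57726 : sm gj N6730 = N6730 := ded_53_1 (flp_i L57718) L40061 L57718
theorem L57727 : sm gh N4653 = N6731 := rfl
theorem L57729 : sm gb N6731 = N4661 := ded_25_1 (flp_h L40124) (flp_b L40064) L57727
theorem L57731 : sm gf N6731 = N6731 := ded_47_1 (flp_h L57727) L40068 L57727
theorem L57732 : sm gg N6731 = N6731 := ded_50_1 (flp_h L57727) L40069 L57727
theorem L57733 : sm gj N6731 = N4654 := ded_52_1 (flp_h L40070) L40062 L57727
theorem L57735 : sm gd N6731 = N6731 := ded_38_1 (flp_h L57727) L40066 L27887 (flp_d L40066) L57727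
theorem L57736 : sm gi N4654 = N6732 := rfl
theorem L57738 : sm gb N6732 = N4662 := ded_26_1 (flp_i L40133) (flp_b L40072) L57736
theorem L57740 : sm gd N6732 = N6732 := ded_39_1 (flp_i L57736) L40077 L57736
theorem L57741 : sm gf N6732 = N6732 := ded_48_1 (flp_i L57736) L40074 L57736
theorem L57742 : sm gg N6732 = N4655 := ded_51_1 (flp_i L40078) (flp_g L40075) L57736
theorem L57744 : sm gj N4656 = N6733 := rfl
theorem L57746 : sm ga N6733 = N6733 := ded_16_1 (flp_j L57744) L40088 L57744
theorem L57747 : sm gc N6733 = N6733 := ded_31_1 (flp_j L57744) L40089 L57744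
theorem L57748 : sm ge N6733 = N6733 := ded_42_1 (flp_j L57744) L40090 L57744
theorem L57749 : sm gf N6733 = N4657 := ded_46_1 (flp_j L40093) L40086 L57744
theorem L57751 : sm gh N4656 = N6734 := rfl
theorem L57753 : sm ga N6734 = N6734 := ded_17_1 (flp_h L57751) L40088 L57751
theorem L57754 : sm gc N6734 = N6734 := ded_32_1 (flp_h L57751) L40089 L57751
theorem L57755 : sm ge N6734 = N6734 := ded_43_1 (flp_h L57751) L40090 L57751
theorem L57756 : sm gf N6734 = N4658 := ded_47_1 (flp_h L40100) L40086 L57751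
theorem L57758 : sm gg N6734 = N4907 := ded_50_1 (flp_h L42230) (flp_g L40091) L57751
theorem L57760 : sm gh N4657 = N6735 := rfl
theorem L57762 : sm ga N6735 = N6735 := ded_17_1 (flp_h L57760) L40095 L57760
theorem L57763 : sm gc N6735 = N6735 := ded_32_1 (flp_h L57760) L40096 L57760
theorem L57764 : sm ge N6735 = N4661 := ded_43_1 (flp_h L40124) (flp_e L40097) L57760
theorem L57766 : sm gg N6735 = N6735 := ded_50_1 (flp_h L57760) L40099 L57760
theorem L57767 : sm gj N6735 = N4658 := ded_52_1 (flp_h L40100) L40093 L57760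
theorem L57769 : sm gd N4658 = N6736 := rfl
theorem L57771 : sm ga N6736 = N6736 := ded_12_1 (flp_d L57769) L40102 L57769
theorem L57772 : sm gg N6736 = N4659 := ded_36_2 (flp_d L40108) (flp_g L40106) L57769
theorem L57774 : sm ge N6736 = N6736 := ded_34_2 (flp_d L57769) L40104 L27919 (flp_e L40104) L57769
theorem L57775 : sm gi N4658 = N6737 := rfl
theorem L57777 : sm ga N6737 = N6737 := ded_18_1 (flp_i L57775) L40102 L57775
theorem L57778 : sm gc N6737 = N6737 := ded_33_1 (flp_i L57775) L40103 L57775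
theorem L57779 : sm ge N6737 = N4662 := ded_44_1 (flp_i L40133) (flp_e L40104) L57775
theorem L57781 : sm gg N6737 = N4660 := ded_51_1 (flp_i L40115) (flp_g L40106) L57775
theorem L57783 : sm gc N4659 = N6738 := rfl
theorem L57785 : sm ga N6738 = N6738 := ded_11_1 (flp_c L57783) L40110 L57783
theorem L57786 : sm ge N6738 = N6738 := ded_28_2 (flp_c L57783) L40114 L57783
theorem L57787 : sm gf N6738 = N4911 := ded_29_2 (flp_c L42261) (flp_f L40111) L57783
theorem L57789 : sm gj N6738 = N6738 := ded_31_2 (flp_c L57783) L40113 L57783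
theorem L57790 : sm gd N6738 = N6738 := ded_27_2 (flp_c L57783) (flp_d L40108) L27898 L40108 L57783
theorem L57791 : sm gi N4659 = N6739 := rfl
theorem L57793 : sm ga N6739 = N6739 := ded_18_1 (flp_i L57791) L40110 L57791
theorem L57794 : sm gd N6739 = N4660 := ded_39_1 (flp_i L40115) L40108 L57791
theorem L57796 : sm ge N6739 = N6739 := ded_44_1 (flp_i L57791) L40114 L57791
theorem L57797 : sm gf N6739 = N4912 := ded_48_1 (flp_i L42268) (flp_f L40111) L57791
theorem L57799 : sm gj N6739 = N6739 := ded_53_1 (flp_i L57791) L40113 L57791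
theorem L57800 : sm gi N4661 = N6740 := rfl
theorem L57802 : sm ga N6740 = N6740 := ded_18_1 (flp_i L57800) L40126 L57800
theorem L57803 : sm gc N6740 = N6740 := ded_33_1 (flp_i L57800) L40127 L57800
theorem L57804 : sm gd N6740 = N6740 := ded_39_1 (flp_i L57800) L40132 L57800
theorem L57805 : sm gf N6740 = N6740 := ded_48_1 (flp_i L57800) L40128 L57800
theorem L57806 : sm gg N6740 = N6740 := ded_51_1 (flp_i L57800) L40129 L57800
theorem L57807 : sm gj N6740 = N4662 := ded_53_1 (flp_i L40133) (flp_j L40130) L57800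
theorem L57809 : sm gh N4663 = N6741 := rfl
theorem L57811 : sm ga N6741 = N6741 := ded_17_1 (flp_h L57809) L40143 L57809
theorem L57812 : sm gb N6741 = N5036 := ded_25_1 (flp_h L43340) (flp_b L40144) L57809
theorem L57814 : sm gc N6741 = N6741 := ded_32_1 (flp_h L57809) L40146 L57809
theorem L57815 : sm ge N6741 = N6741 := ded_43_1 (flp_h L57809) L40148 L57809
theorem L57816 : sm gf N6741 = N4664 := ded_47_1 (flp_h L40153) (flp_f L40149) L57809
theorem L57818 : sm gg N6741 = N6741 := ded_50_1 (flp_h L57809) L40151 L57809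
theorem L57819 : sm gj N6741 = N6741 := ded_52_1 (flp_h L57809) L40152 L57809
theorem L57820 : sm gi N6741 = N6741 := ded_54_2 (flp_h L57809) (flp_i L40141) L27936 L40141 L57809
theorem L57821 : sm gd N4664 = N6742 := rfl
theorem L57823 : sm ga N6742 = N6742 := ded_12_1 (flp_d L57821) L40155 L57821
theorem L57824 : sm gb N6742 = N5037 := ded_20_1 (flp_d L43350) (flp_b L40156) L57821
theorem L57826 : sm gg N6742 = N4671 := ded_36_2 (flp_d L40224) (flp_g L40161) L57821
theorem L57828 : sm gj N6742 = N6742 := ded_37_2 (flp_d L57821) L40163 L57821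
theorem L57829 : sm gi N6742 = N6742 := ded_39_2 (flp_d L57821) L40164 L57821
theorem L57830 : sm gh N6742 = N6742 := ded_38_2 (flp_d L57821) (flp_h L40153) L27945 L40153 L57821
theorem L57831 : sm gc N4665 = N6743 := rfl
theorem L57833 : sm ga N6743 = N6743 := ded_11_1 (flp_c L57831) L40167 L57831
theorem L57834 : sm gf N6743 = N6743 := ded_29_2 (flp_c L57831) L40170 L57831
theorem L57835 : sm gg N6743 = N4672 := ded_30_2 (flp_c L40234) (flp_g L40171) L57831
theorem L57837 : sm gj N6743 = N6743 := ded_31_2 (flp_c L57831) L40173 L57831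
theorem L57838 : sm gh N6743 = N4666 := ded_32_2 (flp_c L40177) (flp_h L40175) L57831
theorem L57840 : sm gi N6743 = N6743 := ded_33_2 (flp_c L57831) L40174 L57831
theorem L57841 : sm gd N6743 = N6743 := ded_27_2 (flp_c L57831) (flp_d L40165) L27956 L40165 L57831
theorem L57842 : sm ge N4665 = N6744 := rfl
theorem L57844 : sm ga N6744 = N6744 := ded_13_1 (flp_e L57842) L40167 L57842
theorem L57845 : sm gb N6744 = N5039 := ded_21_1 (flp_e L43370) (flp_b L40168) L57842
theorem L57847 : sm gg N6744 = N4673 := ded_41_2 (flp_e L40245) (flp_g L40171) L57842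
theorem L57849 : sm gj N6744 = N6744 := ded_42_2 (flp_e L57842) L40173 L57842
theorem L57850 : sm gh N6744 = N4667 := ded_43_2 (flp_e L40186) (flp_h L40175) L57842
theorem L57852 : sm gi N6744 = N6744 := ded_44_2 (flp_e L57842) L40174 L57842
theorem L57853 : sm gb N4666 = N6745 := rfl
theorem L57855 : sm gf N6745 = N6745 := ded_22_2 (flp_b L57853) L40180 L57853
theorem L57856 : sm gg N6745 = N4674 := ded_23_2 (flp_b L40255) (flp_g L40181) L57853
theorem L57858 : sm gj N6745 = N6745 := ded_24_2 (flp_b L57853) L40183 L57853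
theorem L57859 : sm gi N6745 = N4668 := ded_26_2 (flp_b L40197) (flp_i L40184) L57853
theorem L57861 : sm gc N6745 = N5040 := ded_19_2 (flp_b L43380) (flp_c L30176) (flp_b L27965) L40177 L57853
theorem L57863 : sm ge N4666 = N6746 := rfl
theorem L57865 : sm ga N6746 = N6746 := ded_13_1 (flp_e L57863) L40179 L57863
theorem L57866 : sm gc N6746 = N4667 := ded_28_1 (flp_e L40186) L40177 L57863
theorem L57868 : sm gg N6746 = N4675 := ded_41_2 (flp_e L40265) (flp_g L40181) L57863
theorem L57870 : sm gj N6746 = N6746 := ded_42_2 (flp_e L57863) L40183 L57863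
theorem L57871 : sm gi N6746 = N4669 := ded_44_2 (flp_e L40206) (flp_i L40184) L57863
theorem L57873 : sm gf N4667 = N6747 := rfl
theorem L57875 : sm ga N6747 = N6747 := ded_14_1 (flp_f L57873) L40188 L57873
theorem L57876 : sm gb N6747 = N5042 := ded_22_1 (flp_f L43400) (flp_b L40189) L57873
theorem L57878 : sm gd N6747 = N6747 := ded_35_1 (flp_f L57873) L40196 L57873
theorem L57879 : sm gj N6747 = N6747 := ded_46_2 (flp_f L57873) L40193 L57873
theorem L57880 : sm gi N6747 = N4670 := ded_48_2 (flp_f L40215) (flp_i L40194) L57873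
theorem L57882 : sm ge N6747 = N6747 := ded_40_1 (flp_f L57873) (flp_e L40186) L27967 L40186 L57873
theorem L57883 : sm ga N4668 = N6748 := rfl
theorem L57885 : sm gc N6748 = N5043 := ded_11_2 (flp_a L43409) (flp_c L40204) L57883
theorem L57887 : sm gf N6748 = N6748 := ded_14_2 (flp_a L57883) L40199 L57883
theorem L57888 : sm gg N6748 = N4677 := ded_15_2 (flp_a L40286) (flp_g L40200) L57883
theorem L57890 : sm gj N6748 = N6748 := ded_16_2 (flp_a L57883) L40202 L57883
theorem L57891 : sm gh N6748 = N6748 := ded_17_2 (flp_a L57883) L40203 L57883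
theorem L57892 : sm gb N6748 = N6748 := ded_10_2 (flp_a L57883) (flp_b L40197) L27975 L40197 L57883
theorem L57893 : sm ge N4668 = N6749 := rfl
theorem L57895 : sm gb N6749 = N4669 := ded_21_1 (flp_e L40206) L40197 L57893
theorem L57897 : sm gc N6749 = N5044 := ded_28_1 (flp_e L43419) (flp_c L40204) L57893
theorem L57899 : sm gg N6749 = N4678 := ded_41_2 (flp_e L40296) (flp_g L40200) L57893
theorem L57901 : sm gj N6749 = N6749 := ded_42_2 (flp_e L57893) L40202 L57893
theorem L57902 : sm gh N6749 = N6749 := ded_43_2 (flp_e L57893) L40203 L57893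
theorem L57903 : sm gd N4669 = N6750 := rfl
theorem L57905 : sm ga N6750 = N6750 := ded_12_1 (flp_d L57903) L40208 L57903
theorem L57906 : sm gg N6750 = N4679 := ded_36_2 (flp_d L40305) (flp_g L40211) L57903
theorem L57908 : sm gj N6750 = N6750 := ded_37_2 (flp_d L57903) L40213 L57903
theorem L57909 : sm gc N6750 = N6750 := ded_27_1 (flp_d L57903) L40209 L27990 (flp_c L40209) L57903
theorem L57910 : sm gf N4669 = N6751 := rfl
theorem L57912 : sm ga N6751 = N6751 := ded_14_1 (flp_f L57910) L40208 L57910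
theorem L57913 : sm gc N6751 = N4670 := ded_29_1 (flp_f L40215) (flp_c L40209) L57910
theorem L57915 : sm gj N6751 = N6751 := ded_46_2 (flp_f L57910) L40213 L57910
theorem L57916 : sm gh N6751 = N6751 := ded_47_2 (flp_f L57910) L40214 L57910
theorem L57917 : sm ge N6751 = N6751 := ded_40_1 (flp_f L57910) (flp_e L40206) L27976 L40206 L57910
theorem L57918 : sm gg N4670 = N6752 := rfl
theorem L57920 : sm ga N6752 = N6752 := ded_15_1 (flp_g L57918) L40217 L57918
theorem L57921 : sm gb N6752 = N5047 := ded_23_1 (flp_g L43445) (flp_b L40218) L57918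
theorem L57923 : sm gd N6752 = N6752 := ded_36_1 (flp_g L57918) L40220 L57918
theorem L57924 : sm ge N6752 = N6752 := ded_41_1 (flp_g L57918) L40223 L57918
theorem L57925 : sm gh N6752 = N6752 := ded_50_2 (flp_g L57918) L40222 L57918
theorem L57926 : sm gf N6752 = N4681 := ded_45_1 (flp_g L40321) (flp_f L28051) (flp_g L27986) L40215 L57918
theorem L57928 : sm gc N4671 = N6753 := rfl
theorem L57930 : sm ga N6753 = N6753 := ded_11_1 (flp_c L57928) L40226 L57928
theorem L57931 : sm gf N6753 = N6753 := ded_29_2 (flp_c L57928) L40229 L57928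
theorem L57932 : sm gj N6753 = N4682 := ded_31_2 (flp_c L40330) (flp_j L40230) L57928
theorem L57934 : sm gh N6753 = N6753 := ded_32_2 (flp_c L57928) L40233 L57928
theorem L57935 : sm gi N6753 = N6753 := ded_33_2 (flp_c L57928) L40232 L57928
theorem L57936 : sm gd N6753 = N6753 := ded_27_2 (flp_c L57928) (flp_d L40224) L27996 L40224 L57928
theorem L57937 : sm ge N4671 = N6754 := rfl
theorem L57939 : sm ga N6754 = N6754 := ded_13_1 (flp_e L57937) L40226 L57937
theorem L57940 : sm gb N6754 = N5054 := ded_21_1 (flp_e L43514) (flp_b L40227) L57937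
theorem L57942 : sm gj N6754 = N4683 := ded_42_2 (flp_e L40338) (flp_j L40230) L57937
theorem L57944 : sm gh N6754 = N6754 := ded_43_2 (flp_e L57937) L40233 L57937
theorem L57945 : sm gi N6754 = N6754 := ded_44_2 (flp_e L57937) L40232 L57937
theorem L57946 : sm gd N6754 = N4673 := ded_34_1 (flp_e L40245) (flp_d L28003) (flp_e L27997) L40224 L57937
theorem L57948 : sm gb N4672 = N6755 := rfl
theorem L57953 : sm gj N6755 = N4684 := ded_24_2 (flp_b L40348) (flp_j L40239) L57948
theorem L57955 : sm gh N6755 = N4674 := ded_25_2 (flp_b L40255) (flp_h L40241) L57948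
theorem L57958 : sm gc N6755 = N5055 := ded_19_2 (flp_b L43524) (flp_c L30279) (flp_b L28006) L40234 L57948
theorem L57960 : sm ge N4672 = N6756 := rfl
theorem L57962 : sm ga N6756 = N6756 := ded_13_1 (flp_e L57960) L40236 L57960
theorem L57963 : sm gc N6756 = N4673 := ded_28_1 (flp_e L40245) L40234 L57960
theorem L57965 : sm gj N6756 = N4685 := ded_42_2 (flp_e L40359) (flp_j L40239) L57960
theorem L57967 : sm gh N6756 = N4675 := ded_43_2 (flp_e L40265) (flp_h L40241) L57960
theorem L57969 : sm gi N6756 = N6756 := ded_44_2 (flp_e L57960) L40243 L57960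
theorem L57970 : sm gf N4673 = N6757 := rfl
theorem L57972 : sm ga N6757 = N6757 := ded_14_1 (flp_f L57970) L40247 L57970
theorem L57973 : sm gb N6757 = N5057 := ded_22_1 (flp_f L43544) (flp_b L40248) L57970
theorem L57975 : sm gj N6757 = N4686 := ded_46_2 (flp_f L40368) (flp_j L40250) L57970
theorem L57977 : sm gh N6757 = N4676 := ded_47_2 (flp_f L40274) (flp_h L40252) L57970
theorem L57979 : sm gi N6757 = N6757 := ded_48_2 (flp_f L57970) L40254 L57970
theorem L57980 : sm ge N6757 = N4701 := ded_40_1 (flp_f L40500) (flp_e L28167) (flp_f L28008) L40245 L57970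
theorem L57982 : sm ga N4674 = N6758 := rfl
theorem L57984 : sm gc N6758 = N5058 := ded_11_2 (flp_a L43555) (flp_c L40263) L57982
theorem L57986 : sm gf N6758 = N4702 := ded_14_2 (flp_a L40511) (flp_f L40257) L57982
theorem L57988 : sm gj N6758 = N4687 := ded_16_2 (flp_a L40378) (flp_j L40259) L57982
theorem L57990 : sm gi N6758 = N4677 := ded_18_2 (flp_a L40286) (flp_i L40261) L57982
theorem L57993 : sm ge N4674 = N6759 := rfl
theorem L57995 : sm gb N6759 = N4675 := ded_21_1 (flp_e L40265) L40255 L57993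
theorem L57997 : sm gc N6759 = N5059 := ded_28_1 (flp_e L43566) (flp_c L40263) L57993
theorem L57999 : sm gj N6759 = N4688 := ded_42_2 (flp_e L40388) (flp_j L40259) L57993
theorem L58001 : sm gi N6759 = N4678 := ded_44_2 (flp_e L40296) (flp_i L40261) L57993
theorem L58003 : sm gd N4675 = N6760 := rfl
theorem L58005 : sm ga N6760 = N6760 := ded_12_1 (flp_d L58003) L40267 L58003
theorem L58006 : sm gj N6760 = N4689 := ded_37_2 (flp_d L40397) (flp_j L40270) L58003
theorem L58008 : sm gi N6760 = N4679 := ded_39_2 (flp_d L40305) (flp_i L40272) L58003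
theorem L58010 : sm gc N6760 = N6760 := ded_27_1 (flp_d L58003) L40268 L28033 (flp_c L40268) L58003
theorem L58011 : sm gf N4675 = N6761 := rfl
theorem L58013 : sm ga N6761 = N6761 := ded_14_1 (flp_f L58011) L40267 L58011
theorem L58014 : sm gc N6761 = N4676 := ded_29_1 (flp_f L40274) (flp_c L40268) L58011
theorem L58016 : sm gj N6761 = N4690 := ded_46_2 (flp_f L40404) (flp_j L40270) L58011
theorem L58018 : sm gi N6761 = N4680 := ded_48_2 (flp_f L40311) (flp_i L40272) L58011
theorem L58020 : sm ge N6761 = N4705 := ded_40_1 (flp_f L40542) (flp_e L28188) (flp_f L28018) L40265 L58011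
theorem L58022 : sm gg N4676 = N6762 := rfl
theorem L58024 : sm ga N6762 = N6762 := ded_15_1 (flp_g L58022) L40276 L58022
theorem L58025 : sm gb N6762 = N5062 := ded_23_1 (flp_g L43596) (flp_b L40277) L58022
theorem L58027 : sm gd N6762 = N6762 := ded_36_1 (flp_g L58022) L40279 L58022
theorem L58028 : sm ge N6762 = N4706 := ded_41_1 (flp_g L40551) (flp_e L40284) L58022
theorem L58030 : sm gi N6762 = N4681 := ded_51_2 (flp_g L40321) (flp_i L40282) L58022
theorem L58032 : sm ge N4677 = N6763 := rfl
theorem L58034 : sm ga N6763 = N4678 := ded_13_1 (flp_e L40296) L40286 L58032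
theorem L58036 : sm gb N6763 = N6763 := ded_21_1 (flp_e L58032) L40295 L58032
theorem L58037 : sm gc N6763 = N5063 := ded_28_1 (flp_e L43605) (flp_c L40288) L58032
theorem L58039 : sm gj N6763 = N4692 := ded_42_2 (flp_e L40424) (flp_j L40292) L58032
theorem L58041 : sm gh N6763 = N6763 := ded_43_2 (flp_e L58032) L40294 L58032
theorem L58042 : sm gd N4678 = N6764 := rfl
theorem L58044 : sm gb N6764 = N4679 := ded_20_1 (flp_d L40305) (flp_b L40298) L58042
theorem L58046 : sm gj N6764 = N4693 := ded_37_2 (flp_d L40433) (flp_j L40302) L58042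
theorem L58048 : sm gf N4678 = N6765 := rfl
theorem L58050 : sm gb N6765 = N4680 := ded_22_1 (flp_f L40311) (flp_b L40298) L58048
theorem L58052 : sm gc N6765 = N5065 := ded_29_1 (flp_f L43621) (flp_c L40300) L58048
theorem L58054 : sm gj N6765 = N4694 := ded_46_2 (flp_f L40438) (flp_j L40302) L58048
theorem L58056 : sm gh N6765 = N6765 := ded_47_2 (flp_f L58048) L40304 L58048
theorem L58057 : sm ge N6765 = N4709 := ded_40_1 (flp_f L40579) (flp_e L28218) (flp_f L28036) L40296 L58048
theorem L58059 : sm gf N4679 = N6766 := rfl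
theorem L58061 : sm ga N6766 = N6766 := ded_14_1 (flp_f L58059) L40307 L58059
theorem L58062 : sm gc N6766 = N6766 := ded_29_1 (flp_f L58059) L40310 L58059
theorem L58063 : sm gd N6766 = N4680 := ded_35_1 (flp_f L40311) L40305 L58059
theorem L58065 : sm gj N6766 = N4695 := ded_46_2 (flp_f L40447) (flp_j L40308) L58059
theorem L58067 : sm gh N4679 = N6767 := rfl
theorem L58069 : sm ga N6767 = N6767 := ded_17_1 (flp_h L58067) L40307 L58067
theorem L58070 : sm gc N6767 = N6767 := ded_32_1 (flp_h L58067) L40310 L58067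
theorem L58071 : sm gj N6767 = N4696 := ded_52_1 (flp_h L40453) (flp_j L40308) L58067
theorem L58073 : sm gd N6767 = N6767 := ded_38_1 (flp_h L58067) (flp_d L40305) L28050 L40305 L58067
theorem L58074 : sm gg N4680 = N6768 := rfl
theorem L58076 : sm ga N6768 = N6768 := ded_15_1 (flp_g L58074) L40313 L58074
theorem L58077 : sm gc N6768 = N4681 := ded_30_1 (flp_g L40321) (flp_c L40314) L58074
theorem L58079 : sm ge N6768 = N4712 := ded_41_1 (flp_g L40606) (flp_e L40319) L58074
theorem L58081 : sm gh N6768 = N6768 := ded_50_2 (flp_g L58074) L40318 L58074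
theorem L58082 : sm gj N4681 = N6769 := rfl
theorem L58084 : sm ga N6769 = N6769 := ded_16_1 (flp_j L58082) L40323 L58082
theorem L58085 : sm gb N6769 = N5069 := ded_24_1 (flp_j L43657) (flp_b L40324) L58082
theorem L58087 : sm gd N6769 = N6769 := ded_37_1 (flp_j L58082) L40326 L58082
theorem L58088 : sm ge N6769 = N4713 := ded_42_1 (flp_j L40613) (flp_e L40327) L58082
theorem L58090 : sm gh N6769 = N6769 := ded_52_2 (flp_j L58082) L40329 L58082
theorem L58091 : sm gg N6769 = N4698 := ded_49_1 (flp_j L40468) (flp_g L28147) (flp_j L28057) L40321 L58082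
theorem L58093 : sm gb N4682 = N6770 := rfl
theorem L58100 : sm gc N6770 = N5077 := ded_19_2 (flp_b L43733) (flp_c L30419) (flp_b L28065) L40330 L58093
theorem L58102 : sm ge N4682 = N6771 := rfl
theorem L58104 : sm ga N6771 = N6771 := ded_13_1 (flp_e L58102) L40332 L58102
theorem L58105 : sm gc N6771 = N4683 := ded_28_1 (flp_e L40338) L40330 L58102
theorem L58107 : sm gg N6771 = N6771 := ded_41_2 (flp_e L58102) L40334 L58102
theorem L58108 : sm gh N6771 = N6771 := ded_43_2 (flp_e L58102) L40335 L58102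
theorem L58109 : sm gi N6771 = N6771 := ded_44_2 (flp_e L58102) L40336 L58102
theorem L58110 : sm gf N4683 = N6772 := rfl
theorem L58112 : sm ga N6772 = N6772 := ded_14_1 (flp_f L58110) L40340 L58110
theorem L58113 : sm gb N6772 = N5079 := ded_22_1 (flp_f L43748) (flp_b L40341) L58110
theorem L58115 : sm gd N6772 = N4686 := ded_35_1 (flp_f L40368) (flp_d L40346) L58110
theorem L58117 : sm gh N6772 = N6772 := ded_47_2 (flp_f L58110) L40344 L58110
theorem L58118 : sm gi N6772 = N6772 := ded_48_2 (flp_f L58110) L40345 L58110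
theorem L58119 : sm ge N6772 = N6772 := ded_40_1 (flp_f L58110) (flp_e L40338) L28067 L40338 L58110
theorem L58120 : sm ga N4684 = N6773 := rfl
theorem L58122 : sm gc N6773 = N5080 := ded_11_2 (flp_a L43757) (flp_c L40357) L58120
theorem L58128 : sm gh N6773 = N4687 := ded_17_2 (flp_a L40378) (flp_h L40354) L58120
theorem L58132 : sm ge N4684 = N6774 := rfl
theorem L58134 : sm gb N6774 = N4685 := ded_21_1 (flp_e L40359) L40348 L58132
theorem L58136 : sm gc N6774 = N5081 := ded_28_1 (flp_e L43767) (flp_c L40357) L58132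
theorem L58139 : sm gh N6774 = N4688 := ded_43_2 (flp_e L40388) (flp_h L40354) L58132
theorem L58142 : sm gd N4685 = N6775 := rfl
theorem L58144 : sm ga N6775 = N6775 := ded_12_1 (flp_d L58142) L40361 L58142
theorem L58145 : sm gg N6775 = N6775 := ded_36_2 (flp_d L58142) L40364 L58142
theorem L58146 : sm gi N6775 = N6775 := ded_39_2 (flp_d L58142) L40367 L58142
theorem L58147 : sm ge N6775 = N6775 := ded_34_2 (flp_d L58142) (flp_e L40359) L28080 L40359 L58142
theorem L58148 : sm gf N4685 = N6776 := rfl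
theorem L58150 : sm ga N6776 = N6776 := ded_14_1 (flp_f L58148) L40361 L58148
theorem L58151 : sm gc N6776 = N4686 := ded_29_1 (flp_f L40368) (flp_c L40362) L58148
theorem L58153 : sm gh N6776 = N4690 := ded_47_2 (flp_f L40404) (flp_h L40365) L58148
theorem L58155 : sm gi N6776 = N6776 := ded_48_2 (flp_f L58148) L40367 L58148
theorem L58156 : sm ge N6776 = N4717 := ded_40_1 (flp_f L40654) (flp_e L28263) (flp_f L28074) L40359 L58148
theorem L58158 : sm gg N4686 = N6777 := rfl
theorem L58160 : sm ga N6777 = N6777 := ded_15_1 (flp_g L58158) L40370 L58158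
theorem L58161 : sm gb N6777 = N5084 := ded_23_1 (flp_g L43792) (flp_b L40371) L58158
theorem L58163 : sm ge N6777 = N4718 := ded_41_1 (flp_g L40662) (flp_e L40376) L58158
theorem L58165 : sm gh N6777 = N4691 := ded_50_2 (flp_g L40413) (flp_h L40373) L58158
theorem L58167 : sm gi N6777 = N6777 := ded_51_2 (flp_g L58158) L40375 L58158
theorem L58168 : sm gf N6777 = N6777 := ded_45_1 (flp_g L58158) (flp_f L40368) L28086 L40368 L58158
theorem L58169 : sm ge N4687 = N6778 := rfl
theorem L58171 : sm ga N6778 = N4688 := ded_13_1 (flp_e L40388) L40378 L58169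
theorem L58174 : sm gc N6778 = N5085 := ded_28_1 (flp_e L43802) (flp_c L40380) L58169
theorem L58177 : sm gi N6778 = N4692 := ded_44_2 (flp_e L40424) (flp_i L40385) L58169
theorem L58179 : sm gd N4688 = N6779 := rfl
theorem L58181 : sm gb N6779 = N4689 := ded_20_1 (flp_d L40397) (flp_b L40390) L58179
theorem L58183 : sm gg N6779 = N6779 := ded_36_2 (flp_d L58179) L40394 L58179
theorem L58184 : sm gi N6779 = N4693 := ded_39_2 (flp_d L40433) (flp_i L40395) L58179
theorem L58186 : sm gf N4688 = N6780 := rfl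
theorem L58188 : sm gb N6780 = N4690 := ded_22_1 (flp_f L40404) (flp_b L40390) L58186
theorem L58190 : sm gc N6780 = N5087 := ded_29_1 (flp_f L43819) (flp_c L40392) L58186
theorem L58192 : sm gi N6780 = N4694 := ded_48_2 (flp_f L40438) (flp_i L40395) L58186
theorem L58194 : sm ge N6780 = N4721 := ded_40_1 (flp_f L40692) (flp_e L28291) (flp_f L28092) L40388 L58186
theorem L58196 : sm gf N4689 = N6781 := rfl
theorem L58198 : sm ga N6781 = N6781 := ded_14_1 (flp_f L58196) L40399 L58196
theorem L58199 : sm gc N6781 = N6781 := ded_29_1 (flp_f L58196) L40403 L58196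
theorem L58200 : sm gd N6781 = N4690 := ded_35_1 (flp_f L40404) L40397 L58196
theorem L58202 : sm gi N6781 = N4695 := ded_48_2 (flp_f L40447) (flp_i L40401) L58196
theorem L58204 : sm gh N4689 = N6782 := rfl
theorem L58206 : sm ga N6782 = N6782 := ded_17_1 (flp_h L58204) L40399 L58204
theorem L58207 : sm gc N6782 = N6782 := ded_32_1 (flp_h L58204) L40403 L58204
theorem L58208 : sm gg N6782 = N6782 := ded_50_1 (flp_h L58204) L40400 L58204
theorem L58209 : sm gg N4690 = N6783 := rfl
theorem L58211 : sm ga N6783 = N6783 := ded_15_1 (flp_g L58209) L40406 L58209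
theorem L58212 : sm gc N6783 = N4691 := ded_30_1 (flp_g L40413) (flp_c L40407) L58209
theorem L58214 : sm ge N6783 = N4724 := ded_41_1 (flp_g L40716) (flp_e L40411) L58209
theorem L58216 : sm gi N6783 = N4697 := ded_51_2 (flp_g L40459) (flp_i L40409) L58209
theorem L58218 : sm gf N6783 = N6783 := ded_45_1 (flp_g L58209) (flp_f L40404) L28104 L40404 L58209
theorem L58219 : sm gj N4691 = N6784 := rfl
theorem L58221 : sm ga N6784 = N6784 := ded_16_1 (flp_j L58219) L40415 L58219
theorem L58222 : sm gb N6784 = N5091 := ded_24_1 (flp_j L43854) (flp_b L40416) L58219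
theorem L58224 : sm gd N6784 = N6784 := ded_37_1 (flp_j L58219) L40418 L58219
theorem L58225 : sm ge N6784 = N4725 := ded_42_1 (flp_j L40725) (flp_e L40419) L58219
theorem L58227 : sm gf N6784 = N6784 := ded_46_1 (flp_j L58219) L40423 L58219
theorem L58228 : sm gi N6784 = N4698 := ded_53_2 (flp_j L40468) (flp_i L40421) L58219
theorem L58230 : sm gd N4692 = N6785 := rfl
theorem L58232 : sm ga N6785 = N4693 := ded_12_1 (flp_d L40433) (flp_a L40426) L58230
theorem L58234 : sm gb N6785 = N6785 := ded_20_1 (flp_d L58230) L40428 L58230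
theorem L58235 : sm gg N6785 = N6785 := ded_36_2 (flp_d L58230) L40431 L58230
theorem L58236 : sm gf N4692 = N6786 := rfl
theorem L58238 : sm ga N6786 = N4694 := ded_14_1 (flp_f L40438) (flp_a L40426) L58236
theorem L58240 : sm gb N6786 = N6786 := ded_22_1 (flp_f L58236) L40428 L58236
theorem L58241 : sm gc N6786 = N5093 := ded_29_1 (flp_f L43872) (flp_c L40429) L58236
theorem L58243 : sm gh N6786 = N6786 := ded_47_2 (flp_f L58236) L40432 L58236
theorem L58244 : sm ge N6786 = N4727 := ded_40_1 (flp_f L40743) (flp_e L28328) (flp_f L28121) L40424 L58236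
theorem L58246 : sm gc N4693 = N6787 := rfl
theorem L58248 : sm gg N6787 = N6787 := ded_30_2 (flp_c L58246) L40437 L58246
theorem L58249 : sm gb N6787 = N6787 := ded_19_1 (flp_c L58246) L40435 L28138 (flp_b L40435) L58246
theorem L58250 : sm gd N6787 = N5094 := ded_27_2 (flp_c L43881) (flp_d L30517) (flp_c L28130) L40433 L58246
theorem L58252 : sm gf N4693 = N6788 := rfl
theorem L58254 : sm gb N6788 = N4695 := ded_22_1 (flp_f L40447) (flp_b L40435) L58252
theorem L58256 : sm gd N6788 = N4694 := ded_35_1 (flp_f L40438) L40433 L58252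
theorem L58258 : sm gh N4693 = N6789 := rfl
theorem L58260 : sm gb N6789 = N4696 := ded_25_1 (flp_h L40453) (flp_b L40435) L58258
theorem L58262 : sm gg N6789 = N6789 := ded_50_1 (flp_h L58258) L40437 L58258
theorem L58263 : sm gd N6789 = N6789 := ded_38_1 (flp_h L58258) (flp_d L40433) L28133 L40433 L58258
theorem L58264 : sm gg N4694 = N6790 := rfl
theorem L58266 : sm gb N6790 = N4697 := ded_23_1 (flp_g L40459) (flp_b L40440) L58264
theorem L58268 : sm gc N6790 = N5097 := ded_30_1 (flp_g L43899) (flp_c L40442) L58264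
theorem L58270 : sm ge N6790 = N4731 := ded_41_1 (flp_g L40772) (flp_e L40445) L58264
theorem L58272 : sm gh N6790 = N6790 := ded_50_2 (flp_g L58264) L40444 L58264
theorem L58273 : sm gf N6790 = N6790 := ded_45_1 (flp_g L58264) (flp_f L40438) L28132 L40438 L58264
theorem L58274 : sm ge N4695 = N6791 := rfl
theorem L58276 : sm ga N6791 = N6791 := ded_13_1 (flp_e L58274) L40449 L58274
theorem L58277 : sm gc N6791 = N6791 := ded_28_1 (flp_e L58274) L40450 L58274
theorem L58278 : sm gd N6791 = N4732 := ded_34_1 (flp_e L40781) L28356 (flp_e L28145) (flp_d L40451) L58274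
theorem L58280 : sm gg N4695 = N6792 := rfl
theorem L58282 : sm ga N6792 = N6792 := ded_15_1 (flp_g L58280) L40449 L58280
theorem L58283 : sm gc N6792 = N6792 := ded_30_1 (flp_g L58280) L40450 L58280
theorem L58284 : sm gd N6792 = N4697 := ded_36_1 (flp_g L40459) (flp_d L40451) L58280
theorem L58286 : sm gf N6792 = N6792 := ded_45_1 (flp_g L58280) (flp_f L40447) L28137 L40447 L58280
theorem L58287 : sm gh N4695 = N6793 := rfl
theorem L58289 : sm ga N6793 = N6793 := ded_17_1 (flp_h L58287) L40449 L58287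
theorem L58290 : sm gc N6793 = N6793 := ded_32_1 (flp_h L58287) L40450 L58287
theorem L58291 : sm gf N6793 = N4696 := ded_47_1 (flp_h L40453) L40447 L58287
theorem L58293 : sm gd N6793 = N6793 := ded_38_1 (flp_h L58287) L40451 L28144 (flp_d L40451) L58287
theorem L58294 : sm gi N4696 = N6794 := rfl
theorem L58296 : sm ga N6794 = N6794 := ded_18_1 (flp_i L58294) L40455 L58294
theorem L58297 : sm gc N6794 = N6794 := ded_33_1 (flp_i L58294) L40456 L58294
theorem L58298 : sm gd N6794 = N6794 := ded_39_1 (flp_i L58294) L40458 L58294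
theorem L58299 : sm gg N6794 = N6794 := ded_51_1 (flp_i L58294) L40457 L58294
theorem L58300 : sm gj N4697 = N6795 := rfl
theorem L58302 : sm ga N6795 = N6795 := ded_16_1 (flp_j L58300) L40461 L58300
theorem L58303 : sm gc N6795 = N4698 := ded_31_1 (flp_j L40468) (flp_c L40462) L58300
theorem L58305 : sm ge N6795 = N4736 := ded_42_1 (flp_j L40811) (flp_e L40464) L58300
theorem L58307 : sm gf N6795 = N6795 := ded_46_1 (flp_j L58300) L40467 L58300
theorem L58308 : sm gh N6795 = N6795 := ded_52_2 (flp_j L58300) L40466 L58300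
theorem L58309 : sm ga N4699 = N6796 := rfl
theorem L58315 : sm gj N6796 = N4714 := ded_16_2 (flp_a L40624) (flp_j L40482) L58309
theorem L58317 : sm gh N6796 = N4702 := ded_17_2 (flp_a L40511) (flp_h L40484) L58309
theorem L58321 : sm ge N4699 = N6797 := rfl
theorem L58323 : sm gb N6797 = N4700 := ded_21_1 (flp_e L40489) L40478 L58321
theorem L58325 : sm gc N6797 = N5107 := ded_28_1 (flp_e L43990) (flp_c L40487) L58321
theorem L58328 : sm gj N6797 = N4715 := ded_42_2 (flp_e L40635) (flp_j L40482) L58321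
theorem L58330 : sm gh N6797 = N4703 := ded_43_2 (flp_e L40521) (flp_h L40484) L58321
theorem L58333 : sm gd N4700 = N6798 := rfl
theorem L58335 : sm ga N6798 = N6798 := ded_12_1 (flp_d L58333) L40491 L58333
theorem L58336 : sm gg N6798 = N6798 := ded_36_2 (flp_d L58333) L40494 L58333
theorem L58337 : sm gj N6798 = N4716 := ded_37_2 (flp_d L40646) (flp_j L40495) L58333
theorem L58339 : sm gi N6798 = N6798 := ded_39_2 (flp_d L58333) L40499 L58333
theorem L58340 : sm gc N6798 = N6798 := ded_27_1 (flp_d L58333) L40492 L28178 (flp_c L40492) L58333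
theorem L58341 : sm ge N6798 = N6798 := ded_34_2 (flp_d L58333) (flp_e L40489) L28166 L40489 L58333
theorem L58342 : sm gf N4700 = N6799 := rfl
theorem L58344 : sm ga N6799 = N6799 := ded_14_1 (flp_f L58342) L40491 L58342
theorem L58345 : sm gc N6799 = N4701 := ded_29_1 (flp_f L40500) (flp_c L40492) L58342
theorem L58347 : sm gj N6799 = N4717 := ded_46_2 (flp_f L40654) (flp_j L40495) L58342
theorem L58349 : sm gh N6799 = N4705 := ded_47_2 (flp_f L40542) (flp_h L40497) L58342
theorem L58351 : sm gi N6799 = N6799 := ded_48_2 (flp_f L58342) L40499 L58342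
theorem L58352 : sm gg N4701 = N6800 := rfl
theorem L58354 : sm ga N6800 = N6800 := ded_15_1 (flp_g L58352) L40502 L58352
theorem L58355 : sm gb N6800 = N5110 := ded_23_1 (flp_g L44020) (flp_b L40503) L58352
theorem L58357 : sm gd N6800 = N6800 := ded_36_1 (flp_g L58352) L40505 L58352
theorem L58358 : sm gh N6800 = N4706 := ded_50_2 (flp_g L40551) (flp_h L40508) L58352
theorem L58360 : sm gi N6800 = N6800 := ded_51_2 (flp_g L58352) L40510 L58352
theorem L58361 : sm gf N6800 = N6800 := ded_45_1 (flp_g L58352) (flp_f L40500) L28172 L40500 L58352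
theorem L58362 : sm ge N4702 = N6801 := rfl
theorem L58364 : sm ga N6801 = N4703 := ded_13_1 (flp_e L40521) L40511 L58362
theorem L58367 : sm gc N6801 = N5111 := ded_28_1 (flp_e L44029) (flp_c L40513) L58362
theorem L58370 : sm gj N6801 = N4719 := ded_42_2 (flp_e L40673) (flp_j L40516) L58362
theorem L58372 : sm gi N6801 = N4707 := ded_44_2 (flp_e L40561) (flp_i L40518) L58362
theorem L58374 : sm gd N4703 = N6802 := rfl
theorem L58376 : sm gb N6802 = N4704 := ded_20_1 (flp_d L40532) (flp_b L40523) L58374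
theorem L58378 : sm gg N6802 = N6802 := ded_36_2 (flp_d L58374) L40527 L58374
theorem L58379 : sm gj N6802 = N4720 := ded_37_2 (flp_d L40684) (flp_j L40528) L58374
theorem L58381 : sm gi N6802 = N4708 := ded_39_2 (flp_d L40572) (flp_i L40530) L58374
theorem L58383 : sm gf N4703 = N6803 := rfl
theorem L58385 : sm gb N6803 = N4705 := ded_22_1 (flp_f L40542) (flp_b L40523) L58383
theorem L58387 : sm gc N6803 = N5113 := ded_29_1 (flp_f L44050) (flp_c L40525) L58383
theorem L58389 : sm gj N6803 = N4721 := ded_46_2 (flp_f L40692) (flp_j L40528) L58383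
theorem L58391 : sm gi N6803 = N4709 := ded_48_2 (flp_f L40579) (flp_i L40530) L58383
theorem L58393 : sm gf N4704 = N6804 := rfl
theorem L58395 : sm ga N6804 = N6804 := ded_14_1 (flp_f L58393) L40534 L58393
theorem L58396 : sm gc N6804 = N4774 := ded_29_1 (flp_f L41135) (flp_c L40540) L58393
theorem L58398 : sm gd N6804 = N4705 := ded_35_1 (flp_f L40542) L40532 L58393
theorem L58400 : sm gj N6804 = N4722 := ded_46_2 (flp_f L40700) (flp_j L40536) L58393
theorem L58402 : sm gi N6804 = N4710 := ded_48_2 (flp_f L40588) (flp_i L40538) L58393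
theorem L58404 : sm gh N4704 = N6805 := rfl
theorem L58406 : sm ga N6805 = N6805 := ded_17_1 (flp_h L58404) L40534 L58404
theorem L58407 : sm gc N6805 = N4775 := ded_32_1 (flp_h L41144) (flp_c L40540) L58404
theorem L58409 : sm gg N6805 = N6805 := ded_50_1 (flp_h L58404) L40535 L58404
theorem L58410 : sm gj N6805 = N4723 := ded_52_1 (flp_h L40709) (flp_j L40536) L58404
theorem L58412 : sm gg N4705 = N6806 := rfl
theorem L58414 : sm ga N6806 = N6806 := ded_15_1 (flp_g L58412) L40544 L58412
theorem L58415 : sm gc N6806 = N4706 := ded_30_1 (flp_g L40551) (flp_c L40545) L58412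
theorem L58417 : sm gi N6806 = N4712 := ded_51_2 (flp_g L40606) (flp_i L40549) L58412
theorem L58419 : sm gf N6806 = N6806 := ded_45_1 (flp_g L58412) (flp_f L40542) L28193 L40542 L58412
theorem L58420 : sm gj N4706 = N6807 := rfl
theorem L58422 : sm ga N6807 = N6807 := ded_16_1 (flp_j L58420) L40553 L58420
theorem L58423 : sm gb N6807 = N5117 := ded_24_1 (flp_j L44089) (flp_b L40554) L58420
theorem L58425 : sm gd N6807 = N4777 := ded_37_1 (flp_j L41161) (flp_d L40556) L58420
theorem L58427 : sm gf N6807 = N6807 := ded_46_1 (flp_j L58420) L40560 L58420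
theorem L58428 : sm gi N6807 = N4713 := ded_53_2 (flp_j L40613) (flp_i L40558) L58420
theorem L58430 : sm gg N6807 = N4725 := ded_49_1 (flp_j L40725) (flp_g L28317) (flp_j L28205) L40551 L58420
theorem L58432 : sm gd N4707 = N6808 := rfl
theorem L58434 : sm ga N6808 = N4708 := ded_12_1 (flp_d L40572) (flp_a L40563) L58432
theorem L58436 : sm gb N6808 = N6808 := ded_20_1 (flp_d L58432) L40565 L58432
theorem L58437 : sm gg N6808 = N6808 := ded_36_2 (flp_d L58432) L40568 L58432
theorem L58438 : sm gj N6808 = N4726 := ded_37_2 (flp_d L40736) (flp_j L40569) L58432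
theorem L58440 : sm gf N4707 = N6809 := rfl
theorem L58442 : sm ga N6809 = N4709 := ded_14_1 (flp_f L40579) (flp_a L40563) L58440
theorem L58444 : sm gb N6809 = N6809 := ded_22_1 (flp_f L58440) L40565 L58440
theorem L58445 : sm gc N6809 = N5119 := ded_29_1 (flp_f L44110) (flp_c L40566) L58440
theorem L58447 : sm gj N6809 = N4727 := ded_46_2 (flp_f L40743) (flp_j L40569) L58440
theorem L58449 : sm gh N6809 = N6809 := ded_47_2 (flp_f L58440) L40571 L58440
theorem L58450 : sm gc N4708 = N6810 := rfl
theorem L58452 : sm gg N6810 = N6810 := ded_30_2 (flp_c L58450) L40576 L58450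
theorem L58453 : sm gj N6810 = N4728 := ded_31_2 (flp_c L40751) (flp_j L40577) L58450
theorem L58455 : sm gb N6810 = N4780 := ded_19_1 (flp_c L41193) L28643 (flp_c L28234) (flp_b L40574) L58450
theorem L58457 : sm gd N6810 = N5120 := ded_27_2 (flp_c L44119) (flp_d L30676) (flp_c L28222) L40572 L58450
theorem L58459 : sm gf N4708 = N6811 := rfl
theorem L58461 : sm gb N6811 = N4710 := ded_22_1 (flp_f L40588) (flp_b L40574) L58459
theorem L58463 : sm gd N6811 = N4709 := ded_35_1 (flp_f L40579) L40572 L58459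
theorem L58465 : sm gj N6811 = N4729 := ded_46_2 (flp_f L40759) (flp_j L40577) L58459
theorem L58467 : sm gh N4708 = N6812 := rfl
theorem L58469 : sm gb N6812 = N4711 := ded_25_1 (flp_h L40597) (flp_b L40574) L58467
theorem L58471 : sm gg N6812 = N6812 := ded_50_1 (flp_h L58467) L40576 L58467
theorem L58472 : sm gj N6812 = N4730 := ded_52_1 (flp_h L40765) (flp_j L40577) L58467
theorem L58474 : sm gd N6812 = N6812 := ded_38_1 (flp_h L58467) (flp_d L40572) L28227 L40572 L58467
theorem L58475 : sm gg N4709 = N6813 := rfl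
theorem L58477 : sm gb N6813 = N4712 := ded_23_1 (flp_g L40606) (flp_b L40581) L58475
theorem L58479 : sm gc N6813 = N5123 := ded_30_1 (flp_g L44144) (flp_c L40583) L58475
theorem L58481 : sm gh N6813 = N6813 := ded_50_2 (flp_g L58475) L40587 L58475
theorem L58482 : sm gf N6813 = N6813 := ded_45_1 (flp_g L58475) (flp_f L40579) L28224 L40579 L58475
theorem L58483 : sm ge N4710 = N6814 := rfl
theorem L58485 : sm ga N6814 = N6814 := ded_13_1 (flp_e L58483) L40590 L58483
theorem L58486 : sm gc N6814 = N4784 := ded_28_1 (flp_e L41227) (flp_c L40591) L58483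
theorem L58488 : sm gj N6814 = N4732 := ded_42_2 (flp_e L40781) (flp_j L40595) L58483
theorem L58490 : sm gg N4710 = N6815 := rfl
theorem L58492 : sm ga N6815 = N6815 := ded_15_1 (flp_g L58490) L40590 L58490
theorem L58493 : sm gc N6815 = N4785 := ded_30_1 (flp_g L41233) (flp_c L40591) L58490
theorem L58495 : sm gd N6815 = N4712 := ded_36_1 (flp_g L40606) (flp_d L40593) L58490
theorem L58497 : sm gf N6815 = N6815 := ded_45_1 (flp_g L58490) (flp_f L40588) L28231 L40588 L58490
theorem L58498 : sm gh N4710 = N6816 := rfl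
theorem L58500 : sm ga N6816 = N6816 := ded_17_1 (flp_h L58498) L40590 L58498
theorem L58501 : sm gc N6816 = N4786 := ded_32_1 (flp_h L41239) (flp_c L40591) L58498
theorem L58503 : sm gf N6816 = N4711 := ded_47_1 (flp_h L40597) L40588 L58498
theorem L58505 : sm gj N6816 = N4734 := ded_52_1 (flp_h L40795) (flp_j L40595) L58498
theorem L58507 : sm gd N6816 = N6816 := ded_38_1 (flp_h L58498) L40593 L28243 (flp_d L40593) L58498
theorem L58508 : sm gi N4711 = N6817 := rfl
theorem L58510 : sm ga N6817 = N6817 := ded_18_1 (flp_i L58508) L40599 L58508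
theorem L58511 : sm gc N6817 = N4787 := ded_33_1 (flp_i L41248) (flp_c L40600) L58508
theorem L58513 : sm gd N6817 = N6817 := ded_39_1 (flp_i L58508) L40605 L58508
theorem L58514 : sm gg N6817 = N6817 := ded_51_1 (flp_i L58508) L40602 L58508
theorem L58515 : sm gj N6817 = N4735 := ded_53_1 (flp_i L40803) (flp_j L40603) L58508
theorem L58517 : sm gj N4712 = N6818 := rfl
theorem L58519 : sm ga N6818 = N6818 := ded_16_1 (flp_j L58517) L40608 L58517
theorem L58520 : sm gc N6818 = N4713 := ded_31_1 (flp_j L40613) (flp_c L40609) L58517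
theorem L58522 : sm gf N6818 = N6818 := ded_46_1 (flp_j L58517) L40612 L58517
theorem L58523 : sm gh N6818 = N6818 := ded_52_2 (flp_j L58517) L40611 L58517
theorem L58524 : sm gg N6818 = N4736 := ded_49_1 (flp_j L40811) (flp_g L28366) (flp_j L28241) L40606 L58517
theorem L58526 : sm ge N4714 = N6819 := rfl
theorem L58528 : sm ga N6819 = N4715 := ded_13_1 (flp_e L40635) L40624 L58526
theorem L58531 : sm gc N6819 = N5134 := ded_28_1 (flp_e L44248) (flp_c L40626) L58526
theorem L58533 : sm gg N6819 = N4737 := ded_41_2 (flp_e L40819) (flp_g L40629) L58526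
theorem L58535 : sm gh N6819 = N4719 := ded_43_2 (flp_e L40673) (flp_h L40631) L58526
theorem L58538 : sm gd N4715 = N6820 := rfl
theorem L58540 : sm gb N6820 = N4716 := ded_20_1 (flp_d L40646) (flp_b L40637) L58538
theorem L58542 : sm gg N6820 = N4738 := ded_36_2 (flp_d L40830) (flp_g L40641) L58538
theorem L58546 : sm gf N4715 = N6821 := rfl
theorem L58548 : sm gb N6821 = N4717 := ded_22_1 (flp_f L40654) (flp_b L40637) L58546
theorem L58552 : sm gh N6821 = N4721 := ded_47_2 (flp_f L40692) (flp_h L40643) L58546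
theorem L58555 : sm gf N4716 = N6822 := rfl
theorem L58557 : sm ga N6822 = N6822 := ded_14_1 (flp_f L58555) L40648 L58555
theorem L58558 : sm gc N6822 = N6822 := ded_29_1 (flp_f L58555) L40652 L58555
theorem L58559 : sm gd N6822 = N4717 := ded_35_1 (flp_f L40654) L40646 L58555
theorem L58561 : sm gi N6822 = N6822 := ded_48_2 (flp_f L58555) L40651 L58555
theorem L58562 : sm gh N4716 = N6823 := rfl
theorem L58564 : sm ga N6823 = N6823 := ded_17_1 (flp_h L58562) L40648 L58562
theorem L58565 : sm gc N6823 = N6823 := ded_32_1 (flp_h L58562) L40652 L58562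
theorem L58566 : sm ge N6823 = N6823 := ded_43_1 (flp_h L58562) L40653 L58562
theorem L58567 : sm gg N6823 = N4741 := ded_50_1 (flp_h L40856) (flp_g L40649) L58562
theorem L58569 : sm gd N6823 = N4723 := ded_38_1 (flp_h L40709) (flp_d L28301) (flp_h L28270) L40646 L58562
theorem L58571 : sm gg N4717 = N6824 := rfl
theorem L58573 : sm ga N6824 = N6824 := ded_15_1 (flp_g L58571) L40656 L58571
theorem L58574 : sm gc N6824 = N4718 := ded_30_1 (flp_g L40662) (flp_c L40657) L58571
theorem L58576 : sm gh N6824 = N4724 := ded_50_2 (flp_g L40716) (flp_h L40659) L58571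
theorem L58578 : sm gi N6824 = N6824 := ded_51_2 (flp_g L58571) L40661 L58571
theorem L58579 : sm gf N6824 = N4742 := ded_45_1 (flp_g L40864) (flp_f L28412) (flp_g L28268) L40654 L58571
theorem L58581 : sm gj N4718 = N6825 := rfl
theorem L58583 : sm ga N6825 = N6825 := ded_16_1 (flp_j L58581) L40664 L58581
theorem L58584 : sm gb N6825 = N5140 := ded_24_1 (flp_j L44301) (flp_b L40665) L58581
theorem L58586 : sm gd N6825 = N6825 := ded_37_1 (flp_j L58581) L40667 L58581
theorem L58587 : sm gf N6825 = N4743 := ded_46_1 (flp_j L40873) (flp_f L40671) L58581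
theorem L58589 : sm gh N6825 = N4725 := ded_52_2 (flp_j L40725) (flp_h L40668) L58581
theorem L58591 : sm gi N6825 = N6825 := ded_53_2 (flp_j L58581) L40670 L58581
theorem L58592 : sm gd N4719 = N6826 := rfl
theorem L58594 : sm ga N6826 = N4720 := ded_12_1 (flp_d L40684) (flp_a L40675) L58592
theorem L58597 : sm gg N6826 = N4744 := ded_36_2 (flp_d L40884) (flp_g L40680) L58592
theorem L58599 : sm gi N6826 = N4726 := ded_39_2 (flp_d L40736) (flp_i L40682) L58592
theorem L58601 : sm gf N4719 = N6827 := rfl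
theorem L58603 : sm ga N6827 = N4721 := ded_14_1 (flp_f L40692) (flp_a L40675) L58601
theorem L58608 : sm gi N6827 = N4727 := ded_48_2 (flp_f L40743) (flp_i L40682) L58601
theorem L58610 : sm gc N4720 = N6828 := rfl
theorem L58612 : sm gg N6828 = N4746 := ded_30_2 (flp_c L40903) (flp_g L40688) L58610
theorem L58614 : sm gi N6828 = N4728 := ded_33_2 (flp_c L40751) (flp_i L40690) L58610
theorem L58616 : sm gb N6828 = N4791 := ded_19_1 (flp_c L41287) L28708 (flp_c L28308) (flp_b L40686) L58610
theorem L58618 : sm gd N6828 = N5143 := ded_27_2 (flp_c L44330) (flp_d L30812) (flp_c L28295) L40684 L58610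
theorem L58620 : sm gf N4720 = N6829 := rfl
theorem L58622 : sm gb N6829 = N4722 := ded_22_1 (flp_f L40700) (flp_b L40686) L58620
theorem L58624 : sm gd N6829 = N4721 := ded_35_1 (flp_f L40692) L40684 L58620
theorem L58626 : sm gi N6829 = N4729 := ded_48_2 (flp_f L40759) (flp_i L40690) L58620
theorem L58628 : sm gh N4720 = N6830 := rfl
theorem L58630 : sm gb N6830 = N4723 := ded_25_1 (flp_h L40709) (flp_b L40686) L58628
theorem L58632 : sm gg N6830 = N4748 := ded_50_1 (flp_h L40921) (flp_g L40688) L58628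
theorem L58634 : sm gg N4721 = N6831 := rfl
theorem L58636 : sm gb N6831 = N4724 := ded_23_1 (flp_g L40716) (flp_b L40694) L58634
theorem L58638 : sm gc N6831 = N5146 := ded_30_1 (flp_g L44354) (flp_c L40696) L58634
theorem L58640 : sm gi N6831 = N4731 := ded_51_2 (flp_g L40772) (flp_i L40698) L58634
theorem L58642 : sm gf N6831 = N4749 := ded_45_1 (flp_g L40926) (flp_f L28449) (flp_g L28297) L40692 L58634
theorem L58644 : sm ge N4722 = N6832 := rfl
theorem L58646 : sm ga N6832 = N6832 := ded_13_1 (flp_e L58644) L40702 L58644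
theorem L58647 : sm gc N6832 = N4795 := ded_28_1 (flp_e L41322) (flp_c L40703) L58644
theorem L58649 : sm gi N6832 = N4732 := ded_44_2 (flp_e L40781) (flp_i L40707) L58644
theorem L58651 : sm gg N4722 = N6833 := rfl
theorem L58653 : sm ga N6833 = N6833 := ded_15_1 (flp_g L58651) L40702 L58651
theorem L58654 : sm gc N6833 = N4796 := ded_30_1 (flp_g L41328) (flp_c L40703) L58651
theorem L58656 : sm gd N6833 = N4724 := ded_36_1 (flp_g L40716) (flp_d L40705) L58651
theorem L58658 : sm gi N6833 = N4733 := ded_51_2 (flp_g L40786) (flp_i L40707) L58651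
theorem L58660 : sm gf N6833 = N4751 := ded_45_1 (flp_g L40944) (flp_f L28459) (flp_g L28304) L40700 L58651
theorem L58662 : sm gh N4722 = N6834 := rfl
theorem L58664 : sm ga N6834 = N6834 := ded_17_1 (flp_h L58662) L40702 L58662
theorem L58665 : sm gc N6834 = N4797 := ded_32_1 (flp_h L41337) (flp_c L40703) L58662
theorem L58667 : sm gf N6834 = N4723 := ded_47_1 (flp_h L40709) L40700 L58662
theorem L58669 : sm gi N4723 = N6835 := rfl
theorem L58671 : sm ga N6835 = N6835 := ded_18_1 (flp_i L58669) L40711 L58669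
theorem L58672 : sm gc N6835 = N4798 := ded_33_1 (flp_i L41343) (flp_c L40712) L58669
theorem L58674 : sm gg N6835 = N4753 := ded_51_1 (flp_i L40961) (flp_g L40714) L58669
theorem L58676 : sm gh N6835 = N4735 := ded_54_1 (flp_i L40803) (flp_h L28358) (flp_i L28306) L40709 L58669
theorem L58678 : sm gj N4724 = N6836 := rfl
theorem L58680 : sm ga N6836 = N6836 := ded_16_1 (flp_j L58678) L40718 L58678
theorem L58681 : sm gc N6836 = N4725 := ded_31_1 (flp_j L40725) (flp_c L40719) L58678
theorem L58683 : sm gf N6836 = N4754 := ded_46_1 (flp_j L40969) (flp_f L40723) L58678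
theorem L58685 : sm gi N6836 = N4736 := ded_53_2 (flp_j L40811) (flp_i L40721) L58678
theorem L58687 : sm gc N4726 = N6837 := rfl
theorem L58689 : sm ga N6837 = N4728 := ded_11_1 (flp_c L40751) (flp_a L40738) L58687
theorem L58691 : sm gg N6837 = N4755 := ded_30_2 (flp_c L40978) (flp_g L40741) L58687
theorem L58693 : sm gd N6837 = N5152 := ded_27_2 (flp_c L44412) (flp_d L30866) (flp_c L28333) L40736 L58687
theorem L58695 : sm gf N4726 = N6838 := rfl
theorem L58697 : sm ga N6838 = N4729 := ded_14_1 (flp_f L40759) (flp_a L40738) L58695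
theorem L58699 : sm gb N6838 = N6838 := ded_22_1 (flp_f L58695) L40740 L58695
theorem L58700 : sm gd N6838 = N4727 := ded_35_1 (flp_f L40743) L40736 L58695
theorem L58702 : sm gh N4726 = N6839 := rfl
theorem L58704 : sm ga N6839 = N4730 := ded_17_1 (flp_h L40765) (flp_a L40738) L58702
theorem L58706 : sm gb N6839 = N6839 := ded_25_1 (flp_h L58702) L40740 L58702
theorem L58707 : sm gg N6839 = N4757 := ded_50_1 (flp_h L40993) (flp_g L40741) L58702
theorem L58709 : sm gd N6839 = N6839 := ded_38_1 (flp_h L58702) (flp_d L40736) L28337 L40736 L58702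
theorem L58710 : sm gg N4727 = N6840 := rfl
theorem L58712 : sm ga N6840 = N4731 := ded_15_1 (flp_g L40772) (flp_a L40745) L58710
theorem L58714 : sm gb N6840 = N6840 := ded_23_1 (flp_g L58710) L40747 L58710
theorem L58715 : sm gc N6840 = N5155 := ded_30_1 (flp_g L44437) (flp_c L40748) L58710
theorem L58717 : sm gh N6840 = N6840 := ded_50_2 (flp_g L58710) L40750 L58710
theorem L58718 : sm gf N6840 = N4758 := ded_45_1 (flp_g L41000) (flp_f L28500) (flp_g L28335) L40743 L58710
theorem L58720 : sm gf N4728 = N6841 := rfl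
theorem L58722 : sm gb N6841 = N4804 := ded_22_1 (flp_f L41398) (flp_b L40755) L58720
theorem L58724 : sm gc N6841 = N4729 := ded_29_1 (flp_f L40759) L40751 L58720
theorem L58726 : sm gd N6841 = N5156 := ded_35_1 (flp_f L44446) (flp_d L40757) L58720
theorem L58728 : sm gh N4728 = N6842 := rfl
theorem L58730 : sm gb N6842 = N4805 := ded_25_1 (flp_h L41404) (flp_b L40755) L58728
theorem L58732 : sm gc N6842 = N4730 := ded_32_1 (flp_h L40765) L40751 L58728
theorem L58734 : sm gg N6842 = N4760 := ded_50_1 (flp_h L41018) (flp_g L40753) L58728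
theorem L58736 : sm ge N4729 = N6843 := rfl
theorem L58738 : sm gb N6843 = N4732 := ded_21_1 (flp_e L40781) (flp_b L40761) L58736
theorem L58740 : sm gg N4729 = N6844 := rfl
theorem L58742 : sm gb N6844 = N4733 := ded_23_1 (flp_g L40786) (flp_b L40761) L58740
theorem L58744 : sm gd N6844 = N4731 := ded_36_1 (flp_g L40772) (flp_d L40763) L58740
theorem L58746 : sm gf N6844 = N4762 := ded_45_1 (flp_g L41031) (flp_f L28517) (flp_g L28342) L40759 L58740
theorem L58748 : sm gh N4729 = N6845 := rfl
theorem L58750 : sm gb N6845 = N4734 := ded_25_1 (flp_h L40795) (flp_b L40761) L58748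
theorem L58752 : sm gf N6845 = N4730 := ded_47_1 (flp_h L40765) L40759 L58748
theorem L58754 : sm gd N6845 = N6845 := ded_38_1 (flp_h L58748) L40763 L28350 (flp_d L40763) L58748
theorem L58755 : sm gi N4730 = N6846 := rfl
theorem L58757 : sm gb N6846 = N4735 := ded_26_1 (flp_i L40803) (flp_b L40767) L58755
theorem L58759 : sm gd N6846 = N6846 := ded_39_1 (flp_i L58755) L40771 L58755
theorem L58760 : sm gg N6846 = N4764 := ded_51_1 (flp_i L41045) (flp_g L40769) L58755
theorem L58762 : sm gj N4731 = N6847 := rfl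
theorem L58764 : sm gb N6847 = N4736 := ded_24_1 (flp_j L40811) (flp_b L40774) L58762
theorem L58766 : sm gc N6847 = N5162 := ded_31_1 (flp_j L44489) (flp_c L40776) L58762
theorem L58768 : sm gf N6847 = N4765 := ded_46_1 (flp_j L41051) (flp_f L40779) L58762
theorem L58770 : sm gh N6847 = N6847 := ded_52_2 (flp_j L58762) L40778 L58762
theorem L58771 : sm gg N4732 = N6848 := rfl
theorem L58773 : sm ga N6848 = N6848 := ded_15_1 (flp_g L58771) L40783 L58771
theorem L58774 : sm gc N6848 = N4811 := ded_30_1 (flp_g L41450) (flp_c L40784) L58771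
theorem L58776 : sm ge N6848 = N4733 := ded_41_1 (flp_g L40786) L40781 L58771
theorem L58778 : sm gh N4732 = N6849 := rfl
theorem L58780 : sm ga N6849 = N6849 := ded_17_1 (flp_h L58778) L40783 L58778
theorem L58781 : sm gc N6849 = N4812 := ded_32_1 (flp_h L41456) (flp_c L40784) L58778
theorem L58783 : sm ge N6849 = N4734 := ded_43_1 (flp_h L40795) L40781 L58778
theorem L58785 : sm gj N4733 = N6850 := rfl
theorem L58787 : sm ga N6850 = N6850 := ded_16_1 (flp_j L58785) L40788 L58785
theorem L58788 : sm gc N6850 = N4813 := ded_31_1 (flp_j L41461) (flp_c L40789) L58785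
theorem L58790 : sm gd N6850 = N4736 := ded_37_1 (flp_j L40811) (flp_d L40791) L58785
theorem L58792 : sm gf N6850 = N4768 := ded_46_1 (flp_j L41076) (flp_f L40793) L58785
theorem L58794 : sm gh N4733 = N6851 := rfl
theorem L58796 : sm ga N6851 = N6851 := ded_17_1 (flp_h L58794) L40788 L58794
theorem L58797 : sm gc N6851 = N4814 := ded_32_1 (flp_h L41468) (flp_c L40789) L58794
theorem L58799 : sm gf N6851 = N4769 := ded_47_1 (flp_h L41084) (flp_f L40793) L58794
theorem L58801 : sm gg N6851 = N4734 := ded_50_1 (flp_h L40795) L40786 L58794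
theorem L58803 : sm gd N6851 = N6851 := ded_38_1 (flp_h L58794) L40791 L28371 (flp_d L40791) L58794
theorem L58804 : sm gi N4734 = N6852 := rfl
theorem L58806 : sm ga N6852 = N6852 := ded_18_1 (flp_i L58804) L40797 L58804
theorem L58807 : sm gc N6852 = N4815 := ded_33_1 (flp_i L41477) (flp_c L40798) L58804
theorem L58809 : sm gd N6852 = N6852 := ded_39_1 (flp_i L58804) L40802 L58804
theorem L58810 : sm gf N6852 = N4735 := ded_48_1 (flp_i L40803) (flp_f L40800) L58804
theorem L58812 : sm gd N4737 = N6853 := rfl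
theorem L58820 : sm gf N4737 = N6854 := rfl
theorem L58822 : sm ga N6854 = N4739 := ded_14_1 (flp_f L40837) (flp_a L40821) L58820
theorem L58828 : sm gh N6854 = N4745 := ded_47_2 (flp_f L40892) (flp_h L40827) L58820
theorem L58832 : sm gc N4738 = N6855 := rfl
theorem L58838 : sm gd N6855 = N5177 := ded_27_2 (flp_c L44626) (flp_d L31012) (flp_c L28399) L40830 L58832
theorem L58840 : sm gf N4738 = N6856 := rfl
theorem L58842 : sm gb N6856 = N4740 := ded_22_1 (flp_f L40848) (flp_b L40832) L58840
theorem L58844 : sm gd N6856 = N4739 := ded_35_1 (flp_f L40837) L40830 L58840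
theorem L58848 : sm gh N4738 = N6857 := rfl
theorem L58850 : sm gb N6857 = N4741 := ded_25_1 (flp_h L40856) (flp_b L40832) L58848
theorem L58854 : sm gd N6857 = N4748 := ded_38_1 (flp_h L40921) (flp_d L28442) (flp_h L28402) L40830 L58848
theorem L58856 : sm gg N4739 = N6858 := rfl
theorem L58858 : sm gb N6858 = N4742 := ded_23_1 (flp_g L40864) (flp_b L40839) L58856
theorem L58863 : sm gh N6858 = N4749 := ded_50_2 (flp_g L40926) (flp_h L40844) L58856
theorem L58866 : sm ge N4740 = N6859 := rfl
theorem L58868 : sm ga N6859 = N6859 := ded_13_1 (flp_e L58866) L40850 L58866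
theorem L58869 : sm gc N6859 = N6859 := ded_28_1 (flp_e L58866) L40851 L58866
theorem L58870 : sm gj N6859 = N6859 := ded_42_2 (flp_e L58866) L40854 L58866
theorem L58871 : sm gi N6859 = N6859 := ded_44_2 (flp_e L58866) L40855 L58866
theorem L58872 : sm gd N6859 = N6859 := ded_34_1 (flp_e L58866) L40852 L28421 (flp_d L40852) L58866
theorem L58873 : sm gf N6859 = N6859 := ded_40_2 (flp_e L58866) (flp_f L40848) L28411 L40848 L58866
theorem L58874 : sm gg N4740 = N6860 := rfl
theorem L58876 : sm ga N6860 = N6860 := ded_15_1 (flp_g L58874) L40850 L58874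
theorem L58877 : sm gc N6860 = N6860 := ded_30_1 (flp_g L58874) L40851 L58874
theorem L58878 : sm gd N6860 = N4742 := ded_36_1 (flp_g L40864) (flp_d L40852) L58874
theorem L58880 : sm gi N6860 = N6860 := ded_51_2 (flp_g L58874) L40855 L58874
theorem L58881 : sm gh N4740 = N6861 := rfl
theorem L58883 : sm ga N6861 = N6861 := ded_17_1 (flp_h L58881) L40850 L58881
theorem L58884 : sm gc N6861 = N6861 := ded_32_1 (flp_h L58881) L40851 L58881
theorem L58885 : sm gf N6861 = N4741 := ded_47_1 (flp_h L40856) L40848 L58881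
theorem L58887 : sm gj N6861 = N6861 := ded_52_1 (flp_h L58881) L40854 L58881
theorem L58888 : sm gd N6861 = N4752 := ded_38_1 (flp_h L40953) L28464 (flp_h L28418) (flp_d L40852) L58881
theorem L58890 : sm gi N4741 = N6862 := rfl
theorem L58892 : sm ga N6862 = N6862 := ded_18_1 (flp_i L58890) L40858 L58890
theorem L58893 : sm gc N6862 = N6862 := ded_33_1 (flp_i L58890) L40859 L58890
theorem L58894 : sm gd N6862 = N4753 := ded_39_1 (flp_i L40961) (flp_d L40862) L58890
theorem L58896 : sm ge N6862 = N6862 := ded_44_1 (flp_i L58890) L40860 L58890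
theorem L58897 : sm gj N6862 = N6862 := ded_53_1 (flp_i L58890) L40861 L58890
theorem L58898 : sm gh N6862 = N6862 := ded_54_1 (flp_i L58890) (flp_h L40856) L28409 L40856 L58890
theorem L58899 : sm gj N4742 = N6863 := rfl
theorem L58901 : sm ga N6863 = N6863 := ded_16_1 (flp_j L58899) L40866 L58899
theorem L58902 : sm gc N6863 = N4743 := ded_31_1 (flp_j L40873) (flp_c L40867) L58899
theorem L58904 : sm ge N6863 = N6863 := ded_42_1 (flp_j L58899) L40869 L58899
theorem L58905 : sm gh N6863 = N4754 := ded_52_2 (flp_j L40969) (flp_h L40870) L58899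
theorem L58907 : sm gi N6863 = N6863 := ded_53_2 (flp_j L58899) L40872 L58899
theorem L58908 : sm gg N6863 = N6863 := ded_49_1 (flp_j L58899) (flp_g L40864) L28417 L40864 L58899
theorem L58909 : sm gc N4744 = N6864 := rfl
theorem L58911 : sm ga N6864 = N4746 := ded_11_1 (flp_c L40903) (flp_a L40886) L58909
theorem L58914 : sm gi N6864 = N4755 := ded_33_2 (flp_c L40978) (flp_i L40890) L58909
theorem L58916 : sm gd N6864 = N5186 := ded_27_2 (flp_c L44700) (flp_d L31064) (flp_c L28437) L40884 L58909
theorem L58918 : sm gf N4744 = N6865 := rfl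
theorem L58920 : sm ga N6865 = N4747 := ded_14_1 (flp_f L40912) (flp_a L40886) L58918
theorem L58923 : sm gd N6865 = N4745 := ded_35_1 (flp_f L40892) L40884 L58918
theorem L58926 : sm gi N6865 = N4756 := ded_48_2 (flp_f L40985) (flp_i L40890) L58918
theorem L58928 : sm gh N4744 = N6866 := rfl
theorem L58934 : sm gg N4745 = N6867 := rfl
theorem L58936 : sm ga N6867 = N4749 := ded_15_1 (flp_g L40926) (flp_a L40894) L58934
theorem L58939 : sm gc N6867 = N5189 := ded_30_1 (flp_g L44727) (flp_c L40897) L58934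
theorem L58942 : sm gi N6867 = N4758 := ded_51_2 (flp_g L41000) (flp_i L40900) L58934
theorem L58944 : sm gf N4746 = N6868 := rfl
theorem L58946 : sm gb N6868 = N4820 := ded_22_1 (flp_f L41522) (flp_b L40908) L58944
theorem L58948 : sm gc N6868 = N4747 := ded_29_1 (flp_f L40912) L40903 L58944
theorem L58950 : sm gd N6868 = N5190 := ded_35_1 (flp_f L44736) (flp_d L40910) L58944
theorem L58952 : sm gj N6868 = N6868 := ded_46_2 (flp_f L58944) L40905 L58944
theorem L58953 : sm gi N6868 = N4759 := ded_48_2 (flp_f L41009) (flp_i L40906) L58944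
theorem L58955 : sm gh N4746 = N6869 := rfl
theorem L58957 : sm gb N6869 = N4821 := ded_25_1 (flp_h L41531) (flp_b L40908) L58955
theorem L58959 : sm gc N6869 = N4748 := ded_32_1 (flp_h L40921) L40903 L58955
theorem L58961 : sm gj N6869 = N6869 := ded_52_1 (flp_h L58955) L40905 L58955
theorem L58962 : sm ge N4747 = N6870 := rfl
theorem L58964 : sm gb N6870 = N4750 := ded_21_1 (flp_e L40935) (flp_b L40914) L58962
theorem L58966 : sm gj N6870 = N6870 := ded_42_2 (flp_e L58962) L40918 L58962
theorem L58967 : sm gi N6870 = N4761 := ded_44_2 (flp_e L41025) (flp_i L40919) L58962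
theorem L58969 : sm gd N6870 = N6870 := ded_34_1 (flp_e L58962) L40916 L28458 (flp_d L40916) L58962
theorem L58970 : sm gg N4747 = N6871 := rfl
theorem L58972 : sm gb N6871 = N4751 := ded_23_1 (flp_g L40944) (flp_b L40914) L58970
theorem L58974 : sm gd N6871 = N4749 := ded_36_1 (flp_g L40926) (flp_d L40916) L58970
theorem L58976 : sm gi N6871 = N4762 := ded_51_2 (flp_g L41031) (flp_i L40919) L58970
theorem L58978 : sm gh N4747 = N6872 := rfl
theorem L58980 : sm gb N6872 = N4752 := ded_25_1 (flp_h L40953) (flp_b L40914) L58978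
theorem L58982 : sm gf N6872 = N4748 := ded_47_1 (flp_h L40921) L40912 L58978
theorem L58984 : sm gj N6872 = N6872 := ded_52_1 (flp_h L58978) L40918 L58978
theorem L58985 : sm gi N4748 = N6873 := rfl
theorem L58987 : sm gb N6873 = N4753 := ded_26_1 (flp_i L40961) (flp_b L40923) L58985
theorem L58989 : sm gj N6873 = N6873 := ded_53_1 (flp_i L58985) L40925 L58985
theorem L58990 : sm gh N6873 = N4764 := ded_54_1 (flp_i L41045) (flp_h L28524) (flp_i L28447) L40921 L58985
theorem L58992 : sm gj N4749 = N6874 := rfl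
theorem L58994 : sm gb N6874 = N4754 := ded_24_1 (flp_j L40969) (flp_b L40928) L58992
theorem L58996 : sm gc N6874 = N5196 := ded_31_1 (flp_j L44785) (flp_c L40930) L58992
theorem L58998 : sm ge N6874 = N6874 := ded_42_1 (flp_j L58992) L40932 L58992
theorem L58999 : sm gi N6874 = N4765 := ded_53_2 (flp_j L41051) (flp_i L40933) L58992
theorem L59001 : sm gg N6874 = N6874 := ded_49_1 (flp_j L58992) (flp_g L40926) L28455 L40926 L58992
theorem L59002 : sm gg N4750 = N6875 := rfl
theorem L59004 : sm ga N6875 = N6875 := ded_15_1 (flp_g L59002) L40937 L59002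
theorem L59005 : sm gc N6875 = N4827 := ded_30_1 (flp_g L41581) (flp_c L40938) L59002
theorem L59007 : sm gd N6875 = N6875 := ded_36_1 (flp_g L59002) L40943 L59002
theorem L59008 : sm ge N6875 = N4751 := ded_41_1 (flp_g L40944) L40935 L59002
theorem L59010 : sm gi N6875 = N4766 := ded_51_2 (flp_g L41060) (flp_i L40941) L59002
theorem L59012 : sm gh N4750 = N6876 := rfl
theorem L59014 : sm ga N6876 = N6876 := ded_17_1 (flp_h L59012) L40937 L59012
theorem L59015 : sm gc N6876 = N4828 := ded_32_1 (flp_h L41590) (flp_c L40938) L59012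
theorem L59017 : sm ge N6876 = N4752 := ded_43_1 (flp_h L40953) L40935 L59012
theorem L59019 : sm gj N6876 = N6876 := ded_52_1 (flp_h L59012) L40940 L59012
theorem L59020 : sm gj N4751 = N6877 := rfl
theorem L59022 : sm ga N6877 = N6877 := ded_16_1 (flp_j L59020) L40946 L59020
theorem L59023 : sm gc N6877 = N4829 := ded_31_1 (flp_j L41596) (flp_c L40947) L59020
theorem L59025 : sm gd N6877 = N4754 := ded_37_1 (flp_j L40969) (flp_d L40949) L59020
theorem L59027 : sm gi N6877 = N4768 := ded_53_2 (flp_j L41076) (flp_i L40951) L59020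
theorem L59029 : sm gg N6877 = N6877 := ded_49_1 (flp_j L59020) (flp_g L40944) L28466 L40944 L59020
theorem L59030 : sm gh N4751 = N6878 := rfl
theorem L59032 : sm ga N6878 = N6878 := ded_17_1 (flp_h L59030) L40946 L59030
theorem L59033 : sm gc N6878 = N4830 := ded_32_1 (flp_h L41604) (flp_c L40947) L59030
theorem L59035 : sm gg N6878 = N4752 := ded_50_1 (flp_h L40953) L40944 L59030
theorem L59037 : sm gi N4752 = N6879 := rfl
theorem L59039 : sm ga N6879 = N6879 := ded_18_1 (flp_i L59037) L40955 L59037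
theorem L59040 : sm gc N6879 = N4831 := ded_33_1 (flp_i L41610) (flp_c L40956) L59037
theorem L59042 : sm gf N6879 = N4753 := ded_48_1 (flp_i L40961) (flp_f L40958) L59037
theorem L59044 : sm gj N6879 = N6879 := ded_53_1 (flp_i L59037) L40960 L59037
theorem L59045 : sm gh N6879 = N4770 := ded_54_1 (flp_i L41092) (flp_h L28552) (flp_i L28467) L40953 L59037
theorem L59047 : sm gb N4755 = N6880 := rfl
theorem L59049 : sm gd N6880 = N5202 := ded_20_2 (flp_b L44844) (flp_d L40983) L59047
theorem L59051 : sm gj N6880 = N6880 := ded_24_2 (flp_b L59047) L40982 L59047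
theorem L59052 : sm ga N6880 = N4832 := ded_10_1 (flp_b L41619) L28938 (flp_b L28513) (flp_a L40980) L59047
theorem L59054 : sm gc N6880 = N6880 := ded_19_2 (flp_b L59047) (flp_c L40978) L28498 L40978 L59047
theorem L59055 : sm gf N4755 = N6881 := rfl
theorem L59057 : sm ga N6881 = N4759 := ded_14_1 (flp_f L41009) (flp_a L40980) L59055
theorem L59059 : sm gc N6881 = N4756 := ded_29_1 (flp_f L40985) L40978 L59055
theorem L59061 : sm gd N6881 = N5203 := ded_35_1 (flp_f L44852) (flp_d L40983) L59055
theorem L59063 : sm gj N6881 = N6881 := ded_46_2 (flp_f L59055) L40982 L59055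
theorem L59064 : sm gh N4755 = N6882 := rfl
theorem L59066 : sm ga N6882 = N4760 := ded_17_1 (flp_h L41018) (flp_a L40980) L59064
theorem L59068 : sm gc N6882 = N4757 := ded_32_1 (flp_h L40993) L40978 L59064
theorem L59070 : sm gj N6882 = N6882 := ded_52_1 (flp_h L59064) L40982 L59064
theorem L59071 : sm ge N4756 = N6883 := rfl
theorem L59073 : sm ga N6883 = N4761 := ded_13_1 (flp_e L41025) (flp_a L40987) L59071
theorem L59075 : sm gb N6883 = N6883 := ded_21_1 (flp_e L59071) L40989 L59071
theorem L59076 : sm gj N6883 = N6883 := ded_42_2 (flp_e L59071) L40992 L59071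
theorem L59077 : sm gd N6883 = N6883 := ded_34_1 (flp_e L59071) L40990 L28509 (flp_d L40990) L59071
theorem L59078 : sm gg N4756 = N6884 := rfl
theorem L59080 : sm ga N6884 = N4762 := ded_15_1 (flp_g L41031) (flp_a L40987) L59078
theorem L59082 : sm gb N6884 = N6884 := ded_23_1 (flp_g L59078) L40989 L59078
theorem L59083 : sm gd N6884 = N4758 := ded_36_1 (flp_g L41000) (flp_d L40990) L59078
theorem L59085 : sm gh N4756 = N6885 := rfl
theorem L59087 : sm ga N6885 = N4763 := ded_17_1 (flp_h L41037) (flp_a L40987) L59085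
theorem L59089 : sm gb N6885 = N6885 := ded_25_1 (flp_h L59085) L40989 L59085
theorem L59090 : sm gf N6885 = N4757 := ded_47_1 (flp_h L40993) L40985 L59085
theorem L59092 : sm gj N6885 = N6885 := ded_52_1 (flp_h L59085) L40992 L59085
theorem L59093 : sm gd N6885 = N6885 := ded_38_1 (flp_h L59085) L40990 L28508 (flp_d L40990) L59085
theorem L59094 : sm gi N4757 = N6886 := rfl
theorem L59096 : sm ga N6886 = N4764 := ded_18_1 (flp_i L41045) (flp_a L40995) L59094
theorem L59098 : sm gb N6886 = N6886 := ded_26_1 (flp_i L59094) L40997 L59094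
theorem L59099 : sm gd N6886 = N6886 := ded_39_1 (flp_i L59094) L40999 L59094
theorem L59100 : sm gj N6886 = N6886 := ded_53_1 (flp_i L59094) L40998 L59094
theorem L59101 : sm gj N4758 = N6887 := rfl
theorem L59103 : sm ga N6887 = N4765 := ded_16_1 (flp_j L41051) (flp_a L41002) L59101
theorem L59105 : sm gb N6887 = N6887 := ded_24_1 (flp_j L59101) L41004 L59101
theorem L59106 : sm gc N6887 = N5209 := ded_31_1 (flp_j L44903) (flp_c L41005) L59101
theorem L59108 : sm ge N6887 = N6887 := ded_42_1 (flp_j L59101) L41007 L59101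
theorem L59109 : sm gh N6887 = N6887 := ded_52_2 (flp_j L59101) L41008 L59101
theorem L59110 : sm gg N6887 = N6887 := ded_49_1 (flp_j L59101) (flp_g L41000) L28507 L41000 L59101
theorem L59111 : sm ge N4759 = N6888 := rfl
theorem L59113 : sm gb N6888 = N4840 := ded_21_1 (flp_e L41686) (flp_b L41011) L59111
theorem L59115 : sm gc N6888 = N4761 := ded_28_1 (flp_e L41025) (flp_c L41013) L59111
theorem L59117 : sm gj N6888 = N6888 := ded_42_2 (flp_e L59111) L41017 L59111
theorem L59118 : sm gg N4759 = N6889 := rfl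
theorem L59120 : sm gb N6889 = N4841 := ded_23_1 (flp_g L41691) (flp_b L41011) L59118
theorem L59122 : sm gc N6889 = N4762 := ded_30_1 (flp_g L41031) (flp_c L41013) L59118
theorem L59124 : sm gd N6889 = N5211 := ded_36_1 (flp_g L44920) (flp_d L41015) L59118
theorem L59126 : sm gh N4759 = N6890 := rfl
theorem L59128 : sm gb N6890 = N4842 := ded_25_1 (flp_h L41697) (flp_b L41011) L59126
theorem L59130 : sm gc N6890 = N4763 := ded_32_1 (flp_h L41037) (flp_c L41013) L59126
theorem L59132 : sm gf N6890 = N4760 := ded_47_1 (flp_h L41018) L41009 L59126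
theorem L59134 : sm gj N6890 = N6890 := ded_52_1 (flp_h L59126) L41017 L59126
theorem L59135 : sm gd N4760 = N6891 := rfl
theorem L59137 : sm gb N6891 = N4843 := ded_20_1 (flp_d L41704) (flp_b L41020) L59135
theorem L59139 : sm gj N6891 = N6891 := ded_37_2 (flp_d L59135) L41024 L59135
theorem L59140 : sm gc N6891 = N6891 := ded_27_1 (flp_d L59135) L41022 L28529 (flp_c L41022) L59135
theorem L59141 : sm gh N6891 = N5213 := ded_38_2 (flp_d L44935) (flp_h L31203) (flp_d L28515) L41018 L59135
theorem L59143 : sm gi N4760 = N6892 := rfl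
theorem L59145 : sm gb N6892 = N4844 := ded_26_1 (flp_i L41711) (flp_b L41020) L59143
theorem L59147 : sm gc N6892 = N4764 := ded_33_1 (flp_i L41045) (flp_c L41022) L59143
theorem L59149 : sm gj N6892 = N6892 := ded_53_1 (flp_i L59143) L41024 L59143
theorem L59150 : sm gg N4761 = N6893 := rfl
theorem L59152 : sm gb N6893 = N4766 := ded_23_1 (flp_g L41060) (flp_b L41027) L59150
theorem L59154 : sm gd N6893 = N6893 := ded_36_1 (flp_g L59150) L41030 L59150
theorem L59155 : sm ge N6893 = N4762 := ded_41_1 (flp_g L41031) L41025 L59150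
theorem L59157 : sm gh N4761 = N6894 := rfl
theorem L59159 : sm gb N6894 = N4767 := ded_25_1 (flp_h L41068) (flp_b L41027) L59157
theorem L59161 : sm ge N6894 = N4763 := ded_43_1 (flp_h L41037) L41025 L59157
theorem L59163 : sm gj N6894 = N6894 := ded_52_1 (flp_h L59157) L41029 L59157
theorem L59164 : sm gj N4762 = N6895 := rfl
theorem L59166 : sm gb N6895 = N4768 := ded_24_1 (flp_j L41076) (flp_b L41033) L59164
theorem L59168 : sm gd N6895 = N4765 := ded_37_1 (flp_j L41051) (flp_d L41035) L59164
theorem L59170 : sm gg N6895 = N6895 := ded_49_1 (flp_j L59164) (flp_g L41031) L28523 L41031 L59164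
theorem L59171 : sm gh N4762 = N6896 := rfl
theorem L59173 : sm gb N6896 = N4769 := ded_25_1 (flp_h L41084) (flp_b L41033) L59171
theorem L59175 : sm gg N6896 = N4763 := ded_50_1 (flp_h L41037) L41031 L59171
theorem L59177 : sm gd N6896 = N6896 := ded_38_1 (flp_h L59171) L41035 L28537 (flp_d L41035) L59171
theorem L59178 : sm gi N4763 = N6897 := rfl
theorem L59180 : sm gb N6897 = N4770 := ded_26_1 (flp_i L41092) (flp_b L41039) L59178
theorem L59182 : sm gd N6897 = N6897 := ded_39_1 (flp_i L59178) L41044 L59178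
theorem L59183 : sm gf N6897 = N4764 := ded_48_1 (flp_i L41045) (flp_f L41041) L59178
theorem L59185 : sm gj N6897 = N6897 := ded_53_1 (flp_i L59178) L41043 L59178
theorem L59186 : sm gf N4766 = N6898 := rfl
theorem L59188 : sm ga N6898 = N6898 := ded_14_1 (flp_f L59186) L41062 L59186
theorem L59189 : sm gc N6898 = N4850 := ded_29_1 (flp_f L41755) (flp_c L41063) L59186
theorem L59191 : sm gd N6898 = N6898 := ded_35_1 (flp_f L59186) L41065 L59186
theorem L59192 : sm gj N4766 = N6899 := rfl
theorem L59194 : sm ga N6899 = N6899 := ded_16_1 (flp_j L59192) L41062 L59192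
theorem L59195 : sm gc N6899 = N4851 := ded_31_1 (flp_j L41760) (flp_c L41063) L59192
theorem L59197 : sm gd N6899 = N6899 := ded_37_1 (flp_j L59192) L41065 L59192
theorem L59198 : sm ge N6899 = N4768 := ded_42_1 (flp_j L41076) (flp_e L41066) L59192
theorem L59200 : sm gg N6899 = N6899 := ded_49_1 (flp_j L59192) (flp_g L41060) L28543 L41060 L59192
theorem L59201 : sm gh N4766 = N6900 := rfl
theorem L59203 : sm ga N6900 = N6900 := ded_17_1 (flp_h L59201) L41062 L59201
theorem L59204 : sm gc N6900 = N4852 := ded_32_1 (flp_h L41768) (flp_c L41063) L59201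
theorem L59206 : sm ge N6900 = N4769 := ded_43_1 (flp_h L41084) (flp_e L41066) L59201
theorem L59208 : sm gg N6900 = N4767 := ded_50_1 (flp_h L41068) L41060 L59201
theorem L59210 : sm gd N4767 = N6901 := rfl
theorem L59212 : sm ga N6901 = N6901 := ded_12_1 (flp_d L59210) L41070 L59210
theorem L59213 : sm gj N6901 = N6901 := ded_37_2 (flp_d L59210) L41075 L59210
theorem L59214 : sm ge N6901 = N6901 := ded_34_2 (flp_d L59210) L41073 L28560 (flp_e L41073) L59210
theorem L59215 : sm gh N6901 = N6901 := ded_38_2 (flp_d L59210) (flp_h L41068) L28544 L41068 L59210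
theorem L59216 : sm gi N4767 = N6902 := rfl
theorem L59218 : sm ga N6902 = N6902 := ded_18_1 (flp_i L59216) L41070 L59216
theorem L59219 : sm gc N6902 = N4854 := ded_33_1 (flp_i L41783) (flp_c L41071) L59216
theorem L59221 : sm ge N6902 = N4770 := ded_44_1 (flp_i L41092) (flp_e L41073) L59216
theorem L59223 : sm gj N6902 = N6902 := ded_53_1 (flp_i L59216) L41075 L59216
theorem L59224 : sm gh N4768 = N6903 := rfl
theorem L59226 : sm ga N6903 = N6903 := ded_17_1 (flp_h L59224) L41078 L59224
theorem L59227 : sm gc N6903 = N4855 := ded_32_1 (flp_h L41789) (flp_c L41079) L59224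
theorem L59229 : sm gg N6903 = N6903 := ded_50_1 (flp_h L59224) L41083 L59224
theorem L59230 : sm gj N6903 = N4769 := ded_52_1 (flp_h L41084) L41076 L59224
theorem L59232 : sm gd N6903 = N6903 := ded_38_1 (flp_h L59224) L41081 L28574 (flp_d L41081) L59224
theorem L59233 : sm gi N4769 = N6904 := rfl
theorem L59235 : sm ga N6904 = N6904 := ded_18_1 (flp_i L59233) L41086 L59233
theorem L59236 : sm gc N6904 = N4856 := ded_33_1 (flp_i L41797) (flp_c L41087) L59233
theorem L59238 : sm gd N6904 = N6904 := ded_39_1 (flp_i L59233) L41091 L59233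
theorem L59239 : sm gg N6904 = N4770 := ded_51_1 (flp_i L41092) (flp_g L41089) L59233
theorem L59241 : sm gd N4771 = N6905 := rfl
theorem L59243 : sm ga N6905 = N4772 := ded_12_1 (flp_d L41114) (flp_a L41103) L59241
theorem L59245 : sm gb N6905 = N6905 := ded_20_1 (flp_d L59241) L41105 L59241
theorem L59246 : sm gg N6905 = N6905 := ded_36_2 (flp_d L59241) L41108 L59241
theorem L59247 : sm gj N6905 = N4789 := ded_37_2 (flp_d L41267) (flp_j L41109) L59241
theorem L59249 : sm gi N6905 = N4778 := ded_39_2 (flp_d L41173) (flp_i L41112) L59241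
theorem L59251 : sm gf N4771 = N6906 := rfl
theorem L59253 : sm ga N6906 = N4773 := ded_14_1 (flp_f L41123) (flp_a L41103) L59251
theorem L59255 : sm gb N6906 = N6906 := ded_22_1 (flp_f L59251) L41105 L59251
theorem L59256 : sm gc N6906 = N5228 := ded_29_1 (flp_f L45064) (flp_c L41106) L59251
theorem L59258 : sm gj N6906 = N4790 := ded_46_2 (flp_f L41276) (flp_j L41109) L59251
theorem L59260 : sm gh N6906 = N6906 := ded_47_2 (flp_f L59251) L41111 L59251
theorem L59261 : sm gi N6906 = N4779 := ded_48_2 (flp_f L41181) (flp_i L41112) L59251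
theorem L59263 : sm ge N6906 = N6906 := ded_40_1 (flp_f L59251) (flp_e L41101) L28580 L41101 L59251
theorem L59264 : sm gc N4772 = N6907 := rfl
theorem L59266 : sm gg N6907 = N6907 := ded_30_2 (flp_c L59264) L41118 L59264
theorem L59267 : sm gj N6907 = N4791 := ded_31_2 (flp_c L41287) (flp_j L41119) L59264
theorem L59269 : sm gi N6907 = N4780 := ded_33_2 (flp_c L41193) (flp_i L41121) L59264
theorem L59271 : sm gd N6907 = N5229 := ded_27_2 (flp_c L45076) (flp_d L31305) (flp_c L28592) L41114 L59264
theorem L59273 : sm gf N4772 = N6908 := rfl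
theorem L59275 : sm gb N6908 = N4774 := ded_22_1 (flp_f L41135) (flp_b L41116) L59273
theorem L59277 : sm gd N6908 = N4773 := ded_35_1 (flp_f L41123) L41114 L59273
theorem L59279 : sm gj N6908 = N4792 := ded_46_2 (flp_f L41295) (flp_j L41119) L59273
theorem L59281 : sm gi N6908 = N4781 := ded_48_2 (flp_f L41200) (flp_i L41121) L59273
theorem L59283 : sm gh N4772 = N6909 := rfl
theorem L59285 : sm gb N6909 = N4775 := ded_25_1 (flp_h L41144) (flp_b L41116) L59283
theorem L59287 : sm gg N6909 = N6909 := ded_50_1 (flp_h L59283) L41118 L59283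
theorem L59288 : sm gj N6909 = N4793 := ded_52_1 (flp_h L41303) (flp_j L41119) L59283
theorem L59290 : sm gd N6909 = N6909 := ded_38_1 (flp_h L59283) (flp_d L41114) L28597 L41114 L59283
theorem L59291 : sm gg N4773 = N6910 := rfl
theorem L59293 : sm gb N6910 = N4776 := ded_23_1 (flp_g L41151) (flp_b L41125) L59291
theorem L59295 : sm gc N6910 = N5232 := ded_30_1 (flp_g L45103) (flp_c L41127) L59291
theorem L59297 : sm ge N6910 = N6910 := ded_41_1 (flp_g L59291) L41134 L59291
theorem L59298 : sm gh N6910 = N6910 := ded_50_2 (flp_g L59291) L41131 L59291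
theorem L59299 : sm gi N6910 = N4783 := ded_51_2 (flp_g L41217) (flp_i L41132) L59291
theorem L59301 : sm gf N6910 = N6910 := ded_45_1 (flp_g L59291) (flp_f L41123) L28594 L41123 L59291
theorem L59302 : sm ge N4774 = N6911 := rfl
theorem L59304 : sm ga N6911 = N6911 := ded_13_1 (flp_e L59302) L41137 L59302
theorem L59305 : sm gj N6911 = N4795 := ded_42_2 (flp_e L41322) (flp_j L41140) L59302
theorem L59307 : sm gi N6911 = N4784 := ded_44_2 (flp_e L41227) (flp_i L41142) L59302
theorem L59309 : sm gd N6911 = N6911 := ded_34_1 (flp_e L59302) L41138 L28618 (flp_d L41138) L59302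
theorem L59310 : sm gg N4774 = N6912 := rfl
theorem L59312 : sm ga N6912 = N6912 := ded_15_1 (flp_g L59310) L41137 L59310
theorem L59313 : sm gd N6912 = N4776 := ded_36_1 (flp_g L41151) (flp_d L41138) L59310
theorem L59315 : sm gi N6912 = N4785 := ded_51_2 (flp_g L41233) (flp_i L41142) L59310
theorem L59317 : sm gf N6912 = N6912 := ded_45_1 (flp_g L59310) (flp_f L41135) L28603 L41135 L59310
theorem L59318 : sm gh N4774 = N6913 := rfl
theorem L59320 : sm ga N6913 = N6913 := ded_17_1 (flp_h L59318) L41137 L59318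
theorem L59321 : sm gf N6913 = N4775 := ded_47_1 (flp_h L41144) L41135 L59318
theorem L59323 : sm gj N6913 = N4797 := ded_52_1 (flp_h L41337) (flp_j L41140) L59318
theorem L59325 : sm gd N6913 = N6913 := ded_38_1 (flp_h L59318) L41138 L28615 (flp_d L41138) L59318
theorem L59326 : sm gi N4775 = N6914 := rfl
theorem L59328 : sm ga N6914 = N6914 := ded_18_1 (flp_i L59326) L41146 L59326
theorem L59329 : sm gd N6914 = N6914 := ded_39_1 (flp_i L59326) L41150 L59326
theorem L59330 : sm gg N6914 = N6914 := ded_51_1 (flp_i L59326) L41147 L59326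
theorem L59331 : sm gj N6914 = N4798 := ded_53_1 (flp_i L41343) (flp_j L41148) L59326
theorem L59333 : sm gh N6914 = N4787 := ded_54_1 (flp_i L41248) (flp_h L28666) (flp_i L28606) L41144 L59326
theorem L59335 : sm gj N4776 = N6915 := rfl
theorem L59337 : sm ga N6915 = N6915 := ded_16_1 (flp_j L59335) L41153 L59335
theorem L59338 : sm gc N6915 = N4777 := ded_31_1 (flp_j L41161) (flp_c L41154) L59335
theorem L59340 : sm ge N6915 = N6915 := ded_42_1 (flp_j L59335) L41156 L59335
theorem L59341 : sm gf N6915 = N6915 := ded_46_1 (flp_j L59335) L41160 L59335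
theorem L59342 : sm gh N6915 = N6915 := ded_52_2 (flp_j L59335) L41157 L59335
theorem L59343 : sm gi N6915 = N4788 := ded_53_2 (flp_j L41256) (flp_i L41158) L59335
theorem L59345 : sm gg N6915 = N4799 := ded_49_1 (flp_j L41351) (flp_g L28737) (flp_j L28613) L41151 L59335
theorem L59347 : sm gc N4778 = N6916 := rfl
theorem L59349 : sm ga N6916 = N4780 := ded_11_1 (flp_c L41193) (flp_a L41175) L59347
theorem L59351 : sm gg N6916 = N6916 := ded_30_2 (flp_c L59347) L41178 L59347
theorem L59352 : sm gj N6916 = N4800 := ded_31_2 (flp_c L41362) (flp_j L41179) L59347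
theorem L59354 : sm gd N6916 = N5238 := ded_27_2 (flp_c L45164) (flp_d L31366) (flp_c L28634) L41173 L59347
theorem L59356 : sm gf N4778 = N6917 := rfl
theorem L59358 : sm ga N6917 = N4781 := ded_14_1 (flp_f L41200) (flp_a L41175) L59356
theorem L59360 : sm gb N6917 = N6917 := ded_22_1 (flp_f L59356) L41177 L59356
theorem L59361 : sm gd N6917 = N4779 := ded_35_1 (flp_f L41181) L41173 L59356
theorem L59363 : sm gj N6917 = N4801 := ded_46_2 (flp_f L41370) (flp_j L41179) L59356
theorem L59365 : sm gh N4778 = N6918 := rfl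
theorem L59367 : sm ga N6918 = N4782 := ded_17_1 (flp_h L41208) (flp_a L41175) L59365
theorem L59369 : sm gb N6918 = N6918 := ded_25_1 (flp_h L59365) L41177 L59365
theorem L59370 : sm gg N6918 = N6918 := ded_50_1 (flp_h L59365) L41178 L59365
theorem L59371 : sm gj N6918 = N4802 := ded_52_1 (flp_h L41377) (flp_j L41179) L59365
theorem L59373 : sm gd N6918 = N4916 := ded_38_1 (flp_h L42307) (flp_d L29391) (flp_h L28639) L41173 L59365
theorem L59375 : sm gg N4779 = N6919 := rfl
theorem L59377 : sm ga N6919 = N4783 := ded_15_1 (flp_g L41217) (flp_a L41183) L59375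
theorem L59379 : sm gb N6919 = N6919 := ded_23_1 (flp_g L59375) L41185 L59375
theorem L59380 : sm gc N6919 = N5241 := ded_30_1 (flp_g L45194) (flp_c L41186) L59375
theorem L59382 : sm ge N6919 = N6919 := ded_41_1 (flp_g L59375) L41192 L59375
theorem L59383 : sm gh N6919 = N4917 := ded_50_2 (flp_g L42316) (flp_h L41190) L59375
theorem L59385 : sm gf N6919 = N6919 := ded_45_1 (flp_g L59375) (flp_f L41181) L28636 L41181 L59375
theorem L59386 : sm gf N4780 = N6920 := rfl
theorem L59388 : sm gc N6920 = N4781 := ded_29_1 (flp_f L41200) L41193 L59386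
theorem L59390 : sm gd N6920 = N5242 := ded_35_1 (flp_f L45204) (flp_d L41198) L59386
theorem L59392 : sm gj N6920 = N4804 := ded_46_2 (flp_f L41398) (flp_j L41196) L59386
theorem L59394 : sm gh N4780 = N6921 := rfl
theorem L59396 : sm gc N6921 = N4782 := ded_32_1 (flp_h L41208) L41193 L59394
theorem L59398 : sm gg N6921 = N6921 := ded_50_1 (flp_h L59394) L41195 L59394
theorem L59399 : sm gj N6921 = N4805 := ded_52_1 (flp_h L41404) (flp_j L41196) L59394
theorem L59401 : sm ge N4781 = N6922 := rfl
theorem L59403 : sm gb N6922 = N4784 := ded_21_1 (flp_e L41227) (flp_b L41202) L59401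
theorem L59405 : sm gj N6922 = N4806 := ded_42_2 (flp_e L41410) (flp_j L41206) L59401
theorem L59407 : sm gd N6922 = N6922 := ded_34_1 (flp_e L59401) L41204 L28658 (flp_d L41204) L59401
theorem L59408 : sm gg N4781 = N6923 := rfl
theorem L59410 : sm gb N6923 = N4785 := ded_23_1 (flp_g L41233) (flp_b L41202) L59408
theorem L59412 : sm gd N6923 = N4783 := ded_36_1 (flp_g L41217) (flp_d L41204) L59408
theorem L59414 : sm gf N6923 = N6923 := ded_45_1 (flp_g L59408) (flp_f L41200) L28645 L41200 L59408
theorem L59415 : sm gh N4781 = N6924 := rfl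
theorem L59417 : sm gb N6924 = N4786 := ded_25_1 (flp_h L41239) (flp_b L41202) L59415
theorem L59419 : sm gf N6924 = N4782 := ded_47_1 (flp_h L41208) L41200 L59415
theorem L59421 : sm gj N6924 = N4808 := ded_52_1 (flp_h L41423) (flp_j L41206) L59415
theorem L59423 : sm gd N6924 = N4922 := ded_38_1 (flp_h L42362) L29426 (flp_h L28656) (flp_d L41204) L59415
theorem L59425 : sm gi N4782 = N6925 := rfl
theorem L59427 : sm gb N6925 = N4787 := ded_26_1 (flp_i L41248) (flp_b L41210) L59425
theorem L59429 : sm gd N6925 = N4923 := ded_39_1 (flp_i L42370) (flp_d L41215) L59425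
theorem L59431 : sm gg N6925 = N6925 := ded_51_1 (flp_i L59425) L41212 L59425
theorem L59432 : sm gj N6925 = N4809 := ded_53_1 (flp_i L41431) (flp_j L41213) L59425
theorem L59434 : sm gj N4783 = N6926 := rfl
theorem L59436 : sm gb N6926 = N4788 := ded_24_1 (flp_j L41256) (flp_b L41219) L59434
theorem L59438 : sm gc N6926 = N5248 := ded_31_1 (flp_j L45253) (flp_c L41221) L59434
theorem L59440 : sm ge N6926 = N6926 := ded_42_1 (flp_j L59434) L41223 L59434
theorem L59441 : sm gf N6926 = N6926 := ded_46_1 (flp_j L59434) L41226 L59434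
theorem L59442 : sm gh N6926 = N4924 := ded_52_2 (flp_j L42379) (flp_h L41224) L59434
theorem L59444 : sm gg N6926 = N4810 := ded_49_1 (flp_j L41439) (flp_g L28796) (flp_j L28654) L41217 L59434
theorem L59446 : sm gg N4784 = N6927 := rfl
theorem L59448 : sm ga N6927 = N6927 := ded_15_1 (flp_g L59446) L41229 L59446
theorem L59449 : sm gd N6927 = N6927 := ded_36_1 (flp_g L59446) L41232 L59446
theorem L59450 : sm ge N6927 = N4785 := ded_41_1 (flp_g L41233) L41227 L59446
theorem L59452 : sm gh N4784 = N6928 := rfl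
theorem L59454 : sm ga N6928 = N6928 := ded_17_1 (flp_h L59452) L41229 L59452
theorem L59455 : sm ge N6928 = N4786 := ded_43_1 (flp_h L41239) L41227 L59452
theorem L59457 : sm gj N6928 = N4812 := ded_52_1 (flp_h L41456) (flp_j L41230) L59452
theorem L59459 : sm gj N4785 = N6929 := rfl
theorem L59461 : sm ga N6929 = N6929 := ded_16_1 (flp_j L59459) L41235 L59459
theorem L59462 : sm gd N6929 = N4788 := ded_37_1 (flp_j L41256) (flp_d L41236) L59459
theorem L59464 : sm gf N6929 = N6929 := ded_46_1 (flp_j L59459) L41238 L59459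
theorem L59465 : sm gg N6929 = N4813 := ded_49_1 (flp_j L41461) (flp_g L28811) (flp_j L28664) L41233 L59459
theorem L59467 : sm gh N4785 = N6930 := rfl
theorem L59469 : sm ga N6930 = N6930 := ded_17_1 (flp_h L59467) L41235 L59467
theorem L59470 : sm gf N6930 = N6930 := ded_47_1 (flp_h L59467) L41238 L59467
theorem L59471 : sm gg N6930 = N4786 := ded_50_1 (flp_h L41239) L41233 L59467
theorem L59473 : sm gd N6930 = N4928 := ded_38_1 (flp_h L42417) L29461 (flp_h L28680) (flp_d L41236) L59467
theorem L59475 : sm gi N4786 = N6931 := rfl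
theorem L59477 : sm ga N6931 = N6931 := ded_18_1 (flp_i L59475) L41241 L59475
theorem L59478 : sm gd N6931 = N4929 := ded_39_1 (flp_i L42424) (flp_d L41246) L59475
theorem L59480 : sm gf N6931 = N4787 := ded_48_1 (flp_i L41248) (flp_f L41242) L59475
theorem L59482 : sm gj N6931 = N4815 := ded_53_1 (flp_i L41477) (flp_j L41244) L59475
theorem L59484 : sm gc N4789 = N6932 := rfl
theorem L59486 : sm ga N6932 = N4791 := ded_11_1 (flp_c L41287) (flp_a L41269) L59484
theorem L59488 : sm gg N6932 = N4816 := ded_30_2 (flp_c L41484) (flp_g L41272) L59484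
theorem L59490 : sm gi N6932 = N4800 := ded_33_2 (flp_c L41362) (flp_i L41274) L59484
theorem L59492 : sm gd N6932 = N5254 := ded_27_2 (flp_c L45307) (flp_d L31466) (flp_c L28699) L41267 L59484
theorem L59494 : sm gf N4789 = N6933 := rfl
theorem L59496 : sm ga N6933 = N4792 := ded_14_1 (flp_f L41295) (flp_a L41269) L59494
theorem L59498 : sm gb N6933 = N6933 := ded_22_1 (flp_f L59494) L41271 L59494
theorem L59499 : sm gd N6933 = N4790 := ded_35_1 (flp_f L41276) L41267 L59494
theorem L59501 : sm gi N6933 = N4801 := ded_48_2 (flp_f L41370) (flp_i L41274) L59494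
theorem L59503 : sm gh N4789 = N6934 := rfl
theorem L59505 : sm ga N6934 = N4793 := ded_17_1 (flp_h L41303) (flp_a L41269) L59503
theorem L59507 : sm gb N6934 = N6934 := ded_25_1 (flp_h L59503) L41271 L59503
theorem L59508 : sm gg N6934 = N4818 := ded_50_1 (flp_h L41503) (flp_g L41272) L59503
theorem L59510 : sm gd N6934 = N6934 := ded_38_1 (flp_h L59503) (flp_d L41267) L28703 L41267 L59503
theorem L59511 : sm gg N4790 = N6935 := rfl
theorem L59513 : sm ga N6935 = N4794 := ded_15_1 (flp_g L41310) (flp_a L41278) L59511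
theorem L59515 : sm gb N6935 = N6935 := ded_23_1 (flp_g L59511) L41280 L59511
theorem L59516 : sm gc N6935 = N5257 := ded_30_1 (flp_g L45336) (flp_c L41281) L59511
theorem L59518 : sm ge N6935 = N6935 := ded_41_1 (flp_g L59511) L41286 L59511
theorem L59519 : sm gh N6935 = N6935 := ded_50_2 (flp_g L59511) L41283 L59511
theorem L59520 : sm gi N6935 = N4803 := ded_51_2 (flp_g L41386) (flp_i L41284) L59511
theorem L59522 : sm gf N6935 = N4819 := ded_45_1 (flp_g L41510) (flp_f L28850) (flp_g L28701) L41276 L59511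
theorem L59524 : sm gf N4791 = N6936 := rfl
theorem L59526 : sm gc N6936 = N4792 := ded_29_1 (flp_f L41295) L41287 L59524
theorem L59528 : sm gd N6936 = N5258 := ded_35_1 (flp_f L45348) (flp_d L41293) L59524
theorem L59530 : sm gi N6936 = N4804 := ded_48_2 (flp_f L41398) (flp_i L41291) L59524
theorem L59532 : sm gh N4791 = N6937 := rfl
theorem L59534 : sm gc N6937 = N4793 := ded_32_1 (flp_h L41303) L41287 L59532
theorem L59536 : sm gg N6937 = N4821 := ded_50_1 (flp_h L41531) (flp_g L41289) L59532
theorem L59538 : sm ge N4792 = N6938 := rfl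
theorem L59540 : sm gb N6938 = N4795 := ded_21_1 (flp_e L41322) (flp_b L41297) L59538
theorem L59542 : sm gi N6938 = N4806 := ded_44_2 (flp_e L41410) (flp_i L41301) L59538
theorem L59544 : sm gd N6938 = N6938 := ded_34_1 (flp_e L59538) L41299 L28723 (flp_d L41299) L59538
theorem L59545 : sm gg N4792 = N6939 := rfl
theorem L59547 : sm gb N6939 = N4796 := ded_23_1 (flp_g L41328) (flp_b L41297) L59545
theorem L59549 : sm gd N6939 = N4794 := ded_36_1 (flp_g L41310) (flp_d L41299) L59545
theorem L59551 : sm gi N6939 = N4807 := ded_51_2 (flp_g L41415) (flp_i L41301) L59545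
theorem L59553 : sm gf N6939 = N4823 := ded_45_1 (flp_g L41545) (flp_f L28870) (flp_g L28710) L41295 L59545
theorem L59555 : sm gh N4792 = N6940 := rfl
theorem L59557 : sm gb N6940 = N4797 := ded_25_1 (flp_h L41337) (flp_b L41297) L59555
theorem L59559 : sm gf N6940 = N4793 := ded_47_1 (flp_h L41303) L41295 L59555
theorem L59561 : sm gd N6940 = N6940 := ded_38_1 (flp_h L59555) L41299 L28720 (flp_d L41299) L59555
theorem L59562 : sm gi N4793 = N6941 := rfl
theorem L59564 : sm gb N6941 = N4798 := ded_26_1 (flp_i L41343) (flp_b L41305) L59562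
theorem L59566 : sm gd N6941 = N6941 := ded_39_1 (flp_i L59562) L41309 L59562
theorem L59567 : sm gg N6941 = N4825 := ded_51_1 (flp_i L41561) (flp_g L41307) L59562
theorem L59569 : sm gh N6941 = N4809 := ded_54_1 (flp_i L41431) (flp_h L28788) (flp_i L28712) L41303 L59562
theorem L59571 : sm gj N4794 = N6942 := rfl
theorem L59573 : sm gb N6942 = N4799 := ded_24_1 (flp_j L41351) (flp_b L41312) L59571
theorem L59575 : sm gc N6942 = N5264 := ded_31_1 (flp_j L45396) (flp_c L41314) L59571
theorem L59577 : sm ge N6942 = N6942 := ded_42_1 (flp_j L59571) L41316 L59571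
theorem L59578 : sm gf N6942 = N4826 := ded_46_1 (flp_j L41569) (flp_f L41320) L59571
theorem L59580 : sm gh N6942 = N6942 := ded_52_2 (flp_j L59571) L41317 L59571
theorem L59581 : sm gi N6942 = N4810 := ded_53_2 (flp_j L41439) (flp_i L41318) L59571
theorem L59583 : sm gg N4795 = N6943 := rfl
theorem L59585 : sm ga N6943 = N6943 := ded_15_1 (flp_g L59583) L41324 L59583
theorem L59586 : sm gd N6943 = N6943 := ded_36_1 (flp_g L59583) L41327 L59583
theorem L59587 : sm ge N6943 = N4796 := ded_41_1 (flp_g L41328) L41322 L59583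
theorem L59589 : sm gi N6943 = N4811 := ded_51_2 (flp_g L41450) (flp_i L41325) L59583
theorem L59591 : sm gh N4795 = N6944 := rfl
theorem L59593 : sm ga N6944 = N6944 := ded_17_1 (flp_h L59591) L41324 L59591
theorem L59594 : sm ge N6944 = N4797 := ded_43_1 (flp_h L41337) L41322 L59591
theorem L59596 : sm gj N4796 = N6945 := rfl
theorem L59598 : sm ga N6945 = N6945 := ded_16_1 (flp_j L59596) L41330 L59596
theorem L59599 : sm gd N6945 = N4799 := ded_37_1 (flp_j L41351) (flp_d L41331) L59596
theorem L59601 : sm gf N6945 = N4829 := ded_46_1 (flp_j L41596) (flp_f L41335) L59596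
theorem L59603 : sm gi N6945 = N4813 := ded_53_2 (flp_j L41461) (flp_i L41333) L59596
theorem L59605 : sm gh N4796 = N6946 := rfl
theorem L59607 : sm ga N6946 = N6946 := ded_17_1 (flp_h L59605) L41330 L59605
theorem L59608 : sm gf N6946 = N4830 := ded_47_1 (flp_h L41604) (flp_f L41335) L59605
theorem L59610 : sm gg N6946 = N4797 := ded_50_1 (flp_h L41337) L41328 L59605
theorem L59612 : sm gd N6946 = N6946 := ded_38_1 (flp_h L59605) L41331 L28743 (flp_d L41331) L59605
theorem L59613 : sm gi N4797 = N6947 := rfl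
theorem L59615 : sm ga N6947 = N6947 := ded_18_1 (flp_i L59613) L41339 L59613
theorem L59616 : sm gd N6947 = N6947 := ded_39_1 (flp_i L59613) L41342 L59613
theorem L59617 : sm gf N6947 = N4798 := ded_48_1 (flp_i L41343) (flp_f L41340) L59613
theorem L59619 : sm gh N6947 = N4815 := ded_54_1 (flp_i L41477) (flp_h L28818) (flp_i L28729) L41337 L59613
theorem L59621 : sm gb N4800 = N6948 := rfl
theorem L59623 : sm gd N6948 = N5270 := ded_20_2 (flp_b L45450) (flp_d L41368) L59621
theorem L59625 : sm gg N6948 = N4832 := ded_23_2 (flp_b L41619) (flp_g L41366) L59621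
theorem L59627 : sm gc N6948 = N6948 := ded_19_2 (flp_b L59621) (flp_c L41362) L28763 L41362 L59621
theorem L59628 : sm gf N4800 = N6949 := rfl
theorem L59630 : sm ga N6949 = N4804 := ded_14_1 (flp_f L41398) (flp_a L41364) L59628
theorem L59632 : sm gc N6949 = N4801 := ded_29_1 (flp_f L41370) L41362 L59628
theorem L59634 : sm gd N6949 = N5271 := ded_35_1 (flp_f L45457) (flp_d L41368) L59628
theorem L59636 : sm gh N4800 = N6950 := rfl
theorem L59638 : sm ga N6950 = N4805 := ded_17_1 (flp_h L41404) (flp_a L41364) L59636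
theorem L59640 : sm gc N6950 = N4802 := ded_32_1 (flp_h L41377) L41362 L59636
theorem L59642 : sm gg N6950 = N4834 := ded_50_1 (flp_h L41634) (flp_g L41366) L59636
theorem L59644 : sm ge N4801 = N6951 := rfl
theorem L59646 : sm ga N6951 = N4806 := ded_13_1 (flp_e L41410) (flp_a L41372) L59644
theorem L59648 : sm gb N6951 = N6951 := ded_21_1 (flp_e L59644) L41374 L59644
theorem L59649 : sm gd N6951 = N6951 := ded_34_1 (flp_e L59644) L41375 L28775 (flp_d L41375) L59644
theorem L59650 : sm gg N4801 = N6952 := rfl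
theorem L59652 : sm ga N6952 = N4807 := ded_15_1 (flp_g L41415) (flp_a L41372) L59650
theorem L59654 : sm gb N6952 = N6952 := ded_23_1 (flp_g L59650) L41374 L59650
theorem L59655 : sm gd N6952 = N4803 := ded_36_1 (flp_g L41386) (flp_d L41375) L59650
theorem L59657 : sm gf N6952 = N4836 := ded_45_1 (flp_g L41649) (flp_f L28943) (flp_g L28764) L41370 L59650
theorem L59659 : sm gh N4801 = N6953 := rfl
theorem L59661 : sm ga N6953 = N4808 := ded_17_1 (flp_h L41423) (flp_a L41372) L59659
theorem L59663 : sm gb N6953 = N6953 := ded_25_1 (flp_h L59659) L41374 L59659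
theorem L59664 : sm gf N6953 = N4802 := ded_47_1 (flp_h L41377) L41370 L59659
theorem L59666 : sm gd N6953 = N4935 := ded_38_1 (flp_h L42479) L29507 (flp_h L28773) (flp_d L41375) L59659
theorem L59668 : sm gi N4802 = N6954 := rfl
theorem L59670 : sm ga N6954 = N4809 := ded_18_1 (flp_i L41431) (flp_a L41379) L59668
theorem L59672 : sm gb N6954 = N6954 := ded_26_1 (flp_i L59668) L41381 L59668
theorem L59673 : sm gd N6954 = N4936 := ded_39_1 (flp_i L42486) (flp_d L41384) L59668
theorem L59675 : sm gg N6954 = N4838 := ded_51_1 (flp_i L41666) (flp_g L41382) L59668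
theorem L59677 : sm gj N4803 = N6955 := rfl
theorem L59679 : sm ga N6955 = N4810 := ded_16_1 (flp_j L41439) (flp_a L41388) L59677
theorem L59681 : sm gb N6955 = N6955 := ded_24_1 (flp_j L59677) L41390 L59677
theorem L59682 : sm gc N6955 = N5277 := ded_31_1 (flp_j L45511) (flp_c L41391) L59677
theorem L59684 : sm ge N6955 = N6955 := ded_42_1 (flp_j L59677) L41393 L59677
theorem L59685 : sm gf N6955 = N4839 := ded_46_1 (flp_j L41674) (flp_f L41396) L59677
theorem L59687 : sm gh N6955 = N4937 := ded_52_2 (flp_j L42495) (flp_h L41394) L59677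
theorem L59689 : sm ge N4804 = N6956 := rfl
theorem L59691 : sm gc N6956 = N4806 := ded_28_1 (flp_e L41410) (flp_c L41400) L59689
theorem L59693 : sm gg N4804 = N6957 := rfl
theorem L59695 : sm gc N6957 = N4807 := ded_30_1 (flp_g L41415) (flp_c L41400) L59693
theorem L59697 : sm gd N6957 = N5279 := ded_36_1 (flp_g L45527) (flp_d L41402) L59693
theorem L59699 : sm gf N6957 = N4841 := ded_45_1 (flp_g L41691) (flp_f L28970) (flp_g L28778) L41398 L59693
theorem L59701 : sm gh N4804 = N6958 := rfl
theorem L59703 : sm gc N6958 = N4808 := ded_32_1 (flp_h L41423) (flp_c L41400) L59701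
theorem L59705 : sm gf N6958 = N4805 := ded_47_1 (flp_h L41404) L41398 L59701
theorem L59707 : sm gd N4805 = N6959 := rfl
theorem L59709 : sm gg N6959 = N4843 := ded_36_2 (flp_d L41704) (flp_g L41408) L59707
theorem L59711 : sm gc N6959 = N4941 := ded_27_1 (flp_d L42530) L29540 (flp_d L28794) (flp_c L41406) L59707
theorem L59713 : sm gh N6959 = N5281 := ded_38_2 (flp_d L45539) (flp_h L31608) (flp_d L28780) L41404 L59707
theorem L59715 : sm gi N4805 = N6960 := rfl
theorem L59717 : sm gc N6960 = N4809 := ded_33_1 (flp_i L41431) (flp_c L41406) L59715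
theorem L59719 : sm gg N6960 = N4844 := ded_51_1 (flp_i L41711) (flp_g L41408) L59715
theorem L59721 : sm gg N4806 = N6961 := rfl
theorem L59723 : sm gb N6961 = N4811 := ded_23_1 (flp_g L41450) (flp_b L41412) L59721
theorem L59725 : sm gd N6961 = N6961 := ded_36_1 (flp_g L59721) L41414 L59721
theorem L59726 : sm ge N6961 = N4807 := ded_41_1 (flp_g L41415) L41410 L59721
theorem L59728 : sm gh N4806 = N6962 := rfl
theorem L59730 : sm gb N6962 = N4812 := ded_25_1 (flp_h L41456) (flp_b L41412) L59728
theorem L59732 : sm ge N6962 = N4808 := ded_43_1 (flp_h L41423) L41410 L59728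
theorem L59734 : sm gj N4807 = N6963 := rfl
theorem L59736 : sm gb N6963 = N4813 := ded_24_1 (flp_j L41461) (flp_b L41417) L59734
theorem L59738 : sm gd N6963 = N4810 := ded_37_1 (flp_j L41439) (flp_d L41419) L59734
theorem L59740 : sm gf N6963 = N4847 := ded_46_1 (flp_j L41731) (flp_f L41421) L59734
theorem L59742 : sm gh N4807 = N6964 := rfl
theorem L59744 : sm gb N6964 = N4814 := ded_25_1 (flp_h L41468) (flp_b L41417) L59742
theorem L59746 : sm gf N6964 = N4848 := ded_47_1 (flp_h L41738) (flp_f L41421) L59742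
theorem L59748 : sm gg N6964 = N4808 := ded_50_1 (flp_h L41423) L41415 L59742
theorem L59750 : sm gd N6964 = N4946 := ded_38_1 (flp_h L42570) L29556 (flp_h L28803) (flp_d L41419) L59742
theorem L59752 : sm gi N4808 = N6965 := rfl
theorem L59754 : sm gb N6965 = N4815 := ded_26_1 (flp_i L41477) (flp_b L41425) L59752
theorem L59756 : sm gd N6965 = N4947 := ded_39_1 (flp_i L42578) (flp_d L41429) L59752
theorem L59758 : sm gf N6965 = N4809 := ded_48_1 (flp_i L41431) (flp_f L41427) L59752
theorem L59760 : sm gf N4811 = N6966 := rfl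
theorem L59762 : sm ga N6966 = N6966 := ded_14_1 (flp_f L59760) L41452 L59760
theorem L59763 : sm gd N6966 = N6966 := ded_35_1 (flp_f L59760) L41453 L59760
theorem L59764 : sm ge N6966 = N4850 := ded_40_1 (flp_f L41755) L29027 (flp_f L28816) (flp_e L41454) L59760
theorem L59766 : sm gj N4811 = N6967 := rfl
theorem L59768 : sm ga N6967 = N6967 := ded_16_1 (flp_j L59766) L41452 L59766
theorem L59769 : sm gd N6967 = N6967 := ded_37_1 (flp_j L59766) L41453 L59766
theorem L59770 : sm ge N6967 = N4813 := ded_42_1 (flp_j L41461) (flp_e L41454) L59766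
theorem L59772 : sm gh N4811 = N6968 := rfl
theorem L59774 : sm ga N6968 = N6968 := ded_17_1 (flp_h L59772) L41452 L59772
theorem L59775 : sm ge N6968 = N4814 := ded_43_1 (flp_h L41468) (flp_e L41454) L59772
theorem L59777 : sm gg N6968 = N4812 := ded_50_1 (flp_h L41456) L41450 L59772
theorem L59779 : sm gd N4812 = N6969 := rfl
theorem L59781 : sm ga N6969 = N6969 := ded_12_1 (flp_d L59779) L41458 L59779
theorem L59782 : sm ge N6969 = N4951 := ded_34_2 (flp_d L42610) L29597 (flp_d L28823) (flp_e L41459) L59779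
theorem L59784 : sm gh N6969 = N6969 := ded_38_2 (flp_d L59779) (flp_h L41456) L28810 L41456 L59779
theorem L59785 : sm gi N4812 = N6970 := rfl
theorem L59787 : sm ga N6970 = N6970 := ded_18_1 (flp_i L59785) L41458 L59785
theorem L59788 : sm ge N6970 = N4815 := ded_44_1 (flp_i L41477) (flp_e L41459) L59785
theorem L59790 : sm gh N4813 = N6971 := rfl
theorem L59792 : sm ga N6971 = N6971 := ded_17_1 (flp_h L59790) L41463 L59790
theorem L59793 : sm gf N6971 = N4855 := ded_47_1 (flp_h L41789) (flp_f L41466) L59790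
theorem L59795 : sm gj N6971 = N4814 := ded_52_1 (flp_h L41468) L41461 L59790
theorem L59797 : sm gd N6971 = N4953 := ded_38_1 (flp_h L42623) L29604 (flp_h L28840) (flp_d L41464) L59790
theorem L59799 : sm gi N4814 = N6972 := rfl
theorem L59801 : sm ga N6972 = N6972 := ded_18_1 (flp_i L59799) L41470 L59799
theorem L59802 : sm gd N6972 = N4954 := ded_39_1 (flp_i L42631) (flp_d L41475) L59799
theorem L59804 : sm gf N6972 = N4856 := ded_48_1 (flp_i L41797) (flp_f L41471) L59799
theorem L59806 : sm gg N6972 = N4815 := ded_51_1 (flp_i L41477) (flp_g L41473) L59799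
theorem L59808 : sm gb N4816 = N6973 := rfl
theorem L59810 : sm gd N6973 = N5295 := ded_20_2 (flp_b L45650) (flp_d L41491) L59808
theorem L59812 : sm gj N6973 = N6973 := ded_24_2 (flp_b L59808) L41488 L59808
theorem L59813 : sm gi N6973 = N4832 := ded_26_2 (flp_b L41619) (flp_i L41489) L59808
theorem L59815 : sm gc N6973 = N6973 := ded_19_2 (flp_b L59808) (flp_c L41484) L28846 L41484 L59808
theorem L59816 : sm gf N4816 = N6974 := rfl
theorem L59818 : sm ga N6974 = N4820 := ded_14_1 (flp_f L41522) (flp_a L41486) L59816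
theorem L59820 : sm gc N6974 = N4817 := ded_29_1 (flp_f L41493) L41484 L59816
theorem L59822 : sm gd N6974 = N5296 := ded_35_1 (flp_f L45658) (flp_d L41491) L59816
theorem L59824 : sm gj N6974 = N6974 := ded_46_2 (flp_f L59816) L41488 L59816
theorem L59825 : sm gi N6974 = N4833 := ded_48_2 (flp_f L41625) (flp_i L41489) L59816
theorem L59827 : sm gh N4816 = N6975 := rfl
theorem L59829 : sm ga N6975 = N4821 := ded_17_1 (flp_h L41531) (flp_a L41486) L59827
theorem L59831 : sm gc N6975 = N4818 := ded_32_1 (flp_h L41503) L41484 L59827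
theorem L59833 : sm gj N6975 = N6975 := ded_52_1 (flp_h L59827) L41488 L59827
theorem L59834 : sm ge N4817 = N6976 := rfl
theorem L59836 : sm ga N6976 = N4822 := ded_13_1 (flp_e L41536) (flp_a L41495) L59834
theorem L59838 : sm gb N6976 = N6976 := ded_21_1 (flp_e L59834) L41497 L59834
theorem L59839 : sm gj N6976 = N6976 := ded_42_2 (flp_e L59834) L41500 L59834
theorem L59840 : sm gi N6976 = N4835 := ded_44_2 (flp_e L41641) (flp_i L41501) L59834
theorem L59842 : sm gd N6976 = N4860 := ded_34_1 (flp_e L41833) L29071 (flp_e L28861) (flp_d L41498) L59834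
theorem L59844 : sm gg N4817 = N6977 := rfl
theorem L59846 : sm ga N6977 = N4823 := ded_15_1 (flp_g L41545) (flp_a L41495) L59844
theorem L59848 : sm gb N6977 = N6977 := ded_23_1 (flp_g L59844) L41497 L59844
theorem L59849 : sm gd N6977 = N4819 := ded_36_1 (flp_g L41510) (flp_d L41498) L59844
theorem L59851 : sm gi N6977 = N4836 := ded_51_2 (flp_g L41649) (flp_i L41501) L59844
theorem L59853 : sm gh N4817 = N6978 := rfl
theorem L59855 : sm ga N6978 = N4824 := ded_17_1 (flp_h L41553) (flp_a L41495) L59853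
theorem L59857 : sm gb N6978 = N6978 := ded_25_1 (flp_h L59853) L41497 L59853
theorem L59858 : sm gf N6978 = N4818 := ded_47_1 (flp_h L41503) L41493 L59853
theorem L59860 : sm gj N6978 = N6978 := ded_52_1 (flp_h L59853) L41500 L59853
theorem L59861 : sm gd N6978 = N6978 := ded_38_1 (flp_h L59853) L41498 L28858 (flp_d L41498) L59853
theorem L59862 : sm gi N4818 = N6979 := rfl
theorem L59864 : sm ga N6979 = N4825 := ded_18_1 (flp_i L41561) (flp_a L41505) L59862
theorem L59866 : sm gb N6979 = N6979 := ded_26_1 (flp_i L59862) L41507 L59862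
theorem L59867 : sm gd N6979 = N6979 := ded_39_1 (flp_i L59862) L41509 L59862
theorem L59868 : sm gj N6979 = N6979 := ded_53_1 (flp_i L59862) L41508 L59862
theorem L59869 : sm gh N6979 = N4838 := ded_54_1 (flp_i L41666) (flp_h L28951) (flp_i L28848) L41503 L59862
theorem L59871 : sm gj N4819 = N6980 := rfl
theorem L59873 : sm ga N6980 = N4826 := ded_16_1 (flp_j L41569) (flp_a L41512) L59871
theorem L59875 : sm gb N6980 = N6980 := ded_24_1 (flp_j L59871) L41514 L59871
theorem L59876 : sm gc N6980 = N5302 := ded_31_1 (flp_j L45718) (flp_c L41515) L59871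
theorem L59878 : sm ge N6980 = N4864 := ded_42_1 (flp_j L41870) (flp_e L41517) L59871
theorem L59880 : sm gh N6980 = N6980 := ded_52_2 (flp_j L59871) L41519 L59871
theorem L59881 : sm gi N6980 = N4839 := ded_53_2 (flp_j L41674) (flp_i L41520) L59871
theorem L59883 : sm gg N6980 = N6980 := ded_49_1 (flp_j L59871) (flp_g L41510) L28857 L41510 L59871
theorem L59884 : sm ge N4820 = N6981 := rfl
theorem L59886 : sm gc N6981 = N4822 := ded_28_1 (flp_e L41536) (flp_c L41524) L59884
theorem L59888 : sm gj N6981 = N6981 := ded_42_2 (flp_e L59884) L41528 L59884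
theorem L59889 : sm gi N6981 = N4840 := ded_44_2 (flp_e L41686) (flp_i L41529) L59884
theorem L59891 : sm gg N4820 = N6982 := rfl
theorem L59893 : sm gc N6982 = N4823 := ded_30_1 (flp_g L41545) (flp_c L41524) L59891
theorem L59895 : sm gd N6982 = N5304 := ded_36_1 (flp_g L45738) (flp_d L41526) L59891
theorem L59897 : sm gi N6982 = N4841 := ded_51_2 (flp_g L41691) (flp_i L41529) L59891
theorem L59899 : sm gh N4820 = N6983 := rfl
theorem L59901 : sm gc N6983 = N4824 := ded_32_1 (flp_h L41553) (flp_c L41524) L59899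
theorem L59903 : sm gf N6983 = N4821 := ded_47_1 (flp_h L41531) L41522 L59899
theorem L59905 : sm gj N6983 = N6983 := ded_52_1 (flp_h L59899) L41528 L59899
theorem L59906 : sm gd N4821 = N6984 := rfl
theorem L59908 : sm gj N6984 = N6984 := ded_37_2 (flp_d L59906) L41535 L59906
theorem L59909 : sm gc N6984 = N6984 := ded_27_1 (flp_d L59906) L41533 L28884 (flp_c L41533) L59906
theorem L59910 : sm gh N6984 = N5306 := ded_38_2 (flp_d L45751) (flp_h L31741) (flp_d L28868) L41531 L59906
theorem L59912 : sm gi N4821 = N6985 := rfl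
theorem L59914 : sm gc N6985 = N4825 := ded_33_1 (flp_i L41561) (flp_c L41533) L59912
theorem L59916 : sm gj N6985 = N6985 := ded_53_1 (flp_i L59912) L41535 L59912
theorem L59917 : sm gh N6985 = N4844 := ded_54_1 (flp_i L41711) (flp_h L28977) (flp_i L28866) L41531 L59912
theorem L59919 : sm gg N4822 = N6986 := rfl
theorem L59921 : sm gb N6986 = N4827 := ded_23_1 (flp_g L41581) (flp_b L41538) L59919
theorem L59923 : sm gd N6986 = N4870 := ded_36_1 (flp_g L41925) (flp_d L41543) L59919
theorem L59925 : sm ge N6986 = N4823 := ded_41_1 (flp_g L41545) L41536 L59919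
theorem L59927 : sm gi N6986 = N4845 := ded_51_2 (flp_g L41716) (flp_i L41541) L59919
theorem L59929 : sm gh N4822 = N6987 := rfl
theorem L59931 : sm gb N6987 = N4828 := ded_25_1 (flp_h L41590) (flp_b L41538) L59929
theorem L59933 : sm ge N6987 = N4824 := ded_43_1 (flp_h L41553) L41536 L59929
theorem L59935 : sm gj N6987 = N6987 := ded_52_1 (flp_h L59929) L41540 L59929
theorem L59936 : sm gj N4823 = N6988 := rfl
theorem L59938 : sm gb N6988 = N4829 := ded_24_1 (flp_j L41596) (flp_b L41547) L59936
theorem L59940 : sm gd N6988 = N4826 := ded_37_1 (flp_j L41569) (flp_d L41549) L59936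
theorem L59942 : sm gi N6988 = N4847 := ded_53_2 (flp_j L41731) (flp_i L41551) L59936
theorem L59944 : sm gg N6988 = N6988 := ded_49_1 (flp_j L59936) (flp_g L41545) L28876 L41545 L59936
theorem L59945 : sm gh N4823 = N6989 := rfl
theorem L59947 : sm gb N6989 = N4830 := ded_25_1 (flp_h L41604) (flp_b L41547) L59945
theorem L59949 : sm gg N6989 = N4824 := ded_50_1 (flp_h L41553) L41545 L59945
theorem L59951 : sm gd N6989 = N6989 := ded_38_1 (flp_h L59945) L41549 L28893 (flp_d L41549) L59945
theorem L59952 : sm gi N4824 = N6990 := rfl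
theorem L59954 : sm gb N6990 = N4831 := ded_26_1 (flp_i L41610) (flp_b L41555) L59952
theorem L59956 : sm gd N6990 = N6990 := ded_39_1 (flp_i L59952) L41560 L59952
theorem L59957 : sm gf N6990 = N4825 := ded_48_1 (flp_i L41561) (flp_f L41557) L59952
theorem L59959 : sm gj N6990 = N6990 := ded_53_1 (flp_i L59952) L41559 L59952
theorem L59960 : sm gh N6990 = N4849 := ded_54_1 (flp_i L41746) (flp_h L28995) (flp_i L28877) L41553 L59952
theorem L59962 : sm gf N4827 = N6991 := rfl
theorem L59964 : sm ga N6991 = N6991 := ded_14_1 (flp_f L59962) L41583 L59962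
theorem L59965 : sm gd N6991 = N4875 := ded_35_1 (flp_f L41968) (flp_d L41584) L59962
theorem L59967 : sm gi N6991 = N4850 := ded_48_2 (flp_f L41755) (flp_i L41588) L59962
theorem L59969 : sm gj N4827 = N6992 := rfl
theorem L59971 : sm ga N6992 = N6992 := ded_16_1 (flp_j L59969) L41583 L59969
theorem L59972 : sm gd N6992 = N4876 := ded_37_1 (flp_j L41975) (flp_d L41584) L59969
theorem L59974 : sm ge N6992 = N4829 := ded_42_1 (flp_j L41596) (flp_e L41586) L59969
theorem L59976 : sm gi N6992 = N4851 := ded_53_2 (flp_j L41760) (flp_i L41588) L59969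
theorem L59978 : sm gg N6992 = N6992 := ded_49_1 (flp_j L59969) (flp_g L41581) L28899 L41581 L59969
theorem L59979 : sm gh N4827 = N6993 := rfl
theorem L59981 : sm ga N6993 = N6993 := ded_17_1 (flp_h L59979) L41583 L59979
theorem L59982 : sm ge N6993 = N4830 := ded_43_1 (flp_h L41604) (flp_e L41586) L59979
theorem L59984 : sm gg N6993 = N4828 := ded_50_1 (flp_h L41590) L41581 L59979
theorem L59986 : sm gd N4828 = N6994 := rfl
theorem L59988 : sm ga N6994 = N6994 := ded_12_1 (flp_d L59986) L41592 L59986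
theorem L59989 : sm gj N6994 = N6994 := ded_37_2 (flp_d L59986) L41595 L59986
theorem L59990 : sm ge N6994 = N6994 := ded_34_2 (flp_d L59986) L41593 L28917 (flp_e L41593) L59986
theorem L59991 : sm gh N6994 = N4878 := ded_38_2 (flp_d L41992) (flp_h L29164) (flp_d L28902) L41590 L59986
theorem L59993 : sm gi N4828 = N6995 := rfl
theorem L59995 : sm ga N6995 = N6995 := ded_18_1 (flp_i L59993) L41592 L59993
theorem L59996 : sm ge N6995 = N4831 := ded_44_1 (flp_i L41610) (flp_e L41593) L59993
theorem L59998 : sm gj N6995 = N6995 := ded_53_1 (flp_i L59993) L41595 L59993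
theorem L59999 : sm gh N6995 = N4854 := ded_54_1 (flp_i L41783) (flp_h L29029) (flp_i L28900) L41590 L59993
theorem L60001 : sm gh N4829 = N6996 := rfl
theorem L60003 : sm ga N6996 = N6996 := ded_17_1 (flp_h L60001) L41598 L60001
theorem L60004 : sm gg N6996 = N6996 := ded_50_1 (flp_h L60001) L41603 L60001
theorem L60005 : sm gj N6996 = N4830 := ded_52_1 (flp_h L41604) L41596 L60001
theorem L60007 : sm gd N6996 = N6996 := ded_38_1 (flp_h L60001) L41599 L28932 (flp_d L41599) L60001
theorem L60008 : sm gi N4830 = N6997 := rfl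
theorem L60010 : sm ga N6997 = N6997 := ded_18_1 (flp_i L60008) L41606 L60008
theorem L60011 : sm gd N6997 = N6997 := ded_39_1 (flp_i L60008) L41609 L60008
theorem L60012 : sm gg N6997 = N4831 := ded_51_1 (flp_i L41610) (flp_g L41607) L60008
theorem L60014 : sm gh N6997 = N4856 := ded_54_1 (flp_i L41797) (flp_h L29041) (flp_i L28909) L41604 L60008
theorem L60016 : sm gf N4832 = N6998 := rfl
theorem L60018 : sm gb N6998 = N4833 := ded_22_1 (flp_f L41625) L41619 L60016
theorem L60020 : sm gc N6998 = N6998 := ded_29_1 (flp_f L60016) L41624 L60016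
theorem L60021 : sm gd N6998 = N5320 := ded_35_1 (flp_f L45871) (flp_d L41621) L60016
theorem L60023 : sm gj N6998 = N6998 := ded_46_2 (flp_f L60016) L41623 L60016
theorem L60024 : sm gh N4832 = N6999 := rfl
theorem L60026 : sm gb N6999 = N4834 := ded_25_1 (flp_h L41634) L41619 L60024
theorem L60030 : sm ge N4833 = N7000 := rfl
theorem L60032 : sm ga N7000 = N4840 := ded_13_1 (flp_e L41686) (flp_a L41627) L60030
theorem L60034 : sm gc N7000 = N4835 := ded_28_1 (flp_e L41641) (flp_c L41629) L60030
theorem L60036 : sm gj N7000 = N7000 := ded_42_2 (flp_e L60030) L41633 L60030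
theorem L60037 : sm gg N4833 = N7001 := rfl
theorem L60039 : sm ga N7001 = N4841 := ded_15_1 (flp_g L41691) (flp_a L41627) L60037
theorem L60041 : sm gc N7001 = N4836 := ded_30_1 (flp_g L41649) (flp_c L41629) L60037
theorem L60043 : sm gd N7001 = N5323 := ded_36_1 (flp_g L45894) (flp_d L41631) L60037
theorem L60045 : sm gh N4833 = N7002 := rfl
theorem L60047 : sm ga N7002 = N4842 := ded_17_1 (flp_h L41697) (flp_a L41627) L60045
theorem L60049 : sm gc N7002 = N4837 := ded_32_1 (flp_h L41656) (flp_c L41629) L60045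
theorem L60051 : sm gf N7002 = N4834 := ded_47_1 (flp_h L41634) L41625 L60045
theorem L60053 : sm gj N7002 = N7002 := ded_52_1 (flp_h L60045) L41633 L60045
theorem L60054 : sm gd N4834 = N7003 := rfl
theorem L60056 : sm ga N7003 = N4843 := ded_12_1 (flp_d L41704) (flp_a L41636) L60054
theorem L60059 : sm gc N7003 = N4960 := ded_27_1 (flp_d L42686) L29647 (flp_d L28957) (flp_c L41638) L60054
theorem L60061 : sm gh N7003 = N5325 := ded_38_2 (flp_d L45909) (flp_h L31849) (flp_d L28941) L41634 L60054
theorem L60063 : sm gi N4834 = N7004 := rfl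
theorem L60065 : sm ga N7004 = N4844 := ded_18_1 (flp_i L41711) (flp_a L41636) L60063
theorem L60067 : sm gc N7004 = N4838 := ded_33_1 (flp_i L41666) (flp_c L41638) L60063
theorem L60069 : sm gj N7004 = N7004 := ded_53_1 (flp_i L60063) L41640 L60063
theorem L60070 : sm gg N4835 = N7005 := rfl
theorem L60072 : sm ga N7005 = N4845 := ded_15_1 (flp_g L41716) (flp_a L41643) L60070
theorem L60074 : sm gb N7005 = N7005 := ded_23_1 (flp_g L60070) L41645 L60070
theorem L60075 : sm gd N7005 = N4888 := ded_36_1 (flp_g L42078) (flp_d L41647) L60070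
theorem L60077 : sm ge N7005 = N4836 := ded_41_1 (flp_g L41649) L41641 L60070
theorem L60079 : sm gh N4835 = N7006 := rfl
theorem L60081 : sm ga N7006 = N4846 := ded_17_1 (flp_h L41724) (flp_a L41643) L60079
theorem L60083 : sm gb N7006 = N7006 := ded_25_1 (flp_h L60079) L41645 L60079
theorem L60084 : sm ge N7006 = N4837 := ded_43_1 (flp_h L41656) L41641 L60079
theorem L60086 : sm gj N7006 = N7006 := ded_52_1 (flp_h L60079) L41646 L60079
theorem L60087 : sm gj N4836 = N7007 := rfl
theorem L60089 : sm ga N7007 = N4847 := ded_16_1 (flp_j L41731) (flp_a L41651) L60087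
theorem L60091 : sm gb N7007 = N7007 := ded_24_1 (flp_j L60087) L41653 L60087
theorem L60092 : sm gd N7007 = N4839 := ded_37_1 (flp_j L41674) (flp_d L41654) L60087
theorem L60094 : sm gg N7007 = N7007 := ded_49_1 (flp_j L60087) (flp_g L41649) L28950 L41649 L60087
theorem L60095 : sm gh N4836 = N7008 := rfl
theorem L60097 : sm ga N7008 = N4848 := ded_17_1 (flp_h L41738) (flp_a L41651) L60095
theorem L60099 : sm gb N7008 = N7008 := ded_25_1 (flp_h L60095) L41653 L60095
theorem L60100 : sm gg N7008 = N4837 := ded_50_1 (flp_h L41656) L41649 L60095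
theorem L60102 : sm gd N7008 = N4965 := ded_38_1 (flp_h L42730) L29666 (flp_h L28968) (flp_d L41654) L60095
theorem L60104 : sm gi N4837 = N7009 := rfl
theorem L60106 : sm ga N7009 = N4849 := ded_18_1 (flp_i L41746) (flp_a L41658) L60104
theorem L60108 : sm gb N7009 = N7009 := ded_26_1 (flp_i L60104) L41660 L60104
theorem L60109 : sm gd N7009 = N4966 := ded_39_1 (flp_i L42737) (flp_d L41664) L60104
theorem L60111 : sm gf N7009 = N4838 := ded_48_1 (flp_i L41666) (flp_f L41661) L60104
theorem L60113 : sm gj N7009 = N7009 := ded_53_1 (flp_i L60104) L41663 L60104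
theorem L60114 : sm gd N4840 = N7010 := rfl
theorem L60116 : sm gj N7010 = N7010 := ded_37_2 (flp_d L60114) L41690 L60114
theorem L60117 : sm gc N7010 = N4893 := ded_27_1 (flp_d L42122) L29272 (flp_d L28987) (flp_c L41688) L60114
theorem L60119 : sm ge N7010 = N5332 := ded_34_2 (flp_d L45975) (flp_e L31907) (flp_d L28974) L41686 L60114
theorem L60121 : sm gg N4840 = N7011 := rfl
theorem L60123 : sm gc N7011 = N4845 := ded_30_1 (flp_g L41716) (flp_c L41688) L60121
theorem L60125 : sm ge N7011 = N4841 := ded_41_1 (flp_g L41691) L41686 L60121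
theorem L60127 : sm gh N4840 = N7012 := rfl
theorem L60129 : sm gc N7012 = N4846 := ded_32_1 (flp_h L41724) (flp_c L41688) L60127
theorem L60131 : sm ge N7012 = N4842 := ded_43_1 (flp_h L41697) L41686 L60127
theorem L60133 : sm gj N7012 = N7012 := ded_52_1 (flp_h L60127) L41690 L60127
theorem L60134 : sm gj N4841 = N7013 := rfl
theorem L60136 : sm gc N7013 = N4847 := ded_31_1 (flp_j L41731) (flp_c L41693) L60134
theorem L60138 : sm gd N7013 = N5335 := ded_37_1 (flp_j L45995) (flp_d L41695) L60134
theorem L60140 : sm gg N7013 = N7013 := ded_49_1 (flp_j L60134) (flp_g L41691) L28976 L41691 L60134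
theorem L60141 : sm gh N4841 = N7014 := rfl
theorem L60143 : sm gc N7014 = N4848 := ded_32_1 (flp_h L41738) (flp_c L41693) L60141
theorem L60145 : sm gg N7014 = N4842 := ded_50_1 (flp_h L41697) L41691 L60141
theorem L60147 : sm gd N4842 = N7015 := rfl
theorem L60149 : sm gf N7015 = N4843 := ded_35_2 (flp_d L41704) (flp_f L41701) L60147
theorem L60151 : sm gj N7015 = N7015 := ded_37_2 (flp_d L60147) L41703 L60147
theorem L60152 : sm gc N7015 = N4971 := ded_27_1 (flp_d L42780) L29716 (flp_d L29002) (flp_c L41699) L60147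
theorem L60154 : sm gh N7015 = N5337 := ded_38_2 (flp_d L46006) (flp_h L31917) (flp_d L28974) L41697 L60147
theorem L60156 : sm gi N4842 = N7016 := rfl
theorem L60158 : sm gc N7016 = N4849 := ded_33_1 (flp_i L41746) (flp_c L41699) L60156
theorem L60160 : sm gf N7016 = N4844 := ded_48_1 (flp_i L41711) (flp_f L41701) L60156
theorem L60162 : sm gj N7016 = N7016 := ded_53_1 (flp_i L60156) L41703 L60156
theorem L60163 : sm ge N4843 = N7017 := rfl
theorem L60165 : sm gc N7017 = N4973 := ded_28_1 (flp_e L42797) (flp_c L41707) L60163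
theorem L60167 : sm gj N7017 = N7017 := ded_42_2 (flp_e L60163) L41706 L60163
theorem L60168 : sm gh N7017 = N5339 := ded_43_2 (flp_e L46020) (flp_h L41709) L60163
theorem L60170 : sm gi N4843 = N7018 := rfl
theorem L60172 : sm gc N7018 = N4974 := ded_33_1 (flp_i L42804) (flp_c L41707) L60170
theorem L60174 : sm gd N7018 = N4844 := ded_39_1 (flp_i L41711) L41704 L60170
theorem L60176 : sm gj N7018 = N7018 := ded_53_1 (flp_i L60170) L41706 L60170
theorem L60177 : sm gf N4845 = N7019 := rfl
theorem L60179 : sm gb N7019 = N4850 := ded_22_1 (flp_f L41755) (flp_b L41718) L60177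
theorem L60181 : sm gd N7019 = N4899 := ded_35_1 (flp_f L42170) (flp_d L41720) L60177
theorem L60183 : sm gj N4845 = N7020 := rfl
theorem L60185 : sm gb N7020 = N4851 := ded_24_1 (flp_j L41760) (flp_b L41718) L60183
theorem L60187 : sm gd N7020 = N4900 := ded_37_1 (flp_j L42175) (flp_d L41720) L60183
theorem L60189 : sm ge N7020 = N4847 := ded_42_1 (flp_j L41731) (flp_e L41722) L60183
theorem L60191 : sm gg N7020 = N7020 := ded_49_1 (flp_j L60183) (flp_g L41716) L28986 L41716 L60183
theorem L60192 : sm gh N4845 = N7021 := rfl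
theorem L60194 : sm gb N7021 = N4852 := ded_25_1 (flp_h L41768) (flp_b L41718) L60192
theorem L60196 : sm ge N7021 = N4848 := ded_43_1 (flp_h L41738) (flp_e L41722) L60192
theorem L60198 : sm gg N7021 = N4846 := ded_50_1 (flp_h L41724) L41716 L60192
theorem L60200 : sm gd N4846 = N7022 := rfl
theorem L60202 : sm gb N7022 = N4853 := ded_20_1 (flp_d L41775) (flp_b L41726) L60200
theorem L60204 : sm gj N7022 = N7022 := ded_37_2 (flp_d L60200) L41730 L60200
theorem L60205 : sm ge N7022 = N4978 := ded_34_2 (flp_d L42836) L29748 (flp_d L29002) (flp_e L41728) L60200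
theorem L60207 : sm gh N7022 = N4902 := ded_38_2 (flp_d L42190) (flp_h L29306) (flp_d L28987) L41724 L60200
theorem L60209 : sm gi N4846 = N7023 := rfl
theorem L60211 : sm gb N7023 = N4854 := ded_26_1 (flp_i L41783) (flp_b L41726) L60209
theorem L60213 : sm ge N7023 = N4849 := ded_44_1 (flp_i L41746) (flp_e L41728) L60209
theorem L60215 : sm gj N7023 = N7023 := ded_53_1 (flp_i L60209) L41730 L60209
theorem L60216 : sm gh N4847 = N7024 := rfl
theorem L60218 : sm gb N7024 = N4855 := ded_25_1 (flp_h L41789) (flp_b L41733) L60216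
theorem L60220 : sm gg N7024 = N7024 := ded_50_1 (flp_h L60216) L41737 L60216
theorem L60221 : sm gj N7024 = N4848 := ded_52_1 (flp_h L41738) L41731 L60216
theorem L60223 : sm gd N7024 = N4980 := ded_38_1 (flp_h L42853) L29756 (flp_h L29019) (flp_d L41735) L60216
theorem L60225 : sm gi N4848 = N7025 := rfl
theorem L60227 : sm gb N7025 = N4856 := ded_26_1 (flp_i L41797) (flp_b L41740) L60225
theorem L60229 : sm gd N7025 = N4981 := ded_39_1 (flp_i L42860) (flp_d L41744) L60225
theorem L60231 : sm gg N7025 = N4849 := ded_51_1 (flp_i L41746) (flp_g L41742) L60225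
theorem L60233 : sm gj N4850 = N7026 := rfl
theorem L60235 : sm ga N7026 = N7026 := ded_16_1 (flp_j L60233) L41757 L60233
theorem L60236 : sm gd N7026 = N4906 := ded_37_1 (flp_j L42223) (flp_d L41758) L60233
theorem L60238 : sm gf N7026 = N4851 := ded_46_1 (flp_j L41760) L41755 L60233
theorem L60240 : sm gh N4850 = N7027 := rfl
theorem L60242 : sm ga N7027 = N7027 := ded_17_1 (flp_h L60240) L41757 L60240
theorem L60243 : sm gf N7027 = N4852 := ded_47_1 (flp_h L41768) L41755 L60240
theorem L60245 : sm gh N4851 = N7028 := rfl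
theorem L60247 : sm ga N7028 = N7028 := ded_17_1 (flp_h L60245) L41762 L60245
theorem L60248 : sm ge N7028 = N4855 := ded_43_1 (flp_h L41789) (flp_e L41765) L60245
theorem L60250 : sm gg N7028 = N7028 := ded_50_1 (flp_h L60245) L41767 L60245
theorem L60251 : sm gj N7028 = N4852 := ded_52_1 (flp_h L41768) L41760 L60245
theorem L60253 : sm gd N4852 = N7029 := rfl
theorem L60255 : sm ga N7029 = N7029 := ded_12_1 (flp_d L60253) L41770 L60253
theorem L60256 : sm gg N7029 = N4853 := ded_36_2 (flp_d L41775) (flp_g L41773) L60253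
theorem L60258 : sm ge N7029 = N4985 := ded_34_2 (flp_d L42892) L29796 (flp_d L29046) (flp_e L41771) L60253
theorem L60260 : sm gh N7029 = N4909 := ded_38_2 (flp_d L42246) (flp_h L29351) (flp_d L29025) L41768 L60253
theorem L60262 : sm gi N4852 = N7030 := rfl
theorem L60264 : sm ga N7030 = N7030 := ded_18_1 (flp_i L60262) L41770 L60262
theorem L60265 : sm ge N7030 = N4856 := ded_44_1 (flp_i L41797) (flp_e L41771) L60262
theorem L60267 : sm gg N7030 = N4854 := ded_51_1 (flp_i L41783) (flp_g L41773) L60262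
theorem L60269 : sm gc N4853 = N7031 := rfl
theorem L60271 : sm ga N7031 = N7031 := ded_11_1 (flp_c L60269) L41777 L60269
theorem L60272 : sm ge N7031 = N4987 := ded_28_2 (flp_c L42908) (flp_e L41779) L60269
theorem L60274 : sm gj N7031 = N7031 := ded_31_2 (flp_c L60269) L41778 L60269
theorem L60275 : sm gh N7031 = N4911 := ded_32_2 (flp_c L42261) (flp_h L41781) L60269
theorem L60277 : sm gi N4853 = N7032 := rfl
theorem L60279 : sm ga N7032 = N7032 := ded_18_1 (flp_i L60277) L41777 L60277
theorem L60280 : sm gd N7032 = N4854 := ded_39_1 (flp_i L41783) L41775 L60277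
theorem L60282 : sm ge N7032 = N4988 := ded_44_1 (flp_i L42916) (flp_e L41779) L60277
theorem L60284 : sm gj N7032 = N7032 := ded_53_1 (flp_i L60277) L41778 L60277
theorem L60285 : sm gi N4855 = N7033 := rfl
theorem L60287 : sm ga N7033 = N7033 := ded_18_1 (flp_i L60285) L41791 L60285
theorem L60288 : sm gd N7033 = N4989 := ded_39_1 (flp_i L42923) (flp_d L41795) L60285
theorem L60290 : sm gg N7033 = N7033 := ded_51_1 (flp_i L60285) L41792 L60285
theorem L60291 : sm gj N7033 = N4856 := ded_53_1 (flp_i L41797) (flp_j L41793) L60285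
theorem L60293 : sm gf N4857 = N7034 := rfl
theorem L60296 : sm gb N7034 = N4858 := ded_22_1 (flp_f L41814) L41804 L60293
theorem L60299 : sm gd N7034 = N5352 := ded_35_1 (flp_f L46128) (flp_d L41806) L60293
theorem L60302 : sm gi N7034 = N4882 := ded_48_2 (flp_f L42025) (flp_i L41810) L60293
theorem L60312 : sm ge N4858 = N7036 := rfl
theorem L60314 : sm ga N7036 = N4865 := ded_13_1 (flp_e L41882) (flp_a L41816) L60312
theorem L60316 : sm gc N7036 = N4860 := ded_28_1 (flp_e L41833) (flp_c L41818) L60312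
theorem L60319 : sm gi N7036 = N4884 := ded_44_2 (flp_e L42043) (flp_i L41823) L60312
theorem L60321 : sm gg N4858 = N7037 := rfl
theorem L60323 : sm ga N7037 = N4866 := ded_15_1 (flp_g L41890) (flp_a L41816) L60321
theorem L60325 : sm gc N7037 = N4861 := ded_30_1 (flp_g L41841) (flp_c L41818) L60321
theorem L60327 : sm gd N7037 = N5355 := ded_36_1 (flp_g L46159) (flp_d L41820) L60321
theorem L60332 : sm gh N4858 = N7038 := rfl
theorem L60338 : sm gf N7038 = N4859 := ded_47_1 (flp_h L41825) L41814 L60332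
theorem L60341 : sm gd N4859 = N7039 := rfl
theorem L60343 : sm ga N7039 = N4868 := ded_12_1 (flp_d L41908) (flp_a L41827) L60341
theorem L60348 : sm gh N7039 = N5357 := ded_38_2 (flp_d L46178) (flp_h L32046) (flp_d L29064) L41825 L60341
theorem L60350 : sm gi N4859 = N7040 := rfl
theorem L60360 : sm gg N4860 = N7041 := rfl
theorem L60362 : sm ga N7041 = N4870 := ded_15_1 (flp_g L41925) (flp_a L41835) L60360
theorem L60364 : sm gb N7041 = N7041 := ded_23_1 (flp_g L60360) L41837 L60360
theorem L60365 : sm ge N7041 = N4861 := ded_41_1 (flp_g L41841) L41833 L60360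
theorem L60367 : sm gi N7041 = N4888 := ded_51_2 (flp_g L42078) (flp_i L41839) L60360
theorem L60369 : sm gh N4860 = N7042 := rfl
theorem L60371 : sm ga N7042 = N4871 := ded_17_1 (flp_h L41933) (flp_a L41835) L60369
theorem L60377 : sm gj N4861 = N7043 := rfl
theorem L60379 : sm ga N7043 = N4872 := ded_16_1 (flp_j L41940) (flp_a L41843) L60377
theorem L60381 : sm gb N7043 = N7043 := ded_24_1 (flp_j L60377) L41845 L60377
theorem L60382 : sm gd N7043 = N4864 := ded_37_1 (flp_j L41870) (flp_d L41846) L60377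
theorem L60384 : sm gf N7043 = N7043 := ded_46_1 (flp_j L60377) L41850 L60377
theorem L60385 : sm gi N7043 = N4890 := ded_53_2 (flp_j L42093) (flp_i L41848) L60377
theorem L60387 : sm gg N7043 = N7043 := ded_49_1 (flp_j L60377) (flp_g L41841) L29073 L41841 L60377
theorem L60388 : sm gh N4861 = N7044 := rfl
theorem L60394 : sm gg N7044 = N4862 := ded_50_1 (flp_h L41851) L41841 L60388
theorem L60397 : sm gi N4862 = N7045 := rfl
theorem L60408 : sm gd N4865 = N7046 := rfl
theorem L60410 : sm gb N7046 = N7046 := ded_20_1 (flp_d L60408) L41884 L60408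
theorem L60411 : sm gj N7046 = N7046 := ded_37_2 (flp_d L60408) L41887 L60408
theorem L60412 : sm gi N7046 = N4893 := ded_39_2 (flp_d L42122) (flp_i L41888) L60408
theorem L60414 : sm ge N7046 = N5362 := ded_34_2 (flp_d L46230) (flp_e L32099) (flp_d L29100) L41882 L60408
theorem L60416 : sm gg N4865 = N7047 := rfl
theorem L60418 : sm gb N7047 = N7047 := ded_23_1 (flp_g L60416) L41884 L60416
theorem L60419 : sm gc N7047 = N4870 := ded_30_1 (flp_g L41925) (flp_c L41885) L60416
theorem L60421 : sm ge N7047 = N4866 := ded_41_1 (flp_g L41890) L41882 L60416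
theorem L60423 : sm gi N7047 = N4894 := ded_51_2 (flp_g L42128) (flp_i L41888) L60416
theorem L60425 : sm gh N4865 = N7048 := rfl
theorem L60428 : sm gc N7048 = N4871 := ded_32_1 (flp_h L41933) (flp_c L41885) L60425
theorem L60430 : sm ge N7048 = N4867 := ded_43_1 (flp_h L41900) L41882 L60425
theorem L60433 : sm gj N4866 = N7049 := rfl
theorem L60435 : sm gb N7049 = N7049 := ded_24_1 (flp_j L60433) L41892 L60433
theorem L60436 : sm gc N7049 = N4872 := ded_31_1 (flp_j L41940) (flp_c L41893) L60433
theorem L60438 : sm gd N7049 = N5365 := ded_37_1 (flp_j L46256) (flp_d L41895) L60433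
theorem L60440 : sm gf N7049 = N7049 := ded_46_1 (flp_j L60433) L41899 L60433
theorem L60441 : sm gi N7049 = N4896 := ded_53_2 (flp_j L42143) (flp_i L41897) L60433
theorem L60443 : sm gg N7049 = N7049 := ded_49_1 (flp_j L60433) (flp_g L41890) L29102 L41890 L60433
theorem L60444 : sm gh N4866 = N7050 := rfl
theorem L60450 : sm gg N7050 = N4867 := ded_50_1 (flp_h L41900) L41890 L60444
theorem L60452 : sm gd N4867 = N7051 := rfl
theorem L60459 : sm gh N7051 = N5367 := ded_38_2 (flp_d L46274) (flp_h L32116) (flp_d L29100) L41900 L60452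
theorem L60471 : sm ge N4868 = N7053 := rfl
theorem L60477 : sm gh N7053 = N5368 := ded_43_2 (flp_e L46282) (flp_h L41914) L60471
theorem L60488 : sm gf N4870 = N7055 := rfl
theorem L60490 : sm gb N7055 = N4875 := ded_22_1 (flp_f L41968) (flp_b L41927) L60488
theorem L60492 : sm gi N7055 = N4899 := ded_48_2 (flp_f L42170) (flp_i L41931) L60488
theorem L60494 : sm ge N7055 = N7055 := ded_40_1 (flp_f L60488) L41929 L29127 (flp_e L41929) L60488
theorem L60495 : sm gj N4870 = N7056 := rfl
theorem L60497 : sm gb N7056 = N4876 := ded_24_1 (flp_j L41975) (flp_b L41927) L60495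
theorem L60499 : sm ge N7056 = N4872 := ded_42_1 (flp_j L41940) (flp_e L41929) L60495
theorem L60501 : sm gi N7056 = N4900 := ded_53_2 (flp_j L42175) (flp_i L41931) L60495
theorem L60503 : sm gg N7056 = N7056 := ded_49_1 (flp_j L60495) (flp_g L41925) L29116 L41925 L60495
theorem L60504 : sm gh N4870 = N7057 := rfl
theorem L60506 : sm gb N7057 = N4877 := ded_25_1 (flp_h L41984) (flp_b L41927) L60504
theorem L60508 : sm ge N7057 = N4873 := ded_43_1 (flp_h L41950) (flp_e L41929) L60504
theorem L60510 : sm gg N7057 = N4871 := ded_50_1 (flp_h L41933) L41925 L60504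
theorem L60512 : sm gd N4871 = N7058 := rfl
theorem L60514 : sm gb N7058 = N4878 := ded_20_1 (flp_d L41992) (flp_b L41935) L60512
theorem L60516 : sm gj N7058 = N7058 := ded_37_2 (flp_d L60512) L41939 L60512
theorem L60517 : sm ge N7058 = N7058 := ded_34_2 (flp_d L60512) L41937 L29135 (flp_e L41937) L60512
theorem L60518 : sm gi N4871 = N7059 := rfl
theorem L60525 : sm gh N7059 = N4903 := ded_54_1 (flp_i L42197) (flp_h L29306) (flp_i L29117) L41933 L60518
theorem L60527 : sm gh N4872 = N7060 := rfl
theorem L60529 : sm gb N7060 = N4880 := ded_25_1 (flp_h L42006) (flp_b L41942) L60527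
theorem L60531 : sm gf N7060 = N7060 := ded_47_1 (flp_h L60527) L41946 L60527
theorem L60532 : sm gg N7060 = N7060 := ded_50_1 (flp_h L60527) L41949 L60527
theorem L60533 : sm gj N7060 = N4873 := ded_52_1 (flp_h L41950) L41940 L60527
theorem L60535 : sm gd N7060 = N7060 := ded_38_1 (flp_h L60527) L41944 L29152 (flp_d L41944) L60527
theorem L60536 : sm gi N4873 = N7061 := rfl
theorem L60538 : sm gb N7061 = N4881 := ded_26_1 (flp_i L42015) (flp_b L41952) L60536
theorem L60544 : sm gh N7061 = N4905 := ded_54_1 (flp_i L42214) (flp_h L29321) (flp_i L29125) L41950 L60536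
theorem L60546 : sm gj N4875 = N7062 := rfl
theorem L60548 : sm ga N7062 = N7062 := ded_16_1 (flp_j L60546) L41970 L60546
theorem L60549 : sm gc N7062 = N7062 := ded_31_1 (flp_j L60546) L41971 L60546
theorem L60550 : sm ge N7062 = N7062 := ded_42_1 (flp_j L60546) L41974 L60546
theorem L60551 : sm gf N7062 = N4876 := ded_46_1 (flp_j L41975) L41968 L60546
theorem L60553 : sm gi N7062 = N4906 := ded_53_2 (flp_j L42223) (flp_i L41972) L60546
theorem L60555 : sm gh N4875 = N7063 := rfl
theorem L60557 : sm ga N7063 = N7063 := ded_17_1 (flp_h L60555) L41970 L60555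
theorem L60558 : sm gc N7063 = N7063 := ded_32_1 (flp_h L60555) L41971 L60555
theorem L60559 : sm ge N7063 = N7063 := ded_43_1 (flp_h L60555) L41974 L60555
theorem L60560 : sm gf N7063 = N4877 := ded_47_1 (flp_h L41984) L41968 L60555
theorem L60562 : sm gh N4876 = N7064 := rfl
theorem L60564 : sm ga N7064 = N7064 := ded_17_1 (flp_h L60562) L41977 L60562
theorem L60565 : sm gc N7064 = N7064 := ded_32_1 (flp_h L60562) L41978 L60562
theorem L60566 : sm ge N7064 = N4880 := ded_43_1 (flp_h L42006) (flp_e L41979) L60562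
theorem L60568 : sm gg N7064 = N7064 := ded_50_1 (flp_h L60562) L41983 L60562
theorem L60569 : sm gj N7064 = N4877 := ded_52_1 (flp_h L41984) L41975 L60562
theorem L60571 : sm gd N4877 = N7065 := rfl
theorem L60573 : sm ga N7065 = N7065 := ded_12_1 (flp_d L60571) L41986 L60571
theorem L60574 : sm gg N7065 = N4878 := ded_36_2 (flp_d L41992) (flp_g L41990) L60571
theorem L60576 : sm ge N7065 = N7065 := ded_34_2 (flp_d L60571) L41988 L29188 (flp_e L41988) L60571
theorem L60577 : sm gi N4877 = N7066 := rfl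
theorem L60579 : sm ga N7066 = N7066 := ded_18_1 (flp_i L60577) L41986 L60577
theorem L60580 : sm gc N7066 = N7066 := ded_33_1 (flp_i L60577) L41987 L60577
theorem L60581 : sm ge N7066 = N4881 := ded_44_1 (flp_i L42015) (flp_e L41988) L60577
theorem L60583 : sm gg N7066 = N4879 := ded_51_1 (flp_i L41997) (flp_g L41990) L60577
theorem L60585 : sm gh N7066 = N4910 := ded_54_1 (flp_i L42253) (flp_h L29351) (flp_i L29162) L41984 L60577
theorem L60587 : sm gc N4878 = N7067 := rfl
theorem L60589 : sm ga N7067 = N7067 := ded_11_1 (flp_c L60587) L41994 L60587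
theorem L60590 : sm ge N7067 = N7067 := ded_28_2 (flp_c L60587) L41996 L60587
theorem L60591 : sm gj N7067 = N7067 := ded_31_2 (flp_c L60587) L41995 L60587
theorem L60592 : sm gd N7067 = N7067 := ded_27_2 (flp_c L60587) (flp_d L41992) L29167 L41992 L60587
theorem L60593 : sm gi N4878 = N7068 := rfl
theorem L60595 : sm ga N7068 = N7068 := ded_18_1 (flp_i L60593) L41994 L60593
theorem L60596 : sm gd N7068 = N4879 := ded_39_1 (flp_i L41997) L41992 L60593
theorem L60598 : sm ge N7068 = N7068 := ded_44_1 (flp_i L60593) L41996 L60593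
theorem L60599 : sm gj N7068 = N7068 := ded_53_1 (flp_i L60593) L41995 L60593
theorem L60600 : sm gi N4880 = N7069 := rfl
theorem L60602 : sm ga N7069 = N7069 := ded_18_1 (flp_i L60600) L42008 L60600
theorem L60603 : sm gc N7069 = N7069 := ded_33_1 (flp_i L60600) L42009 L60600
theorem L60604 : sm gd N7069 = N7069 := ded_39_1 (flp_i L60600) L42014 L60600
theorem L60605 : sm gf N7069 = N7069 := ded_48_1 (flp_i L60600) L42010 L60600
theorem L60606 : sm gg N7069 = N7069 := ded_51_1 (flp_i L60600) L42011 L60600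
theorem L60607 : sm gj N7069 = N4881 := ded_53_1 (flp_i L42015) (flp_j L42012) L60600
theorem L60609 : sm gh N7069 = N4913 := ded_54_1 (flp_i L42276) (flp_h L29372) (flp_i L29178) L42006 L60600
theorem L60611 : sm ge N4882 = N7070 := rfl
theorem L60614 : sm gb N7070 = N4884 := ded_21_1 (flp_e L42043) (flp_b L42028) L60611
theorem L60618 : sm gg N4882 = N7071 := rfl
theorem L60621 : sm gb N7071 = N4885 := ded_23_1 (flp_g L42050) (flp_b L42028) L60618
theorem L60624 : sm gd N7071 = N5380 := ded_36_1 (flp_g L46392) (flp_d L42031) L60618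
theorem L60627 : sm gh N4882 = N7072 := rfl
theorem L60646 : sm gd N4884 = N7074 := rfl
theorem L60648 : sm ga N7074 = N4893 := ded_12_1 (flp_d L42122) (flp_a L42045) L60646
theorem L60650 : sm gj N7074 = N7074 := ded_37_2 (flp_d L60646) L42049 L60646
theorem L60651 : sm ge N7074 = N5381 := ded_34_2 (flp_d L46401) (flp_e L32225) (flp_d L29213) L42043 L60646
theorem L60653 : sm gg N4884 = N7075 := rfl
theorem L60655 : sm ga N7075 = N4894 := ded_15_1 (flp_g L42128) (flp_a L42045) L60653
theorem L60657 : sm gc N7075 = N4888 := ded_30_1 (flp_g L42078) (flp_c L42047) L60653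
theorem L60659 : sm ge N7075 = N4885 := ded_41_1 (flp_g L42050) L42043 L60653
theorem L60661 : sm gh N4884 = N7076 := rfl
theorem L60663 : sm ga N7076 = N4895 := ded_17_1 (flp_h L42135) (flp_a L42045) L60661
theorem L60665 : sm gc N7076 = N4889 := ded_32_1 (flp_h L42085) (flp_c L42047) L60661
theorem L60670 : sm gj N4885 = N7077 := rfl
theorem L60672 : sm ga N7077 = N4896 := ded_16_1 (flp_j L42143) (flp_a L42052) L60670
theorem L60674 : sm gc N7077 = N4890 := ded_31_1 (flp_j L42093) (flp_c L42054) L60670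
theorem L60676 : sm gd N7077 = N5383 := ded_37_1 (flp_j L46416) (flp_d L42056) L60670
theorem L60678 : sm gf N7077 = N7077 := ded_46_1 (flp_j L60670) L42058 L60670
theorem L60679 : sm gg N7077 = N7077 := ded_49_1 (flp_j L60670) (flp_g L42050) L29215 L42050 L60670
theorem L60680 : sm gh N4885 = N7078 := rfl
theorem L60682 : sm ga N7078 = N4897 := ded_17_1 (flp_h L42152) (flp_a L42052) L60680
theorem L60684 : sm gc N7078 = N4891 := ded_32_1 (flp_h L42102) (flp_c L42054) L60680
theorem L60700 : sm gf N4888 = N7080 := rfl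
theorem L60702 : sm ga N7080 = N4899 := ded_14_1 (flp_f L42170) (flp_a L42080) L60700
theorem L60704 : sm gb N7080 = N7080 := ded_22_1 (flp_f L60700) L42082 L60700
theorem L60705 : sm ge N7080 = N7080 := ded_40_1 (flp_f L60700) L42083 L29238 (flp_e L42083) L60700
theorem L60706 : sm gj N4888 = N7081 := rfl
theorem L60708 : sm ga N7081 = N4900 := ded_16_1 (flp_j L42175) (flp_a L42080) L60706
theorem L60710 : sm gb N7081 = N7081 := ded_24_1 (flp_j L60706) L42082 L60706
theorem L60711 : sm ge N7081 = N4890 := ded_42_1 (flp_j L42093) (flp_e L42083) L60706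
theorem L60713 : sm gg N7081 = N7081 := ded_49_1 (flp_j L60706) (flp_g L42078) L29230 L42078 L60706
theorem L60714 : sm gh N4888 = N7082 := rfl
theorem L60716 : sm ga N7082 = N4901 := ded_17_1 (flp_h L42182) (flp_a L42080) L60714
theorem L60718 : sm gb N7082 = N7082 := ded_25_1 (flp_h L60714) L42082 L60714
theorem L60719 : sm ge N7082 = N4891 := ded_43_1 (flp_h L42102) (flp_e L42083) L60714
theorem L60721 : sm gg N7082 = N4889 := ded_50_1 (flp_h L42085) L42078 L60714
theorem L60723 : sm gd N4889 = N7083 := rfl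
theorem L60725 : sm ga N7083 = N4902 := ded_12_1 (flp_d L42190) (flp_a L42087) L60723
theorem L60727 : sm gb N7083 = N7083 := ded_20_1 (flp_d L60723) L42089 L60723
theorem L60728 : sm gj N7083 = N7083 := ded_37_2 (flp_d L60723) L42092 L60723
theorem L60729 : sm ge N7083 = N4993 := ded_34_2 (flp_d L42960) L29845 (flp_d L29247) (flp_e L42090) L60723
theorem L60731 : sm gi N4889 = N7084 := rfl
theorem L60733 : sm ga N7084 = N4903 := ded_18_1 (flp_i L42197) (flp_a L42087) L60731
theorem L60739 : sm gh N4890 = N7085 := rfl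
theorem L60741 : sm ga N7085 = N4904 := ded_17_1 (flp_h L42204) (flp_a L42095) L60739
theorem L60743 : sm gb N7085 = N7085 := ded_25_1 (flp_h L60739) L42097 L60739
theorem L60744 : sm gf N7085 = N7085 := ded_47_1 (flp_h L60739) L42100 L60739
theorem L60745 : sm gg N7085 = N7085 := ded_50_1 (flp_h L60739) L42101 L60739
theorem L60746 : sm gj N7085 = N4891 := ded_52_1 (flp_h L42102) L42093 L60739
theorem L60748 : sm gd N7085 = N4995 := ded_38_1 (flp_h L42978) L29855 (flp_h L29266) (flp_d L42098) L60739
theorem L60750 : sm gi N4891 = N7086 := rfl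
theorem L60755 : sm gd N7086 = N4996 := ded_39_1 (flp_i L42988) (flp_d L42110) L60750
theorem L60760 : sm gg N4893 = N7087 := rfl
theorem L60762 : sm gb N7087 = N7087 := ded_23_1 (flp_g L60760) L42124 L60760
theorem L60763 : sm gd N7087 = N4894 := ded_36_1 (flp_g L42128) L42122 L60760
theorem L60765 : sm ge N7087 = N5386 := ded_41_1 (flp_g L46444) (flp_e L42126) L60760
theorem L60767 : sm gh N4893 = N7088 := rfl
theorem L60769 : sm gb N7088 = N7088 := ded_25_1 (flp_h L60767) L42124 L60767
theorem L60770 : sm ge N7088 = N5387 := ded_43_1 (flp_h L46449) (flp_e L42126) L60767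
theorem L60772 : sm gj N7088 = N7088 := ded_52_1 (flp_h L60767) L42125 L60767
theorem L60773 : sm gf N4894 = N7089 := rfl
theorem L60775 : sm gb N7089 = N7089 := ded_22_1 (flp_f L60773) L42130 L60773
theorem L60776 : sm gc N7089 = N4899 := ded_29_1 (flp_f L42170) (flp_c L42131) L60773
theorem L60778 : sm ge N7089 = N7089 := ded_40_1 (flp_f L60773) L42133 L29282 (flp_e L42133) L60773
theorem L60779 : sm gj N4894 = N7090 := rfl
theorem L60781 : sm gb N7090 = N7090 := ded_24_1 (flp_j L60779) L42130 L60779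
theorem L60782 : sm gc N7090 = N4900 := ded_31_1 (flp_j L42175) (flp_c L42131) L60779
theorem L60784 : sm ge N7090 = N4896 := ded_42_1 (flp_j L42143) (flp_e L42133) L60779
theorem L60786 : sm gg N7090 = N7090 := ded_49_1 (flp_j L60779) (flp_g L42128) L29274 L42128 L60779
theorem L60787 : sm gh N4894 = N7091 := rfl
theorem L60789 : sm gb N7091 = N7091 := ded_25_1 (flp_h L60787) L42130 L60787
theorem L60790 : sm gc N7091 = N4901 := ded_32_1 (flp_h L42182) (flp_c L42131) L60787
theorem L60792 : sm ge N7091 = N4897 := ded_43_1 (flp_h L42152) (flp_e L42133) L60787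
theorem L60794 : sm gg N7091 = N4895 := ded_50_1 (flp_h L42135) L42128 L60787
theorem L60796 : sm gd N4895 = N7092 := rfl
theorem L60798 : sm gb N7092 = N7092 := ded_20_1 (flp_d L60796) L42137 L60796
theorem L60799 : sm gj N7092 = N7092 := ded_37_2 (flp_d L60796) L42142 L60796
theorem L60800 : sm ge N7092 = N7092 := ded_34_2 (flp_d L60796) L42140 L29291 (flp_e L42140) L60796
theorem L60801 : sm gi N4895 = N7093 := rfl
theorem L60804 : sm gc N7093 = N4903 := ded_33_1 (flp_i L42197) (flp_c L42138) L60801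
theorem L60809 : sm gh N4896 = N7094 := rfl
theorem L60811 : sm gb N7094 = N7094 := ded_25_1 (flp_h L60809) L42145 L60809
theorem L60812 : sm gc N7094 = N4904 := ded_32_1 (flp_h L42204) (flp_c L42146) L60809
theorem L60814 : sm gf N7094 = N7094 := ded_47_1 (flp_h L60809) L42150 L60809
theorem L60815 : sm gg N7094 = N7094 := ded_50_1 (flp_h L60809) L42151 L60809
theorem L60816 : sm gj N7094 = N4897 := ded_52_1 (flp_h L42152) L42143 L60809
theorem L60818 : sm gd N7094 = N7094 := ded_38_1 (flp_h L60809) L42148 L32281 (flp_d L42148) L60809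
theorem L60819 : sm gi N4897 = N7095 := rfl
theorem L60828 : sm gj N4899 = N7096 := rfl
theorem L60830 : sm gb N7096 = N4906 := ded_24_1 (flp_j L42223) (flp_b L42172) L60828
theorem L60832 : sm ge N7096 = N7096 := ded_42_1 (flp_j L60828) L42174 L60828
theorem L60833 : sm gf N7096 = N4900 := ded_46_1 (flp_j L42175) L42170 L60828
theorem L60835 : sm gh N4899 = N7097 := rfl
theorem L60837 : sm gb N7097 = N4907 := ded_25_1 (flp_h L42230) (flp_b L42172) L60835
theorem L60839 : sm ge N7097 = N7097 := ded_43_1 (flp_h L60835) L42174 L60835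
theorem L60840 : sm gf N7097 = N4901 := ded_47_1 (flp_h L42182) L42170 L60835
theorem L60842 : sm gh N4900 = N7098 := rfl
theorem L60844 : sm gb N7098 = N4908 := ded_25_1 (flp_h L42237) (flp_b L42177) L60842
theorem L60846 : sm ge N7098 = N4904 := ded_43_1 (flp_h L42204) (flp_e L42179) L60842
theorem L60848 : sm gg N7098 = N7098 := ded_50_1 (flp_h L60842) L42181 L60842
theorem L60849 : sm gj N7098 = N4901 := ded_52_1 (flp_h L42182) L42175 L60842
theorem L60851 : sm gd N4901 = N7099 := rfl
theorem L60853 : sm gb N7099 = N4909 := ded_20_1 (flp_d L42246) (flp_b L42184) L60851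
theorem L60855 : sm gg N7099 = N4902 := ded_36_2 (flp_d L42190) (flp_g L42188) L60851
theorem L60857 : sm ge N7099 = N5000 := ded_34_2 (flp_d L43026) L29901 (flp_d L29328) (flp_e L42186) L60851
theorem L60859 : sm gi N4901 = N7100 := rfl
theorem L60861 : sm gb N7100 = N4910 := ded_26_1 (flp_i L42253) (flp_b L42184) L60859
theorem L60863 : sm ge N7100 = N4905 := ded_44_1 (flp_i L42214) (flp_e L42186) L60859
theorem L60865 : sm gg N7100 = N4903 := ded_51_1 (flp_i L42197) (flp_g L42188) L60859
theorem L60867 : sm gc N4902 = N7101 := rfl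
theorem L60869 : sm ge N7101 = N5002 := ded_28_2 (flp_c L43042) (flp_e L42195) L60867
theorem L60871 : sm gj N7101 = N7101 := ded_31_2 (flp_c L60867) L42194 L60867
theorem L60872 : sm gi N4902 = N7102 := rfl
theorem L60874 : sm gb N7102 = N4912 := ded_26_1 (flp_i L42268) (flp_b L42192) L60872
theorem L60876 : sm gd N7102 = N4903 := ded_39_1 (flp_i L42197) L42190 L60872
theorem L60878 : sm ge N7102 = N5003 := ded_44_1 (flp_i L43047) (flp_e L42195) L60872
theorem L60880 : sm gj N7102 = N7102 := ded_53_1 (flp_i L60872) L42194 L60872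
theorem L60881 : sm gi N4904 = N7103 := rfl
theorem L60883 : sm gb N7103 = N4913 := ded_26_1 (flp_i L42276) (flp_b L42206) L60881
theorem L60885 : sm gd N7103 = N5004 := ded_39_1 (flp_i L43055) (flp_d L42212) L60881
theorem L60887 : sm gf N7103 = N7103 := ded_48_1 (flp_i L60881) L42208 L60881
theorem L60888 : sm gg N7103 = N7103 := ded_51_1 (flp_i L60881) L42209 L60881
theorem L60889 : sm gj N7103 = N4905 := ded_53_1 (flp_i L42214) (flp_j L42210) L60881
theorem L60891 : sm gg N4906 = N7104 := rfl
theorem L60893 : sm ga N7104 = N7104 := ded_15_1 (flp_g L60891) L42225 L60891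
theorem L60894 : sm gc N7104 = N7104 := ded_30_1 (flp_g L60891) L42226 L60891
theorem L60895 : sm ge N7104 = N7104 := ded_41_1 (flp_g L60891) L42227 L60891
theorem L60896 : sm gf N7104 = N7104 := ded_45_1 (flp_g L60891) L42228 L29350 (flp_f L42228) L60891
theorem L60897 : sm gh N4906 = N7105 := rfl
theorem L60899 : sm ga N7105 = N7105 := ded_17_1 (flp_h L60897) L42225 L60897
theorem L60900 : sm gc N7105 = N7105 := ded_32_1 (flp_h L60897) L42226 L60897
theorem L60901 : sm ge N7105 = N7105 := ded_43_1 (flp_h L60897) L42227 L60897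
theorem L60902 : sm gf N7105 = N4908 := ded_47_1 (flp_h L42237) (flp_f L42228) L60897
theorem L60904 : sm gj N7105 = N4907 := ded_52_1 (flp_h L42230) L42223 L60897
theorem L60906 : sm gd N4907 = N7106 := rfl
theorem L60908 : sm ga N7106 = N7106 := ded_12_1 (flp_d L60906) L42232 L60906
theorem L60909 : sm gf N7106 = N4909 := ded_35_2 (flp_d L42246) (flp_f L42235) L60906
theorem L60911 : sm gi N4907 = N7107 := rfl
theorem L60913 : sm ga N7107 = N7107 := ded_18_1 (flp_i L60911) L42232 L60911
theorem L60914 : sm gc N7107 = N7107 := ded_33_1 (flp_i L60911) L42233 L60911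
theorem L60915 : sm ge N7107 = N7107 := ded_44_1 (flp_i L60911) L42234 L60911
theorem L60916 : sm gf N7107 = N4910 := ded_48_1 (flp_i L42253) (flp_f L42235) L60911
theorem L60918 : sm gd N4908 = N7108 := rfl
theorem L60920 : sm ga N7108 = N7108 := ded_12_1 (flp_d L60918) L42239 L60918
theorem L60921 : sm gg N7108 = N7108 := ded_36_2 (flp_d L60918) L42243 L60918
theorem L60922 : sm gj N7108 = N4909 := ded_37_2 (flp_d L42246) (flp_j L42244) L60918
theorem L60924 : sm ge N7108 = N5009 := ded_34_2 (flp_d L43100) L29962 (flp_d L29380) (flp_e L42241) L60918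
theorem L60926 : sm gi N4908 = N7109 := rfl
theorem L60928 : sm ga N7109 = N7109 := ded_18_1 (flp_i L60926) L42239 L60926
theorem L60929 : sm gc N7109 = N7109 := ded_33_1 (flp_i L60926) L42240 L60926
theorem L60930 : sm ge N7109 = N4913 := ded_44_1 (flp_i L42276) (flp_e L42241) L60926
theorem L60932 : sm gg N7109 = N7109 := ded_51_1 (flp_i L60926) L42243 L60926
theorem L60933 : sm gj N7109 = N4910 := ded_53_1 (flp_i L42253) (flp_j L42244) L60926
theorem L60935 : sm gc N4909 = N7110 := rfl
theorem L60937 : sm ga N7110 = N7110 := ded_11_1 (flp_c L60935) L42248 L60935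
theorem L60938 : sm ge N7110 = N5011 := ded_28_2 (flp_c L43117) (flp_e L42251) L60935
theorem L60940 : sm gg N7110 = N4911 := ded_30_2 (flp_c L42261) (flp_g L42249) L60935
theorem L60942 : sm gd N7110 = N7110 := ded_27_2 (flp_c L60935) (flp_d L42246) L29354 L42246 L60935
theorem L60943 : sm gi N4909 = N7111 := rfl
theorem L60945 : sm ga N7111 = N7111 := ded_18_1 (flp_i L60943) L42248 L60943
theorem L60946 : sm gd N7111 = N4910 := ded_39_1 (flp_i L42253) L42246 L60943
theorem L60948 : sm ge N7111 = N5012 := ded_44_1 (flp_i L43124) (flp_e L42251) L60943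
theorem L60950 : sm gg N7111 = N4912 := ded_51_1 (flp_i L42268) (flp_g L42249) L60943
theorem L60952 : sm gb N4911 = N7112 := rfl
theorem L60954 : sm gd N7112 = N7112 := ded_20_2 (flp_b L60952) L42267 L60952
theorem L60955 : sm ge N7112 = N5013 := ded_21_2 (flp_b L43131) (flp_e L42264) L60952
theorem L60957 : sm gj N7112 = N7112 := ded_24_2 (flp_b L60952) L42266 L60952
theorem L60958 : sm gi N4911 = N7113 := rfl
theorem L60960 : sm ga N7113 = N7113 := ded_18_1 (flp_i L60958) L42263 L60958
theorem L60961 : sm gc N7113 = N4912 := ded_33_1 (flp_i L42268) L42261 L60958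
theorem L60963 : sm gd N7113 = N7113 := ded_39_1 (flp_i L60958) L42267 L60958
theorem L60964 : sm ge N7113 = N5014 := ded_44_1 (flp_i L43137) (flp_e L42264) L60958
theorem L60966 : sm gj N7113 = N7113 := ded_53_1 (flp_i L60958) L42266 L60958
theorem L60967 : sm gh N4912 = N7114 := rfl
theorem L60969 : sm ga N7114 = N7114 := ded_17_1 (flp_h L60967) L42270 L60967
theorem L60970 : sm ge N7114 = N5015 := ded_43_1 (flp_h L43146) (flp_e L42273) L60967
theorem L60972 : sm gj N7114 = N7114 := ded_52_1 (flp_h L60967) L42275 L60967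
theorem L60973 : sm gb N4914 = N7115 := rfl
theorem L60975 : sm gd N7115 = N5392 := ded_20_2 (flp_b L46489) (flp_d L42295) L60973
theorem L60979 : sm gj N7115 = N4930 := ded_24_2 (flp_b L42433) (flp_j L42292) L60973
theorem L60984 : sm gf N4914 = N7116 := rfl
theorem L60986 : sm ga N7116 = N4918 := ded_14_1 (flp_f L42326) (flp_a L42288) L60984
theorem L60988 : sm gc N7116 = N4915 := ded_29_1 (flp_f L42297) L42286 L60984
theorem L60990 : sm gd N7116 = N5393 := ded_35_1 (flp_f L46500) (flp_d L42295) L60984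
theorem L60992 : sm gj N7116 = N4931 := ded_46_2 (flp_f L42443) (flp_j L42292) L60984
theorem L60994 : sm gi N7116 = N7116 := ded_48_2 (flp_f L60984) L42294 L60984
theorem L60995 : sm gh N4914 = N7117 := rfl
theorem L60997 : sm ga N7117 = N4919 := ded_17_1 (flp_h L42336) (flp_a L42288) L60995
theorem L60999 : sm gc N7117 = N4916 := ded_32_1 (flp_h L42307) L42286 L60995
theorem L61001 : sm ge N7117 = N7117 := ded_43_1 (flp_h L60995) L42290 L60995
theorem L61002 : sm gg N7117 = N7117 := ded_50_1 (flp_h L60995) L42291 L60995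
theorem L61003 : sm gj N7117 = N4932 := ded_52_1 (flp_h L42452) (flp_j L42292) L60995
theorem L61005 : sm ge N4915 = N7118 := rfl
theorem L61007 : sm ga N7118 = N4920 := ded_13_1 (flp_e L42345) (flp_a L42299) L61005
theorem L61009 : sm gb N7118 = N7118 := ded_21_1 (flp_e L61005) L42301 L61005
theorem L61010 : sm gj N7118 = N4933 := ded_42_2 (flp_e L42461) (flp_j L42304) L61005
theorem L61012 : sm gi N7118 = N7118 := ded_44_2 (flp_e L61005) L42306 L61005
theorem L61013 : sm gd N7118 = N7118 := ded_34_1 (flp_e L61005) L42302 L29411 (flp_d L42302) L61005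
theorem L61014 : sm gf N7118 = N7118 := ded_40_2 (flp_e L61005) (flp_f L42297) L29400 L42297 L61005
theorem L61015 : sm gg N4915 = N7119 := rfl
theorem L61017 : sm ga N7119 = N4921 := ded_15_1 (flp_g L42354) (flp_a L42299) L61015
theorem L61019 : sm gb N7119 = N7119 := ded_23_1 (flp_g L61015) L42301 L61015
theorem L61020 : sm gd N7119 = N4917 := ded_36_1 (flp_g L42316) (flp_d L42302) L61015
theorem L61022 : sm gi N7119 = N7119 := ded_51_2 (flp_g L61015) L42306 L61015
theorem L61023 : sm gf N7119 = N7119 := ded_45_1 (flp_g L61015) (flp_f L42297) L29396 L42297 L61015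
theorem L61024 : sm gh N4915 = N7120 := rfl
theorem L61026 : sm ga N7120 = N4922 := ded_17_1 (flp_h L42362) (flp_a L42299) L61024
theorem L61028 : sm gb N7120 = N7120 := ded_25_1 (flp_h L61024) L42301 L61024
theorem L61029 : sm gf N7120 = N4916 := ded_47_1 (flp_h L42307) L42297 L61024
theorem L61031 : sm gj N7120 = N4935 := ded_52_1 (flp_h L42479) (flp_j L42304) L61024
theorem L61033 : sm gi N4916 = N7121 := rfl
theorem L61035 : sm ga N7121 = N4923 := ded_18_1 (flp_i L42370) (flp_a L42309) L61033
theorem L61037 : sm gb N7121 = N7121 := ded_26_1 (flp_i L61033) L42311 L61033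
theorem L61038 : sm ge N7121 = N7121 := ded_44_1 (flp_i L61033) L42312 L61033
theorem L61039 : sm gg N7121 = N7121 := ded_51_1 (flp_i L61033) L42313 L61033
theorem L61040 : sm gj N7121 = N4936 := ded_53_1 (flp_i L42486) (flp_j L42314) L61033
theorem L61042 : sm gh N7121 = N7121 := ded_54_1 (flp_i L61033) (flp_h L42307) L29399 L42307 L61033
theorem L61043 : sm gj N4917 = N7122 := rfl
theorem L61045 : sm ga N7122 = N4924 := ded_16_1 (flp_j L42379) (flp_a L42318) L61043
theorem L61047 : sm gb N7122 = N7122 := ded_24_1 (flp_j L61043) L42320 L61043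
theorem L61048 : sm gc N7122 = N5399 := ded_31_1 (flp_j L46564) (flp_c L42321) L61043
theorem L61050 : sm ge N7122 = N7122 := ded_42_1 (flp_j L61043) L42323 L61043
theorem L61051 : sm gf N7122 = N7122 := ded_46_1 (flp_j L61043) L42325 L61043
theorem L61052 : sm gi N7122 = N7122 := ded_53_2 (flp_j L61043) L42324 L61043
theorem L61053 : sm gg N7122 = N4937 := ded_49_1 (flp_j L42495) (flp_g L29518) (flp_j L29408) L42316 L61043
theorem L61055 : sm ge N4918 = N7123 := rfl
theorem L61057 : sm gb N7123 = N7123 := ded_21_1 (flp_e L61055) L42328 L61055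
theorem L61058 : sm gc N7123 = N4920 := ded_28_1 (flp_e L42345) (flp_c L42329) L61055
theorem L61060 : sm gj N7123 = N4938 := ded_42_2 (flp_e L42506) (flp_j L42333) L61055
theorem L61062 : sm gi N7123 = N7123 := ded_44_2 (flp_e L61055) L42335 L61055
theorem L61063 : sm gf N7123 = N7123 := ded_40_2 (flp_e L61055) (flp_f L42326) L29414 L42326 L61055
theorem L61064 : sm gg N4918 = N7124 := rfl
theorem L61066 : sm gb N7124 = N7124 := ded_23_1 (flp_g L61064) L42328 L61064
theorem L61067 : sm gc N7124 = N4921 := ded_30_1 (flp_g L42354) (flp_c L42329) L61064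
theorem L61069 : sm gd N7124 = N5401 := ded_36_1 (flp_g L46585) (flp_d L42331) L61064
theorem L61071 : sm gi N7124 = N7124 := ded_51_2 (flp_g L61064) L42335 L61064
theorem L61072 : sm gf N7124 = N7124 := ded_45_1 (flp_g L61064) (flp_f L42326) L29415 L42326 L61064
theorem L61073 : sm gh N4918 = N7125 := rfl
theorem L61075 : sm gb N7125 = N7125 := ded_25_1 (flp_h L61073) L42328 L61073
theorem L61076 : sm gc N7125 = N4922 := ded_32_1 (flp_h L42362) (flp_c L42329) L61073
theorem L61078 : sm gf N7125 = N4919 := ded_47_1 (flp_h L42336) L42326 L61073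
theorem L61080 : sm gj N7125 = N4940 := ded_52_1 (flp_h L42523) (flp_j L42333) L61073
theorem L61082 : sm gd N4919 = N7126 := rfl
theorem L61084 : sm gb N7126 = N7126 := ded_20_1 (flp_d L61082) L42338 L61082
theorem L61085 : sm gg N7126 = N7126 := ded_36_2 (flp_d L61082) L42342 L61082
theorem L61086 : sm gj N7126 = N4941 := ded_37_2 (flp_d L42530) (flp_j L42343) L61082
theorem L61088 : sm gh N7126 = N5403 := ded_38_2 (flp_d L46601) (flp_h L32356) (flp_d L29420) L42336 L61082
theorem L61090 : sm gi N4919 = N7127 := rfl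
theorem L61092 : sm gb N7127 = N7127 := ded_26_1 (flp_i L61090) L42338 L61090
theorem L61093 : sm gc N7127 = N4923 := ded_33_1 (flp_i L42370) (flp_c L42339) L61090
theorem L61095 : sm ge N7127 = N7127 := ded_44_1 (flp_i L61090) L42341 L61090
theorem L61096 : sm gg N7127 = N7127 := ded_51_1 (flp_i L61090) L42342 L61090
theorem L61097 : sm gj N7127 = N4942 := ded_53_1 (flp_i L42537) (flp_j L42343) L61090
theorem L61099 : sm gh N7127 = N7127 := ded_54_1 (flp_i L61090) (flp_h L42336) L29418 L42336 L61090
theorem L61100 : sm gg N4920 = N7128 := rfl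
theorem L61102 : sm gb N7128 = N4925 := ded_23_1 (flp_g L42390) (flp_b L42347) L61100
theorem L61104 : sm gd N7128 = N7128 := ded_36_1 (flp_g L61100) L42352 L61100
theorem L61105 : sm ge N7128 = N4921 := ded_41_1 (flp_g L42354) L42345 L61100
theorem L61107 : sm gi N7128 = N7128 := ded_51_2 (flp_g L61100) L42351 L61100
theorem L61108 : sm gh N4920 = N7129 := rfl
theorem L61110 : sm gb N7129 = N4926 := ded_25_1 (flp_h L42398) (flp_b L42347) L61108
theorem L61112 : sm ge N7129 = N4922 := ded_43_1 (flp_h L42362) L42345 L61108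
theorem L61114 : sm gf N7129 = N7129 := ded_47_1 (flp_h L61108) L42353 L61108
theorem L61115 : sm gj N7129 = N4944 := ded_52_1 (flp_h L42554) (flp_j L42349) L61108
theorem L61117 : sm gj N4921 = N7130 := rfl
theorem L61119 : sm gb N7130 = N4927 := ded_24_1 (flp_j L42407) (flp_b L42356) L61117
theorem L61121 : sm gd N7130 = N4924 := ded_37_1 (flp_j L42379) (flp_d L42358) L61117
theorem L61123 : sm gf N7130 = N7130 := ded_46_1 (flp_j L61117) L42361 L61117
theorem L61124 : sm gi N7130 = N7130 := ded_53_2 (flp_j L61117) L42360 L61117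
theorem L61125 : sm gg N7130 = N4945 := ded_49_1 (flp_j L42561) (flp_g L29552) (flp_j L29428) L42354 L61117
theorem L61127 : sm gh N4921 = N7131 := rfl
theorem L61129 : sm gb N7131 = N4928 := ded_25_1 (flp_h L42417) (flp_b L42356) L61127
theorem L61131 : sm gf N7131 = N7131 := ded_47_1 (flp_h L61127) L42361 L61127
theorem L61132 : sm gg N7131 = N4922 := ded_50_1 (flp_h L42362) L42354 L61127
theorem L61134 : sm gi N4922 = N7132 := rfl
theorem L61136 : sm gb N7132 = N4929 := ded_26_1 (flp_i L42424) (flp_b L42364) L61134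
theorem L61138 : sm gf N7132 = N4923 := ded_48_1 (flp_i L42370) (flp_f L42366) L61134
theorem L61140 : sm gj N7132 = N4947 := ded_53_1 (flp_i L42578) (flp_j L42368) L61134
theorem L61142 : sm gh N7132 = N7132 := ded_54_1 (flp_i L61134) (flp_h L42362) L29430 L42362 L61134
theorem L61143 : sm gf N4925 = N7133 := rfl
theorem L61145 : sm ga N7133 = N7133 := ded_14_1 (flp_f L61143) L42392 L61143
theorem L61146 : sm gc N7133 = N7133 := ded_29_1 (flp_f L61143) L42393 L61143
theorem L61147 : sm gd N7133 = N7133 := ded_35_1 (flp_f L61143) L42394 L61143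
theorem L61148 : sm gi N7133 = N7133 := ded_48_2 (flp_f L61143) L42397 L61143
theorem L61149 : sm ge N7133 = N7133 := ded_40_1 (flp_f L61143) L42395 L29464 (flp_e L42395) L61143
theorem L61150 : sm gg N7133 = N7133 := ded_45_2 (flp_f L61143) (flp_g L42390) L29456 L42390 L61143
theorem L61151 : sm gj N4925 = N7134 := rfl
theorem L61153 : sm ga N7134 = N7134 := ded_16_1 (flp_j L61151) L42392 L61151
theorem L61154 : sm gc N7134 = N7134 := ded_31_1 (flp_j L61151) L42393 L61151
theorem L61155 : sm gd N7134 = N7134 := ded_37_1 (flp_j L61151) L42394 L61151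
theorem L61156 : sm ge N7134 = N4927 := ded_42_1 (flp_j L42407) (flp_e L42395) L61151
theorem L61158 : sm gi N7134 = N7134 := ded_53_2 (flp_j L61151) L42397 L61151
theorem L61159 : sm gg N7134 = N4949 := ded_49_1 (flp_j L42594) (flp_g L29585) (flp_j L29452) L42390 L61151
theorem L61161 : sm gh N4925 = N7135 := rfl
theorem L61163 : sm ga N7135 = N7135 := ded_17_1 (flp_h L61161) L42392 L61161
theorem L61164 : sm gc N7135 = N7135 := ded_32_1 (flp_h L61161) L42393 L61161
theorem L61165 : sm ge N7135 = N4928 := ded_43_1 (flp_h L42417) (flp_e L42395) L61161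
theorem L61167 : sm gg N7135 = N4926 := ded_50_1 (flp_h L42398) L42390 L61161
theorem L61169 : sm gd N4926 = N7136 := rfl
theorem L61171 : sm ga N7136 = N7136 := ded_12_1 (flp_d L61169) L42400 L61169
theorem L61172 : sm gf N7136 = N7136 := ded_35_2 (flp_d L61169) L42404 L61169
theorem L61173 : sm gj N7136 = N4951 := ded_37_2 (flp_d L42610) (flp_j L42405) L61169
theorem L61175 : sm gh N7136 = N7136 := ded_38_2 (flp_d L61169) (flp_h L42398) L29455 L42398 L61169
theorem L61176 : sm gi N4926 = N7137 := rfl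
theorem L61178 : sm ga N7137 = N7137 := ded_18_1 (flp_i L61176) L42400 L61176
theorem L61179 : sm gc N7137 = N7137 := ded_33_1 (flp_i L61176) L42401 L61176
theorem L61180 : sm ge N7137 = N4929 := ded_44_1 (flp_i L42424) (flp_e L42402) L61176
theorem L61182 : sm gf N7137 = N7137 := ded_48_1 (flp_i L61176) L42404 L61176
theorem L61183 : sm gj N7137 = N4952 := ded_53_1 (flp_i L42615) (flp_j L42405) L61176
theorem L61185 : sm gh N7137 = N7137 := ded_54_1 (flp_i L61176) (flp_h L42398) L29454 L42398 L61176
theorem L61186 : sm gh N4927 = N7138 := rfl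
theorem L61188 : sm ga N7138 = N7138 := ded_17_1 (flp_h L61186) L42409 L61186
theorem L61189 : sm gc N7138 = N7138 := ded_32_1 (flp_h L61186) L42410 L61186
theorem L61190 : sm gf N7138 = N7138 := ded_47_1 (flp_h L61186) L42413 L61186
theorem L61191 : sm gg N7138 = N4953 := ded_50_1 (flp_h L42623) (flp_g L42415) L61186
theorem L61193 : sm gj N7138 = N4928 := ded_52_1 (flp_h L42417) L42407 L61186
theorem L61195 : sm gi N4928 = N7139 := rfl
theorem L61197 : sm ga N7139 = N7139 := ded_18_1 (flp_i L61195) L42419 L61195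
theorem L61198 : sm gc N7139 = N7139 := ded_33_1 (flp_i L61195) L42420 L61195
theorem L61199 : sm gf N7139 = N7139 := ded_48_1 (flp_i L61195) L42421 L61195
theorem L61200 : sm gg N7139 = N4929 := ded_51_1 (flp_i L42424) (flp_g L42422) L61195
theorem L61202 : sm gh N7139 = N7139 := ded_54_1 (flp_i L61195) (flp_h L42417) L29463 L42417 L61195
theorem L61203 : sm gf N4930 = N7140 := rfl
theorem L61206 : sm gb N7140 = N4931 := ded_22_1 (flp_f L42443) L42433 L61203
theorem L61209 : sm gd N7140 = N5417 := ded_35_1 (flp_f L46732) (flp_d L42435) L61203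
theorem L61212 : sm gh N4930 = N7141 := rfl
theorem L61219 : sm gg N7141 = N4956 := ded_50_1 (flp_h L42650) (flp_g L42438) L61212
theorem L61221 : sm ge N4931 = N7142 := rfl
theorem L61223 : sm ga N7142 = N4938 := ded_13_1 (flp_e L42506) (flp_a L42445) L61221
theorem L61225 : sm gc N7142 = N4933 := ded_28_1 (flp_e L42461) (flp_c L42447) L61221
theorem L61227 : sm gi N7142 = N7142 := ded_44_2 (flp_e L61221) L42451 L61221
theorem L61228 : sm gf N7142 = N7142 := ded_40_2 (flp_e L61221) (flp_f L42443) L29496 L42443 L61221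
theorem L61229 : sm gg N4931 = N7143 := rfl
theorem L61231 : sm ga N7143 = N4939 := ded_15_1 (flp_g L42513) (flp_a L42445) L61229
theorem L61233 : sm gc N7143 = N4934 := ded_30_1 (flp_g L42469) (flp_c L42447) L61229
theorem L61235 : sm gd N7143 = N5420 := ded_36_1 (flp_g L46760) (flp_d L42449) L61229
theorem L61237 : sm gi N7143 = N7143 := ded_51_2 (flp_g L61229) L42451 L61229
theorem L61238 : sm gf N7143 = N4958 := ded_45_1 (flp_g L42668) (flp_f L29633) (flp_g L29497) L42443 L61229
theorem L61240 : sm gh N4931 = N7144 := rfl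
theorem L61242 : sm ga N7144 = N4940 := ded_17_1 (flp_h L42523) (flp_a L42445) L61240
theorem L61244 : sm gc N7144 = N4935 := ded_32_1 (flp_h L42479) (flp_c L42447) L61240
theorem L61246 : sm gf N7144 = N4932 := ded_47_1 (flp_h L42452) L42443 L61240
theorem L61248 : sm gd N4932 = N7145 := rfl
theorem L61250 : sm ga N7145 = N4941 := ded_12_1 (flp_d L42530) (flp_a L42454) L61248
theorem L61252 : sm gg N7145 = N4960 := ded_36_2 (flp_d L42686) (flp_g L42459) L61248
theorem L61254 : sm gh N7145 = N5422 := ded_38_2 (flp_d L46777) (flp_h L32477) (flp_d L29500) L42452 L61248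
theorem L61256 : sm gi N4932 = N7146 := rfl
theorem L61258 : sm ga N7146 = N4942 := ded_18_1 (flp_i L42537) (flp_a L42454) L61256
theorem L61260 : sm gc N7146 = N4936 := ded_33_1 (flp_i L42486) (flp_c L42456) L61256
theorem L61262 : sm ge N7146 = N7146 := ded_44_1 (flp_i L61256) L42458 L61256
theorem L61263 : sm gg N7146 = N4961 := ded_51_1 (flp_i L42693) (flp_g L42459) L61256
theorem L61265 : sm gh N7146 = N7146 := ded_54_1 (flp_i L61256) (flp_h L42452) L29499 L42452 L61256
theorem L61266 : sm gg N4933 = N7147 := rfl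
theorem L61268 : sm ga N7147 = N4943 := ded_15_1 (flp_g L42546) (flp_a L42463) L61266
theorem L61270 : sm gb N7147 = N7147 := ded_23_1 (flp_g L61266) L42465 L61266
theorem L61271 : sm gd N7147 = N7147 := ded_36_1 (flp_g L61266) L42467 L61266
theorem L61272 : sm ge N7147 = N4934 := ded_41_1 (flp_g L42469) L42461 L61266
theorem L61274 : sm gi N7147 = N7147 := ded_51_2 (flp_g L61266) L42466 L61266
theorem L61275 : sm gh N4933 = N7148 := rfl
theorem L61277 : sm ga N7148 = N4944 := ded_17_1 (flp_h L42554) (flp_a L42463) L61275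
theorem L61279 : sm gb N7148 = N7148 := ded_25_1 (flp_h L61275) L42465 L61275
theorem L61280 : sm ge N7148 = N4935 := ded_43_1 (flp_h L42479) L42461 L61275
theorem L61282 : sm gf N7148 = N7148 := ded_47_1 (flp_h L61275) L42468 L61275
theorem L61283 : sm gj N4934 = N7149 := rfl
theorem L61285 : sm ga N7149 = N4945 := ded_16_1 (flp_j L42561) (flp_a L42471) L61283
theorem L61287 : sm gb N7149 = N7149 := ded_24_1 (flp_j L61283) L42473 L61283
theorem L61288 : sm gd N7149 = N4937 := ded_37_1 (flp_j L42495) (flp_d L42474) L61283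
theorem L61290 : sm gf N7149 = N4964 := ded_46_1 (flp_j L42721) (flp_f L42477) L61283
theorem L61292 : sm gi N7149 = N7149 := ded_53_2 (flp_j L61283) L42476 L61283
theorem L61293 : sm gh N4934 = N7150 := rfl
theorem L61295 : sm ga N7150 = N4946 := ded_17_1 (flp_h L42570) (flp_a L42471) L61293
theorem L61297 : sm gb N7150 = N7150 := ded_25_1 (flp_h L61293) L42473 L61293
theorem L61298 : sm gf N7150 = N4965 := ded_47_1 (flp_h L42730) (flp_f L42477) L61293
theorem L61300 : sm gg N7150 = N4935 := ded_50_1 (flp_h L42479) L42469 L61293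
theorem L61302 : sm gi N4935 = N7151 := rfl
theorem L61304 : sm ga N7151 = N4947 := ded_18_1 (flp_i L42578) (flp_a L42481) L61302
theorem L61306 : sm gb N7151 = N7151 := ded_26_1 (flp_i L61302) L42483 L61302
theorem L61307 : sm gf N7151 = N4936 := ded_48_1 (flp_i L42486) (flp_f L42484) L61302
theorem L61309 : sm gh N7151 = N7151 := ded_54_1 (flp_i L61302) (flp_h L42479) L29509 L42479 L61302
theorem L61310 : sm gd N4938 = N7152 := rfl
theorem L61312 : sm gb N7152 = N7152 := ded_20_1 (flp_d L61310) L42508 L61310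
theorem L61313 : sm gf N7152 = N7152 := ded_35_2 (flp_d L61310) L42512 L61310
theorem L61314 : sm gi N7152 = N7152 := ded_39_2 (flp_d L61310) L42511 L61310
theorem L61315 : sm gc N7152 = N7152 := ded_27_1 (flp_d L61310) L42509 L29550 (flp_c L42509) L61310
theorem L61316 : sm ge N7152 = N5429 := ded_34_2 (flp_d L46845) (flp_e L32537) (flp_d L29534) L42506 L61310
theorem L61318 : sm gg N4938 = N7153 := rfl
theorem L61320 : sm gb N7153 = N7153 := ded_23_1 (flp_g L61318) L42508 L61318
theorem L61321 : sm gc N7153 = N4943 := ded_30_1 (flp_g L42546) (flp_c L42509) L61318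
theorem L61323 : sm ge N7153 = N4939 := ded_41_1 (flp_g L42513) L42506 L61318
theorem L61325 : sm gi N7153 = N7153 := ded_51_2 (flp_g L61318) L42511 L61318
theorem L61326 : sm gh N4938 = N7154 := rfl
theorem L61328 : sm gb N7154 = N7154 := ded_25_1 (flp_h L61326) L42508 L61326
theorem L61329 : sm gc N7154 = N4944 := ded_32_1 (flp_h L42554) (flp_c L42509) L61326
theorem L61331 : sm ge N7154 = N4940 := ded_43_1 (flp_h L42523) L42506 L61326
theorem L61333 : sm gf N7154 = N7154 := ded_47_1 (flp_h L61326) L42512 L61326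
theorem L61334 : sm gj N4939 = N7155 := rfl
theorem L61336 : sm gb N7155 = N7155 := ded_24_1 (flp_j L61334) L42515 L61334
theorem L61337 : sm gc N7155 = N4945 := ded_31_1 (flp_j L42561) (flp_c L42516) L61334
theorem L61339 : sm gd N7155 = N5432 := ded_37_1 (flp_j L46870) (flp_d L42518) L61334
theorem L61341 : sm gf N7155 = N4969 := ded_46_1 (flp_j L42764) (flp_f L42521) L61334
theorem L61343 : sm gi N7155 = N7155 := ded_53_2 (flp_j L61334) L42520 L61334
theorem L61344 : sm gh N4939 = N7156 := rfl
theorem L61346 : sm gb N7156 = N7156 := ded_25_1 (flp_h L61344) L42515 L61344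
theorem L61347 : sm gc N7156 = N4946 := ded_32_1 (flp_h L42570) (flp_c L42516) L61344
theorem L61349 : sm gf N7156 = N4970 := ded_47_1 (flp_h L42773) (flp_f L42521) L61344
theorem L61351 : sm gg N7156 = N4940 := ded_50_1 (flp_h L42523) L42513 L61344
theorem L61353 : sm gd N4940 = N7157 := rfl
theorem L61355 : sm gb N7157 = N7157 := ded_20_1 (flp_d L61353) L42525 L61353
theorem L61356 : sm gf N7157 = N4941 := ded_35_2 (flp_d L42530) (flp_f L42528) L61353
theorem L61358 : sm gh N7157 = N5434 := ded_38_2 (flp_d L46887) (flp_h L32553) (flp_d L29534) L42523 L61353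
theorem L61360 : sm gi N4940 = N7158 := rfl
theorem L61362 : sm gb N7158 = N7158 := ded_26_1 (flp_i L61360) L42525 L61360
theorem L61363 : sm gc N7158 = N4947 := ded_33_1 (flp_i L42578) (flp_c L42526) L61360
theorem L61365 : sm gf N7158 = N4942 := ded_48_1 (flp_i L42537) (flp_f L42528) L61360
theorem L61367 : sm gh N7158 = N7158 := ded_54_1 (flp_i L61360) (flp_h L42523) L29536 L42523 L61360
theorem L61368 : sm ge N4941 = N7159 := rfl
theorem L61370 : sm gb N7159 = N7159 := ded_21_1 (flp_e L61368) L42532 L61368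
theorem L61371 : sm gg N7159 = N4973 := ded_41_2 (flp_e L42797) (flp_g L42533) L61368
theorem L61373 : sm gh N7159 = N5436 := ded_43_2 (flp_e L46900) (flp_h L42535) L61368
theorem L61375 : sm gd N7159 = N7159 := ded_34_1 (flp_e L61368) (flp_d L42530) L29542 L42530 L61368
theorem L61376 : sm gi N4941 = N7160 := rfl
theorem L61378 : sm gb N7160 = N7160 := ded_26_1 (flp_i L61376) L42532 L61376
theorem L61379 : sm gd N7160 = N4942 := ded_39_1 (flp_i L42537) L42530 L61376
theorem L61381 : sm gg N7160 = N4974 := ded_51_1 (flp_i L42804) (flp_g L42533) L61376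
theorem L61383 : sm gf N4943 = N7161 := rfl
theorem L61385 : sm gb N7161 = N4948 := ded_22_1 (flp_f L42585) (flp_b L42548) L61383
theorem L61387 : sm gd N7161 = N7161 := ded_35_1 (flp_f L61383) L42550 L61383
theorem L61388 : sm gi N7161 = N7161 := ded_48_2 (flp_f L61383) L42553 L61383
theorem L61389 : sm ge N7161 = N4975 := ded_40_1 (flp_f L42810) L29741 (flp_f L29559) (flp_e L42551) L61383
theorem L61391 : sm gg N7161 = N7161 := ded_45_2 (flp_f L61383) (flp_g L42546) L29551 L42546 L61383
theorem L61392 : sm gj N4943 = N7162 := rfl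
theorem L61394 : sm gb N7162 = N4949 := ded_24_1 (flp_j L42594) (flp_b L42548) L61392
theorem L61396 : sm gd N7162 = N7162 := ded_37_1 (flp_j L61392) L42550 L61392
theorem L61397 : sm ge N7162 = N4945 := ded_42_1 (flp_j L42561) (flp_e L42551) L61392
theorem L61399 : sm gi N7162 = N7162 := ded_53_2 (flp_j L61392) L42553 L61392
theorem L61400 : sm gh N4943 = N7163 := rfl
theorem L61402 : sm gb N7163 = N4950 := ded_25_1 (flp_h L42602) (flp_b L42548) L61400
theorem L61404 : sm ge N7163 = N4946 := ded_43_1 (flp_h L42570) (flp_e L42551) L61400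
theorem L61406 : sm gg N7163 = N4944 := ded_50_1 (flp_h L42554) L42546 L61400
theorem L61408 : sm gd N4944 = N7164 := rfl
theorem L61410 : sm gb N7164 = N4951 := ded_20_1 (flp_d L42610) (flp_b L42556) L61408
theorem L61412 : sm gf N7164 = N7164 := ded_35_2 (flp_d L61408) L42560 L61408
theorem L61413 : sm gh N7164 = N7164 := ded_38_2 (flp_d L61408) (flp_h L42554) L29550 L42554 L61408
theorem L61414 : sm gi N4944 = N7165 := rfl
theorem L61416 : sm gb N7165 = N4952 := ded_26_1 (flp_i L42615) (flp_b L42556) L61414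
theorem L61418 : sm ge N7165 = N4947 := ded_44_1 (flp_i L42578) (flp_e L42558) L61414
theorem L61420 : sm gf N7165 = N7165 := ded_48_1 (flp_i L61414) L42560 L61414
theorem L61421 : sm gh N7165 = N7165 := ded_54_1 (flp_i L61414) (flp_h L42554) L29549 L42554 L61414
theorem L61422 : sm gh N4945 = N7166 := rfl
theorem L61424 : sm gb N7166 = N4953 := ded_25_1 (flp_h L42623) (flp_b L42563) L61422
theorem L61426 : sm gf N7166 = N4980 := ded_47_1 (flp_h L42853) (flp_f L42567) L61422
theorem L61428 : sm gj N7166 = N4946 := ded_52_1 (flp_h L42570) L42561 L61422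
theorem L61430 : sm gi N4946 = N7167 := rfl
theorem L61432 : sm gb N7167 = N4954 := ded_26_1 (flp_i L42631) (flp_b L42572) L61430
theorem L61434 : sm gf N7167 = N4981 := ded_48_1 (flp_i L42860) (flp_f L42574) L61430
theorem L61436 : sm gg N7167 = N4947 := ded_51_1 (flp_i L42578) (flp_g L42576) L61430
theorem L61438 : sm gh N7167 = N7167 := ded_54_1 (flp_i L61430) (flp_h L42570) L29558 L42570 L61430
theorem L61439 : sm gj N4948 = N7168 := rfl
theorem L61441 : sm ga N7168 = N7168 := ded_16_1 (flp_j L61439) L42587 L61439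
theorem L61442 : sm gc N7168 = N7168 := ded_31_1 (flp_j L61439) L42588 L61439
theorem L61443 : sm gd N7168 = N7168 := ded_37_1 (flp_j L61439) L42589 L61439
theorem L61444 : sm ge N7168 = N4982 := ded_42_1 (flp_j L42867) (flp_e L42591) L61439
theorem L61446 : sm gf N7168 = N4949 := ded_46_1 (flp_j L42594) L42585 L61439
theorem L61448 : sm gi N7168 = N7168 := ded_53_2 (flp_j L61439) L42590 L61439
theorem L61449 : sm gh N4948 = N7169 := rfl
theorem L61451 : sm ga N7169 = N7169 := ded_17_1 (flp_h L61449) L42587 L61449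
theorem L61452 : sm gc N7169 = N7169 := ded_32_1 (flp_h L61449) L42588 L61449
theorem L61453 : sm ge N7169 = N4983 := ded_43_1 (flp_h L42876) (flp_e L42591) L61449
theorem L61455 : sm gf N7169 = N4950 := ded_47_1 (flp_h L42602) L42585 L61449
theorem L61457 : sm gg N7169 = N7169 := ded_50_1 (flp_h L61449) L42593 L61449
theorem L61458 : sm gh N4949 = N7170 := rfl
theorem L61460 : sm ga N7170 = N7170 := ded_17_1 (flp_h L61458) L42596 L61458
theorem L61461 : sm gc N7170 = N7170 := ded_32_1 (flp_h L61458) L42597 L61458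
theorem L61462 : sm ge N7170 = N4953 := ded_43_1 (flp_h L42623) (flp_e L42599) L61458
theorem L61464 : sm gj N7170 = N4950 := ded_52_1 (flp_h L42602) L42594 L61458
theorem L61466 : sm gd N4950 = N7171 := rfl
theorem L61468 : sm ga N7171 = N7171 := ded_12_1 (flp_d L61466) L42604 L61466
theorem L61469 : sm gg N7171 = N4951 := ded_36_2 (flp_d L42610) (flp_g L42608) L61466
theorem L61471 : sm gh N7171 = N7171 := ded_38_2 (flp_d L61466) (flp_h L42602) L29589 L42602 L61466
theorem L61472 : sm gi N4950 = N7172 := rfl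
theorem L61474 : sm ga N7172 = N7172 := ded_18_1 (flp_i L61472) L42604 L61472
theorem L61475 : sm gc N7172 = N7172 := ded_33_1 (flp_i L61472) L42605 L61472
theorem L61476 : sm ge N7172 = N4954 := ded_44_1 (flp_i L42631) (flp_e L42606) L61472
theorem L61478 : sm gg N7172 = N4952 := ded_51_1 (flp_i L42615) (flp_g L42608) L61472
theorem L61480 : sm gh N7172 = N7172 := ded_54_1 (flp_i L61472) (flp_h L42602) L29592 L42602 L61472
theorem L61481 : sm gc N4951 = N7173 := rfl
theorem L61483 : sm ga N7173 = N7173 := ded_11_1 (flp_c L61481) L42612 L61481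
theorem L61484 : sm gf N7173 = N7173 := ded_29_2 (flp_c L61481) L42613 L61481
theorem L61485 : sm gh N7173 = N7173 := ded_32_2 (flp_c L61481) L42614 L61481
theorem L61486 : sm gd N7173 = N7173 := ded_27_2 (flp_c L61481) (flp_d L42610) L29596 L42610 L61481
theorem L61487 : sm gi N4951 = N7174 := rfl
theorem L61489 : sm ga N7174 = N7174 := ded_18_1 (flp_i L61487) L42612 L61487
theorem L61490 : sm gd N7174 = N4952 := ded_39_1 (flp_i L42615) L42610 L61487
theorem L61492 : sm gf N7174 = N7174 := ded_48_1 (flp_i L61487) L42613 L61487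
theorem L61493 : sm gi N4953 = N7175 := rfl
theorem L61495 : sm ga N7175 = N7175 := ded_18_1 (flp_i L61493) L42625 L61493
theorem L61496 : sm gc N7175 = N7175 := ded_33_1 (flp_i L61493) L42626 L61493
theorem L61497 : sm gf N7175 = N4989 := ded_48_1 (flp_i L42923) (flp_f L42627) L61493
theorem L61499 : sm gj N7175 = N4954 := ded_53_1 (flp_i L42631) (flp_j L42629) L61493
theorem L61501 : sm gh N7175 = N7175 := ded_54_1 (flp_i L61493) (flp_h L42623) L29608 L42623 L61493
theorem L61502 : sm ge N4955 = N7176 := rfl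
theorem L61505 : sm gb N7176 = N4957 := ded_21_1 (flp_e L42658) (flp_b L42643) L61502
theorem L61512 : sm gg N4955 = N7177 := rfl
theorem L61515 : sm gb N7177 = N4958 := ded_23_1 (flp_g L42668) (flp_b L42643) L61512
theorem L61518 : sm gd N7177 = N5450 := ded_36_1 (flp_g L47020) (flp_d L42646) L61512
theorem L61521 : sm gh N4955 = N7178 := rfl
theorem L61530 : sm gd N4956 = N7179 := rfl
theorem L61536 : sm gh N7179 = N5452 := ded_38_2 (flp_d L47040) (flp_h L32682) (flp_d L29626) L42650 L61530
theorem L61538 : sm gi N4956 = N7180 := rfl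
theorem L61541 : sm gb N7180 = N4961 := ded_26_1 (flp_i L42693) (flp_b L42653) L61538
theorem L61547 : sm gg N4957 = N7181 := rfl
theorem L61549 : sm ga N7181 = N4967 := ded_15_1 (flp_g L42746) (flp_a L42660) L61547
theorem L61551 : sm gc N7181 = N4962 := ded_30_1 (flp_g L42702) (flp_c L42662) L61547
theorem L61553 : sm gd N7181 = N7181 := ded_36_1 (flp_g L61547) L42666 L61547
theorem L61554 : sm ge N7181 = N4958 := ded_41_1 (flp_g L42668) L42658 L61547
theorem L61556 : sm gi N7181 = N7181 := ded_51_2 (flp_g L61547) L42665 L61547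
theorem L61557 : sm gh N4957 = N7182 := rfl
theorem L61559 : sm ga N7182 = N4968 := ded_17_1 (flp_h L42755) (flp_a L42660) L61557
theorem L61561 : sm gc N7182 = N4963 := ded_32_1 (flp_h L42712) (flp_c L42662) L61557
theorem L61563 : sm ge N7182 = N4959 := ded_43_1 (flp_h L42677) L42658 L61557
theorem L61565 : sm gf N7182 = N7182 := ded_47_1 (flp_h L61557) L42667 L61557
theorem L61566 : sm gj N7182 = N7182 := ded_52_1 (flp_h L61557) L42664 L61557
theorem L61567 : sm gj N4958 = N7183 := rfl
theorem L61569 : sm ga N7183 = N4969 := ded_16_1 (flp_j L42764) (flp_a L42670) L61567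
theorem L61571 : sm gc N7183 = N4964 := ded_31_1 (flp_j L42721) (flp_c L42672) L61567
theorem L61573 : sm gd N7183 = N5454 := ded_37_1 (flp_j L47057) (flp_d L42674) L61567
theorem L61575 : sm gi N7183 = N7183 := ded_53_2 (flp_j L61567) L42676 L61567
theorem L61576 : sm gg N7183 = N7183 := ded_49_1 (flp_j L61567) (flp_g L42668) L29641 L42668 L61567
theorem L61577 : sm gh N4958 = N7184 := rfl
theorem L61579 : sm ga N7184 = N4970 := ded_17_1 (flp_h L42773) (flp_a L42670) L61577
theorem L61581 : sm gc N7184 = N4965 := ded_32_1 (flp_h L42730) (flp_c L42672) L61577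
theorem L61583 : sm gg N7184 = N4959 := ded_50_1 (flp_h L42677) L42668 L61577
theorem L61585 : sm gd N4959 = N7185 := rfl
theorem L61587 : sm ga N7185 = N4971 := ded_12_1 (flp_d L42780) (flp_a L42679) L61585
theorem L61589 : sm gf N7185 = N4960 := ded_35_2 (flp_d L42686) (flp_f L42683) L61585
theorem L61592 : sm gh N7185 = N5456 := ded_38_2 (flp_d L47075) (flp_h L32700) (flp_d L29639) L42677 L61585
theorem L61594 : sm gi N4959 = N7186 := rfl
theorem L61596 : sm ga N7186 = N4972 := ded_18_1 (flp_i L42788) (flp_a L42679) L61594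
theorem L61598 : sm gc N7186 = N4966 := ded_33_1 (flp_i L42737) (flp_c L42681) L61594
theorem L61600 : sm gf N7186 = N4961 := ded_48_1 (flp_i L42693) (flp_f L42683) L61594
theorem L61602 : sm gj N7186 = N7186 := ded_53_1 (flp_i L61594) L42685 L61594
theorem L61603 : sm gh N7186 = N7186 := ded_54_1 (flp_i L61594) (flp_h L42677) L29642 L42677 L61594
theorem L61604 : sm ge N4960 = N7187 := rfl
theorem L61606 : sm ga N7187 = N4973 := ded_13_1 (flp_e L42797) (flp_a L42688) L61604
theorem L61609 : sm gh N7187 = N5458 := ded_43_2 (flp_e L47093) (flp_h L42691) L61604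
theorem L61612 : sm gi N4960 = N7188 := rfl
theorem L61614 : sm ga N7188 = N4974 := ded_18_1 (flp_i L42804) (flp_a L42688) L61612
theorem L61616 : sm gd N7188 = N4961 := ded_39_1 (flp_i L42693) L42686 L61612
theorem L61619 : sm gf N4962 = N7189 := rfl
theorem L61621 : sm ga N7189 = N4975 := ded_14_1 (flp_f L42810) (flp_a L42704) L61619
theorem L61623 : sm gb N7189 = N7189 := ded_22_1 (flp_f L61619) L42706 L61619
theorem L61624 : sm gd N7189 = N4990 := ded_35_1 (flp_f L42931) (flp_d L42707) L61619
theorem L61626 : sm gi N7189 = N7189 := ded_48_2 (flp_f L61619) L42711 L61619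
theorem L61627 : sm gg N7189 = N7189 := ded_45_2 (flp_f L61619) (flp_g L42702) L29660 L42702 L61619
theorem L61628 : sm gj N4962 = N7190 := rfl
theorem L61630 : sm ga N7190 = N4976 := ded_16_1 (flp_j L42818) (flp_a L42704) L61628
theorem L61632 : sm gb N7190 = N7190 := ded_24_1 (flp_j L61628) L42706 L61628
theorem L61633 : sm gd N7190 = N4991 := ded_37_1 (flp_j L42940) (flp_d L42707) L61628
theorem L61635 : sm ge N7190 = N4964 := ded_42_1 (flp_j L42721) (flp_e L42709) L61628
theorem L61637 : sm gi N7190 = N7190 := ded_53_2 (flp_j L61628) L42711 L61628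
theorem L61638 : sm gg N7190 = N7190 := ded_49_1 (flp_j L61628) (flp_g L42702) L29656 L42702 L61628
theorem L61639 : sm gh N4962 = N7191 := rfl
theorem L61641 : sm ga N7191 = N4977 := ded_17_1 (flp_h L42828) (flp_a L42704) L61639
theorem L61643 : sm gb N7191 = N7191 := ded_25_1 (flp_h L61639) L42706 L61639
theorem L61644 : sm ge N7191 = N4965 := ded_43_1 (flp_h L42730) (flp_e L42709) L61639
theorem L61646 : sm gg N7191 = N4963 := ded_50_1 (flp_h L42712) L42702 L61639
theorem L61648 : sm gd N4963 = N7192 := rfl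
theorem L61650 : sm ga N7192 = N4978 := ded_12_1 (flp_d L42836) (flp_a L42714) L61648
theorem L61652 : sm gb N7192 = N7192 := ded_20_1 (flp_d L61648) L42716 L61648
theorem L61653 : sm gf N7192 = N7192 := ded_35_2 (flp_d L61648) L42719 L61648
theorem L61654 : sm gj N7192 = N7192 := ded_37_2 (flp_d L61648) L42720 L61648
theorem L61655 : sm gh N7192 = N4993 := ded_38_2 (flp_d L42960) (flp_h L29839) (flp_d L29658) L42712 L61648
theorem L61657 : sm gi N4963 = N7193 := rfl
theorem L61659 : sm ga N7193 = N4979 := ded_18_1 (flp_i L42844) (flp_a L42714) L61657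
theorem L61661 : sm gb N7193 = N7193 := ded_26_1 (flp_i L61657) L42716 L61657
theorem L61662 : sm ge N7193 = N4966 := ded_44_1 (flp_i L42737) (flp_e L42717) L61657
theorem L61664 : sm gf N7193 = N7193 := ded_48_1 (flp_i L61657) L42719 L61657
theorem L61665 : sm gj N7193 = N7193 := ded_53_1 (flp_i L61657) L42720 L61657
theorem L61666 : sm gh N7193 = N7193 := ded_54_1 (flp_i L61657) (flp_h L42712) L29657 L42712 L61657
theorem L61667 : sm gh N4964 = N7194 := rfl
theorem L61669 : sm ga N7194 = N4980 := ded_17_1 (flp_h L42853) (flp_a L42723) L61667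
theorem L61671 : sm gb N7194 = N7194 := ded_25_1 (flp_h L61667) L42725 L61667
theorem L61672 : sm gg N7194 = N7194 := ded_50_1 (flp_h L61667) L42729 L61667
theorem L61673 : sm gj N7194 = N4965 := ded_52_1 (flp_h L42730) L42721 L61667
theorem L61675 : sm gi N4965 = N7195 := rfl
theorem L61677 : sm ga N7195 = N4981 := ded_18_1 (flp_i L42860) (flp_a L42732) L61675
theorem L61679 : sm gb N7195 = N7195 := ded_26_1 (flp_i L61675) L42734 L61675
theorem L61680 : sm gg N7195 = N4966 := ded_51_1 (flp_i L42737) (flp_g L42735) L61675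
theorem L61682 : sm gh N7195 = N7195 := ded_54_1 (flp_i L61675) (flp_h L42730) L29668 L42730 L61675
theorem L61683 : sm gf N4967 = N7196 := rfl
theorem L61685 : sm gb N7196 = N7196 := ded_22_1 (flp_f L61683) L42748 L61683
theorem L61686 : sm gc N7196 = N4975 := ded_29_1 (flp_f L42810) (flp_c L42749) L61683
theorem L61688 : sm gd N7196 = N7196 := ded_35_1 (flp_f L61683) L42751 L61683
theorem L61689 : sm gi N7196 = N7196 := ded_48_2 (flp_f L61683) L42754 L61683
theorem L61690 : sm gg N7196 = N7196 := ded_45_2 (flp_f L61683) (flp_g L42746) L29704 L42746 L61683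
theorem L61691 : sm gj N4967 = N7197 := rfl
theorem L61693 : sm gb N7197 = N7197 := ded_24_1 (flp_j L61691) L42748 L61691
theorem L61694 : sm gc N7197 = N4976 := ded_31_1 (flp_j L42818) (flp_c L42749) L61691
theorem L61696 : sm gd N7197 = N7197 := ded_37_1 (flp_j L61691) L42751 L61691
theorem L61697 : sm ge N7197 = N4969 := ded_42_1 (flp_j L42764) (flp_e L42752) L61691
theorem L61699 : sm gi N7197 = N7197 := ded_53_2 (flp_j L61691) L42754 L61691
theorem L61700 : sm gg N7197 = N7197 := ded_49_1 (flp_j L61691) (flp_g L42746) L29701 L42746 L61691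
theorem L61701 : sm gh N4967 = N7198 := rfl
theorem L61703 : sm gb N7198 = N7198 := ded_25_1 (flp_h L61701) L42748 L61701
theorem L61704 : sm gc N7198 = N4977 := ded_32_1 (flp_h L42828) (flp_c L42749) L61701
theorem L61706 : sm ge N7198 = N4970 := ded_43_1 (flp_h L42773) (flp_e L42752) L61701
theorem L61708 : sm gg N7198 = N4968 := ded_50_1 (flp_h L42755) L42746 L61701
theorem L61710 : sm gd N4968 = N7199 := rfl
theorem L61712 : sm gb N7199 = N7199 := ded_20_1 (flp_d L61710) L42757 L61710
theorem L61713 : sm gf N7199 = N7199 := ded_35_2 (flp_d L61710) L42762 L61710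
theorem L61714 : sm gj N7199 = N7199 := ded_37_2 (flp_d L61710) L42763 L61710
theorem L61715 : sm gh N7199 = N7199 := ded_38_2 (flp_d L61710) (flp_h L42755) L29703 L42755 L61710
theorem L61716 : sm gi N4968 = N7200 := rfl
theorem L61718 : sm gb N7200 = N7200 := ded_26_1 (flp_i L61716) L42757 L61716
theorem L61719 : sm gc N7200 = N4979 := ded_33_1 (flp_i L42844) (flp_c L42758) L61716
theorem L61721 : sm ge N7200 = N4972 := ded_44_1 (flp_i L42788) (flp_e L42760) L61716
theorem L61723 : sm gf N7200 = N7200 := ded_48_1 (flp_i L61716) L42762 L61716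
theorem L61724 : sm gj N7200 = N7200 := ded_53_1 (flp_i L61716) L42763 L61716
theorem L61725 : sm gh N7200 = N7200 := ded_54_1 (flp_i L61716) (flp_h L42755) L29702 L42755 L61716
theorem L61726 : sm gh N4969 = N7201 := rfl
theorem L61728 : sm gb N7201 = N7201 := ded_25_1 (flp_h L61726) L42766 L61726
theorem L61729 : sm gc N7201 = N4980 := ded_32_1 (flp_h L42853) (flp_c L42767) L61726
theorem L61731 : sm gg N7201 = N7201 := ded_50_1 (flp_h L61726) L42772 L61726
theorem L61732 : sm gj N7201 = N4970 := ded_52_1 (flp_h L42773) L42764 L61726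
theorem L61734 : sm gd N4970 = N7202 := rfl
theorem L61736 : sm gb N7202 = N7202 := ded_20_1 (flp_d L61734) L42775 L61734
theorem L61737 : sm gg N7202 = N4971 := ded_36_2 (flp_d L42780) (flp_g L42778) L61734
theorem L61739 : sm gh N7202 = N5463 := ded_38_2 (flp_d L47136) (flp_h L32764) (flp_d L29710) L42773 L61734
theorem L61741 : sm gi N4970 = N7203 := rfl
theorem L61743 : sm gb N7203 = N7203 := ded_26_1 (flp_i L61741) L42775 L61741
theorem L61744 : sm gc N7203 = N4981 := ded_33_1 (flp_i L42860) (flp_c L42776) L61741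
theorem L61746 : sm gg N7203 = N4972 := ded_51_1 (flp_i L42788) (flp_g L42778) L61741
theorem L61748 : sm gh N7203 = N7203 := ded_54_1 (flp_i L61741) (flp_h L42773) L29712 L42773 L61741
theorem L61749 : sm ge N4971 = N7204 := rfl
theorem L61751 : sm gb N7204 = N7204 := ded_21_1 (flp_e L61749) L42782 L61749
theorem L61752 : sm gj N7204 = N7204 := ded_42_2 (flp_e L61749) L42785 L61749
theorem L61753 : sm gh N7204 = N5465 := ded_43_2 (flp_e L47150) (flp_h L42786) L61749
theorem L61755 : sm gi N4971 = N7205 := rfl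
theorem L61757 : sm gb N7205 = N7205 := ded_26_1 (flp_i L61755) L42782 L61755
theorem L61758 : sm gd N7205 = N4972 := ded_39_1 (flp_i L42788) L42780 L61755
theorem L61760 : sm gf N7205 = N4974 := ded_48_1 (flp_i L42804) (flp_f L42783) L61755
theorem L61762 : sm gj N7205 = N7205 := ded_53_1 (flp_i L61755) L42785 L61755
theorem L61763 : sm gf N4973 = N7206 := rfl
theorem L61765 : sm gb N7206 = N7206 := ded_22_1 (flp_f L61763) L42799 L61763
theorem L61766 : sm gd N7206 = N7206 := ded_35_1 (flp_f L61763) L42803 L61763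
theorem L61767 : sm gj N7206 = N7206 := ded_46_2 (flp_f L61763) L42800 L61763
theorem L61768 : sm gh N7206 = N5467 := ded_47_2 (flp_f L47163) (flp_h L42801) L61763
theorem L61770 : sm gi N4973 = N7207 := rfl
theorem L61772 : sm gb N7207 = N7207 := ded_26_1 (flp_i L61770) L42799 L61770
theorem L61773 : sm gd N7207 = N7207 := ded_39_1 (flp_i L61770) L42803 L61770
theorem L61774 : sm ge N7207 = N4974 := ded_44_1 (flp_i L42804) L42797 L61770
theorem L61776 : sm gj N7207 = N7207 := ded_53_1 (flp_i L61770) L42800 L61770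
theorem L61777 : sm gh N4974 = N7208 := rfl
theorem L61784 : sm gj N4975 = N7209 := rfl
theorem L61786 : sm gb N7209 = N4982 := ded_24_1 (flp_j L42867) (flp_b L42812) L61784
theorem L61788 : sm gd N7209 = N4997 := ded_37_1 (flp_j L42998) (flp_d L42814) L61784
theorem L61790 : sm gf N7209 = N4976 := ded_46_1 (flp_j L42818) L42810 L61784
theorem L61792 : sm gi N7209 = N7209 := ded_53_2 (flp_j L61784) L42816 L61784
theorem L61793 : sm gh N4975 = N7210 := rfl
theorem L61795 : sm gb N7210 = N4983 := ded_25_1 (flp_h L42876) (flp_b L42812) L61793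
theorem L61797 : sm gf N7210 = N4977 := ded_47_1 (flp_h L42828) L42810 L61793
theorem L61799 : sm gg N7210 = N7210 := ded_50_1 (flp_h L61793) L42817 L61793
theorem L61800 : sm gh N4976 = N7211 := rfl
theorem L61802 : sm gb N7211 = N4984 := ded_25_1 (flp_h L42883) (flp_b L42820) L61800
theorem L61804 : sm ge N7211 = N4980 := ded_43_1 (flp_h L42853) (flp_e L42824) L61800
theorem L61806 : sm gg N7211 = N7211 := ded_50_1 (flp_h L61800) L42827 L61800
theorem L61807 : sm gj N7211 = N4977 := ded_52_1 (flp_h L42828) L42818 L61800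
theorem L61809 : sm gd N4977 = N7212 := rfl
theorem L61811 : sm gb N7212 = N4985 := ded_20_1 (flp_d L42892) (flp_b L42830) L61809
theorem L61813 : sm gg N7212 = N4978 := ded_36_2 (flp_d L42836) (flp_g L42834) L61809
theorem L61815 : sm gh N7212 = N5000 := ded_38_2 (flp_d L43026) (flp_h L29896) (flp_d L29739) L42828 L61809
theorem L61817 : sm gi N4977 = N7213 := rfl
theorem L61819 : sm gb N7213 = N4986 := ded_26_1 (flp_i L42899) (flp_b L42830) L61817
theorem L61821 : sm ge N7213 = N4981 := ded_44_1 (flp_i L42860) (flp_e L42832) L61817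
theorem L61823 : sm gg N7213 = N4979 := ded_51_1 (flp_i L42844) (flp_g L42834) L61817
theorem L61825 : sm gh N7213 = N7213 := ded_54_1 (flp_i L61817) (flp_h L42828) L29743 L42828 L61817
theorem L61826 : sm gc N4978 = N7214 := rfl
theorem L61828 : sm gf N7214 = N7214 := ded_29_2 (flp_c L61826) L42840 L61826
theorem L61829 : sm gj N7214 = N7214 := ded_31_2 (flp_c L61826) L42841 L61826
theorem L61830 : sm gh N7214 = N5002 := ded_32_2 (flp_c L43042) (flp_h L42842) L61826
theorem L61832 : sm gi N4978 = N7215 := rfl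
theorem L61834 : sm gb N7215 = N4988 := ded_26_1 (flp_i L42916) (flp_b L42838) L61832
theorem L61836 : sm gd N7215 = N4979 := ded_39_1 (flp_i L42844) L42836 L61832
theorem L61838 : sm gf N7215 = N7215 := ded_48_1 (flp_i L61832) L42840 L61832
theorem L61839 : sm gj N7215 = N7215 := ded_53_1 (flp_i L61832) L42841 L61832
theorem L61840 : sm gi N4980 = N7216 := rfl
theorem L61842 : sm gb N7216 = N4989 := ded_26_1 (flp_i L42923) (flp_b L42855) L61840
theorem L61844 : sm gg N7216 = N7216 := ded_51_1 (flp_i L61840) L42857 L61840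
theorem L61845 : sm gj N7216 = N4981 := ded_53_1 (flp_i L42860) (flp_j L42858) L61840
theorem L61847 : sm gh N7216 = N7216 := ded_54_1 (flp_i L61840) (flp_h L42853) L29758 L42853 L61840
theorem L61848 : sm gg N4982 = N7217 := rfl
theorem L61850 : sm ga N7217 = N7217 := ded_15_1 (flp_g L61848) L42869 L61848
theorem L61851 : sm gc N7217 = N7217 := ded_30_1 (flp_g L61848) L42870 L61848
theorem L61852 : sm gd N7217 = N5005 := ded_36_1 (flp_g L43065) (flp_d L42871) L61848
theorem L61854 : sm gi N7217 = N7217 := ded_51_2 (flp_g L61848) L42875 L61848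
theorem L61855 : sm gf N7217 = N7217 := ded_45_1 (flp_g L61848) L42873 L29791 (flp_f L42873) L61848
theorem L61856 : sm gj N7217 = N7217 := ded_49_2 (flp_g L61848) (flp_j L42867) L29781 L42867 L61848
theorem L61857 : sm gh N4982 = N7218 := rfl
theorem L61859 : sm ga N7218 = N7218 := ded_17_1 (flp_h L61857) L42869 L61857
theorem L61860 : sm gc N7218 = N7218 := ded_32_1 (flp_h L61857) L42870 L61857
theorem L61861 : sm gf N7218 = N4984 := ded_47_1 (flp_h L42883) (flp_f L42873) L61857
theorem L61863 : sm gj N7218 = N4983 := ded_52_1 (flp_h L42876) L42867 L61857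
theorem L61865 : sm gd N4983 = N7219 := rfl
theorem L61867 : sm ga N7219 = N7219 := ded_12_1 (flp_d L61865) L42878 L61865
theorem L61868 : sm gf N7219 = N4985 := ded_35_2 (flp_d L42892) (flp_f L42880) L61865
theorem L61870 : sm gg N7219 = N7219 := ded_36_2 (flp_d L61865) L42882 L61865
theorem L61871 : sm gh N7219 = N5007 := ded_38_2 (flp_d L43084) (flp_h L29948) (flp_d L29778) L42876 L61865
theorem L61873 : sm gi N4983 = N7220 := rfl
theorem L61875 : sm ga N7220 = N7220 := ded_18_1 (flp_i L61873) L42878 L61873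
theorem L61876 : sm gc N7220 = N7220 := ded_33_1 (flp_i L61873) L42879 L61873
theorem L61877 : sm gf N7220 = N4986 := ded_48_1 (flp_i L42899) (flp_f L42880) L61873
theorem L61879 : sm gg N7220 = N7220 := ded_51_1 (flp_i L61873) L42882 L61873
theorem L61880 : sm gh N7220 = N7220 := ded_54_1 (flp_i L61873) (flp_h L42876) L29780 L42876 L61873
theorem L61881 : sm gd N4984 = N7221 := rfl
theorem L61883 : sm ga N7221 = N7221 := ded_12_1 (flp_d L61881) L42885 L61881
theorem L61884 : sm gg N7221 = N7221 := ded_36_2 (flp_d L61881) L42889 L61881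
theorem L61885 : sm gj N7221 = N4985 := ded_37_2 (flp_d L42892) (flp_j L42890) L61881
theorem L61887 : sm gh N7221 = N5009 := ded_38_2 (flp_d L43100) (flp_h L29957) (flp_d L29786) L42883 L61881
theorem L61889 : sm gi N4984 = N7222 := rfl
theorem L61891 : sm ga N7222 = N7222 := ded_18_1 (flp_i L61889) L42885 L61889
theorem L61892 : sm gc N7222 = N7222 := ded_33_1 (flp_i L61889) L42886 L61889
theorem L61893 : sm ge N7222 = N4989 := ded_44_1 (flp_i L42923) (flp_e L42887) L61889
theorem L61895 : sm gg N7222 = N7222 := ded_51_1 (flp_i L61889) L42889 L61889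
theorem L61896 : sm gj N7222 = N4986 := ded_53_1 (flp_i L42899) (flp_j L42890) L61889
theorem L61898 : sm gh N7222 = N7222 := ded_54_1 (flp_i L61889) (flp_h L42883) L29790 L42883 L61889
theorem L61899 : sm gc N4985 = N7223 := rfl
theorem L61901 : sm ga N7223 = N7223 := ded_11_1 (flp_c L61899) L42894 L61899
theorem L61902 : sm gg N7223 = N4987 := ded_30_2 (flp_c L42908) (flp_g L42895) L61899
theorem L61904 : sm gh N7223 = N5011 := ded_32_2 (flp_c L43117) (flp_h L42897) L61899
theorem L61906 : sm gd N7223 = N7223 := ded_27_2 (flp_c L61899) (flp_d L42892) L29795 L42892 L61899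
theorem L61907 : sm gi N4985 = N7224 := rfl
theorem L61909 : sm ga N7224 = N7224 := ded_18_1 (flp_i L61907) L42894 L61907
theorem L61910 : sm gd N7224 = N4986 := ded_39_1 (flp_i L42899) L42892 L61907
theorem L61912 : sm gg N7224 = N4988 := ded_51_1 (flp_i L42916) (flp_g L42895) L61907
theorem L61914 : sm gb N4987 = N7225 := rfl
theorem L61916 : sm gd N7225 = N7225 := ded_20_2 (flp_b L61914) L42915 L61914
theorem L61917 : sm gf N7225 = N7225 := ded_22_2 (flp_b L61914) L42911 L61914
theorem L61918 : sm gj N7225 = N7225 := ded_24_2 (flp_b L61914) L42912 L61914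
theorem L61919 : sm gh N7225 = N5013 := ded_25_2 (flp_b L43131) (flp_h L42913) L61914
theorem L61921 : sm gi N4987 = N7226 := rfl
theorem L61923 : sm ga N7226 = N7226 := ded_18_1 (flp_i L61921) L42910 L61921
theorem L61924 : sm gc N7226 = N4988 := ded_33_1 (flp_i L42916) L42908 L61921
theorem L61926 : sm gd N7226 = N7226 := ded_39_1 (flp_i L61921) L42915 L61921
theorem L61927 : sm gf N7226 = N7226 := ded_48_1 (flp_i L61921) L42911 L61921
theorem L61928 : sm gj N7226 = N7226 := ded_53_1 (flp_i L61921) L42912 L61921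
theorem L61929 : sm gh N4988 = N7227 := rfl
theorem L61931 : sm ga N7227 = N7227 := ded_17_1 (flp_h L61929) L42918 L61929
theorem L61932 : sm gf N7227 = N7227 := ded_47_1 (flp_h L61929) L42921 L61929
theorem L61933 : sm gj N7227 = N7227 := ded_52_1 (flp_h L61929) L42922 L61929
theorem L61934 : sm gd N7227 = N7227 := ded_38_1 (flp_h L61929) L42919 L29815 (flp_d L42919) L61929
theorem L61935 : sm gi N7227 = N5015 := ded_54_2 (flp_h L43146) (flp_i L29989) (flp_h L29805) L42916 L61929
theorem L61937 : sm gj N4990 = N7228 := rfl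
theorem L61939 : sm ga N7228 = N4997 := ded_16_1 (flp_j L42998) (flp_a L42933) L61937
theorem L61941 : sm gb N7228 = N7228 := ded_24_1 (flp_j L61937) L42935 L61937
theorem L61942 : sm gc N7228 = N7228 := ded_31_1 (flp_j L61937) L42936 L61937
theorem L61943 : sm ge N7228 = N7228 := ded_42_1 (flp_j L61937) L42938 L61937
theorem L61944 : sm gf N7228 = N4991 := ded_46_1 (flp_j L42940) L42931 L61937
theorem L61946 : sm gi N7228 = N7228 := ded_53_2 (flp_j L61937) L42937 L61937
theorem L61947 : sm gh N4990 = N7229 := rfl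
theorem L61949 : sm ga N7229 = N4998 := ded_17_1 (flp_h L43007) (flp_a L42933) L61947
theorem L61951 : sm gb N7229 = N7229 := ded_25_1 (flp_h L61947) L42935 L61947
theorem L61952 : sm gc N7229 = N7229 := ded_32_1 (flp_h L61947) L42936 L61947
theorem L61953 : sm ge N7229 = N7229 := ded_43_1 (flp_h L61947) L42938 L61947
theorem L61954 : sm gf N7229 = N4992 := ded_47_1 (flp_h L42950) L42931 L61947
theorem L61956 : sm gg N7229 = N7229 := ded_50_1 (flp_h L61947) L42939 L61947
theorem L61957 : sm gh N4991 = N7230 := rfl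
theorem L61959 : sm ga N7230 = N4999 := ded_17_1 (flp_h L43016) (flp_a L42942) L61957
theorem L61961 : sm gb N7230 = N7230 := ded_25_1 (flp_h L61957) L42944 L61957
theorem L61962 : sm gc N7230 = N7230 := ded_32_1 (flp_h L61957) L42945 L61957
theorem L61963 : sm ge N7230 = N4995 := ded_43_1 (flp_h L42978) (flp_e L42946) L61957
theorem L61965 : sm gg N7230 = N7230 := ded_50_1 (flp_h L61957) L42949 L61957
theorem L61966 : sm gj N7230 = N4992 := ded_52_1 (flp_h L42950) L42940 L61957
theorem L61968 : sm gd N4992 = N7231 := rfl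
theorem L61970 : sm ga N7231 = N5000 := ded_12_1 (flp_d L43026) (flp_a L42952) L61968
theorem L61972 : sm gb N7231 = N7231 := ded_20_1 (flp_d L61968) L42954 L61968
theorem L61973 : sm gg N7231 = N4993 := ded_36_2 (flp_d L42960) (flp_g L42958) L61968
theorem L61975 : sm gi N4992 = N7232 := rfl
theorem L61977 : sm ga N7232 = N5001 := ded_18_1 (flp_i L43032) (flp_a L42952) L61975
theorem L61979 : sm gb N7232 = N7232 := ded_26_1 (flp_i L61975) L42954 L61975
theorem L61980 : sm gc N7232 = N7232 := ded_33_1 (flp_i L61975) L42955 L61975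
theorem L61981 : sm ge N7232 = N4996 := ded_44_1 (flp_i L42988) (flp_e L42956) L61975
theorem L61983 : sm gg N7232 = N4994 := ded_51_1 (flp_i L42967) (flp_g L42958) L61975
theorem L61985 : sm gh N7232 = N7232 := ded_54_1 (flp_i L61975) (flp_h L42950) L29838 L42950 L61975
theorem L61986 : sm gc N4993 = N7233 := rfl
theorem L61988 : sm ga N7233 = N5002 := ded_11_1 (flp_c L43042) (flp_a L42962) L61986
theorem L61990 : sm gf N7233 = N7233 := ded_29_2 (flp_c L61986) L42965 L61986
theorem L61991 : sm gj N7233 = N7233 := ded_31_2 (flp_c L61986) L42966 L61986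
theorem L61992 : sm gd N7233 = N7233 := ded_27_2 (flp_c L61986) (flp_d L42960) L29844 L42960 L61986
theorem L61993 : sm gi N4993 = N7234 := rfl
theorem L61995 : sm ga N7234 = N5003 := ded_18_1 (flp_i L43047) (flp_a L42962) L61993
theorem L61997 : sm gb N7234 = N7234 := ded_26_1 (flp_i L61993) L42964 L61993
theorem L61998 : sm gd N7234 = N4994 := ded_39_1 (flp_i L42967) L42960 L61993
theorem L62000 : sm gf N7234 = N7234 := ded_48_1 (flp_i L61993) L42965 L61993
theorem L62001 : sm gj N7234 = N7234 := ded_53_1 (flp_i L61993) L42966 L61993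
theorem L62002 : sm gi N4995 = N7235 := rfl
theorem L62004 : sm ga N7235 = N5004 := ded_18_1 (flp_i L43055) (flp_a L42980) L62002
theorem L62006 : sm gb N7235 = N7235 := ded_26_1 (flp_i L62002) L42982 L62002
theorem L62007 : sm gc N7235 = N7235 := ded_33_1 (flp_i L62002) L42983 L62002
theorem L62008 : sm gf N7235 = N7235 := ded_48_1 (flp_i L62002) L42984 L62002
theorem L62009 : sm gg N7235 = N7235 := ded_51_1 (flp_i L62002) L42985 L62002
theorem L62010 : sm gj N7235 = N4996 := ded_53_1 (flp_i L42988) (flp_j L42986) L62002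
theorem L62012 : sm gh N7235 = N7235 := ded_54_1 (flp_i L62002) (flp_h L42978) L29858 L42978 L62002
theorem L62013 : sm gg N4997 = N7236 := rfl
theorem L62015 : sm gb N7236 = N5005 := ded_23_1 (flp_g L43065) (flp_b L43000) L62013
theorem L62017 : sm gc N7236 = N7236 := ded_30_1 (flp_g L62013) L43002 L62013
theorem L62018 : sm ge N7236 = N7236 := ded_41_1 (flp_g L62013) L43003 L62013
theorem L62019 : sm gi N7236 = N7236 := ded_51_2 (flp_g L62013) L43006 L62013
theorem L62020 : sm gf N7236 = N7236 := ded_45_1 (flp_g L62013) L43004 L29895 (flp_f L43004) L62013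
theorem L62021 : sm gj N7236 = N7236 := ded_49_2 (flp_g L62013) (flp_j L42998) L29886 L42998 L62013
theorem L62022 : sm gh N4997 = N7237 := rfl
theorem L62024 : sm gb N7237 = N5006 := ded_25_1 (flp_h L43074) (flp_b L43000) L62022
theorem L62026 : sm gc N7237 = N7237 := ded_32_1 (flp_h L62022) L43002 L62022
theorem L62027 : sm ge N7237 = N7237 := ded_43_1 (flp_h L62022) L43003 L62022
theorem L62028 : sm gf N7237 = N4999 := ded_47_1 (flp_h L43016) (flp_f L43004) L62022
theorem L62030 : sm gj N7237 = N4998 := ded_52_1 (flp_h L43007) L42998 L62022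
theorem L62032 : sm gd N4998 = N7238 := rfl
theorem L62034 : sm gb N7238 = N5007 := ded_20_1 (flp_d L43084) (flp_b L43009) L62032
theorem L62036 : sm gf N7238 = N5000 := ded_35_2 (flp_d L43026) (flp_f L43013) L62032
theorem L62038 : sm gg N7238 = N7238 := ded_36_2 (flp_d L62032) L43015 L62032
theorem L62039 : sm gi N4998 = N7239 := rfl
theorem L62041 : sm gb N7239 = N5008 := ded_26_1 (flp_i L43090) (flp_b L43009) L62039
theorem L62043 : sm gc N7239 = N7239 := ded_33_1 (flp_i L62039) L43011 L62039
theorem L62044 : sm ge N7239 = N7239 := ded_44_1 (flp_i L62039) L43012 L62039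
theorem L62045 : sm gf N7239 = N5001 := ded_48_1 (flp_i L43032) (flp_f L43013) L62039
theorem L62047 : sm gg N7239 = N7239 := ded_51_1 (flp_i L62039) L43015 L62039
theorem L62048 : sm gh N7239 = N7239 := ded_54_1 (flp_i L62039) (flp_h L43007) L29884 L43007 L62039
theorem L62049 : sm gd N4999 = N7240 := rfl
theorem L62051 : sm gb N7240 = N5009 := ded_20_1 (flp_d L43100) (flp_b L43018) L62049
theorem L62053 : sm gg N7240 = N7240 := ded_36_2 (flp_d L62049) L43023 L62049
theorem L62054 : sm gj N7240 = N5000 := ded_37_2 (flp_d L43026) (flp_j L43024) L62049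
theorem L62056 : sm gi N4999 = N7241 := rfl
theorem L62058 : sm gb N7241 = N5010 := ded_26_1 (flp_i L43106) (flp_b L43018) L62056
theorem L62060 : sm gc N7241 = N7241 := ded_33_1 (flp_i L62056) L43020 L62056
theorem L62061 : sm ge N7241 = N5004 := ded_44_1 (flp_i L43055) (flp_e L43021) L62056
theorem L62063 : sm gg N7241 = N7241 := ded_51_1 (flp_i L62056) L43023 L62056
theorem L62064 : sm gj N7241 = N5001 := ded_53_1 (flp_i L43032) (flp_j L43024) L62056
theorem L62066 : sm gh N7241 = N7241 := ded_54_1 (flp_i L62056) (flp_h L43016) L29894 L43016 L62056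
theorem L62067 : sm gc N5000 = N7242 := rfl
theorem L62069 : sm gg N7242 = N5002 := ded_30_2 (flp_c L43042) (flp_g L43030) L62067
theorem L62071 : sm gd N7242 = N7242 := ded_27_2 (flp_c L62067) (flp_d L43026) L29900 L43026 L62067
theorem L62072 : sm gi N5000 = N7243 := rfl
theorem L62074 : sm gb N7243 = N5012 := ded_26_1 (flp_i L43124) (flp_b L43028) L62072
theorem L62076 : sm gd N7243 = N5001 := ded_39_1 (flp_i L43032) L43026 L62072
theorem L62078 : sm gg N7243 = N5003 := ded_51_1 (flp_i L43047) (flp_g L43030) L62072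
theorem L62080 : sm gb N5002 = N7244 := rfl
theorem L62082 : sm gd N7244 = N7244 := ded_20_2 (flp_b L62080) L43046 L62080
theorem L62083 : sm gf N7244 = N7244 := ded_22_2 (flp_b L62080) L43044 L62080
theorem L62084 : sm gj N7244 = N7244 := ded_24_2 (flp_b L62080) L43045 L62080
theorem L62085 : sm gc N7244 = N5013 := ded_19_2 (flp_b L43131) (flp_c L29982) (flp_b L29907) L43042 L62080
theorem L62087 : sm gi N5002 = N7245 := rfl
theorem L62089 : sm gc N7245 = N5003 := ded_33_1 (flp_i L43047) L43042 L62087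
theorem L62091 : sm gd N7245 = N7245 := ded_39_1 (flp_i L62087) L43046 L62087
theorem L62092 : sm gf N7245 = N7245 := ded_48_1 (flp_i L62087) L43044 L62087
theorem L62093 : sm gj N7245 = N7245 := ded_53_1 (flp_i L62087) L43045 L62087
theorem L62094 : sm gh N5003 = N7246 := rfl
theorem L62096 : sm gb N7246 = N5015 := ded_25_1 (flp_h L43146) (flp_b L43049) L62094
theorem L62098 : sm gf N7246 = N7246 := ded_47_1 (flp_h L62094) L43053 L62094
theorem L62099 : sm gj N7246 = N7246 := ded_52_1 (flp_h L62094) L43054 L62094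
theorem L62100 : sm gd N7246 = N7246 := ded_38_1 (flp_h L62094) L43051 L29920 (flp_d L43051) L62094
theorem L62101 : sm gh N5005 = N7247 := rfl
theorem L62108 : sm gg N7247 = N5006 := ded_50_1 (flp_h L43074) L43065 L62101
theorem L62111 : sm gd N5006 = N7248 := rfl
theorem L62113 : sm ga N7248 = N7248 := ded_12_1 (flp_d L62111) L43076 L62111
theorem L62114 : sm gf N7248 = N5009 := ded_35_2 (flp_d L43100) (flp_f L43080) L62111
theorem L62116 : sm gj N7248 = N5007 := ded_37_2 (flp_d L43084) (flp_j L43082) L62111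
theorem L62118 : sm gi N5006 = N7249 := rfl
theorem L62126 : sm gj N7249 = N5008 := ded_53_1 (flp_i L43090) (flp_j L43082) L62118
theorem L62129 : sm gc N5007 = N7250 := rfl
theorem L62131 : sm ga N7250 = N7250 := ded_11_1 (flp_c L62129) L43086 L62129
theorem L62132 : sm gf N7250 = N5011 := ded_29_2 (flp_c L43117) (flp_f L43087) L62129
theorem L62134 : sm gg N7250 = N7250 := ded_30_2 (flp_c L62129) L43089 L62129
theorem L62135 : sm gd N7250 = N5019 := ded_27_2 (flp_c L43180) (flp_d L30024) (flp_c L29951) L43084 L62129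
theorem L62137 : sm ge N5007 = N7251 := rfl
theorem L62139 : sm ga N7251 = N7251 := ded_13_1 (flp_e L62137) L43086 L62137
theorem L62140 : sm gg N7251 = N7251 := ded_41_2 (flp_e L62137) L43089 L62137
theorem L62141 : sm gd N7251 = N7251 := ded_34_1 (flp_e L62137) (flp_d L43084) L29953 L43084 L62137
theorem L62142 : sm gi N5007 = N7252 := rfl
theorem L62144 : sm ga N7252 = N7252 := ded_18_1 (flp_i L62142) L43086 L62142
theorem L62145 : sm gd N7252 = N5008 := ded_39_1 (flp_i L43090) L43084 L62142
theorem L62147 : sm gf N7252 = N5012 := ded_48_1 (flp_i L43124) (flp_f L43087) L62142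
theorem L62149 : sm gg N7252 = N7252 := ded_51_1 (flp_i L62142) L43089 L62142
theorem L62150 : sm gc N5009 = N7253 := rfl
theorem L62154 : sm gj N7253 = N5011 := ded_31_2 (flp_c L43117) (flp_j L43104) L62150
theorem L62156 : sm gd N7253 = N5022 := ded_27_2 (flp_c L43204) (flp_d L30041) (flp_c L29960) L43100 L62150
theorem L62158 : sm gi N5009 = N7254 := rfl
theorem L62166 : sm gb N5011 = N7255 := rfl
theorem L62168 : sm gd N7255 = N5024 := ded_20_2 (flp_b L43222) (flp_d L43122) L62166
theorem L62170 : sm gg N7255 = N5013 := ded_23_2 (flp_b L43131) (flp_g L43120) L62166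
theorem L62172 : sm gi N5011 = N7256 := rfl
theorem L62177 : sm gd N7256 = N5025 := ded_39_1 (flp_i L43229) (flp_d L43122) L62172
theorem L62179 : sm gg N7256 = N5014 := ded_51_1 (flp_i L43137) (flp_g L43120) L62172
theorem L62181 : sm gh N5012 = N7257 := rfl
theorem L62183 : sm ga N7257 = N7257 := ded_17_1 (flp_h L62181) L43126 L62181
theorem L62184 : sm gg N7257 = N5015 := ded_50_1 (flp_h L43146) (flp_g L43129) L62181
theorem L62186 : sm gd N7257 = N7257 := ded_38_1 (flp_h L62181) L43127 L29981 (flp_d L43127) L62181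
theorem L62187 : sm ga N5013 = N7258 := rfl
theorem L62189 : sm gd N7258 = N5027 := ded_12_2 (flp_a L43246) (flp_d L43133) L62187
theorem L62191 : sm gf N7258 = N7258 := ded_14_2 (flp_a L62187) L43135 L62187
theorem L62192 : sm gj N7258 = N7258 := ded_16_2 (flp_a L62187) L43136 L62187
theorem L62193 : sm gb N7258 = N7258 := ded_10_2 (flp_a L62187) (flp_b L43131) L29984 L43131 L62187
theorem L62194 : sm gi N5013 = N7259 := rfl
theorem L62196 : sm gb N7259 = N5014 := ded_26_1 (flp_i L43137) L43131 L62194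
theorem L62198 : sm gd N7259 = N5028 := ded_39_1 (flp_i L43254) (flp_d L43133) L62194
theorem L62200 : sm gf N7259 = N7259 := ded_48_1 (flp_i L62194) L43135 L62194
theorem L62201 : sm gj N7259 = N7259 := ded_53_1 (flp_i L62194) L43136 L62194
theorem L62202 : sm gh N5014 = N7260 := rfl
theorem L62204 : sm ga N7260 = N7260 := ded_17_1 (flp_h L62202) L43139 L62202
theorem L62205 : sm gc N7260 = N5015 := ded_32_1 (flp_h L43146) (flp_c L43140) L62202
theorem L62207 : sm gf N7260 = N7260 := ded_47_1 (flp_h L62202) L43144 L62202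
theorem L62208 : sm gj N7260 = N7260 := ded_52_1 (flp_h L62202) L43145 L62202
theorem L62209 : sm gd N5016 = N7261 := rfl
theorem L62214 : sm gg N7261 = N5017 := ded_36_2 (flp_d L43161) (flp_g L43158) L62209
theorem L62228 : sm gc N5017 = N7263 := rfl
theorem L62231 : sm gf N7263 = N5022 := ded_29_2 (flp_c L43204) (flp_f L43165) L62228
theorem L62233 : sm gj N7263 = N5019 := ded_31_2 (flp_c L43180) (flp_j L43167) L62228
theorem L62255 : sm gb N5019 = N7266 := rfl
theorem L62257 : sm gf N7266 = N5024 := ded_22_2 (flp_b L43222) (flp_f L43183) L62255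
theorem L62262 : sm ge N5019 = N7267 := rfl
theorem L62270 : sm gi N5019 = N7268 := rfl
theorem L62275 : sm gf N7268 = N5025 := ded_48_1 (flp_i L43229) (flp_f L43183) L62270
theorem L62296 : sm gb N5022 = N7271 := rfl
theorem L62300 : sm gj N7271 = N5024 := ded_24_2 (flp_b L43222) (flp_j L43209) L62296
theorem L62304 : sm gi N5022 = N7272 := rfl
theorem L62311 : sm gj N7272 = N5025 := ded_53_1 (flp_i L43229) (flp_j L43209) L62304
theorem L62323 : sm ga N5024 = N7274 := rfl
theorem L62325 : sm gc N7274 = N7274 := ded_11_2 (flp_a L62323) L43228 L62323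
theorem L62326 : sm ge N7274 = N7274 := ded_13_2 (flp_a L62323) L43224 L62323
theorem L62327 : sm gg N7274 = N5027 := ded_15_2 (flp_a L43246) (flp_g L43225) L62323
theorem L62329 : sm gh N7274 = N7274 := ded_17_2 (flp_a L62323) L43227 L62323
theorem L62330 : sm gb N7274 = N7274 := ded_10_2 (flp_a L62323) (flp_b L43222) L30062 L43222 L62323
theorem L62331 : sm gi N5024 = N7275 := rfl
theorem L62333 : sm gb N7275 = N5025 := ded_26_1 (flp_i L43229) L43222 L62331
theorem L62337 : sm gg N7275 = N5028 := ded_51_1 (flp_i L43254) (flp_g L43225) L62331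
theorem L62339 : sm gh N5025 = N7276 := rfl
theorem L62345 : sm gg N7276 = N5029 := ded_50_1 (flp_h L43262) (flp_g L43235) L62339
theorem L62348 : sm gi N5027 = N7277 := rfl
theorem L62350 : sm ga N7277 = N5028 := ded_18_1 (flp_i L43254) L43246 L62348
theorem L62352 : sm gb N7277 = N7277 := ded_26_1 (flp_i L62348) L43253 L62348
theorem L62353 : sm gc N7277 = N7277 := ded_33_1 (flp_i L62348) L43248 L62348
theorem L62354 : sm ge N7277 = N7277 := ded_44_1 (flp_i L62348) L43249 L62348
theorem L62355 : sm gf N7277 = N7277 := ded_48_1 (flp_i L62348) L43250 L62348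
theorem L62356 : sm gj N7277 = N7277 := ded_53_1 (flp_i L62348) L43251 L62348
theorem L62357 : sm gh N5028 = N7278 := rfl
theorem L62359 : sm gb N7278 = N5029 := ded_25_1 (flp_h L43262) (flp_b L43256) L62357
theorem L62362 : sm ge N7278 = N7278 := ded_43_1 (flp_h L62357) L43259 L62357
theorem L62363 : sm gf N7278 = N7278 := ded_47_1 (flp_h L62357) L43260 L62357
theorem L62366 : sm gd N5029 = N7279 := rfl
theorem L62372 : sm gc N7279 = N7279 := ded_27_1 (flp_d L62366) L43265 L30098 (flp_c L43265) L62366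
theorem L62373 : sm ge N5030 = N7280 := rfl
theorem L62375 : sm ga N7280 = N5541 := ded_13_1 (flp_e L47811) (flp_a L43273) L62373
theorem L62377 : sm gb N7280 = N7280 := ded_21_1 (flp_e L62373) L43275 L62373
theorem L62378 : sm gc N7280 = N7280 := ded_28_1 (flp_e L62373) L43276 L62373
theorem L62379 : sm gg N7280 = N7280 := ded_41_2 (flp_e L62373) L43280 L62373
theorem L62380 : sm gj N7280 = N7280 := ded_42_2 (flp_e L62373) L43279 L62373
theorem L62381 : sm gd N7280 = N7280 := ded_34_1 (flp_e L62373) L43277 L30119 (flp_d L43277) L62373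
theorem L62382 : sm gf N7280 = N7280 := ded_40_2 (flp_e L62373) (flp_f L43271) L30109 L43271 L62373
theorem L62383 : sm gh N5030 = N7281 := rfl
theorem L62385 : sm ga N7281 = N5542 := ded_17_1 (flp_h L47818) (flp_a L43273) L62383
theorem L62387 : sm gb N7281 = N7281 := ded_25_1 (flp_h L62383) L43275 L62383
theorem L62388 : sm gc N7281 = N7281 := ded_32_1 (flp_h L62383) L43276 L62383
theorem L62389 : sm gf N7281 = N5031 := ded_47_1 (flp_h L43281) L43271 L62383
theorem L62391 : sm gg N7281 = N7281 := ded_50_1 (flp_h L62383) L43280 L62383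
theorem L62392 : sm gj N7281 = N7281 := ded_52_1 (flp_h L62383) L43279 L62383
theorem L62393 : sm gd N7281 = N7281 := ded_38_1 (flp_h L62383) L43277 L30118 (flp_d L43277) L62383
theorem L62394 : sm gi N5030 = N7282 := rfl
theorem L62396 : sm ga N7282 = N5543 := ded_18_1 (flp_i L47826) (flp_a L43273) L62394
theorem L62398 : sm gb N7282 = N7282 := ded_26_1 (flp_i L62394) L43275 L62394
theorem L62399 : sm gc N7282 = N7282 := ded_33_1 (flp_i L62394) L43276 L62394
theorem L62400 : sm gd N7282 = N5033 := ded_39_1 (flp_i L43304) (flp_d L43277) L62394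
theorem L62402 : sm gf N7282 = N5032 := ded_48_1 (flp_i L43292) L43271 L62394
theorem L62404 : sm gg N7282 = N7282 := ded_51_1 (flp_i L62394) L43280 L62394
theorem L62405 : sm gj N7282 = N7282 := ded_53_1 (flp_i L62394) L43279 L62394
theorem L62406 : sm gi N5031 = N7283 := rfl
theorem L62414 : sm gg N7283 = N5048 := ded_51_1 (flp_i L43454) (flp_g L43288) L62406
theorem L62417 : sm gh N5032 = N7284 := rfl
theorem L62427 : sm gh N5033 = N7285 := rfl
theorem L62429 : sm ga N7285 = N5546 := ded_17_1 (flp_h L47850) (flp_a L43306) L62427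
theorem L62432 : sm gc N7285 = N5036 := ded_32_1 (flp_h L43340) (flp_c L43309) L62427
theorem L62440 : sm gd N5034 = N7286 := rfl
theorem L62445 : sm gg N7286 = N5050 := ded_36_2 (flp_d L43475) (flp_g L43325) L62440
theorem L62449 : sm gc N5035 = N7287 := rfl
theorem L62453 : sm gf N7287 = N7287 := ded_29_2 (flp_c L62449) L43334 L62449
theorem L62454 : sm gg N7287 = N5051 := ded_30_2 (flp_c L43484) (flp_g L43335) L62449
theorem L62459 : sm gd N7287 = N5038 := ded_27_2 (flp_c L43359) (flp_d L30165) (flp_c L30138) L43329 L62449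
theorem L62471 : sm gd N5036 = N7289 := rfl
theorem L62473 : sm ga N7289 = N5550 := ded_12_1 (flp_d L47883) (flp_a L43342) L62471
theorem L62475 : sm gf N7289 = N5037 := ded_35_2 (flp_d L43350) (flp_f L43345) L62471
theorem L62477 : sm gg N7289 = N7289 := ded_36_2 (flp_d L62471) L43347 L62471
theorem L62478 : sm gj N7289 = N7289 := ded_37_2 (flp_d L62471) L43348 L62471
theorem L62479 : sm gi N7289 = N7289 := ded_39_2 (flp_d L62471) L43349 L62471
theorem L62480 : sm gh N7289 = N7289 := ded_38_2 (flp_d L62471) (flp_h L43340) L30149 L43340 L62471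
theorem L62481 : sm gc N5037 = N7290 := rfl
theorem L62483 : sm ga N7290 = N5551 := ded_11_1 (flp_c L47892) (flp_a L43352) L62481
theorem L62485 : sm gg N7290 = N5053 := ded_30_2 (flp_c L43505) (flp_g L43354) L62481
theorem L62490 : sm ge N5037 = N7291 := rfl
theorem L62492 : sm ga N7291 = N5552 := ded_13_1 (flp_e L47899) (flp_a L43352) L62490
theorem L62494 : sm gg N7291 = N5054 := ded_41_2 (flp_e L43514) (flp_g L43354) L62490
theorem L62496 : sm gj N7291 = N7291 := ded_42_2 (flp_e L62490) L43356 L62490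
theorem L62497 : sm gh N7291 = N7291 := ded_43_2 (flp_e L62490) L43358 L62490
theorem L62498 : sm gi N7291 = N7291 := ded_44_2 (flp_e L62490) L43357 L62490
theorem L62499 : sm gd N7291 = N5039 := ded_34_1 (flp_e L43370) (flp_d L30165) (flp_e L30159) L43350 L62490
theorem L62501 : sm gb N5038 = N7292 := rfl
theorem L62504 : sm gg N7292 = N5055 := ded_23_2 (flp_b L43524) (flp_g L43364) L62501
theorem L62507 : sm gh N7292 = N5040 := ded_25_2 (flp_b L43380) (flp_h L43367) L62501
theorem L62510 : sm ge N5038 = N7293 := rfl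
theorem L62512 : sm ga N7293 = N5554 := ded_13_1 (flp_e L47919) (flp_a L43361) L62510
theorem L62514 : sm gc N7293 = N5039 := ded_28_1 (flp_e L43370) L43359 L62510
theorem L62516 : sm gg N7293 = N5056 := ded_41_2 (flp_e L43533) (flp_g L43364) L62510
theorem L62519 : sm gh N7293 = N5041 := ded_43_2 (flp_e L43389) (flp_h L43367) L62510
theorem L62522 : sm gf N5039 = N7294 := rfl
theorem L62524 : sm ga N7294 = N5555 := ded_14_1 (flp_f L47929) (flp_a L43372) L62522
theorem L62526 : sm gj N7294 = N7294 := ded_46_2 (flp_f L62522) L43376 L62522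
theorem L62527 : sm gh N7294 = N5042 := ded_47_2 (flp_f L43400) (flp_h L43377) L62522
theorem L62529 : sm gi N7294 = N7294 := ded_48_2 (flp_f L62522) L43379 L62522
theorem L62530 : sm ge N7294 = N7294 := ded_40_1 (flp_f L62522) (flp_e L43370) L30169 L43370 L62522
theorem L62531 : sm ga N5040 = N7295 := rfl
theorem L62535 : sm gg N7295 = N5058 := ded_15_2 (flp_a L43555) (flp_g L43384) L62531
theorem L62538 : sm gi N7295 = N5043 := ded_18_2 (flp_a L43409) (flp_i L43387) L62531
theorem L62542 : sm ge N5040 = N7296 := rfl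
theorem L62544 : sm gb N7296 = N5041 := ded_21_1 (flp_e L43389) L43380 L62542
theorem L62546 : sm gg N7296 = N5059 := ded_41_2 (flp_e L43566) (flp_g L43384) L62542
theorem L62548 : sm gj N7296 = N7296 := ded_42_2 (flp_e L62542) L43386 L62542
theorem L62549 : sm gi N7296 = N5044 := ded_44_2 (flp_e L43419) (flp_i L43387) L62542
theorem L62551 : sm gd N5041 = N7297 := rfl
theorem L62553 : sm ga N7297 = N5558 := ded_12_1 (flp_d L47957) (flp_a L43391) L62551
theorem L62555 : sm gg N7297 = N5060 := ded_36_2 (flp_d L43574) (flp_g L43395) L62551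
theorem L62557 : sm gj N7297 = N7297 := ded_37_2 (flp_d L62551) L43397 L62551
theorem L62558 : sm gi N7297 = N5045 := ded_39_2 (flp_d L43427) (flp_i L43398) L62551
theorem L62560 : sm gc N7297 = N7297 := ded_27_1 (flp_d L62551) L43393 L30196 (flp_c L43393) L62551
theorem L62561 : sm ge N7297 = N7297 := ded_34_2 (flp_d L62551) (flp_e L43389) L30186 L43389 L62551
theorem L62562 : sm gf N5041 = N7298 := rfl
theorem L62564 : sm ga N7298 = N5559 := ded_14_1 (flp_f L47966) (flp_a L43391) L62562
theorem L62566 : sm gc N7298 = N5042 := ded_29_1 (flp_f L43400) (flp_c L43393) L62562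
theorem L62568 : sm gj N7298 = N7298 := ded_46_2 (flp_f L62562) L43397 L62562
theorem L62569 : sm gi N7298 = N5046 := ded_48_2 (flp_f L43436) (flp_i L43398) L62562
theorem L62571 : sm ge N7298 = N7298 := ded_40_1 (flp_f L62562) (flp_e L43389) L30180 L43389 L62562
theorem L62572 : sm gg N5042 = N7299 := rfl
theorem L62574 : sm ga N7299 = N5560 := ded_15_1 (flp_g L47974) (flp_a L43402) L62572
theorem L62576 : sm gd N7299 = N7299 := ded_36_1 (flp_g L62572) L43404 L62572
theorem L62577 : sm ge N7299 = N7299 := ded_41_1 (flp_g L62572) L43408 L62572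
theorem L62578 : sm gi N7299 = N5047 := ded_51_2 (flp_g L43445) (flp_i L43406) L62572
theorem L62580 : sm gf N7299 = N5062 := ded_45_1 (flp_g L43596) (flp_f L30318) (flp_g L30191) L43400 L62572
theorem L62582 : sm ge N5043 = N7300 := rfl
theorem L62584 : sm ga N7300 = N5044 := ded_13_1 (flp_e L43419) L43409 L62582
theorem L62586 : sm gb N7300 = N5561 := ded_21_1 (flp_e L47983) (flp_b L43417) L62582
theorem L62588 : sm gg N7300 = N5063 := ded_41_2 (flp_e L43605) (flp_g L43413) L62582
theorem L62590 : sm gj N7300 = N7300 := ded_42_2 (flp_e L62582) L43415 L62582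
theorem L62591 : sm gh N7300 = N7300 := ded_43_2 (flp_e L62582) L43416 L62582
theorem L62592 : sm gd N5044 = N7301 := rfl
theorem L62594 : sm gb N7301 = N5045 := ded_20_1 (flp_d L43427) (flp_b L43421) L62592
theorem L62596 : sm gg N7301 = N5064 := ded_36_2 (flp_d L43614) (flp_g L43423) L62592
theorem L62598 : sm gj N7301 = N7301 := ded_37_2 (flp_d L62592) L43425 L62592
theorem L62599 : sm ge N7301 = N7301 := ded_34_2 (flp_d L62592) (flp_e L43419) L30199 L43419 L62592
theorem L62600 : sm gf N5044 = N7302 := rfl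
theorem L62602 : sm gb N7302 = N5046 := ded_22_1 (flp_f L43436) (flp_b L43421) L62600
theorem L62604 : sm gj N7302 = N7302 := ded_46_2 (flp_f L62600) L43425 L62600
theorem L62605 : sm gh N7302 = N7302 := ded_47_2 (flp_f L62600) L43426 L62600
theorem L62606 : sm ge N7302 = N7302 := ded_40_1 (flp_f L62600) (flp_e L43419) L30200 L43419 L62600
theorem L62607 : sm gf N5045 = N7303 := rfl
theorem L62612 : sm gd N7303 = N5046 := ded_35_1 (flp_f L43436) L43427 L62607
theorem L62615 : sm gh N5045 = N7304 := rfl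
theorem L62617 : sm ga N7304 = N5565 := ded_17_1 (flp_h L48014) (flp_a L43429) L62615
theorem L62621 : sm gg N7304 = N5067 := ded_50_1 (flp_h L43639) (flp_g L43431) L62615
theorem L62625 : sm gg N5046 = N7305 := rfl
theorem L62633 : sm gf N7305 = N5068 := ded_45_1 (flp_g L43648) (flp_f L30354) (flp_g L30211) L43436 L62625
theorem L62635 : sm gj N5047 = N7306 := rfl
theorem L62637 : sm ga N7306 = N5567 := ded_16_1 (flp_j L48030) (flp_a L43447) L62635
theorem L62645 : sm gh N5048 = N7307 := rfl
theorem L62653 : sm gj N7307 = N5070 := ded_52_1 (flp_h L43667) (flp_j L43463) L62645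
theorem L62655 : sm gi N7307 = N5049 := ded_54_2 (flp_h L43465) (flp_i L30234) L30223 L43454 L62645
theorem L62657 : sm gd N5049 = N7308 := rfl
theorem L62663 : sm gj N7308 = N5071 := ded_37_2 (flp_d L43678) (flp_j L43473) L62657
theorem L62665 : sm gh N7308 = N5050 := ded_38_2 (flp_d L43475) (flp_h L30246) (flp_d L30240) L43465 L62657
theorem L62667 : sm gc N5050 = N7309 := rfl
theorem L62672 : sm gj N7309 = N5072 := ded_31_2 (flp_c L43687) (flp_j L43481) L62667
theorem L62687 : sm gb N5051 = N7311 := rfl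
theorem L62691 : sm gf N7311 = N5103 := ded_22_2 (flp_b L43949) (flp_f L43488) L62687
theorem L62693 : sm gj N7311 = N5074 := ded_24_2 (flp_b L43705) (flp_j L43490) L62687
theorem L62698 : sm ge N5051 = N7312 := rfl
theorem L62704 : sm gj N7312 = N5075 := ded_42_2 (flp_e L43715) (flp_j L43490) L62698
theorem L62708 : sm gf N5052 = N7313 := rfl
theorem L62717 : sm ge N7313 = N5105 := ded_40_1 (flp_f L43970) (flp_e L30575) (flp_f L30264) L43496 L62708
theorem L62719 : sm gb N5053 = N7314 := rfl
theorem L62722 : sm gj N7314 = N5077 := ded_24_2 (flp_b L43733) (flp_j L43510) L62719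
theorem L62726 : sm ge N5053 = N7315 := rfl
theorem L62728 : sm ga N7315 = N5583 := ded_13_1 (flp_e L48172) (flp_a L43507) L62726
theorem L62730 : sm gc N7315 = N5054 := ded_28_1 (flp_e L43514) L43505 L62726
theorem L62732 : sm gj N7315 = N5078 := ded_42_2 (flp_e L43739) (flp_j L43510) L62726
theorem L62736 : sm gf N5054 = N7316 := rfl
theorem L62738 : sm ga N7316 = N5584 := ded_14_1 (flp_f L48180) (flp_a L43516) L62736
theorem L62740 : sm gd N7316 = N5057 := ded_35_1 (flp_f L43544) (flp_d L43522) L62736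
theorem L62742 : sm gj N7316 = N5079 := ded_46_2 (flp_f L43748) (flp_j L43518) L62736
theorem L62744 : sm gh N7316 = N7316 := ded_47_2 (flp_f L62736) L43520 L62736
theorem L62745 : sm gi N7316 = N7316 := ded_48_2 (flp_f L62736) L43521 L62736
theorem L62746 : sm ge N7316 = N7316 := ded_40_1 (flp_f L62736) (flp_e L43514) L30274 L43514 L62736
theorem L62747 : sm ga N5055 = N7317 := rfl
theorem L62749 : sm gf N7317 = N5106 := ded_14_2 (flp_a L43980) (flp_f L43526) L62747
theorem L62751 : sm gj N7317 = N5080 := ded_16_2 (flp_a L43757) (flp_j L43528) L62747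
theorem L62753 : sm gh N7317 = N5058 := ded_17_2 (flp_a L43555) (flp_h L43530) L62747
theorem L62758 : sm ge N5055 = N7318 := rfl
theorem L62762 : sm gj N7318 = N5081 := ded_42_2 (flp_e L43767) (flp_j L43528) L62758
theorem L62764 : sm gh N7318 = N5059 := ded_43_2 (flp_e L43566) (flp_h L43530) L62758
theorem L62767 : sm gd N5056 = N7319 := rfl
theorem L62771 : sm gj N7319 = N5082 := ded_37_2 (flp_d L43775) (flp_j L43539) L62767
theorem L62774 : sm gf N5056 = N7320 := rfl
theorem L62776 : sm ga N7320 = N5588 := ded_14_1 (flp_f L48215) (flp_a L43535) L62774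
theorem L62780 : sm gj N7320 = N5083 := ded_46_2 (flp_f L43781) (flp_j L43539) L62774
theorem L62782 : sm gh N7320 = N5061 := ded_47_2 (flp_f L43584) (flp_h L43541) L62774
theorem L62785 : sm ge N7320 = N5109 := ded_40_1 (flp_f L44009) (flp_e L30594) (flp_f L30283) L43533 L62774
theorem L62787 : sm gg N5057 = N7321 := rfl
theorem L62789 : sm ga N7321 = N5589 := ded_15_1 (flp_g L48226) (flp_a L43546) L62787
theorem L62791 : sm ge N7321 = N5110 := ded_41_1 (flp_g L44020) (flp_e L43553) L62787
theorem L62793 : sm gh N7321 = N5062 := ded_50_2 (flp_g L43596) (flp_h L43550) L62787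
theorem L62795 : sm gi N7321 = N7321 := ded_51_2 (flp_g L62787) L43552 L62787
theorem L62796 : sm ge N5058 = N7322 := rfl
theorem L62798 : sm ga N7322 = N5059 := ded_13_1 (flp_e L43566) L43555 L62796
theorem L62800 : sm gb N7322 = N5590 := ded_21_1 (flp_e L48234) (flp_b L43564) L62796
theorem L62802 : sm gj N7322 = N5085 := ded_42_2 (flp_e L43802) (flp_j L43560) L62796
theorem L62804 : sm gi N7322 = N5063 := ded_44_2 (flp_e L43605) (flp_i L43562) L62796
theorem L62806 : sm gd N5059 = N7323 := rfl
theorem L62808 : sm gb N7323 = N5060 := ded_20_1 (flp_d L43574) (flp_b L43568) L62806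
theorem L62810 : sm gj N7323 = N5086 := ded_37_2 (flp_d L43811) (flp_j L43570) L62806
theorem L62812 : sm gi N7323 = N5064 := ded_39_2 (flp_d L43614) (flp_i L43572) L62806
theorem L62814 : sm ge N7323 = N7323 := ded_34_2 (flp_d L62806) (flp_e L43566) L30301 L43566 L62806
theorem L62815 : sm gf N5059 = N7324 := rfl
theorem L62817 : sm gb N7324 = N5061 := ded_22_1 (flp_f L43584) (flp_b L43568) L62815
theorem L62819 : sm gj N7324 = N5087 := ded_46_2 (flp_f L43819) (flp_j L43570) L62815
theorem L62821 : sm gi N7324 = N5065 := ded_48_2 (flp_f L43621) (flp_i L43572) L62815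
theorem L62823 : sm ge N7324 = N5113 := ded_40_1 (flp_f L44050) (flp_e L30626) (flp_f L30302) L43566 L62815
theorem L62825 : sm gf N5060 = N7325 := rfl
theorem L62827 : sm ga N7325 = N5593 := ded_14_1 (flp_f L48263) (flp_a L43576) L62825
theorem L62829 : sm gc N7325 = N7325 := ded_29_1 (flp_f L62825) L43582 L62825
theorem L62830 : sm gd N7325 = N5061 := ded_35_1 (flp_f L43584) L43574 L62825
theorem L62832 : sm gj N7325 = N5088 := ded_46_2 (flp_f L43827) (flp_j L43578) L62825
theorem L62834 : sm gi N7325 = N5066 := ded_48_2 (flp_f L43630) (flp_i L43580) L62825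
theorem L62836 : sm gh N5060 = N7326 := rfl
theorem L62844 : sm gg N5061 = N7327 := rfl
theorem L62846 : sm ga N7327 = N5595 := ded_15_1 (flp_g L48278) (flp_a L43586) L62844
theorem L62848 : sm gc N7327 = N5062 := ded_30_1 (flp_g L43596) (flp_c L43588) L62844
theorem L62850 : sm ge N7327 = N5116 := ded_41_1 (flp_g L44080) (flp_e L43594) L62844
theorem L62852 : sm gi N7327 = N5068 := ded_51_2 (flp_g L43648) (flp_i L43592) L62844
theorem L62854 : sm gj N5062 = N7328 := rfl
theorem L62856 : sm ga N7328 = N5596 := ded_16_1 (flp_j L48286) (flp_a L43598) L62854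
theorem L62858 : sm gd N7328 = N7328 := ded_37_1 (flp_j L62854) L43600 L62854
theorem L62859 : sm ge N7328 = N5117 := ded_42_1 (flp_j L44089) (flp_e L43601) L62854
theorem L62861 : sm gi N7328 = N5069 := ded_53_2 (flp_j L43657) (flp_i L43603) L62854
theorem L62863 : sm gg N7328 = N5091 := ded_49_1 (flp_j L43854) (flp_g L30499) (flp_j L30323) L43596 L62854
theorem L62865 : sm gd N5063 = N7329 := rfl
theorem L62867 : sm ga N7329 = N5064 := ded_12_1 (flp_d L43614) (flp_a L43607) L62865
theorem L62869 : sm gb N7329 = N5597 := ded_20_1 (flp_d L48296) (flp_b L43609) L62865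
theorem L62871 : sm gj N7329 = N5092 := ded_37_2 (flp_d L43864) (flp_j L43611) L62865
theorem L62873 : sm ge N7329 = N7329 := ded_34_2 (flp_d L62865) (flp_e L43605) L30331 L43605 L62865
theorem L62874 : sm gf N5063 = N7330 := rfl
theorem L62876 : sm ga N7330 = N5065 := ded_14_1 (flp_f L43621) (flp_a L43607) L62874
theorem L62878 : sm gb N7330 = N5598 := ded_22_1 (flp_f L48303) (flp_b L43609) L62874
theorem L62880 : sm gj N7330 = N5093 := ded_46_2 (flp_f L43872) (flp_j L43611) L62874
theorem L62882 : sm gh N7330 = N7330 := ded_47_2 (flp_f L62874) L43613 L62874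
theorem L62883 : sm ge N7330 = N5119 := ded_40_1 (flp_f L44110) (flp_e L30666) (flp_f L30332) L43605 L62874
theorem L62885 : sm gc N5064 = N7331 := rfl
theorem L62887 : sm ge N7331 = N7331 := ded_28_2 (flp_c L62885) L43620 L62885
theorem L62888 : sm gj N7331 = N5094 := ded_31_2 (flp_c L43881) (flp_j L43618) L62885
theorem L62890 : sm gb N7331 = N7331 := ded_19_1 (flp_c L62885) L43616 L30352 (flp_b L43616) L62885
theorem L62891 : sm gf N5064 = N7332 := rfl
theorem L62893 : sm gb N7332 = N5066 := ded_22_1 (flp_f L43630) (flp_b L43616) L62891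
theorem L62895 : sm gd N7332 = N5065 := ded_35_1 (flp_f L43621) L43614 L62891
theorem L62897 : sm gj N7332 = N5095 := ded_46_2 (flp_f L43886) (flp_j L43618) L62891
theorem L62899 : sm gh N5064 = N7333 := rfl
theorem L62901 : sm gb N7333 = N5067 := ded_25_1 (flp_h L43639) (flp_b L43616) L62899
theorem L62903 : sm ge N7333 = N7333 := ded_43_1 (flp_h L62899) L43620 L62899
theorem L62904 : sm gj N7333 = N5096 := ded_52_1 (flp_h L43892) (flp_j L43618) L62899
theorem L62906 : sm gd N7333 = N7333 := ded_38_1 (flp_h L62899) (flp_d L43614) L30345 L43614 L62899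
theorem L62907 : sm gg N5065 = N7334 := rfl
theorem L62909 : sm gb N7334 = N5068 := ded_23_1 (flp_g L43648) (flp_b L43623) L62907
theorem L62911 : sm ge N7334 = N5123 := ded_41_1 (flp_g L44144) (flp_e L43628) L62907
theorem L62913 : sm gh N7334 = N7334 := ded_50_2 (flp_g L62907) L43627 L62907
theorem L62914 : sm ge N5066 = N7335 := rfl
theorem L62916 : sm ga N7335 = N5603 := ded_13_1 (flp_e L48344) (flp_a L43632) L62914
theorem L62919 : sm gj N7335 = N5098 := ded_42_2 (flp_e L43907) (flp_j L43637) L62914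
theorem L62921 : sm gd N7335 = N5124 := ded_34_1 (flp_e L44150) L30697 (flp_e L30363) (flp_d L43635) L62914
theorem L62924 : sm gg N5066 = N7336 := rfl
theorem L62929 : sm gd N7336 = N5068 := ded_36_1 (flp_g L43648) (flp_d L43635) L62924
theorem L62931 : sm gh N5066 = N7337 := rfl
theorem L62936 : sm gf N7337 = N5067 := ded_47_1 (flp_h L43639) L43630 L62931
theorem L62938 : sm gj N7337 = N5100 := ded_52_1 (flp_h L43923) (flp_j L43637) L62931
theorem L62940 : sm gd N7337 = N7337 := ded_38_1 (flp_h L62931) L43635 L30362 (flp_d L43635) L62931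
theorem L62941 : sm gi N5067 = N7338 := rfl
theorem L62950 : sm gj N5068 = N7339 := rfl
theorem L62956 : sm ge N7339 = N5128 := ded_42_1 (flp_j L44190) (flp_e L43654) L62950
theorem L62959 : sm gg N7339 = N5102 := ded_49_1 (flp_j L43939) (flp_g L30545) (flp_j L30360) L43648 L62950
theorem L62961 : sm gd N5070 = N7340 := rfl
theorem L62968 : sm gi N7340 = N5071 := ded_39_2 (flp_d L43678) (flp_i L43676) L62961
theorem L62971 : sm gc N5071 = N7341 := rfl
theorem L62977 : sm gh N7341 = N5072 := ded_32_2 (flp_c L43687) (flp_h L43685) L62971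
theorem L62989 : sm gb N5072 = N7343 := rfl
theorem L62991 : sm gd N7343 = N5077 := ded_20_2 (flp_b L43733) (flp_d L43694) L62989
theorem L62997 : sm ge N5072 = N7344 := rfl
theorem L63014 : sm ga N5074 = N7346 := rfl
theorem L63017 : sm gd N7346 = N5080 := ded_12_2 (flp_a L43757) (flp_d L43707) L63014
theorem L63026 : sm ge N5074 = N7347 := rfl
theorem L63034 : sm gd N5075 = N7348 := rfl
theorem L63042 : sm gf N5075 = N7349 := rfl
theorem L63062 : sm ga N5077 = N7351 := rfl
theorem L63070 : sm ge N5077 = N7352 := rfl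
theorem L63072 : sm gb N7352 = N5078 := ded_21_1 (flp_e L43739) L43733 L63070
theorem L63077 : sm gd N5078 = N7353 := rfl
theorem L63083 : sm gc N7353 = N5082 := ded_27_1 (flp_d L43775) L30448 (flp_d L30434) (flp_c L43743) L63077
theorem L63085 : sm gf N5078 = N7354 := rfl
theorem L63087 : sm ga N7354 = N5632 := ded_14_1 (flp_f L48566) (flp_a L43741) L63085
theorem L63089 : sm gc N7354 = N5079 := ded_29_1 (flp_f L43748) (flp_c L43743) L63085
theorem L63094 : sm gg N5079 = N7355 := rfl
theorem L63096 : sm ga N7355 = N5633 := ded_15_1 (flp_g L48573) (flp_a L43750) L63094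
theorem L63098 : sm gd N7355 = N5084 := ded_36_1 (flp_g L43792) (flp_d L43752) L63094
theorem L63100 : sm ge N7355 = N7355 := ded_41_1 (flp_g L63094) L43756 L63094
theorem L63101 : sm gh N7355 = N7355 := ded_50_2 (flp_g L63094) L43754 L63094
theorem L63102 : sm gi N7355 = N7355 := ded_51_2 (flp_g L63094) L43755 L63094
theorem L63103 : sm gf N7355 = N7355 := ded_45_1 (flp_g L63094) (flp_f L43748) L30431 L43748 L63094
theorem L63104 : sm ge N5080 = N7356 := rfl
theorem L63106 : sm ga N7356 = N5081 := ded_13_1 (flp_e L43767) L43757 L63104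
theorem L63108 : sm gb N7356 = N5634 := ded_21_1 (flp_e L48582) (flp_b L43765) L63104
theorem L63111 : sm gh N7356 = N5085 := ded_43_2 (flp_e L43802) (flp_h L43762) L63104
theorem L63114 : sm gd N5081 = N7357 := rfl
theorem L63120 : sm gf N5081 = N7358 := rfl
theorem L63124 : sm gh N7358 = N5087 := ded_47_2 (flp_f L43819) (flp_h L43772) L63120
theorem L63129 : sm gf N5082 = N7359 := rfl
theorem L63133 : sm gd N7359 = N5083 := ded_35_1 (flp_f L43781) L43775 L63129
theorem L63143 : sm gg N5083 = N7361 := rfl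
theorem L63147 : sm gc N7361 = N5084 := ded_30_1 (flp_g L43792) (flp_c L43785) L63143
theorem L63151 : sm gh N7361 = N5090 := ded_50_2 (flp_g L43843) (flp_h L43787) L63143
theorem L63155 : sm gj N5084 = N7362 := rfl
theorem L63157 : sm ga N7362 = N5640 := ded_16_1 (flp_j L48627) (flp_a L43794) L63155
theorem L63159 : sm ge N7362 = N5140 := ded_42_1 (flp_j L44301) (flp_e L43796) L63155
theorem L63161 : sm gf N7362 = N7362 := ded_46_1 (flp_j L63155) L43801 L63155
theorem L63162 : sm gh N7362 = N5091 := ded_52_2 (flp_j L43854) (flp_h L43798) L63155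
theorem L63164 : sm gi N7362 = N7362 := ded_53_2 (flp_j L63155) L43800 L63155
theorem L63165 : sm gd N5085 = N7363 := rfl
theorem L63167 : sm ga N7363 = N5086 := ded_12_1 (flp_d L43811) (flp_a L43804) L63165
theorem L63169 : sm gb N7363 = N5641 := ded_20_1 (flp_d L48636) (flp_b L43806) L63165
theorem L63172 : sm gi N7363 = N5092 := ded_39_2 (flp_d L43864) (flp_i L43809) L63165
theorem L63175 : sm gf N5085 = N7364 := rfl
theorem L63177 : sm ga N7364 = N5087 := ded_14_1 (flp_f L43819) (flp_a L43804) L63175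
theorem L63181 : sm gi N7364 = N5093 := ded_48_2 (flp_f L43872) (flp_i L43809) L63175
theorem L63183 : sm ge N7364 = N5142 := ded_40_1 (flp_f L44322) (flp_e L30802) (flp_f L30466) L43802 L63175
theorem L63185 : sm gc N5086 = N7365 := rfl
theorem L63187 : sm ge N7365 = N7365 := ded_28_2 (flp_c L63185) L43818 L63185
theorem L63188 : sm gg N7365 = N7365 := ded_30_2 (flp_c L63185) L43815 L63185
theorem L63189 : sm gi N7365 = N5094 := ded_33_2 (flp_c L43881) (flp_i L43816) L63185
theorem L63191 : sm gb N7365 = N7365 := ded_19_1 (flp_c L63185) L43813 L30487 (flp_b L43813) L63185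
theorem L63192 : sm gf N5086 = N7366 := rfl
theorem L63194 : sm gb N7366 = N5088 := ded_22_1 (flp_f L43827) (flp_b L43813) L63192
theorem L63196 : sm gd N7366 = N5087 := ded_35_1 (flp_f L43819) L43811 L63192
theorem L63198 : sm gi N7366 = N5095 := ded_48_2 (flp_f L43886) (flp_i L43816) L63192
theorem L63200 : sm gh N5086 = N7367 := rfl
theorem L63202 : sm gb N7367 = N5089 := ded_25_1 (flp_h L43836) (flp_b L43813) L63200
theorem L63206 : sm gg N5087 = N7368 := rfl
theorem L63208 : sm gb N7368 = N5090 := ded_23_1 (flp_g L43843) (flp_b L43821) L63206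
theorem L63210 : sm ge N7368 = N5146 := ded_41_1 (flp_g L44354) (flp_e L43825) L63206
theorem L63212 : sm gi N7368 = N5097 := ded_51_2 (flp_g L43899) (flp_i L43823) L63206
theorem L63214 : sm gf N7368 = N7368 := ded_45_1 (flp_g L63206) (flp_f L43819) L30477 L43819 L63206
theorem L63215 : sm ge N5088 = N7369 := rfl
theorem L63217 : sm ga N7369 = N5647 := ded_13_1 (flp_e L48685) (flp_a L43829) L63215
theorem L63219 : sm gc N7369 = N7369 := ded_28_1 (flp_e L63215) L43831 L63215
theorem L63220 : sm gi N7369 = N5098 := ded_44_2 (flp_e L43907) (flp_i L43834) L63215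
theorem L63222 : sm gd N7369 = N5147 := ded_34_1 (flp_e L44362) L30833 (flp_e L30497) (flp_d L43832) L63215
theorem L63224 : sm gf N7369 = N7369 := ded_40_2 (flp_e L63215) (flp_f L43827) L30488 L43827 L63215
theorem L63225 : sm gg N5088 = N7370 := rfl
theorem L63227 : sm ga N7370 = N5648 := ded_15_1 (flp_g L48693) (flp_a L43829) L63225
theorem L63229 : sm gc N7370 = N7370 := ded_30_1 (flp_g L63225) L43831 L63225
theorem L63230 : sm gd N7370 = N5090 := ded_36_1 (flp_g L43843) (flp_d L43832) L63225
theorem L63232 : sm gi N7370 = N5099 := ded_51_2 (flp_g L43915) (flp_i L43834) L63225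
theorem L63234 : sm gf N7370 = N7370 := ded_45_1 (flp_g L63225) (flp_f L43827) L30484 L43827 L63225
theorem L63235 : sm gh N5088 = N7371 := rfl
theorem L63251 : sm gj N5090 = N7373 := rfl
theorem L63253 : sm ga N7373 = N5651 := ded_16_1 (flp_j L48713) (flp_a L43845) L63251
theorem L63255 : sm gc N7373 = N5091 := ded_31_1 (flp_j L43854) (flp_c L43847) L63251
theorem L63257 : sm ge N7373 = N5151 := ded_42_1 (flp_j L44402) (flp_e L43849) L63251
theorem L63259 : sm gf N7373 = N7373 := ded_46_1 (flp_j L63251) L43853 L63251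
theorem L63260 : sm gi N7373 = N5102 := ded_53_2 (flp_j L43939) (flp_i L43851) L63251
theorem L63262 : sm gc N5092 = N7374 := rfl
theorem L63264 : sm ga N7374 = N5094 := ded_11_1 (flp_c L43881) (flp_a L43866) L63262
theorem L63266 : sm ge N7374 = N7374 := ded_28_2 (flp_c L63262) L43871 L63262
theorem L63267 : sm gg N7374 = N7374 := ded_30_2 (flp_c L63262) L43870 L63262
theorem L63268 : sm gf N5092 = N7375 := rfl
theorem L63270 : sm ga N7375 = N5095 := ded_14_1 (flp_f L43886) (flp_a L43866) L63268
theorem L63272 : sm gb N7375 = N5653 := ded_22_1 (flp_f L48729) (flp_b L43868) L63268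
theorem L63274 : sm gd N7375 = N5093 := ded_35_1 (flp_f L43872) L43864 L63268
theorem L63276 : sm gh N5092 = N7376 := rfl
theorem L63278 : sm ga N7376 = N5096 := ded_17_1 (flp_h L43892) (flp_a L43866) L63276
theorem L63280 : sm gb N7376 = N5654 := ded_25_1 (flp_h L48735) (flp_b L43868) L63276
theorem L63282 : sm ge N7376 = N7376 := ded_43_1 (flp_h L63276) L43871 L63276
theorem L63283 : sm gg N7376 = N7376 := ded_50_1 (flp_h L63276) L43870 L63276
theorem L63284 : sm gd N7376 = N7376 := ded_38_1 (flp_h L63276) (flp_d L43864) L30516 L43864 L63276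
theorem L63285 : sm gg N5093 = N7377 := rfl
theorem L63287 : sm ga N7377 = N5097 := ded_15_1 (flp_g L43899) (flp_a L43874) L63285
theorem L63289 : sm gb N7377 = N5655 := ded_23_1 (flp_g L48742) (flp_b L43876) L63285
theorem L63291 : sm ge N7377 = N5155 := ded_41_1 (flp_g L44437) (flp_e L43879) L63285
theorem L63293 : sm gh N7377 = N7377 := ded_50_2 (flp_g L63285) L43878 L63285
theorem L63294 : sm gf N7377 = N7377 := ded_45_1 (flp_g L63285) (flp_f L43872) L30515 L43872 L63285
theorem L63295 : sm gf N5094 = N7378 := rfl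
theorem L63297 : sm gb N7378 = N7378 := ded_22_1 (flp_f L63295) L43885 L63295
theorem L63298 : sm gc N7378 = N5095 := ded_29_1 (flp_f L43886) L43881 L63295
theorem L63300 : sm gh N5094 = N7379 := rfl
theorem L63302 : sm gb N7379 = N7379 := ded_25_1 (flp_h L63300) L43885 L63300
theorem L63303 : sm gc N7379 = N5096 := ded_32_1 (flp_h L43892) L43881 L63300
theorem L63305 : sm ge N7379 = N7379 := ded_43_1 (flp_h L63300) L43883 L63300
theorem L63306 : sm gg N7379 = N7379 := ded_50_1 (flp_h L63300) L43884 L63300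
theorem L63307 : sm ge N5095 = N7380 := rfl
theorem L63309 : sm gb N7380 = N5098 := ded_21_1 (flp_e L43907) (flp_b L43888) L63307
theorem L63311 : sm gd N7380 = N5158 := ded_34_1 (flp_e L44461) L30893 (flp_e L30528) (flp_d L43890) L63307
theorem L63313 : sm gf N7380 = N7380 := ded_40_2 (flp_e L63307) (flp_f L43886) L30522 L43886 L63307
theorem L63314 : sm gg N5095 = N7381 := rfl
theorem L63316 : sm gb N7381 = N5099 := ded_23_1 (flp_g L43915) (flp_b L43888) L63314
theorem L63318 : sm gd N7381 = N5097 := ded_36_1 (flp_g L43899) (flp_d L43890) L63314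
theorem L63320 : sm gf N7381 = N7381 := ded_45_1 (flp_g L63314) (flp_f L43886) L30521 L43886 L63314
theorem L63321 : sm gh N5095 = N7382 := rfl
theorem L63323 : sm gb N7382 = N5100 := ded_25_1 (flp_h L43923) (flp_b L43888) L63321
theorem L63325 : sm gf N7382 = N5096 := ded_47_1 (flp_h L43892) L43886 L63321
theorem L63327 : sm gd N7382 = N7382 := ded_38_1 (flp_h L63321) L43890 L30527 (flp_d L43890) L63321
theorem L63328 : sm gi N5096 = N7383 := rfl
theorem L63335 : sm gj N5097 = N7384 := rfl
theorem L63337 : sm gb N7384 = N5102 := ded_24_1 (flp_j L43939) (flp_b L43901) L63335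
theorem L63339 : sm ge N7384 = N5162 := ded_42_1 (flp_j L44489) (flp_e L43903) L63335
theorem L63341 : sm gf N7384 = N7384 := ded_46_1 (flp_j L63335) L43906 L63335
theorem L63342 : sm gh N7384 = N7384 := ded_52_2 (flp_j L63335) L43905 L63335
theorem L63343 : sm gg N5098 = N7385 := rfl
theorem L63345 : sm ga N7385 = N5663 := ded_15_1 (flp_g L48801) (flp_a L43909) L63343
theorem L63348 : sm gd N7385 = N5163 := ded_36_1 (flp_g L44496) (flp_d L43912) L63343
theorem L63352 : sm gh N5098 = N7386 := rfl
theorem L63354 : sm ga N7386 = N5664 := ded_17_1 (flp_h L48808) (flp_a L43909) L63352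
theorem L63357 : sm ge N7386 = N5100 := ded_43_1 (flp_h L43923) L43907 L63352
theorem L63368 : sm gh N5099 = N7388 := rfl
theorem L63374 : sm gg N7388 = N5100 := ded_50_1 (flp_h L43923) L43915 L63368
theorem L63377 : sm gi N5100 = N7389 := rfl
theorem L63383 : sm gf N7389 = N5101 := ded_48_1 (flp_i L43931) (flp_f L43928) L63377
theorem L63385 : sm ga N5103 = N7390 := rfl
theorem L63390 : sm gg N7390 = N7390 := ded_15_2 (flp_a L63385) L43953 L63385
theorem L63391 : sm gj N7390 = N5129 := ded_16_2 (flp_a L44200) (flp_j L43954) L63385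
theorem L63397 : sm ge N5103 = N7391 := rfl
theorem L63399 : sm gb N7391 = N5104 := ded_21_1 (flp_e L43959) L43949 L63397
theorem L63403 : sm gj N7391 = N5130 := ded_42_2 (flp_e L44211) (flp_j L43954) L63397
theorem L63407 : sm gd N5104 = N7392 := rfl
theorem L63412 : sm gj N7392 = N5131 := ded_37_2 (flp_d L44220) (flp_j L43966) L63407
theorem L63418 : sm gf N5104 = N7393 := rfl
theorem L63437 : sm ge N5106 = N7395 := rfl
theorem L63439 : sm ga N7395 = N5107 := ded_13_1 (flp_e L43990) L43980 L63437
theorem L63444 : sm gj N7395 = N5134 := ded_42_2 (flp_e L44248) (flp_j L43983) L63437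
theorem L63446 : sm gh N7395 = N5111 := ded_43_2 (flp_e L44029) (flp_h L43985) L63437
theorem L63449 : sm gd N5107 = N7396 := rfl
theorem L63451 : sm gb N7396 = N5108 := ded_20_1 (flp_d L44000) (flp_b L43992) L63449
theorem L63453 : sm gg N7396 = N7396 := ded_36_2 (flp_d L63449) L43994 L63449
theorem L63454 : sm gj N7396 = N5135 := ded_37_2 (flp_d L44259) (flp_j L43995) L63449
theorem L63457 : sm gf N5107 = N7397 := rfl
theorem L63461 : sm gj N7397 = N5136 := ded_46_2 (flp_f L44266) (flp_j L43995) L63457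
theorem L63463 : sm gh N7397 = N5113 := ded_47_2 (flp_f L44050) (flp_h L43997) L63457
theorem L63466 : sm gf N5108 = N7398 := rfl
theorem L63468 : sm ga N7398 = N5679 := ded_14_1 (flp_f L48933) (flp_a L44002) L63466
theorem L63471 : sm gd N7398 = N5109 := ded_35_1 (flp_f L44009) L44000 L63466
theorem L63473 : sm gj N7398 = N5137 := ded_46_2 (flp_f L44273) (flp_j L44005) L63466
theorem L63476 : sm gh N5108 = N7399 := rfl
theorem L63484 : sm gd N7399 = N5115 := ded_38_1 (flp_h L44070) (flp_d L30635) (flp_h L30603) L44000 L63476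
theorem L63486 : sm gg N5109 = N7400 := rfl
theorem L63490 : sm gc N7400 = N5110 := ded_30_1 (flp_g L44020) (flp_c L44013) L63486
theorem L63495 : sm gf N7400 = N7400 := ded_45_1 (flp_g L63486) (flp_f L44009) L30600 L44009 L63486
theorem L63496 : sm gj N5110 = N7401 := rfl
theorem L63498 : sm ga N7401 = N5682 := ded_16_1 (flp_j L48957) (flp_a L44022) L63496
theorem L63500 : sm gd N7401 = N7401 := ded_37_1 (flp_j L63496) L44024 L63496
theorem L63501 : sm gf N7401 = N7401 := ded_46_1 (flp_j L63496) L44028 L63496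
theorem L63502 : sm gh N7401 = N5117 := ded_52_2 (flp_j L44089) (flp_h L44025) L63496
theorem L63504 : sm gi N7401 = N7401 := ded_53_2 (flp_j L63496) L44027 L63496
theorem L63505 : sm gg N7401 = N5140 := ded_49_1 (flp_j L44301) (flp_g L30792) (flp_j L30611) L44020 L63496
theorem L63507 : sm gd N5111 = N7402 := rfl
theorem L63509 : sm ga N7402 = N5112 := ded_12_1 (flp_d L44040) (flp_a L44031) L63507
theorem L63511 : sm gb N7402 = N5683 := ded_20_1 (flp_d L48967) (flp_b L44033) L63507
theorem L63514 : sm gj N7402 = N5141 := ded_37_2 (flp_d L44311) (flp_j L44036) L63507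
theorem L63516 : sm gi N7402 = N5118 := ded_39_2 (flp_d L44100) (flp_i L44038) L63507
theorem L63519 : sm gf N5111 = N7403 := rfl
theorem L63521 : sm ga N7403 = N5113 := ded_14_1 (flp_f L44050) (flp_a L44031) L63519
theorem L63523 : sm gb N7403 = N5684 := ded_22_1 (flp_f L48977) (flp_b L44033) L63519
theorem L63527 : sm gi N7403 = N5119 := ded_48_2 (flp_f L44110) (flp_i L44038) L63519
theorem L63529 : sm gc N5112 = N7404 := rfl
theorem L63531 : sm ge N7404 = N7404 := ded_28_2 (flp_c L63529) L44049 L63529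
theorem L63532 : sm gg N7404 = N7404 := ded_30_2 (flp_c L63529) L44044 L63529
theorem L63533 : sm gj N7404 = N5143 := ded_31_2 (flp_c L44330) (flp_j L44045) L63529
theorem L63535 : sm gi N7404 = N5120 := ded_33_2 (flp_c L44119) (flp_i L44047) L63529
theorem L63537 : sm gb N7404 = N5229 := ded_19_1 (flp_c L45076) L31307 (flp_c L30644) (flp_b L44042) L63529
theorem L63539 : sm gf N5112 = N7405 := rfl
theorem L63541 : sm gb N7405 = N5114 := ded_22_1 (flp_f L44058) (flp_b L44042) L63539
theorem L63543 : sm gd N7405 = N5113 := ded_35_1 (flp_f L44050) L44040 L63539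
theorem L63545 : sm gj N7405 = N5144 := ded_46_2 (flp_f L44339) (flp_j L44045) L63539
theorem L63547 : sm gi N7405 = N5121 := ded_48_2 (flp_f L44127) (flp_i L44047) L63539
theorem L63549 : sm gh N5112 = N7406 := rfl
theorem L63551 : sm gb N7406 = N5115 := ded_25_1 (flp_h L44070) (flp_b L44042) L63549
theorem L63557 : sm gg N5113 = N7407 := rfl
theorem L63559 : sm gb N7407 = N5116 := ded_23_1 (flp_g L44080) (flp_b L44052) L63557
theorem L63561 : sm gi N7407 = N5123 := ded_51_2 (flp_g L44144) (flp_i L44056) L63557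
theorem L63563 : sm gf N7407 = N7407 := ded_45_1 (flp_g L63557) (flp_f L44050) L30630 L44050 L63557
theorem L63564 : sm ge N5114 = N7408 := rfl
theorem L63566 : sm ga N7408 = N5689 := ded_13_1 (flp_e L49023) (flp_a L44060) L63564
theorem L63568 : sm gc N7408 = N5233 := ded_28_1 (flp_e L45112) (flp_c L44062) L63564
theorem L63570 : sm gj N7408 = N5147 := ded_42_2 (flp_e L44362) (flp_j L44066) L63564
theorem L63572 : sm gi N7408 = N5124 := ded_44_2 (flp_e L44150) (flp_i L44068) L63564
theorem L63574 : sm gf N7408 = N7408 := ded_40_2 (flp_e L63564) (flp_f L44058) L30646 L44058 L63564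
theorem L63575 : sm gg N5114 = N7409 := rfl
theorem L63577 : sm ga N7409 = N5690 := ded_15_1 (flp_g L49032) (flp_a L44060) L63575
theorem L63579 : sm gc N7409 = N5234 := ded_30_1 (flp_g L45122) (flp_c L44062) L63575
theorem L63581 : sm gd N7409 = N5116 := ded_36_1 (flp_g L44080) (flp_d L44064) L63575
theorem L63583 : sm gi N7409 = N5125 := ded_51_2 (flp_g L44159) (flp_i L44068) L63575
theorem L63585 : sm gf N7409 = N7409 := ded_45_1 (flp_g L63575) (flp_f L44058) L30639 L44058 L63575
theorem L63586 : sm gh N5114 = N7410 := rfl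
theorem L63590 : sm gc N7410 = N5235 := ded_32_1 (flp_h L45131) (flp_c L44062) L63586
theorem L63592 : sm gf N7410 = N5115 := ded_47_1 (flp_h L44070) L44058 L63586
theorem L63596 : sm gi N5115 = N7411 := rfl
theorem L63600 : sm gc N7411 = N5236 := ded_33_1 (flp_i L45140) (flp_c L44074) L63596
theorem L63606 : sm gh N7411 = N5127 := ded_54_1 (flp_i L44179) (flp_h L30701) (flp_i L30642) L44070 L63596
theorem L63608 : sm gj N5116 = N7412 := rfl
theorem L63612 : sm gc N7412 = N5117 := ded_31_1 (flp_j L44089) (flp_c L44084) L63608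
theorem L63614 : sm gf N7412 = N7412 := ded_46_1 (flp_j L63608) L44088 L63608
theorem L63615 : sm gi N7412 = N5128 := ded_53_2 (flp_j L44190) (flp_i L44086) L63608
theorem L63617 : sm gg N7412 = N5151 := ded_49_1 (flp_j L44402) (flp_g L30846) (flp_j L30653) L44080 L63608
theorem L63619 : sm gc N5118 = N7413 := rfl
theorem L63621 : sm ga N7413 = N5120 := ded_11_1 (flp_c L44119) (flp_a L44102) L63619
theorem L63623 : sm ge N7413 = N7413 := ded_28_2 (flp_c L63619) L44109 L63619
theorem L63624 : sm gg N7413 = N7413 := ded_30_2 (flp_c L63619) L44106 L63619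
theorem L63625 : sm gj N7413 = N5152 := ded_31_2 (flp_c L44412) (flp_j L44107) L63619
theorem L63627 : sm gf N5118 = N7414 := rfl
theorem L63629 : sm ga N7414 = N5121 := ded_14_1 (flp_f L44127) (flp_a L44102) L63627
theorem L63631 : sm gb N7414 = N5695 := ded_22_1 (flp_f L49077) (flp_b L44104) L63627
theorem L63633 : sm gd N7414 = N5119 := ded_35_1 (flp_f L44110) L44100 L63627
theorem L63635 : sm gj N7414 = N5153 := ded_46_2 (flp_f L44419) (flp_j L44107) L63627
theorem L63637 : sm gh N5118 = N7415 := rfl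
theorem L63639 : sm ga N7415 = N5122 := ded_17_1 (flp_h L44135) (flp_a L44102) L63637
theorem L63641 : sm gb N7415 = N5696 := ded_25_1 (flp_h L49085) (flp_b L44104) L63637
theorem L63643 : sm ge N7415 = N7415 := ded_43_1 (flp_h L63637) L44109 L63637
theorem L63644 : sm gg N7415 = N7415 := ded_50_1 (flp_h L63637) L44106 L63637
theorem L63645 : sm gj N7415 = N5154 := ded_52_1 (flp_h L44427) (flp_j L44107) L63637
theorem L63647 : sm gd N7415 = N7415 := ded_38_1 (flp_h L63637) (flp_d L44100) L30675 L44100 L63637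
theorem L63648 : sm gg N5119 = N7416 := rfl
theorem L63650 : sm ga N7416 = N5123 := ded_15_1 (flp_g L44144) (flp_a L44112) L63648
theorem L63652 : sm gb N7416 = N5697 := ded_23_1 (flp_g L49094) (flp_b L44114) L63648
theorem L63654 : sm gh N7416 = N7416 := ded_50_2 (flp_g L63648) L44118 L63648
theorem L63655 : sm gf N7416 = N7416 := ded_45_1 (flp_g L63648) (flp_f L44110) L30672 L44110 L63648
theorem L63656 : sm gf N5120 = N7417 := rfl
theorem L63658 : sm gb N7417 = N5242 := ded_22_1 (flp_f L45204) (flp_b L44125) L63656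
theorem L63660 : sm gc N7417 = N5121 := ded_29_1 (flp_f L44127) L44119 L63656
theorem L63662 : sm gj N7417 = N5156 := ded_46_2 (flp_f L44446) (flp_j L44123) L63656
theorem L63664 : sm gh N5120 = N7418 := rfl
theorem L63666 : sm gb N7418 = N5243 := ded_25_1 (flp_h L45210) (flp_b L44125) L63664
theorem L63668 : sm gc N7418 = N5122 := ded_32_1 (flp_h L44135) L44119 L63664
theorem L63670 : sm ge N7418 = N7418 := ded_43_1 (flp_h L63664) L44121 L63664
theorem L63671 : sm gg N7418 = N7418 := ded_50_1 (flp_h L63664) L44122 L63664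
theorem L63672 : sm gj N7418 = N5157 := ded_52_1 (flp_h L44452) (flp_j L44123) L63664
theorem L63674 : sm ge N5121 = N7419 := rfl
theorem L63676 : sm gb N7419 = N5124 := ded_21_1 (flp_e L44150) (flp_b L44129) L63674
theorem L63678 : sm gj N7419 = N5158 := ded_42_2 (flp_e L44461) (flp_j L44133) L63674
theorem L63680 : sm gf N7419 = N7419 := ded_40_2 (flp_e L63674) (flp_f L44127) L30683 L44127 L63674
theorem L63681 : sm gg N5121 = N7420 := rfl
theorem L63683 : sm gb N7420 = N5125 := ded_23_1 (flp_g L44159) (flp_b L44129) L63681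
theorem L63685 : sm gd N7420 = N5123 := ded_36_1 (flp_g L44144) (flp_d L44131) L63681
theorem L63687 : sm gf N7420 = N7420 := ded_45_1 (flp_g L63681) (flp_f L44127) L30680 L44127 L63681
theorem L63688 : sm gh N5121 = N7421 := rfl
theorem L63690 : sm gb N7421 = N5126 := ded_25_1 (flp_h L44168) (flp_b L44129) L63688
theorem L63692 : sm gf N7421 = N5122 := ded_47_1 (flp_h L44135) L44127 L63688
theorem L63694 : sm gj N7421 = N5160 := ded_52_1 (flp_h L44474) (flp_j L44133) L63688
theorem L63696 : sm gd N7421 = N7421 := ded_38_1 (flp_h L63688) L44131 L30690 (flp_d L44131) L63688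
theorem L63697 : sm gi N5122 = N7422 := rfl
theorem L63699 : sm gb N7422 = N5127 := ded_26_1 (flp_i L44179) (flp_b L44137) L63697
theorem L63701 : sm gd N7422 = N7422 := ded_39_1 (flp_i L63697) L44143 L63697
theorem L63702 : sm ge N7422 = N7422 := ded_44_1 (flp_i L63697) L44139 L63697
theorem L63703 : sm gg N7422 = N7422 := ded_51_1 (flp_i L63697) L44140 L63697
theorem L63704 : sm gj N7422 = N5161 := ded_53_1 (flp_i L44481) (flp_j L44141) L63697
theorem L63706 : sm gj N5123 = N7423 := rfl
theorem L63708 : sm gb N7423 = N5128 := ded_24_1 (flp_j L44190) (flp_b L44146) L63706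
theorem L63710 : sm gf N7423 = N7423 := ded_46_1 (flp_j L63706) L44149 L63706
theorem L63711 : sm gh N7423 = N7423 := ded_52_2 (flp_j L63706) L44148 L63706
theorem L63712 : sm gg N7423 = N5162 := ded_49_1 (flp_j L44489) (flp_g L30903) (flp_j L30688) L44144 L63706
theorem L63714 : sm gg N5124 = N7424 := rfl
theorem L63716 : sm ga N7424 = N5705 := ded_15_1 (flp_g L49161) (flp_a L44152) L63714
theorem L63720 : sm ge N7424 = N5125 := ded_41_1 (flp_g L44159) L44150 L63714
theorem L63722 : sm gh N5124 = N7425 := rfl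
theorem L63726 : sm gc N7425 = N5250 := ded_32_1 (flp_h L45270) (flp_c L44154) L63722
theorem L63731 : sm gj N7425 = N5164 := ded_52_1 (flp_h L44504) (flp_j L44156) L63722
theorem L63733 : sm gj N5125 = N7426 := rfl
theorem L63735 : sm ga N7426 = N5707 := ded_16_1 (flp_j L49176) (flp_a L44161) L63733
theorem L63742 : sm gg N7426 = N5165 := ded_49_1 (flp_j L44513) (flp_g L30917) (flp_j L30699) L44159 L63733
theorem L63744 : sm gh N5125 = N7427 := rfl
theorem L63748 : sm gc N7427 = N5252 := ded_32_1 (flp_h L45288) (flp_c L44163) L63744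
theorem L63754 : sm gi N5126 = N7428 := rfl
theorem L63756 : sm ga N7428 = N5709 := ded_18_1 (flp_i L49193) (flp_a L44170) L63754
theorem L63758 : sm gc N7428 = N5253 := ded_33_1 (flp_i L45297) (flp_c L44172) L63754
theorem L63760 : sm gd N7428 = N7428 := ded_39_1 (flp_i L63754) L44178 L63754
theorem L63761 : sm gf N7428 = N5127 := ded_48_1 (flp_i L44179) (flp_f L44174) L63754
theorem L63763 : sm gj N7428 = N5167 := ded_53_1 (flp_i L44534) (flp_j L44176) L63754
theorem L63765 : sm ge N5129 = N7429 := rfl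
theorem L63776 : sm gd N5130 = N7430 := rfl
theorem L63780 : sm gg N7430 = N5169 := ded_36_2 (flp_d L44553) (flp_g L44216) L63776
theorem L63783 : sm ge N7430 = N5135 := ded_34_2 (flp_d L44259) (flp_e L30766) (flp_d L30732) L44211 L63776
theorem L63785 : sm gf N5130 = N7431 := rfl
theorem L63792 : sm gf N5131 = N7432 := rfl
theorem L63794 : sm ga N7432 = N5718 := ded_14_1 (flp_f L49270) (flp_a L44222) L63792
theorem L63800 : sm gh N5131 = N7433 := rfl
theorem L63807 : sm gg N7433 = N5172 := ded_50_1 (flp_h L44579) (flp_g L44224) L63800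
theorem L63820 : sm gj N5133 = N7435 := rfl
theorem L63826 : sm gf N7435 = N5174 := ded_46_1 (flp_j L44597) (flp_f L44246) L63820
theorem L63830 : sm gd N5134 = N7436 := rfl
theorem L63836 : sm gg N7436 = N5175 := ded_36_2 (flp_d L44607) (flp_g L44254) L63830
theorem L63839 : sm gf N5134 = N7437 := rfl
theorem L63843 : sm gb N7437 = N5723 := ded_22_1 (flp_f L49306) (flp_b L44252) L63839
theorem L63848 : sm gc N5135 = N7438 := rfl
theorem L63850 : sm gg N7438 = N5177 := ded_30_2 (flp_c L44626) (flp_g L44263) L63848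
theorem L63854 : sm gf N5135 = N7439 := rfl
theorem L63858 : sm gd N7439 = N5136 := ded_35_1 (flp_f L44266) L44259 L63854
theorem L63861 : sm gh N5135 = N7440 := rfl
theorem L63865 : sm gg N7440 = N5179 := ded_50_1 (flp_h L44639) (flp_g L44263) L63861
theorem L63869 : sm gg N5136 = N7441 := rfl
theorem L63873 : sm gh N7441 = N5146 := ded_50_2 (flp_g L44354) (flp_h L44270) L63869
theorem L63876 : sm gf N7441 = N5180 := ded_45_1 (flp_g L44646) (flp_f L31018) (flp_g L30770) L44266 L63869
theorem L63878 : sm ge N5137 = N7442 := rfl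
theorem L63884 : sm gg N5137 = N7443 := rfl
theorem L63892 : sm gf N7443 = N5182 := ded_45_1 (flp_g L44662) (flp_f L31027) (flp_g L30779) L44273 L63884
theorem L63913 : sm gj N5139 = N7446 := rfl
theorem L63924 : sm gc N5141 = N7447 := rfl
theorem L63926 : sm ga N7447 = N5143 := ded_11_1 (flp_c L44330) (flp_a L44313) L63924
theorem L63929 : sm gg N7447 = N5186 := ded_30_2 (flp_c L44700) (flp_g L44317) L63924
theorem L63931 : sm gi N7447 = N5152 := ded_33_2 (flp_c L44412) (flp_i L44319) L63924
theorem L63933 : sm gf N5141 = N7448 := rfl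
theorem L63935 : sm ga N7448 = N5144 := ded_14_1 (flp_f L44339) (flp_a L44313) L63933
theorem L63937 : sm gb N7448 = N5734 := ded_22_1 (flp_f L49392) (flp_b L44315) L63933
theorem L63939 : sm gd N7448 = N5142 := ded_35_1 (flp_f L44322) L44311 L63933
theorem L63941 : sm gi N7448 = N5153 := ded_48_2 (flp_f L44419) (flp_i L44319) L63933
theorem L63943 : sm gh N5141 = N7449 := rfl
theorem L63947 : sm gb N7449 = N5735 := ded_25_1 (flp_h L49400) (flp_b L44315) L63943
theorem L63952 : sm gg N5142 = N7450 := rfl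
theorem L63954 : sm ga N7450 = N5146 := ded_15_1 (flp_g L44354) (flp_a L44324) L63952
theorem L63956 : sm gb N7450 = N5736 := ded_23_1 (flp_g L49407) (flp_b L44326) L63952
theorem L63958 : sm gi N7450 = N5155 := ded_51_2 (flp_g L44437) (flp_i L44328) L63952
theorem L63962 : sm gf N5143 = N7451 := rfl
theorem L63964 : sm gb N7451 = N5258 := ded_22_1 (flp_f L45348) (flp_b L44337) L63962
theorem L63966 : sm gc N7451 = N5144 := ded_29_1 (flp_f L44339) L44330 L63962
theorem L63968 : sm gi N7451 = N5156 := ded_48_2 (flp_f L44446) (flp_i L44335) L63962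
theorem L63970 : sm gh N5143 = N7452 := rfl
theorem L63972 : sm gb N7452 = N5259 := ded_25_1 (flp_h L45354) (flp_b L44337) L63970
theorem L63974 : sm gc N7452 = N5145 := ded_32_1 (flp_h L44347) L44330 L63970
theorem L63979 : sm ge N5144 = N7453 := rfl
theorem L63981 : sm gb N7453 = N5147 := ded_21_1 (flp_e L44362) (flp_b L44341) L63979
theorem L63983 : sm gi N7453 = N5158 := ded_44_2 (flp_e L44461) (flp_i L44345) L63979
theorem L63985 : sm gf N7453 = N7453 := ded_40_2 (flp_e L63979) (flp_f L44339) L30820 L44339 L63979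
theorem L63986 : sm gg N5144 = N7454 := rfl
theorem L63988 : sm gb N7454 = N5148 := ded_23_1 (flp_g L44371) (flp_b L44341) L63986
theorem L63990 : sm gd N7454 = N5146 := ded_36_1 (flp_g L44354) (flp_d L44343) L63986
theorem L63992 : sm gi N7454 = N5159 := ded_51_2 (flp_g L44466) (flp_i L44345) L63986
theorem L63994 : sm gf N7454 = N5193 := ded_45_1 (flp_g L44762) (flp_f L31092) (flp_g L30816) L44339 L63986
theorem L63996 : sm gh N5144 = N7455 := rfl
theorem L64002 : sm gi N5145 = N7456 := rfl
theorem L64009 : sm gh N7456 = N5161 := ded_54_1 (flp_i L44481) (flp_h L30895) (flp_i L30818) L44347 L64002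
theorem L64011 : sm gj N5146 = N7457 := rfl
theorem L64013 : sm gb N7457 = N5151 := ded_24_1 (flp_j L44402) (flp_b L44356) L64011
theorem L64015 : sm gf N7457 = N5196 := ded_46_1 (flp_j L44785) (flp_f L44360) L64011
theorem L64017 : sm gi N7457 = N5162 := ded_53_2 (flp_j L44489) (flp_i L44358) L64011
theorem L64019 : sm gg N5147 = N7458 := rfl
theorem L64021 : sm ga N7458 = N5744 := ded_15_1 (flp_g L49475) (flp_a L44364) L64019
theorem L64023 : sm gc N7458 = N5265 := ded_30_1 (flp_g L45406) (flp_c L44366) L64019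
theorem L64025 : sm ge N7458 = N5148 := ded_41_1 (flp_g L44371) L44362 L64019
theorem L64027 : sm gi N7458 = N5163 := ded_51_2 (flp_g L44496) (flp_i L44368) L64019
theorem L64029 : sm gh N5147 = N7459 := rfl
theorem L64033 : sm gc N7459 = N5266 := ded_32_1 (flp_h L45415) (flp_c L44366) L64029
theorem L64038 : sm gj N5148 = N7460 := rfl
theorem L64040 : sm ga N7460 = N5746 := ded_16_1 (flp_j L49490) (flp_a L44373) L64038
theorem L64042 : sm gc N7460 = N5267 := ded_31_1 (flp_j L45422) (flp_c L44375) L64038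
theorem L64044 : sm gd N7460 = N5151 := ded_37_1 (flp_j L44402) (flp_d L44377) L64038
theorem L64046 : sm gf N7460 = N5199 := ded_46_1 (flp_j L44814) (flp_f L44381) L64038
theorem L64048 : sm gi N7460 = N5165 := ded_53_2 (flp_j L44513) (flp_i L44379) L64038
theorem L64050 : sm gh N5148 = N7461 := rfl
theorem L64060 : sm gi N5149 = N7462 := rfl
theorem L64066 : sm gf N7462 = N5150 := ded_48_1 (flp_i L44391) (flp_f L44389) L64060
theorem L64070 : sm gb N5152 = N7463 := rfl
theorem L64072 : sm ge N7463 = N7463 := ded_21_2 (flp_b L64070) L44416 L64070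
theorem L64073 : sm gg N7463 = N5202 := ded_23_2 (flp_b L44844) (flp_g L44417) L64070
theorem L64075 : sm ga N7463 = N5270 := ded_10_1 (flp_b L45450) L31569 (flp_b L30887) (flp_a L44414) L64070
theorem L64077 : sm gc N7463 = N5749 := ded_19_2 (flp_b L49516) (flp_c L34413) (flp_b L30870) L44412 L64070
theorem L64079 : sm gf N5152 = N7464 := rfl
theorem L64081 : sm ga N7464 = N5156 := ded_14_1 (flp_f L44446) (flp_a L44414) L64079
theorem L64083 : sm gc N7464 = N5153 := ded_29_1 (flp_f L44419) L44412 L64079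
theorem L64085 : sm gh N5152 = N7465 := rfl
theorem L64087 : sm ga N7465 = N5157 := ded_17_1 (flp_h L44452) (flp_a L44414) L64085
theorem L64089 : sm gc N7465 = N5154 := ded_32_1 (flp_h L44427) L44412 L64085
theorem L64091 : sm ge N7465 = N7465 := ded_43_1 (flp_h L64085) L44416 L64085
theorem L64092 : sm gg N7465 = N5204 := ded_50_1 (flp_h L44859) (flp_g L44417) L64085
theorem L64094 : sm ge N5153 = N7466 := rfl
theorem L64096 : sm ga N7466 = N5158 := ded_13_1 (flp_e L44461) (flp_a L44421) L64094
theorem L64098 : sm gb N7466 = N5752 := ded_21_1 (flp_e L49540) (flp_b L44423) L64094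
theorem L64100 : sm gf N7466 = N7466 := ded_40_2 (flp_e L64094) (flp_f L44419) L30874 L44419 L64094
theorem L64101 : sm gg N5153 = N7467 := rfl
theorem L64103 : sm ga N7467 = N5159 := ded_15_1 (flp_g L44466) (flp_a L44421) L64101
theorem L64105 : sm gb N7467 = N5753 := ded_23_1 (flp_g L49545) (flp_b L44423) L64101
theorem L64107 : sm gd N7467 = N5155 := ded_36_1 (flp_g L44437) (flp_d L44425) L64101
theorem L64109 : sm gf N7467 = N5206 := ded_45_1 (flp_g L44876) (flp_f L31170) (flp_g L30872) L44419 L64101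
theorem L64111 : sm gh N5153 = N7468 := rfl
theorem L64113 : sm ga N7468 = N5160 := ded_17_1 (flp_h L44474) (flp_a L44421) L64111
theorem L64115 : sm gb N7468 = N5754 := ded_25_1 (flp_h L49553) (flp_b L44423) L64111
theorem L64117 : sm gf N7468 = N5154 := ded_47_1 (flp_h L44427) L44419 L64111
theorem L64119 : sm gd N7468 = N7468 := ded_38_1 (flp_h L64111) L44425 L30881 (flp_d L44425) L64111
theorem L64120 : sm gi N5154 = N7469 := rfl
theorem L64122 : sm ga N7469 = N5161 := ded_18_1 (flp_i L44481) (flp_a L44429) L64120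
theorem L64130 : sm gj N5155 = N7470 := rfl
theorem L64132 : sm ga N7470 = N5162 := ded_16_1 (flp_j L44489) (flp_a L44439) L64130
theorem L64134 : sm gb N7470 = N5756 := ded_24_1 (flp_j L49568) (flp_b L44441) L64130
theorem L64136 : sm gf N7470 = N5209 := ded_46_1 (flp_j L44903) (flp_f L44444) L64130
theorem L64138 : sm gh N7470 = N7470 := ded_52_2 (flp_j L64130) L44443 L64130
theorem L64139 : sm ge N5156 = N7471 := rfl
theorem L64141 : sm gb N7471 = N5278 := ded_21_1 (flp_e L45522) (flp_b L44448) L64139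
theorem L64143 : sm gc N7471 = N5158 := ded_28_1 (flp_e L44461) (flp_c L44450) L64139
theorem L64145 : sm gf N7471 = N7471 := ded_40_2 (flp_e L64139) (flp_f L44446) L30884 L44446 L64139
theorem L64146 : sm gg N5156 = N7472 := rfl
theorem L64148 : sm gb N7472 = N5279 := ded_23_1 (flp_g L45527) (flp_b L44448) L64146
theorem L64150 : sm gc N7472 = N5159 := ded_30_1 (flp_g L44466) (flp_c L44450) L64146
theorem L64152 : sm gf N7472 = N5211 := ded_45_1 (flp_g L44920) (flp_f L31196) (flp_g L30885) L44446 L64146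
theorem L64154 : sm gh N5156 = N7473 := rfl
theorem L64156 : sm gb N7473 = N5280 := ded_25_1 (flp_h L45533) (flp_b L44448) L64154
theorem L64158 : sm gc N7473 = N5160 := ded_32_1 (flp_h L44474) (flp_c L44450) L64154
theorem L64160 : sm gf N7473 = N5157 := ded_47_1 (flp_h L44452) L44446 L64154
theorem L64162 : sm gd N5157 = N7474 := rfl
theorem L64164 : sm gb N7474 = N5281 := ded_20_1 (flp_d L45539) (flp_b L44454) L64162
theorem L64166 : sm gg N7474 = N5213 := ded_36_2 (flp_d L44935) (flp_g L44459) L64162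
theorem L64168 : sm gc N7474 = N7474 := ded_27_1 (flp_d L64162) L44456 L30902 (flp_c L44456) L64162
theorem L64169 : sm gi N5157 = N7475 := rfl
theorem L64173 : sm gc N7475 = N5161 := ded_33_1 (flp_i L44481) (flp_c L44456) L64169
theorem L64178 : sm gg N5158 = N7476 := rfl
theorem L64180 : sm gb N7476 = N5163 := ded_23_1 (flp_g L44496) (flp_b L44463) L64178
theorem L64182 : sm ge N7476 = N5159 := ded_41_1 (flp_g L44466) L44461 L64178
theorem L64184 : sm gh N5158 = N7477 := rfl
theorem L64186 : sm gb N7477 = N5164 := ded_25_1 (flp_h L44504) (flp_b L44463) L64184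
theorem L64188 : sm ge N7477 = N5160 := ded_43_1 (flp_h L44474) L44461 L64184
theorem L64190 : sm gf N7477 = N7477 := ded_47_1 (flp_h L64184) L44465 L64184
theorem L64191 : sm gj N5159 = N7478 := rfl
theorem L64193 : sm gb N7478 = N5165 := ded_24_1 (flp_j L44513) (flp_b L44468) L64191
theorem L64195 : sm gd N7478 = N5162 := ded_37_1 (flp_j L44489) (flp_d L44470) L64191
theorem L64197 : sm gf N7478 = N5217 := ded_46_1 (flp_j L44964) (flp_f L44472) L64191
theorem L64199 : sm gh N5159 = N7479 := rfl
theorem L64201 : sm gb N7479 = N5166 := ded_25_1 (flp_h L44523) (flp_b L44468) L64199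
theorem L64203 : sm gf N7479 = N5218 := ded_47_1 (flp_h L44971) (flp_f L44472) L64199
theorem L64205 : sm gg N7479 = N5160 := ded_50_1 (flp_h L44474) L44466 L64199
theorem L64207 : sm gd N7479 = N7479 := ded_38_1 (flp_h L64199) L44470 L30907 (flp_d L44470) L64199
theorem L64208 : sm gi N5160 = N7480 := rfl
theorem L64210 : sm gb N7480 = N5167 := ded_26_1 (flp_i L44534) (flp_b L44476) L64208
theorem L64212 : sm gd N7480 = N7480 := ded_39_1 (flp_i L64208) L44480 L64208
theorem L64213 : sm gf N7480 = N5161 := ded_48_1 (flp_i L44481) (flp_f L44478) L64208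
theorem L64215 : sm gf N5163 = N7481 := rfl
theorem L64217 : sm ga N7481 = N5767 := ded_14_1 (flp_f L49654) (flp_a L44498) L64215
theorem L64221 : sm ge N7481 = N5220 := ded_40_1 (flp_f L44986) L31253 (flp_f L30925) (flp_e L44502) L64215
theorem L64224 : sm gj N5163 = N7482 := rfl
theorem L64226 : sm ga N7482 = N5768 := ded_16_1 (flp_j L49661) (flp_a L44498) L64224
theorem L64228 : sm gc N7482 = N5289 := ded_31_1 (flp_j L45600) (flp_c L44500) L64224
theorem L64232 : sm gh N5163 = N7483 := rfl
theorem L64234 : sm ga N7483 = N5769 := ded_17_1 (flp_h L49667) (flp_a L44498) L64232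
theorem L64238 : sm ge N7483 = N5166 := ded_43_1 (flp_h L44523) (flp_e L44502) L64232
theorem L64240 : sm gg N7483 = N5164 := ded_50_1 (flp_h L44504) L44496 L64232
theorem L64242 : sm gd N5164 = N7484 := rfl
theorem L64244 : sm ga N7484 = N5770 := ded_12_1 (flp_d L49675) (flp_a L44506) L64242
theorem L64248 : sm gi N5164 = N7485 := rfl
theorem L64250 : sm ga N7485 = N5771 := ded_18_1 (flp_i L49679) (flp_a L44506) L64248
theorem L64252 : sm gc N7485 = N5292 := ded_33_1 (flp_i L45623) (flp_c L44508) L64248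
theorem L64254 : sm ge N7485 = N5167 := ded_44_1 (flp_i L44534) (flp_e L44510) L64248
theorem L64256 : sm gf N7485 = N7485 := ded_48_1 (flp_i L64248) L44512 L64248
theorem L64257 : sm gh N5165 = N7486 := rfl
theorem L64263 : sm gf N7486 = N5225 := ded_47_1 (flp_h L45033) (flp_f L44521) L64257
theorem L64265 : sm gj N7486 = N5166 := ded_52_1 (flp_h L44523) L44513 L64257
theorem L64268 : sm gi N5166 = N7487 := rfl
theorem L64270 : sm ga N7487 = N5773 := ded_18_1 (flp_i L49695) (flp_a L44525) L64268
theorem L64272 : sm gc N7487 = N5294 := ded_33_1 (flp_i L45640) (flp_c L44527) L64268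
theorem L64274 : sm gd N7487 = N7487 := ded_39_1 (flp_i L64268) L44533 L64268
theorem L64275 : sm gf N7487 = N5226 := ded_48_1 (flp_i L45043) (flp_f L44529) L64268
theorem L64277 : sm gg N7487 = N5167 := ded_51_1 (flp_i L44534) (flp_g L44531) L64268
theorem L64279 : sm gd N5168 = N7488 := rfl
theorem L64281 : sm ga N7488 = N5169 := ded_12_1 (flp_d L44553) (flp_a L44545) L64279
theorem L64283 : sm gb N7488 = N5781 := ded_20_1 (flp_d L49764) (flp_b L44547) L64279
theorem L64287 : sm ge N7488 = N5175 := ded_34_2 (flp_d L44607) (flp_e L31002) (flp_d L30958) L44543 L64279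
theorem L64300 : sm gc N5169 = N7490 := rfl
theorem L64302 : sm ge N7490 = N5177 := ded_28_2 (flp_c L44626) (flp_e L44559) L64300
theorem L64308 : sm gf N5169 = N7491 := rfl
theorem L64312 : sm gd N7491 = N5170 := ded_35_1 (flp_f L44561) L44553 L64308
theorem L64316 : sm gh N5169 = N7492 := rfl
theorem L64318 : sm gb N7492 = N5172 := ded_25_1 (flp_h L44579) (flp_b L44555) L64316
theorem L64324 : sm gg N5170 = N7493 := rfl
theorem L64332 : sm ge N5171 = N7494 := rfl
theorem L64334 : sm ga N7494 = N5787 := ded_13_1 (flp_e L49810) (flp_a L44572) L64332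
theorem L64340 : sm gf N7494 = N5181 := ded_40_2 (flp_e L44654) (flp_f L31027) (flp_e L30981) L44570 L64332
theorem L64342 : sm gg N5171 = N7495 := rfl
theorem L64344 : sm ga N7495 = N5788 := ded_15_1 (flp_g L49818) (flp_a L44572) L64342
theorem L64350 : sm gh N5171 = N7496 := rfl
theorem L64352 : sm ga N7496 = N5789 := ded_17_1 (flp_h L49824) (flp_a L44572) L64350
theorem L64355 : sm gf N7496 = N5172 := ded_47_1 (flp_h L44579) L44570 L64350
theorem L64359 : sm gi N5172 = N7497 := rfl
theorem L64379 : sm gc N5175 = N7499 := rfl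
theorem L64381 : sm ga N7499 = N5177 := ded_11_1 (flp_c L44626) (flp_a L44609) L64379
theorem L64385 : sm gf N5175 = N7500 := rfl
theorem L64389 : sm gb N7500 = N5793 := ded_22_1 (flp_f L49854) (flp_b L44611) L64385
theorem L64395 : sm gh N5175 = N7501 := rfl
theorem L64402 : sm gd N7501 = N5188 := ded_38_1 (flp_h L44719) (flp_d L31064) (flp_h L31009) L44607 L64395
theorem L64414 : sm gf N5177 = N7503 := rfl
theorem L64417 : sm gc N7503 = N5178 := ded_29_1 (flp_f L44631) L44626 L64414
theorem L64421 : sm gh N5177 = N7504 := rfl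
theorem L64424 : sm gc N7504 = N5179 := ded_32_1 (flp_h L44639) L44626 L64421
theorem L64427 : sm ge N5178 = N7505 := rfl
theorem L64429 : sm gb N7505 = N5181 := ded_21_1 (flp_e L44654) (flp_b L44633) L64427
theorem L64434 : sm gg N5178 = N7506 := rfl
theorem L64438 : sm gd N7506 = N5180 := ded_36_1 (flp_g L44646) (flp_d L44635) L64434
theorem L64441 : sm gh N5178 = N7507 := rfl
theorem L64445 : sm gf N7507 = N5179 := ded_47_1 (flp_h L44639) L44631 L64441
theorem L64448 : sm gd N7507 = N5194 := ded_38_1 (flp_h L44770) L31096 (flp_h L31023) (flp_d L44635) L64441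
theorem L64450 : sm gi N5179 = N7508 := rfl
theorem L64458 : sm gj N5180 = N7509 := rfl
theorem L64463 : sm gh N7509 = N5196 := ded_52_2 (flp_j L44785) (flp_h L44651) L64458
theorem L64467 : sm gg N5181 = N7510 := rfl
theorem L64469 : sm ga N7510 = N5803 := ded_15_1 (flp_g L49933) (flp_a L44656) L64467
theorem L64473 : sm ge N7510 = N5182 := ded_41_1 (flp_g L44662) L44654 L64467
theorem L64476 : sm gh N5181 = N7511 := rfl
theorem L64478 : sm ga N7511 = N5804 := ded_17_1 (flp_h L49940) (flp_a L44656) L64476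
theorem L64480 : sm gc N7511 = N7511 := ded_32_1 (flp_h L64476) L44658 L64476
theorem L64481 : sm ge N7511 = N5183 := ded_43_1 (flp_h L44670) L44654 L64476
theorem L64484 : sm gj N5182 = N7512 := rfl
theorem L64489 : sm gd N7512 = N5185 := ded_37_1 (flp_j L44689) (flp_d L44667) L64484
theorem L64493 : sm gh N5182 = N7513 := rfl
theorem L64500 : sm gd N7513 = N5200 := ded_38_1 (flp_h L44825) L31131 (flp_h L31051) (flp_d L44667) L64493
theorem L64513 : sm gb N5186 = N7515 := rfl
theorem L64517 : sm gi N7515 = N5202 := ded_26_2 (flp_b L44844) (flp_i L44706) L64513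
theorem L64519 : sm ga N7515 = N5295 := ded_10_1 (flp_b L45650) L31697 (flp_b L31090) (flp_a L44702) L64513
theorem L64521 : sm gc N7515 = N5808 := ded_19_2 (flp_b L49969) (flp_c L34709) (flp_b L31068) L44700 L64513
theorem L64523 : sm gf N5186 = N7516 := rfl
theorem L64525 : sm ga N7516 = N5190 := ded_14_1 (flp_f L44736) (flp_a L44702) L64523
theorem L64527 : sm gc N7516 = N5187 := ded_29_1 (flp_f L44708) L44700 L64523
theorem L64530 : sm gi N7516 = N5203 := ded_48_2 (flp_f L44852) (flp_i L44706) L64523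
theorem L64532 : sm gh N5186 = N7517 := rfl
theorem L64534 : sm ga N7517 = N5191 := ded_17_1 (flp_h L44745) (flp_a L44702) L64532
theorem L64536 : sm gc N7517 = N5188 := ded_32_1 (flp_h L44719) L44700 L64532
theorem L64540 : sm ge N5187 = N7518 := rfl
theorem L64542 : sm ga N7518 = N5192 := ded_13_1 (flp_e L44753) (flp_a L44710) L64540
theorem L64544 : sm gb N7518 = N5811 := ded_21_1 (flp_e L49996) (flp_b L44712) L64540
theorem L64547 : sm gi N7518 = N5205 := ded_44_2 (flp_e L44867) (flp_i L44717) L64540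
theorem L64551 : sm gg N5187 = N7519 := rfl
theorem L64553 : sm ga N7519 = N5193 := ded_15_1 (flp_g L44762) (flp_a L44710) L64551
theorem L64557 : sm gd N7519 = N5189 := ded_36_1 (flp_g L44727) (flp_d L44714) L64551
theorem L64559 : sm gi N7519 = N5206 := ded_51_2 (flp_g L44876) (flp_i L44717) L64551
theorem L64580 : sm gj N5189 = N7522 := rfl
theorem L64582 : sm ga N7522 = N5196 := ded_16_1 (flp_j L44785) (flp_a L44729) L64580
theorem L64590 : sm ge N5190 = N7523 := rfl
theorem L64592 : sm gb N7523 = N5303 := ded_21_1 (flp_e L45730) (flp_b L44738) L64590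
theorem L64594 : sm gc N7523 = N5192 := ded_28_1 (flp_e L44753) (flp_c L44740) L64590
theorem L64596 : sm gj N7523 = N7523 := ded_42_2 (flp_e L64590) L44742 L64590
theorem L64597 : sm gi N7523 = N5210 := ded_44_2 (flp_e L44912) (flp_i L44743) L64590
theorem L64599 : sm gf N7523 = N7523 := ded_40_2 (flp_e L64590) (flp_f L44736) L31086 L44736 L64590
theorem L64600 : sm gg N5190 = N7524 := rfl
theorem L64602 : sm gb N7524 = N5304 := ded_23_1 (flp_g L45738) (flp_b L44738) L64600
theorem L64604 : sm gc N7524 = N5193 := ded_30_1 (flp_g L44762) (flp_c L44740) L64600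
theorem L64606 : sm gi N7524 = N5211 := ded_51_2 (flp_g L44920) (flp_i L44743) L64600
theorem L64608 : sm gh N5190 = N7525 := rfl
theorem L64610 : sm gb N7525 = N5305 := ded_25_1 (flp_h L45744) (flp_b L44738) L64608
theorem L64612 : sm gc N7525 = N5194 := ded_32_1 (flp_h L44770) (flp_c L44740) L64608
theorem L64614 : sm gf N7525 = N5191 := ded_47_1 (flp_h L44745) L44736 L64608
theorem L64617 : sm gd N5191 = N7526 := rfl
theorem L64622 : sm gi N5191 = N7527 := rfl
theorem L64624 : sm gb N7527 = N5307 := ded_26_1 (flp_i L45755) (flp_b L44747) L64622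
theorem L64632 : sm gg N5192 = N7528 := rfl
theorem L64634 : sm gb N7528 = N5197 := ded_23_1 (flp_g L44793) (flp_b L44755) L64632
theorem L64636 : sm gd N7528 = N7528 := ded_36_1 (flp_g L64632) L44760 L64632
theorem L64637 : sm ge N7528 = N5193 := ded_41_1 (flp_g L44762) L44753 L64632
theorem L64639 : sm gi N7528 = N5215 := ded_51_2 (flp_g L44949) (flp_i L44758) L64632
theorem L64641 : sm gh N5192 = N7529 := rfl
theorem L64643 : sm gb N7529 = N5198 := ded_25_1 (flp_h L44804) (flp_b L44755) L64641
theorem L64645 : sm ge N7529 = N5194 := ded_43_1 (flp_h L44770) L44753 L64641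
theorem L64649 : sm gj N5193 = N7530 := rfl
theorem L64651 : sm gb N7530 = N5199 := ded_24_1 (flp_j L44814) (flp_b L44764) L64649
theorem L64653 : sm gd N7530 = N5196 := ded_37_1 (flp_j L44785) (flp_d L44766) L64649
theorem L64655 : sm gi N7530 = N5217 := ded_53_2 (flp_j L44964) (flp_i L44768) L64649
theorem L64657 : sm gg N7530 = N7530 := ded_49_1 (flp_j L64649) (flp_g L44762) L31098 L44762 L64649
theorem L64658 : sm gh N5193 = N7531 := rfl
theorem L64664 : sm gi N5194 = N7532 := rfl
theorem L64666 : sm gb N7532 = N5201 := ded_26_1 (flp_i L44833) (flp_b L44772) L64664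
theorem L64671 : sm gh N7532 = N5219 := ded_54_1 (flp_i L44978) (flp_h L31224) (flp_i L31099) L44770 L64664
theorem L64673 : sm gf N5197 = N7533 := rfl
theorem L64675 : sm ga N7533 = N5826 := ded_14_1 (flp_f L50122) (flp_a L44795) L64673
theorem L64677 : sm gc N7533 = N5313 := ded_29_1 (flp_f L45807) (flp_c L44797) L64673
theorem L64679 : sm gd N7533 = N7533 := ded_35_1 (flp_f L64673) L44799 L64673
theorem L64680 : sm gi N7533 = N5220 := ded_48_2 (flp_f L44986) (flp_i L44802) L64673
theorem L64682 : sm gg N7533 = N7533 := ded_45_2 (flp_f L64673) (flp_g L44793) L31124 L44793 L64673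
theorem L64683 : sm gj N5197 = N7534 := rfl
theorem L64685 : sm ga N7534 = N5827 := ded_16_1 (flp_j L50130) (flp_a L44795) L64683
theorem L64687 : sm gc N7534 = N5314 := ded_31_1 (flp_j L45816) (flp_c L44797) L64683
theorem L64689 : sm gd N7534 = N7534 := ded_37_1 (flp_j L64683) L44799 L64683
theorem L64690 : sm ge N7534 = N5199 := ded_42_1 (flp_j L44814) (flp_e L44800) L64683
theorem L64692 : sm gi N7534 = N5221 := ded_53_2 (flp_j L44994) (flp_i L44802) L64683
theorem L64694 : sm gg N7534 = N7534 := ded_49_1 (flp_j L64683) (flp_g L44793) L31120 L44793 L64683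
theorem L64695 : sm gh N5197 = N7535 := rfl
theorem L64697 : sm ga N7535 = N5828 := ded_17_1 (flp_h L50140) (flp_a L44795) L64695
theorem L64699 : sm gc N7535 = N5315 := ded_32_1 (flp_h L45827) (flp_c L44797) L64695
theorem L64701 : sm ge N7535 = N5200 := ded_43_1 (flp_h L44825) (flp_e L44800) L64695
theorem L64703 : sm gg N7535 = N5198 := ded_50_1 (flp_h L44804) L44793 L64695
theorem L64705 : sm gd N5198 = N7536 := rfl
theorem L64712 : sm gi N5198 = N7537 := rfl
theorem L64716 : sm gc N7537 = N5317 := ded_33_1 (flp_i L45844) (flp_c L44808) L64712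
theorem L64722 : sm gh N7537 = N5224 := ded_54_1 (flp_i L45023) (flp_h L31255) (flp_i L31121) L44804 L64712
theorem L64724 : sm gh N5199 = N7538 := rfl
theorem L64733 : sm gi N5200 = N7539 := rfl
theorem L64737 : sm gc N7539 = N5319 := ded_33_1 (flp_i L45862) (flp_c L44829) L64733
theorem L64741 : sm gh N7539 = N5226 := ded_54_1 (flp_i L45043) (flp_h L31274) (flp_i L31133) L44825 L64733
theorem L64743 : sm gf N5202 = N7540 := rfl
theorem L64745 : sm ga N7540 = N5320 := ded_14_1 (flp_f L45871) (flp_a L44848) L64743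
theorem L64747 : sm gb N7540 = N5203 := ded_22_1 (flp_f L44852) L44844 L64743
theorem L64749 : sm gc N7540 = N5833 := ded_29_1 (flp_f L50178) (flp_c L44850) L64743
theorem L64751 : sm gj N7540 = N7540 := ded_46_2 (flp_f L64743) L44847 L64743
theorem L64752 : sm gh N5202 = N7541 := rfl
theorem L64756 : sm gb N7541 = N5204 := ded_25_1 (flp_h L44859) L44844 L64752
theorem L64762 : sm ge N5203 = N7542 := rfl
theorem L64764 : sm ga N7542 = N5210 := ded_13_1 (flp_e L44912) (flp_a L44854) L64762
theorem L64766 : sm gc N7542 = N5205 := ded_28_1 (flp_e L44867) (flp_c L44856) L64762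
theorem L64768 : sm gj N7542 = N7542 := ded_42_2 (flp_e L64762) L44858 L64762
theorem L64769 : sm gf N7542 = N7542 := ded_40_2 (flp_e L64762) (flp_f L44852) L31168 L44852 L64762
theorem L64770 : sm gg N5203 = N7543 := rfl
theorem L64772 : sm ga N7543 = N5211 := ded_15_1 (flp_g L44920) (flp_a L44854) L64770
theorem L64774 : sm gc N7543 = N5206 := ded_30_1 (flp_g L44876) (flp_c L44856) L64770
theorem L64776 : sm gh N5203 = N7544 := rfl
theorem L64778 : sm ga N7544 = N5212 := ded_17_1 (flp_h L44926) (flp_a L44854) L64776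
theorem L64780 : sm gc N7544 = N5207 := ded_32_1 (flp_h L44884) (flp_c L44856) L64776
theorem L64782 : sm gf N7544 = N5204 := ded_47_1 (flp_h L44859) L44852 L64776
theorem L64784 : sm gj N7544 = N7544 := ded_52_1 (flp_h L64776) L44858 L64776
theorem L64785 : sm gd N5204 = N7545 := rfl
theorem L64787 : sm ga N7545 = N5213 := ded_12_1 (flp_d L44935) (flp_a L44861) L64785
theorem L64791 : sm gi N5204 = N7546 := rfl
theorem L64799 : sm gg N5205 = N7547 := rfl
theorem L64801 : sm ga N7547 = N5215 := ded_15_1 (flp_g L44949) (flp_a L44869) L64799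
theorem L64803 : sm gb N7547 = N5840 := ded_23_1 (flp_g L50233) (flp_b L44871) L64799
theorem L64805 : sm gd N7547 = N7547 := ded_36_1 (flp_g L64799) L44874 L64799
theorem L64806 : sm ge N7547 = N5206 := ded_41_1 (flp_g L44876) L44867 L64799
theorem L64808 : sm gh N5205 = N7548 := rfl
theorem L64810 : sm ga N7548 = N5216 := ded_17_1 (flp_h L44956) (flp_a L44869) L64808
theorem L64812 : sm gb N7548 = N5841 := ded_25_1 (flp_h L50240) (flp_b L44871) L64808
theorem L64814 : sm ge N7548 = N5207 := ded_43_1 (flp_h L44884) L44867 L64808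
theorem L64816 : sm gf N7548 = N7548 := ded_47_1 (flp_h L64808) L44875 L64808
theorem L64817 : sm gj N7548 = N7548 := ded_52_1 (flp_h L64808) L44873 L64808
theorem L64818 : sm gj N5206 = N7549 := rfl
theorem L64820 : sm ga N7549 = N5217 := ded_16_1 (flp_j L44964) (flp_a L44878) L64818
theorem L64822 : sm gb N7549 = N5842 := ded_24_1 (flp_j L50248) (flp_b L44880) L64818
theorem L64824 : sm gd N7549 = N5209 := ded_37_1 (flp_j L44903) (flp_d L44882) L64818
theorem L64826 : sm gg N7549 = N7549 := ded_49_1 (flp_j L64818) (flp_g L44876) L31178 L44876 L64818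
theorem L64827 : sm gh N5206 = N7550 := rfl
theorem L64829 : sm ga N7550 = N5218 := ded_17_1 (flp_h L44971) (flp_a L44878) L64827
theorem L64831 : sm gb N7550 = N5843 := ded_25_1 (flp_h L50255) (flp_b L44880) L64827
theorem L64833 : sm gg N7550 = N5207 := ded_50_1 (flp_h L44884) L44876 L64827
theorem L64835 : sm gd N7550 = N7550 := ded_38_1 (flp_h L64827) L44882 L31195 (flp_d L44882) L64827
theorem L64836 : sm gi N5207 = N7551 := rfl
theorem L64838 : sm ga N7551 = N5219 := ded_18_1 (flp_i L44978) (flp_a L44886) L64836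
theorem L64846 : sm gd N5210 = N7552 := rfl
theorem L64848 : sm gb N7552 = N5332 := ded_20_1 (flp_d L45975) (flp_b L44914) L64846
theorem L64850 : sm gf N7552 = N7552 := ded_35_2 (flp_d L64846) L44919 L64846
theorem L64851 : sm gj N7552 = N7552 := ded_37_2 (flp_d L64846) L44918 L64846
theorem L64852 : sm gc N7552 = N7552 := ded_27_1 (flp_d L64846) L44916 L31216 (flp_c L44916) L64846
theorem L64853 : sm gg N5210 = N7553 := rfl
theorem L64855 : sm gb N7553 = N5333 := ded_23_1 (flp_g L45981) (flp_b L44914) L64853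
theorem L64857 : sm gc N7553 = N5215 := ded_30_1 (flp_g L44949) (flp_c L44916) L64853
theorem L64859 : sm ge N7553 = N5211 := ded_41_1 (flp_g L44920) L44912 L64853
theorem L64861 : sm gh N5210 = N7554 := rfl
theorem L64863 : sm gb N7554 = N5334 := ded_25_1 (flp_h L45987) (flp_b L44914) L64861
theorem L64865 : sm gc N7554 = N5216 := ded_32_1 (flp_h L44956) (flp_c L44916) L64861
theorem L64867 : sm ge N7554 = N5212 := ded_43_1 (flp_h L44926) L44912 L64861
theorem L64869 : sm gf N7554 = N7554 := ded_47_1 (flp_h L64861) L44919 L64861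
theorem L64870 : sm gj N7554 = N7554 := ded_52_1 (flp_h L64861) L44918 L64861
theorem L64871 : sm gj N5211 = N7555 := rfl
theorem L64873 : sm gb N7555 = N5335 := ded_24_1 (flp_j L45995) (flp_b L44922) L64871
theorem L64875 : sm gc N7555 = N5217 := ded_31_1 (flp_j L44964) (flp_c L44924) L64871
theorem L64877 : sm gg N7555 = N7555 := ded_49_1 (flp_j L64871) (flp_g L44920) L31202 L44920 L64871
theorem L64878 : sm gh N5211 = N7556 := rfl
theorem L64880 : sm gb N7556 = N5336 := ded_25_1 (flp_h L46000) (flp_b L44922) L64878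
theorem L64882 : sm gc N7556 = N5218 := ded_32_1 (flp_h L44971) (flp_c L44924) L64878
theorem L64884 : sm gg N7556 = N5212 := ded_50_1 (flp_h L44926) L44920 L64878
theorem L64886 : sm gd N5212 = N7557 := rfl
theorem L64888 : sm gb N7557 = N5337 := ded_20_1 (flp_d L46006) (flp_b L44928) L64886
theorem L64890 : sm gf N7557 = N5213 := ded_35_2 (flp_d L44935) (flp_f L44932) L64886
theorem L64892 : sm gj N7557 = N7557 := ded_37_2 (flp_d L64886) L44934 L64886
theorem L64893 : sm gc N7557 = N7557 := ded_27_1 (flp_d L64886) L44930 L31231 (flp_c L44930) L64886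
theorem L64894 : sm gi N5212 = N7558 := rfl
theorem L64898 : sm gc N7558 = N5219 := ded_33_1 (flp_i L44978) (flp_c L44930) L64894
theorem L64903 : sm ge N5213 = N7559 := rfl
theorem L64905 : sm gb N7559 = N5339 := ded_21_1 (flp_e L46020) (flp_b L44937) L64903
theorem L64907 : sm gc N7559 = N7559 := ded_28_1 (flp_e L64903) L44940 L64903
theorem L64908 : sm gj N7559 = N7559 := ded_42_2 (flp_e L64903) L44939 L64903
theorem L64909 : sm gd N7559 = N7559 := ded_34_1 (flp_e L64903) (flp_d L44935) L31209 L44935 L64903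
theorem L64910 : sm gi N5213 = N7560 := rfl
theorem L64918 : sm gf N5215 = N7561 := rfl
theorem L64920 : sm gb N7561 = N5220 := ded_22_1 (flp_f L44986) (flp_b L44951) L64918
theorem L64922 : sm gd N7561 = N7561 := ded_35_1 (flp_f L64918) L44953 L64918
theorem L64923 : sm gg N7561 = N7561 := ded_45_2 (flp_f L64918) (flp_g L44949) L31217 L44949 L64918
theorem L64924 : sm gj N5215 = N7562 := rfl
theorem L64926 : sm gb N7562 = N5221 := ded_24_1 (flp_j L44994) (flp_b L44951) L64924
theorem L64928 : sm gd N7562 = N7562 := ded_37_1 (flp_j L64924) L44953 L64924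
theorem L64929 : sm ge N7562 = N5217 := ded_42_1 (flp_j L44964) (flp_e L44954) L64924
theorem L64931 : sm gg N7562 = N7562 := ded_49_1 (flp_j L64924) (flp_g L44949) L31215 L44949 L64924
theorem L64932 : sm gh N5215 = N7563 := rfl
theorem L64934 : sm gb N7563 = N5222 := ded_25_1 (flp_h L45004) (flp_b L44951) L64932
theorem L64936 : sm ge N7563 = N5218 := ded_43_1 (flp_h L44971) (flp_e L44954) L64932
theorem L64938 : sm gg N7563 = N5216 := ded_50_1 (flp_h L44956) L44949 L64932
theorem L64940 : sm gd N5216 = N7564 := rfl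
theorem L64942 : sm gb N7564 = N5223 := ded_20_1 (flp_d L45014) (flp_b L44958) L64940
theorem L64944 : sm gf N7564 = N7564 := ded_35_2 (flp_d L64940) L44962 L64940
theorem L64945 : sm gj N7564 = N7564 := ded_37_2 (flp_d L64940) L44963 L64940
theorem L64946 : sm ge N7564 = N7564 := ded_34_2 (flp_d L64940) L44960 L31231 (flp_e L44960) L64940
theorem L64947 : sm gh N7564 = N7564 := ded_38_2 (flp_d L64940) (flp_h L44956) L31216 L44956 L64940
theorem L64948 : sm gi N5216 = N7565 := rfl
theorem L64950 : sm gb N7565 = N5224 := ded_26_1 (flp_i L45023) (flp_b L44958) L64948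
theorem L64952 : sm ge N7565 = N5219 := ded_44_1 (flp_i L44978) (flp_e L44960) L64948
theorem L64954 : sm gf N7565 = N7565 := ded_48_1 (flp_i L64948) L44962 L64948
theorem L64955 : sm gj N7565 = N7565 := ded_53_1 (flp_i L64948) L44963 L64948
theorem L64956 : sm gh N5217 = N7566 := rfl
theorem L64958 : sm gb N7566 = N5225 := ded_25_1 (flp_h L45033) (flp_b L44966) L64956
theorem L64960 : sm gg N7566 = N7566 := ded_50_1 (flp_h L64956) L44970 L64956
theorem L64961 : sm gj N7566 = N5218 := ded_52_1 (flp_h L44971) L44964 L64956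
theorem L64963 : sm gd N7566 = N7566 := ded_38_1 (flp_h L64956) L44968 L31244 (flp_d L44968) L64956
theorem L64964 : sm gi N5218 = N7567 := rfl
theorem L64966 : sm gb N7567 = N5226 := ded_26_1 (flp_i L45043) (flp_b L44973) L64964
theorem L64968 : sm gd N7567 = N7567 := ded_39_1 (flp_i L64964) L44977 L64964
theorem L64969 : sm gg N7567 = N5219 := ded_51_1 (flp_i L44978) (flp_g L44975) L64964
theorem L64971 : sm gj N5220 = N7568 := rfl
theorem L64973 : sm ga N7568 = N5861 := ded_16_1 (flp_j L50399) (flp_a L44988) L64971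
theorem L64975 : sm gc N7568 = N5347 := ded_31_1 (flp_j L46084) (flp_c L44990) L64971
theorem L64978 : sm gf N7568 = N5221 := ded_46_1 (flp_j L44994) L44986 L64971
theorem L64980 : sm gh N5220 = N7569 := rfl
theorem L64982 : sm ga N7569 = N5862 := ded_17_1 (flp_h L50406) (flp_a L44988) L64980
theorem L64986 : sm gf N7569 = N5222 := ded_47_1 (flp_h L45004) L44986 L64980
theorem L64989 : sm gh N5221 = N7570 := rfl
theorem L64991 : sm ga N7570 = N5863 := ded_17_1 (flp_h L50413) (flp_a L44996) L64989
theorem L64995 : sm ge N7570 = N5225 := ded_43_1 (flp_h L45033) (flp_e L45001) L64989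
theorem L64998 : sm gj N7570 = N5222 := ded_52_1 (flp_h L45004) L44994 L64989
theorem L65000 : sm gd N5222 = N7571 := rfl
theorem L65002 : sm ga N7571 = N5864 := ded_12_1 (flp_d L50422) (flp_a L45006) L65000
theorem L65004 : sm gg N7571 = N5223 := ded_36_2 (flp_d L45014) (flp_g L45012) L65000
theorem L65009 : sm gi N5222 = N7572 := rfl
theorem L65011 : sm ga N7572 = N5865 := ded_18_1 (flp_i L50429) (flp_a L45006) L65009
theorem L65013 : sm gc N7572 = N5350 := ded_33_1 (flp_i L46110) (flp_c L45008) L65009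
theorem L65015 : sm ge N7572 = N5226 := ded_44_1 (flp_i L45043) (flp_e L45010) L65009
theorem L65017 : sm gg N7572 = N5224 := ded_51_1 (flp_i L45023) (flp_g L45012) L65009
theorem L65019 : sm gi N5223 = N7573 := rfl
theorem L65021 : sm ga N7573 = N5866 := ded_18_1 (flp_i L50437) (flp_a L45016) L65019
theorem L65023 : sm gc N7573 = N7573 := ded_33_1 (flp_i L65019) L45020 L65019
theorem L65024 : sm gd N7573 = N5224 := ded_39_1 (flp_i L45023) L45014 L65019
theorem L65026 : sm ge N7573 = N7573 := ded_44_1 (flp_i L65019) L45021 L65019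
theorem L65027 : sm gf N7573 = N7573 := ded_48_1 (flp_i L65019) L45018 L65019
theorem L65028 : sm gj N7573 = N7573 := ded_53_1 (flp_i L65019) L45019 L65019
theorem L65029 : sm gi N5225 = N7574 := rfl
theorem L65031 : sm ga N7574 = N5867 := ded_18_1 (flp_i L50445) (flp_a L45035) L65029
theorem L65033 : sm gc N7574 = N5351 := ded_33_1 (flp_i L46119) (flp_c L45037) L65029
theorem L65035 : sm gd N7574 = N7574 := ded_39_1 (flp_i L65029) L45042 L65029
theorem L65036 : sm gg N7574 = N7574 := ded_51_1 (flp_i L65029) L45039 L65029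
theorem L65037 : sm gj N7574 = N5226 := ded_53_1 (flp_i L45043) (flp_j L45040) L65029
theorem L65039 : sm gc N5227 = N7575 := rfl
theorem L65041 : sm ga N7575 = N5229 := ded_11_1 (flp_c L45076) (flp_a L45054) L65039
theorem L65043 : sm ge N7575 = N7575 := ded_28_2 (flp_c L65039) L45063 L65039
theorem L65044 : sm gg N7575 = N7575 := ded_30_2 (flp_c L65039) L45058 L65039
theorem L65045 : sm gj N7575 = N5254 := ded_31_2 (flp_c L45307) (flp_j L45059) L65039
theorem L65047 : sm gi N7575 = N5238 := ded_33_2 (flp_c L45164) (flp_i L45061) L65039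
theorem L65049 : sm gf N5227 = N7576 := rfl
theorem L65051 : sm ga N7576 = N5230 := ded_14_1 (flp_f L45084) (flp_a L45054) L65049
theorem L65053 : sm gb N7576 = N5869 := ded_22_1 (flp_f L50464) (flp_b L45056) L65049
theorem L65055 : sm gd N7576 = N5228 := ded_35_1 (flp_f L45064) L45052 L65049
theorem L65057 : sm gj N7576 = N5255 := ded_46_2 (flp_f L45316) (flp_j L45059) L65049
theorem L65059 : sm gi N7576 = N5239 := ded_48_2 (flp_f L45172) (flp_i L45061) L65049
theorem L65072 : sm gg N5228 = N7578 := rfl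
theorem L65074 : sm ga N7578 = N5232 := ded_15_1 (flp_g L45103) (flp_a L45066) L65072
theorem L65076 : sm gb N7578 = N5871 := ded_23_1 (flp_g L50483) (flp_b L45068) L65072
theorem L65078 : sm ge N7578 = N7578 := ded_41_1 (flp_g L65072) L45075 L65072
theorem L65079 : sm gh N7578 = N7578 := ded_50_2 (flp_g L65072) L45072 L65072
theorem L65080 : sm gi N7578 = N5241 := ded_51_2 (flp_g L45194) (flp_i L45073) L65072
theorem L65082 : sm gf N7578 = N7578 := ded_45_1 (flp_g L65072) (flp_f L45064) L31299 L45064 L65072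
theorem L65083 : sm gf N5229 = N7579 := rfl
theorem L65085 : sm gc N7579 = N5230 := ded_29_1 (flp_f L45084) L45076 L65083
theorem L65087 : sm gj N7579 = N5258 := ded_46_2 (flp_f L45348) (flp_j L45080) L65083
theorem L65089 : sm gi N7579 = N5242 := ded_48_2 (flp_f L45204) (flp_i L45082) L65083
theorem L65091 : sm gh N5229 = N7580 := rfl
theorem L65093 : sm gc N7580 = N5231 := ded_32_1 (flp_h L45094) L45076 L65091
theorem L65095 : sm ge N7580 = N7580 := ded_43_1 (flp_h L65091) L45078 L65091
theorem L65096 : sm gg N7580 = N7580 := ded_50_1 (flp_h L65091) L45079 L65091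
theorem L65097 : sm gj N7580 = N5259 := ded_52_1 (flp_h L45354) (flp_j L45080) L65091
theorem L65099 : sm ge N5230 = N7581 := rfl
theorem L65101 : sm gb N7581 = N5233 := ded_21_1 (flp_e L45112) (flp_b L45086) L65099
theorem L65103 : sm gj N7581 = N5260 := ded_42_2 (flp_e L45361) (flp_j L45090) L65099
theorem L65105 : sm gi N7581 = N5244 := ded_44_2 (flp_e L45218) (flp_i L45092) L65099
theorem L65107 : sm gd N7581 = N7581 := ded_34_1 (flp_e L65099) L45088 L31324 (flp_d L45088) L65099
theorem L65108 : sm gf N7581 = N7581 := ded_40_2 (flp_e L65099) (flp_f L45084) L31314 L45084 L65099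
theorem L65109 : sm gg N5230 = N7582 := rfl
theorem L65111 : sm gb N7582 = N5234 := ded_23_1 (flp_g L45122) (flp_b L45086) L65109
theorem L65113 : sm gd N7582 = N5232 := ded_36_1 (flp_g L45103) (flp_d L45088) L65109
theorem L65115 : sm gi N7582 = N5245 := ded_51_2 (flp_g L45226) (flp_i L45092) L65109
theorem L65117 : sm gf N7582 = N7582 := ded_45_1 (flp_g L65109) (flp_f L45084) L31309 L45084 L65109
theorem L65118 : sm gh N5230 = N7583 := rfl
theorem L65120 : sm gb N7583 = N5235 := ded_25_1 (flp_h L45131) (flp_b L45086) L65118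
theorem L65122 : sm gf N7583 = N5231 := ded_47_1 (flp_h L45094) L45084 L65118
theorem L65124 : sm gj N7583 = N5262 := ded_52_1 (flp_h L45379) (flp_j L45090) L65118
theorem L65126 : sm gd N7583 = N7583 := ded_38_1 (flp_h L65118) L45088 L31321 (flp_d L45088) L65118
theorem L65138 : sm gj N5232 = N7585 := rfl
theorem L65140 : sm gb N7585 = N5237 := ded_24_1 (flp_j L45151) (flp_b L45105) L65138
theorem L65142 : sm ge N7585 = N7585 := ded_42_1 (flp_j L65138) L45107 L65138
theorem L65143 : sm gf N7585 = N7585 := ded_46_1 (flp_j L65138) L45111 L65138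
theorem L65144 : sm gh N7585 = N7585 := ded_52_2 (flp_j L65138) L45108 L65138
theorem L65145 : sm gi N7585 = N5248 := ded_53_2 (flp_j L45253) (flp_i L45109) L65138
theorem L65147 : sm gg N7585 = N5264 := ded_49_1 (flp_j L45396) (flp_g L31510) (flp_j L31319) L45103 L65138
theorem L65149 : sm gg N5233 = N7586 := rfl
theorem L65151 : sm ga N7586 = N5879 := ded_15_1 (flp_g L50561) (flp_a L45114) L65149
theorem L65153 : sm gd N7586 = N7586 := ded_36_1 (flp_g L65149) L45120 L65149
theorem L65154 : sm ge N7586 = N5234 := ded_41_1 (flp_g L45122) L45112 L65149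
theorem L65156 : sm gi N7586 = N5249 := ded_51_2 (flp_g L45263) (flp_i L45118) L65149
theorem L65158 : sm gh N5233 = N7587 := rfl
theorem L65160 : sm ga N7587 = N5880 := ded_17_1 (flp_h L50568) (flp_a L45114) L65158
theorem L65162 : sm ge N7587 = N5235 := ded_43_1 (flp_h L45131) L45112 L65158
theorem L65164 : sm gf N7587 = N7587 := ded_47_1 (flp_h L65158) L45121 L65158
theorem L65165 : sm gj N7587 = N5266 := ded_52_1 (flp_h L45415) (flp_j L45116) L65158
theorem L65167 : sm gj N5234 = N7588 := rfl
theorem L65178 : sm gh N5234 = N7589 := rfl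
theorem L65180 : sm ga N7589 = N5882 := ded_17_1 (flp_h L50584) (flp_a L45124) L65178
theorem L65182 : sm gf N7589 = N7589 := ded_47_1 (flp_h L65178) L45130 L65178
theorem L65183 : sm gg N7589 = N5235 := ded_50_1 (flp_h L45131) L45122 L65178
theorem L65185 : sm gd N7589 = N7589 := ded_38_1 (flp_h L65178) L45126 L31351 (flp_d L45126) L65178
theorem L65186 : sm gi N5235 = N7590 := rfl
theorem L65188 : sm ga N7590 = N5883 := ded_18_1 (flp_i L50590) (flp_a L45133) L65186
theorem L65190 : sm gd N7590 = N7590 := ded_39_1 (flp_i L65186) L45139 L65186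
theorem L65191 : sm gf N7590 = N5236 := ded_48_1 (flp_i L45140) (flp_f L45135) L65186
theorem L65193 : sm gj N7590 = N5269 := ded_53_1 (flp_i L45441) (flp_j L45137) L65186
theorem L65195 : sm gh N7590 = N5253 := ded_54_1 (flp_i L45297) (flp_h L31434) (flp_i L31333) L45131 L65186
theorem L65197 : sm gb N5238 = N7591 := rfl
theorem L65201 : sm gj N7591 = N5270 := ded_24_2 (flp_b L45450) (flp_j L45170) L65197
theorem L65203 : sm gc N7591 = N5884 := ded_19_2 (flp_b L50599) (flp_c L35129) (flp_b L31370) L45164 L65197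
theorem L65205 : sm gf N5238 = N7592 := rfl
theorem L65207 : sm ga N7592 = N5242 := ded_14_1 (flp_f L45204) (flp_a L45166) L65205
theorem L65209 : sm gc N7592 = N5239 := ded_29_1 (flp_f L45172) L45164 L65205
theorem L65211 : sm gj N7592 = N5271 := ded_46_2 (flp_f L45457) (flp_j L45170) L65205
theorem L65213 : sm gh N5238 = N7593 := rfl
theorem L65215 : sm ga N7593 = N5243 := ded_17_1 (flp_h L45210) (flp_a L45166) L65213
theorem L65217 : sm gc N7593 = N5240 := ded_32_1 (flp_h L45182) L45164 L65213
theorem L65221 : sm gj N7593 = N5272 := ded_52_1 (flp_h L45463) (flp_j L45170) L65213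
theorem L65223 : sm ge N5239 = N7594 := rfl
theorem L65225 : sm ga N7594 = N5244 := ded_13_1 (flp_e L45218) (flp_a L45174) L65223
theorem L65227 : sm gb N7594 = N5887 := ded_21_1 (flp_e L50625) (flp_b L45176) L65223
theorem L65229 : sm gj N7594 = N5273 := ded_42_2 (flp_e L45472) (flp_j L45180) L65223
theorem L65231 : sm gd N7594 = N7594 := ded_34_1 (flp_e L65223) L45178 L31386 (flp_d L45178) L65223
theorem L65232 : sm gf N7594 = N7594 := ded_40_2 (flp_e L65223) (flp_f L45172) L31375 L45172 L65223
theorem L65233 : sm gg N5239 = N7595 := rfl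
theorem L65235 : sm ga N7595 = N5245 := ded_15_1 (flp_g L45226) (flp_a L45174) L65233
theorem L65237 : sm gb N7595 = N5888 := ded_23_1 (flp_g L50633) (flp_b L45176) L65233
theorem L65239 : sm gd N7595 = N5241 := ded_36_1 (flp_g L45194) (flp_d L45178) L65233
theorem L65241 : sm gf N7595 = N7595 := ded_45_1 (flp_g L65233) (flp_f L45172) L31372 L45172 L65233
theorem L65242 : sm gh N5239 = N7596 := rfl
theorem L65246 : sm gb N7596 = N5889 := ded_25_1 (flp_h L50640) (flp_b L45176) L65242
theorem L65252 : sm gd N7596 = N5397 := ded_38_1 (flp_h L46542) L32323 (flp_h L31384) (flp_d L45178) L65242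
theorem L65266 : sm gj N5241 = N7598 := rfl
theorem L65268 : sm ga N7598 = N5248 := ded_16_1 (flp_j L45253) (flp_a L45196) L65266
theorem L65270 : sm gb N7598 = N5891 := ded_24_1 (flp_j L50660) (flp_b L45198) L65266
theorem L65272 : sm ge N7598 = N7598 := ded_42_1 (flp_j L65266) L45200 L65266
theorem L65273 : sm gf N7598 = N7598 := ded_46_1 (flp_j L65266) L45203 L65266
theorem L65274 : sm gh N7598 = N5399 := ded_52_2 (flp_j L46564) (flp_h L45201) L65266
theorem L65276 : sm gg N7598 = N5277 := ded_49_1 (flp_j L45511) (flp_g L31593) (flp_j L31382) L45194 L65266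
theorem L65278 : sm ge N5242 = N7599 := rfl
theorem L65280 : sm gc N7599 = N5244 := ded_28_1 (flp_e L45218) (flp_c L45206) L65278
theorem L65282 : sm gj N7599 = N5278 := ded_42_2 (flp_e L45522) (flp_j L45208) L65278
theorem L65284 : sm gf N7599 = N7599 := ded_40_2 (flp_e L65278) (flp_f L45204) L31389 L45204 L65278
theorem L65285 : sm gg N5242 = N7600 := rfl
theorem L65287 : sm gc N7600 = N5245 := ded_30_1 (flp_g L45226) (flp_c L45206) L65285
theorem L65289 : sm gf N7600 = N7600 := ded_45_1 (flp_g L65285) (flp_f L45204) L31390 L45204 L65285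
theorem L65290 : sm gh N5242 = N7601 := rfl
theorem L65292 : sm gc N7601 = N5246 := ded_32_1 (flp_h L45233) (flp_c L45206) L65290
theorem L65294 : sm gf N7601 = N5243 := ded_47_1 (flp_h L45210) L45204 L65290
theorem L65296 : sm gj N7601 = N5280 := ded_52_1 (flp_h L45533) (flp_j L45208) L65290
theorem L65298 : sm gd N5243 = N7602 := rfl
theorem L65300 : sm gg N7602 = N7602 := ded_36_2 (flp_d L65298) L45215 L65298
theorem L65301 : sm gj N7602 = N5281 := ded_37_2 (flp_d L45539) (flp_j L45216) L65298
theorem L65303 : sm gc N7602 = N5403 := ded_27_1 (flp_d L46601) L32359 (flp_d L31409) (flp_c L45212) L65298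
theorem L65305 : sm gi N5243 = N7603 := rfl
theorem L65313 : sm gg N5244 = N7604 := rfl
theorem L65315 : sm gb N7604 = N5249 := ded_23_1 (flp_g L45263) (flp_b L45220) L65313
theorem L65318 : sm ge N7604 = N5245 := ded_41_1 (flp_g L45226) L45218 L65313
theorem L65320 : sm gh N5244 = N7605 := rfl
theorem L65322 : sm gb N7605 = N5250 := ded_25_1 (flp_h L45270) (flp_b L45220) L65320
theorem L65324 : sm ge N7605 = N5246 := ded_43_1 (flp_h L45233) L45218 L65320
theorem L65327 : sm gj N7605 = N5284 := ded_52_1 (flp_h L45559) (flp_j L45222) L65320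
theorem L65329 : sm gj N5245 = N7606 := rfl
theorem L65333 : sm gd N7606 = N5248 := ded_37_1 (flp_j L45253) (flp_d L45230) L65329
theorem L65338 : sm gh N5245 = N7607 := rfl
theorem L65345 : sm gd N7607 = N5408 := ded_38_1 (flp_h L46646) L32380 (flp_h L31416) (flp_d L45230) L65338
theorem L65347 : sm gi N5246 = N7608 := rfl
theorem L65349 : sm gb N7608 = N5253 := ded_26_1 (flp_i L45297) (flp_b L45235) L65347
theorem L65351 : sm gd N7608 = N5409 := ded_39_1 (flp_i L46653) (flp_d L45241) L65347
theorem L65357 : sm gf N5249 = N7609 := rfl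
theorem L65359 : sm ga N7609 = N5902 := ded_14_1 (flp_f L50752) (flp_a L45265) L65357
theorem L65364 : sm gj N5249 = N7610 := rfl
theorem L65373 : sm gh N5249 = N7611 := rfl
theorem L65377 : sm ge N7611 = N5252 := ded_43_1 (flp_h L45288) (flp_e L45268) L65373
theorem L65379 : sm gg N7611 = N5250 := ded_50_1 (flp_h L45270) L45263 L65373
theorem L65381 : sm gd N5250 = N7612 := rfl
theorem L65386 : sm gj N7612 = N5291 := ded_37_2 (flp_d L45615) (flp_j L45277) L65381
theorem L65388 : sm ge N7612 = N5413 := ded_34_2 (flp_d L46692) L32425 (flp_d L31442) (flp_e L45274) L65381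
theorem L65391 : sm gi N5250 = N7613 := rfl
theorem L65393 : sm ga N7613 = N5906 := ded_18_1 (flp_i L50778) (flp_a L45272) L65391
theorem L65395 : sm ge N7613 = N5253 := ded_44_1 (flp_i L45297) (flp_e L45274) L65391
theorem L65398 : sm gj N7613 = N5292 := ded_53_1 (flp_i L45623) (flp_j L45277) L65391
theorem L65411 : sm gi N5252 = N7615 := rfl
theorem L65418 : sm gg N7615 = N5253 := ded_51_1 (flp_i L45297) (flp_g L45293) L65411
theorem L65420 : sm gb N5254 = N7616 := rfl
theorem L65423 : sm gg N7616 = N5295 := ded_23_2 (flp_b L45650) (flp_g L45312) L65420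
theorem L65425 : sm gi N7616 = N5270 := ded_26_2 (flp_b L45450) (flp_i L45314) L65420
theorem L65427 : sm gc N7616 = N5909 := ded_19_2 (flp_b L50801) (flp_c L35260) (flp_b L31470) L45307 L65420
theorem L65429 : sm gf N5254 = N7617 := rfl
theorem L65431 : sm ga N7617 = N5258 := ded_14_1 (flp_f L45348) (flp_a L45309) L65429
theorem L65433 : sm gc N7617 = N5255 := ded_29_1 (flp_f L45316) L45307 L65429
theorem L65435 : sm gi N7617 = N5271 := ded_48_2 (flp_f L45457) (flp_i L45314) L65429
theorem L65437 : sm gh N5254 = N7618 := rfl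
theorem L65439 : sm ga N7618 = N5259 := ded_17_1 (flp_h L45354) (flp_a L45309) L65437
theorem L65446 : sm ge N5255 = N7619 := rfl
theorem L65448 : sm ga N7619 = N5260 := ded_13_1 (flp_e L45361) (flp_a L45318) L65446
theorem L65450 : sm gb N7619 = N5912 := ded_21_1 (flp_e L50827) (flp_b L45320) L65446
theorem L65452 : sm gi N7619 = N5273 := ded_44_2 (flp_e L45472) (flp_i L45324) L65446
theorem L65454 : sm gd N7619 = N7619 := ded_34_1 (flp_e L65446) L45322 L31486 (flp_d L45322) L65446
theorem L65455 : sm gf N7619 = N7619 := ded_40_2 (flp_e L65446) (flp_f L45316) L31476 L45316 L65446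
theorem L65456 : sm gg N5255 = N7620 := rfl
theorem L65458 : sm ga N7620 = N5261 := ded_15_1 (flp_g L45369) (flp_a L45318) L65456
theorem L65460 : sm gb N7620 = N5913 := ded_23_1 (flp_g L50835) (flp_b L45320) L65456
theorem L65462 : sm gd N7620 = N5257 := ded_36_1 (flp_g L45336) (flp_d L45322) L65456
theorem L65464 : sm gi N7620 = N5274 := ded_51_2 (flp_g L45480) (flp_i L45324) L65456
theorem L65466 : sm gf N7620 = N5299 := ded_45_1 (flp_g L45687) (flp_f L31703) (flp_g L31472) L45316 L65456
theorem L65468 : sm gh N5255 = N7621 := rfl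
theorem L65470 : sm ga N7621 = N5262 := ded_17_1 (flp_h L45379) (flp_a L45318) L65468
theorem L65489 : sm gj N5257 = N7623 := rfl
theorem L65491 : sm ga N7623 = N5264 := ded_16_1 (flp_j L45396) (flp_a L45338) L65489
theorem L65493 : sm gb N7623 = N5916 := ded_24_1 (flp_j L50862) (flp_b L45340) L65489
theorem L65495 : sm ge N7623 = N7623 := ded_42_1 (flp_j L65489) L45342 L65489
theorem L65496 : sm gf N7623 = N5302 := ded_46_1 (flp_j L45718) (flp_f L45346) L65489
theorem L65498 : sm gh N7623 = N7623 := ded_52_2 (flp_j L65489) L45343 L65489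
theorem L65499 : sm gi N7623 = N5277 := ded_53_2 (flp_j L45511) (flp_i L45344) L65489
theorem L65501 : sm ge N5258 = N7624 := rfl
theorem L65503 : sm gc N7624 = N5260 := ded_28_1 (flp_e L45361) (flp_c L45350) L65501
theorem L65505 : sm gi N7624 = N5278 := ded_44_2 (flp_e L45522) (flp_i L45352) L65501
theorem L65507 : sm gf N7624 = N7624 := ded_40_2 (flp_e L65501) (flp_f L45348) L31489 L45348 L65501
theorem L65508 : sm gg N5258 = N7625 := rfl
theorem L65510 : sm gc N7625 = N5261 := ded_30_1 (flp_g L45369) (flp_c L45350) L65508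
theorem L65512 : sm gi N7625 = N5279 := ded_51_2 (flp_g L45527) (flp_i L45352) L65508
theorem L65514 : sm gf N7625 = N5304 := ded_45_1 (flp_g L45738) (flp_f L31734) (flp_g L31490) L45348 L65508
theorem L65516 : sm gh N5258 = N7626 := rfl
theorem L65518 : sm gc N7626 = N5262 := ded_32_1 (flp_h L45379) (flp_c L45350) L65516
theorem L65520 : sm gf N7626 = N5259 := ded_47_1 (flp_h L45354) L45348 L65516
theorem L65522 : sm gd N5259 = N7627 := rfl
theorem L65524 : sm gg N7627 = N5306 := ded_36_2 (flp_d L45751) (flp_g L45359) L65522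
theorem L65527 : sm gi N5259 = N7628 := rfl
theorem L65529 : sm gc N7628 = N5263 := ded_33_1 (flp_i L45386) (flp_c L45356) L65527
theorem L65532 : sm gg N7628 = N5307 := ded_51_1 (flp_i L45755) (flp_g L45359) L65527
theorem L65536 : sm gg N5260 = N7629 := rfl
theorem L65538 : sm gb N7629 = N5265 := ded_23_1 (flp_g L45406) (flp_b L45363) L65536
theorem L65540 : sm gd N7629 = N7629 := ded_36_1 (flp_g L65536) L45367 L65536
theorem L65541 : sm ge N7629 = N5261 := ded_41_1 (flp_g L45369) L45361 L65536
theorem L65543 : sm gi N7629 = N5283 := ded_51_2 (flp_g L45552) (flp_i L45365) L65536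
theorem L65545 : sm gh N5260 = N7630 := rfl
theorem L65547 : sm gb N7630 = N5266 := ded_25_1 (flp_h L45415) (flp_b L45363) L65545
theorem L65549 : sm ge N7630 = N5262 := ded_43_1 (flp_h L45379) L45361 L65545
theorem L65551 : sm gf N7630 = N7630 := ded_47_1 (flp_h L65545) L45368 L65545
theorem L65552 : sm gj N5261 = N7631 := rfl
theorem L65554 : sm gb N7631 = N5267 := ded_24_1 (flp_j L45422) (flp_b L45371) L65552
theorem L65556 : sm gd N7631 = N5264 := ded_37_1 (flp_j L45396) (flp_d L45373) L65552
theorem L65558 : sm gf N7631 = N5310 := ded_46_1 (flp_j L45781) (flp_f L45377) L65552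
theorem L65560 : sm gi N7631 = N5285 := ded_53_2 (flp_j L45566) (flp_i L45375) L65552
theorem L65562 : sm gh N5261 = N7632 := rfl
theorem L65564 : sm gb N7632 = N5268 := ded_25_1 (flp_h L45432) (flp_b L45371) L65562
theorem L65566 : sm gf N7632 = N5311 := ded_47_1 (flp_h L45790) (flp_f L45377) L65562
theorem L65568 : sm gg N7632 = N5262 := ded_50_1 (flp_h L45379) L45369 L65562
theorem L65570 : sm gd N7632 = N7632 := ded_38_1 (flp_h L65562) L45373 L31515 (flp_d L45373) L65562
theorem L65571 : sm gi N5262 = N7633 := rfl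
theorem L65573 : sm gb N7633 = N5269 := ded_26_1 (flp_i L45441) (flp_b L45381) L65571
theorem L65580 : sm gf N5265 = N7634 := rfl
theorem L65582 : sm ga N7634 = N5927 := ded_14_1 (flp_f L50954) (flp_a L45408) L65580
theorem L65585 : sm gi N7634 = N5288 := ded_48_2 (flp_f L45592) (flp_i L45413) L65580
theorem L65587 : sm ge N7634 = N5313 := ded_40_1 (flp_f L45807) L31798 (flp_f L31536) (flp_e L45411) L65580
theorem L65590 : sm gj N5265 = N7635 := rfl
theorem L65594 : sm gd N7635 = N7635 := ded_37_1 (flp_j L65590) L45410 L65590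
theorem L65595 : sm ge N7635 = N5267 := ded_42_1 (flp_j L45422) (flp_e L45411) L65590
theorem L65597 : sm gi N7635 = N5289 := ded_53_2 (flp_j L45600) (flp_i L45413) L65590
theorem L65599 : sm gh N5265 = N7636 := rfl
theorem L65601 : sm ga N7636 = N5929 := ded_17_1 (flp_h L50969) (flp_a L45408) L65599
theorem L65603 : sm ge N7636 = N5268 := ded_43_1 (flp_h L45432) (flp_e L45411) L65599
theorem L65605 : sm gg N7636 = N5266 := ded_50_1 (flp_h L45415) L45406 L65599
theorem L65607 : sm gd N5266 = N7637 := rfl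
theorem L65609 : sm ga N7637 = N5930 := ded_12_1 (flp_d L50975) (flp_a L45417) L65607
theorem L65611 : sm gf N7637 = N7637 := ded_35_2 (flp_d L65607) L45421 L65607
theorem L65612 : sm ge N7637 = N7637 := ded_34_2 (flp_d L65607) L45419 L31544 (flp_e L45419) L65607
theorem L65613 : sm gh N7637 = N7637 := ded_38_2 (flp_d L65607) (flp_h L45415) L31526 L45415 L65607
theorem L65614 : sm gi N5266 = N7638 := rfl
theorem L65616 : sm ga N7638 = N5931 := ded_18_1 (flp_i L50980) (flp_a L45417) L65614
theorem L65618 : sm ge N7638 = N5269 := ded_44_1 (flp_i L45441) (flp_e L45419) L65614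
theorem L65620 : sm gf N7638 = N7638 := ded_48_1 (flp_i L65614) L45421 L65614
theorem L65621 : sm gh N7638 = N5292 := ded_54_1 (flp_i L45623) (flp_h L31662) (flp_i L31524) L45415 L65614
theorem L65623 : sm gh N5267 = N7639 := rfl
theorem L65625 : sm ga N7639 = N5932 := ded_17_1 (flp_h L50987) (flp_a L45424) L65623
theorem L65627 : sm gf N7639 = N5318 := ded_47_1 (flp_h L45854) (flp_f L45428) L65623
theorem L65629 : sm gj N7639 = N5268 := ded_52_1 (flp_h L45432) L45422 L65623
theorem L65631 : sm gd N7639 = N7639 := ded_38_1 (flp_h L65623) L45426 L31564 (flp_d L45426) L65623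
theorem L65632 : sm gi N5268 = N7640 := rfl
theorem L65634 : sm ga N7640 = N5933 := ded_18_1 (flp_i L50994) (flp_a L45434) L65632
theorem L65636 : sm gd N7640 = N7640 := ded_39_1 (flp_i L65632) L45440 L65632
theorem L65637 : sm gf N7640 = N5319 := ded_48_1 (flp_i L45862) (flp_f L45436) L65632
theorem L65639 : sm gg N7640 = N5269 := ded_51_1 (flp_i L45441) (flp_g L45438) L65632
theorem L65641 : sm gh N7640 = N5294 := ded_54_1 (flp_i L45640) (flp_h L31677) (flp_i L31534) L45432 L65632
theorem L65643 : sm gf N5270 = N7641 := rfl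
theorem L65645 : sm gb N7641 = N5271 := ded_22_1 (flp_f L45457) L45450 L65643
theorem L65647 : sm gc N7641 = N5934 := ded_29_1 (flp_f L51003) (flp_c L45455) L65643
theorem L65649 : sm gh N5270 = N7642 := rfl
theorem L65656 : sm gg N7642 = N5321 := ded_50_1 (flp_h L45878) (flp_g L45453) L65649
theorem L65658 : sm ge N5271 = N7643 := rfl
theorem L65660 : sm ga N7643 = N5278 := ded_13_1 (flp_e L45522) (flp_a L45459) L65658
theorem L65662 : sm gc N7643 = N5273 := ded_28_1 (flp_e L45472) (flp_c L45461) L65658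
theorem L65664 : sm gf N7643 = N7643 := ded_40_2 (flp_e L65658) (flp_f L45457) L31571 L45457 L65658
theorem L65665 : sm gg N5271 = N7644 := rfl
theorem L65667 : sm ga N7644 = N5279 := ded_15_1 (flp_g L45527) (flp_a L45459) L65665
theorem L65669 : sm gc N7644 = N5274 := ded_30_1 (flp_g L45480) (flp_c L45461) L65665
theorem L65671 : sm gf N7644 = N5323 := ded_45_1 (flp_g L45894) (flp_f L31842) (flp_g L31572) L45457 L65665
theorem L65673 : sm gh N5271 = N7645 := rfl
theorem L65675 : sm ga N7645 = N5280 := ded_17_1 (flp_h L45533) (flp_a L45459) L65673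
theorem L65681 : sm gd N5272 = N7646 := rfl
theorem L65683 : sm ga N7646 = N5281 := ded_12_1 (flp_d L45539) (flp_a L45465) L65681
theorem L65685 : sm gg N7646 = N5325 := ded_36_2 (flp_d L45909) (flp_g L45470) L65681
theorem L65687 : sm gc N7646 = N5422 := ded_27_1 (flp_d L46777) L32481 (flp_d L31591) (flp_c L45467) L65681
theorem L65698 : sm gg N5273 = N7648 := rfl
theorem L65700 : sm ga N7648 = N5283 := ded_15_1 (flp_g L45552) (flp_a L45474) L65698
theorem L65702 : sm gb N7648 = N5941 := ded_23_1 (flp_g L51057) (flp_b L45476) L65698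
theorem L65704 : sm gd N7648 = N7648 := ded_36_1 (flp_g L65698) L45478 L65698
theorem L65705 : sm ge N7648 = N5274 := ded_41_1 (flp_g L45480) L45472 L65698
theorem L65707 : sm gh N5273 = N7649 := rfl
theorem L65709 : sm ga N7649 = N5284 := ded_17_1 (flp_h L45559) (flp_a L45474) L65707
theorem L65711 : sm gb N7649 = N5942 := ded_25_1 (flp_h L51064) (flp_b L45476) L65707
theorem L65713 : sm ge N7649 = N5275 := ded_43_1 (flp_h L45490) L45472 L65707
theorem L65716 : sm gj N5274 = N7650 := rfl
theorem L65718 : sm ga N7650 = N5285 := ded_16_1 (flp_j L45566) (flp_a L45482) L65716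
theorem L65720 : sm gb N7650 = N5943 := ded_24_1 (flp_j L51071) (flp_b L45484) L65716
theorem L65722 : sm gd N7650 = N5277 := ded_37_1 (flp_j L45511) (flp_d L45486) L65716
theorem L65724 : sm gf N7650 = N5329 := ded_46_1 (flp_j L45945) (flp_f L45488) L65716
theorem L65726 : sm gh N5274 = N7651 := rfl
theorem L65736 : sm gd N7651 = N5427 := ded_38_1 (flp_h L46826) L32503 (flp_h L31600) (flp_d L45486) L65726
theorem L65748 : sm gd N5278 = N7653 := rfl
theorem L65750 : sm gf N7653 = N7653 := ded_35_2 (flp_d L65748) L45526 L65748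
theorem L65751 : sm gc N7653 = N7653 := ded_27_1 (flp_d L65748) L45524 L31619 (flp_c L45524) L65748
theorem L65752 : sm gg N5278 = N7654 := rfl
theorem L65754 : sm gc N7654 = N5283 := ded_30_1 (flp_g L45552) (flp_c L45524) L65752
theorem L65756 : sm ge N7654 = N5279 := ded_41_1 (flp_g L45527) L45522 L65752
theorem L65758 : sm gh N5278 = N7655 := rfl
theorem L65760 : sm gc N7655 = N5284 := ded_32_1 (flp_h L45559) (flp_c L45524) L65758
theorem L65762 : sm ge N7655 = N5280 := ded_43_1 (flp_h L45533) L45522 L65758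
theorem L65764 : sm gf N7655 = N7655 := ded_47_1 (flp_h L65758) L45526 L65758
theorem L65765 : sm gj N5279 = N7656 := rfl
theorem L65767 : sm gc N7656 = N5285 := ded_31_1 (flp_j L45566) (flp_c L45529) L65765
theorem L65769 : sm gf N7656 = N5335 := ded_46_1 (flp_j L45995) (flp_f L45531) L65765
theorem L65771 : sm gh N5279 = N7657 := rfl
theorem L65773 : sm gc N7657 = N5286 := ded_32_1 (flp_h L45574) (flp_c L45529) L65771
theorem L65775 : sm gf N7657 = N5336 := ded_47_1 (flp_h L46000) (flp_f L45531) L65771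
theorem L65777 : sm gg N7657 = N5280 := ded_50_1 (flp_h L45533) L45527 L65771
theorem L65779 : sm gd N5280 = N7658 := rfl
theorem L65781 : sm gf N7658 = N5281 := ded_35_2 (flp_d L45539) (flp_f L45537) L65779
theorem L65783 : sm gc N7658 = N5434 := ded_27_1 (flp_d L46887) L32556 (flp_d L31635) (flp_c L45535) L65779
theorem L65785 : sm gi N5280 = N7659 := rfl
theorem L65787 : sm gc N7659 = N5287 := ded_33_1 (flp_i L45584) (flp_c L45535) L65785
theorem L65789 : sm gf N7659 = N5282 := ded_48_1 (flp_i L45545) (flp_f L45537) L65785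
theorem L65791 : sm ge N5281 = N7660 := rfl
theorem L65793 : sm gc N7660 = N5436 := ded_28_1 (flp_e L46900) (flp_c L45543) L65791
theorem L65795 : sm gg N7660 = N5339 := ded_41_2 (flp_e L46020) (flp_g L45541) L65791
theorem L65797 : sm gd N7660 = N7660 := ded_34_1 (flp_e L65791) (flp_d L45539) L31612 L45539 L65791
theorem L65798 : sm gi N5281 = N7661 := rfl
theorem L65806 : sm gf N5283 = N7662 := rfl
theorem L65808 : sm gb N7662 = N5288 := ded_22_1 (flp_f L45592) (flp_b L45554) L65806
theorem L65814 : sm gj N5283 = N7663 := rfl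
theorem L65816 : sm gb N7663 = N5289 := ded_24_1 (flp_j L45600) (flp_b L45554) L65814
theorem L65821 : sm gh N5283 = N7664 := rfl
theorem L65823 : sm gb N7664 = N5290 := ded_25_1 (flp_h L45607) (flp_b L45554) L65821
theorem L65825 : sm ge N7664 = N5286 := ded_43_1 (flp_h L45574) (flp_e L45557) L65821
theorem L65827 : sm gg N7664 = N5284 := ded_50_1 (flp_h L45559) L45552 L65821
theorem L65829 : sm gd N5284 = N7665 := rfl
theorem L65831 : sm gb N7665 = N5291 := ded_20_1 (flp_d L45615) (flp_b L45561) L65829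
theorem L65834 : sm ge N7665 = N5440 := ded_34_2 (flp_d L46932) L32588 (flp_d L31635) (flp_e L45563) L65829
theorem L65844 : sm gh N5285 = N7667 := rfl
theorem L65848 : sm gf N7667 = N5345 := ded_47_1 (flp_h L46067) (flp_f L45572) L65844
theorem L65850 : sm gj N7667 = N5286 := ded_52_1 (flp_h L45574) L45566 L65844
theorem L65852 : sm gd N7667 = N5442 := ded_38_1 (flp_h L46948) L32596 (flp_h L31653) (flp_d L45570) L65844
theorem L65854 : sm gi N5286 = N7668 := rfl
theorem L65864 : sm gj N5288 = N7669 := rfl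
theorem L65866 : sm ga N7669 = N5962 := ded_16_1 (flp_j L51217) (flp_a L45594) L65864
theorem L65871 : sm gf N7669 = N5289 := ded_46_1 (flp_j L45600) L45592 L65864
theorem L65873 : sm gh N5288 = N7670 := rfl
theorem L65875 : sm ga N7670 = N5963 := ded_17_1 (flp_h L51224) (flp_a L45594) L65873
theorem L65879 : sm gf N7670 = N5290 := ded_47_1 (flp_h L45607) L45592 L65873
theorem L65882 : sm gh N5289 = N7671 := rfl
theorem L65884 : sm ga N7671 = N5964 := ded_17_1 (flp_h L51231) (flp_a L45602) L65882
theorem L65886 : sm ge N7671 = N5293 := ded_43_1 (flp_h L45630) (flp_e L45605) L65882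
theorem L65888 : sm gj N7671 = N5290 := ded_52_1 (flp_h L45607) L45600 L65882
theorem L65890 : sm gd N5290 = N7672 := rfl
theorem L65892 : sm ga N7672 = N5965 := ded_12_1 (flp_d L51237) (flp_a L45609) L65890
theorem L65894 : sm gg N7672 = N5291 := ded_36_2 (flp_d L45615) (flp_g L45613) L65890
theorem L65896 : sm ge N7672 = N5445 := ded_34_2 (flp_d L46975) L32631 (flp_d L31685) (flp_e L45611) L65890
theorem L65899 : sm gi N5290 = N7673 := rfl
theorem L65903 : sm ge N7673 = N5294 := ded_44_1 (flp_i L45640) (flp_e L45611) L65899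
theorem L65905 : sm gg N7673 = N5292 := ded_51_1 (flp_i L45623) (flp_g L45613) L65899
theorem L65907 : sm gc N5291 = N7674 := rfl
theorem L65911 : sm ge N7674 = N5447 := ded_28_2 (flp_c L46994) (flp_e L45620) L65907
theorem L65915 : sm gi N5291 = N7675 := rfl
theorem L65917 : sm ga N7675 = N5968 := ded_18_1 (flp_i L51256) (flp_a L45617) L65915
theorem L65919 : sm gd N7675 = N5292 := ded_39_1 (flp_i L45623) L45615 L65915
theorem L65921 : sm ge N7675 = N5448 := ded_44_1 (flp_i L47002) (flp_e L45620) L65915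
theorem L65924 : sm gi N5293 = N7676 := rfl
theorem L65930 : sm gf N7676 = N5351 := ded_48_1 (flp_i L46119) (flp_f L45634) L65924
theorem L65934 : sm gf N5295 = N7677 := rfl
theorem L65936 : sm gb N7677 = N5296 := ded_22_1 (flp_f L45658) L45650 L65934
theorem L65938 : sm gc N7677 = N5970 := ded_29_1 (flp_f L51271) (flp_c L45656) L65934
theorem L65941 : sm gi N7677 = N5320 := ded_48_2 (flp_f L45871) (flp_i L45654) L65934
theorem L65943 : sm gh N5295 = N7678 := rfl
theorem L65945 : sm gb N7678 = N5297 := ded_25_1 (flp_h L45667) L45650 L65943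
theorem L65951 : sm ge N5296 = N7679 := rfl
theorem L65953 : sm ga N7679 = N5303 := ded_13_1 (flp_e L45730) (flp_a L45660) L65951
theorem L65955 : sm gc N7679 = N5298 := ded_28_1 (flp_e L45675) (flp_c L45662) L65951
theorem L65957 : sm gj N7679 = N7679 := ded_42_2 (flp_e L65951) L45664 L65951
theorem L65958 : sm gi N7679 = N5322 := ded_44_2 (flp_e L45886) (flp_i L45665) L65951
theorem L65960 : sm gf N7679 = N7679 := ded_40_2 (flp_e L65951) (flp_f L45658) L31699 L45658 L65951
theorem L65961 : sm gg N5296 = N7680 := rfl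
theorem L65963 : sm ga N7680 = N5304 := ded_15_1 (flp_g L45738) (flp_a L45660) L65961
theorem L65965 : sm gc N7680 = N5299 := ded_30_1 (flp_g L45687) (flp_c L45662) L65961
theorem L65967 : sm gi N7680 = N5323 := ded_51_2 (flp_g L45894) (flp_i L45665) L65961
theorem L65969 : sm gh N5296 = N7681 := rfl
theorem L65971 : sm ga N7681 = N5305 := ded_17_1 (flp_h L45744) (flp_a L45660) L65969
theorem L65978 : sm gd N5297 = N7682 := rfl
theorem L65980 : sm ga N7682 = N5306 := ded_12_1 (flp_d L45751) (flp_a L45669) L65978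
theorem L65994 : sm gg N5298 = N7684 := rfl
theorem L65996 : sm ga N7684 = N5308 := ded_15_1 (flp_g L45763) (flp_a L45677) L65994
theorem L65998 : sm gb N7684 = N5977 := ded_23_1 (flp_g L51330) (flp_b L45679) L65994
theorem L66000 : sm gd N7684 = N5358 := ded_36_1 (flp_g L46186) (flp_d L45684) L65994
theorem L66002 : sm ge N7684 = N5299 := ded_41_1 (flp_g L45687) L45675 L65994
theorem L66004 : sm gi N7684 = N5327 := ded_51_2 (flp_g L45924) (flp_i L45682) L65994
theorem L66006 : sm gh N5298 = N7685 := rfl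
theorem L66008 : sm ga N7685 = N5309 := ded_17_1 (flp_h L45773) (flp_a L45677) L66006
theorem L66010 : sm gb N7685 = N5978 := ded_25_1 (flp_h L51340) (flp_b L45679) L66006
theorem L66016 : sm gj N5299 = N7686 := rfl
theorem L66018 : sm ga N7686 = N5310 := ded_16_1 (flp_j L45781) (flp_a L45689) L66016
theorem L66020 : sm gb N7686 = N5979 := ded_24_1 (flp_j L51348) (flp_b L45691) L66016
theorem L66022 : sm gd N7686 = N5302 := ded_37_1 (flp_j L45718) (flp_d L45693) L66016
theorem L66024 : sm gi N7686 = N5329 := ded_53_2 (flp_j L45945) (flp_i L45695) L66016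
theorem L66026 : sm gg N7686 = N7686 := ded_49_1 (flp_j L66016) (flp_g L45687) L31711 L45687 L66016
theorem L66027 : sm gh N5299 = N7687 := rfl
theorem L66048 : sm gd N5303 = N7689 := rfl
theorem L66050 : sm gf N7689 = N7689 := ded_35_2 (flp_d L66048) L45737 L66048
theorem L66051 : sm gj N7689 = N7689 := ded_37_2 (flp_d L66048) L45734 L66048
theorem L66052 : sm gi N7689 = N5332 := ded_39_2 (flp_d L45975) (flp_i L45735) L66048
theorem L66054 : sm gc N7689 = N5362 := ded_27_1 (flp_d L46230) L32102 (flp_d L31754) (flp_c L45732) L66048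
theorem L66056 : sm gg N5303 = N7690 := rfl
theorem L66058 : sm gc N7690 = N5308 := ded_30_1 (flp_g L45763) (flp_c L45732) L66056
theorem L66060 : sm ge N7690 = N5304 := ded_41_1 (flp_g L45738) L45730 L66056
theorem L66062 : sm gi N7690 = N5333 := ded_51_2 (flp_g L45981) (flp_i L45735) L66056
theorem L66064 : sm gh N5303 = N7691 := rfl
theorem L66066 : sm gc N7691 = N5309 := ded_32_1 (flp_h L45773) (flp_c L45732) L66064
theorem L66068 : sm ge N7691 = N5305 := ded_43_1 (flp_h L45744) L45730 L66064
theorem L66070 : sm gf N7691 = N7691 := ded_47_1 (flp_h L66064) L45737 L66064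
theorem L66071 : sm gj N7691 = N7691 := ded_52_1 (flp_h L66064) L45734 L66064
theorem L66072 : sm gj N5304 = N7692 := rfl
theorem L66074 : sm gc N7692 = N5310 := ded_31_1 (flp_j L45781) (flp_c L45740) L66072
theorem L66076 : sm gi N7692 = N5335 := ded_53_2 (flp_j L45995) (flp_i L45742) L66072
theorem L66078 : sm gg N7692 = N7692 := ded_49_1 (flp_j L66072) (flp_g L45738) L31738 L45738 L66072
theorem L66079 : sm gh N5304 = N7693 := rfl
theorem L66081 : sm gc N7693 = N5311 := ded_32_1 (flp_h L45790) (flp_c L45740) L66079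
theorem L66083 : sm gg N7693 = N5305 := ded_50_1 (flp_h L45744) L45738 L66079
theorem L66085 : sm gd N5305 = N7694 := rfl
theorem L66091 : sm gi N5305 = N7695 := rfl
theorem L66095 : sm gf N7695 = N5307 := ded_48_1 (flp_i L45755) (flp_f L45748) L66091
theorem L66100 : sm ge N5306 = N7696 := rfl
theorem L66105 : sm gi N5306 = N7697 := rfl
theorem L66108 : sm gd N7697 = N5307 := ded_39_1 (flp_i L45755) L45751 L66105
theorem L66111 : sm gf N5308 = N7698 := rfl
theorem L66113 : sm gb N7698 = N5313 := ded_22_1 (flp_f L45807) (flp_b L45765) L66111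
theorem L66115 : sm gd N7698 = N5369 := ded_35_1 (flp_f L46290) (flp_d L45767) L66111
theorem L66117 : sm gi N7698 = N5341 := ded_48_2 (flp_f L46033) (flp_i L45771) L66111
theorem L66119 : sm gg N7698 = N7698 := ded_45_2 (flp_f L66111) (flp_g L45763) L31756 L45763 L66111
theorem L66120 : sm gj N5308 = N7699 := rfl
theorem L66122 : sm gb N7699 = N5314 := ded_24_1 (flp_j L45816) (flp_b L45765) L66120
theorem L66124 : sm gd N7699 = N5370 := ded_37_1 (flp_j L46298) (flp_d L45767) L66120
theorem L66126 : sm ge N7699 = N5310 := ded_42_1 (flp_j L45781) (flp_e L45769) L66120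
theorem L66128 : sm gi N7699 = N5342 := ded_53_2 (flp_j L46040) (flp_i L45771) L66120
theorem L66130 : sm gg N7699 = N7699 := ded_49_1 (flp_j L66120) (flp_g L45763) L31751 L45763 L66120
theorem L66131 : sm gh N5308 = N7700 := rfl
theorem L66133 : sm gb N7700 = N5315 := ded_25_1 (flp_h L45827) (flp_b L45765) L66131
theorem L66135 : sm ge N7700 = N5311 := ded_43_1 (flp_h L45790) (flp_e L45769) L66131
theorem L66137 : sm gg N7700 = N5309 := ded_50_1 (flp_h L45773) L45763 L66131
theorem L66139 : sm gd N5309 = N7701 := rfl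
theorem L66141 : sm gb N7701 = N5316 := ded_20_1 (flp_d L45835) (flp_b L45775) L66139
theorem L66143 : sm gf N7701 = N7701 := ded_35_2 (flp_d L66139) L45779 L66139
theorem L66144 : sm gj N7701 = N7701 := ded_37_2 (flp_d L66139) L45780 L66139
theorem L66145 : sm ge N7701 = N7701 := ded_34_2 (flp_d L66139) L45777 L31772 (flp_e L45777) L66139
theorem L66146 : sm gh N7701 = N5372 := ded_38_2 (flp_d L46316) (flp_h L32140) (flp_d L31754) L45773 L66139
theorem L66148 : sm gi N5309 = N7702 := rfl
theorem L66150 : sm gb N7702 = N5317 := ded_26_1 (flp_i L45844) (flp_b L45775) L66148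
theorem L66152 : sm ge N7702 = N5312 := ded_44_1 (flp_i L45797) (flp_e L45777) L66148
theorem L66156 : sm gh N7702 = N5344 := ded_54_1 (flp_i L46058) (flp_h L31943) (flp_i L31752) L45773 L66148
theorem L66158 : sm gh N5310 = N7703 := rfl
theorem L66160 : sm gb N7703 = N5318 := ded_25_1 (flp_h L45854) (flp_b L45783) L66158
theorem L66162 : sm gg N7703 = N7703 := ded_50_1 (flp_h L66158) L45789 L66158
theorem L66163 : sm gj N7703 = N5311 := ded_52_1 (flp_h L45790) L45781 L66158
theorem L66165 : sm gd N7703 = N7703 := ded_38_1 (flp_h L66158) L45785 L31788 (flp_d L45785) L66158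
theorem L66166 : sm gi N5311 = N7704 := rfl
theorem L66168 : sm gb N7704 = N5319 := ded_26_1 (flp_i L45862) (flp_b L45792) L66166
theorem L66171 : sm gg N7704 = N5312 := ded_51_1 (flp_i L45797) (flp_g L45794) L66166
theorem L66173 : sm gh N7704 = N5346 := ded_54_1 (flp_i L46076) (flp_h L31959) (flp_i L31763) L45790 L66166
theorem L66175 : sm gj N5313 = N7705 := rfl
theorem L66177 : sm ga N7705 = N5998 := ded_16_1 (flp_j L51505) (flp_a L45809) L66175
theorem L66179 : sm gd N7705 = N5374 := ded_37_1 (flp_j L46334) (flp_d L45811) L66175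
theorem L66181 : sm gf N7705 = N5314 := ded_46_1 (flp_j L45816) L45807 L66175
theorem L66183 : sm gi N7705 = N5347 := ded_53_2 (flp_j L46084) (flp_i L45813) L66175
theorem L66185 : sm gh N5313 = N7706 := rfl
theorem L66187 : sm ga N7706 = N5999 := ded_17_1 (flp_h L51513) (flp_a L45809) L66185
theorem L66189 : sm gf N7706 = N5315 := ded_47_1 (flp_h L45827) L45807 L66185
theorem L66191 : sm gg N7706 = N7706 := ded_50_1 (flp_h L66185) L45815 L66185
theorem L66192 : sm gh N5314 = N7707 := rfl
theorem L66194 : sm ga N7707 = N6000 := ded_17_1 (flp_h L51518) (flp_a L45818) L66192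
theorem L66196 : sm ge N7707 = N5318 := ded_43_1 (flp_h L45854) (flp_e L45822) L66192
theorem L66198 : sm gg N7707 = N7707 := ded_50_1 (flp_h L66192) L45826 L66192
theorem L66199 : sm gj N7707 = N5315 := ded_52_1 (flp_h L45827) L45816 L66192
theorem L66201 : sm gd N5315 = N7708 := rfl
theorem L66203 : sm ga N7708 = N6001 := ded_12_1 (flp_d L51525) (flp_a L45829) L66201
theorem L66205 : sm gg N7708 = N5316 := ded_36_2 (flp_d L45835) (flp_g L45833) L66201
theorem L66207 : sm ge N7708 = N7708 := ded_34_2 (flp_d L66201) L45831 L31825 (flp_e L45831) L66201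
theorem L66208 : sm gh N7708 = N5377 := ded_38_2 (flp_d L46365) (flp_h L32187) (flp_d L31796) L45827 L66201
theorem L66210 : sm gi N5315 = N7709 := rfl
theorem L66214 : sm ge N7709 = N5319 := ded_44_1 (flp_i L45862) (flp_e L45831) L66210
theorem L66216 : sm gg N7709 = N5317 := ded_51_1 (flp_i L45844) (flp_g L45833) L66210
theorem L66218 : sm gh N7709 = N5350 := ded_54_1 (flp_i L46110) (flp_h L31992) (flp_i L31800) L45827 L66210
theorem L66220 : sm gc N5316 = N7710 := rfl
theorem L66222 : sm ga N7710 = N6003 := ded_11_1 (flp_c L51540) (flp_a L45837) L66220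
theorem L66227 : sm gh N7710 = N5378 := ded_32_2 (flp_c L46373) (flp_h L45842) L66220
theorem L66229 : sm gi N5316 = N7711 := rfl
theorem L66231 : sm ga N7711 = N6004 := ded_18_1 (flp_i L51547) (flp_a L45837) L66229
theorem L66233 : sm gd N7711 = N5317 := ded_39_1 (flp_i L45844) L45835 L66229
theorem L66235 : sm ge N7711 = N7711 := ded_44_1 (flp_i L66229) L45841 L66229
theorem L66236 : sm gf N7711 = N7711 := ded_48_1 (flp_i L66229) L45839 L66229
theorem L66237 : sm gj N7711 = N7711 := ded_53_1 (flp_i L66229) L45840 L66229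
theorem L66238 : sm gh N7711 = N7711 := ded_54_1 (flp_i L66229) L45842 L32203 (flp_h L45842) L66229
theorem L66239 : sm gi N5318 = N7712 := rfl
theorem L66241 : sm ga N7712 = N6005 := ded_18_1 (flp_i L51555) (flp_a L45856) L66239
theorem L66243 : sm gd N7712 = N7712 := ded_39_1 (flp_i L66239) L45861 L66239
theorem L66244 : sm gg N7712 = N7712 := ded_51_1 (flp_i L66239) L45858 L66239
theorem L66245 : sm gj N7712 = N5319 := ded_53_1 (flp_i L45862) (flp_j L45859) L66239
theorem L66247 : sm gh N7712 = N5351 := ded_54_1 (flp_i L46119) (flp_h L32010) (flp_i L31816) L45854 L66239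
theorem L66249 : sm ge N5320 = N7713 := rfl
theorem L66251 : sm gb N7713 = N5322 := ded_21_1 (flp_e L45886) (flp_b L45873) L66249
theorem L66253 : sm gc N7713 = N6006 := ded_28_1 (flp_e L51563) (flp_c L45875) L66249
theorem L66257 : sm gg N5320 = N7714 := rfl
theorem L66259 : sm gb N7714 = N5323 := ded_23_1 (flp_g L45894) (flp_b L45873) L66257
theorem L66261 : sm gc N7714 = N6007 := ded_30_1 (flp_g L51569) (flp_c L45875) L66257
theorem L66263 : sm gh N5320 = N7715 := rfl
theorem L66265 : sm gb N7715 = N5324 := ded_25_1 (flp_h L45900) (flp_b L45873) L66263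
theorem L66272 : sm gd N5321 = N7716 := rfl
theorem L66274 : sm gb N7716 = N5325 := ded_20_1 (flp_d L45909) (flp_b L45880) L66272
theorem L66285 : sm gd N5322 = N7718 := rfl
theorem L66287 : sm ga N7718 = N5332 := ded_12_1 (flp_d L45975) (flp_a L45888) L66285
theorem L66289 : sm gf N7718 = N7718 := ded_35_2 (flp_d L66285) L45893 L66285
theorem L66290 : sm gj N7718 = N7718 := ded_37_2 (flp_d L66285) L45892 L66285
theorem L66291 : sm gc N7718 = N5381 := ded_27_1 (flp_d L46401) L32229 (flp_d L31864) (flp_c L45890) L66285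
theorem L66293 : sm gg N5322 = N7719 := rfl
theorem L66295 : sm ga N7719 = N5333 := ded_15_1 (flp_g L45981) (flp_a L45888) L66293
theorem L66297 : sm gc N7719 = N5327 := ded_30_1 (flp_g L45924) (flp_c L45890) L66293
theorem L66299 : sm ge N7719 = N5323 := ded_41_1 (flp_g L45894) L45886 L66293
theorem L66301 : sm gh N5322 = N7720 := rfl
theorem L66303 : sm ga N7720 = N5334 := ded_17_1 (flp_h L45987) (flp_a L45888) L66301
theorem L66307 : sm ge N7720 = N5324 := ded_43_1 (flp_h L45900) L45886 L66301
theorem L66311 : sm gj N5323 = N7721 := rfl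
theorem L66313 : sm ga N7721 = N5335 := ded_16_1 (flp_j L45995) (flp_a L45896) L66311
theorem L66315 : sm gc N7721 = N5329 := ded_31_1 (flp_j L45945) (flp_c L45898) L66311
theorem L66317 : sm gg N7721 = N7721 := ded_49_1 (flp_j L66311) (flp_g L45894) L31848 L45894 L66311
theorem L66318 : sm gh N5323 = N7722 := rfl
theorem L66320 : sm ga N7722 = N5336 := ded_17_1 (flp_h L46000) (flp_a L45896) L66318
theorem L66322 : sm gc N7722 = N5330 := ded_32_1 (flp_h L45954) (flp_c L45898) L66318
theorem L66326 : sm gd N5324 = N7723 := rfl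
theorem L66328 : sm ga N7723 = N5337 := ded_12_1 (flp_d L46006) (flp_a L45902) L66326
theorem L66330 : sm gf N7723 = N5325 := ded_35_2 (flp_d L45909) (flp_f L45906) L66326
theorem L66333 : sm gc N7723 = N5456 := ded_27_1 (flp_d L47075) L32704 (flp_d L31884) (flp_c L45904) L66326
theorem L66344 : sm ge N5325 = N7725 := rfl
theorem L66346 : sm ga N7725 = N5339 := ded_13_1 (flp_e L46020) (flp_a L45911) L66344
theorem L66348 : sm gc N7725 = N5458 := ded_28_1 (flp_e L47093) (flp_c L45914) L66344
theorem L66361 : sm gf N5327 = N7727 := rfl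
theorem L66363 : sm ga N7727 = N5341 := ded_14_1 (flp_f L46033) (flp_a L45926) L66361
theorem L66365 : sm gb N7727 = N6020 := ded_22_1 (flp_f L51673) (flp_b L45928) L66361
theorem L66367 : sm gd N7727 = N5384 := ded_35_1 (flp_f L46425) (flp_d L45930) L66361
theorem L66369 : sm gg N7727 = N7727 := ded_45_2 (flp_f L66361) (flp_g L45924) L31866 L45924 L66361
theorem L66370 : sm gj N5327 = N7728 := rfl
theorem L66372 : sm ga N7728 = N5342 := ded_16_1 (flp_j L46040) (flp_a L45926) L66370
theorem L66374 : sm gb N7728 = N6021 := ded_24_1 (flp_j L51680) (flp_b L45928) L66370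
theorem L66376 : sm gd N7728 = N5385 := ded_37_1 (flp_j L46434) (flp_d L45930) L66370
theorem L66378 : sm ge N7728 = N5329 := ded_42_1 (flp_j L45945) (flp_e L45932) L66370
theorem L66380 : sm gg N7728 = N7728 := ded_49_1 (flp_j L66370) (flp_g L45924) L31863 L45924 L66370
theorem L66381 : sm gh N5327 = N7729 := rfl
theorem L66403 : sm gh N5329 = N7731 := rfl
theorem L66405 : sm ga N7731 = N5345 := ded_17_1 (flp_h L46067) (flp_a L45947) L66403
theorem L66412 : sm gd N7731 = N5460 := ded_38_1 (flp_h L47107) L32731 (flp_h L31904) (flp_d L45951) L66403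
theorem L66424 : sm gg N5332 = N7733 := rfl
theorem L66426 : sm gc N7733 = N5386 := ded_30_1 (flp_g L46444) (flp_c L45979) L66424
theorem L66428 : sm gd N7733 = N5333 := ded_36_1 (flp_g L45981) L45975 L66424
theorem L66430 : sm gh N5332 = N7734 := rfl
theorem L66432 : sm gc N7734 = N5387 := ded_32_1 (flp_h L46449) (flp_c L45979) L66430
theorem L66434 : sm gf N7734 = N7734 := ded_47_1 (flp_h L66430) L45977 L66430
theorem L66435 : sm gj N7734 = N7734 := ded_52_1 (flp_h L66430) L45978 L66430
theorem L66436 : sm gf N5333 = N7735 := rfl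
theorem L66438 : sm gc N7735 = N5341 := ded_29_1 (flp_f L46033) (flp_c L45983) L66436
theorem L66440 : sm gg N7735 = N7735 := ded_45_2 (flp_f L66436) (flp_g L45981) L31912 L45981 L66436
theorem L66441 : sm gj N5333 = N7736 := rfl
theorem L66443 : sm gc N7736 = N5342 := ded_31_1 (flp_j L46040) (flp_c L45983) L66441
theorem L66445 : sm ge N7736 = N5335 := ded_42_1 (flp_j L45995) (flp_e L45985) L66441
theorem L66447 : sm gg N7736 = N7736 := ded_49_1 (flp_j L66441) (flp_g L45981) L31911 L45981 L66441
theorem L66448 : sm gh N5333 = N7737 := rfl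
theorem L66450 : sm gc N7737 = N5343 := ded_32_1 (flp_h L46049) (flp_c L45983) L66448
theorem L66452 : sm ge N7737 = N5336 := ded_43_1 (flp_h L46000) (flp_e L45985) L66448
theorem L66454 : sm gg N7737 = N5334 := ded_50_1 (flp_h L45987) L45981 L66448
theorem L66456 : sm gd N5334 = N7738 := rfl
theorem L66458 : sm gf N7738 = N7738 := ded_35_2 (flp_d L66456) L45993 L66456
theorem L66459 : sm gj N7738 = N7738 := ded_37_2 (flp_d L66456) L45994 L66456
theorem L66460 : sm gc N7738 = N7738 := ded_27_1 (flp_d L66456) L45989 L31951 (flp_c L45989) L66456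
theorem L66461 : sm gi N5334 = N7739 := rfl
theorem L66469 : sm gh N5335 = N7740 := rfl
theorem L66471 : sm gc N7740 = N5345 := ded_32_1 (flp_h L46067) (flp_c L45997) L66469
theorem L66473 : sm gg N7740 = N7740 := ded_50_1 (flp_h L66469) L45999 L66469
theorem L66474 : sm gj N7740 = N5336 := ded_52_1 (flp_h L46000) L45995 L66469
theorem L66476 : sm gd N5336 = N7741 := rfl
theorem L66478 : sm gg N7741 = N5337 := ded_36_2 (flp_d L46006) (flp_g L46004) L66476
theorem L66480 : sm gc N7741 = N5463 := ded_27_1 (flp_d L47136) L32767 (flp_d L31965) (flp_c L46002) L66476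
theorem L66482 : sm gi N5336 = N7742 := rfl
theorem L66488 : sm ge N5337 = N7743 := rfl
theorem L66490 : sm gc N7743 = N5465 := ded_28_1 (flp_e L47150) (flp_c L46011) L66488
theorem L66492 : sm gj N7743 = N7743 := ded_42_2 (flp_e L66488) L46010 L66488
theorem L66493 : sm gi N5337 = N7744 := rfl
theorem L66502 : sm gf N5339 = N7745 := rfl
theorem L66504 : sm gc N7745 = N5467 := ded_29_1 (flp_f L47163) (flp_c L46022) L66502
theorem L66506 : sm gd N7745 = N7745 := ded_35_1 (flp_f L66502) L46025 L66502
theorem L66507 : sm gj N7745 = N7745 := ded_46_2 (flp_f L66502) L46024 L66502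
theorem L66508 : sm gi N5339 = N7746 := rfl
theorem L66513 : sm ge N7746 = N5340 := ded_44_1 (flp_i L46026) L46020 L66508
theorem L66516 : sm gh N5340 = N7747 := rfl
theorem L66521 : sm gj N5341 = N7748 := rfl
theorem L66523 : sm gb N7748 = N5347 := ded_24_1 (flp_j L46084) (flp_b L46035) L66521
theorem L66525 : sm gd N7748 = N5390 := ded_37_1 (flp_j L46472) (flp_d L46037) L66521
theorem L66529 : sm gh N5341 = N7749 := rfl
theorem L66537 : sm gh N5342 = N7750 := rfl
theorem L66539 : sm gb N7750 = N5349 := ded_25_1 (flp_h L46100) (flp_b L46042) L66537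
theorem L66541 : sm ge N7750 = N5345 := ded_43_1 (flp_h L46067) (flp_e L46046) L66537
theorem L66544 : sm gj N7750 = N5343 := ded_52_1 (flp_h L46049) L46040 L66537
theorem L66547 : sm gi N5343 = N7751 := rfl
theorem L66549 : sm gb N7751 = N5350 := ded_26_1 (flp_i L46110) (flp_b L46051) L66547
theorem L66552 : sm ge N7751 = N5346 := ded_44_1 (flp_i L46076) (flp_e L46053) L66547
theorem L66556 : sm gi N5345 = N7752 := rfl
theorem L66565 : sm gg N5347 = N7753 := rfl
theorem L66590 : sm gi N5349 = N7756 := rfl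
theorem L66595 : sm ge N7756 = N5351 := ded_44_1 (flp_i L46119) (flp_e L46104) L66590
theorem L66598 : sm gj N7756 = N5350 := ded_53_1 (flp_i L46110) (flp_j L46107) L66590
theorem L66600 : sm ge N5352 = N7757 := rfl
theorem L66603 : sm gb N7757 = N5354 := ded_21_1 (flp_e L46149) (flp_b L46131) L66600
theorem L66605 : sm gc N7757 = N6050 := ded_28_1 (flp_e L51898) (flp_c L46133) L66600
theorem L66608 : sm gi N7757 = N5379 := ded_44_2 (flp_e L46382) (flp_i L46136) L66600
theorem L66611 : sm gg N5352 = N7758 := rfl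
theorem L66614 : sm gb N7758 = N5355 := ded_23_1 (flp_g L46159) (flp_b L46131) L66611
theorem L66616 : sm gc N7758 = N6051 := ded_30_1 (flp_g L51907) (flp_c L46133) L66611
theorem L66621 : sm gh N5352 = N7759 := rfl
theorem L66626 : sm gc N7759 = N6052 := ded_32_1 (flp_h L51916) (flp_c L46133) L66621
theorem L66640 : sm gd N5354 = N7761 := rfl
theorem L66642 : sm ga N7761 = N5362 := ded_12_1 (flp_d L46230) (flp_a L46151) L66640
theorem L66644 : sm gf N7761 = N7761 := ded_35_2 (flp_d L66640) L46158 L66640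
theorem L66645 : sm gj N7761 = N7761 := ded_37_2 (flp_d L66640) L46155 L66640
theorem L66646 : sm gi N7761 = N5381 := ded_39_2 (flp_d L46401) (flp_i L46156) L66640
theorem L66648 : sm gg N5354 = N7762 := rfl
theorem L66650 : sm ga N7762 = N5363 := ded_15_1 (flp_g L46237) (flp_a L46151) L66648
theorem L66652 : sm gc N7762 = N5358 := ded_30_1 (flp_g L46186) (flp_c L46153) L66648
theorem L66654 : sm ge N7762 = N5355 := ded_41_1 (flp_g L46159) L46149 L66648
theorem L66656 : sm gi N7762 = N5382 := ded_51_2 (flp_g L46407) (flp_i L46156) L66648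
theorem L66658 : sm gh N5354 = N7763 := rfl
theorem L66660 : sm ga N7763 = N5364 := ded_17_1 (flp_h L46246) (flp_a L46151) L66658
theorem L66662 : sm gc N7763 = N5359 := ded_32_1 (flp_h L46196) (flp_c L46153) L66658
theorem L66669 : sm gj N5355 = N7764 := rfl
theorem L66671 : sm ga N7764 = N5365 := ded_16_1 (flp_j L46256) (flp_a L46161) L66669
theorem L66673 : sm gc N7764 = N5360 := ded_31_1 (flp_j L46207) (flp_c L46163) L66669
theorem L66675 : sm gf N7764 = N7764 := ded_46_1 (flp_j L66669) L46167 L66669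
theorem L66676 : sm gi N7764 = N5383 := ded_53_2 (flp_j L46416) (flp_i L46165) L66669
theorem L66678 : sm gg N7764 = N7764 := ded_49_1 (flp_j L66669) (flp_g L46159) L32043 L46159 L66669
theorem L66679 : sm gh N5355 = N7765 := rfl
theorem L66681 : sm ga N7765 = N5366 := ded_17_1 (flp_h L46265) (flp_a L46161) L66679
theorem L66698 : sm ge N5357 = N7767 := rfl
theorem L66707 : sm gf N5358 = N7768 := rfl
theorem L66709 : sm ga N7768 = N5369 := ded_14_1 (flp_f L46290) (flp_a L46188) L66707
theorem L66711 : sm gb N7768 = N6061 := ded_22_1 (flp_f L52005) (flp_b L46190) L66707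
theorem L66713 : sm gi N7768 = N5384 := ded_48_2 (flp_f L46425) (flp_i L46194) L66707
theorem L66715 : sm ge N7768 = N7768 := ded_40_1 (flp_f L66707) L46192 L32076 (flp_e L46192) L66707
theorem L66716 : sm gg N7768 = N7768 := ded_45_2 (flp_f L66707) (flp_g L46186) L32065 L46186 L66707
theorem L66717 : sm gj N5358 = N7769 := rfl
theorem L66719 : sm ga N7769 = N5370 := ded_16_1 (flp_j L46298) (flp_a L46188) L66717
theorem L66721 : sm gb N7769 = N6062 := ded_24_1 (flp_j L52013) (flp_b L46190) L66717
theorem L66723 : sm ge N7769 = N5360 := ded_42_1 (flp_j L46207) (flp_e L46192) L66717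
theorem L66725 : sm gi N7769 = N5385 := ded_53_2 (flp_j L46434) (flp_i L46194) L66717
theorem L66727 : sm gg N7769 = N7769 := ded_49_1 (flp_j L66717) (flp_g L46186) L32062 L46186 L66717
theorem L66728 : sm gh N5358 = N7770 := rfl
theorem L66730 : sm ga N7770 = N5371 := ded_17_1 (flp_h L46307) (flp_a L46188) L66728
theorem L66732 : sm gb N7770 = N6063 := ded_25_1 (flp_h L52022) (flp_b L46190) L66728
theorem L66734 : sm ge N7770 = N5361 := ded_43_1 (flp_h L46219) (flp_e L46192) L66728
theorem L66736 : sm gg N7770 = N5359 := ded_50_1 (flp_h L46196) L46186 L66728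
theorem L66738 : sm gi N7770 = N7770 := ded_54_2 (flp_h L66728) L46194 L32250 (flp_i L46194) L66728
theorem L66739 : sm gd N5359 = N7771 := rfl
theorem L66741 : sm ga N7771 = N5372 := ded_12_1 (flp_d L46316) (flp_a L46198) L66739
theorem L66743 : sm gb N7771 = N6064 := ded_20_1 (flp_d L52031) (flp_b L46200) L66739
theorem L66745 : sm gf N7771 = N7771 := ded_35_2 (flp_d L66739) L46204 L66739
theorem L66746 : sm gj N7771 = N7771 := ded_37_2 (flp_d L66739) L46205 L66739
theorem L66747 : sm gi N7771 = N7771 := ded_39_2 (flp_d L66739) L46206 L66739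
theorem L66748 : sm ge N7771 = N7771 := ded_34_2 (flp_d L66739) L46202 L32086 (flp_e L46202) L66739
theorem L66749 : sm gh N5360 = N7772 := rfl
theorem L66751 : sm ga N7772 = N5373 := ded_17_1 (flp_h L46324) (flp_a L46209) L66749
theorem L66753 : sm gb N7772 = N6065 := ded_25_1 (flp_h L52039) (flp_b L46211) L66749
theorem L66755 : sm gf N7772 = N7772 := ded_47_1 (flp_h L66749) L46215 L66749
theorem L66756 : sm gg N7772 = N7772 := ded_50_1 (flp_h L66749) L46218 L66749
theorem L66757 : sm gj N7772 = N5361 := ded_52_1 (flp_h L46219) L46207 L66749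
theorem L66759 : sm gd N7772 = N7772 := ded_38_1 (flp_h L66749) L46213 L32095 (flp_d L46213) L66749
theorem L66760 : sm gi N7772 = N7772 := ded_54_2 (flp_h L66749) L46216 L32260 (flp_i L46216) L66749
theorem L66761 : sm gg N5362 = N7773 := rfl
theorem L66763 : sm gb N7773 = N7773 := ded_23_1 (flp_g L66761) L46232 L66761
theorem L66764 : sm gd N7773 = N5363 := ded_36_1 (flp_g L46237) L46230 L66761
theorem L66766 : sm gi N7773 = N5386 := ded_51_2 (flp_g L46444) (flp_i L46235) L66761
theorem L66768 : sm gh N5362 = N7774 := rfl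
theorem L66770 : sm gb N7774 = N7774 := ded_25_1 (flp_h L66768) L46232 L66768
theorem L66771 : sm gf N7774 = N7774 := ded_47_1 (flp_h L66768) L46233 L66768
theorem L66772 : sm gj N7774 = N7774 := ded_52_1 (flp_h L66768) L46234 L66768
theorem L66773 : sm gf N5363 = N7775 := rfl
theorem L66775 : sm gb N7775 = N7775 := ded_22_1 (flp_f L66773) L46239 L66773
theorem L66776 : sm gc N7775 = N5369 := ded_29_1 (flp_f L46290) (flp_c L46240) L66773
theorem L66778 : sm gi N7775 = N5388 := ded_48_2 (flp_f L46455) (flp_i L46244) L66773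
theorem L66780 : sm ge N7775 = N7775 := ded_40_1 (flp_f L66773) L46242 L32115 (flp_e L46242) L66773
theorem L66781 : sm gg N7775 = N7775 := ded_45_2 (flp_f L66773) (flp_g L46237) L32107 L46237 L66773
theorem L66782 : sm gj N5363 = N7776 := rfl
theorem L66784 : sm gb N7776 = N7776 := ded_24_1 (flp_j L66782) L46239 L66782
theorem L66785 : sm gc N7776 = N5370 := ded_31_1 (flp_j L46298) (flp_c L46240) L66782
theorem L66787 : sm ge N7776 = N5365 := ded_42_1 (flp_j L46256) (flp_e L46242) L66782
theorem L66789 : sm gi N7776 = N5389 := ded_53_2 (flp_j L46463) (flp_i L46244) L66782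
theorem L66791 : sm gg N7776 = N7776 := ded_49_1 (flp_j L66782) (flp_g L46237) L32104 L46237 L66782
theorem L66792 : sm gh N5363 = N7777 := rfl
theorem L66794 : sm gb N7777 = N7777 := ded_25_1 (flp_h L66792) L46239 L66792
theorem L66795 : sm gc N7777 = N5371 := ded_32_1 (flp_h L46307) (flp_c L46240) L66792
theorem L66797 : sm ge N7777 = N5366 := ded_43_1 (flp_h L46265) (flp_e L46242) L66792
theorem L66799 : sm gg N7777 = N5364 := ded_50_1 (flp_h L46246) L46237 L66792
theorem L66801 : sm gi N7777 = N7777 := ded_54_2 (flp_h L66792) L46244 L32274 (flp_i L46244) L66792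
theorem L66802 : sm gd N5364 = N7778 := rfl
theorem L66804 : sm gb N7778 = N7778 := ded_20_1 (flp_d L66802) L46248 L66802
theorem L66805 : sm gf N7778 = N7778 := ded_35_2 (flp_d L66802) L46253 L66802
theorem L66806 : sm gj N7778 = N7778 := ded_37_2 (flp_d L66802) L46254 L66802
theorem L66807 : sm gi N7778 = N7778 := ded_39_2 (flp_d L66802) L46255 L66802
theorem L66808 : sm gh N5365 = N7779 := rfl
theorem L66810 : sm gb N7779 = N7779 := ded_25_1 (flp_h L66808) L46258 L66808
theorem L66811 : sm gc N7779 = N5373 := ded_32_1 (flp_h L46324) (flp_c L46259) L66808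
theorem L66813 : sm gf N7779 = N7779 := ded_47_1 (flp_h L66808) L46261 L66808
theorem L66814 : sm gg N7779 = N7779 := ded_50_1 (flp_h L66808) L46264 L66808
theorem L66815 : sm gj N7779 = N5366 := ded_52_1 (flp_h L46265) L46256 L66808
theorem L66817 : sm gi N7779 = N7779 := ded_54_2 (flp_h L66808) L46262 L32281 (flp_i L46262) L66808
theorem L66818 : sm gd N5366 = N7780 := rfl
theorem L66822 : sm gg N7780 = N5367 := ded_36_2 (flp_d L46274) (flp_g L46271) L66818
theorem L66826 : sm ge N5367 = N7781 := rfl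
theorem L66832 : sm gf N5368 = N7782 := rfl
theorem L66839 : sm gj N5369 = N7783 := rfl
theorem L66841 : sm gb N7783 = N5374 := ded_24_1 (flp_j L46334) (flp_b L46292) L66839
theorem L66843 : sm ge N7783 = N7783 := ded_42_1 (flp_j L66839) L46296 L66839
theorem L66844 : sm gf N7783 = N5370 := ded_46_1 (flp_j L46298) L46290 L66839
theorem L66846 : sm gi N7783 = N5390 := ded_53_2 (flp_j L46472) (flp_i L46294) L66839
theorem L66848 : sm gh N5369 = N7784 := rfl
theorem L66850 : sm gb N7784 = N5375 := ded_25_1 (flp_h L46344) (flp_b L46292) L66848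
theorem L66852 : sm ge N7784 = N7784 := ded_43_1 (flp_h L66848) L46296 L66848
theorem L66853 : sm gf N7784 = N5371 := ded_47_1 (flp_h L46307) L46290 L66848
theorem L66855 : sm gg N7784 = N7784 := ded_50_1 (flp_h L66848) L46297 L66848
theorem L66856 : sm gi N7784 = N7784 := ded_54_2 (flp_h L66848) L46294 L32287 (flp_i L46294) L66848
theorem L66857 : sm gh N5370 = N7785 := rfl
theorem L66859 : sm gb N7785 = N5376 := ded_25_1 (flp_h L46354) (flp_b L46300) L66857
theorem L66861 : sm ge N7785 = N5373 := ded_43_1 (flp_h L46324) (flp_e L46302) L66857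
theorem L66863 : sm gg N7785 = N7785 := ded_50_1 (flp_h L66857) L46306 L66857
theorem L66864 : sm gj N7785 = N5371 := ded_52_1 (flp_h L46307) L46298 L66857
theorem L66866 : sm gi N7785 = N7785 := ded_54_2 (flp_h L66857) L46304 L32296 (flp_i L46304) L66857
theorem L66867 : sm gd N5371 = N7786 := rfl
theorem L66869 : sm gb N7786 = N5377 := ded_20_1 (flp_d L46365) (flp_b L46309) L66867
theorem L66871 : sm gg N7786 = N5372 := ded_36_2 (flp_d L46316) (flp_g L46313) L66867
theorem L66873 : sm gi N7786 = N7786 := ded_39_2 (flp_d L66867) L46315 L66867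
theorem L66874 : sm ge N7786 = N7786 := ded_34_2 (flp_d L66867) L46311 L32166 (flp_e L46311) L66867
theorem L66875 : sm gc N5372 = N7787 := rfl
theorem L66877 : sm ge N7787 = N7787 := ded_28_2 (flp_c L66875) L46323 L66875
theorem L66878 : sm gf N7787 = N7787 := ded_29_2 (flp_c L66875) L46320 L66875
theorem L66879 : sm gj N7787 = N7787 := ded_31_2 (flp_c L66875) L46321 L66875
theorem L66880 : sm gi N7787 = N7787 := ded_33_2 (flp_c L66875) L46322 L66875
theorem L66881 : sm gg N5374 = N7788 := rfl
theorem L66883 : sm ga N7788 = N6081 := ded_15_1 (flp_g L52174) (flp_a L46336) L66881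
theorem L66887 : sm gi N7788 = N5391 := ded_51_2 (flp_g L46480) (flp_i L46342) L66881
theorem L66891 : sm gh N5374 = N7789 := rfl
theorem L66893 : sm ga N7789 = N6082 := ded_17_1 (flp_h L52182) (flp_a L46336) L66891
theorem L66895 : sm gc N7789 = N7789 := ded_32_1 (flp_h L66891) L46338 L66891
theorem L66896 : sm ge N7789 = N7789 := ded_43_1 (flp_h L66891) L46339 L66891
theorem L66897 : sm gf N7789 = N5376 := ded_47_1 (flp_h L46354) (flp_f L46340) L66891
theorem L66899 : sm gj N7789 = N5375 := ded_52_1 (flp_h L46344) L46334 L66891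
theorem L66901 : sm gi N7789 = N7789 := ded_54_2 (flp_h L66891) L46342 L32306 (flp_i L46342) L66891
theorem L66902 : sm gd N5375 = N7790 := rfl
theorem L66904 : sm ga N7790 = N6083 := ded_12_1 (flp_d L52191) (flp_a L46346) L66902
theorem L66906 : sm gf N7790 = N5377 := ded_35_2 (flp_d L46365) (flp_f L46350) L66902
theorem L66908 : sm gg N7790 = N7790 := ded_36_2 (flp_d L66902) L46352 L66902
theorem L66909 : sm gi N7790 = N7790 := ded_39_2 (flp_d L66902) L46353 L66902
theorem L66910 : sm gd N5376 = N7791 := rfl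
theorem L66912 : sm ga N7791 = N6084 := ded_12_1 (flp_d L52197) (flp_a L46356) L66910
theorem L66914 : sm gg N7791 = N7791 := ded_36_2 (flp_d L66910) L46361 L66910
theorem L66915 : sm gj N7791 = N5377 := ded_37_2 (flp_d L46365) (flp_j L46362) L66910
theorem L66917 : sm gi N7791 = N7791 := ded_39_2 (flp_d L66910) L46364 L66910
theorem L66918 : sm ge N7791 = N7791 := ded_34_2 (flp_d L66910) L46359 L32214 (flp_e L46359) L66910
theorem L66919 : sm gc N5377 = N7792 := rfl
theorem L66921 : sm ga N7792 = N6085 := ded_11_1 (flp_c L52204) (flp_a L46367) L66919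
theorem L66923 : sm ge N7792 = N7792 := ded_28_2 (flp_c L66919) L46372 L66919
theorem L66924 : sm gg N7792 = N5378 := ded_30_2 (flp_c L46373) (flp_g L46369) L66919
theorem L66926 : sm gi N7792 = N7792 := ded_33_2 (flp_c L66919) L46371 L66919
theorem L66927 : sm gd N7792 = N7792 := ded_27_2 (flp_c L66919) (flp_d L46365) L32191 L46365 L66919
theorem L66928 : sm gb N5378 = N7793 := rfl
theorem L66930 : sm gd N7793 = N7793 := ded_20_2 (flp_b L66928) L46381 L66928
theorem L66931 : sm ge N7793 = N7793 := ded_21_2 (flp_b L66928) L46377 L66928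
theorem L66932 : sm gf N7793 = N7793 := ded_22_2 (flp_b L66928) L46378 L66928
theorem L66933 : sm gj N7793 = N7793 := ded_24_2 (flp_b L66928) L46379 L66928
theorem L66934 : sm gi N7793 = N7793 := ded_26_2 (flp_b L66928) L46380 L66928
theorem L66935 : sm gd N5379 = N7794 := rfl
theorem L66937 : sm ga N7794 = N7794 := ded_12_1 (flp_d L66935) L46384 L66935
theorem L66938 : sm gb N7794 = N5381 := ded_20_1 (flp_d L46401) (flp_b L46385) L66935
theorem L66940 : sm gf N7794 = N7794 := ded_35_2 (flp_d L66935) L46391 L66935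
theorem L66941 : sm gj N7794 = N7794 := ded_37_2 (flp_d L66935) L46389 L66935
theorem L66942 : sm gg N5379 = N7795 := rfl
theorem L66944 : sm ga N7795 = N7795 := ded_15_1 (flp_g L66942) L46384 L66942
theorem L66945 : sm gb N7795 = N5382 := ded_23_1 (flp_g L46407) (flp_b L46385) L66942
theorem L66947 : sm gc N7795 = N6088 := ded_30_1 (flp_g L52226) (flp_c L46387) L66942
theorem L66949 : sm ge N7795 = N5380 := ded_41_1 (flp_g L46392) L46382 L66942
theorem L66951 : sm gh N7795 = N7795 := ded_50_2 (flp_g L66942) L46390 L66942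
theorem L66952 : sm gj N5380 = N7796 := rfl
theorem L66954 : sm ga N7796 = N7796 := ded_16_1 (flp_j L66952) L46394 L66952
theorem L66955 : sm gb N7796 = N5383 := ded_24_1 (flp_j L46416) (flp_b L46395) L66952
theorem L66957 : sm gc N7796 = N6089 := ded_31_1 (flp_j L52234) (flp_c L46397) L66952
theorem L66959 : sm gf N7796 = N7796 := ded_46_1 (flp_j L66952) L46400 L66952
theorem L66960 : sm gh N7796 = N7796 := ded_52_2 (flp_j L66952) L46399 L66952
theorem L66961 : sm gg N7796 = N7796 := ded_49_1 (flp_j L66952) (flp_g L46392) L32223 L46392 L66952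
theorem L66962 : sm gg N5381 = N7797 := rfl
theorem L66964 : sm ga N7797 = N5386 := ded_15_1 (flp_g L46444) (flp_a L46403) L66962
theorem L66966 : sm gd N7797 = N5382 := ded_36_1 (flp_g L46407) L46401 L66962
theorem L66968 : sm gh N5381 = N7798 := rfl
theorem L66970 : sm ga N7798 = N5387 := ded_17_1 (flp_h L46449) (flp_a L46403) L66968
theorem L66972 : sm gf N7798 = N7798 := ded_47_1 (flp_h L66968) L46405 L66968
theorem L66973 : sm gj N7798 = N7798 := ded_52_1 (flp_h L66968) L46406 L66968
theorem L66974 : sm gd N7798 = N7798 := ded_38_1 (flp_h L66968) (flp_d L46401) L32232 L46401 L66968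
theorem L66975 : sm gf N5382 = N7799 := rfl
theorem L66977 : sm ga N7799 = N5388 := ded_14_1 (flp_f L46455) (flp_a L46409) L66975
theorem L66979 : sm gc N7799 = N5384 := ded_29_1 (flp_f L46425) (flp_c L46411) L66975
theorem L66981 : sm gh N7799 = N7799 := ded_47_2 (flp_f L66975) L46415 L66975
theorem L66982 : sm ge N7799 = N7799 := ded_40_1 (flp_f L66975) L46413 L32241 (flp_e L46413) L66975
theorem L66983 : sm gg N7799 = N7799 := ded_45_2 (flp_f L66975) (flp_g L46407) L32233 L46407 L66975
theorem L66984 : sm gj N5382 = N7800 := rfl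
theorem L66986 : sm ga N7800 = N5389 := ded_16_1 (flp_j L46463) (flp_a L46409) L66984
theorem L66988 : sm gc N7800 = N5385 := ded_31_1 (flp_j L46434) (flp_c L46411) L66984
theorem L66990 : sm ge N7800 = N5383 := ded_42_1 (flp_j L46416) (flp_e L46413) L66984
theorem L66992 : sm gh N7800 = N7800 := ded_52_2 (flp_j L66984) L46415 L66984
theorem L66993 : sm gg N7800 = N7800 := ded_49_1 (flp_j L66984) (flp_g L46407) L32231 L46407 L66984
theorem L66994 : sm gj N5384 = N7801 := rfl
theorem L66996 : sm ga N7801 = N5390 := ded_16_1 (flp_j L46472) (flp_a L46427) L66994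
theorem L66998 : sm gb N7801 = N6094 := ded_24_1 (flp_j L52277) (flp_b L46429) L66994
theorem L67000 : sm ge N7801 = N7801 := ded_42_1 (flp_j L66994) L46432 L66994
theorem L67001 : sm gf N7801 = N5385 := ded_46_1 (flp_j L46434) L46425 L66994
theorem L67003 : sm gh N7801 = N7801 := ded_52_2 (flp_j L66994) L46431 L66994
theorem L67004 : sm gf N5386 = N7802 := rfl
theorem L67006 : sm gb N7802 = N7802 := ded_22_1 (flp_f L67004) L46446 L67004
theorem L67007 : sm gd N7802 = N5388 := ded_35_1 (flp_f L46455) (flp_d L46447) L67004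
theorem L67009 : sm gg N7802 = N7802 := ded_45_2 (flp_f L67004) (flp_g L46444) L32265 L46444 L67004
theorem L67010 : sm gj N5386 = N7803 := rfl
theorem L67012 : sm gb N7803 = N7803 := ded_24_1 (flp_j L67010) L46446 L67010
theorem L67013 : sm gd N7803 = N5389 := ded_37_1 (flp_j L46463) (flp_d L46447) L67010
theorem L67015 : sm gg N7803 = N7803 := ded_49_1 (flp_j L67010) (flp_g L46444) L32266 L46444 L67010
theorem L67016 : sm gh N5386 = N7804 := rfl
theorem L67018 : sm gb N7804 = N7804 := ded_25_1 (flp_h L67016) L46446 L67016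
theorem L67019 : sm gg N7804 = N5387 := ded_50_1 (flp_h L46449) L46444 L67016
theorem L67021 : sm gd N7804 = N7804 := ded_38_1 (flp_h L67016) L46447 L32274 (flp_d L46447) L67016
theorem L67022 : sm gi N5387 = N7805 := rfl
theorem L67024 : sm gb N7805 = N7805 := ded_26_1 (flp_i L67022) L46451 L67022
theorem L67025 : sm gd N7805 = N7805 := ded_39_1 (flp_i L67022) L46454 L67022
theorem L67026 : sm gf N7805 = N7805 := ded_48_1 (flp_i L67022) L46452 L67022
theorem L67027 : sm gj N7805 = N7805 := ded_53_1 (flp_i L67022) L46453 L67022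
theorem L67028 : sm gj N5388 = N7806 := rfl
theorem L67030 : sm gb N7806 = N7806 := ded_24_1 (flp_j L67028) L46457 L67028
theorem L67031 : sm gc N7806 = N5390 := ded_31_1 (flp_j L46472) (flp_c L46458) L67028
theorem L67033 : sm ge N7806 = N7806 := ded_42_1 (flp_j L67028) L46461 L67028
theorem L67034 : sm gf N7806 = N5389 := ded_46_1 (flp_j L46463) L46455 L67028
theorem L67036 : sm gh N7806 = N7806 := ded_52_2 (flp_j L67028) L46460 L67028
theorem L67045 : sm gf N5392 = N7808 := rfl
theorem L67048 : sm gb N7808 = N5393 := ded_22_1 (flp_f L46500) L46489 L67045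
theorem L67052 : sm gj N7808 = N5417 := ded_46_2 (flp_f L46732) (flp_j L46494) L67045
theorem L67055 : sm gh N5392 = N7809 := rfl
theorem L67067 : sm ge N5393 = N7810 := rfl
theorem L67069 : sm ga N7810 = N5400 := ded_13_1 (flp_e L46575) (flp_a L46502) L67067
theorem L67071 : sm gc N7810 = N5395 := ded_28_1 (flp_e L46520) (flp_c L46504) L67067
theorem L67073 : sm gj N7810 = N5419 := ded_42_2 (flp_e L46751) (flp_j L46506) L67067
theorem L67075 : sm gi N7810 = N7810 := ded_44_2 (flp_e L67067) L46508 L67067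
theorem L67076 : sm gf N7810 = N5473 := ded_40_2 (flp_e L47212) (flp_f L32836) (flp_e L32311) L46500 L67067
theorem L67078 : sm gg N5393 = N7811 := rfl
theorem L67080 : sm ga N7811 = N5401 := ded_15_1 (flp_g L46585) (flp_a L46502) L67078
theorem L67082 : sm gc N7811 = N5396 := ded_30_1 (flp_g L46532) (flp_c L46504) L67078
theorem L67084 : sm gi N7811 = N7811 := ded_51_2 (flp_g L67078) L46508 L67078
theorem L67085 : sm gf N7811 = N7811 := ded_45_1 (flp_g L67078) (flp_f L46500) L32313 L46500 L67078
theorem L67086 : sm gh N5393 = N7812 := rfl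
theorem L67088 : sm ga N7812 = N5402 := ded_17_1 (flp_h L46592) (flp_a L46502) L67086
theorem L67090 : sm gc N7812 = N5397 := ded_32_1 (flp_h L46542) (flp_c L46504) L67086
theorem L67092 : sm gf N7812 = N5394 := ded_47_1 (flp_h L46509) L46500 L67086
theorem L67094 : sm gj N7812 = N5421 := ded_52_1 (flp_h L46769) (flp_j L46506) L67086
theorem L67096 : sm gd N5394 = N7813 := rfl
theorem L67098 : sm ga N7813 = N5403 := ded_12_1 (flp_d L46601) (flp_a L46511) L67096
theorem L67101 : sm gj N7813 = N5422 := ded_37_2 (flp_d L46777) (flp_j L46518) L67096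
theorem L67115 : sm gg N5395 = N7815 := rfl
theorem L67117 : sm ga N7815 = N5405 := ded_15_1 (flp_g L46618) (flp_a L46522) L67115
theorem L67119 : sm gb N7815 = N6108 := ded_23_1 (flp_g L52398) (flp_b L46524) L67115
theorem L67121 : sm gd N7815 = N7815 := ded_36_1 (flp_g L67115) L46529 L67115
theorem L67122 : sm ge N7815 = N5396 := ded_41_1 (flp_g L46532) L46520 L67115
theorem L67124 : sm gi N7815 = N7815 := ded_51_2 (flp_g L67115) L46528 L67115
theorem L67125 : sm gh N5395 = N7816 := rfl
theorem L67127 : sm ga N7816 = N5406 := ded_17_1 (flp_h L46626) (flp_a L46522) L67125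
theorem L67129 : sm gb N7816 = N6109 := ded_25_1 (flp_h L52406) (flp_b L46524) L67125
theorem L67135 : sm gj N7816 = N5425 := ded_52_1 (flp_h L46805) (flp_j L46526) L67125
theorem L67137 : sm gj N5396 = N7817 := rfl
theorem L67139 : sm ga N7817 = N5407 := ded_16_1 (flp_j L46636) (flp_a L46534) L67137
theorem L67141 : sm gb N7817 = N6110 := ded_24_1 (flp_j L52416) (flp_b L46536) L67137
theorem L67143 : sm gd N7817 = N5399 := ded_37_1 (flp_j L46564) (flp_d L46538) L67137
theorem L67145 : sm gf N7817 = N7817 := ded_46_1 (flp_j L67137) L46541 L67137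
theorem L67146 : sm gi N7817 = N7817 := ded_53_2 (flp_j L67137) L46540 L67137
theorem L67147 : sm gg N7817 = N5426 := ded_49_1 (flp_j L46815) (flp_g L32497) (flp_j L32325) L46532 L67137
theorem L67149 : sm gh N5396 = N7818 := rfl
theorem L67151 : sm ga N7818 = N5408 := ded_17_1 (flp_h L46646) (flp_a L46534) L67149
theorem L67169 : sm gd N5400 = N7820 := rfl
theorem L67171 : sm gb N7820 = N7820 := ded_20_1 (flp_d L67169) L46577 L67169
theorem L67172 : sm gf N7820 = N5482 := ded_35_2 (flp_d L47304) (flp_f L46583) L67169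
theorem L67174 : sm gj N7820 = N5429 := ded_37_2 (flp_d L46845) (flp_j L46580) L67169
theorem L67176 : sm gi N7820 = N7820 := ded_39_2 (flp_d L67169) L46582 L67169
theorem L67177 : sm gc N7820 = N7820 := ded_27_1 (flp_d L67169) L46578 L32373 (flp_c L46578) L67169
theorem L67178 : sm gg N5400 = N7821 := rfl
theorem L67180 : sm gb N7821 = N7821 := ded_23_1 (flp_g L67178) L46577 L67178
theorem L67181 : sm gc N7821 = N5405 := ded_30_1 (flp_g L46618) (flp_c L46578) L67178
theorem L67183 : sm ge N7821 = N5401 := ded_41_1 (flp_g L46585) L46575 L67178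
theorem L67185 : sm gi N7821 = N7821 := ded_51_2 (flp_g L67178) L46582 L67178
theorem L67186 : sm gh N5400 = N7822 := rfl
theorem L67188 : sm gb N7822 = N7822 := ded_25_1 (flp_h L67186) L46577 L67186
theorem L67189 : sm gc N7822 = N5406 := ded_32_1 (flp_h L46626) (flp_c L46578) L67186
theorem L67191 : sm ge N7822 = N5402 := ded_43_1 (flp_h L46592) L46575 L67186
theorem L67193 : sm gf N7822 = N5484 := ded_47_1 (flp_h L47321) (flp_f L46583) L67186
theorem L67195 : sm gj N7822 = N5431 := ded_52_1 (flp_h L46861) (flp_j L46580) L67186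
theorem L67197 : sm gj N5401 = N7823 := rfl
theorem L67199 : sm gb N7823 = N7823 := ded_24_1 (flp_j L67197) L46587 L67197
theorem L67200 : sm gc N7823 = N5407 := ded_31_1 (flp_j L46636) (flp_c L46588) L67197
theorem L67202 : sm gf N7823 = N7823 := ded_46_1 (flp_j L67197) L46591 L67197
theorem L67203 : sm gi N7823 = N7823 := ded_53_2 (flp_j L67197) L46590 L67197
theorem L67204 : sm gg N7823 = N5432 := ded_49_1 (flp_j L46870) (flp_g L32545) (flp_j L32353) L46585 L67197
theorem L67206 : sm gh N5401 = N7824 := rfl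
theorem L67208 : sm gb N7824 = N7824 := ded_25_1 (flp_h L67206) L46587 L67206
theorem L67209 : sm gc N7824 = N5408 := ded_32_1 (flp_h L46646) (flp_c L46588) L67206
theorem L67211 : sm gf N7824 = N7824 := ded_47_1 (flp_h L67206) L46591 L67206
theorem L67212 : sm gg N7824 = N5402 := ded_50_1 (flp_h L46592) L46585 L67206
theorem L67214 : sm gd N5402 = N7825 := rfl
theorem L67216 : sm gb N7825 = N7825 := ded_20_1 (flp_d L67214) L46594 L67214
theorem L67217 : sm gf N7825 = N5403 := ded_35_2 (flp_d L46601) (flp_f L46597) L67214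
theorem L67219 : sm gj N7825 = N5434 := ded_37_2 (flp_d L46887) (flp_j L46599) L67214
theorem L67221 : sm gi N5402 = N7826 := rfl
theorem L67224 : sm gc N7826 = N5409 := ded_33_1 (flp_i L46653) (flp_c L46595) L67221
theorem L67231 : sm ge N5403 = N7827 := rfl
theorem L67233 : sm gb N7827 = N7827 := ded_21_1 (flp_e L67231) L46603 L67231
theorem L67234 : sm gg N7827 = N7827 := ded_41_2 (flp_e L67231) L46604 L67231
theorem L67235 : sm gj N7827 = N5436 := ded_42_2 (flp_e L46900) (flp_j L46605) L67231
theorem L67237 : sm gd N7827 = N5488 := ded_34_1 (flp_e L47358) (flp_d L32924) (flp_e L32361) L46601 L67231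
theorem L67239 : sm gi N5403 = N7828 := rfl
theorem L67247 : sm gf N5405 = N7829 := rfl
theorem L67249 : sm gb N7829 = N5410 := ded_22_1 (flp_f L46662) (flp_b L46620) L67247
theorem L67254 : sm gg N7829 = N5490 := ded_45_2 (flp_f L47375) (flp_g L32941) (flp_f L32374) L46618 L67247
theorem L67256 : sm gj N5405 = N7830 := rfl
theorem L67261 : sm ge N7830 = N5407 := ded_42_1 (flp_j L46636) (flp_e L46623) L67256
theorem L67264 : sm gg N7830 = N5438 := ded_49_1 (flp_j L46914) (flp_g L32575) (flp_j L32370) L46618 L67256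
theorem L67266 : sm gh N5405 = N7831 := rfl
theorem L67268 : sm gb N7831 = N5412 := ded_25_1 (flp_h L46683) (flp_b L46620) L67266
theorem L67270 : sm ge N7831 = N5408 := ded_43_1 (flp_h L46646) (flp_e L46623) L67266
theorem L67272 : sm gg N7831 = N5406 := ded_50_1 (flp_h L46626) L46618 L67266
theorem L67274 : sm gd N5406 = N7832 := rfl
theorem L67276 : sm gb N7832 = N5413 := ded_20_1 (flp_d L46692) (flp_b L46628) L67274
theorem L67278 : sm gf N7832 = N5492 := ded_35_2 (flp_d L47392) (flp_f L46632) L67274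
theorem L67280 : sm gj N7832 = N5440 := ded_37_2 (flp_d L46932) (flp_j L46634) L67274
theorem L67283 : sm gi N5406 = N7833 := rfl
theorem L67287 : sm ge N7833 = N5409 := ded_44_1 (flp_i L46653) (flp_e L46630) L67283
theorem L67294 : sm gh N5407 = N7834 := rfl
theorem L67299 : sm gg N7834 = N5442 := ded_50_1 (flp_h L46948) (flp_g L46644) L67294
theorem L67301 : sm gj N7834 = N5408 := ded_52_1 (flp_h L46646) L46636 L67294
theorem L67303 : sm gi N5408 = N7835 := rfl
theorem L67308 : sm gg N7835 = N5409 := ded_51_1 (flp_i L46653) (flp_g L46651) L67303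
theorem L67311 : sm gj N5410 = N7836 := rfl
theorem L67313 : sm ga N7836 = N6129 := ded_16_1 (flp_j L52588) (flp_a L46664) L67311
theorem L67318 : sm gf N7836 = N5411 := ded_46_1 (flp_j L46672) L46662 L67311
theorem L67322 : sm gh N5410 = N7837 := rfl
theorem L67328 : sm gf N7837 = N5412 := ded_47_1 (flp_h L46683) L46662 L67322
theorem L67330 : sm gg N7837 = N5495 := ded_50_1 (flp_h L47419) (flp_g L46670) L67322
theorem L67332 : sm gh N5411 = N7838 := rfl
theorem L67341 : sm gj N7838 = N5412 := ded_52_1 (flp_h L46683) L46672 L67332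
theorem L67343 : sm gd N5412 = N7839 := rfl
theorem L67347 : sm gg N7839 = N5413 := ded_36_2 (flp_d L46692) (flp_g L46690) L67343
theorem L67350 : sm gi N5412 = N7840 := rfl
theorem L67355 : sm ge N7840 = N5416 := ded_44_1 (flp_i L46723) (flp_e L46688) L67350
theorem L67357 : sm gg N7840 = N5414 := ded_51_1 (flp_i L46701) (flp_g L46690) L67350
theorem L67360 : sm gc N5413 = N7841 := rfl
theorem L67364 : sm gf N7841 = N5498 := ded_29_2 (flp_c L47448) (flp_f L46696) L67360
theorem L67366 : sm gj N7841 = N5447 := ded_31_2 (flp_c L46994) (flp_j L46698) L67360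
theorem L67370 : sm gi N5413 = N7842 := rfl
theorem L67374 : sm gd N7842 = N5414 := ded_39_1 (flp_i L46701) L46692 L67370
theorem L67376 : sm gf N7842 = N5499 := ded_48_1 (flp_i L47457) (flp_f L46696) L67370
theorem L67378 : sm gj N7842 = N5448 := ded_53_1 (flp_i L47002) (flp_j L46698) L67370
theorem L67380 : sm gi N5415 = N7843 := rfl
theorem L67382 : sm ga N7843 = N6136 := ded_18_1 (flp_i L52643) (flp_a L46715) L67380
theorem L67386 : sm gg N7843 = N5449 := ded_51_1 (flp_i L47010) (flp_g L46719) L67380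
theorem L67388 : sm gj N7843 = N5416 := ded_53_1 (flp_i L46723) (flp_j L46721) L67380
theorem L67391 : sm ge N5417 = N7844 := rfl
theorem L67394 : sm gb N7844 = N5419 := ded_21_1 (flp_e L46751) (flp_b L46735) L67391
theorem L67396 : sm gc N7844 = N6137 := ded_28_1 (flp_e L52652) (flp_c L46737) L67391
theorem L67399 : sm gf N7844 = N5500 := ded_40_2 (flp_e L47466) (flp_f L33025) (flp_e L32462) L46732 L67391
theorem L67401 : sm gg N5417 = N7845 := rfl
theorem L67404 : sm gb N7845 = N5420 := ded_23_1 (flp_g L46760) (flp_b L46735) L67401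
theorem L67409 : sm gf N7845 = N5450 := ded_45_1 (flp_g L47020) (flp_f L32672) (flp_g L32464) L46732 L67401
theorem L67411 : sm gh N5417 = N7846 := rfl
theorem L67420 : sm gd N5418 = N7847 := rfl
theorem L67425 : sm gg N7847 = N5452 := ded_36_2 (flp_d L47040) (flp_g L46749) L67420
theorem L67439 : sm gd N5419 = N7849 := rfl
theorem L67441 : sm ga N7849 = N5429 := ded_12_1 (flp_d L46845) (flp_a L46753) L67439
theorem L67443 : sm gf N7849 = N5504 := ded_35_2 (flp_d L47503) (flp_f L46758) L67439
theorem L67445 : sm gi N7849 = N7849 := ded_39_2 (flp_d L67439) L46757 L67439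
theorem L67446 : sm gc N7849 = N7849 := ded_27_1 (flp_d L67439) L46755 L32494 (flp_c L46755) L67439
theorem L67447 : sm gg N5419 = N7850 := rfl
theorem L67449 : sm ga N7850 = N5430 := ded_15_1 (flp_g L46852) (flp_a L46753) L67447
theorem L67451 : sm gc N7850 = N5424 := ded_30_1 (flp_g L46794) (flp_c L46755) L67447
theorem L67453 : sm ge N7850 = N5420 := ded_41_1 (flp_g L46760) L46751 L67447
theorem L67455 : sm gi N7850 = N7850 := ded_51_2 (flp_g L67447) L46757 L67447
theorem L67456 : sm gf N7850 = N7850 := ded_45_1 (flp_g L67447) L46758 L33050 (flp_f L46758) L67447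
theorem L67457 : sm gh N5419 = N7851 := rfl
theorem L67459 : sm ga N7851 = N5431 := ded_17_1 (flp_h L46861) (flp_a L46753) L67457
theorem L67465 : sm gf N7851 = N5505 := ded_47_1 (flp_h L47511) (flp_f L46758) L67457
theorem L67467 : sm gj N5420 = N7852 := rfl
theorem L67469 : sm ga N7852 = N5432 := ded_16_1 (flp_j L46870) (flp_a L46762) L67467
theorem L67471 : sm gc N7852 = N5426 := ded_31_1 (flp_j L46815) (flp_c L46764) L67467
theorem L67473 : sm gf N7852 = N5454 := ded_46_1 (flp_j L47057) (flp_f L46767) L67467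
theorem L67475 : sm gi N7852 = N7852 := ded_53_2 (flp_j L67467) L46766 L67467
theorem L67476 : sm gh N5420 = N7853 := rfl
theorem L67478 : sm ga N7853 = N5433 := ded_17_1 (flp_h L46878) (flp_a L46762) L67476
theorem L67480 : sm gc N7853 = N5427 := ded_32_1 (flp_h L46826) (flp_c L46764) L67476
theorem L67484 : sm gg N7853 = N5421 := ded_50_1 (flp_h L46769) L46760 L67476
theorem L67486 : sm gd N5421 = N7854 := rfl
theorem L67488 : sm ga N7854 = N5434 := ded_12_1 (flp_d L46887) (flp_a L46771) L67486
theorem L67490 : sm gf N7854 = N5422 := ded_35_2 (flp_d L46777) (flp_f L46775) L67486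
theorem L67501 : sm ge N5422 = N7856 := rfl
theorem L67503 : sm ga N7856 = N5436 := ded_13_1 (flp_e L46900) (flp_a L46779) L67501
theorem L67505 : sm gg N7856 = N5458 := ded_41_2 (flp_e L47093) (flp_g L46781) L67501
theorem L67507 : sm gd N7856 = N5508 := ded_34_1 (flp_e L47539) (flp_d L33061) (flp_e L32483) L46777 L67501
theorem L67509 : sm gi N5422 = N7857 := rfl
theorem L67517 : sm gj N5424 = N7858 := rfl
theorem L67519 : sm ga N7858 = N5438 := ded_16_1 (flp_j L46914) (flp_a L46796) L67517
theorem L67521 : sm gb N7858 = N6151 := ded_24_1 (flp_j L52776) (flp_b L46798) L67517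
theorem L67523 : sm gd N7858 = N7858 := ded_37_1 (flp_j L67517) L46800 L67517
theorem L67524 : sm ge N7858 = N5426 := ded_42_1 (flp_j L46815) (flp_e L46801) L67517
theorem L67526 : sm gf N7858 = N7858 := ded_46_1 (flp_j L67517) L46804 L67517
theorem L67527 : sm gi N7858 = N7858 := ded_53_2 (flp_j L67517) L46803 L67517
theorem L67528 : sm gh N5424 = N7859 := rfl
theorem L67530 : sm ga N7859 = N5439 := ded_17_1 (flp_h L46923) (flp_a L46796) L67528
theorem L67534 : sm ge N7859 = N5427 := ded_43_1 (flp_h L46826) (flp_e L46801) L67528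
theorem L67537 : sm gg N7859 = N5425 := ded_50_1 (flp_h L46805) L46794 L67528
theorem L67539 : sm gd N5425 = N7860 := rfl
theorem L67541 : sm ga N7860 = N5440 := ded_12_1 (flp_d L46932) (flp_a L46807) L67539
theorem L67545 : sm gf N7860 = N5510 := ded_35_2 (flp_d L47556) (flp_f L46813) L67539
theorem L67559 : sm gh N5426 = N7862 := rfl
theorem L67565 : sm gf N7862 = N5460 := ded_47_1 (flp_h L47107) (flp_f L46823) L67559
theorem L67580 : sm gg N5429 = N7864 := rfl
theorem L67582 : sm gb N7864 = N7864 := ded_23_1 (flp_g L67580) L46847 L67580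
theorem L67583 : sm gc N7864 = N7864 := ded_30_1 (flp_g L67580) L46851 L67580
theorem L67584 : sm gd N7864 = N5430 := ded_36_1 (flp_g L46852) L46845 L67580
theorem L67586 : sm gi N7864 = N7864 := ded_51_2 (flp_g L67580) L46850 L67580
theorem L67587 : sm gf N7864 = N7864 := ded_45_1 (flp_g L67580) L46848 L33101 (flp_f L46848) L67580
theorem L67588 : sm gh N5429 = N7865 := rfl
theorem L67590 : sm gb N7865 = N7865 := ded_25_1 (flp_h L67588) L46847 L67588
theorem L67591 : sm gc N7865 = N7865 := ded_32_1 (flp_h L67588) L46851 L67588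
theorem L67592 : sm gf N7865 = N5512 := ded_47_1 (flp_h L47575) (flp_f L46848) L67588
theorem L67594 : sm gj N5430 = N7866 := rfl
theorem L67596 : sm gb N7866 = N7866 := ded_24_1 (flp_j L67594) L46854 L67594
theorem L67597 : sm gc N7866 = N5438 := ded_31_1 (flp_j L46914) (flp_c L46855) L67594
theorem L67599 : sm ge N7866 = N5432 := ded_42_1 (flp_j L46870) (flp_e L46857) L67594
theorem L67601 : sm gf N7866 = N7866 := ded_46_1 (flp_j L67594) L46860 L67594
theorem L67602 : sm gi N7866 = N7866 := ded_53_2 (flp_j L67594) L46859 L67594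
theorem L67603 : sm gh N5430 = N7867 := rfl
theorem L67605 : sm gb N7867 = N7867 := ded_25_1 (flp_h L67603) L46854 L67603
theorem L67606 : sm gc N7867 = N5439 := ded_32_1 (flp_h L46923) (flp_c L46855) L67603
theorem L67608 : sm ge N7867 = N5433 := ded_43_1 (flp_h L46878) (flp_e L46857) L67603
theorem L67610 : sm gf N7867 = N7867 := ded_47_1 (flp_h L67603) L46860 L67603
theorem L67611 : sm gg N7867 = N5431 := ded_50_1 (flp_h L46861) L46852 L67603
theorem L67613 : sm gd N5431 = N7868 := rfl
theorem L67615 : sm gb N7868 = N7868 := ded_20_1 (flp_d L67613) L46863 L67613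
theorem L67616 : sm gf N7868 = N5513 := ded_35_2 (flp_d L47581) (flp_f L46868) L67613
theorem L67618 : sm gi N5431 = N7869 := rfl
theorem L67621 : sm gc N7869 = N5441 := ded_33_1 (flp_i L46939) (flp_c L46864) L67618
theorem L67628 : sm gh N5432 = N7870 := rfl
theorem L67630 : sm gb N7870 = N7870 := ded_25_1 (flp_h L67628) L46872 L67628
theorem L67631 : sm gc N7870 = N5442 := ded_32_1 (flp_h L46948) (flp_c L46873) L67628
theorem L67633 : sm gf N7870 = N5462 := ded_47_1 (flp_h L47127) (flp_f L46875) L67628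
theorem L67635 : sm gj N7870 = N5433 := ded_52_1 (flp_h L46878) L46870 L67628
theorem L67637 : sm gd N5433 = N7871 := rfl
theorem L67639 : sm gb N7871 = N7871 := ded_20_1 (flp_d L67637) L46880 L67637
theorem L67640 : sm gf N7871 = N5463 := ded_35_2 (flp_d L47136) (flp_f L46883) L67637
theorem L67642 : sm gg N7871 = N5434 := ded_36_2 (flp_d L46887) (flp_g L46885) L67637
theorem L67644 : sm gi N5433 = N7872 := rfl
theorem L67649 : sm gf N7872 = N5464 := ded_48_1 (flp_i L47141) (flp_f L46883) L67644
theorem L67651 : sm gg N7872 = N5435 := ded_51_1 (flp_i L46892) (flp_g L46885) L67644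
theorem L67654 : sm ge N5434 = N7873 := rfl
theorem L67656 : sm gb N7873 = N7873 := ded_21_1 (flp_e L67654) L46889 L67654
theorem L67657 : sm gi N5434 = N7874 := rfl
theorem L67664 : sm gf N5436 = N7875 := rfl
theorem L67666 : sm gb N7875 = N7875 := ded_22_1 (flp_f L67664) L46902 L67664
theorem L67667 : sm gd N7875 = N5517 := ded_35_1 (flp_f L47609) (flp_d L46905) L67664
theorem L67669 : sm gi N5436 = N7876 := rfl
theorem L67672 : sm gd N7876 = N5518 := ded_39_1 (flp_i L47614) (flp_d L46905) L67669
theorem L67676 : sm gg N7876 = N5468 := ded_51_1 (flp_i L47169) (flp_g L46903) L67669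
theorem L67684 : sm gh N5438 = N7878 := rfl
theorem L67688 : sm ge N7878 = N5442 := ded_43_1 (flp_h L46948) (flp_e L46919) L67684
theorem L67691 : sm gj N7878 = N5439 := ded_52_1 (flp_h L46923) L46914 L67684
theorem L67693 : sm gd N5439 = N7879 := rfl
theorem L67695 : sm gb N7879 = N5445 := ded_20_1 (flp_d L46975) (flp_b L46925) L67693
theorem L67698 : sm gg N7879 = N5440 := ded_36_2 (flp_d L46932) (flp_g L46930) L67693
theorem L67701 : sm gi N5439 = N7880 := rfl
theorem L67708 : sm gg N7880 = N5441 := ded_51_1 (flp_i L46939) (flp_g L46930) L67701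
theorem L67711 : sm gc N5440 = N7881 := rfl
theorem L67713 : sm gf N7881 = N5520 := ded_29_2 (flp_c L47630) (flp_f L46936) L67711
theorem L67715 : sm gh N7881 = N7881 := ded_32_2 (flp_c L67711) L46938 L67711
theorem L67716 : sm gi N5440 = N7882 := rfl
theorem L67720 : sm gd N7882 = N5441 := ded_39_1 (flp_i L46939) L46932 L67716
theorem L67724 : sm gi N5442 = N7883 := rfl
theorem L67726 : sm gb N7883 = N5449 := ded_26_1 (flp_i L47010) (flp_b L46950) L67724
theorem L67733 : sm gd N5444 = N7884 := rfl
theorem L67735 : sm ga N7884 = N6177 := ded_12_1 (flp_d L52986) (flp_a L46967) L67733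
theorem L67738 : sm gj N7884 = N5445 := ded_37_2 (flp_d L46975) (flp_j L46973) L67733
theorem L67741 : sm gi N5444 = N7885 := rfl
theorem L67746 : sm ge N7885 = N5449 := ded_44_1 (flp_i L47010) (flp_e L46970) L67741
theorem L67749 : sm gj N7885 = N5446 := ded_53_1 (flp_i L46983) (flp_j L46973) L67741
theorem L67752 : sm gc N5445 = N7886 := rfl
theorem L67757 : sm gg N7886 = N5447 := ded_30_2 (flp_c L46994) (flp_g L46980) L67752
theorem L67761 : sm gi N5445 = N7887 := rfl
theorem L67765 : sm gd N7887 = N5446 := ded_39_1 (flp_i L46983) L46975 L67761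
theorem L67768 : sm gg N7887 = N5448 := ded_51_1 (flp_i L47002) (flp_g L46980) L67761
theorem L67770 : sm gb N5447 = N7888 := rfl
theorem L67773 : sm gf N7888 = N5522 := ded_22_2 (flp_b L47643) (flp_f L46998) L67770
theorem L67776 : sm gi N5447 = N7889 := rfl
theorem L67778 : sm ga N7889 = N6182 := ded_18_1 (flp_i L53021) (flp_a L46996) L67776
theorem L67780 : sm gc N7889 = N5448 := ded_33_1 (flp_i L47002) L46994 L67776
theorem L67783 : sm gf N7889 = N5523 := ded_48_1 (flp_i L47649) (flp_f L46998) L67776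
theorem L67785 : sm gh N5448 = N7890 := rfl
theorem L67787 : sm ga N7890 = N6183 := ded_17_1 (flp_h L53028) (flp_a L47004) L67785
theorem L67789 : sm gf N7890 = N5524 := ded_47_1 (flp_h L47658) (flp_f L47008) L67785
theorem L67791 : sm gd N7890 = N7890 := ded_38_1 (flp_h L67785) L47006 L32652 (flp_d L47006) L67785
theorem L67792 : sm gi N7890 = N7890 := ded_54_2 (flp_h L67785) (flp_i L47002) L32642 L47002 L67785
theorem L67793 : sm gj N5450 = N7891 := rfl
theorem L67803 : sm gh N5450 = N7892 := rfl
theorem L67808 : sm gc N7892 = N6185 := ded_32_1 (flp_h L53043) (flp_c L47025) L67803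
theorem L67811 : sm gg N7892 = N5451 := ded_50_1 (flp_h L47029) L47020 L67803
theorem L67813 : sm gd N5451 = N7893 := rfl
theorem L67816 : sm gb N7893 = N5456 := ded_20_1 (flp_d L47075) (flp_b L47032) L67813
theorem L67818 : sm gf N7893 = N5452 := ded_35_2 (flp_d L47040) (flp_f L47037) L67813
theorem L67833 : sm gc N5452 = N7895 := rfl
theorem L67839 : sm ge N5452 = N7896 := rfl
theorem L67855 : sm gh N5454 = N7898 := rfl
theorem L67857 : sm ga N7898 = N5462 := ded_17_1 (flp_h L47127) (flp_a L47059) L67855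
theorem L67859 : sm gc N7898 = N5460 := ded_32_1 (flp_h L47107) (flp_c L47061) L67855
theorem L67863 : sm gj N7898 = N5455 := ded_52_1 (flp_h L47066) L47057 L67855
theorem L67865 : sm gd N5455 = N7899 := rfl
theorem L67867 : sm ga N7899 = N5463 := ded_12_1 (flp_d L47136) (flp_a L47068) L67865
theorem L67881 : sm ge N5456 = N7901 := rfl
theorem L67883 : sm ga N7901 = N5465 := ded_13_1 (flp_e L47150) (flp_a L47077) L67881
theorem L67887 : sm gi N5456 = N7902 := rfl
theorem L67893 : sm gf N7902 = N5459 := ded_48_1 (flp_i L47100) (flp_f L47079) L67887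
theorem L67896 : sm gf N5458 = N7903 := rfl
theorem L67898 : sm ga N7903 = N5467 := ded_14_1 (flp_f L47163) (flp_a L47095) L67896
theorem L67900 : sm gd N7903 = N5528 := ded_35_1 (flp_f L47691) (flp_d L47098) L67896
theorem L67918 : sm gi N5460 = N7906 := rfl
theorem L67929 : sm gd N5462 = N7907 := rfl
theorem L67931 : sm gb N7907 = N7907 := ded_20_1 (flp_d L67929) L47129 L67929
theorem L67932 : sm gg N7907 = N7907 := ded_36_2 (flp_d L67929) L47133 L67929
theorem L67933 : sm gj N7907 = N5463 := ded_37_2 (flp_d L47136) (flp_j L47134) L67929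
theorem L67935 : sm gi N5462 = N7908 := rfl
theorem L67938 : sm gc N7908 = N5470 := ded_33_1 (flp_i L47182) (flp_c L47130) L67935
theorem L67945 : sm ge N5463 = N7909 := rfl
theorem L67947 : sm gb N7909 = N7909 := ded_21_1 (flp_e L67945) L47138 L67945
theorem L67948 : sm gg N7909 = N5465 := ded_41_2 (flp_e L47150) (flp_g L47139) L67945
theorem L67950 : sm gd N7909 = N7909 := ded_34_1 (flp_e L67945) (flp_d L47136) L32769 L47136 L67945
theorem L67951 : sm gi N5463 = N7910 := rfl
theorem L67958 : sm gf N5465 = N7911 := rfl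
theorem L67960 : sm gb N7911 = N7911 := ded_22_1 (flp_f L67958) L47152 L67958
theorem L67961 : sm gd N7911 = N7911 := ded_35_1 (flp_f L67958) L47154 L67958
theorem L67962 : sm gj N7911 = N7911 := ded_46_2 (flp_f L67958) L47153 L67958
theorem L67963 : sm ge N7911 = N5467 := ded_40_1 (flp_f L47163) (flp_e L32788) (flp_f L32775) L47150 L67958
theorem L67965 : sm gi N5465 = N7912 := rfl
theorem L67979 : sm gg N5467 = N7914 := rfl
theorem L67981 : sm gb N7914 = N7914 := ded_23_1 (flp_g L67979) L47165 L67979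
theorem L67982 : sm gd N7914 = N5531 := ded_36_1 (flp_g L47716) (flp_d L47166) L67979
theorem L67984 : sm gi N5467 = N7915 := rfl
theorem L67987 : sm gd N7915 = N5532 := ded_39_1 (flp_i L47722) (flp_d L47166) L67984
theorem L67992 : sm gh N5468 = N7916 := rfl
theorem L67998 : sm ge N5471 = N7917 := rfl
theorem L68001 : sm gb N7917 = N5473 := ded_21_1 (flp_e L47212) (flp_b L47194) L67998
theorem L68003 : sm gc N7917 = N6210 := ded_28_1 (flp_e L53243) (flp_c L47196) L67998
theorem L68005 : sm gj N7917 = N5500 := ded_42_2 (flp_e L47466) (flp_j L47199) L67998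
theorem L68008 : sm gg N5471 = N7918 := rfl
theorem L68011 : sm gb N7918 = N5474 := ded_23_1 (flp_g L47221) (flp_b L47194) L68008
theorem L68019 : sm gh N5471 = N7919 := rfl
theorem L68022 : sm gb N7919 = N5475 := ded_25_1 (flp_h L47231) (flp_b L47194) L68019
theorem L68024 : sm gc N7919 = N6212 := ded_32_1 (flp_h L53261) (flp_c L47196) L68019
theorem L68026 : sm gf N7919 = N5472 := ded_47_1 (flp_h L47202) L47191 L68019
theorem L68028 : sm gj N7919 = N5501 := ded_52_1 (flp_h L47475) (flp_j L47199) L68019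
theorem L68030 : sm gd N5472 = N7920 := rfl
theorem L68036 : sm gj N7920 = N5502 := ded_37_2 (flp_d L47485) (flp_j L47210) L68030
theorem L68050 : sm gd N5473 = N7922 := rfl
theorem L68052 : sm ga N7922 = N5482 := ded_12_1 (flp_d L47304) (flp_a L47214) L68050
theorem L68054 : sm gj N7922 = N5504 := ded_37_2 (flp_d L47503) (flp_j L47218) L68050
theorem L68056 : sm gi N7922 = N7922 := ded_39_2 (flp_d L68050) L47220 L68050
theorem L68057 : sm gc N7922 = N7922 := ded_27_1 (flp_d L68050) L47216 L32864 (flp_c L47216) L68050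
theorem L68058 : sm ge N7922 = N7922 := ded_34_2 (flp_d L68050) (flp_e L47212) L32842 L47212 L68050
theorem L68059 : sm gg N5473 = N7923 := rfl
theorem L68061 : sm ga N7923 = N5483 := ded_15_1 (flp_g L47312) (flp_a L47214) L68059
theorem L68063 : sm gc N7923 = N5478 := ded_30_1 (flp_g L47260) (flp_c L47216) L68059
theorem L68065 : sm ge N7923 = N5474 := ded_41_1 (flp_g L47221) L47212 L68059
theorem L68067 : sm gi N7923 = N7923 := ded_51_2 (flp_g L68059) L47220 L68059
theorem L68068 : sm gj N7923 = N7923 := ded_49_2 (flp_g L68059) L47218 L33050 (flp_j L47218) L68059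
theorem L68069 : sm gh N5473 = N7924 := rfl
theorem L68071 : sm ga N7924 = N5484 := ded_17_1 (flp_h L47321) (flp_a L47214) L68069
theorem L68073 : sm gc N7924 = N5479 := ded_32_1 (flp_h L47271) (flp_c L47216) L68069
theorem L68075 : sm ge N7924 = N5475 := ded_43_1 (flp_h L47231) L47212 L68069
theorem L68077 : sm gj N7924 = N5505 := ded_52_1 (flp_h L47511) (flp_j L47218) L68069
theorem L68079 : sm gh N5474 = N7925 := rfl
theorem L68081 : sm ga N7925 = N5485 := ded_17_1 (flp_h L47330) (flp_a L47223) L68079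
theorem L68086 : sm gg N7925 = N5475 := ded_50_1 (flp_h L47231) L47221 L68079
theorem L68089 : sm gd N5475 = N7926 := rfl
theorem L68091 : sm ga N7926 = N5486 := ded_12_1 (flp_d L47339) (flp_a L47233) L68089
theorem L68093 : sm gf N7926 = N5476 := ded_35_2 (flp_d L47241) (flp_f L47237) L68089
theorem L68095 : sm gj N7926 = N5506 := ded_37_2 (flp_d L47520) (flp_j L47239) L68089
theorem L68099 : sm gi N5475 = N7927 := rfl
theorem L68105 : sm gf N7927 = N5477 := ded_48_1 (flp_i L47250) (flp_f L47237) L68099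
theorem L68110 : sm ge N5476 = N7928 := rfl
theorem L68112 : sm ga N7928 = N5488 := ded_13_1 (flp_e L47358) (flp_a L47243) L68110
theorem L68116 : sm gj N7928 = N5508 := ded_42_2 (flp_e L47539) (flp_j L47246) L68110
theorem L68119 : sm gi N5476 = N7929 := rfl
theorem L68127 : sm gj N7929 = N5509 := ded_53_1 (flp_i L47547) (flp_j L47246) L68119
theorem L68129 : sm gf N5478 = N7930 := rfl
theorem L68131 : sm ga N7930 = N5490 := ded_14_1 (flp_f L47375) (flp_a L47262) L68129
theorem L68133 : sm gb N7930 = N6223 := ded_22_1 (flp_f L53371) (flp_b L47264) L68129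
theorem L68135 : sm gd N7930 = N7930 := ded_35_1 (flp_f L68129) L47266 L68129
theorem L68136 : sm gj N7930 = N7930 := ded_46_2 (flp_f L68129) L47270 L68129
theorem L68137 : sm gi N7930 = N7930 := ded_48_2 (flp_f L68129) L47269 L68129
theorem L68138 : sm ge N7930 = N7930 := ded_40_1 (flp_f L68129) L47267 L32874 (flp_e L47267) L68129
theorem L68139 : sm gh N5478 = N7931 := rfl
theorem L68150 : sm gd N5479 = N7932 := rfl
theorem L68152 : sm ga N7932 = N5492 := ded_12_1 (flp_d L47392) (flp_a L47273) L68150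
theorem L68154 : sm gb N7932 = N6225 := ded_20_1 (flp_d L53388) (flp_b L47275) L68150
theorem L68160 : sm gi N5479 = N7933 := rfl
theorem L68168 : sm gj N7933 = N5511 := ded_53_1 (flp_i L47565) (flp_j L47279) L68160
theorem L68183 : sm gg N5482 = N7935 := rfl
theorem L68185 : sm gb N7935 = N7935 := ded_23_1 (flp_g L68183) L47306 L68183
theorem L68186 : sm gc N7935 = N7935 := ded_30_1 (flp_g L68183) L47310 L68183
theorem L68187 : sm gd N7935 = N5483 := ded_36_1 (flp_g L47312) L47304 L68183
theorem L68189 : sm ge N7935 = N7935 := ded_41_1 (flp_g L68183) L47311 L68183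
theorem L68190 : sm gi N7935 = N7935 := ded_51_2 (flp_g L68183) L47309 L68183
theorem L68191 : sm gj N7935 = N7935 := ded_49_2 (flp_g L68183) L47307 L33101 (flp_j L47307) L68183
theorem L68192 : sm gh N5482 = N7936 := rfl
theorem L68194 : sm gb N7936 = N7936 := ded_25_1 (flp_h L68192) L47306 L68192
theorem L68195 : sm gc N7936 = N7936 := ded_32_1 (flp_h L68192) L47310 L68192
theorem L68196 : sm ge N7936 = N7936 := ded_43_1 (flp_h L68192) L47311 L68192
theorem L68197 : sm gj N7936 = N5512 := ded_52_1 (flp_h L47575) (flp_j L47307) L68192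
theorem L68199 : sm gf N5483 = N7937 := rfl
theorem L68201 : sm gb N7937 = N7937 := ded_22_1 (flp_f L68199) L47314 L68199
theorem L68202 : sm gc N7937 = N5490 := ded_29_1 (flp_f L47375) (flp_c L47315) L68199
theorem L68204 : sm gj N7937 = N7937 := ded_46_2 (flp_f L68199) L47320 L68199
theorem L68205 : sm gi N7937 = N7937 := ded_48_2 (flp_f L68199) L47319 L68199
theorem L68206 : sm ge N7937 = N7937 := ded_40_1 (flp_f L68199) L47317 L32913 (flp_e L47317) L68199
theorem L68207 : sm gh N5483 = N7938 := rfl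
theorem L68209 : sm gb N7938 = N7938 := ded_25_1 (flp_h L68207) L47314 L68207
theorem L68210 : sm gc N7938 = N5491 := ded_32_1 (flp_h L47383) (flp_c L47315) L68207
theorem L68212 : sm ge N7938 = N5485 := ded_43_1 (flp_h L47330) (flp_e L47317) L68207
theorem L68214 : sm gg N7938 = N5484 := ded_50_1 (flp_h L47321) L47312 L68207
theorem L68216 : sm gj N7938 = N7938 := ded_52_1 (flp_h L68207) L47320 L68207
theorem L68217 : sm gd N5484 = N7939 := rfl
theorem L68219 : sm gb N7939 = N7939 := ded_20_1 (flp_d L68217) L47323 L68217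
theorem L68220 : sm gj N7939 = N5513 := ded_37_2 (flp_d L47581) (flp_j L47328) L68217
theorem L68222 : sm gi N5484 = N7940 := rfl
theorem L68229 : sm gj N7940 = N5514 := ded_53_1 (flp_i L47585) (flp_j L47328) L68222
theorem L68232 : sm gd N5485 = N7941 := rfl
theorem L68234 : sm gb N7941 = N7941 := ded_20_1 (flp_d L68232) L47332 L68232
theorem L68235 : sm gf N7941 = N7941 := ded_35_2 (flp_d L68232) L47335 L68232
theorem L68236 : sm gg N7941 = N5486 := ded_36_2 (flp_d L47339) (flp_g L47336) L68232
theorem L68238 : sm gj N7941 = N7941 := ded_37_2 (flp_d L68232) L47338 L68232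
theorem L68239 : sm gc N7941 = N7941 := ded_27_1 (flp_d L68232) L47333 L32966 (flp_c L47333) L68232
theorem L68240 : sm gh N7941 = N7941 := ded_38_2 (flp_d L68232) (flp_h L47330) L32911 L47330 L68232
theorem L68241 : sm gi N5485 = N7942 := rfl
theorem L68244 : sm gc N7942 = N5494 := ded_33_1 (flp_i L47409) (flp_c L47333) L68241
theorem L68251 : sm ge N5486 = N7943 := rfl
theorem L68253 : sm gb N7943 = N7943 := ded_21_1 (flp_e L68251) L47341 L68251
theorem L68254 : sm gc N7943 = N7943 := ded_28_1 (flp_e L68251) L47346 L68251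
theorem L68255 : sm gj N7943 = N5515 := ded_42_2 (flp_e L47594) (flp_j L47344) L68251
theorem L68257 : sm gh N7943 = N7943 := ded_43_2 (flp_e L68251) L47347 L68251
theorem L68258 : sm gi N5486 = N7944 := rfl
theorem L68266 : sm gj N7944 = N5516 := ded_53_1 (flp_i L47600) (flp_j L47344) L68258
theorem L68268 : sm gf N5488 = N7945 := rfl
theorem L68270 : sm gb N7945 = N7945 := ded_22_1 (flp_f L68268) L47360 L68268
theorem L68271 : sm gc N7945 = N7945 := ded_29_1 (flp_f L68268) L47361 L68268
theorem L68272 : sm gj N7945 = N5517 := ded_46_2 (flp_f L47609) (flp_j L47363) L68268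
theorem L68274 : sm gh N7945 = N7945 := ded_47_2 (flp_f L68268) L47365 L68268
theorem L68275 : sm gi N5488 = N7946 := rfl
theorem L68279 : sm ge N7946 = N5489 := ded_44_1 (flp_i L47366) L47358 L68275
theorem L68293 : sm gh N5490 = N7948 := rfl
theorem L68295 : sm gb N7948 = N5495 := ded_25_1 (flp_h L47419) (flp_b L47377) L68293
theorem L68298 : sm gf N7948 = N5491 := ded_47_1 (flp_h L47383) L47375 L68293
theorem L68301 : sm gd N5491 = N7949 := rfl
theorem L68303 : sm gb N7949 = N5496 := ded_20_1 (flp_d L47428) (flp_b L47385) L68301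
theorem L68305 : sm gg N7949 = N5492 := ded_36_2 (flp_d L47392) (flp_g L47389) L68301
theorem L68310 : sm gi N5491 = N7950 := rfl
theorem L68314 : sm ge N7950 = N5494 := ded_44_1 (flp_i L47409) (flp_e L47387) L68310
theorem L68320 : sm gc N5492 = N7951 := rfl
theorem L68322 : sm ge N7951 = N7951 := ded_28_2 (flp_c L68320) L47398 L68320
theorem L68323 : sm gj N7951 = N5520 := ded_31_2 (flp_c L47630) (flp_j L47396) L68320
theorem L68325 : sm gh N7951 = N7951 := ded_32_2 (flp_c L68320) L47399 L68320
theorem L68326 : sm gi N5492 = N7952 := rfl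
theorem L68335 : sm gd N5495 = N7953 := rfl
theorem L68337 : sm ga N7953 = N6246 := ded_12_1 (flp_d L53573) (flp_a L47421) L68335
theorem L68339 : sm gf N7953 = N5496 := ded_35_2 (flp_d L47428) (flp_f L47425) L68335
theorem L68343 : sm gi N5495 = N7954 := rfl
theorem L68345 : sm ga N7954 = N6247 := ded_18_1 (flp_i L53579) (flp_a L47421) L68343
theorem L68349 : sm gf N7954 = N5497 := ded_48_1 (flp_i L47437) (flp_f L47425) L68343
theorem L68353 : sm gc N5496 = N7955 := rfl
theorem L68358 : sm gg N7955 = N5498 := ded_30_2 (flp_c L47448) (flp_g L47432) L68353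
theorem L68363 : sm gi N5496 = N7956 := rfl
theorem L68370 : sm gg N7956 = N5499 := ded_51_1 (flp_i L47457) (flp_g L47432) L68363
theorem L68373 : sm gb N5498 = N7957 := rfl
theorem L68377 : sm gj N7957 = N5522 := ded_24_2 (flp_b L47643) (flp_j L47453) L68373
theorem L68380 : sm gi N5498 = N7958 := rfl
theorem L68382 : sm ga N7958 = N6251 := ded_18_1 (flp_i L53610) (flp_a L47450) L68380
theorem L68384 : sm gc N7958 = N5499 := ded_33_1 (flp_i L47457) L47448 L68380
theorem L68388 : sm gj N7958 = N5523 := ded_53_1 (flp_i L47649) (flp_j L47453) L68380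
theorem L68390 : sm gh N5499 = N7959 := rfl
theorem L68392 : sm ga N7959 = N6252 := ded_17_1 (flp_h L53618) (flp_a L47459) L68390
theorem L68394 : sm ge N7959 = N7959 := ded_43_1 (flp_h L68390) L47463 L68390
theorem L68395 : sm gj N7959 = N5524 := ded_52_1 (flp_h L47658) (flp_j L47464) L68390
theorem L68397 : sm gd N7959 = N7959 := ded_38_1 (flp_h L68390) L47461 L33013 (flp_d L47461) L68390
theorem L68398 : sm gi N7959 = N7959 := ded_54_2 (flp_h L68390) (flp_i L47457) L33003 L47457 L68390
theorem L68399 : sm gd N5500 = N7960 := rfl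
theorem L68402 : sm gb N7960 = N5504 := ded_20_1 (flp_d L47503) (flp_b L47469) L68399
theorem L68407 : sm gh N5500 = N7961 := rfl
theorem L68410 : sm gb N7961 = N5505 := ded_25_1 (flp_h L47511) (flp_b L47469) L68407
theorem L68412 : sm gc N7961 = N6254 := ded_32_1 (flp_h L53634) (flp_c L47471) L68407
theorem L68414 : sm ge N7961 = N5501 := ded_43_1 (flp_h L47475) L47466 L68407
theorem L68417 : sm gd N5501 = N7962 := rfl
theorem L68420 : sm gb N7962 = N5506 := ded_20_1 (flp_d L47520) (flp_b L47478) L68417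
theorem L68422 : sm gf N7962 = N5502 := ded_35_2 (flp_d L47485) (flp_f L47482) L68417
theorem L68437 : sm gc N5502 = N7964 := rfl
theorem L68440 : sm gg N7964 = N5525 := ded_30_2 (flp_c L47666) (flp_g L47490) L68437
theorem L68444 : sm gd N7964 = N6257 := ded_27_2 (flp_c L53661) (flp_d L37286) (flp_c L33040) L47485 L68437
theorem L68446 : sm ge N5502 = N7965 := rfl
theorem L68451 : sm gg N7965 = N5526 := ded_41_2 (flp_e L47675) (flp_g L47490) L68446
theorem L68463 : sm gh N5504 = N7967 := rfl
theorem L68465 : sm ga N7967 = N5512 := ded_17_1 (flp_h L47575) (flp_a L47505) L68463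
theorem L68467 : sm gc N7967 = N7967 := ded_32_1 (flp_h L68463) L47509 L68463
theorem L68468 : sm ge N7967 = N7967 := ded_43_1 (flp_h L68463) L47510 L68463
theorem L68469 : sm gg N7967 = N7967 := ded_50_1 (flp_h L68463) L47507 L68463
theorem L68470 : sm gd N5505 = N7968 := rfl
theorem L68472 : sm ga N7968 = N5513 := ded_12_1 (flp_d L47581) (flp_a L47513) L68470
theorem L68485 : sm ge N5506 = N7970 := rfl
theorem L68487 : sm ga N7970 = N5515 := ded_13_1 (flp_e L47594) (flp_a L47522) L68485
theorem L68502 : sm gf N5508 = N7972 := rfl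
theorem L68504 : sm ga N7972 = N5517 := ded_14_1 (flp_f L47609) (flp_a L47541) L68502
theorem L68508 : sm gi N5508 = N7973 := rfl
theorem L68513 : sm ge N7973 = N5509 := ded_44_1 (flp_i L47547) L47539 L68508
theorem L68517 : sm gh N5509 = N7974 := rfl
theorem L68526 : sm gc N5510 = N7975 := rfl
theorem L68528 : sm ga N7975 = N5520 := ded_11_1 (flp_c L47630) (flp_a L47558) L68526
theorem L68533 : sm gi N5510 = N7976 := rfl
theorem L68535 : sm ga N7976 = N5521 := ded_18_1 (flp_i L47635) (flp_a L47558) L68533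
theorem L68539 : sm gd N7976 = N5511 := ded_39_1 (flp_i L47565) L47556 L68533
theorem L68543 : sm gd N5512 = N7977 := rfl
theorem L68545 : sm gb N7977 = N7977 := ded_20_1 (flp_d L68543) L47577 L68543
theorem L68546 : sm gg N7977 = N7977 := ded_36_2 (flp_d L68543) L47580 L68543
theorem L68547 : sm gh N7977 = N5513 := ded_38_2 (flp_d L47581) (flp_h L33105) L33098 L47575 L68543
theorem L68549 : sm gi N5512 = N7978 := rfl
theorem L68551 : sm gb N7978 = N7978 := ded_26_1 (flp_i L68549) L47577 L68549
theorem L68552 : sm gc N7978 = N7978 := ded_33_1 (flp_i L68549) L47578 L68549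
theorem L68553 : sm ge N7978 = N7978 := ded_44_1 (flp_i L68549) L47579 L68549
theorem L68554 : sm gg N7978 = N7978 := ded_51_1 (flp_i L68549) L47580 L68549
theorem L68555 : sm gh N7978 = N7978 := ded_54_1 (flp_i L68549) (flp_h L47575) L33102 L47575 L68549
theorem L68556 : sm gc N5513 = N7979 := rfl
theorem L68558 : sm gg N7979 = N7979 := ded_30_2 (flp_c L68556) L47584 L68556
theorem L68559 : sm gd N7979 = N5520 := ded_27_2 (flp_c L47630) (flp_d L33145) (flp_c L33108) L47581 L68556
theorem L68561 : sm ge N5513 = N7980 := rfl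
theorem L68563 : sm gb N7980 = N7980 := ded_21_1 (flp_e L68561) L47583 L68561
theorem L68564 : sm gg N7980 = N7980 := ded_41_2 (flp_e L68561) L47584 L68561
theorem L68565 : sm gd N7980 = N5515 := ded_34_1 (flp_e L47594) (flp_d L33113) (flp_e L33110) L47581 L68561
theorem L68573 : sm gf N5515 = N7982 := rfl
theorem L68575 : sm gb N7982 = N7982 := ded_22_1 (flp_f L68573) L47596 L68573
theorem L68576 : sm gc N7982 = N7982 := ded_29_1 (flp_f L68573) L47597 L68573
theorem L68577 : sm gh N7982 = N7982 := ded_47_2 (flp_f L68573) L47599 L68573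
theorem L68578 : sm ge N7982 = N5517 := ded_40_1 (flp_f L47609) (flp_e L33130) (flp_f L33116) L47594 L68573
theorem L68580 : sm gi N5515 = N7983 := rfl
theorem L68596 : sm gg N5517 = N7985 := rfl
theorem L68598 : sm gb N7985 = N7985 := ded_23_1 (flp_g L68596) L47611 L68596
theorem L68599 : sm gc N7985 = N7985 := ded_30_1 (flp_g L68596) L47612 L68596
theorem L68600 : sm gh N7985 = N7985 := ded_50_2 (flp_g L68596) L47613 L68596
theorem L68601 : sm gf N7985 = N5531 := ded_45_1 (flp_g L47716) (flp_f L33210) (flp_g L33134) L47609 L68596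
theorem L68603 : sm gi N5517 = N7986 := rfl
theorem L68607 : sm gf N7986 = N5518 := ded_48_1 (flp_i L47614) L47609 L68603
theorem L68609 : sm gh N5518 = N7987 := rfl
theorem L68615 : sm gg N7987 = N5533 := ded_50_1 (flp_h L47730) (flp_g L47620) L68609
theorem L68618 : sm gb N5520 = N7988 := rfl
theorem L68620 : sm ge N7988 = N7988 := ded_21_2 (flp_b L68618) L47632 L68618
theorem L68621 : sm gg N7988 = N7988 := ded_23_2 (flp_b L68618) L47633 L68618
theorem L68622 : sm gh N7988 = N7988 := ded_25_2 (flp_b L68618) L47634 L68618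
theorem L68623 : sm gc N7988 = N5522 := ded_19_2 (flp_b L47643) (flp_c L33160) (flp_b L33147) L47630 L68618
theorem L68625 : sm gi N5520 = N7989 := rfl
theorem L68639 : sm ga N5522 = N7991 := rfl
theorem L68647 : sm gi N5522 = N7992 := rfl
theorem L68649 : sm gb N7992 = N5523 := ded_26_1 (flp_i L47649) L47643 L68647
theorem L68651 : sm gd N7992 = N7992 := ded_39_1 (flp_i L68647) L47645 L68647
theorem L68652 : sm ge N7992 = N7992 := ded_44_1 (flp_i L68647) L47646 L68647
theorem L68653 : sm gg N7992 = N7992 := ded_51_1 (flp_i L68647) L47647 L68647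
theorem L68654 : sm gh N5523 = N7993 := rfl
theorem L68656 : sm ga N7993 = N6286 := ded_17_1 (flp_h L53883) (flp_a L47651) L68654
theorem L68658 : sm gc N7993 = N5524 := ded_32_1 (flp_h L47658) (flp_c L47653) L68654
theorem L68660 : sm ge N7993 = N7993 := ded_43_1 (flp_h L68654) L47656 L68654
theorem L68661 : sm gg N7993 = N7993 := ded_50_1 (flp_h L68654) L47657 L68654
theorem L68662 : sm gi N7993 = N7993 := ded_54_2 (flp_h L68654) (flp_i L47649) L33166 L47649 L68654
theorem L68663 : sm ge N5525 = N7994 := rfl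
theorem L68681 : sm gf N5526 = N7996 := rfl
theorem L68684 : sm gb N7996 = N5528 := ded_22_1 (flp_f L47691) (flp_b L47678) L68681
theorem L68689 : sm gi N5526 = N7997 := rfl
theorem L68706 : sm gg N5528 = N7999 := rfl
theorem L68708 : sm ga N7999 = N5531 := ded_15_1 (flp_g L47716) (flp_a L47693) L68706
theorem L68713 : sm gi N5528 = N8000 := rfl
theorem L68731 : sm gj N5531 = N8002 := rfl
theorem L68733 : sm gb N8002 = N8002 := ded_24_1 (flp_j L68731) L47718 L68731
theorem L68734 : sm gc N8002 = N8002 := ded_31_1 (flp_j L68731) L47719 L68731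
theorem L68735 : sm ge N8002 = N8002 := ded_42_1 (flp_j L68731) L47720 L68731
theorem L68736 : sm gh N8002 = N8002 := ded_52_2 (flp_j L68731) L47721 L68731
theorem L68737 : sm gg N8002 = N8002 := ded_49_1 (flp_j L68731) (flp_g L47716) L33214 L47716 L68731
theorem L68738 : sm gi N5531 = N8003 := rfl
theorem L68743 : sm gg N8003 = N5532 := ded_51_1 (flp_i L47722) L47716 L68738
theorem L68745 : sm gh N5532 = N8004 := rfl
theorem L68750 : sm gf N8004 = N5533 := ded_47_1 (flp_h L47730) (flp_f L47727) L68745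
theorem L68754 : sm gd N5533 = N8005 := rfl
theorem L68760 : sm gf N5534 = N8006 := rfl
theorem L68762 : sm ga N8006 = N8006 := ded_14_1 (flp_f L68760) L47740 L68760
theorem L68763 : sm gb N8006 = N8006 := ded_22_1 (flp_f L68760) L47745 L68760
theorem L68764 : sm gc N8006 = N5535 := ded_29_1 (flp_f L47747) L47738 L68760
theorem L68766 : sm gd N8006 = N8006 := ded_35_1 (flp_f L68760) L47746 L68760
theorem L68767 : sm gj N8006 = N8006 := ded_46_2 (flp_f L68760) L47744 L68760
theorem L68768 : sm gg N8006 = N8006 := ded_45_2 (flp_f L68760) L47742 L33430 (flp_g L47742) L68760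
theorem L68769 : sm gh N5534 = N8007 := rfl
theorem L68771 : sm ga N8007 = N8007 := ded_17_1 (flp_h L68769) L47740 L68769
theorem L68772 : sm gb N8007 = N8007 := ded_25_1 (flp_h L68769) L47745 L68769
theorem L68773 : sm gc N8007 = N5536 := ded_32_1 (flp_h L47756) L47738 L68769
theorem L68775 : sm ge N8007 = N8007 := ded_43_1 (flp_h L68769) L47741 L68769
theorem L68776 : sm gg N8007 = N5568 := ded_50_1 (flp_h L48039) (flp_g L47742) L68769
theorem L68778 : sm gj N8007 = N8007 := ded_52_1 (flp_h L68769) L47744 L68769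
theorem L68779 : sm gi N5534 = N8008 := rfl
theorem L68790 : sm ge N5535 = N8009 := rfl
theorem L68792 : sm ga N8009 = N8009 := ded_13_1 (flp_e L68790) L47749 L68790
theorem L68793 : sm gb N8009 = N5541 := ded_21_1 (flp_e L47811) (flp_b L47750) L68790
theorem L68795 : sm gg N8009 = N8009 := ded_41_2 (flp_e L68790) L47755 L68790
theorem L68796 : sm gj N8009 = N8009 := ded_42_2 (flp_e L68790) L47754 L68790
theorem L68797 : sm gd N8009 = N8009 := ded_34_1 (flp_e L68790) L47752 L33249 (flp_d L47752) L68790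
theorem L68798 : sm gf N8009 = N8009 := ded_40_2 (flp_e L68790) (flp_f L47747) L33240 L47747 L68790
theorem L68799 : sm gh N5535 = N8010 := rfl
theorem L68801 : sm ga N8010 = N8010 := ded_17_1 (flp_h L68799) L47749 L68799
theorem L68802 : sm gb N8010 = N5542 := ded_25_1 (flp_h L47818) (flp_b L47750) L68799
theorem L68804 : sm gf N8010 = N5536 := ded_47_1 (flp_h L47756) L47747 L68799
theorem L68806 : sm gg N8010 = N8010 := ded_50_1 (flp_h L68799) L47755 L68799
theorem L68807 : sm gj N8010 = N8010 := ded_52_1 (flp_h L68799) L47754 L68799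
theorem L68808 : sm gd N8010 = N8010 := ded_38_1 (flp_h L68799) L47752 L33248 (flp_d L47752) L68799
theorem L68809 : sm gi N5535 = N8011 := rfl
theorem L68812 : sm gb N8011 = N5543 := ded_26_1 (flp_i L47826) (flp_b L47750) L68809
theorem L68814 : sm gd N8011 = N5538 := ded_39_1 (flp_i L47777) (flp_d L47752) L68809
theorem L68816 : sm gf N8011 = N5537 := ded_48_1 (flp_i L47766) L47747 L68809
theorem L68820 : sm gi N5536 = N8012 := rfl
theorem L68823 : sm gb N8012 = N5544 := ded_26_1 (flp_i L47835) (flp_b L47759) L68820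
theorem L68827 : sm gg N8012 = N5570 := ded_51_1 (flp_i L48060) (flp_g L47762) L68820
theorem L68830 : sm gh N5537 = N8013 := rfl
theorem L68833 : sm gb N8013 = N5545 := ded_25_1 (flp_h L47843) (flp_b L47769) L68830
theorem L68836 : sm gg N8013 = N5571 := ded_50_1 (flp_h L48070) (flp_g L47774) L68830
theorem L68839 : sm gh N5538 = N8014 := rfl
theorem L68842 : sm gb N8014 = N5546 := ded_25_1 (flp_h L47850) (flp_b L47780) L68839
theorem L68851 : sm gd N5539 = N8015 := rfl
theorem L68856 : sm gg N8015 = N5572 := ded_36_2 (flp_d L48079) (flp_g L47796) L68851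
theorem L68860 : sm gc N5540 = N8016 := rfl
theorem L68863 : sm gf N8016 = N8016 := ded_29_2 (flp_c L68860) L47805 L68860
theorem L68864 : sm gg N8016 = N5573 := ded_30_2 (flp_c L48088) (flp_g L47806) L68860
theorem L68869 : sm gd N8016 = N8016 := ded_27_2 (flp_c L68860) (flp_d L47800) L33267 L47800 L68860
theorem L68870 : sm ge N5540 = N8017 := rfl
theorem L68880 : sm gh N5541 = N8018 := rfl
theorem L68882 : sm gc N8018 = N8018 := ded_32_1 (flp_h L68880) L47813 L68880
theorem L68883 : sm ge N8018 = N5542 := ded_43_1 (flp_h L47818) L47811 L68880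
theorem L68885 : sm gf N8018 = N8018 := ded_47_1 (flp_h L68880) L47817 L68880
theorem L68886 : sm gg N8018 = N8018 := ded_50_1 (flp_h L68880) L47814 L68880
theorem L68887 : sm gj N8018 = N8018 := ded_52_1 (flp_h L68880) L47815 L68880
theorem L68888 : sm gi N5541 = N8019 := rfl
theorem L68890 : sm gc N8019 = N8019 := ded_33_1 (flp_i L68888) L47813 L68888
theorem L68891 : sm gd N8019 = N8019 := ded_39_1 (flp_i L68888) L47816 L68888
theorem L68892 : sm ge N8019 = N5543 := ded_44_1 (flp_i L47826) L47811 L68888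
theorem L68894 : sm gf N8019 = N8019 := ded_48_1 (flp_i L68888) L47817 L68888
theorem L68895 : sm gg N8019 = N8019 := ded_51_1 (flp_i L68888) L47814 L68888
theorem L68896 : sm gj N8019 = N8019 := ded_53_1 (flp_i L68888) L47815 L68888
theorem L68897 : sm gi N5542 = N8020 := rfl
theorem L68901 : sm gf N8020 = N5544 := ded_48_1 (flp_i L47835) (flp_f L47821) L68897
theorem L68905 : sm gh N5543 = N8021 := rfl
theorem L68912 : sm gh N5544 = N8022 := rfl
theorem L68916 : sm gg N8022 = N5575 := ded_50_1 (flp_h L48107) (flp_g L47840) L68912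
theorem L68919 : sm gi N8022 = N5545 := ded_54_2 (flp_h L47843) (flp_i L33288) L33280 L47835 L68912
theorem L68921 : sm gd N5545 = N8023 := rfl
theorem L68923 : sm gg N8023 = N5576 := ded_36_2 (flp_d L48116) (flp_g L47847) L68921
theorem L68926 : sm gh N8023 = N5547 := ded_38_2 (flp_d L47860) (flp_h L33306) (flp_d L33291) L47843 L68921
theorem L68928 : sm gd N5546 = N8024 := rfl
theorem L68930 : sm gf N8024 = N5547 := ded_35_2 (flp_d L47860) (flp_f L47855) L68928
theorem L68935 : sm gc N5547 = N8025 := rfl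
theorem L68937 : sm gg N8025 = N5577 := ded_30_2 (flp_c L48123) (flp_g L47862) L68935
theorem L68941 : sm gd N8025 = N5551 := ded_27_2 (flp_c L47892) (flp_d L33333) (flp_c L33308) L47860 L68935
theorem L68943 : sm ge N5547 = N8026 := rfl
theorem L68945 : sm gg N8026 = N5578 := ded_41_2 (flp_e L48131) (flp_g L47862) L68943
theorem L68949 : sm gd N8026 = N5549 := ded_34_1 (flp_e L47876) (flp_d L33316) (flp_e L33310) L47860 L68943
theorem L68951 : sm gb N5548 = N8027 := rfl
theorem L68953 : sm gd N8027 = N5553 := ded_20_2 (flp_b L47909) (flp_d L47874) L68951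
theorem L68955 : sm gf N8027 = N8027 := ded_22_2 (flp_b L68951) L47868 L68951
theorem L68956 : sm gg N8027 = N5579 := ded_23_2 (flp_b L48138) (flp_g L47869) L68951
theorem L68970 : sm gf N5549 = N8029 := rfl
theorem L68976 : sm gc N5550 = N8030 := rfl
theorem L68978 : sm gf N8030 = N5551 := ded_29_2 (flp_c L47892) (flp_f L47886) L68976
theorem L68984 : sm ge N5550 = N8031 := rfl
theorem L68986 : sm gb N8031 = N8031 := ded_21_1 (flp_e L68984) L47885 L68984
theorem L68987 : sm gg N8031 = N8031 := ded_41_2 (flp_e L68984) L47888 L68984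
theorem L68988 : sm gj N8031 = N8031 := ded_42_2 (flp_e L68984) L47889 L68984
theorem L68989 : sm gh N8031 = N8031 := ded_43_2 (flp_e L68984) L47891 L68984
theorem L68990 : sm gi N8031 = N8031 := ded_44_2 (flp_e L68984) L47890 L68984
theorem L68991 : sm gd N8031 = N8031 := ded_34_1 (flp_e L68984) (flp_d L47883) L33327 L47883 L68984
theorem L68992 : sm gb N5551 = N8032 := rfl
theorem L68999 : sm gc N8032 = N8032 := ded_19_2 (flp_b L68992) (flp_c L47892) L33335 L47892 L68992
theorem L69000 : sm ge N5551 = N8033 := rfl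
theorem L69002 : sm gc N8033 = N5552 := ded_28_1 (flp_e L47899) L47892 L69000
theorem L69004 : sm gg N8033 = N5583 := ded_41_2 (flp_e L48172) (flp_g L47894) L69000
theorem L69009 : sm gf N5552 = N8034 := rfl
theorem L69011 : sm gb N8034 = N8034 := ded_22_1 (flp_f L69009) L47901 L69009
theorem L69012 : sm gd N8034 = N5555 := ded_35_1 (flp_f L47929) (flp_d L47907) L69009
theorem L69014 : sm gj N8034 = N8034 := ded_46_2 (flp_f L69009) L47904 L69009
theorem L69015 : sm gh N8034 = N8034 := ded_47_2 (flp_f L69009) L47905 L69009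
theorem L69016 : sm gi N8034 = N8034 := ded_48_2 (flp_f L69009) L47906 L69009
theorem L69017 : sm ga N5553 = N8035 := rfl
theorem L69024 : sm gh N8035 = N5556 := ded_17_2 (flp_a L47937) (flp_h L47915) L69017
theorem L69027 : sm ge N5553 = N8036 := rfl
theorem L69029 : sm gb N8036 = N5554 := ded_21_1 (flp_e L47919) L47909 L69027
theorem L69031 : sm gc N8036 = N8036 := ded_28_1 (flp_e L69027) L47918 L69027
theorem L69032 : sm gg N8036 = N5586 := ded_41_2 (flp_e L48200) (flp_g L47912) L69027
theorem L69035 : sm gh N8036 = N5557 := ded_43_2 (flp_e L47947) (flp_h L47915) L69027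
theorem L69038 : sm gd N5554 = N8037 := rfl
theorem L69044 : sm gf N5554 = N8038 := rfl
theorem L69046 : sm gc N8038 = N5555 := ded_29_1 (flp_f L47929) (flp_c L47921) L69044
theorem L69049 : sm gh N8038 = N5559 := ded_47_2 (flp_f L47966) (flp_h L47926) L69044
theorem L69051 : sm gi N8038 = N8038 := ded_48_2 (flp_f L69044) L47928 L69044
theorem L69053 : sm gg N5555 = N8039 := rfl
theorem L69055 : sm gb N8039 = N8039 := ded_23_1 (flp_g L69053) L47931 L69053
theorem L69056 : sm ge N8039 = N8039 := ded_41_1 (flp_g L69053) L47936 L69053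
theorem L69057 : sm gh N8039 = N5560 := ded_50_2 (flp_g L47974) (flp_h L47933) L69053
theorem L69059 : sm gi N8039 = N8039 := ded_51_2 (flp_g L69053) L47935 L69053
theorem L69060 : sm gf N8039 = N5589 := ded_45_1 (flp_g L48226) (flp_f L33551) (flp_g L33353) L47929 L69053
theorem L69062 : sm ge N5556 = N8040 := rfl
theorem L69064 : sm ga N8040 = N5557 := ded_13_1 (flp_e L47947) L47937 L69062
theorem L69067 : sm gg N8040 = N5590 := ded_41_2 (flp_e L48234) (flp_g L47942) L69062
theorem L69070 : sm gi N8040 = N5561 := ded_44_2 (flp_e L47983) (flp_i L47945) L69062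
theorem L69072 : sm gd N5557 = N8041 := rfl
theorem L69074 : sm gb N8041 = N5558 := ded_20_1 (flp_d L47957) (flp_b L47949) L69072
theorem L69076 : sm gg N8041 = N5591 := ded_36_2 (flp_d L48243) (flp_g L47952) L69072
theorem L69079 : sm gi N8041 = N5562 := ded_39_2 (flp_d L47992) (flp_i L47955) L69072
theorem L69082 : sm gf N5557 = N8042 := rfl
theorem L69084 : sm gb N8042 = N5559 := ded_22_1 (flp_f L47966) (flp_b L47949) L69082
theorem L69088 : sm gi N8042 = N5563 := ded_48_2 (flp_f L48000) (flp_i L47955) L69082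
theorem L69091 : sm gf N5558 = N8043 := rfl
theorem L69094 : sm gd N8043 = N5559 := ded_35_1 (flp_f L47966) L47957 L69091
theorem L69097 : sm gi N8043 = N5564 := ded_48_2 (flp_f L48008) (flp_i L47962) L69091
theorem L69099 : sm gh N5558 = N8044 := rfl
theorem L69103 : sm gg N8044 = N5594 := ded_50_1 (flp_h L48272) (flp_g L47959) L69099
theorem L69106 : sm gg N5559 = N8045 := rfl
theorem L69108 : sm gc N8045 = N5560 := ded_30_1 (flp_g L47974) (flp_c L47968) L69106
theorem L69113 : sm gf N8045 = N5595 := ded_45_1 (flp_g L48278) (flp_f L33588) (flp_g L33373) L47966 L69106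
theorem L69115 : sm gj N5560 = N8046 := rfl
theorem L69120 : sm gf N8046 = N5596 := ded_46_1 (flp_j L48286) (flp_f L47981) L69115
theorem L69122 : sm gi N8046 = N5567 := ded_53_2 (flp_j L48030) (flp_i L47979) L69115
theorem L69125 : sm gd N5561 = N8047 := rfl
theorem L69127 : sm ga N8047 = N5562 := ded_12_1 (flp_d L47992) (flp_a L47985) L69125
theorem L69129 : sm gg N8047 = N5597 := ded_36_2 (flp_d L48296) (flp_g L47988) L69125
theorem L69133 : sm gf N5561 = N8048 := rfl
theorem L69135 : sm ga N8048 = N5563 := ded_14_1 (flp_f L48000) (flp_a L47985) L69133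
theorem L69141 : sm gc N5562 = N8049 := rfl
theorem L69143 : sm ge N8049 = N8049 := ded_28_2 (flp_c L69141) L47999 L69141
theorem L69144 : sm gg N8049 = N5599 := ded_30_2 (flp_c L48313) (flp_g L47996) L69141
theorem L69147 : sm gb N8049 = N8049 := ded_19_1 (flp_c L69141) L47994 L33409 (flp_b L47994) L69141
theorem L69148 : sm gd N8049 = N8049 := ded_27_2 (flp_c L69141) (flp_d L47992) L33399 L47992 L69141
theorem L69149 : sm gf N5562 = N8050 := rfl
theorem L69151 : sm gb N8050 = N5564 := ded_22_1 (flp_f L48008) (flp_b L47994) L69149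
theorem L69153 : sm gd N8050 = N5563 := ded_35_1 (flp_f L48000) L47992 L69149
theorem L69165 : sm gg N5563 = N8052 := rfl
theorem L69172 : sm gf N8052 = N5602 := ded_45_1 (flp_g L48336) (flp_f L33621) (flp_g L33400) L48000 L69165
theorem L69174 : sm ge N5564 = N8053 := rfl
theorem L69176 : sm gc N8053 = N8053 := ded_28_1 (flp_e L69174) L48010 L69174
theorem L69180 : sm gg N5564 = N8054 := rfl
theorem L69185 : sm gf N8054 = N5604 := ded_45_1 (flp_g L48352) (flp_f L33631) (flp_g L33406) L48008 L69180
theorem L69187 : sm gh N5564 = N8055 := rfl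
theorem L69194 : sm gi N5565 = N8056 := rfl
theorem L69199 : sm gg N8056 = N5606 := ded_51_1 (flp_i L48365) (flp_g L48018) L69194
theorem L69211 : sm gd N5568 = N8058 := rfl
theorem L69213 : sm ga N8058 = N8058 := ded_12_1 (flp_d L69211) L48041 L69211
theorem L69214 : sm gb N8058 = N8058 := ded_20_1 (flp_d L69211) L48042 L69211
theorem L69215 : sm gf N8058 = N8058 := ded_35_2 (flp_d L69211) L48046 L69211
theorem L69216 : sm gj N8058 = N5608 := ded_37_2 (flp_d L48381) (flp_j L48047) L69211
theorem L69218 : sm gc N8058 = N8058 := ded_27_1 (flp_d L69211) L48043 L33444 (flp_c L48043) L69211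
theorem L69219 : sm gh N8058 = N8058 := ded_38_2 (flp_d L69211) (flp_h L48039) L33434 L48039 L69211
theorem L69220 : sm gi N5568 = N8059 := rfl
theorem L69240 : sm gh N5570 = N8061 := rfl
theorem L69247 : sm gj N8061 = N5611 := ded_52_1 (flp_h L48407) (flp_j L48068) L69240
theorem L69249 : sm gi N8061 = N5571 := ded_54_2 (flp_h L48070) (flp_i L33445) L33435 L48060 L69240
theorem L69251 : sm gd N5571 = N8062 := rfl
theorem L69257 : sm gj N8062 = N5612 := ded_37_2 (flp_d L48417) (flp_j L48077) L69251
theorem L69259 : sm gh N8062 = N5572 := ded_38_2 (flp_d L48079) (flp_h L33456) (flp_d L33450) L48070 L69251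
theorem L69261 : sm gc N5572 = N8063 := rfl
theorem L69265 : sm gj N8063 = N5613 := ded_31_2 (flp_c L48426) (flp_j L48085) L69261
theorem L69268 : sm gd N8063 = N8063 := ded_27_2 (flp_c L69261) (flp_d L48079) L33461 L48079 L69261
theorem L69269 : sm ge N5572 = N8064 := rfl
theorem L69277 : sm gd N8064 = N5574 := ded_34_1 (flp_e L48098) (flp_d L33468) (flp_e L33462) L48079 L69269
theorem L69279 : sm gb N5573 = N8065 := rfl
theorem L69281 : sm gd N8065 = N8065 := ded_20_2 (flp_b L69279) L48097 L69279
theorem L69284 : sm gj N8065 = N5615 := ded_24_2 (flp_b L48442) (flp_j L48093) L69279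
theorem L69290 : sm ge N5573 = N8066 := rfl
theorem L69293 : sm gc N8066 = N5574 := ded_28_1 (flp_e L48098) L48088 L69290
theorem L69295 : sm gj N8066 = N5616 := ded_42_2 (flp_e L48452) (flp_j L48093) L69290
theorem L69310 : sm gd N5575 = N8068 := rfl
theorem L69313 : sm gj N8068 = N5618 := ded_37_2 (flp_d L48469) (flp_j L48112) L69310
theorem L69315 : sm gi N8068 = N5576 := ded_39_2 (flp_d L48116) (flp_i L48114) L69310
theorem L69318 : sm gc N5576 = N8069 := rfl
theorem L69321 : sm gj N8069 = N5619 := ded_31_2 (flp_c L48476) (flp_j L48119) L69318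
theorem L69323 : sm gh N8069 = N5577 := ded_32_2 (flp_c L48123) (flp_h L48121) L69318
theorem L69326 : sm ge N5576 = N8070 := rfl
theorem L69330 : sm gh N8070 = N5578 := ded_43_2 (flp_e L48131) (flp_h L48121) L69326
theorem L69333 : sm gb N5577 = N8071 := rfl
theorem L69338 : sm gj N8071 = N5621 := ded_24_2 (flp_b L48489) (flp_j L48126) L69333
theorem L69341 : sm ge N5577 = N8072 := rfl
theorem L69345 : sm gj N8072 = N5622 := ded_42_2 (flp_e L48496) (flp_j L48126) L69341
theorem L69348 : sm gf N5578 = N8073 := rfl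
theorem L69356 : sm ga N5579 = N8074 := rfl
theorem L69358 : sm gd N8074 = N5585 := ded_12_2 (flp_a L48190) (flp_d L48140) L69356
theorem L69360 : sm gf N8074 = N5671 := ded_14_2 (flp_a L48863) (flp_f L48142) L69356
theorem L69362 : sm gj N8074 = N5624 := ded_16_2 (flp_a L48508) (flp_j L48144) L69356
theorem L69366 : sm ge N5579 = N8075 := rfl
theorem L69370 : sm gj N8075 = N5625 := ded_42_2 (flp_e L48517) (flp_j L48144) L69366
theorem L69381 : sm gf N5580 = N8077 := rfl
theorem L69383 : sm gc N8077 = N5581 := ded_29_1 (flp_f L48156) (flp_c L48150) L69381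
theorem L69391 : sm gg N5581 = N8078 := rfl
theorem L69397 : sm ga N5582 = N8079 := rfl
theorem L69401 : sm gj N8079 = N5629 := ded_16_2 (flp_a L48545) (flp_j L48167) L69397
theorem L69405 : sm ge N5582 = N8080 := rfl
theorem L69407 : sm gb N8080 = N5583 := ded_21_1 (flp_e L48172) L48164 L69405
theorem L69410 : sm gj N8080 = N5630 := ded_42_2 (flp_e L48552) (flp_j L48167) L69405
theorem L69414 : sm gd N5583 = N8081 := rfl
theorem L69416 : sm gj N8081 = N5631 := ded_37_2 (flp_d L48560) (flp_j L48176) L69414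
theorem L69421 : sm gf N5583 = N8082 := rfl
theorem L69423 : sm gc N8082 = N5584 := ded_29_1 (flp_f L48180) (flp_c L48174) L69421
theorem L69425 : sm gj N8082 = N5632 := ded_46_2 (flp_f L48566) (flp_j L48176) L69421
theorem L69430 : sm gg N5584 = N8083 := rfl
theorem L69432 : sm gb N8083 = N8083 := ded_23_1 (flp_g L69430) L48182 L69430
theorem L69433 : sm gd N8083 = N5589 := ded_36_1 (flp_g L48226) (flp_d L48183) L69430
theorem L69435 : sm ge N8083 = N8083 := ded_41_1 (flp_g L69430) L48189 L69430
theorem L69436 : sm gh N8083 = N8083 := ded_50_2 (flp_g L69430) L48187 L69430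
theorem L69437 : sm gi N8083 = N8083 := ded_51_2 (flp_g L69430) L48188 L69430
theorem L69438 : sm ge N5585 = N8084 := rfl
theorem L69440 : sm ga N8084 = N5586 := ded_13_1 (flp_e L48200) L48190 L69438
theorem L69443 : sm gj N8084 = N5634 := ded_42_2 (flp_e L48582) (flp_j L48195) L69438
theorem L69445 : sm gh N8084 = N5590 := ded_43_2 (flp_e L48234) (flp_h L48197) L69438
theorem L69448 : sm gd N5586 = N8085 := rfl
theorem L69450 : sm gb N8085 = N5587 := ded_20_1 (flp_d L48210) (flp_b L48202) L69448
theorem L69452 : sm gj N8085 = N5635 := ded_37_2 (flp_d L48591) (flp_j L48205) L69448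
theorem L69455 : sm gf N5586 = N8086 := rfl
theorem L69457 : sm gb N8086 = N5588 := ded_22_1 (flp_f L48215) (flp_b L48202) L69455
theorem L69460 : sm gj N8086 = N5636 := ded_46_2 (flp_f L48597) (flp_j L48205) L69455
theorem L69462 : sm gh N8086 = N5592 := ded_47_2 (flp_f L48252) (flp_h L48207) L69455
theorem L69467 : sm gf N5587 = N8087 := rfl
theorem L69469 : sm gd N8087 = N5588 := ded_35_1 (flp_f L48215) L48210 L69467
theorem L69471 : sm gj N8087 = N5637 := ded_46_2 (flp_f L48607) (flp_j L48212) L69467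
theorem L69480 : sm gg N5588 = N8089 := rfl
theorem L69482 : sm gc N8089 = N5589 := ded_30_1 (flp_g L48226) (flp_c L48217) L69480
theorem L69486 : sm gh N8089 = N5595 := ded_50_2 (flp_g L48278) (flp_h L48221) L69480
theorem L69489 : sm gj N5589 = N8090 := rfl
theorem L69491 : sm gb N8090 = N8090 := ded_24_1 (flp_j L69489) L48228 L69489
theorem L69492 : sm ge N8090 = N5682 := ded_42_1 (flp_j L48957) (flp_e L48229) L69489
theorem L69494 : sm gh N8090 = N5596 := ded_52_2 (flp_j L48286) (flp_h L48231) L69489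
theorem L69496 : sm gi N8090 = N8090 := ded_53_2 (flp_j L69489) L48233 L69489
theorem L69497 : sm gg N8090 = N5640 := ded_49_1 (flp_j L48627) (flp_g L33824) (flp_j L33554) L48226 L69489
theorem L69499 : sm gd N5590 = N8091 := rfl
theorem L69503 : sm gj N8091 = N5641 := ded_37_2 (flp_d L48636) (flp_j L48239) L69499
theorem L69505 : sm gi N8091 = N5597 := ded_39_2 (flp_d L48296) (flp_i L48241) L69499
theorem L69508 : sm gf N5590 = N8092 := rfl
theorem L69517 : sm ge N8092 = N5684 := ded_40_1 (flp_f L48977) (flp_e L34051) (flp_f L33565) L48234 L69508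
theorem L69519 : sm gc N5591 = N8093 := rfl
theorem L69522 : sm gj N8093 = N5643 := ded_31_2 (flp_c L48653) (flp_j L48247) L69519
theorem L69524 : sm gi N8093 = N5599 := ded_33_2 (flp_c L48313) (flp_i L48249) L69519
theorem L69528 : sm gf N5591 = N8094 := rfl
theorem L69530 : sm gb N8094 = N5593 := ded_22_1 (flp_f L48263) (flp_b L48245) L69528
theorem L69532 : sm gd N8094 = N5592 := ded_35_1 (flp_f L48252) L48243 L69528
theorem L69534 : sm gj N8094 = N5644 := ded_46_2 (flp_f L48661) (flp_j L48247) L69528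
theorem L69536 : sm gi N8094 = N5600 := ded_48_2 (flp_f L48320) (flp_i L48249) L69528
theorem L69545 : sm gg N5592 = N8096 := rfl
theorem L69547 : sm gb N8096 = N5595 := ded_23_1 (flp_g L48278) (flp_b L48254) L69545
theorem L69549 : sm gc N8096 = N8096 := ded_30_1 (flp_g L69545) L48256 L69545
theorem L69552 : sm gi N8096 = N5602 := ded_51_2 (flp_g L48336) (flp_i L48259) L69545
theorem L69554 : sm ge N5593 = N8097 := rfl
theorem L69556 : sm gc N8097 = N8097 := ded_28_1 (flp_e L69554) L48265 L69554
theorem L69557 : sm gj N8097 = N5647 := ded_42_2 (flp_e L48685) (flp_j L48268) L69554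
theorem L69559 : sm gi N8097 = N5603 := ded_44_2 (flp_e L48344) (flp_i L48270) L69554
theorem L69561 : sm gd N8097 = N5689 := ded_34_1 (flp_e L49023) L34084 (flp_e L33596) (flp_d L48266) L69554
theorem L69564 : sm gg N5593 = N8098 := rfl
theorem L69567 : sm gd N8098 = N5595 := ded_36_1 (flp_g L48278) (flp_d L48266) L69564
theorem L69569 : sm gi N8098 = N5604 := ded_51_2 (flp_g L48352) (flp_i L48270) L69564
theorem L69571 : sm gh N5593 = N8099 := rfl
theorem L69586 : sm gj N5595 = N8101 := rfl
theorem L69588 : sm gc N8101 = N5596 := ded_31_1 (flp_j L48286) (flp_c L48280) L69586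
theorem L69592 : sm gi N8101 = N5607 := ded_53_2 (flp_j L48372) (flp_i L48284) L69586
theorem L69594 : sm gg N8101 = N5651 := ded_49_1 (flp_j L48713) (flp_g L33870) (flp_j L33592) L48278 L69586
theorem L69596 : sm gc N5597 = N8102 := rfl
theorem L69598 : sm ga N8102 = N5599 := ded_11_1 (flp_c L48313) (flp_a L48298) L69596
theorem L69601 : sm gj N8102 = N5652 := ded_31_2 (flp_c L48722) (flp_j L48300) L69596
theorem L69604 : sm gf N5597 = N8103 := rfl
theorem L69606 : sm ga N8103 = N5600 := ded_14_1 (flp_f L48320) (flp_a L48298) L69604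
theorem L69610 : sm gj N8103 = N5653 := ded_46_2 (flp_f L48729) (flp_j L48300) L69604
theorem L69612 : sm gh N5597 = N8104 := rfl
theorem L69614 : sm ga N8104 = N5601 := ded_17_1 (flp_h L48328) (flp_a L48298) L69612
theorem L69617 : sm gj N8104 = N5654 := ded_52_1 (flp_h L48735) (flp_j L48300) L69612
theorem L69628 : sm gf N5599 = N8106 := rfl
theorem L69631 : sm gc N8106 = N5600 := ded_29_1 (flp_f L48320) L48313 L69628
theorem L69634 : sm gj N8106 = N5656 := ded_46_2 (flp_f L48751) (flp_j L48316) L69628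
theorem L69636 : sm gh N5599 = N8107 := rfl
theorem L69639 : sm gc N8107 = N5601 := ded_32_1 (flp_h L48328) L48313 L69636
theorem L69642 : sm gj N8107 = N5657 := ded_52_1 (flp_h L48757) (flp_j L48316) L69636
theorem L69644 : sm ge N5600 = N8108 := rfl
theorem L69648 : sm gj N8108 = N5658 := ded_42_2 (flp_e L48764) (flp_j L48326) L69644
theorem L69650 : sm gd N8108 = N5700 := ded_34_1 (flp_e L49120) L34144 (flp_e L33629) (flp_d L48324) L69644
theorem L69653 : sm gg N5600 = N8109 := rfl
theorem L69655 : sm gb N8109 = N5604 := ded_23_1 (flp_g L48352) (flp_b L48322) L69653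
theorem L69657 : sm gd N8109 = N5602 := ded_36_1 (flp_g L48336) (flp_d L48324) L69653
theorem L69659 : sm gh N5600 = N8110 := rfl
theorem L69668 : sm gi N5601 = N8111 := rfl
theorem L69676 : sm gj N5602 = N8112 := rfl
theorem L69681 : sm ge N8112 = N5704 := ded_42_1 (flp_j L49152) (flp_e L48341) L69676
theorem L69684 : sm gg N8112 = N5662 := ded_49_1 (flp_j L48792) (flp_g L33921) (flp_j L33626) L48336 L69676
theorem L69686 : sm gg N5603 = N8113 := rfl
theorem L69689 : sm gd N8113 = N5705 := ded_36_1 (flp_g L49161) (flp_d L48349) L69686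
theorem L69693 : sm gh N5603 = N8114 := rfl
theorem L69696 : sm ge N8114 = N5605 := ded_43_1 (flp_h L48357) L48344 L69693
theorem L69699 : sm gj N8114 = N5664 := ded_52_1 (flp_h L48808) (flp_j L48347) L69693
theorem L69701 : sm gj N5604 = N8115 := rfl
theorem L69706 : sm gg N8115 = N5665 := ded_49_1 (flp_j L48814) (flp_g L33936) (flp_j L33636) L48352 L69701
theorem L69708 : sm gh N5604 = N8116 := rfl
theorem L69722 : sm ge N5608 = N8118 := rfl
theorem L69724 : sm ga N8118 = N8118 := ded_13_1 (flp_e L69722) L48383 L69722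
theorem L69725 : sm gb N8118 = N8118 := ded_21_1 (flp_e L69722) L48384 L69722
theorem L69726 : sm gc N8118 = N8118 := ded_28_1 (flp_e L69722) L48387 L69722
theorem L69727 : sm gg N8118 = N8118 := ded_41_2 (flp_e L69722) L48386 L69722
theorem L69728 : sm gh N8118 = N8118 := ded_43_2 (flp_e L69722) L48388 L69722
theorem L69729 : sm gd N8118 = N8118 := ded_34_1 (flp_e L69722) (flp_d L48381) L33667 L48381 L69722
theorem L69730 : sm gi N5608 = N8119 := rfl
theorem L69735 : sm gd N8119 = N5609 := ded_39_1 (flp_i L48389) L48381 L69730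
theorem L69739 : sm gh N5609 = N8120 := rfl
theorem L69748 : sm gi N8120 = N5610 := ded_54_2 (flp_h L48398) (flp_i L33670) L33661 L48389 L69739
theorem L69750 : sm gd N5610 = N8121 := rfl
theorem L69756 : sm gh N8121 = N8121 := ded_38_2 (flp_d L69750) (flp_h L48398) L33676 L48398 L69750
theorem L69757 : sm gd N5611 = N8122 := rfl
theorem L69760 : sm gb N8122 = N5618 := ded_20_1 (flp_d L48469) (flp_b L48410) L69757
theorem L69764 : sm gi N8122 = N5612 := ded_39_2 (flp_d L48417) (flp_i L48415) L69757
theorem L69767 : sm gc N5612 = N8123 := rfl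
theorem L69772 : sm gh N8123 = N5613 := ded_32_2 (flp_c L48426) (flp_h L48424) L69767
theorem L69783 : sm gb N5613 = N8125 := rfl
theorem L69791 : sm ge N5613 = N8126 := rfl
theorem L69794 : sm gc N8126 = N5614 := ded_28_1 (flp_e L48433) L48426 L69791
theorem L69818 : sm ge N5615 = N8129 := rfl
theorem L69822 : sm gc N8129 = N5625 := ded_28_1 (flp_e L48517) (flp_c L48450) L69818
theorem L69827 : sm gd N5616 = N8130 := rfl
theorem L69833 : sm gf N5616 = N8131 := rfl
theorem L69840 : sm ge N8131 = N5713 := ded_40_1 (flp_f L49230) (flp_e L34213) (flp_f L33708) L48452 L69833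
theorem L69852 : sm gc N5618 = N8133 := rfl
theorem L69857 : sm gi N8133 = N5619 := ded_33_2 (flp_c L48476) (flp_i L48473) L69852
theorem L69860 : sm ge N5618 = N8134 := rfl
theorem L69864 : sm gi N8134 = N5620 := ded_44_2 (flp_e L48483) (flp_i L48473) L69860
theorem L69867 : sm gb N5619 = N8135 := rfl
theorem L69872 : sm gh N8135 = N5621 := ded_25_2 (flp_b L48489) (flp_h L48480) L69867
theorem L69881 : sm gf N5620 = N8137 := rfl
theorem L69884 : sm gh N8137 = N5623 := ded_47_2 (flp_f L48502) (flp_h L48486) L69881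
theorem L69887 : sm ga N5621 = N8138 := rfl
theorem L69889 : sm gd N8138 = N5629 := ded_12_2 (flp_a L48545) (flp_d L48491) L69887
theorem L69894 : sm ge N5621 = N8139 := rfl
theorem L69900 : sm gd N5622 = N8140 := rfl
theorem L69906 : sm ge N8140 = N5631 := ded_34_2 (flp_d L48560) (flp_e L33778) (flp_d L33741) L48496 L69900
theorem L69914 : sm gg N5623 = N8142 := rfl
theorem L69916 : sm gd N8142 = N5628 := ded_36_1 (flp_g L48538) (flp_d L48504) L69914
theorem L69921 : sm ge N5624 = N8143 := rfl
theorem L69928 : sm gd N5625 = N8144 := rfl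
theorem L69930 : sm gb N8144 = N5626 := ded_20_1 (flp_d L48524) (flp_b L48519) L69928
theorem L69934 : sm ge N8144 = N5635 := ded_34_2 (flp_d L48591) (flp_e L33802) (flp_d L33751) L48517 L69928
theorem L69936 : sm gf N5625 = N8145 := rfl
theorem L69942 : sm ge N8145 = N5717 := ded_40_1 (flp_f L49264) (flp_e L34238) (flp_f L33753) L48517 L69936
theorem L69944 : sm gf N5626 = N8146 := rfl
theorem L69971 : sm ge N5629 = N8150 := rfl
theorem L69973 : sm ga N8150 = N5630 := ded_13_1 (flp_e L48552) L48545 L69971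
theorem L69979 : sm gd N5630 = N8151 := rfl
theorem L69981 : sm gb N8151 = N5631 := ded_20_1 (flp_d L48560) (flp_b L48554) L69979
theorem L69993 : sm gf N5631 = N8153 := rfl
theorem L69995 : sm gc N8153 = N5637 := ded_29_1 (flp_f L48607) (flp_c L48564) L69993
theorem L69997 : sm gd N8153 = N5632 := ded_35_1 (flp_f L48566) L48560 L69993
theorem L70006 : sm gg N5632 = N8155 := rfl
theorem L70008 : sm gc N8155 = N5633 := ded_30_1 (flp_g L48573) (flp_c L48568) L70006
theorem L70014 : sm gj N5633 = N8156 := rfl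
theorem L70016 : sm gb N8156 = N8156 := ded_24_1 (flp_j L70014) L48575 L70014
theorem L70017 : sm gd N8156 = N5640 := ded_37_1 (flp_j L48627) (flp_d L48576) L70014
theorem L70019 : sm ge N8156 = N8156 := ded_42_1 (flp_j L70014) L48578 L70014
theorem L70020 : sm gf N8156 = N8156 := ded_46_1 (flp_j L70014) L48581 L70014
theorem L70021 : sm gh N8156 = N8156 := ded_52_2 (flp_j L70014) L48579 L70014
theorem L70022 : sm gi N8156 = N8156 := ded_53_2 (flp_j L70014) L48580 L70014
theorem L70023 : sm gd N5634 = N8157 := rfl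
theorem L70025 : sm ga N8157 = N5635 := ded_12_1 (flp_d L48591) (flp_a L48584) L70023
theorem L70029 : sm gf N5634 = N8158 := rfl
theorem L70034 : sm gh N8158 = N5642 := ded_47_2 (flp_f L48644) (flp_h L48588) L70029
theorem L70037 : sm ge N8158 = N5723 := ded_40_1 (flp_f L49306) (flp_e L34267) (flp_f L33796) L48582 L70029
theorem L70039 : sm gc N5635 = N8159 := rfl
theorem L70044 : sm gf N5635 = N8160 := rfl
theorem L70048 : sm gd N8160 = N5636 := ded_35_1 (flp_f L48597) L48591 L70044
theorem L70058 : sm gg N5636 = N8162 := rfl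
theorem L70060 : sm gb N8162 = N5639 := ded_23_1 (flp_g L48617) (flp_b L48599) L70058
theorem L70065 : sm gh N8162 = N5646 := ded_50_2 (flp_g L48675) (flp_h L48602) L70058
theorem L70069 : sm ge N5637 = N8163 := rfl
theorem L70072 : sm gd N8163 = N5728 := ded_34_1 (flp_e L49346) L34295 (flp_e L33822) (flp_d L48609) L70069
theorem L70074 : sm gg N5637 = N8164 := rfl
theorem L70076 : sm gd N8164 = N5639 := ded_36_1 (flp_g L48617) (flp_d L48609) L70074
theorem L70080 : sm gh N5637 = N8165 := rfl
theorem L70092 : sm gj N5639 = N8167 := rfl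
theorem L70096 : sm ge N8167 = N5732 := ded_42_1 (flp_j L49373) (flp_e L48621) L70092
theorem L70099 : sm gh N8167 = N5651 := ded_52_2 (flp_j L48713) (flp_h L48623) L70092
theorem L70102 : sm gc N5641 = N8168 := rfl
theorem L70104 : sm ga N8168 = N5643 := ded_11_1 (flp_c L48653) (flp_a L48638) L70102
theorem L70108 : sm gi N8168 = N5652 := ded_33_2 (flp_c L48722) (flp_i L48641) L70102
theorem L70111 : sm gf N5641 = N8169 := rfl
theorem L70115 : sm gd N8169 = N5642 := ded_35_1 (flp_f L48644) L48636 L70111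
theorem L70117 : sm gi N8169 = N5653 := ded_48_2 (flp_f L48729) (flp_i L48641) L70111
theorem L70135 : sm gf N5643 = N8172 := rfl
theorem L70138 : sm gc N8172 = N5644 := ded_29_1 (flp_f L48661) L48653 L70135
theorem L70141 : sm gi N8172 = N5656 := ded_48_2 (flp_f L48751) (flp_i L48657) L70135
theorem L70143 : sm gh N5643 = N8173 := rfl
theorem L70150 : sm ge N5644 = N8174 := rfl
theorem L70152 : sm gb N8174 = N5647 := ded_21_1 (flp_e L48685) (flp_b L48663) L70150
theorem L70154 : sm gi N8174 = N5658 := ded_44_2 (flp_e L48764) (flp_i L48667) L70150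
theorem L70156 : sm gd N8174 = N5739 := ded_34_1 (flp_e L49434) L34353 (flp_e L33856) (flp_d L48665) L70150
theorem L70159 : sm gg N5644 = N8175 := rfl
theorem L70161 : sm gb N8175 = N5648 := ded_23_1 (flp_g L48693) (flp_b L48663) L70159
theorem L70165 : sm gi N8175 = N5659 := ded_51_2 (flp_g L48771) (flp_i L48667) L70159
theorem L70168 : sm gh N5644 = N8176 := rfl
theorem L70182 : sm gj N5646 = N8178 := rfl
theorem L70184 : sm gb N8178 = N5651 := ded_24_1 (flp_j L48713) (flp_b L48677) L70182
theorem L70192 : sm gg N5647 = N8179 := rfl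
theorem L70195 : sm gd N8179 = N5744 := ded_36_1 (flp_g L49475) (flp_d L48690) L70192
theorem L70197 : sm ge N8179 = N5648 := ded_41_1 (flp_g L48693) L48685 L70192
theorem L70199 : sm gi N8179 = N5663 := ded_51_2 (flp_g L48801) (flp_i L48688) L70192
theorem L70201 : sm gh N5647 = N8180 := rfl
theorem L70204 : sm ge N8180 = N5649 := ded_43_1 (flp_h L48701) L48685 L70201
theorem L70207 : sm gj N5648 = N8181 := rfl
theorem L70210 : sm gd N8181 = N5651 := ded_37_1 (flp_j L48713) (flp_d L48696) L70207
theorem L70213 : sm gi N8181 = N5665 := ded_53_2 (flp_j L48814) (flp_i L48698) L70207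
theorem L70215 : sm gh N5648 = N8182 := rfl
theorem L70228 : sm gb N5652 = N8184 := rfl
theorem L70233 : sm ga N8184 = N8184 := ded_10_1 (flp_b L70228) L48724 L33906 (flp_a L48724) L70228
theorem L70234 : sm gf N5652 = N8185 := rfl
theorem L70236 : sm ga N8185 = N5656 := ded_14_1 (flp_f L48751) (flp_a L48724) L70234
theorem L70238 : sm gc N8185 = N5653 := ded_29_1 (flp_f L48729) L48722 L70234
theorem L70241 : sm gh N5652 = N8186 := rfl
theorem L70243 : sm ga N8186 = N5657 := ded_17_1 (flp_h L48757) (flp_a L48724) L70241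
theorem L70249 : sm ge N5653 = N8187 := rfl
theorem L70251 : sm ga N8187 = N5658 := ded_13_1 (flp_e L48764) (flp_a L48731) L70249
theorem L70253 : sm gd N8187 = N5752 := ded_34_1 (flp_e L49540) L34425 (flp_e L33900) (flp_d L48733) L70249
theorem L70256 : sm gg N5653 = N8188 := rfl
theorem L70263 : sm gh N5653 = N8189 := rfl
theorem L70265 : sm ga N8189 = N5660 := ded_17_1 (flp_h L48778) (flp_a L48731) L70263
theorem L70267 : sm gf N8189 = N5654 := ded_47_1 (flp_h L48735) L48729 L70263
theorem L70270 : sm gi N5654 = N8190 := rfl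
theorem L70272 : sm ga N8190 = N5661 := ded_18_1 (flp_i L48785) (flp_a L48737) L70270
theorem L70286 : sm ge N5656 = N8192 := rfl
theorem L70288 : sm gb N8192 = N8192 := ded_21_1 (flp_e L70286) L48753 L70286
theorem L70289 : sm gc N8192 = N5658 := ded_28_1 (flp_e L48764) (flp_c L48754) L70286
theorem L70292 : sm gg N5656 = N8193 := rfl
theorem L70295 : sm gc N8193 = N5659 := ded_30_1 (flp_g L48771) (flp_c L48754) L70292
theorem L70297 : sm gd N8193 = N8193 := ded_36_1 (flp_g L70292) L48756 L70292
theorem L70299 : sm gh N5656 = N8194 := rfl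
theorem L70302 : sm gc N8194 = N5660 := ded_32_1 (flp_h L48778) (flp_c L48754) L70299
theorem L70304 : sm gf N8194 = N5657 := ded_47_1 (flp_h L48757) L48751 L70299
theorem L70306 : sm gd N5657 = N8195 := rfl
theorem L70308 : sm gb N8195 = N8195 := ded_20_1 (flp_d L70306) L48759 L70306
theorem L70309 : sm gg N8195 = N8195 := ded_36_2 (flp_d L70306) L48763 L70306
theorem L70310 : sm gc N8195 = N8195 := ded_27_1 (flp_d L70306) L48760 L33920 (flp_c L48760) L70306
theorem L70311 : sm gh N8195 = N8195 := ded_38_2 (flp_d L70306) (flp_h L48757) L33907 L48757 L70306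
theorem L70312 : sm gi N5657 = N8196 := rfl
theorem L70319 : sm gg N5658 = N8197 := rfl
theorem L70321 : sm gb N8197 = N5663 := ded_23_1 (flp_g L48801) (flp_b L48766) L70319
theorem L70323 : sm gd N8197 = N5762 := ded_36_1 (flp_g L49617) (flp_d L48768) L70319
theorem L70325 : sm ge N8197 = N5659 := ded_41_1 (flp_g L48771) L48764 L70319
theorem L70327 : sm gh N5658 = N8198 := rfl
theorem L70329 : sm gb N8198 = N5664 := ded_25_1 (flp_h L48808) (flp_b L48766) L70327
theorem L70331 : sm ge N8198 = N5660 := ded_43_1 (flp_h L48778) L48764 L70327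
theorem L70334 : sm gj N5659 = N8199 := rfl
theorem L70341 : sm gh N5659 = N8200 := rfl
theorem L70346 : sm gg N8200 = N5660 := ded_50_1 (flp_h L48778) L48771 L70341
theorem L70349 : sm gi N5660 = N8201 := rfl
theorem L70356 : sm gf N5663 = N8202 := rfl
theorem L70359 : sm gd N8202 = N5767 := ded_35_1 (flp_f L49654) (flp_d L48804) L70356
theorem L70363 : sm gj N5663 = N8203 := rfl
theorem L70366 : sm gd N8203 = N5768 := ded_37_1 (flp_j L49661) (flp_d L48804) L70363
theorem L70370 : sm gh N5663 = N8204 := rfl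
theorem L70373 : sm ge N8204 = N5666 := ded_43_1 (flp_h L48820) (flp_e L48806) L70370
theorem L70375 : sm gg N8204 = N5664 := ded_50_1 (flp_h L48808) L48801 L70370
theorem L70377 : sm gd N5664 = N8205 := rfl
theorem L70381 : sm gh N8205 = N5770 := ded_38_2 (flp_d L49675) (flp_h L34501) (flp_d L33933) L48808 L70377
theorem L70383 : sm gi N5664 = N8206 := rfl
theorem L70386 : sm ge N8206 = N5667 := ded_44_1 (flp_i L48827) (flp_e L48811) L70383
theorem L70389 : sm gh N5665 = N8207 := rfl
theorem L70403 : sm ga N5668 = N8209 := rfl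
theorem L70409 : sm gj N8209 = N5710 := ded_16_2 (flp_a L49202) (flp_j L48837) L70403
theorem L70414 : sm ge N5668 = N8210 := rfl
theorem L70416 : sm gb N8210 = N5669 := ded_21_1 (flp_e L48843) L48833 L70414
theorem L70418 : sm gc N8210 = N5672 := ded_28_1 (flp_e L48872) (flp_c L48841) L70414
theorem L70421 : sm gj N8210 = N5711 := ded_42_2 (flp_e L49212) (flp_j L48837) L70414
theorem L70425 : sm gd N5669 = N8211 := rfl
theorem L70428 : sm gg N8211 = N8211 := ded_36_2 (flp_d L70425) L48848 L70425
theorem L70429 : sm gj N8211 = N5712 := ded_37_2 (flp_d L49222) (flp_j L48849) L70425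
theorem L70434 : sm gf N5669 = N8212 := rfl
theorem L70452 : sm ge N5671 = N8214 := rfl
theorem L70456 : sm gg N8214 = N8214 := ded_41_2 (flp_e L70452) L48867 L70452
theorem L70457 : sm gj N8214 = N5715 := ded_42_2 (flp_e L49247) (flp_j L48868) L70452
theorem L70461 : sm gd N5672 = N8215 := rfl
theorem L70465 : sm gg N8215 = N8215 := ded_36_2 (flp_d L70461) L48876 L70461
theorem L70466 : sm gj N8215 = N5716 := ded_37_2 (flp_d L49255) (flp_j L48877) L70461
theorem L70469 : sm ge N8215 = N5677 := ded_34_2 (flp_d L48915) (flp_e L34016) (flp_d L33984) L48872 L70461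
theorem L70479 : sm gf N5673 = N8217 := rfl
theorem L70484 : sm gj N8217 = N5718 := ded_46_2 (flp_f L49270) (flp_j L48884) L70479
theorem L70487 : sm gh N5673 = N8218 := rfl
theorem L70490 : sm ge N8218 = N5680 := ded_43_1 (flp_h L48941) (flp_e L48888) L70487
theorem L70492 : sm gg N8218 = N8218 := ded_50_1 (flp_h L70487) L48883 L70487
theorem L70511 : sm gd N5676 = N8221 := rfl
theorem L70513 : sm ga N8221 = N5677 := ded_12_1 (flp_d L48915) (flp_a L48906) L70511
theorem L70516 : sm gj N8221 = N5722 := ded_37_2 (flp_d L49299) (flp_j L48910) L70511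
theorem L70519 : sm gf N5676 = N8222 := rfl
theorem L70526 : sm gh N8222 = N5684 := ded_47_2 (flp_f L48977) (flp_h L48912) L70519
theorem L70529 : sm gc N5677 = N8223 := rfl
theorem L70532 : sm gj N8223 = N5724 := ded_31_2 (flp_c L49314) (flp_j L48920) L70529
theorem L70537 : sm gf N5677 = N8224 := rfl
theorem L70541 : sm gd N8224 = N5678 := ded_35_1 (flp_f L48923) L48915 L70537
theorem L70543 : sm gj N8224 = N5725 := ded_46_2 (flp_f L49321) (flp_j L48920) L70537
theorem L70546 : sm gh N5677 = N8225 := rfl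
theorem L70551 : sm gj N8225 = N5726 := ded_52_1 (flp_h L49328) (flp_j L48920) L70546
theorem L70564 : sm ge N5679 = N8227 := rfl
theorem L70567 : sm gj N8227 = N5728 := ded_42_2 (flp_e L49346) (flp_j L48938) L70564
theorem L70570 : sm gg N5679 = N8228 := rfl
theorem L70577 : sm gh N5679 = N8229 := rfl
theorem L70580 : sm gf N8229 = N5680 := ded_47_1 (flp_h L48941) L48933 L70577
theorem L70582 : sm gj N8229 = N5730 := ded_52_1 (flp_h L49358) (flp_j L48938) L70577
theorem L70584 : sm gd N8229 = N5691 := ded_38_1 (flp_h L49041) L34084 (flp_h L34040) (flp_d L48936) L70577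
theorem L70586 : sm gi N5680 = N8230 := rfl
theorem L70595 : sm gj N5681 = N8231 := rfl
theorem L70600 : sm gh N8231 = N5693 := ded_52_2 (flp_j L49059) (flp_h L48953) L70595
theorem L70603 : sm gg N8231 = N5732 := ded_49_1 (flp_j L49373) (flp_g L34305) (flp_j L34038) L48949 L70595
theorem L70605 : sm gc N5683 = N8232 := rfl
theorem L70607 : sm ga N8232 = N5685 := ded_11_1 (flp_c L48986) (flp_a L48969) L70605
theorem L70611 : sm gj N8232 = N5733 := ded_31_2 (flp_c L49382) (flp_j L48972) L70605
theorem L70613 : sm gi N8232 = N5694 := ded_33_2 (flp_c L49068) (flp_i L48974) L70605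
theorem L70616 : sm gf N5683 = N8233 := rfl
theorem L70618 : sm ga N8233 = N5686 := ded_14_1 (flp_f L48997) (flp_a L48969) L70616
theorem L70620 : sm gd N8233 = N5684 := ded_35_1 (flp_f L48977) L48967 L70616
theorem L70622 : sm gj N8233 = N5734 := ded_46_2 (flp_f L49392) (flp_j L48972) L70616
theorem L70624 : sm gi N8233 = N5695 := ded_48_2 (flp_f L49077) (flp_i L48974) L70616
theorem L70634 : sm gg N5684 = N8235 := rfl
theorem L70639 : sm gi N8235 = N5697 := ded_51_2 (flp_g L49094) (flp_i L48984) L70634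
theorem L70642 : sm gf N5685 = N8236 := rfl
theorem L70644 : sm gb N8236 = N5872 := ded_22_1 (flp_f L50493) (flp_b L48994) L70642
theorem L70646 : sm gc N8236 = N5686 := ded_29_1 (flp_f L48997) L48986 L70642
theorem L70649 : sm gj N8236 = N5737 := ded_46_2 (flp_f L49416) (flp_j L48990) L70642
theorem L70651 : sm gi N8236 = N5698 := ded_48_2 (flp_f L49101) (flp_i L48992) L70642
theorem L70653 : sm gh N5685 = N8237 := rfl
theorem L70655 : sm gb N8237 = N5873 := ded_25_1 (flp_h L50502) (flp_b L48994) L70653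
theorem L70661 : sm gj N8237 = N5738 := ded_52_1 (flp_h L49425) (flp_j L48990) L70653
theorem L70663 : sm ge N5686 = N8238 := rfl
theorem L70665 : sm gb N8238 = N5689 := ded_21_1 (flp_e L49023) (flp_b L48999) L70663
theorem L70669 : sm gi N8238 = N5700 := ded_44_2 (flp_e L49120) (flp_i L49005) L70663
theorem L70672 : sm gg N5686 = N8239 := rfl
theorem L70674 : sm gb N8239 = N5690 := ded_23_1 (flp_g L49032) (flp_b L48999) L70672
theorem L70676 : sm gd N8239 = N5688 := ded_36_1 (flp_g L49015) (flp_d L49001) L70672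
theorem L70678 : sm gi N8239 = N5701 := ded_51_2 (flp_g L49127) (flp_i L49005) L70672
theorem L70681 : sm gh N5686 = N8240 := rfl
theorem L70683 : sm gb N8240 = N5691 := ded_25_1 (flp_h L49041) (flp_b L48999) L70681
theorem L70687 : sm gj N8240 = N5741 := ded_52_1 (flp_h L49451) (flp_j L49003) L70681
theorem L70709 : sm gg N5689 = N8243 := rfl
theorem L70711 : sm gc N8243 = N5879 := ded_30_1 (flp_g L50561) (flp_c L49025) L70709
theorem L70713 : sm ge N8243 = N5690 := ded_41_1 (flp_g L49032) L49023 L70709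
theorem L70715 : sm gi N8243 = N5705 := ded_51_2 (flp_g L49161) (flp_i L49029) L70709
theorem L70717 : sm gh N5689 = N8244 := rfl
theorem L70719 : sm gc N8244 = N5880 := ded_32_1 (flp_h L50568) (flp_c L49025) L70717
theorem L70721 : sm ge N8244 = N5691 := ded_43_1 (flp_h L49041) L49023 L70717
theorem L70724 : sm gj N8244 = N5745 := ded_52_1 (flp_h L49483) (flp_j L49027) L70717
theorem L70726 : sm gj N5690 = N8245 := rfl
theorem L70737 : sm gh N5690 = N8246 := rfl
theorem L70739 : sm gc N8246 = N5882 := ded_32_1 (flp_h L50584) (flp_c L49034) L70737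
theorem L70744 : sm gi N5691 = N8247 := rfl
theorem L70754 : sm gb N5694 = N8248 := rfl
theorem L70759 : sm gj N8248 = N5749 := ded_24_2 (flp_b L49516) (flp_j L49074) L70754
theorem L70761 : sm ga N8248 = N5884 := ded_10_1 (flp_b L50599) L35131 (flp_b L34137) (flp_a L49070) L70754
theorem L70763 : sm gf N5694 = N8249 := rfl
theorem L70765 : sm ga N8249 = N5698 := ded_14_1 (flp_f L49101) (flp_a L49070) L70763
theorem L70770 : sm gj N8249 = N5750 := ded_46_2 (flp_f L49524) (flp_j L49074) L70763
theorem L70772 : sm gh N5694 = N8250 := rfl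
theorem L70774 : sm ga N8250 = N5699 := ded_17_1 (flp_h L49110) (flp_a L49070) L70772
theorem L70780 : sm gj N8250 = N5751 := ded_52_1 (flp_h L49531) (flp_j L49074) L70772
theorem L70782 : sm ge N5695 = N8251 := rfl
theorem L70784 : sm ga N8251 = N5700 := ded_13_1 (flp_e L49120) (flp_a L49079) L70782
theorem L70786 : sm gj N8251 = N5752 := ded_42_2 (flp_e L49540) (flp_j L49083) L70782
theorem L70789 : sm gg N5695 = N8252 := rfl
theorem L70791 : sm ga N8252 = N5701 := ded_15_1 (flp_g L49127) (flp_a L49079) L70789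
theorem L70796 : sm gh N5695 = N8253 := rfl
theorem L70800 : sm gf N8253 = N5696 := ded_47_1 (flp_h L49085) L49077 L70796
theorem L70802 : sm gj N8253 = N5754 := ded_52_1 (flp_h L49553) (flp_j L49083) L70796
theorem L70814 : sm gj N5697 = N8255 := rfl
theorem L70821 : sm gg N8255 = N5756 := ded_49_1 (flp_j L49568) (flp_g L34435) (flp_j L34128) L49094 L70814
theorem L70823 : sm ge N5698 = N8256 := rfl
theorem L70825 : sm gb N8256 = N5892 := ded_21_1 (flp_e L50671) (flp_b L49103) L70823
theorem L70827 : sm gc N8256 = N5700 := ded_28_1 (flp_e L49120) (flp_c L49105) L70823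
theorem L70829 : sm gj N8256 = N5757 := ded_42_2 (flp_e L49576) (flp_j L49108) L70823
theorem L70832 : sm gg N5698 = N8257 := rfl
theorem L70834 : sm gb N8257 = N5893 := ded_23_1 (flp_g L50678) (flp_b L49103) L70832
theorem L70836 : sm gc N8257 = N5701 := ded_30_1 (flp_g L49127) (flp_c L49105) L70832
theorem L70840 : sm gh N5698 = N8258 := rfl
theorem L70842 : sm gb N8258 = N5894 := ded_25_1 (flp_h L50684) (flp_b L49103) L70840
theorem L70844 : sm gc N8258 = N5702 := ded_32_1 (flp_h L49134) (flp_c L49105) L70840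
theorem L70869 : sm gg N5700 = N8261 := rfl
theorem L70871 : sm gb N8261 = N5705 := ded_23_1 (flp_g L49161) (flp_b L49122) L70869
theorem L70873 : sm ge N8261 = N5701 := ded_41_1 (flp_g L49127) L49120 L70869
theorem L70875 : sm gh N5700 = N8262 := rfl
theorem L70882 : sm gj N8262 = N5763 := ded_52_1 (flp_h L49623) (flp_j L49124) L70875
theorem L70884 : sm gj N5701 = N8263 := rfl
theorem L70886 : sm gb N8263 = N5707 := ded_24_1 (flp_j L49176) (flp_b L49129) L70884
theorem L70893 : sm gh N5701 = N8264 := rfl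
theorem L70898 : sm gg N8264 = N5702 := ded_50_1 (flp_h L49134) L49127 L70893
theorem L70901 : sm gi N5702 = N8265 := rfl
theorem L70903 : sm gb N8265 = N5709 := ded_26_1 (flp_i L49193) (flp_b L49136) L70901
theorem L70906 : sm gf N8265 = N5703 := ded_48_1 (flp_i L49143) (flp_f L49138) L70901
theorem L70908 : sm gj N8265 = N5766 := ded_53_1 (flp_i L49647) (flp_j L49140) L70901
theorem L70910 : sm gf N5705 = N8266 := rfl
theorem L70912 : sm gc N8266 = N5902 := ded_29_1 (flp_f L50752) (flp_c L49163) L70910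
theorem L70916 : sm gj N5705 = N8267 := rfl
theorem L70920 : sm ge N8267 = N5707 := ded_42_1 (flp_j L49176) (flp_e L49165) L70916
theorem L70922 : sm gg N8267 = N5768 := ded_49_1 (flp_j L49661) (flp_g L34495) (flp_j L34168) L49161 L70916
theorem L70924 : sm gh N5705 = N8268 := rfl
theorem L70926 : sm gc N8268 = N5904 := ded_32_1 (flp_h L50764) (flp_c L49163) L70924
theorem L70930 : sm gg N8268 = N5706 := ded_50_1 (flp_h L49167) L49161 L70924
theorem L70932 : sm gd N5706 = N8269 := rfl
theorem L70935 : sm gj N8269 = N5770 := ded_37_2 (flp_d L49675) (flp_j L49174) L70932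
theorem L70938 : sm gi N5706 = N8270 := rfl
theorem L70940 : sm gc N8270 = N5906 := ded_33_1 (flp_i L50778) (flp_c L49169) L70938
theorem L70942 : sm ge N8270 = N5709 := ded_44_1 (flp_i L49193) (flp_e L49171) L70938
theorem L70945 : sm gj N8270 = N5771 := ded_53_1 (flp_i L49679) (flp_j L49174) L70938
theorem L70947 : sm gh N5707 = N8271 := rfl
theorem L70965 : sm ge N5710 = N8273 := rfl
theorem L70967 : sm ga N8273 = N5711 := ded_13_1 (flp_e L49212) L49202 L70965
theorem L70972 : sm gg N8273 = N5774 := ded_41_2 (flp_e L49704) (flp_g L49207) L70965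
theorem L70976 : sm gd N5711 = N8274 := rfl
theorem L70980 : sm gg N8274 = N5775 := ded_36_2 (flp_d L49714) (flp_g L49218) L70976
theorem L70984 : sm gf N5711 = N8275 := rfl
theorem L70992 : sm gf N5712 = N8276 := rfl
theorem L70996 : sm gd N8276 = N5713 := ded_35_1 (flp_f L49230) L49222 L70992
theorem L70999 : sm gh N5712 = N8277 := rfl
theorem L71004 : sm gg N8277 = N5778 := ded_50_1 (flp_h L49739) (flp_g L49225) L70999
theorem L71026 : sm gd N5715 = N8280 := rfl
theorem L71030 : sm gg N8280 = N5781 := ded_36_2 (flp_d L49764) (flp_g L49251) L71026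
theorem L71035 : sm gf N5715 = N8281 := rfl
theorem L71041 : sm gc N5716 = N8282 := rfl
theorem L71045 : sm gg N8282 = N5783 := ded_30_2 (flp_c L49780) (flp_g L49259) L71041
theorem L71049 : sm gf N5716 = N8283 := rfl
theorem L71051 : sm gb N8283 = N5718 := ded_22_1 (flp_f L49270) (flp_b L49257) L71049
theorem L71053 : sm gd N8283 = N5717 := ded_35_1 (flp_f L49264) L49255 L71049
theorem L71073 : sm ge N5718 = N8286 := rfl
theorem L71079 : sm gg N5718 = N8287 := rfl
theorem L71085 : sm gf N8287 = N5788 := ded_45_1 (flp_g L49818) (flp_f L34599) (flp_g L34248) L49270 L71079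
theorem L71110 : sm gc N5722 = N8291 := rfl
theorem L71114 : sm gg N8291 = N5792 := ded_30_2 (flp_c L49847) (flp_g L49303) L71110
theorem L71118 : sm gf N5722 = N8292 := rfl
theorem L71122 : sm gd N8292 = N5723 := ded_35_1 (flp_f L49306) L49299 L71118
theorem L71133 : sm gg N5723 = N8294 := rfl
theorem L71138 : sm gh N8294 = N5736 := ded_50_2 (flp_g L49407) (flp_h L49311) L71133
theorem L71143 : sm gf N5724 = N8295 := rfl
theorem L71146 : sm gc N8295 = N5725 := ded_29_1 (flp_f L49321) L49314 L71143
theorem L71148 : sm gd N8295 = N8295 := ded_35_1 (flp_f L71143) L49320 L71143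
theorem L71150 : sm gh N5724 = N8296 := rfl
theorem L71153 : sm gc N8296 = N5726 := ded_32_1 (flp_h L49328) L49314 L71150
theorem L71155 : sm gg N8296 = N5797 := ded_50_1 (flp_h L49886) (flp_g L49316) L71150
theorem L71157 : sm ge N5725 = N8297 := rfl
theorem L71162 : sm gg N5725 = N8298 := rfl
theorem L71166 : sm gd N8298 = N5727 := ded_36_1 (flp_g L49336) (flp_d L49325) L71162
theorem L71169 : sm gf N8298 = N5799 := ded_45_1 (flp_g L49899) (flp_f L34649) (flp_g L34281) L49321 L71162
theorem L71179 : sm gi N5726 = N8300 := rfl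
theorem L71185 : sm gg N8300 = N5801 := ded_51_1 (flp_i L49915) (flp_g L49332) L71179
theorem L71198 : sm gg N5728 = N8302 := rfl
theorem L71204 : sm gh N5728 = N8303 := rfl
theorem L71209 : sm gj N5729 = N8304 := rfl
theorem L71212 : sm gd N8304 = N5732 := ded_37_1 (flp_j L49373) (flp_d L49353) L71209
theorem L71226 : sm gi N5730 = N8306 := rfl
theorem L71229 : sm gd N8306 = N5748 := ded_39_1 (flp_i L49508) (flp_d L49363) L71226
theorem L71234 : sm gb N5733 = N8307 := rfl
theorem L71238 : sm gg N8307 = N5808 := ded_23_2 (flp_b L49969) (flp_g L49387) L71234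
theorem L71240 : sm gi N8307 = N5749 := ded_26_2 (flp_b L49516) (flp_i L49389) L71234
theorem L71244 : sm gf N5733 = N8308 := rfl
theorem L71251 : sm gi N8308 = N5750 := ded_48_2 (flp_f L49524) (flp_i L49389) L71244
theorem L71253 : sm gh N5733 = N8309 := rfl
theorem L71260 : sm gg N8309 = N5810 := ded_50_1 (flp_h L49988) (flp_g L49387) L71253
theorem L71262 : sm ge N5734 = N8310 := rfl
theorem L71264 : sm ga N8310 = N5739 := ded_13_1 (flp_e L49434) (flp_a L49394) L71262
theorem L71266 : sm gi N8310 = N5752 := ded_44_2 (flp_e L49540) (flp_i L49398) L71262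
theorem L71269 : sm gg N5734 = N8311 := rfl
theorem L71273 : sm gd N8311 = N5736 := ded_36_1 (flp_g L49407) (flp_d L49396) L71269
theorem L71279 : sm gh N5734 = N8312 := rfl
theorem L71283 : sm gf N8312 = N5735 := ded_47_1 (flp_h L49400) L49392 L71279
theorem L71285 : sm gi N5735 = N8313 := rfl
theorem L71294 : sm gj N5736 = N8314 := rfl
theorem L71303 : sm ge N5737 = N8315 := rfl
theorem L71305 : sm gb N8315 = N5917 := ded_21_1 (flp_e L50873) (flp_b L49418) L71303
theorem L71307 : sm gc N8315 = N5739 := ded_28_1 (flp_e L49434) (flp_c L49420) L71303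
theorem L71309 : sm gi N8315 = N5757 := ded_44_2 (flp_e L49576) (flp_i L49423) L71303
theorem L71312 : sm gg N5737 = N8316 := rfl
theorem L71314 : sm gb N8316 = N5918 := ded_23_1 (flp_g L50880) (flp_b L49418) L71312
theorem L71316 : sm gc N8316 = N5740 := ded_30_1 (flp_g L49441) (flp_c L49420) L71312
theorem L71319 : sm gi N8316 = N5758 := ded_51_2 (flp_g L49583) (flp_i L49423) L71312
theorem L71331 : sm gd N5738 = N8318 := rfl
theorem L71335 : sm gg N8318 = N5819 := ded_36_2 (flp_d L50065) (flp_g L49432) L71331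
theorem L71349 : sm gg N5739 = N8320 := rfl
theorem L71351 : sm gb N8320 = N5744 := ded_23_1 (flp_g L49475) (flp_b L49436) L71349
theorem L71353 : sm ge N8320 = N5740 := ded_41_1 (flp_g L49441) L49434 L71349
theorem L71355 : sm gi N8320 = N5762 := ded_51_2 (flp_g L49617) (flp_i L49438) L71349
theorem L71364 : sm gj N5740 = N8322 := rfl
theorem L71368 : sm gd N8322 = N5743 := ded_37_1 (flp_j L49466) (flp_d L49445) L71364
theorem L71370 : sm gf N8322 = N5823 := ded_46_1 (flp_j L50098) (flp_f L49449) L71364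
theorem L71374 : sm gh N5740 = N8323 := rfl
theorem L71376 : sm gb N8323 = N5747 := ded_25_1 (flp_h L49500) (flp_b L49443) L71374
theorem L71378 : sm gf N8323 = N5824 := ded_47_1 (flp_h L50107) (flp_f L49449) L71374
theorem L71382 : sm gi N5741 = N8324 := rfl
theorem L71390 : sm gf N5744 = N8325 := rfl
theorem L71392 : sm gc N8325 = N5927 := ded_29_1 (flp_f L50954) (flp_c L49477) L71390
theorem L71394 : sm gi N8325 = N5767 := ded_48_2 (flp_f L49654) (flp_i L49481) L71390
theorem L71396 : sm ge N8325 = N5826 := ded_40_1 (flp_f L50122) L34805 (flp_f L34388) (flp_e L49479) L71390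
theorem L71399 : sm gj N5744 = N8326 := rfl
theorem L71401 : sm gc N8326 = N5928 := ded_31_1 (flp_j L50962) (flp_c L49477) L71399
theorem L71403 : sm ge N8326 = N5746 := ded_42_1 (flp_j L49490) (flp_e L49479) L71399
theorem L71405 : sm gi N8326 = N5768 := ded_53_2 (flp_j L49661) (flp_i L49481) L71399
theorem L71407 : sm gh N5744 = N8327 := rfl
theorem L71409 : sm gc N8327 = N5929 := ded_32_1 (flp_h L50969) (flp_c L49477) L71407
theorem L71415 : sm gd N5745 = N8328 := rfl
theorem L71418 : sm gi N5745 = N8329 := rfl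
theorem L71420 : sm gc N8329 = N5931 := ded_33_1 (flp_i L50980) (flp_c L49485) L71418
theorem L71427 : sm gh N5746 = N8330 := rfl
theorem L71433 : sm gj N8330 = N5747 := ded_52_1 (flp_h L49500) L49490 L71427
theorem L71435 : sm gi N5747 = N8331 := rfl
theorem L71445 : sm gf N5749 = N8332 := rfl

end Cfsg.Agent.Helper28.FicA
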